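import Cfsg.Statements.S1388
import Cfsg.Agent.Lib.OddOrder.FittingHall

set_option autoImplicit false
open Cfsg

namespace Cfsg.Agent.S1388

/-- Let M be a subgroup of a finite group G with type-P data (W₁, U, W₂) and H = M_F. Then the derived subgroup of U centralizes H, and if U ≠ 1 then U does not centralize H. -/
theorem result {G : Type*} [Group G] [Finite G] (M W₁ U W₂ : Subgroup G) (hP : Cfsg.IsTypePWith M W₁ U W₂) :
    ⁅U, U⁆ ≤ Subgroup.centralizer (Cfsg.fittingHallOf M : Set G) ∧ (U ≠ ⊥ → ¬ U ≤ Subgroup.centralizer (Cfsg.fittingHallOf M : Set G)) := by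
  have key := CfsgLib.OddOrder.typeP_inf_fittingOf hP
  refine ⟨?_, fun hU hcon => hU ?_⟩
  · have h1 : ⁅U, U⁆ ≤ U ⊓ Cfsg.fittingOf M :=
      le_inf (Subgroup.commutator_le_self U)
        (hP.fitting_eq ▸ (Subgroup.commutator_mono hP.U_compl.2.1 hP.U_compl.2.1).trans hP.derived_two_le)
    exact (h1.trans key.le).trans inf_le_right
  · -- otherwise `M'` would be nilpotent, hence contained in `M_F`
    set H := Cfsg.fittingHallOf M with hH
    have hUF : U ≤ Cfsg.fittingOf M := fun u hu => by
      have h1 : u ∈ U ⊓ Cfsg.fittingOf M := key.symm ▸ ⟨hu, hcon hu⟩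
      exact h1.2
    have hM' : ⁅M, M⁆ ≤ Cfsg.fittingOf M := fun m hm => by
      obtain ⟨h, hh, u, hu, rfl⟩ := hP.U_compl.2.2.2 m hm
      exact mul_mem (CfsgLib.OddOrder.fittingHallOf_le_fittingOf M hh) (hUF hu)
    have hn : Group.IsNilpotent ↥(⁅M, M⁆ : Subgroup G) :=
      CfsgLib.Base.isNilpotent_of_le hM' (CfsgLib.OddOrder.isNilpotent_fittingOf M)
    haveI : Group.IsNilpotent ↥(commutator ↥M) := by
      have e := Subgroup.equivMapOfInjective (commutator ↥M) M.subtype M.subtype_injective
      rw [Subgroup.map_subtype_commutator] at e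
      exact Group.nilpotent_of_mulEquiv e.symm
    have hcard : Nat.card W₁ = (commutator ↥M).index := by
      have hc : Subgroup.IsComplement' (commutator ↥M) (W₁.subgroupOf M) := by
        refine Subgroup.isComplement'_of_disjoint_and_mul_eq_univ ?_ ?_
        · rw [disjoint_iff, Subgroup.eq_bot_iff_forall]
          intro x hx
          have : (x : G) ∈ ⁅M, M⁆ ⊓ W₁ :=
            ⟨Subgroup.map_subtype_commutator M ▸ Subgroup.mem_map_of_mem _ hx.1, hx.2⟩
          rw [hP.W₁_compl.2.2.1, Subgroup.mem_bot] at this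
          exact Subtype.ext this
        · refine Set.eq_univ_of_forall fun x => ?_
          obtain ⟨a, ha, b, hb, hab⟩ := hP.W₁_compl.2.2.2 x x.2
          obtain ⟨a', ha', rfl⟩ : ∃ a' ∈ commutator ↥M, (a' : G) = a := by
            rw [← Subgroup.map_subtype_commutator] at ha
            exact ha
          exact ⟨a', ha', ⟨b, hP.W₁_compl.2.1 hb⟩, hb, Subtype.ext hab.symm⟩
      rw [hc.symm.index_eq_card]
      exact (Nat.card_congr (Subgroup.subgroupOfEquivOfLe hP.W₁_compl.2.1).toEquiv).symm
    have hcop : (Nat.card ↥(commutator ↥M)).Coprime (commutator ↥M).index := by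
      have h1 := hP.W₁_hall
      have h2 : W₁.relIndex M = Nat.card ↥(commutator ↥M) := by
        have h3 := Subgroup.relIndex_mul_relIndex ⊥ W₁ M bot_le hP.W₁_compl.2.1
        rw [Subgroup.relIndex_bot_left, Subgroup.relIndex_bot_left, hcard, mul_comm] at h3
        have h4 := (commutator ↥M).card_mul_index
        rw [← h3] at h4
        exact (Nat.eq_of_mul_eq_mul_right (Nat.pos_of_ne_zero Subgroup.index_ne_zero_of_finite) h4).symm
      rw [h2, hcard] at h1
      exact h1.symm
    have hle : ⁅M, M⁆ ≤ H := by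
      rw [← Subgroup.map_subtype_commutator]
      exact Subgroup.map_mono (CfsgLib.OddOrder.le_fittingHall inferInstance hcop)
    rw [← hP.U_compl.2.2.1]
    exact (inf_eq_right.mpr (hP.U_compl.2.1.trans hle)).symm

end Cfsg.Agent.S1388
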