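import Cfsg.Statements.S0936
import Cfsg.Agent.Lib.BlockOrth.Induced

set_option autoImplicit false
open Cfsg CfsgLib.BlockOrth

namespace Cfsg.Agent.S0936

/-- Brauer's Third Main Theorem. Let H be a subgroup of the finite group G and b a block of H (relative to a maximal ideal M of the algebraic integers containing the prime p) whose induced block in G is defined. Then b induces the principal block of G if and only if b is the principal block of H. -/
theorem result {G : Type*} [Group G] [Finite G] (p : ℕ) [Fact p.Prime] (M : Ideal Cfsg.AlgInt) (hM : Cfsg.IsPModular p M) (H : Subgroup G) (b : Set (Cfsg.IrrCharacter H)) (hdef : Cfsg.InducedBlockDefined M H b) : Cfsg.IsInducedBlock M H b (Cfsg.principalBlock M G) ↔ b = Cfsg.principalBlock M H := by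
  classical
  haveI := Fintype.ofFinite G
  haveI := CfsgLib.Blocks.isPrime_of_isPModular hM
  have hpM := hM.2.2
  haveI := Fintype.ofFinite H
  have h0 : ∀ (K : Type _) [Group K] [Fintype K] (B : Set (Cfsg.IrrCharacter K)),
      CfsgLib.Chars.principal K ∈ B → degVal p (CfsgLib.Chars.principal K) = blockMin p B := by
    intro K _ _ B hB
    have h1 : degVal p (CfsgLib.Chars.principal K) = 0 := by
      simp [degVal, Cfsg.charDegree, CfsgLib.Chars.principal_apply]
    have h2 := blockMin_le (p := p) hB
    omega
  exact isInducedBlock_iff_eq_of_irr_restrict H hpM hdef (CfsgLib.Chars.principal G)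
    (CfsgLib.Chars.principal H) rfl (h0 G _ (CfsgLib.Blocks.mem_blockOf_self _))
    (h0 H _ (CfsgLib.Blocks.mem_blockOf_self _))
end Cfsg.Agent.S0936
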