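import Cfsg.Statements.S3197
import Cfsg.Agent.Lib.StrongTwoClasses.Pair
import Cfsg.Agent.Lib.StrongTwoClasses.Build
import Cfsg.Agent.Lib.StrongTwoClasses.Eight

set_option autoImplicit false
open Cfsg

namespace Cfsg.Agent.S3197

/-- Let G be a finite group whose Sylow 2-subgroups are isomorphic to those of the alternating group of degree 8, with exactly three conjugacy classes of involutions, and containing an elementary abelian subgroup A of order 16 whose normalizer N satisfies: A·O(N) is normal in N with quotient N/(A·O(N)) isomorphic to the alternating group of degree 5, O(N) being the largest normal subgroup of odd order of N. Then A·O(G) is a normal subgroup of G. -/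
theorem result {G : Type*} [Group G] [Finite G]
    (S : Sylow 2 G) (P : Sylow 2 ↥(alternatingGroup (Fin 8)))
    (hS : Nonempty (↥(S : Subgroup G) ≃* ↥(P : Subgroup ↥(alternatingGroup (Fin 8)))))
    (h3 : Nat.card {c : ConjClasses G // ∃ x ∈ c.carrier, orderOf x = 2} = 3)
    (A : Subgroup G) (hA : Cfsg.IsElementaryAbelian 2 A) (hA16 : Nat.card ↥A = 16)
    (N : Subgroup G) (hN : N = Subgroup.normalizer (A : Set G))
    (hNA : ∃ (_ : (A.subgroupOf N ⊔ Cfsg.oddCore ↥N).Normal),
      Nonempty (↥N ⧸ (A.subgroupOf N ⊔ Cfsg.oddCore ↥N) ≃* ↥(alternatingGroup (Fin 5)))) :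
    (A ⊔ Cfsg.oddCore G).Normal := by
  haveI : Fact (Nat.Prime 2) := ⟨Nat.prime_two⟩
  subst hN
  obtain ⟨e⟩ := hS
  obtain ⟨hn, ⟨φ⟩⟩ := hNA
  have hP : Nat.card (P : Subgroup ↥(alternatingGroup (Fin 8))) = 64 := by
    rw [P.card_eq_multiplicity, nat_card_alternatingGroup, Nat.card_fin,
      show Nat.factorial 8 / 2 = 2 ^ 6 * 315 from rfl, Nat.factorization_mul (by norm_num) (by norm_num),
      Finsupp.add_apply, Nat.factorization_eq_zero_of_not_dvd (show ¬ 2 ∣ 315 by norm_num),
      Nat.Prime.factorization_pow Nat.prime_two]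
    simp
  have hS64 : Nat.card (S : Subgroup G) = 64 := (Nat.card_congr e.toEquiv).trans hP
  have hcZ : ∀ T : Sylow 2 G, ∀ B : Subgroup G, Nat.card B = 16 →
      B ≤ (T : Subgroup G) → ¬ (T : Subgroup G) ≤ Subgroup.centralizer (B : Set G) := by
    intro T B hB hBT hTB
    let f : ↥(T : Subgroup G) ≃* ↥(P : Subgroup ↥(alternatingGroup (Fin 8))) := (T.equiv S).trans e
    refine CfsgLib.StrongTwoClasses.center_lt_sixteen P hP
      (((B.subgroupOf (T : Subgroup G)).map f.toMonoidHom).map
        (P : Subgroup ↥(alternatingGroup (Fin 8))).subtype)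
      (Subgroup.map_subtype_le _) ?_ ?_
    · intro p hp
      refine Subgroup.mem_centralizer_iff.2 ?_
      rintro _ ⟨_, ⟨b, hb, rfl⟩, rfl⟩
      obtain ⟨t, ht⟩ := f.surjective ⟨p, hp⟩
      have hc : b * t = t * b := Subtype.ext
        (Subgroup.mem_centralizer_iff.1 (hTB t.2) b (Subgroup.mem_subgroupOf.1 hb))
      show ((f b : ↥(P : Subgroup ↥(alternatingGroup (Fin 8)))) : ↥(alternatingGroup (Fin 8))) * p =
        p * ((f b : ↥(P : Subgroup ↥(alternatingGroup (Fin 8)))) : ↥(alternatingGroup (Fin 8)))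
      have hm := congrArg (fun z => ((f z : ↥(P : Subgroup ↥(alternatingGroup (Fin 8)))) :
        ↥(alternatingGroup (Fin 8)))) hc
      simp only [map_mul, Subgroup.coe_mul, ht] at hm
      exact hm
    · rw [Subgroup.card_map_of_injective (Subgroup.subtype_injective _),
        Subgroup.card_map_of_injective f.injective,
        Nat.card_congr (Subgroup.subgroupOfEquivOfLe hBT).toEquiv, hB]
  let π : ↥(Subgroup.normalizer (A : Set G)) →* ↥(alternatingGroup (Fin 5)) :=
    φ.toMonoidHom.comp (QuotientGroup.mk'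
      (A.subgroupOf (Subgroup.normalizer (A : Set G)) ⊔ Cfsg.oddCore ↥(Subgroup.normalizer (A : Set G))))
  have hπ : Function.Surjective π := φ.surjective.comp (QuotientGroup.mk'_surjective _)
  obtain ⟨F, hF⟩ := CfsgLib.StrongTwoClasses.exists_frame hcZ S hS64 h3 A hA hA16 π hπ (by
    ext x
    simp [π])
  exact hF ▸ F.normal

end Cfsg.Agent.S3197
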