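import Cfsg.Statements.S3344
import Cfsg.Agent.Lib.Ext32.Recognise2
import Cfsg.Agent.Lib.Ext32.ToM12
import Cfsg.Agent.Lib.Ext32.Identify
import Cfsg.Agent.Lib.M12Cent.NonSimple

set_option autoImplicit false
open Cfsg

namespace Cfsg.Agent.S3344

open CfsgLib.Ext32 (Act Cen qv)

set_option maxHeartbeats 2000000
set_option linter.style.haveILetI false

/-- Let G be a finite group with an involution s, L = C_G(s) and Q = O₂(L). Suppose Q is extraspecial of order 32, L/Q is isomorphic to Sym(3), C_Q(X) = ⟨s⟩ for a Sylow 3-subgroup X of L, and s is not weakly closed in Q with respect to G (some conjugate of s other than s lies in Q). Then either G has an elementary abelian normal subgroup of order 8 with quotient isomorphic to PSL(3,2), or G is isomorphic to the alternating group of degree 8 or 9, or to the Mathieu group M₁₂. -/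
theorem result {G : Type*} [Group G] [Finite G]
    (s : G) (hs : orderOf s = 2) (L : Subgroup G) (hL : L = Subgroup.centralizer ({s} : Set G))
    (Q : Subgroup G) (hQ : Q = (Cfsg.pCore 2 L).map L.subtype)
    (hQex : Cfsg.IsExtraspecial 2 Q) (hQcard : Nat.card Q = 32)
    (e : L ⧸ Cfsg.pCore 2 L ≃* Equiv.Perm (Fin 3))
    (X : Sylow 3 L) (hCQX : Q ⊓ Subgroup.centralizer (((X : Subgroup L).map L.subtype : Subgroup G) : Set G) = Subgroup.zpowers s)
    (hnwc : ∃ g : G, g * s * g⁻¹ ∈ Q ∧ g * s * g⁻¹ ≠ s) :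
    (∃ (N : Subgroup G) (hN : N.Normal), IsMulCommutative N ∧ (∀ n ∈ N, n ^ 2 = 1) ∧ Nat.card N = 8 ∧
        Nonempty (G ⧸ N ≃* Matrix.ProjectiveSpecialLinearGroup (Fin 3) (ZMod 2))) ∨
    Nonempty (G ≃* alternatingGroup (Fin 8)) ∨ Nonempty (G ≃* alternatingGroup (Fin 9)) ∨ Cfsg.Spor.IsoM12 G := by
  haveI : Fact (Nat.Prime 2) := ⟨Nat.prime_two⟩
  haveI : Fact (Nat.Prime 3) := ⟨Nat.prime_three⟩
  have hs1 : s ≠ 1 := fun h => by rw [h, orderOf_one] at hs; norm_num at hs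
  have hss : s * s = 1 := by rw [← pow_two, ← hs, pow_orderOf_eq_one]
  have hC : ∀ g, g ∈ L ↔ g * s = s * g := fun g => by
    rw [hL, Subgroup.mem_centralizer_singleton_iff]
  have hQL : Q ≤ L := hQ ▸ Subgroup.map_subtype_le _
  have hmemQ : ∀ a : L, (a : G) ∈ Q ↔ a ∈ Cfsg.pCore 2 L := fun a => by
    rw [hQ]; exact Subgroup.mem_map_iff_mem L.subtype_injective
  haveI hn : (Cfsg.pCore 2 L).Normal := inferInstance
  have hnorm : ∀ g ∈ L, ∀ q ∈ Q, g * q * g⁻¹ ∈ Q := fun g hg q hq => by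
    have hqc : (⟨q, hQL hq⟩ : L) ∈ Cfsg.pCore 2 L := (hmemQ ⟨q, hQL hq⟩).1 hq
    exact (hmemQ _).2 (hn.conj_mem _ hqc ⟨g, hg⟩)
  have hcardcore : Nat.card (Cfsg.pCore 2 L) = 32 := by
    rw [← hQcard, hQ, Subgroup.card_map_of_injective L.subtype_injective]
  have hcardL : Nat.card L = 192 := by
    rw [Subgroup.card_eq_card_quotient_mul_card_subgroup (Cfsg.pCore 2 L), hcardcore,
      Nat.card_congr e.toEquiv, Nat.card_perm, Nat.card_fin]
    rfl
  -- an element of order three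
  have hX3 : Nat.card (X : Subgroup L) = 3 := by
    have hf : (Nat.card L).factorization 3 = 1 := by
      rw [hcardL, show 192 = 3 ^ 1 * 64 by norm_num,
        Nat.factorization_mul (by norm_num) (by norm_num), Finsupp.add_apply,
        Nat.prime_three.factorization_pow, Finsupp.single_eq_same,
        Nat.factorization_eq_zero_of_not_dvd (show ¬ 3 ∣ 64 by norm_num)]
    rw [X.card_eq_multiplicity, hf, pow_one]
  haveI : Nontrivial (X : Subgroup L) := by
    rw [← Finite.one_lt_card_iff_nontrivial, hX3]; norm_num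
  obtain ⟨x0, hx0⟩ := exists_ne (1 : (X : Subgroup L))
  set xL : L := (x0 : L) with hxLdef
  have hxL3 : xL * xL * xL = 1 := by
    have h1 : x0 ^ 3 = 1 := by
      have := (pow_card_eq_one' : x0 ^ Nat.card (X : Subgroup L) = 1)
      simp only [hX3] at this
      exact this
    have h2 := congrArg Subtype.val h1
    simpa [pow_succ, pow_two, hxLdef] using h2
  have hord : orderOf xL = 3 := by
    refine orderOf_eq_prime (by rw [pow_succ, pow_two, hxL3]) fun h => hx0 ?_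
    exact Subtype.ext h
  set x : G := (xL : G) with hxdef
  have hx3 : x * x * x = 1 := congrArg Subtype.val hxL3
  have hXz : (X : Subgroup L) = Subgroup.zpowers xL := by
    refine (Subgroup.eq_of_le_of_card_ge (Subgroup.zpowers_le.2 x0.2) ?_).symm
    rw [Nat.card_zpowers, hord, hX3]
  have hXG : (X : Subgroup L).map L.subtype = Subgroup.zpowers x := by
    rw [hXz, MonoidHom.map_zpowers]; rfl
  have hsQ : s ∈ Q := (Subgroup.mem_inf.1 (hCQX ▸ Subgroup.mem_zpowers s :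
    s ∈ Q ⊓ Subgroup.centralizer (((X : Subgroup L).map L.subtype : Subgroup G) : Set G))).1
  have hfix : ∀ q ∈ Q, x * q * x⁻¹ = q → q = 1 ∨ q = s := by
    intro q hq hxq
    have hcq : Commute x q := by
      have := congrArg (· * x) hxq
      simpa [mul_assoc, Commute, SemiconjBy] using this
    have : q ∈ Subgroup.zpowers s := by
      rw [← hCQX]
      refine Subgroup.mem_inf.2 ⟨hq, Subgroup.mem_centralizer_iff.2 fun y hy => ?_⟩
      rw [hXG] at hy
      obtain ⟨n, rfl⟩ := Subgroup.mem_zpowers_iff.1 hy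
      exact (hcq.zpow_left n).eq
    obtain ⟨n, rfl⟩ := Subgroup.mem_zpowers_iff.1 this
    rcases Int.even_or_odd n with ⟨m, rfl⟩ | ⟨m, rfl⟩
    · left; rw [← two_mul, zpow_mul, zpow_two, hss, one_zpow]
    · right; rw [zpow_add, zpow_mul, zpow_two, hss, one_zpow, zpow_one, one_mul]
  have hz : ∀ q ∈ Q, q * s = s * q := fun q hq => (hC q).1 (hQL hq)
  obtain ⟨z, hES⟩ := CfsgLib.Small.exists_ESTwo hQex
  have hzs : (z : G) = s := by
    rcases (hES.center_iff ⟨s, hsQ⟩).1 (Subgroup.mem_center_iff.2 fun q => Subtype.ext (hz q q.2))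
      with h | h
    · exact absurd (congrArg Subtype.val h) hs1
    · exact (congrArg Subtype.val h).symm
  have hsmall : ∀ H : Subgroup G, H ≤ Q → s ∈ H → 16 ≤ Nat.card H →
      ∃ a ∈ H, ∃ b ∈ H, a * b ≠ b * a := by
    intro H hHQ hsH h16
    by_contra hno
    push Not at hno
    have hcen : Subgroup.center Q ≤ H.subgroupOf Q := by
      intro c hc
      rcases (hES.center_iff c).1 hc with rfl | rfl
      · exact one_mem _
      · exact Subgroup.mem_subgroupOf.2 (hzs ▸ hsH)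
    have h1 := CfsgLib.PGroups.Extraspecial.card_mul_card_centralizer hQex hcen
    have h2 : Nat.card (H.subgroupOf Q) = Nat.card H :=
      Nat.card_congr (Subgroup.subgroupOfEquivOfLe hHQ).toEquiv
    have h3 : Nat.card (H.subgroupOf Q) ≤
        Nat.card (Subgroup.centralizer ((H.subgroupOf Q : Subgroup Q) : Set Q)) :=
      Subgroup.card_le_of_le fun a ha => Subgroup.mem_centralizer_iff.2 fun b hb =>
        Subtype.ext (hno _ (Subgroup.mem_subgroupOf.1 hb) _ (Subgroup.mem_subgroupOf.1 ha))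
    rw [h2, hQcard] at h1
    rw [h2] at h3
    nlinarith
  have T : Act Q s x :=
    ⟨hss, hs1, hsQ, hz, hx3, (hC x).1 xL.2, hfix, hnorm x xL.2, fun a ha b hb => by
        rcases hES.comm_eq ⟨a, ha⟩ ⟨b, hb⟩ with h | h
        · exact Or.inl (congrArg Subtype.val h)
        · refine Or.inr ?_
          rw [← hzs]; exact congrArg Subtype.val h,
      fun a ha => by
        rcases hES.sq_eq ⟨a, ha⟩ with h | h
        · refine Or.inl ?_
          rw [← pow_two]; exact congrArg Subtype.val h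
        · refine Or.inr ?_
          rw [← pow_two, ← hzs]; exact congrArg Subtype.val h,
      hQcard, hsmall⟩
  -- an inverting element
  set pi : L →* Equiv.Perm (Fin 3) := e.toMonoidHom.comp (QuotientGroup.mk' (Cfsg.pCore 2 L)) with hpi
  have hker : ∀ a : L, pi a = 1 ↔ a ∈ Cfsg.pCore 2 L := fun a => by
    simp [hpi]
  obtain ⟨b0, hb0⟩ : ∃ b0 : L, pi b0 = Equiv.swap 0 1 :=
    (e.surjective.comp (QuotientGroup.mk'_surjective _)) _
  have hinvert : ∀ σ : Equiv.Perm (Fin 3), σ * σ * σ = 1 →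
      Equiv.swap 0 1 * σ * (Equiv.swap 0 1)⁻¹ * σ = 1 := by decide
  have hpx : pi xL * pi xL * pi xL = 1 := by rw [← map_mul, ← map_mul, hxL3, map_one]
  have hb1 : ((b0 : G) * x * (b0 : G)⁻¹) * x ∈ Q := by
    refine (hmemQ (b0 * xL * b0⁻¹ * xL)).2 ((hker _).1 ?_)
    rw [map_mul, map_mul, map_mul, map_inv, hb0]
    exact hinvert _ hpx
  obtain ⟨i, w, F⟩ := T.exists_frame
  obtain ⟨n, hn32, hqn⟩ := F.qv_surj T.hxQ T.hcm T.hcard hb1
  obtain ⟨q, hqdef⟩ : ∃ q : G, q = (b0 : G) * x * (b0 : G)⁻¹ * x := ⟨_, rfl⟩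
  rw [← hqdef] at hqn
  have hxi : x⁻¹ = x * x := inv_eq_of_mul_eq_one_right (by rw [← mul_assoc, hx3])
  have hqx : (b0 : G) * x * (b0 : G)⁻¹ = q * x⁻¹ := by rw [hqdef, mul_inv_cancel_right]
  have h3 : q * (x⁻¹ * q * x) * (x * q * x⁻¹) = 1 := by
    have h : q * x⁻¹ * (q * x⁻¹) * (q * x⁻¹) = 1 := by
      rw [← hqx, conj_mul, conj_mul, hx3]; group
    calc q * (x⁻¹ * q * x) * (x * q * x⁻¹) = q * x⁻¹ * q * (x * x) * (q * x⁻¹) := by group
      _ = q * x⁻¹ * (q * x⁻¹) * (q * x⁻¹) := by rw [← hxi]; group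
      _ = 1 := h
  have phl : ∀ {m}, m < 32 → CfsgLib.Ext32.ph m < 32 := fun hm =>
    (CfsgLib.Ext32.ph_facts _ (List.mem_range.2 hm)).1
  obtain ⟨y, hy, y', hy', hyy, hyq⟩ := CfsgLib.Ext32.third_cases n (List.mem_range.2 hn32) (by
    refine F.qv_injective T.hxQ T.hcm (CfsgLib.Ext32.qMul_lt _ _) (by norm_num) ?_
    rw [F.qv_mul T.hxQ T.hcm (CfsgLib.Ext32.qMul_lt _ _) (phl hn32),
      F.qv_mul T.hxQ T.hcm hn32 (phl (phl hn32)), ← F.qv_ph2 T hn32, ← F.qv_ph T.hxQ T.hcm hn32,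
      hqn, CfsgLib.Ext32.qv_zero, h3])
  rw [List.mem_range] at hy hy'
  set yv := qv s x i w y with hyv
  have hyinv : qv s x i w y' = yv⁻¹ := eq_inv_of_mul_eq_one_right (by
    rw [← F.qv_mul T.hxQ T.hcm hy hy', hyy, CfsgLib.Ext32.qv_zero])
  have hqy : q = yv * (x⁻¹ * yv⁻¹ * x) := by
    rw [← hqn, ← hyq, F.qv_mul T.hxQ T.hcm hy (phl (phl hy')), ← F.qv_ph2 T hy', hyinv]
  set b : G := yv⁻¹ * (b0 : G) with hbdef
  have hyQ : yv ∈ Q := F.qv_mem T.hxQ y
  have hbL : b ∈ L := mul_mem (inv_mem (hQL hyQ)) b0.2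
  have hbx : b * x * b⁻¹ = x⁻¹ := by
    calc b * x * b⁻¹ = yv⁻¹ * ((b0 : G) * x * (b0 : G)⁻¹) * yv := by rw [hbdef]; group
      _ = x⁻¹ := by rw [hqx, hqy]; group
  have hbswap : pi ⟨b, hbL⟩ = Equiv.swap 0 1 := by
    have e1 : (⟨b, hbL⟩ : L) = ⟨yv, hQL hyQ⟩⁻¹ * b0 := rfl
    rw [e1, map_mul, map_inv, (hker _).2 ((hmemQ ⟨yv, hQL hyQ⟩).1 hyQ), hb0, inv_one, one_mul]
  have hb2 : b * b = 1 ∨ b * b = s := by
    refine hfix _ ((hmemQ (⟨b, hbL⟩ * ⟨b, hbL⟩)).2 ((hker _).1 ?_)) ?_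
    · rw [map_mul, hbswap, Equiv.swap_mul_self]
    · have e1 : b * x⁻¹ * b⁻¹ = x := by
        rw [← inv_inv (b * x⁻¹ * b⁻¹), conj_inv, inv_inv, hbx, inv_inv]
      have e2 : b * b * x * (b * b)⁻¹ = x := by
        calc b * b * x * (b * b)⁻¹ = b * (b * x * b⁻¹) * b⁻¹ := by group
          _ = x := by rw [hbx, e1]
      calc x * (b * b) * x⁻¹ = (b * b * x * (b * b)⁻¹) * (b * b) * x⁻¹ := by rw [e2]
        _ = b * b := by group
  have hbn : b ∉ Q ⊔ Subgroup.zpowers x := by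
    intro h
    set S : Subgroup L := ((Equiv.Perm.sign).comp pi).ker with hS
    have hle : Q ⊔ Subgroup.zpowers x ≤ S.map L.subtype := by
      refine sup_le (fun a ha => ⟨⟨a, hQL ha⟩, ?_, rfl⟩) (Subgroup.zpowers_le.2 ⟨xL, ?_, rfl⟩)
      · rw [SetLike.mem_coe, hS, MonoidHom.mem_ker, MonoidHom.comp_apply,
          (hker _).2 ((hmemQ ⟨a, hQL ha⟩).1 ha), map_one]
      · rw [SetLike.mem_coe, hS, MonoidHom.mem_ker, MonoidHom.comp_apply]
        have h3' := congrArg Equiv.Perm.sign hpx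
        rw [map_mul, map_mul, map_one] at h3'
        rcases Int.units_eq_one_or (Equiv.Perm.sign (pi xL)) with h | h
        · exact h
        · rw [h] at h3'; exact absurd h3' (by decide)
    obtain ⟨c, hc, hce⟩ := hle h
    have hcb : c = ⟨b, hbL⟩ := Subtype.ext hce
    rw [SetLike.mem_coe, hS, MonoidHom.mem_ker, MonoidHom.comp_apply, hcb, hbswap,
      Equiv.Perm.sign_swap (by decide)] at hc
    exact absurd hc (by decide)
  obtain ⟨k, D, hD⟩ := T.exists_cen hbx ((hC b).1 hbL) (hnorm b hbL) hb2 hbn (hL ▸ hcardL)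
  obtain ⟨g, hgQ, hgne⟩ := hnwc
  obtain ⟨m, hm, hm6, hmv⟩ := hD _ hgQ
  obtain ⟨D', hv⟩ := D.exists_fused hm hm6 (fun h => hgne (by rw [← hmv, h, D.val_tau]))
    (isConj_iff.2 ⟨g, hmv.symm⟩)
  rcases (show k = 0 ∨ k = 1 ∨ k = 2 ∨ k = 3 by have := D'.hk; omega) with rfl | rfl | rfl | rfl
  · rcases CfsgLib.M12Cent.classify_of_conj D'.toM12 (D'.toM12_fused hv) with h | h
    exacts [Or.inl h, Or.inr (Or.inr (Or.inr h))]
  · exact (CfsgLib.Ext32.Cen.dic_false D' (Or.inl rfl) hv).elim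
  · rcases D'.classify hv with h | h | h
    exacts [Or.inl h, Or.inr (Or.inl h), Or.inr (Or.inr (Or.inl h))]
  · exact (CfsgLib.Ext32.Cen.dic_false D' (Or.inr rfl) hv).elim

end Cfsg.Agent.S3344
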