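import Cfsg.Statements.S3702
import Cfsg.Agent.Lib.Involutions.CubeSFour.Descent
import Cfsg.Agent.Lib.Base.Cores

set_option autoImplicit false
open Cfsg

namespace Cfsg.Agent.S3702

open CfsgLib.CubeSFour

/-- The code of a permutation. -/
def enc (σ : Equiv.Perm (Fin 9)) : ℕ :=
  (σ 0).val + (σ 1).val * 16 + (σ 2).val * 256 + (σ 3).val * 4096 + (σ 4).val * 65536 +
    (σ 5).val * 1048576 + (σ 6).val * 16777216 + (σ 7).val * 268435456 + (σ 8).val * 4294967296

theorem nib_enc (σ : Equiv.Perm (Fin 9)) (i : Fin 9) : nib (enc σ) i.val = (σ i).val := by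
  have h : ∀ j, (σ j).val < 16 := fun j => lt_trans (σ j).isLt (by norm_num)
  have h0 := h 0; have h1 := h 1; have h2 := h 2; have h3 := h 3; have h4 := h 4
  have h5 := h 5; have h6 := h 6; have h7 := h 7; have h8 := h 8
  match i with
  | 0 => show enc σ / 1 % 16 = (σ 0).val; unfold enc; omega
  | 1 => show enc σ / 16 % 16 = (σ 1).val; unfold enc; omega
  | 2 => show enc σ / 256 % 16 = (σ 2).val; unfold enc; omega
  | 3 => show enc σ / 4096 % 16 = (σ 3).val; unfold enc; omega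
  | 4 => show enc σ / 65536 % 16 = (σ 4).val; unfold enc; omega
  | 5 => show enc σ / 1048576 % 16 = (σ 5).val; unfold enc; omega
  | 6 => show enc σ / 16777216 % 16 = (σ 6).val; unfold enc; omega
  | 7 => show enc σ / 268435456 % 16 = (σ 7).val; unfold enc; omega
  | 8 => show enc σ / 4294967296 % 16 = (σ 8).val; unfold enc; omega

theorem enc_mul (σ τ : Equiv.Perm (Fin 9)) : enc (σ * τ) = comp (enc σ) (enc τ) := by
  have e : ∀ (j : ℕ) (i : Fin 9), i.val = j →
      nib (enc σ) (nib (enc τ) j) = ((σ * τ) i).val := by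
    rintro _ i rfl
    rw [nib_enc, nib_enc]
    rfl
  unfold comp
  rw [e 0 0 rfl, e 1 1 rfl, e 2 2 rfl, e 3 3 rfl, e 4 4 rfl, e 5 5 rfl, e 6 6 rfl, e 7 7 rfl,
    e 8 8 rfl]
  simp only [enc, Nat.add_eq, Nat.mul_eq, Nat.add_assoc]

theorem enc_injective : Function.Injective enc := fun σ τ h =>
  Equiv.ext fun i => Fin.ext (by rw [← nib_enc σ i, h, nib_enc])

theorem enc_one : enc 1 = idc := by decide +kernel

attribute [irreducible] enc

theorem enc_pow (σ : Equiv.Perm (Fin 9)) (n : ℕ) : enc (σ ^ n) = cpow (enc σ) n := by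
  induction n with
  | zero => rw [pow_zero, enc_one]; rfl
  | succ n ih => rw [pow_succ', enc_mul, ih]; rfl

/-- The generators. -/
abbrev genList : List (Equiv.Perm (Fin 9)) :=
  [Equiv.swap (0 : Fin 9) 1 * Equiv.swap 1 2,
        Equiv.swap (0 : Fin 9) 3 * Equiv.swap 3 6 * (Equiv.swap (1 : Fin 9) 4 * Equiv.swap 4 7) * (Equiv.swap (2 : Fin 9) 5 * Equiv.swap 5 8),
        Equiv.swap (0 : Fin 9) 1 * Equiv.swap 3 4, Equiv.swap (0 : Fin 9) 3 * Equiv.swap 1 4 * Equiv.swap 2 5 * Equiv.swap 6 7]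

/-- The model. -/
abbrev Kgrp : Subgroup (Equiv.Perm (Fin 9)) :=
  (Subgroup.closure ({Equiv.swap (0 : Fin 9) 1 * Equiv.swap 1 2,
        Equiv.swap (0 : Fin 9) 3 * Equiv.swap 3 6 * (Equiv.swap (1 : Fin 9) 4 * Equiv.swap 4 7) * (Equiv.swap (2 : Fin 9) 5 * Equiv.swap 5 8),
        Equiv.swap (0 : Fin 9) 1 * Equiv.swap 3 4, Equiv.swap (0 : Fin 9) 3 * Equiv.swap 1 4 * Equiv.swap 2 5 * Equiv.swap 6 7} : Set (Equiv.Perm (Fin 9))))

theorem gens_eq : genList.map enc = gens := by decide +kernel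

theorem gen_mem : ∀ b ∈ genList, b ∈ Kgrp := fun b hb =>
  Subgroup.subset_closure (by simpa [genList] using hb)

theorem Kgrp_induction {P : Equiv.Perm (Fin 9) → Prop} (h1 : P 1)
    (hs : ∀ a, enc a ∈ gens → ∀ y, y ∈ Kgrp → P y → P (a * y)) {x : Equiv.Perm (Fin 9)}
    (hx : x ∈ Kgrp) : P x := by
  rw [← Subgroup.mem_toSubmonoid, Subgroup.closure_toSubmonoid_of_finite] at hx
  induction hx using Submonoid.closure_induction_left with
  | one => exact h1
  | mul_left a ha y hy ih =>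
    refine hs a ?_ y ?_ ih
    · rw [← gens_eq]
      refine List.mem_map_of_mem ?_
      simpa [genList] using ha
    · rw [← Subgroup.mem_toSubmonoid, Subgroup.closure_toSubmonoid_of_finite]
      exact hy

theorem enc_mem {x : Equiv.Perm (Fin 9)} (hx : x ∈ Kgrp) : enc x ∈ KL := by
  refine Kgrp_induction (P := fun x => enc x ∈ KL) ?_ ?_ hx
  · show enc 1 ∈ KL
    rw [enc_one]; exact KL_idc
  · intro a ha y _ hy
    show enc (a * y) ∈ KL
    rw [enc_mul]
    have h := List.all_eq_true.mp (List.all_eq_true.mp gens_mul_ok _ ha) _ hy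
    exact mem_of_inK (Bool.and_eq_true_iff.mp h).1

theorem word_enc (w : List ℕ) : ∃ x ∈ Kgrp, enc x = wordVal w := by
  induction w with
  | nil => exact ⟨1, Kgrp.one_mem, enc_one⟩
  | cons k w ih =>
    obtain ⟨x, hx, ex⟩ := ih
    obtain ⟨g, hg, eg⟩ : ∃ g ∈ Kgrp, enc g = gens.getD k idc := by
      by_cases hk : k < genList.length
      · refine ⟨genList[k], gen_mem _ (List.getElem_mem hk), ?_⟩
        · have hk' : k < gens.length := by rw [← gens_eq, List.length_map]; exact hk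
          rw [List.getD_eq_getElem?_getD, List.getElem?_eq_getElem hk', Option.getD_some]
          simp only [← gens_eq, List.getElem_map]
      · refine ⟨1, Kgrp.one_mem, ?_⟩
        rw [List.getD_eq_getElem?_getD, List.getElem?_eq_none
          (by rw [← gens_eq, List.length_map]; exact Nat.le_of_not_lt hk), Option.getD_none, enc_one]
    refine ⟨g * x, Kgrp.mul_mem hg hx, ?_⟩
    rw [enc_mul, eg, ex]
    rfl

theorem enc_surj {a : ℕ} (ha : a ∈ KL) : ∃ x ∈ Kgrp, enc x = a := by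
  obtain ⟨q, hq, j, hj, e⟩ := Config.decomp ha
  rw [QL_words] at hq
  rw [JL_words] at hj
  obtain ⟨v, -, rfl⟩ := List.mem_map.mp hq
  obtain ⟨w, -, rfl⟩ := List.mem_map.mp hj
  obtain ⟨x, hx, ex⟩ := word_enc v
  obtain ⟨y, hy, ey⟩ := word_enc w
  exact ⟨x * y, Kgrp.mul_mem hx hy, by rw [enc_mul, ex, ey, e]⟩

theorem enc_inv {x : Equiv.Perm (Fin 9)} (hx : x ∈ Kgrp) : enc x⁻¹ = cinv (enc x) := by
  have h := List.all_eq_true.mp KL_inv _ (enc_mem hx)
  simp only [Bool.and_eq_true, beq_iff_eq] at h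
  obtain ⟨z, -, ez⟩ := enc_surj (mem_of_inK h.2)
  have h1 : x * z = 1 := enc_injective (by rw [enc_mul, ez, h.1, enc_one])
  rw [← eq_inv_of_mul_eq_one_right h1, ez]

theorem enc_conj {g x : Equiv.Perm (Fin 9)} (hg : g ∈ Kgrp) :
    enc (g * x * g⁻¹) = cconj (enc g) (enc x) := by
  rw [mul_assoc, enc_mul, enc_mul, enc_inv hg]
  rfl

theorem J_cube {x : Equiv.Perm (Fin 9)} (h : inJ (enc x) = true) : x ^ 3 = 1 := by
  have h' := List.all_eq_true.mp JL_normal _ ((inJ_iff _).mp h)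
  simp only [Bool.and_eq_true, beq_iff_eq] at h'
  exact enc_injective (by rw [enc_pow, h'.1.2, enc_one])

theorem J_mul {x y : Equiv.Perm (Fin 9)} (hx : inJ (enc x) = true) (hy : inJ (enc y) = true) :
    inJ (enc (x * y)) = true := by
  rw [enc_mul]
  exact List.all_eq_true.mp (List.all_eq_true.mp JL_mul _ ((inJ_iff _).mp hx)) _
    ((inJ_iff _).mp hy)

/-- The normal subgroup of order 27. -/
def Jmodel : Subgroup Kgrp where
  carrier := {x | inJ (enc (x : Equiv.Perm (Fin 9))) = true}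
  one_mem' := by
    show inJ (enc 1) = true
    rw [enc_one]; decide +kernel
  mul_mem' := fun ha hb => J_mul ha hb
  inv_mem' := by
    intro x hx
    have h : (x : Equiv.Perm (Fin 9))⁻¹ = x * x := by
      refine inv_eq_of_mul_eq_one_right ?_
      rw [← mul_assoc, ← pow_two, ← pow_succ]
      exact J_cube hx
    show inJ (enc (x : Equiv.Perm (Fin 9))⁻¹) = true
    rw [h]
    exact J_mul hx hx

instance Jmodel_normal : Jmodel.Normal := by
  refine ⟨fun n hn g => ?_⟩
  have key : ∀ n : Equiv.Perm (Fin 9), inJ (enc n) = true →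
      inJ (enc ((g : Equiv.Perm (Fin 9)) * n * (g : Equiv.Perm (Fin 9))⁻¹)) = true := by
    refine Kgrp_induction (P := fun g : Equiv.Perm (Fin 9) =>
      ∀ n : Equiv.Perm (Fin 9), inJ (enc n) = true → inJ (enc (g * n * g⁻¹)) = true) ?_ ?_ g.2
    · intro n hn
      simpa using hn
    · intro a ha y _ ih n hn
      have h := List.all_eq_true.mp JL_normal _ ((inJ_iff _).mp (ih n hn))
      simp only [Bool.and_eq_true, List.all_eq_true] at h
      have haK : a ∈ Kgrp := by
        rw [← gens_eq] at ha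
        obtain ⟨b, hb, e⟩ := List.mem_map.mp ha
        rw [← enc_injective e]
        exact gen_mem b hb
      rw [show a * y * n * (a * y)⁻¹ = a * (y * n * y⁻¹) * a⁻¹ by group, enc_conj haK]
      exact (h.2 _ ha).1
  exact key _ hn

theorem pCore_model : Cfsg.pCore 3 Kgrp = Jmodel := by
  refine le_antisymm (fun x hx => ?_) (CfsgLib.Base.le_pCore ?_)
  · have pow9 : ∀ y : Kgrp, y ∈ Cfsg.pCore 3 Kgrp →
        cpow (enc (y : Equiv.Perm (Fin 9))) 9 = idc := by
      intro y hy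
      obtain ⟨n, hn⟩ := CfsgLib.Base.isPGroup_pCore 3 Kgrp ⟨y, hy⟩
      have hn' : y ^ 3 ^ n = 1 := by
        have := congrArg Subtype.val hn
        rw [SubgroupClass.coe_pow, OneMemClass.coe_one] at this
        exact this
      have h1 : orderOf y ∣ 3 ^ n := orderOf_dvd_of_pow_eq_one hn'
      have h36 : y ^ 36 = 1 := by
        apply Subtype.ext
        apply enc_injective
        rw [SubgroupClass.coe_pow, OneMemClass.coe_one, enc_pow, enc_one]
        exact beq_iff_eq.mp (List.all_eq_true.mp KL_pow _ (enc_mem y.2))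
      have h2 : orderOf y ∣ 4 * 9 := orderOf_dvd_of_pow_eq_one h36
      have h34 : Nat.Coprime 3 4 := by decide
      have h14 : Nat.Coprime (orderOf y) 4 :=
        Nat.Coprime.coprime_dvd_left h1 (Nat.Coprime.pow_left n h34)
      have h9 : y ^ 9 = 1 := orderOf_dvd_iff_pow_eq_one.mp (h14.dvd_of_dvd_mul_left h2)
      have h9' := congrArg Subtype.val h9
      rw [SubgroupClass.coe_pow, OneMemClass.coe_one] at h9'
      rw [← enc_pow, h9', enc_one]
    show inJ (enc (x : Equiv.Perm (Fin 9))) = true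
    have h := List.all_eq_true.mp core_ok _ (enc_mem x.2)
    rw [pow9 x hx, beq_self_eq_true, Bool.not_true, Bool.false_or, Bool.or_eq_true,
      List.any_eq_true] at h
    rcases h with h | ⟨g, hg, h⟩
    · exact h
    · exfalso
      obtain ⟨z, hz, ez⟩ := enc_surj (mem_of_inK (List.all_eq_true.mp coreConj_mem g hg))
      have hm : x * ((⟨z, hz⟩ : Kgrp) * x * (⟨z, hz⟩ : Kgrp)⁻¹) ∈ Cfsg.pCore 3 Kgrp :=
        Subgroup.mul_mem _ hx ((Cfsg.pCore_normal 3 Kgrp).conj_mem x hx _)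
      have := pow9 _ hm
      have e : enc ((x : Equiv.Perm (Fin 9)) * (z * x * z⁻¹)) =
          comp (enc (x : Equiv.Perm (Fin 9))) (cconj g (enc (x : Equiv.Perm (Fin 9)))) := by
        rw [enc_mul, enc_conj hz, ez]
      rw [← e] at h
      simp only [Subgroup.coe_mul, InvMemClass.coe_inv] at this
      rw [this, beq_self_eq_true] at h
      simp at h
  · rintro ⟨x, hx⟩
    refine ⟨1, Subtype.ext (Subtype.ext ?_)⟩
    rw [SubgroupClass.coe_pow, SubgroupClass.coe_pow, OneMemClass.coe_one, OneMemClass.coe_one,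
      pow_one]
    exact J_cube hx

/-- Let K ≤ Sym(9) be generated by (1 2 3), (1 4 7)(2 5 8)(3 6 9), (1 2)(4 5) and (1 4)(2 5)(3 6)(7 8) (the normalizer in Alt(9) of the elementary abelian group generated by (1 2 3), (4 5 6), (7 8 9)). Let G be a finite group with a subgroup H ≅ K and J = O₃(H). If C_G(j) ≤ H for every j ≠ 1 in J and J is strongly closed in H with respect to G (a G-conjugate of an element of J lying in H lies in J), then G = H. -/
theorem result {G : Type*} [Group G] [Finite G] (H : Subgroup G)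
    (hH : Nonempty (↥H ≃* ↥(Subgroup.closure ({Equiv.swap (0 : Fin 9) 1 * Equiv.swap 1 2,
        Equiv.swap (0 : Fin 9) 3 * Equiv.swap 3 6 * (Equiv.swap (1 : Fin 9) 4 * Equiv.swap 4 7) * (Equiv.swap (2 : Fin 9) 5 * Equiv.swap 5 8),
        Equiv.swap (0 : Fin 9) 1 * Equiv.swap 3 4, Equiv.swap (0 : Fin 9) 3 * Equiv.swap 1 4 * Equiv.swap 2 5 * Equiv.swap 6 7} : Set (Equiv.Perm (Fin 9))))))
    (J : Subgroup G) (hJ : J = (Cfsg.pCore 3 ↥H).map H.subtype)
    (hC : ∀ j ∈ J, j ≠ 1 → Subgroup.centralizer ({j} : Set G) ≤ H) (hsc : Cfsg.IsStronglyClosed J H) : H = ⊤ := by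
  classical
  obtain ⟨e⟩ := hH
  haveI := Fintype.ofFinite G
  obtain ⟨code, hcode⟩ : ∃ code : G → ℕ, ∀ g (h : g ∈ H),
      code g = enc ((e ⟨g, h⟩ : Kgrp) : Equiv.Perm (Fin 9)) :=
    ⟨fun g => if h : g ∈ H then enc ((e ⟨g, h⟩ : Kgrp) : Equiv.Perm (Fin 9)) else 0,
      fun g h => dif_pos h⟩
  have hJmem : ∀ g (h : g ∈ H), g ∈ J ↔ inJ (code g) = true := by
    intro g h
    have h1 : g ∈ J ↔ (⟨g, h⟩ : H) ∈ Cfsg.pCore 3 H := by
      rw [hJ]
      exact ⟨fun ⟨y, hy, ey⟩ => (show (⟨g, h⟩ : H) = y from Subtype.ext ey.symm) ▸ hy,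
        fun hm => ⟨_, hm, rfl⟩⟩
    have h2 : (⟨g, h⟩ : H) ∈ Cfsg.pCore 3 H ↔ e ⟨g, h⟩ ∈ Cfsg.pCore 3 Kgrp := by
      rw [← CfsgLib.Base.map_pCore_mulEquiv e]
      exact (Subgroup.mem_map_iff_mem e.injective).symm
    rw [h1, h2, pCore_model, hcode g h]
    rfl
  let c : CfsgLib.CubeSFour.Config H :=
    { code := code
      mem_KL := fun g hg => by rw [hcode g hg]; exact enc_mem (e ⟨g, hg⟩).2
      surj := fun a ha => by
        obtain ⟨x, hx, ex⟩ := enc_surj ha
        refine ⟨_, (e.symm ⟨x, hx⟩).2, ?_⟩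
        rw [hcode _ (e.symm ⟨x, hx⟩).2, Subtype.coe_eta, e.apply_symm_apply]
        exact ex
      inj := fun g hg h hh eq => by
        rw [hcode g hg, hcode h hh] at eq
        exact congrArg Subtype.val (e.injective (Subtype.ext (enc_injective eq)))
      code_mul := fun g hg h hh => by
        rw [hcode g hg, hcode h hh, hcode _ (H.mul_mem hg hh), ← enc_mul]
        exact congrArg (fun z : Kgrp => enc (z : Equiv.Perm (Fin 9)))
          (map_mul e ⟨g, hg⟩ ⟨h, hh⟩)
      cent := fun g x hx hxJ hx1 hgx =>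
        hC x ((hJmem x hx).mpr hxJ) hx1 (Subgroup.mem_centralizer_singleton_iff.mpr hgx)
      closed := fun g x hx hxJ hgx =>
        (hJmem _ hgx).mp (hsc.2 x ((hJmem x hx).mpr hxJ) g hgx) }
  exact c.eq_top

end Cfsg.Agent.S3702
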