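import Cfsg.Statements.S0254
import Cfsg.Agent.Lib.Classical.PermModels


set_option autoImplicit false
open Cfsg

namespace Cfsg.Agent.S0254

/-- PSL_2(9) is isomorphic to A_6. -/
theorem result {F : Type*} [Field F] [Fintype F] (hF : Fintype.card F = 9) : Nonempty (Matrix.ProjectiveSpecialLinearGroup (Fin 2) F ≃* alternatingGroup (Fin 6)) := by
  have h3 : Nat.card (ZMod 3) = 3 := Nat.card_zmod 3
  have hK : Nat.card F = 3 ^ 2 := by rw [Nat.card_eq_fintype_card, hF]; norm_num
  obtain ⟨alg, σ, t, h, -⟩ :=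
    CfsgLib.Classical.exists_quadExt h3 hK CfsgLib.Classical.aniso_zmod_three
  obtain ⟨e1⟩ :=
    CfsgLib.Classical.pOmega_four_minus_equiv h3 hK CfsgLib.Classical.aniso_zmod_three h
  obtain ⟨e2⟩ := CfsgLib.Classical.pOmega_four_three_equiv_A6
  exact ⟨e1.symm.trans e2⟩

end Cfsg.Agent.S0254
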