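import Cfsg.Statements.S0731
import Cfsg.Agent.Lib.Perm.ZassG.PSL
import Cfsg.Agent.Lib.Perm.ZassG.Sharp3

set_option autoImplicit false
open Cfsg

namespace Cfsg.Agent.S0731

/-- A finite Zassenhaus group whose point stabiliser has an abelian regular normal subgroup on the remaining points is sharply triply transitive or isomorphic to `PSL(2, F)` for a finite field `F` of odd characteristic. -/
theorem result {G Ω : Type*} [Group G] [Finite G] [MulAction G Ω] [Finite Ω] (hZ : Cfsg.IsZassenhausGroup G Ω) (x : Ω) (F : Subgroup G) (hFle : F ≤ MulAction.stabilizer G x) (hFn : (F.subgroupOf (MulAction.stabilizer G x)).Normal) (hFab : IsMulCommutative F) (hreg : ∀ y z : Ω, y ≠ x → z ≠ x → ∃! u : F, (u : G) • y = z) : (MulAction.IsMultiplyPretransitive G Ω 3 ∧ ∀ t : Fin 3 ↪ Ω, MulAction.stabilizer G t = ⊥) ∨ ∃ (K : Type) (_ : Field K) (_ : Fintype K), ringChar K ≠ 2 ∧ Nonempty (G ≃* Matrix.ProjectiveSpecialLinearGroup (Fin 2) K) := by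
  classical
  obtain ⟨g, -, c, d, hcd, -, -⟩ := hZ.2.2.2.1
  obtain ⟨b, hxb⟩ : ∃ b, x ≠ b := by
    by_cases h : x = c
    exacts [⟨d, h ▸ hcd⟩, ⟨c, h⟩]
  have hF := CfsgLib.Perm.ZassG.isKernel_of_subgroupOf hFle hFn hreg
  have hn := hF.card_add_one hxb
  rcases CfsgLib.Perm.ZassG.card_cases hZ hxb hF (fun u v => hFab.is_comm.comm u v) with h | h
  · exact Or.inl (CfsgLib.Perm.ZassG.three_transitive hZ hxb (by omega))
  · obtain ⟨K, hK, hK', h2, -, hiso⟩ := CfsgLib.Perm.ZassG.exists_psl hZ hxb hF h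
    exact Or.inr ⟨K, hK, hK', h2, hiso⟩

end Cfsg.Agent.S0731
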