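import Cfsg.Statements.S0633
import Cfsg.Agent.Lib.FgsC.HallHigmanB

set_option autoImplicit false
open Cfsg

namespace Cfsg.Agent.S0633

open scoped commutatorElement TensorProduct
theorem le_normalizer_commutator' {G : Type*} [Group G] {A B X : Subgroup G}
    (hA : X ≤ Subgroup.normalizer (A : Set G)) (hB : X ≤ Subgroup.normalizer (B : Set G)) :
    X ≤ Subgroup.normalizer ((⁅A, B⁆ : Subgroup G) : Set G) := by
  intro x hx
  rw [Subgroup.mem_normalizer_iff_map_conj_eq, Subgroup.map_commutator,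
    Subgroup.mem_normalizer_iff_map_conj_eq.mp (hA hx),
    Subgroup.mem_normalizer_iff_map_conj_eq.mp (hB hx)]

/-- Theorem B of Hall and Higman on the minimal polynomial of a p-element of order p^n in a p-solvable linear group on a nonzero vector space in characteristic p with no nontrivial normal p-subgroup: its degree is p^n, except when some p^n₀ - 1 (n₀ ≤ n) is a power of a prime q for which the Sylow q-subgroups are non-abelian, in which case the degree is at least p^(n-n₀)(p^n₀ - 1). -/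
theorem result {F : Type*} [Field F] {p : ℕ} [Fact p.Prime] [CharP F p] {V : Type*} [AddCommGroup V] [Module F V] [FiniteDimensional F V] [Nontrivial V] (H : Subgroup (V ≃ₗ[F] V)) [Finite H] (hsol : Cfsg.IsPSolvable p H) (hOp : Cfsg.pCore p H = ⊥) (x : V ≃ₗ[F] V) (hx : x ∈ H) (n : ℕ) (hn : orderOf x = p ^ n) (r : ℕ) (hr : minpoly F (x : Module.End F V) = (Polynomial.X - 1) ^ r) : r = p ^ n ∨ ∃ n₀ q m : ℕ, 1 ≤ n₀ ∧ n₀ ≤ n ∧ q.Prime ∧ 1 ≤ m ∧ p ^ n₀ - 1 = q ^ m ∧ (∀ Q : Sylow q H, ¬ IsMulCommutative Q) ∧ p ^ (n - n₀) * (p ^ n₀ - 1) ≤ r := by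
  classical
  have hp : p.Prime := Fact.out
  set f : Module.End F V := (x : Module.End F V) with hf
  haveI : CharP (Module.End F V) p :=
    charP_of_injective_algebraMap (algebraMap F (Module.End F V)).injective p
  let coeHom : (V ≃ₗ[F] V) →* Module.End F V :=
    LinearEquiv.automorphismGroup.toLinearMapMonoidHom
  have hxP : x ^ p ^ n = 1 := by rw [← hn]; exact pow_orderOf_eq_one x
  have hfP : f ^ p ^ n = 1 := by
    show coeHom x ^ p ^ n = 1
    rw [← map_pow, hxP, map_one]
  have hfr : (f - 1) ^ r = 0 := by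
    have := minpoly.aeval F f
    rw [hr] at this
    simpa using this
  have hrle : r ≤ p ^ n := by
    have h : minpoly F f ∣ (Polynomial.X - 1) ^ p ^ n := minpoly.dvd F f (by
      simp only [map_pow, map_sub, Polynomial.aeval_X, map_one]
      rw [sub_pow_char_pow_of_commute (R := Module.End F V) p n (Commute.one_right f), one_pow, hfP,
        sub_self])
    rw [hr] at h
    have h2 := Polynomial.natDegree_le_of_dvd h
      (pow_ne_zero _ (Polynomial.X_sub_C_ne_zero (1 : F)))
    rw [← Polynomial.C_1, Polynomial.natDegree_pow, Polynomial.natDegree_pow,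
      Polynomial.natDegree_X_sub_C, mul_one, mul_one] at h2
    exact h2
  rcases Nat.eq_zero_or_pos n with hn0 | hn0
  · left
    subst hn0
    rw [pow_zero] at hrle ⊢
    refine le_antisymm hrle (Nat.pos_of_ne_zero fun h => ?_)
    rw [h, pow_zero] at hfr
    exact one_ne_zero hfr
  set xH : H := ⟨x, hx⟩ with hxH
  set z := xH ^ p ^ (n - 1) with hz
  have hxHP : xH ^ p ^ n = 1 := Subtype.ext (by rw [Subgroup.coe_pow]; exact hxP)
  have hz1 : z ≠ 1 := fun h => by
    have h1 : x ^ p ^ (n - 1) = 1 := congrArg Subtype.val h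
    have := Nat.le_of_dvd (pow_pos hp.pos _) (orderOf_dvd_of_pow_eq_one h1)
    rw [hn] at this
    exact absurd this (not_le.mpr (Nat.pow_lt_pow_right hp.one_lt (by omega)))
  have hzp : z ^ p = 1 := by
    rw [hz, ← pow_mul, ← pow_succ, Nat.sub_add_cancel hn0, hxHP]
  set N := Cfsg.pPrimeCore p H with hN
  have hNc : (Nat.card N).Coprime p := CfsgLib.Base.pPrimeCore_coprime p H
  haveI : N.Normal := inferInstance
  set A := Subgroup.zpowers xH with hA
  have hAsol : Group.IsSolvable A := Group.isSolvable_of_comm fun a b => by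
    obtain ⟨a, i, rfl⟩ := a
    obtain ⟨b, j, rfl⟩ := b
    exact Subtype.ext ((Commute.refl xH).zpow_zpow i j)
  obtain ⟨e, he⟩ : ∃ e, Nat.card A = p ^ e := by
    obtain ⟨e, -, he⟩ := (Nat.dvd_prime_pow hp).mp (orderOf_dvd_of_pow_eq_one hxHP)
    exact ⟨e, by rw [hA, Nat.card_zpowers, he]⟩
  have hcop : (Nat.card A).Coprime (Nat.card N) := by
    rw [he]; exact Nat.Coprime.pow_left e hNc.symm
  have hANn : A ≤ Subgroup.normalizer (N : Set H) := by
    rw [Subgroup.normalizer_eq_top]; exact le_top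
  -- a prime `q` and an invariant `q`-subgroup moved by `z`
  obtain ⟨q, hq, S, hSN, hSq, hSA, hSz⟩ : ∃ q, q.Prime ∧ ∃ S : Subgroup H, S ≤ N ∧ IsPGroup q S ∧
      A ≤ Subgroup.normalizer (S : Set H) ∧ ¬ ∀ k ∈ S, Commute k z := by
    by_contra hall
    push Not at hall
    have hzC : z ∈ Subgroup.centralizer (N : Set H) := by
      refine Subgroup.mem_centralizer_iff.mpr fun k hk => ?_
      set D := N ⊓ Subgroup.centralizer ({z} : Set H) with hD
      have hDN : N ≤ D := by
        refine (Subgroup.eq_of_le_of_card_ge inf_le_left (Nat.le_of_dvd Nat.card_pos ?_)).ge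
        refine Nat.dvd_iff_prime_pow_dvd_dvd _ _ |>.mpr fun q k hq hdvd => ?_
        haveI := Fact.mk hq
        obtain ⟨P, hP⟩ := CfsgLib.Coprime.exists_invariant_sylow (p := q) hANn hcop (Or.inl hAsol)
        refine dvd_trans ?_ (Subgroup.card_dvd_of_le (le_inf (Subgroup.map_subtype_le _)
          (fun s hs => Subgroup.mem_centralizer_singleton_iff.mpr
            (hall q hq _ (Subgroup.map_subtype_le _) (P.isPGroup'.map N.subtype) hP s hs).eq)))
        rw [Subgroup.card_map_of_injective N.subtype_injective, P.card_eq_multiplicity]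
        exact pow_dvd_pow q ((Nat.Prime.pow_dvd_iff_le_factorization hq Nat.card_pos.ne').mp hdvd)
      exact Subgroup.mem_centralizer_singleton_iff.mp (hDN hk).2
    have hzN := CfsgLib.FgsC.HallHigmanB.centralizer_pPrimeCore_le hsol hOp hzC
    have h1 : orderOf z = p := orderOf_eq_prime hzp hz1
    have h2 := Subgroup.orderOf_dvd_natCard N hzN
    rw [h1] at h2
    exact (hp.coprime_iff_not_dvd.mp hNc.symm) h2
  haveI := Fact.mk hq
  obtain ⟨Q, ⟨hQS, hQA, hQz⟩, hmin⟩ := wellFounded_lt.has_min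
    {Q : Subgroup H | Q ≤ S ∧ A ≤ Subgroup.normalizer (Q : Set H) ∧ ¬ ∀ k ∈ Q, Commute k z}
    ⟨S, le_rfl, hSA, hSz⟩
  have hQq : IsPGroup q Q := hSq.to_le hQS
  have hQne : Q ≠ ⊥ := fun h => hQz fun k hk => by
    rw [h, Subgroup.mem_bot] at hk; rw [hk]; exact Commute.one_left z
  have hpq : p ≠ q := by
    intro h
    subst h
    obtain ⟨c, hc⟩ := IsPGroup.iff_card.mp hQq
    have h1 : (p ^ c).Coprime p := hc ▸ hNc.coprime_dvd_left
      (Subgroup.card_dvd_of_le (hQS.trans hSN))
    rcases Nat.eq_zero_or_pos c with hc0 | hc0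
    · exact hQne (Subgroup.card_eq_one.mp (by rw [hc, hc0, pow_zero]))
    · rw [Nat.coprime_pow_left_iff hc0, Nat.coprime_self] at h1
      exact hp.one_lt.ne' h1
  have hsmall : ∀ M : Subgroup H, M < Q → A ≤ Subgroup.normalizer (M : Set H) →
      ∀ k ∈ M, Commute k z := by
    intro M hM hMA
    by_contra h
    exact hmin M ⟨hM.le.trans hQS, hMA, h⟩ hM
  set Z := Subgroup.zpowers z with hZ
  have hZA : Z ≤ A := Subgroup.zpowers_le.mpr (pow_mem (Subgroup.mem_zpowers xH) _)
  have hZQ : Z ≤ Subgroup.normalizer (Q : Set H) := hZA.trans hQA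
  have hcommA : A ≤ Subgroup.normalizer ((⁅Q, Z⁆ : Subgroup H) : Set H) := by
    refine le_normalizer_commutator' hQA ?_
    rintro a ⟨i, rfl⟩
    refine Subgroup.centralizer_le_normalizer (G := H) (s := (Z : Set H)) ?_
    refine Subgroup.mem_centralizer_iff.mpr fun t ht => ?_
    obtain ⟨j, rfl⟩ := hZA ht
    exact ((Commute.refl xH).zpow_zpow j i).eq
  have hgen : Q ≤ ⁅Q, Z⁆ := by
    by_contra h
    have hlt : ⁅Q, Z⁆ < Q := lt_of_le_not_ge
      (CfsgLib.Coprime.commutator_le_of_le_normalizer hZQ) h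
    have hc := hsmall _ hlt hcommA
    have hcopQ : (Nat.card Z).Coprime (Nat.card Q) :=
      (hcop.coprime_dvd_left (Subgroup.card_dvd_of_le hZA)).coprime_dvd_right
        (Subgroup.card_dvd_of_le (hQS.trans hSN))
    have h0 : ⁅⁅Q, Z⁆, Z⁆ = (⊥ : Subgroup H) := by
      refine Subgroup.commutator_eq_bot_iff_le_centralizer.mpr fun g hg => ?_
      refine Subgroup.mem_centralizer_iff.mpr fun t ht => ?_
      obtain ⟨j, rfl⟩ := ht
      exact ((hc g hg).zpow_right j).eq.symm
    rw [CfsgLib.Coprime.commutator_commutator_eq hZQ hcopQ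
      (Or.inl (CfsgLib.Coprime.isSolvable_of_le hZA hAsol))] at h0
    exact hQz fun k hk => (Subgroup.mem_centralizer_iff.mp
      (Subgroup.commutator_eq_bot_iff_le_centralizer.mp h0 hk) z (Subgroup.mem_zpowers z)).symm
  have hcent : ∀ k ∈ Q, Commute k z → ∀ g ∈ Q, Commute k g := by
    set Q' := (⁅Q, Q⁆ : Subgroup H) with hQ'
    have hQ'Q : Q' ≤ Q := Subgroup.commutator_le_self Q
    have hQ'A : A ≤ Subgroup.normalizer (Q' : Set H) := le_normalizer_commutator' hQA hQA
    have hQ'lt : Q' < Q := by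
      refine lt_of_le_of_ne hQ'Q fun h => ?_
      haveI : Nontrivial Q := (Subgroup.nontrivial_iff_ne_bot Q).mpr hQne
      haveI : Group.IsSolvable Q := by
        haveI := hQq.isNilpotent
        infer_instance
      refine (Group.IsSolvable.commutator_lt_top_of_nontrivial Q).ne ?_
      refine Subgroup.map_injective Q.subtype_injective ?_
      rw [commutator_def, Subgroup.map_commutator, ← MonoidHom.range_eq_map, Subgroup.range_subtype]
      exact h
    have hQ'z : ∀ a ∈ Z, ∀ t ∈ Q', a * t * a⁻¹ = t := by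
      rintro a ⟨j, rfl⟩ t ht
      rw [← ((hsmall Q' hQ'lt hQ'A t ht).zpow_right j).eq, mul_inv_cancel_right]
    have hQQ' : (⁅Q, Q'⁆ : Subgroup H) = ⊥ := by
      have hb : (⁅Q', Z⁆ : Subgroup H) = ⊥ := by
        refine Subgroup.commutator_eq_bot_iff_le_centralizer.mpr fun g hg => ?_
        refine Subgroup.mem_centralizer_iff.mpr fun a ha => ?_
        exact mul_inv_eq_iff_eq_mul.mp (hQ'z a ha g hg)
      have h1 : (⁅⁅Q, Q'⁆, Z⁆ : Subgroup H) = ⊥ := le_bot_iff.mp (hb ▸
        Subgroup.commutator_mono ((Subgroup.commutator_comm Q Q').le.trans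
          (Subgroup.le_normalizer_iff_commutator_le_left.mp
            (le_normalizer_commutator' Subgroup.le_normalizer Subgroup.le_normalizer))) le_rfl)
      have h2 : (⁅⁅Q', Z⁆, Q⁆ : Subgroup H) = ⊥ := by
        rw [hb, Subgroup.commutator_bot_left]
      have h3 := Subgroup.commutator_commutator_eq_bot_of_rotate (H₁ := Z) (H₂ := Q) (H₃ := Q') h1 h2
      refine le_bot_iff.mp (h3 ▸ Subgroup.commutator_mono ?_ le_rfl)
      rw [Subgroup.commutator_comm]; exact hgen
    have hQ'c : ∀ t ∈ Q', ∀ g ∈ Q, Commute g t := fun t ht g hg =>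
      ((Subgroup.mem_centralizer_iff.mp
        (Subgroup.commutator_eq_bot_iff_le_centralizer.mp hQQ' hg)) t ht).symm
    intro k hk hkz g hg
    have hle : (⁅Q, Z⁆ : Subgroup H) ≤ Subgroup.centralizer ({k} : Set H) := by
      refine Subgroup.commutator_le.mpr fun g hg a ha => Subgroup.mem_centralizer_singleton_iff.mpr ?_
      have hak : a * k * a⁻¹ = k := by
        obtain ⟨j, rfl⟩ := ha
        rw [← (hkz.zpow_right j).eq, mul_inv_cancel_right]
      set g' := a * g⁻¹ * a⁻¹ with hg'
      have hg'Q : g' ∈ Q := (Subgroup.mem_normalizer_iff.mp (hZQ ha) _).mp (Q.inv_mem hg)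
      have hc1 : ⁅k, g⁻¹⁆ ∈ Q' := Subgroup.commutator_mem_commutator hk (Q.inv_mem hg)
      have e1 : ⁅k, g'⁆ = ⁅k, g⁻¹⁆ := by
        conv_rhs => rw [← hQ'z a ha _ hc1]
        conv_lhs => rw [← hak]
        rw [hg']
        simp only [commutatorElement_def]
        group
      have e2 : ∀ t ∈ Q, ⁅k, g * t⁆ = ⁅k, g⁆ * ⁅k, t⁆ := fun t ht => by
        have hc := hQ'c ⁅k, t⁆ (Subgroup.commutator_mem_commutator hk ht) g hg
        have : ⁅k, g * t⁆ = ⁅k, g⁆ * (g * ⁅k, t⁆ * g⁻¹) := by
          simp only [commutatorElement_def]; group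
        rw [this, hc.eq, mul_inv_cancel_right]
      have e3 : ⁅k, g * g'⁆ = 1 := by
        rw [e2 g' hg'Q, e1, ← e2 g⁻¹ (Q.inv_mem hg), mul_inv_cancel, commutatorElement_one_right]
      have e4 : ⁅g, a⁆ = g * g' := by rw [hg', commutatorElement_def]; group
      rw [e4]
      exact (commutatorElement_eq_one_iff_mul_comm.mp e3).symm
    exact (Subgroup.mem_centralizer_singleton_iff.mp (hle (hgen hg))).symm
  -- extension of scalars
  let K := AlgebraicClosure F
  haveI : CharP K p := charP_of_injective_algebraMap (algebraMap F K).injective p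
  let ρ : Representation K H (TensorProduct F K V) :=
    ((Module.End.baseChangeHom F K V).toMonoidHom.comp coeHom).comp H.subtype
  have hfaith : ∀ k ∈ Q, ρ k = 1 → k = 1 := by
    intro k _ hk
    refine Subtype.ext (LinearEquiv.toLinearMap_injective ?_)
    refine LinearMap.baseChangeHom_injective F V K ?_
    show LinearMap.baseChange K ((k : V ≃ₗ[F] V) : V →ₗ[F] V) = LinearMap.baseChange K (1 : Module.End F V)
    rw [LinearMap.baseChange_one]
    exact hk
  have hs : (ρ xH - 1) ^ r = 0 := by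
    show (Module.End.baseChangeHom F K V f - 1) ^ r = 0
    have h := congrArg (Module.End.baseChangeHom F K V) hfr
    simpa only [map_pow, map_sub, map_one, map_zero] using h
  rcases CfsgLib.FgsC.HallHigmanB.bound hpq hQq hfaith hQne
    (hQA (Subgroup.mem_zpowers xH)) hn0 hxHP hgen hcent hs with h | ⟨a, b, han, hb, hbeq, hbs, hne⟩
  · exact Or.inl (le_antisymm hrle h)
  · refine Or.inr ⟨n - a, q, b, by omega, Nat.sub_le n a, hq, hb, hbeq, fun P hP => ?_, ?_⟩
    · obtain ⟨P₀, hP₀⟩ := hQq.exists_le_sylow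
      obtain ⟨g, hg⟩ := MulAction.exists_smul_eq H P₀ P
      obtain ⟨k, hk, l, hl, hne⟩ := hne
      have hm : ∀ t ∈ Q, g * t * g⁻¹ ∈ P := fun t ht => by
        rw [← hg]
        exact ⟨t, hP₀ ht, rfl⟩
      have h := congrArg Subtype.val
        (hP.is_comm.comm (⟨_, hm k hk⟩ : P) ⟨_, hm l hl⟩)
      refine hne ((MulAut.conj g).injective ?_)
      rw [map_mul, map_mul]
      exact h
    · rw [show n - (n - a) = a by omega]
      exact hbs

end Cfsg.Agent.S0633
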