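import Cfsg.Statements.S0075
import Cfsg.Agent.Lib.Transfer.Fusion

set_option autoImplicit false
open Cfsg
open CfsgLib.Transfer Subgroup

namespace Cfsg.Agent.S0075

/-- For an abelian Sylow p-subgroup T, its intersection with the subgroup generated by the elements of order prime to p is the commutator of T with its normalizer. -/
theorem result {G : Type*} [Group G] [Finite G] {p : ℕ} [Fact p.Prime] (T : Sylow p G) (hT : IsMulCommutative T) : (T : Subgroup G) ⊓ Cfsg.pResidual p G = ⁅(T : Subgroup G), Subgroup.normalizer (T : Set G)⁆ := by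
  apply le_antisymm
  · exact (inf_pResidual_le_focalSubgroup T).trans (focalSubgroup_eq_of_isMulCommutative T hT).le
  rw [commutator_le]
  intro t ht n hn
  have hres := pResidual_normal (G := G) (p := p)
  let N : Subgroup G := normalizer ((T : Subgroup G) : Set G)
  let S : Sylow p N := T.subtype le_normalizer
  have hmem : (⟨n, hn⟩ : N) ∈ (S : Subgroup N) ⊔ Cfsg.pResidual p N := by
    rw [sup_pResidual_eq_top]
    exact mem_top _
  have hresN := pResidual_normal (G := N) (p := p)
  obtain ⟨u, hu, c, hc, huc⟩ := mem_sup_of_normal_right.mp hmem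
  have hcG : (c : G) ∈ Cfsg.pResidual p G := map_pResidual_le N.subtype ⟨c, hc, rfl⟩
  have hn' : (u : G) * (c : G) = n := congrArg Subtype.val huc
  have huT : (u : G) ∈ (T : Subgroup G) := hu
  have hcomm : t * u = u * t := congrArg Subtype.val (hT.is_comm.comm ⟨t, ht⟩ ⟨u, huT⟩)
  refine ⟨?_, ?_⟩
  · rw [SetLike.mem_coe, commutatorElement_def, mul_assoc (t * n), mul_assoc t, ← mul_assoc n]
    exact mul_mem ht ((mem_set_normalizer_iff.mp hn _).mp (inv_mem ht))
  · rw [SetLike.mem_coe, commutatorElement_def, ← hn',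
      show t * (↑u * ↑c) * t⁻¹ * (↑u * ↑c)⁻¹ = (t * u) * ((c : G) * t⁻¹ * (↑c)⁻¹ * t) * (t⁻¹ * (↑u)⁻¹) by group,
      show t⁻¹ * (u : G)⁻¹ = ((u : G) * t)⁻¹ by group, ← hcomm]
    refine hres.conj_mem _ ?_ _
    rw [mul_assoc (c : G), mul_assoc (c : G)]
    refine mul_mem hcG ?_
    have := hres.conj_mem _ (inv_mem hcG) t⁻¹
    rwa [inv_inv] at this

end Cfsg.Agent.S0075
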