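import Cfsg.Statements.S3347
import Cfsg.Agent.Lib.SmithTyrer.Reduction
import Cfsg.Agent.Lib.LocalEven.DerivedPLength
import Cfsg.Agent.S0075

set_option autoImplicit false

namespace Cfsg.Agent.S3347

open CfsgLib.SmithTyrer

/-- Let G be a finite group, p an odd prime, and P an abelian, non-cyclic Sylow p-subgroup of G with [N_G(P) : C_G(P)] = 2. Then either O^p(G) is a proper subgroup of G, or G has p-length 1 (G = O_{p',p,p'}(G)). -/
theorem result {G : Type*} [Group G] [Finite G]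
    (p : ℕ) [Fact p.Prime] (hp : p ≠ 2) (P : Sylow p G) (hab : IsMulCommutative (P : Subgroup G)) (hnc : ¬ IsCyclic (P : Subgroup G))
    (hidx : ((Subgroup.centralizer ((P : Subgroup G) : Set G)).subgroupOf (Subgroup.normalizer ((P : Subgroup G) : Set G))).index = 2) :
    Cfsg.pResidual p G ≠ ⊤ ∨ Cfsg.PLengthLE p 1 G := by
  refine or_iff_not_imp_left.2 fun htop => ?_
  rw [not_not] at htop
  have hcomm : ∀ x ∈ (P : Subgroup G), ∀ y ∈ (P : Subgroup G), x * y = y * x := fun x hx y hy =>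
    congrArg Subtype.val (hab.is_comm.comm ⟨x, hx⟩ ⟨y, hy⟩)
  obtain ⟨C, hC⟩ : ∃ C, C = (Subgroup.centralizer ((P : Subgroup G) : Set G)).subgroupOf
      (Subgroup.normalizer ((P : Subgroup G) : Set G)) := ⟨_, rfl⟩
  rw [← hC] at hidx
  obtain ⟨⟨t, htN⟩, htC⟩ : ∃ t, t ∉ C := by
    by_contra hn
    push Not at hn
    rw [(Subgroup.eq_top_iff' C).2 hn, Subgroup.index_top] at hidx
    omega
  have hcent : ∀ (n : Subgroup.normalizer ((P : Subgroup G) : Set G)), n ∈ C →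
      ∀ x ∈ (P : Subgroup G), (n : G) * x * (n : G)⁻¹ = x := fun n hn x hx => by
    rw [hC] at hn
    rw [← Subgroup.mem_centralizer_iff.1 (Subgroup.mem_subgroupOf.1 hn) x hx, mul_inv_cancel_right]
  have hmemP : ∀ x ∈ (P : Subgroup G), t * x * t⁻¹ ∈ (P : Subgroup G) := fun x hx =>
    (Subgroup.mem_set_normalizer_iff.1 htN x).1 hx
  have hnon : ∀ (n : Subgroup.normalizer ((P : Subgroup G) : Set G)), n ∉ C →
      ∀ x ∈ (P : Subgroup G), (n : G) * x * (n : G)⁻¹ = t * x * t⁻¹ := fun n hn x hx => by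
    have hm : (⟨t, htN⟩ : Subgroup.normalizer ((P : Subgroup G) : Set G))⁻¹ * n ∈ C := by
      rw [Subgroup.mul_mem_iff_of_index_two hidx, inv_mem_iff]
      simp [htC, hn]
    have h2 := congrArg (fun y => t * y * t⁻¹) (hcent _ hm x hx)
    simp only [Subgroup.coe_mul, Subgroup.coe_inv] at h2
    rw [← h2]
    group
  -- the set inverted by `t`
  let I : Subgroup G :=
    { carrier := {y | y ∈ (P : Subgroup G) ∧ t * y * t⁻¹ = y⁻¹}
      one_mem' := ⟨one_mem _, by simp⟩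
      mul_mem' := fun {a b} ha hb => ⟨mul_mem ha.1 hb.1, by
        rw [← conj_mul, ha.2, hb.2, hcomm a ha.1 b hb.1, mul_inv_rev]⟩
      inv_mem' := fun {a} ha => ⟨inv_mem ha.1, by rw [← conj_inv, ha.2]⟩ }
  have ht2 : ∀ x ∈ (P : Subgroup G), t * (t * x * t⁻¹) * t⁻¹ = x := fun x hx => by
    have := hcent (⟨t, htN⟩ * ⟨t, htN⟩) (Subgroup.mul_self_mem_of_index_two hidx _) x hx
    simp only [Subgroup.coe_mul, mul_inv_rev] at this
    simp only [mul_assoc] at this ⊢
    exact this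
  have hle : ⁅(P : Subgroup G), Subgroup.normalizer ((P : Subgroup G) : Set G)⁆ ≤ I := by
    rw [Subgroup.commutator_le]
    intro x hx n hn
    rw [commutatorElement_def, show x * n * x⁻¹ * n⁻¹ = x * (n * x⁻¹ * n⁻¹) by group]
    by_cases hnC : (⟨n, hn⟩ : Subgroup.normalizer ((P : Subgroup G) : Set G)) ∈ C
    · rw [hcent ⟨n, hn⟩ hnC x⁻¹ (inv_mem hx), mul_inv_cancel]
      exact one_mem I
    · rw [hnon ⟨n, hn⟩ hnC x⁻¹ (inv_mem hx)]
      refine ⟨mul_mem hx (hmemP _ (inv_mem hx)), ?_⟩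
      rw [← conj_mul, ht2 _ (inv_mem hx), mul_inv_rev, ← conj_inv, inv_inv,
        hcomm (t * x * t⁻¹) (hmemP x hx) x⁻¹ (inv_mem hx)]
  have hinv : ∀ x ∈ (P : Subgroup G), t * x * t⁻¹ = x⁻¹ := fun x hx => by
    have h2 : x ∈ (P : Subgroup G) ⊓ Cfsg.pResidual p G := ⟨hx, htop ▸ Subgroup.mem_top x⟩
    rw [Cfsg.Agent.S0075.result P hab] at h2
    exact (hle h2).2
  have h : InvHyp P := ⟨hcomm, hnc, ⟨t, hinv⟩, fun n hn => by
    by_cases hnC : (⟨n, hn⟩ : Subgroup.normalizer ((P : Subgroup G) : Set G)) ∈ C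
    · rw [hC] at hnC
      exact Or.inl (Subgroup.mem_subgroupOf.1 hnC)
    · exact Or.inr fun x hx => (hnon ⟨n, hn⟩ hnC x hx).trans (hinv x hx)⟩
  refine CfsgLib.LocalEven.QuadDerived.pLengthLE_of_derivedSeries hp 1
    (InvHyp.isPSolvable hp _ G P rfl h) P ?_
  rw [derivedSeries_one, commutator_def, eq_bot_iff, Subgroup.commutator_le]
  intro a _ b _
  rw [Subgroup.mem_bot, commutatorElement_eq_one_iff_mul_comm]
  exact hab.is_comm.comm a b

end Cfsg.Agent.S3347
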