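import Cfsg.Statements.S3331
import Cfsg.Agent.Lib.CharsMore.SCOrder3.Main
import Mathlib

set_option autoImplicit false
set_option linter.style.haveILetI false
open Cfsg

namespace Cfsg.Agent.S3331

/-- Let G be a finite group containing a subgroup X of order 3 with C_G(X) = X. Then one of the following holds: G has a nilpotent normal subgroup N of order prime to 3 with G/N of order 3 or isomorphic to Sym(3); or G has an elementary abelian normal 2-subgroup N with G/N isomorphic to the alternating group of degree 5; or G is isomorphic to PSL(2,7). -/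
theorem result {G : Type*} [Group G] [Finite G]
    (X : Subgroup G) (hX : Nat.card X = 3) (hC : Subgroup.centralizer (X : Set G) = X) :
    (∃ (N : Subgroup G) (hN : N.Normal), Group.IsNilpotent N ∧ (Nat.card N).Coprime 3 ∧
        (Nat.card (G ⧸ N) = 3 ∨ Nonempty (G ⧸ N ≃* Equiv.Perm (Fin 3)))) ∨
    (∃ (N : Subgroup G) (hN : N.Normal), IsMulCommutative N ∧ (∀ n ∈ N, n ^ 2 = 1) ∧
        Nonempty (G ⧸ N ≃* alternatingGroup (Fin 5))) ∨
    Nonempty (G ≃* Matrix.ProjectiveSpecialLinearGroup (Fin 2) (ZMod 7)) := by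
  haveI : Fact (Nat.Prime 3) := ⟨Nat.prime_three⟩
  haveI : IsCyclic X := isCyclic_of_prime_card hX
  obtain ⟨⟨x, hxX⟩, hgen⟩ := IsCyclic.exists_generator (α := X)
  have hord : orderOf x = 3 := by
    rw [← hX, ← orderOf_eq_card_of_forall_mem_zpowers hgen, Subgroup.orderOf_mk]
  have hS : CfsgLib.CharsMore.SCOrder3.SC x := by
    refine ⟨hord, fun g hg => ?_⟩
    have hgX : g ∈ Subgroup.centralizer (X : Set G) := by
      refine Subgroup.mem_centralizer_iff.2 fun y hy => ?_
      obtain ⟨i, hi⟩ := Subgroup.mem_zpowers_iff.1 (hgen ⟨y, hy⟩)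
      have e : x ^ i = y := congrArg Subtype.val hi
      rw [← e]
      exact (hg.zpow_right i).eq.symm
    rw [hC] at hgX
    obtain ⟨i, hi⟩ := Subgroup.mem_zpowers_iff.1 (hgen ⟨g, hgX⟩)
    have e : x ^ i = g := congrArg Subtype.val hi
    rw [← e, ← zpow_mod_orderOf, hord]
    rcases (show i % 3 = 0 ∨ i % 3 = 1 ∨ i % 3 = 2 by omega) with e | e | e <;>
      (push_cast; rw [e])
    · left; exact zpow_zero x
    · right; left; exact zpow_one x
    · right; right; exact zpow_natCast x 2
  exact hS.classification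

end Cfsg.Agent.S3331
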