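import Cfsg.Statements.S0714
import Cfsg.Agent.Lib.Perm.Module

set_option autoImplicit false
open Cfsg

namespace Cfsg.Agent.S0714

/-- Over any field, the permutation module of the alternating group of degree at least 5 has exactly four invariant subspaces: zero, the constant functions, the functions with coordinate sum zero, and everything. -/
theorem result {α : Type*} [Fintype α] [DecidableEq α] (hα : 5 ≤ Fintype.card α) {K : Type*} [Field K] (W : Subrepresentation (Cfsg.permRep K (alternatingGroup α) α)) : W.toSubmodule = ⊥ ∨ W = Cfsg.permConstants K (alternatingGroup α) α ∨ W = Cfsg.permSumZero K (alternatingGroup α) α ∨ W.toSubmodule = ⊤ := by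
  classical
  let A := alternatingGroup α
  have hperm : ∀ (g : Equiv.Perm α) (_ : g ∈ A), ∀ w ∈ W.toSubmodule,
      (fun x => w (g x)) ∈ W.toSubmodule := fun g hg w hw =>
    W.apply_mem_toSubmodule (⟨g, hg⟩ : A)⁻¹ hw
  by_cases hconst : ∀ v ∈ W.toSubmodule, ∀ x y : α, v x = v y
  · by_cases hbot : W.toSubmodule = ⊥
    · exact Or.inl hbot
    · refine Or.inr (Or.inl (Subrepresentation.toSubmodule_injective (le_antisymm ?_ ?_)))
      · intro v hv
        obtain ⟨a⟩ : Nonempty α := Fintype.card_pos_iff.1 (by omega)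
        exact CfsgLib.Perm.mem_permConstants.2 ⟨v a, fun x => hconst v hv x a⟩
      · intro u hu
        obtain ⟨c, hc⟩ := CfsgLib.Perm.mem_permConstants.1 hu
        obtain ⟨v, hv, hv0⟩ := Submodule.exists_mem_ne_zero_of_ne_bot hbot
        obtain ⟨a, ha⟩ : ∃ a, v a ≠ 0 := Function.ne_iff.1 hv0
        have : u = (c / v a) • v := funext fun x => by
          simp [hc x, hconst v hv x a, div_mul_cancel₀ _ ha]
        rw [this]
        exact W.toSubmodule.smul_mem _ hv
  push Not at hconst
  obtain ⟨v, hv, a, b, hab⟩ := hconst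
  have hab' : a ≠ b := fun h => hab (by rw [h])
  have hout : ∀ s : Finset α, s.card ≤ 4 → ∃ z, z ∉ s := fun s hs => by
    by_contra! hc
    have := Finset.card_le_card (fun x _ => hc x : Finset.univ ⊆ s)
    rw [Finset.card_univ] at this
    omega
  have h4 : ∀ u x y z : α, ({u, x, y, z} : Finset α).card ≤ 4 := fun u x y z =>
    Finset.card_le_four
  -- a difference of two unit vectors
  have hdiff : ∃ p q : α, p ≠ q ∧ (Pi.single p (1 : K) - Pi.single q 1 : α → K) ∈ W.toSubmodule := by
    obtain ⟨c, hc⟩ := hout {a, b, a, b} (h4 _ _ _ _)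
    simp only [Finset.mem_insert, Finset.mem_singleton, not_or] at hc
    let g : Equiv.Perm α := Equiv.swap a b * Equiv.swap b c
    have hgA : g ∈ A := by simp [A, g, hab', Ne.symm hc.2.1]
    let w : α → K := (fun x => v (g x)) - v
    have hw : w ∈ W.toSubmodule := W.toSubmodule.sub_mem (hperm g hgA v hv) hv
    have hgsupp : ∀ x, x ≠ a → x ≠ b → x ≠ c → g x = x := fun x h1 h2 h3 => by
      simp [g, Equiv.swap_apply_of_ne_of_ne, h1, h2, h3]
    have hga : g a = b := by
      simp [g, Equiv.swap_apply_of_ne_of_ne hab' (Ne.symm hc.1)]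
    have hgb : g b = c := by
      simp [g, Equiv.swap_apply_of_ne_of_ne hc.1 hc.2.1]
    have hgc : g c = a := by simp [g]
    have hwa : w a ≠ 0 := by simp [w, hga, sub_ne_zero, Ne.symm hab]
    have hwsupp : ∀ x, x ≠ a → x ≠ b → x ≠ c → w x = 0 := fun x h1 h2 h3 => by
      simp [w, hgsupp x h1 h2 h3]
    -- a double transposition swapping `p, q` and `r, s`
    have hstep : ∀ p q r s : α, p ≠ q → r ≠ s → r ≠ p → r ≠ q → s ≠ p → s ≠ q → w r = w s →
        w p ≠ w q → (Pi.single p (1 : K) - Pi.single q 1 : α → K) ∈ W.toSubmodule := by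
      intro p q r s hpq hrs hrp hrq hsp hsq hwrs hwpq
      let h : Equiv.Perm α := Equiv.swap p q * Equiv.swap r s
      have hh : h ∈ A := by simp [A, h, hpq, hrs]
      have hd : (fun x => w (h x)) - w = (w q - w p) • (Pi.single p (1 : K) - Pi.single q 1 : α → K) := by
        funext x
        simp only [Pi.sub_apply, Pi.smul_apply, smul_eq_mul, h, Equiv.Perm.mul_apply,
          Pi.single_apply]
        by_cases hxp : x = p
        · subst hxp
          rw [Equiv.swap_apply_of_ne_of_ne hrp.symm hsp.symm, Equiv.swap_apply_left, if_pos rfl,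
            if_neg hpq]
          ring
        by_cases hxq : x = q
        · subst hxq
          rw [Equiv.swap_apply_of_ne_of_ne hrq.symm hsq.symm, Equiv.swap_apply_right, if_pos rfl,
            if_neg hxp]
          ring
        rw [if_neg hxp, if_neg hxq, sub_zero, mul_zero]
        by_cases hxr : x = r
        · subst hxr
          rw [Equiv.swap_apply_left, Equiv.swap_apply_of_ne_of_ne hsp hsq, hwrs, sub_self]
        by_cases hxs : x = s
        · subst hxs
          rw [Equiv.swap_apply_right, Equiv.swap_apply_of_ne_of_ne hrp hrq, hwrs, sub_self]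
        rw [Equiv.swap_apply_of_ne_of_ne hxr hxs, Equiv.swap_apply_of_ne_of_ne hxp hxq, sub_self]
      have hmem := W.toSubmodule.sub_mem (hperm h hh w hw) hw
      rw [hd] at hmem
      have := W.toSubmodule.smul_mem (w q - w p)⁻¹ hmem
      rwa [inv_smul_smul₀ (sub_ne_zero.2 (Ne.symm hwpq))] at this
    obtain ⟨d, hd⟩ := hout {a, b, c, a} (h4 _ _ _ _)
    obtain ⟨e, he⟩ := hout {a, b, c, d} (h4 _ _ _ _)
    simp only [Finset.mem_insert, Finset.mem_singleton, not_or] at hd he
    have hwd := hwsupp d hd.1 hd.2.1 hd.2.2.1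
    have hwe := hwsupp e he.1 he.2.1 he.2.2.1
    by_cases h1 : w a = w b
    · by_cases h2 : w b = w c
      · refine ⟨a, d, Ne.symm hd.1, hstep a d b c (Ne.symm hd.1) (Ne.symm hc.2.1) (Ne.symm hab')
          (Ne.symm hd.2.1) hc.1 (Ne.symm hd.2.2.1) h2 ?_⟩
        rw [hwd]; exact hwa
      · exact ⟨b, c, Ne.symm hc.2.1, hstep b c d e (Ne.symm hc.2.1) (Ne.symm he.2.2.2) hd.2.1
          hd.2.2.1 he.2.1 he.2.2.1 (hwd.trans hwe.symm) h2⟩
    · exact ⟨a, b, hab', hstep a b d e hab' (Ne.symm he.2.2.2) hd.1 hd.2.1 he.1 he.2.1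
        (hwd.trans hwe.symm) h1⟩
  obtain ⟨p, q, hpq, hpqW⟩ := hdiff
  have : MulAction.IsMultiplyPretransitive A α 2 := by
    have := alternatingGroup.isMultiplyPretransitive α
    exact MulAction.isMultiplyPretransitive_of_le (n := Nat.card α - 2)
      (by rw [Nat.card_eq_fintype_card]; omega) (Nat.sub_le _ _)
  have hall : ∀ x y : α, (Pi.single x (1 : K) - Pi.single y 1 : α → K) ∈ W.toSubmodule := by
    intro x y
    by_cases hxy : x = y
    · rw [hxy, sub_self]; exact W.toSubmodule.zero_mem
    obtain ⟨g, hgp, hgq⟩ := MulAction.is_two_pretransitive_iff.1 this hpq hxy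
    have := W.apply_mem_toSubmodule g hpqW
    rwa [map_sub, CfsgLib.Perm.permRep_single, CfsgLib.Perm.permRep_single, hgp, hgq] at this
  have hU : (Cfsg.permSumZero K A α).toSubmodule ≤ W.toSubmodule := by
    intro u hu
    have : u = ∑ x, u x • (Pi.single x (1 : K) - Pi.single p 1 : α → K) := by
      simp only [smul_sub, Finset.sum_sub_distrib, ← Finset.sum_smul,
        CfsgLib.Perm.mem_permSumZero.1 hu, zero_smul, sub_zero]
      funext y
      simp [Finset.sum_apply, Pi.single_apply]
    rw [this]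
    exact Submodule.sum_mem _ fun x _ => W.toSubmodule.smul_mem _ (hall x p)
  by_cases hWU : W.toSubmodule ≤ (Cfsg.permSumZero K A α).toSubmodule
  · exact Or.inr (Or.inr (Or.inl (Subrepresentation.toSubmodule_injective (le_antisymm hWU hU))))
  · refine Or.inr (Or.inr (Or.inr (eq_top_iff.2 fun u _ => ?_)))
    obtain ⟨z, hzW, hzU⟩ := SetLike.not_le_iff_exists.1 hWU
    rw [CfsgLib.Perm.mem_permSumZero] at hzU
    have hmem : u - ((∑ x, u x) / ∑ x, z x) • z ∈ W.toSubmodule := hU (by
      rw [CfsgLib.Perm.mem_permSumZero]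
      simp [Finset.sum_sub_distrib, ← Finset.mul_sum, div_mul_cancel₀ _ hzU])
    simpa using W.toSubmodule.add_mem hmem (W.toSubmodule.smul_mem ((∑ x, u x) / ∑ x, z x) hzW)

end Cfsg.Agent.S0714
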