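import Cfsg.Statements.S0084
import Cfsg.Agent.Lib.Transfer.AbelianSylow

set_option autoImplicit false
open Cfsg
open Subgroup CfsgLib.Transfer

namespace Cfsg.Agent.S0084

/-- A group whose Sylow 2-subgroups are Klein four-groups and whose order is prime to 3 has a normal 2-complement. -/
theorem result {G : Type*} [Group G] [Finite G] (T : Sylow 2 G) (hT : IsKleinFour T) (h3 : ¬ 3 ∣ Nat.card G) : Cfsg.HasNormalPComplement 2 G := by
  by_contra hno
  obtain ⟨q, hq, hq2, hqG, j, hj1, hj2, hqj⟩ := exists_prime_dvd_of_not_hasNormalPComplement T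
    (IsPGroup.isMulCommutative_of_card_eq_prime_sq (p := 2) hT.card_four) hno (a := 2) hT.card_four
  rcases (show j = 1 ∨ j = 2 by omega) with rfl | rfl
  · exact hq.ne_one (Nat.dvd_one.mp hqj)
  · exact h3 ((Nat.prime_dvd_prime_iff_eq hq Nat.prime_three).mp hqj ▸ hqG)

end Cfsg.Agent.S0084
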