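import Cfsg.Statements.S0203
import Cfsg.Agent.Lib.Involutions.KleinSylow

set_option autoImplicit false
open Cfsg

namespace Cfsg.Agent.S0203

/-- If a Sylow 2-subgroup P of a finite group G is a Klein four-group, then G has three classes of involutions if and only if P has a normal complement in G. -/
theorem result {G : Type*} [Group G] [Finite G] (P : Sylow 2 G) (hP : IsKleinFour (P : Subgroup G)) : Nat.card {C : ConjClasses G // ∃ t : G, orderOf t = 2 ∧ ConjClasses.mk t = C} = 3 ↔ ∃ N : Subgroup G, N.Normal ∧ Subgroup.IsComplement' N (P : Subgroup G) := by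
  open CfsgLib.Involutions in
  rcases card_involution_classes P hP with ⟨h1, hall⟩ | ⟨h3, hall⟩
  · refine iff_of_false (by omega) ?_
    rintro ⟨N, hN, hc⟩
    -- three involutions cannot be conjugate when `P` has a normal complement
    have h4 : Nat.card (P : Subgroup G) = 4 := IsKleinFour.card_four
    obtain ⟨t, u, ht1, hu1, htu⟩ : ∃ t u : (P : Subgroup G), t ≠ 1 ∧ u ≠ 1 ∧ t ≠ u := by
      classical
      have : Fintype (P : Subgroup G) := Fintype.ofFinite _
      have hcard : ({1} : Finset (P : Subgroup G))ᶜ.card = 3 := by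
        rw [Finset.card_compl, ← Nat.card_eq_fintype_card, h4, Finset.card_singleton]
      obtain ⟨t, u, ht, hu, htu⟩ := Finset.one_lt_card_iff.1 (by omega : 1 < ({1} : Finset (P : Subgroup G))ᶜ.card)
      simp at ht hu
      exact ⟨t, u, ht, hu, htu⟩
    obtain ⟨g, hg⟩ := isConj_iff.1 (hall _ t.2 _ u.2 (fun h => ht1 (Subtype.ext h))
      (fun h => hu1 (Subtype.ext h)))
    obtain ⟨⟨a, b⟩, hab⟩ := (Subgroup.isComplement'_def.1 hc).2 g
    have hmem : (u : G) * (t : G)⁻¹ ∈ N ⊓ (P : Subgroup G) := by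
      refine ⟨?_, Subgroup.mul_mem _ u.2 (Subgroup.inv_mem _ t.2)⟩
      have hb : (b : G) * t * (b : G)⁻¹ = t := by
        rw [klein_comm hP b.2 t.2, mul_inv_cancel_right]
      rw [← hg, ← hab]
      simp only at hab ⊢
      rw [show (a : G) * b * t * ((a : G) * b)⁻¹ * (t : G)⁻¹ = (a : G) * (((b : G) * t * (b : G)⁻¹) * (a : G)⁻¹ * (t : G)⁻¹) by group, hb]
      exact N.mul_mem a.2 (hN.conj_mem _ (N.inv_mem a.2) t)
    rw [hc.disjoint.eq_bot, Subgroup.mem_bot, mul_inv_eq_one] at hmem
    exact htu (Subtype.ext hmem.symm)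
  · refine iff_of_true h3 ?_
    have hPc : Subgroup.normalizer ((P : Subgroup G) : Set G)
        ≤ Subgroup.centralizer ((P : Subgroup G) : Set G) := by
      intro n hn v hv
      have hv' := (Subgroup.mem_normalizer_iff.1 hn v).1 hv
      have := hall v hv _ hv' (isConj_iff.2 ⟨n, rfl⟩)
      calc v * n = (n * v * n⁻¹) * n := by rw [← this]
        _ = n * v := by group
    exact ⟨_, MonoidHom.normal_ker _, MonoidHom.ker_transferSylow_isComplement' P hPc⟩

end Cfsg.Agent.S0203
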