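import Cfsg.Statements.S0253
import Cfsg.Agent.Lib.Classical.PSLSimple
import Cfsg.Agent.Lib.Small.Order60


set_option autoImplicit false
open Cfsg

namespace Cfsg.Agent.S0253

/-- PSL_2(5) is isomorphic to A_5. -/
theorem result {F : Type*} [Field F] [Fintype F] (hF : Fintype.card F = 5) : Nonempty (Matrix.ProjectiveSpecialLinearGroup (Fin 2) F ≃* alternatingGroup (Fin 5)) := by
  rw [← Nat.card_eq_fintype_card] at hF
  have := CfsgLib.Classical.isSimpleGroup_PSL_fin (F := F) 2 le_rfl (fun _ => by rw [hF]; norm_num)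
  exact CfsgLib.Small.equiv_alternating_five (by rw [CfsgLib.Classical.card_PSL_two, hF]; rfl)

end Cfsg.Agent.S0253
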