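import Cfsg.Statements.S1018
import Cfsg.Agent.Lib.Small.Basic
import Cfsg.Agent.Lib.Small.SylowInter

set_option autoImplicit false
open Cfsg

namespace Cfsg.Agent.S1018

/-- Let P be a Sylow p-subgroup of order p of a finite group G, and consider the action of G on the left cosets of the normalizer N of P. Then every element of order p fixes exactly one coset, and an element of N that does not centralize P fixes at most as many cosets as there are orbits of P. -/
theorem result {G : Type*} [Group G] [Finite G] (p : ℕ) [Fact p.Prime] (P : Sylow p G) (hP : Nat.card ↥(P : Subgroup G) = p) : (∀ y : G, orderOf y = p → Nat.card (MulAction.fixedBy (G ⧸ Subgroup.normalizer ((P : Subgroup G) : Set G)) y) = 1) ∧ ∀ x : G, x ∈ Subgroup.normalizer ((P : Subgroup G) : Set G) → x ∉ Subgroup.centralizer ((P : Subgroup G) : Set G) → Nat.card (MulAction.fixedBy (G ⧸ Subgroup.normalizer ((P : Subgroup G) : Set G)) x) ≤ Nat.card (MulAction.orbitRel.Quotient ↥(P : Subgroup G) (G ⧸ Subgroup.normalizer ((P : Subgroup G) : Set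 G))) := by
  classical
  open Subgroup in
  have hp := (Fact.out : p.Prime)
  set N := Subgroup.normalizer ((P : Subgroup G) : Set G) with hN
  have hgen : ∀ (Q : Sylow p G) (y : G), orderOf y = p → y ∈ Subgroup.normalizer ((Q : Subgroup G) : Set G) →
      zpowers y = (Q : Subgroup G) := by
    intro Q y hy hyN
    have hpy : IsPGroup p (zpowers y) :=
      IsPGroup.of_card (n := 1) (by rw [Nat.card_zpowers, hy, pow_one])
    have hle : zpowers y ≤ (Q : Subgroup G) :=
      le_sup_left.trans (Q.is_maximal'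
        (hpy.to_sup_of_normal_right' Q.isPGroup' (zpowers_le.mpr hyN)) le_sup_right).le
    refine Subgroup.eq_of_le_of_card_ge hle ?_
    rw [Nat.card_zpowers, hy, CfsgLib.Small.card_sylow_congr Q P, hP]
  have hfix : ∀ (y g : G), ((g : G ⧸ N) ∈ MulAction.fixedBy (G ⧸ N) y) ↔ g⁻¹ * y * g ∈ N := by
    intro y g
    rw [MulAction.mem_fixedBy, MulAction.Quotient.smul_coe, smul_eq_mul, QuotientGroup.eq,
      ← N.inv_mem_iff]
    simp [mul_assoc]
  have huniq : ∀ y : G, orderOf y = p → ∀ a b : G ⧸ N, a ∈ MulAction.fixedBy (G ⧸ N) y →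
      b ∈ MulAction.fixedBy (G ⧸ N) y → a = b := by
    intro y hy a b
    induction a using QuotientGroup.induction_on with | H g => ?_
    induction b using QuotientGroup.induction_on with | H k => ?_
    intro hg hk
    rw [hfix] at hg hk
    have key : ∀ g : G, g⁻¹ * y * g ∈ N → ((g • P : Sylow p G) : Subgroup G) = zpowers y := by
      intro g hg
      refine (hgen (g • P) y hy ?_).symm
      have hmem : g⁻¹ * y * g ∈ (P : Subgroup G) := by
        have ho : orderOf (g⁻¹ * y * g) = p := by
          rw [← hy]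
          simpa using MulEquiv.orderOf_eq (MulAut.conj g⁻¹) y
        exact hgen P _ ho hg ▸ mem_zpowers _
      exact le_normalizer ((CfsgLib.Small.mem_smul_sylow g P y).mpr hmem)
    have e : g • P = k • P := Sylow.ext ((key g hg).trans (key k hk).symm)
    rw [QuotientGroup.eq]
    refine Sylow.smul_eq_iff_mem_normalizer.mp ?_
    rw [mul_smul, ← e, inv_smul_smul]
  have hbase : ∀ u ∈ (P : Subgroup G), ((1 : G) : G ⧸ N) ∈ MulAction.fixedBy (G ⧸ N) u := by
    intro u hu
    rw [hfix]
    simp only [inv_one, one_mul, mul_one]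
    exact le_normalizer hu
  refine ⟨fun y hy => ?_, fun x hx hxC => ?_⟩
  · obtain ⟨Q, hQ⟩ := (IsPGroup.of_card (p := p) (n := 1)
      (show Nat.card (zpowers y) = p ^ 1 by rw [Nat.card_zpowers, hy, pow_one])).exists_le_sylow
    obtain ⟨g, rfl⟩ := MulAction.exists_smul_eq G P Q
    have hmem : ((g : G) : G ⧸ N) ∈ MulAction.fixedBy (G ⧸ N) y :=
      (hfix y g).mpr (le_normalizer
        ((CfsgLib.Small.mem_smul_sylow g P y).mp (hQ (mem_zpowers y))))
    rw [Nat.card_eq_one_iff_unique]
    exact ⟨⟨fun a b => Subtype.ext (huniq y hy a b a.2 b.2)⟩, ⟨⟨_, hmem⟩⟩⟩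
  · refine Nat.card_le_card_of_injective
      (fun a : MulAction.fixedBy (G ⧸ N) x => Quotient.mk'' (a : G ⧸ N)) ?_
    rintro ⟨a, ha⟩ ⟨b, hb⟩ e
    apply Subtype.ext
    show a = b
    obtain ⟨u, hu⟩ := Quotient.eq''.mp e
    change (u : G) • b = a at hu
    rw [MulAction.mem_fixedBy] at ha hb
    set w := (u : G)⁻¹ * (x * u * x⁻¹) with hw
    have hwP : w ∈ (P : Subgroup G) := mul_mem (inv_mem u.2) ((hx (u : G)).mp u.2)
    have hwb : w • b = b := by
      have hxi : x⁻¹ • b = b := inv_smul_eq_iff.mpr hb.symm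
      rw [hw, mul_smul, mul_smul, mul_smul, hxi, hu, ha, inv_smul_eq_iff, hu]
    have hord : ∀ v ∈ (P : Subgroup G), v ≠ 1 → orderOf v = p := by
      intro v hv hv1
      rcases (Nat.dvd_prime hp).mp (hP ▸ Subgroup.orderOf_dvd_natCard _ hv) with h | h
      · exact absurd (orderOf_eq_one_iff.mp h) hv1
      · exact h
    by_cases hu1 : (u : G) = 1
    · rw [hu1, one_smul] at hu; exact hu.symm
    have hw1 : w ≠ 1 := by
      intro hw1
      apply hxC
      rw [← hgen P u (hord u u.2 hu1) (le_normalizer u.2), mem_centralizer_iff]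
      rintro z ⟨k, rfl⟩
      have hc : x * u = u * x := mul_inv_eq_iff_eq_mul.mp (inv_mul_eq_one.mp hw1).symm
      exact ((Commute.symm hc).zpow_left k).eq
    have hb1 : b = ((1 : G) : G ⧸ N) :=
      huniq w (hord w hwP hw1) b _ hwb (hbase w hwP)
    have hub : (u : G) • b = b := by
      rw [hb1]; exact hbase u u.2
    rw [← hu, hub]

end Cfsg.Agent.S1018
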