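import Cfsg.Statements.S0998
import Cfsg.Agent.S0253
import Cfsg.Agent.Lib.Small.OrderFifteenTwoPower

set_option autoImplicit false
open Cfsg

namespace Cfsg.Agent.S0998

/-- A non-cyclic finite simple group whose order has the form p * r * q^b for distinct primes p, q, r is isomorphic to the projective special linear group of dimension 2 over the field with 5 or with 7 elements. -/
theorem result {G : Type*} [Group G] [Finite G] [IsSimpleGroup G] (hG : ¬ IsCyclic G) (p q r b : ℕ) (hp : p.Prime) (hq : q.Prime) (hr : r.Prime) (hpq : p ≠ q) (hpr : p ≠ r) (hqr : q ≠ r) (hG' : Nat.card G = p * r * q ^ b) : (∃ (F : Type) (_ : Field F) (_ : Fintype F), Fintype.card F = 5 ∧ Nonempty (G ≃* Matrix.ProjectiveSpecialLinearGroup (Fin 2) F)) ∨ (∃ (F : Type) (_ : Field F) (_ : Fintype F), Fintype.card F = 7 ∧ Nonempty (G ≃* Matrix.ProjectiveSpecialLinearGroup (Fin 2) F)) := by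
  classical
  have hnc : ¬ IsMulCommutative G := fun h => hG (by
    letI : CommGroup G := { ‹Group G› with mul_comm := h.is_comm.comm }
    haveI := IsSimpleGroup.isCyclic (α := G)
    assumption)
  have heven : 2 ∣ Nat.card G := by
    by_contra h
    haveI : Group.IsSolvable G := CfsgLib.FT.isSolvable_of_odd (Nat.odd_iff.2 (by omega))
    exact hnc ⟨⟨fun x y => IsSimpleGroup.comm_iff_isSolvable.2 inferInstance x y⟩⟩
  have h4 := CfsgLib.Small.four_dvd_of_even hnc (even_iff_two_dvd.2 heven)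
  have hdiv : ∀ {s : ℕ}, s.Prime → ∀ t u, s ≠ t → s ≠ u → t.Prime → u.Prime → ¬ s * s ∣ s * t * u ^ b := by
    intro s hs t u hst hsu ht hu h
    rw [mul_assoc] at h
    rcases hs.dvd_mul.1 (Nat.dvd_of_mul_dvd_mul_left hs.pos h) with h | h
    · exact hst ((Nat.prime_dvd_prime_iff_eq hs ht).1 h)
    · exact hsu ((Nat.prime_dvd_prime_iff_eq hs hu).1 (hs.dvd_of_dvd_pow h))
  have hq2 : q = 2 := by
    rw [hG'] at heven h4
    rcases Nat.prime_two.dvd_mul.1 heven with h | h
    · rcases Nat.prime_two.dvd_mul.1 h with h | h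
      · exfalso
        obtain rfl := (Nat.prime_dvd_prime_iff_eq Nat.prime_two hp).1 h
        exact hdiv Nat.prime_two r q hpr hpq hr hq h4
      · exfalso
        obtain rfl := (Nat.prime_dvd_prime_iff_eq Nat.prime_two hr).1 h
        exact hdiv Nat.prime_two p q hpr.symm hqr.symm hp hq (by rw [Nat.mul_comm 2 p]; exact h4)
    · exact ((Nat.prime_dvd_prime_iff_eq Nat.prime_two hq).1 (Nat.prime_two.dvd_of_dvd_pow h)).symm
  subst hq2
  have hmain : Nat.card G = 60 ∨ ∃ n : ℕ, ∃ _ : Fact n.Prime, n = 7 ∧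
      Nonempty (G ≃* Matrix.ProjectiveSpecialLinearGroup (Fin 2) (ZMod n)) := by
    rcases Nat.lt_or_ge p r with hlt | hge
    · rcases CfsgLib.Small.card_cases_prq hnc hp hr hpq hlt hG' with h | ⟨h, e⟩
      · exact Or.inl h
      · exact Or.inr ⟨r, ⟨hr⟩, h, e⟩
    · rcases CfsgLib.Small.card_cases_prq hnc hr hp hqr.symm (by omega)
        (show Nat.card G = r * p * 2 ^ b by rw [hG']; ring) with h | ⟨h, e⟩
      · exact Or.inl h
      · exact Or.inr ⟨p, ⟨hp⟩, h, e⟩
  rcases hmain with h | ⟨n, hn, h7, e⟩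
  · obtain ⟨e⟩ := CfsgLib.Small.equiv_alternating_five h
    haveI : Fact (Nat.Prime 5) := ⟨Nat.prime_five⟩
    obtain ⟨j⟩ := Agent.S0253.result (F := ZMod 5) (ZMod.card 5)
    exact Or.inl ⟨ZMod 5, inferInstance, inferInstance, ZMod.card 5, ⟨e.trans j.symm⟩⟩
  · haveI := hn
    exact Or.inr ⟨ZMod n, inferInstance, inferInstance, (ZMod.card n).trans h7, e⟩

end Cfsg.Agent.S0998
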