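import Cfsg.Statements.S0999
import Cfsg.Agent.Lib.Brauer43.Main

set_option autoImplicit false
open Cfsg

namespace Cfsg.Agent.S0999

/-- Let G be a non-cyclic finite simple group and p a prime divisor of its order with p^3 > |G|. Then p > 3 and G is isomorphic to the projective special linear group of dimension 2 over the field with p elements, or p - 1 is a power of 2 and G is isomorphic to that group over the field with p - 1 elements. -/
theorem result {G : Type*} [Group G] [Finite G] [IsSimpleGroup G] (hG : ¬ IsCyclic G) (p : ℕ) (hp : p.Prime) (hdvd : p ∣ Nat.card G) (hbig : Nat.card G < p ^ 3) : (∃ (F : Type) (_ : Field F) (_ : Fintype F), Fintype.card F = p ∧ 3 < p ∧ Nonempty (G ≃* Matrix.ProjectiveSpecialLinearGroup (Fin 2) F)) ∨ (∃ (m : ℕ) (F : Type) (_ : Field F) (_ : Fintype F), Fintype.card F = 2 ^ m ∧ p = 2 ^ m + 1 ∧ 3 < p ∧ Nonempty (G ≃* Matrix.ProjectiveSpecialLinearGroup (Fin 2) F)) := by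
  haveI := Fact.mk hp
  have hperf : commutator G = ⊤ := (IsSimpleGroup.eq_bot_or_eq_top_of_normal _ inferInstance).resolve_left fun h => hG <| by
    have hc : ∀ a b : G, a * b = b * a := fun a b =>
      commutatorElement_eq_one_iff_mul_comm.1 (Subgroup.mem_bot.1 (h ▸ Subgroup.commutator_mem_commutator (Subgroup.mem_top a) (Subgroup.mem_top b)))
    letI : CommGroup G := { (inferInstance : Group G) with mul_comm := hc }
    exact IsSimpleGroup.isCyclic
  obtain ⟨P⟩ : Nonempty (Sylow p G) := inferInstance
  have hnG : Nat.card G ≠ p := fun h => hG (isCyclic_of_prime_card h)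
  have hP : ¬ (P : Subgroup G).Normal := fun hn => by
    rcases IsSimpleGroup.eq_bot_or_eq_top_of_normal _ hn with h | h
    · exact P.not_dvd_index (by rw [h, Subgroup.index_bot]; exact hdvd)
    · haveI : Nontrivial G := inferInstance
      have hp' : IsPGroup p G := (h ▸ P.isPGroup' : IsPGroup p (⊤ : Subgroup G)).of_equiv Subgroup.topEquiv
      have hc := hp'.center_nontrivial
      rcases IsSimpleGroup.eq_bot_or_eq_top_of_normal (Subgroup.center G) inferInstance with h' | h'
      · exact (Subgroup.nontrivial_iff_ne_bot _).1 hc h'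
      · letI : CommGroup G := { (inferInstance : Group G) with
          mul_comm := fun a b => Subgroup.mem_center_iff.1 (h'.ge (Subgroup.mem_top b)) a }
        exact hG IsSimpleGroup.isCyclic
  have h2 : ∀ N : Subgroup G, N.Normal → Nat.card N ≠ 2 := fun N hN hc => by
    rcases IsSimpleGroup.eq_bot_or_eq_top_of_normal N hN with h | h
    · rw [h, Subgroup.card_bot] at hc; omega
    · rw [h, Subgroup.card_top] at hc
      exact hG (haveI := Fact.mk Nat.prime_two; isCyclic_of_prime_card hc)
  rcases CfsgLib.Brauer43.large_prime hperf hdvd hbig P hP h2 with h | ⟨m, F, hF, hF', h1, h2, h3, ⟨i⟩⟩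
  · exact Or.inl h
  · haveI : CharP F 2 := by
      have hm : m ≠ 0 := fun h => by rw [h] at h2; omega
      have : ringChar F = 2 := FiniteField.even_card_iff_char_two.2 (by
        rw [h1]; exact Nat.even_iff.1 (Nat.even_pow.2 ⟨even_two, hm⟩))
      exact this ▸ ringChar.charP F
    exact Or.inr ⟨m, F, hF, hF', h1, h2, h3, ⟨i.trans CfsgLib.Recog.pslEquivSL⟩⟩

end Cfsg.Agent.S0999
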