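import Cfsg.Statements.S0496
import Cfsg.Agent.Lib.Small.SmallSieve
import Cfsg.Agent.Lib.Small.Order720

set_option autoImplicit false
open Cfsg

namespace Cfsg.Agent.S0496

open CfsgLib.Small

universe u

theorem left_over : ∀ n ∈ Finset.range 1093, (4 ∣ n ∧ n ∣ 210 ^ 11 ∧ ¬ n ∣ (2 * 3) ^ 11 ∧
    ¬ n ∣ (2 * 5) ^ 11 ∧ ¬ n ∣ (2 * 7) ^ 11 ∧ ¬ n ∣ 15 * 2 ^ 11 ∧ ¬ n ∣ 21 * 2 ^ 11 ∧
    ¬ n ∣ 35 * 2 ^ 11 ∧ (¬ 7 ∣ n ∨ 343 ≤ n)) →
    n ∈ [180, 300, 360, 420, 504, 540, 588, 600, 700, 720, 756, 840, 900, 980, 1008, 1080] := by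
  decide +kernel

variable {G : Type u} [Group G] [Finite G] [IsSimpleGroup G]

theorem p_r_two_pow (hG : ¬ IsMulCommutative G) {p r : ℕ} (hp : p.Prime) (hr : r.Prime)
    (hpr : p ≠ r) (hp2 : p ≠ 2) (hr2 : r ≠ 2) (h : Nat.card G ∣ p * r * 2 ^ 11) :
    Nat.card G = 60 ∨ Nat.card G = 168 := by
  have hp' : p ∣ Nat.card G := by
    by_contra hd
    refine not_dvd_two_primes hG Nat.prime_two hr 11 ?_
    have h1 := ((hp.coprime_iff_not_dvd.2 hd).symm).dvd_of_dvd_mul_left (mul_assoc p r _ ▸ h)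
    refine h1.trans ?_
    rw [mul_pow, mul_comm (2 ^ 11)]
    exact Nat.mul_dvd_mul_right (dvd_pow_self r (by norm_num)) _
  obtain ⟨k, hk⟩ := hp'
  rw [hk, mul_assoc] at h
  have h' := Nat.dvd_of_mul_dvd_mul_left hp.pos h
  have hr' : r ∣ k := by
    by_contra hd
    refine not_dvd_two_primes hG Nat.prime_two hp 11 ?_
    have h1 := ((hr.coprime_iff_not_dvd.2 hd).symm).dvd_of_dvd_mul_left h'
    rw [hk, mul_pow, mul_comm (2 ^ 11)]
    exact Nat.mul_dvd_mul (dvd_pow_self p (by norm_num)) h1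
  obtain ⟨l, hl⟩ := hr'
  rw [hl] at h'
  obtain ⟨b, -, hb⟩ := (Nat.dvd_prime_pow Nat.prime_two).1 (Nat.dvd_of_mul_dvd_mul_left hr.pos h')
  exact card_of_p_r_two_pow (fun hc => hG hc.isMulCommutative) hp hr hpr hp2 hr2
    (b := b) (by rw [hk, hl, hb]; ring)

theorem ne_five_one (hG : ¬ IsMulCommutative G) {a b : ℕ} {N : ℕ} (hN : Nat.card G = N)
    (hab : N = 2 ^ a * 3 ^ b * 5)
    (key : ∀ e ∈ Nat.divisors 4, 1 < e → ∀ n ≤ N, n % 5 = 1 → n * (5 * e) ≠ N) : False := by
  haveI := Fintype.ofFinite G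
  have := Fact.mk Nat.prime_five
  obtain ⟨u, e, -, -, -, -, he1, hed, n, hn1, hne⟩ :=
    setup_two_three (p := 5) hG le_rfl (hN.trans hab)
  have hle : n ≤ n * (5 * e) := Nat.le_mul_of_pos_right _ (by positivity)
  exact key e (Nat.mem_divisors.2 ⟨by simpa using hed, by norm_num⟩) he1 n
    (by omega) hn1 (hne.trans hN)

theorem ne_seven_one (hG : ¬ IsMulCommutative G) {a b : ℕ} {N : ℕ} (hN : Nat.card G = N)
    (hab : N = 2 ^ a * 3 ^ b * 7)
    (key : ∀ e ∈ Nat.divisors 6, 1 < e → ∀ n ≤ N, n % 7 = 1 → n * (7 * e) ≠ N) : False := by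
  haveI := Fintype.ofFinite G
  have := Fact.mk (by norm_num : Nat.Prime 7)
  obtain ⟨u, e, -, -, -, -, he1, hed, n, hn1, hne⟩ :=
    setup_two_three (p := 7) hG (by norm_num) (hN.trans hab)
  have hle : n ≤ n * (7 * e) := Nat.le_mul_of_pos_right _ (by positivity)
  exact key e (Nat.mem_divisors.2 ⟨by simpa using hed, by norm_num⟩) he1 n
    (by omega) hn1 (hne.trans hN)

theorem ne_756 (hG : ¬ IsMulCommutative G) : Nat.card G ≠ 756 := by
  intro hN
  have := Fact.mk (by norm_num : Nat.Prime 7)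
  obtain ⟨P, e, hP, he, he1, hediv, hen, hmod, -⟩ := exists_index_three_prime (p := 7)
    (a := 2) (b := 3) hG Nat.prime_two Nat.prime_three (by norm_num) (by norm_num)
    (by rw [hN]; norm_num)
  have hd : Nat.card (Sylow 7 G) ∈ Nat.divisors 108 :=
    Nat.mem_divisors.mpr ⟨Dvd.intro_left e (by simpa using hen), by norm_num⟩
  have hle := Nat.le_of_dvd (by norm_num) hediv
  have key : ∀ e ∈ Finset.range 7, e ∣ 6 → 1 < e → ∀ d ∈ Nat.divisors 108,
      e * d = 108 → d % 7 = 1 → e = 3 := by decide +kernel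
  have hkey := key e (Finset.mem_range.mpr (by omega)) hediv he1 _ hd (by simpa using hen) hmod
  subst hkey
  exact false_of_no_relation hG (by norm_num) P hP hN he (by norm_num) (by decide +kernel)

theorem ne_900 (hG : ¬ IsMulCommutative G) : Nat.card G ≠ 900 := by
  intro hN
  have := Fact.mk Nat.prime_five
  obtain ⟨P⟩ : Nonempty (Sylow 5 G) := inferInstance
  have hPc := card_sylow_eq (p := 5) 2 36 (by rw [hN]; norm_num) (by norm_num) P
  have hd : 5 ∣ Nat.card G := by rw [hN]; norm_num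
  have hd36 : Nat.card (Sylow 5 G) ∈ Nat.divisors 36 :=
    Nat.mem_divisors.2 ⟨card_sylow_dvd 2 36 (by rw [hN]; norm_num) (by norm_num), by norm_num⟩
  have hmod : Nat.card (Sylow 5 G) % 5 = 1 :=
    Eq.trans (card_sylow_modEq_one 5 G) (Nat.mod_eq_of_lt (by norm_num))
  have hfac := hN ▸ two_mul_card_dvd_factorial_sylow hG hd
  have key2 : ∀ d ∈ Nat.divisors 36, 1 < d → d % 5 = 1 → 2 * 900 ∣ d.factorial → d = 36 := by
    decide +kernel
  have h36 := key2 _ hd36 (one_lt_card_sylow hG hd) hmod hfac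
  have hidx := card_normalizer_mul P
  rw [h36, hN] at hidx
  have heq : (P : Subgroup G) = Subgroup.normalizer ((P : Subgroup G) : Set G) :=
    Subgroup.eq_of_le_of_card_ge Subgroup.le_normalizer (by rw [hPc]; omega)
  refine not_normalizer_le_centralizer hG hd P ?_
  have := IsPGroup.isMulCommutative_of_card_eq_prime_sq hPc
  rw [← heq]
  exact Subgroup.le_centralizer _

theorem ne_four_primes (hG : ¬ IsMulCommutative G) : Nat.card G ≠ 420 ∧ Nat.card G ≠ 840 := by
  have := Fact.mk (by norm_num : Nat.Prime 7)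
  suffices h : ∀ m ∈ ({60, 120} : Finset ℕ), Nat.card G ≠ 7 * m from
    ⟨h 60 (by simp), h 120 (by simp)⟩
  intro m hm hN
  obtain ⟨P⟩ : Nonempty (Sylow 7 G) := inferInstance
  have hnd : ¬ 7 ∣ m := by
    simp only [Finset.mem_insert, Finset.mem_singleton] at hm; omega
  have hPc : Nat.card (P : Subgroup G) = 7 := by
    simpa using card_sylow_eq (p := 7) 1 m (by rw [hN, pow_one]) hnd P
  have hd : 7 ∣ Nat.card G := by rw [hN]; exact dvd_mul_right 7 m
  obtain ⟨e, he1, hed, hce⟩ := exists_normalizer_centralizer hG P hPc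
  obtain ⟨c, hc⟩ := dvd_card_centralizer P hPc
  have hmul := card_normalizer_mul P
  rw [← hce, hc, hN] at hmul
  have hcen : Nat.card (Sylow 7 G) * (c * e) = m := by
    have h7 : 7 * (Nat.card (Sylow 7 G) * (c * e)) = 7 * m := by rw [← hmul]; ring
    omega
  have hfac := two_mul_card_dvd_factorial_sylow hG hd
  rw [hN] at hfac
  have hmod : Nat.card (Sylow 7 G) % 7 = 1 :=
    Eq.trans (card_sylow_modEq_one 7 G) (Nat.mod_eq_of_lt (by norm_num))
  have key : ∀ m ∈ ({60, 120} : Finset ℕ), ∀ n ∈ Nat.divisors m, n % 7 = 1 →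
      2 * (7 * m) ∣ n.factorial → ∀ e ∈ Nat.divisors 6, 1 < e → ∀ c ∈ Nat.divisors m,
      n * (c * e) = m → (n = 15 ∧ 2 ∣ c) ∨ (n = 8 ∧ 1 < c) := by decide +kernel
  rcases key m hm _ (Nat.mem_divisors.2 ⟨Dvd.intro _ hcen, fun h0 => hnd (h0 ▸ dvd_zero 7)⟩) hmod
      hfac e (Nat.mem_divisors.2 ⟨by simpa using hed, by norm_num⟩) he1 c
      (Nat.mem_divisors.2 ⟨⟨Nat.card (Sylow 7 G) * e, by rw [← hcen]; ring⟩,
        fun h0 => hnd (h0 ▸ dvd_zero 7)⟩) hcen with ⟨h15, h2⟩ | ⟨h8, h1⟩
  · exact not_two_dvd_centralizer_of_two_mul_succ hG (by norm_num) P hPc h15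
      (hc ▸ h2.mul_left 7)
  · have h := (sylow_succ hG P hPc h8).1
    rw [h, hPc] at hc
    omega

/-- A non-abelian finite simple group of order at most 1092 has order 60, 168, 360, 504, 660 or 1092. -/
theorem result {G : Type*} [Group G] [Finite G] [IsSimpleGroup G]
    (hG : ¬ IsMulCommutative G) (h : Nat.card G ≤ 1092) :
    Nat.card G = 60 ∨ Nat.card G = 168 ∨ Nat.card G = 360 ∨ Nat.card G = 504 ∨ Nat.card G = 660 ∨
      Nat.card G = 1092 := by
  classical
  have hGc : ¬ IsCyclic G := fun hc => hG hc.isMulCommutative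
  by_cases hbig : ∃ p, p.Prime ∧ p ∣ Nat.card G ∧ 11 ≤ p
  · obtain ⟨p, hp, hd, h11⟩ := hbig
    have h3 : 11 ^ 3 ≤ p ^ 3 := Nat.pow_le_pow_left h11 3
    rcases card_of_large_prime hGc hp (by omega) hd (by omega) with hc | ⟨m, hpm, hc⟩
    · have h13 : p ≤ 13 := by
        by_contra hlt
        push Not at hlt
        have h14 : 14 * (14 ^ 2 - 1) ≤ p * (p ^ 2 - 1) :=
          Nat.mul_le_mul hlt (Nat.sub_le_sub_right (Nat.pow_le_pow_left hlt 2) 1)
        omega
      interval_cases p <;> first | (norm_num at hp; done) | (norm_num at hc; omega)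
    · exfalso
      have h16 : 2 ^ 4 ≤ 2 ^ m := by
        refine Nat.pow_le_pow_right two_pos ?_
        by_contra hlt
        push Not at hlt
        have := Nat.pow_le_pow_right two_pos (Nat.le_of_lt_succ hlt)
        omega
      have h255 : 16 * (16 ^ 2 - 1) ≤ 2 ^ m * ((2 ^ m) ^ 2 - 1) :=
        Nat.mul_le_mul h16 (Nat.sub_le_sub_right (Nat.pow_le_pow_left h16 2) 1)
      omega
  push Not at hbig
  have hsmall : ∀ p, p.Prime → p ∣ Nat.card G → p ≤ 7 := fun p hp hd => by
    have := hbig p hp hd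
    by_contra h7
    interval_cases p <;> norm_num at hp
  have heven : 2 ∣ Nat.card G := by
    by_contra h2
    haveI : Group.IsSolvable G := CfsgLib.FT.isSolvable_of_odd (Nat.odd_iff.2 (by omega))
    exact hG ⟨⟨fun x y => IsSimpleGroup.comm_iff_isSolvable.2 inferInstance x y⟩⟩
  obtain ⟨k, hk⟩ := four_dvd_of_even hG (even_iff_two_dvd.2 heven)
  have h210 := dvd_pow_210 (n := Nat.card G) (k := 11) Nat.card_pos.ne' (by omega) hsmall
  by_cases h15 : Nat.card G ∣ 15 * 2 ^ 11
  · have := p_r_two_pow hG (p := 3) (r := 5) Nat.prime_three Nat.prime_five (by norm_num)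
      (by norm_num) (by norm_num) h15
    omega
  by_cases h21 : Nat.card G ∣ 21 * 2 ^ 11
  · have := p_r_two_pow hG (p := 3) (r := 7) Nat.prime_three (by norm_num) (by norm_num)
      (by norm_num) (by norm_num) h21
    omega
  by_cases h35 : Nat.card G ∣ 35 * 2 ^ 11
  · have := p_r_two_pow hG (p := 5) (r := 7) Nat.prime_five (by norm_num) (by norm_num)
      (by norm_num) (by norm_num) h35
    omega
  have h7 : 7 ∣ Nat.card G → 343 ≤ Nat.card G ∨ Nat.card G = 168 := fun hd => by
    by_contra hlt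
    push Not at hlt
    rcases card_of_large_prime hGc (p := 7) (by norm_num) (by norm_num) hd (by omega) with
      hc | ⟨m, hpm, -⟩
    · omega
    · have hm : m ≤ 2 := by
        by_contra hm
        push Not at hm
        have := Nat.pow_le_pow_right two_pos hm
        omega
      interval_cases m <;> omega
  rcases em (Nat.card G = 168) with h168 | h168
  · exact Or.inr (Or.inl h168)
  have hl := left_over (Nat.card G) (Finset.mem_range.2 (by omega)) ⟨⟨k, hk⟩, h210,
    not_dvd_two_primes hG Nat.prime_two Nat.prime_three 11,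
    not_dvd_two_primes hG Nat.prime_two Nat.prime_five 11,
    not_dvd_two_primes hG Nat.prime_two (by norm_num) 11,
    h15, h21, h35, or_iff_not_imp_left.2 fun hd => (h7 (not_not.1 hd)).resolve_right h168⟩
  simp only [List.mem_cons, List.not_mem_nil, or_false] at hl
  have h5 := Fact.mk Nat.prime_five
  have h7' := Fact.mk (by norm_num : Nat.Prime 7)
  rcases hl with e | e | e | e | e | e | e | e | e | e | e | e | e | e | e | e
  · exact (ne_five_one hG (a := 2) (b := 2) e (by norm_num) (by decide +kernel)).elim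
  · exact (false_of_sylow_numbers hG e 5 2 12 (by norm_num) (by norm_num) (by norm_num) (by decide +kernel)).elim
  · omega
  · exact absurd e (ne_four_primes hG).1
  · omega
  · exact (ne_five_one hG (a := 2) (b := 3) e (by norm_num) (by decide +kernel)).elim
  · exact (false_of_sylow_numbers hG e 7 2 12 (by norm_num) (by norm_num) (by norm_num) (by decide +kernel)).elim
  · exact (false_of_sylow_numbers hG e 5 2 24 (by norm_num) (by norm_num) (by norm_num) (by decide +kernel)).elim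
  · exact (false_of_sylow_numbers hG e 5 2 28 (by norm_num) (by norm_num) (by norm_num) (by decide +kernel)).elim
  · exact (CfsgLib.Small.Order720.not_simple e).elim
  · exact absurd e (ne_756 hG)
  · exact absurd e (ne_four_primes hG).2
  · exact absurd e (ne_900 hG)
  · exact (false_of_sylow_numbers hG e 7 2 20 (by norm_num) (by norm_num) (by norm_num) (by decide +kernel)).elim
  · exact (ne_seven_one hG (a := 4) (b := 2) e (by norm_num) (by decide +kernel)).elim
  · exact (ne_five_one hG (a := 3) (b := 3) e (by norm_num) (by decide +kernel)).elim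

end Cfsg.Agent.S0496
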