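import Cfsg.Statements.S0948
import Cfsg.Agent.Lib.Blocks.KleinPrincipal

set_option autoImplicit false
open Cfsg

set_option linter.style.haveILetI false

namespace Cfsg.Agent.S0948

/-- Let the finite group G have a Sylow 2-subgroup P that is a Klein four-group, suppose all involutions of G are conjugate, and fix a maximal ideal M of the algebraic integers containing 2. Then the principal block consists of exactly four irreducible characters, the principal character and ζ₂, ζ₃, ζ₄, and there is a sign ε such that for every involution z: ζ₂ z = 1, ζ₃ z = ε, ζ₄ z = -1; moreover ζ₂ 1 ≡ 1, ζ₃ 1 ≡ ε, ζ₄ 1 ≡ -1 (mod 4), and 1 + ζ₂ y + ε ζ₃ y - ζ₄ y = 0 for every y of odd order. -/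
theorem result {G : Type*} [Group G] [Finite G] (M : Ideal Cfsg.AlgInt) (hM : Cfsg.IsPModular 2 M) (P : Sylow 2 G) (hP : IsKleinFour (P : Subgroup G)) (hone : ∀ s t : G, orderOf s = 2 → orderOf t = 2 → IsConj s t) : ∃ ζ₂ ζ₃ ζ₄ : Cfsg.IrrCharacter G, ∃ ε : ℤ, (ε = 1 ∨ ε = -1) ∧ (ζ₂ : G → ℂ) ≠ (fun _ => 1) ∧ (ζ₃ : G → ℂ) ≠ (fun _ => 1) ∧ ζ₂ ≠ ζ₃ ∧ ζ₂ ≠ ζ₄ ∧ ζ₃ ≠ ζ₄ ∧ Cfsg.principalBlock M G = {χ : Cfsg.IrrCharacter G | (χ : G → ℂ) = (fun _ => 1) ∨ χ = ζ₂ ∨ χ = ζ₃ ∨ χ = ζ₄} ∧ (∀ z : G, orderOf z = 2 → (ζ₂ : G → ℂ) z = 1 ∧ (ζ₃ : G → ℂ) z = (ε : ℂ) ∧ (ζ₄ : G → ℂ) z = -1) ∧ (4 : ℤ) ∣ (Cfsg.charDegree (ζ₂ : G → ℂ) : ℤ) - 1 ∧ (4 : ℤ) ∣ (Cfsg.charDegree (ζ₃ : G → ℂ) : ℤ) - ε ∧ (4 : ℤ) ∣ (Cfsg.charDegree (ζ₄ : G → ℂ) : ℤ) + 1 ∧ ∀ y : G, Odd (orderOf y) → 1 + (ζ₂ : G → ℂ) y + (ε : ℂ) * (ζ₃ : G → ℂ) y - (ζ₄ : G → ℂ) y = 0 := by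
  classical
  haveI := Fintype.ofFinite G
  haveI : Fact (Nat.Prime 2) := ⟨Nat.prime_two⟩
  haveI := hM.2.1.isPrime
  obtain ⟨J, hJ⟩ : ∃ J : G, orderOf J = 2 :=
    exists_prime_orderOf_dvd_card' 2 ((by rw [hP.card_four]; norm_num : 2 ∣ Nat.card (P : Subgroup G)).trans
      (Subgroup.card_subgroup_dvd_card _))
  obtain ⟨D⟩ := CfsgLib.Blocks.exists_kleinData hM P hP hone hJ
  have hv : ∀ (χ : IrrCharacter G) (z : G), orderOf z = 2 → (χ : G → ℂ) z = (χ : G → ℂ) J :=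
    fun χ z hz => (CfsgLib.Chars.isConj_iff_forall_irr _ _).1 (hone z J hz hJ) χ
  refine ⟨D.X, D.Y, D.Z, D.ε, D.ε_cases, fun h => D.X_ne (Subtype.ext h),
    fun h => D.Y_ne (Subtype.ext h), D.XY, D.XZ, D.YZ, ?_,
    fun z hz => ⟨(hv _ z hz).trans D.valX, (hv _ z hz).trans D.valY, (hv _ z hz).trans D.valZ⟩,
    D.modX, D.modY, D.modZ, fun y hy => D.rel y fun h => ?_⟩
  · rw [D.block]
    ext χ
    simp only [Set.mem_insert_iff, Set.mem_singleton_iff, Set.mem_ofPred_eq]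
    exact or_congr_left ⟨fun h => h ▸ rfl, fun h => Subtype.ext h⟩
  · exact Nat.not_even_iff_odd.2 hy (even_iff_two_dvd.2 h)

end Cfsg.Agent.S0948
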