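import Cfsg.Statements.S0992
import Cfsg.Agent.Lib.Small.AutSmall

set_option autoImplicit false
open Cfsg

namespace Cfsg.Agent.S0992

/-- Let G be a non-abelian finite simple group of even order not divisible by 8, and T a Sylow 2-subgroup. Then T is a Klein four-group and the centralizer of T has index 3 in the normalizer of T. -/
theorem result {G : Type*} [Group G] [Finite G] [IsSimpleGroup G] (hG : ¬ IsMulCommutative G) (h2 : Even (Nat.card G)) (h8 : ¬ 8 ∣ Nat.card G) (T : Sylow 2 G) : IsKleinFour ↥(T : Subgroup G) ∧ (Subgroup.centralizer ((T : Subgroup G) : Set G)).relIndex (Subgroup.normalizer ((T : Subgroup G) : Set G)) = 3 := by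
  obtain ⟨k, hk⟩ := CfsgLib.Small.four_dvd_of_even hG h2
  have := Fact.mk Nat.prime_two
  have hk2 : ¬ 2 ∣ k := fun h => h8 (hk ▸ Nat.mul_dvd_mul_left 4 h)
  have hT := CfsgLib.Small.card_sylow_eq (p := 2) 2 k (by omega) hk2 T
  have hmin : (Nat.card G).minFac = 2 := (Nat.minFac_eq_two_iff _).mpr (by omega)
  have hnc := CfsgLib.Small.minFac_sylow_not_isCyclic hG hmin T
  have hexp : Monoid.exponent (T : Subgroup G) = 2 := by
    rcases (Nat.dvd_prime_pow Nat.prime_two).mp (hT ▸ Group.exponent_dvd_nat_card) with
      ⟨j, hj, he⟩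
    interval_cases j
    · have := (Monoid.exp_eq_one_iff).mp (by simpa using he)
      exact absurd isCyclic_of_subsingleton hnc
    · simpa using he
    · exfalso
      have hc := IsPGroup.isMulCommutative_of_card_eq_prime_sq hT
      apply hnc
      let _ : CommGroup (T : Subgroup G) :=
        { (inferInstance : Group (T : Subgroup G)) with mul_comm := fun a b => hc.is_comm.comm a b }
      exact IsCyclic.of_exponent_eq_card (by rw [he, hT])
  refine ⟨⟨by rw [hT]; rfl, hexp⟩, ?_⟩
  obtain ⟨-, h3⟩ := CfsgLib.Small.minFac_sq hG hmin T hT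
  have key := Subgroup.card_dvd_of_injective _
    (QuotientGroup.kerLift_injective (T : Subgroup G).normalizerMonoidHom)
  rw [Subgroup.normalizerMonoidHom_ker, ← Subgroup.index, ← Subgroup.relIndex] at key
  have hK : IsKleinFour ↥(T : Subgroup G) := ⟨by rw [hT]; rfl, hexp⟩
  classical
  have : Fintype (T : Subgroup G) := Fintype.ofFinite _
  let f : MulAut (T : Subgroup G) →* Equiv.Perm {x : (T : Subgroup G) // x ≠ 1} :=
    { toFun := fun φ => Equiv.Perm.subtypePerm φ.toEquiv (fun x => by simp)
      map_one' := rfl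
      map_mul' := fun a b => rfl }
  have hf : Function.Injective f := by
    intro a b hab
    refine MulEquiv.ext fun x => ?_
    by_cases hx : x = 1
    · simp [hx]
    · exact congrArg Subtype.val (DFunLike.congr_fun hab ⟨x, hx⟩)
  have h6 : Nat.card (MulAut (T : Subgroup G)) ∣ 6 := by
    have := Subgroup.card_dvd_of_injective f hf
    rw [Nat.card_perm, Nat.card_eq_fintype_card (α := {x : (T : Subgroup G) // x ≠ 1}),
      Fintype.card_subtype_compl, Fintype.card_subtype_eq, ← Nat.card_eq_fintype_card, hT] at this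
    exact this
  have hdvd := key.trans h6
  have hodd : ¬ 2 ∣ (Subgroup.centralizer ((T : Subgroup G) : Set G)).relIndex
      (Subgroup.normalizer ((T : Subgroup G) : Set G)) := by
    intro h
    apply T.not_dvd_index
    refine h.trans ((Subgroup.relIndex_dvd_of_le_left _ ?_).trans
      (Subgroup.relIndex_dvd_index_of_le Subgroup.le_normalizer))
    exact Subgroup.le_centralizer_iff.mpr fun x hx => by
      rw [Subgroup.mem_centralizer_iff]
      intro y hy
      exact congrArg Subtype.val
        ((IsPGroup.isMulCommutative_of_card_eq_prime_sq hT).is_comm.comm ⟨y, hy⟩ ⟨x, hx⟩)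
  obtain ⟨c, hc⟩ := h3
  rw [hc] at hdvd hodd ⊢
  have hc6 : 3 * c ≤ 6 := Nat.le_of_dvd (by norm_num) hdvd
  have : c ≠ 2 := fun h => hodd (by rw [h]; exact dvd_mul_left 2 3)
  have : c ≠ 0 := fun h => by rw [h] at hdvd; norm_num at hdvd
  omega

end Cfsg.Agent.S0992
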