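import Cfsg.Statements.S0493
import Cfsg.Agent.Lib.Small.Basic
import Cfsg.Agent.Lib.Chars.Burnside

set_option autoImplicit false
open Cfsg

namespace Cfsg.Agent.S0493

/-- A finite simple group of order at most 100 that is not cyclic has order 60. -/
theorem result {G : Type*} [Group G] [Finite G] [IsSimpleGroup G]
    (hG : ¬ IsCyclic G) (h : Nat.card G ≤ 100) : Nat.card G = 60 := by
  open CfsgLib.Small in
  have hnc : ¬ IsMulCommutative G := fun hc => hG (by
    let _ : CommGroup G :=
      { (inferInstance : Group G) with mul_comm := fun a b => hc.is_comm.comm a b }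
    exact isCyclic_of_prime_card (hp := ⟨CommGroup.is_simple_iff_prime_card.mp ‹IsSimpleGroup G›⟩)
      rfl)
  have h3 := CfsgLib.Chars.three_le_card_primeFactors_of_simple
    (G := G) (fun hall => hnc ⟨⟨hall⟩⟩)
  have hsq := minFac_sq_dvd hnc
  have h1 : 1 < Nat.card G := Finite.one_lt_card
  have h84 : Nat.card G ≠ 84 := by
    intro e
    have := Fact.mk (show Nat.Prime 7 by norm_num)
    have hd : Nat.card (Sylow 7 G) ∣ 12 := card_sylow_dvd (p := 7) 1 12 (by omega) (by omega)
    have hm : Nat.card (Sylow 7 G) % 7 = 1 := card_sylow_modEq_one 7 G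
    have h2 := one_lt_card_sylow hnc (p := 7) (by omega)
    have := Nat.le_of_dvd (by norm_num) hd
    interval_cases hk : Nat.card (Sylow 7 G) <;> omega
  -- at least three primes, the smallest one repeated
  set n := Nat.card G with hn
  have h2 : n.minFac = 2 := by
    by_contra hne
    have hq := Nat.minFac_prime (n := n) (by omega)
    have hodd : ¬ 2 ∣ n := fun h' => hne ((Nat.minFac_eq_two_iff n).mpr h')
    have h5 : 3 ≤ n.minFac := by have := hq.two_le; omega
    obtain ⟨a, ha, b, hb, hab⟩ : ∃ a ∈ n.primeFactors.erase n.minFac,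
        ∃ b ∈ n.primeFactors.erase n.minFac, a < b := by
      have hc : 1 < (n.primeFactors.erase n.minFac).card := by
        rw [Finset.card_erase_of_mem (Nat.mem_primeFactors.mpr ⟨hq, Nat.minFac_dvd n, by omega⟩)]
        omega
      obtain ⟨a, ha, b, hb, hab⟩ := Finset.one_lt_card.mp hc
      rcases lt_or_gt_of_ne hab with h' | h'
      · exact ⟨a, ha, b, hb, h'⟩
      · exact ⟨b, hb, a, ha, h'⟩
    obtain ⟨ha0, hap, had, -⟩ := by simpa [Nat.mem_primeFactors] using ha
    obtain ⟨hb0, hbp, hbd, -⟩ := by simpa [Nat.mem_primeFactors] using hb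
    have hale := Nat.minFac_le_of_dvd hap.two_le had
    have hpos : 0 < n := by omega
    have hdiv : n.minFac ^ 2 * (a * b) ∣ n :=
      ((Nat.Coprime.mul_right ((Nat.coprime_primes hq hap).mpr (Ne.symm ha0))
        ((Nat.coprime_primes hq hbp).mpr (Ne.symm hb0))).pow_left 2).mul_dvd_of_dvd_of_dvd hsq
        (((Nat.coprime_primes hap hbp).mpr hab.ne).mul_dvd_of_dvd_of_dvd had hbd)
    have h9 : 3 ^ 2 ≤ n.minFac ^ 2 := Nat.pow_le_pow_left h5 2
    have hab' : 4 * 5 ≤ a * b := Nat.mul_le_mul (by omega) (by omega)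
    have := (Nat.mul_le_mul h9 hab').trans (Nat.le_of_dvd hpos hdiv)
    omega
  rw [h2] at hsq
  obtain ⟨k, hk⟩ := hsq
  have hkle : k ≤ 25 := by omega
  rw [hk] at h3
  have hsub : (2 ^ 2 * k).primeFactors ⊆
      (Finset.range 101).filter (fun p => (2 ≤ p ∧ ∀ m < p, 2 ≤ m → p % m ≠ 0) ∧ (2 ^ 2 * k) % p = 0) := by
    intro p hp
    obtain ⟨hp1, hp2, hp3⟩ := Nat.mem_primeFactors.mp hp
    have := Nat.le_of_dvd (by omega) hp2
    rw [Finset.mem_filter, Finset.mem_range]
    refine ⟨by omega, ⟨hp1.two_le, fun m hm hm2 hdiv => ?_⟩, Nat.mod_eq_zero_of_dvd hp2⟩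
    rcases (Nat.dvd_prime hp1).mp (Nat.dvd_of_mod_eq_zero hdiv) with e | e <;> omega
  replace h3 := h3.trans (Finset.card_le_card hsub)
  interval_cases k
  all_goals first
    | omega
    | (exfalso; revert h3; decide +kernel)

end Cfsg.Agent.S0493
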