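import Cfsg.Statements.S0007
-- import your own Cfsg.Agent.* helpers here

set_option autoImplicit false
open Cfsg

namespace Cfsg.Agent.S0007

/-- Subgroups of coprime index: the intersection has index equal to the product of the indices, and every element is a product of an element of the first subgroup and an element of the second. -/
theorem result {G : Type*} [Group G] [Finite G] (H K : Subgroup G)
    (h : H.index.Coprime K.index) :
    (H ⊓ K).index = H.index * K.index ∧ ∀ g : G, ∃ x ∈ H, ∃ y ∈ K, g = x * y := by
  have hidx : (H ⊓ K).index = H.index * K.index := by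
    apply Nat.le_antisymm Subgroup.index_inf_le
    apply Nat.le_of_dvd
    · exact Nat.pos_of_ne_zero (Subgroup.index_inf_ne_zero Subgroup.index_ne_zero_of_finite
        Subgroup.index_ne_zero_of_finite)
    · exact h.mul_dvd_of_dvd_of_dvd (Subgroup.index_dvd_of_le inf_le_left)
        (Subgroup.index_dvd_of_le inf_le_right)
  refine ⟨hidx, fun g => ?_⟩
  -- the map `H ⧸ (H ⊓ K) → G ⧸ K` is injective between sets of the same size
  let f : H ⧸ K.subgroupOf H → G ⧸ K := Quotient.map' Subtype.val (by
    intro a b hab
    rw [QuotientGroup.leftRel_apply] at hab ⊢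
    simpa [Subgroup.mem_subgroupOf] using hab)
  have hinj : Function.Injective f := by
    intro a b
    induction a using Quotient.inductionOn' with | _ a =>
    induction b using Quotient.inductionOn' with | _ b =>
    intro hab
    simp only [f, Quotient.map'_mk''] at hab
    apply Quotient.sound'
    rw [QuotientGroup.leftRel_apply]
    have := QuotientGroup.leftRel_apply.mp (Quotient.exact' hab)
    simpa [Subgroup.mem_subgroupOf] using this
  have hcard : Nat.card (H ⧸ K.subgroupOf H) = Nat.card (G ⧸ K) := by
    have h1 : (H ⊓ K).relIndex H * H.index = (H ⊓ K).index :=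
      Subgroup.relIndex_mul_index inf_le_left
    rw [Subgroup.inf_relIndex_left, hidx, Nat.mul_comm H.index] at h1
    exact Nat.eq_of_mul_eq_mul_right (Nat.pos_of_ne_zero Subgroup.index_ne_zero_of_finite) h1
  obtain ⟨a, ha⟩ := ((Nat.bijective_iff_injective_and_card f).mpr ⟨hinj, hcard⟩).2 (g : G ⧸ K)
  induction a using Quotient.inductionOn' with | _ a =>
  simp only [f, Quotient.map'_mk''] at ha
  exact ⟨a, a.2, (a : G)⁻¹ * g, QuotientGroup.leftRel_apply.mp (Quotient.exact' ha), (mul_inv_cancel_left _ _).symm⟩

end Cfsg.Agent.S0007
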