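import Cfsg.Statements.S0923
import Cfsg.Agent.Lib.Blocks.SecondMain
import Cfsg.Agent.Lib.Blocks.RegularTwist

set_option autoImplicit false
open Cfsg

set_option linter.style.haveILetI false

namespace Cfsg.Agent.S0923

/-- Brauer's Second Main Theorem, in terms of ordinary characters. Let x be a p-element of the finite group G with centralizer C, let χ lie in the block B of G and let b be a block of C that does not induce B (relative to a maximal ideal M of the algebraic integers containing p). Form the class function ϑ(c) = χ(x c) on C and its b-part (the sum over ψ ∈ b of the inner product of ϑ with ψ, times ψ). Then the b-part of ϑ vanishes at every p-regular element of C. (Equivalently, the generalized decomposition numbers of χ with respect to b are zero.) -/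
theorem result {G : Type*} [Group G] [Finite G] (p : ℕ) [Fact p.Prime] (M : Ideal Cfsg.AlgInt) (hM : Cfsg.IsPModular p M) (x : G) (hx : ∃ k : ℕ, orderOf x = p ^ k) (B : Set (Cfsg.IrrCharacter G)) (hB : Cfsg.IsPBlock M B) (χ : Cfsg.IrrCharacter G) (hχ : χ ∈ B) (b : Set (Cfsg.IrrCharacter (Subgroup.centralizer ({x} : Set G)))) (hb : Cfsg.IsPBlock M b) (hnot : ¬ Cfsg.IsInducedBlock M (Subgroup.centralizer ({x} : Set G)) b B) (y : Subgroup.centralizer ({x} : Set G)) (hy : ¬ p ∣ orderOf y) : Cfsg.blockPart b (fun c : Subgroup.centralizer ({x} : Set G) => (χ : G → ℂ) (x * (c : G))) y = 0 := by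
  classical
  haveI : M.IsPrime := hM.2.1.isPrime
  haveI := Fintype.ofFinite G
  haveI := Fintype.ofFinite (Subgroup.centralizer ({x} : Set G))
  obtain ⟨k, hk⟩ := hx
  have hP : IsPGroup p (Subgroup.zpowers x) :=
    IsPGroup.of_card (n := k) (by rw [Nat.card_zpowers, hk])
  have hxH : x ∈ Subgroup.centralizer ({x} : Set G) :=
    Subgroup.mem_centralizer_singleton_iff.2 rfl
  have hCC : Subgroup.centralizer ({x} : Set G) =
      Subgroup.centralizer (Subgroup.zpowers x : Set G) := by
    rw [Subgroup.zpowers_eq_closure, Subgroup.centralizer_closure]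
  obtain ⟨B', hind⟩ := CfsgLib.Blocks.exists_isInducedBlock hM.2.2 hP (Subgroup.zpowers_le.2 hxH)
    hCC.ge (hCC.le.trans (Subgroup.centralizer_le_normalizer _)) hb
  have hne : B' ≠ B := fun h => hnot (h ▸ hind)
  have he : CfsgLib.Blocks.IsLocClassFun M (Cfsg.blockCoeff B) :=
    CfsgLib.Blocks.isLocClassFun_blockCoeff hB
  have hω : ∀ ξ ∈ b, MemLocalIdeal M (CfsgLib.Blocks.omega (ξ : _ → ℂ)
      (CfsgLib.Blocks.resFun (Subgroup.centralizer ({x} : Set G)) (Cfsg.blockCoeff B))) := by
    intro ξ hξ
    obtain ⟨ψ, hψ⟩ := CfsgLib.Blocks.IsPBlock.nonempty hind.2.1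
    have h1 := CfsgLib.Blocks.IsInducedBlock.omega_sub hind hξ hψ he
    rw [CfsgLib.Blocks.omega_blockCoeff, if_neg, sub_zero] at h1
    · exact h1
    · intro hψ'
      exact hne (CfsgLib.Blocks.IsPBlock.eq_of_mem hind.2.1 hB hψ hψ')
  have hcomm : Commute (y : G) x := Subgroup.mem_centralizer_singleton_iff.1 y.2
  have key := CfsgLib.Blocks.second_main_core (p := p) hM.2.2 hb he
    (CfsgLib.Blocks.conv_blockCoeff_self B) hω ⟨k, by rw [← hk]; exact pow_orderOf_eq_one x⟩
    (by rwa [Subgroup.orderOf_coe]) hcomm hxH le_rfl (CfsgLib.Chars.isClassFunction_irr χ)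
  rw [CfsgLib.Blocks.blockPart_eq_sum b (fun c d => by
    show (χ : G → ℂ) (x * ((d * c * d⁻¹ : Subgroup.centralizer ({x} : Set G)) : G)) = _
    have hd : Commute (d : G) x := Subgroup.mem_centralizer_singleton_iff.1 d.2
    have he' : x * ((d : G) * (c : G) * (d : G)⁻¹) = (d : G) * (x * c) * (d : G)⁻¹ := by
      rw [← mul_assoc, ← mul_assoc, ← hd.eq]; group
    push_cast
    rw [he']
    exact CfsgLib.Chars.isClassFunction_irr χ _ _)]
  rw [← key]
  refine Finset.sum_congr rfl fun u _ => ?_
  have hu : Commute (u : G) x := Subgroup.mem_centralizer_singleton_iff.1 u.2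
  rw [CfsgLib.Blocks.sum_mul_blockCoeff B χ, if_pos hχ]
  push_cast
  rw [← mul_assoc, ← hu.eq, mul_assoc]

end Cfsg.Agent.S0923
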