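import Cfsg.Statements.S4566
import Cfsg.Agent.Lib.CharsMore.Intertwiners
import Cfsg.Agent.Lib.Chars.Char

set_option autoImplicit false
open Cfsg CfsgLib.Chars

namespace Cfsg.Agent.S4566

/-- A central element scales an irreducible character. -/
theorem central_mul_irr {H : Type*} [Group H] [Finite H] (χ : Cfsg.IrrCharacter H) (z : H)
    (hz : z ∈ Subgroup.center H) :
    ∃ c : ℂ, ∀ m, (χ : H → ℂ) (z * m) = c * (χ : H → ℂ) m := by
  obtain ⟨n, ρ, hρ, hχ⟩ := χ.2
  haveI := hρ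
  obtain ⟨c, hc⟩ := CfsgLib.CharsMore.schur_scalar ρ (ρ z) fun h => by
    rw [← map_mul, ← map_mul, Subgroup.mem_center_iff.1 hz h]
  refine ⟨c, fun m => ?_⟩
  rw [← hχ, Representation.character, Representation.character, map_mul, hc, smul_mul_assoc,
    one_mul, map_smul, smul_eq_mul]

/-- Let N be a central subgroup of the finite group G, ψ a faithful irreducible (hence degree-one) character of N, and χ an irreducible character of G whose restriction to N contains ψ. If g ∈ G and some x ∈ G has commutator x⁻¹ g⁻¹ x g in N but different from 1, then χ g = 0. -/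
theorem result {G : Type*} [Group G] [Fintype G] (N : Subgroup G) [Fintype N] (hN : N ≤ Subgroup.center G) (ψ : Cfsg.IrrCharacter ↥N) (hfaith : ∀ n : ↥N, (ψ : ↥N → ℂ) n = (ψ : ↥N → ℂ) 1 → n = 1) (χ : Cfsg.IrrCharacter G) (hover : Cfsg.classInner (fun n : ↥N => (χ : G → ℂ) n) (ψ : ↥N → ℂ) ≠ 0) (g x : G) (hcomm : x⁻¹ * g⁻¹ * x * g ∈ N) (hne : x⁻¹ * g⁻¹ * x * g ≠ 1) : (χ : G → ℂ) g = 0 := by
  classical
  have hz := hN hcomm
  set z : G := x⁻¹ * g⁻¹ * x * g with hz'
  have hzinv : z⁻¹ ∈ Subgroup.center G := inv_mem hz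
  obtain ⟨c, hc⟩ := central_mul_irr χ z⁻¹ hzinv
  obtain ⟨e, he⟩ := central_mul_irr ψ ⟨z⁻¹, inv_mem hcomm⟩
    (Subgroup.mem_center_iff.2 fun m => Subtype.ext
      (Subgroup.mem_center_iff.1 hzinv m))
  have h1 : (χ : G → ℂ) g = c * (χ : G → ℂ) g := by
    rw [← hc g]
    have hval : z⁻¹ * g = x⁻¹ * g * x := by rw [← Subgroup.mem_center_iff.1 hzinv g, hz']; group
    rw [hval]
    have h := isClassFunction_irr χ g x⁻¹
    rw [inv_inv] at h
    exact h.symm
  by_contra hg0
  have hc1 : c = 1 := by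
    have h2 : (c - 1) * (χ : G → ℂ) g = 0 := by linear_combination -h1
    exact sub_eq_zero.1 ((mul_eq_zero.1 h2).resolve_right hg0)
  subst hc1
  refine hne ?_
  have he1 : e = 1 := by
    by_contra he'
    refine hover ?_
    set n0 : ↥N := ⟨z⁻¹, inv_mem hcomm⟩
    rw [inner_def]
    set S : ℂ := ∑ m : ↥N, (χ : G → ℂ) m * (starRingEnd ℂ) ((ψ : ↥N → ℂ) m) with hS
    have h2 : S = (starRingEnd ℂ) e * S := by
      conv_lhs => rw [hS, ← Equiv.sum_comp (Equiv.mulLeft n0)]
      rw [hS, Finset.mul_sum]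
      refine Finset.sum_congr rfl fun m _ => ?_
      show (χ : G → ℂ) (z⁻¹ * m) * (starRingEnd ℂ) ((ψ : ↥N → ℂ) (n0 * m)) = _
      rw [hc, he, map_mul, one_mul]
      ring
    have h3 : ((starRingEnd ℂ) e - 1) * S = 0 := by linear_combination -h2
    have h4 : (starRingEnd ℂ) e - 1 ≠ 0 := fun h => he' (by
      have := congrArg (starRingEnd ℂ) (sub_eq_zero.1 h)
      simpa using this)
    rw [(mul_eq_zero.1 h3).resolve_left h4, mul_zero]
  subst he1
  have h := hfaith ⟨z⁻¹, inv_mem hcomm⟩ (by simpa using he 1)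
  exact inv_eq_one.1 (congrArg Subtype.val h)

end Cfsg.Agent.S4566
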