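import Cfsg.Statements.S0126
import Cfsg.Agent.Lib.PGroups.UniqueOrderP

set_option autoImplicit false
open Cfsg

namespace Cfsg.Agent.S0126

/-- For odd p, every non-cyclic p-group contains a normal elementary abelian subgroup of order p^2. -/
theorem result {R : Type*} [Group R] [Finite R] {p : ℕ} [Fact p.Prime] (hp : p ≠ 2) (hR : IsPGroup p R) (hnc : ¬ IsCyclic R) : ∃ A : Subgroup R, A.Normal ∧ Cfsg.IsElementaryAbelian p A ∧ Nat.card A = p ^ 2 := by
  have hpp : p.Prime := Fact.out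
  obtain ⟨A, hA⟩ := Set.Finite.exists_maximal
    (s := {A : Subgroup R | A.Normal ∧ IsMulCommutative A ∧ ∀ a ∈ A, a ^ p ^ 1 = 1}) (Set.toFinite _)
    ⟨⊥, inferInstance, inferInstance, by simp⟩
  obtain ⟨hAn, hAab, hAe⟩ := hA.1
  haveI := hAn
  obtain ⟨a, ha⟩ := CfsgLib.PGroups.card_subgroup_eq_pow hR A
  by_cases ha2 : 2 ≤ a
  · obtain ⟨K, hK, -, hKA, hcard⟩ := CfsgLib.PGroups.exists_normal_card_eq hR (bot_le : ⊥ ≤ A)
      (k := 2) (by rw [Subgroup.card_bot]; exact Nat.one_le_pow _ _ hpp.pos)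
      (by rw [ha]; exact Nat.pow_le_pow_right hpp.pos ha2)
    exact ⟨K, hK, ⟨⟨⟨fun u v => Subtype.ext (congrArg (fun t : A => (t : R))
      (hAab.is_comm.comm ⟨u, hKA u.2⟩ ⟨v, hKA v.2⟩) :)⟩⟩, fun x hx => by simpa using hAe x (hKA hx)⟩, hcard⟩
  exfalso
  refine hnc ?_
  have hcen : A ≤ Subgroup.center R := by
    rcases eq_or_ne A ⊥ with hb | hne
    · rw [hb]; exact bot_le
    have hlt := CfsgLib.PGroups.commutator_top_lt hR hne
    refine Subgroup.commutator_top_right_eq_bot_iff_le_center.mp (Subgroup.card_eq_one.mp ?_)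
    have hap : Nat.card A ∣ p := by
      rw [ha]; exact (pow_dvd_pow p (by omega : a ≤ 1)).trans (pow_one p).dvd
    rcases (Nat.dvd_prime hpp).mp ((Subgroup.card_dvd_of_le hlt.le).trans hap) with h1 | h1
    · exact h1
    · exact absurd (Subgroup.eq_of_le_of_card_ge hlt.le (h1 ▸ Nat.le_of_dvd hpp.pos hap)) hlt.ne
  haveI : IsCyclic A := by
    rcases Nat.lt_or_ge a 1 with h0 | h0
    · obtain rfl : a = 0 := by omega
      exact Subgroup.card_eq_one.mp (by simpa using ha) ▸ Bot.isCyclic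
    · obtain rfl : a = 1 := by omega
      exact isCyclic_of_prime_card (p := p) (by simpa using ha)
  obtain ⟨z, hz⟩ := IsCyclic.exists_generator (α := A)
  have huq : ∀ y, y ^ p = 1 → y ∈ Subgroup.zpowers (z : R) := by
    intro y hy
    have hyA := CfsgLib.PGroups.mem_of_maximal_abelian_exponent hR (n := 1) (by simpa using hp) hAab hAe
      (fun B h1 h2 h3 h4 => le_antisymm (hA.2 ⟨h1, h2, h3⟩ h4) h4)
      (x := y) (fun w hw => (Subgroup.mem_center_iff.mp (hcen hw) y).symm) (by simpa using hy)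
    obtain ⟨i, hi⟩ := Subgroup.mem_zpowers_iff.mp (hz ⟨y, hyA⟩)
    exact Subgroup.mem_zpowers_iff.mpr ⟨i, by simpa using congrArg Subtype.val hi⟩
  rcases CfsgLib.PGroups.isCyclic_or_quaternion_of_unique hR (z := (z : R))
    (by simpa using hAe z z.2) huq with h | ⟨h2, -⟩
  · exact h
  · exact absurd h2 hp

end Cfsg.Agent.S0126
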