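import Cfsg.Statements.S0914
import Cfsg.Agent.Lib.Blocks.NormalPPrime

set_option autoImplicit false
open Cfsg

set_option linter.style.haveILetI false

namespace Cfsg.Agent.S0914

/-- Let χ be an irreducible character of the finite group G, p a prime and M a maximal ideal of the algebraic integers containing p. Then p does not divide the integer (Nat.card G) / χ(1) if and only if the block of χ relative to M consists of χ alone. -/
theorem result {G : Type*} [Group G] [Finite G] (p : ℕ) [Fact p.Prime] (M : Ideal Cfsg.AlgInt) (hM : Cfsg.IsPModular p M) (χ : Cfsg.IrrCharacter G) : ¬ p ∣ Nat.card G / Cfsg.charDegree (χ : G → ℂ) ↔ Cfsg.blockOf M (χ : G → ℂ) = {χ} := by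
  classical
  haveI := Fintype.ofFinite G
  haveI := CfsgLib.Blocks.isPrime_of_isPModular hM
  haveI := CfsgLib.Chars.irrFintype G
  obtain ⟨n, hn0, hn, hdvd⟩ := CfsgLib.Chars.irr_degree_dvd_card χ.2
  have hdeg : Cfsg.charDegree (χ : G → ℂ) = n := by
    have h1 := CfsgLib.CharApps.deg_eq χ
    rw [hn] at h1
    exact_mod_cast h1.symm
  rw [hdeg]
  constructor
  · intro hp
    have hcoeff : ∀ g, Cfsg.blockCoeff ({χ} : Set (Cfsg.IrrCharacter G)) g =
        ((Nat.card G / n : ℕ) : ℂ)⁻¹ * (starRingEnd ℂ) ((χ : G → ℂ) g) := fun g => by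
      rw [Cfsg.blockCoeff, finsum_mem_singleton, hn,
        Nat.cast_div hdvd (Nat.cast_ne_zero.2 hn0.ne'), inv_div, div_eq_mul_inv]
      ring
    refine Set.Subset.antisymm (fun ψ hψ => ?_)
      (Set.singleton_subset_iff.2 (CfsgLib.Blocks.mem_blockOf_self χ))
    exact CfsgLib.Blocks.union_blocks_of_mem_loc (fun g => by
      rw [hcoeff]
      exact mul_mem (CfsgLib.Blocks.inv_natCast_mem_loc Fact.out hM.2.2 hp)
        (CfsgLib.Blocks.conj_irr_mem_loc χ g)) rfl hψ
  · intro hB hp
    have hvan : ∀ y : G, p ∣ orderOf y → (χ : G → ℂ) y = 0 := fun y hy => by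
      have h1 := CfsgLib.Blocks.weak_orthogonality Fact.out hM.2.2
        (CfsgLib.Blocks.isPBlock_blockOf (M := M) χ) (x := (1 : G))
        (by rw [orderOf_one]; exact (Fact.out : p.Prime).not_dvd_one) hy
      rw [hB, finsum_mem_singleton, hn] at h1
      rcases mul_eq_zero.1 h1 with h2 | h2
      · exact absurd h2 (Nat.cast_ne_zero.2 hn0.ne')
      · simpa using congrArg (starRingEnd ℂ) h2
    obtain ⟨P⟩ : Nonempty (Sylow p G) := inferInstance
    haveI := Fintype.ofFinite (P : Subgroup G)
    obtain ⟨m, hm⟩ := CfsgLib.Chars.inner_char_nat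
      (CfsgLib.Chars.isCharacter_restrict (P : Subgroup G) (CfsgLib.Chars.isCharacter_of_irr χ.2))
      (CfsgLib.Chars.isCharacter_one (G := (P : Subgroup G)))
    rw [CfsgLib.Chars.inner_def, Finset.sum_eq_single (1 : (P : Subgroup G))] at hm
    · simp only [map_one, mul_one, OneMemClass.coe_one, hn] at hm
      rw [inv_mul_eq_iff_eq_mul₀ (Nat.cast_ne_zero.2 Nat.card_pos.ne')] at hm
      have h3 : n = Nat.card (P : Subgroup G) * m := by exact_mod_cast hm
      rw [P.card_eq_multiplicity] at h3
      have h4 : p * n ∣ Nat.card G := by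
        obtain ⟨c, hc⟩ := hp
        refine ⟨c, ?_⟩
        have := Nat.mul_div_cancel' hdvd
        rw [← this, hc]
        ring
      have h5 : p ^ ((Nat.card G).factorization p + 1) ∣ Nat.card G :=
        Dvd.dvd.trans (by rw [h3, pow_succ']; exact mul_dvd_mul_left p (dvd_mul_right _ m)) h4
      exact Nat.pow_succ_factorization_not_dvd Nat.card_pos.ne' Fact.out h5
    · intro u _ hu
      simp only [map_one, mul_one]
      refine hvan _ ?_
      obtain ⟨k, hk⟩ := (IsPGroup.iff_orderOf.1 P.isPGroup') u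
      have hk0 : k ≠ 0 := fun h0 => hu (orderOf_eq_one_iff.1 (by rw [hk, h0, pow_zero]))
      rw [Subgroup.orderOf_coe, hk]
      exact dvd_pow_self p hk0
    · simp

end Cfsg.Agent.S0914
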