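import Cfsg.Statements.S0934
import Cfsg.Agent.Lib.Blocks.Small
import Cfsg.Agent.Lib.Blocks.Degree

set_option autoImplicit false
open Cfsg

set_option linter.style.haveILetI false

namespace Cfsg.Agent.S0934

/-- Let H be a subgroup of the finite group G and fix a maximal ideal M of the algebraic integers containing the prime p. If the block b of H induces the block B of G and ξ ∈ b, then there is χ ∈ B whose restriction to H has nonzero inner product with ξ. -/
theorem result {G : Type*} [Group G] [Fintype G] (p : ℕ) [Fact p.Prime] (M : Ideal Cfsg.AlgInt) (hM : Cfsg.IsPModular p M) (H : Subgroup G) [Fintype H] (b : Set (Cfsg.IrrCharacter H)) (B : Set (Cfsg.IrrCharacter G)) (hind : Cfsg.IsInducedBlock M H b B) (ξ : Cfsg.IrrCharacter H) (hξ : ξ ∈ b) : ∃ χ ∈ B, Cfsg.classInner (fun h : H => (χ : G → ℂ) h) (ξ : H → ℂ) ≠ 0 := by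
  classical
  haveI := CfsgLib.Blocks.isPrime_of_isPModular hM
  haveI := CfsgLib.Chars.irrFintype G
  by_contra hcon
  push Not at hcon
  obtain ⟨χ, hχ⟩ := CfsgLib.Blocks.IsPBlock.nonempty hind.2.1
  have h1 := CfsgLib.Blocks.IsInducedBlock.omega_sub hind hξ hχ
    (CfsgLib.Blocks.isLocClassFun_blockCoeff hind.2.1)
  have h2 : CfsgLib.Blocks.omega (ξ : H → ℂ)
      (CfsgLib.Blocks.resFun H (Cfsg.blockCoeff B)) = 0 := by
    rw [CfsgLib.Blocks.omega, div_eq_zero_iff]
    left
    have e : ∀ h : H, CfsgLib.Blocks.resFun H (Cfsg.blockCoeff B) h * (ξ : H → ℂ) h =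
        ∑ ψ ∈ Finset.univ.filter (· ∈ B), (Nat.card G : ℂ)⁻¹ *
          ((ψ : G → ℂ) 1 * ((starRingEnd ℂ) ((ψ : G → ℂ) h) * (ξ : H → ℂ) h)) := fun h => by
      rw [CfsgLib.Blocks.resFun, Cfsg.blockCoeff, finsum_mem_eq_sum_of_inter_support_eq
        (t := Finset.univ.filter (· ∈ B)) _ (by ext ψ; simp), Finset.mul_sum, Finset.sum_mul]
      exact Finset.sum_congr rfl fun ψ _ => by ring
    simp only [e]
    rw [Finset.sum_comm]
    refine Finset.sum_eq_zero fun ψ hψ => ?_
    have h3 := hcon ψ (Finset.mem_filter.1 hψ).2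
    rw [CfsgLib.Chars.inner_def, mul_eq_zero] at h3
    have h4 := congrArg (starRingEnd ℂ) (h3.resolve_left (inv_ne_zero
      (Nat.cast_ne_zero.2 Nat.card_pos.ne')))
    simp only [map_sum, map_mul, Complex.conj_conj, map_zero] at h4
    rw [← Finset.mul_sum, ← Finset.mul_sum, h4, mul_zero, mul_zero]
  rw [h2, CfsgLib.Blocks.omega_blockCoeff, if_pos hχ, zero_sub] at h1
  exact CfsgLib.Blocks.not_memLocalIdeal_one (by
    simpa using CfsgLib.Blocks.MemLocalIdeal.neg' h1)

end Cfsg.Agent.S0934
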