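import Cfsg.Statements.S0925
import Cfsg.Agent.Lib.Blocks.SecondMain
import Cfsg.Agent.Lib.Blocks.RegularTwist
import Cfsg.Agent.Lib.BlockOrth.PPart

set_option autoImplicit false
open Cfsg

set_option linter.style.haveILetI false

namespace Cfsg.Agent.S0925

/-- (i) Let ϑ be a class function on the finite group G and x a p-element, and suppose ϑ vanishes at every element whose p-part is conjugate to x. Then for every block B (relative to a maximal ideal M of the algebraic integers containing p) the B-part of ϑ — the sum over χ ∈ B of the inner product of ϑ with χ, times χ — also vanishes at every such element. (ii) Block orthogonality, its corollary: if the p-parts of g and h are not conjugate, then the sum over χ ∈ B of χ g * χ h⁻¹ is zero for every block B. -/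
theorem result {G : Type*} [Group G] [Finite G] (p : ℕ) [Fact p.Prime] (M : Ideal Cfsg.AlgInt) (hM : Cfsg.IsPModular p M) : (∀ (ϑ : G → ℂ), Cfsg.IsClassFunction G ϑ → ∀ x : G, (∃ k : ℕ, orderOf x = p ^ k) → (∀ u z : G, Cfsg.IsPPart p u z → IsConj x z → ϑ u = 0) → ∀ B : Set (Cfsg.IrrCharacter G), Cfsg.IsPBlock M B → ∀ u z : G, Cfsg.IsPPart p u z → IsConj x z → Cfsg.blockPart B ϑ u = 0) ∧ (∀ g h x y : G, Cfsg.IsPPart p g x → Cfsg.IsPPart p h y → ¬ IsConj x y → ∀ B : Set (Cfsg.IrrCharacter G), Cfsg.IsPBlock M B → ∑ᶠ χ ∈ B, (χ : G → ℂ) g * (χ : G → ℂ) h⁻¹ = 0) := by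
  classical
  haveI : M.IsPrime := hM.2.1.isPrime
  haveI := Fintype.ofFinite G
  have part1 : ∀ (ϑ : G → ℂ), Cfsg.IsClassFunction G ϑ → ∀ x : G, (∃ k : ℕ, orderOf x = p ^ k) →
      (∀ u z : G, Cfsg.IsPPart p u z → IsConj x z → ϑ u = 0) →
      ∀ B : Set (Cfsg.IrrCharacter G), Cfsg.IsPBlock M B →
      ∀ u z : G, Cfsg.IsPPart p u z → IsConj x z → Cfsg.blockPart B ϑ u = 0 := by
    intro ϑ hϑ x _ hvan B hB u z huz hxz
    have hvan' : ∀ w, Cfsg.IsPPart p w z → ϑ w = 0 := fun w hw => hvan w z hw hxz
    obtain ⟨y, hzy, hcomm, ⟨k, hk⟩, hy⟩ := huz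
    subst hzy
    haveI := Fintype.ofFinite (Subgroup.centralizer ({z} : Set G))
    haveI := CfsgLib.Chars.irrFintype (Subgroup.centralizer ({z} : Set G))
    rw [CfsgLib.Blocks.blockPart_eq_sum B hϑ]
    set e := Cfsg.blockCoeff B with hedef
    have he : CfsgLib.Blocks.IsLocClassFun M e := CfsgLib.Blocks.isLocClassFun_blockCoeff hB
    have hzH : z ∈ Subgroup.centralizer ({z} : Set G) := Subgroup.mem_centralizer_singleton_iff.2 rfl
    have hyH : y ∈ Subgroup.centralizer ({z} : Set G) :=
      Subgroup.mem_centralizer_singleton_iff.2 hcomm.symm.eq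
    set H := Subgroup.centralizer ({z} : Set G) with hHdef
    have hzpow : ∃ k : ℕ, z ^ p ^ k = 1 := ⟨k, by rw [← hk]; exact pow_orderOf_eq_one z⟩
    have hP : IsPGroup p (Subgroup.zpowers z) :=
      IsPGroup.of_card (n := k) (by rw [Nat.card_zpowers, hk])
    have hCC : H = Subgroup.centralizer (Subgroup.zpowers z : Set G) := by
      rw [hHdef, Subgroup.zpowers_eq_closure, Subgroup.centralizer_closure]
    -- the total sum over `G`, as a function of the coset representative
    let T : G → ℂ := fun v => ∑ g, e g * ϑ (g * (v * (z * y)))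
    -- each block of the centralizer kills `T`
    have hblock : ∀ b : Set (Cfsg.IrrCharacter H), Cfsg.IsPBlock M b →
        ∑ k : H, Cfsg.blockCoeff b k * T k = 0 := by
      intro b hb
      obtain ⟨B', hind⟩ := CfsgLib.Blocks.exists_isInducedBlock hM.2.2 hP (Subgroup.zpowers_le.2 hzH)
        hCC.ge (hCC.le.trans (Subgroup.centralizer_le_normalizer _)) hb
      by_cases hne : B' = B
      swap
      · refine CfsgLib.Blocks.second_main_core (p := p) hM.2.2 hb he
          (CfsgLib.Blocks.conv_blockCoeff_self B) (fun ξ hξ => ?_) hzpow hy hcomm.symm hzH le_rfl hϑ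
        obtain ⟨ψ, hψ⟩ := CfsgLib.Blocks.IsPBlock.nonempty hind.2.1
        have h1 := CfsgLib.Blocks.IsInducedBlock.omega_sub hind hξ hψ he
        rw [CfsgLib.Blocks.omega_blockCoeff, if_neg, sub_zero] at h1
        · exact h1
        · intro hψ'
          exact hne (CfsgLib.Blocks.IsPBlock.eq_of_mem hind.2.1 hB hψ hψ')
      · subst hne
        -- the complementary idempotent
        set a := CfsgLib.Blocks.classInd (1 : G) + (-1 : ℂ) • e with hadef
        have hal : CfsgLib.Blocks.IsLocClassFun M a :=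
          (CfsgLib.Blocks.isLocClassFun_classInd 1).add (he.smul (neg_mem (one_mem _)))
        have hωa : ∀ χ : Cfsg.IrrCharacter G,
            CfsgLib.Blocks.omega (χ : G → ℂ) a = if χ ∈ B' then 0 else 1 := by
          intro χ
          rw [hadef, CfsgLib.Blocks.omega_add, CfsgLib.Blocks.omega_smul, hedef,
            CfsgLib.Blocks.omega_blockCoeff, CfsgLib.Blocks.omega_classInd,
            CfsgLib.Blocks.centralChar_one]
          split_ifs <;> norm_num
        have hidem : CfsgLib.Blocks.conv a a = a := by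
          refine CfsgLib.Blocks.classFun_ext_omega (hal.conv hal).1 hal.1 fun χ => ?_
          rw [CfsgLib.Blocks.omega_conv χ hal.1, hωa]
          split_ifs <;> simp
        have h1 := CfsgLib.Blocks.second_main_core (p := p) hM.2.2 hb hal hidem (fun ξ hξ => ?_)
          hzpow hy hcomm.symm hzH le_rfl hϑ
        swap
        · obtain ⟨ψ, hψ⟩ := CfsgLib.Blocks.IsPBlock.nonempty hind.2.1
          have h1 := CfsgLib.Blocks.IsInducedBlock.omega_sub hind hξ hψ hal
          rwa [hωa, if_pos hψ, sub_zero] at h1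
        have hsum : ∀ v : G, ∑ g, a g * ϑ (g * (v * (z * y))) = ϑ (v * (z * y)) - T v := by
          intro v
          simp only [hadef, Pi.add_apply, Pi.smul_apply, smul_eq_mul, add_mul,
            Finset.sum_add_distrib, T]
          rw [sub_eq_add_neg, ← Finset.sum_neg_distrib]
          congr 1
          · rw [Finset.sum_eq_single (1 : G)]
            · rw [CfsgLib.Blocks.classInd_apply, if_pos (IsConj.refl 1), one_mul, one_mul]
            · intro g _ hg
              rw [CfsgLib.Blocks.classInd_apply, if_neg (fun h => hg (isConj_one_right.1 h)), zero_mul]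
            · simp
          · simp
        simp only [hsum, mul_sub, Finset.sum_sub_distrib, sub_eq_zero] at h1
        rw [← h1]
        -- the main term vanishes in the centralizer
        have hϑ' : Cfsg.IsClassFunction H (fun c : H => ϑ (z * c)) := fun c d => by
          have hd : Commute (d : G) z := Subgroup.mem_centralizer_singleton_iff.1 d.2
          have : z * ((d : G) * (c : G) * (d : G)⁻¹) = (d : G) * (z * c) * (d : G)⁻¹ := by
            rw [← mul_assoc, ← mul_assoc, ← hd.eq]; group
          push_cast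
          rw [this, hϑ]
        have h2 := CfsgLib.Blocks.sum_idem_mul_regular_eq_zero hM.1 hM.2.2
          (CfsgLib.Blocks.blockCoeff_mem_loc hb) (CfsgLib.Blocks.conv_blockCoeff_self b) hϑ'
          (fun c hc => hvan' _ ⟨c, rfl,
            (show Commute z (c : G) from (Subgroup.mem_centralizer_singleton_iff.1 c.2).symm),
            ⟨k, hk⟩, by rwa [Subgroup.orderOf_coe]⟩)
          (s := ⟨y, hyH⟩) (by rwa [Subgroup.orderOf_mk])
          (fun c => CfsgLib.Blocks.isClassFunction_blockCoeff b c _)
        rw [← h2]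
        refine Finset.sum_congr rfl fun u _ => ?_
        have hu : Commute (u : G) z := Subgroup.mem_centralizer_singleton_iff.1 u.2
        push_cast
        rw [← mul_assoc, hu.eq, mul_assoc]
    -- sum over the blocks of the centralizer
    have hone : ∀ u : H, ∑ ξ : Cfsg.IrrCharacter H, CfsgLib.Blocks.idemCoeff (ξ : H → ℂ) u =
        CfsgLib.Blocks.classInd (1 : H) u := by
      intro u
      rw [CfsgLib.Blocks.classFun_eq_sum_omega (CfsgLib.Blocks.isClassFunction_classInd 1) u]
      simp [CfsgLib.Blocks.omega_classInd, CfsgLib.Blocks.centralChar_one]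
    have htot : ∑ ξ : Cfsg.IrrCharacter H, ∑ u : H, CfsgLib.Blocks.idemCoeff (ξ : H → ℂ) u * T u = 0 := by
      rw [← Finset.sum_fiberwise Finset.univ (fun ξ : Cfsg.IrrCharacter H => Cfsg.blockOf M (ξ : H → ℂ))]
      refine Finset.sum_eq_zero fun b _ => ?_
      by_cases hb : Cfsg.IsPBlock M b
      · rw [Finset.sum_comm]
        refine (Finset.sum_congr rfl fun u _ => ?_).trans (hblock b hb)
        rw [CfsgLib.Blocks.blockCoeff_eq, ← Finset.sum_mul]
        congr 1
        rw [Finset.sum_filter]
        refine Finset.sum_congr rfl fun ξ _ => ?_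
        by_cases h : ξ ∈ b
        · rw [if_pos h, if_pos (CfsgLib.Blocks.IsPBlock.eq_blockOf hb h).symm, one_mul]
        · have h2 : ¬ Cfsg.blockOf M (ξ : H → ℂ) = b := fun h' => h (by rw [← h']; exact CfsgLib.Blocks.mem_blockOf_self ξ)
          rw [if_neg h, if_neg h2, zero_mul]
      · rw [Finset.sum_eq_zero]
        intro ξ hξ
        exact absurd ⟨ξ, (Finset.mem_filter.1 hξ).2.symm⟩ hb
    rw [Finset.sum_comm] at htot
    simp only [← Finset.sum_mul, hone] at htot
    rw [Finset.sum_eq_single (1 : H)] at htot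
    · rw [CfsgLib.Blocks.classInd_apply, if_pos (IsConj.refl 1), one_mul] at htot
      simpa [T] using htot
    · intro u _ hu
      rw [CfsgLib.Blocks.classInd_apply, if_neg (fun h => hu (isConj_one_right.1 h)), zero_mul]
    · simp
  refine ⟨part1, fun g h x y hgx hhy hxy B hB => ?_⟩
  obtain ⟨y₁, hy₁, hc₁, hpow, hreg₁⟩ := hgx
  -- the class of `h⁻¹` avoids the section of `x`
  have h0 := part1 (CfsgLib.Blocks.classInd h) (CfsgLib.Blocks.isClassFunction_classInd h) x hpow
    (fun u z hu hxz => by
      rw [CfsgLib.Blocks.classInd_apply, if_neg]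
      intro hc
      apply hxy
      obtain ⟨c, rfl⟩ := isConj_iff.1 hc
      obtain ⟨v, hv, hvc, hvp, hvr⟩ := hu
      obtain ⟨w, hw, hwc, hwp, hwr⟩ := hhy
      -- both `z` and `c y c⁻¹` are `p`-parts of `u`
      have h1 : CfsgLib.BlockOrth.IsPPrimePart p (c * h * c⁻¹) v := by
        have := CfsgLib.BlockOrth.isPPrimePart_of_isPPart (p := p) ⟨v, hv, hvc, hvp, hvr⟩
        rwa [show z⁻¹ * (c * h * c⁻¹) = v by rw [← hv, inv_mul_cancel_left]] at this
      have h2 : CfsgLib.BlockOrth.IsPPrimePart p (c * h * c⁻¹) (c * w * c⁻¹) := by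
        have := CfsgLib.BlockOrth.isPPrimePart_of_isPPart (p := p) ⟨w, hw, hwc, hwp, hwr⟩
        rw [show y⁻¹ * h = w by rw [← hw, inv_mul_cancel_left]] at this
        exact this.conj c
      have hvw : v = c * w * c⁻¹ := h1.unique h2
      refine hxz.trans (isConj_iff.2 ⟨c, ?_⟩).symm
      rw [hvw] at hv
      have h3 : z * (c * w * c⁻¹) = c * y * c⁻¹ * (c * w * c⁻¹) := by
        rw [hv, ← hw]; group
      exact (mul_right_cancel h3).symm)
    B hB g x ⟨y₁, hy₁, hc₁, hpow, hreg₁⟩ (IsConj.refl x)
  haveI := CfsgLib.Chars.irrFintype G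
  rw [Cfsg.blockPart, finsum_mem_eq_sum_of_inter_support_eq (t := Finset.univ.filter (· ∈ B)) _ (by ext; simp)] at h0
  rw [finsum_mem_eq_sum_of_inter_support_eq (t := Finset.univ.filter (· ∈ B)) _ (by ext; simp)]
  have hc0 : (Nat.card G : ℂ)⁻¹ * (Nat.card {x : G // IsConj h x} : ℂ) ≠ 0 := by
    refine mul_ne_zero (inv_ne_zero (CfsgLib.Chars.card_ne_zero G)) (Nat.cast_ne_zero.2 ?_)
    haveI : Nonempty {x : G // IsConj h x} := ⟨⟨h, IsConj.refl h⟩⟩
    exact Nat.card_pos.ne'
  refine (mul_eq_zero.1 (?_ : ((Nat.card G : ℂ)⁻¹ * (Nat.card {x : G // IsConj h x} : ℂ)) * _ = 0)).resolve_left hc0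
  rw [Finset.mul_sum, ← h0]
  refine Finset.sum_congr rfl fun χ _ => ?_
  rw [CfsgLib.Chars.inner_congr_inst (φ := CfsgLib.Blocks.classInd h) (ψ := (χ : G → ℂ)) (Fintype.ofFinite G) ‹Fintype G›,
    CfsgLib.Blocks.inner_classInd, ← CfsgLib.Chars.irr_inv]
  ring

end Cfsg.Agent.S0925
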