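import Cfsg.Statements.S1972
import Mathlib
import Cfsg.Agent.Lib.Techniques.MinimalFailure

set_option autoImplicit false
universe u
open Cfsg
open scoped Pointwise commutatorElement

namespace Cfsg.Agent.S1972

/-- Let p be a prime, G a finite group and W an isomorphism-invariant p-group functor (W assigns to every group Q a subgroup W(Q), nontrivial whenever Q is a nontrivial finite p-group, and every isomorphism from a finite p-group Q onto a group R carries W(Q) onto W(R)). Suppose that whenever G* = K/R is a section of G with C_{G*}(O_p(G*)) ≤ O_p(G*) and S* is a Sylow p-subgroup of G* with W(S*) not normal in G*, there is an element g of S* outside O_p(G*) such that [X, g, …, g] ≤ Y with p − 1 entries g, for every chief factor X/Y of G* with X ≤ O_p(G*). Then W controls transfer in every section of G. -/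
theorem result {G : Type u} [Group G] [Finite G] {p : ℕ} [Fact p.Prime] (W : ∀ (Q : Type u) [Group Q], Subgroup Q) (hW : Cfsg.IsCharPFunctor.{u} p W) (hloc : ∀ (K R : Subgroup G) [hR : (R.subgroupOf K).Normal], Subgroup.centralizer ((Cfsg.pCore p (↥K ⧸ R.subgroupOf K) : Subgroup (↥K ⧸ R.subgroupOf K)) : Set (↥K ⧸ R.subgroupOf K)) ≤ Cfsg.pCore p (↥K ⧸ R.subgroupOf K) → ∀ T : Sylow p (↥K ⧸ R.subgroupOf K), ¬ (Cfsg.inducedFunctor (G := (↥K ⧸ R.subgroupOf K)) W ((T : Subgroup (↥K ⧸ R.subgroupOf K)))).Normal → ∃ g : (↥K ⧸ R.subgroupOf K), g ∈ (T : Subgroup (↥K ⧸ R.subgroupOf K)) ∧ g ∉ Cfsg.pCore p (↥K ⧸ R.subgroupOf K) ∧ ∀ U V : Subgroup (↥K ⧸ R.subgroupOf K), Cfsg.IsChiefFactor U V → U ≤ Cfsg.pCore p (↥K ⧸ R.subgroupOf K) → Cfsg.iterCommutator U (Subgroup.zpowers g) (p - 1) ≤ V) : ∀ (K R : Subgroup G) [hR : (R.subgroupOf K).Normal], Cfsg.ControlsTransferIn p (Cfsg.inducedFunctor (G := (↥K ⧸ R.subgroupOf K)) W) ⊤ := by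
  intro K R hR
  have h𝓦 : ∀ V ∈ ({W} : Set (∀ (Q : Type u) [Group Q], Subgroup Q)), Cfsg.IsCharPFunctor.{u} p V :=
    fun V hV => by rw [Set.mem_singleton_iff] at hV; subst hV; exact hW
  have hsec : CfsgLib.Techniques.SectionsSatisfy G
      (fun X _ => CfsgLib.Techniques.Constrained p X → ∀ T : Sylow p X,
        ¬ (Cfsg.inducedFunctor (G := X) W (T : Subgroup X)).Normal →
          ∃ g : X, g ∈ (T : Subgroup X) ∧ g ∉ Cfsg.pCore p X ∧ ∀ U V : Subgroup X, Cfsg.IsChiefFactor U V →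
            U ≤ Cfsg.pCore p X → Cfsg.iterCommutator U (Subgroup.zpowers g) (p - 1) ≤ V) := by
    refine CfsgLib.Techniques.sectionsSatisfy_of_quotients ?_ fun K' R' hR' hc T hn => hloc K' R' hc T hn
    intro Y Z _ _ _ _ e h hc T hn
    obtain ⟨T', hT'⟩ := CfsgLib.Techniques.exists_map_sylow_eq e T
    rw [← hT', CfsgLib.Techniques.map_inducedFunctor_normal_iff hW e T'.isPGroup'] at hn
    obtain ⟨g, hg, hgP, hg2⟩ := h (CfsgLib.Techniques.constrained_congr e hc) T' hn
    refine ⟨e g, hT' ▸ ⟨g, hg, rfl⟩, ?_, fun U V hUV hU => ?_⟩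
    · rw [← CfsgLib.Base.map_pCore_mulEquiv e]
      rintro ⟨g', hg', he⟩
      exact hgP (e.injective he ▸ hg')
    have hle := CfsgLib.Techniques.chiefFactor_comap e hUV
    have h1 := hg2 (U.comap e.toMonoidHom) (V.comap e.toMonoidHom) hle (by
      intro x hx
      have h2 : e x ∈ Cfsg.pCore p Z := hU hx
      rw [← CfsgLib.Base.map_pCore_mulEquiv e] at h2
      obtain ⟨x', hx', he⟩ := h2
      exact e.injective he ▸ hx')
    have h3 := Subgroup.map_mono (f := e.toMonoidHom) h1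
    rw [CfsgLib.Techniques.map_iterCommutator, MonoidHom.map_zpowers,
      Subgroup.map_comap_eq_self_of_surjective e.surjective, Subgroup.map_comap_eq_self_of_surjective e.surjective] at h3
    exact h3
  have hctl := CfsgLib.Techniques.familyTransfer_of_sections h𝓦 (↥K ⧸ R.subgroupOf K)
    (((hsec.subgroup K).quotient (R.subgroupOf K)).imp fun Y _ _ h hK hQ hc => ?_)
  · rwa [CfsgLib.Techniques.indFam, Set.image_singleton,
      CfsgLib.Techniques.familyControlsTransfer_singleton] at hctl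
  by_contra hG
  obtain ⟨S⟩ := (inferInstance : Nonempty (Sylow p Y))
  have hS := CfsgLib.Techniques.sylIn_top S
  by_cases hn : (Cfsg.inducedFunctor (G := Y) W (S : Subgroup Y)).Normal
  · refine hG ⟨S, le_top, hS.isPGroup, hS.not_dvd, le_antisymm ?_ (CfsgLib.Techniques.transferTarget_le _ _)⟩
    refine le_iSup₂_of_le (Cfsg.inducedFunctor W) ⟨W, rfl, rfl⟩ ?_
    haveI := hn
    rw [Subgroup.normalizer_eq_top, top_inf_eq]
  obtain ⟨-, -, -, h4⟩ := CfsgLib.Techniques.minimal_failure h𝓦 ⟨W, rfl⟩ hK hQ hG hS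
  obtain ⟨g, hg, hgP, hg2⟩ := h hc S hn
  obtain ⟨U, V, hUV, hU, hnot⟩ := h4 g hg hgP
  exact hnot (hg2 U V hUV hU)

end Cfsg.Agent.S1972
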