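import Cfsg.Statements.S4503
import Cfsg.Agent.Lib.SmallDegree.Main
import Cfsg.Agent.Lib.Chars.Basic

set_option autoImplicit false
open Cfsg Subgroup
open scoped Pointwise commutatorElement

namespace Cfsg.Agent.S4503

/-- Let G be a finite group whose order is divisible by the prime p exactly once and which has no normal subgroup of order p. Then every faithful character χ of G has degree at least (p − 1)/2: 2·χ(1) + 1 ≥ p. -/
theorem result {G : Type*} [Group G] [Finite G] (p : ℕ) (hp : p.Prime) (hdiv : p ∣ Nat.card G) (hsq : ¬ p ^ 2 ∣ Nat.card G) (hnn : ∀ H : Subgroup G, H.Normal → Nat.card H ≠ p) (χ : G → ℂ) (hχ : Cfsg.IsCharacter G χ) (hfaith : ∀ g : G, χ g = χ 1 → g = 1) : p ≤ 2 * Cfsg.charDegree χ + 1 := by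
  classical
  by_contra hlt
  haveI : Fact p.Prime := ⟨hp⟩
  obtain ⟨n, ρ, rfl⟩ := hχ
  have hdeg : Cfsg.charDegree ρ.character = n := by
    show ⌊(ρ.character 1).re⌋₊ = n
    rw [Representation.char_one, Module.finrank_fin_fun]
    simp
  rw [hdeg, not_le] at hlt
  haveI := Fintype.ofFinite G
  have hρ : Function.Injective ρ := by
    intro g g' h
    have h1 : ρ (g⁻¹ * g') = 1 := by rw [map_mul, ← h, ← map_mul, inv_mul_cancel, map_one]
    refine inv_mul_eq_one.1 (hfaith _ ?_)
    show LinearMap.trace ℂ _ (ρ (g⁻¹ * g')) = LinearMap.trace ℂ _ (ρ 1)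
    rw [h1, map_one ρ]
  obtain ⟨k, _, _, _, r, σ, hr, hker⟩ := CfsgLib.SmallDegree.exists_reduction (p := p) ρ hρ
  have hσ : Function.Injective σ := by
    let K := σ.asGroupHom.ker
    have hKmem : ∀ g, g ∈ K ↔ σ g = 1 := fun g => by
      rw [MonoidHom.mem_ker, Units.ext_iff, Representation.asGroupHom_apply]; rfl
    have hKp : IsPGroup p K := fun g => by
      obtain ⟨i, hi⟩ := hker g ((hKmem _).1 g.2)
      exact ⟨i, Subtype.ext hi⟩
    obtain ⟨i, hi⟩ := IsPGroup.iff_card.1 hKp
    have hi0 : i = 0 := by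
      rcases i with _ | _ | i
      · rfl
      · exact absurd (by rw [hi, zero_add, pow_one]) (hnn K (MonoidHom.normal_ker _))
      · exact absurd ((pow_dvd_pow p (show 2 ≤ i + 1 + 1 by omega)).trans
          (hi ▸ Subgroup.card_subgroup_dvd_card K)) hsq
    rw [hi0, pow_zero] at hi
    intro g g' h
    have h1 : g⁻¹ * g' ∈ K :=
      (hKmem _).2 (by rw [map_mul, ← h, ← map_mul, inv_mul_cancel, map_one])
    rw [Subgroup.eq_bot_of_card_eq K hi, Subgroup.mem_bot] at h1
    exact inv_mul_eq_one.1 h1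
  obtain ⟨x, hx⟩ := exists_prime_orderOf_dvd_card' p hdiv
  rcases CfsgLib.SmallDegree.normal_or_many_conj hx hsq σ hσ
      (by rw [Module.finrank_fin_fun]; omega) with hN | ⟨A, hA, hAe⟩
  · exact hnn _ hN (by rw [Nat.card_zpowers, hx])
  have hρx : ρ x ≠ 1 := fun h => hp.ne_one (by
    rw [← hx, hρ (h.trans (map_one ρ).symm), orderOf_one])
  obtain ⟨b, μ, hμ, -, hb, -, -, -⟩ := CfsgLib.Chars.exists_eigenbasis_rep ρ x
  obtain ⟨i₀, hi₀⟩ : ∃ i, μ i ≠ 1 := by
    by_contra hall
    push Not at hall
    exact hρx (b.ext fun i => by rw [hb, hall i, one_smul, Module.End.one_apply])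
  have hμp : ∀ i, μ i ^ p = 1 := fun i => hx ▸ hμ i
  have hprim : IsPrimitiveRoot (μ i₀) p :=
    IsPrimitiveRoot.iff_orderOf.2 (orderOf_eq_prime (hμp i₀) hi₀)
  have hmap : ∀ a ∈ A, ∃ i, μ i ^ a.val = μ i₀ := by
    intro a ha
    obtain ⟨g, hg⟩ := hAe a ha
    by_contra hno
    push Not at hno
    set w := ρ g (b i₀) with hw
    have hxa : ρ (x ^ a.val) w = μ i₀ • w := by
      rw [← hg, hw, ← Module.End.mul_apply, ← map_mul, inv_mul_cancel_right, map_mul,
        Module.End.mul_apply, hb, map_smul]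
    have hpow : ∀ (j : ℕ) i, ρ (x ^ j) (b i) = μ i ^ j • b i := fun j i => by
      induction j with
      | zero => simp
      | succ j ih => rw [pow_succ', map_mul, Module.End.mul_apply, ih, map_smul, hb, smul_smul,
          ← pow_succ]
    have h1 : ∀ i, b.repr w i * μ i ^ a.val = μ i₀ * b.repr w i := by
      intro i
      have h2 : b.repr (ρ (x ^ a.val) w) i = b.repr w i * μ i ^ a.val := by
        conv_lhs => rw [← b.sum_repr w, map_sum, map_sum, Finset.sum_apply']
        rw [Finset.sum_eq_single i (fun j _ hji => by simp only [map_smul, hpow, Finsupp.smul_apply, b.repr_self, Finsupp.single_apply, hji, if_false, smul_zero])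
          (fun h => absurd (Finset.mem_univ _) h)]
        simp only [map_smul, hpow, Finsupp.smul_apply, b.repr_self, Finsupp.single_eq_same, smul_eq_mul, mul_one]
      rw [← h2, hxa, map_smul, Finsupp.smul_apply, smul_eq_mul]
    have hw0 : w = 0 := b.repr.injective (Finsupp.ext fun i => by
      rw [map_zero, Finsupp.zero_apply]
      by_contra hne
      exact hno i (mul_left_cancel₀ hne (by rw [h1 i, mul_comm])))
    have h3 : b i₀ = 0 := by
      rw [← Module.End.one_apply (R := ℂ) (b i₀), ← map_one ρ, ← inv_mul_cancel g, map_mul,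
        Module.End.mul_apply, ← hw, hw0, map_zero]
    exact b.ne_zero i₀ h3
  choose f hf using hmap
  have hinj : Function.Injective fun a : A => f a.1 a.2 := by
    intro a a' h
    refine Subtype.ext ?_
    have h1 := hf a.1 a.2
    have h2 := hf a'.1 a'.2
    simp only at h
    rw [← h] at h2
    have hne : μ (f a.1 a.2) ≠ 1 := fun h0 => hi₀ (by rw [← h1, h0, one_pow])
    have hprim' : IsPrimitiveRoot (μ (f a.1 a.2)) p :=
      IsPrimitiveRoot.iff_orderOf.2 (orderOf_eq_prime (hμp _) hne)
    refine ZMod.val_injective p ?_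
    exact hprim'.pow_inj (ZMod.val_lt _) (ZMod.val_lt _) (h1.trans h2.symm)
  have hAn : A.card ≤ n := by
    have := Fintype.card_le_of_injective _ hinj
    simpa [Module.finrank_fin_fun] using this
  omega


end Cfsg.Agent.S4503
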