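import Cfsg.Statements.S4504
import Cfsg.Agent.Lib.SmallDegree.Boundary

set_option autoImplicit false
open Cfsg Subgroup
open scoped Pointwise commutatorElement

namespace Cfsg.Agent.S4504

/-- Let G be a finite group whose order is divisible by the prime p exactly once and which has no normal subgroup of order p. If G has a faithful character of degree exactly (p − 1)/2, then G modulo its centre is isomorphic to PSL(2, p). -/
theorem result {G : Type*} [Group G] [Finite G] (p : ℕ) (hp : p.Prime) (hdiv : p ∣ Nat.card G) (hsq : ¬ p ^ 2 ∣ Nat.card G) (hnn : ∀ H : Subgroup G, H.Normal → Nat.card H ≠ p) (χ : G → ℂ) (hχ : Cfsg.IsCharacter G χ) (hfaith : ∀ g : G, χ g = χ 1 → g = 1) (hdeg : 2 * Cfsg.charDegree χ + 1 = p) : Nonempty ((G ⧸ Subgroup.center G) ≃* Matrix.ProjectiveSpecialLinearGroup (Fin 2) (ZMod p)) := by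
  classical
  haveI : Fact p.Prime := ⟨hp⟩
  obtain ⟨n, ρ, rfl⟩ := hχ
  have hd : Cfsg.charDegree ρ.character = n := by
    show ⌊(ρ.character 1).re⌋₊ = n
    rw [Representation.char_one, Module.finrank_fin_fun]
    simp
  rw [hd] at hdeg
  haveI := Fintype.ofFinite G
  have hρ : Function.Injective ρ := by
    intro g g' h
    have h1 : ρ (g⁻¹ * g') = 1 := by rw [map_mul, ← h, ← map_mul, inv_mul_cancel, map_one]
    refine inv_mul_eq_one.1 (hfaith _ ?_)
    show LinearMap.trace ℂ _ (ρ (g⁻¹ * g')) = LinearMap.trace ℂ _ (ρ 1)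
    rw [h1, map_one ρ]
  have hn2 : 2 ≤ n := by
    by_contra hlt
    obtain ⟨x, hx⟩ := exists_prime_orderOf_dvd_card' p hdiv
    have hcomm : ∀ a b : G, a * b = b * a := fun a b => hρ (by
      rcases Nat.eq_zero_or_pos n with h0 | h0
      · subst h0
        exact LinearMap.ext fun v => Subsingleton.elim _ _
      · obtain rfl : n = 1 := by omega
        rw [map_mul, map_mul]
        refine (Pi.basisFun ℂ (Fin 1)).ext fun i => ?_
        have hsc : ∀ v : Fin 1 → ℂ, v = v 0 • Pi.single 0 1 := fun v => funext fun j => by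
          fin_cases j; simp
        have hi : i = 0 := Subsingleton.elim _ _
        subst hi
        rw [Pi.basisFun_apply, Module.End.mul_apply, Module.End.mul_apply,
          hsc (ρ b (Pi.single 0 1)), map_smul]
        conv_rhs => rw [hsc (ρ a (Pi.single 0 1)), map_smul, hsc (ρ b (Pi.single 0 1))]
        conv_lhs => rw [hsc (ρ a (Pi.single 0 1))]
        rw [smul_comm])
    refine hnn (Subgroup.zpowers x) ⟨fun z hz g => ?_⟩ (by rw [Nat.card_zpowers, hx])
    rwa [hcomm g z, mul_inv_cancel_right]
  exact CfsgLib.SmallDegree.psl_of_boundary ρ hρ hdeg (by omega) hsq hnn hdiv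


end Cfsg.Agent.S4504
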