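import Cfsg.Statements.S1527
import Mathlib

set_option autoImplicit false
open Cfsg

namespace Cfsg.Agent.S1527

/-- Let G be a finite group and H i (i in a finite index type) subgroups of pairwise coprime orders, each of whose underlying sets is a TI-subset of G, such that every non-identity element of G is conjugate to an element of some H i. Then Nat.card G − 1 = Σ_i [G : N_G(H i)] · (Nat.card (H i) − 1). -/
theorem result {G : Type*} [Group G] [Finite G] {ι : Type*} [Fintype ι] (H : ι → Subgroup G) (hcop : ∀ i j, i ≠ j → Nat.Coprime (Nat.card (H i)) (Nat.card (H j))) (hTI : ∀ i, Cfsg.IsTISubset (H i : Set G)) (hcover : ∀ g : G, g ≠ 1 → ∃ i, ∃ x : G, x * g * x⁻¹ ∈ H i) : Nat.card G - 1 = ∑ i, (Subgroup.normalizer (H i : Set G)).index * (Nat.card (H i) - 1) := by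
  classical
  let Ω := Σ i, (G ⧸ Subgroup.normalizer (H i : Set G)) × {h : H i // h ≠ 1}
  let Φ : Ω → {g : G // g ≠ 1} := fun z =>
    ⟨z.2.1.out * (z.2.2.1 : G) * z.2.1.out⁻¹, by
      rw [Ne, conj_eq_one_iff]
      exact fun h => z.2.2.2 (Subtype.ext h)⟩
  have hΦ : Function.Bijective Φ := by
    constructor
    · rintro ⟨i, q, h, hh⟩ ⟨j, q', h', hh'⟩ e
      have e1 : q.out * (h : G) * q.out⁻¹ = q'.out * (h' : G) * q'.out⁻¹ := congrArg Subtype.val e
      have hij : i = j := by
        by_contra hij
        have ho : orderOf (h : G) = orderOf (h' : G) := by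
          have := congrArg orderOf e1
          rwa [← MulAut.conj_apply, ← MulAut.conj_apply, MulEquiv.orderOf_eq,
            MulEquiv.orderOf_eq] at this
        have h1 : orderOf (h : G) = 1 := Nat.eq_one_of_dvd_coprimes (hcop i j hij)
          (Subgroup.orderOf_dvd_natCard _ h.2) (ho ▸ Subgroup.orderOf_dvd_natCard _ h'.2)
        exact hh (Subtype.ext (orderOf_eq_one_iff.1 h1))
      subst hij
      have e2 : (q'.out⁻¹ * q.out) * (h : G) * (q'.out⁻¹ * q.out)⁻¹ = h' := by
        have := congrArg (fun z => q'.out⁻¹ * z * q'.out) e1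
        simpa [mul_assoc] using this
      have hN : q'.out⁻¹ * q.out ∈ Subgroup.normalizer (H i : Set G) := by
        by_contra hn
        exact hh (Subtype.ext (hTI i _ hn h h.2 (by rw [e2]; exact h'.2)))
      have hq : q' = q := by
        rw [← QuotientGroup.out_eq' q, ← QuotientGroup.out_eq' q']
        exact QuotientGroup.eq.2 hN
      subst hq
      exact Sigma.ext rfl (heq_of_eq (Prod.ext rfl (Subtype.ext (Subtype.ext (by simpa using e2)))))
    · rintro ⟨g, hg⟩
      obtain ⟨i, x, hx⟩ := hcover g hg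
      set q : G ⧸ Subgroup.normalizer (H i : Set G) := QuotientGroup.mk x⁻¹
      have hn : q.out⁻¹ * x⁻¹ ∈ Subgroup.normalizer (H i : Set G) :=
        QuotientGroup.eq.1 (QuotientGroup.out_eq' q)
      have hh : (q.out⁻¹ * x⁻¹) * (x * g * x⁻¹) * (q.out⁻¹ * x⁻¹)⁻¹ ∈ H i :=
        (Subgroup.mem_normalizer_iff.1 hn _).1 hx
      refine ⟨⟨i, q, ⟨⟨_, hh⟩, fun h => hg ?_⟩⟩, Subtype.ext ?_⟩
      · have := congrArg Subtype.val h
        simp only [Subgroup.coe_one, conj_eq_one_iff] at this
        exact this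
      · simp [Φ, mul_assoc]
  have hsub : ∀ {M : Type _} [Group M] [Finite M], Nat.card {m : M // m ≠ 1} = Nat.card M - 1 := by
    intro M _ _
    have := Fintype.ofFinite M
    rw [Nat.card_eq_fintype_card, Nat.card_eq_fintype_card, Fintype.card_subtype_compl,
      Fintype.card_subtype_eq]
  rw [← hsub (M := G), ← Nat.card_eq_of_bijective Φ hΦ, Nat.card_sigma]
  refine Finset.sum_congr rfl fun i _ => ?_
  rw [Nat.card_prod, hsub, ← Subgroup.index_eq_card]

end Cfsg.Agent.S1527
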