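import Cfsg.Statements.S0200
import Cfsg.Agent.Lib.Involutions.BaerSuzuki
import Cfsg.Agent.Lib.Involutions.Basic

set_option autoImplicit false
open Cfsg

namespace Cfsg.Agent.S0200

/-- An involution lying in no normal 2-subgroup of a finite group inverts a nontrivial element of odd order (a consequence of the Baer–Suzuki Theorem). -/
theorem result {G : Type*} [Group G] [Finite G] (t : G) (ht : orderOf t = 2) (hO : ∀ N : Subgroup G, N.Normal → IsPGroup 2 N → t ∉ N) : ∃ h : G, h ≠ 1 ∧ Odd (orderOf h) ∧ t * h * t⁻¹ = h⁻¹ := by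
  open CfsgLib.Involutions in
  have : Fact (Nat.Prime 2) := ⟨Nat.prime_two⟩
  have hno : ¬ ∀ g : G, IsPGroup 2 ↥(Subgroup.zpowers t ⊔
      (Subgroup.zpowers t).map (MulAut.conj g).toMonoidHom) := by
    intro h
    obtain ⟨N, hN, hNp, hle⟩ := baerSuzuki (Subgroup.zpowers t) h
    exact hO N hN hNp (hle (Subgroup.mem_zpowers t))
  push Not at hno
  obtain ⟨g, hg⟩ := hno
  have hv : orderOf (g * t * g⁻¹) = 2 := conj_invol g ht
  have hinv := invol_conj_prod_left ht hv
  obtain ⟨a, m, hm2, hm⟩ := Nat.exists_eq_two_pow_mul_odd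
    (n := orderOf (t * (g * t * g⁻¹))) (Nat.pos_iff_ne_zero.1 (orderOf_pos _))
  have ho : orderOf ((t * (g * t * g⁻¹)) ^ (2 ^ a)) = m := by
    rw [orderOf_pow' _ (pow_ne_zero a two_ne_zero), hm, Nat.gcd_eq_right (dvd_mul_right _ _),
      Nat.mul_div_cancel_left _ (by positivity)]
  refine ⟨(t * (g * t * g⁻¹)) ^ (2 ^ a), fun h1 => hg ?_, ho ▸ hm2, ?_⟩
  · have hm1 : m = 1 := by rw [← ho, h1, orderOf_one]
    subst hm1
    rw [MonoidHom.map_zpowers]
    show IsPGroup 2 ↥(Subgroup.zpowers t ⊔ Subgroup.zpowers (g * t * g⁻¹))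
    have hle : Subgroup.zpowers t ⊔ Subgroup.zpowers (g * t * g⁻¹)
        ≤ Subgroup.closure ({t, g * t * g⁻¹} : Set G) :=
      sup_le (Subgroup.zpowers_le.2 (Subgroup.subset_closure (by simp)))
        (Subgroup.zpowers_le.2 (Subgroup.subset_closure (by simp)))
    refine IsPGroup.to_le ?_ hle
    intro ⟨d, hd⟩
    refine ⟨a + 1, Subtype.ext ?_⟩
    show d ^ (2 ^ (a + 1)) = 1
    have hp : (t * (g * t * g⁻¹)) ^ (2 ^ a) = 1 := h1
    obtain ⟨k, rfl | rfl⟩ := (mem_closure_pair_iff ht hv).1 hd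
    · rw [← zpow_natCast, ← zpow_mul, mul_comm k, zpow_mul, zpow_natCast, pow_succ, pow_mul, hp,
        one_pow, one_zpow]
    · rw [pow_succ', pow_mul]
      have hsq : (t * (t * (g * t * g⁻¹)) ^ k) ^ 2 = 1 := by
        rw [sq, show t * (t * (g * t * g⁻¹)) ^ k * (t * (t * (g * t * g⁻¹)) ^ k)
          = t * ((t * (g * t * g⁻¹)) ^ k * t) * (t * (g * t * g⁻¹)) ^ k by group,
          zpow_mul_invol ht hv, ← mul_assoc, invol_mul_self ht, one_mul, ← zpow_add,
          neg_add_cancel, zpow_zero]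
      rw [hsq, one_pow]
  · rw [← conj_pow, hinv, inv_pow]

end Cfsg.Agent.S0200
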