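import Cfsg.Statements.S1012
import Cfsg.Agent.Lib.Small.Basic

set_option autoImplicit false
open Cfsg

namespace Cfsg.Agent.S1012

/-- A group of order 24 containing no element of order 6 is isomorphic to the symmetric group of degree 4. -/
theorem result {G : Type*} [Group G] [Finite G] (h : Nat.card G = 24) (h6 : ∀ g : G, orderOf g ≠ 6) : Nonempty (G ≃* Equiv.Perm (Fin 4)) := by
  classical
  open Subgroup CfsgLib.Small in
  have := Fact.mk Nat.prime_three
  have := Fact.mk Nat.prime_two
  obtain ⟨P⟩ := (inferInstance : Nonempty (Sylow 3 G))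
  have hP : Nat.card (P : Subgroup G) = 3 := by
    simpa using card_sylow_eq (p := 3) 1 8 (by omega) (by omega) P
  have hd : Nat.card (Sylow 3 G) ∣ 8 := card_sylow_dvd (p := 3) 1 8 (by omega) (by omega)
  have hm : Nat.card (Sylow 3 G) % 3 = 1 := card_sylow_modEq_one 3 G
  have hne : ¬ ∃ t y : G, orderOf t = 2 ∧ orderOf y = 3 ∧ Commute t y := by
    rintro ⟨t, y, ht, hy, hc⟩
    refine h6 (t * y) ?_
    rw [hc.orderOf_mul_eq_mul_orderOf_of_coprime (by rw [ht, hy]; norm_num), ht, hy]
  have hn : Nat.card (Sylow 3 G) = 4 := by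
    have := Nat.le_of_dvd (by norm_num) hd
    rcases (show Nat.card (Sylow 3 G) = 1 ∨ Nat.card (Sylow 3 G) = 4 by
      interval_cases hk : Nat.card (Sylow 3 G) <;> omega) with h1 | h4
    · exfalso
      have : Subsingleton (Sylow 3 G) := (Nat.card_eq_one_iff_unique.mp h1).1
      have hN : Subgroup.normalizer ((P : Subgroup G) : Set G) = ⊤ := by
        apply Subgroup.eq_top_of_card_eq
        have := card_normalizer_mul P
        rw [h1, mul_one] at this
        exact this
      have hcyc : IsCyclic (P : Subgroup G) := isCyclic_of_prime_card hP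
      have key := card_dvd_of_injective _
        (QuotientGroup.kerLift_injective (P : Subgroup G).normalizerMonoidHom)
      rw [normalizerMonoidHom_ker, ← index, ← relIndex, hcyc.card_mulAut, hP, hN,
        relIndex_top_right, Nat.totient_prime Nat.prime_three] at key
      set C := Subgroup.centralizer ((P : Subgroup G) : Set G)
      have hC := C.card_mul_index
      rw [h] at hC
      have h2 : 2 ∣ Nat.card C := by
        rcases (Nat.dvd_prime Nat.prime_two).mp key with hk | hk <;> rw [hk] at hC <;> omega
      obtain ⟨t, ht⟩ := exists_prime_orderOf_dvd_card' (G := C) 2 h2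
      obtain ⟨y, hy⟩ := exists_prime_orderOf_dvd_card' (G := (P : Subgroup G)) 3 (by rw [hP])
      exact hne ⟨t, y, by rw [orderOf_coe, ht], by rw [orderOf_coe, hy],
        (mem_centralizer_iff.mp t.2 y y.2).symm⟩
    · exact h4
  set f := MulAction.toPermHom G (Sylow 3 G) with hf
  set N := Subgroup.normalizer ((P : Subgroup G) : Set G)
  have hN : Nat.card N = 6 := by
    have : Nat.card N * Nat.card (Sylow 3 G) = Nat.card G := card_normalizer_mul P
    rw [hn, h] at this
    omega
  have hker : ∀ (Q : Sylow 3 G) (g : G), g ∈ f.ker →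
      g ∈ Subgroup.normalizer ((Q : Subgroup G) : Set G) := fun Q g hg =>
    Sylow.smul_eq_iff_mem_normalizer.mp (DFunLike.congr_fun (MonoidHom.mem_ker.mp hg) Q)
  have hK6 : Nat.card f.ker ∣ 6 := hN ▸ card_dvd_of_le (fun g hg => hker P g hg)
  have hinj : Function.Injective f := by
    rw [← MonoidHom.ker_eq_bot_iff, ← Subgroup.card_eq_one]
    by_contra hK
    have h3 : ¬ 3 ∣ Nat.card f.ker := by
      intro h3
      obtain ⟨R⟩ := (inferInstance : Nonempty (Sylow 3 f.ker))
      obtain ⟨y, hy⟩ := exists_prime_orderOf_dvd_card' (G := f.ker) 3 h3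
      -- the subgroup generated by an element of order 3 of the kernel is a Sylow subgroup
      have hy' : orderOf (y : G) = 3 := by rw [orderOf_coe, hy]
      have hz : ∀ Q : Sylow 3 G, (Q : Subgroup G) = zpowers (y : G) := by
        intro Q
        have hyQ : (y : G) ∈ (Q : Subgroup G) := by
          have hp : IsPGroup 3 (zpowers (y : G)) :=
            IsPGroup.of_card (n := 1) (by rw [Nat.card_zpowers, hy', pow_one])
          have := hp.to_sup_of_normal_right' Q.isPGroup' (zpowers_le.mpr (hker Q y y.2))
          have e := Q.is_maximal' this le_sup_right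
          exact e.le ((le_sup_left : zpowers (y : G) ≤ _) (mem_zpowers _))
        refine (Subgroup.eq_of_le_of_card_ge (zpowers_le.mpr hyQ) ?_).symm
        rw [Nat.card_zpowers, hy', card_sylow_eq (p := 3) 1 8 (by omega) (by omega) Q, pow_one]
      have : Subsingleton (Sylow 3 G) := ⟨fun a b => Sylow.ext ((hz a).trans (hz b).symm)⟩
      have := (Finite.card_le_one_iff_subsingleton (α := Sylow 3 G)).mpr this
      omega
    have hK2 : Nat.card f.ker = 2 := by
      have := Nat.le_of_dvd (by norm_num) hK6
      have := Nat.card_pos (α := f.ker)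
      interval_cases hk : Nat.card f.ker <;> omega
    obtain ⟨t, ht⟩ := exists_prime_orderOf_dvd_card' (G := f.ker) 2 (by rw [hK2])
    obtain ⟨y, hy⟩ := exists_prime_orderOf_dvd_card' (G := (P : Subgroup G)) 3 (by rw [hP])
    refine hne ⟨t, y, by rw [orderOf_coe, ht], by rw [orderOf_coe, hy], ?_⟩
    have hmem : (y : G) * (t : G) * (y : G)⁻¹ ∈ f.ker :=
      (inferInstance : f.ker.Normal).conj_mem _ t.2 _
    obtain ⟨a, b, hab, huniv⟩ := Nat.card_eq_two_iff.mp hK2
    have h1 : (y : G) * (t : G) * (y : G)⁻¹ ≠ 1 := by
      intro e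
      rw [conj_eq_one_iff] at e
      have : orderOf (t : G) = 2 := by rw [orderOf_coe, ht]
      rw [e, orderOf_one] at this
      omega
    have ht1 : (t : G) ≠ 1 := fun e => by
      have : orderOf (t : G) = 2 := by rw [orderOf_coe, ht]
      rw [e, orderOf_one] at this
      omega
    have hall : ∀ u v : f.ker, u ≠ 1 → v ≠ 1 → u = v := by
      intro u v hu hv
      have hu' := huniv.symm.subset (Set.mem_univ u)
      have hv' := huniv.symm.subset (Set.mem_univ v)
      have h1' := huniv.symm.subset (Set.mem_univ (1 : f.ker))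
      simp only [Set.mem_insert_iff, Set.mem_singleton_iff] at hu' hv' h1'
      rcases hu' with rfl | rfl <;> rcases hv' with rfl | rfl <;>
        first | rfl | (rcases h1' with e | e <;> simp_all)
    have e := congrArg Subtype.val (hall ⟨_, hmem⟩ t (fun e => h1 (congrArg Subtype.val e))
      (fun e => ht1 (congrArg Subtype.val e)))
    exact (mul_inv_eq_iff_eq_mul.mp e).symm
  have hsurj : Function.Surjective f := by
    refine Function.Injective.bijective_of_nat_card_le hinj ?_ |>.2
    rw [Nat.card_perm, hn, h]
    decide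
  have : Fintype (Sylow 3 G) := Fintype.ofFinite _
  exact ⟨(MulEquiv.ofBijective f ⟨hinj, hsurj⟩).trans
    (Finite.equivFinOfCardEq hn).permCongrHom⟩

end Cfsg.Agent.S1012
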