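import Cfsg.Statements.S0307
import Cfsg.Agent.Lib.Classical.Order


set_option autoImplicit false
open Cfsg

namespace Cfsg.Agent.S0307

/-- PSL_n(q) is normal in PGL_n(q) with cyclic quotient of order gcd(n, q-1): the image of the natural map PSL_n → PGL_n is the kernel of a surjective homomorphism onto the cyclic group of that order. -/
theorem result {F : Type*} [Field F] [Fintype F] {q : ℕ} (hF : Fintype.card F = q) (n : ℕ) (hn : 1 ≤ n) : ∃ g : Matrix.ProjGenLinGroup (Fin n) F →* Multiplicative (ZMod (Nat.gcd n (q - 1))), Function.Surjective g ∧ g.ker = (Matrix.ProjectiveSpecialLinearGroup.toPGL : Matrix.ProjectiveSpecialLinearGroup (Fin n) F →* Matrix.ProjGenLinGroup (Fin n) F).range := by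
  subst hF
  classical
  have : Nonempty (Fin n) := ⟨⟨0, hn⟩⟩
  obtain ⟨d, hd⟩ : ∃ d : Fˣ →* Multiplicative (ZMod (Nat.gcd n (Fintype.card F - 1))),
      Function.Surjective d ∧ d.ker = (powMonoidHom n : Fˣ →* Fˣ).range := by
    have hidx : Nat.card (Fˣ ⧸ (powMonoidHom n : Fˣ →* Fˣ).range) =
        Nat.gcd n (Fintype.card F - 1) := by
      rw [← Subgroup.index_eq_card, IsCyclic.index_powMonoidHom_range,
        CfsgLib.Classical.card_units_field, Nat.card_eq_fintype_card, Nat.gcd_comm]
    have e := mulEquivOfCyclicCardEq (G := Fˣ ⧸ (powMonoidHom n : Fˣ →* Fˣ).range)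
      (G' := Multiplicative (ZMod (Nat.gcd n (Fintype.card F - 1))))
      (by rw [hidx, Nat.card_congr Multiplicative.toAdd, Nat.card_zmod])
    refine ⟨e.toMonoidHom.comp (QuotientGroup.mk' _), e.surjective.comp (QuotientGroup.mk'_surjective _), ?_⟩
    rw [MulEquiv.toMonoidHom_eq_coe, MonoidHom.ker_mulEquiv_comp]
    exact QuotientGroup.ker_mk' _
  have hmem : ∀ u : Fˣ, d u = 1 ↔ ∃ r : Fˣ, r ^ n = u := fun u => by
    rw [← MonoidHom.mem_ker, hd.2]; rfl
  refine ⟨Matrix.ProjGenLinGroup.lift (d.comp Matrix.GeneralLinearGroup.det) ?_, ?_, ?_⟩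
  · ext u
    simp only [MonoidHom.coe_comp, Function.comp_apply, MonoidHom.one_apply,
      Matrix.GeneralLinearGroup.det_scalar, Fintype.card_fin]
    rw [(hmem _).2 ⟨u, rfl⟩]
  · intro x
    obtain ⟨u, rfl⟩ := hd.1 x
    obtain ⟨g, rfl⟩ := Matrix.GeneralLinearGroup.det_surjective (n := Fin n) u
    exact ⟨Matrix.ProjGenLinGroup.mk g, by simp⟩
  · ext x
    induction x using Matrix.ProjGenLinGroup.induction_on with | mk g => ?_
    rw [MonoidHom.mem_ker, Matrix.ProjGenLinGroup.lift_mk, MonoidHom.comp_apply, hmem]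
    constructor
    · rintro ⟨r, hr⟩
      have hg : g * Matrix.GeneralLinearGroup.scalar (Fin n) r⁻¹ ∈
          (Matrix.GeneralLinearGroup.det : Matrix.GeneralLinearGroup (Fin n) F →* Fˣ).ker := by
        rw [MonoidHom.mem_ker, map_mul, Matrix.GeneralLinearGroup.det_scalar, Fintype.card_fin,
          ← hr, inv_pow, mul_inv_cancel]
      rw [← CfsgLib.Classical.range_toGL] at hg
      obtain ⟨s, hs⟩ := hg
      refine ⟨QuotientGroup.mk s, ?_⟩
      simp [hs]
    · rintro ⟨s, hs⟩
      induction s using QuotientGroup.induction_on with | H s => ?_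
      rw [Matrix.ProjectiveSpecialLinearGroup.toPGL_mk, Matrix.ProjGenLinGroup.mk_eq_mk_iff] at hs
      obtain ⟨u, rfl⟩ := hs
      refine ⟨u, ?_⟩
      rw [map_mul, Matrix.GeneralLinearGroup.det_scalar, Fintype.card_fin]
      have : Matrix.GeneralLinearGroup.det (Matrix.SpecialLinearGroup.toGL s) = 1 :=
        Units.ext (by simp)
      rw [this, one_mul]

end Cfsg.Agent.S0307
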