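import Cfsg.Statements.S0340
import Cfsg.Agent.Lib.Chev.Suz2.ZassMain
import Cfsg.Agent.Lib.Perm.ZassG.Feit
import Cfsg.Agent.Lib.Perm.ZassG.SharpPGLEven
import Cfsg.Agent.S0307

set_option autoImplicit false
open Cfsg

namespace Cfsg.Agent.S0340

/-- Classification of Zassenhaus groups, simple case, order-level form: a finite simple Zassenhaus group is
isomorphic to `PSL₂(F)` for some finite field `F` or is simple of Suzuki order. -/
theorem result {G Ω : Type*} [Group G] [Finite G] [MulAction G Ω]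
    [Finite Ω] (hZ : Cfsg.IsZassenhausGroup G Ω) [IsSimpleGroup G] :
    (∃ (F : Type) (_ : Field F) (_ : Fintype F), Nonempty (G ≃* Matrix.ProjectiveSpecialLinearGroup (Fin 2) F)) ∨ Cfsg.IsSuzuki G := by
  obtain ⟨-, -, a, b, hab, -⟩ := hZ.2.2.2.1
  obtain ⟨F, hF⟩ := CfsgLib.Perm.ZassG.exists_kernel hZ hab
  have hpsl : Nat.card F = 2 * Nat.card (CfsgLib.Perm.ZassG.pairStab G a b) + 1 →
      ∃ (K : Type) (_ : Field K) (_ : Fintype K),
        Nonempty (G ≃* Matrix.ProjectiveSpecialLinearGroup (Fin 2) K) := fun hc => by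
    obtain ⟨K, hK, hK', -, -, hiso⟩ := CfsgLib.Perm.ZassG.exists_psl hZ hab hF hc
    exact ⟨K, hK, hK', hiso⟩
  rcases Nat.even_or_odd (Nat.card (CfsgLib.Perm.ZassG.pairStab G a b)) with he | ho
  · exact Or.inl (hpsl (CfsgLib.Perm.ZassG.half_of_simple hZ hab he.two_dvd hF))
  have := Fintype.ofFinite G
  rcases CfsgLib.Perm.ZassG.feit (Nat.card G) G rfl hZ hab ho F hF with hle | ⟨h2, hna, -⟩
  swap
  · exact Or.inr (CfsgLib.Chev.Suz2.ctx_of_simple hZ hab hF h2 hna).isSuzuki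
  refine Or.inl ?_
  have hΩ := hF.card_add_one hab
  have hF1 : Nat.card F ≠ 1 := fun h => hF.ne_bot hZ hab (Subgroup.eq_bot_of_card_eq _ h)
  have hF0 : 0 < Nat.card F := Nat.card_pos
  obtain ⟨t, ht⟩ := (hF.isFPF hZ hab).card_dvd
  rcases Nat.lt_or_ge t 2 with ht2 | ht2
  · have hte : Nat.card F = Nat.card (CfsgLib.Perm.ZassG.pairStab G a b) + 1 := by
      interval_cases t <;> omega
    have hoddΩ : Odd (Nat.card Ω) := by
      obtain ⟨r, hr⟩ := ho
      exact ⟨r + 1, by omega⟩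
    obtain ⟨K, hK, hK', hKc, ⟨i⟩⟩ := CfsgLib.Perm.ZassG.exists_pgl_of_odd hZ hab (by omega) hoddΩ
    refine ⟨K, hK, hK', ?_⟩
    obtain ⟨g, -, hker⟩ := Cfsg.Agent.S0307.result (F := K) rfl 2 one_le_two
    have hgcd : Nat.gcd 2 (Fintype.card K - 1) = 1 := by
      obtain ⟨r, hr⟩ := ho
      rw [← Nat.card_eq_fintype_card]
      exact Nat.coprime_two_left.2 ⟨r, by omega⟩
    have htop : (Matrix.ProjectiveSpecialLinearGroup.toPGL :
        Matrix.ProjectiveSpecialLinearGroup (Fin 2) K →* Matrix.ProjGenLinGroup (Fin 2) K).range = ⊤ := by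
      rw [← hker, eq_top_iff]
      intro x _
      have : Subsingleton (Multiplicative (ZMod (Nat.gcd 2 (Fintype.card K - 1)))) := by
        rw [hgcd]; infer_instance
      exact MonoidHom.mem_ker.2 (Subsingleton.elim _ _)
    exact ⟨i.trans (MulEquiv.ofBijective _
      ⟨Matrix.ProjectiveSpecialLinearGroup.toPGL_injective, MonoidHom.range_eq_top.1 htop⟩).symm⟩
  · have hmul : Nat.card (CfsgLib.Perm.ZassG.pairStab G a b) * 2 ≤
        Nat.card (CfsgLib.Perm.ZassG.pairStab G a b) * t := Nat.mul_le_mul_left _ ht2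
    exact hpsl (by omega)

end Cfsg.Agent.S0340
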