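import Cfsg.Statements.S3224
import Mathlib
import Cfsg.Agent.Lib.PGroups.MaximalClassTwo
import Cfsg.Agent.S0112

set_option autoImplicit false
open Cfsg

namespace Cfsg.Agent.S3224

/-- A finite 2-group containing an involution whose centralizer has order 4 is dihedral, quasi-dihedral (semidihedral), or of order 4. -/
theorem result {S : Type*} [Group S] [Finite S] (hS : IsPGroup 2 S)
    (x : S) (hx : orderOf x = 2) (hC : Nat.card ↥(Subgroup.centralizer ({x} : Set S)) = 4) :
    (∃ n : ℕ, Nonempty (S ≃* DihedralGroup n)) ∨ Cfsg.IsQuasiDihedral S ∨ Nat.card S = 4 := by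
  classical
  obtain ⟨n, hn⟩ := IsPGroup.iff_card.1 hS
  set A := Subgroup.centralizer ({x} : Set S) with hA
  have h4 : 4 ∣ Nat.card S := hC ▸ Subgroup.card_subgroup_dvd_card A
  rcases Nat.lt_or_ge n 3 with hlt | hge
  · refine Or.inr (Or.inr ?_)
    rw [hn] at h4 ⊢
    interval_cases n <;> omega
  have hxA : x ∈ A := Subgroup.mem_centralizer_singleton_iff.2 rfl
  haveI : IsMulCommutative A := IsPGroup.isMulCommutative_of_card_eq_prime_sq (p := 2) (by rw [hC]; norm_num)
  have hCA : Subgroup.centralizer (A : Set S) = A := by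
    refine le_antisymm (fun g hg => Subgroup.mem_centralizer_singleton_iff.2
      (Subgroup.mem_centralizer_iff.1 hg x hxA).symm) fun g hg => Subgroup.mem_centralizer_iff.2 fun a ha =>
        congrArg Subtype.val ((IsMulCommutative.is_comm).comm (⟨a, ha⟩ : A) ⟨g, hg⟩)
  have hcl := Cfsg.Agent.S0112.result (p := 2) n hn A (by rw [hC]; norm_num) hCA
  rcases CfsgLib.PGroups.maximalClass_two_classification hge hn hcl with
    ⟨k, hk⟩ | ⟨k, hk, a, b, ha, hb, hab⟩ | ⟨k, ⟨e⟩⟩
  · exact Or.inl ⟨_, hk⟩
  · exact Or.inr (Or.inl ⟨k + 3, by omega, hk, a, b, ha, hb, by simpa using hab⟩)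
  · exfalso
    have hcomm : ∀ g : S, g * x = x * g := by
      intro g
      apply e.injective
      rw [map_mul, map_mul]
      haveI : NeZero (2 ^ (k + 1)) := ⟨by positivity⟩
      have hex : orderOf (e x) = 2 := (e.orderOf_eq x).trans hx
      have huniq : e x = QuaternionGroup.a ((2 ^ (k + 1) : ℕ) : ZMod (2 * 2 ^ (k + 1))) := by
        rcases hq : e x with i | i
        · rw [hq] at hex
          have hsq : QuaternionGroup.a (i + i) = 1 := by
            have h := pow_orderOf_eq_one (QuaternionGroup.a i)
            rw [hex, sq, QuaternionGroup.a_mul_a] at h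
            exact h
          have hne : i ≠ 0 := fun h => by rw [h] at hex; exact absurd (hex.symm.trans orderOf_one) (by norm_num)
          congr 1
          have h2 : ((i.val + i.val : ℕ) : ZMod (2 * 2 ^ (k + 1))) = 0 := by
            rw [Nat.cast_add, ZMod.natCast_rightInverse i]
            exact QuaternionGroup.a.inj hsq
          obtain ⟨d, hd⟩ := (ZMod.natCast_eq_zero_iff _ _).1 h2
          have hlt := ZMod.val_lt i
          have hd2 : d < 2 := by nlinarith
          have hi0 : i.val ≠ 0 := fun h => hne ((ZMod.val_eq_zero i).1 h)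
          have hd1 : d = 1 := by
            interval_cases d
            · omega
            · rfl
          rw [← ZMod.natCast_rightInverse i]
          congr 1
          subst hd1; omega
        · rw [hq, QuaternionGroup.orderOf_xa] at hex
          norm_num at hex
      rw [huniq]
      rcases e g with i | i
      · rw [QuaternionGroup.a_mul_a, QuaternionGroup.a_mul_a]
        exact congrArg QuaternionGroup.a (add_comm _ _)
      · rw [QuaternionGroup.xa_mul_a, QuaternionGroup.a_mul_xa]
        congr 1
        rw [sub_eq_add_neg]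
        congr 1
        have : ((2 ^ (k + 1) : ℕ) : ZMod (2 * 2 ^ (k + 1))) + ((2 ^ (k + 1) : ℕ) : ZMod (2 * 2 ^ (k + 1))) = 0 := by
          rw [← Nat.cast_add, ← two_mul]; exact ZMod.natCast_self _
        exact eq_neg_of_add_eq_zero_left this
    have hAtop : A = ⊤ := eq_top_iff.2 fun g _ => Subgroup.mem_centralizer_singleton_iff.2 (hcomm g)
    rw [hAtop, Subgroup.card_top, hn] at hC
    have : 2 ^ 3 ≤ 2 ^ n := Nat.pow_le_pow_right two_pos hge
    omega

end Cfsg.Agent.S3224
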