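import Cfsg.Statements.S4035
import Cfsg.Agent.Lib.FgsB.DirectFactor
import Cfsg.Agent.Lib.Transfer.NormalPComplement

set_option autoImplicit false
open Cfsg

namespace Cfsg.Agent.S4035

/-- Let G be a finite group and p a prime such that p divides the size of no conjugacy class of p-regular elements (elements of order prime to p). Then G is the internal direct product of a Sylow p-subgroup P and a normal subgroup H of order prime to p: P is normal, P ⊓ H = 1 and PH = G. -/
theorem result {G : Type*} [Group G] [Finite G] {p : ℕ} [Fact p.Prime]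
    (h : ∀ x : G, (orderOf x).Coprime p → ¬ p ∣ (ConjClasses.mk x).carrier.ncard) (P : Sylow p G) :
    (P : Subgroup G).Normal ∧ ∃ H : Subgroup G, H.Normal ∧ ¬ p ∣ Nat.card H ∧
      (P : Subgroup G) ⊓ H = ⊥ ∧ (P : Subgroup G) ⊔ H = ⊤ := by
  have h' : ∀ b : G, (orderOf b).Coprime p → ∀ a : G, (∃ k : ℕ, orderOf a = p ^ k) → Commute a b →
      ∃ g : G, g⁻¹ * a * g ∈ (P : Subgroup G) ∧
        g⁻¹ * b * g ∈ Subgroup.centralizer ((P : Subgroup G) : Set G) := by
    intro b hb a ha hab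
    have hidx : ¬ p ∣ (Subgroup.centralizer ({b} : Set G)).index := by
      rw [← CfsgLib.FgsB.ncard_carrier_eq_index]; exact h b hb
    set C := Subgroup.centralizer ({b} : Set G)
    have haC : a ∈ C := Subgroup.mem_centralizer_singleton_iff.mpr hab
    obtain ⟨k, hk⟩ := ha
    have hp : IsPGroup p (Subgroup.zpowers (⟨a, haC⟩ : C)) :=
      IsPGroup.of_card (n := k) (by rw [Nat.card_zpowers, Subgroup.orderOf_mk, hk])
    obtain ⟨R, hR⟩ := hp.exists_le_sylow
    have hQidx : ¬ p ∣ ((R : Subgroup C).map C.subtype).index := by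
      rw [Subgroup.index_map_subtype]
      exact fun hd => ((Fact.out : p.Prime).dvd_mul.mp hd).elim R.not_dvd_index hidx
    obtain ⟨g, hg⟩ := MulAction.exists_smul_eq G P ((R.2.map C.subtype).toSylow hQidx)
    have hmem : ∀ u : G, u ∈ (R : Subgroup C).map C.subtype ↔ g⁻¹ * u * g ∈ (P : Subgroup G) := by
      intro u
      constructor
      · intro hu
        exact CfsgLib.FgsB.conj_mem_of_smul (P := P) (g := g) (by rw [hg]; exact hu)
      · intro hu
        have := CfsgLib.FgsB.mem_smul_of_conj_mem (P := P) hu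
        rw [hg] at this; exact this
    refine ⟨g, (hmem a).mp ⟨⟨a, haC⟩, hR (Subgroup.mem_zpowers _), rfl⟩, ?_⟩
    rw [Subgroup.mem_centralizer_iff]
    intro u hu
    obtain ⟨w, -, hw'⟩ := (hmem (g * u * g⁻¹)).mpr (by rw [show g⁻¹ * (g * u * g⁻¹) * g = u by group]; exact hu)
    have hw : (g * u * g⁻¹) * b = b * (g * u * g⁻¹) := by
      rw [← hw']; exact Subgroup.mem_centralizer_singleton_iff.mp w.2
    calc u * (g⁻¹ * b * g) = g⁻¹ * ((g * u * g⁻¹) * b) * g := by group
    _ = g⁻¹ * (b * (g * u * g⁻¹)) * g := by rw [hw]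
    _ = g⁻¹ * b * g * u := by group
  have hcov : (P : Subgroup G) ⊔ Subgroup.centralizer ((P : Subgroup G) : Set G) = ⊤ := by
    apply CfsgLib.FgsB.eq_top_of_forall_exists_conj_mem
    intro x
    obtain ⟨a, ha, b, hb, hab, ⟨k, hk⟩, hbp⟩ := CfsgLib.Transfer.exists_pPart_mul (p := p) x
    obtain ⟨i, -, hi⟩ := (Nat.dvd_prime_pow (Fact.out : p.Prime)).mp hk
    have hcomm : Commute a b := by
      obtain ⟨s, rfl⟩ := ha
      obtain ⟨t, rfl⟩ := hb
      exact (Commute.refl x).zpow_zpow s t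
    obtain ⟨g, h1, h2⟩ := h' b hbp a ⟨i, hi⟩ hcomm
    refine ⟨g, ?_⟩
    have := Subgroup.mul_mem_sup h1 h2
    rw [← hab]; simpa [mul_assoc] using this
  have hP : (P : Subgroup G).Normal := by
    rw [← Subgroup.normalizer_eq_top_iff, eq_top_iff, ← hcov]
    exact sup_le Subgroup.le_normalizer (Subgroup.centralizer_le_normalizer _)
  obtain ⟨hn, K, hK, hc, hd, hs, -⟩ := CfsgLib.FgsB.isDirectFactor_of_centralizing P (by
    rintro y ⟨r, k, hr, hrp, hy⟩
    have hcop : (orderOf y).Coprime p := by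
      rw [hy]; exact ((Nat.coprime_primes hr (Fact.out : p.Prime)).mpr hrp).pow_left k
    obtain ⟨g, -, h2⟩ := h' y hcop 1 ⟨0, by simp⟩ (Commute.one_left y)
    rw [Subgroup.mem_centralizer_iff] at h2 ⊢
    intro u hu
    have h3 := h2 (g⁻¹ * u * g) (by have h5 := hP.conj_mem u hu g⁻¹; rw [inv_inv] at h5; exact h5)
    calc u * y = g * ((g⁻¹ * u * g) * (g⁻¹ * y * g)) * g⁻¹ := by group
    _ = g * ((g⁻¹ * y * g) * (g⁻¹ * u * g)) * g⁻¹ := by rw [h3]
    _ = y * u := by group)
  refine ⟨hP, K, hK, ?_, hd, hs⟩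
  rw [← hc.index_eq_card]
  exact P.not_dvd_index

end Cfsg.Agent.S4035
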