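import Cfsg.Statements.S4127
import Mathlib
import Cfsg.Agent.S4035
import Cfsg.Agent.Lib.Coprime.Action2
import Cfsg.Agent.Lib.Transfer.NormalPComplement

set_option autoImplicit false
open Cfsg

namespace Cfsg.Agent.S4127

/-- Let G be a finite group, p a prime and p^a the largest power of p dividing the size of any conjugacy class of G. If some element of p-power order has a conjugacy class of size exactly p^a, then G has a normal p-complement. -/
theorem result {G : Type*} [Group G] [Finite G] (p : ℕ) [Fact p.Prime]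
    (a : ℕ) (hmax : ∀ y : G, ¬ p ^ (a + 1) ∣ (Subgroup.centralizer ({y} : Set G)).index)
    (hx : ∃ x : G, (∃ k : ℕ, orderOf x = p ^ k) ∧ (Subgroup.centralizer ({x} : Set G)).index = p ^ a) :
    Cfsg.HasNormalPComplement p G := by
  classical
  have hp : p.Prime := Fact.out
  obtain ⟨x, ⟨kx, hkx⟩, hxa⟩ := hx
  set C := Subgroup.centralizer ({x} : Set G) with hCdef
  have hxC : x ∈ C := Subgroup.mem_centralizer_singleton_iff.mpr rfl
  -- `p`-regular elements of `C` have classes of size prime to `p`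
  have hcl : ∀ b : C, (orderOf b).Coprime p → ¬ p ∣ (ConjClasses.mk b).carrier.ncard := by
    intro b hb hd
    rw [CfsgLib.FgsB.ncard_carrier_eq_index] at hd
    set D := Subgroup.centralizer ({x * (b : G)} : Set G) with hD
    have hcomm : Commute x (b : G) := (Subgroup.mem_centralizer_singleton_iff.mp b.2).symm
    have hbo : (orderOf (b : G)).Coprime (orderOf x) := by
      rw [Subgroup.orderOf_coe, hkx]; exact hb.pow_right kx
    have hDC : D ≤ C := by
      intro g hg
      have hg' : Commute g (x * (b : G)) := Subgroup.mem_centralizer_singleton_iff.mp hg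
      have h1 : (x * (b : G)) ^ orderOf (b : G) = x ^ orderOf (b : G) := by
        rw [hcomm.mul_pow, pow_orderOf_eq_one, mul_one]
      have h2 : Commute g (x ^ orderOf (b : G)) := h1 ▸ hg'.pow_right _
      obtain ⟨m, hm⟩ := exists_pow_eq_self_of_coprime hbo
      exact Subgroup.mem_centralizer_singleton_iff.mpr (hm ▸ h2.pow_right m).eq
    have hsub : D.subgroupOf C ≤ Subgroup.centralizer ({b} : Set C) := by
      intro g hg
      have hg' : Commute (g : G) (x * (b : G)) := Subgroup.mem_centralizer_singleton_iff.mp hg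
      have hgx : Commute (g : G) x := Subgroup.mem_centralizer_singleton_iff.mp g.2
      have hgb : Commute (g : G) (x⁻¹ * (x * (b : G))) := hgx.inv_right.mul_right hg'
      rw [inv_mul_cancel_left] at hgb
      exact Subgroup.mem_centralizer_singleton_iff.mpr (Subtype.ext hgb.eq)
    have h3 : p ∣ D.relIndex C := hd.trans (Subgroup.index_dvd_of_le hsub)
    refine hmax (x * (b : G)) ?_
    rw [← hD, ← Subgroup.relIndex_mul_index hDC, hxa, pow_succ, mul_comm _ (p ^ a)]
    exact mul_dvd_mul_left _ h3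
  obtain ⟨R⟩ : Nonempty (Sylow p C) := inferInstance
  obtain ⟨hRn, K, hKn, hKp, hRK, hRK'⟩ := Cfsg.Agent.S4035.result hcl R
  set R' := (R : Subgroup C).map C.subtype with hR'
  set K' := K.map C.subtype with hK'
  obtain ⟨P, hP⟩ := (R.isPGroup'.map C.subtype).exists_le_sylow
  -- the class of `x` is a `P`-orbit
  have hrel : C.index ≤ C.relIndex (P : Subgroup G) := by
    have h2 : C.relIndex (P : Subgroup G) * Nat.card ↥(C ⊓ (P : Subgroup G)) = Nat.card (P : Subgroup G) := by
      have h3 := Subgroup.relIndex_mul_relIndex ⊥ (C ⊓ (P : Subgroup G)) (P : Subgroup G) bot_le inf_le_right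
      rw [Subgroup.relIndex_bot_left, Subgroup.relIndex_bot_left, Subgroup.inf_relIndex_right] at h3
      rw [mul_comm]; exact h3
    have h4 : C.index * Nat.card (R : Subgroup C) = Nat.card (P : Subgroup G) := by
      rw [Sylow.card_eq_multiplicity R, Sylow.card_eq_multiplicity P, ← C.index_mul_card,
        Nat.factorization_mul Subgroup.index_ne_zero_of_finite Nat.card_pos.ne', hxa]
      simp [pow_add, hp.factorization_self]
    have h1 : Nat.card ↥(C ⊓ (P : Subgroup G)) ≤ Nat.card (R : Subgroup C) := by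
      obtain ⟨R₂, hR₂⟩ := ((P.isPGroup'.to_le inf_le_right : IsPGroup p ↥(C ⊓ (P : Subgroup G))).comap_of_injective
        C.subtype C.subtype_injective).exists_le_sylow
      rw [← Nat.card_congr (Subgroup.subgroupOfEquivOfLe (inf_le_left : C ⊓ (P : Subgroup G) ≤ C)).toEquiv,
        Sylow.card_eq_multiplicity R, ← Sylow.card_eq_multiplicity R₂]
      exact Subgroup.card_le_of_le hR₂
    by_contra hlt
    rw [not_le] at hlt
    have h5 : C.relIndex (P : Subgroup G) * Nat.card ↥(C ⊓ (P : Subgroup G)) < C.index * Nat.card (R : Subgroup C) :=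
      lt_of_le_of_lt (Nat.mul_le_mul le_rfl h1) (Nat.mul_lt_mul_of_pos_right hlt Nat.card_pos)
    rw [h2, h4] at h5
    exact lt_irrefl _ h5
  have hxR : x ∈ R' := by
    refine ⟨⟨x, hxC⟩, ?_, rfl⟩
    obtain ⟨S, hS⟩ := (IsPGroup.of_card (n := kx) (by rw [Nat.card_zpowers, Subgroup.orderOf_mk, hkx]) :
      IsPGroup p (Subgroup.zpowers (⟨x, hxC⟩ : C))).exists_le_sylow
    have := Sylow.unique_of_normal R hRn
    rw [Subsingleton.elim R S]
    exact hS (Subgroup.mem_zpowers _)
  set U := Subgroup.normalClosure ({x} : Set G) with hU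
  have hUP : U ≤ (P : Subgroup G) := by
    rw [hU, Subgroup.normalClosure, Subgroup.closure_le]
    intro z hz
    rw [Group.mem_conjugatesOfSet_iff] at hz
    obtain ⟨w, hw, hwz⟩ := hz
    rw [Set.mem_singleton_iff] at hw
    subst hw
    obtain ⟨c, rfl⟩ := isConj_iff.mp hwz
    let f : (↥(P : Subgroup G) ⧸ C.subgroupOf (P : Subgroup G)) → G ⧸ C :=
      fun t => QuotientGroup.mk ((t.out : ↥(P : Subgroup G)) : G)
    have hf : Function.Injective f := by
      intro s t hst
      rw [← QuotientGroup.out_eq' s, ← QuotientGroup.out_eq' t, QuotientGroup.eq, Subgroup.mem_subgroupOf]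
      exact QuotientGroup.eq.mp hst
    obtain ⟨t, ht⟩ := (hf.bijective_of_nat_card_le (by
      rw [← Subgroup.index_eq_card, ← Subgroup.index_eq_card]; exact hrel)).2 (QuotientGroup.mk c)
    set u : G := ((t.out : ↥(P : Subgroup G)) : G) with hu
    have hmem : u⁻¹ * c ∈ C := QuotientGroup.eq.mp ht
    have hc : u⁻¹ * c * w = w * (u⁻¹ * c) := Subgroup.mem_centralizer_singleton_iff.mp hmem
    have e : c * w * c⁻¹ = u * w * u⁻¹ := by
      calc c * w * c⁻¹ = u * (u⁻¹ * c * w) * c⁻¹ := by group
        _ = u * (w * (u⁻¹ * c)) * c⁻¹ := by rw [hc]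
        _ = u * w * u⁻¹ := by group
    rw [e]
    exact (P : Subgroup G).mul_mem ((P : Subgroup G).mul_mem t.out.2 (hP hxR)) ((P : Subgroup G).inv_mem t.out.2)
  have hxU : x ∈ U := Subgroup.subset_normalClosure rfl
  -- the `p'`-part of `C`
  have hKmem : ∀ b : C, (orderOf b).Coprime p → b ∈ K := by
    intro b hb
    refine CfsgLib.Transfer.mem_of_coprime_orderOf_of_index (N := K) ?_ hb
    obtain ⟨j, hj⟩ := IsPGroup.iff_card.mp R.isPGroup'
    refine ⟨j, ?_⟩
    have hc : K.IsComplement' (R : Subgroup C) := Subgroup.isComplement'_of_disjoint_and_mul_eq_univ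
      (disjoint_iff.mpr (by rw [inf_comm]; exact hRK)) (by
        rw [← Subgroup.normal_mul, sup_comm, hRK', Subgroup.coe_top])
    rw [hc.symm.index_eq_card, hj]
  have hKR : ∀ k ∈ K, ∀ r ∈ (R : Subgroup C), Commute k r := fun k hk r hr =>
    Subgroup.commute_of_normal_of_disjoint K (R : Subgroup C) hKn hRn (disjoint_iff.mpr (by rw [inf_comm]; exact hRK)) k r hk hr
  have hKU : K' ≤ Subgroup.centralizer (U : Set G) := by
    refine CfsgLib.Coprime.pq_lemma (p := p) (P := Subgroup.zpowers x) (Q := K') (U := U) ?_ ?_ ?_ ?_ ?_ ?_ ?_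
    · exact IsPGroup.of_card (n := kx) (by rw [Nat.card_zpowers, hkx])
    · rw [hK', Subgroup.card_map_of_injective C.subtype_injective, Nat.coprime_comm]
      exact hp.coprime_iff_not_dvd.mpr hKp
    · exact P.isPGroup'.to_le hUP
    · rw [Subgroup.zpowers_le, Subgroup.mem_centralizer_iff]
      rintro _ ⟨k, -, rfl⟩
      exact Subgroup.mem_centralizer_singleton_iff.mp k.2
    · rw [Subgroup.normalizer_eq_top]; exact le_top
    · rw [Subgroup.normalizer_eq_top]; exact le_top
    · rintro z ⟨hzU, hzc⟩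
      have hzC : z ∈ C := Subgroup.mem_centralizer_singleton_iff.mpr
        (Subgroup.mem_centralizer_iff.mp hzc x (Subgroup.mem_zpowers x)).symm
      obtain ⟨j, hj⟩ := IsPGroup.iff_orderOf.mp P.isPGroup' ⟨z, hUP hzU⟩
      rw [Subgroup.orderOf_mk] at hj
      obtain ⟨S, hS⟩ := (IsPGroup.of_card (n := j) (by rw [Nat.card_zpowers, Subgroup.orderOf_mk, hj]) :
        IsPGroup p (Subgroup.zpowers (⟨z, hzC⟩ : C))).exists_le_sylow
      have := Sylow.unique_of_normal R hRn
      have hzR : (⟨z, hzC⟩ : C) ∈ (R : Subgroup C) := by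
        rw [Subsingleton.elim R S]; exact hS (Subgroup.mem_zpowers _)
      rw [Subgroup.mem_centralizer_iff]
      rintro _ ⟨k, hk, rfl⟩
      exact congrArg Subtype.val (hKR k hk _ hzR).eq
  rw [CfsgLib.Transfer.hasNormalPComplement_iff_exists]
  refine ⟨K', ⟨?_⟩, ?_, ?_⟩
  · rintro _ ⟨k, hk, rfl⟩ g
    have hW : g * (k : G) * g⁻¹ ∈ Subgroup.centralizer (U : Set G) := by
      have hn : U.Normal := Subgroup.normalClosure_normal
      rw [Subgroup.mem_centralizer_iff]
      intro z hz
      have h1 := Subgroup.mem_centralizer_iff.mp (hKU ⟨k, hk, rfl⟩) (g⁻¹ * z * g)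
        (by simpa using hn.conj_mem z hz g⁻¹)
      simp only [Subgroup.subtype_apply] at h1
      calc z * (g * (k : G) * g⁻¹) = g * ((g⁻¹ * z * g) * k) * g⁻¹ := by group
        _ = g * ((k : G) * (g⁻¹ * z * g)) * g⁻¹ := by rw [h1]
        _ = _ := by group
    have hC : g * (k : G) * g⁻¹ ∈ C :=
      Subgroup.mem_centralizer_singleton_iff.mpr (Subgroup.mem_centralizer_iff.mp hW x hxU).symm
    refine ⟨⟨_, hC⟩, hKmem _ ?_, rfl⟩
    rw [Subgroup.orderOf_mk, ← MulAut.conj_apply, MulEquiv.orderOf_eq, Subgroup.orderOf_coe, Nat.coprime_comm,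
      hp.coprime_iff_not_dvd]
    exact fun hd => hKp (hd.trans (K.orderOf_dvd_natCard hk))
  · rw [hK', Subgroup.card_map_of_injective C.subtype_injective]; exact hKp
  · obtain ⟨j, hj⟩ := IsPGroup.iff_card.mp R.isPGroup'
    refine ⟨j + a, ?_⟩
    have hc : K.IsComplement' (R : Subgroup C) := Subgroup.isComplement'_of_disjoint_and_mul_eq_univ
      (disjoint_iff.mpr (by rw [inf_comm]; exact hRK)) (by
        rw [← Subgroup.normal_mul, sup_comm, hRK', Subgroup.coe_top])
    rw [hK', Subgroup.index_map_subtype, hc.symm.index_eq_card, hj, hxa, pow_add]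

end Cfsg.Agent.S4127
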