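import Cfsg.Statements.S0867
import Cfsg.Agent.Lib.CharsMore.Extend

set_option autoImplicit false
open Cfsg

namespace Cfsg.Agent.S0867

/-- Let N be a normal subgroup of the finite group G and ϑ an irreducible character of N of degree d, invariant under conjugation by G, such that the index of N is coprime to the product of d and the determinantal order of ϑ. Then there is an irreducible character χ of G restricting to ϑ whose determinantal order equals that of ϑ, and χ is the only irreducible character of G restricting to ϑ whose determinantal order is coprime to the index of N. -/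
theorem result {G : Type*} [Group G] [Finite G] (N : Subgroup G) [hN : N.Normal] (ϑ : N → ℂ) (hϑ : Cfsg.IsIrrCharacter N ϑ) (hinv : ∀ (g : G) (n : N), ϑ ⟨g * n * g⁻¹, hN.conj_mem (n : G) n.2 g⟩ = ϑ n) (d : ℕ) (hd : ϑ 1 = d) (hcop : Nat.Coprime N.index (Cfsg.detOrder ϑ * d)) : ∃ χ : G → ℂ, (Cfsg.IsIrrCharacter G χ ∧ (∀ n : N, χ n = ϑ n) ∧ Cfsg.detOrder χ = Cfsg.detOrder ϑ) ∧ ∀ χ' : G → ℂ, Cfsg.IsIrrCharacter G χ' → (∀ n : N, χ' n = ϑ n) → Nat.Coprime N.index (Cfsg.detOrder χ') → χ' = χ := by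
  obtain ⟨k, ρ, hirr, rfl, hI, hdinv⟩ :=
    CfsgLib.CharsMore.exists_invariant_rep N hϑ (fun g n => hinv g n)
  have hdet := CfsgLib.CharsMore.detChar_eq ρ (χ := ρ.character) rfl
  have hord : Cfsg.detOrder ρ.character = orderOf (CfsgLib.CharsMore.detHom ρ) := by
    rw [Cfsg.detOrder, hdet, CfsgLib.CharsMore.orderOf_linFun]
  rw [hord] at hcop ⊢
  have hk : k = d := by simpa using hd
  have hcop2 : Nat.Coprime (Module.finrank ℂ (Fin k → ℂ)) N.index := by
    rw [Module.finrank_fin_fun, hk]; exact (Nat.Coprime.coprime_mul_left_right hcop).symm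
  obtain ⟨μ, ⟨hμ, hμord⟩, hμuniq⟩ := CfsgLib.CharsMore.exists_coprime_ext N
    (CfsgLib.CharsMore.detHom ρ) hdinv (Nat.Coprime.coprime_mul_right_right hcop)
  obtain ⟨R, ⟨hR, hRdet⟩, huniq⟩ := CfsgLib.CharsMore.existsUnique_ext_det N ρ hcop2
    (CfsgLib.CharsMore.repExtends_of_det N ρ hI hcop2 μ (fun n => congrArg Units.val (hμ n))) μ hμ
  obtain ⟨hRirr, hRchar, hRres⟩ := CfsgLib.CharsMore.isIrrExt_of_rep N R hR
  refine ⟨R.character, ⟨hRchar, hRres, ?_⟩, ?_⟩
  · rw [Cfsg.detOrder, CfsgLib.CharsMore.detChar_eq R rfl, CfsgLib.CharsMore.orderOf_linFun, hRdet,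
      hμord]
  · intro χ hχ hres hcop'
    obtain ⟨R', hR', hR'irr, rfl⟩ := CfsgLib.CharsMore.exists_repExt_of_character N.subtype ρ
      (CfsgLib.Chars.isCharacter_of_irr hχ) hres
    rw [Cfsg.detOrder, CfsgLib.CharsMore.detChar_eq R' rfl, CfsgLib.CharsMore.orderOf_linFun] at hcop'
    have hdR' : CfsgLib.CharsMore.detHom R' = μ := hμuniq _
      (fun n => Units.ext (congrArg LinearMap.det (hR' n))) hcop'
    rw [huniq R' ⟨hR', hdR'⟩]

end Cfsg.Agent.S0867
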