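import Cfsg.Statements.S4493
import Cfsg.Agent.Lib.Blocks.PrincipalHeights
import Cfsg.Agent.Lib.CharsMore.ItoDegree
import Cfsg.Agent.Lib.CharApps.Basic
import Cfsg.Agent.Lib.PLocal.PSolvable

set_option autoImplicit false
open Cfsg

namespace Cfsg.Agent.S4493

/-- Let G be a finite solvable group and p a prime. Then G has a normal abelian Sylow p-subgroup if and only if no irreducible character degree of G is divisible by p. -/
theorem result {G : Type*} [Group G] [Finite G] (hsolv : Group.IsSolvable G) (p : ℕ) (hp : p.Prime) : (∃ P : Subgroup G, P.Normal ∧ (∀ x ∈ P, ∀ y ∈ P, x * y = y * x) ∧ IsPGroup p P ∧ ¬ p ∣ P.index) ↔ ∀ χ : Cfsg.IrrCharacter G, ¬ p ∣ Cfsg.charDegree (χ : G → ℂ) := by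
  classical
  haveI := Fact.mk hp
  constructor
  · rintro ⟨P, hPn, hPc, hPp, hPi⟩ χ hd
    haveI := hPn
    haveI := Fintype.ofFinite G
    haveI := Fintype.ofFinite P
    obtain ⟨k, hk, hdvd⟩ := CfsgLib.CharsMore.ito_degree_dvd (N := P) hPc χ.2
    rw [CfsgLib.CharApps.deg_eq] at hk
    have hk' : Cfsg.charDegree (χ : G → ℂ) = k := by exact_mod_cast hk
    exact hPi ((hk' ▸ hd).trans hdvd)
  · intro h
    obtain ⟨S⟩ : Nonempty (Sylow p G) := inferInstance
    haveI := hsolv
    haveI := CfsgLib.Blocks.PrincHeights.normal_sylow_of_allPrime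
      CfsgLib.PLocal.isPSolvable_of_isSolvable h S
    refine ⟨(S : Subgroup G), inferInstance, fun x hx y hy => ?_, S.2, S.not_dvd_index⟩
    exact congrArg Subtype.val
      (CfsgLib.Blocks.PrincHeights.comm_of_allPrime h S.2 ⟨x, hx⟩ ⟨y, hy⟩)

end Cfsg.Agent.S4493
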