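import Cfsg.Statements.S4456
import Cfsg.Agent.Lib.BlockOrth.Residual

set_option autoImplicit false
open Cfsg Subgroup
open scoped Pointwise commutatorElement

namespace Cfsg.Agent.S4456

/-- Let p be a prime and G a finite group such that p divides the degree of every irreducible character of G of degree greater than one. Then G has a normal p-complement: a normal subgroup of order prime to p whose index is a power of p. -/
theorem result {G : Type*} [Group G] [Finite G] (p : ℕ) (hp : p.Prime) (hdeg : ∀ χ : Cfsg.IrrCharacter G, Cfsg.charDegree (χ : G → ℂ) ≠ 1 → p ∣ Cfsg.charDegree (χ : G → ℂ)) : ∃ N : Subgroup G, N.Normal ∧ (Nat.card N).Coprime p ∧ ∃ k : ℕ, N.index = p ^ k := by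
  classical
  haveI := Fact.mk hp
  haveI := Fintype.ofFinite G
  haveI := CfsgLib.Chars.irrFintype G
  haveI hNn : (pResidual p G).Normal := CfsgLib.Transfer.pResidual_normal
  refine ⟨pResidual p G, hNn, ?_, CfsgLib.Transfer.exists_index_pResidual⟩
  rw [Nat.coprime_comm, hp.coprime_iff_not_dvd]
  intro hdvd
  have h := CfsgLib.BlockOrth.card_pResidual_modEq (G := G) (p := p)
  rw [(ZMod.natCast_eq_zero_iff _ _).mpr hdvd] at h
  -- only linear characters occur, and they form a group of order prime to `p`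
  set S : Finset (IrrCharacter G) := Finset.univ.filter (fun χ : IrrCharacter G =>
    ¬ p ∣ charDegree (χ : G → ℂ) ∧ ¬ p ∣ detOrder (χ : G → ℂ)) with hS
  have hone : ∀ χ ∈ S, charDegree (χ : G → ℂ) = 1 := fun χ hχ => by
    by_contra hne
    exact (Finset.mem_filter.mp hχ).2.1 (hdeg χ hne)
  rw [Finset.sum_congr rfl (fun χ hχ => by rw [hone χ hχ, Nat.cast_one, one_pow] :
    ∀ χ ∈ S, ((charDegree (χ : G → ℂ) : ℕ) : ZMod p) ^ 2 = 1), Finset.sum_const, nsmul_eq_mul,
    mul_one, eq_comm, ZMod.natCast_eq_zero_iff] at h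
  haveI : Finite (G →* ℂˣ) := by
    refine Finite.of_injective (fun μ => (⟨CfsgLib.CharsMore.linFun μ,
      CfsgLib.CharsMore.isIrrCharacter_linFun μ⟩ : IrrCharacter G)) fun a b hab => ?_
    exact CfsgLib.CharsMore.linFun_injective (congrArg Subtype.val hab)
  haveI : Fintype (G →* ℂˣ) := Fintype.ofFinite _
  let H : Subgroup (G →* ℂˣ) :=
    { carrier := {μ | ¬ p ∣ orderOf μ}
      one_mem' := by simpa using hp.ne_one
      mul_mem' := fun {a b} ha hb hd => (hp.dvd_mul.mp (hd.trans
        ((Commute.all a b).orderOf_mul_dvd_mul_orderOf))).elim ha hb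
      inv_mem' := fun {a} ha => by simpa using ha }
  have hdet : ∀ μ : G →* ℂˣ,
      detOrder (CfsgLib.CharsMore.linFun μ) = orderOf μ := by
    intro μ
    have : (CfsgLib.CharsMore.linRep μ).IsIrreducible :=
      CfsgLib.Chars.isIrreducible_of_finrank_eq_one _ (by simp)
    rw [detOrder, CfsgLib.CharsMore.detChar_eq _ (CfsgLib.CharsMore.character_linRep μ),
      CfsgLib.CharsMore.orderOf_linFun]
    congr 1
    refine MonoidHom.ext fun g => Units.ext ?_
    rw [CfsgLib.CharsMore.coe_detHom]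
    show LinearMap.det (algebraMap ℂ (Module.End ℂ (Fin 1 → ℂ)) (μ g : ℂ)) = _
    rw [Algebra.algebraMap_eq_smul_one, LinearMap.det_smul, map_one]
    simp
  have hd1 : ∀ μ : G →* ℂˣ, charDegree (CfsgLib.CharsMore.linFun μ) = 1 := fun μ =>
    (CfsgLib.CharApps.deg_eq_one_iff
      (⟨_, CfsgLib.CharsMore.isIrrCharacter_linFun μ⟩ : IrrCharacter G)).mp
      (CfsgLib.CharsMore.isCharacter_linFun μ).2
  have hcard : S.card = Nat.card H := by
    rw [← Nat.card_eq_finsetCard]
    symm
    refine Nat.card_congr (Equiv.ofBijective (fun μ => ⟨⟨CfsgLib.CharsMore.linFun μ.1,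
      CfsgLib.CharsMore.isIrrCharacter_linFun μ.1⟩, Finset.mem_filter.mpr ⟨Finset.mem_univ _, ?_, ?_⟩⟩)
      ⟨fun a b hab => ?_, fun χ => ?_⟩)
    · show ¬ p ∣ charDegree (CfsgLib.CharsMore.linFun μ.1)
      rw [hd1]; exact hp.not_dvd_one
    · show ¬ p ∣ detOrder (CfsgLib.CharsMore.linFun μ.1)
      rw [hdet]; exact μ.2
    · exact Subtype.ext (CfsgLib.CharsMore.linFun_injective
        (congrArg (fun x : {x // x ∈ S} => (x.1 : G → ℂ)) hab))
    · obtain ⟨μ, hμ⟩ := CfsgLib.CharsMore.exists_hom_of_linear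
        ⟨CfsgLib.Chars.isCharacter_of_irr χ.1.2, by
          rw [← CfsgLib.Blocks.charDegree_cast, hone χ.1 χ.2, Nat.cast_one]⟩
      refine ⟨⟨μ, ?_⟩, Subtype.ext (Subtype.ext hμ)⟩
      show ¬ p ∣ orderOf μ
      rw [← hdet, hμ]
      exact (Finset.mem_filter.mp χ.2).2.2
  rw [hcard] at h
  obtain ⟨x, hx⟩ := exists_prime_orderOf_dvd_card' p h
  exact x.2 (by rw [← Subgroup.orderOf_coe] at hx; rw [hx])


end Cfsg.Agent.S4456
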