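import Cfsg.Statements.S0585
import Mathlib

set_option autoImplicit false
open Cfsg

namespace Cfsg.Agent.S0585

/-- If the Frattini subgroup of a finite group G is trivial, then every abelian normal subgroup of G has a complement in G. -/
theorem result {G : Type*} [Group G] [Finite G] (hΦ : frattini G = ⊥) (A : Subgroup G) [A.Normal] [IsMulCommutative A] : ∃ H : Subgroup G, Subgroup.IsComplement' A H := by
  classical
  obtain ⟨H, hH, hmin⟩ := Set.Finite.exists_minimalFor id {H : Subgroup G | A ⊔ H = ⊤}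
    (Set.toFinite _) ⟨⊤, sup_top_eq A⟩
  refine ⟨H, Subgroup.isComplement'_of_disjoint_and_mul_eq_univ ?_ ?_⟩
  swap
  · rw [Set.eq_univ_iff_forall]
    intro g
    obtain ⟨a, ha, h, hh, rfl⟩ :=
      Subgroup.mem_sup_of_normal_left.1 ((hH : A ⊔ H = ⊤).symm ▸ Subgroup.mem_top g)
    exact Set.mul_mem_mul ha hh
  have hn : (A ⊓ H).Normal := by
    rw [← Subgroup.normalizer_eq_top_iff, eq_top_iff, ← (hH : A ⊔ H = ⊤), sup_le_iff]
    constructor
    · exact (A.le_centralizer.trans (Subgroup.centralizer_le inf_le_left)).trans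
        (Subgroup.centralizer_le_normalizer _)
    · exact (le_inf Subgroup.le_normalizer_of_normal Subgroup.le_normalizer).trans
        Subgroup.inf_normalizer_le_normalizer_inf
  rw [disjoint_iff]
  by_contra hne
  have hM : ∃ M : Subgroup G, IsCoatom M ∧ ¬ A ⊓ H ≤ M := by
    by_contra hall
    push Not at hall
    exact hne (le_bot_iff.1 (hΦ ▸ le_iInf₂ hall))
  obtain ⟨M, hM, hle⟩ := hM
  haveI := hn
  have hsup : (A ⊓ H) ⊔ M = ⊤ := hM.2 _ (right_lt_sup.2 hle)
  have hsupp : A ⊔ (H ⊓ M) = ⊤ := by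
    rw [eq_top_iff]
    intro g _
    obtain ⟨a, ha, h, hh, rfl⟩ :=
      Subgroup.mem_sup_of_normal_left.1 ((hH : A ⊔ H = ⊤).symm ▸ Subgroup.mem_top g)
    obtain ⟨x, hx, m, hm, rfl⟩ :=
      Subgroup.mem_sup_of_normal_left.1 (hsup.symm ▸ Subgroup.mem_top h)
    rw [← mul_assoc]
    exact mul_mem (Subgroup.mem_sup_left (mul_mem ha hx.1))
      (Subgroup.mem_sup_right ⟨(Subgroup.mul_mem_cancel_left H hx.2).1 hh, hm⟩)
  exact hle ((le_trans inf_le_right (hmin (j := H ⊓ M) hsupp inf_le_left)).trans inf_le_right)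

end Cfsg.Agent.S0585
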