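import Cfsg.Statements.S0586
import Cfsg.Agent.S0585
import Cfsg.Agent.Lib.Base.MinimalNormal
import Cfsg.Agent.Lib.Base.Frattini
import Cfsg.Agent.Lib.Base.Nilpotent

set_option autoImplicit false
open Cfsg
open scoped commutatorElement

universe u

namespace Cfsg.Agent.S0586

theorem commutator_le_of_isCoatom_normal {G : Type u} [Group G] (M : Subgroup G) [M.Normal]
    (hM : IsCoatom M) : commutator G ≤ M := by
  rw [commutator_def, Subgroup.commutator_le]
  intro a _ b _
  by_cases ha : a ∈ M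
  · rw [commutatorElement_def, show a * b * a⁻¹ * b⁻¹ = a * (b * a⁻¹ * b⁻¹) by group]
    exact mul_mem ha ((inferInstance : M.Normal).conj_mem _ (inv_mem ha) b)
  have htop : M ⊔ Subgroup.zpowers a = ⊤ :=
    hM.2 _ (left_lt_sup.2 fun h => ha (h (Subgroup.mem_zpowers a)))
  obtain ⟨m, hm, c, ⟨i, rfl⟩, rfl⟩ :=
    Subgroup.mem_sup_of_normal_left.1 (htop.symm ▸ Subgroup.mem_top b)
  rw [← QuotientGroup.eq_one_iff, ← QuotientGroup.mk'_apply, map_commutatorElement,
    commutatorElement_eq_one_iff_mul_comm, map_mul, map_zpow, QuotientGroup.mk'_apply M m,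
    (QuotientGroup.eq_one_iff m).2 hm, one_mul]
  exact ((Commute.refl _).zpow_right i).eq

/-- If the Frattini subgroup of a finite group G is trivial, then the Fitting subgroup of G equals the join of all abelian minimal normal subgroups of G. -/
theorem result {G : Type*} [Group G] [Finite G] (hΦ : frattini G = ⊥) : Cfsg.fittingSubgroup G = sSup {N : Subgroup G | N.Normal ∧ N ≠ ⊥ ∧ IsMulCommutative N ∧ ∀ K : Subgroup G, K.Normal → K ≤ N → K = ⊥ ∨ K = N} := by
  refine le_antisymm ?_ (sSup_le fun N hN => ?_)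
  swap
  · haveI := hN.1
    haveI := hN.2.2.1
    exact CfsgLib.Base.le_fittingSubgroup_of_isMulCommutative
  set F := Cfsg.fittingSubgroup G with hF
  haveI : F.Normal := CfsgLib.Base.fittingSubgroup_normal' G
  haveI hFn : Group.IsNilpotent F := CfsgLib.Base.isNilpotent_fittingSubgroup G
  have hΦF : frattini F = ⊥ := by
    refine (Subgroup.map_eq_bot_iff_of_injective _ F.subtype_injective).1 (le_bot_iff.1 ?_)
    exact hΦ ▸ CfsgLib.Base.map_frattini_le_frattini F
  haveI hFab : IsMulCommutative F := by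
    refine ⟨⟨fun a b => commutatorElement_eq_one_iff_mul_comm.1 ?_⟩⟩
    rw [← Subgroup.mem_bot, ← hΦF]
    have hle : commutator F ≤ frattini F := by
      refine le_iInf₂ fun M hM => ?_
      haveI : M.Normal :=
        Subgroup.NormalizerCondition.normal_of_coatom M Group.normalizerCondition_of_isNilpotent hM
      exact commutator_le_of_isCoatom_normal M hM
    exact hle (Subgroup.commutator_mem_commutator (Subgroup.mem_top a) (Subgroup.mem_top b))
  set 𝒮 := {N : Subgroup G | N.Normal ∧ N ≠ ⊥ ∧ IsMulCommutative N ∧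
    ∀ K : Subgroup G, K.Normal → K ≤ N → K = ⊥ ∨ K = N} with h𝒮
  set S := sSup 𝒮 with hS
  haveI hSn : S.Normal := by
    rw [hS, sSup_eq_iSup']
    haveI : ∀ N : 𝒮, (N : Subgroup G).Normal := fun N => N.2.1
    infer_instance
  have hSF : S ≤ F := by
    refine sSup_le fun N hN => ?_
    haveI := hN.1
    haveI := hN.2.2.1
    exact CfsgLib.Base.le_fittingSubgroup_of_isMulCommutative
  haveI : IsMulCommutative S := ⟨⟨fun a b => Subtype.ext
    (congrArg Subtype.val (hFab.is_comm.comm (⟨a, hSF a.2⟩ : F) ⟨b, hSF b.2⟩) :)⟩⟩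
  obtain ⟨H, hH⟩ := Cfsg.Agent.S0585.result hΦ S
  have hFH : (F ⊓ H).Normal := by
    rw [← Subgroup.normalizer_eq_top_iff, eq_top_iff, ← hH.sup_eq_top, sup_le_iff]
    constructor
    · exact (hSF.trans F.le_centralizer).trans ((Subgroup.centralizer_le
        (show ((F ⊓ H : Subgroup G) : Set G) ⊆ F from fun _ h => h.1)).trans
        (Subgroup.centralizer_le_normalizer _))
    · exact (le_inf Subgroup.le_normalizer_of_normal Subgroup.le_normalizer).trans
        Subgroup.inf_normalizer_le_normalizer_inf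
  by_cases hb : F ⊓ H = ⊥
  · intro f hf
    obtain ⟨s, hs, h, hh, rfl⟩ := Subgroup.mem_sup_of_normal_left.1
      (hH.sup_eq_top.symm ▸ Subgroup.mem_top f)
    have : h ∈ F ⊓ H := ⟨(Subgroup.mul_mem_cancel_left F (hSF hs)).1 hf, hh⟩
    rw [hb, Subgroup.mem_bot] at this
    rw [this, mul_one]
    exact hs
  · exfalso
    haveI := hFH
    obtain ⟨N, hNle, hN⟩ := CfsgLib.Base.exists_isMinimalNormal_le hb
    have hNab : IsMulCommutative N := ⟨⟨fun a b => Subtype.ext
      (congrArg Subtype.val (hFab.is_comm.comm (⟨a, (hNle a.2).1⟩ : F) ⟨b, (hNle b.2).1⟩) :)⟩⟩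
    have hNS : N ≤ S := le_sSup ⟨hN.normal, hN.ne_bot, hNab, hN.2.2⟩
    exact hN.ne_bot (le_bot_iff.1 (hH.disjoint.eq_bot ▸ le_inf hNS (hNle.trans inf_le_right)))

end Cfsg.Agent.S0586
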