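import Cfsg.Statements.S2155
import Cfsg.Agent.Lib.Chev.ParaFStar
import Cfsg.Agent.Lib.Components.LocalLayer
import Cfsg.Agent.Lib.Base.Cores

set_option autoImplicit false
open Cfsg

namespace Cfsg.Agent.S2155

open CfsgLib.Chev in
theorem check_mem {D : Cfsg.Lie.ChevalleyDatum} (hD : D ∈ [Cfsg.Lie.chevG2, Cfsg.Lie.chevB2, Cfsg.Lie.chevD4,
    Cfsg.Lie.chevF4, Cfsg.Lie.chevE6, Cfsg.Lie.chevE7, Cfsg.Lie.chevE8]) :
    ∃ A, Para D A ∧ diffCheck D A = true := by
  simp only [List.mem_cons, List.not_mem_nil, or_false] at hD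
  rcases hD with rfl | rfl | rfl | rfl | rfl | rfl | rfl
  exacts [⟨_, ⟨stdG2, by decide +kernel, by decide +kernel⟩, by decide +kernel⟩,
    ⟨_, ⟨stdB2, by decide +kernel, by decide +kernel⟩, by decide +kernel⟩,
    ⟨_, ⟨stdD4, by decide +kernel, by decide +kernel⟩, by decide +kernel⟩,
    ⟨_, ⟨stdF4, by decide +kernel, by decide +kernel⟩, by decide +kernel⟩,
    ⟨_, ⟨stdE6, by decide +kernel, by decide +kernel⟩, by decide +kernel⟩,
    ⟨_, ⟨stdE7, by decide +kernel, by decide +kernel⟩, by decide +kernel⟩,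
    ⟨_, ⟨stdE8, by decide +kernel, by decide +kernel⟩, by decide +kernel⟩]

/-- In a Chevalley group of type G₂, B₂, D₄, F₄, E₆, E₇ or E₈ over a finite field of characteristic p (for types G₂ and B₂ the field is assumed to have at least 3 elements, so that the group is simple), the generalized Fitting subgroup of every proper standard parabolic subgroup P_J is a p-group (P_J is p-constrained with trivial largest normal subgroup of order prime to p). -/
theorem result {F : Type*} [Field F] [Fintype F] (p : ℕ) [Fact p.Prime] [CharP F p] (D : Cfsg.Lie.ChevalleyDatum) (hD : D ∈ [Cfsg.Lie.chevG2, Cfsg.Lie.chevB2, Cfsg.Lie.chevD4, Cfsg.Lie.chevF4, Cfsg.Lie.chevE6, Cfsg.Lie.chevE7, Cfsg.Lie.chevE8]) (hq : (D = Cfsg.Lie.chevG2 ∨ D = Cfsg.Lie.chevB2) → 3 ≤ Fintype.card F) (J : Set ℕ) (hJ : ∃ i, i < D.rank ∧ i ∉ J) : IsPGroup p ↥(Cfsg.generalizedFittingSubgroup ↥(D.parabolicSubgroup F J)) := by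
  classical
  obtain ⟨A, hP, hdiff⟩ := check_mem hD
  set P := D.parabolicSubgroup F J
  set Q : Subgroup P := (D.unipotentRadical F J).subgroupOf P
  have hU : IsPGroup p (D.posUnipotent F) := by
    obtain ⟨n, hn, hq'⟩ := FiniteField.card F p
    refine IsPGroup.of_card (n := n * (D.nroots / 2)) ?_
    rw [CfsgLib.Chev.card_posUnipotent hP.std, hq', pow_mul]
  have hQU : D.unipotentRadical F J ≤ D.posUnipotent F := by
    rw [CfsgLib.Chev.radical_eq hP]
    exact CfsgLib.Chev.UP_le fun q t hq => CfsgLib.Chev.xG_mem_posUnipotent hP.std.good hq.1 t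
  have hQp : IsPGroup p Q := by
    refine IsPGroup.of_injective (hU.to_le hQU) (ϕ := ?_) ?_
    · exact ⟨⟨fun x => ⟨x.1.1, x.2⟩, rfl⟩, fun _ _ => rfl⟩
    · intro a b e
      have e' := congrArg Subtype.val e
      exact Subtype.ext (Subtype.ext e')
  have hN : Q.Normal := by
    refine ⟨fun x hx g => ?_⟩
    have hg := CfsgLib.Chev.parabolic_le_normalizer hP J g.2
    rw [← CfsgLib.Chev.radical_eq hP] at hg
    exact (hg x.1).1 hx
  rw [(CfsgLib.Components.fstar_eq_pCore_iff (p := p)).2 ?_]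
  · exact (CfsgLib.Base.isPGroup_pCore p P)
  refine (Subgroup.centralizer_le (s := (Q : Set P)) (CfsgLib.Base.le_pCore hQp)).trans ?_
  have : (Subgroup.centralizer (Q : Set P)).Normal := inferInstance
  refine CfsgLib.Base.le_pCore (IsPGroup.of_injective (hU.to_le le_rfl) (ϕ := ?_) ?_)
  · refine ⟨⟨fun x => ⟨x.1.1, CfsgLib.Chev.centralizer_radical hP hdiff hJ x.1.2 fun z hz => ?_⟩,
      rfl⟩, fun _ _ => rfl⟩
    have hzP : z ∈ P := CfsgLib.Chev.borel_le_parabolic J ((le_sup_left : _ ≤ D.borelSubgroup F) (hQU hz))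
    exact (congrArg Subtype.val (x.2 ⟨z, hzP⟩ hz)).symm
  · intro a b e
    have e' := congrArg Subtype.val e
    exact Subtype.ext (Subtype.ext e')

end Cfsg.Agent.S2155
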