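import Cfsg.Statements.S1054
import Cfsg.Agent.Lib.Chev.Simple

set_option autoImplicit false
open Cfsg

namespace Cfsg.Agent.S1054

/-- The Chevalley groups of types D₄, F₄, E₆, E₇, E₈ are simple over every field. -/
theorem result {F : Type*} [Field F] (D : Cfsg.Lie.ChevalleyDatum)
    (hD : D ∈ [Cfsg.Lie.chevD4, Cfsg.Lie.chevF4, Cfsg.Lie.chevE6, Cfsg.Lie.chevE7, Cfsg.Lie.chevE8]) :
    IsSimpleGroup ↥(D.group F) ∧ ¬ IsMulCommutative ↥(D.group F) := by
  simp only [List.mem_cons, List.not_mem_nil, or_false] at hD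
  rcases hD with rfl | rfl | rfl | rfl | rfl
  · exact CfsgLib.Chev.simple_group CfsgLib.Chev.stdD4 (by decide +kernel) CfsgLib.Chev.conn_D4
      (CfsgLib.Chev.perfect_of_perfA CfsgLib.Chev.stdD4 CfsgLib.Chev.perfA_D4)
  · exact CfsgLib.Chev.simple_group CfsgLib.Chev.stdF4 (by decide +kernel) CfsgLib.Chev.conn_F4
      (CfsgLib.Chev.perfect_of_perfA CfsgLib.Chev.stdF4 CfsgLib.Chev.perfA_F4)
  · exact CfsgLib.Chev.simple_group CfsgLib.Chev.stdE6 (by decide +kernel) CfsgLib.Chev.conn_E6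
      (CfsgLib.Chev.perfect_of_perfA CfsgLib.Chev.stdE6 CfsgLib.Chev.perfA_E6)
  · exact CfsgLib.Chev.simple_group CfsgLib.Chev.stdE7 (by decide +kernel) CfsgLib.Chev.conn_E7
      (CfsgLib.Chev.perfect_of_perfA CfsgLib.Chev.stdE7 CfsgLib.Chev.perfA_E7)
  · exact CfsgLib.Chev.simple_group CfsgLib.Chev.stdE8 (by decide +kernel) CfsgLib.Chev.conn_E8
      (CfsgLib.Chev.perfect_of_perfA CfsgLib.Chev.stdE8 CfsgLib.Chev.perfA_E8)

end Cfsg.Agent.S1054
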