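import Cfsg.Statements.S0855
import Cfsg.Agent.Lib.CharsMore.ItoDegree
import Cfsg.Agent.Lib.Chars.Linear
import Mathlib

set_option autoImplicit false
set_option linter.style.haveILetI false
open Cfsg

namespace Cfsg.Agent.S0855

universe u

open CfsgLib in
/-- A normal subgroup of index `p` when the number of linear characters is divisible by `p`. -/
lemma exists_index_prime {G : Type u} [Group G] [Finite G] {p : ℕ} (hp : p.Prime)
    (h : p ∣ Nat.card (G →* ℂˣ)) : ∃ N : Subgroup G, N.Normal ∧ N.index = p := by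
  haveI := Fact.mk hp
  haveI : NeZero p := ⟨hp.ne_zero⟩
  obtain ⟨lam, hlam⟩ := exists_prime_orderOf_dvd_card' p h
  refine ⟨lam.ker, inferInstance, ?_⟩
  rw [Subgroup.index_ker]
  have hle : lam.range ≤ rootsOfUnity p ℂ := by
    rintro _ ⟨g, rfl⟩
    have e : lam ^ p = 1 := by rw [← hlam, pow_orderOf_eq_one]
    have e2 := DFunLike.congr_fun e g
    rw [mem_rootsOfUnity]
    simpa using e2
  have hdvd := Subgroup.card_dvd_of_le hle
  rw [HasEnoughRootsOfUnity.natCard_rootsOfUnity ℂ p] at hdvd
  refine ((Nat.dvd_prime hp).1 hdvd).resolve_left fun h1 => ?_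
  rw [Subgroup.card_eq_one, MonoidHom.range_eq_bot_iff] at h1
  rw [h1, orderOf_one] at hlam
  exact hp.ne_one hlam.symm

open CfsgLib in
/-- The hard direction, by induction on the order. -/
lemma exists_abelian (p : ℕ) (hp : p.Prime) : ∀ (n : ℕ) (G : Type u) [Group G] [Finite G],
    Nat.card G ≤ n → (∀ χ : Cfsg.IrrCharacter G, ∃ k : ℕ, (χ : G → ℂ) 1 = (p : ℂ) ^ k) →
    ∃ A : Subgroup G, A.Normal ∧ (∀ a ∈ A, ∀ b ∈ A, a * b = b * a) ∧
      Nat.Coprime (Nat.card A) p ∧ ∃ k : ℕ, A.index = p ^ k := by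
  intro n
  induction n with
  | zero => intro G _ _ h; exact absurd h (Nat.card_pos (α := G)).not_ge
  | succ n ih =>
    intro G _ _ hn hdeg
    classical
    haveI := Fintype.ofFinite G
    letI := Chars.irrFintype G
    haveI : Fintype {χ : IrrCharacter G // (χ : G → ℂ) 1 = 1} := Fintype.ofFinite _
    choose k hk using hdeg
    have hsum : ∑ χ : IrrCharacter G, p ^ (2 * k χ) = Nat.card G := by
      have h := Chars.sum_degree_sq (G := G)
      simp only [hk, ← pow_mul] at h
      rw [Finset.sum_congr rfl (fun χ _ => by rw [mul_comm (k χ) 2])] at h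
      exact_mod_cast h
    by_cases hpG : p ∣ Nat.card G
    · have hlin : p ∣ Nat.card (G →* ℂˣ) := by
        rw [Nat.card_congr (Chars.linearEquiv G), Nat.card_eq_fintype_card, Fintype.card_subtype]
        rw [← hsum, ← Finset.sum_filter_add_sum_filter_not Finset.univ
          (fun χ : IrrCharacter G => (χ : G → ℂ) 1 = 1)] at hpG
        have h1 : ∀ χ : IrrCharacter G, (χ : G → ℂ) 1 = 1 ↔ k χ = 0 := fun χ => by
          rw [hk χ]
          refine ⟨fun h => ?_, fun h => by rw [h, pow_zero]⟩
          have : p ^ k χ = 1 := by exact_mod_cast h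
          exact (Nat.pow_eq_one.1 this).resolve_left hp.ne_one
        have h2 : p ∣ ∑ χ ∈ Finset.univ.filter (fun χ : IrrCharacter G => ¬ (χ : G → ℂ) 1 = 1),
            p ^ (2 * k χ) := Finset.dvd_sum fun χ hχ => dvd_pow_self p
          (Nat.mul_ne_zero two_ne_zero ((not_congr (h1 χ)).1 (Finset.mem_filter.1 hχ).2))
        have h3 := (Nat.dvd_add_left h2).1 hpG
        rwa [Finset.sum_congr rfl (fun χ hχ => by
          rw [(h1 χ).1 (Finset.mem_filter.1 hχ).2, mul_zero, pow_zero]), Finset.sum_const,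
          smul_eq_mul, mul_one] at h3
      obtain ⟨N, hN, hNi⟩ := exists_index_prime hp hlin
      haveI := hN
      haveI := Fintype.ofFinite N
      have hlt : Nat.card N ≤ n := by
        have h := N.index_mul_card
        rw [hNi] at h
        have h2 : 2 * Nat.card N ≤ p * Nat.card N := Nat.mul_le_mul_right _ hp.two_le
        have := Nat.card_pos (α := N)
        omega
      have hdegN : ∀ θ : IrrCharacter N, ∃ j : ℕ, (θ : N → ℂ) 1 = (p : ℂ) ^ j := by
        intro θ
        obtain ⟨χ, hχ⟩ := CharsMore.exists_over N θ.2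
        obtain ⟨m, -, hm, -⟩ := CharsMore.degree_quotient N χ.2 θ.2 hχ
        obtain ⟨d, -, hd⟩ := Chars.irr_degree_nat θ.2
        rw [hk χ, hd] at hm
        have hm' : p ^ k χ = m * d := by exact_mod_cast hm
        obtain ⟨j, -, hj⟩ := (Nat.dvd_prime_pow hp).1 (Dvd.intro_left m hm'.symm : d ∣ p ^ k χ)
        exact ⟨j, by rw [hd, hj]; push_cast; rfl⟩
      obtain ⟨A, hAn, hab, hAp, j, hj⟩ := ih N hlt hdegN
      refine ⟨A.map N.subtype, ⟨?_⟩, ?_, ?_, j + 1, ?_⟩
      · rintro _ ⟨a, ha, rfl⟩ g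
        refine ⟨⟨g * a * g⁻¹, hN.conj_mem _ a.2 g⟩, ?_, rfl⟩
        have hcop : Nat.Coprime (orderOf (⟨g * a * g⁻¹, hN.conj_mem _ a.2 g⟩ : N)) A.index := by
          have e : orderOf (⟨g * a * g⁻¹, hN.conj_mem _ a.2 g⟩ : N) = orderOf a := by
            rw [← Subgroup.orderOf_coe, ← Subgroup.orderOf_coe a]
            exact orderOf_injective (MulAut.conj g).toMonoidHom (MulAut.conj g).injective (a : G)
          rw [e, hj]
          exact Nat.Coprime.pow_right _ (hAp.coprime_dvd_left (Subgroup.orderOf_dvd_natCard _ ha))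
        haveI := hAn
        rw [SetLike.mem_coe, ← QuotientGroup.eq_one_iff, ← orderOf_eq_one_iff]
        exact Nat.eq_one_of_dvd_coprimes hcop (orderOf_map_dvd (QuotientGroup.mk' A) _)
          (by rw [Subgroup.index_eq_card]; exact orderOf_dvd_natCard _)
      · rintro _ ⟨a, ha, rfl⟩ _ ⟨b, hb, rfl⟩
        rw [← map_mul, ← map_mul, hab a ha b hb]
      · rwa [Subgroup.card_map_of_injective N.subtype_injective]
      · rw [Subgroup.index_map_subtype, hj, hNi, pow_succ]
    · refine ⟨⊤, inferInstance, ?_, ?_, 0, by simp⟩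
      · have hlin : ∀ χ : IrrCharacter G, (χ : G → ℂ) 1 = 1 := by
          intro χ
          rw [hk χ]
          rcases Nat.eq_zero_or_pos (k χ) with h0 | h0
          · rw [h0, pow_zero]
          · exfalso
            obtain ⟨d, hd, hdvd⟩ := CharsMore.ito_degree_dvd (⊥ : Subgroup G)
              (by intro a ha b hb; rw [Subgroup.mem_bot] at ha hb; rw [ha, hb]) χ.2
            rw [hk χ, Subgroup.index_bot] at *
            have : p ^ k χ = d := by exact_mod_cast hd
            exact hpG (((dvd_pow_self p h0.ne').trans this.dvd).trans hdvd)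
        intro a _ b _
        have hone : ∀ χ : IrrCharacter G, (χ : G → ℂ) (a * b * a⁻¹ * b⁻¹) = (χ : G → ℂ) 1 := by
          intro χ
          obtain ⟨l, hl⟩ := Chars.exists_hom_of_degree_one (Chars.isCharacter_of_irr χ.2) (hlin χ)
          rw [hl]
          simp [map_mul, mul_comm]
        have := ((Chars.isConj_iff_forall_irr _ 1).2 hone)
        rw [isConj_one_left] at this
        calc a * b = (a * b * a⁻¹ * b⁻¹) * (b * a) := by group
          _ = b * a := by rw [this, one_mul]
      · rw [Subgroup.card_top, Nat.coprime_comm]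
        exact hp.coprime_iff_not_dvd.2 hpG

/-- For a finite group G and a prime p: every irreducible character of G has degree a power of p if and only if G has an abelian normal subgroup whose order is prime to p and whose index is a power of p. -/
theorem result {G : Type*} [Group G] [Finite G] (p : ℕ) (hp : p.Prime) : (∀ χ : Cfsg.IrrCharacter G, ∃ k : ℕ, (χ : G → ℂ) 1 = (p : ℂ) ^ k) ↔ ∃ A : Subgroup G, A.Normal ∧ (∀ a ∈ A, ∀ b ∈ A, a * b = b * a) ∧ Nat.Coprime (Nat.card A) p ∧ ∃ k : ℕ, A.index = p ^ k := by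
  haveI := Fintype.ofFinite G
  refine ⟨fun h => exists_abelian p hp (Nat.card G) G le_rfl h, ?_⟩
  rintro ⟨A, hAn, hab, -, k, hk⟩ χ
  haveI := Fintype.ofFinite A
  obtain ⟨d, hd, hdvd⟩ := CfsgLib.CharsMore.ito_degree_dvd A hab χ.2
  rw [hk] at hdvd
  obtain ⟨j, -, rfl⟩ := (Nat.dvd_prime_pow hp).1 hdvd
  exact ⟨j, by rw [hd]; push_cast; rfl⟩

end Cfsg.Agent.S0855
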