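import Cfsg.Statements.S1514
import Cfsg.Agent.Lib.Chars.Virtual
import Mathlib

set_option autoImplicit false
set_option linter.style.haveILetI false
open Cfsg

namespace Cfsg.Agent.S1514

/-- Let S be a nonempty set of irreducible characters of the finite group L, closed under complex conjugation and containing no real-valued member, and τ a linear isometry on the integer combinations of S vanishing at 1, with values virtual characters of G vanishing at 1. Then there is a choice R making (S, τ, R) a coherence system. -/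
theorem result {L : Type*} [Group L] [Fintype L] {G : Type*} [Group G] [Fintype G] (S : Set (L → ℂ)) (hS : S.Nonempty) (hirr : ∀ χ ∈ S, Cfsg.IsIrrCharacter L χ) (hconj : ∀ χ ∈ S, Cfsg.conjFun χ ∈ S ∧ Cfsg.conjFun χ ≠ χ) (τ : (L → ℂ) → (G → ℂ)) (hτ : Cfsg.IsLinearIsometryOn (Cfsg.zspanOn S {1}ᶜ) τ) (hτ1 : ∀ α ∈ Cfsg.zspanOn S {1}ᶜ, τ α 1 = 0) : ∃ R : (L → ℂ) → Finset (G → ℂ), Cfsg.IsCoherenceSystem S τ R := by
  classical
  have hchar : ∀ χ ∈ S, Cfsg.IsCharacter L χ := fun χ h => CfsgLib.Chars.isCharacter_of_irr (hirr χ h)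
  have horth : ∀ χ ∈ S, ∀ φ ∈ S, χ ≠ φ → Cfsg.classInner χ φ = 0 := fun χ hχ φ hφ hne => by
    rw [CfsgLib.Chars.inner_irr_of_isIrr (hirr χ hχ) (hirr φ hφ), if_neg hne]
  have hdeg : ∀ χ ∈ S, Cfsg.conjFun χ 1 = χ 1 := fun χ hχ => by
    obtain ⟨n, -, hn⟩ := CfsgLib.Chars.irr_degree_nat (hirr χ hχ)
    simp [Cfsg.conjFun, hn]
  have hmem : ∀ χ ∈ S, χ - Cfsg.conjFun χ ∈ Cfsg.zspanOn S {1}ᶜ := fun χ hχ => by
    refine ⟨Submodule.sub_mem _ (Submodule.subset_span hχ) (Submodule.subset_span (hconj χ hχ).1),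
      fun x hx => ?_⟩
    obtain rfl : x = 1 := by simpa using hx
    simp [hdeg χ hχ]
  have hex : ∀ χ ∈ S, ∃ a b : Cfsg.IrrCharacter G, a ≠ b ∧
      τ (χ - Cfsg.conjFun χ) = (a : G → ℂ) - b := fun χ hχ => by
    refine CfsgLib.Chars.exists_diff_of_norm_two (hτ.2.2.2 _ (hmem χ hχ)) ?_ (hτ1 _ (hmem χ hχ))
    rw [hτ.2.2.1 _ (hmem χ hχ) _ (hmem χ hχ), CfsgLib.Chars.inner_sub_left,
      CfsgLib.Chars.inner_sub_right, CfsgLib.Chars.inner_sub_right,
      horth _ hχ _ (hconj χ hχ).1 (hconj χ hχ).2.symm,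
      horth _ (hconj χ hχ).1 _ hχ (hconj χ hχ).2,
      CfsgLib.Chars.inner_irr_self ⟨χ, hirr χ hχ⟩,
      CfsgLib.Chars.inner_irr_self ⟨_, hirr _ (hconj χ hχ).1⟩]
    norm_num
  choose a b hab he using hex
  let R : (L → ℂ) → Finset (G → ℂ) := fun χ =>
    if h : χ ∈ S then {(a χ h : G → ℂ), -(b χ h : G → ℂ)} else ∅
  have hR : ∀ χ (h : χ ∈ S), R χ = {(a χ h : G → ℂ), -(b χ h : G → ℂ)} := fun χ h => dif_pos h
  have hneg : ∀ u v : Cfsg.IrrCharacter G, (u : G → ℂ) ≠ -(v : G → ℂ) := fun u v h => by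
    obtain ⟨m, hm, hu⟩ := CfsgLib.Chars.irr_degree_nat u.2
    obtain ⟨k, -, hv⟩ := CfsgLib.Chars.irr_degree_nat v.2
    have := congrFun h 1
    rw [Pi.neg_apply, hu, hv, eq_neg_iff_add_eq_zero] at this
    have : m + k = 0 := by exact_mod_cast this
    omega
  refine ⟨R, ⟨hS, hchar, fun χ h => (hconj χ h).1, fun χ h => (hconj χ h).2, hτ, hτ1, horth,
    ?_, ?_, ?_, ?_⟩⟩
  · intro χ hχ α hα β hβ
    rw [hR χ hχ, Finset.mem_insert, Finset.mem_singleton] at hα hβ
    have hne := hneg (a χ hχ) (b χ hχ)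
    rcases hα with rfl | rfl <;> rcases hβ with rfl | rfl
    · rw [if_pos rfl, CfsgLib.Chars.inner_irr_self]
    · rw [if_neg hne, CfsgLib.Chars.inner_neg_right, CfsgLib.Chars.inner_irr_ne (hab χ hχ), neg_zero]
    · rw [if_neg hne.symm, CfsgLib.Chars.inner_neg_left,
        CfsgLib.Chars.inner_irr_ne (hab χ hχ).symm, neg_zero]
    · rw [if_pos rfl, CfsgLib.Chars.inner_neg_left, CfsgLib.Chars.inner_neg_right, neg_neg,
        CfsgLib.Chars.inner_irr_self]
  · intro χ hχ α hα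
    rw [hR χ hχ, Finset.mem_insert, Finset.mem_singleton] at hα
    rcases hα with rfl | rfl
    · exact ⟨(a χ hχ : G → ℂ), 0, CfsgLib.Chars.isCharacter_of_irr (a χ hχ).2,
        CfsgLib.Chars.isCharacter_zero, (sub_zero _).symm⟩
    · exact ⟨0, (b χ hχ : G → ℂ), CfsgLib.Chars.isCharacter_zero,
        CfsgLib.Chars.isCharacter_of_irr (b χ hχ).2, (zero_sub _).symm⟩
  · intro χ hχ
    rw [hR χ hχ, Finset.sum_pair (hneg _ _), he χ hχ, sub_eq_add_neg]
  · intro χ hχ φ hφ h1 h2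
    have h0 : Cfsg.classInner (τ (φ - Cfsg.conjFun φ)) (τ (χ - Cfsg.conjFun χ)) = 0 := by
      rw [hτ.2.2.1 _ (hmem φ hφ) _ (hmem χ hχ)]
      have hne1 : φ ≠ χ := fun h => one_ne_zero (α := ℂ) (by
        rw [← CfsgLib.Chars.inner_irr_self ⟨χ, hirr χ hχ⟩]; subst h; exact h1)
      have hne2 : φ ≠ Cfsg.conjFun χ := fun h => one_ne_zero (α := ℂ) (by
        rw [← CfsgLib.Chars.inner_irr_self ⟨φ, hirr φ hφ⟩]
        show Cfsg.classInner φ φ = 0
        nth_rw 2 [h]; exact h2)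
      have hcc : ∀ f : L → ℂ, Cfsg.conjFun (Cfsg.conjFun f) = f := fun f =>
        funext fun x => Complex.conj_conj _
      rw [CfsgLib.Chars.inner_sub_left, CfsgLib.Chars.inner_sub_right,
        CfsgLib.Chars.inner_sub_right, h1, h2,
        horth _ (hconj φ hφ).1 _ hχ (fun h => hne2 (by rw [← hcc φ, h])),
        horth _ (hconj φ hφ).1 _ (hconj χ hχ).1
          (fun h => hne1 (by rw [← hcc φ, h, hcc]))]
      simp
    rw [he φ hφ, he χ hχ, CfsgLib.Chars.inner_sub_left, CfsgLib.Chars.inner_sub_right,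
      CfsgLib.Chars.inner_sub_right] at h0
    simp only [CfsgLib.Chars.inner_irr] at h0
    have d1 : a φ hφ ≠ a χ hχ := fun e => by
      rw [if_pos e, if_neg (fun x => hab χ hχ (e.symm.trans x)),
        if_neg (fun x => hab φ hφ (e.trans x.symm))] at h0
      split_ifs at h0 <;> norm_num at h0
    have d2 : b φ hφ ≠ b χ hχ := fun e => by
      rw [if_pos e, if_neg d1, if_neg (fun x => hab φ hφ (x.trans e.symm)),
        if_neg (fun x => hab χ hχ (x.symm.trans e))] at h0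
      norm_num at h0
    have d3 : a φ hφ ≠ b χ hχ := fun e => by
      rw [if_pos e, if_neg d1, if_neg d2] at h0
      split_ifs at h0 <;> norm_num at h0
    have d4 : b φ hφ ≠ a χ hχ := fun e => by
      rw [if_pos e, if_neg d1, if_neg d2, if_neg d3] at h0
      norm_num at h0
    intro α hα β hβ
    rw [hR φ hφ, Finset.mem_insert, Finset.mem_singleton] at hα
    rw [hR χ hχ, Finset.mem_insert, Finset.mem_singleton] at hβ
    rcases hα with rfl | rfl <;> rcases hβ with rfl | rfl <;>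
      simp only [CfsgLib.Chars.inner_neg_left, CfsgLib.Chars.inner_neg_right,
        CfsgLib.Chars.inner_irr, if_neg d1, if_neg d2, if_neg d3, if_neg d4, neg_zero]

end Cfsg.Agent.S1514
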