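import Cfsg.Statements.S1505
import Cfsg.Agent.Lib.CharsMore.CyclicTI
import Mathlib

set_option autoImplicit false
set_option linter.style.haveILetI false
open Cfsg

namespace Cfsg.Agent.S1505

open Classical in
/-- Let W₁, W₂ ≤ G form a self-normalising cyclic subgroup W = W₁ ⊔ W₂. For nontrivial linear characters φ, φ' of W trivial on W₂ and ψ, ψ' trivial on W₁, put α = (1 − φ)(1 − ψ) and α' = (1 − φ')(1 − ψ'). Then the function induced from α to G has inner product 1 with the principal character, and the inner product of the functions induced from α and α' is 1 + a + b + ab where a = 1 if φ = φ' (else 0) and b = 1 if ψ = ψ' (else 0). -/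
theorem result {G : Type*} [Group G] [Fintype G] (W₁ W₂ : Subgroup G) (hW : Cfsg.IsSelfNormalizingCyclic W₁ W₂) (φ φ' ψ ψ' : ↥(W₁ ⊔ W₂) →* ℂˣ) (hφ : φ ≠ 1) (hφ' : φ' ≠ 1) (hψ : ψ ≠ 1) (hψ' : ψ' ≠ 1) (hφ₂ : ∀ w : ↥(W₁ ⊔ W₂), (w : G) ∈ W₂ → φ w = 1 ∧ φ' w = 1) (hψ₁ : ∀ w : ↥(W₁ ⊔ W₂), (w : G) ∈ W₁ → ψ w = 1 ∧ ψ' w = 1) : Cfsg.classInner (Cfsg.indFun (W₁ ⊔ W₂) (fun w => 1 - (φ w : ℂ) - (ψ w : ℂ) + (φ w : ℂ) * (ψ w : ℂ))) (fun _ => 1) = 1 ∧ Cfsg.classInner (Cfsg.indFun (W₁ ⊔ W₂) (fun w => 1 - (φ w : ℂ) - (ψ w : ℂ) + (φ w : ℂ) * (ψ w : ℂ))) (Cfsg.indFun (W₁ ⊔ W₂) (fun w => 1 - (φ' w : ℂ) - (ψ' w : ℂ) + (φ' w : ℂ) * (ψ' w : ℂ))) = 1 + (if φ = φ' then 1 else 0) + (if ψ = ψ' then 1 else 0) + (if φ = φ' then 1 else 0) * (if ψ = ψ' then 1 else 0) := by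
  haveI : Fintype ↥(W₁ ⊔ W₂) := Fintype.ofFinite _
  set T := CfsgLib.CharsMore.regularPart W₁ W₂
  let L : (↥(W₁ ⊔ W₂) →* ℂˣ) → (↥(W₁ ⊔ W₂) → ℂ) := fun a w => (a w : ℂ)
  have horth : ∀ a b : ↥(W₁ ⊔ W₂) →* ℂˣ, Cfsg.classInner (L a) (L b) =
      if a = b then 1 else 0 := by
    intro a b
    rw [CfsgLib.Chars.inner_irr_of_isIrr (CfsgLib.Chars.isIrrCharacter_linear a)
      (CfsgLib.Chars.isIrrCharacter_linear b)]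
    exact if_congr ⟨fun h => MonoidHom.ext fun w => Units.ext (congrFun h w),
      fun h => by rw [h]⟩ rfl rfl
  have a1 := fun w h => (hφ₂ w h).1
  have a2 := fun w h => (hφ₂ w h).2
  have b1 := fun w h => (hψ₁ w h).1
  have b2 := fun w h => (hψ₁ w h).2
  have t1 : ∀ w : ↥(W₁ ⊔ W₂), (w : G) ∈ W₁ → (1 : ↥(W₁ ⊔ W₂) →* ℂˣ) w = 1 := fun _ _ => rfl
  have t2 : ∀ w : ↥(W₁ ⊔ W₂), (w : G) ∈ W₂ → (1 : ↥(W₁ ⊔ W₂) →* ℂˣ) w = 1 := fun _ _ => rfl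
  have hdec : ∀ f g : ↥(W₁ ⊔ W₂) →* ℂˣ,
      (fun w : ↥(W₁ ⊔ W₂) => 1 - (f w : ℂ) - (g w : ℂ) + (f w : ℂ) * (g w : ℂ)) =
        L 1 - L f - L g + L (f * g) := by
    intro f g; funext w; simp [L]
  have ne1 : ∀ f g : ↥(W₁ ⊔ W₂) →* ℂˣ, (∀ w : ↥(W₁ ⊔ W₂), (w : G) ∈ W₂ → f w = 1) →
      (∀ w : ↥(W₁ ⊔ W₂), (w : G) ∈ W₁ → g w = 1) → f ≠ 1 → f * g ≠ 1 := fun f g hf hg hne h =>
    hne (CfsgLib.CharsMore.mul_eq_mul_factors hf t2 hg t1 (h.trans (one_mul (1 : ↥(W₁ ⊔ W₂) →* ℂˣ)).symm)).1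
  have ne2 : ∀ f g : ↥(W₁ ⊔ W₂) →* ℂˣ, (∀ w : ↥(W₁ ⊔ W₂), (w : G) ∈ W₂ → f w = 1) →
      (∀ w : ↥(W₁ ⊔ W₂), (w : G) ∈ W₁ → g w = 1) → f ≠ 1 → f ≠ g := fun f g hf hg hne h =>
    hne (CfsgLib.CharsMore.mul_eq_mul_factors hf t2 t1 hg
      ((mul_one f).trans (h.trans (one_mul g).symm))).1
  have ne3 : ∀ f f' g : ↥(W₁ ⊔ W₂) →* ℂˣ, (∀ w : ↥(W₁ ⊔ W₂), (w : G) ∈ W₂ → f w = 1) →
      (∀ w : ↥(W₁ ⊔ W₂), (w : G) ∈ W₂ → f' w = 1) →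
      (∀ w : ↥(W₁ ⊔ W₂), (w : G) ∈ W₁ → g w = 1) → g ≠ 1 → f * g ≠ f' := fun f f' g hf hf' hg hne h =>
    hne (CfsgLib.CharsMore.mul_eq_mul_factors hf hf' hg t1 (h.trans (mul_one f').symm)).2
  have ne4 : ∀ f g g' : ↥(W₁ ⊔ W₂) →* ℂˣ, (∀ w : ↥(W₁ ⊔ W₂), (w : G) ∈ W₂ → f w = 1) →
      (∀ w : ↥(W₁ ⊔ W₂), (w : G) ∈ W₁ → g w = 1) →
      (∀ w : ↥(W₁ ⊔ W₂), (w : G) ∈ W₁ → g' w = 1) → f ≠ 1 → f * g ≠ g' := fun f g g' hf hg hg' hne h =>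
    hne (CfsgLib.CharsMore.mul_eq_mul_factors hf t2 hg hg' (h.trans (one_mul g').symm)).1
  refine ⟨?_, ?_⟩
  · rw [CfsgLib.Chars.inner_indFun _ _ (fun _ _ => rfl), hdec,
      show (fun _ : ↥(W₁ ⊔ W₂) => (1 : ℂ)) = L 1 from funext fun _ => by simp [L],
      CfsgLib.Chars.inner_add_left, CfsgLib.Chars.inner_sub_left, CfsgLib.Chars.inner_sub_left,
      horth, horth, horth, horth, if_pos rfl, if_neg hφ, if_neg hψ, if_neg (ne1 φ ψ a1 b1 hφ)]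
    simp
  · have hsupp : ∀ f g : ↥(W₁ ⊔ W₂) →* ℂˣ, (∀ w : ↥(W₁ ⊔ W₂), (w : G) ∈ W₂ → f w = 1) →
        (∀ w : ↥(W₁ ⊔ W₂), (w : G) ∈ W₁ → g w = 1) → ∀ w : ↥(W₁ ⊔ W₂), (w : G) ∉ T →
        1 - (f w : ℂ) - (g w : ℂ) + (f w : ℂ) * (g w : ℂ) = 0 :=
      fun f g hf hg => CfsgLib.CharsMore.alphaFn_support hf hg
    rw [CfsgLib.Chars.inner_indFun_TI T (W₁ ⊔ W₂)
      (fun g hg t ht hgt => (CfsgLib.CharsMore.regularPart_TI hW g hg t ht hgt).elim)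
      (fun g h => by rw [CfsgLib.CharsMore.comm_of_selfNorm hW h g, mul_inv_cancel_right])
      (hsupp φ ψ a1 b1) (hsupp φ' ψ' a2 b2) (by simp), hdec, hdec]
    have e1 : φ * ψ = φ' * ψ' ↔ φ = φ' ∧ ψ = ψ' :=
      ⟨CfsgLib.CharsMore.mul_eq_mul_factors a1 a2 b1 b2, fun h => by rw [h.1, h.2]⟩
    simp only [CfsgLib.Chars.inner_add_left, CfsgLib.Chars.inner_sub_left,
      CfsgLib.Chars.inner_add_right, CfsgLib.Chars.inner_sub_right, horth,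
      if_neg hφ, if_neg hψ, if_neg (Ne.symm hφ'), if_neg (Ne.symm hψ'),
      if_neg (ne1 φ ψ a1 b1 hφ), if_neg (Ne.symm (ne1 φ' ψ' a2 b2 hφ')),
      if_neg (ne2 φ ψ' a1 b2 hφ), if_neg (Ne.symm (ne2 φ' ψ a2 b1 hφ')),
      if_neg (ne3 φ φ' ψ a1 a2 b1 hψ), if_neg (Ne.symm (ne3 φ' φ ψ' a2 a1 b2 hψ')),
      if_neg (ne4 φ ψ ψ' a1 b1 b2 hφ), if_neg (Ne.symm (ne4 φ' ψ' ψ a2 b2 b1 hφ')), e1]
    by_cases hA : φ = φ' <;> by_cases hB : ψ = ψ' <;> simp [hA, hB]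

end Cfsg.Agent.S1505
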