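import Cfsg.Statements.S1496
import Mathlib

set_option autoImplicit false
open Cfsg

namespace Cfsg.Agent.S1496

/-- Let H be a subgroup of the finite group G and g an element normalising H whose order is coprime to the order of H. Then for every h ∈ H there are x ∈ H and c ∈ H commuting with g such that x * (h * g) * x⁻¹ = c * g. -/
theorem result {G : Type*} [Group G] [Finite G] (H : Subgroup G) (g : G) (hg : g ∈ Subgroup.normalizer (H : Set G)) (hcop : Nat.Coprime (orderOf g) (Nat.card H)) (h : G) (hh : h ∈ H) : ∃ x ∈ H, ∃ c ∈ H, c * g = g * c ∧ x * (h * g) * x⁻¹ = c * g := by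
  classical
  let C : Subgroup H := (Subgroup.centralizer ({g} : Set G)).subgroupOf H
  have hC : ∀ c : H, c ∈ C ↔ (c : G) * g = g * c := fun c => by
    rw [Subgroup.mem_subgroupOf, Subgroup.mem_centralizer_singleton_iff]
  obtain ⟨k, hk1, hk0⟩ := Nat.chineseRemainder hcop 1 0
  rw [Nat.modEq_zero_iff_dvd] at hk0
  have hpart : ∀ c : H, c ∈ C → ((c : G) * g) ^ k = g := by
    intro c hc
    have hcomm : Commute (c : G) g := (hC c).1 hc
    have h1 : (c : G) ^ k = 1 := orderOf_dvd_iff_pow_eq_one.1
      ((Subgroup.orderOf_dvd_natCard _ c.2).trans hk0)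
    have h2 : g ^ k = g := by
      conv_rhs => rw [← pow_one g]
      exact pow_eq_pow_iff_modEq.2 hk1
    rw [hcomm.mul_pow, h1, one_mul, h2]
  have hmem : ∀ (r : H) (c : H), (r : G) * (c * g) * (r : G)⁻¹ * g⁻¹ ∈ H := by
    intro r c
    have e : (r : G) * (c * g) * (r : G)⁻¹ * g⁻¹ = r * c * (g * (r : G)⁻¹ * g⁻¹) := by group
    rw [e]
    exact H.mul_mem (H.mul_mem r.2 c.2)
      ((Subgroup.mem_normalizer_iff.1 hg _).1 (H.inv_mem r.2))
  let f : (H ⧸ C) × C → H := fun q => ⟨_, hmem q.1.out q.2⟩
  have hf : Function.Surjective f := by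
    have hinj : Function.Injective f := by
      rintro ⟨q, c⟩ ⟨q', c'⟩ e
      have e1 : (q.out : G) * ((c : H) * g) * (q.out : G)⁻¹ =
          (q'.out : G) * ((c' : H) * g) * (q'.out : G)⁻¹ :=
        mul_right_cancel (congrArg Subtype.val e)
      set t : H := q'.out⁻¹ * q.out
      have e2 : (t : G) * ((c : H) * g) * (t : G)⁻¹ = (c' : H) * g := by
        have := congrArg (fun z => (q'.out : G)⁻¹ * z * q'.out) e1
        simpa [t, mul_assoc] using this
      have ht : t ∈ C := by
        rw [hC]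
        have := congrArg (fun z => z ^ k) e2
        simp only [conj_pow, hpart _ c.2, hpart _ c'.2] at this
        exact mul_inv_eq_iff_eq_mul.1 this
      have hq : q' = q := by
        rw [← QuotientGroup.out_eq' q, ← QuotientGroup.out_eq' q']
        exact QuotientGroup.eq.2 ht
      subst hq
      exact Prod.ext rfl (Subtype.ext (Subtype.ext (by simpa using e1)))
    refine (hinj.bijective_of_nat_card_le ?_).2
    rw [Nat.card_prod, ← Subgroup.card_eq_card_quotient_mul_card_subgroup]
  obtain ⟨⟨q, c⟩, e⟩ := hf ⟨h, hh⟩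
  refine ⟨(q.out : G)⁻¹, H.inv_mem q.out.2, (c : H), (c : H).2, (hC _).1 c.2, ?_⟩
  have e' : (q.out : G) * ((c : H) * g) * (q.out : G)⁻¹ * g⁻¹ = h := congrArg Subtype.val e
  rw [← e']
  group

end Cfsg.Agent.S1496
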