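import Cfsg.Statements.S2426
import Mathlib

set_option autoImplicit false
open Cfsg

set_option maxHeartbeats 1000000

namespace Cfsg.Agent.S2426

variable {P : Type*} [Group P] {K : Type*} [Field K]

/-- The defining relations of the rank one presentation. -/
structure Rels (x y : K → P) : Prop where
  addx : ∀ t u, x t * x u = x (t + u)
  addy : ∀ t u, y t * y u = y (t + u)
  conjx : ∀ t u, t ≠ 0 → (x t * y (-t⁻¹) * x t) * x u * (x t * y (-t⁻¹) * x t)⁻¹ = y (-(t⁻¹ ^ 2 * u))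
  conjy : ∀ t u, t ≠ 0 → (y t * x (-t⁻¹) * y t) * y u * (y t * x (-t⁻¹) * y t)⁻¹ = x (-(t⁻¹ ^ 2 * u))

variable {x y : K → P}

def w (x y : K → P) (t : K) : P := x t * y (-t⁻¹) * x t
def w' (x y : K → P) (t : K) : P := y t * x (-t⁻¹) * y t
def h (x y : K → P) (t : K) : P := w x y t * (w x y 1)⁻¹

theorem x_zero (R : Rels x y) : x 0 = 1 := by
  have := R.addx 0 0; rw [add_zero] at this; simpa using this

theorem y_zero (R : Rels x y) : y 0 = 1 := by
  have := R.addy 0 0; rw [add_zero] at this; simpa using this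

theorem x_inv (R : Rels x y) (t : K) : (x t)⁻¹ = x (-t) :=
  inv_eq_of_mul_eq_one_right (by rw [R.addx, add_neg_cancel, x_zero R])

theorem y_inv (R : Rels x y) (t : K) : (y t)⁻¹ = y (-t) :=
  inv_eq_of_mul_eq_one_right (by rw [R.addy, add_neg_cancel, y_zero R])

theorem w_inv (R : Rels x y) (t : K) : (w x y t)⁻¹ = w x y (-t) := by
  simp only [w, mul_inv_rev, x_inv R, y_inv R, inv_neg, neg_neg, mul_assoc]

theorem w_x (R : Rels x y) {t : K} (ht : t ≠ 0) (u : K) :
    w x y t * x u = y (-(t⁻¹ ^ 2 * u)) * w x y t := by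
  rw [← R.conjx t u ht]; simp only [w]; group

theorem w_y (R : Rels x y) {t : K} (ht : t ≠ 0) (u : K) :
    w x y t * y u = x (-(t ^ 2 * u)) * w x y t := by
  have h1 := w_x R (neg_ne_zero.2 ht) (-(t ^ 2 * u))
  rw [show -((-t)⁻¹ ^ 2 * -(t ^ 2 * u)) = u by field_simp] at h1
  rw [← w_inv R] at h1
  calc w x y t * y u = w x y t * (y u * (w x y t)⁻¹) * w x y t := by group
    _ = w x y t * ((w x y t)⁻¹ * x (-(t ^ 2 * u))) * w x y t := by rw [h1]
    _ = _ := by group

theorem w_w_aux (R : Rels x y) {t : K} (ht : t ≠ 0) {s : K} (hs : s ≠ 0) :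
    w x y t * w x y s = w' x y (-(t⁻¹ ^ 2 * s)) * w x y t := by
  show w x y t * (x s * y (-s⁻¹) * x s) = y _ * x _ * y _ * w x y t
  rw [show -(-(t⁻¹ ^ 2 * s))⁻¹ = -(t ^ 2 * -s⁻¹) by field_simp]
  calc w x y t * (x s * y (-s⁻¹) * x s) = (w x y t * x s) * y (-s⁻¹) * x s := by group
    _ = y (-(t⁻¹ ^ 2 * s)) * (w x y t * y (-s⁻¹)) * x s := by rw [w_x R ht]; group
    _ = y (-(t⁻¹ ^ 2 * s)) * x (-(t ^ 2 * -s⁻¹)) * (w x y t * x s) := by rw [w_y R ht]; group
    _ = _ := by rw [w_x R ht]; group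

theorem w'_eq (R : Rels x y) {r : K} (hr : r ≠ 0) : w' x y r = w x y (-r⁻¹) := by
  have hr' : -r⁻¹ ≠ 0 := neg_ne_zero.2 (inv_ne_zero hr)
  have h1 := w_w_aux R hr' hr'
  rw [show -((-r⁻¹)⁻¹ ^ 2 * -r⁻¹) = r by field_simp] at h1
  exact (mul_right_cancel h1).symm

theorem w_conj_w (R : Rels x y) {t s : K} (ht : t ≠ 0) (hs : s ≠ 0) :
    w x y t * w x y s = w x y (t ^ 2 * s⁻¹) * w x y t := by
  rw [w_w_aux R ht hs, w'_eq R (by simp [ht, hs])]
  congr 2
  field_simp

theorem h_one (x y : K → P) : h x y 1 = 1 := mul_inv_cancel _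

theorem w_eq (x y : K → P) (t : K) : w x y t = h x y t * w x y 1 := by rw [h, inv_mul_cancel_right]

theorem w1_h (R : Rels x y) {s : K} (hs : s ≠ 0) : w x y 1 * h x y s = h x y s⁻¹ * w x y 1 := by
  rw [h, ← mul_assoc, w_conj_w R one_ne_zero hs, one_pow, one_mul, mul_inv_cancel_right]
  exact w_eq x y s⁻¹

theorem h_conj_h (R : Rels x y) {u s : K} (hu : u ≠ 0) (hs : s ≠ 0) :
    h x y u * h x y s = h x y (u ^ 2 * s) * (h x y (u ^ 2))⁻¹ * h x y u := by
  have h2 := w1_h R (inv_ne_zero hs)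
  rw [inv_inv] at h2
  have e1 := w_conj_w R hu (inv_ne_zero hs)
  rw [inv_inv] at e1
  have e2 := w_conj_w R hu one_ne_zero
  rw [inv_one, mul_one] at e2
  calc h x y u * h x y s = w x y u * ((w x y 1)⁻¹ * h x y s) := by rw [h.eq_def x y u]; group
    _ = w x y u * (h x y s⁻¹ * (w x y 1)⁻¹) := by
        congr 1
        calc (w x y 1)⁻¹ * h x y s = (w x y 1)⁻¹ * (h x y s * w x y 1) * (w x y 1)⁻¹ := by group
          _ = h x y s⁻¹ * (w x y 1)⁻¹ := by rw [← h2]; group
    _ = (w x y u * w x y s⁻¹) * (w x y u * w x y 1)⁻¹ * (w x y u * (w x y 1)⁻¹) := by rw [h.eq_def x y s⁻¹]; group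
    _ = _ := by
        rw [e1, e2, w_eq x y (u ^ 2 * s), w_eq x y (u ^ 2), h.eq_def x y u]
        group

theorem h_x (R : Rels x y) {t : K} (ht : t ≠ 0) (u : K) : h x y t * x u = x (t ^ 2 * u) * h x y t := by
  rw [h, w_inv R]
  calc w x y t * w x y (-1) * x u = w x y t * (w x y (-1) * x u) := by group
    _ = (w x y t * y (-u)) * w x y (-1) := by
      rw [w_x R (neg_ne_zero.2 one_ne_zero), show -((-1 : K)⁻¹ ^ 2 * u) = -u by simp]; group
    _ = x (t ^ 2 * u) * (w x y t * w x y (-1)) := by rw [w_y R ht, show -(t ^ 2 * -u) = t ^ 2 * u by ring]; group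

/-- Steinberg's identity. -/
theorem h_mul_h_of_add_eq_one (R : Rels x y) {u v : K} (hu : u ≠ 0) (hv : v ≠ 0) (huv : u + v = 1) :
    h x y u * h x y v⁻¹ = h x y (u / v) := by
  have key : w x y u * w x y v = w x y (u / v) * w x y 1 := by
    have hx1 : x 1 = y 1 * w x y 1 * y 1 := by
      have : w x y 1 = y (-1) * x 1 * y (-1) := by
        have h1 := w'_eq R (neg_ne_zero.2 (one_ne_zero (α := K)))
        rw [show -(-1 : K)⁻¹ = 1 by simp] at h1
        rw [← h1, w']; congr 2; simp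
      rw [this, show y (-1) = (y 1)⁻¹ from (y_inv R 1).symm]; group
    have hwuv : w x y (u / v) = y (-(v / u)) * x (u / v) * y (-(v / u)) := by
      have h1 := w'_eq R (neg_ne_zero.2 (div_ne_zero hv hu))
      rw [show -(-(v / u))⁻¹ = u / v by field_simp] at h1
      rw [← h1, w']; congr 2; field_simp
    have q1 : x u * x v = x 1 := by rw [R.addx, huv]
    have q2 : y (-u⁻¹) * y 1 = y (-(v / u)) := by
      rw [R.addy]; congr 1; field_simp; linear_combination huv
    have q3 : y 1 * y (-v⁻¹) = y (-(u / v)) := by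
      rw [R.addy]; congr 1; field_simp; linear_combination huv
    calc w x y u * w x y v = x u * y (-u⁻¹) * (x u * x v) * y (-v⁻¹) * x v := by simp only [w]; group
      _ = x u * (y (-u⁻¹) * y 1) * w x y 1 * (y 1 * y (-v⁻¹)) * x v := by rw [q1, hx1]; group
      _ = x u * y (-(v / u)) * (w x y 1 * y (-(u / v))) * x v := by rw [q2, q3]; group
      _ = x u * y (-(v / u)) * x (u / v) * (w x y 1 * x v) := by
          rw [w_y R one_ne_zero, show -((1 : K) ^ 2 * -(u / v)) = u / v by ring]; group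
      _ = x u * (y (-(v / u)) * x (u / v) * y (-(v / u))) * y (v / u - v) * w x y 1 := by
          rw [w_x R one_ne_zero, show -((1 : K)⁻¹ ^ 2 * v) = -(v / u) + (v / u - v) by rw [inv_one, one_pow, one_mul]; ring, ← R.addy]; group
      _ = x u * (w x y (u / v) * y (v / u - v)) * w x y 1 := by rw [← hwuv]; group
      _ = x u * x (-((u / v) ^ 2 * (v / u - v))) * w x y (u / v) * w x y 1 := by
          rw [w_y R (div_ne_zero hu hv)]; group
      _ = _ := by
          rw [R.addx, show u + -((u / v) ^ 2 * (v / u - v)) = 0 by field_simp; linear_combination u * huv, x_zero R, one_mul]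
  have h1 := w1_h R hv
  calc h x y u * h x y v⁻¹ = h x y u * (h x y v⁻¹ * w x y 1) * (w x y 1)⁻¹ := by group
    _ = (h x y u * w x y 1) * (h x y v * w x y 1) * (w x y 1)⁻¹ * (w x y 1)⁻¹ := by rw [← h1]; group
    _ = h x y (u / v) := by rw [← w_eq, ← w_eq, key, w_eq x y (u / v)]; group

/-- The torus map is multiplicative, given that its elements commute. -/
theorem h_hom [Finite K] (R : Rels x y) (hcomm : ∀ a b : K, a ≠ 0 → b ≠ 0 → h x y a * h x y b = h x y b * h x y a) :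
    ∀ a b : K, a ≠ 0 → b ≠ 0 → h x y (a * b) = h x y a * h x y b := by
  classical
  have := Fintype.ofFinite K
  have hsq : ∀ a b : K, a ≠ 0 → b ≠ 0 → h x y (a ^ 2 * b) = h x y (a ^ 2) * h x y b := by
    intro a b ha hb
    have h1 := h_conj_h R ha hb
    rw [hcomm a b ha hb] at h1
    have h2 := mul_right_cancel h1
    rw [hcomm (a ^ 2) b (pow_ne_zero 2 ha) hb, h2, inv_mul_cancel_right]
  by_cases hall : ∀ a : K, a ≠ 0 → ∃ c, a = c ^ 2
  · intro a b ha hb
    obtain ⟨c, rfl⟩ := hall a ha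
    exact hsq c b (fun h0 => ha (by simp [h0])) hb
  push Not at hall
  obtain ⟨n, hn0, hn⟩ := hall
  have hodd : ringChar K ≠ 2 := fun h2 => by
    obtain ⟨c, hc⟩ := FiniteField.isSquare_of_char_two h2 n
    exact hn c (by rw [hc, pow_two])
  -- two non-squares with sum one
  obtain ⟨a, b, hab⟩ := FiniteField.exists_root_sum_quadratic (f := Polynomial.X ^ 2) (g := Polynomial.X ^ 2 - Polynomial.C n⁻¹)
    (Polynomial.degree_X_pow 2) (Polynomial.degree_X_pow_sub_C (by norm_num) _) (FiniteField.odd_card_of_char_ne_two hodd)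
  simp at hab
  have ha : a ≠ 0 := fun h0 => hn b⁻¹ (by
    rw [h0] at hab
    have : b ^ 2 = n⁻¹ := by linear_combination hab
    rw [inv_pow, this, inv_inv])
  have hb : b ≠ 0 := fun h0 => hn a⁻¹ (by
    rw [h0] at hab
    have : a ^ 2 = n⁻¹ := by linear_combination hab
    rw [inv_pow, this, inv_inv])
  set u := n * a ^ 2 with hu
  set v := n * b ^ 2 with hv
  have hu0 : u ≠ 0 := mul_ne_zero hn0 (pow_ne_zero 2 ha)
  have hv0 : v ≠ 0 := mul_ne_zero hn0 (pow_ne_zero 2 hb)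
  have huv : u + v = 1 := by
    have e : n * n⁻¹ = 1 := mul_inv_cancel₀ hn0
    rw [hu, hv]
    linear_combination n * hab + e
  have key := h_mul_h_of_add_eq_one R hu0 hv0 huv
  -- every non-zero element is a square or a square times a given non-square
  have hdec : ∀ z : K, z ≠ 0 → ∀ m : K, m ≠ 0 → (∀ c, m ≠ c ^ 2) → (∃ c, c ≠ 0 ∧ z = c ^ 2) ∨ ∃ c, c ≠ 0 ∧ z = c ^ 2 * m := by
    intro z hz m hm hmn
    by_cases hs : IsSquare z
    · obtain ⟨c, hc⟩ := hs
      exact Or.inl ⟨c, fun h0 => hz (by simp [hc, h0]), by rw [hc, pow_two]⟩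
    · have hms : ¬ IsSquare m := fun ⟨c, hc⟩ => hmn c (by rw [hc, pow_two])
      obtain ⟨c, hc⟩ := (quadraticChar_one_iff_isSquare (mul_ne_zero hz (inv_ne_zero hm))).1 (by
        rw [map_mul, quadraticChar_neg_one_iff_not_isSquare.2 hs,
          quadraticChar_neg_one_iff_not_isSquare.2 (fun h => hms (isSquare_inv.1 h))]
        norm_num)
      refine Or.inr ⟨c, fun h0 => ?_, ?_⟩
      · rw [h0, mul_zero] at hc
        exact mul_ne_zero hz (inv_ne_zero hm) hc
      · rw [pow_two, ← hc]; field_simp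
  have hun : ∀ c, u ≠ c ^ 2 := fun c hc => hn (c / a) (by rw [div_pow, ← hc, hu]; field_simp)
  have hvn : ∀ c, v⁻¹ ≠ c ^ 2 := fun c hc => hn (c * b)⁻¹ (by
    rw [inv_pow, mul_pow, ← hc, hv]; field_simp)
  intro z z' hz hz'
  rcases hdec z hz u hu0 hun with ⟨c, hc, rfl⟩ | ⟨c, hc, rfl⟩
  · exact hsq c z' hc hz'
  rcases hdec z' hz' v⁻¹ (inv_ne_zero hv0) hvn with ⟨d, hd, rfl⟩ | ⟨d, hd, rfl⟩
  · rw [mul_comm (c ^ 2 * u) (d ^ 2), hsq d _ hd hz, hcomm _ _ hz (pow_ne_zero 2 hd)]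
  · rw [show c ^ 2 * u * (d ^ 2 * v⁻¹) = (c * d) ^ 2 * (u * v⁻¹) by ring, hsq _ _ (mul_ne_zero hc hd) (mul_ne_zero hu0 (inv_ne_zero hv0)),
      ← div_eq_mul_inv, ← key, mul_pow, hsq c (d ^ 2) hc (pow_ne_zero 2 hd), hsq c u hc hu0, hsq d _ hd (inv_ne_zero hv0)]
    calc h x y (c ^ 2) * h x y (d ^ 2) * (h x y u * h x y v⁻¹)
        = h x y (c ^ 2) * (h x y (d ^ 2) * h x y u) * h x y v⁻¹ := by group
      _ = h x y (c ^ 2) * (h x y u * h x y (d ^ 2)) * h x y v⁻¹ := by rw [hcomm _ _ (pow_ne_zero 2 hd) hu0]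
      _ = _ := by group

/-- Over a finite field the torus elements commute. -/
theorem h_comm [Finite K] (R : Rels x y) : ∀ a b : K, a ≠ 0 → b ≠ 0 → h x y a * h x y b = h x y b * h x y a := by
  classical
  have := Fintype.ofFinite K
  obtain ⟨g, hg⟩ := IsCyclic.exists_generator (α := Kˣ)
  have g0 : (g : K) ≠ 0 := g.ne_zero
  set A := h x y (g : K) with hA
  set B := h x y ((g : K) ^ 2) with hB
  have hAB : B * A = A * B := by
    have e1 := h_conj_h R g0 (inv_ne_zero g0)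
    rw [show (g : K) ^ 2 * (g : K)⁻¹ = g by field_simp, ← hA, ← hB] at e1
    have e2 := h_conj_h R g0 (inv_ne_zero (pow_ne_zero 2 g0))
    rw [mul_inv_cancel₀ (pow_ne_zero 2 g0), h_one, one_mul, ← hA, ← hB] at e2
    have e3 : h x y (g : K)⁻¹ = B⁻¹ * A := by
      refine mul_left_cancel (a := A) ?_
      rw [e1]; group
    have e4 : h x y ((g : K) ^ 2)⁻¹ = A⁻¹ * B⁻¹ * A := by
      refine mul_left_cancel (a := A) ?_
      rw [e2]; group
    have h1 := congrArg (fun z => w x y 1 * z) e3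
    rw [w1_h R (inv_ne_zero g0), inv_inv, ← mul_assoc, show B⁻¹ = (h x y ((g : K) ^ 2))⁻¹ from rfl,
      show w x y 1 * (h x y ((g : K) ^ 2))⁻¹ = (h x y ((g : K) ^ 2)⁻¹)⁻¹ * w x y 1 by
        rw [eq_inv_mul_iff_mul_eq, ← mul_assoc, ← w1_h R (pow_ne_zero 2 g0), mul_inv_cancel_right],
      e4, mul_assoc, w1_h R g0, ← mul_assoc, e3] at h1
    have h2 := mul_right_cancel h1
    rw [← hA] at h2
    have h3 : A⁻¹ * B * A * B⁻¹ = 1 := by
      apply mul_right_cancel (b := A)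
      rw [one_mul]
      conv_rhs => rw [h2]
      group
    calc B * A = A * (A⁻¹ * B * A * B⁻¹) * B := by group
      _ = A * B := by rw [h3, mul_one]
  have hrec : ∀ k : ℕ, h x y ((g : K) ^ (k + 2)) = A * h x y ((g : K) ^ k) * A⁻¹ * B := by
    intro k
    have e := h_conj_h R g0 (pow_ne_zero k g0)
    rw [← pow_add, ← hA, ← hB, add_comm 2 k] at e
    rw [e]; group
  have hcommA : ∀ (z : P), Commute z A → Commute z B → ∀ k : ℕ, Commute z (h x y ((g : K) ^ k)) := by
    intro z hzA hzB k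
    induction k using Nat.twoStepInduction with
    | zero => rw [pow_zero, h_one]; exact Commute.one_right z
    | one => rw [pow_one]; exact hzA
    | more k ih _ => rw [hrec]; exact ((hzA.mul_right ih).mul_right hzA.inv_right).mul_right hzB
  have hA1 : ∀ k : ℕ, Commute (h x y ((g : K) ^ k)) A := fun k => (hcommA A (Commute.refl A) hAB.symm k).symm
  have hB1 : ∀ k : ℕ, Commute (h x y ((g : K) ^ k)) B := fun k => (hcommA B hAB (Commute.refl B) k).symm
  intro a b ha hb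
  obtain ⟨k, hk⟩ : ∃ k : ℕ, (g : K) ^ k = a := by
    obtain ⟨k, hk⟩ := Submonoid.mem_powers_iff _ _ |>.1 (mem_powers_iff_mem_zpowers.2 (hg (Units.mk0 a ha)))
    exact ⟨k, by rw [← Units.val_pow_eq_pow_val, hk, Units.val_mk0]⟩
  obtain ⟨l, hl⟩ : ∃ l : ℕ, (g : K) ^ l = b := by
    obtain ⟨k, hk⟩ := Submonoid.mem_powers_iff _ _ |>.1 (mem_powers_iff_mem_zpowers.2 (hg (Units.mk0 b hb)))
    exact ⟨k, by rw [← Units.val_pow_eq_pow_val, hk, Units.val_mk0]⟩
  subst hk hl
  exact hcommA _ (hA1 k) (hB1 k) l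

/-- Bruhat cells. -/
def Cell (x y : K → P) (g : P) : Prop :=
  (∃ a t, t ≠ 0 ∧ g = x a * h x y t) ∨ ∃ a t b, t ≠ 0 ∧ g = x a * h x y t * w x y 1 * x b

theorem cell_all [Finite K] (R : Rels x y) (hgen : Subgroup.closure (Set.range x ∪ Set.range y) = ⊤) :
    ∀ g : P, Cell x y g := by
  have hh := h_hom R (h_comm R)
  have hxr : ∀ g c, Cell x y g → Cell x y (g * x c) := by
    rintro _ c (⟨a, t, ht, rfl⟩ | ⟨a, t, b, ht, rfl⟩)
    · exact Or.inl ⟨a + t ^ 2 * c, t, ht, by rw [mul_assoc, h_x R ht, ← mul_assoc, R.addx]⟩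
    · exact Or.inr ⟨a, t, b + c, ht, by rw [mul_assoc _ (x b), R.addx]⟩
  have hm1 : ((-1 : K)) ≠ 0 := neg_ne_zero.2 one_ne_zero
  have hw11 : w x y 1 * w x y 1 = h x y (-1) := by
    have e1 : h x y (-1) = (w x y 1 * w x y 1)⁻¹ := by rw [h, ← w_inv R, mul_inv_rev]
    have e2 : h x y (-1) * h x y (-1) = 1 := by rw [← hh _ _ hm1 hm1, neg_mul_neg, one_mul, h_one]
    rw [← inv_inv (w x y 1 * w x y 1), ← e1, inv_eq_of_mul_eq_one_right e2]
  have hwr : ∀ g, Cell x y g → Cell x y (g * w x y 1) := by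
    rintro _ (⟨a, t, ht, rfl⟩ | ⟨a, t, b, ht, rfl⟩)
    · exact Or.inr ⟨a, t, 0, ht, by rw [x_zero R, mul_one]⟩
    by_cases hb : b = 0
    · refine Or.inl ⟨a, t * -1, mul_ne_zero ht hm1, ?_⟩
      rw [hh t _ ht hm1, hb, x_zero R, mul_one, mul_assoc _ (w x y 1), hw11, mul_assoc]
    · have hy : y (-b) = x (-b⁻¹) * h x y b⁻¹ * w x y 1 * x (-b⁻¹) := by
        have h1 := w'_eq R (neg_ne_zero.2 hb)
        rw [show -(-b)⁻¹ = b⁻¹ by field_simp] at h1
        have h2 : w x y b⁻¹ = x b⁻¹ * y (-b) * x b⁻¹ := by rw [w, inv_inv]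
        rw [mul_assoc _ (h x y b⁻¹), ← w_eq, h2, ← x_inv R]
        group
      refine Or.inr ⟨a + t ^ 2 * -b⁻¹, t * b⁻¹ * -1, -b⁻¹, mul_ne_zero (mul_ne_zero ht (inv_ne_zero hb)) hm1, ?_⟩
      have e1 : x (-b⁻¹) * h x y (-1) = h x y (-1) * x (-b⁻¹) := by
        rw [h_x R hm1]; congr 2; ring
      have e2 : w x y 1 * h x y (-1) = h x y (-1) * w x y 1 := by
        rw [w1_h R hm1]; congr 2; ring
      rw [hh _ _ (mul_ne_zero ht (inv_ne_zero hb)) hm1, hh _ _ ht (inv_ne_zero hb)]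
      calc x a * h x y t * w x y 1 * x b * w x y 1 = x a * h x y t * (w x y 1 * x b) * w x y 1 := by group
        _ = x a * h x y t * y (-b) * (w x y 1 * w x y 1) := by
            rw [w_x R one_ne_zero, show -((1 : K)⁻¹ ^ 2 * b) = -b by simp]; group
        _ = x a * (h x y t * x (-b⁻¹)) * h x y b⁻¹ * w x y 1 * (x (-b⁻¹) * h x y (-1)) := by rw [hy, hw11]; group
        _ = (x a * x (t ^ 2 * -b⁻¹)) * h x y t * h x y b⁻¹ * (w x y 1 * h x y (-1)) * x (-b⁻¹) := by
            rw [h_x R ht, e1]; group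
        _ = _ := by rw [R.addx, e2]; group
  intro g
  have hg : g ∈ Subgroup.closure (Set.range x ∪ Set.range y) := hgen ▸ Subgroup.mem_top g
  have hwi : ∀ g, Cell x y g → Cell x y (g * (w x y 1)⁻¹) := by
    intro g hc
    have e : (w x y 1)⁻¹ = w x y 1 * w x y 1 * w x y 1 := by
      refine inv_eq_of_mul_eq_one_right ?_
      calc w x y 1 * (w x y 1 * w x y 1 * w x y 1) = (w x y 1 * w x y 1) * (w x y 1 * w x y 1) := by group
        _ = 1 := by rw [hw11, ← hh _ _ hm1 hm1, neg_mul_neg, one_mul, h_one]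
    rw [e, ← mul_assoc, ← mul_assoc]
    exact hwr _ (hwr _ (hwr _ hc))
  have hyr : ∀ g c, Cell x y g → Cell x y (g * y c) := by
    intro g c hc
    have e : y c = w x y 1 * x (-c) * (w x y 1)⁻¹ := by
      rw [w_x R one_ne_zero, mul_inv_cancel_right]; congr 1; simp
    rw [e, ← mul_assoc, ← mul_assoc]
    exact hwi _ (hxr _ _ (hwr _ hc))
  induction hg using Subgroup.closure_induction_right with
  | one => exact Or.inl ⟨0, 1, one_ne_zero, by rw [x_zero R, h_one, mul_one]⟩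
  | mul_right g _ s hs ih =>
    rcases hs with ⟨c, rfl⟩ | ⟨c, rfl⟩
    · exact hxr _ _ ih
    · exact hyr _ _ ih
  | mul_inv_cancel g _ s hs ih =>
    rcases hs with ⟨c, rfl⟩ | ⟨c, rfl⟩
    · rw [x_inv R]; exact hxr _ _ ih
    · rw [y_inv R]; exact hyr _ _ ih

/-- The rank-one Steinberg presentation of `SL₂` over a finite field `K`: generators `x(t)`, `y(t)` (`t ∈ K`; the two opposite root subgroups) subject to additivity `x(t)x(u) = x(t+u)`, `y(t)y(u) = y(t+u)` and, with `w(t) = x(t) y(−t⁻¹) x(t)` and `w'(t) = y(t) x(−t⁻¹) y(t)` for `t ≠ 0`, the relations `w(t) x(u) w(t)⁻¹ = y(−t⁻² u)` and `w'(t) y(u) w'(t)⁻¹ = x(−t⁻² u)`, present `SL₂(K)`, with `x(t) ↦ (1 t; 0 1)` and `y(t) ↦ (1 0; t 1)`. -/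
theorem result {K : Type*} [Field K] [Finite K] :
    ∃ e : PresentedGroup
        ({g : FreeGroup (Bool × K) | ∃ (b : Bool) (t u : K), g = FreeGroup.of (b, t) * FreeGroup.of (b, u) * (FreeGroup.of (b, t + u))⁻¹} ∪
          {g | ∃ (b : Bool) (t u : K), t ≠ 0 ∧
            g = (FreeGroup.of (b, t) * FreeGroup.of (!b, -t⁻¹) * FreeGroup.of (b, t)) * FreeGroup.of (b, u) *
                  (FreeGroup.of (b, t) * FreeGroup.of (!b, -t⁻¹) * FreeGroup.of (b, t))⁻¹ * (FreeGroup.of (!b, -(t⁻¹ ^ 2 * u)))⁻¹})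
        ≃* Matrix.SpecialLinearGroup (Fin 2) K,
      (∀ t : K, ((e (PresentedGroup.of (true, t)) : Matrix (Fin 2) (Fin 2) K)) = !![1, t; 0, 1]) ∧
      (∀ t : K, ((e (PresentedGroup.of (false, t)) : Matrix (Fin 2) (Fin 2) K)) = !![1, 0; t, 1]) := by
  classical
  set S : Set (FreeGroup (Bool × K)) := _ ∪ _ with hS
  let xg : K → PresentedGroup S := fun t => PresentedGroup.of (true, t)
  let yg : K → PresentedGroup S := fun t => PresentedGroup.of (false, t)
  have hrel : ∀ r ∈ S, PresentedGroup.mk S r = 1 := fun r hr => PresentedGroup.one_of_mem hr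
  have hadd : ∀ (b : Bool) (t u : K), (PresentedGroup.of (b, t) : PresentedGroup S) * PresentedGroup.of (b, u) = PresentedGroup.of (b, t + u) := by
    intro b t u
    have := hrel _ (Or.inl ⟨b, t, u, rfl⟩)
    simp only [map_mul, map_inv, mul_inv_eq_one] at this
    exact this
  have hconj : ∀ (b : Bool) (t u : K), t ≠ 0 → ((PresentedGroup.of (b, t) : PresentedGroup S) * PresentedGroup.of (!b, -t⁻¹) * PresentedGroup.of (b, t)) * PresentedGroup.of (b, u) *
      (PresentedGroup.of (b, t) * PresentedGroup.of (!b, -t⁻¹) * PresentedGroup.of (b, t))⁻¹ = PresentedGroup.of (!b, -(t⁻¹ ^ 2 * u)) := by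
    intro b t u ht
    have := hrel _ (Or.inr ⟨b, t, u, ht, rfl⟩)
    simp only [map_mul, map_inv, mul_inv_eq_one] at this
    exact this
  have R : Rels xg yg := ⟨hadd true, hadd false, fun t u ht => hconj true t u ht, fun t u ht => hconj false t u ht⟩
  have hgen : Subgroup.closure (Set.range xg ∪ Set.range yg) = ⊤ := by
    rw [eq_top_iff, ← PresentedGroup.closure_range_of S, Subgroup.closure_le]
    rintro _ ⟨⟨b, t⟩, rfl⟩
    rcases b
    · exact Subgroup.subset_closure (Or.inr ⟨t, rfl⟩)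
    · exact Subgroup.subset_closure (Or.inl ⟨t, rfl⟩)
  let f : Bool × K → Matrix.SpecialLinearGroup (Fin 2) K := fun p =>
    if p.1 then ⟨!![1, p.2; 0, 1], by simp [Matrix.det_fin_two]⟩ else ⟨!![1, 0; p.2, 1], by simp [Matrix.det_fin_two]⟩
  have mm : ∀ a b : Matrix.SpecialLinearGroup (Fin 2) K, (a * b).1 = a.1 * b.1 := fun _ _ => rfl
  have hf : ∀ r ∈ S, FreeGroup.lift f r = 1 := by
    rintro _ (⟨b, t, u, rfl⟩ | ⟨b, t, u, ht, rfl⟩)
    · simp only [map_mul, map_inv, FreeGroup.lift_apply_of, mul_inv_eq_one]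
      apply Subtype.ext
      rw [mm]
      cases b <;> simp [f, add_comm]
    · simp only [map_mul, map_inv, FreeGroup.lift_apply_of, mul_inv_eq_one, mul_inv_eq_iff_eq_mul]
      apply Subtype.ext
      simp only [mm]
      cases b
      · simp [f, ht]
        have e2 : (t ^ 2)⁻¹ * t = t⁻¹ := by field_simp
        linear_combination -u * e2
      · simp [f, ht]
        have e2 : (t ^ 2)⁻¹ * t = t⁻¹ := by field_simp
        linear_combination -u * e2
  let θ := PresentedGroup.toGroup hf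
  have hθx : ∀ t, (θ (xg t)).1 = !![1, t; 0, 1] := fun t => by simp [θ, xg, f]
  have hθy : ∀ t, (θ (yg t)).1 = !![1, 0; t, 1] := fun t => by simp [θ, yg, f]
  have hθw : ∀ t, t ≠ 0 → (θ (w xg yg t)).1 = !![0, t; -t⁻¹, 0] := fun t ht => by
    simp [w, hθx, hθy, ht]
  have hθh : ∀ t, t ≠ 0 → (θ (h xg yg t)).1 = !![t, 0; 0, t⁻¹] := fun t ht => by
    rw [h, map_mul, Matrix.SpecialLinearGroup.coe_mul, hθw t ht, map_inv, Matrix.SpecialLinearGroup.coe_inv, hθw 1 one_ne_zero]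
    simp [Matrix.adjugate_fin_two]
  have hinj : Function.Injective θ := by
    refine (injective_iff_map_eq_one θ).2 fun g hg => ?_
    rcases cell_all R hgen g with ⟨a, t, ht, rfl⟩ | ⟨a, t, b, ht, rfl⟩
    · have e := congrArg Subtype.val hg
      simp [hθx, hθh t ht] at e
      have h00 := congrFun (congrFun e 0) 0
      have h01 := congrFun (congrFun e 0) 1
      simp at h00 h01
      obtain rfl := h00
      simp at h01
      rw [h01, x_zero R, h_one, mul_one]
    · exfalso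
      have e := congrArg Subtype.val hg
      simp [hθx, hθh t ht, hθw 1 one_ne_zero] at e
      have h10 := congrFun (congrFun e 1) 0
      simp [ht] at h10
  have hsurj : Function.Surjective θ := by
    intro g
    have key : ∀ g : Matrix.SpecialLinearGroup (Fin 2) K, g.1 1 0 ≠ 0 → g ∈ θ.range := by
      intro g hc
      have hd := g.2
      rw [Matrix.det_fin_two] at hd
      refine ⟨xg ((g.1 0 0 - 1) / g.1 1 0) * yg (g.1 1 0) * xg ((g.1 1 1 - 1) / g.1 1 0), ?_⟩
      apply Subtype.ext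
      rw [map_mul, map_mul, Matrix.SpecialLinearGroup.coe_mul, Matrix.SpecialLinearGroup.coe_mul, hθx, hθy, hθx]
      ext i j
      fin_cases i <;> fin_cases j <;> simp <;> field_simp
      · ring
      · linear_combination hd
      · ring
    rw [← MonoidHom.mem_range]
    by_cases hc : g.1 1 0 = 0
    · have h00 : g.1 0 0 ≠ 0 := fun h0 => by
        have hd := g.2
        rw [Matrix.det_fin_two, h0, hc] at hd
        simp at hd
      have h1 : θ (yg 1) * g ∈ θ.range := key _ (by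
        rw [Matrix.SpecialLinearGroup.coe_mul, hθy]; simp [Matrix.vecMul, dotProduct, hc, h00])
      simpa using θ.range.mul_mem (θ.range.inv_mem ⟨yg 1, rfl⟩) h1
    · exact key g hc
  exact ⟨MulEquiv.ofBijective θ ⟨hinj, hsurj⟩, hθx, hθy⟩

end Cfsg.Agent.S2426
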