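import Cfsg.Statements.S4709
import Cfsg.Agent.Lib.Blocks.FreePrincipal

set_option autoImplicit false
open Cfsg Subgroup
open Finset CfsgLib
open scoped Pointwise commutatorElement

namespace Cfsg.Agent.S4709

open Finset CfsgLib CfsgLib.Chars CfsgLib.Blocks in
theorem hom_fixed_eq_one {A : Type*} [Group A] [Finite A] (hA : ∀ a b : A, a * b = b * a)
    {σ τ : MulAut A} (hfix : ∀ u : A, σ u = τ u → u = 1) {ψ : A →* ℂˣ}
    (h : ∀ u, ψ (σ u) = ψ (τ u)) : ψ = 1 := by
  have hinj : Function.Injective fun u => σ u * (τ u)⁻¹ := fun u v huv => by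
    refine (inv_mul_eq_one.1 (hfix (v⁻¹ * u) ?_)).symm
    rw [map_mul, map_mul, map_inv, map_inv]
    have h1 : σ u = σ v * (τ v)⁻¹ * τ u := by rw [← mul_inv_eq_iff_eq_mul]; exact huv
    rw [h1, hA (σ v) (τ v)⁻¹, ← mul_assoc, ← mul_assoc, hA (σ v)⁻¹ (τ v)⁻¹, mul_assoc (τ v)⁻¹,
      inv_mul_cancel, mul_one]
  refine MonoidHom.ext fun x => ?_
  obtain ⟨u, rfl⟩ := (Finite.injective_iff_surjective.1 hinj) x
  rw [map_mul, map_inv, h u, mul_inv_cancel]
  rfl


/-- Let p be a prime, M a maximal ideal of the algebraic integers containing p, and G a finite group with a nontrivial abelian Sylow p-subgroup P; put N = N_G(P), C = C_G(P). Suppose N/C is cyclic of order m with 1 < m < #P − 1 (C has index m in N and N is generated by C and one element), and C_G(y) ∩ N = C for every non-identity y ∈ P. Put r = (#P − 1)/m. Then there is s ≤ m such that the principal p-block is the disjoint union of a set X of s characters containing the principal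 character and a set Y of r characters, with integers a_χ ≠ 0 (χ ∈ X), d and a sign δ = ±1, such that: every χ ∈ X takes the value a_χ at every element whose p-part is a non-identity element of P; there is a map ζ from the non-principal linear characters ψ of P onto Y, constant on N-conjugacy classes, with ζ_ψ(z) = d + δ·Σ ψ'(y) for every z whose p-part y is a non-identity element of P, the sum running over the N-conjugates ψ' of ψ; (d − δ)^2 + (r − 1) d^2 + Σ_{χ ∈ X} a_χ^2 = m + 1; all members of Y agree on p-regular elements; and (r d − δ) η(g) + Σ_{χ ∈ X} a_χ χ(g) = 0 for every η ∈ Y and every p-regular g. -/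
theorem result {G : Type*} [Group G] [Finite G] (p : ℕ) [Fact p.Prime] (M : Ideal Cfsg.AlgInt) (hM : Cfsg.IsPModular p M) (P : Sylow p G) (hab : IsMulCommutative P) (hP1 : Nat.card P ≠ 1) (m : ℕ) (hm1 : 1 < m) (hm2 : m + 1 < Nat.card P) (hCN : (Subgroup.centralizer ((P : Subgroup G) : Set G)).relIndex (Subgroup.normalizer ((P : Subgroup G) : Set G)) = m) (hcyc : ∃ g : G, g ∈ Subgroup.normalizer ((P : Subgroup G) : Set G) ∧ Subgroup.centralizer ((P : Subgroup G) : Set G) ⊔ Subgroup.zpowers g = Subgroup.normalizer ((P : Subgroup G) : Set G)) (hfrob : ∀ y : G, y ∈ (P : Subgroup G) → y ≠ 1 → Subgroup.centralizer ({y} : Set G) ⊓ Subgroup.normalizer ((P : Subgroup G) : Set G) = Subgroup.centralizer ((P : Subgroup G) : Set G)) : ∃ (s : ℕ) (X Y : Set (Cfsg.IrrCharacter G)), s ≤ m ∧ Cfsg.principalBlock M G = X ∪ Y ∧ Disjoint X Y ∧ Nat.card X = s ∧ Nat.card Y = (Nat.card P - 1) / m ∧ (∃ χ₁ ∈ X, (χ₁ : G → ℂ) = fun _ => 1) ∧ ∃ (a : Cfsg.IrrCharacter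 G → ℤ) (d δ : ℤ) (ζ : (↥(P : Subgroup G) →* ℂˣ) → Cfsg.IrrCharacter G), (δ = 1 ∨ δ = -1) ∧ (∀ χ ∈ X, a χ ≠ 0 ∧ ∀ z y : G, Cfsg.IsPPart p z y → y ∈ (P : Subgroup G) → y ≠ 1 → (χ : G → ℂ) z = (a χ : ℂ)) ∧ (∀ ψ : ↥(P : Subgroup G) →* ℂˣ, ψ ≠ 1 → ζ ψ ∈ Y) ∧ (∀ η ∈ Y, ∃ ψ : ↥(P : Subgroup G) →* ℂˣ, ψ ≠ 1 ∧ ζ ψ = η) ∧ (∀ ψ ψ' : ↥(P : Subgroup G) →* ℂˣ, ψ ≠ 1 → (∃ n : G, n ∈ Subgroup.normalizer ((P : Subgroup G) : Set G) ∧ ∀ w w' : ↥(P : Subgroup G), (w' : G) = n * w * n⁻¹ → ψ' w' = ψ w) → ζ ψ' = ζ ψ) ∧ (∀ ψ : ↥(P : Subgroup G) →* ℂˣ, ψ ≠ 1 → ∀ (z : G) (y : ↥(P : Subgroup G)), Cfsg.IsPPart p z (y : G) → (y : G) ≠ 1 → (ζ ψ : G → ℂ) z = (d : ℂ) + (δ : ℂ) * ∑ᶠ ψ' ∈ {ψ' : ↥(P : Subgroup G) →* ℂˣ | ∃ n : G, n ∈ Subgroup.normalizer ((P : Subgroup G) : Set G) ∧ ∀ w w' : ↥(P : Subgroup G), (w' : G) = n * w * n⁻¹ → ψ' w' = ψ w}, ((ψ' y : ℂˣ) : ℂ)) ∧ ((d - δ) ^ 2 + ((Nat.card P - 1) / m - 1 : ℤ) * d ^ 2 + ∑ᶠ χ ∈ X, a χ ^ 2 = (m : ℤ) + 1) ∧ (∀ η ∈ Y,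 ∀ η' ∈ Y, ∀ g : G, ¬ p ∣ orderOf g → (η : G → ℂ) g = (η' : G → ℂ) g) ∧ (∀ η ∈ Y, ∀ g : G, ¬ p ∣ orderOf g → ((((Nat.card P - 1) / m : ℕ) : ℂ) * d - δ) * (η : G → ℂ) g + ∑ᶠ χ ∈ X, (a χ : ℂ) * (χ : G → ℂ) g = 0) := by
  classical
  haveI : M.IsPrime := hM.2.1.isPrime
  haveI := Fintype.ofFinite G
  haveI := CfsgLib.Chars.irrFintype G
  let S : Sylow p G := P
  have hA : ∀ a b : (P : Subgroup G), a * b = b * a := fun a b => hab.is_comm.comm a b
  have hab' : ∀ x ∈ (P : Subgroup G), ∀ y ∈ (P : Subgroup G), x * y = y * x := fun x hx y hy =>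
    congrArg Subtype.val (hA ⟨x, hx⟩ ⟨y, hy⟩)
  have hfree : ∀ g ∈ Subgroup.normalizer ((P : Subgroup G) : Set G), ∀ x ∈ (P : Subgroup G), x ≠ 1 →
      g * x * g⁻¹ = x → g ∈ Subgroup.centralizer ((P : Subgroup G) : Set G) := by
    intro g hg x hx hx1 hfix
    rw [← hfrob x hx hx1]
    exact ⟨Subgroup.mem_centralizer_singleton_iff.2 (mul_inv_eq_iff_eq_mul.1 hfix), hg⟩
  haveI : Fintype {χ : IrrCharacter G // χ ∈ principalBlock M G} := Fintype.ofFinite _
  have hPcard : 1 < Nat.card (P : Subgroup G) := by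
    have h0 : 0 < Nat.card P := Nat.card_pos
    exact lt_of_le_of_ne h0 (Ne.symm hP1)
  have hfreeE : ∀ σ ∈ (P : Subgroup G).normalizerMonoidHom.range, ∀ u : (P : Subgroup G),
      u ≠ 1 → σ u = u → σ = 1 := by
    rintro _ ⟨⟨n, hn⟩, rfl⟩ u hu hfix
    rw [← MonoidHom.mem_ker, Subgroup.normalizerMonoidHom_ker, Subgroup.mem_subgroupOf]
    exact hfree n hn u u.2 (fun h => hu (Subtype.ext h)) (congrArg Subtype.val hfix)
  have hEm : Nat.card (P : Subgroup G).normalizerMonoidHom.range = m :=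
    (CfsgLib.Blocks.card_range_normalizerMonoidHom _).trans hCN
  have hord : ∀ w : (P : Subgroup G), ∃ k : ℕ, (w : G) ^ p ^ k = 1 := fun w => by
    obtain ⟨k, hk⟩ := P.2 w
    exact ⟨k, by simpa using congrArg Subtype.val hk⟩
  have hgen : ∀ i : {χ : IrrCharacter G // χ ∈ principalBlock M G},
      IsGeneralizedCharacter (P : Subgroup G) fun u => (i.1 : G → ℂ) u := fun i => by
    have hc := CfsgLib.Chars.isCharacter_restrict (P : Subgroup G)
      (CfsgLib.Chars.isCharacter_of_irr i.1.2)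
    refine CfsgLib.Chars.isGeneralized_iff_inner.2
      ⟨CfsgLib.Chars.isClassFunction_of_isCharacter hc, fun l => ?_⟩
    obtain ⟨k, hk⟩ := CfsgLib.Chars.inner_irr_right_nat hc l
    exact ⟨k, by rw [hk]; simp⟩
  obtain ⟨u₀, hu₀⟩ : ∃ u : (P : Subgroup G), u ≠ 1 := by
    haveI := Finite.one_lt_card_iff_nontrivial.1 hPcard
    exact exists_ne 1
  obtain ⟨ξ, hξ⟩ : ∃ ξ : {χ : IrrCharacter G // χ ∈ principalBlock M G} → ↥(P : Subgroup G) → ℂ,
      ∀ i u, ξ i u = (i.1 : G → ℂ) u := ⟨fun i u => (i.1 : G → ℂ) u, fun _ _ => rfl⟩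
  obtain ⟨nd, hnd⟩ : ∃ nd : {χ : IrrCharacter G // χ ∈ principalBlock M G} → ℕ,
      ∀ i, nd i = charDegree (i.1 : G → ℂ) := ⟨fun i => charDegree (i.1 : G → ℂ), fun _ => rfl⟩
  have hgen' : ∀ i, IsGeneralizedCharacter (P : Subgroup G) (ξ i) := fun i => by
    rw [show ξ i = fun u : (P : Subgroup G) => (i.1 : G → ℂ) u from funext (hξ i)]
    exact hgen i
  have horth : ∀ u v : (P : Subgroup G), u ≠ 1 → v ≠ 1 → ∑ i, ξ i u * starRingEnd ℂ (ξ i v) =
      (Nat.card (P : Subgroup G) : ℂ) * ((univ.filter fun σ : (P : Subgroup G).normalizerMonoidHom.range =>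
        (σ : MulAut (P : Subgroup G)) u = v).card : ℂ) := fun u v hu hv => by
    simp only [hξ]
    convert CfsgLib.Blocks.principal_orth hM P hab' hfree hu hv
  have hne : ∀ i, ∃ u : (P : Subgroup G), u ≠ 1 ∧ ξ i u ≠ 0 := fun i => by
    refine ⟨u₀, hu₀, ?_⟩
    rw [hξ]
    exact (CfsgLib.Blocks.principal_column (M := M) hM P hab' hfree u₀.2
      (fun h => hu₀ (Subtype.ext h))).2.1 i.1 i.2
  have hdeg : ∀ u : (P : Subgroup G), u ≠ 1 → ∑ i, (nd i : ℂ) * ξ i u = 0 := fun u hu => by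
    simp only [hξ, hnd, CfsgLib.Blocks.charDegree_cast]
    exact CfsgLib.Blocks.principal_deg hM (by simp [(Fact.out : p.Prime).ne_one]) (hord u)
      fun h => hu (Subtype.ext h)
  have hndpos : ∀ i, 0 < nd i := fun i => by
    rw [hnd]; exact Nat.pos_of_ne_zero (CfsgLib.BlockOrth.irr_charDegree_ne_zero i.1)
  have hfc := CfsgLib.Blocks.free_coherence (A := (P : Subgroup G)) hA hPcard
    (P : Subgroup G).normalizerMonoidHom.range hfreeE ξ hgen' (fun u v hu hv => by convert horth u v hu hv) hne nd hndpos hdeg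
  obtain ⟨y, ε, r, a, hε, hy, hyval, hrest, ht, heq, hrel⟩ := hfc
  simp only [hξ] at hyval hrest hrel
  rw [hEm] at ht heq
  obtain ⟨t, hteq⟩ : ∃ t, t = Nat.card {i : {χ : IrrCharacter G // χ ∈ principalBlock M G} //
      ∃ l : IrrCharacter (P : Subgroup G), l ≠ Chars.principal _ ∧ y l = i} := ⟨_, rfl⟩
  rw [← hteq] at ht heq hrel
  have htdiv : (Nat.card P - 1) / m = t := by
    change (Nat.card (P : Subgroup G) - 1) / m = t
    rw [← ht, Nat.add_sub_cancel, Nat.mul_div_cancel _ (by omega)]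
  have ht2 : 2 ≤ t := by
    have hm2' : m + 1 < Nat.card (P : Subgroup G) := hm2
    rw [← ht] at hm2'
    by_contra h
    have hmul := Nat.mul_le_mul_right m (show t ≤ 1 by omega)
    omega
  have hc : 0 ≤ (t : ℤ) * r * r - 2 * ε * r := by
    have h2 : (2 : ℤ) ≤ t := by exact_mod_cast ht2
    have hrr : 0 ≤ r * (r - ε) := by
      rcases hε with rfl | rfl
      · rcases le_or_gt r 0 with h | h <;> nlinarith
      · rcases le_or_gt 0 r with h | h <;> nlinarith
    nlinarith [mul_self_nonneg r]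
  obtain ⟨R, hR⟩ : ∃ R : Finset {χ : IrrCharacter G // χ ∈ principalBlock M G},
      R = univ.filter fun i => ∀ l : IrrCharacter (P : Subgroup G), l ≠ Chars.principal _ → y l ≠ i :=
    ⟨_, rfl⟩
  rw [← hR] at heq hrel
  have hmemR : ∀ i, i ∈ R ↔ ∀ l : IrrCharacter (P : Subgroup G), l ≠ Chars.principal _ → y l ≠ i :=
    fun i => by rw [hR]; simp
  obtain ⟨X, hX⟩ : ∃ X : Set (IrrCharacter G), X = Subtype.val ''
      (R : Set {χ : IrrCharacter G // χ ∈ principalBlock M G}) := ⟨_, rfl⟩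
  have hXval : ∀ i, i ∈ R → i.1 ∈ X := fun i hi => hX ▸ ⟨i, hi, rfl⟩
  have hXsum : ∀ {α : Type} [AddCommMonoid α] (F : IrrCharacter G → α),
      ∑ᶠ χ ∈ X, F χ = ∑ i ∈ R, F i.1 := by
    intro α _ F
    rw [hX, finsum_mem_image Subtype.val_injective.injOn, finsum_mem_coe_finset]
  obtain ⟨Y, hY⟩ : ∃ Y : Set (IrrCharacter G), Y = {χ | ∃ l : IrrCharacter (P : Subgroup G),
      l ≠ Chars.principal _ ∧ (y l).1 = χ} := ⟨_, rfl⟩
  have hcardY : Nat.card Y = t := by
    rw [hteq, hY]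
    let f : {i : {χ : IrrCharacter G // χ ∈ principalBlock M G} //
        ∃ l : IrrCharacter (P : Subgroup G), l ≠ Chars.principal _ ∧ y l = i} →
        {χ : IrrCharacter G // ∃ l : IrrCharacter (P : Subgroup G),
          l ≠ Chars.principal _ ∧ (y l).1 = χ} :=
      fun i => ⟨i.1.1, i.2.imp fun l hl => ⟨hl.1, congrArg Subtype.val hl.2⟩⟩
    refine (Nat.card_congr (Equiv.ofBijective f
      ⟨fun i j h => Subtype.ext (Subtype.ext (Subtype.ext_iff.1 h :)), ?_⟩)).symm
    rintro ⟨χ, l, hl, rfl⟩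
    exact ⟨⟨y l, l, hl, rfl⟩, rfl⟩
  -- characters of P from homomorphisms
  let L : (↥(P : Subgroup G) →* ℂˣ) → IrrCharacter (P : Subgroup G) := fun ψ =>
    ⟨fun u => (ψ u : ℂ), CfsgLib.Chars.isIrrCharacter_linear ψ⟩
  have hL1 : ∀ ψ, ψ ≠ 1 → L ψ ≠ Chars.principal _ := fun ψ hψ h => hψ (MonoidHom.ext fun u => by
    have h2 := congrFun (congrArg Subtype.val h) u
    exact Units.ext h2)
  have hLsurj : ∀ l : IrrCharacter (P : Subgroup G), l ≠ Chars.principal _ →
      ∃ ψ, ψ ≠ 1 ∧ L ψ = l := by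
    intro l hl
    have hne : ∀ u, (l : ↥(P : Subgroup G) → ℂ) u ≠ 0 := fun u h => by
      have h2 := CfsgLib.Blocks.irr_mul_of_comm hA l u u⁻¹
      rw [mul_inv_cancel, CfsgLib.Blocks.irr_one_of_comm hA l, h, zero_mul] at h2
      exact one_ne_zero h2
    refine ⟨MonoidHom.mk' (fun u => Units.mk0 _ (hne u)) fun u v =>
      Units.ext (CfsgLib.Blocks.irr_mul_of_comm hA l u v), fun h => hl ?_, Subtype.ext rfl⟩
    exact Subtype.ext (funext fun u => congrArg (Units.val) (DFunLike.congr_fun h u))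
  -- the principal character is not exceptional
  have hprinc : (Chars.principal G) ∈ principalBlock M G :=
    CfsgLib.Blocks.principal_mem_principalBlock M
  have h1R : (⟨_, hprinc⟩ : {χ : IrrCharacter G // χ ∈ principalBlock M G}) ∈ R := by
    rw [hmemR]
    intro l hl hyl
    obtain ⟨i, hi⟩ : ∃ i : {i : {χ : IrrCharacter G // χ ∈ principalBlock M G} //
        ∃ l : IrrCharacter (P : Subgroup G), l ≠ Chars.principal _ ∧ y l = i}, i.1 ≠ y l := by
      by_contra hall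
      simp only [not_exists, not_not] at hall
      haveI : Subsingleton {i : {χ : IrrCharacter G // χ ∈ principalBlock M G} //
          ∃ l : IrrCharacter (P : Subgroup G), l ≠ Chars.principal _ ∧ y l = i} :=
        ⟨fun i j => Subtype.ext ((hall i).trans (hall j).symm)⟩
      have := Finite.card_le_one_iff_subsingleton.2 this
      omega
    obtain ⟨l', hl', hli⟩ := i.2
    have hsum : ∀ u : (P : Subgroup G), u ≠ 1 →
        (ε : ℂ) * ∑ σ : (P : Subgroup G).normalizerMonoidHom.range,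
          (l : ↥(P : Subgroup G) → ℂ) ((σ : MulAut (P : Subgroup G)) u) = 1 - (r : ℂ) := by
      intro u hu
      have h := hyval l hl u hu
      rw [hyl] at h
      have h' : (1 : ℂ) = (r : ℂ) + (ε : ℂ) * ∑ σ : (P : Subgroup G).normalizerMonoidHom.range,
          (l : ↥(P : Subgroup G) → ℂ) ((σ : MulAut (P : Subgroup G)) u) := by
        refine h.trans ?_
        congr 2
        exact Finset.sum_congr (by ext; simp) fun σ _ => rfl
      linear_combination -h'
    haveI := CfsgLib.Chars.irrFintype (P : Subgroup G)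
    have hN : (Nat.card (P : Subgroup G) : ℂ) ≠ 0 := CfsgLib.Chars.card_ne_zero _
    have key : ∀ θ : IrrCharacter (P : Subgroup G),
        (∀ σ : (P : Subgroup G).normalizerMonoidHom.range,
          CfsgLib.Blocks.pullIrr (σ : MulAut (P : Subgroup G)) l ≠ θ) →
        (ε : ℂ) * (m : ℂ) + (1 - (r : ℂ)) *
          ∑ u ∈ univ.erase (1 : (P : Subgroup G)), starRingEnd ℂ ((θ : ↥(P : Subgroup G) → ℂ) u) = 0 := by
      intro θ hθ
      have h0 : ∀ σ : (P : Subgroup G).normalizerMonoidHom.range,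
          ∑ u : (P : Subgroup G), (l : ↥(P : Subgroup G) → ℂ) ((σ : MulAut (P : Subgroup G)) u) *
            starRingEnd ℂ ((θ : ↥(P : Subgroup G) → ℂ) u) = 0 := by
        intro σ
        have h := CfsgLib.Chars.inner_irr (CfsgLib.Blocks.pullIrr (σ : MulAut (P : Subgroup G)) l) θ
        rw [if_neg (hθ σ), CfsgLib.Chars.inner_def] at h
        exact (mul_eq_zero.1 h).resolve_left (inv_ne_zero hN)
      have h : ∑ u : (P : Subgroup G), (ε : ℂ) * (∑ σ : (P : Subgroup G).normalizerMonoidHom.range,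
          (l : ↥(P : Subgroup G) → ℂ) ((σ : MulAut (P : Subgroup G)) u)) *
            starRingEnd ℂ ((θ : ↥(P : Subgroup G) → ℂ) u) = 0 := by
        simp only [mul_assoc, Finset.sum_mul, ← Finset.mul_sum]
        rw [Finset.sum_comm, Finset.sum_eq_zero fun σ _ => h0 σ, mul_zero]
      rw [← Finset.add_sum_erase _ _ (mem_univ (1 : (P : Subgroup G))),
        Finset.sum_congr rfl (g := fun u => (1 - (r : ℂ)) *
          starRingEnd ℂ ((θ : ↥(P : Subgroup G) → ℂ) u)) fun u hu => by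
          rw [hsum u (Finset.mem_erase.1 hu).1], ← Finset.mul_sum] at h
      rw [CfsgLib.Blocks.irr_one_of_comm hA θ, map_one, mul_one,
        Finset.sum_congr rfl (g := fun _ => (1 : ℂ)) fun σ _ => by
          rw [map_one, CfsgLib.Blocks.irr_one_of_comm hA l], Finset.sum_const, Finset.card_univ,
        ← Nat.card_eq_fintype_card, hEm, nsmul_eq_mul, mul_one] at h
      exact h
    have k1 := key (Chars.principal _) fun σ h => hl (by
      refine Subtype.ext (funext fun u => ?_)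
      have h2 := congrFun (congrArg Subtype.val h) ((σ : MulAut (P : Subgroup G)).symm u)
      simpa [CfsgLib.Blocks.pullIrr, CfsgLib.Chars.principal_apply] using h2)
    have k2 := key l' fun σ h => hi (by
      rw [← hli]
      exact ((hy l l' hl hl').2 ⟨σ, h⟩).symm)
    have hs1 : ∑ u ∈ univ.erase (1 : (P : Subgroup G)),
        starRingEnd ℂ ((Chars.principal (P : Subgroup G) : ↥(P : Subgroup G) → ℂ) u) =
        (Nat.card (P : Subgroup G) : ℂ) - 1 := by
      simp [CfsgLib.Chars.principal_apply, Finset.card_erase_of_mem, Nat.card_eq_fintype_card,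
        Nat.cast_sub Fintype.card_pos]
    have hs2 : ∑ u ∈ univ.erase (1 : (P : Subgroup G)),
        starRingEnd ℂ ((l' : ↥(P : Subgroup G) → ℂ) u) = -1 := by
      have h := CfsgLib.Chars.inner_irr (Chars.principal (P : Subgroup G)) l'
      rw [if_neg (Ne.symm hl'), CfsgLib.Chars.inner_def] at h
      have h3 := (mul_eq_zero.1 h).resolve_left (inv_ne_zero hN)
      simp only [CfsgLib.Chars.principal_apply, one_mul] at h3
      rw [← Finset.add_sum_erase _ _ (mem_univ (1 : (P : Subgroup G))),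
        CfsgLib.Blocks.irr_one_of_comm hA l', map_one] at h3
      linear_combination h3
    rw [hs1] at k1
    rw [hs2] at k2
    have h4 : (1 - (r : ℂ)) * (Nat.card (P : Subgroup G) : ℂ) = 0 := by linear_combination k1 - k2
    have h5 := (mul_eq_zero.1 h4).resolve_right hN
    rw [h5, zero_mul, add_zero] at k2
    have hm0 : (m : ℂ) ≠ 0 := Nat.cast_ne_zero.2 (by omega)
    rcases hε with rfl | rfl <;> simp [hm0] at k2
  -- the family indexed by the homomorphisms
  obtain ⟨a', ha'⟩ : ∃ a' : IrrCharacter G → ℤ, a' = fun χ =>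
      if h : χ ∈ principalBlock M G then a ⟨χ, h⟩ else 0 := ⟨_, rfl⟩
  have ha'val : ∀ i : {χ : IrrCharacter G // χ ∈ principalBlock M G}, a' i.1 = a i := fun i => by
    rw [ha']; simp [i.2]
  have hsec : ∀ i : {χ : IrrCharacter G // χ ∈ principalBlock M G}, ∀ z : G,
      ∀ w : (P : Subgroup G), IsPPart p z (w : G) → (w : G) ≠ 1 →
        (i.1 : G → ℂ) z = (i.1 : G → ℂ) (w : G) := by
    rintro i z w ⟨v, rfl, hcomm, -, hv⟩ hw
    exact (CfsgLib.Blocks.principal_column (M := M) hM P hab' hfree w.2 hw).1 i.1 i.2 v hcomm hv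
  refine ⟨Nat.card X, X, Y, ?_, ?_, ?_, rfl, hcardY.trans htdiv.symm,
    ⟨Chars.principal G, hXval _ h1R, rfl⟩, a', r, ε,
    fun ψ => (y (L ψ)).1, hε, ?_, ?_, ?_, ?_, ?_, ?_, ?_, ?_⟩
  · have hle : ∑ i ∈ R, (1 : ℤ) ≤ ∑ i ∈ R, a i * a i := Finset.sum_le_sum fun i hi => by
      have := (hrest i ((hmemR i).1 hi)).1
      rcases lt_or_gt_of_ne this with h | h <;> nlinarith
    rw [Finset.sum_const, nsmul_one] at hle
    have hcX : Nat.card X = R.card := by
      rw [hX, Nat.card_image_of_injective Subtype.val_injective]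
      simp
    rw [hcX]
    have : (R.card : ℤ) ≤ (m : ℤ) := by linarith
    exact_mod_cast this
  · ext χ
    constructor
    · intro hχ
      by_cases h : (⟨χ, hχ⟩ : {χ : IrrCharacter G // χ ∈ principalBlock M G}) ∈ R
      · exact Or.inl (hXval _ h)
      · rw [hmemR] at h
        simp only [not_forall, not_not] at h
        obtain ⟨l, hl, hyl⟩ := h
        exact Or.inr (hY ▸ ⟨l, hl, congrArg Subtype.val hyl⟩)
    · rintro (h | h)
      · obtain ⟨i, -, rfl⟩ := hX ▸ h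
        exact i.2
      · obtain ⟨l, -, rfl⟩ := hY ▸ h
        exact (y l).2
  · rw [Set.disjoint_left]
    intro χ hχX hχY
    obtain ⟨i, hi, rfl⟩ := hX ▸ hχX
    obtain ⟨l, hl, hyl⟩ := hY ▸ hχY
    exact (hmemR i).1 hi l hl (Subtype.ext hyl)
  · intro χ hχ
    obtain ⟨i, hi, rfl⟩ := hX ▸ hχ
    obtain ⟨h0, hv⟩ := hrest i ((hmemR i).1 hi)
    refine ⟨by rw [ha'val]; exact h0, fun z w hz hw hw1 => ?_⟩
    rw [hsec i z ⟨w, hw⟩ hz hw1, ha'val]
    exact hv ⟨w, hw⟩ fun h => hw1 (congrArg Subtype.val h)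
  · exact fun ψ hψ => hY ▸ ⟨L ψ, hL1 ψ hψ, rfl⟩
  · intro η hη
    obtain ⟨l, hl, rfl⟩ := hY ▸ hη
    obtain ⟨ψ, hψ, rfl⟩ := hLsurj l hl
    exact ⟨ψ, hψ, rfl⟩
  · rintro ψ ψ' hψ ⟨n, hn, hrel'⟩
    refine congrArg Subtype.val ?_
    have hconj : ∀ w : (P : Subgroup G),
        ψ' ((P : Subgroup G).normalizerMonoidHom ⟨n, hn⟩ w) = ψ w := fun w => hrel' w _ rfl
    have hψ' : ψ' ≠ 1 := fun h => hψ (MonoidHom.ext fun w => by rw [← hconj w, h]; rfl)
    refine (hy _ _ (hL1 ψ' hψ') (hL1 ψ hψ)).2 ⟨⟨_, ⟨⟨n, hn⟩, rfl⟩⟩, ?_⟩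
    refine Subtype.ext (funext fun w => ?_)
    exact congrArg Units.val (hconj w)
  · intro ψ hψ z w hz hw1
    have hw1' : w ≠ 1 := fun h => hw1 (by rw [h]; rfl)
    rw [hsec (y (L ψ)) z w hz hw1, hyval (L ψ) (hL1 ψ hψ) w hw1']
    congr 2
    have hO : {ψ' : ↥(P : Subgroup G) →* ℂˣ | ∃ n : G,
        n ∈ Subgroup.normalizer ((P : Subgroup G) : Set G) ∧
        ∀ u u' : ↥(P : Subgroup G), (u' : G) = n * u * n⁻¹ → ψ' u' = ψ u} =
        ↑((univ : Finset (P : Subgroup G).normalizerMonoidHom.range).image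
          fun σ : (P : Subgroup G).normalizerMonoidHom.range =>
            ψ.comp ((σ : MulAut (P : Subgroup G))).toMonoidHom) := by
      ext ψ'
      simp only [Set.mem_setOf_eq, Finset.coe_image, Finset.coe_univ, Set.image_univ, Set.mem_range]
      constructor
      · rintro ⟨n, hn, h⟩
        refine ⟨(⟨_, ⟨⟨n, hn⟩, rfl⟩⟩ : (P : Subgroup G).normalizerMonoidHom.range)⁻¹,
          MonoidHom.ext fun u => ?_⟩
        have h2 := h (((P : Subgroup G).normalizerMonoidHom ⟨n, hn⟩).symm u) u ?_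
        · exact h2.symm
        · exact (congrArg Subtype.val (((P : Subgroup G).normalizerMonoidHom ⟨n, hn⟩).apply_symm_apply u)).symm
      · rintro ⟨σ, rfl⟩
        obtain ⟨⟨n, hn⟩, hnσ⟩ := (σ⁻¹).2
        refine ⟨n, hn, fun u u' hu' => ?_⟩
        have hu2 : u' = ((σ⁻¹ : (P : Subgroup G).normalizerMonoidHom.range) :
            MulAut (P : Subgroup G)) u := by
          rw [← hnσ]
          exact Subtype.ext hu'
        show ψ ((σ : MulAut (P : Subgroup G)) u') = ψ u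
        rw [hu2, InvMemClass.coe_inv, ← MulAut.mul_apply, mul_inv_cancel, MulAut.one_apply]
    rw [hO, finsum_mem_coe_finset, Finset.sum_image]
    · exact Finset.sum_congr (by ext; simp) fun σ _ => rfl
    intro σ _ τ _ h
    by_contra hne
    refine hψ (hom_fixed_eq_one hA (σ := (σ : MulAut (P : Subgroup G)))
      (τ := (τ : MulAut (P : Subgroup G))) (fun u hu => ?_) fun u => DFunLike.congr_fun h u)
    by_contra hu1
    refine hne (Subtype.ext ?_)
    have h3 := hfreeE _ (mul_mem (inv_mem τ.2) σ.2) u hu1 (by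
      rw [MulAut.mul_apply, hu]
      exact MulEquiv.symm_apply_apply _ _)
    exact (inv_mul_eq_one.1 h3).symm
  · have hdiv : ((Nat.card (P : Subgroup G) : ℤ) - 1) / (m : ℤ) = (t : ℤ) := by
      rw [← ht]; push_cast; rw [add_sub_cancel_right, Int.mul_ediv_cancel _ (by omega)]
    rw [hXsum, hdiv, show ∑ i ∈ R, a' i.1 ^ 2 = ∑ i ∈ R, a i * a i from
      Finset.sum_congr rfl fun i _ => by rw [ha'val i, sq]]
    have hε2 : ε ^ 2 = 1 := by rcases hε with rfl | rfl <;> norm_num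
    linear_combination heq + hε2
  · intro η hη η' hη' g hg
    obtain ⟨l, hl, rfl⟩ := hY ▸ hη
    obtain ⟨l', hl', rfl⟩ := hY ▸ hη'
    exact (hrel (fun i => (i.1 : G → ℂ) g) (fun u hu => CfsgLib.Blocks.principal_deg hM hg (hord u)
      fun h => hu (Subtype.ext h)) l' hl').1 l hl
  · intro η hη g hg
    obtain ⟨l, hl, rfl⟩ := hY ▸ hη
    have h := (hrel (fun i => (i.1 : G → ℂ) g) (fun u hu => CfsgLib.Blocks.principal_deg hM hg
      (hord u) fun h => hu (Subtype.ext h)) l hl).2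
    rw [htdiv, hXsum, Finset.sum_congr rfl fun i _ => by rw [ha'val i]]
    linear_combination h


end Cfsg.Agent.S4709
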