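import Cfsg.Statements.S0976
import Cfsg.Agent.Lib.Small.SelfCentralPrime

set_option autoImplicit false
open Cfsg

namespace Cfsg.Agent.S0976

set_option maxRecDepth 20000

/-- No finite simple group has order 4032 = 2^6 * 3^2 * 7. -/
theorem result {G : Type*} [Group G] [Finite G] [IsSimpleGroup G] : Nat.card G ≠ 4032 := by
  intro h
  classical
  have := Fact.mk (by norm_num : Nat.Prime 7)
  haveI := Fintype.ofFinite G
  have hG : ¬ IsMulCommutative G := CfsgLib.Small.not_isMulCommutative_of_card (by rw [h]; norm_num)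
  obtain ⟨u, e, hu, hsq, hC, hN, he1, hed, n, hn1, hne⟩ :=
    CfsgLib.Small.setup_two_three (p := 7) hG (by norm_num) (a := 6) (b := 2)
      (by rw [h]; norm_num)
  have hmem : e ∈ Nat.divisors 6 := Nat.mem_divisors.mpr ⟨by simpa using hed, by norm_num⟩
  rw [show Nat.divisors 6 = {1, 2, 3, 6} from by decide] at hmem
  simp only [Finset.mem_insert, Finset.mem_singleton] at hmem
  rw [h] at hne
  obtain rfl : e = 2 := by
    rcases hmem with rfl | rfl | rfl | rfl <;> omega
  obtain ⟨d, f, a, ε, ha, hε, hmod, heq, hd, hf, hdN, hfN, hpd, hpf, hinv⟩ :=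
    CfsgLib.Small.dihedral_data hG u hu hsq hC hN (by norm_num)
  rw [h, show (4032 : ℕ) = 576 * 7 from by norm_num] at hdN hfN
  have hcand := CfsgLib.Small.mem_dihedral_candidates (N := 576) (by norm_num) ha hε hmod heq hd hf
    hdN hfN hpd hpf
  rw [show ((Nat.divisors 576) ×ˢ (Nat.divisors 576)).filter
      (fun q : ℕ × ℕ => 1 < q.1 ∧ 1 < q.2 ∧
        ((q.1 % 7 = 1 ∧ q.2 = q.1 + 1) ∨ ((q.1 + 1) % 7 = 0 ∧ q.2 + 1 = q.1))) =
      {(8, 9)} from by decide +kernel] at hcand
  simp only [Finset.mem_insert, Finset.mem_singleton, Prod.mk.injEq] at hcand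
  -- an involution in the centre of a Sylow 2-subgroup
  have := Fact.mk Nat.prime_two
  obtain ⟨S⟩ : Nonempty (Sylow 2 G) := inferInstance
  have hS : Nat.card (S : Subgroup G) = 64 := by
    simpa using CfsgLib.Small.card_sylow_eq (p := 2) 6 63 (by rw [h]; norm_num) (by norm_num) S
  haveI : Nontrivial (S : Subgroup G) := Finite.one_lt_card_iff_nontrivial.mp (by rw [hS]; norm_num)
  haveI := S.2.center_nontrivial
  obtain ⟨⟨z, hzc⟩, hz⟩ := exists_prime_orderOf_dvd_card' (G := Subgroup.center (S : Subgroup G)) 2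
    (by
      obtain ⟨k, hk, hcard⟩ := (IsPGroup.nontrivial_iff_card
        (S.2.to_subgroup (Subgroup.center (S : Subgroup G)))).mp inferInstance
      rw [hcard]; exact dvd_pow_self 2 hk.ne')
  rw [Subgroup.orderOf_mk] at hz
  have hle : (S : Subgroup G) ≤ Subgroup.centralizer ({(z : G)} : Set G) := fun x hx =>
    Subgroup.mem_centralizer_singleton_iff.mpr
      (congrArg Subtype.val (Subgroup.mem_center_iff.mp hzc ⟨x, hx⟩))
  have hdvd := Subgroup.card_dvd_of_le hle
  rw [hS] at hdvd
  obtain ⟨w, hw0, hw, hc⟩ := hinv (z : G) (by rw [Subgroup.orderOf_coe]; exact hz)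
  rw [h] at hc
  obtain ⟨k, hk⟩ := hdvd
  rw [hk] at hc
  rcases hcand with ⟨rfl, rfl⟩
  · have hk' : k < 2 := by
      by_contra hcon
      push Not at hcon
      nlinarith [Nat.mul_le_mul hw hw, Nat.mul_le_mul hcon hcon]
    interval_cases k <;> interval_cases w <;> omega

end Cfsg.Agent.S0976
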