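import Cfsg.Statements.S4441
import Cfsg.Agent.Lib.Blocks.DefectOneValues

set_option autoImplicit false
open Cfsg Subgroup
open scoped Pointwise commutatorElement

namespace Cfsg.Agent.S4441

/-- Let p be an odd prime and G a finite group whose Sylow p-subgroup P has order p; let C = C_G(P), N = N_G(P), e the index of C in N and t = (p − 1)/e; fix a maximal ideal M of the algebraic integers containing p and let B₀ be the principal block. Then B₀ is the disjoint union of a set X of e characters and a set Y of t characters such that: each χ ∈ X has a sign ε_χ with χ(1) ≡ ε_χ (mod p) and χ(x y) = ε_χ for every non-identity x ∈ P and every p-regular y ∈ C; all members of Y agree on the p-regular elements of G; there is one sign ε with θ(1) ≡ ε e (mod p) for every θ ∈ Y; and for every θ ∈ Y and every p-regular g, ε θ(g) = Σ_{χ ∈ X} ε_χ χ(g). -/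
theorem result {G : Type*} [Group G] [Fintype G] (p : ℕ) [Fact p.Prime] (M : Ideal Cfsg.AlgInt) (hM : Cfsg.IsPModular p M) (hodd : p ≠ 2) (P : Sylow p G) (hP : Nat.card P = p) (e : ℕ) (he : (Subgroup.centralizer ((P : Subgroup G) : Set G)).relIndex (Subgroup.normalizer ((P : Subgroup G) : Set G)) = e) : ∃ X Y : Set (Cfsg.IrrCharacter G), Cfsg.principalBlock M G = X ∪ Y ∧ Disjoint X Y ∧ Nat.card X = e ∧ Nat.card Y = (p - 1) / e ∧ ∃ (εX : Cfsg.IrrCharacter G → ℤ) (ε : ℤ), (∀ χ ∈ X, (εX χ = 1 ∨ εX χ = -1) ∧ (Cfsg.charDegree (χ : G → ℂ) : ℤ) ≡ εX χ [ZMOD p] ∧ ∀ x : G, x ∈ (P : Subgroup G) → x ≠ 1 → ∀ y : G, y ∈ Subgroup.centralizer ((P : Subgroup G) : Set G) → ¬ p ∣ orderOf y → (χ : G → ℂ) (x * y) = (εX χ : ℂ)) ∧ (ε = 1 ∨ ε = -1) ∧ (∀ θ ∈ Y, (Cfsg.charDegree (θ : G → ℂ) : ℤ) ≡ ε * (e : ℤ) [ZMOD p]) ∧ (∀ θ ∈ Y, ∀ θ' ∈ Y, ∀ g : G, ¬ p ∣ orderOf g → (θ : G → ℂ) g = (θ' : G → ℂ) g) ∧ ∀ θ ∈ Y, ∀ g : G, ¬ p ∣ orderOf g → (ε : ℂ) * (θ : G → ℂ) g = ∑ᶠ χ ∈ X, (εX χ : ℂ)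 * (χ : G → ℂ) g := by
  classical
  haveI := hM.2.1.isPrime
  haveI : Fintype (centralizer ((P : Subgroup G) : Set G)) := Fintype.ofFinite _
  have hcard : Nat.card (P : Subgroup G) = p := hP
  have hsq : ¬ p ^ 2 ∣ Nat.card G := by
    intro h
    have h1 := P.card_eq_multiplicity
    rw [hcard] at h1
    have h2 := ((Fact.out : p.Prime).pow_dvd_iff_le_factorization Nat.card_pos.ne').1 h
    have h3 : (Nat.card G).factorization p = 1 :=
      (Nat.pow_right_injective (Fact.out : p.Prime).two_le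
        (show p ^ (Nat.card G).factorization p = p ^ 1 by rw [pow_one, ← h1]))
    omega
  have hC1 : ∀ y : centralizer ((P : Subgroup G) : Set G), (CfsgLib.Chars.principal
      (centralizer ((P : Subgroup G) : Set G)) : centralizer ((P : Subgroup G) : Set G) → ℂ) y = 1 :=
    fun y => CfsgLib.Chars.principal_apply y
  have hpair : IsBrauerPairOf p M (principalBlock M G) (P : Subgroup G)
      (principalBlock M (centralizer ((P : Subgroup G) : Set G))) :=
    CfsgLib.Blocks.isBrauerPairOf_principalPair (M := M) hM.2.2 P.2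
  have hθb := CfsgLib.Blocks.principal_mem_principalBlock
    (G := centralizer ((P : Subgroup G) : Set G)) M
  have hθP : ∀ x : centralizer ((P : Subgroup G) : Set G), (x : G) ∈ (P : Subgroup G) →
      (CfsgLib.Chars.principal (centralizer ((P : Subgroup G) : Set G)) :
        centralizer ((P : Subgroup G) : Set G) → ℂ) x =
      (CfsgLib.Chars.principal (centralizer ((P : Subgroup G) : Set G)) :
        centralizer ((P : Subgroup G) : Set G) → ℂ) 1 := fun x _ => by rw [hC1, hC1]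
  have hdegθ : Cfsg.charDegree (CfsgLib.Chars.principal (centralizer ((P : Subgroup G) : Set G)) :
      centralizer ((P : Subgroup G) : Set G) → ℂ) = 1 := by
    refine Nat.cast_injective (R := ℂ) ?_
    rw [CfsgLib.Blocks.charDegree_cast, hC1, Nat.cast_one]
  have hTeq : CfsgLib.Blocks.stabPair (⟨(P : Subgroup G),
      principalBlock M (centralizer ((P : Subgroup G) : Set G))⟩ : BrauerPairIdx G) =
      normalizer ((P : Subgroup G) : Set G) := by
    refine le_antisymm (CfsgLib.Blocks.stabPair_le_normalizer _) fun g hg => ?_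
    show CfsgLib.Blocks.conjPair g (CfsgLib.Blocks.principalPair M (P : Subgroup G)) =
      CfsgLib.Blocks.principalPair M (P : Subgroup G)
    rw [CfsgLib.Blocks.conjPair_principalPair, CfsgLib.Modular.map_conj_of_mem_normalizer' hg]
  obtain ⟨Y, ε, a, hε, hYB, hte, hX, -, -, ha, hY, hagree, hrel, -, -, -⟩ :=
    CfsgLib.Blocks.defect_one_structure hM hcard hsq hpair
  rw [hTeq, he] at hte hX hY
  have hediv : p - 1 = Nat.card Y * e := by omega
  have he0 : 0 < e := Nat.pos_of_ne_zero fun h => by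
    rw [h, mul_zero, zero_add] at hte
    exact (Fact.out : p.Prime).ne_one hte.symm
  have hdeg : ∀ χ ∈ principalBlock M G, ∀ c : ℤ, (∀ v : (P : Subgroup G), v ≠ 1 →
      Cfsg.MemLocalIdeal M (CfsgLib.Blocks.xiFun (principalBlock M
        (centralizer ((P : Subgroup G) : Set G))) (χ : G → ℂ) v - (c : ℂ))) →
      (Cfsg.charDegree (χ : G → ℂ) : ℤ) ≡ c [ZMOD p] := fun χ hχ c hc => by
    have h := CfsgLib.Blocks.degree_modEq hM hcard hsq hpair hθb hθP hχ hc
    rw [hTeq, he, hdegθ, Nat.div_self he0] at h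
    simpa using h
  refine ⟨principalBlock M G \ Y, Y, (Set.sdiff_union_of_subset hYB).symm, Set.disjoint_sdiff_left,
    hX, by rw [hediv, Nat.mul_div_cancel _ he0], a, ε,
    fun χ hχ => ⟨(ha χ hχ).1, hdeg χ hχ.1 _ fun v hv => ?_, fun x hx hx1 y hy hyreg => ?_⟩,
    hε, fun θ hθ => hdeg θ (hYB hθ) _ fun v hv => by exact_mod_cast hY θ hθ v hv, hagree, hrel⟩
  · rw [(ha χ hχ).2 v hv, sub_self]
    exact CfsgLib.Blocks.MemLocalIdeal.zero'
  · have hxne : (⟨x, hx⟩ : (P : Subgroup G)) ≠ 1 := fun h => hx1 (congrArg Subtype.val h)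
    have hc : Commute x y := Subgroup.mem_centralizer_iff.1 hy x hx
    have hxp : ∃ k : ℕ, x ^ p ^ k = 1 :=
      ⟨1, by rw [pow_one]; exact CfsgLib.Modular.pow_p_eq_one hcard hx⟩
    have h := CfsgLib.Blocks.secVal_principal hM hχ.1 hc hxp hyreg
    rw [CfsgLib.Blocks.zpowers_eq_of_prime hcard hx hx1] at h
    rw [← h]
    have h2 := CfsgLib.Blocks.secVal_pair_eq hM hcard hsq hpair hθb hθP χ hxne (y := ⟨y, hy⟩)
      (by rwa [← Subgroup.orderOf_coe])
    rw [hC1, mul_one, (ha χ hχ).2 _ hxne] at h2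
    exact h2


end Cfsg.Agent.S4441
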