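import Cfsg.Statements.S2566
import Cfsg.Agent.Lib.Classical.OrthStd
-- import your own Cfsg.Agent.* helpers here

set_option autoImplicit false
open Cfsg

namespace Cfsg.Agent.S2566

/-- The full orthogonal group of the plus-type form x₁y₁ + x₂y₂ in dimension 4 over the field of two elements has order 72 and is isomorphic to the wreath product of the symmetric group of degree 3 by a group of order 2: it has a normal subgroup isomorphic to the direct product of two symmetric groups of degree 3, of index 2, whose two direct factors are interchanged by conjugation by some element. -/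
theorem result :
    Nat.card ↥(Cfsg.isometryGroup (ZMod 2) (Cfsg.quadFormPlus 2 (ZMod 2))) = 72 ∧
    ∃ (A B : Subgroup ↥(Cfsg.isometryGroup (ZMod 2) (Cfsg.quadFormPlus 2 (ZMod 2)))),
      Nonempty (↥A ≃* Equiv.Perm (Fin 3)) ∧ Nonempty (↥B ≃* Equiv.Perm (Fin 3)) ∧ A ⊓ B = ⊥ ∧ (∀ a ∈ A, ∀ b ∈ B, a * b = b * a) ∧
      (A ⊔ B).index = 2 ∧ ∃ g : ↥(Cfsg.isometryGroup (ZMod 2) (Cfsg.quadFormPlus 2 (ZMod 2))), A.map (MulAut.conj g).toMonoidHom = B := by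
  classical
  set G := ↥(Cfsg.isometryGroup (ZMod 2) (Cfsg.quadFormPlus 2 (ZMod 2)))
  have h72 : Nat.card G = 72 := by
    rw [CfsgLib.Classical.card_isometry_plus (F := ZMod 2) 1, Nat.card_zmod]
    simp [Finset.prod_range_succ]
  refine ⟨h72, ?_⟩
  let e : Fin 2 ⊕ Fin 2 ≃ Fin 4 := finSumFinEquiv
  let V : Fin 3 → Fin 2 → ZMod 2 := ![![1, 0], ![0, 1], ![1, 1]]
  let L : Equiv.Perm (Fin 3) → Matrix (Fin 2 ⊕ Fin 2) (Fin 2 ⊕ Fin 2) (ZMod 2) := fun σ =>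
    (Matrix.of ![![V (σ 0) 0, 0, 0, V (σ 1) 0], ![0, V (σ 0) 0, V (σ 1) 0, 0],
      ![0, V (σ 0) 1, V (σ 1) 1, 0], ![V (σ 0) 1, 0, 0, V (σ 1) 1]]).submatrix e e
  have hmul : ∀ σ τ, L (σ * τ) = L σ * L τ := by decide +kernel
  have hone : L 1 = 1 := by decide +kernel
  have hpres : ∀ σ (v : Fin 2 ⊕ Fin 2 → ZMod 2),
      Cfsg.quadFormPlus 2 (ZMod 2) ((L σ).mulVec v) = Cfsg.quadFormPlus 2 (ZMod 2) v := by decide +kernel
  let Lh : Equiv.Perm (Fin 3) →* Matrix (Fin 2 ⊕ Fin 2) (Fin 2 ⊕ Fin 2) (ZMod 2) :=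
    { toFun := L, map_one' := hone, map_mul' := hmul }
  let φ : Equiv.Perm (Fin 3) →* G := Lh.toHomUnits.codRestrict _ fun σ u _ => hpres σ u
  let T : Matrix (Fin 2 ⊕ Fin 2) (Fin 2 ⊕ Fin 2) (ZMod 2) :=
    (Matrix.of ![![1, 0, 0, 0], ![0, 0, 0, 1], ![0, 0, 1, 0], ![0, 1, 0, 0]]).submatrix e e
  have hTT : T * T = 1 := by decide +kernel
  have hTpres : ∀ v, Cfsg.quadFormPlus 2 (ZMod 2) (T.mulVec v) = Cfsg.quadFormPlus 2 (ZMod 2) v := by decide +kernel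
  let g : G := ⟨⟨T, T, hTT, hTT⟩, fun u _ => hTpres u⟩
  have hcoe : ∀ σ, ((φ σ : GL (Fin 2 ⊕ Fin 2) (ZMod 2)) : Matrix (Fin 2 ⊕ Fin 2) (Fin 2 ⊕ Fin 2) (ZMod 2)) = L σ := fun σ => rfl
  let ψ : Equiv.Perm (Fin 3) →* G := (MulAut.conj g).toMonoidHom.comp φ
  have hcoe' : ∀ σ, ((ψ σ : GL (Fin 2 ⊕ Fin 2) (ZMod 2)) : Matrix (Fin 2 ⊕ Fin 2) (Fin 2 ⊕ Fin 2) (ZMod 2)) = T * L σ * T := fun σ => rfl
  have hext : ∀ a b : G, ((a : GL (Fin 2 ⊕ Fin 2) (ZMod 2)) : Matrix (Fin 2 ⊕ Fin 2) (Fin 2 ⊕ Fin 2) (ZMod 2)) = ((b : GL (Fin 2 ⊕ Fin 2) (ZMod 2)) : Matrix (Fin 2 ⊕ Fin 2) (Fin 2 ⊕ Fin 2) (ZMod 2)) → a = b :=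
    fun a b h => Subtype.ext (Units.ext h)
  have hinjL : ∀ σ τ, L σ = L τ → σ = τ := by decide +kernel
  have hφ : Function.Injective φ := fun a b h => hinjL a b (congrArg (fun x : G => ((x : GL (Fin 2 ⊕ Fin 2) (ZMod 2)) : Matrix (Fin 2 ⊕ Fin 2) (Fin 2 ⊕ Fin 2) (ZMod 2))) h)
  have hψ : Function.Injective ψ := (MulAut.conj g).injective.comp hφ
  have hdisj : ∀ σ τ, L σ = T * L τ * T → σ = 1 := by decide +kernel
  have hcomm : ∀ σ τ, L σ * (T * L τ * T) = T * L τ * T * L σ := by decide +kernel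
  have hcm : ∀ σ τ, Commute (φ σ) (ψ τ) := fun σ τ => hext _ _ (by
    change L σ * (T * L τ * T) = T * L τ * T * L σ
    exact hcomm σ τ)
  have hd : ∀ σ τ, φ σ = ψ τ → σ = 1 := fun σ τ h => hdisj σ τ (by rw [← hcoe, h, hcoe'])
  refine ⟨φ.range, ψ.range, ⟨(MonoidHom.ofInjective hφ).symm⟩, ⟨(MonoidHom.ofInjective hψ).symm⟩, ?_, ?_, ?_, g, ?_⟩
  · rw [eq_bot_iff]
    rintro _ ⟨⟨σ, rfl⟩, τ, hτ⟩
    rw [hd σ τ hτ.symm, map_one]
    exact one_mem _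
  · rintro _ ⟨σ, rfl⟩ _ ⟨τ, rfl⟩
    exact hcm σ τ
  · rw [← MonoidHom.noncommCoprod_range φ ψ hcm]
    have hinj : Function.Injective (MonoidHom.noncommCoprod φ ψ hcm) := by
      rw [injective_iff_map_eq_one]
      rintro ⟨σ, τ⟩ h
      rw [MonoidHom.noncommCoprod_apply, mul_eq_one_iff_eq_inv, ← map_inv] at h
      have h1 := hd σ τ⁻¹ h
      subst h1
      rw [map_one, eq_comm, ← map_one ψ] at h
      exact Prod.ext rfl (inv_eq_one.1 (hψ h))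
    have h36 : Nat.card (MonoidHom.noncommCoprod φ ψ hcm).range = 36 := by
      rw [← Nat.card_congr (MonoidHom.ofInjective hinj).toEquiv, Nat.card_prod, Nat.card_perm, Nat.card_fin]
      rfl
    have h := Subgroup.card_mul_index (MonoidHom.noncommCoprod φ ψ hcm).range
    rw [h36, h72] at h
    omega
  · rw [← MonoidHom.range_comp]

end Cfsg.Agent.S2566
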