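import Cfsg.Statements.S2433
import Mathlib
import Cfsg.Agent.Lib.GLTwo.Lines
-- import your own Cfsg.Agent.* helpers here

set_option autoImplicit false
open Cfsg

set_option maxHeartbeats 1000000

namespace Cfsg.Agent.S2433

/-- Let F be a finite field with q elements, q odd, α a multiplicative character of F, and R(α) the function on SL₂ induced from the linear character b ↦ α(b₁₁) of the upper triangular subgroup. Then R(α) takes the value α(a) + α(a⁻¹) at a diagonal element with entries a, a⁻¹, a² ≠ 1; the value 0 at every element with no eigenvector in F²; the value α(ε) at an upper triangular element with both diagonal entries ε and non-zero upper right entry; and the value (q + 1)α(ε) at the scalar element ε (ε = ±1). -/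
theorem result {F : Type*} [Field F] [Fintype F] [DecidableEq F] (hodd : Odd (Fintype.card F)) (α : MulChar F ℂ) (g : Matrix.SpecialLinearGroup (Fin 2) F) :
    ((g : Matrix (Fin 2) (Fin 2) F) 0 1 = 0 → (g : Matrix (Fin 2) (Fin 2) F) 1 0 = 0 → (g : Matrix (Fin 2) (Fin 2) F) 0 0 ^ 2 ≠ 1 →
      (Cfsg.indFun ((Cfsg.upperTriangularGL 2 F).comap Matrix.SpecialLinearGroup.toGL) (fun b => α (((b : Matrix.SpecialLinearGroup (Fin 2) F) : Matrix (Fin 2) (Fin 2) F) 0 0))) g = α ((g : Matrix (Fin 2) (Fin 2) F) 0 0) + α ((g : Matrix (Fin 2) (Fin 2) F) 1 1)) ∧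
    ((∀ (c : F) (v : Fin 2 → F), v ≠ 0 → (g : Matrix (Fin 2) (Fin 2) F).mulVec v ≠ c • v) → (Cfsg.indFun ((Cfsg.upperTriangularGL 2 F).comap Matrix.SpecialLinearGroup.toGL) (fun b => α (((b : Matrix.SpecialLinearGroup (Fin 2) F) : Matrix (Fin 2) (Fin 2) F) 0 0))) g = 0) ∧
    ((g : Matrix (Fin 2) (Fin 2) F) 1 0 = 0 → (g : Matrix (Fin 2) (Fin 2) F) 0 0 = (g : Matrix (Fin 2) (Fin 2) F) 1 1 → (g : Matrix (Fin 2) (Fin 2) F) 0 1 ≠ 0 →
      (Cfsg.indFun ((Cfsg.upperTriangularGL 2 F).comap Matrix.SpecialLinearGroup.toGL) (fun b => α (((b : Matrix.SpecialLinearGroup (Fin 2) F) : Matrix (Fin 2) (Fin 2) F) 0 0))) g = α ((g : Matrix (Fin 2) (Fin 2) F) 0 0)) ∧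
    ((g : Matrix (Fin 2) (Fin 2) F) 0 1 = 0 → (g : Matrix (Fin 2) (Fin 2) F) 1 0 = 0 → (g : Matrix (Fin 2) (Fin 2) F) 0 0 = (g : Matrix (Fin 2) (Fin 2) F) 1 1 →
      (Cfsg.indFun ((Cfsg.upperTriangularGL 2 F).comap Matrix.SpecialLinearGroup.toGL) (fun b => α (((b : Matrix.SpecialLinearGroup (Fin 2) F) : Matrix (Fin 2) (Fin 2) F) 0 0))) g = ((Fintype.card F : ℂ) + 1) * α ((g : Matrix (Fin 2) (Fin 2) F) 0 0)) := by
  classical
  set B := (Cfsg.upperTriangularGL 2 F).comap (Matrix.SpecialLinearGroup.toGL (n := Fin 2) (R := F)) with hB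
  set M : Matrix (Fin 2) (Fin 2) F := (g : Matrix (Fin 2) (Fin 2) F) with hM
  have hmem : ∀ b : Matrix.SpecialLinearGroup (Fin 2) F, b ∈ B ↔ b.1 1 0 = 0 := fun b => by
    rw [hB, Subgroup.mem_comap, CfsgLib.GLTwo.mem_upperTriangular_two]; rfl
  let cross : F × F → F := fun v => v.1 * (M 1 0 * v.1 + M 1 1 * v.2) - v.2 * (M 0 0 * v.1 + M 0 1 * v.2)
  let ev : F × F → F := fun v => if v.1 ≠ 0 then (M 0 0 * v.1 + M 0 1 * v.2) / v.1 else (M 1 0 * v.1 + M 1 1 * v.2) / v.2
  let W : F × F → ℂ := fun v => if v = 0 then 0 else if cross v = 0 then α (ev v) else 0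
  have hcol : ∀ x : Matrix.SpecialLinearGroup (Fin 2) F, ((x.1 0 0, x.1 1 0) : F × F) ≠ 0 := fun x h => by
    rw [Prod.mk_eq_zero] at h
    have := x.2
    rw [Matrix.det_fin_two, h.1, h.2] at this
    simp at this
  have hterm : ∀ x : Matrix.SpecialLinearGroup (Fin 2) F,
      Cfsg.extendByZero B (fun b => α (((b : Matrix.SpecialLinearGroup (Fin 2) F) : Matrix (Fin 2) (Fin 2) F) 0 0)) (x⁻¹ * g * x) =
        W (x.1 0 0, x.1 1 0) := by
    intro x
    have hdet := x.2
    rw [Matrix.det_fin_two] at hdet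
    have e10 : (x⁻¹ * g * x).1 1 0 = cross (x.1 0 0, x.1 1 0) := by
      simp [cross, hM, Matrix.mul_apply, Fin.sum_univ_two, Matrix.SpecialLinearGroup.coe_inv, Matrix.adjugate_fin_two, Matrix.vecMul, dotProduct]
      ring
    have e00 : (x⁻¹ * g * x).1 0 0 = x.1 1 1 * (M 0 0 * x.1 0 0 + M 0 1 * x.1 1 0) - x.1 0 1 * (M 1 0 * x.1 0 0 + M 1 1 * x.1 1 0) := by
      simp [hM, Matrix.mul_apply, Fin.sum_univ_two, Matrix.SpecialLinearGroup.coe_inv, Matrix.adjugate_fin_two, Matrix.vecMul, dotProduct]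
      ring
    simp only [W, if_neg (hcol x)]
    by_cases hc : cross (x.1 0 0, x.1 1 0) = 0
    · rw [if_pos hc]
      have hin : x⁻¹ * g * x ∈ B := (hmem _).2 (e10.trans hc)
      unfold Cfsg.extendByZero
      rw [show (x⁻¹ * g * x) = Subtype.val (⟨x⁻¹ * g * x, hin⟩ : B) from rfl, Function.Injective.extend_apply Subtype.val_injective]
      show α ((x⁻¹ * g * x).1 0 0) = _
      rw [e00]
      congr 1
      simp only [ev]
      simp only [cross] at hc
      split_ifs with h0
      · rw [eq_div_iff h0]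
        linear_combination (M 0 0 * x.1 0 0 + M 0 1 * x.1 1 0) * hdet - (x.1 0 1) * hc
      · have h0' : x.1 1 0 ≠ 0 := fun h => hcol x (by simp [not_not.1 h0, h])
        rw [eq_div_iff h0']
        linear_combination (M 1 0 * x.1 0 0 + M 1 1 * x.1 1 0) * hdet - (x.1 1 1) * hc
    · rw [if_neg hc]
      unfold Cfsg.extendByZero
      rw [Function.extend_apply' _ _ _ (fun ⟨b, hb⟩ => hc (e10 ▸ hb ▸ (hmem b.1).1 b.2))]
      rfl
  set q := Fintype.card F with hq
  have hq1 : 1 < q := Fintype.one_lt_card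
  have hqC : ((q : ℂ) - 1) ≠ 0 := sub_ne_zero.2 (by exact_mod_cast (by omega : q ≠ 1))
  have hBc : Nat.card B = (q - 1) * q := by
    have hdet : ∀ b : B, b.1.1 0 0 * b.1.1 1 1 = 1 := fun b => by
      have := b.1.2
      rwa [Matrix.det_fin_two, (hmem b.1).1 b.2, mul_zero, sub_zero] at this
    rw [Nat.card_congr (β := Fˣ × F)
      { toFun := fun b => (⟨b.1.1 0 0, b.1.1 1 1, hdet b, by rw [mul_comm]; exact hdet b⟩, b.1.1 0 1)
        invFun := fun p => ⟨⟨!![(p.1 : F), p.2; 0, (↑p.1⁻¹ : F)], by simp [Matrix.det_fin_two]⟩, (hmem _).2 (by simp)⟩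
        left_inv := fun b => by
          apply Subtype.ext; apply Subtype.ext
          ext i j
          fin_cases i <;> fin_cases j <;> simp [(hmem b.1).1 b.2]
        right_inv := fun p => by ext <;> simp }, Nat.card_prod, Nat.card_units, Nat.card_eq_fintype_card, ← hq]
  let Φ : Matrix.SpecialLinearGroup (Fin 2) F ≃ {v : F × F // v ≠ 0} × F :=
    { toFun := fun x => (⟨(x.1 0 0, x.1 1 0), hcol x⟩, if x.1 0 0 ≠ 0 then x.1 0 1 / x.1 0 0 else x.1 1 1 / x.1 1 0)
      invFun := fun p => if h : p.1.1.1 ≠ 0 then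
          ⟨!![p.1.1.1, p.2 * p.1.1.1; p.1.1.2, p.1.1.1⁻¹ + p.2 * p.1.1.2], by rw [Matrix.det_fin_two_of]; field_simp; ring⟩
        else ⟨!![p.1.1.1, -p.1.1.2⁻¹; p.1.1.2, p.2 * p.1.1.2], by
          have h1 : p.1.1.1 = 0 := not_not.1 h
          have h2 : p.1.1.2 ≠ 0 := fun h2 => p.1.2 (Prod.ext h1 h2)
          simp [Matrix.det_fin_two_of, h1, h2]⟩
      left_inv := fun x => by
        have hdet := x.2
        rw [Matrix.det_fin_two] at hdet
        apply Subtype.ext
        by_cases h : x.1 0 0 = 0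
        · have h' : x.1 1 0 ≠ 0 := fun h' => hcol x (by simp [h, h'])
          simp only [h, ne_eq, not_true_eq_false, if_false, dite_false]
          ext i j
          fin_cases i <;> fin_cases j <;> simp [h, h']
          field_simp
          simp [h] at hdet
          linear_combination hdet
        · simp only [ne_eq, h, not_false_eq_true, if_true, dite_true]
          ext i j
          fin_cases i <;> fin_cases j <;> simp [h]
          field_simp
          linear_combination -hdet
      right_inv := fun p => by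
        obtain ⟨⟨⟨a, b⟩, hab⟩, t⟩ := p
        by_cases h : a = 0
        · have hb : b ≠ 0 := fun hb => hab (by simp [h, hb])
          simp [h, hb]
        · simp [h] }
  have hval : (Cfsg.indFun B (fun b => α (((b : Matrix.SpecialLinearGroup (Fin 2) F) : Matrix (Fin 2) (Fin 2) F) 0 0))) g =
      ((q : ℂ) - 1)⁻¹ * ∑ v : F × F, W v := by
    unfold Cfsg.indFun
    rw [Finset.sum_congr rfl (fun x _ => hterm x), ← Φ.symm.sum_comp, Fintype.sum_prod_type]
    have h1 : ∀ v : {v : F × F // v ≠ 0}, ∀ t : F, W ((Φ.symm (v, t)).1 0 0, (Φ.symm (v, t)).1 1 0) = W v.1 := by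
      intro v t
      have := congrArg (fun p : {v : F × F // v ≠ 0} × F => p.1.1) (Φ.apply_symm_apply (v, t))
      exact congrArg W this
    simp only [h1, Finset.sum_const, Finset.card_univ, ← hq, nsmul_eq_mul, ← Finset.mul_sum]
    rw [hBc, Nat.cast_mul, Nat.cast_sub (by omega), Nat.cast_one]
    have hsum : ∑ v : {v : F × F // v ≠ 0}, W v.1 = ∑ v : F × F, W v := by
      rw [← Finset.sum_subtype (Finset.univ.filter fun v : F × F => v ≠ 0) (by simp) W]
      exact Finset.sum_filter_of_ne fun v _ hv h0 => hv (by simp [W, h0])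
    rw [hsum]
    have : (q : ℂ) ≠ 0 := by exact_mod_cast (by omega : q ≠ 0)
    field_simp
  have hax : ∀ c : ℂ, ∑ t : F, (if t = 0 then (0 : ℂ) else c) = ((q : ℂ) - 1) * c := fun c => by
    rw [Finset.sum_ite, Finset.sum_const_zero, zero_add, Finset.sum_const, Finset.filter_not, Finset.filter_eq',
      if_pos (Finset.mem_univ _), Finset.card_sdiff_of_subset (by simp), Finset.card_singleton, Finset.card_univ, ← hq, nsmul_eq_mul,
      Nat.cast_sub (by omega), Nat.cast_one]
  refine ⟨fun h01 h10 ha => ?_, fun hno => ?_, fun h10 h00 h01 => ?_, fun h01 h10 h00 => ?_⟩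
  · rw [hval]
    have hne : M 1 1 - M 0 0 ≠ 0 := by
      intro h
      apply ha
      have hd := g.2
      rw [Matrix.det_fin_two, ← hM, h01, zero_mul, sub_zero] at hd
      rw [pow_two]
      linear_combination hd - M 0 0 * h
    have hW : ∀ a b : F, W (a, b) = (if b = 0 then (if a = 0 then 0 else α (M 0 0)) else 0) + (if a = 0 then (if b = 0 then 0 else α (M 1 1)) else 0) := by
      intro a b
      have hc : cross (a, b) = a * b * (M 1 1 - M 0 0) := by simp [cross, h01, h10]; ring
      simp only [W, hc, ev, h01, h10, Prod.mk_eq_zero]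
      by_cases ha0 : a = 0 <;> by_cases hb0 : b = 0 <;> simp [ha0, hb0, hne]
    rw [Fintype.sum_prod_type]
    simp only [hW, Finset.sum_add_distrib]
    rw [Finset.sum_comm]
    have e1 : ∀ b : F, (∑ a : F, if b = 0 then (if a = 0 then (0 : ℂ) else α (M 0 0)) else 0) = if b = 0 then ((q : ℂ) - 1) * α (M 0 0) else 0 := fun b => by
      split_ifs
      · exact hax _
      · simp
    have e2 : ∀ a : F, (∑ b : F, if a = 0 then (if b = 0 then (0 : ℂ) else α (M 1 1)) else 0) = if a = 0 then ((q : ℂ) - 1) * α (M 1 1) else 0 := fun a => by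
      split_ifs
      · exact hax _
      · simp
    simp only [e1, e2, Finset.sum_ite_eq', Finset.mem_univ, if_true]
    field_simp
  · rw [hval]
    have hW : ∀ v : F × F, W v = 0 := by
      rintro ⟨a, b⟩
      simp only [W]
      split_ifs with h1 h2
      · rfl
      · exfalso
        refine hno (ev (a, b)) ![a, b] (fun h => h1 (Prod.ext (congrFun h 0) (congrFun h 1))) ?_
        simp only [cross] at h2
        funext i
        by_cases ha0 : a = 0
        · have hb0 : b ≠ 0 := fun hb => h1 (by simp [ha0, hb])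
          simp [ha0, hb0] at h2
          fin_cases i <;> simp [ev, ha0, hb0, Matrix.mulVec, dotProduct, Fin.sum_univ_two, ← hM, h2]
        · fin_cases i <;> simp [ev, ha0, Matrix.mulVec, dotProduct, Fin.sum_univ_two, ← hM]
          field_simp
          linear_combination h2
      · rfl
    simp [hW]
  · rw [hval]
    have hW : ∀ a b : F, W (a, b) = if b = 0 then (if a = 0 then 0 else α (M 0 0)) else 0 := by
      intro a b
      have hc : cross (a, b) = -(b * b * M 0 1) := by simp only [cross, h10, ← h00]; ring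
      simp only [W, hc, ev, h10, Prod.mk_eq_zero]
      by_cases ha0 : a = 0 <;> by_cases hb0 : b = 0 <;> simp [ha0, hb0, h01]
    rw [Fintype.sum_prod_type]
    simp only [hW]
    rw [Finset.sum_comm]
    have e1 : ∀ b : F, (∑ a : F, if b = 0 then (if a = 0 then (0 : ℂ) else α (M 0 0)) else 0) = if b = 0 then ((q : ℂ) - 1) * α (M 0 0) else 0 := fun b => by
      split_ifs
      · exact hax _
      · simp
    simp only [e1, Finset.sum_ite_eq', Finset.mem_univ, if_true]
    field_simp
  · rw [hval]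
    have hW : ∀ v : F × F, W v = if v = 0 then 0 else α (M 0 0) := by
      rintro ⟨a, b⟩
      have hc : cross (a, b) = 0 := by simp only [cross, h01, h10, ← h00]; ring
      simp only [W, hc, if_true, ev, h01, h10, ← h00, Prod.mk_eq_zero]
      by_cases ha0 : a = 0 <;> by_cases hb0 : b = 0 <;> simp [ha0, hb0]
    simp only [hW]
    rw [Finset.sum_ite, Finset.sum_const_zero, zero_add, Finset.sum_const, Finset.filter_not, Finset.filter_eq',
      if_pos (Finset.mem_univ _), Finset.card_sdiff_of_subset (by simp), Finset.card_singleton, Finset.card_univ,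
      Fintype.card_prod, ← hq, nsmul_eq_mul, Nat.cast_sub (by nlinarith), Nat.cast_mul, Nat.cast_one]
    field_simp
    ring

end Cfsg.Agent.S2433
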