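import Cfsg.Statements.S2330
import Cfsg.Agent.Lib.GLTwo.Classes

set_option autoImplicit false
open Cfsg

namespace Cfsg.Agent.S2330

/-- Over a finite field with q elements, the general linear group GL₂ has exactly q² − 1 conjugacy classes. -/
theorem result {F : Type*} [Field F] [Fintype F] :
    Nat.card (ConjClasses (Matrix.GeneralLinearGroup (Fin 2) F)) = Fintype.card F ^ 2 - 1 := by
  classical
  let ψ : Fˣ ⊕ (F × Fˣ) → ConjClasses (Matrix.GeneralLinearGroup (Fin 2) F) := Sum.elim
    (fun c => ConjClasses.mk (Matrix.GeneralLinearGroup.mkOfDetNeZero ((c : F) • 1)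
      (by simp [Matrix.det_smul, c.ne_zero])))
    (fun p => ConjClasses.mk (Matrix.GeneralLinearGroup.mkOfDetNeZero
      (CfsgLib.GLTwo.companion p.1 (p.2 : F))
      (by rw [CfsgLib.GLTwo.det_companion]; exact p.2.ne_zero)))
  have hsc : ∀ x : Matrix.GeneralLinearGroup (Fin 2) F, ∀ y, IsConj x y →
      CfsgLib.GLTwo.IsScalar2 (x : Matrix (Fin 2) (Fin 2) F) → x = y := by
    intro x y hxy hx
    obtain ⟨c, hc⟩ := isConj_iff.1 hxy
    rw [← hc, eq_mul_inv_iff_mul_eq]
    apply Units.ext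
    rw [Units.val_mul, Units.val_mul, (CfsgLib.GLTwo.isScalar2_iff _).1 hx]
    simp
  have hinv : ∀ x y : Matrix.GeneralLinearGroup (Fin 2) F, IsConj x y →
      (x : Matrix (Fin 2) (Fin 2) F).trace = (y : Matrix (Fin 2) (Fin 2) F).trace ∧
      (x : Matrix (Fin 2) (Fin 2) F).det = (y : Matrix (Fin 2) (Fin 2) F).det := by
    intro x y hxy
    obtain ⟨c, hc⟩ := isConj_iff.1 hxy
    rw [mul_inv_eq_iff_eq_mul] at hc
    exact ⟨CfsgLib.GLTwo.trace_eq_of_conj (Matrix.GeneralLinearGroup.det_ne_zero c)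
        (congrArg Units.val hc),
      CfsgLib.GLTwo.det_eq_of_conj (Matrix.GeneralLinearGroup.det_ne_zero c) (congrArg Units.val hc)⟩
  have hbij : Function.Bijective ψ := by
    constructor
    · rintro (c | ⟨t, d⟩) (c' | ⟨t', d'⟩) h <;>
        simp only [ψ, Sum.elim_inl, Sum.elim_inr, ConjClasses.mk_eq_mk_iff_isConj] at h
      · have := congrArg (fun x : Matrix.GeneralLinearGroup (Fin 2) F =>
          (x : Matrix (Fin 2) (Fin 2) F) 0 0) (hsc _ _ h (CfsgLib.GLTwo.isScalar2_smul_one _))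
        simpa [Matrix.GeneralLinearGroup.mkOfDetNeZero, Units.ext_iff] using this
      · exact absurd ((congrArg CfsgLib.GLTwo.IsScalar2 (congrArg Units.val (hsc _ _ h (CfsgLib.GLTwo.isScalar2_smul_one _)))).mp
          (CfsgLib.GLTwo.isScalar2_smul_one (c : F)))
          (CfsgLib.GLTwo.companion_not_scalar t' (d' : F))
      · exact absurd ((congrArg CfsgLib.GLTwo.IsScalar2 (congrArg Units.val (hsc _ _ h.symm (CfsgLib.GLTwo.isScalar2_smul_one _)))).mp
          (CfsgLib.GLTwo.isScalar2_smul_one (c' : F)))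
          (CfsgLib.GLTwo.companion_not_scalar t (d : F))
      · obtain ⟨h1, h2⟩ := hinv _ _ h
        simp [Matrix.GeneralLinearGroup.mkOfDetNeZero, CfsgLib.GLTwo.trace_companion,
          CfsgLib.GLTwo.det_companion] at h1 h2
        simp [h1, Units.ext_iff, h2]
    · intro C
      obtain ⟨x, rfl⟩ := ConjClasses.mk_surjective C
      by_cases hx : CfsgLib.GLTwo.IsScalar2 (x : Matrix (Fin 2) (Fin 2) F)
      · have hne : (x : Matrix (Fin 2) (Fin 2) F) 0 0 ≠ 0 := by
          intro h0
          have := Matrix.GeneralLinearGroup.det_ne_zero x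
          rw [Matrix.det_fin_two, hx.1, h0] at this
          simp at this
        exact ⟨.inl (Units.mk0 _ hne), congrArg ConjClasses.mk (Units.ext
          ((CfsgLib.GLTwo.isScalar2_iff _).1 hx).symm)⟩
      · refine ⟨.inr ((x : Matrix (Fin 2) (Fin 2) F).trace,
          Units.mk0 _ (Matrix.GeneralLinearGroup.det_ne_zero x)), ?_⟩
        simp only [ψ, Sum.elim_inr, ConjClasses.mk_eq_mk_iff_isConj]
        exact CfsgLib.GLTwo.gl_isConj_of_trace_det (CfsgLib.GLTwo.companion_not_scalar _ _) hx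
          (CfsgLib.GLTwo.trace_companion _ _) (CfsgLib.GLTwo.det_companion _ _)
  rw [← Nat.card_congr (Equiv.ofBijective ψ hbij), Nat.card_sum, Nat.card_prod,
    Nat.card_eq_fintype_card, Nat.card_eq_fintype_card, Fintype.card_units]
  have := Fintype.card_pos (α := F)
  obtain ⟨k, hk⟩ : ∃ k, Fintype.card F = k + 1 := ⟨_, (Nat.sub_add_cancel this).symm⟩
  rw [hk, Nat.add_sub_cancel, sq]
  have : (k + 1) * (k + 1) = k + (k + 1) * k + 1 := by ring
  omega

end Cfsg.Agent.S2330
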