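import Cfsg.Statements.S2430
import Cfsg.Agent.Lib.Involutions.SLTwoSylow

set_option autoImplicit false
open Cfsg

namespace Cfsg.Agent.S2430

open CfsgLib.GLTwo CfsgLib.Involutions.SLTwoTori CfsgLib.KnownB.SL2Sizes

/-- Let F be a finite field with q elements, q odd, ℓ an odd prime, and P a Sylow ℓ-subgroup of SL₂ over F. If ℓ divides q − 1, the centraliser of P is cyclic of order q − 1 (a split torus) and the normaliser of P has order 2(q − 1); if ℓ divides q + 1, the centraliser of P is cyclic of order q + 1 (a non-split torus) and the normaliser of P has order 2(q + 1). -/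
theorem result {F : Type*} [Field F] [Fintype F] (hodd : Odd (Fintype.card F)) (ℓ : ℕ) [Fact ℓ.Prime] (hℓ : ℓ ≠ 2)
    (P : Sylow ℓ (Matrix.SpecialLinearGroup (Fin 2) F)) :
    (ℓ ∣ Fintype.card F - 1 →
      Nat.card (Subgroup.centralizer ((P : Subgroup (Matrix.SpecialLinearGroup (Fin 2) F)) : Set (Matrix.SpecialLinearGroup (Fin 2) F))) = Fintype.card F - 1 ∧
      IsCyclic (Subgroup.centralizer ((P : Subgroup (Matrix.SpecialLinearGroup (Fin 2) F)) : Set (Matrix.SpecialLinearGroup (Fin 2) F))) ∧
      Nat.card (Subgroup.normalizer ((P : Subgroup (Matrix.SpecialLinearGroup (Fin 2) F)) : Set (Matrix.SpecialLinearGroup (Fin 2) F))) = 2 * (Fintype.card F - 1)) ∧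
    (ℓ ∣ Fintype.card F + 1 →
      Nat.card (Subgroup.centralizer ((P : Subgroup (Matrix.SpecialLinearGroup (Fin 2) F)) : Set (Matrix.SpecialLinearGroup (Fin 2) F))) = Fintype.card F + 1 ∧
      IsCyclic (Subgroup.centralizer ((P : Subgroup (Matrix.SpecialLinearGroup (Fin 2) F)) : Set (Matrix.SpecialLinearGroup (Fin 2) F))) ∧
      Nat.card (Subgroup.normalizer ((P : Subgroup (Matrix.SpecialLinearGroup (Fin 2) F)) : Set (Matrix.SpecialLinearGroup (Fin 2) F))) = 2 * (Fintype.card F + 1)) := by
  classical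
  have hlp := (Fact.out : ℓ.Prime)
  have main : ∀ k, (k = Fintype.card F - 1 ∨ k = Fintype.card F + 1) → ℓ ∣ k →
      Nat.card (Subgroup.centralizer ((P : Subgroup (Matrix.SpecialLinearGroup (Fin 2) F)) : Set (Matrix.SpecialLinearGroup (Fin 2) F))) = k ∧
      IsCyclic (Subgroup.centralizer ((P : Subgroup (Matrix.SpecialLinearGroup (Fin 2) F)) : Set (Matrix.SpecialLinearGroup (Fin 2) F))) ∧
      Nat.card (Subgroup.normalizer ((P : Subgroup (Matrix.SpecialLinearGroup (Fin 2) F)) : Set (Matrix.SpecialLinearGroup (Fin 2) F))) = 2 * k := by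
    intro k hk hlk
    have hdG : ℓ ∣ Nat.card (Matrix.SpecialLinearGroup (Fin 2) F) := by
      rw [CfsgLib.Classical.card_SL_two, Nat.card_eq_fintype_card,
        show Fintype.card F ^ 2 - 1 = (Fintype.card F + 1) * (Fintype.card F - 1) from by
          rw [← Nat.sq_sub_sq, one_pow]]
      rcases hk with rfl | rfl
      · exact (hlk.mul_left _).mul_left _
      · exact (hlk.mul_right _).mul_left _
    have hP1 := P.dvd_card_of_dvd_card hdG
    haveI : Nontrivial (P : Subgroup (Matrix.SpecialLinearGroup (Fin 2) F)) := Finite.one_lt_card_iff_nontrivial.1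
      (lt_of_lt_of_le hlp.one_lt (Nat.le_of_dvd Nat.card_pos hP1))
    have hZ := P.isPGroup'.center_nontrivial
    obtain ⟨z, hz⟩ := exists_ne (1 : Subgroup.center (P : Subgroup (Matrix.SpecialLinearGroup (Fin 2) F)))
    set x : Matrix.SpecialLinearGroup (Fin 2) F := ((z : (P : Subgroup (Matrix.SpecialLinearGroup (Fin 2) F))) : Matrix.SpecialLinearGroup (Fin 2) F) with hxdef
    have hxP : x ∈ (P : Subgroup (Matrix.SpecialLinearGroup (Fin 2) F)) := SetLike.coe_mem _
    have hx1 : x ≠ 1 := fun h => hz (Subtype.ext (Subtype.ext h))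
    obtain ⟨j, hj⟩ := P.isPGroup' ⟨x, hxP⟩
    have hodd2 : Odd (orderOf x) := by
      have h1 : x ^ (ℓ ^ j) = 1 := by simpa using congrArg Subtype.val hj
      exact Odd.of_dvd_nat ((hlp.odd_of_ne_two hℓ).pow) (orderOf_dvd_of_pow_eq_one h1)
    have hxns : ¬ IsScalar2 (x : Matrix (Fin 2) (Fin 2) F) := fun hs => by
      rcases scalar_eq hs with h | h
      · exact hx1 h
      · have h2 : x * x = 1 := by rw [h]; simp
        have h3 : orderOf x ∣ 2 := orderOf_dvd_of_pow_eq_one (by rw [pow_two, h2])
        rcases (Nat.dvd_prime Nat.prime_two).1 h3 with h4 | h4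
        · exact hx1 (orderOf_eq_one_iff.1 h4)
        · rw [h4] at hodd2; exact absurd hodd2 (by decide)
    set T := Subgroup.centralizer ({x} : Set (Matrix.SpecialLinearGroup (Fin 2) F)) with hT
    have hPT : (P : Subgroup (Matrix.SpecialLinearGroup (Fin 2) F)) ≤ T := fun y hy => by
      rw [hT, Subgroup.mem_centralizer_singleton_iff]
      exact congrArg Subtype.val (Subgroup.mem_center_iff.1 z.2 ⟨y, hy⟩)
    have hlT : ℓ ∣ Nat.card T := hP1.trans (Subgroup.card_dvd_of_le hPT)
    have hodd' := Nat.odd_iff.1 hodd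
    have hcard := card_centralizer hxns hodd
    rw [← hT] at hcard
    have hno : ∀ a b : ℕ, ℓ ∣ a → ℓ ∣ b → a + 2 = b → False := fun a b ha hb he => by
      have := Nat.dvd_sub hb ha
      rw [show b - a = 2 by omega] at this
      exact hℓ ((Nat.prime_dvd_prime_iff_eq hlp Nat.prime_two).1 this)
    have ht : (x : Matrix (Fin 2) (Fin 2) F).trace ^ 2 ≠ 4 := fun h4 => by
      rw [if_pos h4] at hcard
      rw [hcard] at hlT
      rcases hlp.dvd_mul.1 hlT with h | h
      · exact hℓ ((Nat.prime_dvd_prime_iff_eq hlp Nat.prime_two).1 h)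
      · have h1 : ℓ ∣ 1 := by
          rcases hk with rfl | rfl
          · have := Nat.dvd_sub h hlk
            rwa [show Fintype.card F - (Fintype.card F - 1) = 1 by omega] at this
          · exact (Nat.dvd_add_right h).1 hlk
        exact hlp.not_dvd_one h1
    rw [if_neg ht] at hcard
    have hTk : Nat.card T = k := by
      rw [hcard] at hlT ⊢
      split_ifs at hlT ⊢ <;> rcases hk with rfl | rfl <;> first | rfl | exact (hno _ _ hlT hlk (by omega)).elim | exact (hno _ _ hlk hlT (by omega)).elim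
    have hC : Subgroup.centralizer ((P : Subgroup (Matrix.SpecialLinearGroup (Fin 2) F)) : Set (Matrix.SpecialLinearGroup (Fin 2) F)) = T := by
      refine le_antisymm (fun y hy => ?_) (fun y hy => Subgroup.mem_centralizer_iff.2 fun w hw => centralizer_comm hxns (hPT hw) hy)
      exact Subgroup.mem_centralizer_singleton_iff.2 (Subgroup.mem_centralizer_iff.1 hy x hxP).symm
    have hN : Subgroup.normalizer ((P : Subgroup (Matrix.SpecialLinearGroup (Fin 2) F)) : Set (Matrix.SpecialLinearGroup (Fin 2) F)) = Subgroup.normalizer (T : Set (Matrix.SpecialLinearGroup (Fin 2) F)) := by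
      refine le_antisymm (fun n hn => (mem_normalizer_iff hodd ht).2 ?_) (fun n hn => ?_)
      · have hmem : n * x * n⁻¹ ∈ T := hPT ((Subgroup.mem_normalizer_iff.1 hn x).1 hxP)
        exact eq_or_eq_inv_of_trace hodd ht hmem (trace_eq_of_isConj_sl (isConj_iff.2 ⟨n, rfl⟩)).symm
      · rw [Subgroup.mem_normalizer_iff_map_conj_eq]
        refine Subgroup.eq_of_le_of_card_ge ?_ (Nat.card_congr (Subgroup.equivMapOfInjective _ _ (MulAut.conj n).injective).toEquiv).le
        rintro _ ⟨y, hy, rfl⟩
        rcases conj_cases hodd ht hn with h | h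
        · have hnT : n ∈ T := mem_centralizer_iff_conj.2 h
          show n * y * n⁻¹ ∈ _
          rw [centralizer_comm hxns hnT (hPT hy), mul_inv_cancel_right]
          exact hy
        · show n * y * n⁻¹ ∈ _
          rw [conj_eq_inv hxns h (hPT hy)]
          exact inv_mem hy
    refine ⟨by rw [hC, hTk], by rw [hC]; exact isCyclic_torus ht, ?_⟩
    rw [hN, (torus_normalizer hodd ht).1, hTk]
  exact ⟨main _ (Or.inl rfl), main _ (Or.inr rfl)⟩

end Cfsg.Agent.S2430
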