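import Cfsg.Statements.S2431
import Cfsg.Agent.Lib.Involutions.SLTwoSylow

set_option autoImplicit false
open Cfsg

namespace Cfsg.Agent.S2431

open CfsgLib.GLTwo CfsgLib.Involutions.SLTwoTori

/-- Let F be a finite field with q elements, q odd, and S a Sylow 2-subgroup of SL₂ over F. The centraliser of S is the centre of SL₂ (of order 2); S is its own normaliser when q ≡ ±1 mod 8, and has index 3 in its normaliser when q ≡ ±3 mod 8. -/
theorem result {F : Type*} [Field F] [Fintype F] (hodd : Odd (Fintype.card F)) (S : Sylow 2 (Matrix.SpecialLinearGroup (Fin 2) F)) :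
    Subgroup.centralizer ((S : Subgroup (Matrix.SpecialLinearGroup (Fin 2) F)) : Set (Matrix.SpecialLinearGroup (Fin 2) F)) = Subgroup.center (Matrix.SpecialLinearGroup (Fin 2) F) ∧
    ((Fintype.card F % 8 = 1 ∨ Fintype.card F % 8 = 7) →
      Subgroup.normalizer ((S : Subgroup (Matrix.SpecialLinearGroup (Fin 2) F)) : Set (Matrix.SpecialLinearGroup (Fin 2) F)) = (S : Subgroup (Matrix.SpecialLinearGroup (Fin 2) F))) ∧
    ((Fintype.card F % 8 = 3 ∨ Fintype.card F % 8 = 5) →
      Nat.card (Subgroup.normalizer ((S : Subgroup (Matrix.SpecialLinearGroup (Fin 2) F)) : Set (Matrix.SpecialLinearGroup (Fin 2) F))) = 3 * Nat.card S) := by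
  classical
  have h2 := two_ne_zero_of_odd hodd
  obtain ⟨g, h0, hSN, hScard⟩ := sylow_two_setup hodd S
  have ht := trace_sq_ne_four_of_zero hodd h0
  have hg := not_scalar_of_trace_sq ht
  set T := Subgroup.centralizer ({g} : Set (Matrix.SpecialLinearGroup (Fin 2) F)) with hT
  set k := Nat.card T with hk
  set v := k.factorization 2 with hvdef
  have hk0 : k ≠ 0 := Nat.card_pos.ne'
  have hv : 2 ≤ v := (Nat.Prime.pow_dvd_iff_le_factorization Nat.prime_two hk0).1 (four_dvd_card_centralizer hodd h0)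
  have hgT : g ∈ T := Subgroup.mem_centralizer_singleton_iff.2 rfl
  obtain ⟨w, hwS, hwT⟩ : ∃ w ∈ (S : Subgroup (Matrix.SpecialLinearGroup (Fin 2) F)), w ∉ T := by
    by_contra! h
    have h1 := Subgroup.card_dvd_of_le (show (S : Subgroup (Matrix.SpecialLinearGroup (Fin 2) F)) ≤ T from h)
    rw [hScard, ← hk, ← pow_succ'] at h1
    have := (Nat.Prime.pow_dvd_iff_le_factorization Nat.prime_two hk0).1 h1
    omega
  have hinv : ∀ s ∈ (S : Subgroup (Matrix.SpecialLinearGroup (Fin 2) F)), s ∉ T → s * g * s⁻¹ = g⁻¹ := fun s hs hsT =>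
    (conj_cases hodd ht (hSN hs)).resolve_left fun h => hsT (mem_centralizer_iff_conj.2 h)
  have hwg := hinv w hwS hwT
  have hout : ∀ s : Matrix.SpecialLinearGroup (Fin 2) F, s * g * s⁻¹ = g⁻¹ → w⁻¹ * s ∈ T := fun s h => by
    rw [mem_centralizer_iff_conj]
    calc w⁻¹ * s * g * (w⁻¹ * s)⁻¹ = w⁻¹ * (s * g * s⁻¹) * w := by group
      _ = w⁻¹ * (w * g * w⁻¹) * w := by rw [h, hwg]
      _ = g := by group
  set C := (S : Subgroup (Matrix.SpecialLinearGroup (Fin 2) F)) ⊓ T with hC
  have hCcard : Nat.card C = 2 ^ v := by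
    let f : C ⊕ C → (S : Subgroup (Matrix.SpecialLinearGroup (Fin 2) F)) := Sum.elim (fun z => (⟨z.1, z.2.1⟩ : (S : Subgroup (Matrix.SpecialLinearGroup (Fin 2) F)))) (fun z => ⟨w * z.1, mul_mem hwS z.2.1⟩)
    have hf : Function.Bijective f := by
      constructor
      · rintro (z | z) (z' | z') h <;> have h' := congrArg Subtype.val h <;> simp [f] at h'
        · exact congrArg Sum.inl h'
        · exact absurd (by have := T.mul_mem z.2.2 (T.inv_mem z'.2.2); rwa [h', mul_inv_cancel_right] at this) hwT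
        · exact absurd (by have := T.mul_mem z'.2.2 (T.inv_mem z.2.2); rwa [← h', mul_inv_cancel_right] at this) hwT
        · exact congrArg Sum.inr h'
      · rintro ⟨s, hs⟩
        by_cases hsT : s ∈ T
        · exact ⟨Sum.inl ⟨s, hs, hsT⟩, rfl⟩
        · exact ⟨Sum.inr ⟨w⁻¹ * s, mul_mem (((S : Subgroup (Matrix.SpecialLinearGroup (Fin 2) F))).inv_mem hwS) hs, hout s (hinv s hs hsT)⟩, Subtype.ext (mul_inv_cancel_left w s)⟩
    have := Nat.card_eq_of_bijective f hf
    rw [Nat.card_sum, hScard] at this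
    omega
  have hpowC : ∀ z ∈ T, z ^ (2 ^ v) = 1 → z ∈ C := fun z hz h =>
    eq_of_pow_eq_one hodd ht inf_le_right hz (by rw [hCcard]; exact h)
  have hgC : g ∈ C := hpowC g hgT (orderOf_dvd_iff_pow_eq_one.1 (by
    rw [orderOf_trace_zero hodd h0]; exact pow_dvd_pow 2 hv))
  have hcen : Subgroup.centralizer ((S : Subgroup (Matrix.SpecialLinearGroup (Fin 2) F)) : Set (Matrix.SpecialLinearGroup (Fin 2) F)) =
      Subgroup.center (Matrix.SpecialLinearGroup (Fin 2) F) := by
    refine le_antisymm (fun y hy => ?_) (Subgroup.center_le_centralizer ((S : Subgroup (Matrix.SpecialLinearGroup (Fin 2) F)) : Set (Matrix.SpecialLinearGroup (Fin 2) F)))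
    have hyT : y ∈ T := Subgroup.mem_centralizer_singleton_iff.2 (Subgroup.mem_centralizer_iff.1 hy g hgC.1).symm
    have hyw := Subgroup.mem_centralizer_iff.1 hy w hwS
    have h1 := conj_eq_inv hg hwg hyT
    rw [hyw, mul_inv_cancel_right] at h1
    have h2 : y * y = 1 := by nth_rewrite 2 [h1]; exact mul_inv_cancel y
    rw [Subgroup.mem_center_iff]
    rcases (sq_eq_one_iff hodd y).1 h2 with rfl | rfl <;> simp
  refine ⟨hcen, ?_⟩
  set N := Subgroup.normalizer ((S : Subgroup (Matrix.SpecialLinearGroup (Fin 2) F)) : Set (Matrix.SpecialLinearGroup (Fin 2) F)) with hN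
  have hNT : ∀ n ∈ N, (n * g * n⁻¹ = g ∨ n * g * n⁻¹ = g⁻¹) → n ∈ (S : Subgroup (Matrix.SpecialLinearGroup (Fin 2) F)) := by
    have key : ∀ n ∈ N, n ∈ T → n ∈ (S : Subgroup (Matrix.SpecialLinearGroup (Fin 2) F)) := fun n hn hnT => by
      have h1 : n * w * n⁻¹ * w⁻¹ ∈ (S : Subgroup (Matrix.SpecialLinearGroup (Fin 2) F)) :=
        mul_mem ((Subgroup.mem_normalizer_iff.1 hn w).1 hwS) (((S : Subgroup (Matrix.SpecialLinearGroup (Fin 2) F))).inv_mem hwS)
      have h2 : n * w * n⁻¹ * w⁻¹ = n * n := by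
        calc n * w * n⁻¹ * w⁻¹ = n * (w * n⁻¹ * w⁻¹) := by group
          _ = n * n := by rw [conj_eq_inv hg hwg (T.inv_mem hnT), inv_inv]
      rw [h2] at h1
      have h3 : (n * n) ^ (2 ^ v) = 1 := by
        have : (((⟨n * n, h1, mul_mem hnT hnT⟩ : C) ^ Nat.card C : C) : Matrix.SpecialLinearGroup (Fin 2) F) = 1 := by
          rw [pow_card_eq_one']; rfl
        rw [Subgroup.coe_pow, hCcard] at this
        exact this
      rw [← pow_two, ← pow_mul, ← pow_succ'] at h3
      obtain ⟨j, -, hj⟩ := (Nat.dvd_prime_pow Nat.prime_two).1 (orderOf_dvd_of_pow_eq_one h3)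
      have hjk : 2 ^ j ∣ k := by
        rw [← hj, hk, ← Subgroup.orderOf_mk n hnT]; exact orderOf_dvd_natCard _
      have hjv := (Nat.Prime.pow_dvd_iff_le_factorization Nat.prime_two hk0).1 hjk
      exact (hpowC n hnT (orderOf_dvd_iff_pow_eq_one.1 (hj ▸ pow_dvd_pow 2 hjv))).1
    intro n hn h
    rcases h with h | h
    · exact key n hn (mem_centralizer_iff_conj.2 h)
    · have := key _ (mul_mem (inv_mem (Subgroup.le_normalizer hwS)) hn) (hout n h)
      simpa using mul_mem hwS this
  have hcard2 : k = (if Fintype.card F % 4 = 1 then Fintype.card F - 1 else Fintype.card F + 1) :=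
    card_centralizer_trace_zero hodd h0
  constructor
  · intro hq
    have hv3 : 3 ≤ v := (Nat.Prime.pow_dvd_iff_le_factorization Nat.prime_two hk0).1 (by
      rw [hcard2]; split_ifs with h <;> omega)
    haveI : IsCyclic T := isCyclic_torus ht
    haveI : IsCyclic C := isCyclic_of_injective (Subgroup.inclusion (inf_le_right : C ≤ T)) (Subgroup.inclusion_injective _)
    obtain ⟨c, hc⟩ := IsCyclic.exists_generator (α := C)
    have hoc : orderOf (c : Matrix.SpecialLinearGroup (Fin 2) F) = 2 ^ v := by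
      rw [Subgroup.orderOf_coe, orderOf_eq_card_of_forall_mem_zpowers hc, hCcard]
    have hbig : ∀ x : Matrix.SpecialLinearGroup (Fin 2) F, orderOf x = 2 ^ v → x ^ 4 ≠ 1 := fun x hx h4 => by
      have h := orderOf_dvd_of_pow_eq_one h4
      rw [hx, show 4 = 2 ^ 2 by norm_num, Nat.pow_dvd_pow_iff_le_right (by norm_num)] at h
      omega
    have hns : ∀ x : Matrix.SpecialLinearGroup (Fin 2) F, orderOf x = 2 ^ v → ¬ IsScalar2 (x : Matrix (Fin 2) (Fin 2) F) := fun x hx hs => by
      apply hbig x hx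
      rcases scalar_eq hs with rfl | rfl <;> simp [Even.neg_one_pow (show Even 4 by decide)]
    refine le_antisymm (fun n hn => hNT n hn ?_) Subgroup.le_normalizer
    have hx : n * (c : Matrix.SpecialLinearGroup (Fin 2) F) * n⁻¹ ∈ (S : Subgroup (Matrix.SpecialLinearGroup (Fin 2) F)) :=
      (Subgroup.mem_normalizer_iff.1 hn _).1 c.2.1
    have hox : orderOf (n * (c : Matrix.SpecialLinearGroup (Fin 2) F) * n⁻¹) = 2 ^ v := by
      rw [show n * (c : Matrix.SpecialLinearGroup (Fin 2) F) * n⁻¹ = MulAut.conj n c from rfl,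
        MulEquiv.orderOf_eq, hoc]
    have hxT : n * (c : Matrix.SpecialLinearGroup (Fin 2) F) * n⁻¹ ∈ T := by
      by_contra h
      apply hbig _ hox
      rw [show 4 = 2 * 2 by norm_num, pow_mul, pow_two (n * (c : Matrix.SpecialLinearGroup (Fin 2) F) * n⁻¹), (inverting_sq hodd ht (hinv _ hx h)).2, neg_one_sq]
    have hmem : n * g * n⁻¹ ∈ T := by
      rw [hT, ← centralizer_eq_of_mem hg hxT (hns _ hox), Subgroup.mem_centralizer_singleton_iff]
      calc n * g * n⁻¹ * (n * (c : Matrix.SpecialLinearGroup (Fin 2) F) * n⁻¹) = n * (g * c) * n⁻¹ := by group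
        _ = n * (c * g) * n⁻¹ := by rw [centralizer_comm hg hgT c.2.2]
        _ = _ := by group
    exact eq_or_eq_inv_of_trace hodd ht hmem (trace_eq_of_isConj_sl (isConj_iff.2 ⟨n, rfl⟩)).symm
  · intro hq
    have hv2 : v = 2 := by
      refine le_antisymm ?_ hv
      by_contra h
      have h8 := (Nat.Prime.pow_dvd_iff_le_factorization Nat.prime_two hk0).2 (show 3 ≤ v by omega)
      rw [hcard2] at h8
      split_ifs at h8 <;> omega
    have hCel : ∀ z ∈ C, z = 1 ∨ z = -1 ∨ z = g ∨ z = -g := by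
      intro z hz
      have hCeq : Subgroup.zpowers g = C := Subgroup.eq_of_le_of_card_ge (by simpa using hgC) (by
        rw [hCcard, Nat.card_zpowers, orderOf_trace_zero hodd h0, hv2])
      rw [← hCeq, ← mem_powers_iff_mem_zpowers, mem_powers_iff_mem_range_orderOf, orderOf_trace_zero hodd h0,
        Finset.mem_image] at hz
      obtain ⟨i, hi, rfl⟩ := hz
      rw [Finset.mem_range] at hi
      have hg2 : g ^ 2 = -1 := by rw [pow_two, sq_of_trace_zero h0]
      interval_cases i
      · exact Or.inl (pow_zero g)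
      · exact Or.inr (Or.inr (Or.inl (pow_one g)))
      · exact Or.inr (Or.inl hg2)
      · refine Or.inr (Or.inr (Or.inr ?_))
        rw [pow_succ, hg2, neg_one_mul]
    obtain ⟨hw0, hw2⟩ := inverting_sq hodd ht hwg
    have hinvg := inv_of_trace_zero h0
    have hWG : w * g = -(g * w) := by
      rw [mul_inv_eq_iff_eq_mul.1 hwg, hinvg, neg_mul]
    set G' := (g : Matrix (Fin 2) (Fin 2) F) with hG'
    set W := (w : Matrix (Fin 2) (Fin 2) F) with hW'
    have eGG : G' * G' = -1 := by
      rw [hG', ← Matrix.SpecialLinearGroup.coe_mul, sq_of_trace_zero h0]; simp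
    have eWW : W * W = -1 := by
      rw [hW', ← Matrix.SpecialLinearGroup.coe_mul, hw2]; simp
    have eWG : W * G' = -(G' * W) := by
      rw [hG', hW', ← Matrix.SpecialLinearGroup.coe_mul, hWG]; simp
    have hGW0 : (G' * W).trace = 0 := by
      have h := congrArg Matrix.trace eWG
      rw [Matrix.trace_neg, Matrix.trace_mul_comm W G'] at h
      exact mul_left_cancel₀ h2 (by rw [mul_zero]; linear_combination h)
    set M := G' + W + G' * W with hM
    have hM2 : M * M = (-3 : F) • (1 : Matrix (Fin 2) (Fin 2) F) := by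
      have e1 : G' * (G' * W) = -W := by rw [← mul_assoc, eGG, neg_one_mul]
      have e2 : G' * W * G' = W := by rw [mul_assoc, eWG, mul_neg, e1, neg_neg]
      have e3 : W * (G' * W) = G' := by rw [← mul_assoc, eWG, neg_mul, mul_assoc, eWW, mul_neg_one, neg_neg]
      have e4 : G' * W * W = -G' := by rw [mul_assoc, eWW, mul_neg_one]
      have e5 : G' * W * (G' * W) = -1 := by rw [← mul_assoc, e2, eWW]
      rw [hM]
      simp only [mul_add, add_mul, eGG, eWW, eWG, e1, e2, e3, e4, e5]
      module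
    have hMdet : M.det = 3 := by
      have h := sq_eq M
      rw [show M.trace = 0 by rw [hM, Matrix.trace_add, Matrix.trace_add, hGW0, hG', hW', h0, hw0]; simp,
        zero_smul, zero_sub, hM2] at h
      have h00 := congrFun (congrFun h 0) 0
      simp at h00
      first | linear_combination h00 | linear_combination -h00
    have hudet : ((2⁻¹ : F) • ((1 : F) • (1 : Matrix (Fin 2) (Fin 2) F) + (1 : F) • M)).det = 1 := by
      rw [Matrix.det_smul, det_add_smul, hMdet, show M.trace = 0 by rw [hM, Matrix.trace_add, Matrix.trace_add, hGW0, hG', hW', h0, hw0]; simp, Fintype.card_fin]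
      field_simp
      ring
    let u : Matrix.SpecialLinearGroup (Fin 2) F := mkSL _ hudet
    have hu : (u : Matrix (Fin 2) (Fin 2) F) = (2⁻¹ : F) • ((1 : Matrix (Fin 2) (Fin 2) F) + M) := by
      simp [u, coe_mkSL]
    have hug : u * g * u⁻¹ = w := by
      refine mul_inv_eq_iff_eq_mul.2 (Subtype.ext ?_)
      rw [Matrix.SpecialLinearGroup.coe_mul, Matrix.SpecialLinearGroup.coe_mul, hu, ← hG', ← hW', smul_mul_assoc,
        mul_smul_comm, hM]
      congr 1
      have e2 : G' * W * G' = W := by rw [mul_assoc, eWG, mul_neg, ← mul_assoc, eGG, neg_one_mul, neg_neg]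
      have e3 : W * (G' * W) = G' := by rw [← mul_assoc, eWG, neg_mul, mul_assoc, eWW, mul_neg_one, neg_neg]
      simp only [mul_add, add_mul, one_mul, mul_one, eGG, eWW, eWG, e2, e3]
      abel
    have huw : u * w * u⁻¹ = g * w := by
      refine mul_inv_eq_iff_eq_mul.2 (Subtype.ext ?_)
      rw [Matrix.SpecialLinearGroup.coe_mul, Matrix.SpecialLinearGroup.coe_mul, Matrix.SpecialLinearGroup.coe_mul, hu,
        ← hG', ← hW', smul_mul_assoc, mul_smul_comm, hM]
      congr 1
      have e2 : G' * W * G' = W := by rw [mul_assoc, eWG, mul_neg, ← mul_assoc, eGG, neg_one_mul, neg_neg]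
      have e4 : G' * W * W = -G' := by rw [mul_assoc, eWW, mul_neg_one]
      have e5 : G' * W * (G' * W) = -1 := by rw [← mul_assoc, e2, eWW]
      simp only [mul_add, add_mul, one_mul, mul_one, eWW, e2, e4, e5]
      abel
    have huneg : ∀ z : Matrix.SpecialLinearGroup (Fin 2) F, u * (-z) * u⁻¹ = -(u * z * u⁻¹) := fun z => by
      rw [mul_neg, neg_mul]
    have hm1 : (-1 : Matrix.SpecialLinearGroup (Fin 2) F) ∈ (S : Subgroup (Matrix.SpecialLinearGroup (Fin 2) F)) := by
      rw [← sq_of_trace_zero h0]; exact mul_mem hgC.1 hgC.1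
    have hsneg : ∀ z ∈ (S : Subgroup (Matrix.SpecialLinearGroup (Fin 2) F)), -z ∈ (S : Subgroup (Matrix.SpecialLinearGroup (Fin 2) F)) := fun z hz => by
      rw [← neg_one_mul]; exact mul_mem hm1 hz
    have huC : ∀ z ∈ C, u * z * u⁻¹ ∈ (S : Subgroup (Matrix.SpecialLinearGroup (Fin 2) F)) := by
      intro z hz
      rcases hCel z hz with rfl | rfl | rfl | rfl
      · simp
      · rw [huneg, mul_one, mul_inv_cancel]; exact hm1
      · rw [hug]; exact hwS
      · rw [huneg, hug]; exact hsneg w hwS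
    have huS : ∀ s ∈ (S : Subgroup (Matrix.SpecialLinearGroup (Fin 2) F)), u * s * u⁻¹ ∈ (S : Subgroup (Matrix.SpecialLinearGroup (Fin 2) F)) := by
      intro s hs
      by_cases hsT : s ∈ T
      · exact huC s ⟨hs, hsT⟩
      · have h1 := huC _ ⟨mul_mem (((S : Subgroup (Matrix.SpecialLinearGroup (Fin 2) F))).inv_mem hwS) hs, hout s (hinv s hs hsT)⟩
        have h3 := mul_mem (show u * w * u⁻¹ ∈ (S : Subgroup (Matrix.SpecialLinearGroup (Fin 2) F)) by rw [huw]; exact mul_mem hgC.1 hwS) h1
        rwa [show u * w * u⁻¹ * (u * (w⁻¹ * s) * u⁻¹) = u * s * u⁻¹ by group] at h3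
    have huN : u ∈ N := by
      rw [hN, Subgroup.mem_normalizer_iff_map_conj_eq]
      refine Subgroup.eq_of_le_of_card_ge ?_ ?_
      · rintro _ ⟨s, hs, rfl⟩
        exact huS s hs
      · exact (Nat.card_congr (Subgroup.equivMapOfInjective _ _ (MulAut.conj u).injective).toEquiv).le
    have huS' : u ∉ (S : Subgroup (Matrix.SpecialLinearGroup (Fin 2) F)) := fun h => by
      rcases conj_cases hodd ht (hSN h) with h' | h'
      · rw [hug] at h'; exact hwT (h' ▸ hgT)
      · rw [hug] at h'; exact hwT (h' ▸ T.inv_mem hgT)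
    have h3 : (S : Subgroup (Matrix.SpecialLinearGroup (Fin 2) F)).relIndex N ≤ 3 := by
      set tri : Finset (Subgroup (Matrix.SpecialLinearGroup (Fin 2) F)) :=
        {T, Subgroup.centralizer {w}, Subgroup.centralizer {g * w}}
      have hscal : ∀ {x z : Matrix.SpecialLinearGroup (Fin 2) F}, x = z ∨ x = -z → Subgroup.centralizer ({x} : Set (Matrix.SpecialLinearGroup (Fin 2) F)) = Subgroup.centralizer {z} := by
        rintro x z (rfl | rfl)
        · rfl
        · ext y
          simp only [Subgroup.mem_centralizer_singleton_iff, mul_neg, neg_mul, neg_inj]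
      have himg : ∀ n ∈ N, Subgroup.centralizer ({n * g * n⁻¹} : Set (Matrix.SpecialLinearGroup (Fin 2) F)) ∈ tri := by
        intro n hn
        have hsS := (Subgroup.mem_normalizer_iff.1 hn g).1 hgC.1
        have hns : ¬ IsScalar2 ((n * g * n⁻¹ : Matrix.SpecialLinearGroup (Fin 2) F) : Matrix (Fin 2) (Fin 2) F) :=
          not_scalar_of_trace_sq (by rwa [← trace_eq_of_isConj_sl (isConj_iff.2 ⟨n, rfl⟩)])
        simp only [tri, Finset.mem_insert, Finset.mem_singleton]
        by_cases hsT : n * g * n⁻¹ ∈ T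
        · exact Or.inl (centralizer_eq_of_mem hg hsT hns)
        · rcases hCel _ ⟨mul_mem (((S : Subgroup (Matrix.SpecialLinearGroup (Fin 2) F))).inv_mem hwS) hsS, hout _ (hinv _ hsS hsT)⟩ with h | h | h | h
          · exact Or.inr (Or.inl (hscal (Or.inl (inv_mul_eq_one.1 h).symm)))
          · exact Or.inr (Or.inl (hscal (Or.inr (by rw [inv_mul_eq_iff_eq_mul.1 h, mul_neg_one]))))
          · exact Or.inr (Or.inr (hscal (Or.inr (by rw [inv_mul_eq_iff_eq_mul.1 h, hWG]))))
          · exact Or.inr (Or.inr (hscal (Or.inl (by rw [inv_mul_eq_iff_eq_mul.1 h, mul_neg, hWG, neg_neg]))))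
      have hrel : (S : Subgroup (Matrix.SpecialLinearGroup (Fin 2) F)).relIndex N = Nat.card (N ⧸ (S : Subgroup (Matrix.SpecialLinearGroup (Fin 2) F)).subgroupOf N) := rfl
      rw [hrel]
      let Ψ : N ⧸ (S : Subgroup (Matrix.SpecialLinearGroup (Fin 2) F)).subgroupOf N → tri := fun x => ⟨_, himg (x.out : N) (x.out).2⟩
      have hΨ : Function.Injective Ψ := by
        intro x y hxy
        have h' := congrArg Subtype.val hxy
        simp only [Ψ] at h'
        rw [← Quotient.out_eq' x, ← Quotient.out_eq' y]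
        refine QuotientGroup.eq.2 ?_
        rw [Subgroup.mem_subgroupOf]
        set n : Matrix.SpecialLinearGroup (Fin 2) F := Subtype.val x.out with hn
        set m : Matrix.SpecialLinearGroup (Fin 2) F := Subtype.val y.out with hm
        show n⁻¹ * m ∈ (S : Subgroup (Matrix.SpecialLinearGroup (Fin 2) F))
        have hmem : n⁻¹ * m * g * (n⁻¹ * m)⁻¹ ∈ T := by
          have h1 : m * g * m⁻¹ ∈ Subgroup.centralizer ({n * g * n⁻¹} : Set (Matrix.SpecialLinearGroup (Fin 2) F)) := by
            rw [h']; exact Subgroup.mem_centralizer_singleton_iff.2 rfl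
          rw [Subgroup.mem_centralizer_singleton_iff] at h1
          rw [hT, Subgroup.mem_centralizer_singleton_iff]
          calc n⁻¹ * m * g * (n⁻¹ * m)⁻¹ * g = n⁻¹ * (m * g * m⁻¹ * (n * g * n⁻¹)) * n := by group
            _ = n⁻¹ * (n * g * n⁻¹ * (m * g * m⁻¹)) * n := by rw [h1]
            _ = _ := by group
        exact hNT _ (mul_mem (inv_mem (x.out).2) (y.out).2)
          (eq_or_eq_inv_of_trace hodd ht hmem (trace_eq_of_isConj_sl (isConj_iff.2 ⟨_, rfl⟩)).symm)
      refine le_trans (Nat.card_le_card_of_injective Ψ hΨ) ?_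
      rw [Nat.card_eq_fintype_card, Fintype.card_coe]
      exact Finset.card_le_three
    have hodd' : ¬ 2 ∣ (S : Subgroup (Matrix.SpecialLinearGroup (Fin 2) F)).relIndex N := fun h =>
      S.not_dvd_index (h.trans (Dvd.intro _ (Subgroup.relIndex_mul_index (Subgroup.le_normalizer))))
    have hne1 : (S : Subgroup (Matrix.SpecialLinearGroup (Fin 2) F)).relIndex N ≠ 1 := fun h => huS' (Subgroup.relIndex_eq_one.1 h huN)
    have := Subgroup.card_mul_index ((S : Subgroup (Matrix.SpecialLinearGroup (Fin 2) F)).subgroupOf N)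
    rw [Nat.card_congr (Subgroup.subgroupOfEquivOfLe (Subgroup.le_normalizer)).toEquiv] at this
    change Nat.card (S : Subgroup (Matrix.SpecialLinearGroup (Fin 2) F)) * (S : Subgroup (Matrix.SpecialLinearGroup (Fin 2) F)).relIndex N = Nat.card N at this
    rw [← this, mul_comm]
    congr 1
    omega

end Cfsg.Agent.S2431
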