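import Cfsg.Statements.S2437
import Mathlib
import Cfsg.Agent.Lib.GLTwo.Lines
-- import your own Cfsg.Agent.* helpers here

set_option autoImplicit false
open Cfsg

namespace Cfsg.Agent.S2437

/-- Over a finite field F with q elements, q odd, the upper triangular subgroup of SL₂ (a Borel subgroup, of order q(q − 1)) has exactly q + 3 conjugacy classes. -/
theorem result {F : Type*} [Field F] [Fintype F] (hodd : Odd (Fintype.card F)) :
    Nat.card (ConjClasses ((Cfsg.upperTriangularGL 2 F).comap Matrix.SpecialLinearGroup.toGL)) = Fintype.card F + 3 := by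
  classical
  set B := (Cfsg.upperTriangularGL 2 F).comap (Matrix.SpecialLinearGroup.toGL (n := Fin 2) (R := F)) with hB
  have hmem : ∀ g : Matrix.SpecialLinearGroup (Fin 2) F, g ∈ B ↔ g.1 1 0 = 0 := fun g => by
    rw [hB, Subgroup.mem_comap, CfsgLib.GLTwo.mem_upperTriangular_two]; rfl
  have hdet : ∀ g : B, g.1.1 0 0 * g.1.1 1 1 = 1 := fun g => by
    have := g.1.2
    rwa [Matrix.det_fin_two, (hmem g.1).1 g.2, mul_zero, sub_zero] at this
  let eB : B ≃ Fˣ × F :=
    { toFun := fun g => (⟨g.1.1 0 0, g.1.1 1 1, hdet g, by rw [mul_comm]; exact hdet g⟩, g.1.1 0 1)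
      invFun := fun p => ⟨⟨!![(p.1 : F), p.2; 0, (↑p.1⁻¹ : F)], by simp [Matrix.det_fin_two]⟩, (hmem _).2 (by simp)⟩
      left_inv := fun g => by
        apply Subtype.ext; apply Subtype.ext
        ext i j
        fin_cases i <;> fin_cases j <;> simp [(hmem g.1).1 g.2]
      right_inv := fun p => by ext <;> simp }
  -- the commuting condition
  have hcomm : ∀ g h : B, Commute g h ↔
      ((eB h).2 * (((eB g).1 : F) - ((eB g).1⁻¹ : Fˣ)) = (eB g).2 * (((eB h).1 : F) - ((eB h).1⁻¹ : Fˣ))) := by
    intro g h
    have hg := (hmem g.1).1 g.2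
    have hh := (hmem h.1).1 h.2
    show g * h = h * g ↔ h.1.1 0 1 * (g.1.1 0 0 - g.1.1 1 1) = g.1.1 0 1 * (h.1.1 0 0 - h.1.1 1 1)
    constructor
    · intro e
      have := congrArg (fun x : B => x.1.1 0 1) e
      simp [Matrix.mul_apply, Fin.sum_univ_two] at this
      linear_combination this
    · intro e
      apply Subtype.ext; apply Subtype.ext
      ext i j
      fin_cases i <;> fin_cases j <;> simp [Matrix.mul_apply, Fin.sum_univ_two, hg, hh] <;> first | ring1 | linear_combination e
  let f : Fˣ → F := fun a => (a : F) - ((a⁻¹ : Fˣ) : F)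
  let T := {p : (Fˣ × F) × (Fˣ × F) // p.2.2 * f p.1.1 = p.1.2 * f p.2.1}
  let e1 : {p : B × B // Commute p.1 p.2} ≃ T :=
    Equiv.subtypeEquiv (Equiv.prodCongr eB eB) (fun p => hcomm p.1 p.2)
  let e2 : T ≃ Σ ac : Fˣ × Fˣ, {bd : F × F // bd.2 * f ac.1 = bd.1 * f ac.2} :=
    { toFun := fun p => ⟨(p.1.1.1, p.1.2.1), ⟨(p.1.1.2, p.1.2.2), p.2⟩⟩
      invFun := fun s => ⟨((s.1.1, s.2.1.1), (s.1.2, s.2.1.2)), s.2.2⟩
      left_inv := fun p => rfl
      right_inv := fun s => rfl }
  set q := Fintype.card F with hq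
  have h2 : (2 : F) ≠ 0 := Ring.two_ne_zero (fun h => by
    have := FiniteField.even_card_iff_char_two.1 h
    rw [Nat.odd_iff] at hodd
    omega)
  have hsol : ∀ ac : Fˣ × Fˣ, Nat.card {bd : F × F // bd.2 * f ac.1 = bd.1 * f ac.2} =
      if f ac.1 = 0 ∧ f ac.2 = 0 then q ^ 2 else q := by
    rintro ⟨a, c⟩
    split_ifs with h
    · rw [Nat.card_congr (Equiv.subtypeUnivEquiv (fun bd : F × F => by simp [h.1, h.2])), Nat.card_prod, Nat.card_eq_fintype_card, ← hq, pow_two]
    · rw [hq, ← Nat.card_eq_fintype_card]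
      by_cases ha : f a = 0
      · have hc : f c ≠ 0 := fun hc => h ⟨ha, hc⟩
        exact Nat.card_congr
          { toFun := fun bd => bd.1.2
            invFun := fun d => ⟨(0, d), by simp [ha]⟩
            left_inv := fun bd => by
              obtain ⟨⟨b, d⟩, hbd⟩ := bd
              simp only [ha, mul_zero] at hbd
              have : b = 0 := (mul_eq_zero.1 hbd.symm).resolve_right hc
              simp [this]
            right_inv := fun d => rfl }
      · exact Nat.card_congr
          { toFun := fun bd => bd.1.1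
            invFun := fun b => ⟨(b, b * f c / f a), by simp [div_mul_cancel₀ _ ha]⟩
            left_inv := fun bd => by
              obtain ⟨⟨b, d⟩, hbd⟩ := bd
              apply Subtype.ext
              simp only at hbd ⊢
              rw [← hbd, mul_div_cancel_right₀ _ ha]
            right_inv := fun d => rfl }
  have hf0 : (Finset.univ.filter fun a : Fˣ => f a = 0) = {1, -1} := by
    ext a
    simp only [Finset.mem_filter, Finset.mem_univ, true_and, Finset.mem_insert, Finset.mem_singleton, f]
    rw [sub_eq_zero]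
    constructor
    · intro h
      have h' : a * a = 1 := by
        have : a = a⁻¹ := Units.ext h
        nth_rewrite 2 [this]; exact mul_inv_cancel a
      rcases mul_self_eq_one_iff.1 (show (a : F) * a = 1 by rw [← Units.val_mul, h', Units.val_one]) with h1 | h1
      · exact Or.inl (Units.ext h1)
      · exact Or.inr (Units.ext (by simpa using h1))
    · rintro (rfl | rfl) <;> simp
  have hz : (Finset.univ.filter fun ac : Fˣ × Fˣ => f ac.1 = 0 ∧ f ac.2 = 0).card = 4 := by
    rw [← Finset.univ_product_univ, Finset.filter_product (fun a : Fˣ => f a = 0) (fun a : Fˣ => f a = 0), Finset.card_product, hf0]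
    have : (1 : Fˣ) ≠ -1 := fun h => h2 (by
      have := congrArg Units.val h
      simp at this
      linear_combination this)
    rw [Finset.card_pair this]
  have hu : Fintype.card (Fˣ × Fˣ) = (q - 1) * (q - 1) := by
    rw [Fintype.card_prod, Fintype.card_units, ← hq]
  have hcnt : Nat.card {p : B × B // Commute p.1 p.2} = 4 * q ^ 2 + ((q - 1) * (q - 1) - 4) * q := by
    rw [Nat.card_congr (e1.trans e2), Nat.card_sigma]
    simp only [hsol]
    rw [Finset.sum_ite, Finset.sum_const, Finset.sum_const, hz, smul_eq_mul, smul_eq_mul, Finset.filter_not,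
      Finset.card_sdiff_of_subset (Finset.filter_subset _ _), hz, Finset.card_univ, hu]
  have hBc : Nat.card B = (q - 1) * q := by
    rw [Nat.card_congr eB, Nat.card_prod, Nat.card_units, Nat.card_eq_fintype_card, ← hq]
  have hkey := card_comm_eq_card_conjClasses_mul_card B
  rw [hcnt, hBc] at hkey
  have hq3 : 3 ≤ q := by
    have := Fintype.one_lt_card (α := F)
    rw [Nat.odd_iff] at hodd
    omega
  obtain ⟨k, hk⟩ : ∃ k, q = k + 3 := ⟨q - 3, by omega⟩
  rw [hk] at hkey ⊢
  simp only [show k + 3 - 1 = k + 2 by omega] at hkey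
  rw [show (k + 2) * (k + 2) - 4 = k * k + 4 * k by ring_nf; omega] at hkey
  have : 0 < (k + 2) * (k + 3) := by positivity
  apply Nat.eq_of_mul_eq_mul_right this
  rw [← hkey]; ring

end Cfsg.Agent.S2437
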