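import Cfsg.Statements.S2331
import Cfsg.Agent.Lib.GLTwo.Classes

set_option autoImplicit false
open Cfsg

namespace Cfsg.Agent.S2331

/-- Over a finite field with q elements, q even, the special linear group SL₂ has exactly q + 1 conjugacy classes. -/
theorem result {F : Type*} [Field F] [Fintype F] [CharP F 2] :
    Nat.card (ConjClasses (Matrix.SpecialLinearGroup (Fin 2) F)) = Fintype.card F + 1 := by
  classical
  have hdet : ∀ t : F, (CfsgLib.GLTwo.companion t 1).det = 1 := fun t =>
    CfsgLib.GLTwo.det_companion t 1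
  let ψ : Unit ⊕ F → ConjClasses (Matrix.SpecialLinearGroup (Fin 2) F) := Sum.elim
    (fun _ => ConjClasses.mk 1) (fun t => ConjClasses.mk (CfsgLib.GLTwo.mkSL _ (hdet t)))
  have hone : CfsgLib.GLTwo.IsScalar2
      ((1 : Matrix.SpecialLinearGroup (Fin 2) F) : Matrix (Fin 2) (Fin 2) F) := by
    simp [CfsgLib.GLTwo.IsScalar2]
  have hbij : Function.Bijective ψ := by
    constructor
    · rintro (⟨⟩ | t) (⟨⟩ | t') h <;>
        simp only [ψ, Sum.elim_inl, Sum.elim_inr, ConjClasses.mk_eq_mk_iff_isConj] at h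
      · rfl
      · exact absurd ((congrArg (fun x : Matrix.SpecialLinearGroup (Fin 2) F =>
          CfsgLib.GLTwo.IsScalar2 (x : Matrix (Fin 2) (Fin 2) F)) (CfsgLib.GLTwo.isScalar2_of_conj_sl h hone)).mp hone)
          (CfsgLib.GLTwo.companion_not_scalar t' 1)
      · exact absurd ((congrArg (fun x : Matrix.SpecialLinearGroup (Fin 2) F =>
          CfsgLib.GLTwo.IsScalar2 (x : Matrix (Fin 2) (Fin 2) F)) (CfsgLib.GLTwo.isScalar2_of_conj_sl h.symm hone)).mp hone)
          (CfsgLib.GLTwo.companion_not_scalar t 1)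
      · have := CfsgLib.GLTwo.trace_eq_of_isConj_sl h
        simp only [CfsgLib.GLTwo.coe_mkSL, CfsgLib.GLTwo.trace_companion] at this
        rw [this]
    · intro C
      obtain ⟨x, rfl⟩ := ConjClasses.mk_surjective C
      by_cases hx : CfsgLib.GLTwo.IsScalar2 (x : Matrix (Fin 2) (Fin 2) F)
      · refine ⟨.inl (), congrArg ConjClasses.mk (Subtype.ext ?_)⟩
        have h1 : (x : Matrix (Fin 2) (Fin 2) F) 0 0 = 1 := by
          rcases CfsgLib.GLTwo.scalar_sl hx with h | h
          · exact h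
          · rw [h]; exact CharTwo.neg_eq 1
        rw [(CfsgLib.GLTwo.isScalar2_iff _).1 hx, h1]
        simp
      · refine ⟨.inr (x : Matrix (Fin 2) (Fin 2) F).trace, ?_⟩
        simp only [ψ, Sum.elim_inr, ConjClasses.mk_eq_mk_iff_isConj]
        exact CfsgLib.GLTwo.sl_isConj_of_norm_surj (CfsgLib.GLTwo.companion_not_scalar _ _) hx
          (CfsgLib.GLTwo.trace_companion _ _) (fun r => CfsgLib.GLTwo.norm_surj_even r)
  rw [← Nat.card_congr (Equiv.ofBijective ψ hbij), Nat.card_sum, Nat.card_eq_fintype_card,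
    Nat.card_eq_fintype_card, Fintype.card_unit, add_comm]

end Cfsg.Agent.S2331
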