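import Cfsg.Statements.S2325
import Cfsg.Agent.Lib.GLTwo.Classes

set_option autoImplicit false
open Cfsg

namespace Cfsg.Agent.S2325

/-- Over a finite field with q elements, q odd, the special linear group SL₂ has exactly q + 4 conjugacy classes. -/
theorem result {F : Type*} [Field F] [Fintype F] (hodd : Odd (Fintype.card F)) :
    Nat.card (ConjClasses (Matrix.SpecialLinearGroup (Fin 2) F)) = Fintype.card F + 4 := by
  classical
  have hF : ringChar F ≠ 2 := fun h => by
    have := FiniteField.even_card_iff_char_two.1 h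
    rw [Nat.odd_iff] at hodd
    omega
  have h2 : (2 : F) ≠ 0 := Ring.two_ne_zero hF
  obtain ⟨ε, hε⟩ := FiniteField.exists_nonsquare hF
  have hε0 : ε ≠ 0 := fun h => hε (h ▸ IsSquare.zero)
  let sg : Bool → F := fun s => if s then 1 else -1
  have hsg : ∀ s, sg s * sg s = 1 := by intro s; cases s <;> simp [sg]
  have hsgi : Function.Injective sg := by
    intro a b h
    cases a <;> cases b <;> simp [sg] at h ⊢ <;>
      first | exact h2 (by linear_combination h) | exact h2 (by linear_combination -h)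
  have hsg0 : ∀ s, sg s ≠ 0 := by intro s; cases s <;> simp [sg]
  let cb : Bool → F := fun b => if b then 1 else ε
  have hcb : ∀ b, cb b ≠ 0 := by intro b; cases b <;> simp [cb, hε0]
  have hdet : ∀ s, (sg s • (1 : Matrix (Fin 2) (Fin 2) F)).det = 1 := by
    intro s; cases s <;> simp [sg, Matrix.det_fin_two]
  let ψ : Bool ⊕ ({t : F // t ^ 2 ≠ 4} ⊕ (Bool × Bool)) →
      ConjClasses (Matrix.SpecialLinearGroup (Fin 2) F) := Sum.elim
    (fun s => ConjClasses.mk (CfsgLib.GLTwo.mkSL _ (hdet s)))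
    (Sum.elim (fun t => ConjClasses.mk (CfsgLib.GLTwo.mkSL _ (CfsgLib.GLTwo.det_companion t.1 1)))
      (fun p => ConjClasses.mk (CfsgLib.GLTwo.jordanSL (sg p.1) (cb p.2) (hsg p.1))))
  have hsq4 : ∀ s, (2 * sg s) ^ 2 = 4 := by intro s; cases s <;> simp [sg] <;> norm_num
  have hscal : ∀ s, CfsgLib.GLTwo.IsScalar2
      (CfsgLib.GLTwo.mkSL _ (hdet s) : Matrix (Fin 2) (Fin 2) F) := fun s =>
    CfsgLib.GLTwo.isScalar2_smul_one _
  have hbij : Function.Bijective ψ := by
    constructor
    · rintro (s | t | ⟨s, b⟩) (s' | t' | ⟨s', b'⟩) h <;>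
        simp only [ψ, Sum.elim_inl, Sum.elim_inr, ConjClasses.mk_eq_mk_iff_isConj] at h
      · have := congrArg (fun x : Matrix.SpecialLinearGroup (Fin 2) F =>
          (x : Matrix (Fin 2) (Fin 2) F) 0 0) (CfsgLib.GLTwo.isScalar2_of_conj_sl h (hscal s))
        simp [CfsgLib.GLTwo.coe_mkSL] at this
        rw [hsgi this]
      · exact absurd ((congrArg (fun x : Matrix.SpecialLinearGroup (Fin 2) F =>
          CfsgLib.GLTwo.IsScalar2 (x : Matrix (Fin 2) (Fin 2) F)) (CfsgLib.GLTwo.isScalar2_of_conj_sl h (hscal s))).mp (hscal s))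
          (CfsgLib.GLTwo.companion_not_scalar _ _)
      · exact absurd ((congrArg (fun x : Matrix.SpecialLinearGroup (Fin 2) F =>
          CfsgLib.GLTwo.IsScalar2 (x : Matrix (Fin 2) (Fin 2) F)) (CfsgLib.GLTwo.isScalar2_of_conj_sl h (hscal s))).mp (hscal s))
          (CfsgLib.GLTwo.jordanSL_not_scalar _ _ _ (hcb b'))
      · exact absurd ((congrArg (fun x : Matrix.SpecialLinearGroup (Fin 2) F =>
          CfsgLib.GLTwo.IsScalar2 (x : Matrix (Fin 2) (Fin 2) F)) (CfsgLib.GLTwo.isScalar2_of_conj_sl h.symm (hscal s'))).mp (hscal s'))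
          (CfsgLib.GLTwo.companion_not_scalar _ _)
      · have := CfsgLib.GLTwo.trace_eq_of_isConj_sl h
        simp only [CfsgLib.GLTwo.coe_mkSL, CfsgLib.GLTwo.trace_companion] at this
        rw [Subtype.ext this]
      · have := CfsgLib.GLTwo.trace_eq_of_isConj_sl h
        rw [CfsgLib.GLTwo.coe_mkSL, CfsgLib.GLTwo.trace_companion,
          CfsgLib.GLTwo.trace_jordanSL] at this
        exact absurd (this ▸ hsq4 s') t.2
      · exact absurd ((congrArg (fun x : Matrix.SpecialLinearGroup (Fin 2) F =>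
          CfsgLib.GLTwo.IsScalar2 (x : Matrix (Fin 2) (Fin 2) F)) (CfsgLib.GLTwo.isScalar2_of_conj_sl h.symm (hscal s'))).mp (hscal s'))
          (CfsgLib.GLTwo.jordanSL_not_scalar _ _ _ (hcb b))
      · have := CfsgLib.GLTwo.trace_eq_of_isConj_sl h
        rw [CfsgLib.GLTwo.coe_mkSL, CfsgLib.GLTwo.trace_companion,
          CfsgLib.GLTwo.trace_jordanSL] at this
        exact absurd (this ▸ hsq4 s) t'.2
      · have := CfsgLib.GLTwo.trace_eq_of_isConj_sl h
        rw [CfsgLib.GLTwo.trace_jordanSL, CfsgLib.GLTwo.trace_jordanSL] at this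
        obtain rfl := hsgi (mul_left_cancel₀ h2 this)
        rw [CfsgLib.GLTwo.jordan_isConj_iff _ _ _ _ (hcb b) (hcb b')] at h
        cases b <;> cases b' <;> simp [cb, hε] at h ⊢
    · intro C
      obtain ⟨x, rfl⟩ := ConjClasses.mk_surjective C
      by_cases hx : CfsgLib.GLTwo.IsScalar2 (x : Matrix (Fin 2) (Fin 2) F)
      · obtain ⟨s, hs⟩ : ∃ s, (x : Matrix (Fin 2) (Fin 2) F) 0 0 = sg s := by
          rcases CfsgLib.GLTwo.scalar_sl hx with h | h
          · exact ⟨true, by simp [sg, h]⟩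
          · exact ⟨false, by simp [sg, h]⟩
        refine ⟨.inl s, congrArg ConjClasses.mk (Subtype.ext ?_)⟩
        rw [(CfsgLib.GLTwo.isScalar2_iff _).1 hx, hs]
        rfl
      · by_cases ht : (x : Matrix (Fin 2) (Fin 2) F).trace ^ 2 = 4
        · obtain ⟨s, hs⟩ : ∃ s, (x : Matrix (Fin 2) (Fin 2) F).trace = 2 * sg s := by
            rcases sq_eq_sq_iff_eq_or_eq_neg.1
              (ht.trans (by norm_num : (4 : F) = 2 ^ 2)) with h | h
            · exact ⟨true, by simp [sg, h]⟩
            · exact ⟨false, by simp [sg, h]⟩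
          obtain ⟨b, hb, hc⟩ := CfsgLib.GLTwo.exists_jordan hx (hsg s) hs
          refine ⟨.inr (.inr (s, decide (IsSquare b))), ?_⟩
          simp only [ψ, Sum.elim_inr, ConjClasses.mk_eq_mk_iff_isConj]
          refine ((CfsgLib.GLTwo.jordan_isConj_iff _ _ _ _ (hcb _) hb).2 ?_).trans hc.symm
          by_cases hsq : IsSquare b
          · simp [cb, hsq]
          · simp only [cb, hsq, decide_false, Bool.false_eq_true, if_false]
            rw [← quadraticChar_one_iff_isSquare (mul_ne_zero hε0 hb), map_mul,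
              quadraticChar_neg_one_iff_not_isSquare.2 hsq,
              quadraticChar_neg_one_iff_not_isSquare.2 hε]
            norm_num
        · refine ⟨.inr (.inl ⟨_, ht⟩), ?_⟩
          simp only [ψ, Sum.elim_inr, Sum.elim_inl, ConjClasses.mk_eq_mk_iff_isConj]
          refine CfsgLib.GLTwo.sl_isConj_of_norm_surj (CfsgLib.GLTwo.companion_not_scalar _ _) hx
            (CfsgLib.GLTwo.trace_companion _ _) (fun r => CfsgLib.GLTwo.norm_surj_odd hF ?_ r)
          rw [CfsgLib.GLTwo.coe_mkSL, CfsgLib.GLTwo.trace_companion]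
          exact ht
  rw [← Nat.card_congr (Equiv.ofBijective ψ hbij), Nat.card_eq_fintype_card, Fintype.card_sum,
    Fintype.card_sum, Fintype.card_prod, Fintype.card_bool]
  have hne : (2 : F) ≠ -2 := fun h => h2 ((mul_self_eq_zero (a := (2 : F))).1 (by linear_combination h))
  have hfil : (Finset.univ.filter fun t : F => ¬ t ^ 2 ≠ 4) = {2, -2} := by
    ext t
    rw [Finset.mem_filter, not_not, show (4 : F) = 2 ^ 2 by norm_num]
    simp [sq_eq_sq_iff_eq_or_eq_neg]
  have hcount := Finset.card_filter_add_card_filter_not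
    (s := (Finset.univ : Finset F)) (fun t : F => t ^ 2 ≠ 4)
  rw [hfil, Finset.card_pair hne, Finset.card_univ] at hcount
  rw [Fintype.card_subtype]
  omega

end Cfsg.Agent.S2325
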