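import Cfsg.Statements.S1510
import Mathlib

set_option autoImplicit false
set_option linter.style.haveILetI false
open Cfsg

namespace Cfsg.Agent.S1510

/-- Let L be a finite group with a normal subgroup K and a nontrivial cyclic subgroup W₁ of order coprime to its index, K ⊓ W₁ = ⊥ and K ⊔ W₁ = ⊤; let W₂ ≠ ⊥ be a cyclic subgroup of K with K ⊓ C_L(x) = W₂ for every non-identity x ∈ W₁, and suppose W₁ ⊔ W₂ has odd order. Then (W₁, W₂) is a self-normalising cyclic pair in L. -/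
theorem result {L : Type*} [Group L] [Fintype L] (K W₁ W₂ : Subgroup L) [hK : K.Normal] (hKW₁ : K ⊓ W₁ = ⊥) (hKW₁' : K ⊔ W₁ = ⊤) (hW₁ : W₁ ≠ ⊥) (hW₁c : IsCyclic W₁) (hHall : Nat.Coprime (Nat.card W₁) W₁.index) (hW₂ : W₂ ≠ ⊥) (hW₂c : IsCyclic W₂) (hW₂K : W₂ ≤ K) (hC : ∀ x ∈ W₁, x ≠ 1 → K ⊓ Subgroup.centralizer ({x} : Set L) = W₂) (hodd : Odd (Nat.card ↥(W₁ ⊔ W₂))) : Cfsg.IsSelfNormalizingCyclic W₁ W₂ := by
  classical
  have hcop : Nat.Coprime (Nat.card W₁) (Nat.card K) := by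
    have hcompl : Subgroup.IsComplement' K W₁ :=
      Subgroup.isComplement'_of_disjoint_and_mul_eq_univ (disjoint_iff.2 hKW₁)
        (by rw [← Subgroup.normal_mul, hKW₁', Subgroup.coe_top])
    rwa [← hcompl.index_eq_card]
  have hdisj : W₁ ⊓ W₂ = ⊥ := le_bot_iff.1 (by
    rw [← hKW₁, inf_comm K]; exact inf_le_inf_left _ hW₂K)
  have hcomm : ∀ a ∈ W₁, ∀ b ∈ W₂, a * b = b * a := by
    intro a ha b hb
    by_cases h1 : a = 1
    · simp [h1]
    · rw [← hC a ha h1] at hb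
      exact (Subgroup.mem_centralizer_singleton_iff.1 hb.2).symm
  have hnorm : W₁ ≤ Subgroup.normalizer (W₂ : Set L) := by
    intro a ha
    rw [Subgroup.mem_normalizer_iff]
    intro v
    have e : ∀ w ∈ W₂, a * w * a⁻¹ = w := fun w hw => by
      rw [hcomm a ha w hw, mul_inv_cancel_right]
    refine ⟨fun hv => by rwa [e v hv], fun hv => ?_⟩
    have h2 := e _ hv
    have h3 : a * v * a⁻¹ = v := by simpa [mul_assoc] using congrArg (fun z => a⁻¹ * z * a) h2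
    rwa [h3] at hv
  have hmem : ∀ w ∈ W₁ ⊔ W₂, ∃ a ∈ W₁, ∃ b ∈ W₂, w = a * b := by
    intro w hw
    rw [← SetLike.mem_coe, Subgroup.coe_mul_of_left_le_normalizer_right W₁ W₂ hnorm] at hw
    obtain ⟨a, ha, b, hb, rfl⟩ := Set.mem_mul.1 hw
    exact ⟨a, ha, b, hb, rfl⟩
  have hcop2 : Nat.Coprime (Nat.card W₁) (Nat.card W₂) :=
    hcop.coprime_dvd_right (Subgroup.card_dvd_of_le hW₂K)
  have hcyc : IsCyclic ↥(W₁ ⊔ W₂) := by
    obtain ⟨a, ha⟩ := hW₁c.exists_generator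
    obtain ⟨b, hb⟩ := hW₂c.exists_generator
    have oa : orderOf (a : L) = Nat.card W₁ := by
      rw [Subgroup.orderOf_coe, orderOf_eq_card_of_forall_mem_zpowers ha]
    have ob : orderOf (b : L) = Nat.card W₂ := by
      rw [Subgroup.orderOf_coe, orderOf_eq_card_of_forall_mem_zpowers hb]
    have hcab : Commute (a : L) b := hcomm a a.2 b b.2
    have hab : (a : L) * b ∈ W₁ ⊔ W₂ :=
      mul_mem (Subgroup.mem_sup_left a.2) (Subgroup.mem_sup_right b.2)
    refine isCyclic_of_orderOf_eq_card ⟨_, hab⟩ ?_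
    rw [Subgroup.orderOf_mk, hcab.orderOf_mul_eq_mul_orderOf_of_coprime
      (by rw [oa, ob]; exact hcop2), oa, ob, ← Nat.card_prod]
    refine Nat.card_eq_of_bijective (fun p => (⟨(p.1 : L) * p.2,
      mul_mem (Subgroup.mem_sup_left p.1.2) (Subgroup.mem_sup_right p.2.2)⟩ : ↥(W₁ ⊔ W₂))) ⟨?_, ?_⟩
    · rintro ⟨p, q⟩ ⟨p', q'⟩ e
      have e' : (p : L) * q = p' * q' := congrArg Subtype.val e
      have hm : (p' : L)⁻¹ * p ∈ W₁ ⊓ W₂ := by
        refine ⟨W₁.mul_mem (W₁.inv_mem p'.2) p.2, ?_⟩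
        have : (p' : L)⁻¹ * p = (q' : L) * (q : L)⁻¹ := by
          rw [inv_mul_eq_iff_eq_mul, ← mul_assoc, ← e', mul_inv_cancel_right]
        rw [this]
        exact W₂.mul_mem q'.2 (W₂.inv_mem q.2)
      rw [hdisj, Subgroup.mem_bot, inv_mul_eq_one] at hm
      rw [hm] at e'
      exact Prod.ext (Subtype.ext hm.symm) (Subtype.ext (mul_left_cancel e'))
    · rintro ⟨w, hw⟩
      obtain ⟨p, hp, q, hq, rfl⟩ := hmem w hw
      exact ⟨(⟨p, hp⟩, ⟨q, hq⟩), rfl⟩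
  refine ⟨hW₁, hW₂, hdisj, hcomm, hcyc, fun X hX hne => le_antisymm (fun g hg => ?_) fun w hw => ?_⟩
  · obtain ⟨t, ht⟩ := hne
    have ht' := hX ht
    obtain ⟨a, ha, b, hb, rfl⟩ := hmem t ht'.1
    have ha1 : a ≠ 1 := fun h => ht'.2 (Or.inr (by simpa [h] using hb))
    obtain ⟨a', ha', b', hb', he⟩ :=
      hmem _ (hX ((Subgroup.mem_set_normalizer_iff.1 hg _).1 ht)).1
    obtain ⟨e, he1, he0⟩ := Nat.chineseRemainder hcop2 1 0
    rw [Nat.modEq_zero_iff_dvd] at he0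
    have hpow : ∀ p ∈ W₁, ∀ q ∈ W₂, (p * q) ^ e = p := by
      intro p hp q hq
      have h1 : q ^ e = 1 := orderOf_dvd_iff_pow_eq_one.1
        ((Subgroup.orderOf_dvd_natCard _ hq).trans he0)
      have h2 : p ^ e = p := by
        conv_rhs => rw [← pow_one p]
        exact pow_eq_pow_iff_modEq.2 (Nat.ModEq.of_dvd (Subgroup.orderOf_dvd_natCard _ hp) he1)
      rw [(show Commute p q from hcomm p hp q hq).mul_pow, h1, h2, mul_one]
    have hga : g * a * g⁻¹ = a' := by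
      have := congrArg (fun z => z ^ e) he
      simpa [conj_pow, hpow a ha b hb, hpow a' ha' b' hb'] using this
    obtain ⟨k, hk, w, hw, rfl⟩ : ∃ k ∈ K, ∃ w ∈ W₁, g = k * w := by
      have : g ∈ (↑(K ⊔ W₁) : Set L) := by rw [hKW₁']; trivial
      rw [Subgroup.normal_mul] at this
      obtain ⟨k, hk, w, hw, e⟩ := Set.mem_mul.1 this
      exact ⟨k, hk, w, hw, e.symm⟩
    haveI := hW₁c
    have hwa : w * a * w⁻¹ = a := by
      have := congrArg Subtype.val (mul_comm' (⟨w, hw⟩ : W₁) ⟨a, ha⟩)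
      simp only [MulMemClass.mk_mul_mk] at this
      rw [this, mul_inv_cancel_right]
    have hga2 : k * a * k⁻¹ = a' := by
      rw [← hga]
      calc k * a * k⁻¹ = k * (w * a * w⁻¹) * k⁻¹ := by rw [hwa]
        _ = _ := by group
    have haa : a' = a := by
      have hm : a' * a⁻¹ ∈ K ⊓ W₁ := by
        refine ⟨?_, W₁.mul_mem ha' (W₁.inv_mem ha)⟩
        rw [← hga2, show k * a * k⁻¹ * a⁻¹ = k * (a * k⁻¹ * a⁻¹) by group]
        exact K.mul_mem hk (hK.conj_mem _ (K.inv_mem hk) a)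
      rw [hKW₁, Subgroup.mem_bot, mul_inv_eq_one] at hm
      exact hm
    have hk2 : k ∈ W₂ := by
      rw [← hC a ha ha1]
      exact ⟨hk, Subgroup.mem_centralizer_singleton_iff.2
        (mul_inv_eq_iff_eq_mul.1 (hga2.trans haa))⟩
    exact mul_mem (Subgroup.mem_sup_right hk2) (Subgroup.mem_sup_left hw)
  · haveI := hcyc
    have key : ∀ v ∈ W₁ ⊔ W₂, ∀ u ∈ W₁ ⊔ W₂, v * u * v⁻¹ = u := fun v hv u hu => by
      have := congrArg Subtype.val (mul_comm' (⟨v, hv⟩ : ↥(W₁ ⊔ W₂)) ⟨u, hu⟩)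
      simp only [MulMemClass.mk_mul_mk] at this
      rw [this, mul_inv_cancel_right]
    rw [Subgroup.mem_set_normalizer_iff]
    intro u
    refine ⟨fun hu => by rwa [key w hw u (hX hu).1], fun hu => ?_⟩
    have h2 := key w⁻¹ (inv_mem hw) _ (hX hu).1
    have h3 : u = w * u * w⁻¹ := by simpa [mul_assoc] using h2
    rwa [← h3] at hu

end Cfsg.Agent.S1510
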