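import Cfsg.Statements.S0840
import Cfsg.Agent.Lib.CharApps.ClassCount
import Mathlib

set_option autoImplicit false
set_option linter.style.haveILetI false
open scoped ComplexConjugate
open Cfsg

namespace Cfsg.Agent.S0840

/-- Class multiplication coefficients from the character table: for elements a, b, c of a finite group G, the number of ordered pairs (x, y) with x conjugate to a, y conjugate to b and x * y = c equals the product of the sizes of the conjugacy classes of a and b, divided by the order of G, times the sum over the irreducible characters χ of χ a * χ b * conj (χ c) / χ 1. -/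
theorem result {G : Type*} [Group G] [Finite G] (a b c : G) : (Nat.card {p : G × G // IsConj a p.1 ∧ IsConj b p.2 ∧ p.1 * p.2 = c} : ℂ) = (Nat.card {x : G // IsConj a x} : ℂ) * (Nat.card {x : G // IsConj b x} : ℂ) / (Nat.card G : ℂ) * ∑ᶠ χ : Cfsg.IrrCharacter G, (χ : G → ℂ) a * (χ : G → ℂ) b * conj ((χ : G → ℂ) c) / (χ : G → ℂ) 1 := by
  classical
  haveI := Fintype.ofFinite G
  letI := CfsgLib.Chars.irrFintype G
  have h := CfsgLib.CharApps.card_conj_mul_conj a b c
  let P := {p : G × G // IsConj a p.1 ∧ IsConj b p.2 ∧ p.1 * p.2 = c}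
  let f : {ab : G × G // (ab.1 * a * ab.1⁻¹) * (ab.2 * b * ab.2⁻¹) = c} → P := fun q =>
    ⟨(q.1.1 * a * q.1.1⁻¹, q.1.2 * b * q.1.2⁻¹), isConj_iff.2 ⟨_, rfl⟩, isConj_iff.2 ⟨_, rfl⟩, q.2⟩
  have hfib : ∀ p : P, Nat.card {q // f q = p} =
      Nat.card (Subgroup.centralizer ({a} : Set G)) * Nat.card (Subgroup.centralizer ({b} : Set G)) := by
    intro p
    rw [← CfsgLib.CharApps.card_conj_fiber a p.2.1, ← CfsgLib.CharApps.card_conj_fiber b p.2.2.1,
      ← Nat.card_prod]
    refine Nat.card_congr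
      { toFun := fun q => (⟨q.1.1.1, congrArg (fun r : P => r.1.1) q.2⟩,
          ⟨q.1.1.2, congrArg (fun r : P => r.1.2) q.2⟩)
        invFun := fun r => ⟨⟨(r.1.1, r.2.1), by
            show r.1.1 * a * r.1.1⁻¹ * (r.2.1 * b * r.2.1⁻¹) = c
            rw [r.1.2, r.2.2, p.2.2.2]⟩, Subtype.ext (Prod.ext r.1.2 r.2.2)⟩
        left_inv := fun q => rfl
        right_inv := fun r => rfl }
  rw [← Nat.card_congr (Equiv.sigmaFiberEquiv f), Nat.card_sigma,
    Finset.sum_congr rfl (fun p _ => hfib p), Finset.sum_const, Finset.card_univ, smul_eq_mul,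
    ← Nat.card_eq_fintype_card] at h
  have ka := CfsgLib.Chars.card_isConj_mul_card_centralizer a
  have kb := CfsgLib.Chars.card_isConj_mul_card_centralizer b
  have ha : (Nat.card {x : G // IsConj a x} : ℂ) * (Nat.card (Subgroup.centralizer ({a} : Set G)) : ℂ)
      = Nat.card G := by exact_mod_cast ka
  have hb : (Nat.card {x : G // IsConj b x} : ℂ) * (Nat.card (Subgroup.centralizer ({b} : Set G)) : ℂ)
      = Nat.card G := by exact_mod_cast kb
  rw [finsum_eq_sum_of_fintype]
  have hG := CfsgLib.Chars.card_ne_zero G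
  set T := ∑ χ : Cfsg.IrrCharacter G, (χ : G → ℂ) a * (χ : G → ℂ) b *
    (starRingEnd ℂ) ((χ : G → ℂ) c) / (χ : G → ℂ) 1
  have hT : ∑ χ : Cfsg.IrrCharacter G, (χ : G → ℂ) a * (χ : G → ℂ) b * (χ : G → ℂ) c⁻¹ /
      (χ : G → ℂ) 1 = T :=
    Finset.sum_congr rfl fun χ _ => by rw [CfsgLib.Chars.irr_inv]
  rw [hT] at h
  push_cast at h
  show (Nat.card P : ℂ) = _
  set A := (Nat.card {x : G // IsConj a x} : ℂ)
  set B := (Nat.card {x : G // IsConj b x} : ℂ)
  set N := (Nat.card P : ℂ)
  set g := (Nat.card G : ℂ)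
  set ca := (Nat.card (Subgroup.centralizer ({a} : Set G)) : ℂ)
  set cb := (Nat.card (Subgroup.centralizer ({b} : Set G)) : ℂ)
  field_simp
  apply mul_left_cancel₀ hG
  linear_combination A * B * h - N * g * hb - N * B * cb * ha

end Cfsg.Agent.S0840
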