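import Cfsg.Statements.S1078
import Cfsg.Agent.Lib.Steinberg.Center
import Cfsg.Agent.Lib.Steinberg.Data
import Cfsg.Agent.Lib.Chev.OrderTypes


set_option autoImplicit false
open Cfsg

namespace Cfsg.Agent.S1078

/-- For G₂, F₄, E₈ the presented group has trivial centre (the universal and adjoint groups coincide). -/
theorem result {K : Type*} [Field K] (D : Cfsg.Lie.ChevalleyDatum) (hD : D ∈ [Cfsg.Lie.chevG2, Cfsg.Lie.chevF4, Cfsg.Lie.chevE8]) :
    Subgroup.center (D.SteinbergGroup K) = ⊥ := by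
    have e2 : (![1, 1] : Fin 2 → ℕ) = fun _ => 1 := by decide
    have e4 : (![1, 1, 1, 1] : Fin 4 → ℕ) = fun _ => 1 := by decide
    have e8 : (![1, 1, 1, 1, 1, 1, 1, 1] : Fin 8 → ℕ) = fun _ => 1 := by decide
    simp only [List.mem_cons, List.not_mem_nil, or_false] at hD
    rcases hD with rfl | rfl | rfl
    · exact CfsgLib.Steinberg.center_bot CfsgLib.Chev.stdG2 CfsgLib.Steinberg.splitG2
        (e2 ▸ CfsgLib.Chev.smithG2)
    · exact CfsgLib.Steinberg.center_bot CfsgLib.Chev.stdF4 CfsgLib.Steinberg.splitF4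
        (e4 ▸ CfsgLib.Chev.smithF4)
    · exact CfsgLib.Steinberg.center_bot CfsgLib.Chev.stdE8 CfsgLib.Steinberg.splitE8
        (e8 ▸ CfsgLib.Chev.smithE8)

end Cfsg.Agent.S1078
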