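import Cfsg.Statements.S2397
import Cfsg.Agent.Lib.Steinberg.R3


set_option autoImplicit false
open Cfsg

namespace Cfsg.Agent.S2397

/-- Over a finite field the relators (R3) h̄_r(t₁) h̄_r(t₂) = h̄_r(t₁ t₂) are consequences of (R1) and (R2): for each of the types G₂, B₂, D₄, F₄, E₆, E₇, E₈ (for types B₂ and G₂ the field must have more than two elements — the cases where the Chevalley group is not simple are set aside) the group presented by (R1), (R2) is canonically isomorphic to the one presented by (R1)–(R3), by an isomorphism matching the generators x̄_r(t). -/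
theorem result {K : Type*} [Field K] [Finite K] (D : Cfsg.Lie.ChevalleyDatum) (hD : D ∈ [Cfsg.Lie.chevG2, Cfsg.Lie.chevB2, Cfsg.Lie.chevD4, Cfsg.Lie.chevF4, Cfsg.Lie.chevE6, Cfsg.Lie.chevE7, Cfsg.Lie.chevE8]) (hK : D ∈ [Cfsg.Lie.chevB2, Cfsg.Lie.chevG2] → ∃ x : K, x ≠ 0 ∧ x ≠ 1) :
    ∃ e : D.SteinbergCover K ≃* D.SteinbergGroup K, ∀ (r : ℕ) (t : K), e (D.scGen K r t) = D.stGen K r t := by
    obtain ⟨A, h, hC⟩ := CfsgLib.Steinberg.data_of_mem hD
    have h1 : ∀ y ∈ D.steinbergRelsAB K,
        FreeGroup.lift (fun p => PresentedGroup.of (rels := D.steinbergRels K) p) y = 1 := by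
      intro y hy
      have := PresentedGroup.one_of_mem (rels := D.steinbergRels K) (Or.inl hy)
      rw [← this]
      exact congrFun (congrArg DFunLike.coe (FreeGroup.ext_hom _ _ fun a => by simp [PresentedGroup.of] :
        FreeGroup.lift (fun p => PresentedGroup.of (rels := D.steinbergRels K) p) =
          PresentedGroup.mk (D.steinbergRels K))) y
    have h2 : ∀ y ∈ D.steinbergRels K,
        FreeGroup.lift (fun p => PresentedGroup.of (rels := D.steinbergRelsAB K) p) y = 1 := by
      intro y hy
      rw [← CfsgLib.Steinberg.mk_relC h hC hy]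
      exact congrFun (congrArg DFunLike.coe (FreeGroup.ext_hom _ _ fun a => by simp [PresentedGroup.of] :
        FreeGroup.lift (fun p => PresentedGroup.of (rels := D.steinbergRelsAB K) p) =
          PresentedGroup.mk (D.steinbergRelsAB K))) y
    refine ⟨MonoidHom.toMulEquiv (PresentedGroup.toGroup h1) (PresentedGroup.toGroup h2)
      (PresentedGroup.ext fun a => by simp) (PresentedGroup.ext fun a => by simp), fun r t => ?_⟩
    show PresentedGroup.toGroup h1 (PresentedGroup.mk _ (D.stX r t)) = PresentedGroup.mk _ (D.stX r t)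
    unfold Cfsg.Lie.ChevalleyDatum.stX
    split_ifs with hr
    · exact PresentedGroup.toGroup.of h1
    · simp

end Cfsg.Agent.S2397
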