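import Cfsg.Statements.S3963
import Cfsg.Agent.Lib.Schur.Bounds
open CfsgLib.Schur Cfsg Subgroup

set_option autoImplicit false
open Cfsg

namespace Cfsg.Agent.S3963

/-- For every `n ≥ 1` the dicyclic (generalized quaternion) group of order `4 n` has trivial Schur multiplier. -/
theorem result (n : ℕ) [NeZero n] : Cfsg.HasCyclicSchurMultiplier (QuaternionGroup n) 1 := by
  refine hasCyclicSchurMultiplier_one_of_forall fun Γ _ _ σ hs => ?_
  obtain ⟨a, ha⟩ := hs.1 (QuaternionGroup.a 1)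
  obtain ⟨x, hx⟩ := hs.1 (QuaternionGroup.xa 0)
  have hgen : Subgroup.closure ({a, x} ∪ (center Γ : Set Γ)) = ⊤ := by
    refine closure_union_center_eq_top σ hs.2.1 _ ?_
    rw [Set.image_pair, ha, hx, eq_top_iff]
    intro g _
    have hA : ∀ i, QuaternionGroup.a i ∈ Subgroup.closure
        ({QuaternionGroup.a 1, QuaternionGroup.xa 0} : Set (QuaternionGroup n)) := fun i => by
      rw [← ZMod.natCast_zmod_val i, ← QuaternionGroup.a_one_pow]
      exact pow_mem (subset_closure (by simp)) _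
    rcases g with i | i
    · exact hA i
    · rw [show QuaternionGroup.xa i = QuaternionGroup.xa 0 * QuaternionGroup.a i by simp]
      exact mul_mem (subset_closure (by simp)) (hA i)
  have hk : a * (x * a * x⁻¹) ∈ center Γ := hs.2.1 (by
    rw [MonoidHom.mem_ker, map_mul, map_mul, map_mul, map_inv, ha, hx]
    have hi : (QuaternionGroup.xa (0 : ZMod (2 * n)))⁻¹ = QuaternionGroup.xa ((n : ZMod (2 * n)) + 0) :=
      rfl
    rw [hi, ← QuaternionGroup.a_zero]
    simp only [QuaternionGroup.xa_mul_a, QuaternionGroup.xa_mul_xa, QuaternionGroup.a_mul_a]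
    congr 1
    have h2n : (n : ZMod (2 * n)) + n = 0 := by rw [← Nat.cast_add, ← two_mul, ZMod.natCast_self]
    linear_combination h2n)
  have hn : Commute (a ^ n) x := by
    have h1 : a ^ n * (x ^ 2)⁻¹ ∈ center Γ := hs.2.1 (by
      rw [MonoidHom.mem_ker, map_mul, map_inv, map_pow, map_pow, ha, hx, QuaternionGroup.a_one_pow,
        sq, QuaternionGroup.xa_mul_xa, add_sub_assoc, sub_zero, add_zero, mul_inv_cancel])
    rw [show a ^ n = a ^ n * (x ^ 2)⁻¹ * x ^ 2 by group]
    exact (Commute.symm (mem_center_iff.1 h1 x : Commute x _)).mul_left ((Commute.refl x).pow_left 2)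
  obtain ⟨hle, hw⟩ := commutator_le_zpowers_of_dihedral_type a x hgen hk
    (show x * a * x⁻¹ = a⁻¹ * (a * (x * a * x⁻¹)) by group) hn
  rw [eq_bot_iff]
  intro z hz
  obtain ⟨j, rfl⟩ := mem_zpowers_iff.1 (hle (hs.2.2 hz))
  set w := a * a * (a * (x * a * x⁻¹))⁻¹ with hwd
  have hkk : σ (a * (x * a * x⁻¹)) = 1 := by
    have hi : (QuaternionGroup.xa (0 : ZMod (2 * n)))⁻¹ = QuaternionGroup.xa ((n : ZMod (2 * n)) + 0) :=
      rfl
    rw [map_mul, map_mul, map_mul, map_inv, ha, hx, hi, ← QuaternionGroup.a_zero]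
    simp only [QuaternionGroup.xa_mul_a, QuaternionGroup.xa_mul_xa, QuaternionGroup.a_mul_a]
    congr 1
    have h2n : (n : ZMod (2 * n)) + n = 0 := by rw [← Nat.cast_add, ← two_mul, ZMod.natCast_self]
    linear_combination h2n
  have h2 : (QuaternionGroup.a (1 : ZMod (2 * n)) : QuaternionGroup n) ^ (2 * j) = 1 := by
    rw [zpow_mul, ← MonoidHom.mem_ker.1 hz, map_zpow, hwd, map_mul _ (a * a), map_inv, hkk, inv_one,
      mul_one, map_mul, ha, ← sq]
    norm_cast
  rw [← orderOf_dvd_iff_zpow_eq_one, QuaternionGroup.orderOf_a_one, Nat.cast_mul] at h2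
  push_cast at h2
  obtain ⟨i, rfl⟩ : (n : ℤ) ∣ j := (mul_dvd_mul_iff_left (by norm_num : (2 : ℤ) ≠ 0)).1 h2
  rw [mem_bot, zpow_mul, zpow_natCast, hw, one_zpow]

end Cfsg.Agent.S3963
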