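import Cfsg.Statements.S2495
import Cfsg.Agent.Lib.KnownB.PrimeGraphLin
import Cfsg.Agent.Lib.KnownB.PSLOrders
import Cfsg.Agent.Lib.Recog.ZsigmondyPrime

set_option autoImplicit false
open Cfsg

namespace Cfsg.Agent.S2495

open Polynomial Matrix CfsgLib.KnownB.ElementOrders CfsgLib.KnownB.PSLOrders CfsgLib.KnownB.PrimeGraph

variable {F : Type*} [Field F] [Fintype F]

theorem geom_modEq : ∀ d : ℕ, geom F d ≡ d [MOD Fintype.card F - 1]
  | 0 => by simp [geom, Nat.ModEq]
  | d + 1 => by
    have hq : 0 < Fintype.card F - 1 := Nat.sub_pos_of_lt Fintype.one_lt_card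
    have h : geom F (d + 1) = Fintype.card F * geom F d + 1 := by
      refine Nat.eq_of_mul_eq_mul_left hq ?_
      rw [mul_add, mul_left_comm, geom_mul, geom_mul, mul_one, pow_succ']
      have h1 := Nat.one_le_pow d (Fintype.card F) Fintype.card_pos
      have h2 : Fintype.card F * (Fintype.card F ^ d - 1) = Fintype.card F * Fintype.card F ^ d - Fintype.card F := by
        rw [Nat.mul_sub, mul_one]
      have h3 : Fintype.card F ≤ Fintype.card F * Fintype.card F ^ d := Nat.le_mul_of_pos_right _ (by omega)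
      omega
    rw [h]
    refine Nat.ModEq.add_right 1 ?_
    have h1 : Fintype.card F ≡ 1 [MOD Fintype.card F - 1] :=
      ((Nat.modEq_iff_dvd' Fintype.card_pos).2 dvd_rfl).symm
    simpa using h1.mul (geom_modEq d)

theorem gcd_geom (d : ℕ) : Nat.gcd (geom F d) (Fintype.card F - 1) = Nat.gcd d (Fintype.card F - 1) :=
  (geom_modEq d).gcd_eq

theorem gcd_dvd_half_iff {m Q : ℕ} (hm : 0 < m) (hQ : 0 < Q) :
    Nat.gcd (2 * m) Q ∣ m ↔ padicValNat 2 Q < padicValNat 2 (2 * m) := by
  haveI := Fact.mk Nat.prime_two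
  rw [padicValNat.mul two_ne_zero hm.ne', padicValNat.self Nat.one_lt_two]
  constructor
  · intro h
    by_contra hle
    have hle' : padicValNat 2 m + 1 ≤ padicValNat 2 Q := by omega
    have h1 : 2 ^ (padicValNat 2 m + 1) ∣ Q := (pow_dvd_pow 2 hle').trans pow_padicValNat_dvd
    have h2 : 2 ^ (padicValNat 2 m + 1) ∣ 2 * m := by
      rw [pow_succ']; exact mul_dvd_mul_left 2 pow_padicValNat_dvd
    exact pow_succ_padicValNat_not_dvd hm.ne' ((Nat.dvd_gcd h2 h1).trans h)
  · intro hlt
    have hg : Nat.gcd (2 * m) Q ≠ 0 := (Nat.gcd_pos_of_pos_right _ hQ).ne'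
    rw [← Nat.factorization_le_iff_dvd hg hm.ne']
    intro x
    have h1 := (Nat.factorization_le_iff_dvd hg (by omega)).2 (Nat.gcd_dvd_left (2 * m) Q) x
    have h2 := (Nat.factorization_le_iff_dvd hg hQ.ne').2 (Nat.gcd_dvd_right (2 * m) Q) x
    rw [Nat.factorization_mul two_ne_zero hm.ne', Finsupp.add_apply] at h1
    by_cases hx : x = 2
    · subst hx
      rw [Nat.factorization_def _ Nat.prime_two, Nat.factorization_def _ Nat.prime_two] at h2 ⊢
      omega
    · rw [Nat.Prime.factorization Nat.prime_two, Finsupp.single_eq_of_ne hx, zero_add] at h1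
      exact h1

/-- An element of an extension killed by `q - 1` lies in the field. -/
theorem exists_algebraMap {K : Type*} [Field K] [Algebra F K] {x : K}
    (h : x ^ (Fintype.card F - 1) = 1) : ∃ c : F, x = algebraMap F K c := by
  have hroot : ((X ^ Fintype.card F - X : F[X]).map (algebraMap F K)).IsRoot x := by
    rw [Polynomial.map_sub, Polynomial.map_pow, Polynomial.map_X, IsRoot, eval_sub, eval_pow, eval_X,
      ← Nat.sub_add_cancel (Fintype.card_pos (α := F)), pow_succ, h, one_mul, sub_self]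
  have hroots := FiniteField.roots_X_pow_card_sub_X F
  have hsplit : ((X ^ Fintype.card F - X : F[X]).map (algebraMap F K)).roots =
      (X ^ Fintype.card F - X : F[X]).roots.map (algebraMap F K) := by
    refine (Polynomial.roots_map_of_injective_of_card_eq_natDegree (algebraMap F K).injective ?_).symm
    rw [hroots, Finset.card_val, Finset.card_univ, FiniteField.X_pow_card_sub_X_natDegree_eq _ Fintype.one_lt_card]
  have hne : ((X ^ Fintype.card F - X : F[X]).map (algebraMap F K)) ≠ 0 :=
    (Polynomial.map_ne_zero_iff (algebraMap F K).injective).2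
      (FiniteField.X_pow_card_sub_X_ne_zero F Fintype.one_lt_card)
  have hx := (Polynomial.mem_roots hne).2 hroot
  rw [hsplit] at hx
  obtain ⟨c, -, hc⟩ := Multiset.mem_map.1 hx
  exact ⟨c, hc.symm⟩

/-- Let q be an odd prime power, n ≥ 4 even, and L = PSL(n,q). Then L has an element of order q^(n/2) + 1 if and only if the 2-part of n exceeds the 2-part of q − 1. -/
theorem result {F : Type*} [Field F] [Fintype F] {q : ℕ} (hF : Fintype.card F = q) (hodd : Odd q)
    {n : ℕ} (hn : 4 ≤ n) (heven : Even n) :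
    (∃ g : Matrix.ProjectiveSpecialLinearGroup (Fin n) F, orderOf g = q ^ (n / 2) + 1) ↔
      padicValNat 2 (q - 1) < padicValNat 2 n := by
  classical
  subst hF
  obtain ⟨m, rfl⟩ := heven.two_dvd
  rw [Nat.mul_div_cancel_left m two_pos]
  obtain ⟨p, hp⟩ := CharP.exists F
  haveI := Fact.mk (CharP.char_is_prime F p)
  have hq : 0 < Fintype.card F - 1 := Nat.sub_pos_of_lt Fintype.one_lt_card
  set q := Fintype.card F with hqdef
  have hfac : q ^ (2 * m) - 1 = (q ^ m + 1) * (q ^ m - 1) := by
    rw [mul_comm 2, pow_mul]; simpa using Nat.sq_sub_sq (q ^ m) 1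
  have hgeom : geom F (2 * m) = (q ^ m + 1) * geom F m := by
    refine Nat.eq_of_mul_eq_mul_left hq ?_
    rw [geom_mul, mul_left_comm, geom_mul, hfac]
  have hgpos : 0 < Nat.gcd (geom F (2 * m)) (q - 1) := Nat.gcd_pos_of_pos_right _ hq
  have hcrit : q ^ m + 1 ∣ singer F (2 * m) ↔ padicValNat 2 (q - 1) < padicValNat 2 (2 * m) := by
    rw [← gcd_dvd_half_iff (by omega) hq, singer,
      Nat.dvd_div_iff_mul_dvd (Nat.gcd_dvd_left _ _), ← hqdef, gcd_geom (F := F) (2 * m), ← hqdef, hgeom,
      mul_comm, Nat.mul_dvd_mul_iff_left (Nat.succ_pos _)]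
    constructor
    · intro h
      have := Nat.dvd_gcd h (Nat.gcd_dvd_right (2 * m) (q - 1))
      rw [hqdef, gcd_geom (F := F) m] at this
      exact this.trans (Nat.gcd_dvd_left _ _)
    · intro h
      have := Nat.dvd_gcd h (Nat.gcd_dvd_right (2 * m) (q - 1))
      rw [hqdef, ← gcd_geom (F := F) m] at this
      exact this.trans (Nat.gcd_dvd_left _ _)
  rw [← hcrit]
  constructor
  · rintro ⟨x, hx⟩
    obtain ⟨r, hr, hord⟩ := CfsgLib.Recog.ZsigmondyPrime.exists_primitive_prime (a := q) (n := 2 * m)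
      Fintype.one_lt_card (by omega) (fun h => by rw [h.1] at hodd; exact absurd hodd (by decide))
    change ordQ F r = 2 * m at hord
    have hrp : r ≠ p := fun h => by
      haveI := Fact.mk hr
      have h0 : ((Fintype.card F : ℕ) : ZMod r) = 0 := by
        obtain ⟨f, -, hf⟩ := FiniteField.card F p
        rw [ZMod.natCast_eq_zero_iff, hf, h]
        exact dvd_pow_self p f.ne_zero
      rw [ordQ, h0, orderOf_zero] at hord
      omega
    have hrT : r ∣ q ^ m + 1 := by
      refine ((Nat.Prime.dvd_mul hr).1 (hfac ▸ (dvd_pow_sub_one_iff _).2 hord.dvd)).resolve_right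
        fun hd => ?_
      have := Nat.le_of_dvd (by omega) ((dvd_pow_sub_one_iff (F := F) (r := r) m).1 hd)
      omega
    have hrq : ¬ r ∣ q - 1 := not_dvd_card_sub_one (by omega)
    obtain ⟨g, rfl⟩ := QuotientGroup.mk_surjective x
    set A := (g : Matrix (Fin (2 * m)) (Fin (2 * m)) F) with hA
    obtain ⟨c, hc⟩ := hrT
    have h1 : A ^ (r * (c * (q - 1))) = 1 := by
      rw [← mul_assoc, ← hc, hA, ← sl_pow_eq_one_iff]
      exact scalar_pow_eq_one (by rw [← hx, pow_orderOf_eq_one])
    have h2 : A ^ (c * (q - 1)) ≠ 1 := fun h => by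
      have hg : g ^ (c * (q - 1)) = 1 := (sl_pow_eq_one_iff _ _).2 h
      have hdvd : q ^ m + 1 ∣ c * (q - 1) := hx ▸ orderOf_dvd_of_pow_eq_one (by
        rw [← QuotientGroup.mk_pow, hg, QuotientGroup.mk_one])
      rw [hc, mul_comm r c] at hdvd
      have hc0 : 0 < c := Nat.pos_of_ne_zero fun h0 => by rw [h0, mul_zero] at hc; omega
      exact hrq (Nat.dvd_of_mul_dvd_mul_left hc0 hdvd)
    have hF0 : ((r * (c * (q - 1)) : ℕ) : F) ≠ 0 := by
      rw [← mul_assoc, ← hc, Nat.cast_mul, Nat.cast_add, Nat.cast_pow,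
        Nat.cast_sub Fintype.card_pos, Nat.cast_one, hqdef, FiniteField.cast_card_eq_zero,
        zero_pow (by omega : m ≠ 0), zero_add, zero_sub, one_mul]
      exact neg_ne_zero.2 one_ne_zero
    obtain ⟨f, hf, hfm, hfA, hf1, hf2⟩ := exists_factor hF0 h1 h2
    have hdeg : f.natDegree = 2 * m := le_antisymm (natDegree_le_of_dvd_minpoly hfA)
      (hord ▸ Nat.le_of_dvd hf.natDegree_pos (ordQ_dvd_natDegree hr hf hf1 hf2))
    have hfQ : A.charpoly = f := eq_of_monic_of_dvd_of_natDegree_le hfm (Matrix.charpoly_monic A)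
      (hfA.trans (Matrix.minpoly_dvd_charpoly A))
      (by rw [Matrix.charpoly_natDegree_eq_dim, Fintype.card_fin, hdeg])
    haveI := Fact.mk hf
    haveI : Module.Finite F (AdjoinRoot f) := (AdjoinRoot.powerBasis hf.ne_zero).finite
    haveI : Finite (AdjoinRoot f) := Module.finite_of_finite F
    have hcard := card_adjoinRoot (F := F) hf.ne_zero
    rw [hdeg] at hcard
    set α := AdjoinRoot.root f
    have hα1 : α ^ geom F (2 * m) = 1 := by
      have hn := Algebra.PowerBasis.norm_gen_eq_coeff_zero_minpoly (AdjoinRoot.powerBasis hf.ne_zero)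
      rw [AdjoinRoot.powerBasis_gen, AdjoinRoot.powerBasis_dim, AdjoinRoot.minpoly_root hf.ne_zero,
        hfm.leadingCoeff, inv_one, C_1, mul_one, hdeg] at hn
      have hd := Matrix.det_eq_sign_charpoly_coeff A
      rw [g.det_coe, Fintype.card_fin, hfQ] at hd
      have h := FiniteField.algebraMap_norm_eq_pow (K := F) (K' := AdjoinRoot f) (x := α)
      rw [hn, ← hd, map_one, hcard, Nat.card_eq_fintype_card] at h
      exact h.symm
    obtain ⟨e, he⟩ := exists_algebraMap (F := F) (x := α ^ singer F (2 * m)) (by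
      rw [← pow_mul, singer]
      obtain ⟨d, hd⟩ : geom F (2 * m) ∣
          geom F (2 * m) / Nat.gcd (geom F (2 * m)) (Fintype.card F - 1) * (Fintype.card F - 1) := by
        rw [← Nat.mul_div_right_comm (Nat.gcd_dvd_left _ _), Nat.mul_div_assoc _ (Nat.gcd_dvd_right _ _)]
        exact dvd_mul_right _ _
      rw [hd, pow_mul, hα1, one_pow])
    rw [← hx]
    refine orderOf_dvd_of_pow_eq_one (mk_pow_eq_one_iff.2 ⟨e, ?_⟩)
    have hdvd : f ∣ X ^ singer F (2 * m) - C e := AdjoinRoot.mk_eq_zero.1 (by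
      rw [map_sub, map_pow, AdjoinRoot.mk_X, AdjoinRoot.mk_C, he, AdjoinRoot.algebraMap_eq, sub_self])
    obtain ⟨w, hw⟩ := hdvd
    have hev := congrArg (aeval A) hw
    rw [map_mul, ← hfQ, Matrix.aeval_self_charpoly, zero_mul, map_sub, map_pow, aeval_X, aeval_C, sub_eq_zero] at hev
    exact hev
  · intro h
    obtain ⟨x, hx⟩ := exists_singer_order (F := F) (n := 2 * m) (by omega)
    exact mem_range_orderOf_of_dvd (h.trans hx)

end Cfsg.Agent.S2495
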