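import Cfsg.Statements.S2496
import Cfsg.Agent.S2495
import Cfsg.Agent.Lib.KnownB.UnitaryEigen

set_option autoImplicit false
open Cfsg

namespace Cfsg.Agent.S2496

open Polynomial Matrix CfsgLib.Classical.Unitary CfsgLib.KnownB.PrimeGraph CfsgLib.KnownB.UnitaryEigen

variable {F : Type*} [Field F] [Fintype F] {q : ℕ}

/-- The target order. -/
def tgt (q m : ℕ) : ℕ := if Even m then q ^ m + 1 else q ^ m - 1

/-- `(q ^ m - (-1) ^ m) / (q + 1)`. -/
def cof (q m : ℕ) : ℕ := (if Even m then q ^ m - 1 else q ^ m + 1) / (q + 1)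

theorem cof_mul (hq : 1 ≤ q) (m : ℕ) : (q + 1) * cof q m = if Even m then q ^ m - 1 else q ^ m + 1 := by
  refine Nat.mul_div_cancel' ?_
  split
  · rename_i h
    obtain ⟨i, rfl⟩ := h
    rw [← two_mul, pow_mul]
    refine dvd_trans ?_ (by simpa using Nat.sub_dvd_pow_sub_pow (q ^ 2) 1 i)
    exact ⟨q - 1, by simpa using Nat.sq_sub_sq q 1⟩
  · rename_i h
    simpa using (Nat.not_even_iff_odd.1 h).nat_add_dvd_pow_add_pow q 1

theorem dvd_cof_iff (hq : 1 ≤ q) {m d : ℕ} (hd : d ∣ q + 1) : d ∣ cof q m ↔ d ∣ m := by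
  set S : ℤ := ∑ i ∈ Finset.range m, (-(q : ℤ)) ^ i with hS
  have h1 : ((q : ℤ) + 1) * -S = (-(q : ℤ)) ^ m - 1 := by
    rw [← geom_sum_mul (-(q : ℤ)) m, ← hS]; ring
  have h2 : ((q : ℤ) + 1) * (cof q m : ℤ) = if Even m then (q : ℤ) ^ m - 1 else (q : ℤ) ^ m + 1 := by
    have := congrArg (Nat.cast : ℕ → ℤ) (cof_mul hq m)
    push_cast at this
    rw [this]
    split <;> simp [Nat.cast_sub (Nat.one_le_pow m q hq)]
  have hdiff : (d : ℤ) ∣ S - m := by
    have : S - (m : ℤ) = ∑ i ∈ Finset.range m, ((-(q : ℤ)) ^ i - 1) := by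
      rw [Finset.sum_sub_distrib, ← hS]; simp
    rw [this]
    refine Finset.dvd_sum fun i _ => dvd_trans ?_ (sub_one_dvd_pow_sub_one (-(q : ℤ)) i)
    rw [show (-(q : ℤ)) - 1 = -((q + 1 : ℕ) : ℤ) by push_cast; ring, dvd_neg]
    exact Int.natCast_dvd_natCast.2 hd
  have hq0 : ((q : ℤ) + 1) ≠ 0 := by omega
  have hcases : (cof q m : ℤ) = S ∨ (cof q m : ℤ) = -S := by
    rcases Nat.even_or_odd m with he | ho
    · right
      refine mul_left_cancel₀ hq0 ?_
      rw [h1, h2, if_pos he, he.neg_pow]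
    · left
      refine mul_left_cancel₀ hq0 ?_
      rw [h2, if_neg (Nat.not_even_iff_odd.2 ho)]
      rw [ho.neg_pow] at h1
      linear_combination h1
  rw [← Int.natCast_dvd_natCast, ← Int.natCast_dvd_natCast (n := m)]
  rcases hcases with h | h <;> rw [h]
  · exact ⟨fun h' => by simpa using dvd_sub h' hdiff, fun h' => by simpa using dvd_add hdiff h'⟩
  · rw [dvd_neg]
    exact ⟨fun h' => by simpa using dvd_sub h' hdiff, fun h' => by simpa using dvd_add hdiff h'⟩

theorem tgt_mul_cof (hq : 1 ≤ q) (m : ℕ) : (q + 1) * (tgt q m * cof q m) = q ^ (2 * m) - 1 := by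
  rw [mul_left_comm, cof_mul hq, tgt, show q ^ (2 * m) - 1 = (q ^ m + 1) * (q ^ m - 1) by
    rw [mul_comm 2, pow_mul]; simpa using Nat.sq_sub_sq (q ^ m) 1]
  split
  · rfl
  · exact mul_comm _ _

/-- Let q be an odd prime power, n ≥ 4 even, and U = PSU(n,q) (realised over the field with q² elements). Then U has an element of order q^(n/2) + (−1)^(n/2) — that is, q^(n/2) + 1 when n/2 is even and q^(n/2) − 1 when n/2 is odd — if and only if the 2-part of n exceeds the 2-part of q + 1. -/
theorem result {F : Type*} [Field F] [Fintype F] {q : ℕ} (hF : Fintype.card F = q ^ 2) (hodd : Odd q)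
    {n : ℕ} (hn : 4 ≤ n) (heven : Even n) :
    (∃ g : Cfsg.PSU n F q, orderOf g = if Even (n / 2) then q ^ (n / 2) + 1 else q ^ (n / 2) - 1) ↔
      padicValNat 2 (q + 1) < padicValNat 2 n := by
  classical
  obtain ⟨m, rfl⟩ := heven
  rw [show (m + m) / 2 = m by omega, show m + m = 2 * m by omega]
  rw [show (if Even m then q ^ m + 1 else q ^ m - 1) = tgt q m from rfl]
  have hm : 2 ≤ m := by omega
  obtain ⟨σ, h⟩ := exists_uFrob (F := F) (q := q) (by rw [Nat.card_eq_fintype_card, hF])
  obtain ⟨p, hp⟩ := CharP.exists F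
  haveI := Fact.mk (CharP.char_is_prime F p)
  have hq2 : 2 ≤ q := by
    rcases q with _ | _ | q
    · simp at hodd
    · have := Fintype.one_lt_card (α := F); rw [hF] at this; norm_num at this
    · omega
  have hq1 : 1 ≤ q := by omega
  set d := Nat.gcd (2 * m) (q + 1) with hd
  set T := tgt q m with hT
  set H := cof q m with hH
  have hG := tgt_mul_cof hq1 m
  rw [← hT, ← hH] at hG
  have hT0 : 0 < T := by
    rw [hT, tgt]; split
    · omega
    · exact Nat.sub_pos_of_lt (Nat.one_lt_pow (by omega) hq2)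
  have hcrit : d ∣ H ↔ padicValNat 2 (q + 1) < padicValNat 2 (2 * m) := by
    rw [hH, dvd_cof_iff hq1 (Nat.gcd_dvd_right _ _)]
    exact Cfsg.Agent.S2495.gcd_dvd_half_iff (by omega) (Nat.succ_pos q)
  rw [← hcrit]
  have hdq : d ∣ q + 1 := Nat.gcd_dvd_right _ _
  have hscal : ∀ {c : F}, c ≠ 0 → c * σ c = 1 → c ^ (q + 1) = 1 := fun _ hc => by
    rw [pow_succ, ← h.pow, mul_comm, hc]
  have hcenter : ∀ (g : Cfsg.SU (m + m) F q) (c : F), g.1.1 = algebraMap F _ c →
      g ∈ Subgroup.center (Cfsg.SU (m + m) F q) := fun g c hc => by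
    refine Subgroup.mem_center_iff.2 fun k => Subtype.ext (Subtype.ext ?_)
    show k.1.1 * g.1.1 = g.1.1 * k.1.1
    rw [hc]
    exact (Algebra.commutes c k.1.1).symm
  rw [show 2 * m = m + m by omega] at hd ⊢
  constructor
  · rintro ⟨x, hx⟩
    obtain ⟨g, rfl⟩ := QuotientGroup.mk_surjective x
    set A := g.1.1 with hA
    -- the primitive prime
    obtain ⟨r, hr, hord⟩ := CfsgLib.Recog.ZsigmondyPrime.exists_primitive_prime (a := q)
      (n := if Even m then 2 * m else m) hq2 (by
        split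
        · omega
        · rename_i he; obtain ⟨i, hi⟩ := Nat.not_even_iff_odd.1 he; omega)
      (fun h' => by rw [h'.1] at hodd; exact absurd hodd (by decide))
    haveI := Fact.mk hr
    have hrdvd : ∀ j, r ∣ q ^ j - 1 ↔ (if Even m then 2 * m else m) ∣ j := fun j => by
      rw [← hord, ← ZMod.natCast_eq_zero_iff, Nat.cast_sub (Nat.one_le_pow _ _ hq1), Nat.cast_pow,
        Nat.cast_one, sub_eq_zero]
      exact orderOf_dvd_iff_pow_eq_one.symm
    have hrm : r ∣ q ^ (2 * m) - 1 := (hrdvd _).2 (by split; exacts [dvd_rfl, dvd_mul_left _ _])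
    have hordQ : ordQ F r = m := by
      rw [ordQ, hF, Nat.cast_pow, orderOf_pow' _ two_ne_zero, hord]
      split
      · rw [Nat.gcd_eq_right (dvd_mul_right 2 m), Nat.mul_div_cancel_left _ two_pos]
      · rename_i he
        rw [(Nat.coprime_two_right.2 (Nat.not_even_iff_odd.1 he)).gcd_eq_one, Nat.div_one]
    have hrp : r ≠ p := by
      rintro rfl
      have h0 : ((q : ℕ) : ZMod r) = 0 := by
        obtain ⟨e, -, he⟩ := FiniteField.card F r
        rw [ZMod.natCast_eq_zero_iff]
        exact hr.dvd_of_dvd_pow (hF ▸ he ▸ dvd_pow_self r e.ne_zero)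
      rw [h0, orderOf_zero] at hord
      split at hord <;> omega
    have hrq : ¬ r ∣ q + 1 := fun hd' => by
      have := (hrdvd 2).1 (hd'.trans ⟨q - 1, by simpa using Nat.sq_sub_sq q 1⟩)
      have h3 := Nat.le_of_dvd two_pos this
      split at h3
      · omega
      · rename_i he; obtain ⟨i, hi⟩ := Nat.not_even_iff_odd.1 he; omega
    have hr2 : r ≠ 2 := fun e => hrq (e ▸ hodd.add_one.two_dvd)
    have hrT : r ∣ T := by
      rw [hT, tgt]
      split
      · rename_i he
        refine ((Nat.Prime.dvd_mul hr).1 (show r ∣ (q ^ m + 1) * (q ^ m - 1) by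
          convert hrm using 1; rw [mul_comm 2, pow_mul]; simpa using (Nat.sq_sub_sq (q ^ m) 1).symm)).resolve_right
          fun hd' => ?_
        have := (hrdvd m).1 hd'
        rw [if_pos he] at this
        have := Nat.le_of_dvd (by omega) this
        omega
      · rename_i he
        exact (hrdvd m).2 (by rw [if_neg he])
    obtain ⟨c, hc⟩ := hrT
    have hc0 : 0 < c := Nat.pos_of_ne_zero fun h0 => by rw [h0, mul_zero] at hc; omega
    have hsl : ∀ k, g ^ k = 1 ↔ A ^ k = 1 := fun k =>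
      ⟨fun e => congrArg (fun z : Cfsg.SU (m + m) F q => z.1.1) e, fun e => Subtype.ext (Subtype.ext e)⟩
    have hA1 : A ^ (r * (c * (q + 1))) = 1 := by
      rw [← mul_assoc, ← hc, ← hsl, pow_mul]
      have hmem : g ^ T ∈ Subgroup.center (Cfsg.SU (m + m) F q) :=
        (QuotientGroup.eq_one_iff _).1 (hx ▸ pow_orderOf_eq_one (QuotientGroup.mk g : Cfsg.PSU (m + m) F q))
      obtain ⟨e, he1, -, he2⟩ := CfsgLib.Classical.SU_center_scalar (by rw [Nat.card_eq_fintype_card, hF])
        (by omega) hmem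
      refine Subtype.ext (Subtype.ext ?_)
      show (g ^ T).1.1 ^ (q + 1) = 1
      rw [he2, Matrix.diagonal_pow, ← Matrix.diagonal_one]
      congr 1
      funext i
      rw [Pi.pow_apply, he1]
    have hA2 : A ^ (c * (q + 1)) ≠ 1 := fun e => by
      have hdvd : T ∣ c * (q + 1) := hx ▸ orderOf_dvd_of_pow_eq_one (by
        rw [← QuotientGroup.mk_pow, (hsl _).2 e, QuotientGroup.mk_one])
      rw [hc, mul_comm r c] at hdvd
      exact hrq (Nat.dvd_of_mul_dvd_mul_left hc0 hdvd)
    have hqF : (q : F) = 0 := by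
      have h2' := FiniteField.cast_card_eq_zero F
      rw [hF, Nat.cast_pow] at h2'
      exact eq_zero_of_pow_eq_zero h2'
    have hF0 : ((r * (c * (q + 1)) : ℕ) : F) ≠ 0 := by
      rw [← mul_assoc, ← hc, hT, tgt, Nat.cast_mul, Nat.cast_add, hqF, Nat.cast_one, zero_add, mul_one]
      split
      · rw [Nat.cast_add, Nat.cast_pow, hqF, zero_pow (by omega), zero_add, Nat.cast_one]
        exact one_ne_zero
      · rw [Nat.cast_sub (Nat.one_le_pow _ _ hq1), Nat.cast_pow, hqF, zero_pow (by omega), Nat.cast_one, zero_sub]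
        exact neg_ne_zero.2 one_ne_zero
    obtain ⟨f, hf, hfm, hfA, hf1, hf2⟩ := exists_factor hF0 hA1 hA2
    have hAu : Aᵀ * A.map σ = 1 := su_mul h g
    have hf0 : f.coeff 0 ≠ 0 := coeff_zero_ne_of_dvd hf1
      (coeff_zero_X_pow_sub_one (Nat.mul_pos hr.pos (Nat.mul_pos hc0 (Nat.succ_pos q))))
    have hdeg := hordQ ▸ ordQ_dvd_natDegree hr hf hf1 hf2
    have hdual := dualM_dvd_minpoly h hAu hf0 hfA
    have hne : dualM σ f ≠ f := fun e => by
      obtain ⟨hD, hdvd⟩ := self_paired h hF hf hf0 e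
      haveI := Fact.mk hf
      set β := AdjoinRoot.root f ^ (c * (q + 1)) with hβ
      have hβr : β ^ r = 1 := by
        have h' := AdjoinRoot.mk_eq_zero.2 hf1
        rw [map_sub, map_pow, AdjoinRoot.mk_X, map_one, sub_eq_zero] at h'
        rw [hβ, ← pow_mul, mul_comm, h']
      have hβ1 : β ≠ 1 := fun e' => hf2 (AdjoinRoot.mk_eq_zero.1
        (by rw [map_sub, map_pow, AdjoinRoot.mk_X, map_one, ← hβ, e', sub_self]))
      have hβh : β ^ (q ^ f.natDegree + 1) = 1 := by
        have h0 := AdjoinRoot.mk_eq_zero.2 hdvd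
        rw [map_sub, map_pow, AdjoinRoot.mk_X, map_one, sub_eq_zero] at h0
        rw [hβ, ← pow_mul, mul_comm, pow_mul, h0, one_pow]
      have hr1 : r ∣ q ^ f.natDegree + 1 := by
        have := orderOf_dvd_of_pow_eq_one hβh
        rwa [orderOf_eq_prime hβr hβ1] at this
      have hmodd : ¬ Even m := fun he => (Nat.not_even_iff_odd.2 hD) (he.two_dvd.trans hdeg |> even_iff_two_dvd.2)
      have h3 : r ∣ q ^ f.natDegree - 1 := (hrdvd _).2 (by rw [if_neg hmodd]; exact hdeg)
      have h4 := Nat.dvd_sub hr1 h3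
      rw [show q ^ f.natDegree + 1 - (q ^ f.natDegree - 1) = 2 by
        have := Nat.one_le_pow f.natDegree q hq1; omega] at h4
      exact hr2 ((Nat.prime_dvd_prime_iff_eq hr Nat.prime_two).1 h4)
    have hdm : (dualM σ f).Monic := revM_monic (map_coeff_zero_ne hf0)
    have hdi := irreducible_dualM h hf hf0
    have hco : IsCoprime f (dualM σ f) := hf.coprime_iff_not_dvd.2 fun hdv =>
      hne (eq_of_monic_of_associated hdm hfm (hf.associated_of_dvd hdi hdv).symm)
    have hdd := natDegree_dualM (σ := σ) hf0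
    have hprod : (f * dualM σ f).natDegree ≤ m + m := natDegree_le_of_dvd_minpoly (hco.mul_dvd hfA hdual)
    rw [natDegree_mul hf.ne_zero hdi.ne_zero, hdd] at hprod
    have hfd : f.natDegree = m := le_antisymm (by omega) (Nat.le_of_dvd hf.natDegree_pos hdeg)
    have hchar : A.charpoly = f * dualM σ f :=
      (eq_of_monic_of_dvd_of_natDegree_le (hfm.mul hdm) (Matrix.charpoly_monic A)
        ((hco.mul_dvd hfA hdual).trans (Matrix.minpoly_dvd_charpoly A))
        (by rw [Matrix.charpoly_natDegree_eq_dim, Fintype.card_fin, natDegree_mul hf.ne_zero hdi.ne_zero, hdd, hfd]))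
    have hfix : σ (f.coeff 0) = f.coeff 0 := by
      have hd' := Matrix.det_eq_sign_charpoly_coeff A
      rw [show A.det = 1 from g.1.2, Fintype.card_fin, hchar, mul_coeff_zero, coeff_zero_dualM hfm,
        show ((-1 : F)) ^ (m + m) = 1 from Even.neg_one_pow ⟨m, rfl⟩, one_mul, ← div_eq_mul_inv, eq_comm,
        div_eq_one_iff_eq ((map_ne_zero σ).2 hf0)] at hd'
      exact hd'.symm
    haveI := Fact.mk hf
    haveI : Module.Finite F (AdjoinRoot f) := (AdjoinRoot.powerBasis hf.ne_zero).finite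
    haveI : Finite (AdjoinRoot f) := Module.finite_of_finite F
    set α := AdjoinRoot.root f with hα
    have hcard := CfsgLib.KnownB.ElementOrders.card_adjoinRoot (F := F) hf.ne_zero
    rw [hfd] at hcard
    have hQeven : Even (q - 1) := Nat.Odd.sub_odd hodd odd_one
    have hαG : α ^ (T * H) = 1 := by
      have hN := FiniteField.algebraMap_norm_eq_pow (K := F) (K' := AdjoinRoot f) (x := α)
      have hn' := Algebra.PowerBasis.norm_gen_eq_coeff_zero_minpoly (AdjoinRoot.powerBasis hf.ne_zero)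
      rw [AdjoinRoot.powerBasis_gen, AdjoinRoot.powerBasis_dim, AdjoinRoot.minpoly_root hf.ne_zero,
        hfm.leadingCoeff, inv_one, C_1, mul_one, hfd] at hn'
      rw [hn', hcard, Nat.card_eq_fintype_card, hF, ← pow_mul q 2 m] at hN
      obtain ⟨J, hJ⟩ : q ^ 2 - 1 ∣ q ^ (2 * m) - 1 := by
        rw [pow_mul]; simpa using Nat.sub_dvd_pow_sub_pow (q ^ 2) 1 m
      have hq21 : q ^ 2 - 1 = (q + 1) * (q - 1) := by simpa using Nat.sq_sub_sq q 1
      have hTH : T * H = J * (q - 1) := by
        refine Nat.eq_of_mul_eq_mul_left (Nat.succ_pos q) ?_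
        rw [hG, hJ, hq21, Nat.succ_eq_add_one]; ring
      rw [hJ, Nat.mul_div_cancel_left _ (by rw [hq21]; exact Nat.mul_pos (Nat.succ_pos q) (by omega))] at hN
      rw [hTH, pow_mul, ← hN, ← map_pow, mul_pow, ← pow_mul, (hQeven.mul_left m).neg_one_pow, one_mul]
      have hfq : f.coeff 0 ^ (q - 1) = 1 := by
        refine mul_right_cancel₀ hf0 ?_
        rw [← pow_succ, Nat.sub_add_cancel hq1, one_mul, ← h.pow, hfix]
      rw [hfq, map_one]
    obtain ⟨k, hk⟩ : d ∣ T * H := by
      -- the target is even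
      have hTe : 2 ∣ T := by
        rw [hT, tgt]; split
        · exact hodd.pow.add_one.two_dvd
        · exact (Nat.Odd.sub_odd hodd.pow odd_one).two_dvd
      rw [hd, show m + m = 2 * m by omega]
      have h5 : Nat.gcd (q + 1) (2 * m) ∣ Nat.gcd (q + 1) 2 * Nat.gcd (q + 1) m := Nat.gcd_mul_right_dvd_mul_gcd ..
      rw [Nat.gcd_comm]
      refine h5.trans (mul_dvd_mul ((Nat.gcd_dvd_right _ _).trans hTe) ?_)
      exact (dvd_cof_iff hq1 (Nat.gcd_dvd_left _ _)).2 (Nat.gcd_dvd_right _ _)
    have hd0 : 0 < d := Nat.gcd_pos_of_pos_right _ (Nat.succ_pos q)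
    have hFq : q + 1 ∣ Fintype.card F - 1 := ⟨q - 1, by rw [hF]; simpa using Nat.sq_sub_sq q 1⟩
    obtain ⟨e, he⟩ := Cfsg.Agent.S2495.exists_algebraMap (F := F) (x := α ^ k) (by
      obtain ⟨j, hj⟩ := hdq.trans hFq
      rw [hj, ← pow_mul, ← mul_assoc, mul_comm k d, ← hk, pow_mul, hαG, one_pow])
    have hee : e * σ e = 1 := by
      have h1 : e ^ (q + 1) = 1 := by
        obtain ⟨j, hj⟩ := hdq
        refine (algebraMap F (AdjoinRoot f)).injective ?_
        rw [map_pow, ← he, map_one, hj, ← pow_mul, ← mul_assoc, mul_comm k d, ← hk, pow_mul, hαG, one_pow]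
      rw [h.pow, ← pow_succ', h1]
    have hfe : f ∣ X ^ k - C e := AdjoinRoot.mk_eq_zero.1 (by
      rw [map_sub, map_pow, AdjoinRoot.mk_X, AdjoinRoot.mk_C, ← hα, he, AdjoinRoot.algebraMap_eq, sub_self])
    have hdfe : dualM σ f ∣ X ^ k - C e := by
      refine (associated_revM (map_coeff_zero_ne hf0)).dvd.trans ?_
      obtain ⟨w, hw⟩ := hfe
      have hk0 : 0 < k := Nat.pos_of_ne_zero fun h0 => by
        rw [h0, mul_zero] at hk
        have hH0 : H = 0 := (mul_eq_zero.1 hk).resolve_left hT0.ne'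
        rw [hH0, mul_zero, mul_zero] at hG
        have := Nat.one_lt_pow (show 2 * m ≠ 0 by omega) hq2
        omega
      have h1 := congrArg (fun P : F[X] => (P.map σ).reverse) hw
      simp only [Polynomial.map_sub, Polynomial.map_pow, map_X, map_C, Polynomial.map_mul,
        reverse_mul_of_domain] at h1
      have h2 : (X ^ k - C (σ e) : F[X]).reverse = C (-(σ e)) * (X ^ k - C e) := by
        ext i
        rw [coeff_reverse, natDegree_X_pow_sub_C, coeff_C_mul]
        simp only [coeff_sub, coeff_X_pow, coeff_C]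
        rcases lt_trichotomy i k with hi | hi | hi
        · rw [revAt_le hi.le]
          rcases Nat.eq_zero_or_pos i with h0 | h0
          · subst h0; simp [hk0.ne', hk0.ne, mul_comm (σ e) e, hee]
          · simp [show k - i ≠ k by omega, show k - i ≠ 0 by omega, show i ≠ k by omega, h0.ne']
        · subst hi; simp [revAt_le le_rfl, hk0.ne, hk0.ne']
        · rw [revAt_eq_self_of_lt hi]; simp [hi.ne', show i ≠ 0 by omega]
      rw [h2] at h1
      have h3 : (f.map σ).reverse ∣ C (-(σ e)) * (X ^ k - C e) := ⟨_, h1⟩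
      have hu : IsUnit (C (-(σ e))) := by
        refine isUnit_C.2 (isUnit_iff_ne_zero.2 (neg_ne_zero.2 fun h0 => ?_))
        rw [h0, mul_zero] at hee
        exact zero_ne_one hee
      exact (hu.dvd_mul_left).1 h3
    obtain ⟨w, hw⟩ := hco.mul_dvd hfe hdfe
    have hev := congrArg (aeval A) hw
    rw [map_mul, ← hchar, Matrix.aeval_self_charpoly, zero_mul, map_sub, map_pow, aeval_X, aeval_C, sub_eq_zero] at hev
    have hTk : T ∣ k := hx ▸ orderOf_dvd_of_pow_eq_one (by
      rw [← QuotientGroup.mk_pow, QuotientGroup.eq_one_iff]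
      exact hcenter (g ^ k) e hev)
    obtain ⟨j, hj⟩ := hTk
    exact ⟨j, Nat.eq_of_mul_eq_mul_left hT0 (by rw [hk, hj]; ring)⟩
  · rintro ⟨j, hj⟩
    haveI : NeZero m := ⟨by omega⟩
    let L := FiniteField.Extension F p m
    let b := (Module.finBasis F L).reindex (finCongr (FiniteField.finrank_extension F p m))
    obtain ⟨ω, hω⟩ := IsCyclic.exists_ofOrder_eq_natCard (α := Lˣ)
    rw [Nat.card_units, FiniteField.natCard_extension, Nat.card_eq_fintype_card, hF, ← pow_mul q 2 m, ← hG] at hω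
    set u := ω ^ (q + 1) with hu
    have huord : orderOf u = T * H := by
      rw [hu, orderOf_pow_of_dvd (Nat.succ_ne_zero q) (hω ▸ dvd_mul_right _ _), hω,
        Nat.mul_div_cancel_left _ (Nat.succ_pos q)]
    set A := Algebra.leftMulMatrix b (u : L) with hA
    have hdet : A.det = Algebra.norm F (u : L) := (Algebra.norm_eq_matrix_det b _).symm
    have hAu : IsUnit A.det := hdet ▸ (u.isUnit.map (Algebra.norm F))
    have hfix : σ A.det = A.det := by
      set N := Units.map (Algebra.norm F : L →* F) ω with hN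
      have h1 : ((N : F)) ^ (q ^ 2 - 1) = 1 := by
        rw [← hF]; exact FiniteField.pow_card_sub_one_eq_one _ N.ne_zero
      have h2 : A.det = (N : F) ^ (q + 1) := by
        rw [hdet, hu, Units.val_pow_eq_pow_val, map_pow]; rfl
      rw [h2, h.pow, ← pow_mul]
      conv_lhs => rw [show (q + 1) * q = (q ^ 2 - 1) + (q + 1) by
        have : q ^ 2 - 1 = (q + 1) * (q - 1) := by simpa using Nat.sq_sub_sq q 1
        rw [this, ← Nat.mul_add_one, Nat.sub_add_cancel hq1]]
      rw [pow_add, h1, one_mul]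
    obtain ⟨g, C, C', hC, hg⟩ := exists_hyper h A hAu hfix
    refine CfsgLib.KnownB.ElementOrders.mem_range_orderOf_of_dvd
      (x := (QuotientGroup.mk g : Cfsg.PSU (m + m) F q)) ?_
    set k := orderOf (QuotientGroup.mk g : Cfsg.PSU (m + m) F q) with hk
    have hmem : g ^ k ∈ Subgroup.center (Cfsg.SU (m + m) F q) :=
      (QuotientGroup.eq_one_iff _).1 (pow_orderOf_eq_one (QuotientGroup.mk g : Cfsg.PSU (m + m) F q))
    obtain ⟨e, he1, he2, he3⟩ := CfsgLib.Classical.SU_center_scalar (by rw [Nat.card_eq_fintype_card, hF])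
      (by omega) hmem
    have hpow : ∀ k, (C * fromBlocks A 0 0 (A⁻¹.map σ)ᵀ * C') ^ k =
        C * (fromBlocks A 0 0 (A⁻¹.map σ)ᵀ) ^ k * C' := by
      intro k
      induction k with
      | zero => rw [pow_zero, pow_zero, mul_one, mul_eq_one_comm.1 hC]
      | succ k ih =>
        rw [pow_succ, ih, pow_succ]
        simp only [mul_assoc]
        rw [← mul_assoc C' C, hC, one_mul]
    have h1 : (fromBlocks A 0 0 (A⁻¹.map σ)ᵀ) ^ k = algebraMap F _ e := by
      have h0 : (g ^ k).1.1 = algebraMap F _ e := he3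
      change g.1.1 ^ k = _ at h0
      rw [hg, ← map_pow, hpow, ← AlgEquiv.commutes (Matrix.reindexAlgEquiv F F (finSumFinEquiv (m := m) (n := m))) e,
        (Matrix.reindexAlgEquiv F F (finSumFinEquiv (m := m) (n := m))).injective.eq_iff] at h0
      have h1' := congrArg (fun M => C' * M * C) h0
      simp only [mul_assoc, hC, mul_one] at h1'
      simp only [← mul_assoc, hC, one_mul] at h1'
      rw [h1', mul_assoc, Algebra.commutes, ← mul_assoc, hC, one_mul]
    have h2 : A ^ k = algebraMap F _ e := by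
      rw [fromBlocks_diagonal_pow] at h1
      ext i l
      have := congrFun (congrFun h1 (.inl i)) (.inl l)
      simpa [Matrix.algebraMap_matrix_apply] using this
    rw [hA, ← map_pow, ← AlgHom.commutes (Algebra.leftMulMatrix b) e] at h2
    have h3 := Algebra.leftMulMatrix_injective b h2
    have hd' : T * H ∣ k * d := by
      rw [← huord]
      refine orderOf_dvd_of_pow_eq_one (Units.ext ?_)
      rw [Units.val_pow_eq_pow_val, pow_mul, h3, ← map_pow, Units.val_one, hd, pow_gcd_eq_one.2 ⟨he2, he1⟩, map_one]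
    rw [hj, mul_left_comm, mul_comm k d] at hd'
    exact (dvd_mul_right T j).trans (Nat.dvd_of_mul_dvd_mul_left (Nat.gcd_pos_of_pos_right _ (Nat.succ_pos q)) hd')

end Cfsg.Agent.S2496
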