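import Cfsg.Statements.S2202
import Cfsg.Agent.Lib.CharsMore.AbCent.Main

set_option autoImplicit false
open Cfsg

namespace Cfsg.Agent.S2202

/-- Finite groups in which the centralizer of every involution is abelian. Let G be a finite group of even order in which the centralizer of every element of order 2 is abelian. Then the Sylow 2-subgroups of G are cyclic, or a Sylow 2-subgroup of G is normal, or G is isomorphic to the direct product of SL₂(F) for a finite field F of characteristic two and an abelian group of odd order. -/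
theorem result {G : Type*} [Group G] [Finite G] (heven : Even (Nat.card G)) (h : ∀ t : G, orderOf t = 2 → IsMulCommutative ↥(Subgroup.centralizer ({t} : Set G))) :
    (∀ P : Sylow 2 G, IsCyclic ↥P) ∨ (∀ P : Sylow 2 G, (P : Subgroup G).Normal) ∨
    (∃ (F : Type) (_ : Field F) (_ : Fintype F) (A : Type) (_ : CommGroup A) (_ : Finite A), CharP F 2 ∧ Odd (Nat.card A) ∧ Nonempty (G ≃* Matrix.SpecialLinearGroup (Fin 2) F × A)) := by
  haveI : Fact (Nat.Prime 2) := ⟨Nat.prime_two⟩
  obtain ⟨T⟩ : Nonempty (Sylow 2 G) := inferInstance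
  by_cases hc : IsCyclic (T : Subgroup G)
  · exact Or.inl fun P => by
      haveI := hc
      exact isCyclic_of_surjective _ (Sylow.equiv T P).surjective
  by_cases hn : (T : Subgroup G).Normal
  · refine Or.inr (Or.inl fun P => ?_)
    obtain ⟨g, rfl⟩ := MulAction.exists_smul_eq G T P
    rw [(Sylow.smul_eq_iff_mem_normalizer).2 (Subgroup.mem_normalizer_iff.2 fun x => ⟨fun hx => hn.conj_mem x hx g, fun hx => by simpa [mul_assoc] using hn.conj_mem _ hx g⁻¹⟩)]
    exact hn
  exact Or.inr (Or.inr (CfsgLib.CharsMore.AbCent.exists_iso_prod (T := T) ⟨hc, hn, h⟩))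

end Cfsg.Agent.S2202
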