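import Cfsg.Statements.S3861
import Cfsg.Agent.Lib.Involutions.BaerSuzuki
import Cfsg.Agent.Lib.RealElt.Basic
import Cfsg.Agent.Lib.Base.Cores

set_option autoImplicit false
open Cfsg

namespace Cfsg.Agent.S3861

/-- A finite group G has no non-identity element of odd order that is conjugate to its inverse if and only if the Sylow 2-subgroups of G are normal. -/
theorem result {G : Type*} [Group G] [Finite G] (P : Sylow 2 G) : (∀ x : G, x ≠ 1 → Odd (orderOf x) → ¬ IsConj x x⁻¹) ↔ (P : Subgroup G).Normal := by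
  classical
  constructor
  swap
  · -- a normal Sylow `2`-subgroup excludes real elements of odd order
    intro hPn x hx1 hodd hconj
    obtain ⟨t, ⟨k, hk⟩, ht⟩ := CfsgLib.RealElt.exists_two_element_inverts hconj
    have htp : IsPGroup 2 (Subgroup.zpowers t) := IsPGroup.iff_card.mpr ⟨k, by rw [Nat.card_zpowers, hk]⟩
    obtain ⟨Q, hQ⟩ := htp.exists_le_sylow
    haveI := hPn
    haveI : Unique (Sylow 2 G) := Sylow.unique_of_normal P hPn
    have hQP : Q = P := Subsingleton.elim _ _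
    have htP : t ∈ (P : Subgroup G) := hQP ▸ hQ (Subgroup.mem_zpowers t)
    have h2 : x⁻¹ * x⁻¹ ∈ (P : Subgroup G) := by
      have := mul_mem htP (hPn.conj_mem _ (inv_mem htP) x)
      have e : t * (x * t⁻¹ * x⁻¹) = x⁻¹ * x⁻¹ := by
        rw [← mul_assoc, ← mul_assoc, ht]
      rwa [e] at this
    obtain ⟨j, hj⟩ := P.isPGroup' ⟨_, h2⟩
    have hj' : (x⁻¹ * x⁻¹) ^ 2 ^ j = 1 := by
      have := congrArg Subtype.val hj
      simpa using this
    have hx2 : orderOf x ∣ 2 ^ (j + 1) := by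
      apply orderOf_dvd_of_pow_eq_one
      rw [← pow_two, ← pow_mul, ← pow_succ', inv_pow, inv_eq_one] at hj'
      exact hj'
    obtain ⟨i, hi, hi'⟩ := (Nat.dvd_prime_pow Nat.prime_two).mp hx2
    rcases Nat.eq_zero_or_pos i with h0 | h0
    · exact hx1 (orderOf_eq_one_iff.mp (by rw [hi', h0, pow_zero]))
    · rw [hi', Nat.odd_pow_iff h0.ne'] at hodd
      exact absurd hodd (by decide)
  intro hreal
  by_contra hP
  set Q := Cfsg.pCore 2 G with hQdef
  haveI hQn : Q.Normal := pCore_normal 2 G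
  have hQp : IsPGroup 2 Q := CfsgLib.Base.isPGroup_pCore 2 G
  have hQP : Q ≤ (P : Subgroup G) := CfsgLib.Base.pCore_le_sylow P
  -- a `2`-element of `P` outside `Q` whose square lies in `Q`
  have hne : (P : Subgroup G).map (QuotientGroup.mk' Q) ≠ ⊥ := by
    intro h
    apply hP
    have hle : (P : Subgroup G) ≤ Q := by
      intro g hg
      have := Subgroup.mem_map_of_mem (QuotientGroup.mk' Q) hg
      rw [h, Subgroup.mem_bot] at this
      exact (QuotientGroup.eq_one_iff g).mp this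
    rw [le_antisymm hle hQP]; exact hQn
  haveI : Nontrivial ((P : Subgroup G).map (QuotientGroup.mk' Q)) := (Subgroup.nontrivial_iff_ne_bot _).mpr hne
  obtain ⟨c, hc⟩ := IsPGroup.iff_card.mp (P.isPGroup'.map (QuotientGroup.mk' Q))
  have hc1 : c ≠ 0 := by
    intro h
    rw [h, pow_zero] at hc
    exact hne (Subgroup.eq_bot_of_card_eq _ hc)
  obtain ⟨⟨z, hzm⟩, hz⟩ := exists_prime_orderOf_dvd_card'
    (G := (P : Subgroup G).map (QuotientGroup.mk' Q)) 2 (by rw [hc]; exact dvd_pow_self 2 hc1)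
  rw [Subgroup.orderOf_mk] at hz
  obtain ⟨t, htP, htz⟩ := Subgroup.mem_map.mp hzm
  have hz2 : z * z = 1 := by rw [← pow_two, ← hz, pow_orderOf_eq_one]
  have hzinv : z⁻¹ = z := inv_eq_of_mul_eq_one_right hz2
  have htQ : t ∉ Q := by
    intro h
    have h1 : (QuotientGroup.mk' Q) t = 1 := (QuotientGroup.eq_one_iff t).mpr h
    rw [htz] at h1
    rw [h1, orderOf_one] at hz
    exact absurd hz (by decide)
  -- any two conjugates of `z` have a product of `2`-power order
  have hprod : ∀ q : ℕ, q.Prime → q ≠ 2 → ∀ w : G ⧸ Q, z * w * z⁻¹ = w⁻¹ → orderOf w = q → False := by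
    intro q hq hq2 w hw hwq
    haveI : Fact q.Prime := ⟨hq⟩
    set K := (Subgroup.zpowers w).comap (QuotientGroup.mk' Q) with hK
    have hQK : Q ≤ K := fun a ha => by
      show (QuotientGroup.mk' Q) a ∈ Subgroup.zpowers w
      rw [show (QuotientGroup.mk' Q) a = 1 from (QuotientGroup.eq_one_iff a).mpr ha]
      exact one_mem _
    have hKcard : Nat.card K = Nat.card Q * q := by
      have h1 := CfsgLib.Base.card_comap_mk' Q (Subgroup.zpowers w)
      rw [Nat.card_zpowers, hwq] at h1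
      rw [hK, h1]
    obtain ⟨c', hc'⟩ := IsPGroup.iff_card.mp hQp
    obtain ⟨⟨x, hxK⟩, hx⟩ := exists_prime_orderOf_dvd_card' (G := K) q (by rw [hKcard]; exact dvd_mul_left _ _)
    rw [Subgroup.orderOf_mk] at hx
    have hcop : Nat.Coprime (Nat.card Q) q := by
      rw [hc']
      exact Nat.Coprime.pow_left _ ((Nat.coprime_primes Nat.prime_two hq).mpr (Ne.symm hq2))
    have hxQ : x ∉ Q := by
      intro h
      have hxd : orderOf x ∣ Nat.card Q := by
        rw [← Subgroup.orderOf_mk x h]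
        exact orderOf_dvd_natCard _
      rw [hx] at hxd
      exact hq.ne_one (Nat.eq_one_of_dvd_coprimes hcop hxd dvd_rfl)
    -- the subgroup generated by `x` is a Sylow `q`-subgroup of `K`
    let S : Sylow q K := Sylow.ofCard ((Subgroup.zpowers x).subgroupOf K) (by
      rw [Nat.card_congr (Subgroup.subgroupOfEquivOfLe (Subgroup.zpowers_le.mpr hxK)).toEquiv,
        Nat.card_zpowers, hx, hKcard]
      rw [Nat.factorization_mul Nat.card_pos.ne' hq.ne_zero, Finsupp.add_apply, hq.factorization_self]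
      rw [Nat.factorization_eq_zero_of_not_dvd]
      · rw [zero_add, pow_one]
      · intro h
        exact hq.ne_one (Nat.eq_one_of_dvd_coprimes hcop h dvd_rfl))
    have htK : ∀ a ∈ K, t * a * t⁻¹ ∈ K := by
      intro a ha
      obtain ⟨j, hj⟩ := Subgroup.mem_zpowers_iff.mp (show (QuotientGroup.mk' Q) a ∈ Subgroup.zpowers w from ha)
      refine ⟨-j, ?_⟩
      show w ^ (-j) = (QuotientGroup.mk' Q) (t * a * t⁻¹)
      rw [map_mul, map_mul, map_inv, htz, ← hj, ← conj_zpow, hw, inv_zpow', ]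
    let S' : Sylow q K := Sylow.ofCard ((Subgroup.zpowers (t * x * t⁻¹)).subgroupOf K) (by
      rw [Nat.card_congr (Subgroup.subgroupOfEquivOfLe (Subgroup.zpowers_le.mpr (htK x hxK))).toEquiv,
        Nat.card_zpowers, show orderOf (t * x * t⁻¹) = q by
          rw [← MulAut.conj_apply, (MulAut.conj t).orderOf_eq, hx], hKcard]
      rw [Nat.factorization_mul Nat.card_pos.ne' hq.ne_zero, Finsupp.add_apply, hq.factorization_self]
      rw [Nat.factorization_eq_zero_of_not_dvd]
      · rw [zero_add, pow_one]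
      · intro h
        exact hq.ne_one (Nat.eq_one_of_dvd_coprimes hcop h dvd_rfl))
    obtain ⟨k, hk⟩ := MulAction.exists_smul_eq K S' S
    have hk' : (k : G) * (t * x * t⁻¹) * (k : G)⁻¹ ∈ Subgroup.zpowers x := by
      have hm : (⟨t * x * t⁻¹, htK x hxK⟩ : K) ∈ (S' : Subgroup K) := by
        show t * x * t⁻¹ ∈ Subgroup.zpowers (t * x * t⁻¹)
        exact Subgroup.mem_zpowers _
      have h2 : (MulAut.conj k) ⟨t * x * t⁻¹, htK x hxK⟩ ∈ ((k • S' : Sylow q K) : Subgroup K) :=
        Subgroup.smul_mem_pointwise_smul _ _ _ hm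
      rw [hk] at h2
      exact h2
    obtain ⟨j, hj⟩ := Subgroup.mem_zpowers_iff.mp hk'
    -- modulo `Q` the element `k` centralizes `w`, so `k t` inverts `x`
    set π := QuotientGroup.mk' Q with hπ
    obtain ⟨i, hi⟩ := Subgroup.mem_zpowers_iff.mp (show π x ∈ Subgroup.zpowers w from hxK)
    obtain ⟨l, hl⟩ := Subgroup.mem_zpowers_iff.mp (show π (k : G) ∈ Subgroup.zpowers w from k.2)
    have h3 : π ((k : G) * (t * x * t⁻¹) * (k : G)⁻¹) = (π x)⁻¹ := by
      rw [map_mul, map_mul, map_mul, map_mul, map_inv, map_inv, htz, ← hi, ← conj_zpow, hw, inv_zpow,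
        ← hl]
      group
    rw [← hj, map_zpow] at h3
    have h4 : π (x ^ (j + 1)) = 1 := by
      rw [map_zpow, zpow_add_one, h3, inv_mul_cancel]
    have h4' : x ^ (j + 1) ∈ Q := (QuotientGroup.eq_one_iff _).mp h4
    have h5 : x ^ (j + 1) = 1 := by
      rw [← orderOf_eq_one_iff]
      refine Nat.eq_one_of_dvd_coprimes hcop ?_ ?_
      · rw [← Subgroup.orderOf_mk _ h4']
        exact orderOf_dvd_natCard _
      · rw [← hx]
        exact orderOf_dvd_of_mem_zpowers (Subgroup.zpow_mem _ (Subgroup.mem_zpowers x) _)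
    refine hreal x (fun h => hxQ (h ▸ one_mem Q)) (by rw [hx]; exact hq.odd_of_ne_two hq2) ?_
    refine isConj_iff.mpr ⟨(k : G) * t, ?_⟩
    have h6 : x ^ j = x⁻¹ := by
      rw [zpow_add_one] at h5
      exact eq_inv_of_mul_eq_one_left h5
    rw [← h6, hj]
    group
  have hbs : ∀ g : G ⧸ Q, IsPGroup 2
      ↥(Subgroup.zpowers z ⊔ (Subgroup.zpowers z).map (MulAut.conj g).toMonoidHom) := by
    intro g
    set z' := g * z * g⁻¹ with hz'
    have hz'inv : z'⁻¹ = z' := by rw [hz', mul_inv_rev, mul_inv_rev, inv_inv, hzinv, mul_assoc]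
    set d := z * z' with hd
    have hzd : z * d * z⁻¹ = d⁻¹ := by
      rw [hd, mul_inv_rev, hzinv, hz'inv, ← mul_assoc, hz2, one_mul]
    obtain ⟨k, m, hm, hkm⟩ := Nat.exists_eq_pow_mul_and_not_dvd (orderOf_pos d).ne' 2 (by norm_num)
    have hm1 : m = 1 := by
      by_contra hm1
      obtain ⟨q, hq, hqm⟩ := Nat.exists_prime_and_dvd hm1
      have hq2 : q ≠ 2 := fun h => hm (h ▸ hqm)
      have hqd : q ∣ orderOf d := hkm ▸ hqm.mul_left _
      refine hprod q hq hq2 (d ^ (orderOf d / q)) ?_ ?_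
      · rw [← conj_pow, hzd, inv_pow]
      · rw [orderOf_pow, Nat.gcd_eq_right (Nat.div_dvd_of_dvd hqd),
          Nat.div_div_self hqd (orderOf_pos d).ne']
    rw [hm1, mul_one] at hkm
    have hD : IsPGroup 2 (Subgroup.zpowers d) := IsPGroup.iff_card.mpr ⟨k, by rw [Nat.card_zpowers, hkm]⟩
    have hZ : IsPGroup 2 (Subgroup.zpowers z) := IsPGroup.iff_card.mpr ⟨1, by rw [Nat.card_zpowers, hz, pow_one]⟩
    have hnorm : Subgroup.zpowers z ≤ Subgroup.normalizer ((Subgroup.zpowers d : Subgroup (G ⧸ Q)) : Set (G ⧸ Q)) := by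
      rw [Subgroup.zpowers_le, Subgroup.mem_normalizer_iff]
      intro a
      constructor
      · rintro ⟨i, rfl⟩
        exact ⟨-i, by show d ^ (-i) = z * d ^ i * z⁻¹; rw [← conj_zpow, hzd, inv_zpow']⟩
      · rintro ⟨i, hi⟩
        refine ⟨-i, ?_⟩
        show d ^ (-i) = a
        have hi' : d ^ i = z * a * z⁻¹ := hi
        rw [← inv_zpow', ← hzd, conj_zpow, hi', hzinv, ← mul_assoc, ← mul_assoc, hz2, one_mul,
          mul_assoc, hz2, mul_one]
    have hsup : IsPGroup 2 ↥(Subgroup.zpowers z ⊔ Subgroup.zpowers d) := IsPGroup.to_sup_of_normal_right' hZ hD hnorm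
    refine hsup.to_le (sup_le le_sup_left ?_)
    rw [MonoidHom.map_zpowers, Subgroup.zpowers_le]
    show g * z * g⁻¹ ∈ _
    have : z * d = g * z * g⁻¹ := by rw [hd, ← mul_assoc, hz2, one_mul]
    rw [← this]
    exact mul_mem (Subgroup.mem_sup_left (Subgroup.mem_zpowers z)) (Subgroup.mem_sup_right (Subgroup.mem_zpowers d))
  obtain ⟨N, hNn, hNp, hzN⟩ := CfsgLib.Involutions.baerSuzuki (p := 2) (Subgroup.zpowers z) hbs
  haveI := hNn
  have hNbot : N = ⊥ := by
    have h1 := CfsgLib.Base.le_pCore hNp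
    have h2 : Cfsg.pCore 2 (G ⧸ Q) = ⊥ := CfsgLib.Base.pCore_quotient_pCore 2 G
    exact le_bot_iff.mp (h1.trans_eq h2)
  have hz1 : z = 1 := by
    have := hzN (Subgroup.mem_zpowers z)
    rwa [hNbot, Subgroup.mem_bot] at this
  rw [hz1, orderOf_one] at hz
  exact absurd hz (by decide)

end Cfsg.Agent.S3861
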