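import Cfsg.Statements.S0671
import Cfsg.Agent.Lib.Perm.Module

set_option autoImplicit false
open Cfsg

namespace Cfsg.Agent.S0671

/-- If the heart of the permutation module in characteristic `p` of a transitive action of degree `p ^ f` has no trivial composition factor, the action is doubly transitive. The hypothesis is phrased without composition series: no invariant subspaces `W < W'` between the constants and the sum-zero functions with trivial action on the quotient. -/
theorem result {G : Type*} [Group G] [Finite G] {K : Type*} [Field K] {p f : ℕ} [Fact p.Prime] [CharP K p] {Ω : Type*} [Fintype Ω] [MulAction G Ω] [MulAction.IsPretransitive G Ω] (hf : 1 ≤ f) (hcard : Fintype.card Ω = p ^ f) (h : ∀ W W' : Subrepresentation (Cfsg.permRep K G Ω), (Cfsg.permConstants K G Ω).toSubmodule ≤ W.toSubmodule → W.toSubmodule < W'.toSubmodule → W'.toSubmodule ≤ (Cfsg.permSumZero K G Ω).toSubmodule → ∃ g : G, ∃ v ∈ W'.toSubmodule, Cfsg.permRep K G Ω g v - v ∉ W.toSubmodule) : MulAction.IsMultiplyPretransitive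 G Ω 2 := by
  classical
  rw [MulAction.is_two_pretransitive_iff]
  by_contra hne
  push_neg at hne
  obtain ⟨a, b, c, d, hab, hcd, hne⟩ := hne
  obtain ⟨g₀, hg₀⟩ := MulAction.exists_smul_eq G c a
  -- two pairs `(a, b)`, `(a, g₀ • d)` in different orbits
  have hab' : a ≠ g₀ • d := fun h' => hcd (MulAction.injective g₀ (hg₀.trans h'))
  have horb : (a, g₀ • d) ∉ MulAction.orbit G (a, b) := by
    rintro ⟨g, hg⟩
    refine hne (g₀⁻¹ * g) ?_ ?_
    · rw [mul_smul, inv_smul_eq_iff, hg₀]
      exact congrArg Prod.fst hg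
    · rw [mul_smul, inv_smul_eq_iff]
      exact congrArg Prod.snd hg
  let ind : Ω → Ω → ℕ := fun x y => if (x, y) ∈ MulAction.orbit G (a, b) then 1 else 0
  have hind : ∀ (g : G) x y, ind (g • x) (g • y) = ind x y := by
    intro g x y
    have : ((g • x, g • y) ∈ MulAction.orbit G (a, b)) ↔ ((x, y) ∈ MulAction.orbit G (a, b)) := by
      rw [show (g • x, g • y) = g • (x, y) from rfl, ← MulAction.orbit_eq_iff,
        ← MulAction.orbit_eq_iff, MulAction.orbit_smul]
    simp only [ind]
    split_ifs with h1 h2 <;> tauto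
  let kc : ℕ := ∑ x, ind x a
  have hcol : ∀ y, ∑ x, ind x y = kc := fun y => CfsgLib.Perm.colSum_eq hind y a
  have hrow : ∀ x, ∑ y, ind x y = kc := by
    intro x
    have hconst : ∀ x', ∑ y, ind x' y = ∑ y, ind x y := fun x' =>
      CfsgLib.Perm.colSum_eq (A := fun u v => ind v u) (fun g u v => hind g v u) x' x
    have h1 : ∑ x' : Ω, ∑ y, ind x' y = ∑ y : Ω, ∑ x', ind x' y := Finset.sum_comm
    simp only [hconst, hcol, Finset.sum_const, Finset.card_univ, smul_eq_mul] at h1
    exact Nat.eq_of_mul_eq_mul_left (Fintype.card_pos_iff.2 ⟨a⟩) h1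
  let A : Ω → Ω → K := fun x y => (ind x y : K) - (if x = y then (kc : K) else 0)
  have hA : ∀ (g : G) x y, A (g • x) (g • y) = A x y := by
    intro g x y
    simp only [A, hind, smul_left_cancel_iff]
  have hAcol : ∀ y, ∑ x, A x y = 0 := by
    intro y
    simp only [A, Finset.sum_sub_distrib, Finset.sum_ite_eq', Finset.mem_univ, if_true]
    rw [← Nat.cast_sum, hcol, sub_self]
  have hArow : ∀ x, ∑ y, A x y = 0 := by
    intro x
    simp only [A, Finset.sum_sub_distrib, Finset.sum_ite_eq, Finset.mem_univ, if_true]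
    rw [← Nat.cast_sum, hrow, sub_self]
  let T := CfsgLib.Perm.kernelMap A
  let W : Subrepresentation (Cfsg.permRep K G Ω) :=
    { toSubmodule := (Cfsg.permSumZero K G Ω).toSubmodule.map T
      apply_mem_toSubmodule := fun g => by
        rintro _ ⟨v, hv, rfl⟩
        exact ⟨Cfsg.permRep K G Ω g v, (Cfsg.permSumZero K G Ω).apply_mem_toSubmodule g hv,
          CfsgLib.Perm.kernelMap_permRep hA g v⟩ }
  let W' : Subrepresentation (Cfsg.permRep K G Ω) :=
    { toSubmodule := LinearMap.range T
      apply_mem_toSubmodule := fun g => by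
        rintro _ ⟨v, rfl⟩
        exact ⟨Cfsg.permRep K G Ω g v, CfsgLib.Perm.kernelMap_permRep hA g v⟩ }
  have hTa : T (Pi.single a 1) = A a := CfsgLib.Perm.kernelMap_single A a
  have hAb : A a b = 1 := by
    simp [A, ind, hab, MulAction.mem_orbit_self]
  have hAd : A a (g₀ • d) = 0 := by
    simp [A, ind, hab', horb]
  have hW0 : W.toSubmodule ≠ ⊥ := by
    intro hbot
    have hind' : ∀ x, A x = A a := by
      intro x
      have hmem : T (Pi.single x 1 - Pi.single a 1) ∈ W.toSubmodule :=
        ⟨Pi.single x 1 - Pi.single a 1, by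
          simp [SetLike.mem_coe, CfsgLib.Perm.mem_permSumZero, Finset.sum_sub_distrib,
            Fintype.sum_pi_single'], rfl⟩
      rw [hbot, Submodule.mem_bot, map_sub, sub_eq_zero] at hmem
      rw [← hTa, ← hmem]
      exact (CfsgLib.Perm.kernelMap_single A x).symm
    obtain ⟨g, hg⟩ := MulAction.exists_smul_eq G (g₀ • d) b
    have h2 := hA g a (g₀ • d)
    rw [hg, congrFun (hind' (g • a)) b, hAb, hAd] at h2
    exact one_ne_zero h2
  have hWW' : W.toSubmodule < W'.toSubmodule := by
    refine lt_of_le_of_ne (LinearMap.map_le_range) fun heq => ?_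
    have hker : LinearMap.ker T ≠ ⊤ := by
      intro htop
      have : T (Pi.single a 1) = 0 := by
        rw [← LinearMap.mem_ker, htop]; trivial
      rw [hTa] at this
      rw [this] at hAb
      exact zero_ne_one hAb
    have hle := CfsgLib.Perm.le_sumZero_of_ne_top (G := G) hcard (LinearMap.ker T) (fun g v hv => by
      rw [LinearMap.mem_ker] at hv ⊢
      change CfsgLib.Perm.kernelMap A _ = 0
      rw [CfsgLib.Perm.kernelMap_permRep hA, show CfsgLib.Perm.kernelMap A v = 0 from hv, map_zero])
      hker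
    have hmem : T (Pi.single a 1) ∈ W'.toSubmodule := ⟨_, rfl⟩
    rw [← heq] at hmem
    obtain ⟨u, hu, hu'⟩ := hmem
    have h3 : Pi.single a 1 - u ∈ LinearMap.ker T := by simp [hu']
    have h4 := hle h3
    rw [SetLike.mem_coe, CfsgLib.Perm.mem_permSumZero] at hu
    rw [CfsgLib.Perm.mem_permSumZero] at h4
    simp [Finset.sum_sub_distrib, Fintype.sum_pi_single', hu] at h4
  have hcW : (Cfsg.permConstants K G Ω).toSubmodule ≤ W.toSubmodule :=
    CfsgLib.Perm.constants_le_of_ne_bot hcard _ (fun g w hw => W.apply_mem_toSubmodule g hw) hW0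
  have hW'U : W'.toSubmodule ≤ (Cfsg.permSumZero K G Ω).toSubmodule := by
    rintro _ ⟨v, rfl⟩
    rw [CfsgLib.Perm.mem_permSumZero, CfsgLib.Perm.sum_kernelMap]
    simp [hArow]
  obtain ⟨g, v, hv, hgv⟩ := h W W' hcW hWW' hW'U
  obtain ⟨u, rfl⟩ := hv
  refine hgv ⟨Cfsg.permRep K G Ω g u - u, CfsgLib.Perm.permRep_sub_self_mem_sumZero g u, ?_⟩
  rw [map_sub]
  congr 1
  exact CfsgLib.Perm.kernelMap_permRep hA g u

end Cfsg.Agent.S0671
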