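import Cfsg.Statements.S3972
import Cfsg.Agent.Lib.Perm.SchurPrimePower

open scoped Pointwise

set_option autoImplicit false
open Cfsg

namespace Cfsg.Agent.S3972

/-- Let `p` be a prime, `m ≥ 2`, and `G` a transitive but not doubly transitive permutation group on `p ^ m` points containing a permutation of order `p ^ m` (necessarily a full cycle). Then `G` is imprimitive, and the normal closure in `G` of the `p ^ (m - 1)`-th power of that permutation is an intransitive normal subgroup. -/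
theorem result {Ω : Type*} [Fintype Ω] [DecidableEq Ω] (p m : ℕ) (hp : p.Prime) (hm : 2 ≤ m) (hΩ : Fintype.card Ω = p ^ m) (G : Subgroup (Equiv.Perm Ω)) (htr : MulAction.IsPretransitive G Ω) (h2 : ¬ MulAction.IsMultiplyPretransitive G Ω 2) (g : G) (hg : orderOf g = p ^ m) : ¬ MulAction.IsPreprimitive G Ω ∧ ¬ MulAction.IsPretransitive (Subgroup.normalClosure ({g ^ (p ^ (m - 1))} : Set G)) Ω := by
  classical
  haveI : Fact p.Prime := ⟨hp⟩
  obtain ⟨n, hn⟩ : ∃ n, n = p ^ m := ⟨_, rfl⟩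
  haveI : NeZero n := ⟨by rw [hn]; exact (pow_pos hp.pos m).ne'⟩
  obtain ⟨γ, hγ⟩ : ∃ γ : Equiv.Perm Ω, γ = (g : Equiv.Perm Ω) := ⟨_, rfl⟩
  have hγn : orderOf γ = n := by rw [hγ, hn, ← hg, Subgroup.orderOf_coe]
  have hγm : γ ^ (p ^ (m - 1)) ≠ 1 := by
    intro h
    have h1 := Nat.le_of_dvd (pow_pos hp.pos _) (orderOf_dvd_of_pow_eq_one h)
    rw [hγn, hn] at h1
    exact absurd h1 (not_le.2 (Nat.pow_lt_pow_right hp.one_lt (by omega)))
  obtain ⟨a, ha⟩ : ∃ a, (γ ^ (p ^ (m - 1))) a ≠ a := by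
    by_contra h
    push Not at h
    exact hγm (Equiv.ext h)
  -- the orbit of `a` under `γ`
  have hper : ∀ k : ℕ, (γ ^ k) a = a → n ∣ k := by
    intro k hk
    have h1 : Function.IsPeriodicPt γ n a := by
      rw [Function.IsPeriodicPt, Function.IsFixedPt, ← Equiv.Perm.coe_pow, ← hγn, pow_orderOf_eq_one]
      rfl
    have h2 : Function.IsPeriodicPt γ k a := by
      rw [Function.IsPeriodicPt, Function.IsFixedPt, ← Equiv.Perm.coe_pow]
      exact hk
    obtain ⟨j, hj, hjd⟩ := (Nat.dvd_prime_pow hp).1 (hn ▸ h1.minimalPeriod_dvd)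
    rcases eq_or_lt_of_le hj with h | h
    · rw [hn, ← h, ← hjd]
      exact h2.minimalPeriod_dvd
    · refine absurd ?_ ha
      have h3 : Function.IsPeriodicPt γ (p ^ (m - 1)) a :=
        (Function.isPeriodicPt_minimalPeriod γ a).trans_dvd (hjd ▸ pow_dvd_pow p (by omega))
      rw [Equiv.Perm.coe_pow]
      exact h3
  let ef : ZMod n → Ω := fun k => (γ ^ k.val) a
  have hinj : Function.Injective ef := by
    intro x y hxy
    rcases le_total x.val y.val with h | h
    · have h1 : (γ ^ (y.val - x.val)) a = a := by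
        refine (γ ^ x.val).injective ?_
        rw [← Equiv.Perm.mul_apply, ← pow_add, Nat.add_sub_cancel' h]
        exact hxy.symm
      have h2 := Nat.eq_zero_of_dvd_of_lt (hper _ h1) (by have := ZMod.val_lt y; omega)
      exact ZMod.val_injective n (by omega)
    · have h1 : (γ ^ (x.val - y.val)) a = a := by
        refine (γ ^ y.val).injective ?_
        rw [← Equiv.Perm.mul_apply, ← pow_add, Nat.add_sub_cancel' h]
        exact hxy
      have h2 := Nat.eq_zero_of_dvd_of_lt (hper _ h1) (by have := ZMod.val_lt x; omega)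
      exact ZMod.val_injective n (by omega)
  have hbij : Function.Bijective ef :=
    (Fintype.bijective_iff_injective_and_card ef).2 ⟨hinj, by rw [ZMod.card, hΩ, hn]⟩
  obtain ⟨e, he⟩ : ∃ e : ZMod n ≃ Ω, ∀ k, e k = (γ ^ k.val) a :=
    ⟨Equiv.ofBijective ef hbij, fun k => rfl⟩
  have hmod : ∀ i, γ ^ (i % n) = γ ^ i := fun i => by rw [← hγn]; exact pow_mod_orderOf _ _
  have hshift : ∀ k c : ZMod n, e (k + c) = (γ ^ c.val) (e k) := by
    intro k c
    rw [he, he, ← Equiv.Perm.mul_apply, ← pow_add, ZMod.val_add, hmod, add_comm]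
  let φ : Equiv.Perm Ω →* Equiv.Perm (ZMod n) := e.symm.permCongrHom.toMonoidHom
  have hφ : ∀ σ x, φ σ x = e.symm (σ (e x)) := fun σ x => by
    simp [φ, Equiv.permCongrHom, Equiv.permCongr_apply]
  have hτ' : ∀ c : ZMod n, φ (γ ^ c.val) = Equiv.addRight c := by
    intro c
    ext x
    rw [hφ, ← hshift, Equiv.symm_apply_apply, Equiv.coe_addRight]
  have hγG : γ ∈ G := hγ ▸ g.2
  have hτ : ∀ c : ZMod n, Equiv.addRight c ∈ G.map φ := fun c =>
    ⟨γ ^ c.val, pow_mem hγG _, hτ' c⟩
  -- an invariant subgroup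
  obtain ⟨U, hU, hU0, hU1⟩ : ∃ U : AddSubgroup (ZMod n),
      (∀ h ∈ G.map φ, h 0 = 0 → ∀ x ∈ U, h x ∈ U) ∧ U ≠ ⊥ ∧ U ≠ ⊤ := by
    by_contra hno
    push Not at hno
    have htrans := CfsgLib.Perm.SchurPrimePower.transitive_stabilizer hn hm hτ fun U hU => by
      by_cases h : U = ⊥
      · exact Or.inl h
      · exact Or.inr (hno U hU h)
    refine h2 (MulAction.is_two_pretransitive_iff.2 fun {x y z w} hxy hzw => ?_)
    obtain ⟨k, hk, hk0, hkx⟩ := htrans (e.symm y - e.symm x) (e.symm w - e.symm z)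
      (sub_ne_zero.2 fun h => hxy (e.symm.injective h).symm)
      (sub_ne_zero.2 fun h => hzw (e.symm.injective h).symm)
    obtain ⟨σ, hσ, hσk⟩ := (G.map φ).mul_mem ((G.map φ).mul_mem (hτ (e.symm z)) hk) (hτ (-e.symm x))
    have hap : ∀ v, σ v = e (k (e.symm v - e.symm x) + e.symm z) := fun v => by
      have h := congrArg (fun π : Equiv.Perm (ZMod n) => e (π (e.symm v))) hσk
      simp only [hφ, Equiv.apply_symm_apply, Equiv.Perm.mul_apply, Equiv.coe_addRight] at h
      simpa [sub_eq_add_neg] using h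
    refine ⟨⟨σ, hσ⟩, ?_, ?_⟩
    · show σ x = z
      rw [hap, sub_self, hk0, zero_add, Equiv.apply_symm_apply]
    · show σ y = w
      rw [hap, hkx, sub_add_cancel, Equiv.apply_symm_apply]
  -- translates of `U`
  have hpres : ∀ σ ∈ G, ∀ x y : ZMod n, x - y ∈ U → φ σ x - φ σ y ∈ U := by
    intro σ hσ x y hxy
    have h1 := hU _ ((G.map φ).mul_mem ((G.map φ).mul_mem (hτ (-(φ σ y))) ⟨σ, hσ, rfl⟩) (hτ y))
      (by simp) _ hxy
    simpa [sub_eq_add_neg] using h1
  have hpres' : ∀ σ ∈ G, ∀ x y : ZMod n, φ σ x - φ σ y ∈ U → x - y ∈ U := by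
    intro σ hσ x y hxy
    have h1 := hpres σ⁻¹ (G.inv_mem hσ) _ _ hxy
    simpa [map_inv] using h1
  refine ⟨fun hprim => ?_, fun hN => ?_⟩
  · let B : Set Ω := e '' (U : Set (ZMod n))
    have hB : MulAction.IsBlock G B := by
      rw [MulAction.isBlock_iff_smul_eq_or_disjoint]
      rintro ⟨σ, hσ⟩
      have hmem : ∀ v, v ∈ (⟨σ, hσ⟩ : G) • B ↔ e.symm v - φ σ 0 ∈ U := by
        intro v
        constructor
        · rintro ⟨_, ⟨u, hu, rfl⟩, rfl⟩
          show e.symm (σ (e u)) - φ σ 0 ∈ U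
          rw [← hφ]
          exact hpres σ hσ u 0 (by rw [sub_zero]; exact hu)
        · intro hv
          refine ⟨σ⁻¹ v, ⟨e.symm (σ⁻¹ v), ?_, Equiv.apply_symm_apply _ _⟩, ?_⟩
          · have := hpres' σ hσ (e.symm (σ⁻¹ v)) 0 (by
              rw [hφ, Equiv.apply_symm_apply]; simpa using hv)
            simpa using this
          · show σ (σ⁻¹ v) = v
            simp
      have hmemB : ∀ v, v ∈ B ↔ e.symm v ∈ U := fun v =>
        ⟨fun ⟨u, hu, h⟩ => by rw [← h, Equiv.symm_apply_apply]; exact hu,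
          fun h => ⟨_, h, Equiv.apply_symm_apply _ _⟩⟩
      by_cases h0 : φ σ 0 ∈ U
      · left
        ext v
        rw [hmem, hmemB]
        exact ⟨fun h => by simpa using U.add_mem h h0, fun h => U.sub_mem h h0⟩
      · right
        rw [Set.disjoint_left]
        intro v hv hv'
        rw [hmem] at hv
        rw [hmemB] at hv'
        exact h0 (by simpa using U.sub_mem hv' hv)
    rcases hprim.isTrivialBlock_of_isBlock hB with h | h
    · refine hU0 ((AddSubgroup.eq_bot_iff_forall U).2 fun u hu => ?_)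
      exact e.injective (h ⟨u, hu, rfl⟩ ⟨0, U.zero_mem, rfl⟩)
    · refine hU1 ((AddSubgroup.eq_top_iff' U).2 fun u => ?_)
      obtain ⟨v, hv, hvu⟩ := (Set.ext_iff.1 h (e u)).2 (Set.mem_univ _)
      exact e.injective hvu ▸ hv
  · -- the kernel of the action on the translates
    let N : Subgroup G :=
      { carrier := {σ | ∀ x, φ (σ : Equiv.Perm Ω) x - x ∈ U}
        one_mem' := fun x => by simp
        mul_mem' := fun {σ τ} hs ht x => by
          have := U.add_mem (hs (φ (τ : Equiv.Perm Ω) x)) (ht x)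
          simpa [sub_add_sub_cancel] using this
        inv_mem' := fun {σ} hs x => by
          have := U.neg_mem (hs ((φ (σ : Equiv.Perm Ω))⁻¹ x))
          simpa using this }
    have hNn : N.Normal := ⟨fun σ hs τ x => by
      have h1 := hpres _ τ.2 _ _ (hs ((φ (τ : Equiv.Perm Ω))⁻¹ x))
      simpa using h1⟩
    have hq : ((p ^ (m - 1) : ℕ) : ZMod n) ∈ U := by
      obtain ⟨x, hx, hx0⟩ : ∃ x ∈ U, x ≠ 0 := by
        by_contra h
        push Not at h
        exact hU0 ((AddSubgroup.eq_bot_iff_forall U).2 h)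
      obtain ⟨u, hu, hux⟩ : ∃ u : ℕ, u < n ∧ (u : ZMod n) = x :=
        ⟨x.val, ZMod.val_lt _, ZMod.natCast_zmod_val _⟩
      have hu0 : u ≠ 0 := fun h => hx0 (by rw [← hux, h, Nat.cast_zero])
      obtain ⟨j, c, hc, rfl⟩ := Nat.exists_eq_pow_mul_and_not_dvd hu0 p hp.ne_one
      have hjm : j < m := by
        by_contra h
        have h1 : p ^ m ≤ p ^ j * c :=
          (Nat.pow_le_pow_right hp.pos (not_lt.1 h)).trans
            (Nat.le_mul_of_pos_right _ (Nat.pos_of_ne_zero fun h => hc (h ▸ dvd_zero p)))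
        omega
      obtain ⟨d, -, hd⟩ := Nat.exists_mul_mod_eq_one_of_coprime
        (hp.coprime_iff_not_dvd.2 hc).symm hp.one_lt
      have h1 : (p ^ (m - 1 - j) * d) • x ∈ U := U.nsmul_mem hx _
      rw [← hux, nsmul_eq_mul, ← Nat.cast_mul,
        show p ^ (m - 1 - j) * d * (p ^ j * c) = p ^ (m - 1) * (c * d) by
          rw [← Nat.sub_add_cancel (show j ≤ m - 1 by omega), pow_add, Nat.sub_add_cancel (show j ≤ m - 1 by omega)]
          ring,
        ← Nat.mod_add_div (c * d) p, hd, mul_add, mul_one, ← mul_assoc, ← pow_succ,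
        Nat.sub_add_cancel (show 1 ≤ m by omega), ← hn, Nat.cast_add, Nat.cast_mul, ZMod.natCast_self,
        zero_mul, add_zero] at h1
      exact h1
    have hzN : g ^ (p ^ (m - 1)) ∈ N := by
      intro x
      have hz : φ (γ ^ (p ^ (m - 1))) = Equiv.addRight ((p ^ (m - 1) : ℕ) : ZMod n) := by
        rw [← hτ', ZMod.val_natCast, hmod]
      rw [SubgroupClass.coe_pow, ← hγ, hz, Equiv.coe_addRight]
      simpa using hq
    have hle : Subgroup.normalClosure ({g ^ (p ^ (m - 1))} : Set G) ≤ N :=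
      Subgroup.normalClosure_le_normal (Set.singleton_subset_iff.2 hzN)
    refine hU1 ((AddSubgroup.eq_top_iff' U).2 fun u => ?_)
    obtain ⟨σ, hσ⟩ := hN.exists_smul_eq (e 0) (e u)
    have hσ' : ((σ : G) : Equiv.Perm Ω) (e 0) = e u := hσ
    have := hle σ.2 0
    rwa [hφ, hσ', Equiv.symm_apply_apply, sub_zero] at this

end Cfsg.Agent.S3972
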