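import Cfsg.Statements.S0293
import Cfsg.Agent.Lib.Geometry.POmegaStd
import Cfsg.Agent.Lib.Classical.OrthStd

set_option autoImplicit false
open Cfsg CfsgLib.Geometry
open scoped Matrix

namespace Cfsg.Agent.S0293

/-- gcd(4, q^m - 1) |PΩ^+_{2m}(q)| = q^(m(m-1)) (q^m - 1) prod_{i=1}^{m-1} (q^(2i) - 1), m at least 4 (type D_m). -/
theorem result {F : Type*} [Field F] [Fintype F] {q : ℕ} (hF : Fintype.card F = q) (m : ℕ) (hm : 4 ≤ m) : Nat.gcd 4 (q ^ m - 1) * Nat.card (Cfsg.POmega F (Cfsg.quadFormPlus m F)) = q ^ (m * (m - 1)) * (q ^ m - 1) * ∏ i ∈ Finset.range (m - 1), (q ^ (2 * (i + 1)) - 1) := by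
  obtain ⟨k, rfl⟩ : ∃ k, m = k + 1 := ⟨m - 1, by omega⟩
  have hdet : (plusMat (k + 1) F + (plusMat (k + 1) F)ᵀ).det ≠ 0 := by
    rw [det_plus_gram]; simp
  have hc := CfsgLib.Classical.card_isometry_plus (F := F) k
  rw [Nat.card_eq_fintype_card (α := F), hF, mul_assoc 2 _ _, mul_assoc 2] at hc
  rw [Nat.add_sub_cancel]
  have hq : 1 ≤ q ^ (k + 1) := Nat.one_le_pow _ _ (hF ▸ Fintype.card_pos)
  by_cases h2 : (2 : F) = 0
  · have h := card_pOmega_char_two (M := plusMat (k + 1) F) h2 (by simp; omega) hdet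
    rw [coe_matQuad_plus, hc] at h
    haveI := CharTwo.of_one_ne_zero_of_two_eq_zero (one_ne_zero (α := F)) h2
    have he : Even (q ^ (k + 1)) :=
      (Nat.even_iff.2 (hF ▸ FiniteField.even_card_of_char_two (ringChar.eq F 2))).pow_of_ne_zero
        (by omega)
    rw [gcd_four_odd _ (Nat.Even.sub_odd hq he odd_one), one_mul]
    omega
  · have hodd : Odd q := by
      refine Nat.odd_iff.2 (hF ▸ FiniteField.odd_card_of_char_ne_two fun hr => h2 ?_)
      haveI := ringChar.of_eq hr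
      exact CharTwo.two_eq_zero
    have h := card_pOmega_even_dim (M := plusMat (k + 1) F) h2 (by simp; omega) ⟨k + 1, by simp⟩ hdet
    rw [coe_matQuad_plus, hc, det_plus_gram] at h
    have hodd' : q ^ (k + 1) % 2 = 1 := Nat.odd_iff.1 hodd.pow
    rw [gcd_four_even _ (by omega)]
    split_ifs at h with hs
    · rw [if_pos (by have := (isSquare_neg_one_pow_iff hF hodd (k + 1)).1 hs; omega)]
      omega
    · rw [if_neg (fun h' => hs ((isSquare_neg_one_pow_iff hF hodd (k + 1)).2 (by omega)))]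
      omega

end Cfsg.Agent.S0293
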