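import Cfsg.Statements.S4702
import Cfsg.Agent.Lib.Perm.ZassG.SharpPGLEven
import Cfsg.Agent.Lib.Perm.SLTwoPGLEven

set_option autoImplicit false
open Cfsg

namespace Cfsg.Agent.S4702

/-- Let G be a triply transitive permutation group on a finite set of odd size m ≥ 3 in which only the identity fixes three or more points. Then m = 2^a + 1 for some a ≥ 1 and G is isomorphic to SL(2, 2^a). -/
theorem result {α : Type*} [Fintype α] [DecidableEq α] (hm : 3 ≤ Fintype.card α) (hodd : Odd (Fintype.card α)) (G : Subgroup (Equiv.Perm α)) (h3 : MulAction.IsMultiplyPretransitive G α 3) (hfix : ∀ g : G, 3 ≤ Nat.card (MulAction.fixedBy α g) → g = 1) : ∃ a : ℕ, 1 ≤ a ∧ Fintype.card α = 2 ^ a + 1 ∧ ∃ (F : Type) (_ : Field F) (_ : Fintype F), Fintype.card F = 2 ^ a ∧ Nonempty (G ≃* Matrix.SpecialLinearGroup (Fin 2) F) := by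
  classical
  have hn := Nat.card_eq_fintype_card (α := α)
  have hsharp : ∀ x : Fin 3 ↪ α, MulAction.stabilizer G x = ⊥ := by
    intro x
    rw [Subgroup.eq_bot_iff_forall]
    intro g hg
    refine hfix g ?_
    have hle := Nat.card_le_card_of_injective
      (fun i : Fin 3 => (⟨x i, DFunLike.congr_fun (MulAction.mem_stabilizer_iff.1 hg) i⟩ :
        MulAction.fixedBy α g))
      (fun i j h => x.injective (congrArg Subtype.val h))
    rwa [Nat.card_fin] at hle
  rcases eq_or_lt_of_le hm with h | h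
  · obtain ⟨e⟩ := CfsgLib.Perm.ZassG.nonempty_pgl_of_three h3 hsharp (by rw [hn, ← h])
    obtain ⟨j⟩ := CfsgLib.Perm.nonempty_sl_two_equiv_pgl (ZMod 2) (ZMod.ringChar_zmod_n 2)
    exact ⟨1, le_rfl, by rw [← h]; norm_num, ZMod 2, inferInstance, inferInstance, by simp,
      ⟨e.trans j.symm⟩⟩
  · have h5 : 5 ≤ Nat.card α := by
      obtain ⟨k, hk⟩ := hodd
      omega
    have hZ := CfsgLib.Perm.ZassG.isZassenhausGroup_of_sharp3 h3 hsharp h5
    obtain ⟨a, b, hab⟩ := Fintype.exists_pair_of_one_lt_card (α := α) (by omega)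
    have hcard := CfsgLib.Perm.ZassG.card_pairStab_of_sharp h3 hsharp hab (by omega)
    obtain ⟨K, hK, hK', hq, ⟨e⟩⟩ := CfsgLib.Perm.ZassG.exists_pgl_of_odd hZ hab hcard (hn ▸ hodd)
    rw [Nat.card_eq_fintype_card, hn] at hq
    have heven : Fintype.card K % 2 = 0 := by
      obtain ⟨k, hk⟩ := hodd
      omega
    have h2 : ringChar K = 2 := FiniteField.even_card_iff_char_two.2 heven
    have : CharP K 2 := ringChar.of_eq h2
    obtain ⟨a', -, hKa⟩ := FiniteField.card K 2
    obtain ⟨j⟩ := CfsgLib.Perm.nonempty_sl_two_equiv_pgl K h2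
    exact ⟨(a' : ℕ), a'.pos, by omega, K, hK, hK', hKa, ⟨e.trans j.symm⟩⟩

end Cfsg.Agent.S4702
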