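import Cfsg.Statements.S0514
import Cfsg.Agent.Lib.Small.DihedralSylow
import Cfsg.Agent.Lib.Techniques.SylIn

set_option autoImplicit false
open Cfsg

namespace Cfsg.Agent.S0514

/-- In a finite group whose Sylow 2-subgroups are dihedral of order at least 4, the centralizer of any involution has a
normal subgroup of odd order whose index in the centralizer is a power of 2. -/
theorem result {X : Type*} [Group X] [Finite X]
    (S : Sylow 2 X) (n : ℕ) (hn : 2 ≤ n) (hS : Nonempty ((S : Subgroup X) ≃* DihedralGroup n)) (t : X)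
    (ht : orderOf t = 2) :
    ∃ N : Subgroup (Subgroup.centralizer ({t} : Set X)), N.Normal ∧ Odd (Nat.card N) ∧ ∃ k : ℕ, N.index = 2 ^ k := by
  open Subgroup in
  have := Fact.mk Nat.prime_two
  obtain ⟨φ⟩ := hS
  set C := Subgroup.centralizer ({t} : Set X) with hC
  obtain ⟨P⟩ := (inferInstance : Nonempty (Sylow 2 C))
  suffices h : Cfsg.HasNormalPComplement 2 C by
    obtain ⟨N, hN, h1, h2⟩ := CfsgLib.Transfer.hasNormalPComplement_iff_exists.mp h
    exact ⟨N, hN, Nat.not_even_iff_odd.mp fun h' => h1 (even_iff_two_dvd.mp h'), h2⟩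
  rw [CfsgLib.Transfer.hasNormalPComplement_iff_forall_centralizing P]
  intro Q hQ g hg hgo
  have htC : t ∈ C := mem_centralizer_singleton_iff.mpr rfl
  set tC : C := ⟨t, htC⟩
  have htc : ∀ c : C, Commute c tC := fun c =>
    Subtype.ext (mem_centralizer_singleton_iff.mp c.2)
  have htC2 : orderOf tC = 2 := by rw [← orderOf_coe]; exact ht
  set R := Q ⊔ zpowers tC with hR
  have hRp : IsPGroup 2 R := by
    refine (IsPGroup.to_le P.isPGroup' hQ).to_sup_of_normal_left'
      (IsPGroup.of_card (n := 1) (by rw [Nat.card_zpowers, htC2, pow_one])) ?_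
    refine zpowers_le.mpr ?_
    rw [mem_normalizer_iff]
    intro q
    rw [← (htc q).eq, mul_inv_cancel_right]
  have hgR : g ∈ normalizer (R : Set C) := by
    refine CfsgLib.Techniques.mem_normalizer_iff_cj.mpr ?_
    rw [CfsgLib.Techniques.cj, hR, Subgroup.map_sup, MonoidHom.map_zpowers]
    have e2 : (MulAut.conj g).toMonoidHom tC = tC := by
      show g * tC * g⁻¹ = tC
      rw [(htc g).eq, mul_inv_cancel_right]
    rw [e2]
    exact congrArg₂ _ (CfsgLib.Techniques.mem_normalizer_iff_cj.mp hg) rfl
  obtain ⟨S', hS'⟩ := (hRp.map C.subtype).exists_le_sylow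
  let e := (Sylow.equiv S' S).trans φ
  let f : R →* DihedralGroup n :=
    e.toMonoidHom.comp ((inclusion hS').comp (R.equivMapOfInjective C.subtype C.subtype_injective).toMonoidHom)
  have hf : Function.Injective f := by
    intro a b h
    exact (R.equivMapOfInjective C.subtype C.subtype_injective).injective
      (inclusion_injective hS' (e.injective h))
  have hgodd : Odd (orderOf g) := Nat.coprime_two_right.mp hgo
  rw [mem_centralizer_iff]
  intro q hq
  exact (CfsgLib.Small.commute_of_dihedral_type hRp (by omega) f hf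
    (mem_sup_right (mem_zpowers _)) htC2 hgR hgodd (htc g) (mem_sup_left hq)).eq.symm

end Cfsg.Agent.S0514
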