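import Cfsg.Statements.S4500
import Cfsg.Agent.Lib.Blocks.DefectOneGalois
import Cfsg.Agent.Lib.BlockOrth.BrauerFeit
import Cfsg.Agent.Lib.Chars.Burnside
import Cfsg.Agent.Lib.CharApps.AbelianSylow

set_option autoImplicit false
open Cfsg Subgroup
open scoped Pointwise commutatorElement

namespace Cfsg.Agent.S4500

open CfsgLib CfsgLib.Chars CfsgLib.Blocks CfsgLib.BlockOrth in
theorem exists_prime_power_degree.{u} {G : Type u} [Group G] [Finite G] [Nontrivial G] (p q r a b c : ℕ)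
    (hp : p.Prime) (hq : q.Prime) (hr : r.Prime) (hpq : p ≠ q) (hpr : p ≠ r) (hqr : q ≠ r)
    (ha : a ≤ 2) (hG : Nat.card G = p ^ a * q ^ b * r ^ c) :
    ∃ χ : Cfsg.IrrCharacter G, (χ : G → ℂ) ≠ (fun _ => 1) ∧
      ∃ k : ℕ, Cfsg.charDegree (χ : G → ℂ) = q ^ k := by
  classical
  haveI := Fintype.ofFinite G
  haveI : Fact p.Prime := ⟨hp⟩
  by_cases hcomm : commutator G = ⊤
  swap
  · obtain ⟨lam, hlam⟩ := exists_nontrivial_hom hcomm
    refine ⟨(linearEquiv G lam).1, fun h => hlam (MonoidHom.ext fun g => Units.ext ?_), 0, ?_⟩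
    · have := congrFun h g
      rw [linearEquiv_apply] at this
      simpa using this
    · refine Nat.cast_injective (R := ℂ) ?_
      rw [charDegree_cast, (linearEquiv G lam).2]
      simp
  have hns : ¬ Group.IsSolvable G := fun h => by
    haveI := h
    have h2 : commutator G < ⊤ := IsSolvable.commutator_lt_top_of_nontrivial G
    exact h2.ne hcomm
  have ha0 : a ≠ 0 := fun h => hns (isSolvable_of_card_eq_pow_mul_pow hq hr
    (by rw [hG, h, pow_zero, one_mul]))
  have hnd : ∀ {s m : ℕ}, s.Prime → p ≠ s → ¬ p ∣ s ^ m := fun hs hne h =>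
    hne ((Nat.prime_dvd_prime_iff_eq hp hs).1 (hp.dvd_of_dvd_pow h))
  have hfac : (Nat.card G).factorization p = a := by
    rw [hG, Nat.factorization_mul (mul_ne_zero (pow_ne_zero _ hp.ne_zero) (pow_ne_zero _ hq.ne_zero))
      (pow_ne_zero _ hr.ne_zero), Nat.factorization_mul (pow_ne_zero _ hp.ne_zero)
      (pow_ne_zero _ hq.ne_zero), Finsupp.add_apply, Finsupp.add_apply, hp.factorization_pow,
      Nat.factorization_eq_zero_of_not_dvd (hnd hq hpq),
      Nat.factorization_eq_zero_of_not_dvd (hnd hr hpr), Finsupp.single_eq_same, add_zero, add_zero]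
  obtain ⟨M, hM⟩ := CharApps.exists_pModular p
  haveI := hM.2.1.isPrime
  haveI := irrFintype G
  obtain ⟨B, hBdef⟩ : ∃ B, B = Cfsg.principalBlock M G := ⟨_, rfl⟩
  have hB : Cfsg.IsPBlock M B := hBdef ▸ isPBlock_principalBlock M
  have hprin : principal G ∈ B := hBdef ▸ principal_mem_principalBlock M
  have hp1 : Cfsg.charDegree (principal G : G → ℂ) = 1 := by
    refine Nat.cast_injective (R := ℂ) ?_
    rw [charDegree_cast, principal_apply, Nat.cast_one]
  have hmin : sInf ((fun χ : Cfsg.IrrCharacter G =>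
      (Cfsg.charDegree (χ : G → ℂ)).factorization p) '' B) = 0 :=
    Nat.le_zero.1 (Nat.sInf_le ⟨principal G, hprin, by simp [hp1]⟩)
  have hnot : ∀ χ ∈ B, ¬ p ∣ Cfsg.charDegree (χ : G → ℂ) := by
    intro χ hχ hd
    have h1 : 1 ≤ Cfsg.blockHeight p B (χ : G → ℂ) := by
      rw [Cfsg.blockHeight, hmin, Nat.sub_zero]
      exact (hp.dvd_iff_one_le_factorization (irr_charDegree_ne_zero χ)).1 hd
    have h2 := BlockOrth.height_add_two_le hM.2.2 hB hχ h1
    have h3 : Cfsg.blockDefect p B ≤ a := by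
      rw [Cfsg.blockDefect, hfac]
      exact Nat.sub_le _ _
    omega
  obtain ⟨χ, hχB, hχ1, hχr⟩ : ∃ χ ∈ B, χ ≠ principal G ∧ ¬ r ∣ Cfsg.charDegree (χ : G → ℂ) := by
    by_contra hno
    push Not at hno
    obtain ⟨y, hy⟩ := exists_prime_orderOf_dvd_card' p
      (show p ∣ Nat.card G by rw [hG]; exact ((dvd_pow_self p ha0).mul_right _).mul_right _)
    have hw := weak_orthogonality hp hM.2.2 hB (x := (1 : G)) (by simp [hp.ne_one])
      (hy ▸ dvd_refl p : p ∣ orderOf y)
    rw [finsum_mem_eq_sum_of_inter_support_eq (t := Finset.univ.filter (· ∈ B)) _ (by ext; simp),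
      ← Finset.sum_erase_add _ _ (Finset.mem_filter.2 ⟨Finset.mem_univ (principal G), hprin⟩),
      principal_apply, principal_apply, map_one, mul_one] at hw
    have hdiv : ∀ χ ∈ (Finset.univ.filter (· ∈ B)).erase (principal G), ∃ m : ℕ,
        Cfsg.charDegree (χ : G → ℂ) = r * m := fun χ hχ =>
      hno χ (Finset.mem_filter.1 (Finset.mem_of_mem_erase hχ)).2 (Finset.ne_of_mem_erase hχ)
    choose! m hm using hdiv
    rw [Finset.sum_congr rfl (g := fun χ : Cfsg.IrrCharacter G =>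
      (r : ℂ) * ((m χ : ℂ) * (starRingEnd ℂ) ((χ : G → ℂ) y))) fun χ hχ => by
        rw [← charDegree_cast, hm χ hχ]; push_cast; ring, ← Finset.mul_sum] at hw
    obtain ⟨s, hs, hsint⟩ : ∃ s : ℂ, (r : ℂ) * s = -1 ∧ IsIntegral ℤ s := by
      refine ⟨∑ χ ∈ (Finset.univ.filter (· ∈ B)).erase (principal G),
        (m χ : ℂ) * (starRingEnd ℂ) ((χ : G → ℂ) y), eq_neg_of_add_eq_zero_left hw,
        IsIntegral.sum _ fun χ _ => (isIntegral_natCast _).mul ?_⟩
      obtain ⟨χ, d, ρ, hρ, hχ⟩ := χ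
      subst hχ
      exact (isIntegral_character ρ y).map (starRingEnd ℂ).toIntAlgHom
    have hr0 : (r : ℂ) ≠ 0 := Nat.cast_ne_zero.2 hr.ne_zero
    have hsq : s = ((-1 / r : ℚ) : ℂ) := by
      push_cast
      field_simp
      linear_combination hs
    have hint : IsIntegral ℤ (-1 / r : ℚ) :=
      (isIntegral_algHom_iff ((algebraMap ℚ ℂ).toIntAlgHom) (RingHom.injective _)).1 (by
        show IsIntegral ℤ ((algebraMap ℚ ℂ) _)
        rw [eq_ratCast, ← hsq]; exact hsint)
    obtain ⟨z, hz⟩ := IsIntegrallyClosed.isIntegral_iff.1 hint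
    rw [eq_intCast] at hz
    have hrq : (r : ℚ) ≠ 0 := Nat.cast_ne_zero.2 hr.ne_zero
    have hz' : (r : ℤ) * z = -1 := by
      have h6 : (r : ℚ) * (z : ℚ) = -1 := by rw [hz]; field_simp
      exact_mod_cast h6
    have h7 : (r : ℤ) ∣ 1 := ⟨-z, by linear_combination hz'⟩
    exact hr.ne_one (by exact_mod_cast Int.eq_one_of_dvd_one (by positivity) h7)
  refine ⟨χ, fun h => hχ1 (Subtype.ext (h.trans (funext fun g => (principal_apply g).symm))), ?_⟩
  obtain ⟨n, -, hn, hdvd⟩ := irr_degree_dvd_card χ.2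
  have hn' : Cfsg.charDegree (χ : G → ℂ) = n := by
    refine Nat.cast_injective (R := ℂ) ?_
    rw [charDegree_cast, hn]
  rw [← hn', hG] at hdvd
  have h1 := ((hp.coprime_iff_not_dvd.2 (hnot χ hχB)).symm.pow_right a)
  have h2 := ((hr.coprime_iff_not_dvd.2 hχr).symm.pow_right c)
  obtain ⟨k, -, hk⟩ := (Nat.dvd_prime_pow hq).1
    (h1.dvd_of_dvd_mul_left (h2.dvd_of_dvd_mul_right hdvd))
  exact ⟨k, hk⟩

/-- Let G be a non-trivial finite group of order p^a · q^b · r^c with p, q, r distinct primes and a ≤ 2. Then G has a non-principal irreducible character whose degree is a power of q, and a non-principal irreducible character whose degree is a power of r; the power may be the zeroth, so a non-principal linear character serves for both. -/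
theorem result {G : Type*} [Group G] [Finite G] [Nontrivial G] (p q r a b c : ℕ) (hp : p.Prime) (hq : q.Prime) (hr : r.Prime) (hpq : p ≠ q) (hpr : p ≠ r) (hqr : q ≠ r) (ha : a ≤ 2) (hG : Nat.card G = p ^ a * q ^ b * r ^ c) : (∃ χ : Cfsg.IrrCharacter G, (χ : G → ℂ) ≠ (fun _ => 1) ∧ ∃ k : ℕ, Cfsg.charDegree (χ : G → ℂ) = q ^ k) ∧ ∃ χ : Cfsg.IrrCharacter G, (χ : G → ℂ) ≠ (fun _ => 1) ∧ ∃ k : ℕ, Cfsg.charDegree (χ : G → ℂ) = r ^ k := by
  exact ⟨exists_prime_power_degree p q r a b c hp hq hr hpq hpr hqr ha hG,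
    exists_prime_power_degree p r q a c b hp hr hq hpr hpq hqr.symm ha (by rw [hG]; ring)⟩


end Cfsg.Agent.S4500
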