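import Cfsg.Statements.S0561
import Cfsg.Agent.Lib.SolvStruct.Factorization
import Cfsg.Agent.Lib.Coprime.Hall

set_option autoImplicit false
open Pointwise
open Cfsg
open scoped Pointwise

namespace Cfsg.Agent.S0561

theorem smul_eq_of_mem_normalizer {G : Type*} [Group G] {g : G} {H : Subgroup G}
    (hg : g ∈ Subgroup.normalizer (H : Set G)) : MulAut.conj g • H = H := by
  ext y
  rw [CfsgLib.Coprime.mem_conj_smul]
  have h := Subgroup.mem_normalizer_iff.1 (inv_mem hg) y
  rw [inv_inv] at h
  exact h.symm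

/-- Let the finite solvable group G be the product HK of subgroups, and let A be normal in H and B normal in K, where A and B are Hall subgroups of G (order coprime to index). Then for all x, y the product set of xAx⁻¹ and yBy⁻¹ is a subgroup of G. -/
theorem result {G : Type*} [Group G] [Finite G] [Group.IsSolvable G] (H K A B : Subgroup G) (hHK : ∀ g : G, ∃ h ∈ H, ∃ k ∈ K, g = h * k) (hA : A ≤ H) (hAn : (A.subgroupOf H).Normal) (hB : B ≤ K) (hBn : (B.subgroupOf K).Normal) (hAh : (Nat.card A).Coprime A.index) (hBh : (Nat.card B).Coprime B.index) (x y : G) : ∃ S : Subgroup G, (S : Set G) = ((MulAut.conj x • A : Subgroup G) : Set G) * ((MulAut.conj y • B : Subgroup G) : Set G) := by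
  have hB' : ∀ g : G, ∃ k ∈ K, ∃ h ∈ H, g = k * h := CfsgLib.SolvStruct.factor_symm hHK
  -- conjugate the pair to `(A, B)`
  obtain ⟨h, hh, k, hk, he⟩ := hHK (x⁻¹ * y)
  have nA : ∀ u ∈ H, MulAut.conj u • A = A := fun u hu =>
    smul_eq_of_mem_normalizer ((Subgroup.normal_subgroupOf_iff_le_normalizer hA).1 hAn hu)
  have nB : ∀ u ∈ K, MulAut.conj u • B = B := fun u hu =>
    smul_eq_of_mem_normalizer ((Subgroup.normal_subgroupOf_iff_le_normalizer hB).1 hBn hu)
  have ex : MulAut.conj x • A = MulAut.conj (x * h) • A := by rw [map_mul, mul_smul, nA h hh]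
  have ey : MulAut.conj y • B = MulAut.conj (x * h) • B := by
    have hy : y = x * h * k := by rw [mul_assoc, ← he, mul_inv_cancel_left]
    rw [hy, map_mul _ (x * h) k, mul_smul, nB k hk]
  -- a Hall subgroup containing `A` and `B`
  set π : Set ℕ := {p | p ∣ Nat.card A ∨ p ∣ Nat.card B} with hπ
  have hD := CfsgLib.Coprime.hallD_of_solvable (G := G) π
  obtain ⟨T, hT, hAT⟩ := hD.exists_le (U := A) fun p _ hd => Or.inl hd
  obtain ⟨z, hz⟩ := hD.conj_le (U := B) (fun p _ hd => Or.inr hd) hT
  -- write `z = h₁ k₁`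
  obtain ⟨h₁, hh₁, k₁, hk₁, rfl⟩ := hHK z
  rw [map_mul, mul_smul, nB k₁ hk₁] at hz
  set M := MulAut.conj h₁⁻¹ • T with hM
  have hBM : B ≤ M := by
    rw [hM, map_inv]
    exact Subgroup.subset_pointwise_smul_iff.2 (by rw [inv_inv]; exact hz)
  have hAM : A ≤ M := by
    rw [hM, ← nA h₁⁻¹ (inv_mem hh₁)]
    exact Subgroup.pointwise_smul_le_pointwise_smul_iff.2 hAT
  have hMh : Cfsg.IsPiHall π M := CfsgLib.Coprime.piHall_conj_smul _ hT
  have key : ∀ r ∈ M, ∃ a ∈ A, ∃ b ∈ B, r = a * b := by
    refine CfsgLib.SolvStruct.exists_mul_of_relIndex_le hAM ?_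
    have hne : ∀ S : Subgroup G, Nat.card S ≠ 0 := fun S => Nat.card_pos.ne'
    have hv : ∀ (S : Subgroup G), (Nat.card S).Coprime S.index → ∀ p : ℕ, p.Prime →
        p ∣ Nat.card S → (Nat.card S).factorization p = (Nat.card G).factorization p := by
      intro S hS p hp hd
      rw [← S.card_mul_index, Nat.factorization_mul (hne S) Subgroup.index_ne_zero_of_finite,
        Finsupp.add_apply, Nat.factorization_eq_zero_of_not_dvd fun hi =>
          hp.ne_one (Nat.eq_one_of_dvd_coprimes hS hd hi), add_zero]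
    have hdvd : Nat.card M * Nat.card (A ⊓ B : Subgroup G) ∣ Nat.card A * Nat.card B := by
      rw [← Nat.factorization_le_iff_dvd (mul_ne_zero (hne M) (hne _))
        (mul_ne_zero (hne A) (hne B)), Nat.factorization_mul (hne M) (hne _),
        Nat.factorization_mul (hne A) (hne B)]
      intro p
      simp only [Finsupp.add_apply]
      by_cases hp : p.Prime
      swap
      · simp [Nat.factorization_eq_zero_of_not_prime _ hp]
      have hMG : (Nat.card M).factorization p ≤ (Nat.card G).factorization p :=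
        (Nat.factorization_le_iff_dvd (hne M) Nat.card_pos.ne').2 (Subgroup.card_subgroup_dvd_card M) p
      have hIA : (Nat.card (A ⊓ B : Subgroup G)).factorization p ≤ (Nat.card A).factorization p :=
        (Nat.factorization_le_iff_dvd (hne _) (hne A)).2 (Subgroup.card_dvd_of_le inf_le_left) p
      have hIB : (Nat.card (A ⊓ B : Subgroup G)).factorization p ≤ (Nat.card B).factorization p :=
        (Nat.factorization_le_iff_dvd (hne _) (hne B)).2 (Subgroup.card_dvd_of_le inf_le_right) p
      by_cases ha : p ∣ Nat.card A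
      · rw [hv A hAh p hp ha]
        omega
      · rw [Nat.factorization_eq_zero_of_not_dvd ha] at hIA ⊢
        by_cases hb : p ∣ Nat.card B
        · rw [hv B hBh p hp hb]
          omega
        · have h0 : ¬ p ∣ Nat.card M := fun hd => by
            rcases hMh.1 p hp hd with h | h
            · exact ha h
            · exact hb h
          rw [Nat.factorization_eq_zero_of_not_dvd h0]
          omega
    have h1 : Nat.card B * B.relIndex M = Nat.card M := by
      rw [← Subgroup.relIndex_bot_left B, ← Subgroup.relIndex_bot_left M]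
      exact Subgroup.relIndex_mul_relIndex _ _ _ bot_le hBM
    have h2 : Nat.card (A ⊓ B : Subgroup G) * B.relIndex A = Nat.card A := by
      rw [← Subgroup.inf_relIndex_left A B, ← Subgroup.relIndex_bot_left (A ⊓ B),
        ← Subgroup.relIndex_bot_left A]
      exact Subgroup.relIndex_mul_relIndex _ _ _ bot_le inf_le_left
    rw [← h1, ← h2] at hdvd
    have h3 := Nat.le_of_dvd (Nat.pos_of_ne_zero fun h0 => by
      rcases mul_eq_zero.1 h0 with h | h
      · exact hne A (by rw [← h2]; exact h)
      · exact hne B h) hdvd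
    refine Nat.le_of_mul_le_mul_left ?_
      (Nat.mul_pos (Nat.card_pos (α := B)) (Nat.card_pos (α := (A ⊓ B : Subgroup G))))
    calc Nat.card B * Nat.card (A ⊓ B : Subgroup G) * B.relIndex M
        = Nat.card B * B.relIndex M * Nat.card (A ⊓ B : Subgroup G) := by ring
      _ ≤ _ := h3
      _ = _ := by ring
  refine ⟨MulAut.conj (x * h) • M, ?_⟩
  rw [ex, ey]
  ext r
  rw [SetLike.mem_coe, CfsgLib.Coprime.mem_conj_smul]
  constructor
  · intro hr
    obtain ⟨a, ha, b, hb, hab⟩ := key _ hr
    refine ⟨_, ⟨a, ha, rfl⟩, _, ⟨b, hb, rfl⟩, ?_⟩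
    show (x * h) * a * (x * h)⁻¹ * ((x * h) * b * (x * h)⁻¹) = r
    rw [show (x * h) * a * (x * h)⁻¹ * ((x * h) * b * (x * h)⁻¹) = (x * h) * (a * b) * (x * h)⁻¹
      by group, ← hab]
    group
  · rintro ⟨_, ⟨a, ha, rfl⟩, _, ⟨b, hb, rfl⟩, rfl⟩
    have := mul_mem (hAM ha) (hBM hb)
    show (x * h)⁻¹ * ((x * h) * a * (x * h)⁻¹ * ((x * h) * b * (x * h)⁻¹)) * (x * h) ∈ M
    rw [show (x * h)⁻¹ * ((x * h) * a * (x * h)⁻¹ * ((x * h) * b * (x * h)⁻¹)) * (x * h) = a * b
      by group]
    exact this

end Cfsg.Agent.S0561
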