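import Cfsg.Statements.S0563
import Cfsg.Agent.Lib.SolvStruct.KegelWielandt.Main
import Cfsg.Agent.S0561

set_option autoImplicit false
open Pointwise
open Cfsg
open scoped Pointwise

namespace Cfsg.Agent.S0563

/-- If a finite group G is the product AB of two nilpotent subgroups of coprime orders, then G is solvable, and for every Sylow p-subgroup P of A and Sylow q-subgroup Q of B the product set PQ is a subgroup. -/
theorem result {G : Type*} [Group G] [Finite G] (A B : Subgroup G) (hA : Group.IsNilpotent A) (hB : Group.IsNilpotent B) (hcop : (Nat.card A).Coprime (Nat.card B)) (hAB : ∀ g : G, ∃ a ∈ A, ∃ b ∈ B, g = a * b) : Group.IsSolvable G ∧ ∀ (p q : ℕ) [Fact p.Prime] [Fact q.Prime] (P : Sylow p A) (Q : Sylow q B), ∃ S : Subgroup G, (S : Set G) = (((P : Subgroup A).map A.subtype : Subgroup G) : Set G) * (((Q : Subgroup B).map B.subtype : Subgroup G) : Set G) := by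
  haveI hs := CfsgLib.SolvStruct.KW.isSolvable_of_coprime_nilpotent _ rfl A B hA hB hcop hAB
  refine ⟨hs, fun p q _ _ P Q => ?_⟩
  have hall : ∀ {A B : Subgroup G} (r : ℕ) [Fact r.Prime] (P : Sylow r A),
      (Nat.card A).Coprime (Nat.card B) → A.index ∣ Nat.card B →
      (Nat.card ((P : Subgroup A).map A.subtype)).Coprime
        ((P : Subgroup A).map A.subtype).index := by
    intro A B r _ P hcop hi
    rw [Subgroup.card_map_of_injective A.subtype_injective,
      ← Subgroup.relIndex_mul_index (Subgroup.map_subtype_le (P : Subgroup A))]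
    refine Nat.Coprime.mul_right ?_ ?_
    · rw [Subgroup.relIndex, Subgroup.subgroupOf,
        Subgroup.comap_map_eq_self_of_injective A.subtype_injective]
      exact P.card_coprime_index
    · exact (hcop.coprime_dvd_left (Subgroup.card_subgroup_dvd_card _)).coprime_dvd_right hi
  have hidx : ∀ {A B : Subgroup G}, (∀ g : G, ∃ a ∈ A, ∃ b ∈ B, g = a * b) →
      A.index ∣ Nat.card B := by
    intro A B h
    rw [← CfsgLib.SolvStruct.relIndex_eq_index_of_factor (CfsgLib.SolvStruct.factor_symm h)]
    exact Subgroup.relIndex_dvd_card _ _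
  have hnorm : ∀ {A : Subgroup G} (r : ℕ) [Fact r.Prime] (P : Sylow r A), Group.IsNilpotent A →
      (((P : Subgroup A).map A.subtype).subgroupOf A).Normal := by
    intro A r _ P hA
    haveI := hA
    rw [Subgroup.subgroupOf, Subgroup.comap_map_eq_self_of_injective A.subtype_injective]
    exact P.normal_of_normalizerCondition Group.normalizerCondition_of_isNilpotent
  obtain ⟨S, hS⟩ := Cfsg.Agent.S0561.result A B _ _ hAB (Subgroup.map_subtype_le (P : Subgroup A))
    (hnorm p P hA) (Subgroup.map_subtype_le (Q : Subgroup B)) (hnorm q Q hB)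
    (hall p P hcop (hidx hAB))
    (hall q Q hcop.symm (hidx (CfsgLib.SolvStruct.factor_symm hAB))) 1 1
  exact ⟨S, by simpa using hS⟩

end Cfsg.Agent.S0563
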