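import Cfsg.Statements.S5655
import Cfsg.Agent.Lib.UnMono.Blocks

set_option autoImplicit false
open Cfsg

namespace Cfsg.Agent.S5655

section

open scoped Matrix Classical
open CfsgLib.Maximal CfsgLib.UnMono

variable {n q t k : ℕ} {F : Type*} [Field F] [Fintype F] {τ : F ≃+* F}

local notation "hh" => Cfsg.hermForm n F q
local notation "MM" => Matrix (Fin n) (Fin n) F

/-- An isometry moving a coordinate partition to the decomposition. -/
lemma exists_onb_frame (K : Ctx n q τ) (D : Fin t → Submodule F (Fin n → F))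
    (hD : Cfsg.Geo.IsNondegenerateMDecomposition (Cfsg.hermForm n F q) k D) :
    ∃ (ee : Fin n ≃ Fin t × Fin k) (P : Matrix.GeneralLinearGroup (Fin n) F), P ∈ Cfsg.GU n F q ∧
      ∀ i w, (P : MM) *ᵥ w ∈ D i ↔ ∀ x, (ee x).1 ≠ i → w x = 0 := by
  have hσ : (τ : F →+* F) ≠ RingHom.id F :=
    fun h => K.form.ne_refl (RingEquiv.ext fun a => RingHom.congr_fun h a)
  have honb : ∀ i, ∃ b : Module.Basis (Fin k) F (D i), ∀ x y,
      hh (b x : Fin n → F) (b y) = if x = y then 1 else 0 := by
    intro i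
    let B : D i →ₛₗ[(τ : F →+* F)] D i →ₗ[F] F :=
      LinearMap.mk₂'ₛₗ (τ : F →+* F) (RingHom.id F) (fun u v => hh (v : Fin n → F) u)
        (fun a b v => by simp [un_add_right K.form])
        (fun c a v => by simp [un_smul_right K.form])
        (fun v a b => by simp [K.form.add_left])
        (fun c v a => by simp [K.form.smul_left])
    have hS : B.IsSymm := ⟨fun u v => (K.form.herm _ _).symm⟩
    have hB : B.Nondegenerate := by
      refine ⟨fun v hv => ?_, fun v hv => ?_⟩ <;> by_contra h0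
      · obtain ⟨x, hx, hxv⟩ := (hD.nondegenerate i v v.2 fun h => h0 (Subtype.ext h)).1
        exact hxv (hv ⟨x, hx⟩)
      · obtain ⟨x, hx, hvx⟩ := (hD.nondegenerate i v v.2 fun h => h0 (Subtype.ext h)).2
        exact hvx (hv ⟨x, hx⟩)
    obtain ⟨b, hb⟩ := CfsgLib.Geometry.exists_orthonormal hσ K.invol hS hB
    refine ⟨b.reindex (finCongr (hD.decomp.finrank_eq i)), fun x y => ?_⟩
    show B (b.reindex (finCongr (hD.decomp.finrank_eq i)) y) (b.reindex (finCongr (hD.decomp.finrank_eq i)) x) = _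
    simp only [Module.Basis.reindex_apply, hb, finCongr_symm, finCongr_apply, Fin.ext_iff, Fin.val_cast,
      eq_comm]
  choose b hb using honb
  let c : Module.Basis (Σ _ : Fin t, Fin k) F (Fin n → F) :=
    (DirectSum.isInternal_submodule_of_iSupIndep_of_iSup_eq_top hD.decomp.indep
      hD.decomp.iSup_eq_top).collectedBasis b
  have hcard : Fintype.card (Fin n) = Fintype.card (Fin t × Fin k) := by
    have h := Module.finrank_eq_card_basis c
    rw [Module.finrank_pi] at h
    rw [h]; exact Fintype.card_congr (Equiv.sigmaEquivProd (Fin t) (Fin k))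
  let ee : Fin n ≃ Fin t × Fin k := Fintype.equivOfCardEq hcard
  let e : Module.Basis (Fin n) F (Fin n → F) := c.reindex ((Equiv.sigmaEquivProd (Fin t) (Fin k)).trans ee.symm)
  have he : ∀ x, e x = (b (ee x).1 (ee x).2 : Fin n → F) := fun x => by
    simp only [e, c, Module.Basis.reindex_apply, DirectSum.IsInternal.collectedBasis_coe,
      Equiv.symm_trans_apply, Equiv.symm_symm, Equiv.sigmaEquivProd_symm_apply]
  have hee : ∀ x y, hh (e x) (e y) = if x = y then 1 else 0 := by
    intro x y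
    rw [he, he]
    generalize hx : ee x = p
    generalize hy : ee y = p'
    obtain ⟨i, j⟩ := p
    obtain ⟨i', j'⟩ := p'
    have hxy : x = y ↔ i = i' ∧ j = j' := by
      rw [← ee.injective.eq_iff, hx, hy, Prod.mk.injEq]
    by_cases h : i = i'
    · subst h; rw [hb]; simp [hxy]
    · rw [hD.orthogonal _ _ h _ (b i j).2 _ (b i' j').2, if_neg fun h' => h (hxy.1 h').1]
  let E : (Fin n → F) ≃ₗ[F] (Fin n → F) := e.equivFun.symm
  have hPv : ∀ w, ((CfsgLib.Geometry.glEquiv.symm E : Matrix.GeneralLinearGroup (Fin n) F) : MM) *ᵥ w =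
      ∑ x, w x • e x := fun w => by
    rw [show ((CfsgLib.Geometry.glEquiv.symm E : Matrix.GeneralLinearGroup (Fin n) F) : MM) *ᵥ w = E w from
      CfsgLib.Geometry.glEquiv_symm_mulVec E w]
    exact e.equivFun_symm_apply w
  have hcoord : ∀ (w : Fin n → F) y, hh (∑ x, w x • e x) (e y) = w y := fun w y => by
    rw [un_sum_left K.form, Finset.sum_eq_single y (fun x _ hx => by
      rw [K.form.smul_left, hee, if_neg hx, mul_zero]) (by simp), K.form.smul_left, hee, if_pos rfl, mul_one]
  refine ⟨ee, CfsgLib.Geometry.glEquiv.symm E, (mem_GU_iff _).2 fun u v => ?_, fun i w => ?_⟩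
  · rw [hPv, hPv, un_sum_left K.form, K.hh_eq u v]
    refine Finset.sum_congr rfl fun x _ => ?_
    rw [K.form.smul_left, K.form.herm, hcoord]
  · rw [hPv]
    constructor
    · intro h x hx
      rw [← hcoord w x, he]
      exact hD.orthogonal i (ee x).1 (Ne.symm hx) _ h _ (b (ee x).1 (ee x).2).2
    · intro h
      refine Submodule.sum_mem _ fun x _ => ?_
      by_cases hx : (ee x).1 = i
      · rw [he, ← hx]; exact Submodule.smul_mem _ _ (b (ee x).1 (ee x).2).2
      · rw [h x hx, zero_smul]; exact zero_mem _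

/-- The block stabiliser is proper. -/
lemma exists_not_block (K : Ctx n q τ) (hn : 6 ≤ n) (ee : Fin n ≃ Fin t × Fin k) (ht : 2 ≤ t) :
    ∃ g ∈ suGL n F q, ¬ IsBlock (fun x => (ee x).1) g := by
  have hnk : n = t * k := by simpa using Fintype.card_congr ee
  let b : Fin n := ⟨0, by omega⟩
  obtain ⟨a, hab⟩ := Fintype.exists_ne_of_one_lt_card (by simp; omega : 1 < Fintype.card (Fin n)) b
  obtain ⟨c, hc, hca⟩ : ∃ c, (ee c).1 ≠ (ee b).1 ∧ c ≠ a := by
    have h1 : ((Finset.univ : Finset (Fin n)).filter fun x => (ee x).1 = (ee b).1).card ≤ k := by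
      refine le_trans (Finset.card_le_card_of_injOn (fun x => (ee x).2) (t := Finset.univ) (fun x _ => by simp) ?_)
        (by simp)
      intro x hx y hy hxy
      simp only [Finset.coe_filter, Finset.mem_univ, true_and, Set.mem_setOf_eq] at hx hy
      exact ee.injective (Prod.ext (hx.trans hy.symm) hxy)
    obtain ⟨c, -, hc⟩ := Finset.exists_mem_notMem_of_card_lt_card
      (s := ((Finset.univ : Finset (Fin n)).filter fun x => (ee x).1 = (ee b).1) ∪ {a}) (t := Finset.univ)
      (lt_of_le_of_lt (Finset.card_union_le _ _) (by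
        rw [Finset.card_singleton, Finset.card_univ, Fintype.card_fin]
        have : 2 * k ≤ n := hnk ▸ Nat.mul_le_mul_right k ht
        omega))
    simp at hc
    exact ⟨c, hc.2, hc.1⟩
  have hcb : c ≠ b := fun h => hc (by rw [h])
  obtain ⟨d, -, hd⟩ := Finset.exists_mem_notMem_of_card_lt_card (s := ({a, b, c} : Finset (Fin n)))
    (t := Finset.univ) (lt_of_le_of_lt Finset.card_le_three (by simp; omega))
  simp only [Finset.mem_insert, Finset.mem_singleton, not_or] at hd
  obtain ⟨ρ, hρ⟩ := K.exists_nm (c := -1) (by rw [map_neg, map_one])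
  have hρ0 : ρ ≠ 0 := fun h => by rw [h, zero_mul] at hρ; exact neg_ne_zero.2 one_ne_zero hρ.symm
  let v : Fin n → F := fun i => if i = a then 1 else if i = b then ρ else if i = c then 1
    else if i = d then ρ else 0
  have hvv : hh v v = 0 := by
    have hsum : ∑ i, v i * τ (v i) = ∑ i ∈ ({a, b, c, d} : Finset (Fin n)), v i * τ (v i) := by
      refine (Finset.sum_subset (Finset.subset_univ _) fun i _ hi => ?_).symm
      simp only [Finset.mem_insert, Finset.mem_singleton, not_or] at hi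
      simp [v, hi.1, hi.2.1, hi.2.2.1, hi.2.2.2]
    rw [K.hh_self, hsum, Finset.sum_insert (by simp [hab, Ne.symm hca, Ne.symm hd.1]),
      Finset.sum_insert (by simp [Ne.symm hcb, Ne.symm hd.2.1]), Finset.sum_pair (Ne.symm hd.2.2)]
    simp [v, hab.symm, hcb, hca, hd.1, hd.2.1, hd.2.2, hρ]
  obtain ⟨s, hs0, hs⟩ := un_skew_exists K.form
  refine ⟨_, utv_mem_su K.form hvv hs, ?_⟩
  rintro ⟨σ, hσ⟩
  have e1 : ∀ l, l ≠ a → v l ≠ 0 → (ee l).1 = σ (ee a).1 := fun l hl hv => hσ l a (by
    rw [tv_col K hvv, Pi.single_eq_of_ne hl, zero_add, show v a = 1 from if_pos rfl, map_one, one_mul]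
    exact mul_ne_zero hs0 hv)
  refine hc ((e1 c hca ?_).trans (e1 b hab.symm ?_).symm)
  · simp [v, hca, hcb]
  · simp [v, hab.symm, hρ0]

lemma isMono_iff_block (ee : Fin n ≃ Fin t × Fin 1) (g : Matrix.GeneralLinearGroup (Fin n) F) :
    IsBlock (fun x => (ee x).1) g ↔ IsMono g := by
  have hinj : Function.Injective fun x => (ee x).1 := fun x y h =>
    ee.injective (Prod.ext h (Subsingleton.elim _ _))
  constructor
  · rintro ⟨σ, hσ⟩ x
    refine ⟨ee.symm (σ (ee x).1, 0), fun l hl => by_contra fun h => hl (ee.injective ?_)⟩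
    rw [Equiv.apply_symm_apply]
    exact Prod.ext (hσ l x h) (Subsingleton.elim _ _)
  · intro h
    obtain ⟨π, d, rfl⟩ := h.exists_eq
    have hbij : Function.Bijective fun x => (ee x).1 :=
      ⟨hinj, fun i => ⟨ee.symm (i, 0), by simp⟩⟩
    let e1 : Fin n ≃ Fin t := Equiv.ofBijective _ hbij
    refine ⟨e1.symm.trans (π.trans e1), fun y x hyx => ?_⟩
    have hy : y = π x := by
      by_contra hne; exact hyx (by rw [monoGL_val]; simp [monoMat, hne])
    subst hy
    show e1 (π x) = e1 (π (e1.symm (e1 x)))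
    rw [e1.symm_apply_apply]

/-- The stabiliser is maximal. -/
lemma main (hF : Fintype.card F = q ^ 2) (hn : 6 ≤ n) (D : Fin t → Submodule F (Fin n → F))
    (hD : Cfsg.Geo.IsNondegenerateMDecomposition (Cfsg.hermForm n F q) k D) (hex : ¬ (k = 2 ∧ q = 2))
    (hbig : k = 1 → 10 ≤ n ∨ (n = 6 ∧ 3 ≤ q) := by exact fun _ => Or.inl (by omega)) :
    Cfsg.Geo.IsMaximalIn (suGL n F q) (Cfsg.Geo.decompositionStabilizer D ⊓ suGL n F q) := by
  obtain ⟨τ, K⟩ := exists_ctx hF n
  obtain ⟨ee, P, hPU, hP⟩ := exists_onb_frame K D hD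
  have hstab := mem_stab_iff_isBlock D ee P hP hD.decomp.finrank_eq
  have hsu : ∀ g, g ∈ suGL n F q → P⁻¹ * g * P ∈ suGL n F q := fun g hg => by
    simpa using conj_mem_su K (a := P⁻¹) ((Cfsg.GU n F q).inv_mem hPU) hg
  have hsu' : ∀ g, g ∈ suGL n F q → P * g * P⁻¹ ∈ suGL n F q := fun g hg => conj_mem_su K hPU hg
  constructor
  · refine lt_of_le_of_ne inf_le_right fun heq => ?_
    obtain ⟨g, hg, hgb⟩ := exists_not_block K hn ee hD.decomp.two_le
    have h1 := hsu' g hg
    rw [← heq] at h1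
    have h2 := (hstab _).1 h1.1
    rw [show P⁻¹ * (P * g * P⁻¹) * P = g by group] at h2
    exact hgb h2
  intro M hHM hMS
  let M' := M.map (MulAut.conj P⁻¹).toMonoidHom
  have hmem : ∀ g, g ∈ M' ↔ P * g * P⁻¹ ∈ M := fun g => by
    rw [Subgroup.mem_map_equiv]; simp
  have hle : M' ≤ suGL n F q := fun g hg => by
    have := hsu _ (hMS ((hmem g).1 hg))
    rwa [show P⁻¹ * (P * g * P⁻¹) * P = g by group] at this
  have hblock : ∀ g ∈ suGL n F q, IsBlock (fun x => (ee x).1) g → g ∈ M' := fun g hg hgb =>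
    (hmem g).2 (hHM ⟨(hstab _).2 (by rwa [show P⁻¹ * (P * g * P⁻¹) * P = g by group]), hsu' g hg⟩)
  by_cases hall : ∀ g ∈ M', IsBlock (fun x => (ee x).1) g
  · refine Or.inl (le_antisymm (fun g hg => ⟨(hstab g).2 (hall _ ((hmem _).2 ?_)), hMS hg⟩) hHM)
    rwa [show P * (P⁻¹ * g * P) * P⁻¹ = g by group]
  push Not at hall
  refine Or.inr (le_antisymm hMS fun g hg => ?_)
  have key : suGL n F q ≤ M' := by
    rcases Nat.lt_or_ge k 2 with hk | hk
    · obtain rfl : k = 1 := by have := hD.decomp.pos; omega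
      refine suGL_le_of_over K hn ⟨hle, fun g hg hgm => hblock g hg ((isMono_iff_block ee g).2 hgm)⟩ (hbig rfl) ?_
      obtain ⟨g, hg, hgb⟩ := hall
      exact ⟨g, hg, fun h => hgb ((isMono_iff_block ee g).2 h)⟩
    · exact suGL_le_of_overB K hn hk ⟨hle, hblock⟩ hex hall
  have h3 := (hmem _).1 (key (hsu g hg))
  rwa [show P * (P⁻¹ * g * P) * P⁻¹ = g by group] at h3

end


/-- Let F be the field with q² elements and n ≥ 13. Let D be a decomposition of F^n into t ≥ 2 pairwise orthogonal subspaces of equal dimension k, each non-degenerate for the standard unitary form, spanning F^n. Unless k = 2 and q = 2, the elements of SU_n(q) permuting the members of D form a maximal subgroup of SU_n(q). -/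
theorem result {F : Type*} [Field F] [Fintype F] (n q : ℕ) (hF : Fintype.card F = q ^ 2) (hn : 13 ≤ n) {t : ℕ} (k : ℕ) (D : Fin t → Submodule F (Fin n → F)) (hD : Cfsg.Geo.IsNondegenerateMDecomposition (Cfsg.hermForm n F q) k D) (hex : ¬ (k = 2 ∧ q = 2)) : Cfsg.Geo.IsMaximalIn (Cfsg.GU n F q ⊓ Cfsg.Geo.specialLinear (Fin n) F) (Cfsg.Geo.decompositionStabilizer D ⊓ (Cfsg.GU n F q ⊓ Cfsg.Geo.specialLinear (Fin n) F)) := by
  exact main hF (by omega) D hD hex

end Cfsg.Agent.S5655
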