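import Cfsg.Statements.S5179
import Cfsg.Agent.Lib.Fusion.SmallEssential
import Cfsg.Agent.Lib.Fusion.StrongEmbed
import Cfsg.Agent.Lib.Fusion.Saturation

open CfsgLib.Fusion
open scoped commutatorElement Pointwise

/-- All elements that make two members of a p-subgroup commute after conjugation lie in one
strongly embedded subgroup. -/
theorem exists_proper_of_commuting {X : Type*} [Group X] [Finite X] {p : ℕ} [Fact p.Prime]
    {E W : Subgroup X} (hE : Cfsg.IsStronglyPEmbedded p E) (hW : IsPGroup p W) :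
    ∃ Y : Subgroup X, Y ≠ ⊤ ∧ ∀ x t s : X, t ∈ W → t ≠ 1 → s ∈ W → s ≠ 1 →
      t * (x * s * x⁻¹) = x * s * x⁻¹ * t → x ∈ Y := by
  obtain ⟨-, hne, P, hP⟩ := hE
  obtain ⟨Q, hQ⟩ := hW.exists_le_sylow
  obtain ⟨k, hk⟩ := MulAction.exists_smul_eq X P Q
  refine ⟨E.map (MulAut.conj k).toMonoidHom, fun h => hne ?_, ?_⟩
  · rw [← Subgroup.comap_map_eq_self_of_injective (f := (MulAut.conj k).toMonoidHom) (MulAut.conj k).injective E]
    rw [h, Subgroup.comap_top]
  · intro x t s ht ht1 hs hs1 hcomm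
    have hmem : ∀ w ∈ W, k⁻¹ * w * k ∈ (P : Subgroup X) := by
      intro w hw
      have hw' := hQ hw
      rw [← hk, Sylow.coe_subgroup_smul, Subgroup.mem_pointwise_smul_iff_inv_smul_mem] at hw'
      simpa [MulAut.smul_def, mul_assoc] using hw'
    set a := k⁻¹ * t * k with ha
    set b := k⁻¹ * s * k with hb
    set y := k⁻¹ * x * k with hy
    have haP : a ∈ (P : Subgroup X) := hmem t ht
    have hbP : b ∈ (P : Subgroup X) := hmem s hs
    have ha1 : a ≠ 1 := fun h => ht1 (by
      have : t = k * a * k⁻¹ := by rw [ha]; group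
      rw [this, h]; group)
    have hb1 : b ≠ 1 := fun h => hs1 (by
      have : s = k * b * k⁻¹ := by rw [hb]; group
      rw [this, h]; group)
    have hc : a * (y * b * y⁻¹) = y * b * y⁻¹ * a := by
      calc a * (y * b * y⁻¹) = k⁻¹ * (t * (x * s * x⁻¹)) * k := by rw [ha, hb, hy]; group
        _ = k⁻¹ * (x * s * x⁻¹ * t) * k := by rw [hcomm]
        _ = _ := by rw [ha, hb, hy]; group
    set c := y * b * y⁻¹ with hcdef
    have hPE : (P : Subgroup X) ≤ E :=
      Subgroup.le_normalizer.trans ((normalizer_le_kCore le_rfl P.2 fun h => ha1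
        (Subgroup.mem_bot.mp (h ▸ haP))).trans hP)
    have hcE : c ∈ E := by
      refine ((normalizer_le_kCore (Subgroup.zpowers_le.mpr haP) P.2
        (by simpa using ha1)).trans hP) ?_
      rw [Subgroup.mem_normalizer_iff_map_conj_eq, MonoidHom.map_zpowers]
      simp [hc.symm]
    have hS : IsSylIn p (P : Subgroup X) E := ⟨hPE, P.2, fun C hC h _ => P.3 hC h⟩
    have hCp : IsPGroup p ↥(Subgroup.zpowers a ⊔ Subgroup.zpowers c) := by
      have hz : IsPGroup p (Subgroup.zpowers c) := by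
        have h1 : IsPGroup p ((P : Subgroup X).map (MulAut.conj y).toMonoidHom) := P.2.map _
        exact h1.to_le (Subgroup.zpowers_le.mpr ⟨b, hbP, rfl⟩)
      refine (P.2.to_le (Subgroup.zpowers_le.mpr haP)).to_sup_of_normal_left' hz ?_
      refine Subgroup.zpowers_le.mpr ?_
      rw [Subgroup.mem_normalizer_iff_map_conj_eq, MonoidHom.map_zpowers]
      simp [hc.symm]
    obtain ⟨e, he, hee⟩ := hS.exists_conj_le hCp
      (sup_le (Subgroup.zpowers_le.mpr (hPE haP)) (Subgroup.zpowers_le.mpr hcE))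
    have h1 : (e * y) * b * (e * y)⁻¹ ∈ (P : Subgroup X) := by
      have := hee c (Subgroup.mem_sup_right (Subgroup.mem_zpowers c))
      rw [hcdef] at this
      simpa [mul_assoc] using this
    have h2 : y ∈ E := (E.mul_mem_cancel_left he).mp (mem_of_conj_le P hP hbP hb1 h1)
    exact ⟨y, h2, by rw [hy]; simp [mul_assoc]⟩

set_option autoImplicit false
universe u
open Cfsg

namespace Cfsg.Agent.S5179

/-- Let p be an odd prime, S a finite p-group of order at least p⁶ containing an extraspecial subgroup Q of index p, and F a saturated fusion system over S whose largest subgroup normal in F is trivial. Then no proper subgroup of Q is essential in F: an essential subgroup of F contained in Q equals Q. -/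
theorem result {Ω : Type u} [Group Ω] {S : Subgroup Ω} [Finite S] (p : ℕ) [Fact p.Prime] (hp : Odd p) (hS : IsPGroup p S)
    (Q : Subgroup Ω) (hQS : Q ≤ S) (hQ : Cfsg.IsExtraspecial p ↥Q) (hQi : (Q.subgroupOf S).index = p)
    (h6 : p ^ 6 ≤ Nat.card S)
    (F : Cfsg.FusionSystem S) (hF : F.IsSaturated p) (hO : F.core = ⊥)
    (E : Subgroup Ω) (hEQ : E ≤ Q) (hE : F.IsEssential p E) : E = Q := by
  classical
  have hpp : p.Prime := Fact.out
  have hES : E ≤ S := hE.1.1
  by_contra hne
  have hlt : ¬ Q ≤ E := fun h => hne (le_antisymm hEQ h)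
  haveI : Finite Q := Finite.of_injective (Subgroup.inclusion hQS)
    (Subgroup.inclusion_injective hQS)
  haveI : Finite E := Finite.of_injective (Subgroup.inclusion hEQ)
    (Subgroup.inclusion_injective hEQ)
  have hQp : IsPGroup p Q := hQ.1.1
  -- centre of `Q`
  set Z : Subgroup Ω := (Subgroup.center Q).map Q.subtype with hZdef
  have hZc : ∀ c ∈ Z, ∀ x ∈ Q, x * c = c * x := by
    rintro _ ⟨c, hc, rfl⟩ x hx
    exact congrArg Subtype.val (Subgroup.mem_center_iff.mp hc ⟨x, hx⟩)
  have hZQ : Z ≤ Q := Subgroup.map_subtype_le _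
  have hZcard : Nat.card Z = p := by
    rw [hZdef, Subgroup.card_map_of_injective Q.subtype_injective, hQ.2]
  haveI : Finite Z := Finite.of_injective (Subgroup.inclusion hZQ) (Subgroup.inclusion_injective hZQ)
  have hcom : ∀ x ∈ Q, ∀ y ∈ Q, ⁅x, y⁆ ∈ Z := fun x hx y hy =>
    ⟨⁅(⟨x, hx⟩ : Q), ⟨y, hy⟩⁆, hQ.1.2.2 ▸ Subgroup.commutator_mem_commutator (Subgroup.mem_top _)
      (Subgroup.mem_top _), map_commutatorElement Q.subtype _ _⟩
  have hcen : ∀ x ∈ Q, (∀ y ∈ Q, x * y = y * x) → x ∈ Z := fun x hx h =>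
    ⟨⟨x, hx⟩, Subgroup.mem_center_iff.mpr fun y => Subtype.ext (h y y.2).symm, rfl⟩
  have hCE : ∀ x ∈ S, (∀ e ∈ E, e * x = x * e) → x ∈ E := fun x hx h =>
    hE.1.2 E (isConj_refl F hES) ⟨hx, Subgroup.mem_centralizer_iff.mpr h⟩
  have hZE : Z ≤ E := fun c hc => hCE c (hQS (hZQ hc)) fun e he => hZc c hc e (hEQ he)
  have hnorm : ∀ g ∈ Q, g ∈ Subgroup.normalizer (E : Set Ω) := by
    intro g hg
    have h1 : ∀ g ∈ Q, ∀ e ∈ E, g * e * g⁻¹ ∈ E := fun g hg e he => by
      have h2 := mul_mem (hZE (hcom g hg e (hEQ he))) he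
      rwa [commutatorElement_def, inv_mul_cancel_right] at h2
    refine Subgroup.mem_normalizer_iff.mpr fun x => ⟨h1 g hg x, fun hx => ?_⟩
    simpa [mul_assoc] using h1 g⁻¹ (inv_mem hg) _ hx
  have hcjZ : ∀ g ∈ Q, ∀ x ∈ E, x⁻¹ * cj g x ∈ Z := by
    intro g hg x hx
    have h := hcom x⁻¹ (inv_mem (hEQ hx)) g hg
    rw [commutatorElement_def, inv_inv] at h
    have e : x⁻¹ * cj g x = (x⁻¹ * g * x * g⁻¹) := by
      have := hZc _ h x (hEQ hx)
      show x⁻¹ * (g * x * g⁻¹) = _
      group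
    rw [e]; exact h
  obtain ⟨g₀, hg₀, hg₀E⟩ := SetLike.not_le_iff_exists.mp hlt
  -- the centre of `Q` cannot be invariant under the automorphisms of `E`
  have hZinv : ¬ ∀ α ∈ F.autGroup E, ∀ x ∈ Z, autFun α x ∈ Z := by
    intro hinv
    let W : ℕ → Subgroup Ω := fun i => if i = 0 then ⊥ else if i = 1 then Z else E
    refine hg₀E (mem_of_stabilizing_small hS hE.1 (essential_radical hS hE) le_rfl
      (fun α _ x hx => autFun_mem α hx)
      (fun α _ _ h => autFun_inj fun x hx => (h x hx).trans (autFun_one hx).symm) 2 W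
      ?_ (by simp [W]) (by simp [W]) (mem_normalizerIn.mpr ⟨hQS hg₀, hnorm g₀ hg₀⟩) ?_)
    · intro α hα i x hx hxW
      rcases i with _ | _ | i
      · simp only [W, if_true, Subgroup.mem_bot] at hxW ⊢
        subst hxW
        have h1 := autFun_map_mul α E.one_mem E.one_mem
        rw [one_mul] at h1
        exact left_eq_mul.mp h1
      · simpa [W] using hinv α hα x (by simpa [W] using hxW)
      · simpa [W] using autFun_mem α hx
    · intro i hi x hx hxW
      rcases i with _ | _ | i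
      · have hxZ : x ∈ Z := by simpa [W] using hxW
        show x⁻¹ * cj g₀ x ∈ W 0
        rw [show cj g₀ x = x by show g₀ * x * g₀⁻¹ = x; rw [hZc x hxZ g₀ hg₀, mul_inv_cancel_right]]
        simp
      · simpa [W] using hcjZ g₀ hg₀ x hx
      · omega
  -- `E` is abelian
  have hab : ∀ a ∈ E, ∀ b ∈ E, a * b = b * a := by
    by_contra hna
    push Not at hna
    obtain ⟨a, ha, b, hb, hab⟩ := hna
    have hZeq : (commutator E).map E.subtype = Z := by
      refine Subgroup.eq_of_le_of_card_ge ?_ ?_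
      · rw [Subgroup.map_subtype_commutator, Subgroup.commutator_le]
        exact fun x hx y hy => hcom x (hEQ hx) y (hEQ hy)
      · rw [hZcard, Subgroup.card_map_of_injective E.subtype_injective]
        have hne' : (commutator E : Subgroup E) ≠ ⊥ := fun h => hab (by
          have h2 : ⁅(⟨a, ha⟩ : E), ⟨b, hb⟩⁆ ∈ commutator E :=
            Subgroup.commutator_mem_commutator (Subgroup.mem_top _) (Subgroup.mem_top _)
          rw [h] at h2
          exact congrArg Subtype.val
            (commutatorElement_eq_one_iff_commute.mp (Subgroup.mem_bot.mp h2)).eq)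
        exact Nat.le_of_dvd Nat.card_pos (CfsgLib.PGroups.dvd_card_of_ne_bot
          (hQp.of_injective (Subgroup.inclusion hEQ) (Subgroup.inclusion_injective hEQ)) hne')
    refine hZinv fun α _ x hx => ?_
    rw [← hZeq] at hx ⊢
    obtain ⟨c, hc, rfl⟩ := hx
    exact ⟨α c, (Subgroup.characteristic_iff_map_eq.mp inferInstance α).le ⟨c, hc, rfl⟩,
      (autFun_coe α c).symm⟩
  obtain ⟨β, hβ, z₁, hz₁, hβz⟩ : ∃ β ∈ F.autGroup E, ∃ x ∈ Z, autFun β x ∉ Z := by
    push Not at hZinv; exact hZinv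
  -- elements of `Q` outside `E` centralizing a given element of `E`
  have hext : ∀ w ∈ E, ∃ g ∈ Q, g ∉ E ∧ g * w = w * g := by
    intro w hw
    by_contra hno
    push Not at hno
    have hle : ∀ g ∈ Q, g * w = w * g → g ∈ E := fun g hg h => by
      by_contra hgE; exact hno g hg hgE h
    have hrel : E.relIndex Q ≤ p := by
      rw [← hZcard]
      refine Nat.card_le_card_of_injective (fun q : Q ⧸ E.subgroupOf Q =>
        (⟨⁅(q.out : Ω), w⁆, hcom _ q.out.2 w (hEQ hw)⟩ : Z)) fun q₁ q₂ h => ?_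
      have h' : (q₁.out : Ω) * w * (q₁.out : Ω)⁻¹ = (q₂.out : Ω) * w * (q₂.out : Ω)⁻¹ :=
        mul_right_cancel (congrArg Subtype.val h)
      rw [← q₁.out_eq, ← q₂.out_eq]
      refine QuotientGroup.eq.mpr (hle _ ((q₁.out⁻¹ * q₂.out).2) ?_)
      show (q₁.out : Ω)⁻¹ * (q₂.out : Ω) * w = w * ((q₁.out : Ω)⁻¹ * (q₂.out : Ω))
      calc (q₁.out : Ω)⁻¹ * (q₂.out : Ω) * w
          = (q₁.out : Ω)⁻¹ * ((q₂.out : Ω) * w * (q₂.out : Ω)⁻¹) * (q₂.out : Ω) := by group
        _ = _ := by rw [← h']; group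
    have hrel' : E.relIndex Q = p := by
      refine le_antisymm hrel (Nat.le_of_dvd (Nat.pos_of_ne_zero Subgroup.FiniteIndex.index_ne_zero) ?_)
      exact CfsgLib.PGroups.dvd_index_of_ne_top hQp fun h => hlt (Subgroup.subgroupOf_eq_top.mp h)
    -- then `E` would be too small
    have hgen : Subgroup.zpowers (⟨g₀, hg₀⟩ : Q) ⊔ E.subgroupOf Q = ⊤ := by
      refine (CfsgLib.PGroups.isCoatom_of_index_eq_prime hrel').2 _ (lt_of_le_of_ne le_sup_right
        fun h => hg₀E ?_)
      have := (le_sup_left : Subgroup.zpowers (⟨g₀, hg₀⟩ : Q) ≤ _ ⊔ E.subgroupOf Q)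
        (Subgroup.mem_zpowers _)
      rw [← h] at this
      exact this
    have hcardE : Nat.card E ≤ p * p := by
      have h1 := (Z.subgroupOf E).card_mul_index
      rw [Nat.card_congr (Subgroup.subgroupOfEquivOfLe hZE).toEquiv, hZcard] at h1
      rw [← h1]
      refine Nat.mul_le_mul_left _ ?_
      refine (Nat.card_le_card_of_injective (α := E ⧸ Z.subgroupOf E) (fun q =>
        (⟨⁅g₀, (q.out : Ω)⁆, hcom g₀ hg₀ _ (hEQ q.out.2)⟩ : Z)) fun q₁ q₂ h => ?_).trans hZcard.le
      have h' : g₀ * (q₁.out : Ω) * g₀⁻¹ * (q₁.out : Ω)⁻¹ =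
          g₀ * (q₂.out : Ω) * g₀⁻¹ * (q₂.out : Ω)⁻¹ := congrArg Subtype.val h
      rw [← q₁.out_eq, ← q₂.out_eq]
      refine QuotientGroup.eq.mpr ?_
      set a := (q₁.out : Ω) with hadef
      set b := (q₂.out : Ω) with hbdef
      have hga : Commute g₀ (a⁻¹ * b) := by
        show g₀ * (a⁻¹ * b) = a⁻¹ * b * g₀
        have h2 : g₀ * (a⁻¹ * b) * g₀⁻¹ = a⁻¹ * b := by
          have hA : g₀ * a * g₀⁻¹ = g₀ * a * g₀⁻¹ * a⁻¹ * a := by group
          have hB : g₀ * b * g₀⁻¹ = g₀ * b * g₀⁻¹ * b⁻¹ * b := by group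
          have hcc := hZc _ (hcom g₀ hg₀ b (hEQ q₂.out.2)) a⁻¹ (inv_mem (hEQ q₁.out.2))
          calc g₀ * (a⁻¹ * b) * g₀⁻¹ = (g₀ * a * g₀⁻¹)⁻¹ * (g₀ * b * g₀⁻¹) := by group
            _ = a⁻¹ * (g₀ * a * g₀⁻¹ * a⁻¹)⁻¹ * (g₀ * b * g₀⁻¹ * b⁻¹) * b := by
              group
            _ = a⁻¹ * b := by rw [h']; group
        calc g₀ * (a⁻¹ * b) = g₀ * (a⁻¹ * b) * g₀⁻¹ * g₀ := by group
          _ = _ := by rw [h2]
      have hd : a⁻¹ * b ∈ E := mul_mem (inv_mem q₁.out.2) q₂.out.2
      show a⁻¹ * b ∈ Z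
      refine hcen _ (hEQ hd) fun y hy => ?_
      have hK : (⊤ : Subgroup Q) ≤ Subgroup.centralizer {(⟨a⁻¹ * b, hEQ hd⟩ : Q)} := by
        rw [← hgen]
        refine sup_le (Subgroup.zpowers_le.mpr ?_) fun e he => ?_
        · exact Subgroup.mem_centralizer_singleton_iff.mpr (Subtype.ext hga.eq)
        · exact Subgroup.mem_centralizer_singleton_iff.mpr (Subtype.ext (hab _ he _ hd))
      exact (congrArg Subtype.val
        (Subgroup.mem_centralizer_singleton_iff.mp (hK (Subgroup.mem_top ⟨y, hy⟩)))).symm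
    have h3 := (E.subgroupOf Q).card_mul_index
    rw [Nat.card_congr (Subgroup.subgroupOfEquivOfLe hEQ).toEquiv,
      show (E.subgroupOf Q).index = p from hrel'] at h3
    have h4 := (Q.subgroupOf S).card_mul_index
    rw [Nat.card_congr (Subgroup.subgroupOfEquivOfLe hQS).toEquiv, hQi, ← h3] at h4
    have h5 : p ^ 6 ≤ p * p * p * p := by
      rw [← h4] at h6
      exact h6.trans (Nat.mul_le_mul_right _ (Nat.mul_le_mul_right _ hcardE))
    have h7 : p ^ 6 ≤ p ^ 4 := h5.trans (by rw [pow_succ, pow_succ, pow_succ, pow_one])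
    have := (Nat.pow_le_pow_iff_right hpp.one_lt).mp h7
    omega
  -- the strongly embedded subgroup of `Out_F(E)`
  obtain ⟨hN, Y₀, hY₀⟩ := hE.2.2
  haveI := hN
  haveI : Finite (MulAut E) := Finite.of_injective (fun α : MulAut E => (α : E → E))
    fun α β h => MulEquiv.ext fun x => congrFun h x
  set π := QuotientGroup.mk' ((Cfsg.Inn E).subgroupOf (F.autGroup E))
  have hinj : Function.Injective π := by
    rw [← MonoidHom.ker_eq_bot_iff, QuotientGroup.ker_mk', eq_bot_iff]
    intro α hα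
    obtain ⟨g, hg, he⟩ := mem_inn.mp (Subgroup.mem_subgroupOf.mp hα)
    refine Subgroup.mem_bot.mpr (Subtype.ext (autFun_inj fun x hx => ?_))
    rw [he x hx, Subgroup.coe_one, autFun_one hx]
    show g * x * g⁻¹ = x
    rw [hab g hg x hx, mul_inv_cancel_right]
  let W₀ := (Cfsg.autInducedBy Q E).subgroupOf (F.autGroup E)
  have hW₀ : IsPGroup p W₀ :=
    (isPGroup_autInducedBy hQp).of_injective
      ({ toFun := fun a => ⟨((a : F.autGroup E) : MulAut E), a.2⟩
         map_one' := rfl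
         map_mul' := fun _ _ => rfl } : W₀ →* Cfsg.autInducedBy Q E)
      fun a b h => by
        have := congrArg (fun c : Cfsg.autInducedBy Q E => (c : MulAut E)) h
        exact Subtype.ext (Subtype.ext this)
  obtain ⟨Y, hY, hmem⟩ := exists_proper_of_commuting hY₀ (hW₀.map π)
  apply hY
  have hsurj : Function.Surjective π := QuotientGroup.mk'_surjective _
  have key : ∀ α : F.autGroup E, autFun (α : MulAut E) z₁ ∉ Z → π α ∈ Y := by
    intro α hαz
    set a : MulAut E := (α : MulAut E) with hadef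
    have hz₁E := hZE hz₁
    obtain ⟨g, hg, hgE, hgw⟩ := hext _ (autFun_mem a hz₁E)
    obtain ⟨g', hg', hgE', hgw'⟩ := hext _ (autFun_mem a⁻¹ hz₁E)
    obtain ⟨t, htI, hte⟩ := exists_autInducedBy (P := E) hg (hnorm g hg)
    obtain ⟨s, hsI, hse⟩ := exists_autInducedBy (P := E) hg' (hnorm g' hg')
    have hmem' : ∀ r, r ∈ Cfsg.autInducedBy Q E → r ∈ F.autGroup E := fun r hr => by
      obtain ⟨k, hk, hkn, he⟩ := mem_autInducedBy.mp hr
      exact autInducedBy_le F hES (mem_autInducedBy.mpr ⟨k, hQS hk, hkn, he⟩)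
    have hne1 : ∀ r : MulAut E, ∀ k ∈ Q, k ∉ E → (∀ x ∈ E, autFun r x = cj k x) → r ≠ 1 := by
      intro r k hk hkE he h
      refine hkE (hCE k (hQS hk) fun e hee => ?_)
      have h1 := he e hee
      rw [h, autFun_one hee] at h1
      exact (cj_fixed_iff.mp h1.symm).symm
    set T : F.autGroup E := ⟨t, hmem' t htI⟩ with hT
    set S' : F.autGroup E := ⟨s, hmem' s hsI⟩ with hS'
    refine hmem (π α) (π T) (π S') ⟨T, htI, rfl⟩
      (fun h => hne1 t g hg hgE hte (congrArg Subtype.val (hinj (h.trans (map_one π).symm))))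
      ⟨S', hsI, rfl⟩
      (fun h => hne1 s g' hg' hgE' hse (congrArg Subtype.val (hinj (h.trans (map_one π).symm)))) ?_
    rw [← map_inv, ← map_mul, ← map_mul, ← map_mul, ← map_mul]
    congr 1
    apply Subtype.ext
    show t * (a * s * a⁻¹) = a * s * a⁻¹ * t
    set u := a * s * a⁻¹ with hu
    show t * u = u * t
    refine autFun_inj fun x hx => ?_
    -- `u` moves along `a z₁`, which `t` fixes, and fixes `Z`
    have hZgen : ∀ c ∈ Z, c ∈ Subgroup.zpowers z₁ := by
      intro c hc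
      have hz₁1 : z₁ ≠ 1 := fun h => hαz (by
        rw [h, show autFun a (1 : Ω) = 1 by
          have h1 := autFun_map_mul a E.one_mem E.one_mem
          rw [one_mul] at h1; exact left_eq_mul.mp h1]
        exact one_mem _)
      have h1 : Subgroup.zpowers z₁ = Z := Subgroup.eq_of_le_of_card_ge
        (Subgroup.zpowers_le.mpr hz₁) (by
          rw [Nat.card_zpowers, hZcard]
          rcases (Nat.dvd_prime hpp).mp (hZcard ▸ Subgroup.orderOf_dvd_natCard Z hz₁) with h | h
          · exact absurd (orderOf_eq_one_iff.mp h) hz₁1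
          · exact h.ge)
      rw [h1]; exact hc
    have hpow : ∀ (f : MulAut E) (v : Ω), v ∈ E → autFun f v = v →
        ∀ c ∈ Subgroup.zpowers v, autFun f c = c := by
      intro f v hv hfv c hc
      obtain ⟨i, rfl⟩ := Subgroup.mem_zpowers_iff.mp hc
      have : autFun f (v ^ i) = (autFun f v) ^ i := by
        rw [autFun_of_mem f (zpow_mem hv i), autFun_of_mem f hv, ← Subgroup.coe_zpow, ← map_zpow]
        rfl
      rw [this, hfv]
    have hsfix : ∀ c ∈ Z, autFun u c = c := by
      intro c hc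
      refine hpow u z₁ hz₁E ?_ c (hZgen c hc)
      rw [hu, autFun_mul _ _ hz₁E, autFun_mul _ _ (autFun_mem _ hz₁E), hse _ (autFun_mem _ hz₁E),
        show cj g' (autFun a⁻¹ z₁) = autFun a⁻¹ z₁ from cj_fixed_iff.mpr hgw',
        autFun_inv_right a hz₁E]
    have htfix : ∀ c ∈ Subgroup.zpowers (autFun a z₁), autFun t c = c :=
      hpow t _ (autFun_mem _ hz₁E) (by rw [hte _ (autFun_mem _ hz₁E)]; exact cj_fixed_iff.mpr hgw)
    have htZ : ∀ v ∈ E, v⁻¹ * autFun t v ∈ Z := fun v hv => by rw [hte v hv]; exact hcjZ g hg v hv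
    have huA : ∀ v ∈ E, v⁻¹ * autFun u v ∈ Subgroup.zpowers (autFun a z₁) := by
      intro v hv
      set v' := autFun a⁻¹ v with hv'
      have hv'E : v' ∈ E := autFun_mem _ hv
      obtain ⟨i, hi⟩ := Subgroup.mem_zpowers_iff.mp (hZgen _ (hcjZ g' hg' v' hv'E))
      have huv : autFun u v = autFun a (v' * z₁ ^ i) := by
        rw [hu, autFun_mul _ _ hv, autFun_mul _ _ (autFun_mem _ hv), hse _ hv'E, hi,
          mul_inv_cancel_left]
      rw [huv, autFun_map_mul a hv'E (zpow_mem hz₁E i), hv', autFun_inv_right a hv,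
        inv_mul_cancel_left, autFun_of_mem a (zpow_mem hz₁E i)]
      refine Subgroup.mem_zpowers_iff.mpr ⟨i, ?_⟩
      rw [autFun_of_mem a hz₁E, ← Subgroup.coe_zpow, ← map_zpow]
      rfl
    have hwE : ∀ c ∈ Subgroup.zpowers (autFun a z₁), c ∈ E := fun c hc =>
      Subgroup.zpowers_le.mpr (autFun_mem a hz₁E) hc
    have hc1 := htZ x hx
    have hd1 := huA x hx
    have e1 : autFun t (autFun u x) = autFun t x * (x⁻¹ * autFun u x) := by
      conv_lhs => rw [show autFun u x = x * (x⁻¹ * autFun u x) by group]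
      rw [autFun_map_mul t hx (hwE _ hd1), htfix _ hd1]
    have e2 : autFun u (autFun t x) = autFun u x * (x⁻¹ * autFun t x) := by
      conv_lhs => rw [show autFun t x = x * (x⁻¹ * autFun t x) by group]
      rw [autFun_map_mul u hx (hZE hc1), hsfix _ hc1]
    rw [autFun_mul t u hx, autFun_mul u t hx, e1, e2]
    have hxm : autFun t x ∈ E := autFun_mem _ hx
    have hum : autFun u x ∈ E := autFun_mem _ hx
    calc autFun t x * (x⁻¹ * autFun u x) = (autFun t x * x⁻¹) * autFun u x := by group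
      _ = autFun u x * (autFun t x * x⁻¹) := hab _ (mul_mem hxm (inv_mem hx)) _ hum
      _ = _ := by rw [hab _ hxm _ (inv_mem hx)]
  rw [eq_top_iff]
  intro q _
  obtain ⟨α, rfl⟩ := hsurj q
  by_cases hαz : autFun (α : MulAut E) z₁ ∈ Z
  · have h1 := key ⟨β, hβ⟩ hβz
    have h2 : π (α * ⟨β, hβ⟩) ∈ Y := key _ (fun h => by
      rw [Subgroup.coe_mul, autFun_mul _ _ (hZE hz₁)] at h
      apply hβz
      -- pull back along `α`
      have hz₁1 : z₁ ≠ 1 := fun h0 => hβz (by
        rw [h0, show autFun β (1 : Ω) = 1 by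
          have h1 := autFun_map_mul β E.one_mem E.one_mem
          rw [one_mul] at h1; exact left_eq_mul.mp h1]
        exact one_mem _)
      set a : MulAut E := (α : MulAut E)
      have hinjA : ∀ c d : Ω, c ∈ E → d ∈ E → autFun a c = autFun a d → c = d := fun c d hc hd e => by
        have := congrArg (autFun a⁻¹) e
        rwa [autFun_inv_left a hc, autFun_inv_left a hd] at this
      have hz1' : autFun a z₁ ≠ 1 := fun e => hz₁1 (hinjA z₁ 1 (hZE hz₁) E.one_mem (by
        rw [e]
        have h1 := autFun_map_mul a E.one_mem E.one_mem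
        rw [one_mul] at h1; exact (left_eq_mul.mp h1).symm))
      have hgenA : Subgroup.zpowers (autFun a z₁) = Z := Subgroup.eq_of_le_of_card_ge
        (Subgroup.zpowers_le.mpr hαz) (by
          rw [Nat.card_zpowers, hZcard]
          rcases (Nat.dvd_prime hpp).mp (hZcard ▸ Subgroup.orderOf_dvd_natCard Z hαz) with h | h
          · exact absurd (orderOf_eq_one_iff.mp h) hz1'
          · exact h.ge)
      obtain ⟨i, hi⟩ := Subgroup.mem_zpowers_iff.mp (hgenA.symm ▸ h)
      rw [← hinjA (z₁ ^ i) _ (zpow_mem (hZE hz₁) i) (autFun_mem β (hZE hz₁)) (by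
        rw [← hi, autFun_of_mem a (zpow_mem (hZE hz₁) i), autFun_of_mem a (hZE hz₁),
          ← Subgroup.coe_zpow, ← map_zpow]
        rfl)]
      exact zpow_mem hz₁ i)
    rw [map_mul] at h2
    exact (Y.mul_mem_cancel_right h1).mp h2
  · exact key α hαz

end Cfsg.Agent.S5179
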