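import Cfsg.Statements.S5238
import Cfsg.Agent.Lib.Fusion.Criteria
import Cfsg.Agent.Lib.PGroups.Pearl
-- import your own Cfsg.Agent.* helpers here

set_option autoImplicit false
open Cfsg

namespace Cfsg.Agent.S5238

/-- Let p be an odd prime and F a saturated fusion system over a finite p-group S having a pearl: an F-essential subgroup E that is elementary abelian of order p² or nonabelian of order p³. Then S has maximal nilpotency class (if S has order pⁿ with n ≥ 3, the term of index n − 2 of its lower central series, counting S itself as the term of index 0, is nontrivial), and every subgroup of S can be generated by at most p elements (the sectional rank of S is at most p). -/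
theorem result {Ω : Type*} [Group Ω] {S : Subgroup Ω} [Finite S] (p : ℕ) [Fact p.Prime] (hS : IsPGroup p S) (F : Cfsg.FusionSystem S) (hF : F.IsSaturated p) (hp : p ≠ 2) (E : Subgroup Ω) (hE : F.IsEssential p E) (hpearl : (Nat.card E = p ^ 2 ∧ ∀ x ∈ E, x ^ p = 1 ∧ IsMulCommutative ↥E) ∨ (Nat.card E = p ^ 3 ∧ ¬ IsMulCommutative ↥E)) : (∀ n : ℕ, Nat.card S = p ^ n → 3 ≤ n → Subgroup.lowerCentralSeries S (n - 2) ≠ ⊥) ∧ ∀ H : Subgroup Ω, H ≤ S → ∃ T : Finset Ω, T.card ≤ p ∧ Subgroup.closure (T : Set Ω) = H := by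
  classical
  obtain ⟨n, hn⟩ := IsPGroup.iff_card.1 hS
  have hlt := CfsgLib.Fusion.essential_lt hS hF hE
  have hES := hlt.le
  have heq := Subgroup.subgroupOfEquivOfLe hES
  obtain ⟨s, hs⟩ : ∃ s : S, CfsgLib.PGroups.Pearl.Elt p n s := by
    refine CfsgLib.PGroups.Pearl.exists_elt hn (E.subgroupOf S) ?_ ?_ ?_
    · exact fun h => hlt.not_ge (Subgroup.subgroupOf_eq_top.1 h)
    · intro g hg
      refine CfsgLib.Fusion.centric_centralizer_le hE.1
        (CfsgLib.Fusion.mem_centralizerIn.mpr ⟨g.2, fun x hx => ?_⟩)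
      have h1 : x * (g : Ω) = g * x :=
        congrArg Subtype.val (Subgroup.mem_centralizer_iff.1 hg ⟨x, hES hx⟩ hx)
      rw [CfsgLib.Fusion.cj_apply, mul_inv_eq_iff_eq_mul]
      exact h1.symm
    · rcases hpearl with ⟨hc, h⟩ | ⟨hc, h⟩
      · refine Or.inl ⟨by rw [Nat.card_congr heq.toEquiv, hc], ⟨⟨fun a b => ?_⟩⟩, fun x hx => ?_⟩
        · exact heq.injective (by
            rw [map_mul, map_mul]
            exact (h 1 E.one_mem).2.is_comm.comm _ _)
        · exact Subtype.ext (h x hx).1
      · refine Or.inr ⟨by rw [Nat.card_congr heq.toEquiv, hc], fun hc' => h ⟨⟨fun a b => ?_⟩⟩⟩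
        exact heq.symm.injective (by
          rw [map_mul, map_mul]
          exact hc'.is_comm.comm _ _)
  refine ⟨fun m hm h3 => ?_, fun K hK => ?_⟩
  · obtain rfl : m = n := Nat.pow_right_injective (Fact.out : p.Prime).two_le (hm.symm.trans hn)
    rw [← Subgroup.top_subtype_lowerCentralSeries, Ne,
      Subgroup.map_eq_bot_iff_of_injective _ S.subtype_injective]
    intro h
    haveI := (IsPGroup.of_card hn : IsPGroup p S).isNilpotent
    have := Subgroup.lowerCentralSeries_eq_bot_iff_nilpotencyClass_le.1 h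
    rw [hs.cls] at this
    omega
  · obtain ⟨T, hT, hTe⟩ := hs.exists_generators_all (K.subgroupOf S)
    refine ⟨T.image S.subtype, Finset.card_image_le.trans hT, ?_⟩
    rw [Finset.coe_image, ← MonoidHom.map_closure, hTe, Subgroup.map_subgroupOf_eq_of_le hK]

end Cfsg.Agent.S5238
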