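import Cfsg.Statements.S5178
import Cfsg.Agent.Lib.Fusion.CentralTransvection
import Cfsg.Agent.Lib.PGroups.Extraspecial
import Cfsg.Agent.Lib.PGroups.Basic
-- import your own Cfsg.Agent.* helpers here

set_option autoImplicit false
universe u
open Cfsg

open scoped commutatorElement
open CfsgLib.Fusion CfsgLib.Fusion.CentralTransvection Cfsg.FusionSystem

namespace Cfsg.Agent.S5178

/-- Let p be an odd prime, S a finite p-group containing an extraspecial subgroup Q of index p, and F a saturated fusion system over S whose largest subgroup normal in F is trivial. Then the centre of S equals the centre of Q. -/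
theorem result {Ω : Type u} [Group Ω] {S : Subgroup Ω} [Finite S] (p : ℕ) [Fact p.Prime] (hp : Odd p) (hS : IsPGroup p S)
    (Q : Subgroup Ω) (hQS : Q ≤ S) (hQ : Cfsg.IsExtraspecial p ↥Q) (hQi : (Q.subgroupOf S).index = p)
    (F : Cfsg.FusionSystem S) (hF : F.IsSaturated p) (hO : F.core = ⊥) :
    S ⊓ Subgroup.centralizer (S : Set Ω) = Q ⊓ Subgroup.centralizer (Q : Set Ω) := by
  classical
  have hp' : p.Prime := Fact.out
  have : Finite Q := finite_of_le hQS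
  -- the centre of `Q`
  obtain ⟨⟨⟨hQp, hfr, hcom⟩, hcard⟩, hz⟩ : Cfsg.IsExtraspecial p Q ∧
      ∃ z : Q, z ∈ Subgroup.center Q ∧ z ≠ 1 := by
    refine ⟨hQ, ?_⟩
    obtain ⟨⟨z, hz⟩, hz1⟩ := (Subgroup.center Q).ne_bot_iff_exists_ne_one.1 (fun h => by
      have := hQ.2
      rw [h, Subgroup.card_bot] at this
      exact hp'.ne_one this.symm)
    exact ⟨z, hz, fun e => hz1 (Subtype.ext e)⟩
  obtain ⟨z, hz, hz1⟩ := hz
  have hzg : Subgroup.zpowers z = Subgroup.center Q := by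
    refine Subgroup.eq_of_le_of_card_ge (Subgroup.zpowers_le.2 hz) ?_
    have h1 : orderOf z ∣ p := hcard ▸ (Subgroup.orderOf_dvd_natCard _ hz)
    rw [hcard, Nat.card_zpowers]
    exact ((Nat.dvd_prime hp').1 h1).resolve_left (fun h => hz1 (orderOf_eq_one_iff.1 h)) |>.ge
  have hzp : z ^ p = 1 := orderOf_dvd_iff_pow_eq_one.1 (hcard ▸ Subgroup.orderOf_dvd_natCard _ hz)
  have hmemQ : ∀ w : Ω, w ∈ Q ⊓ Subgroup.centralizer (Q : Set Ω) ↔
      w ∈ Subgroup.zpowers (z : Ω) := by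
    intro w
    constructor
    · rintro ⟨hw, hwc⟩
      have : (⟨w, hw⟩ : Q) ∈ Subgroup.center Q := Subgroup.mem_center_iff.2 fun q =>
        Subtype.ext (Subgroup.mem_centralizer_iff.1 hwc q q.2)
      obtain ⟨i, hi⟩ := Subgroup.mem_zpowers_iff.1 (hzg ▸ this)
      exact Subgroup.mem_zpowers_iff.2 ⟨i, congrArg Subtype.val hi⟩
    · intro hw
      obtain ⟨i, rfl⟩ := Subgroup.mem_zpowers_iff.1 hw
      have : z ^ i ∈ Subgroup.center Q := zpow_mem hz i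
      exact ⟨Q.zpow_mem z.2 i, Subgroup.mem_centralizer_iff.2 fun q hq =>
        congrArg Subtype.val (Subgroup.mem_center_iff.1 this ⟨q, hq⟩)⟩
  -- it is central in `S`
  have hQn : (Q.subgroupOf S).Normal := CfsgLib.PGroups.normal_of_isCoatom hS
    (CfsgLib.PGroups.isCoatom_of_index_eq_prime hQi)
  have hconj : ∀ s ∈ S, ∀ q ∈ Q, cj s q ∈ Q := fun s hs q hq =>
    hQn.conj_mem ⟨q, hQS hq⟩ hq ⟨s, hs⟩
  set N : Subgroup S := (Q ⊓ Subgroup.centralizer (Q : Set Ω)).subgroupOf S with hNdef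
  have hNn : N.Normal := ⟨fun w hw s => by
    rw [hNdef, Subgroup.mem_subgroupOf] at hw ⊢
    refine ⟨hconj s s.2 _ hw.1, Subgroup.mem_centralizer_iff.2 fun q hq => ?_⟩
    have h1 := Subgroup.mem_centralizer_iff.1 hw.2 _ (hconj _ (S.inv_mem s.2) q hq)
    have h2 := congrArg (cj (s : Ω)) h1
    rw [cj_map_mul, cj_map_mul, cj_cj_inv] at h2
    exact h2⟩
  have hzctr : (z : Ω) ∈ ctr S := by
    have hne : N ≠ ⊥ := fun h => by
      have h1 : (⟨(z : Ω), hQS z.2⟩ : S) ∈ N :=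
        Subgroup.mem_subgroupOf.2 ((hmemQ _).2 (Subgroup.mem_zpowers _))
      rw [h, Subgroup.mem_bot] at h1
      exact hz1 (Subtype.ext (congrArg Subtype.val h1 : _))
    obtain ⟨⟨w, hwN, hwc⟩, hw1⟩ :=
      (N ⊓ Subgroup.center S).ne_bot_iff_exists_ne_one.1 (CfsgLib.PGroups.inf_center_ne_bot hS hne)
    obtain ⟨i, hi⟩ := Subgroup.mem_zpowers_iff.1 ((hmemQ _).1 (Subgroup.mem_subgroupOf.1 hwN))
    have hwctr : (w : Ω) ∈ ctr S := CentralTransvection.mem_ctr.2 ⟨w.2, fun s hs => by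
      rw [cj, cj_fixed_iff]
      exact congrArg Subtype.val (Subgroup.mem_center_iff.1 hwc ⟨s, hs⟩)⟩
    have hcop : ¬ (p : ℤ) ∣ i := by
      intro hd
      refine hw1 (Subtype.ext (Subtype.ext ?_))
      show (w : Ω) = 1
      obtain ⟨k, rfl⟩ := hd
      rw [← hi, zpow_mul, zpow_natCast, ← Subgroup.coe_pow, hzp]
      simp
    obtain ⟨a, b, hab⟩ := ((Nat.prime_iff_prime_int.1 hp').coprime_iff_not_dvd.2 hcop)
    have : (z : Ω) = (w : Ω) ^ b := by
      rw [← hi, ← zpow_mul]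
      nth_rewrite 1 [← zpow_one (z : Ω)]
      rw [← hab, zpow_add, mul_comm a, zpow_mul, zpow_natCast, ← Subgroup.coe_pow, hzp]
      simp [mul_comm b i]
    rw [this]
    exact zpow_mem hwctr b
  have hzle : ∀ w, w ∈ Subgroup.zpowers (z : Ω) → w ∈ ctr S := fun w hw =>
    Subgroup.zpowers_le.2 hzctr hw
  have hinfQ : ∀ w ∈ ctr S, w ∈ Q → w ∈ Subgroup.zpowers (z : Ω) := fun w hw hwQ =>
    (hmemQ w).1 ⟨hwQ, Subgroup.mem_centralizer_iff.2 fun q hq =>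
      cj_fixed_iff.1 ((CentralTransvection.mem_ctr.1 hw).2 q (hQS hq))⟩
  by_cases hbig : ∃ c ∈ ctr S, c ∉ Subgroup.zpowers (z : Ω)
  swap
  · push Not at hbig
    ext w
    exact ⟨fun hw => (hmemQ w).2 (hbig w hw), fun hw => hzle w ((hmemQ w).1 hw)⟩
  exfalso
  obtain ⟨c, hc, hcz⟩ := hbig
  have hcQ : c ∉ Q := fun h => hcz (hinfQ c hc h)
  -- `S = Q ⟨d⟩` for every central `d` outside `Q`
  have hdec : ∀ d ∈ ctr S, d ∉ Q → ∀ s ∈ S, ∃ i : ℤ, s * (d ^ i)⁻¹ ∈ Q := by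
    intro d hd hdQ s hs
    haveI := hQn
    have hcq : Nat.card (S ⧸ Q.subgroupOf S) = p := by rw [← Subgroup.index, hQi]
    have hne : (QuotientGroup.mk' (Q.subgroupOf S) ⟨d, hd.1⟩) ≠ 1 := fun e =>
      hdQ ((QuotientGroup.eq_one_iff (⟨d, hd.1⟩ : S)).1 e)
    have := mem_zpowers_of_prime_card (p := p) hcq hne
      (g' := QuotientGroup.mk' (Q.subgroupOf S) ⟨s, hs⟩)
    obtain ⟨i, hi⟩ := Subgroup.mem_zpowers_iff.1 this
    refine ⟨i, ?_⟩
    rw [← map_zpow, eq_comm, ← mul_inv_eq_one, ← map_inv, ← map_mul] at hi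
    exact Subgroup.mem_subgroupOf.1 ((QuotientGroup.eq_one_iff ((⟨s, hs⟩ : S) * ((⟨d, hd.1⟩ : S) ^ i)⁻¹)).1 hi)
  have hQc : ∀ a b : Q, ⁅a, b⁆ ∈ Subgroup.center Q := fun a b =>
    hcom ▸ Subgroup.commutator_mem_commutator (Subgroup.mem_top a) (Subgroup.mem_top b)
  have hcfix : ∀ s ∈ S, cj c s = s := fun s hs => by
    rw [cj, cj_fixed_iff]
    exact (cj_fixed_iff.1 ((CentralTransvection.mem_ctr.1 hc).2 s hs)).symm
  have hcfix' : ∀ s ∈ S, ∀ i : ℤ, cj (c ^ i) s = s := fun s hs i => by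
    rw [cj, cj_fixed_iff]
    exact Commute.zpow_left (show Commute c s from cj_fixed_iff.1 (hcfix s hs)) i
  have hcomm : ∀ s ∈ S, ∀ t ∈ S, t⁻¹ * cj s t ∈ Subgroup.zpowers (z : Ω) := by
    intro s hs t ht
    obtain ⟨i, hi⟩ := hdec c hc hcQ s hs
    obtain ⟨j, hj⟩ := hdec c hc hcQ t ht
    set s0 := s * (c ^ i)⁻¹
    set t0 := t * (c ^ j)⁻¹
    have ht0 : t = t0 * c ^ j := (inv_mul_cancel_right t _).symm
    have hs0 : s = s0 * c ^ i := (inv_mul_cancel_right s _).symm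
    have hcj : cj s0 (c ^ j) = c ^ j :=
      (CentralTransvection.mem_ctr.1 ((ctr S).zpow_mem hc j)).2 _ (hQS hi)
    rw [hs0, cj_mul, hcfix' t ht, ht0, cj_map_mul, hcj]
    have hcomm0 : Commute (c ^ j) (t0⁻¹ * cj s0 t0) := by
      have := (CentralTransvection.mem_ctr.1 ((ctr S).zpow_mem hc j)).2 _
        (S.mul_mem (S.inv_mem (hQS hj)) (hQS (hconj _ (hQS hi) _ hj)))
      exact (cj_fixed_iff.1 this).symm
    rw [mul_inv_rev, show (c ^ j)⁻¹ * t0⁻¹ * (cj s0 t0 * c ^ j) =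
      (c ^ j)⁻¹ * ((t0⁻¹ * cj s0 t0) * c ^ j) by group, ← hcomm0.eq, inv_mul_cancel_left]
    have h1 := hQc (⟨t0, hj⟩ : Q)⁻¹ ⟨s0, hi⟩
    refine (hmemQ _).1 ?_
    have e : t0⁻¹ * cj s0 t0 = ((⁅(⟨t0, hj⟩ : Q)⁻¹, ⟨s0, hi⟩⁆ : Q) : Ω) := by
      simp [cj, commutatorElement_def, mul_assoc]
    rw [e]
    exact ⟨Subtype.prop _, Subgroup.mem_centralizer_iff.2 fun q hq =>
      congrArg Subtype.val (Subgroup.mem_center_iff.1 h1 ⟨q, hq⟩)⟩
  have hcp : ∀ d ∈ ctr S, d ^ p ∈ Subgroup.zpowers (z : Ω) := fun d hd => by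
    refine hinfQ _ (pow_mem hd p) ?_
    have h1 := Subgroup.pow_index_mem (Q.subgroupOf S) ⟨d, hd.1⟩
    rwa [hQi] at h1
  have hpowS : ∀ s ∈ S, s ^ p ∈ Subgroup.zpowers (z : Ω) := by
    intro s hs
    obtain ⟨i, hi⟩ := hdec c hc hcQ s hs
    have hcm : Commute (s * (c ^ i)⁻¹) (c ^ i) := (cj_fixed_iff.1
      ((CentralTransvection.mem_ctr.1 ((ctr S).zpow_mem hc i)).2 _ (hQS hi)))
    have e : s ^ p = (s * (c ^ i)⁻¹) ^ p * (c ^ i) ^ p := by
      rw [← hcm.mul_pow, inv_mul_cancel_right]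
    rw [e]
    refine Subgroup.mul_mem _ ((hmemQ _).1 ?_) (hcp _ ((ctr S).zpow_mem hc i))
    have := CfsgLib.PGroups.Extraspecial.pow_mem_center ⟨⟨hQp, hfr, hcom⟩, hcard⟩ (⟨_, hi⟩ : Q)
    exact ⟨Q.pow_mem hi p, Subgroup.mem_centralizer_iff.2 fun q hq =>
      congrArg Subtype.val (Subgroup.mem_center_iff.1 this ⟨q, hq⟩)⟩
  have hna : ¬ ∀ s ∈ S, ∀ t ∈ S, cj s t = t := by
    intro hab
    have hbot : commutator Q = ⊥ := by
      rw [eq_bot_iff, commutator_def, Subgroup.commutator_le]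
      intro a _ b _
      rw [Subgroup.mem_bot, commutatorElement_eq_one_iff_mul_comm]
      exact Subtype.ext (cj_fixed_iff.1 (hab a (hQS a.2) b (hQS b.2)))
    exact hz1 (Subgroup.mem_bot.1 (hbot ▸ hcom.symm ▸ hz))
  have H : Data p S (z : Ω) := {
    group := hS
    odd := hp
    mem := hzctr
    pow := by rw [← Subgroup.coe_pow, hzp]; rfl
    ne := fun e => hz1 (Subtype.ext e)
    comm := hcomm
    powS := hpowS
    nonabelian := hna
    cyc := fun a ha b hb hbz => by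
      obtain ⟨i, hi⟩ := hdec b hb (fun h => hbz (hinfQ b hb h)) a ha.1
      exact ⟨i, hinfQ _ (mul_mem ha (inv_mem (zpow_mem hb i))) hi⟩ }
  exact H.core_ne_bot hF ⟨c, hc, hcz⟩ hO

end Cfsg.Agent.S5178
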