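import Cfsg.Statements.S1396
import Cfsg.Agent.Lib.OddOrder.TransitivityPConstrained
import Cfsg.Agent.Lib.OddOrder.MinSimple
import Cfsg.Agent.Lib.OddOrder.PLengthOne

set_option autoImplicit false
open Cfsg
open scoped Pointwise

namespace Cfsg.Agent.S1396

/-- Let G be a minimal simple group of odd order, p a prime dividing the order of G and A an abelian p-subgroup. Suppose either (1) A consists exactly of the elements x of C_G(A) with x^p = 1, and every proper subgroup of G has p-length at most one, or (2) A is normal and self-centralizing in some Sylow p-subgroup of G and has rank at least 2. Then A satisfies the transitivity hypothesis. -/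
theorem result {G : Type*} [Group G] [Finite G] (hG : Cfsg.IsMinSimpleOddOrder G)
    (p : ℕ) [Fact p.Prime] (hp : p ∣ Nat.card G) (A : Subgroup G) (hAp : IsPGroup p A) (hAc : IsMulCommutative A)
    (h : (∀ x ∈ Subgroup.centralizer (A : Set G), x ^ p = 1 ↔ x ∈ A) ∧ (∀ H : Subgroup G, H ≠ ⊤ → Cfsg.PLengthLE p 1 H) ∨
      ∃ P : Sylow p G, Cfsg.IsSCN (P : Subgroup G) A ∧ ¬ Cfsg.PRankLE p 1 A) :
    Cfsg.TransitivityHypothesis A := by
  have hcon : ∀ (X : Subgroup G), X ≠ ⊤ → Subgroup.centralizer
      (Cfsg.pCore p (X ⧸ Cfsg.pPrimeCore p X) : Set (X ⧸ Cfsg.pPrimeCore p X)) ≤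
        Cfsg.pCore p (X ⧸ Cfsg.pPrimeCore p X) := by
    intro X hX
    haveI := CfsgLib.OddOrder.minSimple_solvable hG hX
    exact CfsgLib.PLocal.isPConstrained_iff.mp
      (CfsgLib.PLocal.isPConstrained_of_isPSolvable CfsgLib.PLocal.isPSolvable_of_isSolvable)
  have hpodd : p ≠ 2 := CfsgLib.OddOrder.minSimple_ne_two hG hp
  haveI : Group.IsNilpotent A := hAp.isNilpotent
  have hAtop : A ≠ ⊤ := CfsgLib.OddOrder.minSimple_ne_top_of_isSolvable hG inferInstance
  have hAbot : A ≠ ⊥ := by
    rintro rfl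
    rcases h with ⟨h1, -⟩ | ⟨P, -, h2⟩
    · obtain ⟨x, hx⟩ := exists_prime_orderOf_dvd_card' (G := G) p hp
      have hmem := (h1 x (Subgroup.mem_centralizer_iff.mpr fun a ha => by
        obtain rfl : a = 1 := Subgroup.mem_bot.mp ha
        simp)).mp (hx ▸ pow_orderOf_eq_one x)
      rw [Subgroup.mem_bot] at hmem
      rw [hmem, orderOf_one] at hx
      exact (Fact.out : p.Prime).one_lt.ne hx
    · exact h2 (CfsgLib.Base.pRankLE_of_card_le (by
        rw [Subgroup.card_bot]
        exact Nat.one_le_pow _ _ (Fact.out : p.Prime).pos))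
  obtain ⟨i, hi⟩ := IsPGroup.iff_card.mp hAp
  have hi0 : i ≠ 0 := by
    rintro rfl
    exact hAbot (Subgroup.eq_bot_of_card_eq _ (by simpa using hi))
  refine ⟨hAbot, hAtop, fun X hX hAX => le_antisymm (sSup_le ?_) (le_sSup ?_)⟩
  · intro Y hY
    have hYp : (Nat.card Y).Coprime p := by
      have h1 := CfsgLib.OddOrder.coprime_primesNotDvd hY.2.1
      rw [hi, Nat.coprime_pow_left_iff (Nat.pos_of_ne_zero hi0)] at h1
      exact h1.symm
    have hn : A.subgroupOf X ≤ Subgroup.normalizer (Y.subgroupOf X : Set X) := fun e he =>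
      Subgroup.mem_normalizer_iff.mpr fun z => by
        simpa [Subgroup.mem_subgroupOf] using Subgroup.mem_normalizer_iff.mp (hY.2.2 he) (z : G)
    have hA' : IsPGroup p (A.subgroupOf X) :=
      hAp.of_equiv (Subgroup.subgroupOfEquivOfLe hAX).symm
    have hY' : (Nat.card (Y.subgroupOf X)).Coprime p := by
      rwa [CfsgLib.Base.card_subgroupOf hY.1]
    have key : Y.subgroupOf X ≤ Cfsg.pPrimeCore p X := by
      rcases h with ⟨h1, hpl⟩ | ⟨P, ⟨hAP, hPA, hCPA⟩, -⟩
      · refine CfsgLib.OddOrder.le_pPrimeCore_of_omega hpodd hA' hY' hn (hcon X hX)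
          (CfsgLib.OddOrder.map_le_pCore_quotient (hpl X hX) hA') ?_
        intro u hu hup
        rw [Subgroup.mem_subgroupOf]
        refine (h1 _ (Subgroup.mem_centralizer_iff.mpr fun e he => ?_)).mp ?_
        · exact congrArg Subtype.val (hu ⟨e, hAX he⟩ he).eq
        · rw [← SubmonoidClass.coe_pow, hup, Subgroup.coe_one]
      · refine CfsgLib.OddOrder.le_pPrimeCore_of_full hA' hY' hn (hcon X hX) ?_
          (fun h2 => absurd h2 hpodd)
        intro u hu ⟨k, hk⟩
        rw [Subgroup.mem_subgroupOf]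
        -- a `p`-element centralizing `A` lies in `A`
        have hux : (u : G) ∈ Subgroup.centralizer (A : Set G) :=
          Subgroup.mem_centralizer_iff.mpr fun e he => congrArg Subtype.val (hu ⟨e, hAX he⟩ he).eq
        set N := Subgroup.normalizer (A : Set G) with hN
        have hup : IsPGroup p (Subgroup.zpowers (u : G)) :=
          CfsgLib.OddOrder.isPGroup_zpowers_of_pow_eq_one (k := k)
            (by rw [← SubmonoidClass.coe_pow, hk, Subgroup.coe_one])
        obtain ⟨T, hT⟩ := (hup.comap_of_injective N.subtype N.subtype_injective :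
          IsPGroup p ((Subgroup.zpowers (u : G)).subgroupOf N)).exists_le_sylow
        obtain ⟨g, hg⟩ := MulAction.exists_smul_eq N (P.subtype hPA) T
        have huT : (⟨u, Subgroup.centralizer_le_normalizer _ hux⟩ : N) ∈ (T : Subgroup N) :=
          hT (Subgroup.mem_zpowers (u : G))
        rw [← hg, Sylow.coe_subgroup_smul, Subgroup.mem_pointwise_smul_iff_inv_smul_mem] at huT
        have huP : (g : G)⁻¹ * u * g ∈ (P : Subgroup G) := by
          simpa [MulAut.smul_def, Subgroup.mem_subgroupOf, mul_assoc] using huT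
        have hconj : (g : G)⁻¹ * u * g ∈ Subgroup.centralizer (A : Set G) := by
          refine Subgroup.mem_centralizer_iff.mpr fun a ha => ?_
          have h3 := Subgroup.mem_centralizer_iff.mp hux _
            ((Subgroup.mem_normalizer_iff.mp g.2 a).mp ha)
          have : (g : G)⁻¹ * ((g : G) * a * (g : G)⁻¹ * u) * g =
              (g : G)⁻¹ * (u * ((g : G) * a * (g : G)⁻¹)) * g := by rw [h3]
          simpa [mul_assoc] using this
        have huA : (g : G)⁻¹ * u * g ∈ A := hCPA ▸ ⟨huP, hconj⟩
        have h4 := (Subgroup.mem_normalizer_iff.mp g.2 _).mp huA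
        simpa [mul_assoc] using h4
    have h2 := Subgroup.map_mono (f := X.subtype) key
    rw [Subgroup.map_subgroupOf_eq_of_le hY.1] at h2
    refine h2.trans (CfsgLib.OddOrder.le_piCoreOf (Subgroup.map_subtype_le _)
      (CfsgLib.Base.le_normalizer_map_pPrimeCore X) ?_)
    refine CfsgLib.OddOrder.primesNotDvd_of_coprime ?_
    rw [hi]
    exact (CfsgLib.Base.coprime_card_map_pPrimeCore X).symm.pow_left i
  · exact ⟨CfsgLib.OddOrder.piCoreOf_le _ X, CfsgLib.OddOrder.piCoreOf_primes _ X,
      hAX.trans (CfsgLib.OddOrder.le_normalizer_piCoreOf _ X)⟩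

end Cfsg.Agent.S1396
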