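import Cfsg.Statements.S1461
import Cfsg.Agent.Lib.OddOrder.PLengthOne
import Cfsg.Agent.Lib.PLocal.Constrained
import Cfsg.Agent.Lib.Coprime.SchurZassenhaus

set_option autoImplicit false
open Cfsg
open scoped Pointwise

namespace Cfsg.Agent.S1461

/-- Let G be a finite solvable group, p a prime with G = O_{p',p,p'}(G), and S a Sylow p-subgroup. Then: if S ≤ G' then S ≤ [N_G(S), N_G(S)]; if Y ⊆ S and xYx⁻¹ ⊆ S then x = g c for some g ∈ N_G(S) and c centralizing Y; and for every p-subgroup Q there is x ∈ C_G(Q ∩ S) with xQx⁻¹ ≤ S. -/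
theorem result {G : Type*} [Group G] [Finite G] [Group.IsSolvable G] (p : ℕ) [Fact p.Prime] (hpl : Cfsg.PLengthLE p 1 G) (S : Sylow p G) :
    ((S : Subgroup G) ≤ commutator G → (S : Subgroup G) ≤ ⁅Subgroup.normalizer ((S : Subgroup G) : Set G), Subgroup.normalizer ((S : Subgroup G) : Set G)⁆) ∧
      (∀ (Y : Set G) (x : G), Y ⊆ (S : Subgroup G) → (fun y => x * y * x⁻¹) '' Y ⊆ (S : Subgroup G) →
        ∃ g ∈ Subgroup.normalizer ((S : Subgroup G) : Set G), ∃ c ∈ Subgroup.centralizer Y, g * c = x) ∧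
      ∀ Q : Subgroup G, IsPGroup p Q → ∃ x ∈ Subgroup.centralizer ((Q ⊓ (S : Subgroup G) : Subgroup G) : Set G), Q.map (MulAut.conj x).toMonoidHom ≤ (S : Subgroup G) := by
  set M := Cfsg.pPrimeCore p G with hM
  set T := Cfsg.pPrimePCore p G with hT
  have hMS : M ⊓ (S : Subgroup G) = ⊥ := by
    obtain ⟨k, hk⟩ := IsPGroup.iff_card.mp S.isPGroup'
    exact CfsgLib.Base.inf_eq_bot_of_coprime (hk ▸ (CfsgLib.Base.pPrimeCore_coprime p G).pow_right k)
  -- every `p`-subgroup lies in `T`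
  have hpT : ∀ Q : Subgroup G, IsPGroup p Q → Q ≤ T := fun Q hQ =>
    Subgroup.map_le_iff_le_comap.mp (CfsgLib.OddOrder.map_le_pCore_quotient hpl hQ)
  have hST : (S : Subgroup G) ≤ T := hpT _ S.isPGroup'
  have hTn : T.Normal := CfsgLib.PLocal.pPrimePCore_normal p G
  have hMT : M ≤ T := CfsgLib.PLocal.le_comap_mk' M _
  have hTMS : T ≤ M ⊔ (S : Subgroup G) := by
    refine CfsgLib.Coprime.le_sup_of_map_mk'_le ?_
    rw [hT, CfsgLib.PLocal.map_pPrimePCore]
    obtain ⟨S', hS'⟩ : ∃ S' : Sylow p (G ⧸ M), S = (S : Sylow p G) ∧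
        (S' : Subgroup (G ⧸ M)) = (S : Subgroup G).map (QuotientGroup.mk' M) :=
      ⟨S.mapSurjective (QuotientGroup.mk'_surjective M), rfl, Sylow.coe_mapSurjective _ _⟩
    rw [← hS'.2]
    exact CfsgLib.Base.pCore_le_sylow S'
  have hconjT : ∀ t ∈ T, ∃ m ∈ M, ∃ s ∈ (S : Subgroup G), t = m * s := by
    intro t ht
    have h1 : t ∈ (S : Subgroup G) ⊔ M := by rw [sup_comm]; exact hTMS ht
    obtain ⟨s, hs, m, hm, rfl⟩ := (CfsgLib.Coprime.mem_sup_iff_of_le_normalizer
      (H := (S : Subgroup G)) (N := M) Subgroup.le_normalizer_of_normal).mp h1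
    exact ⟨s * m * s⁻¹, Subgroup.Normal.conj_mem inferInstance m hm s, s, hs, by group⟩
  have hfrat : ∀ x : G, ∃ g ∈ Subgroup.normalizer ((S : Subgroup G) : Set G), ∃ m ∈ M, x = g * m := by
    intro x
    haveI := hTn
    have h1 : Subgroup.normalizer (((S.subtype hST : Sylow p T) : Subgroup T).map T.subtype : Set G) ⊔ T = ⊤ :=
      Sylow.normalizer_sup_eq_top _
    rw [Sylow.coe_subtype, Subgroup.map_subgroupOf_eq_of_le hST] at h1
    have hx : x ∈ Subgroup.normalizer ((S : Subgroup G) : Set G) ⊔ T := h1 ▸ Subgroup.mem_top x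
    obtain ⟨g, hg, t, ht, rfl⟩ := (CfsgLib.Coprime.mem_sup_iff_of_le_normalizer
      (H := Subgroup.normalizer ((S : Subgroup G) : Set G)) (N := T)
      Subgroup.le_normalizer_of_normal).mp hx
    obtain ⟨m, hm, s, hs, rfl⟩ := hconjT t ht
    exact ⟨g * s, mul_mem hg (Subgroup.le_normalizer hs), s⁻¹ * m * s,
      by simpa using Subgroup.Normal.conj_mem (inferInstance : M.Normal) m hm s⁻¹, by group⟩
  have hcent : ∀ m ∈ M, ∀ y ∈ (S : Subgroup G), m * y * m⁻¹ ∈ (S : Subgroup G) → y * m = m * y := by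
    intro m hm y hy h
    have h1 : m * y * m⁻¹ * y⁻¹ ∈ M ⊓ (S : Subgroup G) := by
      refine ⟨?_, (S : Subgroup G).mul_mem h ((S : Subgroup G).inv_mem hy)⟩
      have := M.mul_mem hm (Subgroup.Normal.conj_mem (inferInstance : M.Normal) _ (M.inv_mem hm) y)
      simpa [mul_assoc] using this
    rw [hMS, Subgroup.mem_bot, mul_inv_eq_one, mul_inv_eq_iff_eq_mul] at h1
    exact h1.symm
  refine ⟨?_, ?_, ?_⟩
  · intro hle x hx
    set N := Subgroup.normalizer ((S : Subgroup G) : Set G) with hN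
    have hG' : commutator G ≤ M ⊔ ⁅N, N⁆ := by
      refine CfsgLib.Coprime.le_sup_of_map_mk'_le ?_
      rw [commutator_def, Subgroup.map_commutator, Subgroup.map_commutator]
      have h2 : (⊤ : Subgroup G).map (QuotientGroup.mk' M) = N.map (QuotientGroup.mk' M) := by
        refine le_antisymm ?_ (Subgroup.map_mono le_top)
        rintro _ ⟨y, -, rfl⟩
        obtain ⟨g, hg, m, hm, rfl⟩ := hfrat y
        refine ⟨g, hg, ?_⟩
        rw [map_mul, show QuotientGroup.mk' M m = 1 from (QuotientGroup.eq_one_iff m).mpr hm, mul_one]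
      rw [h2]
    have hxm : x ∈ ⁅N, N⁆ ⊔ M := by rw [sup_comm]; exact hG' (hle hx)
    obtain ⟨d, hd, k, hk, hdk⟩ := (CfsgLib.Coprime.mem_sup_iff_of_le_normalizer (H := ⁅N, N⁆) (N := M)
      Subgroup.le_normalizer_of_normal).mp hxm
    have hdN : d ∈ N := Subgroup.commutator_le_self N hd
    have hxN : x ∈ N := Subgroup.le_normalizer hx
    have hkN : k ∈ N := by
      have h3 := N.mul_mem (N.inv_mem hdN) hxN
      rwa [← hdk, inv_mul_cancel_left] at h3
    let f := QuotientGroup.mk' (commutator N)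
    have hmap : ∀ (z : G) (hz : z ∈ N), f ⟨z, hz⟩ = 1 ↔ z ∈ ⁅N, N⁆ := by
      intro z hz
      rw [QuotientGroup.mk'_apply, QuotientGroup.eq_one_iff, ← Subgroup.map_subtype_commutator]
      exact (Subgroup.mem_map_iff_mem N.subtype_injective (x := (⟨z, hz⟩ : N))).symm
    have heq : f ⟨x, hxN⟩ = f ⟨k, hkN⟩ := by
      rw [show (⟨x, hxN⟩ : N) = ⟨d, hdN⟩ * ⟨k, hkN⟩ from Subtype.ext hdk.symm, map_mul,
        (hmap d hdN).mpr hd, one_mul]
    have h1 : orderOf (f ⟨x, hxN⟩) ∣ Nat.card (S : Subgroup G) :=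
      (orderOf_map_dvd f _).trans (by
        rw [Subgroup.orderOf_mk]; exact Subgroup.orderOf_dvd_natCard _ hx)
    have h2 : orderOf (f ⟨x, hxN⟩) ∣ Nat.card M := by
      rw [heq]
      exact (orderOf_map_dvd f _).trans (by
        rw [Subgroup.orderOf_mk]; exact Subgroup.orderOf_dvd_natCard M hk)
    obtain ⟨i, hi⟩ := IsPGroup.iff_card.mp S.isPGroup'
    exact (hmap x hxN).mp (orderOf_eq_one_iff.mp (Nat.eq_one_of_dvd_coprimes
      ((CfsgLib.Base.pPrimeCore_coprime p G).pow_right i) h2 (hi ▸ h1)))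
  · intro Y x hY hxY
    obtain ⟨g, hg, m, hm, rfl⟩ := hfrat x
    refine ⟨g, hg, m, Subgroup.mem_centralizer_iff.mpr fun y hy => hcent m hm y (hY hy) ?_, rfl⟩
    refine (Subgroup.mem_normalizer_iff.mp hg _).mpr ?_
    have h1 := hxY ⟨y, hy, rfl⟩
    simp only [SetLike.mem_coe, mul_inv_rev, mul_assoc] at h1 ⊢
    exact h1
  · intro Q hQ
    obtain ⟨R, hR⟩ := (hQ.comap_of_injective T.subtype T.subtype_injective :
      IsPGroup p (Q.subgroupOf T)).exists_le_sylow
    obtain ⟨t, ht⟩ := MulAction.exists_smul_eq T (S.subtype hST) R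
    obtain ⟨m, hm, s, hs, hts⟩ := hconjT t t.2
    have hkey : ∀ q ∈ Q, m⁻¹ * q * m ∈ (S : Subgroup G) := by
      intro q hq
      have h1 := hR (show (⟨q, hpT Q hQ hq⟩ : T) ∈ Q.subgroupOf T from hq)
      rw [← ht, Sylow.coe_subgroup_smul, Subgroup.mem_pointwise_smul_iff_inv_smul_mem] at h1
      have h2 : (t : G)⁻¹ * q * t ∈ (S : Subgroup G) := by
        simpa [MulAut.smul_def, Subgroup.mem_subgroupOf, mul_assoc] using h1
      rw [hts] at h2
      have h3 := mul_mem (mul_mem hs h2) (inv_mem hs)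
      simpa [mul_assoc] using h3
    refine ⟨m⁻¹, Subgroup.mem_centralizer_iff.mpr fun h hh => ?_, ?_⟩
    · exact hcent m⁻¹ (M.inv_mem hm) h hh.2 (by simpa using hkey h hh.1)
    · rintro _ ⟨q, hq, rfl⟩
      simpa using hkey q hq

end Cfsg.Agent.S1461
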