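import Cfsg.Statements.S1403
import Cfsg.Agent.Lib.OddOrder.UniquenessTheorem

set_option autoImplicit false
open Cfsg

namespace Cfsg.Agent.S1403

/-- Let G be a minimal simple group of odd order and K a proper subgroup having an elementary abelian subgroup of order p ^ 2 for some prime p. If K, or its centralizer C_G(K), has an elementary abelian subgroup of order q ^ 3 for some prime q, then K lies in exactly one maximal subgroup of G. -/
theorem result {G : Type*} [Group G] [Finite G] (hG : Cfsg.IsMinSimpleOddOrder G)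
    (K : Subgroup G) (hK : K ≠ ⊤) (hK2 : ¬ Cfsg.RankLE 1 K)
    (hK3 : ¬ Cfsg.RankLE 2 K ∨ ¬ Cfsg.RankLE 2 (Subgroup.centralizer (K : Set G))) :
    Cfsg.InUniqueMaximal K := by
  simp only [Cfsg.RankLE, not_forall] at hK2 hK3
  obtain ⟨r, hr, hr1⟩ := hK2
  have : Fact r.Prime := ⟨hr⟩
  rcases hK3 with ⟨s, hs, hs2⟩ | ⟨s, hs, hs2⟩
  · have : Fact s.Prime := ⟨hs⟩
    obtain ⟨E, hEK, hE, hE3⟩ := CfsgLib.OddOrder.exists_elementary_pow_le hs2
    exact CfsgLib.OddOrder.inUniqueMaximal_mono
      (CfsgLib.OddOrder.inUniqueMaximal_of_card_ge hG hE hE3) hEK hK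
  · have : Fact s.Prime := ⟨hs⟩
    obtain ⟨E, hEK, hE, hE3⟩ := CfsgLib.OddOrder.exists_elementary_pow_le hs2
    exact CfsgLib.OddOrder.inUniqueMaximal_of_le_centralizer hG
      (CfsgLib.OddOrder.inUniqueMaximal_of_card_ge hG hE hE3)
      (Subgroup.le_centralizer_iff.1 hEK) hr1

end Cfsg.Agent.S1403
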