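import Cfsg.Statements.S1525
import Cfsg.Agent.Lib.CharsMore.DadeIsometry
import Mathlib

set_option autoImplicit false
set_option linter.style.haveILetI false
open Cfsg

namespace Cfsg.Agent.S1525

/-- Under the Dade hypothesis for (A, L, H), let χ be a class function of G and let ψ be a function on L whose value at each a ∈ A is the average of χ over the coset a·H(a). Then (1/|G|) Σ |χ g|² over the elements g of G conjugate into some coset a·H(a) with a ∈ A is at least (1/|L|) Σ_{a ∈ A ∩ L} |ψ a|². -/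
theorem result {G : Type*} [Group G] [Fintype G] (A : Set G) (L : Subgroup G) [Fintype L] (H : G → Subgroup G) (hD : Cfsg.DadeHypothesis A L H) (χ : G → ℂ) (hχ : Cfsg.IsClassFunction G χ) (ψ : L → ℂ) (hψ : ∀ a : L, (a : G) ∈ A → ψ a = (Nat.card (H a) : ℂ)⁻¹ * ∑ᶠ u ∈ (H a : Set G), χ (a * u)) : (Nat.card L : ℝ)⁻¹ * ∑ᶠ a ∈ {a : L | (a : G) ∈ A}, ‖ψ a‖ ^ 2 ≤ (Nat.card G : ℝ)⁻¹ * ∑ᶠ g ∈ {g : G | ∃ a ∈ A, ∃ u ∈ H a, ∃ x : G, x * g * x⁻¹ = a * u}, ‖χ g‖ ^ 2 := by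
  classical
  letI : ∀ a : G, Fintype (H a) := fun a => Fintype.ofFinite _
  have hsupp : ∀ g : G, (∃ a ∈ A, CfsgLib.CharsMore.DadeWit H g a) ↔
      ∃ a ∈ A, ∃ u ∈ H a, ∃ x : G, x * g * x⁻¹ = a * u :=
    fun g => ⟨fun ⟨a, ha, x, u, hu, e⟩ => ⟨a, ha, u, hu, x, e⟩,
      fun ⟨a, ha, u, hu, x, e⟩ => ⟨a, ha, x, u, hu, e⟩⟩
  let F : G → ℝ := fun g =>
    if ∃ a ∈ A, CfsgLib.CharsMore.DadeWit H g a then ‖χ g‖ ^ 2 else 0
  have havg := CfsgLib.CharsMore.dade_average (K := ℝ) hD F (fun a u => ‖χ (a * u)‖ ^ 2)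
    (fun g h => if_neg h) (fun a ha g x u hu e => by
      show (if _ then _ else _) = _
      rw [if_pos ⟨(a : G), ha, x, u, hu, e⟩, ← e, hχ g x])
  have hR : ∑ᶠ g ∈ {g : G | ∃ a ∈ A, ∃ u ∈ H a, ∃ x : G, x * g * x⁻¹ = a * u}, ‖χ g‖ ^ 2 =
      ∑ g : G, F g := by
    rw [finsum_mem_eq_toFinset_sum, Set.toFinset_setOf, Finset.sum_filter]
    exact Finset.sum_congr rfl fun g _ => if_congr (hsupp g).symm rfl rfl
  rw [hR, havg, finsum_mem_eq_toFinset_sum, Set.toFinset_setOf]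
  refine mul_le_mul_of_nonneg_left (Finset.sum_le_sum fun a ha => ?_) (by positivity)
  have haA : (a : G) ∈ A := (Finset.mem_filter.1 ha).2
  rw [hψ a haA, ← finsum_set_coe_eq_finsum_mem]
  simp only [SetLike.coe_sort_coe]
  rw [finsum_eq_sum_of_fintype, norm_mul, norm_inv, Complex.norm_natCast]
  have hn : (0 : ℝ) < Nat.card (H a) := Nat.cast_pos.2 Nat.card_pos
  calc ((Nat.card (H a) : ℝ)⁻¹ * ‖∑ u : H (a : G), χ (a * u)‖) ^ 2
      ≤ ((Nat.card (H a) : ℝ)⁻¹ * ∑ u : H (a : G), ‖χ (a * u)‖) ^ 2 := by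
        gcongr
        exact norm_sum_le _ _
    _ = ((Nat.card (H a) : ℝ)⁻¹) ^ 2 * (∑ u : H (a : G), ‖χ (a * u)‖) ^ 2 := mul_pow _ _ _
    _ ≤ ((Nat.card (H a) : ℝ)⁻¹) ^ 2 *
          ((Nat.card (H a) : ℝ) * ∑ u : H (a : G), ‖χ (a * u)‖ ^ 2) := by
        gcongr
        rw [Nat.card_eq_fintype_card, ← Finset.card_univ]
        exact sq_sum_le_card_mul_sum_sq
    _ = _ := by field_simp

end Cfsg.Agent.S1525
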