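import Cfsg.Statements.S1506
import Cfsg.Agent.Lib.CharsMore.CyclicTI
import Mathlib

set_option autoImplicit false
set_option linter.style.haveILetI false
open Cfsg

namespace Cfsg.Agent.S1506

/-- Let W₁, W₂ ≤ G form a self-normalising cyclic subgroup W = W₁ ⊔ W₂ and χ an orthonormal family of irreducible characters of G up to sign, indexed by the linear characters ω of W, with χ_1 = 1, χ_ω = ω on W outside W₁ ∪ W₂, and the induction identity for (1 − φ)(1 − ψ). Let θ be a class function of G vanishing at every element of W outside W₁ ∪ W₂. For linear characters φ, φ' of W trivial on W₂ and ψ, ψ' trivial on W₁, the inner products a(ω) = ⟨θ, χ ω⟩ satisfy a(φψ) + a(φ'ψ') = a(φψ') + a(φ'ψ). -/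
theorem result {G : Type*} [Group G] [Fintype G] (W₁ W₂ : Subgroup G) (hW : Cfsg.IsSelfNormalizingCyclic W₁ W₂) (χ : (↥(W₁ ⊔ W₂) →* ℂˣ) → (G → ℂ)) (hχ : Cfsg.IsCyclicTIFamily W₁ W₂ χ) (θ : G → ℂ) (hθ : Cfsg.IsClassFunction G θ) (hθV : ∀ w : ↥(W₁ ⊔ W₂), (w : G) ∉ W₁ → (w : G) ∉ W₂ → θ w = 0) (φ φ' ψ ψ' : ↥(W₁ ⊔ W₂) →* ℂˣ) (hφ₂ : ∀ w : ↥(W₁ ⊔ W₂), (w : G) ∈ W₂ → φ w = 1 ∧ φ' w = 1) (hψ₁ : ∀ w : ↥(W₁ ⊔ W₂), (w : G) ∈ W₁ → ψ w = 1 ∧ ψ' w = 1) : Cfsg.classInner θ (χ (φ * ψ)) + Cfsg.classInner θ (χ (φ' * ψ')) = Cfsg.classInner θ (χ (φ * ψ')) + Cfsg.classInner θ (χ (φ' * ψ)) := by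
  classical
  haveI : Fintype ↥(W₁ ⊔ W₂) := Fintype.ofFinite _
  have key : ∀ f g : ↥(W₁ ⊔ W₂) →* ℂˣ, (∀ w : ↥(W₁ ⊔ W₂), (w : G) ∈ W₂ → f w = 1) →
      (∀ w : ↥(W₁ ⊔ W₂), (w : G) ∈ W₁ → g w = 1) →
      Cfsg.classInner θ (χ (f * g)) =
        Cfsg.classInner θ (χ f) + Cfsg.classInner θ (χ g) - Cfsg.classInner θ (χ 1) := by
    intro f g hf hg
    by_cases h1 : f = 1
    · subst h1
      rw [show (1 : ↥(W₁ ⊔ W₂) →* ℂˣ) * g = g from one_mul g]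
      ring
    by_cases h2 : g = 1
    · subst h2
      rw [show f * (1 : ↥(W₁ ⊔ W₂) →* ℂˣ) = f from mul_one f]
      ring
    have h : Cfsg.classInner θ (Cfsg.indFun (W₁ ⊔ W₂) (CfsgLib.CharsMore.alphaFn f g)) = 0 := by
      rw [CfsgLib.Chars.inner_indFun_right _ _ hθ, CfsgLib.Chars.inner_def,
        Finset.sum_eq_zero fun w _ => ?_, mul_zero]
      by_cases hw : (w : G) ∈ CfsgLib.CharsMore.regularPart W₁ W₂
      · rw [hθV w (fun h => hw.2 (Or.inl h)) (fun h => hw.2 (Or.inr h)), zero_mul]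
      · rw [CfsgLib.CharsMore.alphaFn_support hf hg w hw, map_zero, mul_zero]
    rw [show CfsgLib.CharsMore.alphaFn f g = fun w => 1 - (f w : ℂ) - (g w : ℂ) +
        (f w : ℂ) * (g w : ℂ) from rfl, hχ.induced_eq f g h1 h2 hf hg,
      show (fun x => 1 - χ f x - χ g x + χ (f * g) x) = χ 1 - χ f - χ g + χ (f * g) by
        funext x; simp [hχ.map_one],
      CfsgLib.Chars.inner_add_right, CfsgLib.Chars.inner_sub_right,
      CfsgLib.Chars.inner_sub_right] at h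
    linear_combination h
  have a1 := fun w h => (hφ₂ w h).1
  have a2 := fun w h => (hφ₂ w h).2
  have b1 := fun w h => (hψ₁ w h).1
  have b2 := fun w h => (hψ₁ w h).2
  rw [key φ ψ a1 b1, key φ' ψ' a2 b2, key φ ψ' a1 b2, key φ' ψ a2 b1]
  ring

end Cfsg.Agent.S1506
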