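import Cfsg.Statements.S1518
import Cfsg.Agent.Lib.CharsMore.DadeGeneralized
import Cfsg.Agent.Lib.CharsMore.CoherenceSystem
import Cfsg.Agent.Lib.Chars.Virtual
import Mathlib

set_option autoImplicit false
set_option linter.style.haveILetI false
open Cfsg

namespace Cfsg.Agent.S1518

/-- Under the Dade hypothesis for (A, L, H): if χ is an irreducible character of L vanishing at every non-identity element of L outside A, then the Dade image of χ − conj χ equals μ − conj μ for some irreducible character μ of G. -/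
theorem result {G : Type*} [Group G] [Fintype G] (A : Set G) (L : Subgroup G) [Fintype L] (H : G → Subgroup G) (hD : Cfsg.DadeHypothesis A L H) (χ : L → ℂ) (hχ : Cfsg.IsIrrCharacter L χ) (hsupp : ∀ x : L, x ≠ 1 → (x : G) ∉ A → χ x = 0) : ∃ μ : G → ℂ, Cfsg.IsIrrCharacter G μ ∧ Cfsg.dadeIsometry A L H (χ - Cfsg.conjFun χ) = μ - Cfsg.conjFun μ := by
  classical
  by_cases hreal : Cfsg.conjFun χ = χ
  · refine ⟨fun _ => 1, CfsgLib.Chars.isIrrCharacter_one, ?_⟩
    funext g
    simp [hreal, Cfsg.dadeIsometry, Cfsg.conjFun]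
  obtain ⟨d, -, hd⟩ := CfsgLib.Chars.irr_degree_nat hχ
  have hχc : IsIrrCharacter L (Cfsg.conjFun χ) := CfsgLib.Chars.isIrrCharacter_conj hχ
  set α : L → ℂ := χ - Cfsg.conjFun χ with hαdef
  have hgen : IsGeneralizedCharacter L α := ⟨χ, _, CfsgLib.Chars.isCharacter_of_irr hχ,
    CfsgLib.Chars.isCharacter_of_irr hχc, rfl⟩
  have hαc : IsClassFunction L α := CfsgLib.Chars.isClassFunction_of_isGeneralized hgen
  have hαA : ∀ x : L, (x : G) ∉ A → α x = 0 := by
    intro x hx
    by_cases h : x = 1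
    · subst h; simp [hαdef, Cfsg.conjFun, hd]
    · simp [hαdef, Cfsg.conjFun, hsupp x h hx]
  have hβgen := CfsgLib.CharsMore.isGeneralized_dadeIsometry hD hgen hαA
  have hβ1 : Cfsg.dadeIsometry A L H α 1 = 0 := by
    refine CfsgLib.CharsMore.dadeIsometry_eq_zero hD ?_
    rintro ⟨a, ha, x, u, hu, e⟩
    rw [mul_one, mul_inv_cancel] at e
    have hau : a ∈ H a := by
      rw [eq_inv_of_mul_eq_one_left e.symm] at hu ⊢
      simpa using (H _).inv_mem hu
    have : a ∈ H a ⊓ (L ⊓ Subgroup.centralizer ({a} : Set G)) :=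
      ⟨hau, CfsgLib.CharsMore.dade_mem_centralizer hD ha⟩
    rw [hD.inf_eq_bot a ha, Subgroup.mem_bot] at this
    exact hD.one_not_mem (this ▸ ha)
  have hβ2 : classInner (Cfsg.dadeIsometry A L H α) (Cfsg.dadeIsometry A L H α) = 2 := by
    rw [CfsgLib.CharsMore.inner_dadeIsometry hD hαc hαA
      (CfsgLib.CharsMore.isClassFunction_dadeIsometry hD hαc) (ψ := α) fun a ha => ?_]
    · rw [hαdef, CfsgLib.Chars.inner_sub_left, CfsgLib.Chars.inner_sub_right,
        CfsgLib.Chars.inner_sub_right, CfsgLib.Chars.inner_irr_of_isIrr hχ hχ,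
        CfsgLib.Chars.inner_irr_of_isIrr hχc hχc, CfsgLib.Chars.inner_irr_of_isIrr hχ hχc,
        CfsgLib.Chars.inner_irr_of_isIrr hχc hχ, if_pos rfl, if_pos rfl, if_neg (Ne.symm hreal),
        if_neg hreal]
      norm_num
    · haveI : Fintype (H (a : G) : Set G) := Fintype.ofFinite _
      rw [← finsum_set_coe_eq_finsum_mem, finsum_eq_sum_of_fintype,
        Finset.sum_congr rfl (g := fun _ => α a) fun (u : (H (a : G) : Set G)) _ =>
          CfsgLib.CharsMore.dadeIsometry_apply hD hαc a ha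
            (g := (a : G) * u) (x := 1) u.2 (by simp),
        Finset.sum_const, Finset.card_univ, nsmul_eq_mul, ← Nat.card_eq_fintype_card, ← mul_assoc]
      simp only [SetLike.coe_sort_coe]
      rw [inv_mul_cancel₀ (Nat.cast_ne_zero.2 Nat.card_pos.ne'), one_mul]
  obtain ⟨μ, ν, hne, hβ⟩ := CfsgLib.Chars.exists_diff_of_norm_two hβgen hβ2 hβ1
  have hconj : Cfsg.conjFun (Cfsg.dadeIsometry A L H α) = -Cfsg.dadeIsometry A L H α := by
    funext g
    simp only [Cfsg.conjFun, Cfsg.dadeIsometry, Pi.neg_apply]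
    split_ifs with h
    · simp [hαdef, Cfsg.conjFun]
    · simp
  have hμc : IsIrrCharacter G (Cfsg.conjFun (μ : G → ℂ)) := CfsgLib.Chars.isIrrCharacter_conj μ.2
  have hνc : IsIrrCharacter G (Cfsg.conjFun (ν : G → ℂ)) := CfsgLib.Chars.isIrrCharacter_conj ν.2
  have h : Cfsg.conjFun (μ : G → ℂ) - Cfsg.conjFun (ν : G → ℂ) = (ν : G → ℂ) - μ := by
    rw [hβ, neg_sub] at hconj
    rw [← hconj]
    funext g
    simp [Cfsg.conjFun]
  refine ⟨μ, μ.2, ?_⟩
  rw [hβ]
  have hμν : Cfsg.conjFun (μ : G → ℂ) = (ν : G → ℂ) := by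
    by_contra hμν
    have h2 := congrArg (fun f => classInner f (ν : G → ℂ)) h
    simp only [CfsgLib.Chars.inner_sub_left, CfsgLib.Chars.inner_irr_of_isIrr hμc ν.2,
      CfsgLib.Chars.inner_irr_of_isIrr hνc ν.2, CfsgLib.Chars.inner_irr_of_isIrr ν.2 ν.2,
      CfsgLib.Chars.inner_irr_of_isIrr μ.2 ν.2, if_neg hμν,
      if_neg (fun e : (μ : G → ℂ) = ν => hne (Subtype.ext e))] at h2
    split_ifs at h2 <;> norm_num at h2
  rw [hμν]

end Cfsg.Agent.S1518
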