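import Cfsg.Statements.S1386
import Cfsg.Agent.Lib.OddOrder.CyclicSubgroups

set_option autoImplicit false
open Cfsg

namespace Cfsg.Agent.S1386

/-- Let G be a finite group, W₁, W₂ subgroups forming a self-normalizing cyclic pair, S a subgroup with W₂ ≤ S and W₁ a complement to S' in S, and (W₁, U, W₂') type-P data for S. Then W₂' = W₂ (that is, C_{S'}(W₁) = W₂). -/
theorem result {G : Type*} [Group G] [Finite G] (W₁ W₂ S U W₂' : Subgroup G) (hW : Cfsg.IsSelfNormalizingCyclic W₁ W₂)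
    (hSW : Cfsg.IsComplIn ⁅S, S⁆ W₁ S) (hW₂S : W₂ ≤ S) (hP : Cfsg.IsTypePWith S W₁ U W₂') :
    W₂' = W₂ := by
  obtain ⟨hW1, hW2, hdisj, hcomm, hcyc, hnorm⟩ := hW
  obtain ⟨-, -, hdisj', hcomm', hcyc', -⟩ := hP.selfNormalizing
  -- a regular element of W₁W₂
  obtain ⟨x, hx, hx1⟩ : ∃ x ∈ W₁, x ≠ 1 :=
    (W₁.bot_or_exists_ne_one).resolve_left hW1
  obtain ⟨y, hy, hy1⟩ : ∃ y ∈ W₂, y ≠ 1 :=
    (W₂.bot_or_exists_ne_one).resolve_left hW2
  have hxy : x * y ∈ (↑(W₁ ⊔ W₂) : Set G) \ (↑W₁ ∪ ↑W₂) := by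
    refine ⟨mul_mem (Subgroup.mem_sup_left hx) (Subgroup.mem_sup_right hy), ?_⟩
    rintro (h | h)
    · exact hy1 (Subgroup.mem_bot.mp (hdisj ▸ ⟨(W₁.mul_mem_cancel_left hx).mp h, hy⟩))
    · exact hx1 (Subgroup.mem_bot.mp (hdisj ▸ ⟨hx, (W₂.mul_mem_cancel_right hy).mp h⟩))
  have hN : Subgroup.normalizer ({x * y} : Set G) = W₁ ⊔ W₂ :=
    hnorm _ (Set.singleton_subset_iff.mpr hxy) (Set.singleton_nonempty _)
  rw [Subgroup.normalizer_singleton] at hN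
  -- W₂ lies in W₁W₂'
  have hW2' : ∀ w ∈ W₂, ∃ a ∈ W₂', ∃ b ∈ W₁, w = a * b := by
    intro w hw
    obtain ⟨a, ha, b, hb, rfl⟩ := hSW.2.2.2 w (hW₂S hw)
    refine ⟨a, ?_, b, hb, rfl⟩
    rw [← hP.W₂_centralizer x hx hx1]
    refine ⟨ha, Subgroup.mem_centralizer_singleton_iff.mpr ?_⟩
    haveI : IsMulCommutative W₁ := by
      haveI := hP.W₁_cyclic; infer_instance
    have hb' : x * b = b * x := congrArg Subtype.val (mul_comm' (⟨x, hx⟩ : W₁) ⟨b, hb⟩)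
    have hw' : x * (a * b) = (a * b) * x := hcomm x hx (a * b) hw
    apply mul_right_cancel (b := b)
    calc a * x * b = a * (x * b) := mul_assoc _ _ _
      _ = a * (b * x) := by rw [hb']
      _ = (a * b) * x := (mul_assoc _ _ _).symm
      _ = x * (a * b) := hw'.symm
      _ = x * a * b := (mul_assoc _ _ _).symm
  -- W₁W₂' is the same group as W₁W₂
  have hle1 : W₁ ⊔ W₂ ≤ W₁ ⊔ W₂' := by
    refine sup_le le_sup_left fun w hw => ?_
    obtain ⟨a, ha, b, hb, rfl⟩ := hW2' w hw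
    exact mul_mem (Subgroup.mem_sup_right ha) (Subgroup.mem_sup_left hb)
  have hle2 : W₁ ⊔ W₂' ≤ W₁ ⊔ W₂ := by
    conv_rhs => rw [← hN]
    intro z hz
    have hmem : x * y ∈ W₁ ⊔ W₂' := hle1 hxy.1
    haveI := hcyc'
    exact Subgroup.mem_centralizer_singleton_iff.mpr
      (congrArg Subtype.val (mul_comm' (⟨z, hz⟩ : ↥(W₁ ⊔ W₂')) ⟨x * y, hmem⟩))
  have hsup : W₁ ⊔ W₂' = W₁ ⊔ W₂ := le_antisymm hle2 hle1
  haveI := hcyc
  have hcard : ∀ V : Subgroup G, W₁ ⊓ V = ⊥ → (∀ a ∈ W₁, ∀ b ∈ V, a * b = b * a) →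
      Nat.card ↥(W₁ ⊔ V) = Nat.card W₁ * Nat.card V := by
    intro V hd hc
    have hcomm2 : ∀ (a : W₁) (b : V), Commute (W₁.subtype a) (V.subtype b) :=
      fun a b => hc a a.2 b b.2
    have hf : Function.Injective (W₁.subtype.noncommCoprod V.subtype hcomm2) :=
      (MonoidHom.noncommCoprod_injective _ _ _).mpr
        ⟨W₁.subtype_injective, V.subtype_injective, by simpa [disjoint_iff] using hd⟩
    have hr : (W₁.subtype.noncommCoprod V.subtype hcomm2).range = W₁ ⊔ V :=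
      (MonoidHom.noncommCoprod_range _ _ _).trans (by simp)
    rw [← hr, ← Nat.card_prod, Nat.card_congr (MonoidHom.ofInjective hf).toEquiv]
  have hc : Nat.card W₂' = Nat.card W₂ := by
    have h1 := hcard W₂ hdisj hcomm
    have h2 := hcard W₂' hdisj' hcomm'
    rw [hsup, h1] at h2
    exact (Nat.eq_of_mul_eq_mul_left Nat.card_pos h2).symm
  exact CfsgLib.OddOrder.eq_of_card_eq_of_isCyclic (hsup ▸ le_sup_right) le_sup_right hc

end Cfsg.Agent.S1386
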