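import Cfsg.Statements.S1491
import Cfsg.Agent.Lib.CharsMore.InertiaAbelian
import Cfsg.Agent.S0867
import Mathlib

set_option autoImplicit false
set_option linter.style.haveILetI false
open Cfsg

namespace Cfsg.Agent.S1491

/-- Let H be a normal subgroup of the finite group G and θ an irreducible character of H with inertia group T, where T/H is abelian (commutators of T lie in H) and the index of H in T is coprime to the order of H. Then the function induced from θ is the sum of a set of exactly [T:H] irreducible characters of G, each of degree [G:T] * θ(1). -/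
theorem result {G : Type*} [Group G] [Fintype G] (H T : Subgroup G) [hN : H.Normal] (θ : H → ℂ) (hθ : Cfsg.IsIrrCharacter H θ) (hT : ∀ g : G, g ∈ T ↔ ∀ h : H, θ ⟨g * h * g⁻¹, hN.conj_mem h h.2 g⟩ = θ h) (hab : ∀ x ∈ T, ∀ y ∈ T, x * y * x⁻¹ * y⁻¹ ∈ H) (hcop : Nat.Coprime (Nat.card H) (H.relIndex T)) : ∃ C : Finset (G → ℂ), (∀ χ ∈ C, Cfsg.IsIrrCharacter G χ) ∧ C.card = H.relIndex T ∧ Cfsg.indFun H θ = ∑ χ ∈ C, χ ∧ ∀ χ ∈ C, χ 1 = (T.index : ℂ) * θ 1 := by
  classical
  haveI : Fintype T := Fintype.ofFinite T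
  haveI : Fintype H := Fintype.ofFinite H
  have hTe : T = CfsgLib.CharsMore.inertia H θ := by
    ext g
    rw [hT, CfsgLib.CharsMore.mem_inertia]
    exact Iff.rfl
  obtain ⟨e, C, he, hC, hsum, hidx, hd, hext⟩ :=
    CfsgLib.CharsMore.indFun_inertia_abelian H θ hθ T hTe hab
  have hHT : H ≤ T := hTe ▸ CfsgLib.CharsMore.le_inertia H
    (CfsgLib.Chars.isClassFunction_of_isCharacter (CfsgLib.Chars.isCharacter_of_irr hθ))
  have hpi := CfsgLib.CharsMore.isIrr_pullFn H hHT hθ
  have hcard : Nat.card (H.subgroupOf T) = Nat.card H :=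
    Nat.card_congr (Subgroup.subgroupOfEquivOfLe hHT).toEquiv
  obtain ⟨d, -, hd1, hdd⟩ := CfsgLib.Chars.irr_degree_dvd_card hpi
  obtain ⟨n, ρ, hρ, hρc⟩ := id hpi
  haveI := hρ
  have hord : Cfsg.detOrder (CfsgLib.CharsMore.pullFn H T θ) ∣ Nat.card (H.subgroupOf T) := by
    rw [Cfsg.detOrder, CfsgLib.CharsMore.detChar_eq ρ hρc, CfsgLib.CharsMore.orderOf_linFun]
    refine orderOf_dvd_of_pow_eq_one (MonoidHom.ext fun x => ?_)
    rw [MonoidHom.pow_apply, ← map_pow, pow_card_eq_one', map_one, MonoidHom.one_apply]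
  have hcop' : Nat.Coprime (H.subgroupOf T).index
      (Cfsg.detOrder (CfsgLib.CharsMore.pullFn H T θ) * d) := by
    have h : Nat.Coprime (H.relIndex T) (Nat.card (H.subgroupOf T)) := by rw [hcard]; exact hcop.symm
    exact Nat.Coprime.mul_right (h.coprime_dvd_right hord) (h.coprime_dvd_right hdd)
  obtain ⟨χ, ⟨hχ, hχn, -⟩, -⟩ := Cfsg.Agent.S0867.result (H.subgroupOf T)
    (CfsgLib.CharsMore.pullFn H T θ) hpi
    (fun g n => by
      have hg : (g : G) ∈ CfsgLib.CharsMore.inertia H θ := hTe ▸ g.2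
      exact ((CfsgLib.CharsMore.mem_inertia H).1 hg ⟨(n : T), Subgroup.mem_subgroupOf.1 n.2⟩))
    d hd1 hcop'
  obtain rfl : e = 1 := hext ⟨χ, hχ, hχn⟩
  refine ⟨C, hC, by simpa using hidx, by simpa using hsum, fun φ hφ => by simpa using hd φ hφ⟩

end Cfsg.Agent.S1491
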