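import Cfsg.Statements.S1513
import Cfsg.Agent.Lib.CharsMore.TypePLike
import Cfsg.Agent.S1491
import Mathlib

set_option autoImplicit false
set_option linter.style.haveILetI false
open Cfsg

namespace Cfsg.Agent.S1513

/-- Let L be a finite group with K normal with complement W₁ ≠ 1 a cyclic Hall subgroup, and W₂ ≠ 1 a cyclic subgroup of K equal to C_K(x) for every non-identity x ∈ W₁, with W₁W₂ of odd order. For an irreducible character θ of K: if θ is not fixed under conjugation by some element of W₁, then the function induced from θ to L is an irreducible character of L; and the irreducible characters of K fixed by all of W₁ are exactly Nat.card W₂ in number, each inducing to the sum of Nat.card W₁ pairwise distinct irreducible characters of L. -/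
theorem result {L : Type*} [Group L] [Fintype L] (K W₁ W₂ : Subgroup L) [hK : K.Normal] (hKW₁ : K ⊓ W₁ = ⊥) (hKW₁' : K ⊔ W₁ = ⊤) (hW₁ : W₁ ≠ ⊥) (hW₁c : IsCyclic W₁) (hHall : Nat.Coprime (Nat.card W₁) W₁.index) (hW₂ : W₂ ≠ ⊥) (hW₂c : IsCyclic W₂) (hW₂K : W₂ ≤ K) (hC : ∀ x ∈ W₁, x ≠ 1 → K ⊓ Subgroup.centralizer ({x} : Set L) = W₂) (hodd : Odd (Nat.card ↥(W₁ ⊔ W₂))) : (∀ θ : K → ℂ, Cfsg.IsIrrCharacter K θ → (∃ x ∈ W₁, (fun k : K => θ ⟨x * k * x⁻¹, hK.conj_mem (k : L) k.2 x⟩) ≠ θ) → Cfsg.IsIrrCharacter L (Cfsg.indFun K θ)) ∧ Nat.card {θ : Cfsg.IrrCharacter K // ∀ x ∈ W₁, (fun k : K => (θ : K → ℂ) ⟨x * k * x⁻¹, hK.conj_mem (k : L) k.2 x⟩) = θ} = Nat.card W₂ ∧ (∀ θ : K → ℂ, Cfsg.IsIrrCharacter K θ → (∀ x ∈ W₁, (fun k : K => θ ⟨x * k * x⁻¹, hK.conj_mem (k : L) k.2 x⟩) = θ) → ∃ C : Finset (L → ℂ), C.card = Nat.card W₁ ∧ (∀ μ ∈ C, Cfsg.IsIrrCharacter L μ) ∧ Cfsg.indFun K θ = ∑ μ ∈ C, μ) := by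
  classical
  have hcompl : Subgroup.IsComplement' K W₁ :=
    Subgroup.isComplement'_of_disjoint_and_mul_eq_univ (disjoint_iff.2 hKW₁)
      (by rw [← Subgroup.normal_mul, hKW₁', Subgroup.coe_top])
  have hcop : Nat.Coprime (Nat.card W₁) (Nat.card K) := by rwa [← hcompl.index_eq_card]
  have hidx : K.index = Nat.card W₁ := hcompl.symm.index_eq_card
  have hkw : ∀ g : L, ∃ k ∈ K, ∃ w ∈ W₁, g = k * w := fun g => by
    have : g ∈ (↑(K ⊔ W₁) : Set L) := by rw [hKW₁']; trivial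
    rw [Subgroup.normal_mul] at this
    obtain ⟨k, hk, w, hw, e⟩ := Set.mem_mul.1 this
    exact ⟨k, hk, w, hw, e.symm⟩
  have hstab : ∀ θ : K → ℂ, IsIrrCharacter K θ → ∀ g : L, ∀ k ∈ K, ∀ w ∈ W₁, g = k * w →
      CfsgLib.CharsMore.conjFn K g θ = θ → CfsgLib.CharsMore.conjFn K w θ = θ := by
    intro θ hθ g k hk w hw e hg
    have hmem : g ∈ CfsgLib.CharsMore.inertia K θ := hg
    have hkm : k ∈ CfsgLib.CharsMore.inertia K θ := CfsgLib.CharsMore.le_inertia K
      (CfsgLib.Chars.isClassFunction_of_isCharacter (CfsgLib.Chars.isCharacter_of_irr hθ)) hk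
    have : k⁻¹ * g ∈ CfsgLib.CharsMore.inertia K θ := Subgroup.mul_mem _ (Subgroup.inv_mem _ hkm) hmem
    rw [e, inv_mul_cancel_left] at this
    exact this
  refine ⟨fun θ hθ hx => ?_, ?_, fun θ hθ hfix => ?_⟩
  · obtain ⟨x, hxW, hx⟩ := hx
    have hT : ∀ g : L, g ∈ K ↔ ∀ h : K, θ ⟨g * h * g⁻¹, hK.conj_mem h h.2 g⟩ = θ h := by
      intro g
      constructor
      · intro hg h
        exact (CfsgLib.CharsMore.mem_inertia K).1 (CfsgLib.CharsMore.le_inertia K
          (CfsgLib.Chars.isClassFunction_of_isCharacter (CfsgLib.Chars.isCharacter_of_irr hθ)) hg) h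
      · intro hg
        obtain ⟨k, hk, w, hw, rfl⟩ := hkw g
        have hwf := hstab θ hθ _ k hk w hw rfl (funext hg)
        by_cases hw1 : w = 1
        · rw [hw1, mul_one]; exact hk
        · exact absurd (CfsgLib.CharsMore.fixed_all_of_fixed_one hcop hW₁c hW₂c hW₂K hC hθ hw hw1
            hwf x hxW) hx
    obtain ⟨C, hC1, hC2, hC3, -⟩ := Cfsg.Agent.S1491.result K K θ hθ hT
      (fun a ha b hb => K.mul_mem (K.mul_mem (K.mul_mem ha hb) (K.inv_mem ha)) (K.inv_mem hb))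
      (by rw [Subgroup.relIndex_self]; exact Nat.coprime_one_right _)
    rw [Subgroup.relIndex_self] at hC2
    obtain ⟨μ, rfl⟩ := Finset.card_eq_one.1 hC2
    rw [hC3, Finset.sum_singleton]
    exact hC1 μ (Finset.mem_singleton_self μ)
  · obtain ⟨x, hx⟩ := hW₁c.exists_generator
    have hx1 : (x : L) ≠ 1 := fun h => hW₁ ((Subgroup.eq_bot_iff_forall _).2 fun z hz => by
      obtain ⟨n, hn⟩ := Subgroup.mem_zpowers_iff.1 (hx ⟨z, hz⟩)
      rw [show z = (x : L) ^ n by rw [← SubgroupClass.coe_zpow, hn], h, one_zpow])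
    rw [← (CfsgLib.CharsMore.card_fixed_typeP hcop hW₂c hW₂K hC x.2 hx1).2]
    refine Nat.card_congr (Equiv.subtypeEquivRight fun θ => ⟨fun h => ?_, fun h z hz => ?_⟩)
    · funext k
      exact (congrArg (θ : K → ℂ) (Subtype.ext (by simp))).trans (congrFun (h x x.2) k)
    · refine CfsgLib.CharsMore.fixed_all_of_fixed_one hcop hW₁c hW₂c hW₂K hC θ.2 x.2 hx1 ?_ z hz
      funext k
      exact (congrArg (θ : K → ℂ) (Subtype.ext (by simp))).trans (congrFun h k)
  · have hT : ∀ g : L, g ∈ (⊤ : Subgroup L) ↔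
        ∀ h : K, θ ⟨g * h * g⁻¹, hK.conj_mem h h.2 g⟩ = θ h := by
      intro g
      simp only [Subgroup.mem_top, true_iff]
      obtain ⟨k, hk, w, hw, rfl⟩ := hkw g
      refine (CfsgLib.CharsMore.mem_inertia K).1 (Subgroup.mul_mem _ (CfsgLib.CharsMore.le_inertia K
        (CfsgLib.Chars.isClassFunction_of_isCharacter (CfsgLib.Chars.isCharacter_of_irr hθ)) hk) ?_)
      exact hfix w hw
    obtain ⟨C, hC1, hC2, hC3, -⟩ := Cfsg.Agent.S1491.result K ⊤ θ hθ hT
      (fun a _ b _ => by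
        haveI := hW₁c
        obtain ⟨k, hk, w, hw, rfl⟩ := hkw a
        obtain ⟨k', hk', w', hw', rfl⟩ := hkw b
        rw [← QuotientGroup.eq_one_iff]
        have hc : w * w' = w' * w :=
          congrArg Subtype.val (mul_comm' (⟨w, hw⟩ : W₁) ⟨w', hw'⟩)
        have hc' : (QuotientGroup.mk w : L ⧸ K) * QuotientGroup.mk w' =
            QuotientGroup.mk w' * QuotientGroup.mk w := by
          rw [← QuotientGroup.mk_mul, hc, QuotientGroup.mk_mul]
        simp only [QuotientGroup.mk_mul, QuotientGroup.mk_inv, (QuotientGroup.eq_one_iff k).2 hk,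
          (QuotientGroup.eq_one_iff k').2 hk', one_mul]
        rw [hc', mul_inv_cancel_right, mul_inv_cancel])
      (by rw [Subgroup.relIndex_top_right, hidx]; exact hcop.symm)
    rw [Subgroup.relIndex_top_right, hidx] at hC2
    exact ⟨C, hC2, hC1, hC3⟩

end Cfsg.Agent.S1513
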