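import Cfsg.Statements.S1536
import Cfsg.Agent.Lib.CharsMore.CoprimeClass
import Mathlib

set_option autoImplicit false
set_option linter.style.haveILetI false
open Cfsg

namespace Cfsg.Agent.S1536

/-- Let H be a normal subgroup of the finite group M whose order is coprime to its index. For x ∈ M: some non-principal irreducible character of H is unchanged under h ↦ θ(x h x⁻¹) if and only if some non-identity element of H commutes with x. -/
theorem result {M : Type*} [Group M] [Finite M] (H : Subgroup M) [hN : H.Normal] (hHall : Nat.Coprime (Nat.card H) H.index) (x : M) : (∃ θ : H → ℂ, Cfsg.IsIrrCharacter H θ ∧ θ ≠ (fun _ => 1) ∧ (fun h : H => θ ⟨x * h * x⁻¹, hN.conj_mem h h.2 x⟩) = θ) ↔ ∃ h ∈ H, h ≠ 1 ∧ x * h = h * x := by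
  classical
  constructor
  · rintro ⟨θ, hθ, hne, hfix⟩
    by_cases hp : x ^ H.index = 1
    · have hcop : Nat.Coprime (orderOf x) (Nat.card H) :=
        (hHall.symm).coprime_dvd_left (orderOf_dvd_of_pow_eq_one hp)
      obtain ⟨C, hC1, hC⟩ := (CfsgLib.CharsMore.exists_fixed_irr_iff_exists_fixed_class H x).1
        ⟨⟨θ, hθ⟩, fun e => hne (congrArg Subtype.val e), funext fun h => by
          have := congrFun hfix h
          simp only [Function.comp_apply]
          convert this using 2
          ext
          simp⟩
      obtain ⟨k, hk, hcomm⟩ := CfsgLib.CharsMore.exists_commute_in_fixed_class H x hcop hC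
      exact ⟨k, k.2, fun e => hC1 (by rw [← hk, show k = 1 from Subtype.ext e]), hcomm⟩
    · exact ⟨x ^ H.index, Subgroup.pow_index_mem H x, hp, ((Commute.refl x).pow_right _).eq⟩
  · rintro ⟨h, hh, hne, hcomm⟩
    obtain ⟨θ, hθ, hfix⟩ := (CfsgLib.CharsMore.exists_fixed_irr_iff_exists_fixed_class H x).2
      ⟨ConjClasses.mk ⟨h, hh⟩, fun e => hne (by
        have := ConjClasses.mk_eq_mk_iff_isConj.1 e
        rw [isConj_one_left] at this
        exact congrArg Subtype.val this), by
        show ConjClasses.mk _ = _
        congr 1
        ext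
        simp [hcomm]⟩
    refine ⟨θ, θ.2, fun e => hθ (Subtype.ext e), funext fun k => ?_⟩
    have := congrFun hfix k
    simp only [Function.comp_apply] at this
    convert this using 2
    ext
    simp

end Cfsg.Agent.S1536
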