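import Cfsg.Statements.S3282
import Cfsg.Agent.Lib.Small.BSW.NegStructure

set_option autoImplicit false
open Cfsg

namespace Cfsg.Agent.S3282

/-- The abstract form of the Brauer–Suzuki–Wall Theorem. Let G be a finite group with an involution t and an abelian subgroup K of H = C_G(t) containing t, such that H = K⟨s⟩ for an involution s ∉ K with C_K(s) = ⟨t⟩ and s inverting every element of K, K ∩ K^g = 1 for every g outside H, and all involutions of G conjugate. Then G has a subgroup Q, of order q say, with |G| = q(q+1)(q−1)/2, C_G(x) = Q for every non-identity x ∈ Q, N_G(Q) = QD for an abelian subgroup D of order (q−1)/2 meeting Q trivially, and for every nontrivial subgroup X of D, N_G(X) = N_G(D) = D⟨u⟩ for some involution u ∉ D inverting D. -/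
theorem result {G : Type*} [Group G] [Finite G] (t : G) (ht : orderOf t = 2)
    (K : Subgroup G) (hKab : IsMulCommutative ↥K) (hKH : K ≤ Subgroup.centralizer ({t} : Set G)) (htK : t ∈ K)
    (s : G) (hs : orderOf s = 2) (hsH : s ∈ Subgroup.centralizer ({t} : Set G)) (hsK : s ∉ K)
    (hH : K ⊔ Subgroup.zpowers s = Subgroup.centralizer ({t} : Set G)) (hCK : K ⊓ Subgroup.centralizer ({s} : Set G) = Subgroup.zpowers t)
    (hinv : ∀ x ∈ K, s * x * s⁻¹ = x⁻¹)
    (hTI : ∀ g : G, g ∉ Subgroup.centralizer ({t} : Set G) → K ⊓ K.map (MulAut.conj g).toMonoidHom = ⊥)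
    (hconj : ∀ x y : G, orderOf x = 2 → orderOf y = 2 → IsConj x y) :
    ∃ Q D : Subgroup G, 2 * Nat.card G = Nat.card ↥Q * (Nat.card ↥Q + 1) * (Nat.card ↥Q - 1) ∧
      (∀ x ∈ Q, x ≠ 1 → Subgroup.centralizer ({x} : Set G) = Q) ∧
      IsMulCommutative ↥D ∧ 2 * Nat.card ↥D + 1 = Nat.card ↥Q ∧ Q ⊓ D = ⊥ ∧
      Subgroup.normalizer (Q : Set G) = Q ⊔ D ∧
      ∀ X : Subgroup G, X ≤ D → X ≠ ⊥ →
        Subgroup.normalizer (X : Set G) = Subgroup.normalizer (D : Set G) ∧
        ∃ u : G, orderOf u = 2 ∧ u ∉ D ∧ (∀ d ∈ D, u * d * u⁻¹ = d⁻¹) ∧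
          Subgroup.normalizer (D : Set G) = D ⊔ Subgroup.zpowers u := by
  classical
  haveI : Fintype G := Fintype.ofFinite G
  set H := Subgroup.centralizer ({t} : Set G) with hHdef
  have hinv' : ∀ x ∈ K, s * x = x⁻¹ * s := fun x hx => mul_inv_eq_iff_eq_mul.1 (hinv x hx)
  obtain ⟨hs1, hs0⟩ := CfsgLib.CharApps.DihedralCount.invol_iff.1 hs
  have hs' : s⁻¹ = s := inv_eq_of_mul_eq_one_right hs1
  -- the elements of `H` outside `K`
  have hmem : ∀ v ∈ H, v ∈ K ∨ ∃ k ∈ K, v = k * s := by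
    intro v hv
    rw [← hH] at hv
    have hnorm : Subgroup.zpowers s ≤ Subgroup.normalizer (K : Set G) := by
      refine (Subgroup.zpowers_le).2 ?_
      rw [Subgroup.mem_normalizer_iff]
      intro y
      constructor
      · intro hy; rw [hinv y hy]; exact inv_mem hy
      · intro hy
        have e := hinv _ hy
        rw [show s * (s * y * s⁻¹) * s⁻¹ = (s * s) * y * (s * s)⁻¹ by group, hs1, one_mul,
          inv_one, mul_one] at e
        rw [e]; exact inv_mem hy
    rw [← SetLike.mem_coe, Subgroup.coe_mul_of_right_le_normalizer_left _ _ hnorm,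
      Set.mem_mul] at hv
    obtain ⟨k, hk, w, hw, rfl⟩ := hv
    obtain ⟨i, rfl⟩ := Subgroup.mem_zpowers_iff.1 hw
    rcases Int.even_or_odd i with ⟨j, rfl⟩ | ⟨j, rfl⟩
    · left
      rw [← two_mul, zpow_mul, zpow_two, hs1, one_zpow, mul_one]
      exact hk
    · right
      refine ⟨k, hk, ?_⟩
      rw [zpow_add, zpow_mul, zpow_two, hs1, one_zpow, one_mul, zpow_one]
  have houter : ∀ v ∈ H, v ∉ K → orderOf v = 2 := by
    intro v hv hvK
    obtain ⟨k, hk, rfl⟩ := (hmem v hv).resolve_left hvK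
    refine CfsgLib.CharApps.DihedralCount.invol_iff.2 ⟨?_, fun e => hvK (e ▸ K.one_mem)⟩
    rw [mul_assoc, ← mul_assoc s, hinv' k hk, mul_assoc, hs1, mul_one, mul_inv_cancel]
  have hunique : ∀ a ∈ K, orderOf a = 2 → a = t := by
    intro a ha ha2
    obtain ⟨ha1, ha0⟩ := CfsgLib.CharApps.DihedralCount.invol_iff.1 ha2
    have h1 : a ∈ K ⊓ Subgroup.centralizer ({s} : Set G) := ⟨ha, by
      show a ∈ Subgroup.centralizer ({s} : Set G)
      rw [Subgroup.mem_centralizer_singleton_iff, hinv' a ha,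
        inv_eq_of_mul_eq_one_right ha1]⟩
    rw [hCK] at h1
    obtain ⟨i, rfl⟩ := Subgroup.mem_zpowers_iff.1 h1
    obtain ⟨ht1, -⟩ := CfsgLib.CharApps.DihedralCount.invol_iff.1 ht
    rcases Int.even_or_odd i with ⟨j, rfl⟩ | ⟨j, rfl⟩
    · exfalso
      exact ha0 (by rw [← two_mul, zpow_mul, zpow_two, ht1, one_zpow])
    · rw [zpow_add, zpow_mul, zpow_two, ht1, one_zpow, one_mul, zpow_one]
  obtain ⟨m, hm⟩ : 2 ∣ Nat.card K := by
    rw [← ht, ← Subgroup.orderOf_mk t htK]; exact orderOf_dvd_natCard _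
  have hH4 : Nat.card H = 4 * m := by
    have hidx : (K.subgroupOf H).index = 2 := by
      rw [Subgroup.index_eq_two_iff]
      refine ⟨⟨s, hsH⟩, fun ⟨b, hb⟩ => ?_⟩
      simp only [Subgroup.mem_subgroupOf, Subgroup.coe_mul]
      rcases hmem b hb with hbK | ⟨k, hk, rfl⟩
      · exact Or.inr ⟨hbK, fun e => hsK (by simpa using K.mul_mem (K.inv_mem hbK) e)⟩
      · refine Or.inl ⟨?_, fun e => hsK (by simpa using K.mul_mem (K.inv_mem hk) e)⟩
        rw [mul_assoc, hs1, mul_one]; exact hk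
    have h1 := (K.subgroupOf H).card_mul_index
    rw [Nat.card_congr (Subgroup.subgroupOfEquivOfLe hKH).toEquiv, hm, hidx] at h1
    rw [← h1]; ring
  have h : CfsgLib.Small.BSW.Cfg K H t m :=
    { one_le := by
        have := Nat.card_pos (α := K)
        omega
      card_C := hm
      card_N := hH4
      le := hKH
      comm := fun a ha b hb => congrArg Subtype.val (hKab.is_comm.comm ⟨a, ha⟩ ⟨b, hb⟩)
      z_mem := htK
      z_ord := ht
      z_unique := hunique
      outer := houter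
      cent_z := rfl
      ti := fun g c hc hc1 hgc => by
        by_contra hg
        have h1 : g * c * g⁻¹ ∈ K ⊓ K.map (MulAut.conj g).toMonoidHom := ⟨hgc, ⟨c, hc, rfl⟩⟩
        rw [hTI g hg, Subgroup.mem_bot] at h1
        exact hc1 (conj_eq_one_iff.1 h1)
      fused := fun u hu => hconj t u ht hu }
  exact h.conclusion

end Cfsg.Agent.S3282
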