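import Cfsg.Statements.S3922
import Cfsg.Agent.Lib.FgsD.ThreeSizes.DivSingle
import Cfsg.Agent.Lib.FgsD.ThreeSizes.NonDivHard
-- import your own Cfsg.Agent.* helpers here

set_option autoImplicit false
open Cfsg

namespace Cfsg.Agent.S3922

/-- A finite group whose conjugacy classes have exactly three distinct sizes (1 and two further values) is solvable. -/
theorem result {G : Type*} [Group G] [Finite G] (n₁ n₂ : ℕ) (h12 : n₂ < n₁) (h2 : 1 < n₂)
    (h : ∀ x : G, (Subgroup.centralizer ({x} : Set G)).index = 1 ∨ (Subgroup.centralizer ({x} : Set G)).index = n₂ ∨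
      (Subgroup.centralizer ({x} : Set G)).index = n₁)
    (h₁ : ∃ x : G, (Subgroup.centralizer ({x} : Set G)).index = n₁) (h₂ : ∃ x : G, (Subgroup.centralizer ({x} : Set G)).index = n₂) :
    Group.IsSolvable G := by
  classical
  have hh : ∀ g : G, g ∉ Subgroup.center G →
      CfsgLib.CharApps.ClassSizes.idx g = n₂ ∨ CfsgLib.CharApps.ClassSizes.idx g = n₁ := fun g hg =>
    (h g).resolve_left fun h1 => hg (CfsgLib.CharApps.ClassSizes.idx_eq_one_iff.1 h1)
  have hnc : ∀ {n : ℕ}, 1 < n → ∀ x : G, CfsgLib.CharApps.ClassSizes.idx x = n →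
      x ∉ Subgroup.center G := fun hn x hx hz => by
    rw [CfsgLib.CharApps.ClassSizes.idx_eq_one_iff.2 hz] at hx
    omega
  by_cases hd : n₂ ∣ n₁
  · exact CfsgLib.FgsD.ThreeSizes.isSolvable_of_div ⟨h2, h12, hd, hh, h₂, h₁⟩
  · obtain ⟨x₁, hx₁⟩ := h₁
    obtain ⟨x₂, hx₂⟩ := h₂
    exact CfsgLib.FgsD.ThreeSizes.NonDiv.isSolvable
      (a := n₂) (b := n₁) ⟨hd, fun hd' => absurd (Nat.le_of_dvd (by omega) hd') (by omega), hh,
        ⟨x₂, hx₂, hnc h2 x₂ hx₂⟩, ⟨x₁, hx₁, hnc (h2.trans h12) x₁ hx₁⟩⟩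

end Cfsg.Agent.S3922
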