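import Cfsg.Statements.S0072
import Cfsg.Agent.Lib.Transfer.Alperin

set_option autoImplicit false
open Cfsg
open CfsgLib.Transfer Subgroup

namespace Cfsg.Agent.S0072

/-- A finite group has a normal p-complement if and only if every p-local subgroup (normalizer of a nontrivial p-subgroup) has one. -/
theorem result {G : Type*} [Group G] [Finite G] (p : ℕ) [Fact p.Prime] : Cfsg.HasNormalPComplement p G ↔ ∀ Q : Subgroup G, IsPGroup p Q → Q ≠ ⊥ → Cfsg.HasNormalPComplement p (Subgroup.normalizer (Q : Set G)) := by
  refine ⟨fun h Q _ _ => hasNormalPComplement_subgroup h _, fun h => ?_⟩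
  obtain ⟨P⟩ : Nonempty (Sylow p G) := inferInstance
  rw [hasNormalPComplement_iff_forall_centralizing P]
  intro Q hQP g hg hcop
  by_cases hQ : Q = ⊥
  · subst hQ
    exact fun q hq => by rw [show q = 1 from mem_bot.mp hq, one_mul, mul_one]
  have hN := h Q (P.2.to_le hQP) hQ
  let N : Subgroup G := normalizer (Q : Set G)
  have hQN : IsPGroup p (Q.subgroupOf N) := (P.2.to_le hQP).comap_subtype
  obtain ⟨S, hS⟩ := hQN.exists_le_sylow
  have hres := (hasNormalPComplement_iff_forall_centralizing S).mp hN (Q.subgroupOf N) hS ⟨g, hg⟩ (by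
    rw [mem_set_normalizer_iff]
    exact fun n => mem_set_normalizer_iff.mp hg (n : G)) (by
    rwa [← orderOf_injective N.subtype N.subtype_injective])
  intro q hq
  exact congrArg Subtype.val (hres ⟨q, le_normalizer hq⟩ (mem_subgroupOf.mpr hq))

end Cfsg.Agent.S0072
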