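import Cfsg.Statements.S0608
import Cfsg.Agent.Lib.PLocal.Frattini

set_option autoImplicit false
open Cfsg

namespace Cfsg.Agent.S0608

/-- With trivial p'-core, Thompson factorizability is equivalent to J(G) centralizing the subgroup generated by all Ω₁(Z(S)), S Sylow. -/
theorem result {G : Type*} [Group G] [Finite G] {p : ℕ} [Fact p.Prime] (hO : Cfsg.pPrimeCore p G = ⊥) : Cfsg.IsThompsonFactorizable p G ↔ Cfsg.thompsonSubgroup p G ≤ Subgroup.centralizer ((⨆ S : Sylow p G, Cfsg.omegaOne p (((S : Subgroup G)) ⊓ Subgroup.centralizer ((S : Subgroup G) : Set G)) : Subgroup G) : Set G) := by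
  set V := ⨆ S : Sylow p G, CfsgLib.PLocal.omegaCenterSylow S with hV
  change _ ↔ Cfsg.thompsonSubgroup p G ≤ Subgroup.centralizer (V : Set G)
  haveI : V.Normal := CfsgLib.PLocal.iSup_omegaCenterSylow_normal
  constructor
  · intro hf
    rw [CfsgLib.PLocal.thompsonSubgroup_eq_iSup]
    refine iSup_le fun S => Subgroup.le_centralizer_iff.1 (iSup_le fun T => ?_)
    obtain ⟨g, rfl⟩ := MulAction.exists_smul_eq G S T
    obtain ⟨x, hx, c, hc, n, hn, he⟩ := hf S g⁻¹
    rw [hO, Subgroup.mem_bot] at hx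
    subst hx
    rw [one_mul] at he
    have hg : g = n⁻¹ * c⁻¹ := by rw [← inv_inv g, he, mul_inv_rev]
    rw [← CfsgLib.PLocal.map_omegaCenterSylow]
    rintro _ ⟨z, hz, rfl⟩
    refine Subgroup.mem_centralizer_iff.2 fun a ha => ?_
    have ha' : n * a * n⁻¹ ∈ Cfsg.thompsonSubgroupOf p (S : Subgroup G) :=
      (Subgroup.mem_normalizer_iff.1 hn a).1 ha
    have e1 : (MulAut.conj g) z = n⁻¹ * z * n := by
      rw [MulAut.conj_apply, hg]
      have hcz := Subgroup.mem_centralizer_iff.1 hc z hz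
      calc n⁻¹ * c⁻¹ * z * (n⁻¹ * c⁻¹)⁻¹ = n⁻¹ * (c⁻¹ * (z * c)) * n := by group
        _ = n⁻¹ * (c⁻¹ * (c * z)) * n := by rw [hcz]
        _ = n⁻¹ * z * n := by group
    show a * (MulAut.conj g) z = (MulAut.conj g) z * a
    rw [e1]
    have h2 := Subgroup.mem_centralizer_iff.1
      (CfsgLib.PLocal.thompsonSubgroupOf_le_centralizer S ha') z hz
    calc a * (n⁻¹ * z * n) = n⁻¹ * (n * a * n⁻¹ * z) * n := by group
      _ = n⁻¹ * (z * (n * a * n⁻¹)) * n := by rw [h2]
      _ = _ := by group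
  · intro hJ S g
    refine ⟨1, one_mem _, ?_⟩
    obtain ⟨c, hc, n, hn, he⟩ := CfsgLib.PLocal.exists_mul_normalizer S (Subgroup.centralizer (V : Set G)) g
    refine ⟨c, Subgroup.centralizer_le (le_iSup (fun T : Sylow p G => CfsgLib.PLocal.omegaCenterSylow T) S) hc, n, ?_, by rw [one_mul, he]⟩
    rw [← CfsgLib.PLocal.thompsonSubgroupOf_eq_of_le (P := (S : Subgroup G))
      (U := (S : Subgroup G) ⊓ Subgroup.centralizer (V : Set G))
      (le_inf (CfsgLib.PLocal.thompsonSubgroupOf_le p _)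
        ((CfsgLib.PLocal.thompsonSubgroupOf_sylow_le S).trans hJ)) inf_le_left]
    haveI := CfsgLib.PLocal.thompsonSubgroup_characteristic p
      ↥((S : Subgroup G) ⊓ Subgroup.centralizer (V : Set G))
    exact CfsgLib.Base.normalizer_le_normalizer_map_subtype _ _ hn

end Cfsg.Agent.S0608
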