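import Cfsg.Statements.S4142
import Cfsg.Agent.Lib.FgsB.Basic

set_option autoImplicit false
open Cfsg

namespace Cfsg.Agent.S4142

/-- Let G be a finite group and N a normal subgroup. Then the conjugacy class of every element g outside N is a union of cosets of N (gn is conjugate to g for all n ∈ N) if and only if for every g outside N the centralizer of g in G has the same order as the centralizer of gN in G/N. -/
theorem result {G : Type*} [Group G] [Finite G] (N : Subgroup G) [N.Normal] :
    (∀ g : G, g ∉ N → ∀ n ∈ N, ∃ x : G, x * g * x⁻¹ = g * n) ↔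
      ∀ g : G, g ∉ N → Nat.card (Subgroup.centralizer ({g} : Set G)) =
        Nat.card (Subgroup.centralizer ({(QuotientGroup.mk g : G ⧸ N)} : Set (G ⧸ N))) := by
  classical
  have hmap : ∀ g h : G, IsConj g h → IsConj (g : G ⧸ N) (h : G ⧸ N) := fun g h hh =>
    MonoidHom.map_isConj (QuotientGroup.mk' N) hh
  have hcount : ∀ g : G, Nat.card {h : G // IsConj (g : G ⧸ N) (h : G ⧸ N)} =
      Nat.card N * Nat.card {t : G ⧸ N // IsConj (g : G ⧸ N) t} := by
    intro g
    exact QuotientGroup.card_preimage_mk N {t : G ⧸ N | IsConj (g : G ⧸ N) t}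
  have key : ∀ g : G, (Nat.card (Subgroup.centralizer ({g} : Set G)) =
        Nat.card (Subgroup.centralizer ({(QuotientGroup.mk g : G ⧸ N)} : Set (G ⧸ N)))) ↔
      ∀ h : G, IsConj (g : G ⧸ N) (h : G ⧸ N) → IsConj g h := by
    intro g
    have e1 := (Subgroup.centralizer ({g} : Set G)).card_mul_index
    have e2 := (Subgroup.centralizer ({(g : G ⧸ N)} : Set (G ⧸ N))).card_mul_index
    rw [← CfsgLib.FgsB.card_isConj_eq_index] at e1 e2
    have e3 : Nat.card G = Nat.card (G ⧸ N) * Nat.card N := Subgroup.card_eq_card_quotient_mul_card_subgroup N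
    let i : {h : G // IsConj g h} → {h : G // IsConj (g : G ⧸ N) (h : G ⧸ N)} :=
      fun h => ⟨h.1, hmap g h.1 h.2⟩
    have hinj : Function.Injective i := fun a b hab => Subtype.ext (congrArg (fun w => w.1) hab :)
    constructor
    · intro hC h hh
      have hcard : Nat.card {h : G // IsConj g h} =
          Nat.card {h : G // IsConj (g : G ⧸ N) (h : G ⧸ N)} := by
        rw [hcount]
        apply Nat.eq_of_mul_eq_mul_left (Nat.card_pos (α := Subgroup.centralizer ({g} : Set G)))
        rw [e1, e3, ← e2, hC]; ring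
      obtain ⟨⟨u, hu⟩, hu'⟩ := ((Nat.bijective_iff_injective_and_card i).mpr ⟨hinj, hcard⟩).2 ⟨h, hh⟩
      have : u = h := congrArg Subtype.val hu'
      exact this ▸ hu
    · intro hall
      have hcard : Nat.card {h : G // IsConj g h} =
          Nat.card {h : G // IsConj (g : G ⧸ N) (h : G ⧸ N)} :=
        Nat.card_eq_of_bijective i ⟨hinj, fun h => ⟨⟨h.1, hall h.1 h.2⟩, rfl⟩⟩
      have : Nonempty {h : G // IsConj (g : G ⧸ N) (h : G ⧸ N)} := ⟨⟨g, IsConj.refl _⟩⟩
      apply Nat.eq_of_mul_eq_mul_right (Nat.card_pos (α := {h : G // IsConj (g : G ⧸ N) (h : G ⧸ N)}))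
      calc Nat.card (Subgroup.centralizer ({g} : Set G)) *
            Nat.card {h : G // IsConj (g : G ⧸ N) (h : G ⧸ N)} = Nat.card G := by rw [← hcard]; exact e1
      _ = _ := by rw [hcount, e3, ← e2]; ring
  constructor
  · intro hc g hg
    rw [key]
    intro h hh
    obtain ⟨t, ht⟩ := isConj_iff.mp hh
    obtain ⟨c, rfl⟩ := QuotientGroup.mk_surjective t
    rw [← QuotientGroup.mk_mul, ← QuotientGroup.mk_inv, ← QuotientGroup.mk_mul, QuotientGroup.eq] at ht
    have hm : g⁻¹ * (c⁻¹ * h * c) ∈ N := by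
      have h5 := Subgroup.Normal.conj_mem (inferInstance : N.Normal) _ ht c⁻¹
      simpa [mul_assoc] using h5
    obtain ⟨x, hx⟩ := hc g hg _ hm
    rw [mul_inv_cancel_left] at hx
    exact isConj_iff.mpr ⟨c * x, by
      calc c * x * g * (c * x)⁻¹ = c * (x * g * x⁻¹) * c⁻¹ := by group
      _ = h := by rw [hx]; group⟩
  · intro hC g hg n hn
    refine isConj_iff.mp ((key g).mp (hC g hg) (g * n) ?_)
    rw [QuotientGroup.mk_mul_of_mem g hn]

end Cfsg.Agent.S4142
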