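import Cfsg.Statements.S2579
import Cfsg.Agent.Lib.KnownB.Transvection
-- import your own Cfsg.Agent.* helpers here

set_option autoImplicit false
open Cfsg

namespace Cfsg.Agent.S2579

/-- In SL_n(F) with n ≥ 3, over a finite field F, any two transvections (matrices t with t − 1 of rank one and square zero) are conjugate by an element of SL_n(F). -/
theorem result {F : Type*} [Field F] [Finite F] {n : ℕ} (hn : 3 ≤ n) (s t : Matrix.SpecialLinearGroup (Fin n) F) (hs : Cfsg.IsTransvection (s : Matrix (Fin n) (Fin n) F)) (ht : Cfsg.IsTransvection (t : Matrix (Fin n) (Fin n) F)) : IsConj s t := by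
  obtain ⟨k, rfl⟩ : ∃ k, n = k + 2 := ⟨n - 2, by omega⟩
  obtain ⟨Φs, hΦs⟩ := CfsgLib.KnownB.Transvection.exists_model_matrix hs.1 hs.2
  obtain ⟨Φt, hΦt⟩ := CfsgLib.KnownB.Transvection.exists_model_matrix ht.1 ht.2
  set P : (Fin (k + 2) → F) ≃ₗ[F] (Fin (k + 2) → F) := Φs.symm.trans Φt
  obtain ⟨T, hT, hTd⟩ := CfsgLib.KnownB.Transvection.exists_commute_det (F := F) (k := k) (by omega) (LinearEquiv.det P)⁻¹
  set g : (Fin (k + 2) → F) ≃ₗ[F] (Fin (k + 2) → F) := ((Φs.symm.trans T).trans Φs).trans P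
  have hg : LinearMap.det (g : (Fin (k + 2) → F) →ₗ[F] (Fin (k + 2) → F)) = 1 := by
    rw [← LinearEquiv.coe_det, LinearEquiv.det_trans, LinearEquiv.det_conj, hTd]
    simp
  let M : Matrix.SpecialLinearGroup (Fin (k + 2)) F :=
    ⟨LinearMap.toMatrix' (g : (Fin (k + 2) → F) →ₗ[F] (Fin (k + 2) → F)), by rw [LinearMap.det_toMatrix', hg]⟩
  have hM : ∀ x, (M : Matrix (Fin (k + 2)) (Fin (k + 2)) F).mulVec x = g x := fun x => by
    change (LinearMap.toMatrix' (g : (Fin (k + 2) → F) →ₗ[F] (Fin (k + 2) → F))).mulVec x = g x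
    rw [← Matrix.toLin'_apply, Matrix.toLin'_toMatrix']
    rfl
  have key : (M : Matrix (Fin (k + 2)) (Fin (k + 2)) F) * ((s : Matrix (Fin (k + 2)) (Fin (k + 2)) F) - 1) =
      ((t : Matrix (Fin (k + 2)) (Fin (k + 2)) F) - 1) * M := by
    refine Matrix.toLin'.injective (LinearMap.ext fun x => ?_)
    obtain ⟨y, rfl⟩ := Φs.surjective x
    rw [Matrix.toLin'_apply, Matrix.toLin'_apply, ← Matrix.mulVec_mulVec, ← Matrix.mulVec_mulVec, hΦs, hM, hM]
    simp only [g, P, LinearEquiv.trans_apply, LinearEquiv.symm_apply_apply]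
    rw [hT, hΦt]
  refine isConj_iff.2 ⟨M, mul_inv_eq_iff_eq_mul.2 (Subtype.ext ?_)⟩
  rw [mul_sub, sub_mul, mul_one, one_mul, sub_left_inj] at key
  exact key

end Cfsg.Agent.S2579
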