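import Cfsg.Statements.S0547
import Cfsg.Agent.Lib.SolvStruct.Primitive

set_option autoImplicit false
open Cfsg

namespace Cfsg.Agent.S0547

/-- Let a finite solvable group G act faithfully and primitively on a set, and let M be a minimal normal subgroup of G. Then M is transitive with trivial point stabilizers, and the number of points equals the order of M, which is a prime power p ^ d with d ≥ 1. -/
theorem result {G : Type*} [Group G] [Finite G] [Group.IsSolvable G] {Ω : Type*} [Nonempty Ω] [MulAction G Ω] [FaithfulSMul G Ω] (hprim : MulAction.IsPreprimitive G Ω) (M : Subgroup G) [M.Normal] (hM : M ≠ ⊥) (hmin : ∀ K : Subgroup G, K.Normal → K ≤ M → K = ⊥ ∨ K = M) : MulAction.IsPretransitive M Ω ∧ (∀ ω : Ω, MulAction.stabilizer M ω = ⊥) ∧ ∃ p d : ℕ, p.Prime ∧ 0 < d ∧ Nat.card Ω = p ^ d ∧ Nat.card M = p ^ d := by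
  have hmn : CfsgLib.Base.IsMinimalNormal M := ⟨‹M.Normal›, hM, fun K hK hle => hmin K hK hle⟩
  obtain ⟨p, hp, hab, -, hpg⟩ := hmn.exists_prime inferInstance
  haveI := hab
  haveI := Fact.mk hp
  have ht := CfsgLib.SolvStruct.isPretransitive_of_normal_of_ne_bot hprim M hM
  have hst : ∀ ω : Ω, MulAction.stabilizer M ω = ⊥ := by
    intro ω
    rw [Subgroup.eq_bot_iff_forall]
    rintro ⟨m, hm⟩ hs
    exact Subtype.ext (CfsgLib.SolvStruct.eq_one_of_smul_eq_of_abelian M ht hm hs)
  obtain ⟨d, hd⟩ := IsPGroup.iff_card.1 hpg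
  haveI := ht
  obtain ⟨ω⟩ := ‹Nonempty Ω›
  have hcard : Nat.card Ω = Nat.card M := by
    rw [← MulAction.index_stabilizer_of_transitive M ω, hst ω, Subgroup.index_bot]
  refine ⟨ht, hst, p, d, hp, ?_, hcard.trans hd, hd⟩
  rcases Nat.eq_zero_or_pos d with h0 | h0
  · rw [h0, pow_zero] at hd
    exact absurd (M.eq_bot_of_card_eq hd) hM
  · exact h0

end Cfsg.Agent.S0547
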