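import Cfsg.Statements.S0132
import Cfsg.Agent.Lib.Transfer.Control

set_option autoImplicit false
open Cfsg
open Subgroup CfsgLib.Transfer

namespace Cfsg.Agent.S0132

/-- A minimal non-p-nilpotent finite group is a minimal non-nilpotent group with a normal Sylow p-subgroup. -/
theorem result {G : Type*} [Group G] [Finite G] {p : ℕ} [Fact p.Prime] (h1 : ¬ Cfsg.HasNormalPComplement p G) (h2 : ∀ H : Subgroup G, H ≠ ⊤ → Cfsg.HasNormalPComplement p H) : (∀ H : Subgroup G, H ≠ ⊤ → Group.IsNilpotent H) ∧ ¬ Group.IsNilpotent G ∧ ∀ P : Sylow p G, (P : Subgroup G).Normal := by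
  obtain ⟨P₀⟩ : Nonempty (Sylow p G) := inferInstance
  obtain ⟨Q, hQP, g, hg, hcop, hgC⟩ : ∃ Q : Subgroup G, Q ≤ (P₀ : Subgroup G) ∧ ∃ g ∈ normalizer (Q : Set G),
      Nat.Coprime (orderOf g) p ∧ g ∉ centralizer (Q : Set G) := by
    by_contra hno
    push Not at hno
    exact h1 ((hasNormalPComplement_iff_forall_centralizing P₀).mpr hno)
  -- a prime-power part of `g` still fails to centralise `Q`
  have hne : Q.normalizerMonoidHom ⟨g, hg⟩ ≠ 1 := by
    intro he
    have : (⟨g, hg⟩ : normalizer (Q : Set G)) ∈ Q.normalizerMonoidHom.ker := he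
    rw [normalizerMonoidHom_ker, mem_subgroupOf] at this
    exact hgC this
  obtain ⟨q, hq, hqd⟩ := Nat.exists_prime_and_dvd (n := orderOf (Q.normalizerMonoidHom ⟨g, hg⟩))
    (by rwa [Ne, orderOf_eq_one_iff])
  have : Fact q.Prime := ⟨hq⟩
  obtain ⟨k, m, hm, hkm⟩ := Nat.exists_eq_pow_mul_and_not_dvd (orderOf_pos g).ne' q hq.ne_one
  have hqg : q ∣ orderOf g := by
    have h := hqd.trans (orderOf_map_dvd _ (⟨g, hg⟩ : normalizer (Q : Set G)))
    rwa [orderOf_mk] at h
  have hqp : q ≠ p := fun e => coprime_orderOf_iff.mp hcop (e ▸ hqg)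
  let b : G := g ^ m
  have hb : b ∈ normalizer (Q : Set G) := pow_mem hg m
  have hbq : b ^ q ^ k = 1 := by
    rw [← pow_mul, mul_comm, ← hkm, pow_orderOf_eq_one]
  have hbC : b ∉ centralizer (Q : Set G) := by
    intro hbc
    have h : (⟨b, hb⟩ : normalizer (Q : Set G)) ∈ Q.normalizerMonoidHom.ker := by
      rw [normalizerMonoidHom_ker, mem_subgroupOf]; exact hbc
    have h' : Q.normalizerMonoidHom ⟨g, hg⟩ ^ m = 1 := by
      rw [← map_pow]
      exact h
    exact hm (hqd.trans (orderOf_dvd_of_pow_eq_one h'))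
  have hbcop : Nat.Coprime (orderOf b) p :=
    Nat.Coprime.coprime_dvd_left (orderOf_dvd_of_pow_eq_one hbq)
      (Nat.Coprime.pow_left k ((Nat.coprime_primes hq (Fact.out : p.Prime)).mpr hqp))
  have htop : Q ⊔ zpowers b = ⊤ := by
    by_contra hK
    apply hbC
    let K : Subgroup G := Q ⊔ zpowers b
    obtain ⟨S, hS⟩ := ((P₀.2.to_le hQP).comap_subtype (K := K)).exists_le_sylow
    have hbK : b ∈ K := mem_sup_right (mem_zpowers b)
    have hres := (hasNormalPComplement_iff_forall_centralizing S).mp (h2 K hK) (Q.subgroupOf K) hS ⟨b, hbK⟩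
      (mem_set_normalizer_iff.mpr fun n => mem_set_normalizer_iff.mp hb (n : G))
      (by rwa [orderOf_mk])
    exact fun x hx => congrArg Subtype.val (hres ⟨x, mem_sup_left hx⟩ (mem_subgroupOf.mpr hx))
  have hQn : Q.Normal := normalizer_eq_top_iff.mp
    (top_le_iff.mp (htop ▸ sup_le le_normalizer (zpowers_le.mpr hb)))
  have hidx : Q.index ∣ q ^ k := by
    rw [← relIndex_top_right, ← htop, sup_comm, relIndex_sup_right]
    refine (relIndex_dvd_card Q (zpowers b)).trans ?_
    rw [Nat.card_zpowers]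
    exact orderOf_dvd_of_pow_eq_one hbq
  have hpidx : ¬ p ∣ Q.index := fun h => hqp
    ((Nat.prime_dvd_prime_iff_eq (Fact.out : p.Prime) hq).mp ((Fact.out : p.Prime).dvd_of_dvd_pow (h.trans hidx))).symm
  let S₀ : Sylow p G := (P₀.2.to_le hQP).toSylow hpidx
  have hall : ∀ P : Sylow p G, (P : Subgroup G).Normal := fun P => by
    have : Subsingleton (Sylow p G) := by
      have := Sylow.unique_of_normal S₀ hQn
      infer_instance
    rw [Subsingleton.elim P S₀]
    exact hQn
  refine ⟨fun H hH => ?_, fun hnil => h1 hasNormalPComplement_of_isNilpotent, hall⟩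
  refine ((Group.isNilpotent_of_finite_tfae (G := H)).out 0 3).mpr fun r hr R => ?_
  have hres := pResidual_normal (G := H) (p := p)
  by_cases hrp : r = p
  · subst hrp
    have hQH : (Q.subgroupOf H).Normal := hQn.subgroupOf H
    let T : Sylow r H := ((P₀.2.to_le hQP).comap_subtype (K := H)).toSylow
      (fun h => hpidx (h.trans (relIndex_dvd_index_of_normal Q H)))
    have := Sylow.unique_of_normal T hQH
    rw [Subsingleton.elim R T]
    exact hQH
  obtain ⟨T⟩ : Nonempty (Sylow p H) := inferInstance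
  have hcardres : Nat.card (Cfsg.pResidual p H) ∣ q ^ k := by
    have hQH : (Q.subgroupOf H).Normal := hQn.subgroupOf H
    let T : Sylow p H := ((P₀.2.to_le hQP).comap_subtype (K := H)).toSylow
      (fun h => hpidx (h.trans (relIndex_dvd_index_of_normal Q H)))
    rw [← (isComplement'_pResidual (h2 H hH) T).index_eq_card]
    exact (relIndex_dvd_index_of_normal Q H).trans hidx
  have hresq : IsPGroup q (Cfsg.pResidual p H) := IsPGroup.of_card_dvd_pow hcardres
  have hRle : (R : Subgroup H) ≤ Cfsg.pResidual p H := by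
    intro x hx
    refine mem_pResidual_of_coprime ?_
    have : Fact r.Prime := hr
    obtain ⟨j, hj⟩ := IsPGroup.iff_orderOf.mp R.2 ⟨x, hx⟩
    rw [orderOf_mk] at hj
    rw [hj]
    exact Nat.Coprime.pow_left j ((Nat.coprime_primes hr.out (Fact.out : p.Prime)).mpr hrp)
  by_cases hrq : r = q
  · subst hrq
    rw [← R.is_maximal' hresq hRle]
    exact hres
  · have : Fact r.Prime := hr
    have hbot : (R : Subgroup H) = ⊥ := by
      rw [← disjoint_self]
      exact IsPGroup.disjoint_of_ne r q hrq _ _ R.2 (hresq.to_le hRle)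
    rw [hbot]
    infer_instance

end Cfsg.Agent.S0132
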