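import Cfsg.Statements.S1234
import Cfsg.Agent.Lib.PGroups.Harada.Final

set_option autoImplicit false
open Cfsg

namespace Cfsg.Agent.S1234

/-- Let S be a finite 2-group and Q ≤ S a subgroup of order 32 having an elementary abelian subgroup E of order 16 and an involution s ∉ E whose centralizer in E has order 4 (so Q ≅ (Z₂ × Z₂) ≀ Z₂). If C_S(Z(Q)) = Q, then every section of S has 2-rank at most 4. -/
theorem result {S : Type*} [Group S] [Finite S] (hS : IsPGroup 2 S) (Q E : Subgroup S) (hEQ : E ≤ Q) (hE : Cfsg.IsElementaryAbelian 2 E) (hE16 : Nat.card E = 16) (hQ32 : Nat.card Q = 32) (s : S) (hsQ : s ∈ Q) (hsE : s ∉ E) (hs : orderOf s = 2) (hfix : Nat.card ↥(E ⊓ Subgroup.centralizer ({s} : Set S)) = 4) (hC : Subgroup.centralizer (((Subgroup.center Q).map Q.subtype : Subgroup S) : Set S) = Q) : Cfsg.SectionalPRankLE 2 4 S := by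
  haveI : Fact (Nat.Prime 2) := ⟨Nat.prime_two⟩
  set W := E ⊓ Subgroup.centralizer ({s} : Set S) with hW
  have hs2 : s ^ 2 = 1 := by rw [← hs]; exact pow_orderOf_eq_one s
  have hEcomm : ∀ x ∈ E, ∀ y ∈ E, Commute x y := fun x hx y hy =>
    congrArg Subtype.val (hE.1.is_comm.comm ⟨x, hx⟩ ⟨y, hy⟩)
  have hidx : (E.subgroupOf Q).index = 2 := by
    have h1 := (E.subgroupOf Q).card_mul_index
    rw [Nat.card_congr (Subgroup.subgroupOfEquivOfLe hEQ).toEquiv, hE16, hQ32] at h1
    omega
  have hdec : ∀ q ∈ Q, q ∈ E ∨ q * s ∈ E := by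
    intro q hq
    by_cases hqE : q ∈ E
    · exact Or.inl hqE
    · refine Or.inr ?_
      have h1 : (⟨q, hq⟩ * ⟨s, hsQ⟩ : Q) ∈ E.subgroupOf Q := by
        rw [Subgroup.mul_mem_iff_of_index_two hidx, Subgroup.mem_subgroupOf, Subgroup.mem_subgroupOf]
        exact iff_of_false hqE hsE
      exact h1
  have hss : s * s = 1 := by rw [← pow_two, hs2]
  set A := W ⊔ Subgroup.zpowers s with hA
  have hWc : ∀ w ∈ W, Commute w s := fun w hw => Subgroup.mem_centralizer_singleton_iff.1 hw.2
  have hAmem : ∀ x ∈ A, x ∈ W ∨ x * s ∈ W := by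
    intro x hx
    have hn : Subgroup.zpowers s ≤ Subgroup.normalizer (W : Set S) :=
      Subgroup.zpowers_le.2 (Subgroup.centralizer_le_normalizer _
        (Subgroup.mem_centralizer_iff.2 fun w hw => hWc w hw))
    rw [← SetLike.mem_coe, hA, sup_comm, Subgroup.coe_mul_of_left_le_normalizer_right _ _ hn,
      Set.mem_mul] at hx
    obtain ⟨y, hy, w, hw, rfl⟩ := hx
    obtain ⟨k, rfl⟩ := Subgroup.mem_zpowers_iff.1 hy
    rcases Int.even_or_odd k with ⟨j, rfl⟩ | ⟨j, rfl⟩
    · left
      rw [← two_mul, zpow_mul, zpow_ofNat, hs2, one_zpow, one_mul]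
      exact hw
    · right
      rw [zpow_add, zpow_mul, zpow_ofNat, hs2, one_zpow, one_mul, zpow_one, mul_assoc,
        (hWc w hw).eq, ← mul_assoc, hss, one_mul]
      exact hw
  -- the centre of `Q` lies in `A`
  have hZ : ((Subgroup.center Q).map Q.subtype : Subgroup S) ≤ A := by
    rintro _ ⟨⟨z, hzQ⟩, hz, rfl⟩
    have hzq : ∀ q ∈ Q, Commute q z := fun q hq =>
      congrArg Subtype.val (Subgroup.mem_center_iff.1 hz ⟨q, hq⟩)
    refine Subgroup.mem_sup_left ⟨?_, Subgroup.mem_centralizer_singleton_iff.2 (hzq s hsQ).symm.eq⟩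
    refine (hdec z hzQ).resolve_right fun hzs => ?_
    -- otherwise `s` would centralize `E`
    have hle : E ≤ W := fun e he => by
      refine ⟨he, Subgroup.mem_centralizer_singleton_iff.2 ?_⟩
      have h1 : Commute e (z⁻¹ * (z * s)) :=
        (hzq e (hEQ he)).inv_right.mul_right (hEcomm e he _ hzs)
      rw [inv_mul_cancel_left] at h1
      exact h1.eq
    have := Subgroup.card_le_of_le hle
    omega
  let T : CfsgLib.PGroups.Harada.SelfCent S := ⟨A, fun x hx y hy => ?_, fun x hx => ?_, ?_, fun x hx => ?_⟩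
  · exact CfsgLib.PGroups.Harada.sectionalPRankLE_of_index (k := 4) fun L _ _ ι hι =>
      (CfsgLib.PGroups.Harada.index_frattini_le_sixteen hS T ι hι).trans (by norm_num)
  · have key : ∀ u ∈ A, ∀ w ∈ W, Commute u w := fun u hu w hw => by
      rcases hAmem u hu with h | h
      · exact hEcomm u h.1 w hw.1
      · have h1 := (hEcomm _ h.1 w hw.1).mul_left (hWc w hw).symm
        rwa [mul_assoc, hss, mul_one] at h1
    have keys : Commute x s := by
      rcases hAmem x hx with h | h
      · exact hWc x h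
      · have h1 := (hWc _ h).mul_left (Commute.refl s)
        rwa [mul_assoc, hss, mul_one] at h1
    rcases hAmem y hy with h | h
    · exact (key x hx y h).eq
    · have h1 := (key x hx _ h).mul_right keys
      rw [mul_assoc, hss, mul_one] at h1
      exact h1.eq
  · rcases hAmem x hx with h | h
    · exact hE.2 x h.1
    · rw [show x = (x * s) * s by rw [mul_assoc, hss, mul_one], (hWc _ h).mul_pow, hE.2 _ h.1, hs2,
        one_mul]
  · classical
    have heq : (A : Set S) = (W : Set S) ∪ (fun w => w * s) '' (W : Set S) := by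
      ext x
      refine ⟨fun hx => ?_, ?_⟩
      · rcases hAmem x hx with h | h
        · exact Or.inl h
        · exact Or.inr ⟨x * s, h, by show x * s * s = x; rw [mul_assoc, hss, mul_one]⟩
      · rintro (hx | ⟨w, hw, rfl⟩)
        · exact Subgroup.mem_sup_left hx
        · exact mul_mem (Subgroup.mem_sup_left hw) (Subgroup.mem_sup_right (Subgroup.mem_zpowers s))
    have hd : Disjoint (W : Set S) ((fun w => w * s) '' (W : Set S)) := by
      rw [Set.disjoint_left]
      rintro x hx ⟨w, hw, rfl⟩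
      refine hsE ?_
      have := mul_mem (inv_mem (show w ∈ E from hw.1)) (show w * s ∈ E from hx.1)
      rwa [inv_mul_cancel_left] at this
    show (A : Set S).ncard = 8
    rw [heq, Set.ncard_union_eq hd, Set.ncard_image_of_injective _ (mul_left_injective s)]
    change Nat.card W + Nat.card W = 8
    omega
  · have hxs : Commute x s := (hx s (Subgroup.mem_sup_right (Subgroup.mem_zpowers s))).symm
    have hxQ : x ∈ Q := hC ▸ Subgroup.mem_centralizer_iff.2 fun z hz => hx z (hZ hz)
    rcases hdec x hxQ with h | h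
    · exact Subgroup.mem_sup_left ⟨h, Subgroup.mem_centralizer_singleton_iff.2 hxs.eq⟩
    · have h1 : x * s ∈ A := Subgroup.mem_sup_left ⟨h, Subgroup.mem_centralizer_singleton_iff.2
        (hxs.mul_left (Commute.refl s)).eq⟩
      have h2 := mul_mem h1 (Subgroup.mem_sup_right (Subgroup.mem_zpowers s) : s ∈ A)
      rwa [mul_assoc, hss, mul_one] at h2

end Cfsg.Agent.S1234
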