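import Cfsg.Statements.S5119
import Cfsg.Agent.Lib.Fusion.Invariant
-- import your own Cfsg.Agent.* helpers here

set_option autoImplicit false
open Cfsg

namespace Cfsg.Agent.S5119

open Cfsg Cfsg.FusionSystem CfsgLib.Fusion


/-- Let F be a saturated fusion system over a finite p-group S and E a subsystem of F over a subgroup T that is strongly closed in F. Then E is invariant in F (invariance under Aut_F(T) plus the Frattini condition) if and only if the strong invariance condition holds: for P ≤ Q ≤ T, every map φ of E from P into Q and every map ψ of F with source Q, the transported map ψ φ ψ⁻¹ on ψ(P) is a map of E. -/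
theorem result {Ω : Type*} [Group Ω] {S : Subgroup Ω} [Finite S] (p : ℕ) [Fact p.Prime] (hS : IsPGroup p S) (F : Cfsg.FusionSystem S) (hF : F.IsSaturated p) {T : Subgroup Ω} (E : Cfsg.FusionSystem T) (hE : E.IsSubsystemOf F) (hT : F.StronglyClosed T) : E.IsInvariantIn F ↔ ∀ (P Q : Subgroup Ω) (hPQ : P ≤ Q) (_ : Q ≤ T) (φ : P →* Ω) (_ : φ ∈ E.Hom P) (hφQ : ∀ x : P, φ x ∈ Q) (ψ : Q →* Ω) (_ : ψ ∈ F.Hom Q), ∃ χ ∈ E.Hom ((P.subgroupOf Q).map ψ), ∀ (x : P) (hx : ψ (Subgroup.inclusion hPQ x) ∈ (P.subgroupOf Q).map ψ), χ ⟨ψ (Subgroup.inclusion hPQ x), hx⟩ = ψ ⟨φ x, hφQ x⟩ := by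
  refine ⟨fun h => strongInv_iff.mp fun P Q f g hPQ hQT hf hfQ hg => ?_, fun h => ?_⟩
  · obtain ⟨-, -, hinv, hfr⟩ := h
    obtain ⟨ψ, hψ, hψg⟩ := hg
    obtain ⟨α, hα, e, he, hge⟩ := hfr Q hQT ψ hψ
    have heM := isMor_of_mem (F := E) he
    obtain ⟨ei, hei, hl, -, -⟩ := (heM.restrict hPQ).inverse
    have hk' : IsMor E (img P (toFun e)) (toFun e ∘ f ∘ ei) :=
      (hei.comp hf fun x hx => by
        obtain ⟨y, hy, rfl⟩ := (heM.restrict hPQ).mem_img.mp hx
        rw [hl y hy]; exact hy).comp heM fun x hx => by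
        obtain ⟨y, hy, rfl⟩ := (heM.restrict hPQ).mem_img.mp hx
        rw [Function.comp_apply, hl y hy]; exact hfQ y hy
    obtain ⟨χ₀, hχ₀, hχ₀e⟩ := id hk'
    obtain ⟨χ, hχ, hχe⟩ := hinv _ hk'.le χ₀ hχ₀ α hα
    have hαT : ∀ z : T, (T.subtype.comp α.toMonoidHom) z = autFun α z := fun z =>
      (autFun_coe α z).symm
    have himg : ((img P (toFun e)).subgroupOf T).map (T.subtype.comp α.toMonoidHom) = img P g := by
      rw [map_subgroupOf_eq_img hαT hk'.le, (heM.restrict hPQ).img_comp]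
      refine img_congr fun x hx => ?_
      rw [← hψg ⟨x, hPQ hx⟩, hge ⟨x, hPQ hx⟩ ((E.le_of_mem he).2 _), Function.comp_apply,
        toFun_of_mem e (hPQ hx), autFun_of_mem α ((E.le_of_mem he).2 ⟨x, hPQ hx⟩)]
    refine ⟨toFun χ, himg ▸ isMor_of_mem hχ, fun x hx => ?_⟩
    have hy : toFun e x ∈ img P (toFun e) := mem_img_of_mem _ hx
    have hyT : toFun e x ∈ T := heM.mem (hPQ hx)
    have hz : χ₀ ⟨toFun e x, hy⟩ ∈ T := (E.le_of_mem hχ₀).2 _
    have hzv : χ₀ ⟨toFun e x, hy⟩ = e ⟨f x, hfQ x hx⟩ := by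
      rw [hχ₀e]
      show toFun e (f (ei (toFun e x))) = _
      rw [hl x hx, toFun_of_mem e (hfQ x hx)]
    have hm : ((α ⟨toFun e x, hyT⟩ : T) : Ω) ∈
        ((img P (toFun e)).subgroupOf T).map (T.subtype.comp α.toMonoidHom) :=
      ⟨⟨toFun e x, hyT⟩, hy, rfl⟩
    have h1 := hχe ⟨toFun e x, hy⟩ hz hm
    have hgx : g x = ((α ⟨toFun e x, hyT⟩ : T) : Ω) := by
      rw [← hψg ⟨x, hPQ hx⟩, hge ⟨x, hPQ hx⟩ ((E.le_of_mem he).2 _)]
      simp only [toFun_of_mem e (hPQ hx)]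
    rw [hgx, toFun_of_mem χ hm, h1, ← hψg ⟨f x, hfQ x hx⟩,
      hge ⟨f x, hfQ x hx⟩ ((E.le_of_mem he).2 _)]
    simp only [hzv]
  · have hinv := strongInv_iff.mpr h
    refine ⟨hE, hT, fun P hPT φ hφ α hα => ?_, fun P hP φ hφ => ?_⟩
    · obtain ⟨k, hk, hke⟩ := hinv P T (toFun φ) (autFun α) hPT le_rfl (isMor_of_mem hφ)
        (fun x hx => (isMor_of_mem hφ).mem hx) (isMor_autFun hT.1 hα)
      have hαT : ∀ z : T, (T.subtype.comp α.toMonoidHom) z = autFun α z := fun z =>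
        (autFun_coe α z).symm
      rw [← map_subgroupOf_eq_img hαT hPT] at hk
      obtain ⟨χ, hχ, hχk⟩ := hk
      refine ⟨χ, hχ, fun x hφx hαx => ?_⟩
      have := hke x x.2
      rw [toFun_coe φ, autFun_of_mem α (hPT x.2), autFun_of_mem α hφx] at this
      rw [hχk]
      exact this
    · obtain ⟨α, hα, e, ⟨φ₀, hφ₀, he⟩, hfe⟩ :=
        factors_of_strongInv hS hF hE hT hinv (isMor_of_mem hφ) hP
      refine ⟨α, hα, φ₀, hφ₀, fun x hx => ?_⟩
      rw [← toFun_coe φ x, hfe x x.2, ← autFun_of_mem α hx]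
      exact congrArg (autFun α) (he x).symm

end Cfsg.Agent.S5119
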