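import Cfsg.Statements.S5097
import Cfsg.Agent.Lib.Fusion.Aut
-- import your own Cfsg.Agent.* helpers here

set_option autoImplicit false
open Cfsg

namespace Cfsg.Agent.S5097

open Cfsg Cfsg.FusionSystem CfsgLib.Fusion


/-- For any fusion system over a subgroup S and any Q ≤ S, the maps of the centralizer system C_F(Q) — those maps between subgroups of C_S(Q) that extend to the subgroup generated with Q fixing Q elementwise — form a fusion system over C_S(Q). -/
theorem result {Ω : Type*} [Group Ω] {S : Subgroup Ω} (F : Cfsg.FusionSystem S) (Q : Subgroup Ω) (hQ : Q ≤ S) : ∃ E : Cfsg.FusionSystem (Cfsg.FusionSystem.centralizerIn S Q), F.IsCentralizerSystem Q E := by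
  let N := centralizerIn S Q
  let M : Subgroup Ω → (Ω → Ω) → Prop := fun P f => IsMor F P f ∧ P ≤ N ∧ (∀ x ∈ P, f x ∈ N) ∧
    ∃ g, IsMor F (P ⊔ Q) g ∧ (∀ x ∈ P, g x = f x) ∧ ∀ x ∈ Q, g x = x
  refine ⟨ofPred N M (fun P f h => ⟨h.2.1, h.2.2.1⟩) (fun P f h x hx y hy e => h.1.inj hx hy e)
    ?_ ?_ ?_ ?_, fun P => ?_⟩
  · rintro P f f' ⟨hf, hP, hm, g, hg, hgf, hgQ⟩ e
    exact ⟨hf.congr e, hP, fun x hx => e x hx ▸ hm x hx, g, hg,
      fun x hx => (hgf x hx).trans (e x hx), hgQ⟩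
  · intro P a hP ha
    refine ⟨isMor_cj F (hP.trans centralizerIn_le) (mem_centralizerIn.mp ha).1, hP,
      fun x hx => N.mul_mem (N.mul_mem ha (hP hx)) (N.inv_mem ha), cj a,
      isMor_cj F (sup_le (hP.trans centralizerIn_le) hQ) (mem_centralizerIn.mp ha).1,
      fun _ _ => rfl, (mem_centralizerIn.mp ha).2⟩
  · rintro P R f k ⟨hf, hP, hm, g, hg, hgf, hgQ⟩ ⟨hk, hR, hm', g', hg', hgk, hgQ'⟩ hfR
    refine ⟨hf.comp hk hfR, hP, fun x hx => hm' _ (hfR x hx), g' ∘ g, hg.comp hg' ?_,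
      fun x hx => ?_, fun x hx => ?_⟩
    · intro x hx
      have h1 := mem_img_of_mem g hx
      rw [hg.img_sup, img_congr (P := Q) (g := id) hgQ, img_id, img_congr hgf] at h1
      exact sup_le_sup_right (img_le hfR) Q h1
    · show g' (g x) = k (f x)
      rw [hgf x hx, hgk _ (hfR x hx)]
    · show g' (g x) = x
      rw [hgQ x hx, hgQ' x hx]
  · rintro P f ⟨hf, hP, hm, g, hg, hgf, hgQ⟩ -
    obtain ⟨g', hg', hl, -, -⟩ := hg.inverse
    have hle : img P f ≤ img (P ⊔ Q) g :=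
      (img_congr (fun x hx => (hgf x hx).symm)).le.trans (img_mono g le_sup_left)
    have hl' : ∀ x ∈ P, g' (f x) = x := fun x hx => by
      rw [← hgf x hx]; exact hl x (Subgroup.mem_sup_left hx)
    have hQg : Q ≤ img (P ⊔ Q) g := fun x hx =>
      hgQ x hx ▸ mem_img_of_mem g (Subgroup.mem_sup_right hx)
    refine ⟨g', ⟨hg'.restrict hle, img_le hm, ?_, g', hg'.restrict (sup_le hle hQg),
      fun _ _ => rfl, ?_⟩, hl'⟩
    · intro y hy
      obtain ⟨x, hx, rfl⟩ := hf.mem_img.mp hy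
      rw [hl' x hx]
      exact hP hx
    · intro x hx
      have := hl x (Subgroup.mem_sup_right hx)
      rwa [hgQ x hx] at this
  · rw [ofPred_hom]
    ext φ
    exact mem_centralizerHom.symm

end Cfsg.Agent.S5097
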