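import Cfsg.Statements.S5120
import Cfsg.Agent.Lib.Fusion.PPowerIndex
import Cfsg.Agent.Lib.Fusion.ResidualNormal

set_option autoImplicit false
open Cfsg Cfsg.FusionSystem CfsgLib.Fusion

namespace Cfsg.Agent.S5120

/-- Let F be a saturated fusion system over a finite p-group S and T a subgroup of S containing the hyperfocal subgroup of F and normal in S. Then every saturated subsystem of F over T of p-power index is a normal subsystem of F. -/
theorem result {Ω : Type*} [Group Ω] {S : Subgroup Ω} [Finite S] (p : ℕ) [Fact p.Prime] (hS : IsPGroup p S) (F : Cfsg.FusionSystem S) (hF : F.IsSaturated p) (T : Subgroup Ω) (hTS : T ≤ S) (hTn : (T.subgroupOf S).Normal) (hT : F.hyperfocalSubgroup p ≤ T) (E : Cfsg.FusionSystem T) (hEs : E.IsSaturated p) (hEi : E.HasPPowerIndexIn F p) : E.IsNormalIn F p := by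
  classical
  have : Finite T := finite_of_le hTS
  have hTp : IsPGroup p T := isPGroup_of_le hTS hS
  have hn : ∀ s ∈ S, ∀ t ∈ T, cj s t ∈ T := fun s hs t ht =>
    Subgroup.mem_subgroupOf.mp (hTn.conj_mem ⟨t, hTS ht⟩ (Subgroup.mem_subgroupOf.mpr ht) ⟨s, hs⟩)
  obtain ⟨E', hE', hEi', hfac'⟩ := exists_pPowerIndex hS hF hTS hT
  obtain rfl := pPower_unique hS hTS hE' hEi' hEs hEi
  have hsc : F.StronglyClosed T := by
    refine stronglyClosed_iff.mpr ⟨hTS, fun P f hf x hx hxT => ?_⟩
    obtain ⟨s, hs, he⟩ := exists_conj_mod_hyp hS hF hf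
    have h1 := T.mul_mem (hn s hs x hxT) (hT (he x hx))
    rwa [mul_inv_cancel_left] at h1
  have hmv := (stronglyClosed_iff.mp hsc).2
  refine ⟨⟨hEs, hF, hEi.1, hsc, ?_, fun P hP φ hφ => ?_⟩, fun α hα => ?_⟩
  · intro P hPT φ hφ θ hθ
    have hθF := isMor_autFun hTS hθ
    let D : FusionSystem T := ofPred T (fun R f =>
        IsMor E R f ∧ IsMor E (img R (autFun θ)) (autFun θ ∘ f ∘ autFun θ⁻¹))
      (fun R f h => ⟨h.1.le, fun x hx => h.1.mem hx⟩)
      (fun R f h x hx y hy e => h.1.inj hx hy e)
      (fun R f g ⟨hf, hf'⟩ e => ⟨hf.congr e, hf'.congr fun y hy => by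
        simp only [Function.comp_apply]
        rw [e _ ((img_autFun_cancel hf.le θ).le (mem_img_of_mem _ hy))]⟩)
      (fun R g hR hg => ⟨isMor_cj E hR hg,
        (isMor_cj E (img_aut_le hR θ) (autFun_mem θ hg)).congr fun y hy => by
          have hy' := autFun_mem θ⁻¹ (img_aut_le hR θ hy)
          show cj (autFun θ g) y = autFun θ (cj g (autFun θ⁻¹ y))
          rw [cj_apply, cj_apply, autFun_map_mul θ (T.mul_mem hg hy') (T.inv_mem hg),
            autFun_map_mul θ hg hy', autFun_inv_map θ hg,
            autFun_inv_right θ (img_aut_le hR θ hy)]⟩)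
      (fun R Q f g ⟨hf, hf'⟩ ⟨hg, hg'⟩ h => ⟨hf.comp hg h,
        (hf'.comp hg' fun y hy => mem_img_of_mem _
          (h _ ((img_autFun_cancel hf.le θ).le (mem_img_of_mem _ hy)))).congr fun y hy => by
            simp only [Function.comp_apply]
            rw [autFun_inv_left θ
              (hf.mem ((img_autFun_cancel hf.le θ).le (mem_img_of_mem _ hy)))]⟩)
      (fun R f ⟨hf, hf'⟩ _ => by
        obtain ⟨g, hg, hgl, -, -⟩ := hf.inverse
        obtain ⟨g', hg', hgl', -, -⟩ := hf'.inverse
        refine ⟨g, ⟨hg, ?_⟩, hgl⟩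
        have hi : img (img R (autFun θ)) (autFun θ ∘ f ∘ autFun θ⁻¹) = img (img R f) (autFun θ) := by
          refine le_antisymm (img_le fun y hy => mem_img_of_mem _ (mem_img_of_mem f
            ((img_autFun_cancel hf.le θ).le (mem_img_of_mem _ hy)))) (img_le fun z hz => ?_)
          obtain ⟨x, hx, rfl⟩ := hf.mem_img.mp hz
          have := mem_img_of_mem (autFun θ ∘ f ∘ autFun θ⁻¹) (mem_img_of_mem (autFun θ) hx)
          simpa [autFun_inv_left θ (hf.le hx)] using this
        rw [hi] at hg'
        refine hg'.congr fun y hy => ?_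
        rw [← hi] at hy
        obtain ⟨z, hz, rfl⟩ := hf'.mem_img.mp hy
        obtain ⟨x, hx, rfl⟩ := (mem_img_autFun hf.le).mp hz
        rw [hgl' _ hz]
        simp only [Function.comp_apply]
        rw [autFun_inv_left θ (hf.le hx), autFun_inv_left θ (hf.mem hx), hgl x hx])
    have hD : ∀ R f, IsMor D R f ↔
        IsMor E R f ∧ IsMor E (img R (autFun θ)) (autFun θ ∘ f ∘ autFun θ⁻¹) := fun R f =>
      isMor_ofPred fun h x hx y hy => h.1.map_mul hx hy
    have hle : E ≤ D := le_of_coprime_aut hTp hEs fun R hR a ha hc => by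
      refine (autGroup_eq_set hR a).mpr ((hD _ _).mpr ⟨isMor_autFun hR ha, ?_⟩)
      obtain ⟨e, he, heA, -⟩ := exists_transport (hθF.restrict hR) (Q := img R (autFun θ)) rfl
      have hea : e a ∈ E.autGroup (img R (autFun θ)) := by
        refine mem_autGroup_of_pPower hEi (img_aut_le hR θ)
          ((heA a).mp (autGroup_mono hEi.1 ha)) ?_
        rwa [MulEquiv.orderOf_eq]
      refine (isMor_autFun (img_aut_le hR θ) hea).congr fun y hy => ?_
      obtain ⟨x, hx, rfl⟩ := (mem_img_autFun hR).mp hy
      simp only [Function.comp_apply]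
      rw [autFun_inv_left θ (hR hx)]
      exact he a x hx
    have h1 := ((hD _ _).mp (le_iff_isMor.mp hle P _ (isMor_of_mem hφ))).2
    rw [← map_subgroupOf_eq_img (ψ := T.subtype.comp θ.toMonoidHom) (f := autFun θ)
      (fun x => (autFun_coe θ x).symm) hPT] at h1
    obtain ⟨χ, hχ, hχe⟩ := h1
    refine ⟨χ, hχ, fun x hφx hαx => ?_⟩
    rw [hχe]
    simp only [Function.comp_apply]
    rw [← autFun_coe θ ⟨x, hPT x.2⟩, ← autFun_coe θ ⟨φ x, hφx⟩, autFun_inv_left θ (hPT x.2),
      toFun_coe]
  · have hf := isMor_of_mem hφ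
    obtain ⟨s, hs, e, ⟨φ₀, hφ₀, he⟩, hfe⟩ :=
      hfac' hn P _ hf hP fun x hx => hmv P _ hf x hx (hP hx)
    obtain ⟨a, ha, hae⟩ := exists_autInducedBy (K := S) (P := T) hs (stronglyClosed_le_normalizer hsc hs)
    refine ⟨a, autInducedBy_le F hTS ha, φ₀, hφ₀, fun x hx => ?_⟩
    rw [← toFun_coe φ x, hfe x x.2, ← autFun_coe a ⟨φ₀ x, hx⟩, hae _ hx, he x]
  · -- the extension condition
    set C := centralizerIn S T
    have hTn' : F.IsFullyNormalized T := by
      refine ⟨hTS, fun Q hQ => ?_⟩
      obtain ⟨f, hf, rfl⟩ := isConj_iff.mp hQ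
      rw [hf.img_eq_self fun x hx => hmv T f hf x hx hx]
    have := finite_mulAut hTS
    let W : Subgroup (MulAut T) :=
      { carrier := {β | ∀ n : ℤ, GoodExt F T T (autFun (β ^ n)) ∧ β ∈ E.autGroup T}
        one_mem' := fun n => ⟨by
          rw [one_zpow]
          exact (goodExt_id hsc le_rfl).restrict le_rfl fun x hx => (autFun_one hx).symm, one_mem _⟩
        mul_mem' := fun {a b} ha hb n => by
          have hmul : ∀ c d : MulAut T, GoodExt F T T (autFun c) → GoodExt F T T (autFun d) →
              GoodExt F T T (autFun (c * d)) := fun c d hc hd =>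
            GoodExt.comp hsc le_rfl (by rw [img_autFun]; exact centralizerIn_le) hd
              (by rw [img_autFun]; exact hc) fun x hx => autFun_mul c d hx
          have h1 : GoodExt F T T (autFun (a * b)) := by
            have h2 := hmul a b (by simpa using (ha 1).1) (by simpa using (hb 1).1)
            exact h2
          have hpow : ∀ i : ℕ, GoodExt F T T (autFun ((a * b) ^ i)) := by
            intro i
            induction i with
            | zero => exact (goodExt_id hsc le_rfl).restrict le_rfl fun x hx => (autFun_one hx).symm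
            | succ i ih => rw [pow_succ]; exact hmul _ _ ih h1
          refine ⟨?_, (E.autGroup T).mul_mem (ha 0).2 (hb 0).2⟩
          obtain ⟨i, hi⟩ := mem_powers_iff_mem_zpowers.mpr
            (Subgroup.zpow_mem_zpowers (a * b) n)
          rw [← hi]; exact hpow i
        inv_mem' := fun {a} ha n => by
          rw [inv_zpow', ]
          exact ⟨(ha (-n)).1, (E.autGroup T).inv_mem (ha 0).2⟩ }
    have hW : ∀ β ∈ E.autGroup T, GoodExt F T T (autFun β) → β ∈ W := by
      intro β hβ hg n
      refine ⟨?_, hβ⟩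
      have hmul : ∀ c d : MulAut T, GoodExt F T T (autFun c) → GoodExt F T T (autFun d) →
          GoodExt F T T (autFun (c * d)) := fun c d hc hd =>
        GoodExt.comp hsc le_rfl (by rw [img_autFun]; exact centralizerIn_le) hd
          (by rw [img_autFun]; exact hc) fun x hx => autFun_mul c d hx
      have hpow : ∀ i : ℕ, GoodExt F T T (autFun (β ^ i)) := by
        intro i
        induction i with
        | zero => exact (goodExt_id hsc le_rfl).restrict le_rfl fun x hx => (autFun_one hx).symm
        | succ i ih => rw [pow_succ]; exact hmul _ _ ih hg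
      obtain ⟨i, hi⟩ := mem_powers_iff_mem_zpowers.mpr (Subgroup.zpow_mem_zpowers β n)
      rw [← hi]; exact hpow i
    have hall : E.autGroup T ≤ W := by
      obtain ⟨R, hR⟩ := (exists_sylow_iff (autInducedBy_le E le_rfl)).mpr
        (isFullyAutomized_iff.mp
          (isFullyAutomized_of_normalized hTp hEs (isFullyNormalized_self E)).1).2
      have htop := CfsgLib.Transfer.sup_pResidual_eq_top R
      have hle : (R : Subgroup (E.autGroup T)) ⊔ pResidual p (E.autGroup T) ≤
          W.subgroupOf (E.autGroup T) := by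
        refine sup_le (fun r hr => ?_) ((Subgroup.closure_le _).mpr fun r hr => ?_)
        · rw [hR] at hr
          obtain ⟨t, ht, -, hte⟩ := mem_autInducedBy.mp (Subgroup.mem_subgroupOf.mp hr)
          refine hW _ r.2 ⟨cj t, isMor_cj F (sup_le hTS centralizerIn_le) (hTS ht),
            fun x hx => (hte x hx).symm, fun c hc => ?_⟩
          have h1 : cj c t = t := (mem_centralizerIn.mp hc).2 t ht
          rw [cj_apply, cj_fixed_iff] at h1
          rw [cj_apply, show t * c * t⁻¹ = c by rw [← h1, mul_inv_cancel_right], inv_mul_cancel]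
          exact T.one_mem
        · refine hW _ r.2 ?_
          have hc : (orderOf (r : MulAut T)).Coprime p := by rw [Subgroup.orderOf_coe]; exact hr
          obtain ⟨b, hb, hbT, hbC⟩ := exists_map_centralizer
            (isFullyAutomized_of_normalized hS hF hTn').2
            (isMor_autFun hTS (autGroup_mono hEi.1 r.2)) (img_autFun (r : MulAut T))
          have hb' : IsMor F (T ⊔ C) b := by rw [sup_comm]; exact hb
          have hbi : img (T ⊔ C) b ≤ T ⊔ C := by
            rw [hb'.img_sup, img_congr hbT, img_autFun]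
            exact sup_le le_sup_left (hbC.trans le_sup_right)
          obtain ⟨β, hβ, hβe⟩ := exists_aut hb'
            (hb'.img_eq_self fun x hx => hbi (mem_img_of_mem b hx))
          have hTC : T ⊔ C ≤ S := sup_le hTS centralizerIn_le
          have := finite_mulAut hTC
          obtain ⟨j, q, hq, hor⟩ := Nat.exists_eq_pow_mul_and_not_dvd (orderOf_pos β).ne' p
            (Fact.out : p.Prime).ne_one
          obtain ⟨i, hi1, hi2⟩ := Nat.chineseRemainder (hc.pow_right j) 1 0
          have hagree : ∀ x ∈ T, autFun β x = autFun (r : MulAut T) x := fun x hx =>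
            (hβe x (Subgroup.mem_sup_left hx)).trans (hbT x hx)
          have hri : (r : MulAut T) ^ i = (r : MulAut T) :=
            (pow_eq_pow_iff_modEq.mpr hi1).trans (pow_one _)
          obtain ⟨c', hc'⟩ := Nat.modEq_zero_iff_dvd.mp hi2
          have hco : (orderOf (β ^ i)).Coprime p := by
            refine Nat.Coprime.coprime_dvd_left (orderOf_dvd_of_pow_eq_one ?_)
              ((Nat.Prime.coprime_iff_not_dvd (Fact.out : p.Prime)).mpr hq).symm
            rw [← pow_mul, hc', show p ^ j * c' * q = p ^ j * q * c' by ring, ← hor, pow_mul,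
              pow_orderOf_eq_one, one_pow]
          refine ⟨autFun (β ^ i), isMor_autFun hTC ((F.autGroup _).pow_mem hβ i),
            fun x hx => ?_, fun c hc'' => hT (hyp_gen hTC ((F.autGroup _).pow_mem hβ i) hco
              (Subgroup.mem_sup_right hc''))⟩
          rw [autFun_pow_congr le_sup_left hagree i x hx, hri]
          rfl
      intro a ha
      exact hle (htop ▸ Subgroup.mem_top (⟨a, ha⟩ : E.autGroup T))
    obtain ⟨g, hg, hgT, hgC⟩ := (hall hα 1).1
    simp only [zpow_one] at hgT
    have hmaps : img (T ⊔ C) g ≤ T ⊔ C := by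
      rw [hg.img_sup, img_congr hgT, img_autFun]
      refine sup_le le_sup_left (img_le fun c hc => ?_)
      have := Subgroup.mul_mem _ (Subgroup.mem_sup_right (S := T) hc)
        (Subgroup.mem_sup_left (T := C) (hgC c hc))
      rwa [mul_inv_cancel_left] at this
    obtain ⟨β, hβ, hβe⟩ := exists_aut hg (hg.img_eq_self fun x hx => hmaps (mem_img_of_mem g hx))
    refine ⟨β, hβ, fun x => ?_, fun c hc => ?_⟩
    · rw [← autFun_coe β, ← autFun_coe α]
      show autFun β (x : Ω) = autFun α x
      rw [hβe _ (Subgroup.mem_sup_left x.2)]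
      exact hgT x x.2
    · rw [← autFun_coe β, hβe _ c.2]
      refine ⟨hgC c hc, Subgroup.mem_centralizer_iff.mpr fun y hy => ?_⟩
      obtain ⟨x, hx, rfl⟩ : ∃ x ∈ T, g x = y :=
        ⟨autFun α⁻¹ y, autFun_mem _ hy, by
          rw [hgT _ (autFun_mem _ hy)]; exact autFun_inv_right α hy⟩
      have h1 := hg.map_conj c.2 (Subgroup.mem_sup_left hx)
      have h2 : cj (c : Ω) x = x := (mem_centralizerIn.mp hc).2 x hx
      rw [show (c : Ω) * x * (c : Ω)⁻¹ = x from h2] at h1
      have h3 : cj (c : Ω)⁻¹ (g x) = g x := (mem_centralizerIn.mp (C.inv_mem hc)).2 _ hy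
      have h4 : cj ((c : Ω)⁻¹ * g c) (g x) = g x := by rw [cj_mul, cj_apply (g c), ← h1, h3]
      rw [cj_apply, cj_fixed_iff] at h4
      exact h4.symm

end Cfsg.Agent.S5120
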