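import Cfsg.Statements.S5290
import Cfsg.Agent.Lib.Fusion.Criteria
-- import your own Cfsg.Agent.* helpers here

set_option autoImplicit false
open Cfsg

namespace Cfsg.Agent.S5290

open Cfsg Cfsg.FusionSystem CfsgLib.Fusion


/-- Let F be a saturated fusion system over a finite p-group S and Q a subgroup of S. Then Q is normal in F (F = N_F(Q)) if and only if the inner fusion system of Q, consisting of the conjugations by elements of Q on subgroups of Q, is a weakly normal subsystem of F (both saturated, Q strongly closed, invariant under F-conjugation, with the Frattini property). -/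
theorem result {Ω : Type*} [Group Ω] {S : Subgroup Ω} [Finite S] (p : ℕ) [Fact p.Prime] (hS : IsPGroup p S)
    (F : Cfsg.FusionSystem S) (hF : F.IsSaturated p)
    (Q : Subgroup Ω) (hQ : Q ≤ S) :
    F.IsNormal Q ↔ (Cfsg.innerFusionSystem Q).IsWeaklyNormalIn F p := by
  have hisat : ∀ (hQf : Finite Q), (innerFusionSystem Q).IsSaturated p :=
    fun _ => inner_isSaturated (isPGroup_of_le hQ hS)
  constructor
  · intro h
    have hsc := isNormal_stronglyClosed h
    refine ⟨hisat (finite_of_le hQ), hF, ?_, hsc, ?_, ?_⟩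
    · refine le_iff_isMor.mpr fun P f hf => ?_
      obtain ⟨hP, g, hg, e⟩ := isMor_inner.mp hf
      exact (isMor_cj F (hP.trans hQ) (hQ hg)).congr fun x hx => (e x hx).symm
    · rintro P hPT φ ⟨-, g, hg, e⟩ α hα
      refine ⟨conjHom _ ((α ⟨g, hg⟩ : Q) : Ω),
        (innerFusionSystem Q).conj_mem (Subgroup.map_le_range _ _ |>.trans ?_) (SetLike.coe_mem _),
        fun x hφx hαx => ?_⟩
      · rintro _ ⟨y, rfl⟩
        exact SetLike.coe_mem _
      · have hsub : (⟨φ x, hφx⟩ : Q) = ⟨g, hg⟩ * ⟨x, hPT x.2⟩ * ⟨g, hg⟩⁻¹ := Subtype.ext (e x)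
        rw [hsub, _root_.map_mul, _root_.map_mul, _root_.map_inv]
        rfl
    · intro P hP φ hφ
      obtain ⟨α, hα, e⟩ := exists_aut_of_isNormal h (isMor_of_mem hφ) hP
      refine ⟨α, hα, P.subtype, ⟨hP, 1, Subgroup.one_mem _, fun x => by simp⟩, fun x hx => ?_⟩
      rw [← toFun_coe φ x, ← e x x.2, autFun_of_mem α (hP x.2)]
      rfl
  · rintro ⟨-, -, -, hsc, -, hfr⟩
    refine isNormal_of_extends hS hF hQ fun P f hf hPQ => ?_
    obtain ⟨φ, hφ, hφf⟩ := hf
    obtain ⟨α, hα, φ₀, ⟨-, g, hg, e⟩, hfe⟩ := hfr P hPQ φ hφ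
    obtain ⟨c, hc, hce⟩ := exists_autInducedBy (P := Q) (hQ hg) (Subgroup.le_normalizer hg)
    refine ⟨α * c, Subgroup.mul_mem _ hα (autInducedBy_le F hQ hc), fun x hx => ?_⟩
    have hm : φ₀ ⟨x, hx⟩ ∈ Q := e ⟨x, hx⟩ ▸ Q.mul_mem (Q.mul_mem hg (hPQ hx)) (Q.inv_mem hg)
    rw [autFun_mul _ _ (hPQ hx), hce x (hPQ hx), ← hφf ⟨x, hx⟩, hfe ⟨x, hx⟩ hm]
    rw [show cj g x = φ₀ ⟨x, hx⟩ from (e ⟨x, hx⟩).symm, autFun_of_mem α hm]

end Cfsg.Agent.S5290
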