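import Cfsg.Statements.S5136
import Cfsg.Agent.Lib.Fusion.Aut
-- import your own Cfsg.Agent.* helpers here

set_option autoImplicit false
open Cfsg

namespace Cfsg.Agent.S5136

open Cfsg Cfsg.FusionSystem CfsgLib.Fusion


/-- Let F₁ and F₂ be fusion systems over finite p-groups S₁ and S₂ (inside ambient groups Ω₁ and Ω₂). Then their direct product exists: there is a fusion system over S₁ × S₂ inside Ω₁ × Ω₂ whose maps with source P ≤ S₁ × S₂ are exactly the restrictions to P of the homomorphisms (x₁, x₂) ↦ (φ₁ x₁, φ₂ x₂) with φ₁ a map of F₁ on the first projection of P and φ₂ a map of F₂ on the second projection. -/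
theorem result {Ω₁ Ω₂ : Type*} [Group Ω₁] [Group Ω₂] {S₁ : Subgroup Ω₁} {S₂ : Subgroup Ω₂} [Finite S₁] [Finite S₂] (p : ℕ) [Fact p.Prime] (h₁ : IsPGroup p S₁) (h₂ : IsPGroup p S₂) (F₁ : Cfsg.FusionSystem S₁) (F₂ : Cfsg.FusionSystem S₂) : ∃ E : Cfsg.FusionSystem (S₁.prod S₂), Cfsg.FusionSystem.IsProductSystem F₁ F₂ E := by
  let M : Subgroup (Ω₁ × Ω₂) → (Ω₁ × Ω₂ → Ω₁ × Ω₂) → Prop := fun P f => P ≤ S₁.prod S₂ ∧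
    ∃ f₁ f₂, IsMor F₁ (P.map (MonoidHom.fst Ω₁ Ω₂)) f₁ ∧ IsMor F₂ (P.map (MonoidHom.snd Ω₁ Ω₂)) f₂ ∧
      ∀ x ∈ P, f x = (f₁ x.1, f₂ x.2)
  refine ⟨ofPred (S₁.prod S₂) M ?_ ?_ ?_ ?_ ?_ ?_, fun P φ => ?_⟩
  · rintro P f ⟨hP, f₁, f₂, h₁, h₂, e⟩
    exact ⟨hP, fun x hx => e x hx ▸ ⟨h₁.mem ⟨x, hx, rfl⟩, h₂.mem ⟨x, hx, rfl⟩⟩⟩
  · rintro P f ⟨hP, f₁, f₂, h₁, h₂, e⟩ x hx y hy hxy
    rw [e x hx, e y hy, Prod.mk.injEq] at hxy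
    exact Prod.ext (h₁.inj ⟨x, hx, rfl⟩ ⟨y, hy, rfl⟩ hxy.1) (h₂.inj ⟨x, hx, rfl⟩ ⟨y, hy, rfl⟩ hxy.2)
  · rintro P f g ⟨hP, f₁, f₂, h₁, h₂, e⟩ he
    exact ⟨hP, f₁, f₂, h₁, h₂, fun x hx => (he x hx).symm.trans (e x hx)⟩
  · intro P g hP hg
    exact ⟨hP, cj g.1, cj g.2,
      isMor_cj F₁ (by rintro _ ⟨x, hx, rfl⟩; exact (hP hx).1) hg.1,
      isMor_cj F₂ (by rintro _ ⟨x, hx, rfl⟩; exact (hP hx).2) hg.2, fun x _ => rfl⟩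
  · rintro P Q f g ⟨hP, f₁, f₂, h₁, h₂, e⟩ ⟨hQ, g₁, g₂, k₁, k₂, e'⟩ hfQ
    refine ⟨hP, g₁ ∘ f₁, g₂ ∘ f₂, h₁.comp k₁ ?_, h₂.comp k₂ ?_, fun x hx => ?_⟩
    · rintro _ ⟨x, hx, rfl⟩
      exact ⟨f x, hfQ x hx, by rw [e x hx]; rfl⟩
    · rintro _ ⟨x, hx, rfl⟩
      exact ⟨f x, hfQ x hx, by rw [e x hx]; rfl⟩
    · show g (f x) = _
      rw [e' _ (hfQ x hx), e x hx]
      rfl
  · rintro P f ⟨hP, f₁, f₂, h₁, h₂, e⟩ hmul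
    obtain ⟨i₁, hi₁, hl₁, -, -⟩ := h₁.inverse
    obtain ⟨i₂, hi₂, hl₂, -, -⟩ := h₂.inverse
    refine ⟨fun y => (i₁ y.1, i₂ y.2), ⟨img_le fun x hx => e x hx ▸
      ⟨h₁.mem ⟨x, hx, rfl⟩, h₂.mem ⟨x, hx, rfl⟩⟩, i₁, i₂, hi₁.restrict ?_, hi₂.restrict ?_,
      fun _ _ => rfl⟩, fun x hx => ?_⟩
    · refine Subgroup.map_le_iff_le_comap.mpr (img_le fun x hx => ?_)
      show (f x).1 ∈ img (P.map (MonoidHom.fst Ω₁ Ω₂)) f₁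
      rw [e x hx]
      exact mem_img_of_mem f₁ ⟨x, hx, rfl⟩
    · refine Subgroup.map_le_iff_le_comap.mpr (img_le fun x hx => ?_)
      show (f x).2 ∈ img (P.map (MonoidHom.snd Ω₁ Ω₂)) f₂
      rw [e x hx]
      exact mem_img_of_mem f₂ ⟨x, hx, rfl⟩
    · show (i₁ (f x).1, i₂ (f x).2) = x
      rw [e x hx]
      exact Prod.ext (hl₁ _ ⟨x, hx, rfl⟩) (hl₂ _ ⟨x, hx, rfl⟩)
  · change M P (toFun φ) ↔ _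
    constructor
    · rintro ⟨hP, f₁, f₂, ⟨φ₁, hφ₁, e₁⟩, ⟨φ₂, hφ₂, e₂⟩, e⟩
      refine ⟨hP, φ₁, hφ₁, φ₂, hφ₂, fun x k₁ k₂ => ?_⟩
      rw [← toFun_coe φ x, e x x.2, e₁, e₂]
    · rintro ⟨hP, φ₁, hφ₁, φ₂, hφ₂, e⟩
      refine ⟨hP, toFun φ₁, toFun φ₂, isMor_of_mem hφ₁, isMor_of_mem hφ₂, fun x hx => ?_⟩
      have k₁ : x.1 ∈ P.map (MonoidHom.fst Ω₁ Ω₂) := ⟨x, hx, rfl⟩
      have k₂ : x.2 ∈ P.map (MonoidHom.snd Ω₁ Ω₂) := ⟨x, hx, rfl⟩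
      rw [toFun_of_mem φ hx, toFun_of_mem φ₁ k₁, toFun_of_mem φ₂ k₂, e ⟨x, hx⟩ k₁ k₂]

end Cfsg.Agent.S5136
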