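import Cfsg.Statements.S5148
import Cfsg.Agent.Lib.Fusion.Hyperfocal
import Cfsg.Agent.Lib.Fusion.Criteria
import Cfsg.Agent.Lib.Fusion.FactorSaturated
import Cfsg.Agent.Lib.Fusion.FactorExists

set_option autoImplicit false
open Cfsg Cfsg.FusionSystem CfsgLib.Fusion

namespace Cfsg.Agent.S5148

/-- A quasisimple fusion system over a finite p-group S (saturated, equal to its p-residual subsystem, with simple — in particular nontrivial — factor system modulo its centre) has S nonabelian. -/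
theorem result {Ω : Type*} [Group Ω] {S : Subgroup Ω} [Finite S] (p : ℕ) [Fact p.Prime] (hS : IsPGroup p S) (F : Cfsg.FusionSystem S) (hq : F.Quasisimple p) : ¬ IsMulCommutative S := by
  obtain ⟨hF, hhyp, hsimple⟩ := hq
  intro hab
  set θ := QuotientGroup.mk' (F.center.subgroupOf S)
  have hker : ∀ s : S, θ s = 1 ↔ (s : Ω) ∈ F.center := fun s =>
    (QuotientGroup.eq_one_iff s).trans Subgroup.mem_subgroupOf
  have hrange : θ.range = ⊤ := MonoidHom.range_eq_top.mpr (QuotientGroup.mk'_surjective _)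
  have hCsc := isNormal_stronglyClosed (isNormal_of_isCentral (isCentral_center F))
  obtain ⟨E, hE⟩ := exists_factorSystem hCsc hker hrange
  obtain ⟨hEs, hne, hnor⟩ := hsimple E hE
  have hfinT : Finite ↥(⊤ : Subgroup (↥S ⧸ F.center.subgroupOf S)) :=
    Finite.of_equiv _ (Subgroup.topEquiv.symm.toEquiv)
  have hpT : IsPGroup p ↥(⊤ : Subgroup (↥S ⧸ F.center.subgroupOf S)) :=
    (hS.to_quotient _).of_equiv Subgroup.topEquiv.symm
  have habT : ∀ a b : ↥S ⧸ F.center.subgroupOf S, a * b = b * a := fun a b => by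
    obtain ⟨a, rfl⟩ := QuotientGroup.mk'_surjective _ a
    obtain ⟨b, rfl⟩ := QuotientGroup.mk'_surjective _ b
    rw [← map_mul, ← map_mul, hab.is_comm.comm]
  have hcj : ∀ g x : ↥S ⧸ F.center.subgroupOf S, cj g x = x := fun g x => by
    rw [cj_apply, habT g x, mul_inv_cancel_right]
  have hTn : E.IsNormal ⊤ := isNormal_of_abelian hpT hEs
    (stronglyClosed_iff.mpr ⟨le_rfl, fun P f _ x _ _ => Subgroup.mem_top _⟩) fun x _ y _ => habT x y
  set I := innerFusionSystem (⊤ : Subgroup (↥S ⧸ F.center.subgroupOf S))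
  have hinv : ∀ P φ, φ ∈ I.Hom P → ∀ x : P, φ x = x := fun P φ hφ x => by
    obtain ⟨-, g, -, hg⟩ := hφ
    rw [hg x, habT g (x : ↥S ⧸ F.center.subgroupOf S), mul_inv_cancel_right]
  have hI : I.IsNormalIn E p := by
    refine ⟨⟨inner_isSaturated hpT, hEs, inner_isSubsystemOf E,
      isNormal_stronglyClosed hTn, fun P hP φ hφ α _ => ⟨_, I.conj_mem le_top (Subgroup.mem_top 1), ?_⟩,
      fun P hP φ hφ => ?_⟩, fun α hα => ⟨1, Subgroup.one_mem _, fun x => ?_, fun c _ => by simp⟩⟩
    · intro x hφx hαx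
      show (1 : ↥S ⧸ F.center.subgroupOf S) * _ * 1⁻¹ = _
      rw [one_mul, inv_one, mul_one]
      exact congrArg (fun y => ((α y : (⊤ : Subgroup (↥S ⧸ F.center.subgroupOf S))) : ↥S ⧸ F.center.subgroupOf S))
        (Subtype.ext (hinv P φ hφ x).symm)
    · obtain ⟨α, hα, hαe⟩ := exists_aut_of_isNormal hTn (isMor_of_mem hφ) hP
      refine ⟨α, hα, _, I.conj_mem hP (Subgroup.mem_top 1), fun x hx => ?_⟩
      rw [← toFun_coe φ x, ← hαe x x.2, autFun_of_mem α (Subgroup.mem_top _)]
      congr 2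
      refine Subtype.ext ?_
      show (x : ↥S ⧸ F.center.subgroupOf S) = 1 * _ * 1⁻¹
      rw [one_mul, inv_one, mul_one]
      rfl
    · obtain ⟨g, -, -, hg⟩ := mem_autInducedBy.mp ((autGroup_inner le_rfl).le hα)
      rw [← autFun_coe α x, hg x x.2, hcj]
      rfl
  obtain ⟨-, hmaps⟩ := (hnor _ I hI).resolve_left hne
  have hbot : F.hyperfocalSubgroup p ≤ ⊥ := hyp_le fun P hP α hα hcop x hx => by
    rw [Subgroup.mem_bot]
    obtain ⟨g, hg, hgf, -⟩ := (isCentral_iff.mp (isCentral_center F)).2 P _ (isMor_autFun hP hα)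
    have hpre : preimageAlong θ (imageAlong θ P) = P ⊔ F.center :=
      preimage_image hker (isCentral_center F).1 hP
    obtain ⟨f', hf', hf'e⟩ := factor_push hE hCsc ((imageAlong_le_range P).trans hrange.le)
      (show IsMor F (preimageAlong θ (imageAlong θ P)) g by rw [hpre]; exact hg)
    have him : θ ⟨x, hP hx⟩ ∈ imageAlong θ P := ⟨⟨x, hP hx⟩, hx, rfl⟩
    have h1 := hf'e ⟨x, hP hx⟩ (hg.mem (Subgroup.mem_sup_left hx)) him
    obtain ⟨t, -, hte⟩ := (isMor_inner.mp ((hom_eq_iff.mp (hmaps _).symm f').mp hf')).2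
    rw [hte _ him, hcj] at h1
    set z := x⁻¹ * autFun α x with hz
    have hzC : z ∈ F.center := by
      have h2 := (hker (⟨x, hP hx⟩⁻¹ * ⟨g x, hg.mem (Subgroup.mem_sup_left hx)⟩)).mp (by
        rw [map_mul, map_inv, ← h1, inv_mul_cancel])
      simpa [hz, hgf x hx] using h2
    have hzP : z ∈ P := P.mul_mem (P.inv_mem hx) (autFun_mem α hx)
    have hm := isMor_autFun hP hα
    have hpow : ∀ m : ℕ, autFun (α ^ m) x = x * z ^ m := by
      intro m
      induction m with
      | zero => rw [pow_zero, pow_zero, autFun_one hx, mul_one]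
      | succ m ih =>
        rw [pow_succ', autFun_mul _ _ hx, ih, hm.map_mul hx (P.pow_mem hzP m),
          ((isCentral_iff_fixed hS hF).mp (isCentral_center F)).2 P _ hm _ (P.pow_mem hzP m)
            (Subgroup.pow_mem _ hzC m), pow_succ', hz, ← mul_assoc x, mul_inv_cancel_left]
    have h3 := hpow (orderOf α)
    rw [pow_orderOf_eq_one, autFun_one hx, left_eq_mul] at h3
    obtain ⟨k, hk⟩ := hS ⟨z, hP hzP⟩
    exact orderOf_eq_one_iff.mp (Nat.eq_one_of_dvd_coprimes (hcop.pow_right k)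
      (orderOf_dvd_of_pow_eq_one h3) (orderOf_dvd_of_pow_eq_one (congrArg Subtype.val hk)))
  rw [hhyp] at hbot
  refine hne (le_bot_iff.mp fun y _ => ?_)
  obtain ⟨⟨s, hs⟩, rfl⟩ := QuotientGroup.mk'_surjective (F.center.subgroupOf S) y
  refine Subgroup.mem_bot.mpr ((hker ⟨s, hs⟩).mpr ?_)
  show s ∈ F.center
  rw [Subgroup.mem_bot.mp (hbot hs)]
  exact Subgroup.one_mem _

end Cfsg.Agent.S5148
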