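import Cfsg.Statements.S1237
import Cfsg.Agent.Lib.Small.FoursFixed
import Cfsg.Agent.Lib.Small.Order64Suzuki
import Cfsg.Agent.Lib.Chev.Suz2.TypeA
-- import your own Cfsg.Agent.* helpers here

set_option autoImplicit false
open Cfsg

namespace Cfsg.Agent.S1237

/-- Let T be a finite 2-group of 2-rank exactly 2 (it has a Klein four-subgroup but no elementary abelian subgroup of order 8) admitting an automorphism φ such that any two involutions of T are carried to one another by a power of φ. Then T ≅ Z_{2^n} × Z_{2^n} for some n ≥ 1, or T is isomorphic to a Sylow 2-subgroup of PSU(3) over the field with 16 elements. -/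
theorem result {T : Type*} [Group T] [Finite T] (hT : IsPGroup 2 T) (h2 : Cfsg.PRankLE 2 2 T) (h1 : ¬ Cfsg.PRankLE 2 1 T) (φ : MulAut T) (htrans : ∀ s t : T, orderOf s = 2 → orderOf t = 2 → ∃ k : ℕ, (φ ^ k) s = t) {F : Type*} [Field F] [Fintype F] (hF : Fintype.card F = 16) (P : Sylow 2 (Cfsg.PSU 3 F 4)) : (∃ n : ℕ, 1 ≤ n ∧ Nonempty (T ≃* Multiplicative (ZMod (2 ^ n) × ZMod (2 ^ n)))) ∨ Nonempty (T ≃* (P : Subgroup (Cfsg.PSU 3 F 4))) := by
  classical
  haveI : Fact (Nat.Prime 2) := ⟨Nat.prime_two⟩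
  have hord : ∀ x : T, x ≠ 1 → x * x = 1 → orderOf x = 2 := fun x hx hxx =>
    orderOf_eq_prime (by rw [pow_two]; exact hxx) hx
  have hk : CfsgLib.Chev.Suz2.Trans φ := fun x y hx hxx hy hyy =>
    htrans x y (hord x hx hxx) (hord y hy hyy)
  obtain ⟨A, hAc, hA2, hA⟩ : ∃ A : Subgroup T, IsMulCommutative A ∧ (∀ a ∈ A, a ^ 2 = 1) ∧
      2 < Nat.card A := by
    by_contra hall
    exact h1 fun A hc he => by
      by_contra hlt
      exact hall ⟨A, hc, he, by simpa using hlt⟩
  obtain ⟨a, b, hab, ha1, ha2, hb1, hb2⟩ :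
      ∃ a b : T, a ≠ b ∧ a ≠ 1 ∧ a * a = 1 ∧ b ≠ 1 ∧ b * b = 1 := by
    obtain ⟨a, haA, ha⟩ : ∃ a ∈ A, a ≠ 1 := by
      by_contra hall
      push Not at hall
      rw [Subgroup.eq_bot_iff_forall A |>.2 hall, Subgroup.card_bot] at hA
      omega
    obtain ⟨b, hbA, hb⟩ : ∃ b ∈ A, b ∉ ({1, a} : Set T) := by
      by_contra hall
      push Not at hall
      have h := Set.ncard_le_ncard (show (A : Set T) ⊆ {1, a} from hall) (Set.toFinite _)
      rw [← Nat.card_coe_set_eq, Set.ncard_pair ha.symm] at h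
      change Nat.card A ≤ 2 at h
      omega
    simp only [Set.mem_insert_iff, Set.mem_singleton_iff, not_or] at hb
    exact ⟨a, b, Ne.symm hb.2, ha, by rw [← pow_two]; exact hA2 a haA, hb.1,
      by rw [← pow_two]; exact hA2 b hbA⟩
  have hfix : ∀ v : T, v * v = 1 → φ v = v → v = 1 := by
    intro v hv hfix
    by_contra hv1
    have hall : ∀ w : T, w ≠ 1 → w * w = 1 → w = v := by
      intro w hw hww
      obtain ⟨i, rfl⟩ := hk v w hv1 hv hw hww
      clear hw hww
      induction i with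
      | zero => rfl
      | succ i ih => rw [CfsgLib.Chev.Suz2.pow_apply_succ, ih, hfix]
    exact hab ((hall a ha1 ha2).trans (hall b hb1 hb2).symm)
  have card4 : ∀ W : Subgroup T, IsMulCommutative W → (∀ w ∈ W, w * w = 1) →
      (∀ x : T, x * x = 1 → x ∈ W) → Nat.card W = 4 := by
    intro W hWc hW hmem
    have hle : Nat.card W ≤ 4 := by
      have h := h2 W hWc fun w hw => by rw [pow_two]; exact hW w hw
      norm_num at h
      exact h
    have h3 : 3 ≤ Nat.card W := by
      have hsub : ({1, a, b} : Set T) ⊆ (W : Set T) := by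
        rintro x (rfl | rfl | rfl)
        exacts [one_mem _, hmem _ ha2, hmem _ hb2]
      refine le_trans ?_ ((Set.ncard_le_ncard hsub (Set.toFinite _)).trans (Nat.card_coe_set_eq _).ge)
      rw [Set.ncard_insert_of_notMem (by simp [ha1.symm, hb1.symm]), Set.ncard_pair hab]
    obtain ⟨j, hj⟩ := IsPGroup.iff_card.1 (hT.to_subgroup W)
    rw [hj] at hle h3 ⊢
    have : j < 3 := by
      by_contra hc
      have := Nat.pow_le_pow_right (show 0 < 2 by norm_num) (not_lt.1 hc)
      omega
    interval_cases j <;> simp_all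
  by_cases hab' : ∀ x y : T, x * y = y * x
  · refine Or.inl ?_
    let V : Subgroup T :=
      { carrier := {x | x * x = 1}
        one_mem' := mul_one 1
        mul_mem' := fun {x y} hx hy => by
          show x * y * (x * y) = 1
          rw [mul_assoc, ← mul_assoc y, hab' y x, mul_assoc x y, show y * y = 1 from hy, mul_one,
            show x * x = 1 from hx]
        inv_mem' := fun {x} hx => by
          show x⁻¹ * x⁻¹ = 1
          rw [← mul_inv_rev, show x * x = 1 from hx, inv_one] }
    have hV4 : Nat.card V = 4 := card4 V ⟨⟨fun x y => Subtype.ext (hab' x y)⟩⟩ (fun w hw => hw)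
      fun x hx => hx
    obtain ⟨s, -, n, hn, ⟨e⟩⟩ := CfsgLib.Small.FoursFixed.homocyclic hT hab' φ V (fun x => Iff.rfl)
      hV4 (fun v hv => hfix v hv)
    exact ⟨n, hn, ⟨e.trans (MulEquiv.prodMultiplicative _ _).symm⟩⟩
  refine Or.inr ?_
  push Not at hab'
  have h22 : ∃ a b : T, a ≠ b ∧ a ≠ 1 ∧ a * a = 1 ∧ b ≠ 1 ∧ b * b = 1 :=
    ⟨a, b, hab, ha1, ha2, hb1, hb2⟩
  have hZ4 : Nat.card (Subgroup.center T) = 4 := card4 _ inferInstance
    (CfsgLib.Chev.Suz2.center_elementary (Nat.card T) T le_rfl hT hab' φ hk)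
    (fun x hx => CfsgLib.Chev.Suz2.invol_central hT φ hk hx)
  have h64 : Nat.card T = 64 := by
    rcases (CfsgLib.Chev.Suz2.card_cases hT hab' φ hk h22).2 with h | h
    · exfalso
      obtain ⟨K, _, _, ψ, hK, hψ, hodd, -⟩ := CfsgLib.Chev.Suz2.typeA_of_card hT hab' φ hk h
      rw [hZ4] at hK
      have hK0 : ∀ x : K, ψ x = 0 ↔ x = 0 := fun x => by simp
      have hK1 : ∀ x : K, ψ x = 1 ↔ x = 1 := fun x =>
        ⟨fun e => ψ.injective (e.trans (map_one ψ).symm), fun e => e ▸ map_one ψ⟩
      have h2ψ : ψ ^ 2 = 1 := by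
        refine RingEquiv.ext fun x => ?_
        show ψ (ψ x) = x
        rcases eq_or_ne x 0 with rfl | hx0
        · simp
        rcases eq_or_ne x 1 with rfl | hx1
        · simp
        by_contra hne
        have hd : ψ x ≠ x := fun e => hne (by rw [e, e])
        have hd2 : ψ (ψ x) ≠ ψ x := fun e => hd (ψ.injective e)
        have hc : ({0, 1, x, ψ x, ψ (ψ x)} : Finset K).card = 5 := by
          rw [Finset.card_insert_of_notMem (by
              simp [Ne.symm hx0, Ne.symm (mt (hK0 x).1 hx0),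
                Ne.symm (mt (hK0 (ψ x)).1 (mt (hK0 x).1 hx0))]),
            Finset.card_insert_of_notMem (by
              simp [Ne.symm hx1, Ne.symm (mt (hK1 x).1 hx1),
                Ne.symm (mt (hK1 (ψ x)).1 (mt (hK1 x).1 hx1))]),
            Finset.card_insert_of_notMem (by simp [hd.symm, Ne.symm hne]),
            Finset.card_insert_of_notMem (by simp [hd2.symm]), Finset.card_singleton]
        have := ({0, 1, x, ψ x, ψ (ψ x)} : Finset K).card_le_univ
        omega
      have hd := orderOf_dvd_of_pow_eq_one h2ψ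
      rcases (Nat.dvd_prime Nat.prime_two).1 hd with e | e
      · exact hψ (orderOf_eq_one_iff.1 e)
      · rw [e] at hodd; exact absurd hodd (by decide)
    · rw [h, hZ4]; norm_num
  obtain ⟨ρ, H, hi⟩ := CfsgLib.Small.Order64Three.hyp_of_trans hT h64 hZ4 hab' φ hk h22
  obtain ⟨ρ', H', hi'⟩ := CfsgLib.Small.Order64Three.psu_hyp hF P
  exact CfsgLib.Small.Order64Three.nonempty_mulEquiv_central H hi H' hi'

end Cfsg.Agent.S1237
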