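import Cfsg.Statements.S3784
import Mathlib

set_option autoImplicit false
open Cfsg

namespace Cfsg.Agent.S3784

/-- Let p, q be primes and a, b positive integers with p^a = q^b + 1. Then either p = 2, b = 1, a is prime and q = 2^a − 1; or q = 2, a = 1, b is a power of 2 and p = 2^b + 1; or p^a = 9 and q^b = 8. -/
theorem result (p q a b : ℕ) (hp : p.Prime) (hq : q.Prime) (ha : 1 ≤ a) (hb : 1 ≤ b) (h : p ^ a = q ^ b + 1) : (p = 2 ∧ b = 1 ∧ a.Prime ∧ q + 1 = 2 ^ a) ∨ (q = 2 ∧ a = 1 ∧ (∃ m : ℕ, b = 2 ^ m) ∧ p = 2 ^ b + 1) ∨ (p ^ a = 9 ∧ q ^ b = 8) := by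
  have hgeo : ∀ x n : ℕ, (∑ i ∈ Finset.range n, (x : ℤ) ^ i) * ((x : ℤ) - 1) = (x : ℤ) ^ n - 1 :=
    fun x n => geom_sum_mul _ n
  have hpar : p = 2 ∨ q = 2 := by
    by_contra hc
    rw [not_or] at hc
    have h1 : Odd (p ^ a) := (hp.odd_of_ne_two hc.1).pow
    have h2 : Odd (q ^ b) := (hq.odd_of_ne_two hc.2).pow
    rw [h] at h1
    exact Nat.not_even_iff_odd.2 h1 h2.add_one
  rcases hpar with rfl | rfl
  · left
    have hqodd : Odd q := by
      refine hq.odd_of_ne_two ?_
      rintro rfl
      have h1 : Even (2 ^ a) := even_two.pow_of_ne_zero (by omega)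
      rw [h] at h1
      have h2 : Even (2 ^ b) := even_two.pow_of_ne_zero (by omega)
      exact Nat.not_even_iff_odd.2 h2.add_one h1
    have hb1 : b = 1 := by
      rcases Nat.even_or_odd b with ⟨c, hc⟩ | hbo
      · exfalso
        obtain ⟨k, hk⟩ := (hqodd.pow : Odd (q ^ c))
        have h4 : q ^ b + 1 = 4 * (k * k + k) + 2 := by rw [hc, pow_add, hk]; ring
        have hq3 : 3 ≤ q := by have := hq.two_le; obtain ⟨j, hj⟩ := hqodd; omega
        have hqb : 3 ≤ q ^ b := hq3.trans (Nat.le_self_pow (by omega) q)
        obtain ⟨a', rfl⟩ : ∃ a', a = a' + 1 := ⟨a - 1, by omega⟩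
        rcases a' with _ | a'
        · rw [zero_add, pow_one] at h; omega
        · rw [pow_succ, pow_succ] at h; omega
      · -- the cofactor of `q + 1` is odd and divides a power of two
        obtain ⟨c, hc⟩ := hbo
        have hfac : ∀ c : ℕ, ∃ S : ℕ, Odd S ∧ q ^ (2 * c + 1) + 1 = (q + 1) * S ∧ (1 ≤ c → 1 < S) := by
          intro c
          induction c with
          | zero => exact ⟨1, odd_one, by simp, by omega⟩
          | succ c ih =>
            obtain ⟨S, hSo, hS, -⟩ := ih
            obtain ⟨r, hr⟩ : ∃ r, q = r + 1 := ⟨q - 1, by have := hq.two_le; omega⟩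
            have hkey : q ^ (2 * (c + 1) + 1) + 1 + (q + 1) * r = (q + 1) * (q * q * S) := by
              have : (q + 1) * (q * q * S) = q * q * ((q + 1) * S) := by ring
              rw [this, ← hS, hr]; ring
            have hpos : r < q * q * S := by
              have : 1 ≤ S := hSo.pos
              have := hq.two_le
              nlinarith
            refine ⟨q * q * S - r, ?_, ?_, fun _ => ?_⟩
            · rw [Nat.odd_sub hpos.le]
              have : Even r := by
                obtain ⟨j, hj⟩ := hqodd; exact ⟨j, by omega⟩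
              simp [this, (hqodd.mul hqodd).mul hSo]
            · rw [Nat.mul_sub, ← hkey, Nat.add_sub_cancel]
            · have : 1 ≤ S := hSo.pos
              have := hq.two_le
              have : r + 1 < q * q * S := by nlinarith
              omega
        obtain ⟨S, hSo, hS, hS1⟩ := hfac c
        rw [← hc] at hS
        have hdvd : S ∣ 2 ^ a := ⟨q + 1, by rw [h, hS, mul_comm]⟩
        obtain ⟨i, -, hi⟩ := (Nat.dvd_prime_pow Nat.prime_two).1 hdvd
        have hi0 : i = 0 := by
          by_contra h0
          rw [hi] at hSo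
          exact Nat.not_even_iff_odd.2 hSo (even_two.pow_of_ne_zero h0)
        rw [hi0, pow_zero] at hi
        rcases Nat.eq_zero_or_pos c with h0 | h0
        · omega
        · exact absurd (hS1 h0) (by omega)
    subst hb1
    rw [pow_one] at h
    refine ⟨rfl, rfl, ?_, h.symm⟩
    have hp' : (2 ^ a - 1).Prime := by rw [h]; simpa using hq
    refine (Nat.prime_of_pow_sub_one_prime ?_ hp').2
    rintro rfl
    exact Nat.not_prime_one (by simpa using hp')
  · right
    have hp2 : p ≠ 2 := by
      rintro rfl
      have h1 : Even (2 ^ a) := even_two.pow_of_ne_zero (by omega)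
      rw [h] at h1
      exact Nat.not_even_iff_odd.2 (even_two.pow_of_ne_zero (show b ≠ 0 by omega)).add_one h1
    have hpo := hp.odd_of_ne_two hp2
    by_cases ha1 : a = 1
    · left
      subst ha1
      rw [pow_one] at h
      exact ⟨rfl, rfl, Nat.pow_of_pow_add_prime one_lt_two (by omega) (h ▸ hp), h⟩
    · right
      obtain ⟨r, hr⟩ : ∃ r, p = r + 1 := ⟨p - 1, by have := hp.two_le; omega⟩
      rcases Nat.even_or_odd a with ⟨c, hc⟩ | hao
      · obtain ⟨x, hx⟩ : ∃ x, p ^ c = x + 1 := ⟨p ^ c - 1, by have := Nat.one_le_pow c p hp.pos; omega⟩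
        have hmul : x * (x + 2) = 2 ^ b := by
          rw [hc, pow_add, hx] at h
          nlinarith
        obtain ⟨i, -, hi⟩ := (Nat.dvd_prime_pow Nat.prime_two).1 ⟨x + 2, hmul.symm⟩
        obtain ⟨j, -, hj⟩ := (Nat.dvd_prime_pow Nat.prime_two).1 (Dvd.intro_left x hmul)
        have hi1 : i = 1 := by
          rcases i with _ | _ | i
          · exfalso
            rcases j with _ | j
            · omega
            · rw [pow_succ] at hj; omega
          · rfl
          · exfalso
            have hxpos : 0 < x := by rw [hi]; positivity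
            rcases j with _ | _ | j
            · omega
            · norm_num at hj; omega
            · rw [pow_succ, pow_succ] at hi
              rw [pow_succ, pow_succ] at hj
              omega
        subst hi1
        have hx2 : x = 2 := by simpa using hi
        subst hx2
        refine ⟨?_, by norm_num at hmul; omega⟩
        rw [hc, pow_add, hx]; norm_num
      · exfalso
        have hS : (∑ i ∈ Finset.range a, p ^ i) * r = 2 ^ b := by
          have h' := hgeo p a
          have h'' : (((∑ i ∈ Finset.range a, p ^ i) * r : ℕ) : ℤ) = ((2 ^ b : ℕ) : ℤ) := by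
            have h0 : ((p : ℤ)) ^ a = 2 ^ b + 1 := by exact_mod_cast h
            have h1 : (p : ℤ) - 1 = r := by rw [hr]; push_cast; ring
            rw [h0, h1] at h'
            push_cast
            linear_combination h'
          exact_mod_cast h''
        obtain ⟨i, -, hi⟩ := (Nat.dvd_prime_pow Nat.prime_two).1 (Dvd.intro r hS)
        have hodd : Odd (∑ i ∈ Finset.range a, p ^ i) := by
          rw [Finset.odd_sum_iff_odd_card_odd, Finset.filter_true_of_mem (fun i _ => hpo.pow),
            Finset.card_range]
          exact hao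
        have hi0 : i = 0 := by
          by_contra h0
          rw [hi] at hodd
          exact Nat.not_even_iff_odd.2 hodd (even_two.pow_of_ne_zero h0)
        have hle : ∑ i ∈ Finset.range 2, p ^ i ≤ ∑ i ∈ Finset.range a, p ^ i :=
          Finset.sum_le_sum_of_subset (Finset.range_mono (by omega))
        rw [hi, hi0, Finset.sum_range_succ, Finset.sum_range_one, pow_zero, pow_one] at hle
        have := hp.two_le
        omega

end Cfsg.Agent.S3784
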