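import Cfsg.Statements.S3781
import Cfsg.Agent.Lib.PGroups.Generation
open scoped commutatorElement

set_option autoImplicit false
open Cfsg

namespace Cfsg.Agent.S3781

/-- Let G be a finite p-group and n ≥ 1, and write γ_1(G) = G, γ_{k+1}(G) = [γ_k(G), G], and likewise γ_k(N) for a subgroup N. Let N be a normal subgroup of G contained in γ_n(G). If i > 1 and γ_{i+1}(N) ≠ 1, then |γ_i(N) : γ_{i+1}(N)| ≥ p^n. -/
theorem result {G : Type*} [Group G] [Finite G] {p : ℕ} [Fact p.Prime] (hG : IsPGroup p G) (n : ℕ) (hn : 1 ≤ n) (N : Subgroup G) [N.Normal] (hN : N ≤ (⊤ : Subgroup G).lowerCentralSeries (n - 1)) (i : ℕ) (hi : 1 < i) (hne : N.lowerCentralSeries i ≠ ⊥) : p ^ n ≤ (N.lowerCentralSeries i).relIndex (N.lowerCentralSeries (i - 1)) := by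
  have hp : p.Prime := Fact.out
  have hR : ∀ (m : ℕ) (X K : Subgroup G), X.Normal → K.Normal → K ≤ X → K.relIndex X ≤ p ^ m →
      ⁅X, (⊤ : Subgroup G).lowerCentralSeries m⁆ ≤ ⁅K, (⊤ : Subgroup G)⁆ := by
    intro m
    induction m with
    | zero =>
      intro X K hX hK hKX hle
      have h1 : K.relIndex X = 1 := le_antisymm (by simpa using hle)
        (Nat.one_le_iff_ne_zero.mpr Subgroup.FiniteIndex.index_ne_zero)
      rw [le_antisymm hKX (Subgroup.relIndex_eq_one.mp h1), Subgroup.lowerCentralSeries_zero]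
    | succ m ih =>
      intro X K hX hK hKX hle
      by_cases hsm : K.relIndex X ≤ p ^ m
      · exact (Subgroup.commutator_mono le_rfl (Subgroup.lowerCentralSeries_antitone _ (Nat.le_succ m))).trans
          (ih X K hX hK hKX hsm)
      haveI := hX
      haveI := hK
      have hlt : K < X := lt_of_le_of_ne hKX fun h => hsm (by
        rw [h, Subgroup.relIndex_self]; exact Nat.one_le_pow _ _ hp.pos)
      rw [Subgroup.lowerCentralSeries_succ]
      refine CfsgLib.PGroups.commutator_commutator_le_sup.trans (sup_le ?_ ?_)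
      · refine Subgroup.commutator_mono ?_ le_rfl
        obtain ⟨K', hK'n, hKK', hK'X, hrel, hcent⟩ := CfsgLib.PGroups.exists_normal_index_prime hG hlt
        have h1 : K'.relIndex X ≤ p ^ m := by
          have h2 := Subgroup.relIndex_mul_relIndex K K' X hKK' hK'X
          rw [hrel] at h2
          refine Nat.le_of_mul_le_mul_left ?_ hp.pos
          rw [h2, ← pow_succ']; exact hle
        refine (ih X K' hX hK'n hK'X h1).trans ?_
        rw [Subgroup.commutator_comm, Subgroup.commutator_le]
        exact fun g _ k hk => hcent k hk g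
      · have hle' : ⁅X, (⊤ : Subgroup G)⁆ ⊔ K ≤ X := sup_le (Subgroup.commutator_le_left X ⊤) hKX
        refine (Subgroup.commutator_mono le_sup_left le_rfl).trans
          (ih (⁅X, (⊤ : Subgroup G)⁆ ⊔ K) K inferInstance hK le_sup_right ?_)
        have hne : ⁅X, (⊤ : Subgroup G)⁆ ⊔ K ≠ X := by
          intro he
          let f := QuotientGroup.mk' K
          haveI : (X.map f).Normal := Subgroup.Normal.map hX f (QuotientGroup.mk'_surjective K)
          have hne : X.map f ≠ ⊥ := by
            rw [Ne, Subgroup.map_eq_bot_iff, QuotientGroup.ker_mk']; exact hlt.not_ge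
          refine (CfsgLib.PGroups.commutator_top_lt (hG.to_quotient K) hne).ne ?_
          conv_rhs => rw [← he]
          rw [Subgroup.map_sup, QuotientGroup.map_mk'_self, sup_bot_eq, Subgroup.map_commutator,
            Subgroup.map_top_of_surjective f (QuotientGroup.mk'_surjective K)]
        have h2 := Subgroup.relIndex_mul_relIndex K _ X le_sup_right hle'
        obtain ⟨e, he⟩ := (hG.to_subgroup X).index ((⁅X, (⊤ : Subgroup G)⁆ ⊔ K).subgroupOf X)
        rcases e with _ | e
        · exact absurd (le_antisymm hle' (Subgroup.relIndex_eq_one.mp (he.trans (pow_zero p)))) hne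
        · refine Nat.le_of_mul_le_mul_right (le_trans ?_ (h2.le.trans (hle.trans (pow_succ p m).le))) hp.pos
          refine Nat.mul_le_mul_left _ ?_
          show p ≤ (⁅X, (⊤ : Subgroup G)⁆ ⊔ K).relIndex X
          exact le_trans (Nat.le_self_pow (Nat.succ_ne_zero e) p) (le_of_eq he.symm)
  obtain ⟨j, rfl⟩ : ∃ j, i = j + 1 := ⟨i - 1, by omega⟩
  rw [Nat.add_sub_cancel]
  have hnorm : ∀ k, (N.lowerCentralSeries k).Normal := by
    intro k
    induction k with
    | zero => simpa using (inferInstance : N.Normal)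
    | succ k ih => rw [Subgroup.lowerCentralSeries_succ]; haveI := ih; infer_instance
  by_contra hlt
  push Not at hlt
  obtain ⟨e, he⟩ := (hG.to_subgroup (N.lowerCentralSeries j)).index
    ((N.lowerCentralSeries (j + 1)).subgroupOf (N.lowerCentralSeries j))
  have he' : (N.lowerCentralSeries (j + 1)).relIndex (N.lowerCentralSeries j) ≤ p ^ (n - 1) := by
    have he2 : (N.lowerCentralSeries (j + 1)).relIndex (N.lowerCentralSeries j) = p ^ e := he
    rw [he2] at hlt ⊢
    have := (Nat.pow_lt_pow_iff_right hp.one_lt).mp hlt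
    exact Nat.pow_le_pow_right hp.pos (by omega)
  have h := hR (n - 1) _ _ (hnorm j) (hnorm (j + 1))
    (Subgroup.lowerCentralSeries_antitone _ (Nat.le_succ j)) he'
  haveI := hnorm (j + 1)
  refine (CfsgLib.PGroups.commutator_top_lt hG hne).not_ge (le_trans ?_ h)
  rw [Subgroup.lowerCentralSeries_succ]
  exact Subgroup.commutator_mono le_rfl hN

end Cfsg.Agent.S3781
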