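import Cfsg.Statements.S3776
import Cfsg.Agent.Lib.Chev.Suz2Gen.Scalar
import Cfsg.Agent.Lib.Chev.Suz2Gen.SquaresCentral
import Cfsg.Agent.Lib.PGroups.Basic
-- import your own Cfsg.Agent.* helpers here

set_option autoImplicit false
open Cfsg

namespace Cfsg.Agent.S3776

/-- Let G be a finite non-abelian 2-group with more than one involution admitting a solvable group of automorphisms that permutes its involutions transitively. Then the derived subgroup, the Frattini subgroup and the centre of G coincide and consist exactly of the elements x with x² = 1. -/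
theorem result {G : Type*} [Group G] [Finite G] (hG : IsPGroup 2 G) (hna : ¬ IsMulCommutative G) (htwo : ∃ x y : G, x ≠ y ∧ x ≠ 1 ∧ x ^ 2 = 1 ∧ y ≠ 1 ∧ y ^ 2 = 1) (hY : ∃ Y : Subgroup (MulAut G), Group.IsSolvable Y ∧ ∀ x y : G, x ≠ 1 → x ^ 2 = 1 → y ≠ 1 → y ^ 2 = 1 → ∃ a ∈ Y, a x = y) : commutator G = frattini G ∧ frattini G = Subgroup.center G ∧ ∀ x : G, x ∈ Subgroup.center G ↔ x ^ 2 = 1 := by
  obtain ⟨Y, hYs, hYt⟩ := hY
  obtain ⟨a, b, hab, ha, ha', hb, hb'⟩ := htwo
  rw [pow_two] at ha' hb'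
  have htr : ∀ x y : G, x ≠ 1 → x * x = 1 → y ≠ 1 → y * y = 1 → ∃ g ∈ Y, g x = y :=
    fun x y h1 h2 h3 h4 => hYt x y h1 (by rw [pow_two, h2]) h3 (by rw [pow_two, h4])
  have htr' : ∀ x y : G, x ≠ 1 → x * x = 1 → y ≠ 1 → y * y = 1 → ∃ g : MulAut G, g x = y :=
    fun x y h1 h2 h3 h4 => let ⟨g, _, hg⟩ := htr x y h1 h2 h3 h4; ⟨g, hg⟩
  obtain ⟨k, hk⟩ := CfsgLib.Chev.Suz2Gen.exists_irr hG Y hYs htr ⟨a, ha, ha'⟩
  have hna' : ∃ x y : G, x * y ≠ y * x := by
    by_contra h
    push Not at h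
    exact hna ⟨⟨h⟩⟩
  have hsq := CfsgLib.Chev.Suz2Gen.squares_central hG hna' k hk ⟨a, b, hab, ha, ha', hb, hb'⟩ htr'
  have hZ : ∀ x : G, x ∈ Subgroup.center G ↔ x ^ 2 = 1 := fun x => by
    rw [pow_two]
    exact ⟨fun h => CfsgLib.Chev.Suz2Gen.center_elementary (Nat.card G) G le_rfl hG hna' k hk x h,
      fun h => hk.central x h⟩
  have hcomm : commutator G ≤ Subgroup.center G := by
    rw [commutator_def, Subgroup.commutator_le]
    intro x _ y _
    have hsqq : ∀ q : G ⧸ Subgroup.center G, q * q = 1 := fun q => by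
      obtain ⟨q, rfl⟩ := QuotientGroup.mk_surjective q
      rw [← QuotientGroup.mk_mul, QuotientGroup.eq_one_iff]
      exact hsq q
    rw [← QuotientGroup.eq_one_iff, ← QuotientGroup.mk'_apply, map_commutatorElement,
      commutatorElement_eq_one_iff_mul_comm]
    generalize QuotientGroup.mk' (Subgroup.center G) x = p
    generalize QuotientGroup.mk' (Subgroup.center G) y = q
    calc p * q = (p * q)⁻¹ := eq_inv_of_mul_eq_one_left (hsqq _)
      _ = q⁻¹ * p⁻¹ := mul_inv_rev _ _
      _ = q * p := by rw [← eq_inv_of_mul_eq_one_left (hsqq q), ← eq_inv_of_mul_eq_one_left (hsqq p)]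
  have hle : Subgroup.center G ≤ commutator G := by
    have hne : ∃ x ∈ commutator G, x ≠ 1 := by
      by_contra h
      push Not at h
      obtain ⟨x, y, hxy⟩ := hna'
      exact hxy (commutatorElement_eq_one_iff_mul_comm.1
        (h _ (Subgroup.commutator_mem_commutator (Subgroup.mem_top x) (Subgroup.mem_top y))))
    obtain ⟨x, hx, hx1⟩ := hne
    obtain ⟨t, ht, ht2, ht1⟩ := CfsgLib.Chev.Suz2Gen.exists_involution hG hx hx1
    intro z hz
    rcases eq_or_ne z 1 with rfl | hz1
    · exact one_mem _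
    obtain ⟨g, rfl⟩ := htr' t z ht1 ht2 hz1 (by rw [← pow_two]; exact (hZ z).1 hz)
    rw [commutator_def] at ht ⊢
    have h := Subgroup.mem_map_of_mem g.toMonoidHom ht
    rw [Subgroup.map_commutator, Subgroup.map_top_of_surjective g.toMonoidHom g.surjective] at h
    exact h
  have hG' : commutator G = Subgroup.center G := le_antisymm hcomm hle
  have hF : frattini G = Subgroup.center G := le_antisymm
    (CfsgLib.PGroups.frattini_le_of_elementary_quotient (p := 2) hcomm fun g => by rw [pow_two]; exact hsq g)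
    (hG' ▸ CfsgLib.PGroups.commutator_le_frattini hG)
  exact ⟨hG'.trans hF.symm, hF, hZ⟩

end Cfsg.Agent.S3776
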