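import Cfsg.Statements.S2585
-- import your own Cfsg.Agent.* helpers here

set_option autoImplicit false
open Cfsg
open scoped Matrix

namespace Cfsg.Agent.S2585

/-- Over a finite field of characteristic two every element of the symplectic group is orthogonal for a suitable quadratic form: for each A in Sp_2m(F) there is a quadratic form Q on F^(2m) whose polar form is the alternating form defining Sp_2m(F) (so Q is non-degenerate) and which A preserves. Equivalently, for m ≥ 1, Sp_2m(F) is the union of the conjugates of its two orthogonal subgroups O⁺_2m(F) and O⁻_2m(F). -/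
theorem result {F : Type*} [Field F] [Fintype F] [CharP F 2] {m : ℕ} (A : Matrix.symplecticGroup (Fin m) F) : ∃ Q : QuadraticForm F (Fin m ⊕ Fin m → F), (∀ u v : Fin m ⊕ Fin m → F, QuadraticMap.polar ⇑Q u v = Cfsg.sympForm m F u v) ∧ ∀ v : Fin m ⊕ Fin m → F, Q ((A : Matrix (Fin m ⊕ Fin m) (Fin m ⊕ Fin m) F).mulVec v) = Q v := by
  classical
  have : PerfectRing F 2 := PerfectField.toPerfectRing 2
  set M : Matrix (Fin m ⊕ Fin m) (Fin m ⊕ Fin m) F := (A : Matrix (Fin m ⊕ Fin m) (Fin m ⊕ Fin m) F) with hM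
  set f := Cfsg.sympForm m F with hf
  let Q₀ : QuadraticForm F (Fin m ⊕ Fin m → F) :=
    ∑ i : Fin m, QuadraticMap.linMulLin (LinearMap.proj (Sum.inl i)) (LinearMap.proj (Sum.inr i))
  have hQ₀ : ∀ u, Q₀ u = ∑ i : Fin m, u (Sum.inl i) * u (Sum.inr i) := by
    intro u; simp [Q₀]
  have hfdef : ∀ u v, f u v = ∑ i : Fin m, (u (Sum.inl i) * v (Sum.inr i) + u (Sum.inr i) * v (Sum.inl i)) := by
    intro u v
    simp [hf, Cfsg.sympForm, Matrix.J, dotProduct, Matrix.mulVec, Fintype.sum_sum_type, Matrix.fromBlocks,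
      Matrix.one_apply, Finset.sum_add_distrib, CharTwo.neg_eq]
  have hpol : ∀ u v, Q₀ (u + v) = Q₀ u + Q₀ v + f u v := by
    intro u v
    simp only [hQ₀, hfdef, ← Finset.sum_add_distrib, Pi.add_apply]
    exact Finset.sum_congr rfl fun i _ => by ring
  have hinv : ∀ u v, f (M *ᵥ u) (M *ᵥ v) = f u v := by
    intro u v
    have h1 := SymplecticGroup.mem_iff'.1 A.2
    simp only [hf, Cfsg.sympForm, hM]
    conv_lhs =>
      rw [← Matrix.vecMul_transpose, ← Matrix.dotProduct_mulVec, Matrix.mulVec_mulVec, Matrix.mulVec_mulVec,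
        h1]
  let ℓ : (Fin m ⊕ Fin m → F) →ₗ[F] F :=
    { toFun := fun v => (frobeniusEquiv F 2).symm (Q₀ (M *ᵥ v) + Q₀ v)
      map_add' := fun u v => by
        refine Eq.trans ?_ (map_add (frobeniusEquiv F 2).symm _ _)
        congr 1
        rw [Matrix.mulVec_add, hpol, hpol, hinv]
        linear_combination CharTwo.add_self_eq_zero (f u v)
      map_smul' := fun c v => by
        apply (frobeniusEquiv F 2).injective
        rw [RingEquiv.apply_symm_apply, RingHom.id_apply, smul_eq_mul, map_mul, RingEquiv.apply_symm_apply,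
          frobeniusEquiv_apply, frobenius_def, Matrix.mulVec_smul, QuadraticMap.map_smul, QuadraticMap.map_smul,
          smul_eq_mul, smul_eq_mul]
        ring }
  let D : (Fin m ⊕ Fin m → F) →ₗ[F] (Fin m ⊕ Fin m → F) := Matrix.mulVecLin M + LinearMap.id
  have hker : ℓ ∈ (LinearMap.ker D).dualAnnihilator := by
    rw [Submodule.mem_dualAnnihilator]
    intro v hv
    have hv' : M *ᵥ v = v := by
      have h' : M *ᵥ v + v = 0 := by simpa [D] using hv
      funext i
      exact CharTwo.add_eq_zero.1 (congrFun h' i)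
    show (frobeniusEquiv F 2).symm _ = 0
    rw [hv', CharTwo.add_self_eq_zero, map_zero]
  rw [← LinearMap.range_dualMap_eq_dualAnnihilator_ker] at hker
  obtain ⟨lam, hlam⟩ := hker
  refine ⟨Q₀ + QuadraticMap.linMulLin lam lam, ?_, ?_⟩
  · intro u v
    simp only [QuadraticMap.polar, add_apply, QuadraticMap.linMulLin_apply, map_add, hpol, hf]
    linear_combination (CharTwo.add_self_eq_zero (lam u * lam v))
  · intro v
    have h1 : lam (M *ᵥ v) + lam v = ℓ v := by rw [← hlam]; simp [D]
    have h2 : ℓ v * ℓ v = Q₀ (M *ᵥ v) + Q₀ v := by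
      have := (frobeniusEquiv F 2).apply_symm_apply (Q₀ (M *ᵥ v) + Q₀ v)
      rw [frobeniusEquiv_apply, frobenius_def, sq] at this
      exact this
    rw [← h1] at h2
    simp only [add_apply, QuadraticMap.linMulLin_apply]
    rw [← CharTwo.add_eq_zero]
    linear_combination h2 + CharTwo.add_self_eq_zero (Q₀ (M *ᵥ v) + Q₀ v) - CharTwo.add_self_eq_zero (lam (M *ᵥ v) * lam v)

end Cfsg.Agent.S2585
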