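import Cfsg.Statements.S2165


set_option autoImplicit false
open Cfsg

namespace Cfsg.Agent.S2165

/-- In SU_n(q), q even, n ≥ 3 (matrices of determinant 1 over the field with q² elements preserving Σ u_i v_i^q): for every ℓ with 1 ≤ ℓ and 2ℓ ≤ n, the permutation matrix of the involution of {0, …, n−1} exchanging i and n − ℓ + i for each i < ℓ lies in SU_n(q), has order 2, and differs from the identity by a matrix of rank ℓ. So every rank between 1 and n/2 occurs for involutions of SU_n(q). -/
theorem result {F : Type*} [Field F] [Fintype F] [CharP F 2] {n q : ℕ} (hF : Fintype.card F = q ^ 2) (hn : 3 ≤ n) (ℓ : ℕ) (h1 : 1 ≤ ℓ) (h2 : 2 * ℓ ≤ n) :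
    ∃ a : ↥(Cfsg.SU n F q), (((a : Matrix.SpecialLinearGroup (Fin n) F) : Matrix (Fin n) (Fin n) F) = Matrix.of (fun i j : Fin n => if (j.val < ℓ ∧ i.val = j.val + (n - ℓ)) ∨ (i.val < ℓ ∧ j.val = i.val + (n - ℓ)) ∨ (i = j ∧ ℓ ≤ i.val ∧ i.val < n - ℓ) then (1 : F) else 0)) ∧ orderOf a = 2 ∧ ((((a : Matrix.SpecialLinearGroup (Fin n) F) : Matrix (Fin n) (Fin n) F)) - 1).rank = ℓ := by
  classical
  obtain ⟨f, hf⟩ : ∃ f : Equiv.Perm (Fin n), f * f = 1 ∧ ∀ i : Fin n, (f i).val =
      if i.val < ℓ then i.val + (n - ℓ) else if n - ℓ ≤ i.val then i.val - (n - ℓ) else i.val := by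
    let g : Fin n → Fin n := fun i =>
      ⟨if i.val < ℓ then i.val + (n - ℓ) else if n - ℓ ≤ i.val then i.val - (n - ℓ) else i.val,
        by have := i.2; split_ifs <;> omega⟩
    have hg : Function.Involutive g := fun i => by
      apply Fin.ext
      simp only [g]
      have := i.2
      split_ifs <;> omega
    exact ⟨hg.toPerm g, Equiv.ext hg, fun i => rfl⟩
  obtain ⟨hff, hfv⟩ := hf
  have hffi : ∀ i, f (f i) = i := fun i => Equiv.congr_fun hff i
  set M : Matrix (Fin n) (Fin n) F := Equiv.Perm.permMatrix F f with hMdef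
  have hM : M = Matrix.of (fun i j : Fin n => if (j.val < ℓ ∧ i.val = j.val + (n - ℓ)) ∨ (i.val < ℓ ∧ j.val = i.val + (n - ℓ)) ∨ (i = j ∧ ℓ ≤ i.val ∧ i.val < n - ℓ) then (1 : F) else 0) := by
    ext i j
    simp only [hMdef, Equiv.Perm.permMatrix, PEquiv.toMatrix_apply, Equiv.toPEquiv_apply,
      Option.mem_def, Option.some.injEq, Matrix.of_apply]
    refine if_congr ?_ rfl rfl
    rw [Fin.ext_iff, hfv i, Fin.ext_iff]
    have := i.2; have := j.2
    constructor <;> intro h <;> split_ifs at * <;> omega
  have hdet : M.det = 1 := by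
    rw [hMdef, Matrix.det_permutation]
    rcases Int.units_eq_one_or (Equiv.Perm.sign f) with h | h <;> rw [h] <;> simp [CharTwo.neg_eq]
  have hmv : ∀ (u : Fin n → F) i, M.mulVec u i = u (f i) := fun u i => by
    rw [hMdef, Matrix.permMatrix_mulVec]; rfl
  have hmem : (⟨M, hdet⟩ : Matrix.SpecialLinearGroup (Fin n) F) ∈ Cfsg.SU n F q := by
    intro u v
    show ∑ i, M.mulVec u i * (M.mulVec v i) ^ q = ∑ i, u i * v i ^ q
    simp only [hmv]
    exact Equiv.sum_comp f (fun i => u i * v i ^ q)
  let R : Fin ℓ → Fin n := fun k => ⟨k.val + (n - ℓ), by omega⟩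
  let C : Fin ℓ → Fin n := fun k => ⟨k.val, by omega⟩
  let W : Matrix (Fin n) (Fin ℓ) F :=
    Matrix.of fun i k => if i.val = k.val ∨ i.val = k.val + (n - ℓ) then 1 else 0
  have hrank : (M - 1).rank = ℓ := by
    apply le_antisymm
    · have hW : M - 1 = W * W.transpose := by
        ext i j
        rw [Matrix.mul_apply]
        have hi := i.2; have hj := j.2
        by_cases hmid : ℓ ≤ i.val ∧ i.val < n - ℓ
        · rw [Finset.sum_eq_zero fun k _ => by
            have := k.2
            simp only [W, Matrix.of_apply, Matrix.transpose_apply]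
            rw [if_neg (by omega : ¬ (i.val = k.val ∨ i.val = k.val + (n - ℓ))), zero_mul]]
          rw [Matrix.sub_apply, Matrix.one_apply, hM, Matrix.of_apply]
          by_cases hij : i = j
          · rw [if_pos (Or.inr (Or.inr ⟨hij, hmid⟩)), if_pos hij, sub_self]
          · rw [if_neg (by rintro (h | h | h); · omega
                           · omega
                           · exact hij h.1), if_neg hij, sub_self]
        · let k₀ : Fin ℓ := if h : i.val < ℓ then ⟨i.val, h⟩ else ⟨i.val - (n - ℓ), by omega⟩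
          have hk₀ : i.val = k₀.val ∨ i.val = k₀.val + (n - ℓ) := by
            simp only [k₀]; split_ifs <;> simp <;> omega
          rw [Finset.sum_eq_single k₀ (fun k _ hk => by
            have := k.2; have := k₀.2
            simp only [W, Matrix.of_apply, Matrix.transpose_apply]
            rw [if_neg fun e => hk (Fin.ext (by omega)), zero_mul]) (by simp)]
          simp only [W, Matrix.of_apply, Matrix.transpose_apply, if_pos hk₀, one_mul,
            Matrix.sub_apply, Matrix.one_apply, hM, Fin.ext_iff]
          have := k₀.2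
          split_ifs <;> first | (simp [CharTwo.neg_eq]; done) | omega
      rw [hW]
      exact (Matrix.rank_mul_le_left _ _).trans ((Matrix.rank_le_card_width _).trans (by simp))
    · have hsub : (M - 1).submatrix R C = 1 := by
        ext a b
        rw [Matrix.submatrix_apply, Matrix.sub_apply, hM, Matrix.of_apply]
        have := a.2; have := b.2
        simp only [R, C, Matrix.one_apply, Fin.ext_iff]
        split_ifs <;> first | (simp; done) | omega
      have := Matrix.rank_submatrix_le (M - 1) R C
      rw [hsub, Matrix.rank_one, Fintype.card_fin] at this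
      exact this
  refine ⟨⟨⟨M, hdet⟩, hmem⟩, hM, ?_, hrank⟩
  apply orderOf_eq_prime
  · apply Subtype.ext
    apply Subtype.ext
    rw [SubmonoidClass.coe_pow, Matrix.SpecialLinearGroup.coe_pow]
    show M ^ 2 = 1
    rw [sq, hMdef, ← Matrix.permMatrix_mul, hff, Matrix.permMatrix_one]
  · intro h
    have h' : M = 1 := congrArg (fun x : ↥(Cfsg.SU n F q) => ((x : Matrix.SpecialLinearGroup (Fin n) F) : Matrix (Fin n) (Fin n) F)) h
    rw [h', sub_self, Matrix.rank_zero] at hrank
    omega

end Cfsg.Agent.S2165
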