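import Cfsg.Statements.S0219
import Cfsg.Agent.Lib.Involutions.Isolated

set_option autoImplicit false
open Cfsg

namespace Cfsg.Agent.S0219

/-- If a finite group has even order and a cyclic Sylow 2-subgroup, then it has a subgroup of index 2 (consider the parity of permutations in the regular representation). -/
theorem result {G : Type*} [Group G] [Finite G] (heven : Even (Nat.card G)) (T : Sylow 2 G) (hT : IsCyclic (T : Subgroup G)) : ∃ H : Subgroup G, H.index = 2 := by
  have hp : (Nat.card G).minFac = 2 := (Nat.minFac_eq_two_iff _).2 (even_iff_two_dvd.1 heven)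
  have hc := IsCyclic.isComplement' hp hT
  set f := MonoidHom.transferSylow T (hT.normalizer_le_centralizer hp) with hf
  have hker : f.ker.index = Nat.card T := hc.symm.index_eq_card
  have hrange : Function.Surjective f := by
    rw [← MonoidHom.range_eq_top]
    refine Subgroup.eq_top_of_card_eq _ ?_
    rw [← Subgroup.index_ker, hker]
  obtain ⟨m, hm⟩ := IsPGroup.iff_card.1 T.isPGroup'
  have hm0 : m ≠ 0 := by
    intro h
    apply T.ne_bot_of_dvd_card (even_iff_two_dvd.1 heven)
    exact Subgroup.eq_bot_of_card_eq _ (by rw [hm, h, pow_zero])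
  obtain ⟨K, hK⟩ := Sylow.exists_subgroup_card_pow_prime 2 (G := (T : Subgroup G)) (n := m - 1)
    (hm ▸ pow_dvd_pow 2 (Nat.sub_le m 1))
  refine ⟨K.comap f, ?_⟩
  rw [Subgroup.index_comap_of_surjective _ hrange]
  have := K.index_mul_card
  rw [hm, hK, show (2:ℕ) ^ m = 2 * 2 ^ (m - 1) by rw [← pow_succ']; congr 1; omega] at this
  exact Nat.eq_of_mul_eq_mul_right (by positivity) this

end Cfsg.Agent.S0219
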