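import Cfsg.Statements.S0949
import Cfsg.Agent.Lib.Blocks.Homocyclic
import Cfsg.Agent.Lib.BlockOrth.Subsection

set_option autoImplicit false
open Cfsg

set_option linter.style.haveILetI false

namespace Cfsg.Agent.S0949

/-- Let the finite group G have a Sylow 2-subgroup P isomorphic to Z/2^m × Z/2^m with m ≥ 2, and suppose G has no nontrivial normal subgroup of odd order. Then P is normal in G, C_G(P) = P, and the index of P is 1 or 3. -/
theorem result {G : Type*} [Group G] [Finite G] (P : Sylow 2 G) (m : ℕ) (hm : 2 ≤ m) (e : (P : Subgroup G) ≃* Multiplicative (ZMod (2 ^ m) × ZMod (2 ^ m))) (hO : ∀ N : Subgroup G, N.Normal → Odd (Nat.card N) → N = ⊥) : (P : Subgroup G).Normal ∧ Subgroup.centralizer (P : Set G) = (P : Subgroup G) ∧ ((P : Subgroup G).index = 1 ∨ (P : Subgroup G).index = 3) := by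
  classical
  haveI := Fintype.ofFinite G
  haveI : Fact (Nat.Prime 2) := ⟨Nat.prime_two⟩
  obtain ⟨M, hMax, h2M⟩ := CfsgLib.BlockOrth.exists_maximal_above 2
  have h := CfsgLib.Blocks.fewInvolutions_of_homocyclic P m (by omega) e
  have h4 : 4 < Nat.card P := by
    rw [Nat.card_congr e.toEquiv, Nat.card_congr Multiplicative.toAdd, Nat.card_prod, Nat.card_zmod,
      ← pow_add]
    calc 4 < 2 ^ 4 := by norm_num
      _ ≤ 2 ^ (m + m) := Nat.pow_le_pow_right (by norm_num) (by omega)
  have hn : (P : Subgroup G).Normal := CfsgLib.Blocks.sylow_normal_of_fewInvolutions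
    (M := M) ⟨Nat.prime_two, hMax, h2M⟩ _ G le_rfl hO P h h4
  haveI := hn
  have hC := CfsgLib.Blocks.centralizer_eq_of_normal hO h
  refine ⟨hn, hC, ?_⟩
  have hr := h.relIndex_eq
  rwa [hC, Subgroup.normalizer_eq_top, Subgroup.relIndex_top_right] at hr

end Cfsg.Agent.S0949
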