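import Cfsg.Statements.S2427
-- import your own Cfsg.Agent.* helpers here

set_option autoImplicit false
open Cfsg

namespace Cfsg.Agent.S2427

/-- The group SL₂ over the field with 3 elements has order 24 and centre of order 2; its commutator subgroup has order 8, is isomorphic to the quaternion group of order 8 and is complemented by every Sylow 3-subgroup (so the group is a semidirect product of a quaternion group of order 8 by a cyclic group of order 3); and its only normal subgroups besides the trivial subgroup and the whole group are the centre and the commutator subgroup. -/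
theorem result :
    Nat.card (Matrix.SpecialLinearGroup (Fin 2) (ZMod 3)) = 24 ∧
    Nat.card (Subgroup.center (Matrix.SpecialLinearGroup (Fin 2) (ZMod 3))) = 2 ∧
    Nat.card (commutator (Matrix.SpecialLinearGroup (Fin 2) (ZMod 3))) = 8 ∧
    Nonempty (commutator (Matrix.SpecialLinearGroup (Fin 2) (ZMod 3)) ≃* QuaternionGroup 2) ∧
    (∀ P : Sylow 3 (Matrix.SpecialLinearGroup (Fin 2) (ZMod 3)),
      Subgroup.IsComplement' (commutator (Matrix.SpecialLinearGroup (Fin 2) (ZMod 3)))
        (P : Subgroup (Matrix.SpecialLinearGroup (Fin 2) (ZMod 3)))) ∧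
    ∀ N : Subgroup (Matrix.SpecialLinearGroup (Fin 2) (ZMod 3)), N.Normal →
      N = ⊥ ∨ N = ⊤ ∨ N = Subgroup.center (Matrix.SpecialLinearGroup (Fin 2) (ZMod 3)) ∨
        N = commutator (Matrix.SpecialLinearGroup (Fin 2) (ZMod 3)) := by
  set G := Matrix.SpecialLinearGroup (Fin 2) (ZMod 3)
  have h24 : Nat.card G = 24 := by rw [Nat.card_eq_fintype_card]; decide +kernel
  have hmul : ∀ x y : G, x ^ 4 = 1 → y ^ 4 = 1 → (x * y) ^ 4 = 1 := by decide +kernel
  have hcom : ∀ a b : G, (a * b * a⁻¹ * b⁻¹) ^ 4 = 1 := by decide +kernel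
  have hex : ∀ x : G, x ^ 4 = 1 → ∃ a b : G, a * b * a⁻¹ * b⁻¹ = x := by decide +kernel
  have hC : ∀ x : G, x ∈ commutator G ↔ x ^ 4 = 1 := by
    let Q : Subgroup G :=
      { carrier := {x | x ^ 4 = 1}
        one_mem' := one_pow 4
        mul_mem' := fun ha hb => hmul _ _ ha hb
        inv_mem' := fun {x} hx => by
          show x⁻¹ ^ 4 = 1
          rw [inv_pow, show x ^ 4 = 1 from hx, inv_one] }
    intro x
    refine ⟨fun hx => ?_, fun hx => ?_⟩
    · have hle : commutator G ≤ Q := by
        rw [commutator_def, Subgroup.commutator_le]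
        exact fun a _ b _ => hcom a b
      exact hle hx
    · obtain ⟨a, b, rfl⟩ := hex x hx
      exact Subgroup.commutator_mem_commutator (Subgroup.mem_top a) (Subgroup.mem_top b)
  have hc8 : Nat.card (commutator G) = 8 := by
    rw [Nat.card_congr (Equiv.subtypeEquivRight hC), Nat.card_eq_fintype_card]
    decide +kernel
  have hZ : ∀ x : G, x ∈ Subgroup.center G ↔ x ^ 2 = 1 := by
    intro x
    rw [Subgroup.mem_center_iff]
    revert x
    decide +kernel
  refine ⟨h24, ?_, hc8, ?_, ?_, ?_⟩
  · rw [Nat.card_congr (Equiv.subtypeEquivRight hZ), Nat.card_eq_fintype_card]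
    decide +kernel
  · let I : G := ⟨!![0, 2; 1, 0], by decide⟩
    let J : G := ⟨!![1, 1; 1, 2], by decide⟩
    let f : QuaternionGroup 2 → G := fun q =>
      match q with
      | .a i => I ^ i.val
      | .xa i => J * I ^ i.val
    have hm : ∀ a b, f (a * b) = f a * f b := by decide +kernel
    have hr : ∀ a, f a ^ 4 = 1 := by decide +kernel
    let φ : QuaternionGroup 2 →* commutator G :=
      MonoidHom.mk' (fun q => ⟨f q, (hC _).2 (hr q)⟩) fun a b => Subtype.ext (hm a b)
    have hfi : ∀ a b, f a = f b → a = b := by decide +kernel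
    have hinj : Function.Injective φ := fun a b h => hfi a b (congrArg Subtype.val h)
    have hb : Function.Bijective φ := (Nat.bijective_iff_injective_and_card φ).2
      ⟨hinj, by rw [hc8, Nat.card_eq_fintype_card, QuaternionGroup.card]⟩
    exact ⟨(MulEquiv.ofBijective φ hb).symm⟩
  · intro P
    have hP : Nat.card (P : Subgroup G) = 3 := by
      rw [P.card_eq_multiplicity, h24, Nat.factorization_def _ Nat.prime_three,
        show (24 : ℕ) = 3 * 8 from rfl, padicValNat.mul (by norm_num) (by norm_num),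
        padicValNat.self (by norm_num), padicValNat.eq_zero_of_not_dvd (by norm_num : ¬ 3 ∣ 8)]
      rfl
    apply Subgroup.isComplement'_of_coprime
    · rw [hc8, hP, h24]
    · rw [hc8, hP]; decide
  · intro N hN
    have hgen3 : ∀ x : G, x ^ 4 ≠ 1 → ∀ y : G, y ^ 4 = 1 → ∃ g h : G, y = (g * x * g⁻¹ * x⁻¹) * (h * x * h⁻¹ * x⁻¹) := by decide +kernel
    have hgen4 : ∀ x : G, x ^ 4 = 1 → x ^ 2 ≠ 1 → ∀ y : G, y ^ 4 = 1 → ∃ g h : G, y = (g * x * g⁻¹) * (h * x * h⁻¹) := by decide +kernel
    by_cases h3 : ∃ x ∈ N, x ^ 4 ≠ 1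
    · obtain ⟨x, hx, hx4⟩ := h3
      refine Or.inr (Or.inl ?_)
      have hle : commutator G ≤ N := fun y hy => by
        obtain ⟨g, h, rfl⟩ := hgen3 x hx4 y ((hC y).1 hy)
        exact mul_mem (mul_mem (hN.conj_mem x hx g) (inv_mem hx)) (mul_mem (hN.conj_mem x hx h) (inv_mem hx))
      refine Subgroup.eq_top_of_card_eq _ ?_
      have h1 : 8 ∣ Nat.card N := hc8 ▸ Subgroup.card_dvd_of_le hle
      have h2 : Nat.card N ∣ 24 := h24 ▸ Subgroup.card_subgroup_dvd_card N
      have h3 : Nat.card N ≠ 8 := fun h8 => hx4 ((hC x).1 (by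
        rw [Subgroup.eq_of_le_of_card_ge hle (by rw [h8, hc8])]
        exact hx))
      have h4 := Nat.le_of_dvd (by norm_num) h2
      obtain ⟨c, hc⟩ := h1
      rw [hc] at h2 h3 h4 ⊢
      rw [h24]
      obtain ⟨d, hd⟩ := h2
      have : c ≤ 3 := by omega
      interval_cases c <;> omega
    push Not at h3
    by_cases h2 : ∃ x ∈ N, x ^ 2 ≠ 1
    · obtain ⟨x, hx, hx2⟩ := h2
      refine Or.inr (Or.inr (Or.inr (le_antisymm (fun y hy => (hC y).2 (h3 y hy)) fun y hy => ?_)))
      obtain ⟨g, h, rfl⟩ := hgen4 x (h3 x hx) hx2 y ((hC y).1 hy)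
      exact mul_mem (hN.conj_mem x hx g) (hN.conj_mem x hx h)
    push Not at h2
    have hle : N ≤ Subgroup.center G := fun y hy => (hZ y).2 (h2 y hy)
    by_cases hb : N = ⊥
    · exact Or.inl hb
    refine Or.inr (Or.inr (Or.inl (Subgroup.eq_of_le_of_card_ge hle ?_)))
    rw [Nat.card_congr (Equiv.subtypeEquivRight hZ), Nat.card_eq_fintype_card]
    refine le_trans (le_of_eq ?_) (Subgroup.one_lt_card_iff_ne_bot N |>.2 hb)
    decide +kernel

end Cfsg.Agent.S2427
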