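import Cfsg.Statements.S1200
import Cfsg.Agent.Lib.Involutions.WreathedSub

set_option autoImplicit false
open Cfsg

namespace Cfsg.Agent.S1200

/-- Let S be a wreathed 2-group of order 2^(2n+1) and Ω the subgroup generated by its involutions. Then Ω has order 2^(n+2) and S/Ω is cyclic: some s ∈ S together with Ω generates S. -/
theorem result {S : Type*} [Group S] [Finite S] (hS : Cfsg.IsWreathed S) (n : ℕ) (hn : Nat.card S = 2 ^ (2 * n + 1)) : Nat.card (Subgroup.closure {x : S | orderOf x = 2}) = 2 ^ (n + 2) ∧ ∃ s : S, Subgroup.closure {x : S | orderOf x = 2} ⊔ Subgroup.zpowers s = ⊤ := by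
  obtain ⟨d⟩ := CfsgLib.Involutions.nonempty_wr hS
  open CfsgLib.Involutions in
  obtain rfl := d.n_eq hn
  open Subgroup in
  rw [d.closure_invol]
  refine ⟨d.card_Omega, d.x, eq_top_iff.2 fun g _ => ?_⟩
  have hx : d.u 1 0 ∈ d.Omega ⊔ zpowers d.x := by
    rw [d.u_one_zero]; exact mem_sup_right (mem_zpowers _)
  rcases d.cover g with ⟨i, j, rfl⟩ | ⟨i, j, rfl⟩
  · have h1 : d.u (-j) j ∈ d.Omega ⊔ zpowers d.x := mem_sup_left (d.u_mem_Omega.2 (by simp))
    have h2 := mul_mem h1 (zpow_mem hx (i + j))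
    rwa [d.u_zpow, d.u_mul, show -j + 1 * (i + j) = i by ring, zero_mul, add_zero] at h2
  · refine mul_mem ?_ (mem_sup_left ?_)
    · have h1 : d.u (-j) j ∈ d.Omega ⊔ zpowers d.x := mem_sup_left (d.u_mem_Omega.2 (by simp))
      have h2 := mul_mem h1 (zpow_mem hx (i + j))
      rwa [d.u_zpow, d.u_mul, show -j + 1 * (i + j) = i by ring, zero_mul, add_zero] at h2
    · have := d.refl_mem_Omega (i := 0) (j := 0)
      rw [d.u_zero, one_mul] at this
      exact this.2 (by simp)

end Cfsg.Agent.S1200
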