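import Cfsg.Statements.S1182
import Cfsg.Agent.Lib.Involutions.Isolated

set_option autoImplicit false
open Cfsg

namespace Cfsg.Agent.S1182

/-- Let z be an isolated involution of the finite group G and H a subgroup normalized by z. If x, y ∈ H both commute with z and y = h x h⁻¹ for some h ∈ H, then y = c x c⁻¹ for some c ∈ H commuting with z. -/
theorem result {G : Type*} [Group G] [Finite G] (z : G) (hz : Cfsg.IsIsolatedInvolution z) (H : Subgroup G) (hzH : z ∈ Subgroup.normalizer (H : Set G)) (x y : G) (hx : x ∈ H) (hy : y ∈ H) (hxz : Commute x z) (hyz : Commute y z) (h : G) (hh : h ∈ H) (hconj : h * x * h⁻¹ = y) : ∃ c ∈ H, Commute c z ∧ c * x * c⁻¹ = y := by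
  open CfsgLib.Involutions in
  obtain ⟨k, hk⟩ := Isolated.exists_zpow_conj hz
    (v := h⁻¹ * z * h) (isConj_iff.2 ⟨h⁻¹, by rw [inv_inv]⟩)
  have hzinv : z * h⁻¹ * z⁻¹ ∈ H := (Subgroup.mem_normalizer_iff.1 hzH h⁻¹).1 (H.inv_mem hh)
  have hd : (z * (h⁻¹ * z * h)) ^ k ∈ H := by
    refine H.zpow_mem ?_ k
    rw [show z * (h⁻¹ * z * h) = (z * h⁻¹ * z) * h by group]
    exact H.mul_mem (by rwa [invol_inv hz.1] at hzinv) hh
  have hvx : Commute (h⁻¹ * z * h) x := by
    have := (hyz.symm).map (MulAut.conj h⁻¹)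
    simp only [MulAut.conj_apply, inv_inv] at this
    rwa [show h⁻¹ * y * h = x by rw [← hconj]; group] at this
  have hdx : Commute ((z * (h⁻¹ * z * h)) ^ k) x := ((hxz.symm).mul_left hvx).zpow_left k
  generalize (z * (h⁻¹ * z * h)) ^ k = d at *
  refine ⟨h * d, H.mul_mem hh hd, ?_, ?_⟩
  · show h * d * z = z * (h * d)
    calc h * d * z = h * (d * z * d⁻¹) * d := by group
      _ = z * (h * d) := by rw [hk]; group
  · rw [show h * d * x * (h * d)⁻¹ = h * (d * x * d⁻¹) * h⁻¹ by group, hdx.eq, mul_inv_cancel_right,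
      hconj]

end Cfsg.Agent.S1182
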