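import Cfsg.Statements.S3704
import Cfsg.Agent.Lib.Chars.PermChar

set_option autoImplicit false
open Cfsg CfsgLib.Chars
open scoped ComplexConjugate

namespace Cfsg.Agent.S3704

/-- Removing a constituent from a character leaves a character. -/
theorem isCharacter_sub_irr.{u} {G : Type u} [Group G] [Fintype G] {φ : G → ℂ} (hφ : IsCharacter G φ)
    (χ : IrrCharacter G) (h : classInner φ χ ≠ 0) : IsCharacter G (φ - (χ : G → ℂ)) := by
  classical
  refine isCharacter_iff_inner.mpr ⟨isClassFunction_sub (isClassFunction_of_isCharacter hφ)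
    (isClassFunction_irr χ), fun ψ => ?_⟩
  obtain ⟨m, hm⟩ := inner_irr_right_nat hφ ψ
  by_cases hψ : ψ = χ
  · subst hψ
    have : m ≠ 0 := fun h0 => h (by rw [hm, h0, Nat.cast_zero])
    refine ⟨m - 1, ?_⟩
    rw [CfsgLib.Chars.inner_sub_left, hm, inner_irr_self, Nat.cast_sub (by omega), Nat.cast_one]
  · exact ⟨m, by rw [CfsgLib.Chars.inner_sub_left, hm, inner_irr_ne (fun e => hψ e.symm), sub_zero]⟩

/-- Let G be a finite group acting faithfully and 2-transitively on a finite set Ω of size n, and let H be a subgroup of index n in G which is not transitive on Ω and fixes no point of Ω. Then H has exactly two orbits on Ω. -/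
theorem result {G Ω : Type*} [Group G] [Finite G] [MulAction G Ω] [FaithfulSMul G Ω] [Finite Ω] (h2 : MulAction.IsMultiplyPretransitive G Ω 2) (H : Subgroup G) (hidx : H.index = Nat.card Ω) (hnt : ¬ MulAction.IsPretransitive H Ω) (hfix : ∀ a : Ω, ∃ h : H, h • a ≠ a) : Nat.card (MulAction.orbitRel.Quotient H Ω) = 2 := by
  classical
  haveI := Fintype.ofFinite G
  haveI := Fintype.ofFinite H
  have hne : Nonempty Ω := by
    by_contra h
    rw [not_nonempty_iff] at h
    exact hnt ⟨fun x => isEmptyElim x⟩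
  obtain ⟨ω⟩ := hne
  have hn2 : 2 ≤ Nat.card Ω := by
    obtain ⟨h, hh⟩ := hfix ω
    exact Finite.one_lt_card_iff_nontrivial.mpr ⟨⟨_, _, hh⟩⟩
  have htr : MulAction.IsPretransitive G Ω := MulAction.isPretransitive_of_is_two_pretransitive
  set π : G → ℂ := fun g => (Nat.card (MulAction.fixedBy Ω g) : ℂ) with hπdef
  set θ : G → ℂ := indFun H (fun _ => 1) with hθdef
  have hπ : IsCharacter G π := isCharacter_fixedBy
  have hθ : IsCharacter G θ := isCharacter_indFun H isCharacter_one
  -- the number of orbits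
  have horb : classInner π θ = (Nat.card (MulAction.orbitRel.Quotient H Ω) : ℂ) := by
    rw [hθdef, inner_indFun_right H _ (isClassFunction_of_isCharacter hπ)]
    exact inner_fixedBy_one (G := H) (X := Ω)
  let χ : IrrCharacter G := ⟨_, (isIrr_fixedBy_sub_one_iff hn2).mpr h2⟩
  have hχ : (χ : G → ℂ) = π - fun _ => 1 := rfl
  have hχ1 : (χ : G → ℂ) 1 = (Nat.card Ω : ℂ) - 1 := by
    show (Nat.card (MulAction.fixedBy Ω (1 : G)) : ℂ) - 1 = _
    rw [MulAction.fixedBy_one_eq_univ, Nat.card_univ]
  have hθ1 : θ 1 = (Nat.card Ω : ℂ) := by rw [hθdef, indFun_one_apply, hidx, mul_one]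
  have hone : classInner θ (fun _ => 1) = 1 := by
    rw [hθdef, inner_indFun H _ (χ := fun _ : G => (1 : ℂ)) (isClassFunction_of_isCharacter isCharacter_one)]
    exact inner_one_one
  have hφ : IsCharacter G (θ - fun _ => 1) :=
    isCharacter_sub_irr hθ (principal G)
      (by rw [show ((principal G : IrrCharacter G) : G → ℂ) = fun _ => 1 from rfl, hone]; exact one_ne_zero)
  have hχone : classInner (χ : G → ℂ) (fun _ => 1) = 0 := by
    refine inner_irr_ne (ψ := principal G) fun e => ?_
    have hval := congrArg (fun ψ : IrrCharacter G => classInner π (ψ : G → ℂ)) e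
    have hπ1 : classInner π (fun _ => 1) = 1 := by
      rw [hπdef, inner_fixedBy_one]
      have : Nat.card (MulAction.orbitRel.Quotient G Ω) = 1 := by
        rw [Nat.card_eq_one_iff_unique]
        refine ⟨⟨fun a b => ?_⟩, ⟨Quotient.mk'' ω⟩⟩
        obtain ⟨a, rfl⟩ := Quotient.mk''_surjective a
        obtain ⟨b, rfl⟩ := Quotient.mk''_surjective b
        rw [Quotient.eq'', MulAction.orbitRel_apply, MulAction.mem_orbit_iff]
        exact MulAction.exists_smul_eq G b a
      rw [this, Nat.cast_one]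
    have hsum : classInner (χ : G → ℂ) (fun _ => 1) = 0 := by
      rw [hχ, CfsgLib.Chars.inner_sub_left, hπ1, inner_one_one, sub_self]
    rw [e] at hsum
    exact one_ne_zero (inner_one_one.symm.trans hsum)
  obtain ⟨m, hm⟩ := inner_irr_right_nat hφ χ
  have hm' : classInner θ (χ : G → ℂ) = m := by
    rw [← hm, CfsgLib.Chars.inner_sub_left, ← inner_conj (χ : G → ℂ), ← inner_conj (χ : G → ℂ) (fun _ => (1 : ℂ)),
      hχone, map_zero, sub_zero]
  have hm1 : m ≤ 1 := by
    by_contra hlt
    have hφ2 := isCharacter_sub_irr hφ χ (by rw [hm]; exact_mod_cast (by omega : m ≠ 0))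
    have h3 := re_le_of_inner_ne_zero χ.2 hφ2
      (by rw [CfsgLib.Chars.inner_sub_left, hm, inner_irr_self, sub_ne_zero]; exact_mod_cast (by omega : m ≠ 1))
    rw [Pi.sub_apply, Pi.sub_apply, hθ1, hχ1] at h3
    simp only [Complex.sub_re, Complex.natCast_re, Complex.one_re, sub_self, Complex.zero_re] at h3
    have h4 : (2 : ℝ) ≤ (Nat.card Ω : ℝ) := by exact_mod_cast hn2
    linarith
  have hcount : (Nat.card (MulAction.orbitRel.Quotient H Ω) : ℂ) = ((1 + m : ℕ) : ℂ) := by
    have hsplit : π = (fun _ => 1) + (χ : G → ℂ) := by rw [hχ, add_sub_cancel]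
    rw [← horb, hsplit, CfsgLib.Chars.inner_add_left, ← inner_conj θ, ← inner_conj θ, hone, hm', map_one,
      map_natCast, Nat.cast_add, Nat.cast_one]
  have hcount' : Nat.card (MulAction.orbitRel.Quotient H Ω) = 1 + m := by exact_mod_cast hcount
  suffices Nat.card (MulAction.orbitRel.Quotient H Ω) ≠ 1 by omega
  intro h1
  refine hnt ⟨fun a b => ?_⟩
  obtain ⟨hss, -⟩ := Nat.card_eq_one_iff_unique.mp h1
  have h := hss.elim (Quotient.mk'' b) (Quotient.mk'' a)
  rw [Quotient.eq'', MulAction.orbitRel_apply, MulAction.mem_orbit_iff] at h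
  exact h

end Cfsg.Agent.S3704
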