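import Cfsg.Statements.S0213
import Cfsg.Agent.Lib.Involutions.Basic

set_option autoImplicit false
open Cfsg

namespace Cfsg.Agent.S0213

/-- Thompson Order Formula, two-class case: if every involution of the finite group G is conjugate to exactly one of the non-conjugate involutions x₁, x₂, and nᵢ is the number of pairs (u, v) with u conjugate to x₁, v conjugate to x₂ and xᵢ in the cyclic group generated by uv, then |G| = |C(x₂)| n₁ + |C(x₁)| n₂. -/
theorem result {G : Type*} [Group G] [Finite G] (x₁ x₂ : G) (h₁ : orderOf x₁ = 2) (h₂ : orderOf x₂ = 2) (hnc : ¬ IsConj x₁ x₂) (hall : ∀ t : G, orderOf t = 2 → IsConj x₁ t ∨ IsConj x₂ t) : Nat.card G = Nat.card (Subgroup.centralizer ({x₂} : Set G)) * Nat.card {p : G × G // IsConj x₁ p.1 ∧ IsConj x₂ p.2 ∧ x₁ ∈ Subgroup.zpowers (p.1 * p.2)} + Nat.card (Subgroup.centralizer ({x₁} : Set G)) * Nat.card {p : G × G // IsConj x₁ p.1 ∧ IsConj x₂ p.2 ∧ x₂ ∈ Subgroup.zpowers (p.1 * p.2)} := by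
  open CfsgLib.Involutions in
  classical
  let P := fun x : G => {p : G × G // IsConj x₁ p.1 ∧ IsConj x₂ p.2 ∧ x ∈ Subgroup.zpowers (p.1 * p.2)}
  let K := fun x : G => {y : G // IsConj x y}
  have hpe : ∀ u v : G, IsConj x₁ u → IsConj x₂ v → Even (orderOf (u * v)) := fun u v hu hv => by
    by_contra h
    exact hnc ((hu.trans (isConj_of_odd_prod (isConj_invol hu h₁) (isConj_invol hv h₂)
      (Nat.not_even_iff_odd.1 h))).trans hv.symm)
  -- an involution in a cyclic group is unique
  have huniq : ∀ a z : G, Even (orderOf a) → orderOf z = 2 → z ∈ Subgroup.zpowers a →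
      z = a ^ (orderOf a / 2) := by
    intro a z he hz hmem
    obtain ⟨k, rfl⟩ := hmem
    obtain ⟨m, hm⟩ := he
    have hmpos : 0 < m := by have := orderOf_pos a; omega
    have hh : orderOf a / 2 = m := by omega
    rw [hh]
    have hk2 : a ^ (k * 2) = 1 := by
      rw [zpow_mul, zpow_ofNat, ← hz]; exact pow_orderOf_eq_one _
    obtain ⟨c, hc⟩ := orderOf_dvd_iff_zpow_eq_one.2 hk2
    rw [hm] at hc
    have hkc : k = (m : ℤ) * c := by push_cast at hc; linarith
    show a ^ k = a ^ m
    rcases Int.even_or_odd c with ⟨j, hj⟩ | ⟨j, hj⟩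
    · exfalso
      apply invol_ne_one hz
      show a ^ k = 1
      rw [hkc, hj, show (m : ℤ) * (j + j) = (orderOf a : ℤ) * j by rw [hm]; push_cast; ring,
        zpow_mul, zpow_natCast, pow_orderOf_eq_one, one_zpow]
    · rw [hkc, hj, show (m : ℤ) * (2 * j + 1) = (orderOf a : ℤ) * j + m by rw [hm]; push_cast; ring,
        zpow_add, zpow_mul, zpow_natCast, pow_orderOf_eq_one, one_zpow, one_mul, zpow_natCast]
  have hconjP : ∀ x y : G, IsConj x y → Nat.card (P x) = Nat.card (P y) := by
    intro x y hxy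
    obtain ⟨g, rfl⟩ := isConj_iff.1 hxy
    refine Nat.card_congr (((MulAut.conj g).toEquiv.prodCongr (MulAut.conj g).toEquiv).subtypeEquiv
      fun p => ?_)
    show _ ↔ IsConj x₁ (MulAut.conj g p.1) ∧ IsConj x₂ (MulAut.conj g p.2) ∧
      g * x * g⁻¹ ∈ Subgroup.zpowers (MulAut.conj g p.1 * MulAut.conj g p.2)
    have hc : ∀ w : G, IsConj w (MulAut.conj g w) := fun w => isConj_iff.2 ⟨g, rfl⟩
    rw [← map_mul]
    refine and_congr ⟨fun h => h.trans (hc _), fun h => h.trans (hc _).symm⟩
      (and_congr ⟨fun h => h.trans (hc _), fun h => h.trans (hc _).symm⟩ ?_)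
    simp only [Subgroup.mem_zpowers_iff]
    refine exists_congr fun k => ?_
    rw [← map_zpow, MulAut.conj_apply, mul_right_cancel_iff, mul_left_cancel_iff]
  -- the pairs, sorted by the involution in the cyclic group of their product
  let F : {z : G // orderOf z = 2} → Type _ := fun z => P z.1
  let Φ : (Σ z : {z : G // orderOf z = 2}, F z) → K x₁ × K x₂ :=
    fun q => (⟨q.2.1.1, q.2.2.1⟩, ⟨q.2.1.2, q.2.2.2.1⟩)
  have hΦ : Function.Bijective Φ := by
    constructor
    · rintro ⟨⟨z, hz⟩, ⟨⟨u, v⟩, hu, hv, hm⟩⟩ ⟨⟨z', hz'⟩, ⟨⟨u', v'⟩, hu', hv', hm'⟩⟩ h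
      obtain ⟨h1, h2⟩ := Prod.ext_iff.1 h
      obtain rfl : u = u' := congrArg Subtype.val h1
      obtain rfl : v = v' := congrArg Subtype.val h2
      obtain rfl : z = z' :=
        (huniq _ z (hpe u v hu hv) hz hm).trans (huniq _ z' (hpe u v hu hv) hz' hm').symm
      rfl
    · rintro ⟨⟨u, hu⟩, ⟨v, hv⟩⟩
      exact ⟨⟨⟨_, half_invol (hpe u v hu hv)⟩, ⟨(u, v), hu, hv, Subgroup.npow_mem_zpowers _ _⟩⟩, rfl⟩
  have hcount := Nat.card_congr (Equiv.ofBijective Φ hΦ)
  rw [Nat.card_prod] at hcount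
  have : Fintype {z : G // orderOf z = 2} := Fintype.ofFinite _
  rw [Nat.card_sigma] at hcount
  have hsum : ∑ z : {z : G // orderOf z = 2}, Nat.card (F z)
      = Nat.card (K x₁) * Nat.card (P x₁) + Nat.card (K x₂) * Nat.card (P x₂) := by
    rw [← Finset.sum_filter_add_sum_filter_not Finset.univ (fun z => IsConj x₁ z.1)]
    congr 1
    · rw [Finset.sum_congr rfl fun z hz => (hconjP x₁ z.1 (Finset.mem_filter.1 hz).2).symm,
        Finset.sum_const, smul_eq_mul]
      congr 1
      rw [← Fintype.card_coe, ← Nat.card_eq_fintype_card]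
      exact Nat.card_congr ((Equiv.subtypeEquivRight (by simp)).trans
        (Equiv.subtypeSubtypeEquivSubtype fun h => isConj_invol h h₁))
    · rw [Finset.sum_congr rfl fun z hz => (hconjP x₂ z.1
          ((hall _ z.2).resolve_left (Finset.mem_filter.1 hz).2)).symm,
        Finset.sum_const, smul_eq_mul]
      congr 1
      rw [← Fintype.card_coe, ← Nat.card_eq_fintype_card]
      refine Nat.card_congr ((Equiv.subtypeEquivRight
        (q := fun z : {z : G // orderOf z = 2} => IsConj x₂ z.1) fun z => ?_).trans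
        (Equiv.subtypeSubtypeEquivSubtype fun h => isConj_invol h h₂))
      simp only [Finset.mem_filter, Finset.mem_univ, true_and]
      exact ⟨(hall _ z.2).resolve_left, fun h h' => hnc (h'.trans h.symm)⟩
  rw [hsum] at hcount
  have e1 : Nat.card (K x₁) * _ = Nat.card G := card_conjugates_mul x₁
  have e2 : Nat.card (K x₂) * _ = Nat.card G := card_conjugates_mul x₂
  have hpos : 0 < Nat.card G := Nat.card_pos
  refine Nat.eq_of_mul_eq_mul_left hpos ?_
  calc Nat.card G * Nat.card G
      = (Nat.card (K x₁) * Nat.card (Subgroup.centralizer ({x₁} : Set G)))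
        * (Nat.card (K x₂) * Nat.card (Subgroup.centralizer ({x₂} : Set G))) := by rw [e1, e2]
    _ = Nat.card (Subgroup.centralizer ({x₁} : Set G)) * Nat.card (Subgroup.centralizer ({x₂} : Set G))
        * (Nat.card (K x₁) * Nat.card (K x₂)) := by ring
    _ = (Nat.card (K x₁) * Nat.card (Subgroup.centralizer ({x₁} : Set G)))
          * (Nat.card (Subgroup.centralizer ({x₂} : Set G)) * Nat.card (P x₁))
        + (Nat.card (K x₂) * Nat.card (Subgroup.centralizer ({x₂} : Set G)))
          * (Nat.card (Subgroup.centralizer ({x₁} : Set G)) * Nat.card (P x₂)) := by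
        rw [← hcount]; ring
    _ = _ := by rw [e1, e2, ← mul_add]

end Cfsg.Agent.S0213
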