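import Cfsg.Statements.S0255
import Cfsg.Agent.Lib.Small.PSLPrimes
import Cfsg.Agent.Lib.Classical.PSLSimple
import Cfsg.Agent.Lib.Classical.Order


set_option autoImplicit false
open Cfsg

namespace Cfsg.Agent.S0255

/-- PSL_2(7) is isomorphic to PSL_3(2). -/
theorem result {F K : Type*} [Field F] [Fintype F] [Field K] [Fintype K] (hF : Fintype.card F = 7) (hK : Fintype.card K = 2) : Nonempty (Matrix.ProjectiveSpecialLinearGroup (Fin 2) F ≃* Matrix.ProjectiveSpecialLinearGroup (Fin 3) K) := by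
  have hK' : Nat.card K = 2 := by rw [Nat.card_eq_fintype_card, hK]
  have := CfsgLib.Classical.isSimpleGroup_PSL_of_three_le (F := K) (ι := Fin 3) (by simp)
  have hc : 2 * Nat.card (Matrix.ProjectiveSpecialLinearGroup (Fin 3) K) = 7 * (7 ^ 2 - 1) := by
    rw [CfsgLib.Classical.card_PSL_fin 3 (by norm_num), CfsgLib.Classical.card_SL_fin' 3, hK']
    simp [Finset.prod_range_succ]
  exact (CfsgLib.Small.equiv_PSL_two_7 hc hF).map MulEquiv.symm

end Cfsg.Agent.S0255
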