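import Cfsg.Statements.S2039
import Cfsg.Agent.Lib.KnownB.J1.Mult
-- import your own Cfsg.Agent.* helpers here

set_option autoImplicit false
open Cfsg

namespace Cfsg.Agent.S2039

/-- The Schur multiplier of the Janko group J₁ (the group generated by two explicit 7 × 7 matrices over the integers modulo 11) is trivial; here the Schur multiplier is described through stem extensions, as in the definitions: surjective homomorphisms onto the group from a finite group, whose kernel is central in that finite group and contained in that finite group's commutator subgroup. -/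
theorem result : Cfsg.HasCyclicSchurMultiplier ↥Cfsg.Spor.J1 1 := by
  have hN : Nat.card Cfsg.Spor.J1 = 175560 := CfsgLib.KnownB.J1.natCard_J1
  have hfin : Finite Cfsg.Spor.J1 := inferInstance
  refine CfsgLib.KnownB.Mult.hasTrivialMultiplier_of_primeCond fun p _ => ?_
  by_cases h2 : p = 2
  · subst h2
    exact CfsgLib.KnownB.Mult.Cert.primeCond CfsgLib.KnownB.J1.cert2_valid (m := 21945)
      (hN.trans (by norm_num [CfsgLib.KnownB.J1.cert2])) (by norm_num)
  refine CfsgLib.KnownB.Mult.primeCond_of_cyclic default
    (CfsgLib.KnownB.Mult.isCyclic_sylow (p := p) ?_ default)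
  intro hd
  rw [hN] at hd
  have hp : p.Prime := Fact.out
  have hle : p ≤ 419 := by
    have := Nat.le_of_dvd (by norm_num) hd
    nlinarith
  have key : ∀ q < 420, q ^ 2 ∣ 175560 → q ≤ 2 := by decide +kernel
  exact h2 (le_antisymm (key p (by omega) hd) hp.two_le)

end Cfsg.Agent.S2039
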