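import Cfsg.Statements.S3951
import Cfsg.Agent.Lib.Schur.Bounds
open CfsgLib.Schur Cfsg Subgroup
open scoped commutatorElement

set_option autoImplicit false
open Cfsg

namespace Cfsg.Agent.S3951

/-- For positive integers `m` and `n` with `n` dividing `m`, the Schur multiplier of the abelian group `ZMod m × ZMod n` (written multiplicatively) is cyclic of order `n`. In particular the elementary abelian group of order `p ^ 2` has multiplier of order `p`. -/
theorem result (m n : ℕ) [NeZero m] [NeZero n] (hnm : n ∣ m) : Cfsg.HasCyclicSchurMultiplier (Multiplicative (ZMod m × ZMod n)) n := by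
  let p : Multiplicative (ZMod m × ZMod n) →* Multiplicative (ZMod n) :=
    AddMonoidHom.toMultiplicative ((ZMod.castHom hnm (ZMod n)).toAddMonoidHom.comp (AddMonoidHom.fst _ _))
  let q : Multiplicative (ZMod m × ZMod n) →* Multiplicative (ZMod n) :=
    AddMonoidHom.toMultiplicative (AddMonoidHom.snd (ZMod m) (ZMod n))
  obtain ⟨h₀, hc₀⟩ := PairExt.isStemExtension p q (g := Multiplicative.ofAdd (1, 0))
    (h := Multiplicative.ofAdd (0, 1)) (by simp [p, map_one]) (by simp [q]) (by simp [q])
  refine hasCyclicSchurMultiplier_of_bound h₀ hc₀ fun Γ _ _ σ hs => ?_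
  obtain ⟨a, ha⟩ := hs.1 (Multiplicative.ofAdd (1, 0))
  obtain ⟨b, hb⟩ := hs.1 (Multiplicative.ofAdd (0, 1))
  have hgen : Subgroup.closure ({a, b} ∪ (center Γ : Set Γ)) = ⊤ := by
    refine closure_union_center_eq_top σ hs.2.1 _ ?_
    rw [Set.image_pair, ha, hb, eq_top_iff]
    intro g _
    have hg : g = Multiplicative.ofAdd ((1, 0) : ZMod m × ZMod n) ^ (Multiplicative.toAdd g).1.val *
        Multiplicative.ofAdd ((0, 1) : ZMod m × ZMod n) ^ (Multiplicative.toAdd g).2.val := by
      apply Multiplicative.toAdd.injective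
      rw [toAdd_mul, toAdd_pow, toAdd_pow, toAdd_ofAdd, toAdd_ofAdd]
      ext <;> simp
    rw [hg]
    exact mul_mem (pow_mem (subset_closure (by simp)) _) (pow_mem (subset_closure (by simp)) _)
  have hc : ⁅a, b⁆ ∈ center Γ := hs.2.1 (by
    rw [MonoidHom.mem_ker, map_commutatorElement, commutatorElement_eq_one_iff_mul_comm, mul_comm])
  have hn : b ^ n ∈ center Γ := hs.2.1 (by
    rw [MonoidHom.mem_ker, map_pow, hb]
    apply Multiplicative.toAdd.injective
    rw [toAdd_pow, toAdd_ofAdd, toAdd_one]
    ext <;> simp)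
  obtain ⟨hle, hw⟩ := commutator_le_zpowers_of_abelian_type a b hgen hc hn
  exact isCyclic_and_card_le (hs.2.2.trans hle) hw (Nat.pos_of_ne_zero (NeZero.ne n))

end Cfsg.Agent.S3951
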