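import Cfsg.Statements.S3953
import Cfsg.Agent.Lib.Schur.Corestriction
import Cfsg.Agent.Lib.Schur.Exponent
open CfsgLib.Schur Cfsg

set_option autoImplicit false
open Cfsg

namespace Cfsg.Agent.S3953

/-- Let `P` be a Sylow `p`-subgroup of the finite group `G`, let `A` be the Schur multiplier of `G` and `B` that of `P`. Then the `p`-primary component of `A` is isomorphic to a direct factor of `B`: there are subgroups `C` and `D` of `B` meeting trivially and generating `B`, with `C` isomorphic to the `p`-primary component of `A`. -/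
theorem result {G : Type*} [Group G] [Finite G] (p : ℕ) [Fact p.Prime] (P : Sylow p G) {A B : Type*} [CommGroup A] [CommGroup B] (hA : Cfsg.HasSchurMultiplier G A) (hB : Cfsg.HasSchurMultiplier P B) : ∃ C D : Subgroup B, C ⊓ D = ⊥ ∧ C ⊔ D = ⊤ ∧ Nonempty (CommGroup.primaryComponent A p ≃* C) := by
  classical
  have hp := Fact.out (p := p.Prime)
  obtain ⟨eA⟩ := nonempty_equiv_mult hA
  obtain ⟨eB⟩ := nonempty_equiv_mult hB
  haveI : Finite A := Finite.of_equiv _ eA.symm.toEquiv
  haveI : Finite B := Finite.of_equiv _ eB.symm.toEquiv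
  obtain ⟨t, f, hft⟩ := exists_corestriction (P : Subgroup G)
  set m := (P : Subgroup G).index
  have hmp : ¬ p ∣ m := P.not_dvd_index
  let t' : A →* B := eB.symm.toMonoidHom.comp (t.comp eA.toMonoidHom)
  let f' : B →* A := eA.symm.toMonoidHom.comp (f.comp eB.toMonoidHom)
  have hft' : ∀ a, f' (t' a) = a ^ m := fun a => by simp [t', f', hft]
  have hBp : ∀ b : B, ∃ k : ℕ, b ^ p ^ k = 1 := by
    intro b
    obtain ⟨Γ, _, _, σ, hs, ⟨e⟩⟩ := hB.1
    have h1 := exponent_sq_dvd σ hs
    rw [Monoid.exponent_eq_of_mulEquiv e] at h1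
    obtain ⟨k, hk⟩ := IsPGroup.iff_card.1 P.isPGroup'
    refine ⟨k, orderOf_dvd_iff_pow_eq_one.1 ?_⟩
    rw [← hk]
    exact (Monoid.order_dvd_exponent b).trans ((dvd_pow_self _ two_ne_zero).trans h1)
  set Ap := CommGroup.primaryComponent A p
  have hbij : Function.Bijective fun a : Ap => a ^ m := by
    refine (Nat.Coprime.pow_left_bijective ?_)
    obtain ⟨k, hk⟩ := IsPGroup.iff_card.1 (CommGroup.primaryComponent.isPGroup (G := A) (p := p))
    rw [hk]
    exact Nat.Coprime.pow_left k (hp.coprime_iff_not_dvd.2 hmp)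
  have hfp : ∀ b : B, f' b ∈ Ap := by
    intro b
    obtain ⟨k, hk⟩ := hBp b
    exact ⟨k, by rw [← map_pow, hk, map_one]⟩
  let u : Ap →* B := t'.comp Ap.subtype
  have hu : Function.Injective u := fun a b h => hbij.1 (Subtype.ext (by
    show ((a ^ m : Ap) : A) = ((b ^ m : Ap) : A)
    rw [Subgroup.coe_pow, Subgroup.coe_pow, ← hft', ← hft']
    exact congrArg f' h))
  refine ⟨u.range, f'.ker, ?_, ?_, ⟨MonoidHom.ofInjective hu⟩⟩
  · rw [eq_bot_iff]
    rintro b ⟨⟨a, rfl⟩, hb⟩
    have h1 : a = 1 := hbij.1 (Subtype.ext (by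
      show ((a ^ m : Ap) : A) = ((1 ^ m : Ap) : A)
      rw [one_pow, Subgroup.coe_pow, ← hft']
      exact hb))
    rw [Subgroup.mem_bot, h1, map_one]
  · rw [eq_top_iff]
    intro b _
    obtain ⟨a, ha⟩ := hbij.2 ⟨f' b, hfp b⟩
    have ha' : f' (u a) = f' b := (hft' (a : A)).trans (congrArg Subtype.val ha)
    have : b = u a * ((u a)⁻¹ * b) := by group
    rw [this]
    exact Subgroup.mul_mem_sup ⟨a, rfl⟩ (by rw [MonoidHom.mem_ker, map_mul, map_inv, ha', inv_mul_cancel])

end Cfsg.Agent.S3953
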