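import Cfsg.Statements.S3957
import Cfsg.Agent.Lib.Schur.Basic
open CfsgLib.Schur Subgroup

set_option autoImplicit false
universe u v
open Cfsg

namespace Cfsg.Agent.S3957

/-- Let `Q` be a finite group with Schur multiplier `A` and let `τ : Δ →* Q` be a finite stem extension, `Δ` in the universe of `Q`. Then there is a finite stem extension `σ : Γ →* Q` with kernel isomorphic to `A` (a Schur covering group) and a surjective homomorphism `β : Γ →* Δ` with `τ ∘ β = σ`. -/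
theorem result {Q : Type u} [Group Q] [Finite Q] {A : Type v} [CommGroup A] (hA : Cfsg.HasSchurMultiplier Q A) {Δ : Type u} [Group Δ] [Finite Δ] (τ : Δ →* Q) (hτ : Cfsg.IsStemExtension τ) : ∃ (Γ : Type u) (_ : Group Γ) (_ : Finite Γ) (σ : Γ →* Q), Cfsg.IsStemExtension σ ∧ Nonempty (σ.ker ≃* A) ∧ ∃ β : Γ →* Δ, Function.Surjective β ∧ τ.comp β = σ := by
  obtain ⟨g, hg⟩ := exists_lift τ hτ.1 hτ.2.1 (MonoidHom.id Q)
  rw [MonoidHom.id_comp] at hg
  have h := map_multiplier τ hτ.2.1 g hg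
  rw [inf_eq_left.2 hτ.2.2] at h
  have hsup : (proj Q).ker ≤ g.ker ⊓ (proj Q).ker ⊔ multiplier Q := by
    intro x hx
    have hgx : g x ∈ τ.ker := by
      rw [MonoidHom.mem_ker, ← MonoidHom.comp_apply, hg]; exact hx
    rw [← h] at hgx
    obtain ⟨m, hm, hmx⟩ := hgx
    have : x = (x * m⁻¹) * m := by group
    rw [this]
    refine mul_mem_sup ⟨?_, (proj Q).ker.mul_mem hx ((proj Q).ker.inv_mem hm.1)⟩ hm
    show g (x * m⁻¹) = 1
    rw [map_mul, map_inv, hmx, mul_inv_cancel]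
  obtain ⟨Γ, i1, i2, σ, c, hs, hc, hcs, -, hcL, ⟨e⟩⟩ := exists_cover' Q g.ker hsup
  obtain ⟨eA⟩ := nonempty_equiv_mult hA
  refine ⟨Γ, i1, i2, σ, hs, ⟨e.trans eA.symm⟩, c.liftOfSurjective hcs ⟨g, hcL⟩, ?_, ?_⟩
  · intro y
    obtain ⟨x, rfl⟩ := surjective_of_stem τ hτ g hg y
    exact ⟨c x, by rw [MonoidHom.liftOfRightInverse_comp_apply]⟩
  · refine MonoidHom.ext fun y => ?_
    obtain ⟨x, rfl⟩ := hcs y
    rw [MonoidHom.comp_apply, MonoidHom.liftOfRightInverse_comp_apply, ← MonoidHom.comp_apply τ, hg,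
      ← hc]
    rfl

end Cfsg.Agent.S3957
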