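import Cfsg.Statements.S3966
import Mathlib

set_option autoImplicit false
open Cfsg

namespace Cfsg.Agent.S3966

/-- For even `n ≥ 2` the dicyclic group of order `4 n` is a stem extension of the dihedral group of order `2 n` with kernel of order `2`: there is a surjective homomorphism `QuaternionGroup n →* DihedralGroup n` whose kernel is central, lies in the commutator subgroup and has two elements. Together with the order of the multiplier this exhibits the dicyclic group as a Schur covering group of the dihedral group. -/
theorem result (n : ℕ) [NeZero n] (hn : Even n) : ∃ σ : QuaternionGroup n →* DihedralGroup n, Cfsg.IsStemExtension σ ∧ Nat.card σ.ker = 2 := by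
  obtain ⟨m, hm⟩ := hn
  have hdvd : n ∣ 2 * n := dvd_mul_left n 2
  let c : ZMod (2 * n) →+* ZMod n := ZMod.castHom hdvd (ZMod n)
  let σ : QuaternionGroup n →* DihedralGroup n :=
    { toFun := fun g => match g with
        | .a i => .r (c i)
        | .xa i => .sr (c i)
      map_one' := by
        show DihedralGroup.r (c 0) = 1
        rw [map_zero]; rfl
      map_mul' := by
        rintro (i | i) (j | j) <;>
          simp [QuaternionGroup.a_mul_a, QuaternionGroup.a_mul_xa, QuaternionGroup.xa_mul_a,
            QuaternionGroup.xa_mul_xa, map_add, map_sub] }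
  have hker : ∀ g, g ∈ σ.ker ↔ g = 1 ∨ g = QuaternionGroup.a (n : ZMod (2 * n)) := by
    intro g
    rw [MonoidHom.mem_ker]
    rcases g with i | i
    · show DihedralGroup.r (c i) = DihedralGroup.r 0 ↔ _
      rw [DihedralGroup.r.injEq, QuaternionGroup.one_def, QuaternionGroup.a.injEq,
        QuaternionGroup.a.injEq]
      constructor
      · intro h
        have hi : ((i.val : ℕ) : ZMod n) = 0 := by
          rw [← map_natCast c, ZMod.natCast_zmod_val, h]
        obtain ⟨k, hk⟩ := (ZMod.natCast_eq_zero_iff _ _).1 hi
        have hlt : i.val < 2 * n := ZMod.val_lt i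
        rw [← ZMod.natCast_zmod_val i, hk]
        have : k < 2 := by
          by_contra hk2
          have : n * 2 ≤ n * k := Nat.mul_le_mul_left n (not_lt.1 hk2)
          omega
        interval_cases k
        · left; simp
        · right; simp
      · rintro (rfl | rfl)
        · exact map_zero c
        · rw [map_natCast, ZMod.natCast_self]
    · show DihedralGroup.sr (c i) = DihedralGroup.r 0 ↔ _
      simp [QuaternionGroup.one_def, -QuaternionGroup.a_zero, -DihedralGroup.r_zero]
  have hnn : -(n : ZMod (2 * n)) = (n : ZMod (2 * n)) := by
    rw [neg_eq_iff_add_eq_zero, ← Nat.cast_add, ← two_mul, ZMod.natCast_self]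
  refine ⟨σ, ⟨?_, ?_, ?_⟩, ?_⟩
  · have hc : Function.Surjective c := ZMod.castHom_surjective hdvd
    rintro (i | i) <;> obtain ⟨j, rfl⟩ := hc i
    · exact ⟨.a j, rfl⟩
    · exact ⟨.xa j, rfl⟩
  · intro g hg
    rw [Subgroup.mem_center_iff]
    rcases (hker g).1 hg with rfl | rfl
    · simp
    · rintro (j | j) <;> simp only [QuaternionGroup.a_mul_a, QuaternionGroup.a_mul_xa,
        QuaternionGroup.xa_mul_a, QuaternionGroup.a.injEq, QuaternionGroup.xa.injEq]
      · exact add_comm _ _
      · rw [sub_eq_add_neg, hnn]
  · intro g hg
    rcases (hker g).1 hg with rfl | rfl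
    · exact one_mem _
    · have h2 : QuaternionGroup.a (2 : ZMod (2 * n)) ∈ commutator (QuaternionGroup n) := by
        have h := Subgroup.commutator_mem_commutator
          (Subgroup.mem_top (QuaternionGroup.a (1 : ZMod (2 * n))))
          (Subgroup.mem_top (QuaternionGroup.xa (0 : ZMod (2 * n))))
        rw [← commutator_def] at h
        convert h using 1
        rw [commutatorElement_def]
        have hi : (QuaternionGroup.a (1 : ZMod (2 * n)))⁻¹ = QuaternionGroup.a (-1) := rfl
        have hi' : (QuaternionGroup.xa (0 : ZMod (2 * n)))⁻¹
            = QuaternionGroup.xa ((n : ZMod (2 * n)) + 0) := rfl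
        rw [hi, hi']
        simp only [QuaternionGroup.a_mul_a, QuaternionGroup.a_mul_xa,
          QuaternionGroup.xa_mul_a, QuaternionGroup.xa_mul_xa]
        congr 1
        have h2n : (n : ZMod (2 * n)) + n = 0 := by
          rw [← Nat.cast_add, ← two_mul, ZMod.natCast_self]
        linear_combination -h2n
      have : ∀ k : ℕ, QuaternionGroup.a ((2 * k : ℕ) : ZMod (2 * n)) ∈
          commutator (QuaternionGroup n) := by
        intro k
        induction k with
        | zero => simp
        | succ k ih =>
          have := mul_mem ih h2
          simpa [QuaternionGroup.a_mul_a, mul_add] using this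
      have hh := this m
      rwa [show 2 * m = n by omega] at hh
  · have he : (σ.ker : Set (QuaternionGroup n)) = {1, QuaternionGroup.a (n : ZMod (2 * n))} := by
      ext g; simpa using hker g
    show Nat.card (σ.ker : Set (QuaternionGroup n)) = 2
    rw [Nat.card_coe_set_eq, he, Set.ncard_pair]
    rw [Ne, QuaternionGroup.one_def, QuaternionGroup.a.injEq, eq_comm, ZMod.natCast_eq_zero_iff]
    intro h
    have := Nat.le_of_dvd (Nat.pos_of_ne_zero (NeZero.ne n)) h
    have := NeZero.ne n
    omega

end Cfsg.Agent.S3966
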