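import Cfsg.Statements.S3965
import Cfsg.Agent.S3966
import Cfsg.Agent.Lib.Schur.Bounds
open CfsgLib.Schur Cfsg Subgroup

set_option autoImplicit false
open Cfsg

namespace Cfsg.Agent.S3965

/-- For even `n ≥ 2` the dihedral group of order `2 n` has Schur multiplier cyclic of order `2`. -/
theorem result (n : ℕ) [NeZero n] (hn : Even n) : Cfsg.HasCyclicSchurMultiplier (DihedralGroup n) 2 := by
  obtain ⟨σ₀, hσ₀, hc₀⟩ := Cfsg.Agent.S3966.result n hn
  refine hasCyclicSchurMultiplier_of_bound hσ₀ hc₀ fun Γ _ _ σ hs => ?_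
  obtain ⟨a, ha⟩ := hs.1 (DihedralGroup.r 1)
  obtain ⟨x, hx⟩ := hs.1 (DihedralGroup.sr 0)
  have hgen : Subgroup.closure ({a, x} ∪ (center Γ : Set Γ)) = ⊤ := by
    refine closure_union_center_eq_top σ hs.2.1 _ ?_
    rw [Set.image_pair, ha, hx, eq_top_iff]
    intro g _
    have hA : ∀ i, DihedralGroup.r i ∈ Subgroup.closure
        ({DihedralGroup.r 1, DihedralGroup.sr 0} : Set (DihedralGroup n)) := fun i => by
      rw [← ZMod.natCast_zmod_val i, ← DihedralGroup.r_one_pow]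
      exact pow_mem (subset_closure (by simp)) _
    rcases g with i | i
    · exact hA i
    · rw [show DihedralGroup.sr i = DihedralGroup.sr 0 * DihedralGroup.r i by simp]
      exact mul_mem (subset_closure (by simp)) (hA i)
  have hkk : σ (a * (x * a * x⁻¹)) = 1 := by
    have hi : (DihedralGroup.sr (0 : ZMod n))⁻¹ = DihedralGroup.sr 0 := rfl
    rw [map_mul, map_mul, map_mul, map_inv, ha, hx, hi]
    simp
  have hn' : Commute (a ^ n) x := Commute.symm (mem_center_iff.1 (hs.2.1 (by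
    rw [MonoidHom.mem_ker, map_pow, ha, DihedralGroup.r_one_pow_n])) x)
  obtain ⟨hle, hw⟩ := commutator_le_zpowers_of_dihedral_type a x hgen (hs.2.1 hkk)
    (show x * a * x⁻¹ = a⁻¹ * (a * (x * a * x⁻¹)) by group) hn'
  set w := a * a * (a * (x * a * x⁻¹))⁻¹ with hwd
  have hj : ∀ j : ℤ, w ^ j ∈ σ.ker → (n : ℤ) ∣ 2 * j := fun j hj => by
    have h2 : (DihedralGroup.r (1 : ZMod n) : DihedralGroup n) ^ (2 * j) = 1 := by
      rw [zpow_mul, ← MonoidHom.mem_ker.1 hj, map_zpow, hwd, map_mul _ (a * a), map_inv, hkk,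
        inv_one, mul_one, map_mul, ha, ← sq]
      norm_cast
    rwa [← orderOf_dvd_iff_zpow_eq_one, DihedralGroup.orderOf_r_one] at h2
  obtain ⟨m, hm⟩ := hn
  refine isCyclic_and_card_le (w := w ^ m) (fun z hz => ?_) (by rw [← pow_mul, mul_two, ← hm, hw])
    two_pos
  obtain ⟨j, rfl⟩ := mem_zpowers_iff.1 (hle (hs.2.2 hz))
  obtain ⟨i, rfl⟩ : (m : ℤ) ∣ j := by
    have h := hj j hz
    rw [hm, ← two_mul, Nat.cast_mul] at h
    exact (mul_dvd_mul_iff_left (by norm_num : ((2 : ℕ) : ℤ) ≠ 0)).1 (by exact_mod_cast h)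
  rw [zpow_mul, zpow_natCast]
  exact zpow_mem (mem_zpowers _) i

end Cfsg.Agent.S3965
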