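import Cfsg.Statements.S0292
import Cfsg.Agent.Lib.Geometry.POmegaStd
import Cfsg.Agent.Lib.Classical.OrthStd

set_option autoImplicit false
open Cfsg CfsgLib.Geometry
open scoped Matrix

namespace Cfsg.Agent.S0292

/-- 2 |PΩ_{2m+1}(q)| = q^(m^2) prod_{i=1}^{m} (q^(2i) - 1), for q odd and m at least 3 (type B_m). -/
theorem result {F : Type*} [Field F] [Fintype F] {q : ℕ} (hF : Fintype.card F = q) (hodd : Odd q) (m : ℕ) (hm : 3 ≤ m) : 2 * Nat.card (Cfsg.POmega F (Cfsg.quadFormOdd m F)) = q ^ (m ^ 2) * ∏ i ∈ Finset.range m, (q ^ (2 * (i + 1)) - 1) := by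
  have h2 := two_ne_zero_of_odd_card hF hodd
  have h := card_pOmega_odd_dim (M := oddMat m F) h2 (by simp; omega)
    ⟨m, by simp; omega⟩ (by rw [det_odd_gram]; simp [h2])
  rw [coe_matQuad_odd, CfsgLib.Classical.card_isometry_odd h2, Nat.card_eq_fintype_card (α := F), hF,
    mul_assoc 2] at h
  omega

end Cfsg.Agent.S0292
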