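import Cfsg.Statements.S0294
import Cfsg.Agent.Lib.Geometry.POmegaStd
import Cfsg.Agent.Lib.Classical.OrthStd

set_option autoImplicit false
open Cfsg CfsgLib.Geometry
open scoped Matrix

namespace Cfsg.Agent.S0294

/-- gcd(4, q^m + 1) |PΩ^-_{2m}(q)| = q^(m(m-1)) (q^m + 1) prod_{i=1}^{m-1} (q^(2i) - 1), m at least 4 (type ²D_m). -/
theorem result {F : Type*} [Field F] [Fintype F] {q : ℕ} (hF : Fintype.card F = q) (m : ℕ) (hm : 4 ≤ m) (a b : F) (hab : ∀ z₁ z₂ : F, z₁ ^ 2 + a * z₁ * z₂ + b * z₂ ^ 2 = 0 → z₁ = 0 ∧ z₂ = 0) : Nat.gcd 4 (q ^ m + 1) * Nat.card (Cfsg.POmega F (Cfsg.quadFormMinus (m - 1) F a b)) = q ^ (m * (m - 1)) * (q ^ m + 1) * ∏ i ∈ Finset.range (m - 1), (q ^ (2 * (i + 1)) - 1) := by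
  obtain ⟨k, rfl⟩ : ∃ k, m = k + 1 := ⟨m - 1, by omega⟩
  rw [Nat.add_sub_cancel]
  obtain ⟨hd0, hns⟩ := binAniso_discr hab
  have hdet : (minusMat k F a b + (minusMat k F a b)ᵀ).det ≠ 0 := by
    rw [det_minus_gram]; simp [hd0]
  have hc := CfsgLib.Classical.card_isometry_minus (F := F) k hab
  rw [Nat.card_eq_fintype_card (α := F), hF, mul_assoc 2 _ _, mul_assoc 2] at hc
  by_cases h2 : (2 : F) = 0
  · have h := card_pOmega_char_two (M := minusMat k F a b) h2 (by simp; omega) hdet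
    rw [coe_matQuad_minus, hc] at h
    haveI := CharTwo.of_one_ne_zero_of_two_eq_zero (one_ne_zero (α := F)) h2
    have he : Even (q ^ (k + 1)) :=
      (Nat.even_iff.2 (hF ▸ FiniteField.even_card_of_char_two (ringChar.eq F 2))).pow_of_ne_zero
        (by omega)
    rw [gcd_four_odd _ he.add_one, one_mul]
    omega
  · have hodd : Odd q := by
      refine Nat.odd_iff.2 (hF ▸ FiniteField.odd_card_of_char_ne_two fun hr => h2 ?_)
      haveI := ringChar.of_eq hr
      exact CharTwo.two_eq_zero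
    have h := card_pOmega_even_dim (M := minusMat k F a b) h2 (by simp; omega)
      ⟨k + 1, by simp; omega⟩ hdet
    rw [coe_matQuad_minus, hc, det_minus_gram] at h
    have hodd' : q ^ (k + 1) % 2 = 1 := Nat.odd_iff.1 hodd.pow
    have hiff : IsSquare ((-1 : F) ^ k * (4 * b - a * a)) ↔ q ^ (k + 1) % 4 = 3 := by
      rw [show (-1 : F) ^ k * (4 * b - a * a) = (-1) ^ (k + 1) * (a * a - 4 * b) by ring]
      constructor
      · intro hs
        by_contra h3
        obtain ⟨s, hs'⟩ := (isSquare_neg_one_pow_iff hF hodd (k + 1)).2 (by omega)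
        have hs0 : s ≠ 0 := fun h0 => by simp [h0] at hs'
        have hd := hs.div ⟨s, hs'⟩
        rw [mul_div_cancel_left₀ _ (by simp)] at hd
        exact hns h2 hd
      · intro h3
        exact isSquare_mul_of_not (fun hs => by
          have := (isSquare_neg_one_pow_iff hF hodd (k + 1)).1 hs; omega) (hns h2)
    rw [gcd_four_even _ (by omega)]
    split_ifs at h with hs
    · rw [if_pos (by have := hiff.1 hs; omega)]
      omega
    · rw [if_neg (fun h' => hs (hiff.2 (by omega)))]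
      omega

end Cfsg.Agent.S0294
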