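import Cfsg.Statements.S2046
import Cfsg.Agent.Lib.KnownB.Mult.HS.Stem
import Cfsg.Agent.Lib.KnownB.Mult.Stab
import Cfsg.Agent.Lib.Schur.Lift
-- import your own Cfsg.Agent.* helpers here

set_option autoImplicit false
open Cfsg

namespace Cfsg.Agent.S2046

/-- The Schur multiplier of the Higman–Sims group (as a two-vector stabiliser in the automorphism group of the rank-24 lattice) is cyclic of order 2; here the Schur multiplier is described through stem extensions, as in the definitions: surjective homomorphisms onto the group from a finite group, whose kernel is central in that finite group and contained in that finite group's commutator subgroup. -/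
theorem result : Cfsg.HasCyclicSchurMultiplier ↥Cfsg.Spor.HS 2 := by
  obtain ⟨hN, hk, hsur⟩ := CfsgLib.KnownB.Mult.HS.cover_facts
  have hcov : Cfsg.HasCyclicSchurMultiplier ↥CfsgLib.KnownB.Mult.HS.cover 1 := by
    refine CfsgLib.KnownB.Mult.hasTrivialMultiplier_of_primeCond fun p _ => ?_
    by_cases h2 : p = 2
    · subst h2
      exact CfsgLib.KnownB.Mult.HS.facts_two.2 (m := 86625) (hN.trans (by norm_num)) (by norm_num)
    by_cases h3 : p = 3
    · subst h3
      exact CfsgLib.KnownB.Mult.HS.facts_three.2 (m := 9856000) (hN.trans (by norm_num)) (by norm_num)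
    by_cases h5 : p = 5
    · subst h5
      exact CfsgLib.KnownB.Mult.HS.facts_five.2 (m := 709632) (hN.trans (by norm_num)) (by norm_num)
    refine CfsgLib.KnownB.Mult.primeCond_of_cyclic default
      (CfsgLib.KnownB.Mult.isCyclic_sylow (p := p) ?_ default)
    intro hd
    rw [hN] at hd
    have hp : p.Prime := Fact.out
    have hc : ∀ q, q.Prime → p ≠ q → Nat.Coprime (p ^ 2) q := fun q hq h =>
      ((Nat.coprime_primes hp hq).2 h).pow_left 2
    have hd' : p ^ 2 ∣ 2 ^ 10 * (3 ^ 2 * (5 ^ 3 * 77)) := by norm_num; norm_num at hd; exact hd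
    have e2 := ((hc 2 (by norm_num) h2).pow_right 10).dvd_of_dvd_mul_left hd'
    have e3 := ((hc 3 (by norm_num) h3).pow_right 2).dvd_of_dvd_mul_left e2
    have e5 := ((hc 5 (by norm_num) h5).pow_right 3).dvd_of_dvd_mul_left e3
    have hle := Nat.le_of_dvd (by norm_num) e5
    have hp2 := hp.two_le
    have h4 : p ≠ 4 := fun e => by rw [e] at hp; exact absurd hp (by norm_num)
    have hlt : p ≤ 8 := by nlinarith
    interval_cases p <;> first | omega | (norm_num at e5) | (exact absurd hp (by norm_num))
  obtain ⟨e0⟩ := CfsgLib.Spor.HSIso.pairStab_equiv_hs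
  haveI : Finite ↥Cfsg.Spor.HS := Finite.of_equiv _ e0.toEquiv
  let σ : ↥CfsgLib.KnownB.Mult.HS.cover →* ↥Cfsg.Spor.HS :=
    e0.toMonoidHom.comp CfsgLib.KnownB.Mult.HS.proj
  have hker : σ.ker = CfsgLib.KnownB.Mult.HS.proj.ker := by
    ext g
    simp [σ, MonoidHom.mem_ker]
  have hs : Cfsg.IsStemExtension σ := ⟨e0.surjective.comp hsur,
    hker.le.trans CfsgLib.KnownB.Mult.HS.ker_le_center,
    hker.le.trans CfsgLib.KnownB.Mult.HS.ker_le_commutator⟩
  obtain ⟨e⟩ := CfsgLib.Schur.mult_equiv_ker_of_trivial σ hs hcov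
  have : Fact (Nat.Prime 2) := ⟨by norm_num⟩
  exact CfsgLib.Schur.hasSchurMultiplier_iff.2 ⟨(mulEquivOfPrimeCardEq (p := 2)
    (by simp [Nat.card_zmod]) (by rw [hker, hk])).trans e.symm⟩

end Cfsg.Agent.S2046
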