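import Cfsg.Statements.S2038
import Cfsg.Agent.Lib.KnownB.Mult.M24
import Cfsg.Agent.Lib.Spor.M24Order

set_option autoImplicit false
open Cfsg

namespace Cfsg.Agent.S2038

/-- The Schur multiplier of the Mathieu group M₂₄ (the automorphism group of the length-24 binary code) is trivial; here the Schur multiplier is described through stem extensions, as in the definitions: surjective homomorphisms onto the group from a finite group, whose kernel is central in that finite group and contained in that finite group's commutator subgroup. -/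
theorem result : Cfsg.HasCyclicSchurMultiplier ↥Cfsg.M24 1 := by
  rw [← CfsgLib.MathieuOut.stabG_M24]
  have hN : Nat.card (CfsgLib.Spor.stabG [] []) = 244823040 := by
    rw [CfsgLib.MathieuOut.stabG_M24]
    exact CfsgLib.Spor.natCard_M24
  refine CfsgLib.KnownB.Mult.hasTrivialMultiplier_of_primeCond fun p _ => ?_
  by_cases h2 : p = 2
  · subst h2
    exact CfsgLib.KnownB.Mult.Cert.primeCond CfsgLib.KnownB.Mult.M24.cert2_valid (m := 239085)
      (hN.trans (by norm_num [CfsgLib.KnownB.Mult.M24.cert2])) (by norm_num)
  by_cases h3 : p = 3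
  · subst h3
    exact CfsgLib.KnownB.Mult.Cert.primeCond CfsgLib.KnownB.Mult.M24.cert3_valid (m := 9067520)
      (hN.trans (by norm_num [CfsgLib.KnownB.Mult.M24.cert3])) (by norm_num)
  refine CfsgLib.KnownB.Mult.primeCond_of_cyclic default
    (CfsgLib.KnownB.Mult.isCyclic_sylow (p := p) ?_ default)
  intro hd
  rw [hN] at hd
  have hp : p.Prime := Fact.out
  exact CfsgLib.KnownB.Mult.not_sq_dvd_of_check 10 3 8855 95 (by decide +kernel) (by norm_num)
    (by norm_num) hp h2 h3 ((show (244823040 : ℕ) = 2 ^ 10 * 3 ^ 3 * 8855 from by norm_num) ▸ hd)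

end Cfsg.Agent.S2038
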