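import Cfsg.Statements.S1616
import Cfsg.Agent.Lib.ThreeTransp.Polar.SympCase
import Cfsg.Agent.Lib.ThreeTransp.Polar.UnitGraph
import Mathlib.FieldTheory.Finite.GaloisField


set_option autoImplicit false
open Cfsg

namespace Cfsg.Agent.S1616

/-- If O₂(⟨D_x⟩) is not central in ⟨D_x⟩ for some transposition x, the 3-transposition group is some Sp(2n, 2) or PSU(n, 2). -/
theorem result {G : Type*} [Group G] [Finite G] (hsol : ∀ N : Subgroup G, N.Normal → Group.IsSolvable ↥N → N = ⊥) (hperf : ⁅commutator G, commutator G⁆ = commutator G) {D : Set G} (hD : Cfsg.IsThreeTranspositionClass D) (x : G) (hx : x ∈ D) (h : ¬ Cfsg.pCore 2 ↥(Subgroup.closure {y : G | y ∈ D ∧ y ≠ x ∧ Commute x y}) ≤ Subgroup.center ↥(Subgroup.closure {y : G | y ∈ D ∧ y ≠ x ∧ Commute x y})) : (∃ n : ℕ, Nonempty (G ≃* Matrix.symplecticGroup (Fin n) (ZMod 2))) ∨ ∃ (F : Type) (_ : Field F) (_ : Fintype F) (n : ℕ), Fintype.card F = 4 ∧ Nonempty (G ≃* Cfsg.PSU n F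 2) := by
    have hH := CfsgLib.ThreeTransp.Polar.hyp_of_core hsol hperf hD hx h
    have hLno : ∀ a ∈ D, ∀ b ∈ CfsgLib.ThreeTransp.nb D a, ∀ a' ∈ D, ∀ b' ∈ CfsgLib.ThreeTransp.nb D a',
        (CfsgLib.ThreeTransp.SolvLocal.line D a b).ncard = (CfsgLib.ThreeTransp.SolvLocal.line D a' b').ncard :=
      fun a ha b hb a' ha' b' hb' => CfsgLib.ThreeTransp.Polar.line_ncard hH ha' hb' ha hb
    obtain ⟨y, hy⟩ := hH.edges x hx
    obtain ⟨k, hk⟩ := CfsgLib.ThreeTransp.Polar.line_odd hH hx hy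
    have h5 := CfsgLib.ThreeTransp.Polar.line_le_five hH hx hy
    have h3 := CfsgLib.ThreeTransp.Polar.line_three hH hx hy
    rcases (by omega : (CfsgLib.ThreeTransp.SolvLocal.line D x y).ncard = 3 ∨
        (CfsgLib.ThreeTransp.SolvLocal.line D x y).ncard = 5) with hL | hL
    · obtain ⟨m, e, -⟩ := CfsgLib.ThreeTransp.Polar.symp_case hH fun a ha b hb => (hLno a ha b hb x hx y hy).trans hL
      exact Or.inl ⟨m, ⟨e⟩⟩
    · obtain ⟨v, hv, hxv⟩ := hH.cls.exists_noncommute hx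
      have hB : CfsgLib.ThreeTransp.Polar.Base D x v :=
        ⟨hH, fun a ha b hb => (hLno a ha b hb x hx y hy).trans hL, hx, hv, fun h => hxv h.symm⟩
      haveI : Fintype (GaloisField 2 2) := Fintype.ofFinite _
      have hF : Nat.card (GaloisField 2 2) = 4 := GaloisField.card 2 2 (by norm_num)
      obtain ⟨σ, hσ⟩ := CfsgLib.Classical.Unitary.exists_uFrob (F := GaloisField 2 2) (q := 2) (by rw [hF]; rfl)
      obtain ⟨n, -, e, -⟩ := hB.unit_case hF hσ
      exact Or.inr ⟨GaloisField 2 2, inferInstance, inferInstance, n, by rw [← Nat.card_eq_fintype_card, hF], ⟨e⟩⟩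

end Cfsg.Agent.S1616
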