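import Cfsg.Statements.S3280
import Cfsg.Agent.Lib.CentFour.Reduce
import Cfsg.Agent.Lib.CharsMore.SCOrder3.Main
import Cfsg.Agent.S3035

set_option autoImplicit false
set_option linter.style.haveILetI false
open Cfsg

namespace Cfsg.Agent.S3280

/-- A non-cyclic finite simple group containing an element whose centralizer has order at most 4 is isomorphic to the alternating group of degree 5, 6 or 7, or to PSL(2, 7). -/
theorem result {G : Type*} [Group G] [Finite G] [IsSimpleGroup G] (hG : ¬ IsCyclic G)
    (w : G) (hw : Nat.card ↥(Subgroup.centralizer ({w} : Set G)) ≤ 4) :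
    Nonempty (G ≃* ↥(alternatingGroup (Fin 5))) ∨ Nonempty (G ≃* ↥(alternatingGroup (Fin 6))) ∨
      Nonempty (G ≃* ↥(alternatingGroup (Fin 7))) ∨
      (∃ (F : Type) (_ : Field F) (_ : Fintype F), Fintype.card F = 7 ∧ Nonempty (G ≃* Matrix.ProjectiveSpecialLinearGroup (Fin 2) F)) := by
  classical
  have hna : ¬ IsMulCommutative G := fun hc => by
    letI : CommGroup G := { (inferInstance : Group G) with mul_comm := hc.is_comm.comm }
    exact hG inferInstance
  have hsolv : Group.IsSolvable G → False := fun hs =>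
    hna ⟨⟨IsSimpleGroup.comm_iff_isSolvable.2 hs⟩⟩
  set C := Subgroup.centralizer ({w} : Set G) with hCdef
  have hwC : w ∈ C := Subgroup.mem_centralizer_singleton_iff.2 rfl
  have hw1 : w ≠ 1 := by
    intro e
    have htop : C = ⊤ := eq_top_iff.2 fun g _ =>
      Subgroup.mem_centralizer_singleton_iff.2 (by rw [e, one_mul, mul_one])
    rw [htop, Subgroup.card_top] at hw
    exact hsolv (CfsgLib.Recog.isSolvable_of_card_lt_sixty (by omega))
  have hdvd : orderOf w ∣ Nat.card C := Subgroup.orderOf_dvd_natCard C hwC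
  have ho1 : orderOf w ≠ 1 := fun e => hw1 (orderOf_eq_one_iff.1 e)
  have hpos : 0 < orderOf w := orderOf_pos w
  have hCpos : 0 < Nat.card C := Nat.card_pos
  have hole : orderOf w ≤ Nat.card C := Nat.le_of_dvd hCpos hdvd
  have hzle : Subgroup.zpowers w ≤ C := Subgroup.zpowers_le.2 hwC
  -- a self-centralizing element of order four
  have four : ∀ v : G, orderOf v = 4 →
      Subgroup.centralizer ({v} : Set G) = Subgroup.zpowers v →
      Nonempty (G ≃* ↥(alternatingGroup (Fin 5))) ∨ Nonempty (G ≃* ↥(alternatingGroup (Fin 6))) ∨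
      Nonempty (G ≃* ↥(alternatingGroup (Fin 7))) ∨
      (∃ (F : Type) (_ : Field F) (_ : Fintype F), Fintype.card F = 7 ∧
        Nonempty (G ≃* Matrix.ProjectiveSpecialLinearGroup (Fin 2) F)) := by
    intro v hv hC
    obtain ⟨S, d, h⟩ := CfsgLib.CentFour.exists_hyp hna hv hC
    rcases h.outcome with hD | h2520
    · have sgn : ∀ (n : ℕ), 2 ≤ n → (G ≃* Equiv.Perm (Fin n)) → False := fun n hn e => by
        haveI : Nontrivial (Fin n) := Fin.nontrivial_iff_two_le.2 hn
        refine CfsgLib.CentFour.not_isSimple_of_index_two hna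
          (M := (Equiv.Perm.sign.comp e.toMonoidHom).ker) ?_
        have hsurj : Function.Surjective (Equiv.Perm.sign.comp e.toMonoidHom) :=
          (Equiv.Perm.sign_surjective (Fin n)).comp e.surjective
        rw [Subgroup.index_ker, MonoidHom.range_eq_top.2 hsurj, Subgroup.card_top,
          Nat.card_eq_fintype_card, Fintype.card_units_int]
      rcases Cfsg.Agent.S3035.result d.z d.orderOf_z hD with h1 | ⟨⟨e⟩⟩ | ⟨⟨e⟩⟩ | ⟨⟨f⟩⟩ | h6
      · exfalso
        have hO : Cfsg.oddCore G = ⊥ := by
          haveI : (Cfsg.oddCore G).Normal := by unfold Cfsg.oddCore; infer_instance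
          rcases IsSimpleGroup.eq_bot_or_eq_top_of_normal (Cfsg.oddCore G)
            inferInstance with h' | h'
          · exact h'
          · exfalso
            have hodd := CfsgLib.Base.odd_card_oddCore G
            rw [h', Subgroup.card_top] at hodd
            exact Nat.not_even_iff_odd.2 hodd
              (even_iff_two_dvd.2 ((by norm_num : 2 ∣ 8).trans h.eight_dvd))
        rw [hO, sup_bot_eq] at h1
        have hz : d.z ∈ Subgroup.center G := Subgroup.mem_center_iff.2 fun g =>
          Subgroup.mem_centralizer_singleton_iff.1 (h1 ▸ Subgroup.mem_top g)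
        rcases IsSimpleGroup.eq_bot_or_eq_top_of_normal (Subgroup.center G) inferInstance with h' | h'
        · rw [h', Subgroup.mem_bot] at hz
          exact CfsgLib.Involutions.invol_ne_one d.orderOf_z hz
        · exact hna ⟨⟨fun x y => Subgroup.mem_center_iff.1
            (h' ▸ Subgroup.mem_top y : y ∈ Subgroup.center G) x⟩⟩
      · exact (sgn 4 (by norm_num) e).elim
      · exact (sgn 5 (by norm_num) e).elim
      · haveI : Fact (Nat.Prime 7) := ⟨by norm_num⟩
        obtain ⟨f'⟩ := Cfsg.Agent.S0255.result (F := ZMod 7) (K := ZMod 2) (ZMod.card 7)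
          (ZMod.card 2)
        refine Or.inr (Or.inr (Or.inr ⟨ZMod 7, inferInstance, inferInstance, ZMod.card 7, ⟨?_⟩⟩))
        exact (f.trans (((QuotientGroup.quotientMulEquivOfEq CfsgLib.Small.center_SL_three_two).trans
          QuotientGroup.quotientBot).symm)).trans f'.symm
      · exact Or.inr (Or.inl h6)
    · exact Or.inr (Or.inr (Or.inl (CfsgLib.Small.O2520.equiv_alternating_seven h2520)))
  rcases (show orderOf w = 2 ∨ orderOf w = 3 ∨ orderOf w = 4 by omega) with h2 | h3 | h4
  · obtain ⟨q, hq⟩ := hdvd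
    rw [h2] at hq
    rcases (show q = 1 ∨ q = 2 by omega) with rfl | rfl
    · exfalso
      -- a Sylow subgroup of order two
      haveI : Fact (Nat.Prime 2) := ⟨Nat.prime_two⟩
      obtain ⟨S, hS⟩ := (IsPGroup.of_card (p := 2) (n := 1)
        (by rw [Nat.card_zpowers, h2, pow_one]) : IsPGroup 2 (Subgroup.zpowers w)).exists_le_sylow
      have hCz : Subgroup.zpowers w = C :=
        Subgroup.eq_of_le_of_card_ge hzle (by rw [Nat.card_zpowers, h2, hq])
      have hwS : w ∈ (S : Subgroup G) := hS (Subgroup.mem_zpowers w)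
      haveI : Nontrivial (S : Subgroup G) :=
        (Subgroup.nontrivial_iff_exists_ne_one _).2 ⟨w, hwS, hw1⟩
      haveI := S.isPGroup'.center_nontrivial
      obtain ⟨⟨⟨c, hcS⟩, hc⟩, hc1⟩ := exists_ne (1 : Subgroup.center (S : Subgroup G))
      have hcC : c ∈ Subgroup.zpowers w := hCz.symm ▸ Subgroup.mem_centralizer_singleton_iff.2
        (congrArg Subtype.val ((Subgroup.mem_center_iff.1 hc) ⟨w, hwS⟩)).symm
      have hcw : c = w := by
        rcases (CfsgLib.Involutions.mem_zpowers_invol h2).1 hcC with e | e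
        · exact absurd (Subtype.ext (Subtype.ext e)) hc1
        · exact e
      subst hcw
      have hle : (S : Subgroup G) ≤ Subgroup.zpowers c := fun g hg => hCz.symm ▸
        Subgroup.mem_centralizer_singleton_iff.2
          (congrArg Subtype.val ((Subgroup.mem_center_iff.1 hc) ⟨g, hg⟩))
      exact hsolv (CfsgLib.DGroup.isSolvable_of_isCyclic S (Subgroup.isCyclic_of_le hle))
    · by_cases hsq : ∀ g ∈ C, g * g = 1
      · exact Or.inl (CfsgLib.Small.equiv_alternating_five
          (CfsgLib.CentFour.card_eq_sixty_of_four hna h2 (by rw [hq]) hsq))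
      · push Not at hsq
        obtain ⟨v, hvC, hv⟩ := hsq
        have hd : orderOf v ∣ 2 ^ 2 := by
          rw [show 2 ^ 2 = Nat.card C by rw [hq]; norm_num]
          exact Subgroup.orderOf_dvd_natCard C hvC
        obtain ⟨k, hk, hvk⟩ := (Nat.dvd_prime_pow Nat.prime_two).1 hd
        have hv4 : orderOf v = 4 := by
          interval_cases k
          · exact absurd (by rw [orderOf_eq_one_iff.1 hvk, one_mul]) hv
          · exact absurd (CfsgLib.Involutions.invol_mul_self hvk) hv
          · simpa using hvk
        have hzv : Subgroup.zpowers v = C := Subgroup.eq_of_le_of_card_ge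
          (Subgroup.zpowers_le.2 hvC) (by rw [Nat.card_zpowers, hv4, hq])
        refine four v hv4 (le_antisymm ?_ ?_)
        · intro g hg
          rw [hzv]
          obtain ⟨i, hi⟩ := (hzv.symm ▸ hwC : w ∈ Subgroup.zpowers v)
          refine Subgroup.mem_centralizer_singleton_iff.2 ?_
          rw [← hi]
          exact ((show Commute g v from Subgroup.mem_centralizer_singleton_iff.1 hg).zpow_right i).eq
        · rw [Subgroup.zpowers_le, Subgroup.mem_centralizer_singleton_iff]
  · have h3C : Nat.card C = 3 := by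
      obtain ⟨q, hq⟩ := hdvd
      rw [h3] at hq
      omega
    have hCz : Subgroup.zpowers w = C :=
      Subgroup.eq_of_le_of_card_ge hzle (by rw [Nat.card_zpowers, h3, h3C])
    have hsc : CfsgLib.CharsMore.SCOrder3.SC w := by
      refine ⟨h3, fun g hg => ?_⟩
      have hmem : g ∈ Subgroup.zpowers w :=
        hCz.symm ▸ Subgroup.mem_centralizer_singleton_iff.2 hg.eq
      obtain ⟨k, hk⟩ := mem_powers_iff_mem_zpowers.2 hmem
      have hk' : g = w ^ (k % 3) := by rw [← h3, pow_mod_orderOf]; exact hk.symm
      rcases (show k % 3 = 0 ∨ k % 3 = 1 ∨ k % 3 = 2 by omega) with e | e | e <;> rw [e] at hk'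
      · exact Or.inl (by rw [hk', pow_zero])
      · exact Or.inr (Or.inl (by rw [hk', pow_one]))
      · exact Or.inr (Or.inr hk')
    rcases hsc.classification with ⟨N, hN, -, -, hq⟩ | ⟨N, hN, hab, -, ⟨e⟩⟩ | hP
    · exfalso
      rcases IsSimpleGroup.eq_bot_or_eq_top_of_normal N hN with rfl | rfl
      · refine hsolv (CfsgLib.Recog.isSolvable_of_card_lt_sixty ?_)
        rw [← Nat.card_congr (QuotientGroup.quotientBot (G := G)).toEquiv]
        rcases hq with hq | ⟨⟨e⟩⟩
        · omega
        · rw [Nat.card_congr e.toEquiv, Nat.card_eq_fintype_card, Fintype.card_perm,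
            Fintype.card_fin]
          decide
      · haveI : Subsingleton (G ⧸ (⊤ : Subgroup G)) := QuotientGroup.subsingleton_quotient_top
        rcases hq with hq | ⟨⟨e⟩⟩
        · rw [Nat.card_of_subsingleton (1 : G ⧸ (⊤ : Subgroup G))] at hq
          norm_num at hq
        · have := Nat.card_congr e.toEquiv
          rw [Nat.card_of_subsingleton (1 : G ⧸ (⊤ : Subgroup G)), Nat.card_eq_fintype_card,
            Fintype.card_perm, Fintype.card_fin] at this
          exact absurd this (by decide)
    · rcases IsSimpleGroup.eq_bot_or_eq_top_of_normal N hN with rfl | rfl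
      · exact Or.inl ⟨QuotientGroup.quotientBot.symm.trans e⟩
      · exact absurd ⟨⟨fun x y => congrArg Subtype.val
          (hab.is_comm.comm ⟨x, Subgroup.mem_top x⟩ ⟨y, Subgroup.mem_top y⟩)⟩⟩ hna
    · haveI : Fact (Nat.Prime 7) := ⟨by norm_num⟩
      exact Or.inr (Or.inr (Or.inr ⟨ZMod 7, inferInstance, inferInstance, ZMod.card 7, hP⟩))
  · refine four w h4 (Subgroup.eq_of_le_of_card_ge hzle ?_).symm
    rw [Nat.card_zpowers, h4]
    exact hw

end Cfsg.Agent.S3280
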