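import Cfsg.Statements.S0819
import Mathlib

set_option autoImplicit false
open Cfsg

namespace Cfsg.Agent.S0819

theorem exists_scalar_pow {F : Type*} [Field F] [Fintype F] (hF : Fintype.card F = 4)
    (x : Matrix.SpecialLinearGroup (Fin 3) F) : ∃ (k : ℕ) (c : F),
      (x : Matrix (Fin 3) (Fin 3) F) ^ k = c • (1 : Matrix (Fin 3) (Fin 3) F) ∧ (k = 3 ∨ k = 4 ∨ k = 5 ∨ k = 7) := by
  set M : Matrix (Fin 3) (Fin 3) F := (x : Matrix (Fin 3) (Fin 3) F) with hM
  have h4 : (4 : F) = 0 := by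
    have h := Nat.cast_card_eq_zero F
    rw [hF] at h
    exact_mod_cast h
  have h2 : (2 : F) = 0 := by
    have h22 : (2 : F) * 2 = 0 := by rw [← h4]; norm_num
    exact mul_self_eq_zero.1 h22
  have hcube : ∀ a : F, a ≠ 0 → a ^ 3 = 1 := fun a ha => by
    have := FiniteField.pow_card_sub_one_eq_one a ha
    rwa [hF] at this
  have hdeg : M.charpoly.natDegree = 3 := by rw [Matrix.charpoly_natDegree_eq_dim, Fintype.card_fin]
  have hc0 : M.charpoly.coeff 0 = 1 := by
    have h := Matrix.det_eq_sign_charpoly_coeff M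
    rw [show M.det = 1 from x.2, Fintype.card_fin] at h
    linear_combination h - h2
  have hc3 : M.charpoly.coeff 3 = 1 := by
    have h := M.charpoly_monic
    rwa [Polynomial.Monic, Polynomial.leadingCoeff, hdeg] at h
  set a := M.charpoly.coeff 2 with ha
  set b := M.charpoly.coeff 1 with hb
  have hCH : M ^ 3 = a • M ^ 2 + b • M + 1 := by
    have h := Matrix.aeval_self_charpoly M
    rw [Polynomial.aeval_eq_sum_range, hdeg] at h
    simp only [Finset.sum_range_succ, Finset.sum_range_zero, zero_add, hc0, hc3, ← ha, ← hb, one_smul, pow_zero, pow_one] at h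
    ext i j
    have hij := congrFun (congrFun h i) j
    simp only [Matrix.add_apply, Matrix.smul_apply, smul_eq_mul, Matrix.zero_apply] at hij ⊢
    linear_combination hij - (a * (M ^ 2) i j + b * M i j + (1 : Matrix (Fin 3) (Fin 3) F) i j) * h2
  -- the powers of `M` in the basis `1, M, M²`
  have hstep : ∀ (k : ℕ) (A B C : F), M ^ k = A • M ^ 2 + B • M + C • (1 : Matrix (Fin 3) (Fin 3) F) →
      M ^ (k + 1) = (a * A + B) • M ^ 2 + (b * A + C) • M + A • (1 : Matrix (Fin 3) (Fin 3) F) := by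
    intro k A B C h
    rw [pow_succ, h, add_mul, add_mul, smul_mul_assoc, smul_mul_assoc, smul_mul_assoc, ← pow_succ, one_mul,
      hCH, show M * M = M ^ 2 from (sq M).symm]
    simp only [smul_add, smul_smul, add_smul, mul_comm a A, mul_comm b A]
    abel
  have h3 : M ^ 3 = a • M ^ 2 + b • M + (1 : F) • (1 : Matrix (Fin 3) (Fin 3) F) := by rw [one_smul]; exact hCH
  have h4' := hstep 3 _ _ _ h3
  have h5 := hstep 4 _ _ _ h4'
  have h6 := hstep 5 _ _ _ h5
  have h7 := hstep 6 _ _ _ h6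
  have fin : ∀ (k : ℕ) (A B C : F), M ^ k = A • M ^ 2 + B • M + C • (1 : Matrix (Fin 3) (Fin 3) F) → A = 0 → B = 0 →
      M ^ k = C • (1 : Matrix (Fin 3) (Fin 3) F) := by
    intro k A B C h hA hB
    rw [h, hA, hB, zero_smul, zero_smul, zero_add, zero_add]
  by_cases ha0 : a = 0
  · by_cases hb0 : b = 0
    · exact ⟨3, _, fin 3 _ _ _ h3 ha0 hb0, Or.inl rfl⟩
    · refine ⟨7, _, fin 7 _ _ _ h7 ?_ ?_, Or.inr (Or.inr (Or.inr rfl))⟩ <;> simp only [ha0]
      · linear_combination b * h2
      · linear_combination hcube b hb0 + h2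
  have ha3 := hcube a ha0
  by_cases hb0 : b = 0
  · refine ⟨7, _, fin 7 _ _ _ h7 ?_ ?_, Or.inr (Or.inr (Or.inr rfl))⟩ <;> simp only [hb0]
    · linear_combination a ^ 2 * ha3 + (a ^ 2 + a ^ 2) * h2
    · linear_combination ha3 + h2
  by_cases hba : b = a ^ 2
  · refine ⟨4, _, fin 4 _ _ _ h4' ?_ ?_, Or.inr (Or.inl rfl)⟩
    · linear_combination hba + a ^ 2 * h2
    · linear_combination a * hba + ha3 + h2
  refine ⟨5, _, fin 5 _ _ _ h5 ?_ ?_, Or.inr (Or.inr (Or.inl rfl))⟩
  · linear_combination ha3 + (a * b + 1) * h2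
  · have hfac : (b - a ^ 2) * (b ^ 2 + a ^ 2 * b + a) = 0 := by
      linear_combination hcube b hb0 - ha3 - a * b * ha3
    have h := (mul_eq_zero.1 hfac).resolve_left (sub_ne_zero.2 hba)
    linear_combination h

/-- No element of PSL_3(4) has order 15. -/
theorem result {F : Type*} [Field F] [Fintype F] (hF : Fintype.card F = 4) (g : Matrix.ProjectiveSpecialLinearGroup (Fin 3) F) : orderOf g ≠ 15 := by
  classical
  obtain ⟨x, rfl⟩ := QuotientGroup.mk'_surjective (Subgroup.center (Matrix.SpecialLinearGroup (Fin 3) F)) g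
  intro h15
  obtain ⟨k, c, hk, hk15⟩ := exists_scalar_pow hF x
  have hmem : x ^ k ∈ Subgroup.center (Matrix.SpecialLinearGroup (Fin 3) F) := by
    rw [Subgroup.mem_center_iff]
    intro y
    refine Subtype.ext ?_
    rw [Matrix.SpecialLinearGroup.coe_mul, Matrix.SpecialLinearGroup.coe_mul, Matrix.SpecialLinearGroup.coe_pow, hk,
      mul_smul_comm, smul_mul_assoc, mul_one, one_mul]
  have h1 : (QuotientGroup.mk' (Subgroup.center (Matrix.SpecialLinearGroup (Fin 3) F)) x) ^ k = 1 := by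
    rw [← map_pow]
    exact (QuotientGroup.eq_one_iff _).2 hmem
  have hd := orderOf_dvd_of_pow_eq_one h1
  rw [h15] at hd
  rcases hk15 with rfl | rfl | rfl | rfl <;> omega

end Cfsg.Agent.S0819
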