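import Cfsg.Statements.S1225
import Cfsg.Agent.Lib.Involutions.StrongEmbCosets

set_option autoImplicit false
open Cfsg

namespace Cfsg.Agent.S1225

/-- Let H be a strongly embedded subgroup of the finite group G, u an involution outside H and D = H ∩ uHu⁻¹. Then any two involutions of H are conjugate by an element of D, and any two involutions of G are conjugate in G. -/
theorem result {G : Type*} [Group G] [Finite G] (H : Subgroup G) (hH : Cfsg.IsStronglyEmbedded H) (u : G) (hu : orderOf u = 2) (huH : u ∉ H) (s t : G) (hs : orderOf s = 2) (hsH : s ∈ H) (ht : orderOf t = 2) (htH : t ∈ H) : (∃ d ∈ (H ⊓ H.map (MulAut.conj u).toMonoidHom), d * s * d⁻¹ = t) ∧ ∀ a b : G, orderOf a = 2 → orderOf b = 2 → IsConj a b := by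
  open CfsgLib.Involutions in
  refine ⟨?_, fun a b ha hb => SE.isConj hH ha hb⟩
  have hxy : ((1 : G) : G ⧸ H) ≠ (u : G ⧸ H) := fun h => huH (by simpa using QuotientGroup.eq.1 h)
  have hsx : s • ((1 : G) : G ⧸ H) = ((1 : G) : G ⧸ H) := SE.smul_mk_eq_iff.2 (by simpa using hsH)
  have htx : t • ((1 : G) : G ⧸ H) = ((1 : G) : G ⧸ H) := SE.smul_mk_eq_iff.2 (by simpa using htH)
  have hux : u • ((1 : G) : G ⧸ H) = (u : G ⧸ H) := by
    rw [MulAction.Quotient.smul_mk, smul_eq_mul, mul_one]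
  have huy : u • (u : G ⧸ H) = ((1 : G) : G ⧸ H) := by
    rw [MulAction.Quotient.smul_mk, smul_eq_mul, invol_mul_self hu]
  have hvy : (u * s * u) • (u : G ⧸ H) = (u : G ⧸ H) := by rw [mul_smul, mul_smul, huy, hsx, hux]
  have hvo : orderOf (u * s * u) = 2 := by
    have := conj_invol u hs; rwa [invol_inv hu] at this
  obtain ⟨w, ⟨hw, hwx, hwv⟩, -⟩ := SE.existsUnique_conj hH hvo ht hxy.symm hvy htx
  have hwy : w • ((1 : G) : G ⧸ H) = (u : G ⧸ H) := by
    rw [← hwx, ← mul_smul, invol_mul_self hw, one_smul]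
  refine ⟨w * u, ⟨?_, mem_conj_map.2 ?_⟩, ?_⟩
  · have h1 : (w * u) • ((1 : G) : G ⧸ H) = ((1 : G) : G ⧸ H) := by rw [mul_smul, hux, hwx]
    simpa using SE.smul_mk_eq_iff.1 h1
  · have h1 : (w * u) • (u : G ⧸ H) = (u : G ⧸ H) := by rw [mul_smul, huy, hwy]
    exact SE.smul_mk_eq_iff.1 h1
  · rw [mul_inv_rev, invol_inv hu, invol_inv hw, ← hwv]
    group

end Cfsg.Agent.S1225
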