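import Cfsg.Statements.S4216
import Cfsg.Agent.Lib.Base.Transport
import Mathlib.GroupTheory.Transfer

set_option autoImplicit false
open Cfsg

namespace Cfsg.Agent.S4216

open scoped commutatorElement

/-- Grün's first Theorem: if `P` is a Sylow `p`-subgroup of the finite group `G`, then `P ∩ G'` is the subgroup generated by `P ∩ N_G(P)'` together with the subgroups `P ∩ z P' z⁻¹` for all `z ∈ G`, where `'` denotes the derived subgroup and `N_G(P)` the normalizer of `P`. -/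
theorem result {G : Type*} [Group G] [Finite G] {p : ℕ} [Fact p.Prime] (P : Sylow p G) : (P : Subgroup G) ⊓ commutator G = ((P : Subgroup G) ⊓ ⁅Subgroup.normalizer ((P : Subgroup G) : Set G), Subgroup.normalizer ((P : Subgroup G) : Set G)⁆) ⊔ ⨆ z : G, (P : Subgroup G) ⊓ (⁅(P : Subgroup G), (P : Subgroup G)⁆).map (MulAut.conj z).toMonoidHom := by
  classical
  haveI := Fintype.ofFinite G
  set P₀ := (P : Subgroup G) with hP₀
  set R := (P₀ ⊓ ⁅Subgroup.normalizer (P₀ : Set G), Subgroup.normalizer (P₀ : Set G)⁆) ⊔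
    ⨆ z : G, P₀ ⊓ (⁅P₀, P₀⁆).map (MulAut.conj z).toMonoidHom with hR
  refine le_antisymm ?_ (sup_le (inf_le_inf_left _ (Subgroup.commutator_mono le_top le_top))
    (iSup_le fun z => inf_le_inf_left _ ((Subgroup.map_mono (Subgroup.commutator_mono le_top le_top)).trans
      (le_of_eq (Subgroup.characteristic_iff_map_eq.1 inferInstance _)))))
  have hRz : ∀ (z : G) (d : G), d ∈ P₀ → d ∈ (⁅P₀, P₀⁆).map (MulAut.conj z).toMonoidHom → d ∈ R :=
    fun z d h1 h2 => Subgroup.mem_sup_right (Subgroup.mem_iSup_of_mem z ⟨h1, h2⟩)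
  -- an abelian image of `P` with kernel `R`
  set R' := R.subgroupOf P₀ with hR'
  have hcR : _root_.commutator P₀ ≤ R' := by
    rw [commutator_def, Subgroup.commutator_le]
    intro a _ b _
    refine hRz 1 _ ⁅a, b⁆.2 ⟨_, Subgroup.commutator_mem_commutator a.2 b.2, ?_⟩
    simp
  set φ : P₀ →* Abelianization P₀ ⧸ R'.map Abelianization.of :=
    (QuotientGroup.mk' _).comp Abelianization.of with hφdef
  have hφ : ∀ y : P₀, φ y = 1 ↔ (y : G) ∈ R := fun y => by
    rw [hφdef, MonoidHom.comp_apply, QuotientGroup.mk'_apply, QuotientGroup.eq_one_iff,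
      ← Subgroup.mem_comap, Subgroup.comap_map_eq, Abelianization.ker_of, sup_eq_left.mpr hcR]
    exact Subgroup.mem_subgroupOf
  intro x₀ hx₀
  by_contra hne₀
  obtain ⟨x, ⟨⟨hxP, hxG⟩, hxR⟩, hmin⟩ := Set.exists_min_image
    {x : G | x ∈ P₀ ⊓ _root_.commutator G ∧ x ∉ R} orderOf (Set.toFinite _) ⟨x₀, hx₀, hne₀⟩
  refine hxR ((hφ ⟨x, hxP⟩).mp ?_)
  have hpow : ∀ (k : ℕ) (g : G) (hm : g⁻¹ * x ^ k * g ∈ P₀), 1 < k → k ∣ orderOf x →
      φ ⟨_, hm⟩ = 1 := by
    intro k g hm hk hdvd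
    rw [hφ]
    by_contra hn
    have h := hmin _ ⟨⟨hm, by
      simpa using (inferInstance : (_root_.commutator G).Normal).conj_mem _ (pow_mem hxG k) g⁻¹⟩, hn⟩
    have e : orderOf (g⁻¹ * x ^ k * g) = orderOf (x ^ k) := by
      simpa using (MulAut.conj g⁻¹).orderOf_eq (x ^ k)
    rw [e, orderOf_pow_of_dvd (by omega) hdvd] at h
    exact absurd h (not_le.mpr (Nat.div_lt_self (orderOf_pos x) hk))
  -- the fixed cosets
  set Fx : Finset (G ⧸ P₀) := Finset.univ.filter fun c => x • c = c with hFxdef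
  have hmemFx : ∀ c, c ∈ Fx ↔ x • c = c := fun c => by simp [hFxdef]
  let F : G ⧸ P₀ → Abelianization P₀ ⧸ R'.map Abelianization.of := fun c =>
    if h : c.out⁻¹ * x * c.out ∈ P₀ then φ ⟨_, h⟩ else 1
  have hfix : ∀ g : G, x • (g : G ⧸ P₀) = g ↔ g⁻¹ * x * g ∈ P₀ := fun g => by
    rw [eq_comm, MulAction.Quotient.smul_mk, QuotientGroup.eq, smul_eq_mul, mul_assoc]
  have hF : ∀ (c : G ⧸ P₀) (g : G) (hg : g⁻¹ * x * g ∈ P₀), (g : G ⧸ P₀) = c → F c = φ ⟨_, hg⟩ := by
    intro c g hg hgc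
    have hu : g⁻¹ * c.out ∈ P₀ := QuotientGroup.eq.mp (hgc.trans (QuotientGroup.out_eq' c).symm)
    have hm : c.out⁻¹ * x * c.out ∈ P₀ := by
      rw [show c.out⁻¹ * x * c.out = (g⁻¹ * c.out)⁻¹ * (g⁻¹ * x * g) * (g⁻¹ * c.out) by group]
      exact P₀.mul_mem (P₀.mul_mem (P₀.inv_mem hu) hg) hu
    show (if h : c.out⁻¹ * x * c.out ∈ P₀ then φ ⟨_, h⟩ else 1) = _
    rw [dif_pos hm, show (⟨_, hm⟩ : P₀) = (⟨_, hu⟩ : P₀)⁻¹ * ⟨_, hg⟩ * ⟨_, hu⟩ from Subtype.ext (by
      simp only [Subgroup.coe_mul, Subgroup.coe_inv]; group), map_mul, map_mul, map_inv]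
    rw [mul_right_comm, inv_mul_cancel, one_mul]
  have hprod : ∏ c ∈ Fx, F c = 1 := by
    haveI : Fintype (Quotient (MulAction.orbitRel (Subgroup.zpowers x) (G ⧸ P₀))) := Fintype.ofFinite _
    have h := MonoidHom.transfer_eq_prod_quotient_orbitRel_zpowers_quot φ x
    rw [show MonoidHom.transfer φ x = 1 from Abelianization.commutator_subset_ker _ hxG] at h
    refine Eq.trans ?_ h.symm
    have hper : ∀ q : Quotient (MulAction.orbitRel (Subgroup.zpowers x) (G ⧸ P₀)),
        Function.minimalPeriod (x • ·) q.out ∣ orderOf x := fun q => by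
      rw [← MulAction.pow_smul_eq_iff_minimalPeriod_dvd, pow_orderOf_eq_one, one_smul]
    rw [← Finset.prod_filter_of_ne
      (p := fun q : Quotient (MulAction.orbitRel (Subgroup.zpowers x) (G ⧸ P₀)) => x • q.out = q.out)
      (fun q _ hq => ?_)]
    swap
    · by_contra hn
      refine hq (hpow _ _ _ ?_ (hper q))
      have h0 : 0 < Function.minimalPeriod (x • ·) q.out := Nat.pos_of_dvd_of_pos (hper q) (orderOf_pos x)
      by_contra hle
      exact hn (Function.minimalPeriod_eq_one_iff_isFixedPt.mp (le_antisymm (not_lt.mp hle) h0))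
    refine (Finset.prod_bij' (fun q _ => q.out) (fun c _ => Quotient.mk'' c)
      (fun q hq => (hmemFx _).mpr (Finset.mem_filter.mp hq).2) ?_ (fun q _ => Quotient.out_eq' q) ?_ ?_).symm
    · intro c hc
      refine Finset.mem_filter.mpr ⟨Finset.mem_univ _, ?_⟩
      have hr := Quotient.exact (Quotient.out_eq (Quotient.mk'' c :
        Quotient (MulAction.orbitRel (Subgroup.zpowers x) (G ⧸ P₀))))
      obtain ⟨⟨_, i, rfl⟩, hi⟩ := hr
      dsimp only at hi
      rw [← hi]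
      show x • x ^ i • c = x ^ i • c
      rw [← mul_smul, ((Commute.refl x).zpow_right i).eq, mul_smul, (hmemFx c).mp hc]
    · intro c hc
      have hr := Quotient.exact (Quotient.out_eq (Quotient.mk'' c :
        Quotient (MulAction.orbitRel (Subgroup.zpowers x) (G ⧸ P₀))))
      obtain ⟨⟨_, i, rfl⟩, hi⟩ := hr
      dsimp only at hi ⊢
      rw [← hi]
      show x ^ i • c = c
      have hst : x ∈ MulAction.stabilizer G c := (hmemFx c).mp hc
      exact (MulAction.stabilizer G c).zpow_mem hst i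
    · intro q hq
      have hk : Function.minimalPeriod (x • ·) q.out = 1 :=
        Function.minimalPeriod_eq_one_iff_isFixedPt.mpr (Finset.mem_filter.mp hq).2
      have hm : q.out.out⁻¹ * x * q.out.out ∈ P₀ :=
        (hfix _).mp (by rw [QuotientGroup.out_eq']; exact (Finset.mem_filter.mp hq).2)
      rw [hF q.out _ hm (QuotientGroup.out_eq' _)]
      refine congrArg φ (Subtype.ext ?_)
      show q.out.out⁻¹ * x ^ Function.minimalPeriod (x • ·) q.out * q.out.out = q.out.out⁻¹ * x * q.out.out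
      rw [hk, pow_one]
  have hPp : IsPGroup p P₀ := P.isPGroup'
  set Fix0 : Finset (G ⧸ P₀) := Finset.univ.filter fun c => c ∈ MulAction.fixedPoints P₀ (G ⧸ P₀)
    with hFix0
  have hsub : Fix0 ⊆ Fx := fun c hc => (hmemFx c).mpr ((Finset.mem_filter.mp hc).2 ⟨x, hxP⟩)
  have h0 : ∀ c ∈ Fix0, F c = φ ⟨x, hxP⟩ := by
    intro c hc
    obtain ⟨g, rfl⟩ := QuotientGroup.mk_surjective c
    have hg : ∀ u ∈ P₀, g⁻¹ * u * g ∈ P₀ := fun u hu => by
      have h := (Finset.mem_filter.mp hc).2 ⟨u, hu⟩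
      change ((u * g : G) : G ⧸ P₀) = (g : G ⧸ P₀) at h
      rw [eq_comm, QuotientGroup.eq, ← mul_assoc] at h
      exact h
    have hgN : g⁻¹ ∈ Subgroup.normalizer (P₀ : Set G) := by
      rw [← CfsgLib.Base.map_conj_eq_self_iff]
      refine Subgroup.eq_of_le_of_card_ge ?_ (Subgroup.card_map_of_injective (MulAut.conj g⁻¹).injective).ge
      rintro _ ⟨u, hu, rfl⟩
      show g⁻¹ * u * g⁻¹⁻¹ ∈ P₀
      rw [inv_inv]; exact hg u hu
    rw [hF _ g (hg x hxP) rfl, ← inv_mul_eq_one.trans eq_comm, ← map_inv, ← map_mul, hφ]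
    refine Subgroup.mem_sup_left ⟨P₀.mul_mem (P₀.inv_mem hxP) (hg x hxP), ?_⟩
    show x⁻¹ * (g⁻¹ * x * g) ∈ _
    rw [show x⁻¹ * (g⁻¹ * x * g) = ⁅x⁻¹, g⁻¹⁆ by simp only [commutatorElement_def]; group]
    exact Subgroup.commutator_mem_commutator (Subgroup.le_normalizer (P₀.inv_mem hxP)) hgN
  have h1 : ∏ c ∈ Fx \ Fix0, F c = 1 := by
    rw [← Finset.prod_fiberwise (Fx \ Fix0) (fun c => MulAction.orbit P₀ c) F]
    refine Finset.prod_eq_one fun O _ => ?_
    rcases Finset.eq_empty_or_nonempty ((Fx \ Fix0).filter fun c => MulAction.orbit P₀ c = O) with he | ⟨c₀, hc₀⟩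
    · rw [he, Finset.prod_empty]
    obtain ⟨hc₀', hO⟩ := Finset.mem_filter.mp hc₀
    obtain ⟨hc₀F, hc₀0⟩ := Finset.mem_sdiff.mp hc₀'
    obtain ⟨g, rfl⟩ := QuotientGroup.mk_surjective c₀
    have hg : g⁻¹ * x * g ∈ P₀ := (hfix g).mp ((hmemFx _).mp hc₀F)
    have hconst : ∀ c ∈ (Fx \ Fix0).filter (fun c => MulAction.orbit P₀ c = O), F c = φ ⟨_, hg⟩ := by
      intro c hc
      obtain ⟨hc', hcO⟩ := Finset.mem_filter.mp hc
      have hcmem : c ∈ MulAction.orbit P₀ ((g : G ⧸ P₀)) := by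
        rw [hO, ← hcO]; exact MulAction.mem_orbit_self c
      obtain ⟨⟨u, hu⟩, huc⟩ := hcmem
      have hug : (u * g)⁻¹ * x * (u * g) ∈ P₀ := (hfix _).mp (by
        have := (hmemFx c).mp (Finset.mem_sdiff.mp hc').1
        rw [← huc] at this
        exact this)
      rw [hF c (u * g) hug huc, ← mul_inv_eq_one, ← map_inv, ← map_mul, hφ]
      refine hRz g⁻¹ _ (P₀.mul_mem hug (P₀.inv_mem hg)) ⟨⁅u⁻¹, x⁆,
        Subgroup.commutator_mem_commutator (P₀.inv_mem hu) hxP, ?_⟩
      show g⁻¹ * ⁅u⁻¹, x⁆ * g⁻¹⁻¹ = (u * g)⁻¹ * x * (u * g) * (g⁻¹ * x * g)⁻¹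
      rw [commutatorElement_def]
      group
    rw [Finset.prod_congr rfl hconst, Finset.prod_const]
    have hcard : p ∣ ((Fx \ Fix0).filter fun c => MulAction.orbit P₀ c = O).card := by
      set C := Subgroup.zpowers (⟨x, hxP⟩ : P₀) with hC
      have hmod := (hPp.to_subgroup C).card_modEq_card_fixedPoints (MulAction.orbit P₀ (g : G ⧸ P₀))
      have hdvd : p ∣ Nat.card (MulAction.orbit P₀ (g : G ⧸ P₀)) := by
        obtain ⟨k, hk⟩ := hPp.card_orbit (g : G ⧸ P₀)
        rcases k with _ | k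
        · refine absurd ?_ hc₀0
          refine Finset.mem_filter.mpr ⟨Finset.mem_univ _, fun u => ?_⟩
          exact congrArg Subtype.val ((Nat.card_eq_one_iff_unique.mp (hk.trans (pow_zero p))).1.elim
            (⟨u • (g : G ⧸ P₀), MulAction.mem_orbit _ u⟩ : MulAction.orbit P₀ (g : G ⧸ P₀))
            ⟨_, MulAction.mem_orbit_self _⟩)
        · rw [hk]; exact dvd_pow_self p k.succ_ne_zero
      have hfp : Nat.card (MulAction.fixedPoints C (MulAction.orbit P₀ (g : G ⧸ P₀))) =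
          ((Fx \ Fix0).filter fun c => MulAction.orbit P₀ c = O).card := by
        rw [← Nat.card_eq_finsetCard]
        refine Nat.card_congr
          { toFun := fun c => ⟨((c : MulAction.orbit P₀ (g : G ⧸ P₀)) : G ⧸ P₀), ?_⟩
            invFun := fun c => ⟨⟨(c : G ⧸ P₀), ?_⟩, ?_⟩
            left_inv := fun c => rfl
            right_inv := fun c => rfl }
        · have h1 : x • ((c : MulAction.orbit P₀ (g : G ⧸ P₀)) : G ⧸ P₀) = _ :=
            congrArg Subtype.val (c.2 ⟨⟨x, hxP⟩, Subgroup.mem_zpowers _⟩)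
          have hco : MulAction.orbit P₀ ((c : MulAction.orbit P₀ (g : G ⧸ P₀)) : G ⧸ P₀) = O := by
            rw [← hO]; exact MulAction.orbit_eq_iff.mpr (c : MulAction.orbit P₀ (g : G ⧸ P₀)).2
          refine Finset.mem_filter.mpr ⟨Finset.mem_sdiff.mpr ⟨(hmemFx _).mpr h1, fun hf => hc₀0 ?_⟩, hco⟩
          have hf' := (Finset.mem_filter.mp hf).2
          refine Finset.mem_filter.mpr ⟨Finset.mem_univ _, ?_⟩
          have hgm : (g : G ⧸ P₀) ∈ MulAction.orbit P₀ ((c : MulAction.orbit P₀ (g : G ⧸ P₀)) : G ⧸ P₀) := by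
            rw [hco, ← hO]; exact MulAction.mem_orbit_self _
          obtain ⟨u, hu⟩ := hgm
          dsimp only at hu
          rw [← hu, show u • ((c : MulAction.orbit P₀ (g : G ⧸ P₀)) : G ⧸ P₀) = _ from hf' u]
          exact hf'
        · have := (Finset.mem_filter.mp c.2).2
          exact hO.trans this.symm ▸ MulAction.mem_orbit_self _
        · rintro ⟨_, i, rfl⟩
          refine Subtype.ext ?_
          show ((((⟨x, hxP⟩ : P₀) ^ i : P₀) : G)) • (c : G ⧸ P₀) = _
          rw [Subgroup.coe_zpow]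
          exact (MulAction.stabilizer G (c : G ⧸ P₀)).zpow_mem
            ((hmemFx _).mp (Finset.mem_sdiff.mp (Finset.mem_filter.mp c.2).1).1) i
      rw [← hfp]
      exact (Nat.modEq_zero_iff_dvd.mp ((hmod.symm).trans (Nat.modEq_zero_iff_dvd.mpr hdvd)))
    obtain ⟨j, hj⟩ := hcard
    have hpp : φ ⟨_, hg⟩ ^ p = 1 := by
      have hx1 : x ≠ 1 := fun h => hxR (h ▸ R.one_mem)
      obtain ⟨e, he⟩ := IsPGroup.iff_orderOf.mp hPp ⟨x, hxP⟩
      rw [Subgroup.orderOf_mk] at he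
      have hdx : p ∣ orderOf x := by
        rcases e with _ | e
        · exact absurd (orderOf_eq_one_iff.mp (he.trans (pow_zero p))) hx1
        · rw [he]; exact dvd_pow_self p e.succ_ne_zero
      have hm : g⁻¹ * x ^ p * g ∈ P₀ := by
        rw [show g⁻¹ * x ^ p * g = (g⁻¹ * x * g) ^ p by simpa using map_pow (MulAut.conj g⁻¹) x p]
        exact P₀.pow_mem hg p
      rw [← map_pow, ← hpow p g hm (Fact.out : p.Prime).one_lt hdx]
      refine congrArg φ (Subtype.ext ?_)
      rw [Subgroup.coe_pow]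
      simpa using (map_pow (MulAut.conj g⁻¹) x p).symm
    rw [hj, pow_mul, hpp, one_pow]
  rw [← Finset.prod_sdiff hsub, h1, one_mul, Finset.prod_congr rfl h0, Finset.prod_const] at hprod
  have hcop : Fix0.card.Coprime p := by
    refine Nat.Coprime.symm ((Fact.out : p.Prime).coprime_iff_not_dvd.mpr fun hd => P.not_dvd_index ?_)
    have hmod := hPp.card_modEq_card_fixedPoints (G ⧸ P₀)
    have hc : Nat.card (MulAction.fixedPoints P₀ (G ⧸ P₀)) = Fix0.card := by
      rw [← Nat.card_eq_finsetCard]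
      exact Nat.card_congr (Equiv.subtypeEquivRight fun c => by simp [hFix0])
    rw [hc] at hmod
    rw [Subgroup.index]
    exact Nat.modEq_zero_iff_dvd.mp (hmod.trans (Nat.modEq_zero_iff_dvd.mpr hd))
  obtain ⟨e, he⟩ := IsPGroup.iff_orderOf.mp hPp ⟨x, hxP⟩
  refine orderOf_eq_one_iff.mp (Nat.eq_one_of_dvd_coprimes (hcop.pow_right e)
    (orderOf_dvd_of_pow_eq_one hprod) ?_)
  rw [← he]
  exact orderOf_map_dvd φ _

end Cfsg.Agent.S4216
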