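import Cfsg.Statements.S2759
import Cfsg.Agent.Lib.LocalEven.WCCore
import Cfsg.Agent.Lib.Fusion.SectionFreeFactor
import Cfsg.Agent.Lib.PGroups.MinimalAction
import Cfsg.Agent.Lib.Transfer.NormalPComplement
-- import your own Cfsg.Agent.* helpers here

set_option autoImplicit false
open Cfsg

namespace Cfsg.Agent.S2759

open Equiv

/-- The pairing `{a, b}` of `Fin 4` as an element of `Fin 3`. -/
def pairIdx (a b : Fin 4) : Fin 3 :=
  if a = 0 then ⟨(b.val - 1) % 3, Nat.mod_lt _ (by norm_num)⟩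
  else if b = 0 then ⟨(a.val - 1) % 3, Nat.mod_lt _ (by norm_num)⟩
  else ⟨(5 - a.val - b.val) % 3, Nat.mod_lt _ (by norm_num)⟩

/-- The action of `Sym(4)` on the three pairings. -/
def pairMap (σ : Perm (Fin 4)) (i : Fin 3) : Fin 3 := pairIdx (σ 0) (σ i.succ)

theorem pairMap_inv : ∀ (σ : Perm (Fin 4)) (i : Fin 3), pairMap σ⁻¹ (pairMap σ i) = i := by
  decide +kernel

theorem pairMap_mul : ∀ (σ τ : Perm (Fin 4)) (i : Fin 3),
    pairMap (σ * τ) i = pairMap σ (pairMap τ i) := by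
  decide +kernel

/-- `Sym(4) → Sym(3)`. -/
def pairHom : Perm (Fin 4) →* Perm (Fin 3) where
  toFun σ := ⟨pairMap σ, pairMap σ⁻¹, pairMap_inv σ, fun i => by simpa using pairMap_inv σ⁻¹ i⟩
  map_one' := by decide
  map_mul' σ τ := Equiv.ext (pairMap_mul σ τ)

theorem pairHom_surjective : Function.Surjective pairHom := by decide +kernel

theorem pairHom_ker_sq : ∀ σ, pairHom σ = 1 → σ * σ = 1 := by decide +kernel

theorem pairHom_of_centralizes : ∀ σ, (∀ d, pairHom d = 1 → d * σ = σ * d) → pairHom σ = 1 := by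
  decide +kernel

theorem three_cycle_twist : ∀ s t : Perm (Fin 3), Perm.sign s = 1 → s ≠ 1 → Perm.sign t = -1 →
    s⁻¹ * (t * s * t⁻¹) ≠ 1 ∧ t * t = 1 ∧ s * s * s = 1 := by
  decide +kernel

variable {G : Type*} [Group G] [Finite G]

theorem exists_of_involves (h : Cfsg.Involves (Perm (Fin 4)) G) :
    ∃ T : Subgroup G, IsPGroup 2 ↥T ∧ Cfsg.Involves (Perm (Fin 3))
      (↥(Subgroup.normalizer (T : Set G)) ⧸
        (Subgroup.centralizer (T : Set G)).subgroupOf (Subgroup.normalizer (T : Set G))) := by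
  classical
  obtain ⟨K, R, hn, ⟨e⟩⟩ := h
  set π : K →* Perm (Fin 4) := e.toMonoidHom.comp (QuotientGroup.mk' (R.subgroupOf K)) with hπ
  have hsurj : Function.Surjective π := e.surjective.comp (QuotientGroup.mk'_surjective _)
  set V := (pairHom.comp π).ker with hV
  obtain ⟨S⟩ : Nonempty (Sylow 2 V) := inferInstance
  have : Fact (Nat.Prime 2) := ⟨Nat.prime_two⟩
  set S' := (S : Subgroup V).map V.subtype with hS'
  -- `S` covers the four-group
  have hcov : ∀ d, pairHom d = 1 → ∃ t ∈ S', π t = d := by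
    intro d hd
    let g : V →* pairHom.ker := MonoidHom.mk' (fun v => ⟨π v, v.2⟩)
      fun a b => Subtype.ext (map_mul π _ _)
    have hg : Function.Surjective g := fun z => by
      obtain ⟨k, hk⟩ := hsurj z
      exact ⟨⟨k, by show pairHom (π k) = 1; rw [hk]; exact z.2⟩, Subtype.ext hk⟩
    have hK : IsPGroup 2 pairHom.ker := fun z => ⟨1, Subtype.ext (by
      rw [pow_one, pow_two]; exact pairHom_ker_sq _ z.2)⟩
    have htop : ((S.mapSurjective hg : Sylow 2 pairHom.ker) : Subgroup pairHom.ker) = ⊤ :=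
      ((S.mapSurjective hg).3 (hK.to_subgroup ⊤) le_top).symm
    rw [Sylow.coe_mapSurjective] at htop
    obtain ⟨t, ht, e'⟩ := htop.ge (Subgroup.mem_top (⟨d, hd⟩ : pairHom.ker))
    exact ⟨t, ⟨t, ht, rfl⟩, congrArg Subtype.val e'⟩
  set T := S'.map K.subtype with hT
  set N := Subgroup.normalizer (T : Set G)
  set C := (Subgroup.centralizer (T : Set G)).subgroupOf N
  refine ⟨T, (S.2.map _).map _, ?_⟩
  let E := Subgroup.normalizer (S' : Set K)
  let g : E →* Perm (Fin 3) := (pairHom.comp π).comp E.subtype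
  have hg : Function.Surjective g := by
    intro z
    obtain ⟨σ, rfl⟩ := pairHom_surjective z
    obtain ⟨k, rfl⟩ := hsurj σ
    have hk : k ∈ E ⊔ V := (Sylow.normalizer_sup_eq_top S).symm ▸ Subgroup.mem_top k
    obtain ⟨n, hn', v, hv, rfl⟩ := Subgroup.mem_sup_of_normal_right.1 hk
    exact ⟨⟨n, hn'⟩, by
      show pairHom (π n) = pairHom (π (n * v))
      have hv' : pairHom (π v) = 1 := hv
      rw [map_mul, map_mul, hv', mul_one]⟩
  let ψ : E →* N ⧸ C := (QuotientGroup.mk' C).comp (MonoidHom.mk'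
    (fun n : E => (⟨((n : K) : G), Subgroup.le_normalizer_map K.subtype ⟨n, n.2, rfl⟩⟩ : N))
    fun _ _ => rfl)
  have hker : ψ.ker ≤ g.ker := by
    intro n hn'
    have h1 : ((n : K) : G) ∈ Subgroup.centralizer (T : Set G) :=
      Subgroup.mem_subgroupOf.1 ((QuotientGroup.eq_one_iff (⟨((n : K) : G),
        Subgroup.le_normalizer_map K.subtype ⟨n, n.2, rfl⟩⟩ : N)).1 hn')
    refine pairHom_of_centralizes (π n) fun d hd => ?_
    obtain ⟨t, ht, rfl⟩ := hcov d hd
    rw [← map_mul, ← map_mul]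
    exact congrArg π (Subtype.ext (Subgroup.mem_centralizer_iff.1 h1 _ ⟨t, ht, rfl⟩))
  have hlift : Function.Surjective (QuotientGroup.lift ψ.ker g hker) := fun z => by
    obtain ⟨n, rfl⟩ := hg z
    exact ⟨n, rfl⟩
  exact CfsgLib.LocalEven.involves_of_surjective (E := ψ.range)
    ((QuotientGroup.lift ψ.ker g hker).comp (QuotientGroup.quotientKerEquivRange ψ).symm.toMonoidHom)
    (hlift.comp (QuotientGroup.quotientKerEquivRange ψ).symm.surjective)

/-- The converse inside a group in which `T` is normal. -/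
theorem involves_perm_four_of_action {X : Type*} [Group X] [Finite X] (T : Subgroup X) [T.Normal]
    (hT : IsPGroup 2 T) (E : Subgroup X) (f : E →* Perm (Fin 3)) (hf : Function.Surjective f)
    (hC : ∀ e : E, (e : X) ∈ Subgroup.centralizer (T : Set X) → f e = 1) :
    Cfsg.Involves (Perm (Fin 4)) X := by
  classical
  have : Fact (Nat.Prime 2) := ⟨Nat.prime_two⟩
  have : Fact (Nat.Prime 3) := ⟨Nat.prime_three⟩
  set E0 := (Perm.sign.comp f).ker with hE0
  have hsign : ∀ z : Perm (Fin 3), Perm.sign z = 1 → z * z * z = 1 := by decide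
  have hsign' : ∀ z : Perm (Fin 3), Odd (orderOf z) → Perm.sign z = 1 := by
    intro z hz
    rcases Int.units_eq_one_or (Perm.sign z) with h | h
    · exact h
    · have h1 : orderOf (Perm.sign z) ∣ orderOf z := orderOf_map_dvd _ z
      rw [h, orderOf_eq_prime (p := 2) (by decide) (by decide)] at h1
      exact absurd hz (Nat.not_odd_iff_even.2 (even_iff_two_dvd.2 h1))
  obtain ⟨P⟩ : Nonempty (Sylow 3 E0) := inferInstance
  set P' := (P : Subgroup E0).map E0.subtype with hP'
  -- `a` in `P` over a three-cycle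
  obtain ⟨a, haP, ha1⟩ : ∃ a ∈ P', f a ≠ 1 := by
    obtain ⟨c, hc⟩ := hf (finRotate 3)
    have hc0 : c ∈ E0 := by
      show Perm.sign (f c) = 1
      rw [hc]; decide
    obtain ⟨u, hu, v, hv, huv, ⟨k, hk⟩, hvc⟩ :=
      CfsgLib.Transfer.exists_pPart_mul (p := 3) (⟨c, hc0⟩ : E0)
    have hv1 : f (v : E) = 1 := by
      have h1 : orderOf (f (v : E)) ∣ orderOf v := (orderOf_map_dvd f (v : E)).trans
        (dvd_of_eq (Subgroup.orderOf_coe v))
      have h2 : orderOf (f (v : E)) ∣ 3 := orderOf_dvd_of_pow_eq_one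
        ((pow_three' _).trans (hsign _ v.2))
      exact orderOf_eq_one_iff.1 (Nat.eq_one_of_dvd_coprimes hvc h1 h2)
    obtain ⟨i, -, hi⟩ := (Nat.dvd_prime_pow Nat.prime_three).1 hk
    obtain ⟨Q, hQ⟩ := (IsPGroup.of_card (n := i) (by rw [Nat.card_zpowers, hi]) :
      IsPGroup 3 ↥(Subgroup.zpowers u)).exists_le_sylow
    obtain ⟨w, hw⟩ := MulAction.exists_smul_eq E0 Q P
    refine ⟨((w * u * w⁻¹ : E0) : E), ⟨w * u * w⁻¹, hw ▸ ⟨u, hQ (Subgroup.mem_zpowers u), rfl⟩, rfl⟩,
      fun h => ?_⟩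
    have hu1 : f (u : E) = 1 := by
      simpa only [Subgroup.coe_mul, Subgroup.coe_inv, map_mul, map_inv, conj_eq_one_iff] using h
    have hc1 : f c = 1 := by
      have := congrArg (fun z : E0 => f (z : E)) huv
      simp only [Subgroup.coe_mul, map_mul, hu1, hv1, mul_one] at this
      exact this.symm
    rw [hc] at hc1
    exact absurd hc1 (by decide)
  have hPE0 : P' ≤ E0 := Subgroup.map_subtype_le _
  have hPp : IsPGroup 3 P' := P.2.map _
  -- a 2-element `b` over a transposition, normalising `P`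
  obtain ⟨b, ⟨kb, hkb⟩, hbP, hbs⟩ : ∃ b : E, (∃ k, orderOf b = 2 ^ k) ∧
      b ∈ Subgroup.normalizer (P' : Set E) ∧ Perm.sign (f b) = -1 := by
    obtain ⟨c, hc⟩ := hf (Equiv.swap 0 1)
    have hcm : c ∈ Subgroup.normalizer (P' : Set E) ⊔ E0 :=
      (Sylow.normalizer_sup_eq_top P).symm ▸ Subgroup.mem_top c
    obtain ⟨n, hn, m, hm, rfl⟩ := Subgroup.mem_sup_of_normal_right.1 hcm
    obtain ⟨u, hu, v, hv, huv, ⟨k, hk⟩, hvc⟩ := CfsgLib.Transfer.exists_pPart_mul (p := 2) n
    obtain ⟨i, -, hi⟩ := (Nat.dvd_prime_pow Nat.prime_two).1 hk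
    refine ⟨u, ⟨i, hi⟩, Subgroup.zpowers_le.2 hn hu, ?_⟩
    have hv1 : Perm.sign (f v) = 1 := hsign' _ (Odd.of_dvd_nat
      (Nat.Coprime.odd_of_right hvc) (orderOf_map_dvd f v))
    have hm1 : Perm.sign (f m) = 1 := hm
    have h := congrArg Perm.sign hc
    rw [map_mul, map_mul, ← huv, map_mul, map_mul, hv1, hm1, mul_one, mul_one] at h
    rw [h]; decide
  have ha0 : Perm.sign (f a) = 1 := hPE0 haP
  obtain ⟨-, hb2, -⟩ := three_cycle_twist (f a) (f b) ha0 ha1 hbs
  -- an element of `P` over a three-cycle fixed by `b²`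
  obtain ⟨c, hcs, hcP, hcf⟩ : ∃ c, Commute (b * b) c ∧ c ∈ P' ∧ f c = f a := by
    have hAN : Subgroup.zpowers (b * b) ≤ Subgroup.normalizer ((P' ⊓ f.ker : Subgroup E) : Set E) :=
      CfsgLib.Coprime.le_normalizer_inf_inf
        (Subgroup.zpowers_le.2 (mul_mem hbP hbP))
        (le_top.trans (Subgroup.normalizer_eq_top (H := f.ker)).ge)
    have hcop : (Nat.card (Subgroup.zpowers (b * b))).Coprime (Nat.card ↥(P' ⊓ f.ker)) := by
      obtain ⟨m, hm⟩ := (hPp.to_le (inf_le_left : P' ⊓ f.ker ≤ P')).exists_card_eq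
      rw [hm, Nat.card_zpowers, ← pow_two]
      refine Nat.Coprime.coprime_dvd_left ((orderOf_pow_dvd 2).trans (dvd_of_eq hkb)) ?_
      exact Nat.Coprime.pow _ _ (by norm_num)
    have hs : ∀ z ∈ Subgroup.zpowers (b * b), f z = 1 := by
      intro z hz
      have hle : Subgroup.zpowers (b * b) ≤ f.ker :=
        Subgroup.zpowers_le.2 (by rw [MonoidHom.mem_ker, map_mul, hb2])
      exact hle hz
    obtain ⟨c, hc, hck⟩ := CfsgLib.Coprime.exists_centralizing_in_coset hAN hcop
      (Or.inl inferInstance) (k := a) (fun z hz => ⟨Subgroup.mul_mem _ (Subgroup.inv_mem _ haP)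
        ((Subgroup.mem_normalizer_iff.1 (Subgroup.zpowers_le.2 (mul_mem hbP hbP) hz) a).1 haP),
        by simp [hs z hz]⟩)
    refine ⟨c, Subgroup.mem_centralizer_iff.1 hc _ (Subgroup.mem_zpowers _),
      by simpa using mul_mem haP hck.1, ?_⟩
    have h2 : f (a⁻¹ * c) = 1 := hck.2
    rw [map_mul, map_inv, inv_mul_eq_one] at h2
    exact h2.symm
  set d := c⁻¹ * (b * c * b⁻¹) with hd
  have hdP : d ∈ P' := mul_mem (inv_mem hcP) ((Subgroup.mem_normalizer_iff.1 hbP c).1 hcP)
  have hdinv : b * d * b⁻¹ = d⁻¹ := by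
    calc b * d * b⁻¹ = (b * c * b⁻¹)⁻¹ * ((b * b) * c * (b * b)⁻¹) := by rw [hd]; group
      _ = d⁻¹ := by rw [mul_inv_eq_iff_eq_mul.2 hcs.eq, hd]; group
  have hdf : f d ≠ 1 := by
    rw [hd, map_mul, map_inv, map_mul, map_mul, map_inv, hcf]
    exact (three_cycle_twist _ _ ha0 ha1 hbs).1
  -- a power `y` acting with order three
  obtain ⟨kd, hkd⟩ : ∃ k, orderOf d = 3 ^ k := by
    obtain ⟨k, hk⟩ := IsPGroup.iff_orderOf.1 hPp ⟨d, hdP⟩
    exact ⟨k, (Subgroup.orderOf_coe (⟨d, hdP⟩ : P')).trans hk⟩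
  have hdo : orderOf (d : X) = 3 ^ kd := by rw [Subgroup.orderOf_coe, hkd]
  have hex : ∃ j, (d : X) ^ 3 ^ j ∈ Subgroup.centralizer (T : Set X) :=
    ⟨kd, by rw [← hdo, pow_orderOf_eq_one]; exact one_mem _⟩
  obtain ⟨i, hi⟩ : ∃ i, Nat.find hex = i + 1 := by
    rcases Nat.eq_zero_or_pos (Nat.find hex) with h0 | h0
    · have h1 := Nat.find_spec hex
      rw [h0, pow_zero, pow_one] at h1
      exact absurd (hC d h1) hdf
    · exact ⟨Nat.find hex - 1, by omega⟩
  set y : X := (d : X) ^ 3 ^ i with hy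
  set bx : X := (b : X) with hbx
  have hyC : y ∉ Subgroup.centralizer (T : Set X) := Nat.find_min hex (by omega)
  have hy3 : y ^ 3 ∈ Subgroup.centralizer (T : Set X) := by
    rw [hy, ← pow_mul, ← pow_succ, ← hi]
    exact Nat.find_spec hex
  have hby : bx * y * bx⁻¹ = y⁻¹ := by
    have h1 : bx * (d : X) * bx⁻¹ = (d : X)⁻¹ := congrArg Subtype.val hdinv
    rw [hy, ← conj_pow, h1, inv_pow]
  set A := Subgroup.zpowers y with hA
  set B := Subgroup.zpowers bx ⊔ Subgroup.zpowers y with hB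
  have hbA : bx ∈ Subgroup.normalizer (A : Set X) := by
    refine Subgroup.mem_normalizer_iff_map_conj_eq.2 ?_
    rw [hA, MonoidHom.map_zpowers]
    show Subgroup.zpowers (bx * y * bx⁻¹) = _
    rw [hby, Subgroup.zpowers_inv]
  have hTA : ⁅T, A⁆ ≠ ⊥ := fun h => hyC (Subgroup.le_centralizer_iff.1
    (Subgroup.commutator_eq_bot_iff_le_centralizer.1 h) (Subgroup.mem_zpowers y))
  obtain ⟨U, -, ⟨hUT, hBU, hUA⟩, hUmin⟩ := Finite.exists_le_minimal
    (p := fun U : Subgroup X => U ≤ T ∧ B ≤ Subgroup.normalizer (U : Set X) ∧ ⁅U, A⁆ ≠ ⊥) (a := T)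
    ⟨le_rfl, le_top.trans (Subgroup.normalizer_eq_top (H := T)).ge, hTA⟩
  have hUp : IsPGroup 2 U := hT.to_le hUT
  obtain ⟨hUA', -, hirr, -⟩ := CfsgLib.PGroups.minimal_action B A U hUp hBU le_sup_right
    (sup_le (Subgroup.zpowers_le.2 hbA) Subgroup.le_normalizer)
    (by
      rw [hA, Nat.card_zpowers]
      refine Nat.Coprime.coprime_dvd_left ((orderOf_pow_dvd _).trans (dvd_of_eq hdo)) ?_
      exact Nat.Coprime.pow_left _ (by norm_num))
    hUA (fun V hV hBV => by
      by_contra hne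
      exact hV.ne (le_antisymm hV.le (hUmin ⟨hV.le.trans hUT, hBV, hne⟩ hV.le)))
  set Φ := (frattini ↥U).map U.subtype with hΦ
  set L := Subgroup.normalizer (Φ : Set X) with hL
  have hUL : U ≤ L := Subgroup.le_normalizer.trans (CfsgLib.Base.normalizer_le_normalizer_map_subtype U _)
  have hBL : B ≤ L := hBU.trans (CfsgLib.Base.normalizer_le_normalizer_map_subtype U _)
  have hΦn : (Φ.subgroupOf L).Normal := Subgroup.normal_in_normalizer
  set π := QuotientGroup.mk' (Φ.subgroupOf L) with hπ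
  set yb := π ⟨y, hBL (le_sup_right (a := Subgroup.zpowers bx) (Subgroup.mem_zpowers y))⟩ with hyb
  set bb := π ⟨bx, hBL (le_sup_left (b := Subgroup.zpowers y) (Subgroup.mem_zpowers bx))⟩ with hbb
  set W := (U.subgroupOf L).map π with hW
  have hmk1 : ∀ z : L, π z = 1 ↔ (z : X) ∈ Φ := fun z =>
    (QuotientGroup.eq_one_iff z).trans Subgroup.mem_subgroupOf
  have hyU : y ∈ Subgroup.normalizer (U : Set X) :=
    hBU (le_sup_right (a := Subgroup.zpowers bx) (Subgroup.mem_zpowers y))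
  have hbU : bx ∈ Subgroup.normalizer (U : Set X) :=
    hBU (le_sup_left (b := Subgroup.zpowers y) (Subgroup.mem_zpowers bx))
  have hWy : ∀ w ∈ W, yb * w * yb⁻¹ ∈ W := by
    rintro _ ⟨u, hu, rfl⟩
    refine ⟨⟨y, hBL (le_sup_right (a := Subgroup.zpowers bx) (Subgroup.mem_zpowers y))⟩ * u *
      ⟨y, hBL (le_sup_right (a := Subgroup.zpowers bx) (Subgroup.mem_zpowers y))⟩⁻¹,
      (Subgroup.mem_normalizer_iff.1 hyU u).1 hu, by simp only [map_mul, map_inv, hyb]⟩
  have hWb : ∀ w ∈ W, bb * w * bb⁻¹ ∈ W := by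
    rintro _ ⟨u, hu, rfl⟩
    refine ⟨⟨bx, hBL (le_sup_left (b := Subgroup.zpowers y) (Subgroup.mem_zpowers bx))⟩ * u *
      ⟨bx, hBL (le_sup_left (b := Subgroup.zpowers y) (Subgroup.mem_zpowers bx))⟩⁻¹,
      (Subgroup.mem_normalizer_iff.1 hbU u).1 hu, by simp only [map_mul, map_inv, hbb]⟩
  have hW2 : ∀ w ∈ W, w * w = 1 := by
    rintro _ ⟨u, hu, rfl⟩
    rw [← map_mul, hmk1]
    exact ⟨(⟨u, hu⟩ : U) ^ 2, CfsgLib.PGroups.pow_mem_frattini hUp _, by simp [pow_two]⟩
  have hWc : ∀ v ∈ W, ∀ w ∈ W, v * w = w * v := by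
    intro v hv w hw
    calc v * w = (w * w) * (v * w) * (v * v) := by rw [hW2 v hv, hW2 w hw]; group
      _ = w * ((w * v) * (w * v)) * v := by group
      _ = w * v := by rw [hW2 _ (mul_mem hw hv), mul_one]
  have hWne : W ≠ ⊥ := by
    intro h
    have hle : U ≤ Φ := fun u hu => (hmk1 ⟨u, hUL hu⟩).1 (Subgroup.mem_bot.1 (h ▸ ⟨_, hu, rfl⟩))
    have : Nontrivial U := (Subgroup.nontrivial_iff_ne_bot U).2 fun h0 => hUA (by
      rw [h0, Subgroup.commutator_bot_left])
    refine CfsgLib.PGroups.frattini_ne_top (G := U) ((Subgroup.eq_top_iff' _).2 fun u => ?_)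
    obtain ⟨v, hv, e⟩ := hle u.2
    rwa [← U.subtype_injective e]
  -- `y` fixes only the identity of `W`
  have hfix : ∀ w ∈ W, yb * w * yb⁻¹ = w → w = 1 := by
    set Cy := U ⊓ ((Subgroup.centralizer ({yb} : Set (L ⧸ Φ.subgroupOf L))).comap π).map L.subtype with hCy
    have hΦCy : Φ ≤ Cy := by
      intro z hz
      have hzU : z ∈ U := Subgroup.map_subtype_le _ hz
      refine ⟨hzU, ⟨z, hUL hzU⟩, ?_, rfl⟩
      refine Subgroup.mem_centralizer_singleton_iff.2 ?_
      rw [(hmk1 ⟨z, hUL hzU⟩).2 hz, one_mul, mul_one]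
    have hBCy : B ≤ Subgroup.normalizer (Cy : Set X) := by
      refine CfsgLib.Coprime.le_normalizer_inf_inf hBU ?_
      intro z hz
      have hz' : π ⟨z, hBL hz⟩ ∈ Subgroup.normalizer
          (Subgroup.centralizer ({yb} : Set (L ⧸ Φ.subgroupOf L)) : Set _) := by
        have hle : (B.subgroupOf L).map π ≤ Subgroup.normalizer
            (Subgroup.centralizer ({yb} : Set (L ⧸ Φ.subgroupOf L)) : Set _) := by
          rw [hB, Subgroup.subgroupOf_sup (Subgroup.zpowers_le.2 (hBL (le_sup_left (b := Subgroup.zpowers y) (Subgroup.mem_zpowers bx))))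
            (Subgroup.zpowers_le.2 (hBL (le_sup_right (a := Subgroup.zpowers bx) (Subgroup.mem_zpowers y)))),
            Subgroup.map_sup]
          have key : ∀ (g : L), π g * yb * (π g)⁻¹ = yb ∨ π g * yb * (π g)⁻¹ = yb⁻¹ →
              π g ∈ Subgroup.normalizer
                (Subgroup.centralizer ({yb} : Set (L ⧸ Φ.subgroupOf L)) : Set _) := by
            intro g hg
            refine Subgroup.mem_normalizer_iff_map_conj_eq.2 (Subgroup.eq_of_le_of_card_ge ?_
              (Subgroup.card_map_of_injective (f := (MulAut.conj (π g)).toMonoidHom)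
                (MulAut.conj (π g)).injective).ge)
            rintro _ ⟨v, hv, rfl⟩
            have hv' : Commute v yb := Subgroup.mem_centralizer_singleton_iff.1 hv
            refine Subgroup.mem_centralizer_singleton_iff.2 ?_
            have h2 : Commute (π g * v * (π g)⁻¹) (π g * yb * (π g)⁻¹) :=
              hv'.map (MulAut.conj (π g))
            rcases hg with h | h <;> rw [h] at h2
            · exact h2.eq
            · exact (Commute.inv_right_iff.1 h2).eq
          refine sup_le ?_ ?_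
          · rintro _ ⟨g, ⟨m, hm⟩, rfl⟩
            have e : g = (⟨bx, hBL (le_sup_left (b := Subgroup.zpowers y) (Subgroup.mem_zpowers bx))⟩ : L) ^ m :=
              Subtype.ext (by simpa using hm.symm)
            rw [e, map_zpow]
            refine Subgroup.zpow_mem _ (key _ (Or.inr ?_)) m
            rw [← map_mul, ← map_inv, ← map_mul, hyb, ← map_inv]
            exact congrArg π (Subtype.ext hby)
          · rintro _ ⟨g, ⟨m, hm⟩, rfl⟩
            have e : g = (⟨y, hBL (le_sup_right (a := Subgroup.zpowers bx) (Subgroup.mem_zpowers y))⟩ : L) ^ m :=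
              Subtype.ext (by simpa using hm.symm)
            rw [e, map_zpow]
            exact Subgroup.zpow_mem _ (key _ (Or.inl (mul_inv_cancel_right _ _))) m
        exact hle ⟨⟨z, hBL hz⟩, hz, rfl⟩
      exact Subgroup.le_normalizer_map L.subtype
        ⟨⟨z, hBL hz⟩, Subgroup.le_normalizer_comap π hz', rfl⟩
    rcases hirr Cy hΦCy inf_le_left hBCy with h | h
    · rintro _ ⟨u, hu, rfl⟩ hw
      refine (hmk1 u).2 (h.le ⟨hu, u, Subgroup.mem_centralizer_singleton_iff.2 ?_, rfl⟩)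
      exact (mul_inv_eq_iff_eq_mul.1 hw).symm
    · exfalso
      apply hWne
      have hsub : ⁅U, A⁆ ≤ Φ := by
        refine Subgroup.commutator_le.2 fun u hu z hz => ?_
        obtain ⟨-, u', hu', e⟩ := (h.symm ▸ hu : u ∈ Cy)
        have hzL : z ∈ L := hBL (le_sup_right (a := Subgroup.zpowers bx) hz)
        rw [commutatorElement_def]
        refine (hmk1 (u' * ⟨z, hzL⟩ * u'⁻¹ * ⟨z, hzL⟩⁻¹)).1 ?_ |> fun h' => by
          simpa [← e] using h'
        have hzy : π ⟨z, hzL⟩ ∈ Subgroup.zpowers yb := by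
          obtain ⟨m, hm⟩ := hz
          exact ⟨m, by
            show yb ^ m = _
            rw [hyb, ← map_zpow]
            exact congrArg π (Subtype.ext (by simpa using hm))⟩
        obtain ⟨m, hm⟩ := hzy
        have hc : Commute (π u') (π ⟨z, hzL⟩) := by
          rw [← hm]
          exact Commute.zpow_right (Subgroup.mem_centralizer_singleton_iff.1 hu') m
        rw [map_mul, map_mul, map_mul, map_inv, map_inv, hc.eq, mul_inv_cancel_right, mul_inv_cancel]
      rw [hUA'] at hsub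
      rw [eq_bot_iff]
      rintro _ ⟨u, hu, rfl⟩
      exact (hmk1 u).2 (hsub hu)
  -- a nontrivial element of `W` fixed by `b`
  obtain ⟨e, heW, he1, heb⟩ : ∃ e ∈ W, e ≠ 1 ∧ bb * e * bb⁻¹ = e := by
    have hWn : Subgroup.zpowers bb ≤ Subgroup.normalizer (W : Set _) :=
      Subgroup.zpowers_le.2 (CfsgLib.LocalEven.mem_normalizer_of_conj_mem hWb)
    have hWp : IsPGroup 2 W := fun w => ⟨1, Subtype.ext (by rw [pow_one, pow_two]; exact hW2 w w.2)⟩
    have hbp : IsPGroup 2 (Subgroup.zpowers bb) := by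
      have h1 : orderOf bb ∣ 2 ^ kb := (orderOf_map_dvd π _).trans (dvd_of_eq (by
        rw [← Subgroup.orderOf_coe]
        show orderOf (b : X) = _
        rw [Subgroup.orderOf_coe, hkb]))
      obtain ⟨i, -, hi⟩ := (Nat.dvd_prime_pow Nat.prime_two).1 h1
      exact IsPGroup.of_card (n := i) (by rw [Nat.card_zpowers, hi])
    set D := Subgroup.zpowers bb ⊔ W with hD
    have hDp : IsPGroup 2 D := IsPGroup.to_sup_of_normal_right' hbp hWp hWn
    have hWD : (W.subgroupOf D).Normal :=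
      Subgroup.normal_subgroupOf_of_le_normalizer (sup_le hWn Subgroup.le_normalizer)
    have hne := CfsgLib.PGroups.inf_center_ne_bot hDp (N := W.subgroupOf D) (by
      intro h
      rw [Subgroup.subgroupOf_eq_bot] at h
      exact hWne (h.eq_bot_of_le le_sup_right))
    obtain ⟨⟨w, hwW, hwc⟩, hw1⟩ := ((W.subgroupOf D ⊓ Subgroup.center D).ne_bot_iff_exists_ne_one).1 hne
    refine ⟨w, hwW, fun h => hw1 (Subtype.ext (Subtype.ext h)), ?_⟩
    have := Subgroup.mem_center_iff.1 hwc ⟨bb, le_sup_left (b := W) (Subgroup.mem_zpowers bb)⟩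
    exact mul_inv_eq_iff_eq_mul.2 (congrArg Subtype.val this)
  set f1 := yb * e * yb⁻¹ with hf1
  set g1 := yb * f1 * yb⁻¹ with hg1
  have hf1W : f1 ∈ W := hWy e heW
  have hg1W : g1 ∈ W := hWy f1 hf1W
  have hy3W : yb * g1 * yb⁻¹ = e := by
    obtain ⟨u, hu, rfl⟩ := heW
    have h1 : y ^ 3 * (u : X) * (y ^ 3)⁻¹ = u :=
      mul_inv_eq_iff_eq_mul.2 (Subgroup.mem_centralizer_iff.1 hy3 u (hUT hu)).symm
    rw [hg1, hf1, hyb]
    simp only [← map_mul, ← map_inv]
    exact congrArg π (Subtype.ext (by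
      simp only [Subgroup.coe_mul, Subgroup.coe_inv]
      rw [show y * (y * (y * (u : X) * y⁻¹) * y⁻¹) * y⁻¹ = y ^ 3 * (u : X) * (y ^ 3)⁻¹ by
        rw [pow_three]; group]
      exact h1))
  have hg : g1 = e * f1 := by
    have hsum : e * f1 * g1 = 1 := by
      refine hfix _ (mul_mem (mul_mem heW hf1W) hg1W) ?_
      calc yb * (e * f1 * g1) * yb⁻¹ = (yb * e * yb⁻¹) * (yb * f1 * yb⁻¹) * (yb * g1 * yb⁻¹) := by group
        _ = f1 * g1 * e := by rw [hy3W]
        _ = e * f1 * g1 := by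
          rw [hWc (f1 * g1) (mul_mem hf1W hg1W) e heW, mul_assoc e f1 g1]
    calc g1 = (e * f1)⁻¹ * (e * f1 * g1) := by group
      _ = e * f1 := by
        rw [hsum, mul_one]; exact inv_eq_of_mul_eq_one_left (hW2 _ (mul_mem heW hf1W))
  have hne : e ≠ f1 := fun h => he1 (hfix e heW h.symm)
  have hbf : bb * f1 * bb⁻¹ = e * f1 := by
    have h1 : bb * yb * bb⁻¹ = yb⁻¹ := by
      rw [hbb, hyb, ← map_mul, ← map_inv, ← map_mul, ← map_inv]
      exact congrArg π (Subtype.ext hby)
    calc bb * f1 * bb⁻¹ = (bb * yb * bb⁻¹) * (bb * e * bb⁻¹) * (bb * yb * bb⁻¹)⁻¹ := by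
          rw [hf1]; group
      _ = yb⁻¹ * (yb * g1 * yb⁻¹) * yb := by rw [h1, heb, inv_inv, hy3W]
      _ = g1 := by group
      _ = e * f1 := hg
  have hS4 := CfsgLib.LocalEven.involves_perm_four (G := L ⧸ Φ.subgroupOf L) (hW2 e heW)
    (hW2 f1 hf1W) (hWc f1 hf1W e heW) he1
    (fun h => he1 (conj_eq_one_iff.1 h)) hne (k := yb) rfl (hg1.symm.trans hg) heb hbf
  exact CfsgLib.LocalEven.involves_of_subgroup
    (CfsgLib.Fusion.involves_of_quotient π (QuotientGroup.mk'_surjective _) hS4)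

theorem involves_of_exists (h : ∃ T : Subgroup G, IsPGroup 2 ↥T ∧ Cfsg.Involves (Perm (Fin 3))
      (↥(Subgroup.normalizer (T : Set G)) ⧸
        (Subgroup.centralizer (T : Set G)).subgroupOf (Subgroup.normalizer (T : Set G)))) :
    Cfsg.Involves (Perm (Fin 4)) G := by
  obtain ⟨T, hT, K, R, hn, ⟨e⟩⟩ := h
  set N := Subgroup.normalizer (T : Set G) with hN
  set C := (Subgroup.centralizer (T : Set G)).subgroupOf N with hC
  have hTn : (T.subgroupOf N).Normal := Subgroup.normal_in_normalizer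
  set E := K.comap (QuotientGroup.mk' C) with hE
  let g : E →* K := MonoidHom.mk' (fun z => ⟨QuotientGroup.mk' C z, z.2⟩)
    fun a b => Subtype.ext (map_mul _ _ _)
  have hg : Function.Surjective g := fun z => by
    obtain ⟨x, hx⟩ := QuotientGroup.mk'_surjective C z
    exact ⟨⟨x, show _ ∈ K from hx ▸ z.2⟩, Subtype.ext hx⟩
  refine CfsgLib.LocalEven.involves_of_subgroup (involves_perm_four_of_action (T.subgroupOf N)
    (hT.comap_subtype) E ((e.toMonoidHom.comp (QuotientGroup.mk' (R.subgroupOf K))).comp g)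
    ((e.surjective.comp (QuotientGroup.mk'_surjective _)).comp hg) fun z hz => ?_)
  have h1 : g z = 1 := by
    refine Subtype.ext ((QuotientGroup.eq_one_iff _).2 (Subgroup.mem_subgroupOf.2
      (Subgroup.mem_centralizer_iff.2 fun t ht => ?_)))
    exact congrArg Subtype.val
      (Subgroup.mem_centralizer_iff.1 hz ⟨t, Subgroup.le_normalizer ht⟩ ht)
  show e _ = 1
  rw [h1, map_one, map_one]

/-- For a finite group G, the symmetric group of degree 4 is involved in G if and only if there is a 2-subgroup T of G such that the symmetric group of degree 3 is involved in N(T)/C(T). -/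
theorem result {G : Type*} [Group G] [Finite G] : Cfsg.Involves (Equiv.Perm (Fin 4)) G ↔ ∃ T : Subgroup G, IsPGroup 2 ↥T ∧ Cfsg.Involves (Equiv.Perm (Fin 3)) (↥(Subgroup.normalizer (T : Set G)) ⧸ (Subgroup.centralizer (T : Set G)).subgroupOf (Subgroup.normalizer (T : Set G))) :=
  ⟨exists_of_involves, involves_of_exists⟩

end Cfsg.Agent.S2759
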