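import Cfsg.Statements.S2824
import Cfsg.Agent.Lib.LocalEven.PReduced3
-- import your own Cfsg.Agent.* helpers here

set_option autoImplicit false
open Cfsg

namespace Cfsg.Agent.S2824

/-- Let H be a finite group, p a prime, T a Sylow p-subgroup, L and M subgroups of characteristic p containing T, Y_L the largest p-reduced normal subgroup of L and T₀ = C_T(Y_L). If M·C_H(Y_L) = L·C_H(Y_L), then L* := N_M(T₀) has Y_{L*} = Y_L and L·C_H(Y_L) = L*·C_H(Y_L). -/
theorem result {H : Type*} [Group H] [Finite H] {p : ℕ} [Fact p.Prime] (T : Sylow p H) (L M : Subgroup H) (hTL : (T : Subgroup H) ≤ L) (hTM : (T : Subgroup H) ≤ M) (hL : Subgroup.centralizer (Cfsg.pCore p ↥L : Set ↥L) ≤ Cfsg.pCore p ↥L) (hM : Subgroup.centralizer (Cfsg.pCore p ↥M : Set ↥M) ≤ Cfsg.pCore p ↥M) (T₀ : Subgroup H) (hT₀ : T₀ = (T : Subgroup H) ⊓ Subgroup.centralizer (((Cfsg.largestPReducedOf p L) : Subgroup H) : Set H)) (hfac : M ⊔ Subgroup.centralizer (((Cfsg.largestPReducedOf p L) : Subgroup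 H) : Set H) = L ⊔ Subgroup.centralizer (((Cfsg.largestPReducedOf p L) : Subgroup H) : Set H)) (Ls : Subgroup H) (hLs : Ls = M ⊓ Subgroup.normalizer ((T₀ : Subgroup H) : Set H)) : (Cfsg.largestPReducedOf p Ls) = (Cfsg.largestPReducedOf p L) ∧ L ⊔ Subgroup.centralizer (((Cfsg.largestPReducedOf p L) : Subgroup H) : Set H) = Ls ⊔ Subgroup.centralizer (((Cfsg.largestPReducedOf p L) : Subgroup H) : Set H) := by
  subst hLs hT₀
  have hY := CfsgLib.LocalEven.isPRedIn_largest (p := p) L
  have hMY : M ≤ Subgroup.normalizer (Cfsg.largestPReducedOf p L : Set H) :=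
    (le_sup_left.trans hfac.le).trans (sup_le hY.2.1 (Subgroup.centralizer_le_normalizer _))
  generalize hT0 : (T : Subgroup H) ⊓
    Subgroup.centralizer (Cfsg.largestPReducedOf p L : Set H) = T₀
  have hTT0 : (T : Subgroup H) ≤ Subgroup.normalizer (T₀ : Set H) := by
    rw [← hT0]
    exact (le_inf Subgroup.le_normalizer ((hTL.trans hY.2.1).trans
      (CfsgLib.LocalEven.normalizer_le_normalizer_centralizer _))).trans
      Subgroup.inf_normalizer_le_normalizer_inf
  have hTLs : (T : Subgroup H) ≤ M ⊓ Subgroup.normalizer (T₀ : Set H) := le_inf hTM hTT0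
  have hC : M ⊓ Subgroup.normalizer (T₀ : Set H) ⊔
      Subgroup.centralizer (Cfsg.largestPReducedOf p L : Set H) =
      L ⊔ Subgroup.centralizer (Cfsg.largestPReducedOf p L : Set H) := by
    rw [← hfac]
    refine le_antisymm (sup_le_sup_right inf_le_left _) (sup_le (fun g hg => ?_) le_sup_right)
    obtain ⟨a, ha, c, hc, rfl⟩ :=
      CfsgLib.LocalEven.exists_factor_centralizer T hTM hMY hg
    rw [hT0] at ha
    exact Subgroup.mul_mem_sup ha hc.2
  refine ⟨le_antisymm ?_ (hY.of_sup_centralizer T hTLs hTL hC).le_largest, hC.symm⟩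
  have hY' := CfsgLib.LocalEven.isPRedIn_largest (p := p)
    (M ⊓ Subgroup.normalizer (T₀ : Set H))
  have hT0T : T₀ ≤ (T : Subgroup H) := hT0 ▸ inf_le_left
  have hYT0 : Cfsg.largestPReducedOf p L ≤ T₀ := hT0 ▸ le_inf
    (hY.le_pCoreOf.trans (CfsgLib.LocalEven.pCoreOf_le_parabolic T hTL))
    (CfsgLib.LocalEven.elemAbelian_le_centralizer hY.2.2.1)
  have hc : Cfsg.largestPReducedOf p (M ⊓ Subgroup.normalizer (T₀ : Set H)) ≤
      Subgroup.centralizer (T₀ : Set H) :=
    hY'.le_centralizer_pCoreOf.trans (Subgroup.centralizer_le (SetLike.coe_subset_coe.2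
      (CfsgLib.LocalEven.le_pCoreOf (hT0T.trans hTLs) inf_le_right (T.isPGroup'.to_le hT0T))))
  have hle : Cfsg.largestPReducedOf p (M ⊓ Subgroup.normalizer (T₀ : Set H)) ≤
      (T : Subgroup H) ⊓ Subgroup.centralizer (Cfsg.largestPReducedOf p L : Set H) :=
    le_inf (hY'.le_pCoreOf.trans (CfsgLib.LocalEven.pCoreOf_le_parabolic T hTLs))
      (hc.trans (Subgroup.centralizer_le (SetLike.coe_subset_coe.2 hYT0)))
  refine le_of_le_of_eq (CfsgLib.LocalEven.le_omegaOne_center hY'.2.2.1 hle ?_)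
    (CfsgLib.LocalEven.eq_omegaCenter T hTL hL hY (fun V hV => hV.le_largest)).symm
  rw [hT0]; exact hc

end Cfsg.Agent.S2824
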