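import Cfsg.Statements.S3888
import Cfsg.Agent.Lib.PGroups.RankTwoBlackburn

set_option autoImplicit false
open Cfsg

namespace Cfsg.Agent.S3888

/-- The classification of the p-groups of rank at most two for odd p. Let p be an odd prime and G a group of order p^n with no elementary abelian subgroup of order p³. Then one of the following holds: G is metacyclic; n ≥ 3 and G is generated by elements x, y, z with x^p = y^p = z^(p^(n−2)) = 1, z commuting with x and y, and x⁻¹yx = y z^(p^(n−3)); n ≥ 4 and G is generated by elements x, y, z with x^p = y^p = z^(p^(n−2)) = 1, yz = zy, x⁻¹yx = y z^(s p^(n−3)) and x⁻¹zx = yz, where s = 1 or s is a quadratic non-residue modulo p; or p = 3 and G has maximal class (nilpotency class n − 1). -/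
theorem result {G : Type*} [Group G] [Finite G] {p : ℕ} [Fact p.Prime] (hp : p ≠ 2) (n : ℕ) (hG : Nat.card G = p ^ n)
    (hrk : Cfsg.PRankLE p 2 G) :
    Cfsg.IsMetacyclic G ∨
    (3 ≤ n ∧ ∃ x y z : G, Subgroup.closure ({x, y, z} : Set G) = ⊤ ∧ x ^ p = 1 ∧ y ^ p = 1 ∧ z ^ p ^ (n - 2) = 1 ∧
        x * z = z * x ∧ y * z = z * y ∧ x⁻¹ * y * x = y * z ^ p ^ (n - 3)) ∨
    (4 ≤ n ∧ ∃ (s : ℕ) (x y z : G), (s = 1 ∨ ¬ IsSquare (s : ZMod p)) ∧ Subgroup.closure ({x, y, z} : Set G) = ⊤ ∧
        x ^ p = 1 ∧ y ^ p = 1 ∧ z ^ p ^ (n - 2) = 1 ∧ y * z = z * y ∧ x⁻¹ * y * x = y * z ^ (s * p ^ (n - 3)) ∧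
        x⁻¹ * z * x = y * z) ∨
    (p = 3 ∧ 2 ≤ n ∧ (⊤ : Subgroup G).lowerCentralSeries (n - 2) ≠ ⊥) := by
  have hpp : p.Prime := Fact.out
  have hP : IsPGroup p G := IsPGroup.of_card hG
  by_cases hcyc : IsCyclic G
  · refine Or.inl ⟨⊤, inferInstance, isCyclic_of_surjective Subgroup.topEquiv.symm.toMonoidHom
      Subgroup.topEquiv.symm.surjective, isCyclic_of_surjective (QuotientGroup.mk' ⊤) (QuotientGroup.mk'_surjective _)⟩
  by_cases hidx : (Cfsg.powerClosure p 1 (⊤ : Subgroup G)).index ≤ p ^ 2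
  · exact Or.inl (CfsgLib.PLocal.isMetacyclic_of_index_powerClosure hp hP hidx)
  obtain ⟨E, -, hEn, hEe, hE2⟩ := CfsgLib.PLocal.exists_normal_elementary_sq hp hP ⊤ (fun h =>
    hcyc (isCyclic_of_surjective (Subgroup.topEquiv (G := G)).toMonoidHom
      (Subgroup.topEquiv (G := G)).surjective))
  obtain ⟨hEc, hEp⟩ := CfsgLib.Base.isElementaryAbelian_iff.1 hEe
  have hle : E ≤ Subgroup.centralizer (E : Set G) :=
    Subgroup.le_centralizer_iff_isMulCommutative.2 hEe.1
  have homega : ∀ z : G, z ∈ Subgroup.centralizer (E : Set G) → z ^ p = 1 → z ∈ E := by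
    intro z hz hzp
    have hB := CfsgLib.Base.isElementaryAbelian_sup hEe (CfsgLib.Base.isElementaryAbelian_zpowers hzp)
      (Subgroup.le_centralizer_iff.1 (Subgroup.zpowers_le.2 hz))
    have h1 : E ⊔ Subgroup.zpowers z = E := (Subgroup.eq_of_le_of_card_ge le_sup_left
      (hE2 ▸ CfsgLib.Base.pRankLE_iff.1 hrk _ hB)).symm
    exact h1.le (Subgroup.mem_sup_right (Subgroup.mem_zpowers z))
  have hindex : (Subgroup.centralizer (E : Set G)).index = p := by
    have hle' : (Subgroup.centralizer (E : Set G)).index ≤ p := by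
      simpa using CfsgLib.PGroups.index_centralizer_le hP 2 hE2
    obtain ⟨i, hi⟩ := hP.index (Subgroup.centralizer (E : Set G))
    rw [hi] at hle' ⊢
    have hi1 : i ≤ 1 := (Nat.pow_le_pow_iff_right hpp.one_lt).1 (hle'.trans (pow_one p).ge)
    rcases (show i = 0 ∨ i = 1 by omega) with rfl | rfl
    · exfalso
      apply hidx
      rw [pow_zero, Subgroup.index_eq_one] at hi
      -- `E` is central, so the `p`-th powers are many
      have hcount := CfsgLib.OddOrder.card_le_mul_card_range hp hP (U := E)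
        (fun z hz => homega z (hi ▸ Subgroup.mem_top z) hz)
        (fun e he => Subgroup.mem_center_iff.2 fun v =>
          ((hi ▸ Subgroup.mem_top v : v ∈ Subgroup.centralizer (E : Set G)) e he).symm)
      set W := Cfsg.powerClosure p 1 (⊤ : Subgroup G)
      have hW : Nat.card (Set.range fun x : G => x ^ p) ≤ Nat.card W :=
        Nat.card_le_card_of_injective (fun w => (⟨w.1, by
          obtain ⟨y, hy⟩ := w.2
          exact Subgroup.subset_closure ⟨y, Subgroup.mem_top _, by rw [pow_one]; exact hy.symm⟩⟩ : W))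
          fun a b hab => Subtype.ext (congrArg (fun t : W => (t : G)) hab)
      rw [hE2, ← W.card_mul_index] at hcount
      refine Nat.le_of_mul_le_mul_left (hcount.trans ?_) (Nat.card_pos (α := W))
      rw [mul_comm (p ^ 2)]
      exact Nat.mul_le_mul_right _ hW
    · exact pow_one p
  have F : CfsgLib.PGroups.Blackburn.Frame p E (Subgroup.centralizer (E : Set G)) :=
    ⟨hEn, inferInstance, hE2, hle, hEp, fun c hc e he => (hc e he).symm, homega, hindex,
      fun u hu e he => (hu e he).eq.symm⟩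
  rcases CfsgLib.PGroups.Blackburn.trichotomy F hp hG hidx with h | h | ⟨h3, hcl⟩
  · exact Or.inr (Or.inl h)
  · exact Or.inr (Or.inr (Or.inl h))
  · have hn2 : 2 ≤ n := by
      have h1 := Nat.le_of_dvd (Nat.card_pos (α := G)) (Subgroup.card_subgroup_dvd_card E)
      rw [hE2, hG] at h1
      exact (Nat.pow_le_pow_iff_right hpp.one_lt).1 h1
    refine Or.inr (Or.inr (Or.inr ⟨h3, hn2, fun h => ?_⟩))
    haveI := hP.isNilpotent
    have := Subgroup.lowerCentralSeries_eq_bot_iff_nilpotencyClass_le.1 h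
    omega

end Cfsg.Agent.S3888
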