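import Cfsg.Statements.S2946
import Cfsg.Agent.Lib.LocalEven.JCompAct
import Cfsg.Agent.Lib.PLocal.Frattini
import Cfsg.Agent.Lib.PLocal.TwoSubnormal
import Cfsg.Agent.Lib.Transfer.ThompsonComplement
-- import your own Cfsg.Agent.* helpers here

set_option autoImplicit false
open Cfsg
open scoped commutatorElement

namespace Cfsg.Agent.S2946

/-- Let G be a finite group of characteristic 2 type in which every 2-local subgroup is solvable and the centralizer of Ω₁(Z(S)) lies in N_G(S) for every Sylow 2-subgroup S, and let T be a nontrivial 2-subgroup (below, J is the Thompson subgroup generated by the elementary abelian 2-subgroups of largest order), K a J(T)-component and Z₀ = Ω₁(Z(J(T))). Then Z₀ meets W_K = [Ω₁(Z(O₂(K))), K] in a subgroup of order 2, and Z₀ is the product of Z₀ ∩ Z(⟨K, J(T)⟩) and Z₀ ∩ W_K. -/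
theorem result {G : Type*} [Group G] [Finite G] (hL : Cfsg.IsCharacteristicTwoType G) (hN : ∀ N : Subgroup G, Cfsg.IsTwoLocal N → Group.IsSolvable ↥N)
    (hZ : ∀ S : Sylow 2 G, Subgroup.centralizer (Cfsg.omegaCenterOf (S : Subgroup G) : Set G) ≤ Subgroup.normalizer ((S : Subgroup G) : Set G)) (T : Subgroup G) (hT : IsPGroup 2 ↥T) (hT1 : T ≠ ⊥) (K : Subgroup G) (hK : Cfsg.IsJComponent T K)
    (Z₀ : Subgroup G) (hZ₀ : Z₀ = Cfsg.omegaCenterOf (Cfsg.thompsonSubgroupOf 2 T)) :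
    Nat.card ↥(Z₀ ⊓ Cfsg.wOf K) = 2 ∧
      (Z₀ ⊓ ((K ⊔ Cfsg.thompsonSubgroupOf 2 T) ⊓ Subgroup.centralizer ((K ⊔ Cfsg.thompsonSubgroupOf 2 T) : Set G))) ⊔ (Z₀ ⊓ Cfsg.wOf K) = Z₀ := by
  classical
  subst hZ₀
  have hC := CfsgLib.LocalEven.JComp.isComp_of hK
  obtain ⟨-, -, -, hSyl, -, -⟩ := hK
  set J := Cfsg.thompsonSubgroupOf 2 T with hJdef
  set W := Cfsg.wOf K with hWdef
  set Q := Cfsg.pCoreOf 2 K with hQdef
  have hJ2 : IsPGroup 2 J := hT.to_le (CfsgLib.PLocal.thompsonSubgroupOf_le 2 T)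
  have hJK : J ≤ Subgroup.normalizer (K : Set G) := hC.le_normalizer
  have hQK : Q ≤ K := CfsgLib.LocalEven.pCoreOf_le 2 K
  have hQ2 : IsPGroup 2 Q := CfsgLib.LocalEven.isPGroup_pCoreOf K
  have hJQ : J ≤ Subgroup.normalizer (Q : Set G) :=
    hJK.trans fun x hx => CfsgLib.LocalEven.mem_normalizer_pCoreOf hx
  have hWQ : W ≤ Q := (CfsgLib.LocalEven.JComp.wOf_le K).trans (CfsgLib.LocalEven.JComp.omegaCenterOf_le _)
  have hWe : Cfsg.IsElementaryAbelian 2 W :=
    CfsgLib.PLocal.isElementaryAbelian_of_le (CfsgLib.LocalEven.JComp.isElementaryAbelian_omegaCenterOf _)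
      (CfsgLib.LocalEven.JComp.wOf_le K)
  set L := K ⊔ J with hL
  set S := J ⊔ Q with hSdef
  have hS2 : IsPGroup 2 S := hJ2.to_sup_of_normal_right' hQ2 hJQ
  have hSL : S ≤ L := sup_le le_sup_right (hQK.trans le_sup_left)
  have hLW : L ≤ Subgroup.normalizer (W : Set G) :=
    sup_le hC.le_normalizer_w (hJK.trans (CfsgLib.LocalEven.JComp.normalizer_le_normalizer_wOf K))
  set C := L ⊓ Subgroup.centralizer (W : Set G) with hCdef
  have hLC : L ≤ Subgroup.normalizer (C : Set G) :=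
    (le_inf Subgroup.le_normalizer (hLW.trans (CfsgLib.LocalEven.normalizer_le_normalizer_centralizer _))).trans
      (CfsgLib.PLocal.normalizer_inf_le _ _)
  have hQC : Q ≤ C := le_inf (hQK.trans le_sup_left) (Subgroup.le_centralizer_iff.1
    ((CfsgLib.LocalEven.JComp.wOf_le K).trans (CfsgLib.LocalEven.JComp.omegaCenterOf_le_centralizer _)))
  have hKW : ¬ K ≤ Subgroup.centralizer (W : Set G) := fun h => hC.wOf_ne_bot (by
    rw [← hC.inf_centralizer_w]; exact (inf_eq_left.2 (Subgroup.le_centralizer_iff.1 h)).symm)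
  have hKC : ∀ x ∈ K, x ∈ Subgroup.centralizer (W : Set G) → x ∈ Q := by
    intro x hx hxC
    have hle : Q ≤ K ⊓ Subgroup.centralizer (W : Set G) := le_inf hQK (hQC.trans inf_le_right)
    have h3 : Q.relIndex (K ⊓ Subgroup.centralizer (W : Set G)) *
        (K ⊓ Subgroup.centralizer (W : Set G)).relIndex K = 3 := by
      rw [Subgroup.relIndex_mul_relIndex _ _ _ hle inf_le_left]; exact hC.index
    rcases (Nat.Prime.eq_one_or_self_of_dvd Nat.prime_three _ ⟨_, h3.symm⟩) with e | e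
    · exact Subgroup.relIndex_eq_one.1 e ⟨hx, hxC⟩
    · rw [e] at h3
      exact absurd (Subgroup.relIndex_eq_one.1 (by omega : (K ⊓ Subgroup.centralizer (W : Set G)).relIndex K = 1))
        (fun h => hKW (h.trans inf_le_right))
  have hLp : ∀ x ∈ L, ∃ n, x ^ 2 ^ n ∈ K := by
    intro x hx
    rw [hL, sup_comm] at hx
    exact CfsgLib.LocalEven.ppow_sup hJK Subgroup.le_normalizer
      (CfsgLib.LocalEven.JComp.ppow_of_isPGroup hJ2 K) (fun a ha => ⟨0, by simpa using ha⟩) x hx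
  have hC2 : IsPGroup 2 C := CfsgLib.LocalEven.isPGroup_of_pow_mem hQ2 fun c hc => by
    obtain ⟨n, hn⟩ := hLp c hc.1
    exact ⟨n, hKC _ hn ((Subgroup.centralizer (W : Set G)).pow_mem hc.2 _)⟩
  have hSC : C ≤ S := by
    set X := S ⊔ C
    have hX : IsPGroup 2 X := hS2.to_sup_of_normal_right' hC2 (hSL.trans hLC)
    have hodd : Odd (S.relIndex L) := by
      have hKS : L = S ⊔ K := le_antisymm (sup_le le_sup_right (le_sup_left.trans le_sup_left))
        (sup_le hSL le_sup_left)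
      have hSK : S ≤ Subgroup.normalizer (K : Set G) := sup_le hJK (hQK.trans Subgroup.le_normalizer)
      have h1 := CfsgLib.Coprime.card_sup_mul_card_inf hSK
      have h2 := Subgroup.relIndex_mul_relIndex ⊥ S L bot_le hSL
      have h3 := Subgroup.relIndex_mul_relIndex ⊥ Q (S ⊓ K) bot_le (le_inf le_sup_right hQK)
      have h4 := Subgroup.relIndex_mul_relIndex ⊥ Q K bot_le hQK
      simp only [Subgroup.relIndex_bot_left] at h2 h3 h4
      rw [← hKS, ← h2, ← h3, ← h4, hC.index] at h1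
      have h5 : S.relIndex L * Q.relIndex (S ⊓ K) = 3 := by
        refine Nat.eq_of_mul_eq_mul_left (Nat.mul_pos (Nat.card_pos (α := S)) (Nat.card_pos (α := Q))) ?_
        calc Nat.card S * Nat.card Q * (S.relIndex L * Q.relIndex (S ⊓ K))
            = Nat.card S * S.relIndex L * (Nat.card Q * Q.relIndex (S ⊓ K)) := by ring
          _ = Nat.card S * (Nat.card Q * 3) := h1
          _ = _ := by ring
      rcases Nat.odd_mul.1 (h5 ▸ (by decide : Odd 3)) with ⟨h6, -⟩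
      exact h6
    have hd : S.relIndex X ∣ S.relIndex L := by
      rw [← Subgroup.relIndex_mul_relIndex S X L le_sup_left (sup_le hSL inf_le_left)]
      exact dvd_mul_right _ _
    obtain ⟨n, hn⟩ := IsPGroup.iff_card.1 hX
    have hd2 : S.relIndex X ∣ 2 ^ n := hn ▸ (S.subgroupOf X).index_dvd_card
    have hco : Nat.Coprime (S.relIndex X) (2 ^ n) :=
      Nat.Coprime.pow_right _ (Nat.coprime_two_right.2 (hodd.of_dvd_nat hd))
    exact le_sup_right.trans (Subgroup.relIndex_eq_one.1 (Nat.eq_one_of_dvd_coprimes hco dvd_rfl hd2))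
  have hJS : Cfsg.thompsonSubgroupOf 2 S = J := by
    refine hSyl S ⟨hSL, hS2, ?_⟩ le_sup_left
    have hKS : L = S ⊔ K := le_antisymm (sup_le le_sup_right (le_sup_left.trans le_sup_left))
        (sup_le hSL le_sup_left)
    have h2 := Subgroup.relIndex_mul_relIndex ⊥ S L bot_le hSL
    have h4 := Subgroup.relIndex_mul_relIndex ⊥ Q K bot_le hQK
    have h1 := CfsgLib.Coprime.card_sup_mul_card_inf
      (sup_le hJK (hQK.trans Subgroup.le_normalizer) : S ≤ Subgroup.normalizer (K : Set G))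
    have h3 := Subgroup.relIndex_mul_relIndex ⊥ Q (S ⊓ K) bot_le (le_inf le_sup_right hQK)
    simp only [Subgroup.relIndex_bot_left] at h2 h3 h4
    rw [← hKS, ← h2, ← h3, ← h4, hC.index] at h1
    have h5 : S.relIndex L * Q.relIndex (S ⊓ K) = 3 := by
      refine Nat.eq_of_mul_eq_mul_left (Nat.mul_pos (Nat.card_pos (α := S)) (Nat.card_pos (α := Q))) ?_
      calc Nat.card S * Nat.card Q * (S.relIndex L * Q.relIndex (S ⊓ K))
          = Nat.card S * S.relIndex L * (Nat.card Q * Q.relIndex (S ⊓ K)) := by ring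
        _ = Nat.card S * (Nat.card Q * 3) := h1
        _ = _ := by ring
    exact (Nat.odd_mul.1 (h5 ▸ (by decide : Odd 3))).1
  have hSW : S ≤ Subgroup.normalizer (W : Set G) := hSL.trans hLW
  have hWS : W ≤ S := hWQ.trans le_sup_right
  obtain ⟨w0, hw0, hw01, hSw0, hfix, hmul⟩ := CfsgLib.LocalEven.JComp.four_action hS2 hC.card_w hWe hSW
  have hin : ∀ A ∈ CfsgLib.PLocal.maxEAOf 2 S, A ≤ J := fun A hA =>
    hJS ▸ CfsgLib.PLocal.le_thompsonSubgroupOf hA
  have hJC : ¬ J ≤ Subgroup.centralizer (W : Set G) := by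
    intro h
    refine hKW ?_
    conv_lhs => rw [← hC.comm]
    refine le_trans ?_ (inf_le_right : C ≤ _)
    refine (Subgroup.commutator_mono (le_sup_left : K ≤ L) (le_inf le_sup_right h : J ≤ C)).trans ?_
    exact Subgroup.le_normalizer_iff_commutator_le_right.1 hLC
  obtain ⟨A, hA, hAC⟩ : ∃ A ∈ CfsgLib.PLocal.maxEAOf 2 S, ¬ A ≤ Subgroup.centralizer (W : Set G) := by
    by_contra hno
    push Not at hno
    refine hJC ?_
    rw [← hJS, CfsgLib.PLocal.thompsonSubgroupOf_eq_sSup]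
    exact sSup_le hno
  -- `A* = (A ∩ C) W`
  have hstar : ∀ A ∈ CfsgLib.PLocal.maxEAOf 2 S, ¬ A ≤ Subgroup.centralizer (W : Set G) →
      (A ⊓ Subgroup.centralizer (W : Set G)) ⊔ W ∈ CfsgLib.PLocal.maxEAOf 2 S := by
    intro A hA hAC
    set A1 := A ⊓ Subgroup.centralizer (W : Set G) with hA1
    have he : Cfsg.IsElementaryAbelian 2 (A1 ⊔ W) := CfsgLib.PLocal.isElementaryAbelian_sup
      (CfsgLib.PLocal.isElementaryAbelian_of_le hA.2.1 inf_le_left) hWe inf_le_right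
    refine ⟨sup_le (inf_le_left.trans hA.1) hWS, he, fun B hB hBe => (hA.2.2 B hB hBe).trans ?_⟩
    have h1 := CfsgLib.LocalEven.JComp.card_le_two_mul hS2 hC.card_w hWe hSW hA.1
    obtain ⟨a, ha, haC⟩ := SetLike.not_le_iff_exists.1 hAC
    have h2 : Nat.card ↥(A1 ⊓ W) ≤ 2 := by
      have hsub : ((A1 ⊓ W : Subgroup G) : Set G) ⊆ {1, w0} := fun v hv => by
        rcases hfix a (hA.1 ha) haC v hv.2 (CfsgLib.PLocal.comm_of_mem hA.2.1.1 ha hv.1.1) with h | h
        · exact Or.inl h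
        · exact Or.inr h
      have h := Nat.card_mono (Set.toFinite _) hsub
      have h2 : ({1, w0} : Set G).ncard ≤ 2 := (Set.ncard_insert_le _ _).trans (by simp)
      rw [Nat.card_coe_set_eq ({1, w0} : Set G)] at h
      exact le_trans h h2
    have h3 := CfsgLib.Coprime.card_sup_mul_card_inf
      ((inf_le_right.trans (Subgroup.centralizer_le_normalizer _)) : A1 ≤ Subgroup.normalizer (W : Set G))
    rw [hC.card_w] at h3
    nlinarith
  have hw0A : ∀ A ∈ CfsgLib.PLocal.maxEAOf 2 S, w0 ∈ A := fun A hA =>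
    CfsgLib.PLocal.mem_of_max_of_commute hA (hWS hw0) (by rw [pow_two]; exact hC.sq w0 hw0)
      fun a ha => (Subgroup.mem_centralizer_singleton_iff.1 (hSw0 (hA.1 ha))).symm ▸ rfl
  have hw0J : w0 ∈ J := hin A hA (hw0A A hA)
  set Z₀ := Cfsg.omegaCenterOf J with hZ₀
  have hw0Z : w0 ∈ Z₀ := CfsgLib.PLocal.mem_omegaOne
    ⟨hw0J, fun j hj => Subgroup.mem_centralizer_singleton_iff.1 (hSw0 (Subgroup.mem_sup_left hj))⟩
    (by rw [pow_two]; exact hC.sq w0 hw0)
  have hZJ : Z₀ ≤ J := CfsgLib.LocalEven.JComp.omegaCenterOf_le J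
  have hZCJ : Z₀ ≤ Subgroup.centralizer (J : Set G) := CfsgLib.LocalEven.JComp.omegaCenterOf_le_centralizer J
  obtain ⟨a0, ha0, ha0C⟩ := SetLike.not_le_iff_exists.1 hAC
  have hZW : ∀ v ∈ Z₀ ⊓ W, v = 1 ∨ v = w0 := fun v hv =>
    hfix a0 (hA.1 ha0) ha0C v hv.2 (Subgroup.mem_centralizer_iff.1 (hZCJ hv.1) a0 (hin A hA ha0))
  constructor
  · refine le_antisymm ?_ ?_
    · have h := Nat.card_mono (Set.toFinite _)
        (show ((Z₀ ⊓ W : Subgroup G) : Set G) ⊆ {1, w0} from fun v hv => hZW v hv)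
      have h2 : ({1, w0} : Set G).ncard ≤ 2 := (Set.ncard_insert_le _ _).trans (by simp)
      rw [Nat.card_coe_set_eq ({1, w0} : Set G)] at h
      exact le_trans h h2
    · exact (Subgroup.one_lt_card_iff_ne_bot _).2 fun e =>
        hw01 (Subgroup.mem_bot.1 (e ▸ (⟨hw0Z, hw0⟩ : w0 ∈ Z₀ ⊓ W)))
  refine le_antisymm (sup_le inf_le_left inf_le_left) fun z hz => ?_
  have hZA : ∀ A ∈ CfsgLib.PLocal.maxEAOf 2 S, Z₀ ≤ A := fun A hA =>
    (Subgroup.closure_le _).2 fun x hx => CfsgLib.PLocal.mem_of_max_of_commute hA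
      (Subgroup.mem_sup_left hx.1.1) hx.2 fun a ha => Subgroup.mem_centralizer_iff.1 hx.1.2 a (hin A hA ha)
  have hstarC : ∀ A ∈ CfsgLib.PLocal.maxEAOf 2 S, ¬ A ≤ Subgroup.centralizer (W : Set G) →
      (A ⊓ Subgroup.centralizer (W : Set G)) ⊔ W ≤ C := fun A hA hAC =>
    sup_le (fun x hx => ⟨hSL (hA.1 hx.1), hx.2⟩) (fun w hw => ⟨hSL (hWS hw), fun v hv =>
      CfsgLib.PLocal.comm_of_mem hWe.1 hv hw⟩)
  have hmaxC : CfsgLib.PLocal.maxEAOf 2 C = {B | B ∈ CfsgLib.PLocal.maxEAOf 2 S ∧ B ≤ C} :=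
    CfsgLib.PLocal.maxEAOf_mono hSC (hstar A hA hAC) (hstarC A hA hAC)
  set JC := Cfsg.thompsonSubgroupOf 2 C with hJCdef
  set Ω := Cfsg.omegaCenterOf JC with hΩ
  have hWC : ∀ c ∈ C, ∀ w ∈ W, w * c = c * w := fun c hc w hw => hc.2 w hw
  have hWΩ : W ≤ Ω := fun w hw => by
    refine CfsgLib.PLocal.mem_omegaOne ⟨?_, fun c hc => ?_⟩ (by rw [pow_two]; exact hC.sq w hw)
    · obtain ⟨B, hB⟩ := CfsgLib.PLocal.maxEAOf_nonempty 2 C
      exact CfsgLib.PLocal.le_thompsonSubgroupOf hB (CfsgLib.PLocal.mem_of_max_of_commute hB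
        ⟨hSL (hWS hw), fun v hv => CfsgLib.PLocal.comm_of_mem hWe.1 hv hw⟩
        (by rw [pow_two]; exact hC.sq w hw) fun a ha => (hWC a (hB.1 ha) w hw).symm)
    · exact (hWC c (CfsgLib.PLocal.thompsonSubgroupOf_le 2 C hc) w hw).symm
  have hJCJ : JC ≤ J := by
    rw [hJCdef, CfsgLib.PLocal.thompsonSubgroupOf_eq_sSup, hmaxC]
    exact sSup_le fun B hB => hin B hB.1
  have hZΩ : Z₀ ≤ Ω := (Subgroup.closure_le _).2 fun x hx => CfsgLib.PLocal.mem_omegaOne
    ⟨CfsgLib.PLocal.le_thompsonSubgroupOf (hmaxC.ge ⟨hstar A hA hAC, hstarC A hA hAC⟩)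
      (hZA _ (hstar A hA hAC) (Subgroup.subset_closure hx)), Subgroup.centralizer_le hJCJ hx.1.2⟩ hx.2
  have hΩJC : Ω ≤ JC := CfsgLib.LocalEven.JComp.omegaCenterOf_le JC
  have hLΩ : L ≤ Subgroup.normalizer (Ω : Set G) :=
    hLC.trans ((CfsgLib.Transfer.normalizer_le_normalizer_thompsonSubgroupOf C).trans
      (CfsgLib.LocalEven.JComp.normalizer_le_normalizer_omegaCenterOf JC))
  have hΩe : Cfsg.IsElementaryAbelian 2 Ω := CfsgLib.LocalEven.JComp.isElementaryAbelian_omegaCenterOf JC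
  have hJT : J ≤ CfsgLib.PLocal.trivQuot Ω W := by
    conv_lhs => rw [← hJS, CfsgLib.PLocal.thompsonSubgroupOf_eq_sSup]
    refine sSup_le fun B hB => CfsgLib.PLocal.le_trivQuot (hB.1.trans hSW) ?_
    by_cases hBC : B ≤ Subgroup.centralizer (W : Set G)
    · refine le_of_eq_of_le ?_ bot_le
      rw [Subgroup.commutator_eq_bot_iff_le_centralizer]
      refine (CfsgLib.LocalEven.JComp.omegaCenterOf_le_centralizer JC).trans (Subgroup.centralizer_le ?_)
      exact CfsgLib.PLocal.le_thompsonSubgroupOf (hmaxC.ge ⟨hB, fun x hx => ⟨hSL (hB.1 hx), hBC hx⟩⟩)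
    set B1 := B ⊓ Subgroup.centralizer (W : Set G) with hB1
    have hB1J : B1 ≤ JC := le_sup_left.trans
      (CfsgLib.PLocal.le_thompsonSubgroupOf (hmaxC.ge ⟨hstar B hB hBC, hstarC B hB hBC⟩))
    have hcomm : B1 ≤ Subgroup.centralizer (Ω : Set G) :=
      hB1J.trans (Subgroup.le_centralizer_iff.1 (CfsgLib.LocalEven.JComp.omegaCenterOf_le_centralizer JC))
    have hΩS : Ω ≤ S := hΩJC.trans ((CfsgLib.PLocal.thompsonSubgroupOf_le 2 C).trans hSC)
    have he : Cfsg.IsElementaryAbelian 2 (B1 ⊔ Ω) := CfsgLib.PLocal.isElementaryAbelian_sup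
      (CfsgLib.PLocal.isElementaryAbelian_of_le hB.2.1 inf_le_left) hΩe hcomm
    have h1 := hB.2.2 _ (sup_le (inf_le_left.trans hB.1) hΩS) he
    have h2 := CfsgLib.LocalEven.JComp.card_le_two_mul hS2 hC.card_w hWe hSW hB.1
    have h3 := CfsgLib.Coprime.card_sup_mul_card_inf (hcomm.trans (Subgroup.centralizer_le_normalizer _))
    set D := B1 ⊓ Ω with hD
    have h4 : Nat.card Ω ≤ 2 * Nat.card D := by
      have := Nat.card_pos (α := B1)
      have : Nat.card B1 * Nat.card Ω ≤ Nat.card B1 * (2 * Nat.card D) := by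
        rw [← h3]
        calc _ ≤ Nat.card B * Nat.card D := Nat.mul_le_mul_right _ h1
          _ ≤ 2 * Nat.card B1 * Nat.card D := Nat.mul_le_mul_right _ h2
          _ = _ := by ring
      exact Nat.le_of_mul_le_mul_left this Nat.card_pos
    have hΩW : Ω ≤ W ⊔ D := by
      have hle : W ⊔ D ≤ Ω := sup_le hWΩ inf_le_right
      refine (Subgroup.eq_of_le_of_card_ge hle (h4.trans ?_)).ge
      obtain ⟨b, hb, hbC⟩ := SetLike.not_le_iff_exists.1 hBC
      have hne : ¬ W ≤ D := fun h => hbC fun w hw =>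
        (CfsgLib.PLocal.comm_of_mem hB.2.1.1 hb (h hw).1.1).symm
      have hlt : Nat.card D < Nat.card ↥(W ⊔ D) := by
        by_contra hge
        exact hne (le_sup_left.trans (Subgroup.eq_of_le_of_card_ge le_sup_right (Nat.not_lt.1 hge)).ge)
      obtain ⟨n, hn⟩ := Subgroup.card_dvd_of_le (le_sup_right : D ≤ W ⊔ D)
      rw [hn] at hlt ⊢
      rcases n with _ | _ | n
      · simp at hlt
      · simp at hlt
      · nlinarith
    rw [Subgroup.commutator_le]
    intro v hv b hb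
    obtain ⟨w, hw, d, hd, rfl⟩ := (CfsgLib.Coprime.mem_sup_iff_of_le_normalizer
      (hWΩ.trans (CfsgLib.PLocal.le_normalizer_of_abelian hΩe.1 inf_le_right))).1 (hΩW hv)
    have hdb : d * b = b * d := CfsgLib.PLocal.comm_of_mem hB.2.1.1 hd.1.1 hb
    rw [show ⁅w * d, b⁆ = w * (d * b * d⁻¹) * w⁻¹ * b⁻¹ by rw [commutatorElement_def]; group,
      hdb, mul_inv_cancel_right, show w * b * w⁻¹ * b⁻¹ = w * (b * w⁻¹ * b⁻¹) by group]
    exact mul_mem hw ((Subgroup.mem_normalizer_iff.1 (hSW (hB.1 hb)) _).1 (inv_mem hw))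
  -- `K` also acts trivially on `Ω / W`
  have hKT : K ≤ CfsgLib.PLocal.trivQuot Ω W := by
    conv_lhs => rw [← hC.comm]
    rw [Subgroup.commutator_le]
    intro k hk j hj
    have h1 : k * j * k⁻¹ ∈ CfsgLib.PLocal.trivQuot Ω W := by
      have hkW := hC.le_normalizer_w hk
      refine ⟨mul_mem (mul_mem hkW (hSW (Subgroup.mem_sup_left hj))) (inv_mem hkW), fun v hv => ?_⟩
      have hv' : k⁻¹ * v * k ∈ Ω := by
        simpa using (Subgroup.mem_normalizer_iff.1 (hLΩ (inv_mem (Subgroup.mem_sup_left hk))) v).1 hv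
      have := (Subgroup.mem_normalizer_iff.1 hkW _).1 ((hJT hj).2 _ hv')
      convert this using 1
      simp only [commutatorElement_def]; group
    rw [commutatorElement_def]
    exact mul_mem h1 (inv_mem (hJT hj))
  -- an element of order three inverted by an involution
  obtain ⟨k, hk, hkw⟩ : ∃ k ∈ K, k * w0 * k⁻¹ ≠ w0 := by
    by_contra hno
    push Not at hno
    have : w0 ∈ W ⊓ Subgroup.centralizer (K : Set G) := ⟨hw0, fun k hk => mul_inv_eq_iff_eq_mul.1 (hno k hk)⟩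
    rw [hC.inf_centralizer_w] at this
    exact hw01 (Subgroup.mem_bot.1 this)
  set b := k * a0 * k⁻¹ with hb
  have ha2 : a0 * a0 = 1 := by have := hA.2.1.2 a0 ha0; rwa [pow_two] at this
  have ha0' : a0⁻¹ = a0 := inv_eq_of_mul_eq_one_right ha2
  set y' := a0 * b with hy'
  have hy'K : y' ∈ K := by
    have h := hC.comm.le (Subgroup.commutator_mem_commutator hk (hin A hA ha0))
    rw [commutatorElement_def, ha0'] at h
    have e : y' = a0 * (k * a0 * k⁻¹ * a0) * a0⁻¹ := by rw [hy', hb]; group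
    rw [e]
    exact (Subgroup.mem_normalizer_iff.1 (hJK (hin A hA ha0)) _).1 h
  have hy'Q : y' ∉ Q := by
    intro h
    have hy'C := (hQC h).2
    apply hkw
    have hkw' : k * w0 * k⁻¹ ∈ W := (Subgroup.mem_normalizer_iff.1 (hC.le_normalizer_w hk) w0).1 hw0
    have hbfix : b * (k * w0 * k⁻¹) = k * w0 * k⁻¹ * b := by
      have := Subgroup.mem_centralizer_singleton_iff.1 (hSw0 (hA.1 ha0))
      calc b * (k * w0 * k⁻¹) = k * (a0 * w0) * k⁻¹ := by rw [hb]; group
        _ = k * (w0 * a0) * k⁻¹ := by rw [this]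
        _ = _ := by rw [hb]; group
    have : a0 * (k * w0 * k⁻¹) = k * w0 * k⁻¹ * a0 := by
      have h2 := hy'C _ hkw'
      calc a0 * (k * w0 * k⁻¹) = a0 * (k * w0 * k⁻¹ * b) * b⁻¹ := by group
        _ = y' * (k * w0 * k⁻¹) * b⁻¹ := by rw [← hbfix, hy']; group
        _ = k * w0 * k⁻¹ * y' * b⁻¹ := by rw [h2]
        _ = _ := by rw [hy']; group
    rcases hfix a0 (hA.1 ha0) ha0C _ hkw' this with h | h
    · exact absurd (conj_eq_one_iff.1 h) hw01
    · exact h
  obtain ⟨n, m, hm, hord⟩ := Nat.exists_eq_two_pow_mul_odd (orderOf_pos y').ne'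
  set y := y' ^ 2 ^ n with hy
  have hyK : y ∈ K := pow_mem hy'K _
  have hyo : Odd (orderOf y) := by
    rw [hy, orderOf_pow, hord, Nat.gcd_mul_right_left, Nat.mul_div_cancel_left _ (by positivity)]
    exact hm
  have hyQ : y ∉ Q := by
    intro h
    haveI : (Q.subgroupOf K).Normal :=
      Subgroup.normal_subgroupOf_of_le_normalizer (CfsgLib.LocalEven.le_normalizer_pCoreOf 2 K)
    have h3 : (⟨y', hy'K⟩ : K) ^ (Q.subgroupOf K).index ∈ Q.subgroupOf K := Subgroup.pow_index_mem _ _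
    rw [show (Q.subgroupOf K).index = 3 from hC.index] at h3
    have h3' : y' ^ 3 ∈ Q := h3
    obtain ⟨u, v, huv⟩ : ∃ u v : ℤ, u * 3 + v * (2 ^ n : ℕ) = 1 :=
      Int.isCoprime_iff_nat_coprime.2 (by simpa using Nat.Coprime.pow_right n (by norm_num : Nat.Coprime 3 2))
    apply hy'Q
    have : y' = (y' ^ 3) ^ u * y ^ v := by
      rw [hy, ← zpow_natCast y' 3, ← zpow_natCast y' (2 ^ n), ← zpow_mul, ← zpow_mul, ← zpow_add,
        mul_comm _ u, mul_comm _ v]
      simp only [Nat.cast_ofNat] at huv ⊢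
      rw [huv, zpow_one]
    rw [this]
    exact mul_mem (zpow_mem h3' _) (zpow_mem h _)
  have hinv : a0 * y * a0⁻¹ = y⁻¹ := by
    rw [hy, ← conj_pow, ← inv_pow]
    congr 1
    have hb2 : b * b = 1 := by
      rw [hb]
      calc k * a0 * k⁻¹ * (k * a0 * k⁻¹) = k * (a0 * a0) * k⁻¹ := by group
        _ = 1 := by rw [ha2]; group
    rw [hy', mul_inv_rev, inv_eq_of_mul_eq_one_right hb2, ha0']
    rw [← mul_assoc, ha2, one_mul]
  -- split `z`
  haveI := hΩe.1
  have hyΩ : Subgroup.zpowers y ≤ Subgroup.normalizer (Ω : Set G) :=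
    Subgroup.zpowers_le.2 (hLΩ (Subgroup.mem_sup_left hyK))
  obtain ⟨c, hc, hzc⟩ := CfsgLib.Coprime.exists_commutator_mul_centralizer hyΩ (by
    obtain ⟨i, hi⟩ := IsPGroup.iff_card.1 (CfsgLib.PLocal.isPGroup_of_isElementaryAbelian hΩe)
    rw [Nat.card_zpowers, hi]; exact Nat.Coprime.pow_right _ (Nat.coprime_two_right.2 hyo))
    (Or.inr (Group.isSolvable_of_comm fun a b => Subtype.ext (CfsgLib.PLocal.comm_of_mem hΩe.1 a.2 b.2)))
    (hZΩ hz)
  have hwW : z * c⁻¹ ∈ W :=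
    ((Subgroup.commutator_mono le_rfl (Subgroup.zpowers_le.2 hyK)).trans
      (CfsgLib.PLocal.commutator_le_of_le_trivQuot hKT)) hzc
  have hKgen : K ≤ Q ⊔ Subgroup.zpowers y := by
    have hle : Q ⊔ Subgroup.zpowers y ≤ K := sup_le hQK (Subgroup.zpowers_le.2 hyK)
    have h3 : Q.relIndex (Q ⊔ Subgroup.zpowers y) * (Q ⊔ Subgroup.zpowers y).relIndex K = 3 := by
      rw [Subgroup.relIndex_mul_relIndex _ _ _ le_sup_left hle]; exact hC.index
    rcases (Nat.Prime.eq_one_or_self_of_dvd Nat.prime_three _ ⟨_, h3.symm⟩) with e | e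
    · exact absurd (Subgroup.relIndex_eq_one.1 e (Subgroup.mem_sup_right (Subgroup.mem_zpowers y))) hyQ
    · rw [e] at h3
      exact Subgroup.relIndex_eq_one.1 (by omega)
  have hWy : ∀ u ∈ W, y * u = u * y → u = 1 := by
    intro u hu hyu
    have : u ∈ W ⊓ Subgroup.centralizer (K : Set G) := ⟨hu, Subgroup.centralizer_le hKgen (by
      rw [Subgroup.mem_centralizer_iff]
      intro g hg
      have hle : Q ⊔ Subgroup.zpowers y ≤ Subgroup.centralizer {u} := sup_le
        (fun q hq => Subgroup.mem_centralizer_singleton_iff.2 ((hQC hq).2 u hu).symm)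
        (Subgroup.zpowers_le.2 (Subgroup.mem_centralizer_singleton_iff.2 hyu))
      exact Subgroup.mem_centralizer_singleton_iff.1 (hle hg))⟩
    rw [hC.inf_centralizer_w] at this
    exact Subgroup.mem_bot.1 this
  have hyc : y * c = c * y := hc.2 y (Subgroup.mem_zpowers y)
  have hac : a0 * c = c * a0 := by
    have h1 : ⁅c, a0⁆ ∈ W := (hJT (hin A hA ha0)).2 c hc.1
    have hyc' : y⁻¹ * c = c * y⁻¹ := (Commute.inv_left (show Commute y c from hyc)).eq
    have h2 : y * (a0 * c⁻¹ * a0⁻¹) = a0 * c⁻¹ * a0⁻¹ * y := by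
      have e : y = a0 * y⁻¹ * a0⁻¹ := by
        have := congrArg (·⁻¹) hinv
        simpa [mul_assoc] using this.symm
      have hyc'' : y⁻¹ * c⁻¹ = c⁻¹ * y⁻¹ := (Commute.inv_inv (show Commute y c from hyc)).eq
      calc y * (a0 * c⁻¹ * a0⁻¹) = a0 * y⁻¹ * a0⁻¹ * (a0 * c⁻¹ * a0⁻¹) := by rw [← e]
        _ = a0 * (y⁻¹ * c⁻¹) * a0⁻¹ := by group
        _ = a0 * c⁻¹ * a0⁻¹ * (a0 * y⁻¹ * a0⁻¹) := by rw [hyc'']; group
        _ = _ := by rw [← e]
    have h3 : y * ⁅c, a0⁆ = ⁅c, a0⁆ * y := by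
      rw [commutatorElement_def, show c * a0 * c⁻¹ * a0⁻¹ = c * (a0 * c⁻¹ * a0⁻¹) by group,
        ← mul_assoc, hyc, mul_assoc, h2, ← mul_assoc]
    exact (commutatorElement_eq_one_iff_mul_comm.1 (hWy _ h1 h3)).symm
  have haz : a0 * z = z * a0 := Subgroup.mem_centralizer_iff.1 (hZCJ hz) a0 (hin A hA ha0)
  have hwa : a0 * (z * c⁻¹) = z * c⁻¹ * a0 :=
    ((show Commute a0 z from haz).mul_right (show Commute a0 c from hac).inv_right).eq
  have hwZ : z * c⁻¹ ∈ Z₀ ⊓ W := by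
    refine ⟨?_, hwW⟩
    rcases hfix a0 (hA.1 ha0) ha0C _ hwW hwa with e | e <;> rw [e]
    · exact one_mem _
    · exact hw0Z
  have hcZ : c ∈ Z₀ := by
    rw [show c = (z * c⁻¹)⁻¹ * z by group]
    exact mul_mem (inv_mem hwZ.1) hz
  set H := L ⊓ Subgroup.centralizer {c} with hH
  have hJH : J ≤ H := le_inf le_sup_right fun j hj =>
    Subgroup.mem_centralizer_singleton_iff.2 (Subgroup.mem_centralizer_iff.1 (hZCJ hcZ) j hj)
  have hyH : y ∈ H := ⟨Subgroup.mem_sup_left hyK, Subgroup.mem_centralizer_singleton_iff.2 hyc⟩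
  have hKH : K ≤ H := by
    conv_lhs => rw [← hC.comm]
    rw [Subgroup.commutator_le]
    intro g hg j hj
    obtain ⟨u, hu, q, hq, rfl⟩ := (CfsgLib.Coprime.mem_sup_iff_of_le_normalizer
      ((Subgroup.zpowers_le.2 hyK).trans (CfsgLib.LocalEven.le_normalizer_pCoreOf 2 K))).1
        (show g ∈ Subgroup.zpowers y ⊔ Q from sup_comm Q _ ▸ hKgen hg)
    have hqJ : q * j * q⁻¹ ∈ J := (Subgroup.mem_normalizer_iff.1 ((hJS ▸
      (Subgroup.le_normalizer.trans (CfsgLib.Transfer.normalizer_le_normalizer_thompsonSubgroupOf S)) :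
        S ≤ Subgroup.normalizer (J : Set G)) (Subgroup.mem_sup_right hq)) j).1 hj
    have huH : u ∈ H := Subgroup.zpowers_le.2 hyH hu
    rw [commutatorElement_def, show u * q * j * (u * q)⁻¹ * j⁻¹ = u * (q * j * q⁻¹) * u⁻¹ * j⁻¹ by group]
    exact mul_mem (mul_mem (mul_mem huH (hJH hqJ)) (inv_mem huH)) (inv_mem (hJH hj))
  have hcL : c ∈ Z₀ ⊓ (L ⊓ Subgroup.centralizer ((K : Set G) ⊔ (J : Set G))) :=
    ⟨hcZ, Subgroup.mem_sup_right (hZJ hcZ), fun g hg =>
      Subgroup.mem_centralizer_singleton_iff.1 (hg.elim (fun h => hKH h) (fun h => hJH h)).2⟩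
  have hz' : z = c * (z * c⁻¹) := by
    have hcw : Commute c (z * c⁻¹) := CfsgLib.PLocal.comm_of_mem
      (CfsgLib.LocalEven.JComp.isElementaryAbelian_omegaCenterOf J).1 hcZ hwZ.1
    rw [hcw.eq, inv_mul_cancel_right]
  rw [hz']
  exact Subgroup.mul_mem_sup hcL hwZ

end Cfsg.Agent.S2946
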