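import Cfsg.Statements.S2947
import Cfsg.Agent.Lib.Involutions.StrongEmb
import Cfsg.Agent.Lib.PGroups.Basic

set_option autoImplicit false
open Cfsg

namespace Cfsg.Agent.S2947

/-- Let G be a finite group of characteristic 2 type in which every 2-local subgroup is solvable and the centralizer of Ω₁(Z(S)) lies in N_G(S) for every Sylow 2-subgroup S; suppose O₂(G) = 1, fix a Sylow 2-subgroup S and a 2-local subgroup M containing N_G(J(S)) (J the Thompson subgroup generated by the elementary abelian 2-subgroups of largest order). Then M is strongly embedded in G (a proper subgroup of even order whose intersection with each conjugate by an element outside M has odd order) if and only if no nontrivial 2-subgroup of M lies in a 2-local subgroup of G not contained in M. -/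
theorem result {G : Type*} [Group G] [Finite G] (hL : Cfsg.IsCharacteristicTwoType G) (hN : ∀ N : Subgroup G, Cfsg.IsTwoLocal N → Group.IsSolvable ↥N)
    (hZ : ∀ S : Sylow 2 G, Subgroup.centralizer (Cfsg.omegaCenterOf (S : Subgroup G) : Set G) ≤ Subgroup.normalizer ((S : Subgroup G) : Set G)) (hO : Cfsg.pCore 2 G = ⊥) (S : Sylow 2 G) (M : Subgroup G) (hM : Cfsg.IsTwoLocal M)
    (hMJ : Subgroup.normalizer (Cfsg.thompsonSubgroupOf 2 (S : Subgroup G) : Set G) ≤ M) :
    Cfsg.IsStronglyEmbedded M ↔ Cfsg.straddlingTwoSubgroups M = ∅ := by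
  obtain ⟨Q, hQ, hQ1, hMQ⟩ := hM
  have heven : Even (Nat.card M) := by
    rw [hMQ]
    obtain ⟨n, hn⟩ := IsPGroup.iff_card.mp hQ
    have hn0 : n ≠ 0 := fun h => hQ1 (Subgroup.card_eq_one.mp (by rw [hn, h, pow_zero]))
    exact even_iff_two_dvd.2 ((dvd_pow_self 2 hn0).trans
      (hn ▸ Subgroup.card_dvd_of_le Subgroup.le_normalizer))
  constructor
  · intro hSE
    rw [Set.eq_empty_iff_forall_notMem]
    rintro T ⟨hT, hT1, hTM, L, ⟨R, hR, hR1, rfl⟩, hTL, hnle⟩
    apply hnle
    have hN : ∀ X : Subgroup G, IsPGroup 2 X → X ≠ ⊥ → X ≤ M →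
        Subgroup.normalizer (X : Set G) ≤ M := by
      intro X hX hX1 hXM
      refine CfsgLib.Involutions.SE.normalizer_le hSE hXM ?_
      obtain ⟨n, hn⟩ := IsPGroup.iff_card.mp hX
      have hn0 : n ≠ 0 := fun h => hX1 (Subgroup.card_eq_one.mp (by rw [hn, h, pow_zero]))
      exact even_iff_two_dvd.2 (hn ▸ dvd_pow_self 2 hn0)
    have hTR : IsPGroup 2 ↥(T ⊔ R) := hT.to_sup_of_normal_right' hR hTL
    refine hN R hR hR1 ?_
    by_contra hnot
    have h1 : (T ⊔ R) ⊓ M < T ⊔ R :=
      inf_lt_left.2 fun h => hnot (le_sup_right.trans h)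
    set D := (T ⊔ R) ⊓ M with hD
    have hlt : D.subgroupOf (T ⊔ R) < ⊤ :=
      lt_top_iff_ne_top.2 fun h => h1.not_ge (Subgroup.subgroupOf_eq_top.1 h)
    have h2 := CfsgLib.PGroups.lt_normalizer hTR hlt
    obtain ⟨x, hx, hxD⟩ := SetLike.exists_of_lt h2
    have hD1 : D ≠ ⊥ := fun h =>
      hT1 (bot_unique (h ▸ (le_inf le_sup_left hTM : T ≤ D)))
    rw [← Subgroup.subgroupOf_normalizer_eq inf_le_left] at hx
    exact hxD ⟨x.2, hN D (hTR.to_le inf_le_left) hD1 inf_le_right hx⟩
  · intro he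
    have hN : ∀ X : Subgroup G, IsPGroup 2 X → X ≠ ⊥ → X ≤ M →
        Subgroup.normalizer (X : Set G) ≤ M := by
      intro X hX hX1 hXM
      by_contra hnot
      exact Set.eq_empty_iff_forall_notMem.1 he X
        ⟨hX, hX1, hXM, _, ⟨X, hX, hX1, rfl⟩, Subgroup.le_normalizer, hnot⟩
    refine ⟨?_, heven, fun g hg => ?_⟩
    · intro htop
      have hn : Q.Normal := Subgroup.normalizer_eq_top_iff.1 (hMQ ▸ htop)
      exact hQ1 (bot_unique (hO ▸ le_sSup (s := {H : Subgroup G | H.Normal ∧ IsPGroup 2 H}) ⟨hn, hQ⟩))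
    · rw [CfsgLib.Involutions.odd_card_iff]
      intro t ht ht2
      haveI : Fact (Nat.Prime 2) := ⟨Nat.prime_two⟩
      refine CfsgLib.Involutions.not_le_inf_conj_of_normalizer_le (p := 2) M (fun D => D ≠ ⊥)
        (fun D E h hD hE => hD (bot_unique (hE ▸ h))) (fun D h1 h2 h3 => hN D h2 h3 h1) hg
        (Subgroup.zpowers t) (IsPGroup.of_card (n := 1) (by rw [Nat.card_zpowers, ht2, pow_one]))
        (Subgroup.zpowers_le.2 ht) ?_
      rw [Ne, Subgroup.zpowers_eq_bot]
      rintro rfl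
      simp at ht2

end Cfsg.Agent.S2947
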