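import Cfsg.Statements.S1279
import Cfsg.Agent.Lib.Components.Signalizer
import Cfsg.Agent.Lib.PLocal.Constrained
-- import your own Cfsg.Agent.* helpers here

set_option autoImplicit false
open Cfsg

namespace Cfsg.Agent.S1279

/-- Let A be a noncyclic elementary abelian p-subgroup of the finite group G such that C_G(a) is solvable for every non-identity a ∈ A. Then a ↦ O_{p'}(C_G(a)) is a solvable A-signalizer functor on G. -/
theorem result {G : Type*} [Group G] [Finite G] (p : ℕ) [Fact p.Prime] (A : Subgroup G) (hA : Cfsg.IsElementaryAbelian p A) (hA2 : p ^ 2 ≤ Nat.card ↥A) (hsolv : ∀ a ∈ A, a ≠ 1 → Group.IsSolvable ↥(Subgroup.centralizer ({a} : Set G))) : Cfsg.IsSolvableSignalizerFunctor p A (fun a => Cfsg.centralizerPPrimeCore p a) := by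
  have hCC : ∀ a ∈ A, A ≤ Subgroup.centralizer ({a} : Set G) := fun a ha b hb =>
    Subgroup.mem_centralizer_singleton_iff.mpr (CfsgLib.Signalizer.elemAb_comm hA hb ha)
  refine ⟨⟨fun a ha ha1 => Subgroup.map_subtype_le _, fun a ha ha1 => ?_, fun a ha ha1 => ?_,
    fun a ha ha1 b hb hb1 => ?_⟩, fun a ha ha1 => ?_⟩
  · exact (Fact.out : p.Prime).coprime_iff_not_dvd.mp
      (CfsgLib.Base.coprime_card_map_pPrimeCore _).symm
  · exact CfsgLib.Signalizer.conj_invariant_iff.mpr
      ((hCC a ha).trans (CfsgLib.Base.le_normalizer_map_pPrimeCore _))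
  · set C := Subgroup.centralizer ({b} : Set G) with hC
    haveI := hsolv b hb hb1
    set a' : ↥C := ⟨a, hCC b hb ha⟩ with ha'
    set P := Subgroup.zpowers a'
    have hP : IsPGroup p ↥P := by
      have h1 : orderOf a' ∣ p ^ 1 := by
        rw [pow_one, orderOf_dvd_iff_pow_eq_one]
        exact Subtype.ext (by simpa using hA.2 a ha)
      obtain ⟨k, -, hk⟩ := (Nat.dvd_prime_pow Fact.out).mp h1
      exact IsPGroup.of_card (n := k) (by rw [Nat.card_zpowers, hk])
    have hc : Cfsg.IsPConstrained p ↥C := CfsgLib.PLocal.isPConstrained_of_isPSolvable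
      (CfsgLib.PLocal.isPSolvable_of_isSolvable)
    set X := Cfsg.centralizerPPrimeCore p a ⊓ C with hX
    have hXC : X.subgroupOf C ≤ Subgroup.centralizer ({a'} : Set ↥C) := fun x hx =>
      Subgroup.mem_centralizer_singleton_iff.mpr (Subtype.ext
        (Subgroup.mem_centralizer_singleton_iff.mp (Subgroup.map_subtype_le _ hx.1)))
    have h1 : X.subgroupOf C ≤ (Cfsg.pPrimeCore p ↥(Subgroup.centralizer (P : Set ↥C))).map
        (Subgroup.centralizer (P : Set ↥C)).subtype := by
      rw [CfsgLib.Signalizer.centralizer_singleton_eq]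
      refine CfsgLib.Base.le_map_pPrimeCore hXC ?_ ?_
      · intro g hg
        refine Subgroup.le_normalizer_comap C.subtype ?_
        have hga : (g : G) ∈ Subgroup.centralizer ({a} : Set G) :=
          Subgroup.mem_centralizer_singleton_iff.mpr
            (congrArg Subtype.val (Subgroup.mem_centralizer_singleton_iff.mp hg))
        exact Subgroup.inf_normalizer_le_normalizer_inf
          ⟨CfsgLib.Base.le_normalizer_map_pPrimeCore _ hga, Subgroup.le_normalizer g.2⟩
      · rw [CfsgLib.Base.card_subgroupOf inf_le_right]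
        exact (CfsgLib.Base.coprime_card_map_pPrimeCore (Subgroup.centralizer ({a} : Set G))).coprime_dvd_left
          (Subgroup.card_dvd_of_le inf_le_left)
    have h2 : X.subgroupOf C ≤ Cfsg.pPrimeCore p ↥C :=
      h1.trans ((CfsgLib.Base.map_pPrimeCore_le_of_normal_subgroupOf
        (Subgroup.centralizer_le_normalizer _) inferInstance).trans
          ((CfsgLib.PLocal.map_pPrimeCore_normalizer hc hP).le.trans inf_le_left))
    have h3 := Subgroup.map_mono (f := C.subtype) h2
    rw [Subgroup.map_subgroupOf_eq_of_le (inf_le_right : X ≤ C)] at h3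
    exact h3
  · haveI := hsolv a ha ha1
    exact Group.isSolvable_of_isSolvable_injective
      (Subgroup.inclusion_injective (Subgroup.map_subtype_le _ :
        Cfsg.centralizerPPrimeCore p a ≤ Subgroup.centralizer ({a} : Set G)))

end Cfsg.Agent.S1279
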