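import Cfsg.Statements.S3755
import Mathlib
import Cfsg.Agent.Lib.PLocal.HyperplaneWitness
import Cfsg.Agent.Lib.Geometry.D4Shape
import Cfsg.Agent.Lib.LocalEven.S4Section
import Cfsg.Agent.Lib.Base.Cores

namespace Cfsg.Agent.S3755

universe u

variable {X : Type u} [Group X] [Finite X]

theorem pow_val_add {d : X} (hd : d ^ 3 = 1) (i j : ZMod 3) :
    d ^ (i + j).val = d ^ i.val * d ^ j.val := by
  rw [ZMod.val_add, ← pow_add, ← pow_eq_pow_mod _ hd]

theorem involves_s3 {a d : X} {M : Subgroup X} (haM : a ∈ M) (hdM : d ∈ M) (ha : a * a = 1) (ha1 : a ≠ 1)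
    (hd : d ^ 3 = 1) (hd1 : d ≠ 1) (hinv : a * d * a⁻¹ = d⁻¹) :
    Cfsg.Involves (Equiv.Perm (Fin 3)) M := by
  let f : ZMod 3 → X := fun i => d ^ i.val
  have hf : ∀ i j, f (i + j) = f i * f j := pow_val_add hd
  have hf0 : f 0 = 1 := by simp [f]
  have hfn : ∀ i, f (-i) = (f i)⁻¹ := fun i => by
    rw [eq_inv_iff_mul_eq_one, ← hf, neg_add_cancel, hf0]
  have hfs : ∀ i j, f (i - j) = f i * (f j)⁻¹ := fun i j => by rw [sub_eq_add_neg, hf, hfn]
  have hfc : ∀ i j, f i * f j = f j * f i := fun i j => by rw [← hf, ← hf, add_comm]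
  have hainv : a⁻¹ = a := inv_eq_of_mul_eq_one_right ha
  have hswap : ∀ i, f i * a = a * (f i)⁻¹ := fun i => by
    have h1 : a * f i * a⁻¹ = (f i)⁻¹ := by
      show a * d ^ i.val * a⁻¹ = (d ^ i.val)⁻¹
      rw [← conj_pow, hinv, inv_pow]
    rw [hainv] at h1
    rw [← h1, ← mul_assoc, ← mul_assoc, ha, one_mul]
  let g : DihedralGroup 3 →* M :=
    MonoidHom.mk' (fun x => match x with
      | .r i => ⟨f i, M.pow_mem hdM _⟩
      | .sr i => ⟨a * f i, M.mul_mem haM (M.pow_mem hdM _)⟩) (fun x y => by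
      cases x with
      | r i => cases y with
        | r j => exact Subtype.ext (hf i j)
        | sr j =>
          refine Subtype.ext ?_
          show a * f (j - i) = f i * (a * f j)
          rw [← mul_assoc, hswap, mul_assoc, hfs, ← hfn, hfc]
      | sr i => cases y with
        | r j =>
          refine Subtype.ext ?_
          show a * f (i + j) = a * f i * f j
          rw [hf, mul_assoc]
        | sr j =>
          refine Subtype.ext ?_
          show f (j - i) = a * f i * (a * f j)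
          rw [mul_assoc a, ← mul_assoc (f i), hswap, ← mul_assoc, ← mul_assoc, ha, one_mul, ← hfn,
            ← hf, neg_add_eq_sub])
  have hinj : Function.Injective g := by
    rw [injective_iff_map_eq_one]
    have hord : orderOf d = 3 := orderOf_eq_prime hd hd1
    intro x hx
    cases x with
    | r i =>
      have h1 : d ^ i.val = 1 := congrArg Subtype.val hx
      have h2 : i.val = 0 := by
        rcases Nat.eq_zero_or_pos i.val with h | h
        · exact h
        · have h3 := Nat.le_of_dvd h (orderOf_dvd_of_pow_eq_one h1)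
          have h4 := ZMod.val_lt i
          omega
      rw [(ZMod.val_eq_zero i).1 h2]; rfl
    | sr i =>
      exfalso
      have h1 : a * d ^ i.val = 1 := congrArg Subtype.val hx
      have h2 : a = (d ^ i.val)⁻¹ := eq_inv_of_mul_eq_one_left h1
      have h3 : orderOf a ∣ 3 := orderOf_dvd_of_pow_eq_one (by
        rw [h2, inv_pow, ← pow_mul, mul_comm, pow_mul, hd, one_pow, inv_one])
      have h4 : orderOf a = 2 := orderOf_eq_prime (by rw [pow_two, ha]) ha1
      rw [h4] at h3
      omega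
  obtain ⟨e⟩ := CfsgLib.Geometry.perm_three_equiv
  let e2 : (g.range : Subgroup M) ≃* DihedralGroup 3 := (MonoidHom.ofInjective hinj).symm
  exact CfsgLib.LocalEven.involves_of_surjective (e.symm.toMonoidHom.comp e2.toMonoidHom)
    (e.symm.surjective.comp e2.surjective)

theorem card_sq_le (M V : Subgroup X) (hV : Cfsg.IsElementaryAbelian 2 V)
    (hMV : M ≤ Subgroup.normalizer (V : Set X)) (hfaith : M ⊓ Subgroup.centralizer (V : Set X) = ⊥)
    (hcon : Subgroup.centralizer (Cfsg.pPrimeCore 2 ↥M : Set ↥M) ≤ Cfsg.pPrimeCore 2 ↥M)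
    (hno : ¬ Cfsg.Involves (Equiv.Perm (Fin 3)) ↥M) :
    ∀ (n : ℕ) (A : Subgroup X), Nat.card A ≤ n → A ≤ M → Cfsg.IsElementaryAbelian 2 A →
      Nat.card A ^ 2 ≤ (V ⊓ Subgroup.centralizer (A : Set X)).relIndex V := by
  classical
  intro n
  induction n with
  | zero => intro A h; exact absurd h (by have := Nat.card_pos (α := A); omega)
  | succ n ih =>
  intro A hn hAM hA
  by_cases hA1 : A = ⊥
  · subst hA1
    rw [Subgroup.card_bot, one_pow]
    exact Nat.one_le_iff_ne_zero.2 Subgroup.index_ne_zero_of_finite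
  haveI : Fact (Nat.Prime 2) := ⟨Nat.prime_two⟩
  haveI := hA.1
  haveI := hV.1
  set K := (Cfsg.pPrimeCore 2 ↥M).map M.subtype with hK
  have hKM : K ≤ M := Subgroup.map_subtype_le _
  have hKodd : (Nat.card K).Coprime 2 := by
    rw [hK, CfsgLib.Base.card_map_subtype]; exact CfsgLib.Base.pPrimeCore_coprime 2 ↥M
  obtain ⟨k, hk⟩ : ∃ k, Nat.card A = 2 ^ k := IsPGroup.iff_card.1
    fun x => ⟨1, Subtype.ext (by simpa using hA.2 _ x.2)⟩
  have hAK : A ≤ Subgroup.normalizer (K : Set X) := fun a ha =>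
    Subgroup.mem_normalizer_fintype fun x hx => by
      obtain ⟨y, hy, rfl⟩ := hx
      exact ⟨(⟨a, hAM ha⟩ : M) * y * (⟨a, hAM ha⟩ : M)⁻¹,
        (inferInstance : (Cfsg.pPrimeCore 2 ↥M).Normal).conj_mem _ hy _, rfl⟩
  have hnot : ¬ A ≤ Subgroup.centralizer (K : Set X) := by
    intro h
    apply hA1
    refine Subgroup.eq_bot_of_card_eq _ (Nat.eq_one_of_dvd_coprimes
      ((hk ▸ Nat.Coprime.pow_left k hKodd.symm) : (Nat.card A).Coprime (Nat.card K)) dvd_rfl
      (Subgroup.card_dvd_of_le fun a ha => ?_))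
    refine ⟨⟨a, hAM ha⟩, hcon (Subgroup.mem_centralizer_iff.2 fun y hy => Subtype.ext ?_), rfl⟩
    exact Subgroup.mem_centralizer_iff.1 (h ha) _ ⟨y, hy, rfl⟩
  obtain ⟨B, a, c, hB, ha, haB, hBa, hcard, hc, hne⟩ :=
    CfsgLib.PLocal.exists_hyperplane_witness hA.2 hAK (hk ▸ Nat.Coprime.pow_left k hKodd.symm) hnot
  have ha2 : a * a = 1 := by have := hA.2 a ha; rwa [pow_two] at this
  have hainv : a⁻¹ = a := inv_eq_of_mul_eq_one_right ha2
  have haM := hAM ha
  -- an element of odd prime order inverted by `a` and centralizing `B`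
  set d := c * a * c⁻¹ * a⁻¹ with hd
  have haC : a ∈ Subgroup.centralizer (B : Set X) := Subgroup.mem_centralizer_iff.2 fun b hb =>
    congrArg Subtype.val (mul_comm' (⟨b, hB hb⟩ : A) ⟨a, ha⟩)
  have hdK : d ∈ K := by
    rw [hd, mul_assoc c a, mul_assoc c]
    exact K.mul_mem hc.1 ((Subgroup.mem_normalizer_iff.1 (hAK ha) _).1 (K.inv_mem hc.1))
  have hdB : d ∈ Subgroup.centralizer (B : Set X) :=
    mul_mem (mul_mem (mul_mem hc.2 haC) (inv_mem hc.2)) (inv_mem haC)
  have hd1 : d ≠ 1 := fun h => hne (by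
    rw [hd, mul_inv_eq_one, mul_inv_eq_iff_eq_mul] at h; exact h.symm)
  have hainvd : a * d * a⁻¹ = d⁻¹ := by
    rw [hd]
    simp only [mul_inv_rev, inv_inv, hainv, mul_assoc]
    simp only [← mul_assoc]
    simp [mul_assoc, ha2]
  have hordd : (orderOf d).Coprime 2 :=
    hKodd.coprime_dvd_left ((Subgroup.orderOf_mk d hdK) ▸ orderOf_dvd_natCard (⟨d, hdK⟩ : K))
  obtain ⟨r, hr, hrd⟩ := Nat.exists_prime_and_dvd (fun h => hd1 (orderOf_eq_one_iff.1 h))
  haveI := Fact.mk hr
  set e := d ^ (orderOf d / r) with he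
  have heo : orderOf e = r := orderOf_pow_orderOf_div (orderOf_pos d).ne' hrd
  have heK : e ∈ K := pow_mem hdK _
  have heB : e ∈ Subgroup.centralizer (B : Set X) := pow_mem hdB _
  have heinv : a * e * a⁻¹ = e⁻¹ := by rw [he, ← conj_pow, hainvd, inv_pow]
  have he1 : e ≠ 1 := fun h => hr.ne_one (by rw [← heo, h, orderOf_one])
  have hr2 : r ≠ 2 := fun h => absurd
    (Nat.eq_one_of_dvd_coprimes hordd (h ▸ hrd : 2 ∣ orderOf d) dvd_rfl) (by norm_num)
  have hr3 : r ≠ 3 := fun h => hno (involves_s3 haM (hKM heK) ha2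
    (fun h1 => haB (h1 ▸ B.one_mem)) (by rw [← h, ← heo, pow_orderOf_eq_one]) he1 heinv)
  have hr5 : 5 ≤ r := by
    have := hr.two_le
    rcases Nat.lt_or_ge r 5 with h | h
    · interval_cases r
      · omega
      · omega
      · exact absurd hr (by norm_num)
    · exact h
  -- `e` moves a point of `C_V(B)`
  set W := V ⊓ Subgroup.centralizer (B : Set X) with hW
  have heV : e ∈ Subgroup.normalizer (V : Set X) := hMV (hKM heK)
  have haV : a ∈ Subgroup.normalizer (V : Set X) := hMV haM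
  have hV2 : IsPGroup 2 V := fun x => ⟨1, Subtype.ext (by simpa using hV.2 _ x.2)⟩
  obtain ⟨w, hw, hwe⟩ : ∃ w ∈ W, e * w ≠ w * e := by
    set Z := Subgroup.zpowers e with hZ
    have hZV : Z ≤ Subgroup.normalizer (V : Set X) := Subgroup.zpowers_le.2 heV
    set U := ⁅V, Z⁆ with hU
    have hUV : U ≤ V := CfsgLib.Coprime.commutator_le_of_le_normalizer hZV
    obtain ⟨j, hj⟩ := IsPGroup.iff_card.1 hV2
    have hcop : (Nat.card Z).Coprime (Nat.card V) := by
      rw [Nat.card_zpowers, heo, hj]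
      exact ((Nat.coprime_primes hr Nat.prime_two).2 hr2).pow_right j
    have hU1 : U ≠ ⊥ := by
      intro h
      rw [hU, Subgroup.commutator_eq_bot_iff_le_centralizer] at h
      have h1 : e ∈ M ⊓ Subgroup.centralizer (V : Set X) :=
        ⟨hKM heK, (Subgroup.le_centralizer_iff.1 h) (Subgroup.mem_zpowers e)⟩
      rw [hfaith] at h1
      exact he1 h1
    -- `B` acts on `U`
    have hBU : B ≤ Subgroup.normalizer (U : Set X) := by
      intro b hb
      rw [Subgroup.mem_normalizer_iff_map_conj_eq, hU, Subgroup.map_commutator,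
        Subgroup.mem_normalizer_iff_map_conj_eq.1 (hMV (hAM (hB hb))),
        Subgroup.mem_normalizer_iff_map_conj_eq.1 ?_]
      refine Subgroup.centralizer_le_normalizer _ ?_
      rw [hZ, Subgroup.mem_centralizer_iff]
      rintro _ ⟨i, rfl⟩
      exact ((show Commute e b from (Subgroup.mem_centralizer_iff.1 heB b hb).symm).zpow_left i).eq
    letI : MulAction B U :=
      { smul := fun b u => ⟨(b : X) * u * (b : X)⁻¹, (Subgroup.mem_normalizer_iff.1 (hBU b.2) u).1 u.2⟩
        one_smul := fun u => Subtype.ext (by show (1 : X) * u * (1 : X)⁻¹ = u; simp)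
        mul_smul := fun b b' u => Subtype.ext (by
          show ((b : X) * b') * u * ((b : X) * b')⁻¹ = (b : X) * ((b' : X) * u * (b' : X)⁻¹) * (b : X)⁻¹
          group) }
    have hB2 : IsPGroup 2 B := fun x => ⟨1, Subtype.ext (by simpa using hA.2 _ (hB x.2))⟩
    have hd2 : 2 ∣ Nat.card U := by
      obtain ⟨i, hi⟩ := IsPGroup.iff_card.1 (hV2.to_le hUV)
      rw [hi]
      exact dvd_pow_self 2 fun h0 => hU1 (Subgroup.eq_bot_of_card_eq _ (by rw [hi, h0, pow_zero]))
    obtain ⟨u, hu, hu1⟩ := hB2.exists_fixed_point_of_prime_dvd_card_of_fixed_point (α := U) hd2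
      (a := (1 : U)) (fun b => Subtype.ext (by show (b : X) * 1 * (b : X)⁻¹ = 1; simp))
    refine ⟨u, ⟨hUV u.2, Subgroup.mem_centralizer_iff.2 fun b hb => ?_⟩, fun hcomm => hu1 ?_⟩
    · have := congrArg Subtype.val (hu ⟨b, hb⟩)
      exact mul_inv_eq_iff_eq_mul.1 this
    · have h1 : (u : X) ∈ (V ⊓ Subgroup.centralizer (Z : Set X)) ⊓ U := by
        refine ⟨⟨hUV u.2, Subgroup.mem_centralizer_iff.2 ?_⟩, u.2⟩
        rintro _ ⟨i, rfl⟩
        exact ((show Commute e (u : X) from hcomm).zpow_left i).eq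
      have h2 : (u : X) ∈ (⊥ : Subgroup X) :=
        (CfsgLib.Coprime.centralizer_inf_commutator_eq_bot hZV hcop).le h1
      exact Subtype.ext (Subgroup.mem_bot.1 h2).symm
  -- the index of `C_V(A)` in `C_V(B)`
  have hWV : W ≤ V := inf_le_left
  set W0 := V ⊓ Subgroup.centralizer (A : Set X) with hW0
  have hW0W : W0 ≤ W := inf_le_inf_left _ (Subgroup.centralizer_le hB)
  have hW0mem : ∀ x ∈ W, a * x = x * a → x ∈ W0 := by
    intro x hx hcomm
    refine ⟨hWV hx, Subgroup.mem_centralizer_iff.2 fun y hy => ?_⟩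
    have hle : A ≤ Subgroup.centralizer {x} := by
      rw [← hBa]
      exact sup_le (fun b hb => Subgroup.mem_centralizer_singleton_iff.2
        (Subgroup.mem_centralizer_iff.1 hx.2 b hb))
        (Subgroup.zpowers_le.2 (Subgroup.mem_centralizer_singleton_iff.2 hcomm))
    exact Subgroup.mem_centralizer_singleton_iff.1 (hle hy)
  have heW : ∀ x ∈ W, e * x * e⁻¹ ∈ W := by
    intro x hx
    exact ⟨(Subgroup.mem_normalizer_iff.1 heV x).1 hx.1,
      (Subgroup.centralizer (B : Set X)).mul_mem ((Subgroup.centralizer (B : Set X)).mul_mem heB hx.2)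
        ((Subgroup.centralizer (B : Set X)).inv_mem heB)⟩
  have hW4 : 4 ≤ W0.relIndex W := by
    obtain ⟨j, hj⟩ : ∃ j, W0.relIndex W = 2 ^ j := by
      obtain ⟨j, hj⟩ := IsPGroup.iff_card.1 (hV2.to_le hWV)
      obtain ⟨i, -, hi⟩ := (Nat.dvd_prime_pow Nat.prime_two).1 (hj ▸ Subgroup.relIndex_dvd_card W0 W)
      exact ⟨i, hi⟩
    by_contra hlt
    push Not at hlt
    have h2 : W0.relIndex W ≤ 2 := by
      rcases j with _ | _ | j
      · omega
      · omega
      · have : 4 ≤ 2 ^ (j + 2) := by rw [pow_add]; have := Nat.one_le_two_pow (n := j); omega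
        omega
    -- the intersection of the fixed points of `a` and of `e a e⁻¹`
    set W1 := W0.map (MulAut.conj e).toMonoidHom with hW1
    have hW1W : W1 ≤ W := by
      rintro _ ⟨x, hx, rfl⟩
      exact heW x (hW0W hx)
    set I := W0 ⊓ W1 with hI
    have hWmap : W.map (MulAut.conj e).toMonoidHom = W := by
      refine Subgroup.eq_of_le_of_card_ge ?_ ?_
      · rintro _ ⟨x, hx, rfl⟩
        exact heW x hx
      · rw [Subgroup.card_map_of_injective (K := W) (MulAut.conj e).injective]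
    have hI4 : I.relIndex W ≤ 4 := by
      have h3 : W1.relIndex W = W0.relIndex W := by
        conv_lhs => rw [hW1, ← hWmap]
        rw [Subgroup.relIndex_map_map_of_injective _ _ (MulAut.conj e).injective]
      calc I.relIndex W ≤ W0.relIndex W * W1.relIndex W := Subgroup.relIndex_inf_le
        _ ≤ 2 * 2 := Nat.mul_le_mul h2 (h3 ▸ h2)
    have hIfix : ∀ x ∈ I, e * x = x * e := by
      rintro x ⟨hx0, y, hy, hyx⟩
      have hxa : Commute a x := Subgroup.mem_centralizer_iff.1 hx0.2 a ha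
      have hya : Commute a y := Subgroup.mem_centralizer_iff.1 hy.2 a ha
      have hyx' : e * y * e⁻¹ = x := hyx
      have h1 : Commute (e * a * e⁻¹) x := by
        rw [← hyx', Commute, SemiconjBy]
        calc e * a * e⁻¹ * (e * y * e⁻¹) = e * (a * y) * e⁻¹ := by group
          _ = e * (y * a) * e⁻¹ := by rw [hya.eq]
          _ = _ := by group
      have h2 : e * a * e⁻¹ * a = e ^ 2 := by
        have h5 : a * e⁻¹ * a = e := by
          have := congrArg (·⁻¹) heinv
          simpa [hainv, mul_assoc] using this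
        rw [mul_assoc (e * a), mul_assoc e, ← mul_assoc a, h5, pow_two]
      have h3 : Commute (e ^ 2) x := h2 ▸ h1.mul_left hxa
      obtain ⟨m, hm⟩ : ∃ m, e = (e ^ 2) ^ m :=
        ⟨(r + 1) / 2, by
          rw [← pow_mul, Nat.mul_div_cancel' (by obtain ⟨s, hs⟩ := hr.odd_of_ne_two hr2; omega),
            pow_succ, ← heo, pow_orderOf_eq_one, one_mul]⟩
      rw [hm]
      exact (h3.pow_left m).eq
    have hin : ∀ (i : ℕ) (x : X), x ∈ W → e ^ i * x * (e ^ i)⁻¹ ∈ W := by
      intro i
      induction i with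
      | zero => intro x hx; simpa using hx
      | succ i ih =>
        intro x hx
        rw [pow_succ', show e * e ^ i * x * (e * e ^ i)⁻¹ = e * (e ^ i * x * (e ^ i)⁻¹) * e⁻¹ by group]
        exact heW _ (ih x hx)
    let F : Fin r → ↥W ⧸ I.subgroupOf W := fun i =>
      QuotientGroup.mk (⟨e ^ (i : ℕ) * w * (e ^ (i : ℕ))⁻¹, hin i w hw⟩ : W)
    obtain ⟨i, i', hne', heq⟩ : ∃ i i' : Fin r, i ≠ i' ∧ F i = F i' := by
      letI := Fintype.ofFinite (↥W ⧸ I.subgroupOf W)
      refine Fintype.exists_ne_map_eq_of_card_lt F ?_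
      rw [Fintype.card_fin, ← Nat.card_eq_fintype_card, ← Subgroup.index_eq_card]
      exact lt_of_le_of_lt hI4 (by omega)
    wlog hlt' : (i : ℕ) < (i' : ℕ) generalizing i i'
    · exact this i' i hne'.symm heq.symm
        (lt_of_le_of_ne (not_lt.1 hlt') fun h => hne' (Fin.ext h).symm)
    set m := (i' : ℕ) - i with hm
    set x := e ^ (i : ℕ) * w * (e ^ (i : ℕ))⁻¹ with hx
    set f := e ^ m with hf
    have hx' : e ^ (i' : ℕ) * w * (e ^ (i' : ℕ))⁻¹ = f * x * f⁻¹ := by
      rw [hx, hf, show (i' : ℕ) = m + i by omega, pow_add]; group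
    have hz : x⁻¹ * (f * x * f⁻¹) ∈ I := by
      have := QuotientGroup.eq.1 heq
      rw [Subgroup.mem_subgroupOf] at this
      simpa only [Subgroup.coe_mul, Subgroup.coe_inv, hx', hx] using this
    set z := x⁻¹ * (f * x * f⁻¹) with hzdef
    have hfz : Commute f z := (show Commute e z from hIfix z hz).pow_left m
    have hstep : ∀ l : ℕ, f ^ l * x * (f ^ l)⁻¹ = x * z ^ l := by
      intro l
      induction l with
      | zero => simp
      | succ l ih =>
        calc f ^ (l + 1) * x * (f ^ (l + 1))⁻¹ = f * (f ^ l * x * (f ^ l)⁻¹) * f⁻¹ := by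
              rw [pow_succ']; group
          _ = (f * x * f⁻¹) * (f * z ^ l * f⁻¹) := by rw [ih]; group
          _ = x * z * z ^ l := by
            rw [(hfz.pow_right l).eq, mul_inv_cancel_right, hzdef, mul_inv_cancel_left]
          _ = x * z ^ (l + 1) := by rw [pow_succ', mul_assoc]
    have hzr : z ^ r = 1 := by
      have := hstep r
      rw [hf, ← pow_mul, mul_comm m, pow_mul, ← heo, pow_orderOf_eq_one, one_pow, one_mul, inv_one,
        mul_one, left_eq_mul, heo] at this
      exact this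
    have hz2 : z ^ 2 = 1 := hV.2 z (hz.1.1)
    have hz1 : z = 1 := orderOf_eq_one_iff.1 (Nat.eq_one_of_dvd_coprimes
      ((Nat.coprime_primes hr Nat.prime_two).2 hr2) (orderOf_dvd_of_pow_eq_one hzr)
      (orderOf_dvd_of_pow_eq_one hz2))
    have hfx : Commute f x := by
      have := hstep 1
      rw [pow_one, pow_one, hz1, mul_one, mul_inv_eq_iff_eq_mul] at this
      exact this
    have hfw : Commute f w := by
      have h1 : f * x = x * f := hfx.eq
      have h2 : Commute f (e ^ (i : ℕ)) := ((Commute.refl e).pow_left m).pow_right i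
      have h3 : w = (e ^ (i : ℕ))⁻¹ * x * e ^ (i : ℕ) := by rw [hx]; group
      rw [h3]
      exact (h2.inv_right.mul_right hfx).mul_right h2
    obtain ⟨q, hq⟩ := Nat.exists_mul_mod_eq_one_of_coprime
      ((hr.coprime_iff_not_dvd.2 fun h => by
        have := Nat.le_of_dvd (by omega) h
        have := i'.isLt
        omega).symm : m.Coprime r) hr.one_lt
    refine hwe ?_
    have h4 : f ^ q = e := by
      rw [hf, ← pow_mul, pow_eq_pow_mod (n := r) _ (by rw [← heo, pow_orderOf_eq_one]), hq.2, pow_one]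
    exact h4 ▸ (hfw.pow_left q).eq
  -- conclusion
  have hBlt : Nat.card B ≤ n := by
    have := Nat.card_pos (α := B)
    omega
  have hBab : IsMulCommutative B := ⟨⟨fun x y => Subtype.ext
    (show (x : X) * y = y * x from
      congrArg Subtype.val (mul_comm' (⟨(x : X), hB x.2⟩ : A) ⟨(y : X), hB y.2⟩))⟩⟩
  have hind := ih B hBlt (hB.trans hAM) ⟨hBab, fun b hb => hA.2 b (hB hb)⟩
  rw [← hW] at hind
  rw [hcard, mul_pow, ← Subgroup.relIndex_mul_relIndex W0 W V hW0W hWV]
  calc Nat.card B ^ 2 * 2 ^ 2 ≤ W.relIndex V * W0.relIndex W := Nat.mul_le_mul hind hW4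
    _ = W0.relIndex W * W.relIndex V := mul_comm _ _

end Cfsg.Agent.S3755

set_option autoImplicit false
open Cfsg

namespace Cfsg.Agent.S3755

/-- Let M and V be subgroups of a finite group with V an elementary abelian 2-group, M normalizing V and acting faithfully on it (M ∩ C(V) = 1), and C_M(O_{2'}(M)) ≤ O_{2'}(M). If some elementary abelian 2-subgroup A of M satisfies |V : C_V(A)| < |A|², then M has a section isomorphic to the symmetric group of degree 3. -/
theorem result {X : Type*} [Group X] [Finite X] (M V : Subgroup X) (hV : Cfsg.IsElementaryAbelian 2 V) (hMV : M ≤ Subgroup.normalizer (V : Set X)) (hfaith : M ⊓ Subgroup.centralizer (V : Set X) = ⊥) (hcon : Subgroup.centralizer (Cfsg.pPrimeCore 2 ↥M : Set ↥M) ≤ Cfsg.pPrimeCore 2 ↥M) (A : Subgroup X) (hAM : A ≤ M) (hA : Cfsg.IsElementaryAbelian 2 A) (hsmall : (V ⊓ Subgroup.centralizer (A : Set X)).relIndex V < Nat.card A ^ 2) : Cfsg.Involves (Equiv.Perm (Fin 3)) ↥M := by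
  by_contra hno
  exact absurd hsmall (not_lt.2 (card_sq_le M V hV hMV hfaith hcon hno (Nat.card A) A le_rfl hAM hA))

end Cfsg.Agent.S3755
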