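import Cfsg.Statements.S0206
import Cfsg.Agent.Lib.Involutions.Dihedral

set_option autoImplicit false
open Cfsg

namespace Cfsg.Agent.S0206

/-- Two distinct involutions x, y of a finite group generate a subgroup isomorphic to the dihedral group of order 2·|xy|. -/
theorem result {G : Type*} [Group G] [Finite G] (x y : G) (hx : orderOf x = 2) (hy : orderOf y = 2) (hxy : x ≠ y) : Nonempty (↥(Subgroup.closure ({x, y} : Set G)) ≃* DihedralGroup (orderOf (x * y))) := by
  open CfsgLib.Involutions in
  classical
  have hn : x * y ≠ 1 := fun h => hxy (by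
    rw [mul_eq_one_iff_eq_inv, invol_inv hy] at h; exact h)
  let f := dihedralHom hx hy
  have hf : Function.Injective f := by
    rw [injective_iff_map_eq_one]
    rintro (i | i) h
    · replace h : (x * y) ^ (i.cast : ℤ) = 1 := h
      rw [← orderOf_dvd_iff_zpow_eq_one, ← ZMod.intCast_zmod_eq_zero_iff_dvd] at h
      rw [ZMod.intCast_zmod_cast] at h
      subst h; rfl
    · replace h : x * (x * y) ^ (i.cast : ℤ) = 1 := h
      exact absurd h (invol_ne_one (orderOf_refl hx hy hn _))
  have hr : f.range = Subgroup.closure ({x, y} : Set G) := by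
    apply le_antisymm
    · rintro _ ⟨(i | i), rfl⟩
      · exact (mem_closure_pair_iff hx hy).2 ⟨_, Or.inl rfl⟩
      · exact (mem_closure_pair_iff hx hy).2 ⟨_, Or.inr rfl⟩
    · intro d hd
      obtain ⟨k, rfl | rfl⟩ := (mem_closure_pair_iff hx hy).1 hd
      · refine ⟨DihedralGroup.r (k : ZMod _), ?_⟩
        show (x * y) ^ (((k : ZMod (orderOf (x * y))).cast : ℤ)) = _
        rw [← orderOf_dvd_sub_iff_zpow_eq_zpow, ← ZMod.intCast_eq_intCast_iff_dvd_sub]
        simp
      · refine ⟨DihedralGroup.sr (k : ZMod _), ?_⟩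
        show x * (x * y) ^ (((k : ZMod (orderOf (x * y))).cast : ℤ)) = _
        congr 1
        rw [← orderOf_dvd_sub_iff_zpow_eq_zpow, ← ZMod.intCast_eq_intCast_iff_dvd_sub]
        simp
  exact ⟨((MonoidHom.ofInjective hf).trans (MulEquiv.subgroupCongr hr)).symm⟩

end Cfsg.Agent.S0206
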