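import Cfsg.Statements.S2034
import Cfsg.Agent.Lib.KnownB.Mult.M11

set_option autoImplicit false
open Cfsg

namespace Cfsg.Agent.S2034

/-- The Schur multiplier of the Mathieu group M₁₁ (the stabiliser of a dodecad and one of its points in the automorphism group of the length-24 binary code) is trivial; here the Schur multiplier is described through stem extensions, as in the definitions: surjective homomorphisms onto the group from a finite group, whose kernel is central in that finite group and contained in that finite group's commutator subgroup. -/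
theorem result : Cfsg.HasCyclicSchurMultiplier ↥Cfsg.Spor.M11 1 := by
  rw [← CfsgLib.MathieuOut.stabG_M11]
  have hN : Nat.card (CfsgLib.Spor.stabG CfsgLib.MathieuOut.dodMasks [0]) = 7920 := by
    rw [CfsgLib.MathieuOut.stabG_M11]
    exact CfsgLib.MathieuOut.natCard_M11
  refine CfsgLib.KnownB.Mult.hasTrivialMultiplier_of_primeCond fun p _ => ?_
  by_cases h2 : p = 2
  · subst h2
    exact CfsgLib.KnownB.Mult.Cert.primeCond CfsgLib.KnownB.Mult.M11.cert2_valid (m := 495)
      (hN.trans (by norm_num [CfsgLib.KnownB.Mult.M11.cert2])) (by norm_num)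
  by_cases h3 : p = 3
  · subst h3
    exact CfsgLib.KnownB.Mult.Cert.primeCond CfsgLib.KnownB.Mult.M11.cert3_valid (m := 880)
      (hN.trans (by norm_num [CfsgLib.KnownB.Mult.M11.cert3])) (by norm_num)
  refine CfsgLib.KnownB.Mult.primeCond_of_cyclic default
    (CfsgLib.KnownB.Mult.isCyclic_sylow (p := p) ?_ default)
  intro hd
  rw [hN] at hd
  have hp : p.Prime := Fact.out
  exact CfsgLib.KnownB.Mult.not_sq_dvd_of_check 4 2 55 8 (by decide +kernel) (by norm_num)
    (by norm_num) hp h2 h3 ((show (7920 : ℕ) = 2 ^ 4 * 3 ^ 2 * 55 from by norm_num) ▸ hd)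

end Cfsg.Agent.S2034
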