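import Cfsg.Statements.S1019
import Cfsg.Agent.Lib.Chars.Irr

set_option autoImplicit false
open Cfsg

namespace Cfsg.Agent.S1019

/-- Let H be a subgroup of a finite group G and x an element of H. In the action of G on the left cosets of H, the number of cosets fixed by x, multiplied by the size of the conjugacy class of x, equals the index of H multiplied by the number of conjugates of x that lie in H. -/
theorem result {G : Type*} [Group G] [Finite G] (H : Subgroup G) (x : G) (hx : x ∈ H) : Nat.card (MulAction.fixedBy (G ⧸ H) x) * Nat.card {g : G // IsConj x g} = H.index * Nat.card {g : G // IsConj x g ∧ g ∈ H} := by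
  classical
  have hfix : ∀ g : G, (g : G ⧸ H) ∈ MulAction.fixedBy (G ⧸ H) x ↔ g⁻¹ * x * g ∈ H := by
    intro g
    rw [MulAction.mem_fixedBy]
    show ((x * g : G) : G ⧸ H) = g ↔ _
    rw [eq_comm, QuotientGroup.eq, mul_assoc]
  -- count the elements `g` with `g⁻¹ x g ∈ H` in two ways
  have e1 : {g : G // g⁻¹ * x * g ∈ H} ≃ ↥H × ↥(MulAction.fixedBy (G ⧸ H) x) := by
    refine (Equiv.subtypeEquivRight fun g => (hfix g).symm).trans ?_
    exact (Equiv.refl _).trans (QuotientGroup.preimageMkEquivSubgroupProdSet H (MulAction.fixedBy (G ⧸ H) x))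
  set C := Subgroup.centralizer ({x} : Set G) with hC
  let f : {g : G // g⁻¹ * x * g ∈ H} → {g : G // IsConj x g ∧ g ∈ H} := fun g =>
    ⟨g.1⁻¹ * x * g.1, isConj_iff.mpr ⟨g.1⁻¹, by group⟩, g.2⟩
  have hfib : ∀ y, Nat.card {g // f g = y} = Nat.card C := by
    intro y
    obtain ⟨c, hc⟩ := isConj_iff.mp y.2.1
    have hu : ∀ u : C, ((u : G) * c⁻¹)⁻¹ * x * ((u : G) * c⁻¹) = y.1 := by
      intro u
      have hu := Subgroup.mem_centralizer_singleton_iff.mp u.2
      rw [← hc]
      calc _ = c * ((u : G)⁻¹ * (x * u)) * c⁻¹ := by group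
        _ = c * ((u : G)⁻¹ * (u * x)) * c⁻¹ := by rw [hu]
        _ = _ := by group
    have hg : ∀ g : {g // f g = y}, g.1.1 * c ∈ C := by
      intro g
      rw [hC, Subgroup.mem_centralizer_singleton_iff]
      have hg : g.1.1⁻¹ * x * g.1.1 = c * x * c⁻¹ := by
        rw [hc]; exact congrArg Subtype.val g.2
      calc g.1.1 * c * x = g.1.1 * (c * x * c⁻¹) * c := by group
        _ = g.1.1 * (g.1.1⁻¹ * x * g.1.1) * c := by rw [hg]
        _ = x * (g.1.1 * c) := by group
    let e : {g // f g = y} ≃ C :=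
      { toFun := fun g => ⟨g.1.1 * c, hg g⟩
        invFun := fun u => ⟨⟨(u : G) * c⁻¹, by rw [hu]; exact y.2.2⟩, Subtype.ext (hu u)⟩
        left_inv := fun g => Subtype.ext (Subtype.ext (mul_inv_cancel_right g.1.1 c))
        right_inv := fun u => Subtype.ext (inv_mul_cancel_right (u : G) c) }
    exact Nat.card_congr e
  have : Fintype {g : G // IsConj x g ∧ g ∈ H} := Fintype.ofFinite _
  have h2 : Nat.card {g : G // g⁻¹ * x * g ∈ H} =
      Nat.card {g : G // IsConj x g ∧ g ∈ H} * Nat.card C := by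
    rw [← Nat.card_congr (Equiv.sigmaFiberEquiv f), Nat.card_sigma]
    rw [Finset.sum_congr rfl (fun y _ => hfib y), Finset.sum_const, Finset.card_univ,
      smul_eq_mul, Nat.card_eq_fintype_card (α := {g : G // IsConj x g ∧ g ∈ H})]
  rw [Nat.card_congr e1, Nat.card_prod] at h2
  have hcl : Nat.card {g : G // IsConj x g} * Nat.card C = Nat.card G :=
    CfsgLib.Chars.card_isConj_mul_card_centralizer x
  refine Nat.eq_of_mul_eq_mul_right (Nat.card_pos (α := C)) ?_
  rw [mul_assoc, hcl, mul_assoc, ← h2, ← Subgroup.index_mul_card H]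
  ring

end Cfsg.Agent.S1019
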