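import Cfsg.Statements.S0989
import Cfsg.Agent.Lib.Small.Order168

set_option autoImplicit false
open Cfsg

namespace Cfsg.Agent.S0989

/-- In the symmetric group on p or p + 1 letters, p a prime, the normalizer of a Sylow p-subgroup has order p * (p - 1). -/
theorem result {α : Type*} [Fintype α] [DecidableEq α] (p : ℕ) [Fact p.Prime] (hα : Fintype.card α = p ∨ Fintype.card α = p + 1) (P : Sylow p (Equiv.Perm α)) : Nat.card ↥(Subgroup.normalizer ((P : Subgroup (Equiv.Perm α)) : Set (Equiv.Perm α))) = p * (p - 1) := by
  classical
  open Equiv in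
  have hp := (Fact.out : p.Prime)
  have h2p := hp.two_le
  have hn : Fintype.card α < 2 * p := by omega
  have hfac : (Fintype.card α - p).factorial = 1 := by
    rcases hα with h | h <;> simp [h]
  have hpn : p ∣ (Fintype.card α).factorial := Nat.dvd_factorial hp.pos (by omega)
  have hcardG : Nat.card (Perm α) = (Fintype.card α).factorial := by
    rw [Nat.card_perm, Nat.card_eq_fintype_card]
  have hcyc : ∀ σ : Perm α, orderOf σ = p ↔ σ.cycleType = {p} := by
    intro σ
    constructor
    · intro h
      obtain ⟨k, hk⟩ := Perm.cycleType_prime_order (h.symm ▸ hp)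
      have hs := Perm.sum_cycleType_le (σ := σ)
      rw [hk, h, Multiset.sum_replicate, smul_eq_mul] at hs
      have : k = 0 := by
        by_contra hk0
        have : 2 * p ≤ (k + 1) * p := Nat.mul_le_mul_right p (by omega)
        omega
      rw [hk, this, h]
      rfl
    · intro h
      rw [← Perm.lcm_cycleType, h, Multiset.lcm_singleton]
      simp
  have hcount : Nat.card {σ : Perm α // orderOf σ = p} * p = (Fintype.card α).factorial := by
    rw [Nat.card_eq_fintype_card, Fintype.card_subtype]
    have e := Perm.card_of_cycleType (α := α) {p}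
    simp only [Multiset.sum_singleton, Multiset.mem_singleton, forall_eq, Multiset.prod_singleton,
      Multiset.toFinset_singleton, Finset.prod_singleton, Multiset.count_singleton_self,
      Nat.factorial_one, mul_one, hfac, one_mul] at e
    rw [if_pos ⟨by omega, h2p⟩] at e
    rw [Finset.filter_congr (fun σ _ => hcyc σ), e, Nat.div_mul_cancel hpn]
  have hP : ∀ Q : Sylow p (Perm α), Nat.card (Q : Subgroup (Perm α)) = p := by
    intro Q
    rw [Q.card_eq_multiplicity, hcardG]
    have h1 : (Fintype.card α).factorial.factorization p = 1 := by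
      rw [Nat.factorization_def _ hp, padicValNat_factorial (b := 2)]
      · simp only [show Finset.Ico 1 2 = {1} from rfl, Finset.sum_singleton, pow_one]
        exact Nat.div_eq_of_lt_le (by omega) (by omega)
      · exact Nat.log_lt_of_lt_pow (by omega) (lt_of_lt_of_le hn (by rw [sq]; exact Nat.mul_le_mul_right p h2p))
    rw [h1, pow_one]
  rw [CfsgLib.Small.card_orderOf_eq_prime hP] at hcount
  have hN := CfsgLib.Small.card_normalizer_mul P
  rw [hcardG] at hN
  have hpos : 0 < Nat.card (Sylow p (Perm α)) := Nat.card_pos
  refine Nat.eq_of_mul_eq_mul_right hpos ?_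
  rw [hN, ← hcount]
  ring

end Cfsg.Agent.S0989
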