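import Cfsg.Statements.S0990
import Mathlib

set_option autoImplicit false
open Cfsg

namespace Cfsg.Agent.S0990

/-- Let p be an odd prime and P a Sylow p-subgroup of the symmetric group on a finite set with at least two elements. Then P is contained in the alternating group, and twice the order of the normalizer of P inside the alternating group equals the order of the normalizer of P in the symmetric group. -/
theorem result {α : Type*} [Fintype α] [DecidableEq α] (hα : 2 ≤ Fintype.card α) (p : ℕ) [Fact p.Prime] (hp : p ≠ 2) (P : Sylow p (Equiv.Perm α)) : (P : Subgroup (Equiv.Perm α)) ≤ alternatingGroup α ∧ 2 * Nat.card ↥(Subgroup.normalizer ((((P : Subgroup (Equiv.Perm α)).subgroupOf (alternatingGroup α) : Subgroup ↥(alternatingGroup α)) : Set ↥(alternatingGroup α)))) = Nat.card ↥(Subgroup.normalizer ((P : Subgroup (Equiv.Perm α)) : Set (Equiv.Perm α))) := by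
  open Subgroup in
  have : Nontrivial α := Fintype.one_lt_card_iff_nontrivial.mp hα
  have hle : (P : Subgroup (Equiv.Perm α)) ≤ alternatingGroup α := by
    intro σ hσ
    obtain ⟨k, hk⟩ := IsPGroup.iff_orderOf.mp P.isPGroup' ⟨σ, hσ⟩
    rw [← orderOf_coe] at hk
    rw [Equiv.Perm.mem_alternatingGroup]
    rcases Int.units_eq_one_or (Equiv.Perm.sign σ) with h | h
    · exact h
    · exfalso
      have hd : orderOf (Equiv.Perm.sign σ) ∣ p ^ k := hk ▸ orderOf_map_dvd Equiv.Perm.sign σ
      rw [h, show orderOf (-1 : ℤˣ) = 2 from orderOf_eq_prime (by decide) (by decide)] at hd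
      exact hp ((Nat.prime_dvd_prime_iff_eq Nat.prime_two (Fact.out : p.Prime)).mp
        (Nat.prime_two.dvd_of_dvd_pow hd)).symm
  refine ⟨hle, ?_⟩
  rw [← subgroupOf_normalizer_eq hle]
  set N := Subgroup.normalizer ((P : Subgroup (Equiv.Perm α)) : Set (Equiv.Perm α))
  set A := alternatingGroup α
  have hsup : N ⊔ A = ⊤ := Sylow.normalizer_sup_eq_top' P hle
  have h2 : A.relIndex N = 2 := by
    rw [← relIndex_sup_right (H := N) (K := A), hsup, relIndex_top_right,
      alternatingGroup.index_eq_two]
  have hc := relIndex_mul_relIndex ⊥ (A ⊓ N) N bot_le inf_le_right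
  rw [relIndex_bot_left, relIndex_bot_left, inf_relIndex_right, h2] at hc
  have e : Nat.card (N.subgroupOf A) = Nat.card (A ⊓ N : Subgroup (Equiv.Perm α)) := by
    rw [← inf_subgroupOf_left, Nat.card_congr (subgroupOfEquivOfLe inf_le_left).toEquiv]
  rw [e, ← hc, mul_comm]

end Cfsg.Agent.S0990
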