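import Cfsg.Statements.S0977
import Cfsg.Agent.Lib.Small.SmallOrder
import Cfsg.Agent.Lib.Small.InvertedColumn

set_option autoImplicit false
set_option linter.unusedSectionVars false
open Cfsg CfsgLib CfsgLib.Chars CfsgLib.CharApps Subgroup

namespace Cfsg.Agent.S0977

open CfsgLib.Small (signedCands)

theorem cands_five : ∀ s ∈ signedCands 4320 5, s ∈ [-4, 6, -9, 16, -24, 36, -54] := by
  decide +kernel

/-- The possible pairs of signed degree and signed value at the inverting involution. -/
def pairList : List (ℤ × ℤ) :=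
  [(-4, 0), (6, -2), (6, 2), (-9, -1), (16, -4), (16, 0), (16, 4), (-24, -4), (-24, 0), (-24, 4),
    (36, -8), (36, -4), (36, 0), (36, 4), (36, 8), (-54, -10), (-54, -6), (-54, -2), (-54, 2),
    (-54, 6), (-54, 10)]

theorem quad_check : ∀ a ∈ pairList, ∀ b ∈ pairList, ∀ c ∈ pairList,
    (-1 - a.1 - b.1 - c.1, -1 - a.2 - b.2 - c.2) ∈ pairList →
      let d := -1 - a.1 - b.1 - c.1
      let r := -1 - a.2 - b.2 - c.2
      let P := a.1 * b.1 * c.1 * d
      let X := 864 * (P + a.2 ^ 2 * (b.1 * c.1 * d) + b.2 ^ 2 * (a.1 * c.1 * d) +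
        c.2 ^ 2 * (a.1 * b.1 * d) + r ^ 2 * (a.1 * b.1 * c.1))
      (X = 768 * P ∨ X = 1056 * P ∨ X = 1920 * P ∨ X = 2496 * P ∨
        (X = 576 * P ∧ 25 ≤ 1 + a.2 ^ 2 + b.2 ^ 2 + c.2 ^ 2 + r ^ 2)) := by
  decide +kernel

theorem mem_pairList {s r : ℤ} (hs : s ∈ [(-4 : ℤ), 6, -9, 16, -24, 36, -54])
    (h4 : (4 : ℤ) ∣ s - r) (hr : 5 * r.natAbs ≤ (s + 4).natAbs) : (s, r) ∈ pairList := by
  simp only [List.mem_cons, List.not_mem_nil, or_false] at hs
  have h1 : -10 ≤ r ∧ r ≤ 10 := by omega
  obtain ⟨h1, h2⟩ := h1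
  rcases hs with rfl | rfl | rfl | rfl | rfl | rfl | rfl <;> interval_cases r <;>
    first | omega | decide

theorem no_quad {a b c d : ℤ × ℤ} (ha : a ∈ pairList) (hb : b ∈ pairList) (hc : c ∈ pairList)
    (hd : d ∈ pairList) (hs : a.1 + b.1 + c.1 + d.1 = -1) (hr : a.2 + b.2 + c.2 + d.2 = -1)
    (n : ℕ) (hn : 1 + a.2 ^ 2 + b.2 ^ 2 + c.2 ^ 2 + d.2 ^ 2 ≤ n)
    (heq : (n : ℤ) ^ 2 * (a.1 * b.1 * c.1 * d.1) =
      864 * (a.1 * b.1 * c.1 * d.1 + a.2 ^ 2 * (b.1 * c.1 * d.1) + b.2 ^ 2 * (a.1 * c.1 * d.1) +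
        c.2 ^ 2 * (a.1 * b.1 * d.1) + d.2 ^ 2 * (a.1 * b.1 * c.1))) : False := by
  have hd' : d = (-1 - a.1 - b.1 - c.1, -1 - a.2 - b.2 - c.2) :=
    Prod.ext (by show d.1 = _; omega) (by show d.2 = _; omega)
  have hne : ∀ x ∈ pairList, x.1 ≠ 0 := by decide
  have hP : a.1 * b.1 * c.1 * d.1 ≠ 0 :=
    mul_ne_zero (mul_ne_zero (mul_ne_zero (hne a ha) (hne b hb)) (hne c hc)) (hne d hd)
  subst hd'
  have h := quad_check a ha b hb c hc hd
  simp only at h hn heq hP
  rw [← heq] at h
  have hlt : ∀ k : ℤ, (n : ℤ) ^ 2 * (a.1 * b.1 * c.1 * (-1 - a.1 - b.1 - c.1)) =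
      k * (a.1 * b.1 * c.1 * (-1 - a.1 - b.1 - c.1)) → k ≤ 2496 → n < 50 ∧ (n : ℤ) ^ 2 = k := by
    intro k hk hle
    have h1 := mul_right_cancel₀ hP hk
    refine ⟨?_, h1⟩
    by_contra hn'
    push Not at hn'
    have : (50 : ℤ) ≤ n := by exact_mod_cast hn'
    nlinarith
  rcases h with h | h | h | h | ⟨h, h'⟩
  all_goals
    obtain ⟨h1, h2⟩ := hlt _ h (by norm_num)
    interval_cases n <;> first | omega | (norm_num at h2)

variable {G : Type*} [Group G] [Finite G] [IsSimpleGroup G]

theorem card_centralizer_odd (hG : ¬ IsMulCommutative G) (h : Nat.card G = 4320)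
    [Fact (Nat.Prime 5)] (P : Sylow 5 G) (hP : Nat.card (P : Subgroup G) = 5) {e : ℕ}
    (he : (centralizer ((P : Subgroup G) : Set G)).relIndex
      (normalizer ((P : Subgroup G) : Set G)) = e) (he24 : e = 2 ∨ e = 4) :
    Odd (Nat.card (centralizer ((P : Subgroup G) : Set G))) := by
  classical
  by_contra hev
  rw [Nat.not_odd_iff_even] at hev
  have := Fact.mk Nat.prime_two
  obtain ⟨y, hy⟩ := exists_prime_orderOf_dvd_card' (G := centralizer ((P : Subgroup G) : Set G)) 2
    (even_iff_two_dvd.mp hev)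
  have hyo : orderOf (y : G) = 2 := by rw [Subgroup.orderOf_coe, hy]
  have hy2 : (y : G) * y = 1 := by rw [← sq, ← hyo, pow_orderOf_eq_one]
  have hy1 : (y : G) ≠ 1 := fun h1 => by rw [h1, orderOf_one] at hyo; omega
  haveI := Fintype.ofFinite G
  haveI := irrFintype G
  obtain ⟨M, hM⟩ := exists_pModular 5
  haveI := hM.2.1.isPrime
  obtain ⟨X, Y, hB, hdisj, hX, hY, εX, ε, hXp, hε, hYdeg, hYeq, hrel⟩ :=
    Agent.S4441.result 5 M hM (by norm_num) P hP e he
  choose v hv using fun χ : IrrCharacter G => exists_int_apply_involution hy2 χ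
  have hsq : ¬ 5 ^ 2 ∣ Nat.card G := by rw [h]; norm_num
  have hcg : 5 ∣ Nat.card (centralizer ({(y : G)} : Set G)) := by
    have h1 : (P : Subgroup G) ≤ centralizer ({(y : G)} : Set G) := fun x hx => by
      rw [mem_centralizer_singleton_iff]
      exact mem_centralizer_iff.mp y.2 x hx
    have h2 := card_dvd_of_le h1
    rwa [hP] at h2
  have hprin1 : charDegree ((principal G : IrrCharacter G) : G → ℂ) = 1 :=
    (deg_eq_one_iff (principal G)).mp (principal_apply _)
  have hsqd : ∀ χ : IrrCharacter G, charDegree (χ : G → ℂ) ^ 2 < 4320 := by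
    intro χ
    rw [← h, ← sum_degree_sq_nat (G := G)]
    by_cases hne : χ = principal G
    · subst hne
      rw [hprin1, one_pow, sum_degree_sq_nat]
      exact Finite.one_lt_card
    · rw [← Finset.add_sum_erase _ _ (Finset.mem_univ χ)]
      have hmem : principal G ∈ (Finset.univ.erase χ : Finset (IrrCharacter G)) :=
        Finset.mem_erase.mpr ⟨Ne.symm hne, Finset.mem_univ _⟩
      have := Finset.single_le_sum (f := fun ψ : IrrCharacter G => charDegree (ψ : G → ℂ) ^ 2)
        (fun _ _ => Nat.zero_le _) hmem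
      rw [hprin1, one_pow] at this
      omega
  -- a signed degree congruent to one of a non-principal character of the block
  have heven : ∀ (χ : IrrCharacter G) (a : ℤ), χ ∈ X ∪ Y → χ ≠ principal G → (a = 1 ∨ a = -1) →
      a * charDegree (χ : G → ℂ) ≡ 1 [ZMOD 5] →
      a * charDegree (χ : G → ℂ) ∈ [(16 : ℤ), 36, -24, -54] := by
    intro χ a hmem hne ha hmod
    have habs : ∀ m : ℤ, (a * m).natAbs = m.natAbs := fun m => by
      rcases ha with rfl | rfl <;> simp
    have hd1 : 1 < charDegree (χ : G → ℂ) := by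
      have h0 := CfsgLib.Blocks.charDegree_pos χ
      by_contra h'
      exact hne (Small.eq_of_degree_one hG (by omega) hprin1)
    have hs := cands_five _ (Small.mem_signedCands hmod
      (by rw [habs, Int.natAbs_natCast, ← h]; exact Small.charDegree_dvd_card χ)
      (by rw [habs, Int.natAbs_natCast]; exact hd1)
      (by rw [habs, Int.natAbs_natCast]; exact hsqd χ))
    have hcong : ((5 : ℕ) : ℤ) ∣ v χ - charDegree (χ : G → ℂ) :=
      Small.int_congr_of_principalBlock hM hsq (hB ▸ hmem) hcg (hv χ)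
    have hfour := Small.four_dvd_degree_sub (Small.commutator_eq_top hG) χ hy2 (hv χ)
    have hlt := Small.natAbs_lt_degree hG hne hy1 (hv χ)
    simp only [List.mem_cons, List.not_mem_nil, or_false] at hs ⊢
    rcases ha with rfl | rfl <;> omega
  set F : Finset (IrrCharacter G) := (Set.toFinite X).toFinset with hF
  have hFc : F.card = e := by rw [hF, ← Nat.card_eq_card_finite_toFinset, hX]
  obtain ⟨⟨θ, hθ⟩⟩ : Nonempty Y := by
    refine (Finite.card_pos_iff).mp ?_
    rw [hY]
    rcases he24 with rfl | rfl <;> norm_num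
  have hrel1 : ε * charDegree (θ : G → ℂ) = ∑ χ ∈ F, εX χ * charDegree (χ : G → ℂ) := by
    have h1 := hrel θ hθ 1 (by rw [orderOf_one]; norm_num)
    rw [finsum_mem_eq_finite_toFinset_sum _ (Set.toFinite X), ← hF] at h1
    simp only [deg_eq] at h1
    exact_mod_cast h1
  have hFmod : ∀ χ ∈ F, εX χ * charDegree (χ : G → ℂ) ≡ 1 [ZMOD 5] := by
    intro χ hχ
    obtain ⟨hc, hd, -⟩ := hXp χ ((Set.Finite.mem_toFinset _).mp hχ)
    have h1 := hd.mul_left (εX χ)
    rcases hc with h' | h' <;> simp [h'] at h1 ⊢ <;> exact h1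
  have hFe : ∀ χ ∈ F, χ ≠ principal G →
      εX χ * charDegree (χ : G → ℂ) ∈ [(16 : ℤ), 36, -24, -54] := fun χ hχ hne =>
    heven χ _ (Or.inl ((Set.Finite.mem_toFinset _).mp hχ)) hne
      (hXp χ ((Set.Finite.mem_toFinset _).mp hχ)).1 (hFmod χ hχ)
  have hmem : principal G ∈ X ∪ Y := hB ▸ CfsgLib.Blocks.principal_mem_principalBlock M
  have hYd := hYdeg θ hθ
  rcases he24 with rfl | rfl
  · have hprin : principal G ∈ F := by
      rw [hF, Set.Finite.mem_toFinset]
      rcases hmem with h' | h'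
      · exact h'
      exfalso
      have h1 := hYdeg _ h'
      rw [hprin1] at h1
      rcases hε with rfl | rfl <;> revert h1 <;> decide
    have hεp : εX (principal G) = 1 := by
      have h1 := hFmod _ hprin
      rw [hprin1] at h1
      rcases (hXp _ ((Set.Finite.mem_toFinset _).mp hprin)).1 with h'' | h'' <;> rw [h''] at h1 ⊢
      revert h1; decide
    obtain ⟨χ, hχ⟩ := Finset.card_eq_one.mp
      (by rw [Finset.card_erase_of_mem hprin, hFc] : (F.erase (principal G)).card = 1)
    have hχm : χ ∈ F.erase (principal G) := by rw [hχ]; exact Finset.mem_singleton_self χ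
    have hs := hFe χ (Finset.mem_of_mem_erase hχm) (Finset.ne_of_mem_erase hχm)
    rw [← Finset.add_sum_erase _ _ hprin, hχ, Finset.sum_singleton, hεp, hprin1] at hrel1
    have hdvd : (1 + εX χ * charDegree (χ : G → ℂ)).natAbs ∣ 4320 := by
      rw [show (1 : ℤ) + εX χ * charDegree (χ : G → ℂ) = ε * charDegree (θ : G → ℂ) by
        push_cast at hrel1; linarith, ← h]
      rcases hε with rfl | rfl <;> simpa using Small.charDegree_dvd_card θ
    simp only [List.mem_cons, List.not_mem_nil, or_false] at hs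
    rcases hs with hs | hs | hs | hs <;> rw [hs] at hdvd <;> norm_num at hdvd
  · -- five signed degrees, one of them one and the others even
    have hmodθ : -ε * charDegree (θ : G → ℂ) ≡ 1 [ZMOD 5] := by
      have h1 := hYd.mul_left (-ε)
      rcases hε with rfl | rfl <;> norm_num at h1 ⊢ <;> unfold Int.ModEq at h1 ⊢ <;> omega
    have hpar : ∀ s : ℤ, s ∈ [(16 : ℤ), 36, -24, -54] → Even s := by decide
    have h0 : -ε * charDegree (θ : G → ℂ) + ∑ χ ∈ F, εX χ * charDegree (χ : G → ℂ) = 0 := by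
      rw [← hrel1]; ring
    rcases hmem with h' | h'
    · have hprin : principal G ∈ F := by rw [hF, Set.Finite.mem_toFinset]; exact h'
      have hne : θ ≠ principal G := fun h'' => hdisj.ne_of_mem h' hθ h''.symm
      have h1 := hpar _ (heven θ (-ε) (Or.inr hθ) hne (by rcases hε with rfl | rfl <;> simp) hmodθ)
      have h2 : Even (∑ χ ∈ F.erase (principal G), εX χ * (charDegree (χ : G → ℂ) : ℤ)) :=
        Finset.sum_induction _ Even (fun a b => Even.add) Even.zero fun χ hχ =>
          hpar _ (hFe χ (Finset.mem_of_mem_erase hχ) (Finset.ne_of_mem_erase hχ))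
      rw [← Finset.add_sum_erase _ _ hprin, hprin1] at h0
      rcases (hXp _ h').1 with h'' | h'' <;> rw [h''] at h0 <;>
        obtain ⟨a, ha⟩ := h1 <;> obtain ⟨b, hb⟩ := h2 <;> rw [ha, hb] at h0 <;> omega
    · have hθp : θ = principal G := by
        have h1 : Nat.card Y = 1 := by rw [hY]
        exact congrArg Subtype.val ((Nat.card_eq_one_iff_unique.mp h1).1.elim ⟨θ, hθ⟩ ⟨_, h'⟩)
      have h2 : Even (∑ χ ∈ F, εX χ * (charDegree (χ : G → ℂ) : ℤ)) :=
        Finset.sum_induction _ Even (fun a b => Even.add) Even.zero fun χ hχ =>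
          hpar _ (hFe χ hχ fun h'' => hdisj.ne_of_mem
            (h'' ▸ (Set.Finite.mem_toFinset _).mp hχ) h' rfl)
      rw [hθp, hprin1] at h0
      obtain ⟨b, hb⟩ := h2
      rw [hb] at h0
      rcases hε with rfl | rfl <;> omega

theorem ne_sixteen (hG : ¬ IsMulCommutative G) (h : Nat.card G = 4320) [Fact (Nat.Prime 5)]
    (P : Sylow 5 G) (hP : Nat.card (P : Subgroup G) = 5)
    (h27 : 27 ∣ Nat.card (centralizer ((P : Subgroup G) : Set G))) :
    Nat.card (Sylow 5 G) ≠ 16 := by
  classical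
  intro hn
  have : Fintype (Sylow 5 G) := Fintype.ofFinite _
  have := Fact.mk Nat.prime_three
  set C := centralizer ((P : Subgroup G) : Set G) with hC
  obtain ⟨R, hR⟩ := Sylow.exists_subgroup_card_pow_prime (G := C) 3 (n := 3) (by simpa using h27)
  set f := MulAction.toPermHom G (Sylow 5 G) with hf
  have hinj := Small.toPermHom_sylow_injective hG (p := 5) (by rw [h]; norm_num)
  have : Nontrivial (Sylow 5 G) := Finite.one_lt_card_iff_nontrivial.mp (by omega)
  obtain ⟨Q, hQ⟩ := exists_ne P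
  -- elements of order three of the centralizer fix only P
  have hthree : ∀ c : G, c ∈ C → orderOf c = 3 → f c Q ≠ Q := by
    intro c hc ho
    obtain ⟨h5, hPn⟩ := Small.support_of_centralizing P hP hc
    rw [← hf] at h5 hPn
    have ho' : (orderOf (f c)).Prime := by rw [orderOf_injective f hinj, ho]; norm_num
    obtain ⟨m, hm⟩ := Equiv.Perm.cycleType_prime_order ho'
    have hsum := (f c).sum_cycleType
    rw [hm, Multiset.sum_replicate, smul_eq_mul, orderOf_injective f hinj, ho] at hsum
    have hlt : (f c).support.card < 16 := by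
      rw [← hn, Nat.card_eq_fintype_card]
      exact Finset.card_lt_univ_of_notMem hPn
    have h15 : (f c).support.card = 15 := by omega
    intro hfix
    have hsub : (f c).support ⊆ (Finset.univ.erase P).erase Q := by
      intro x hx
      rw [Finset.mem_erase, Finset.mem_erase]
      exact ⟨fun h' => Equiv.Perm.mem_support.mp (h' ▸ hx) hfix, fun h' => hPn (h' ▸ hx),
        Finset.mem_univ _⟩
    have := Finset.card_le_card hsub
    rw [Finset.card_erase_of_mem (Finset.mem_erase.mpr ⟨hQ, Finset.mem_univ _⟩),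
      Finset.card_erase_of_mem (Finset.mem_univ _), Finset.card_univ, ← Nat.card_eq_fintype_card,
      hn] at this
    omega
  have hsemi : Function.Injective fun r : R => f (((r : C) : G)) Q := by
    intro r r' hrr
    by_contra hne
    set x := r⁻¹ * r' with hx
    have hx1 : x ≠ 1 := fun h' => hne (inv_mul_eq_one.mp h')
    have hfix : f (((x : C) : G)) Q = Q := by
      rw [hx]
      push_cast
      rw [map_mul, map_inv, Equiv.Perm.mul_apply]
      exact Equiv.Perm.inv_eq_iff_eq.mpr hrr.symm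
    obtain ⟨j, -, hj⟩ := (Nat.dvd_prime_pow Nat.prime_three).mp (hR ▸ orderOf_dvd_natCard x)
    have hj0 : j ≠ 0 := fun h' => hx1 (orderOf_eq_one_iff.mp (by rw [hj, h', pow_zero]))
    have hy : orderOf (((x : C) : G) ^ 3 ^ (j - 1)) = 3 := by
      have ho : orderOf (((x : C) : G)) = 3 ^ j := by
        rw [Subgroup.orderOf_coe, Subgroup.orderOf_coe, hj]
      rw [orderOf_pow_of_dvd (by positivity) (ho ▸ pow_dvd_pow 3 (Nat.sub_le j 1)), ho,
        Nat.pow_div (Nat.sub_le j 1) (by norm_num), show j - (j - 1) = 1 by omega, pow_one]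
    refine hthree _ (pow_mem (x : C).2 _) hy ?_
    rw [map_pow]
    exact Equiv.Perm.pow_apply_eq_self_of_apply_eq_self hfix _
  have := Nat.card_le_card_of_injective _ hsemi
  rw [hR, hn] at this
  norm_num at this

/-- No finite simple group has order 4320 = 2^5 * 3^3 * 5. -/
theorem result {G : Type*} [Group G] [Finite G] [IsSimpleGroup G] : Nat.card G ≠ 4320 := by
  classical
  intro h
  have := Fact.mk Nat.prime_five
  have hG : ¬ IsMulCommutative G := Small.not_isMulCommutative_of_card (by rw [h]; norm_num)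
  obtain ⟨P⟩ : Nonempty (Sylow 5 G) := inferInstance
  have hP : Nat.card (P : Subgroup G) = 5 := by
    simpa using Small.card_sylow_eq (p := 5) 1 864 (by omega) (by norm_num) P
  obtain ⟨e, he1, he4, hce⟩ := Small.exists_normalizer_centralizer hG P hP
  have hrel := Small.relIndex_of_card_mul P hce
  obtain ⟨k, hk⟩ := Small.dvd_card_centralizer P hP
  have hmul := Small.card_normalizer_mul P
  rw [← hce, h, hk] at hmul
  set n := Nat.card (Sylow 5 G) with hn
  have hnd : n ∈ (Nat.divisors 864).filter fun d => d % 5 = 1 := Finset.mem_filter.mpr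
    ⟨Nat.mem_divisors.mpr ⟨Small.card_sylow_dvd (p := 5) 1 864 (by omega) (by norm_num),
      by norm_num⟩, Eq.trans (card_sylow_modEq_one 5 G) (Nat.mod_eq_of_lt (by norm_num))⟩
  rw [show ((Nat.divisors 864).filter fun d => d % 5 = 1) = {1, 6, 16, 36, 96, 216} from by
    decide +kernel] at hnd
  simp only [Finset.mem_insert, Finset.mem_singleton] at hnd
  have hn1 : 1 < n := Small.one_lt_card_sylow hG (p := 5) (by rw [h]; norm_num)
  have hek : k * e * n = 864 := by nlinarith
  have he24 : e = 2 ∨ e = 4 := by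
    have := Nat.le_of_dvd (by norm_num) he4
    interval_cases e <;> first | omega | norm_num at he4
  have hodd := card_centralizer_odd hG h P hP hrel he24
  rw [hk, Nat.odd_iff] at hodd
  have h6 : n ≠ 6 := by
    intro h'
    have := Small.two_mul_card_dvd_factorial_sylow hG (p := 5) (by rw [h]; norm_num)
    rw [← hn, h', h] at this
    revert this; decide
  rcases hnd with h' | h' | h' | h' | h' | h' <;> rw [h'] at hek
  · omega
  · exact h6 h'
  · have hk27 : k = 27 := by rcases he24 with rfl | rfl <;> omega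
    exact ne_sixteen hG h P hP (by rw [hk, hk27]; norm_num) h'
  · rcases he24 with rfl | rfl <;> omega
  · rcases he24 with rfl | rfl <;> omega
  -- n = 216
  have he : e = 4 := by rcases he24 with rfl | rfl <;> omega
  subst he
  have hk1 : k = 1 := by omega
  subst hk1
  obtain ⟨g, hg⟩ := (isCyclic_of_prime_card hP).exists_generator
  set u : G := (g : G) with hu
  have huo : orderOf u = 5 := by
    rw [hu, Subgroup.orderOf_coe, orderOf_eq_card_of_forall_mem_zpowers hg, hP]
  have hu5 : u ^ 5 = 1 := by rw [← huo, pow_orderOf_eq_one]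
  have hgen : (P : Subgroup G) = zpowers u :=
    (eq_of_le_of_card_ge (zpowers_le.mpr g.2) (by rw [Nat.card_zpowers, huo, hP])).symm
  have hPC : (P : Subgroup G) ≤ centralizer ((P : Subgroup G) : Set G) := by
    have hcyc : IsCyclic (P : Subgroup G) := isCyclic_of_prime_card hP
    have := hcyc.isMulCommutative
    exact le_centralizer _
  have hCP : centralizer ((P : Subgroup G) : Set G) = (P : Subgroup G) :=
    (eq_of_le_of_card_ge hPC (by rw [hk, hP])).symm
  have hCu : centralizer ({u} : Set G) = zpowers u := by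
    rw [← hgen]
    refine le_antisymm (fun x hx => ?_) fun x hx => ?_
    · rw [← hCP, mem_centralizer_iff]
      intro y hy
      obtain ⟨i, rfl⟩ := hgen.le hy
      exact ((Commute.zpow_right (mem_centralizer_singleton_iff.mp hx : Commute x u) i).eq).symm
    · exact mem_centralizer_singleton_iff.mpr (mem_centralizer_iff.mp (hPC hx) u g.2).symm
  obtain ⟨w, hwN, hw⟩ := Small.exists_conj_eq_pow_of_full P hP hce g.2 (j := 2) (by norm_num)
    (by norm_num)
  change w * u * w⁻¹ = u ^ 2 at hw
  have hrat : ∀ j < 5, j ≠ 0 → IsConj (u ^ j) u := fun j hj hj0 => by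
    obtain ⟨x, -, hx⟩ := Small.exists_conj_eq_pow_of_full P hP hce g.2 hj hj0
    exact (isConj_iff.mpr ⟨x, hx⟩).symm
  set z := w * w with hz
  have hinv : z * u * z⁻¹ = u⁻¹ := by
    rw [hz, show w * w * u * (w * w)⁻¹ = w * (w * u * w⁻¹) * w⁻¹ by group, hw, ← conj_pow, hw,
      ← pow_mul]
    exact eq_inv_of_mul_eq_one_left (by rw [← pow_succ, hu5])
  have hzz : z * z = 1 := by
    have h4 : z * z ∈ centralizer ({u} : Set G) := by
      rw [mem_centralizer_singleton_iff]
      have h1 : z * z * u * (z * z)⁻¹ = u := by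
        rw [show z * z * u * (z * z)⁻¹ = z * (z * u * z⁻¹) * z⁻¹ by group, hinv, ← inv_inj,
          show (z * u⁻¹ * z⁻¹)⁻¹ = z * u * z⁻¹ by group, hinv]
      exact mul_inv_eq_iff_eq_mul.mp h1
    rw [hCu] at h4
    obtain ⟨i, hi⟩ := h4
    change u ^ i = z * z at hi
    have h1 : z * (z * z) * z⁻¹ = z * z := by group
    rw [← hi, ← conj_zpow, hinv, inv_zpow] at h1
    rw [← hi]
    have h2 : u ^ (2 * i) = 1 := by rw [two_mul, zpow_add]; nth_rw 1 [← h1]; simp
    rw [← orderOf_dvd_iff_zpow_eq_one, huo] at h2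
    rw [← orderOf_dvd_iff_zpow_eq_one, huo]
    push_cast at h2 ⊢
    omega
  have hz1 : z ≠ 1 := by
    intro h'
    rw [h', one_mul, inv_one, mul_one, eq_inv_iff_mul_eq_one, ← sq] at hinv
    have := orderOf_dvd_of_pow_eq_one hinv
    rw [huo] at this
    norm_num at this
  haveI := Fintype.ofFinite G
  haveI := irrFintype G
  choose v hv hv5 using fun χ : IrrCharacter G => exists_int_of_rational χ huo hrat
  choose t ht using fun χ : IrrCharacter G => exists_int_apply_involution hzz χ
  have hcf := fun χ : IrrCharacter G => isClassFunction_irr χ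
  have hprin1 : charDegree ((principal G : IrrCharacter G) : G → ℂ) = 1 :=
    (deg_eq_one_iff (principal G)).mp (principal_apply _)
  have hvp : v (principal G) = 1 := by
    have h1 := hv (principal G)
    rw [principal_apply] at h1
    exact_mod_cast h1
  have htp : t (principal G) = 1 := by
    have h1 := ht (principal G)
    rw [principal_apply] at h1
    exact_mod_cast h1
  -- column relations
  have hcol : ∑ χ, v χ ^ 2 = 5 := by
    have h1 := sum_normSq (G := G) u
    simp only [← hv, Complex.normSq_intCast, hCu, Nat.card_zpowers, huo] at h1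
    have h2 : ((∑ χ : IrrCharacter G, v χ ^ 2 : ℤ) : ℝ) = ((5 : ℤ) : ℝ) := by
      rw [Int.cast_sum]
      simp only [pow_two, Int.cast_mul]
      rw [h1]
      norm_num
    exact Int.cast_injective h2
  have hdeg : ∑ χ, v χ * charDegree (χ : G → ℂ) = 0 := by
    have h1 := sum_degree_mul (G := G) u
    rw [if_neg (fun h' => by rw [h', orderOf_one] at huo; omega)] at h1
    simp only [← hv, deg_eq] at h1
    apply Int.cast_injective (α := ℂ)
    push_cast
    rw [← h1]
    exact Finset.sum_congr rfl fun χ _ => mul_comm _ _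
  have hzcol : ∑ χ, v χ * t χ = 0 := by
    have h1 := second_orthogonality (G := G) u z
    rw [if_neg (fun h' => by
      obtain ⟨x, hx⟩ := isConj_iff.mp h'
      have := congrArg orderOf hx
      rw [← MulAut.conj_apply, MulEquiv.orderOf_eq, huo,
        orderOf_eq_prime (by rw [sq, hzz]) hz1] at this
      omega)] at h1
    simp only [← hv, ← ht, map_intCast] at h1
    exact_mod_cast h1
  have hne0 : ∀ χ : IrrCharacter G, v χ ≠ 0 → v χ = 1 ∨ v χ = -1 := by
    intro χ hχ0
    by_contra hc
    have h4 : 4 ≤ v χ ^ 2 := by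
      rcases not_or.mp hc with ⟨h1, h2⟩
      rcases (by omega : 2 ≤ v χ ∨ v χ ≤ -2) with h3 | h3 <;> nlinarith
    have hχp : χ ≠ principal G := fun h' => hc (Or.inl (h' ▸ hvp))
    have hsub : ∀ ψ, ψ ≠ χ → ψ ≠ principal G → v ψ = 0 := by
      intro ψ h1 h2
      have h3 : ∑ x ∈ ({principal G, χ, ψ} : Finset (IrrCharacter G)), v x ^ 2 ≤ ∑ x, v x ^ 2 :=
        Finset.sum_le_sum_of_subset_of_nonneg (Finset.subset_univ _) fun _ _ _ => sq_nonneg _
      rw [hcol, Finset.sum_insert (by simp [Ne.symm hχp, Ne.symm h2]),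
        Finset.sum_pair (Ne.symm h1), hvp] at h3
      nlinarith [sq_nonneg (v ψ)]
    have h5 : ∑ x, v x * (charDegree (x : G → ℂ) : ℤ) =
        ∑ x ∈ ({principal G, χ} : Finset (IrrCharacter G)), v x * (charDegree (x : G → ℂ) : ℤ) := by
      refine (Finset.sum_subset (Finset.subset_univ _) fun ψ _ hψ => ?_).symm
      simp only [Finset.mem_insert, Finset.mem_singleton, not_or] at hψ
      rw [hsub ψ hψ.2 hψ.1, zero_mul]
    rw [hdeg, Finset.sum_pair (Ne.symm hχp), hvp, hprin1] at h5
    have hd0 := CfsgLib.Blocks.charDegree_pos χ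
    have hd1 : (1 : ℤ) ≤ charDegree (χ : G → ℂ) := by exact_mod_cast hd0
    exact hc (Int.isUnit_iff.mp (isUnit_of_dvd_one ⟨-(charDegree (χ : G → ℂ) : ℤ), by push_cast at h5; linear_combination -h5⟩))
  set F := Finset.univ.filter fun χ : IrrCharacter G => v χ ≠ 0 with hF
  have hFsum : ∀ φ : IrrCharacter G → ℤ, ∑ χ, v χ * φ χ = ∑ χ ∈ F, v χ * φ χ := by
    intro φ
    refine (Finset.sum_subset (Finset.subset_univ _) fun ψ _ hψ => ?_).symm
    simp only [hF, Finset.mem_filter, Finset.mem_univ, true_and, not_not] at hψ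
    rw [hψ, zero_mul]
  have hFc : F.card = 5 := by
    have h1 : ∑ χ ∈ F, v χ ^ 2 = 5 := by
      have := hFsum v
      simp only [← sq] at this
      rw [← this, hcol]
    rw [Finset.sum_congr rfl (g := fun _ => (1 : ℤ)) fun χ hχ => by
      rcases hne0 χ (Finset.mem_filter.mp hχ).2 with h' | h' <;> simp [h'],
      Finset.sum_const, nsmul_one] at h1
    exact_mod_cast h1
  have hpF : principal G ∈ F := Finset.mem_filter.mpr ⟨Finset.mem_univ _, by rw [hvp]; norm_num⟩
  -- each other member gives a pair of the list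
  have hpair : ∀ χ ∈ F.erase (principal G),
      (v χ * (charDegree (χ : G → ℂ) : ℤ), v χ * t χ) ∈ pairList := by
    intro χ hχ
    obtain ⟨hne, hχF⟩ := Finset.mem_erase.mp hχ
    have hvc := hne0 χ (Finset.mem_filter.mp hχF).2
    have habs : ∀ m : ℤ, (v χ * m).natAbs = m.natAbs := fun m => by
      rcases hvc with h' | h' <;> simp [h']
    have hd1 : 1 < charDegree (χ : G → ℂ) := by
      have h0 := CfsgLib.Blocks.charDegree_pos χ
      by_contra h'
      exact hne (Small.eq_of_degree_one hG (by omega) hprin1)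
    have hmod : v χ * charDegree (χ : G → ℂ) ≡ 1 [ZMOD 5] := by
      have h5 := hv5 χ
      rw [Int.modEq_iff_dvd]
      rcases hvc with h' | h' <;> rw [h'] at h5 ⊢ <;> omega
    have hsqd : charDegree (χ : G → ℂ) ^ 2 < 4320 := by
      rw [← h, ← sum_degree_sq_nat (G := G), ← Finset.add_sum_erase _ _ (Finset.mem_univ χ)]
      have := Finset.single_le_sum (f := fun ψ : IrrCharacter G => charDegree (ψ : G → ℂ) ^ 2)
        (s := Finset.univ.erase χ) (fun _ _ => Nat.zero_le _)
        (Finset.mem_erase.mpr ⟨Ne.symm hne, Finset.mem_univ (principal G)⟩)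
      rw [hprin1, one_pow] at this
      omega
    have hs := cands_five _ (Small.mem_signedCands hmod
      (by rw [habs, Int.natAbs_natCast, ← h]; exact Small.charDegree_dvd_card χ)
      (by rw [habs, Int.natAbs_natCast]; exact hd1)
      (by rw [habs, Int.natAbs_natCast]; exact hsqd))
    have hfour := Small.four_dvd_degree_sub (Small.commutator_eq_top hG) χ hzz (ht χ)
    obtain ⟨a, b, ha, hb⟩ := Small.exists_dihedral_sums χ hu5 hzz hinv
    rw [← Finset.add_sum_erase _ _ (Finset.mem_range.mpr (by norm_num : 0 < 5)), pow_zero, deg_eq,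
      Finset.sum_congr rfl (g := fun _ => (v χ : ℂ)) fun j hj => by
        rw [hv, Blocks.classFun_of_isConj (hcf χ) (hrat j
          (Finset.mem_range.mp (Finset.mem_erase.mp hj).2) (Finset.mem_erase.mp hj).1)]] at ha
    have hcoset : ∀ j, (χ : G → ℂ) (u ^ j * z) = (t χ : ℂ) := by
      intro j
      have hzu : z * (u ^ (3 * j))⁻¹ = u ^ (3 * j) * z := by
        rw [← mul_inv_eq_iff_eq_mul]
        have h9 : z * u ^ (3 * j) * z⁻¹ = (u ^ (3 * j))⁻¹ := by rw [← conj_pow, hinv, inv_pow]
        simpa [mul_inv_rev, mul_assoc] using congrArg (·⁻¹) h9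
      have h8 : u ^ (3 * j) * z * (u ^ (3 * j))⁻¹ = u ^ j * z := by
        rw [mul_assoc, hzu, ← mul_assoc, ← pow_add, show 3 * j + 3 * j = j + 5 * j by ring,
          pow_add, pow_mul, hu5, one_pow, mul_one]
      rw [← h8, ht]
      exact hcf χ z _
    simp only [hcoset, Finset.sum_const, Finset.card_erase_of_mem (Finset.mem_range.mpr
      (by norm_num : 0 < 5)), Finset.card_range, nsmul_eq_mul] at ha hb
    have ha' : (charDegree (χ : G → ℂ) : ℤ) + 4 * v χ = 5 * (a + b) := by
      apply Int.cast_injective (α := ℂ)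
      push_cast
      push_cast at ha
      linear_combination ha
    have hb' : t χ = (a : ℤ) - b := by
      apply Int.cast_injective (α := ℂ)
      push_cast
      exact mul_left_cancel₀ (by norm_num : ((5 : ℕ) : ℂ) ≠ 0) hb
    refine mem_pairList hs ?_ ?_
    · rcases hvc with h' | h' <;> rw [h'] <;> omega
    · rcases hvc with h' | h' <;> rw [h'] at ha' ⊢ <;> omega
  obtain ⟨A, B, C, D, hABCD, hAB, hAC, hAD, hBC, hBD, hCD⟩ : ∃ A B C D,
      F.erase (principal G) = {A, B, C, D} ∧ A ≠ B ∧ A ≠ C ∧ A ≠ D ∧ B ≠ C ∧ B ≠ D ∧ C ≠ D := by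
    obtain ⟨A, B, C, D, hAB, hAC, hAD, hBC, hBD, hCD, hE⟩ := Finset.card_eq_four.mp
      (by rw [Finset.card_erase_of_mem hpF, hFc] : (F.erase (principal G)).card = 4)
    exact ⟨A, B, C, D, hE, hAB, hAC, hAD, hBC, hBD, hCD⟩
  have hsplit : ∀ (φ : IrrCharacter G → ℤ), ∑ χ ∈ F, φ χ =
      φ (principal G) + (φ A + φ B + φ C + φ D) := by
    intro φ
    rw [← Finset.add_sum_erase _ _ hpF, hABCD, Finset.sum_insert (by simp [hAB, hAC, hAD]),
      Finset.sum_insert (by simp [hBC, hBD]), Finset.sum_pair hCD]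
    ring
  have hmemE : ∀ x ∈ ({A, B, C, D} : Finset (IrrCharacter G)), x ∈ F.erase (principal G) := by
    rw [hABCD]; exact fun x hx => hx
  rw [hFsum, hsplit, hvp, hprin1] at hdeg
  rw [hFsum, hsplit, hvp, htp] at hzcol
  -- the column of z
  have hbound : 1 + (v A * t A) ^ 2 + (v B * t B) ^ 2 + (v C * t C) ^ 2 + (v D * t D) ^ 2 ≤
      (Nat.card (centralizer ({z} : Set G)) : ℤ) := by
    have h1 := sum_normSq (G := G) z
    simp only [← ht, Complex.normSq_intCast] at h1
    have h2 : ((∑ χ : IrrCharacter G, t χ ^ 2 : ℤ) : ℝ) =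
        (((Nat.card (centralizer ({z} : Set G)) : ℤ)) : ℝ) := by
      rw [Int.cast_sum]
      simp only [pow_two, Int.cast_mul]
      rw [h1]
      norm_num
    rw [← Int.cast_injective h2]
    have h3 : ∑ χ ∈ F, (v χ * t χ) ^ 2 ≤ ∑ χ, t χ ^ 2 := by
      rw [Finset.sum_congr rfl (g := fun χ => t χ ^ 2) fun χ hχ => by
        rcases hne0 χ (Finset.mem_filter.mp hχ).2 with h' | h' <;> simp [h']]
      exact Finset.sum_le_sum_of_subset_of_nonneg (Finset.subset_univ _) fun _ _ _ => sq_nonneg _
    rw [hsplit, hvp, htp] at h3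
    linarith
  -- the number of pairs
  have hpairs := card_conj_mul_conj z z u
  rw [Small.card_pairs_inverting (by norm_num) huo hCu hzz hinv, h] at hpairs
  simp only [irr_inv, ← hv, ← ht, map_intCast, deg_eq] at hpairs
  rw [← Finset.sum_subset (Finset.subset_univ F) (fun ψ _ hψ => by
    simp only [hF, Finset.mem_filter, Finset.mem_univ, true_and, not_not] at hψ
    rw [hψ, Int.cast_zero, mul_zero, zero_div])] at hpairs
  set n := Nat.card (centralizer ({z} : Set G)) with hn'
  have hkey : (n : ℂ) ^ 2 = 864 * ∑ χ ∈ F,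
      (((v χ * t χ) ^ 2 : ℤ) : ℂ) / ((v χ * charDegree (χ : G → ℂ) : ℤ) : ℂ) := by
    push_cast at hpairs ⊢
    have h5 : (n : ℂ) ^ 2 = 864 * ∑ χ ∈ F, (t χ : ℂ) * (t χ : ℂ) * (v χ : ℂ) /
        (charDegree (χ : G → ℂ) : ℂ) := by linear_combination hpairs / 5
    rw [h5]
    congr 1
    refine Finset.sum_congr rfl fun χ hχ => ?_
    rcases hne0 χ (Finset.mem_filter.mp hχ).2 with h' | h' <;> simp [h', sq, neg_div, div_neg]
  have hd : ∀ χ : IrrCharacter G, χ ∈ F → ((v χ * charDegree (χ : G → ℂ) : ℤ) : ℂ) ≠ 0 :=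
    fun χ hχ => Int.cast_ne_zero.mpr (mul_ne_zero (Finset.mem_filter.mp hχ).2
      (Int.natCast_ne_zero.mpr (CfsgLib.Blocks.charDegree_pos χ).ne'))
  have hdA := hd A (Finset.mem_of_mem_erase (hmemE A (by simp)))
  have hdB := hd B (Finset.mem_of_mem_erase (hmemE B (by simp)))
  have hdC := hd C (Finset.mem_of_mem_erase (hmemE C (by simp)))
  have hdD := hd D (Finset.mem_of_mem_erase (hmemE D (by simp)))
  rw [← Finset.add_sum_erase _ _ hpF, hABCD, Finset.sum_insert (by simp [hAB, hAC, hAD]),
    Finset.sum_insert (by simp [hBC, hBD]), Finset.sum_pair hCD, hvp, htp, hprin1] at hkey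
  refine no_quad (hpair A (hmemE A (by simp))) (hpair B (hmemE B (by simp)))
    (hpair C (hmemE C (by simp))) (hpair D (hmemE D (by simp))) ?_ ?_ n hbound ?_
  · show v A * _ + v B * _ + v C * _ + v D * _ = -1
    push_cast at hdeg
    linarith
  · show v A * t A + v B * t B + v C * t C + v D * t D = -1
    linarith
  · show (n : ℤ) ^ 2 * ((v A * charDegree (A : G → ℂ)) * (v B * charDegree (B : G → ℂ)) *
      (v C * charDegree (C : G → ℂ)) * (v D * charDegree (D : G → ℂ))) = _
    generalize hsA : v A * (charDegree (A : G → ℂ) : ℤ) = sA at hkey hdA ⊢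
    generalize hsB : v B * (charDegree (B : G → ℂ) : ℤ) = sB at hkey hdB ⊢
    generalize hsC : v C * (charDegree (C : G → ℂ) : ℤ) = sC at hkey hdC ⊢
    generalize hsD : v D * (charDegree (D : G → ℂ) : ℤ) = sD at hkey hdD ⊢
    generalize v A * t A = rA at hkey ⊢
    generalize v B * t B = rB at hkey ⊢
    generalize v C * t C = rC at hkey ⊢
    generalize v D * t D = rD at hkey ⊢
    apply Int.cast_injective (α := ℂ)
    push_cast at hkey ⊢
    rw [hkey]
    field_simp
    ring

end Cfsg.Agent.S0977
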