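import Cfsg.Statements.S0978
import Cfsg.Agent.Lib.Small.SmallOrder
import Cfsg.Agent.S1010

set_option autoImplicit false
set_option linter.unusedSectionVars false
open Cfsg CfsgLib CfsgLib.Chars CfsgLib.CharApps Subgroup

namespace Cfsg.Agent.S0978

open CfsgLib.Small (signedCands)

theorem cands_seven : ∀ s ∈ signedCands 5040 7, s ∈ [8, 15, 36, -6, -20, -48] := by decide +kernel

theorem cands_five_six : ∀ s ∈ signedCands 5040 5, s % 7 = 6 → s = 6 := by decide +kernel

theorem cands_five_zero : ∀ s ∈ signedCands 5040 5, s % 7 = 0 →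
    ¬ (1 + s).natAbs ∣ 5040 := by decide +kernel

variable {G : Type*} [Group G] [Finite G] [IsSimpleGroup G]

theorem nine_le (hG : ¬ IsMulCommutative G) (h : Nat.card G = 5040) {H : Subgroup G}
    (hH : H ≠ ⊤) : 9 * Nat.card H ≤ 5040 := by
  have h1 := Small.card_mul_nine_le hG (by rw [h]; decide) (by rw [h]; norm_num)
    (by rw [h]; norm_num) hH
  rwa [h] at h1

/-- No involution centralizes a Sylow 7-subgroup when its inertial index is two or three. -/
theorem no_involution (hG : ¬ IsMulCommutative G) (h : Nat.card G = 5040) [Fact (Nat.Prime 7)]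
    (P : Sylow 7 G) (hP : Nat.card (P : Subgroup G) = 7) {e : ℕ}
    (he : (centralizer ((P : Subgroup G) : Set G)).relIndex
      (normalizer ((P : Subgroup G) : Set G)) = e) (he23 : e = 2 ∨ e = 3) :
    Odd (Nat.card (centralizer ((P : Subgroup G) : Set G))) := by
  by_contra hev
  rw [Nat.not_odd_iff_even] at hev
  have := Fact.mk Nat.prime_two
  obtain ⟨y, hy⟩ := exists_prime_orderOf_dvd_card' (G := centralizer ((P : Subgroup G) : Set G)) 2
    (even_iff_two_dvd.mp hev)
  have hyo : orderOf (y : G) = 2 := by rw [Subgroup.orderOf_coe, hy]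
  have hy2 : (y : G) * y = 1 := by rw [← sq, ← hyo, pow_orderOf_eq_one]
  have hy1 : (y : G) ≠ 1 := fun h1 => by rw [h1, orderOf_one] at hyo; omega
  obtain ⟨L, hlen, hL, hσ, hσ2, hw, hsum⟩ := Small.exists_block_involution hG (by norm_num) P hP he
    (by rcases he23 with rfl | rfl <;> norm_num) y.2 hy2 hy1
  rw [h] at hL hσ hσ2
  have hC := nine_le hG h (Small.centralizer_singleton_ne_top hG hy1)
  -- each entry is one of five pairs
  have hpair : ∀ x ∈ L, (x.1 = 15 ∧ x.2 = -13) ∨ (x.1 = 36 ∧ (x.2 = 8 ∨ x.2 = -20)) ∨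
      (x.1 = -20 ∧ x.2 = 8) ∨ (x.1 = -48 ∧ (x.2 = -20 ∨ x.2 = 8 ∨ x.2 = 36)) := by
    intro x hx
    obtain ⟨h1, h2, h3⟩ := hL x hx
    have h4 := cands_seven _ h1
    simp only [List.mem_cons, List.not_mem_nil, or_false] at h4
    rcases h4 with h4 | h4 | h4 | h4 | h4 | h4 <;> rw [h4] at h2 h3 ⊢ <;> omega
  rcases he23 with rfl | rfl
  · obtain ⟨a, rfl⟩ := List.length_eq_one_iff.mp hlen
    simp only [List.map_cons, List.map_nil, List.sum_cons, List.sum_nil, add_zero] at hσ hσ2 hw hsum
    rcases hpair a List.mem_cons_self with ⟨h1, h2⟩ | ⟨h1, h2⟩ | ⟨h1, h2⟩ | ⟨h1, h2⟩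
    · rw [h2] at hsum
      norm_num at hsum
      omega
    all_goals rw [h1] at hσ; norm_num at hσ
  · obtain ⟨a, b, rfl⟩ := List.length_eq_two.mp hlen
    simp only [List.map_cons, List.map_nil, List.sum_cons, List.sum_nil, add_zero] at hσ hσ2 hw hsum
    rcases hpair a (by simp) with ⟨h1, h2⟩ | ⟨h1, h2⟩ | ⟨h1, h2⟩ | ⟨h1, h2⟩ <;>
      rcases hpair b (by simp) with ⟨h3, h4⟩ | ⟨h3, h4⟩ | ⟨h3, h4⟩ | ⟨h3, h4⟩ <;>
      rw [h1, h3] at hσ hσ2 hw <;> first | omega | (norm_num at hσ) | (norm_num at hσ hσ2; omega)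

/-- The case `|C(P)| = 21`. -/
theorem not_twenty_one (hG : ¬ IsMulCommutative G) (h : Nat.card G = 5040) [Fact (Nat.Prime 7)]
    (P : Sylow 7 G) (hP : Nat.card (P : Subgroup G) = 7)
    (hC : Nat.card (centralizer ((P : Subgroup G) : Set G)) = 21)
    (hN : Nat.card (normalizer ((P : Subgroup G) : Set G)) = 42) : False := by
  have := Fact.mk Nat.prime_three
  have := Fact.mk Nat.prime_five
  set C := centralizer ((P : Subgroup G) : Set G) with hCdef
  obtain ⟨v, hv⟩ := exists_prime_orderOf_dvd_card' (G := C) 3 (by rw [hC]; norm_num)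
  have hvo : orderOf (v : G) = 3 := by rw [Subgroup.orderOf_coe, hv]
  have hv1 : (v : G) ≠ 1 := fun h1 => by rw [h1, orderOf_one] at hvo; omega
  set H := centralizer ({(v : G)} : Set G) with hH
  have hbound := nine_le hG h (H := H) (Small.centralizer_singleton_ne_top hG hv1)
  have hPH : (P : Subgroup G) ≤ H := fun x hx => by
    rw [hH, mem_centralizer_singleton_iff]
    exact mem_centralizer_iff.mp v.2 x hx
  -- a Sylow 3-subgroup containing v is abelian
  have h9 : 9 ∣ Nat.card H := by
    have hvp : IsPGroup 3 (zpowers (v : G)) :=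
      IsPGroup.of_card (n := 1) (by rw [Nat.card_zpowers, hvo]; norm_num)
    obtain ⟨S, hS⟩ := hvp.exists_le_sylow
    have hScard : Nat.card (S : Subgroup G) = 3 ^ 2 :=
      Small.card_sylow_eq (p := 3) 2 560 (by omega) (by norm_num) S
    have hc := IsPGroup.isMulCommutative_of_card_eq_prime_sq hScard
    have hle : (S : Subgroup G) ≤ H := fun x hx => by
      rw [hH, mem_centralizer_singleton_iff]
      exact congrArg Subtype.val (hc.is_comm.comm ⟨x, hx⟩ ⟨v, hS (mem_zpowers _)⟩)
    have := card_dvd_of_le hle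
    rw [hScard] at this
    exact this
  have h63 : 63 ∣ Nat.card H :=
    Nat.Coprime.mul_dvd_of_dvd_of_dvd (by norm_num : Nat.Coprime 9 7) h9 (hP ▸ card_dvd_of_le hPH)
  have hHd : Nat.card H ∣ 5040 := h ▸ card_subgroup_dvd_card H
  -- the normalizer of P in H
  let P' : Sylow 7 H := P.subtype hPH
  have hNH : Nat.card (normalizer ((P' : Subgroup H) : Set H)) =
      Nat.card ((normalizer ((P : Subgroup G) : Set G) ⊓ H : Subgroup G)) := by
    have e1 : normalizer ((P' : Subgroup H) : Set H) =
        (normalizer ((P : Subgroup G) : Set G)).subgroupOf H := by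
      exact (subgroupOf_normalizer_eq hPH).symm
    rw [e1, ← inf_subgroupOf_right, Nat.card_congr (subgroupOfEquivOfLe inf_le_right).toEquiv]
  have hNH42 : Nat.card (normalizer ((P' : Subgroup H) : Set H)) ∣ 42 := by
    rw [hNH, ← hN]; exact card_dvd_of_le inf_le_left
  have hNH21 : 21 ∣ Nat.card (normalizer ((P' : Subgroup H) : Set H)) := by
    rw [hNH, ← hC]
    refine card_dvd_of_le (le_inf (centralizer_le_normalizer _) fun x hx => ?_)
    -- the centralizer of P is abelian
    rw [hH, mem_centralizer_singleton_iff]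
    have hcomm : IsMulCommutative C := by
      have hPC : (P : Subgroup G) ≤ C := by
        have hcyc : IsCyclic (P : Subgroup G) := isCyclic_of_prime_card hP
        have := hcyc.isMulCommutative
        exact le_centralizer _
      obtain ⟨u, hu⟩ := (isCyclic_of_prime_card hP).exists_generator
      have huo : orderOf (⟨u, hPC u.2⟩ : C) = 7 := by
        rw [← Subgroup.orderOf_coe]
        show orderOf (u : G) = 7
        rw [Subgroup.orderOf_coe, orderOf_eq_card_of_forall_mem_zpowers hu, hP]
      have hcu : Commute (⟨u, hPC u.2⟩ : C) v := Subtype.ext (mem_centralizer_iff.mp v.2 u u.2)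
      have ho : orderOf ((⟨u, hPC u.2⟩ : C) * v) = 21 := by
        rw [hcu.orderOf_mul_eq_mul_orderOf_of_coprime (by rw [huo, hv]; norm_num), huo, hv]
      have := isCyclic_of_orderOf_eq_card _ (ho.trans hC.symm)
      exact this.isMulCommutative
    exact congrArg Subtype.val (hcomm.is_comm.comm ⟨x, hx⟩ v)
  have hmul := Small.card_normalizer_mul P'
  have hmod : Nat.card (Sylow 7 H) % 7 = 1 :=
    Eq.trans (card_sylow_modEq_one 7 H) (Nat.mod_eq_of_lt (by norm_num))
  have hH315 : Nat.card H = 315 ∧ Nat.card (normalizer ((P' : Subgroup H) : Set H)) = 21 := by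
    obtain ⟨a, ha⟩ := hNH21
    have hd : a ∣ 2 := Nat.dvd_of_mul_dvd_mul_left (by norm_num : 0 < 21) (by rw [← ha]; exact hNH42)
    obtain ⟨j, hj⟩ := h63
    have hj80 : j ∣ 80 := Nat.dvd_of_mul_dvd_mul_left (by norm_num : 0 < 63) (by rw [← hj]; exact hHd)
    rw [ha] at hmul
    rw [hj] at hmul hbound
    rw [ha, hj]
    set n := Nat.card (Sylow 7 H)
    have hj8 : j ≤ 8 := by omega
    have ha2 : a ≤ 2 := Nat.le_of_dvd two_pos hd
    interval_cases a <;> interval_cases j <;> first | omega | (norm_num at hd) | (norm_num at hj80) | (constructor <;> omega)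
  obtain ⟨hHc, hNHc⟩ := hH315
  -- the normal Sylow 5-subgroup of H
  obtain ⟨Q⟩ : Nonempty (Sylow 5 H) := inferInstance
  have hQ : Nat.card (Q : Subgroup H) = 5 := by
    simpa using Small.card_sylow_eq (p := 5) 1 63 (by omega) (by norm_num) Q
  have hn5 : Nat.card (Sylow 5 H) = 1 := by
    have hd : Nat.card (Sylow 5 H) ∈ Nat.divisors 63 :=
      Nat.mem_divisors.mpr ⟨Small.card_sylow_dvd (p := 5) 1 63 (by omega) (by norm_num), by norm_num⟩
    rw [show Nat.divisors 63 = {1, 3, 7, 9, 21, 63} from by decide] at hd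
    simp only [Finset.mem_insert, Finset.mem_singleton] at hd
    have h5 : Nat.card (Sylow 5 H) % 5 = 1 :=
      Eq.trans (card_sylow_modEq_one 5 H) (Nat.mod_eq_of_lt (by norm_num))
    have h21 := S1010.result (G := H)
    omega
  have : Subsingleton (Sylow 5 H) := (Nat.card_eq_one_iff_unique.mp hn5).1
  have hQn : (Q : Subgroup H).Normal := Sylow.normal_of_subsingleton Q
  -- P centralizes it
  have hQC : ∀ q ∈ (Q : Subgroup H), (q : G) ∈ C := by
    intro q hq
    rw [hCdef, mem_centralizer_iff]
    intro x hx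
    let f : H →* MulAut (Q : Subgroup H) := MulAut.conjNormal
    have hcyc : IsCyclic (Q : Subgroup H) := isCyclic_of_prime_card hQ
    have hf : f ⟨x, hPH hx⟩ = 1 := by
      rw [← orderOf_eq_one_iff]
      have h1 : orderOf (f ⟨x, hPH hx⟩) ∣ 4 := by
        have := orderOf_dvd_natCard (f ⟨x, hPH hx⟩)
        rwa [hcyc.card_mulAut, hQ, Nat.totient_prime Nat.prime_five] at this
      have h2 : orderOf (f ⟨x, hPH hx⟩) ∣ 7 := by
        refine (orderOf_map_dvd f _).trans ?_
        rw [← Subgroup.orderOf_coe, ← hP]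
        exact Subgroup.orderOf_dvd_natCard _ hx
      exact Nat.eq_one_of_dvd_coprimes (by norm_num : Nat.Coprime 4 7) h1 h2
    have h3 : (⟨x, hPH hx⟩ : H) * q * (⟨x, hPH hx⟩ : H)⁻¹ = q := by
      have h3' := congrArg Subtype.val (DFunLike.congr_fun hf (⟨q, hq⟩ : (Q : Subgroup H)))
      rw [MulAut.conjNormal_apply] at h3'
      exact h3'
    have h4 := congrArg Subtype.val h3
    simp only [Subgroup.coe_mul, InvMemClass.coe_inv] at h4
    exact mul_inv_eq_iff_eq_mul.mp h4
  have hle : (Q : Subgroup H).map H.subtype ≤ C := by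
    rintro _ ⟨q, hq, rfl⟩
    exact hQC q hq
  have h5 := card_dvd_of_le hle
  rw [card_map_of_injective H.subtype_injective, hQ, hC] at h5
  norm_num at h5

/-- With `|N(P) : C(P)| = 6` and `C(P) = P` there is a character of degree six taking the value
`-1` on `P`. -/
theorem exists_six (hG : ¬ IsMulCommutative G) (h : Nat.card G = 5040) [Fact (Nat.Prime 7)]
    (P : Sylow 7 G) (hP : Nat.card (P : Subgroup G) = 7)
    (hC : Nat.card (centralizer ((P : Subgroup G) : Set G)) = 7)
    (he : (centralizer ((P : Subgroup G) : Set G)).relIndex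
      (normalizer ((P : Subgroup G) : Set G)) = 6)
    {u : G} (hu : u ∈ (P : Subgroup G)) (huo : orderOf u = 7)
    (hrat : ∀ j < 7, j ≠ 0 → IsConj (u ^ j) u) :
    ∃ χ : IrrCharacter G, charDegree (χ : G → ℂ) = 6 ∧ (χ : G → ℂ) u = -1 := by
  classical
  haveI := Fintype.ofFinite G
  haveI := irrFintype G
  have := Fact.mk Nat.prime_five
  choose v hv hv7 using fun χ : IrrCharacter G => exists_int_of_rational χ huo hrat
  obtain ⟨M, hM⟩ := exists_pModular 7
  haveI := hM.2.1.isPrime
  obtain ⟨X, Y, -, -, hX, -, εX, -, hXp, -, -, -, -⟩ :=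
    Agent.S4441.result 7 M hM (by norm_num) P hP 6 he
  have hu1 : u ≠ 1 := fun h1 => by rw [h1, orderOf_one] at huo; omega
  have hXv : ∀ χ ∈ X, v χ ^ 2 = 1 := by
    intro χ hχ
    have h1 := (hXp χ hχ).2.2 u hu hu1 1 (one_mem _) (by rw [orderOf_one]; norm_num)
    rw [mul_one, ← hv] at h1
    rw [Int.cast_injective h1]
    rcases (hXp χ hχ).1 with h2 | h2 <;> simp [h2]
  have hcol : ∑ χ, v χ ^ 2 = 7 := by
    have h1 := sum_normSq (G := G) u
    have hcu : Nat.card (centralizer ({u} : Set G)) = 7 := by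
      refine Eq.trans ?_ hC
      congr 2
      refine le_antisymm (fun g hg => ?_) fun g hg => ?_
      · change g ∈ centralizer _
        rw [mem_centralizer_iff]
        intro x hx
        have hz : zpowers u = (P : Subgroup G) :=
          eq_of_le_of_card_ge (zpowers_le.mpr hu) (by rw [Nat.card_zpowers, huo, hP])
        obtain ⟨i, rfl⟩ := hz.ge hx
        exact ((Commute.zpow_right (mem_centralizer_singleton_iff.mp hg : Commute g u) i).eq).symm
      · exact mem_centralizer_singleton_iff.mpr (mem_centralizer_iff.mp hg u hu).symm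
    simp only [← hv, Complex.normSq_intCast, hcu] at h1
    have h2 : ((∑ χ : IrrCharacter G, v χ ^ 2 : ℤ) : ℝ) = ((7 : ℤ) : ℝ) := by
      rw [Int.cast_sum]
      simp only [pow_two, Int.cast_mul]
      rw [h1]
      norm_num
    exact Int.cast_injective h2
  have hsmall : ∀ χ, v χ ^ 2 ≤ 1 := by
    intro χ
    by_cases hχ : χ ∈ X
    · rw [hXv χ hχ]
    · set F := (Set.toFinite X).toFinset with hF
      have h1 : ∑ ψ ∈ F, v ψ ^ 2 = 6 := by
        rw [Finset.sum_congr rfl fun ψ hψ => hXv ψ ((Set.Finite.mem_toFinset _).mp hψ),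
          Finset.sum_const, ← Nat.card_eq_card_finite_toFinset, hX, nsmul_one, Nat.cast_ofNat]
      have h2 : ∑ ψ ∈ insert χ F, v ψ ^ 2 ≤ ∑ ψ, v ψ ^ 2 :=
        Finset.sum_le_sum_of_subset_of_nonneg (Finset.subset_univ _) fun _ _ _ => sq_nonneg _
      rw [Finset.sum_insert (by simpa [hF] using hχ), h1, hcol] at h2
      omega
  have hsmall' : ∀ χ, -1 ≤ v χ ∧ v χ ≤ 1 := fun χ =>
    ⟨by nlinarith [hsmall χ], by nlinarith [hsmall χ]⟩
  -- the principal 5-block
  obtain ⟨P5⟩ : Nonempty (Sylow 5 G) := inferInstance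
  have hP5 : Nat.card (P5 : Subgroup G) = 5 := by
    simpa using Small.card_sylow_eq (p := 5) 1 1008 (by omega) (by norm_num) P5
  obtain ⟨e, he1, he4, hce⟩ := Small.exists_normalizer_centralizer hG P5 hP5
  have hrel5 := Small.relIndex_of_card_mul P5 hce
  obtain ⟨M5, hM5⟩ := exists_pModular 5
  haveI := hM5.2.1.isPrime
  obtain ⟨X, Y, hB, hdisj, hX, hY, εX, ε, hXp, hε, hYdeg, hYeq, hrel⟩ :=
    Agent.S4441.result 5 M5 hM5 (by norm_num) P5 hP5 e hrel5
  have hprin1 : charDegree ((principal G : IrrCharacter G) : G → ℂ) = 1 :=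
    (deg_eq_one_iff (principal G)).mp (principal_apply _)
  have hdegne : ∀ χ : IrrCharacter G, χ ≠ principal G → 1 < charDegree (χ : G → ℂ) := by
    intro χ hne
    have h0 := CfsgLib.Blocks.charDegree_pos χ
    by_contra h'
    exact hne (Small.eq_of_degree_one hG (by omega) hprin1)
  have hvp : v (principal G) = 1 := by
    have h1 := hv (principal G)
    rw [principal_apply] at h1
    exact_mod_cast h1
  have hsqd : ∀ χ : IrrCharacter G, charDegree (χ : G → ℂ) ^ 2 < 5040 := by
    intro χ
    rw [← h, ← sum_degree_sq_nat (G := G)]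
    by_cases hne : χ = principal G
    · subst hne
      rw [hprin1, one_pow, sum_degree_sq_nat]
      exact Finite.one_lt_card
    · rw [← Finset.add_sum_erase _ _ (Finset.mem_univ χ)]
      have hmem : principal G ∈ (Finset.univ.erase χ : Finset (IrrCharacter G)) :=
        Finset.mem_erase.mpr ⟨Ne.symm hne, Finset.mem_univ _⟩
      have := Finset.single_le_sum (f := fun ψ : IrrCharacter G => charDegree (ψ : G → ℂ) ^ 2)
        (fun _ _ => Nat.zero_le _) hmem
      rw [hprin1, one_pow] at this
      omega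
  -- a signed degree congruent to `1` whose signed value is `-1` belongs to degree six
  have hsix : ∀ (χ : IrrCharacter G) (c : ℤ), (c = 1 ∨ c = -1) →
      c * charDegree (χ : G → ℂ) ≡ 1 [ZMOD 5] → c * v χ = -1 →
      ∃ χ : IrrCharacter G, charDegree (χ : G → ℂ) = 6 ∧ (χ : G → ℂ) u = -1 := by
    intro χ c hc hmod hr
    have h7 := hv7 χ
    have hne : χ ≠ principal G := by
      rintro rfl
      rw [hprin1] at hmod
      rw [hvp] at hr
      rcases hc with rfl | rfl <;> revert hmod hr <;> decide
    have habs : (c * (charDegree (χ : G → ℂ) : ℤ)).natAbs = charDegree (χ : G → ℂ) := by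
      rcases hc with rfl | rfl <;> simp
    have hs := cands_five_six (c * charDegree (χ : G → ℂ))
      (Small.mem_signedCands hmod (by rw [habs, ← h]; exact Small.charDegree_dvd_card χ)
        (by rw [habs]; exact hdegne χ hne) (by rw [habs]; exact hsqd χ))
    rcases hc with rfl | rfl
    · have hv1 : v χ = -1 := by omega
      rw [hv1] at h7
      refine ⟨χ, ?_, by rw [← hv, hv1]; norm_num⟩
      have := hs (by omega)
      omega
    · have hv1 : v χ = 1 := by omega
      rw [hv1] at h7
      have := hs (by omega)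
      omega
  set F : Finset (IrrCharacter G) := (Set.toFinite X).toFinset with hF
  have hFc : F.card = e := by rw [hF, ← Nat.card_eq_card_finite_toFinset, hX]
  have hrel' : ∀ θ ∈ Y, ∀ (x : G) (φ : IrrCharacter G → ℤ), ¬ 5 ∣ orderOf x →
      (∀ χ : IrrCharacter G, (φ χ : ℂ) = (χ : G → ℂ) x) →
      ε * φ θ = ∑ χ ∈ F, εX χ * φ χ := by
    intro θ hθ x φ hx hφ
    have h1 := hrel θ hθ x hx
    rw [finsum_mem_eq_finite_toFinset_sum _ (Set.toFinite X), ← hF] at h1
    simp only [← hφ] at h1
    exact_mod_cast h1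
  have hu5 : ¬ 5 ∣ orderOf u := by rw [huo]; norm_num
  have h15 : ¬ 5 ∣ orderOf (1 : G) := by rw [orderOf_one]; norm_num
  have hmodX : ∀ χ ∈ F, εX χ * charDegree (χ : G → ℂ) ≡ 1 [ZMOD 5] := by
    intro χ hχ
    obtain ⟨hc, hd, -⟩ := hXp χ ((Set.Finite.mem_toFinset _).mp hχ)
    have h1 := hd.mul_left (εX χ)
    rcases hc with h' | h' <;> simp [h'] at h1 ⊢ <;> exact h1
  have hcX : ∀ χ ∈ F, εX χ = 1 ∨ εX χ = -1 := fun χ hχ =>
    (hXp χ ((Set.Finite.mem_toFinset _).mp hχ)).1
  have hrb : ∀ (χ : IrrCharacter G) (c : ℤ), (c = 1 ∨ c = -1) →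
      -1 ≤ c * v χ ∧ c * v χ ≤ 1 := by
    intro χ c hc
    have := hsmall' χ
    rcases hc with rfl | rfl <;> omega
  have hYne : Nonempty Y := by
    refine (Finite.card_pos_iff).mp ?_
    rw [hY]
    exact Nat.div_pos (Nat.le_of_dvd (by norm_num) he4) (by omega)
  obtain ⟨θ, hθ⟩ := hYne
  have hmem : principal G ∈ X ∪ Y := hB ▸ CfsgLib.Blocks.principal_mem_principalBlock M5
  by_cases hneg : ∃ χ ∈ F, εX χ * v χ = -1
  · obtain ⟨χ, hχ, hr⟩ := hneg
    exact hsix χ _ (hcX χ hχ) (hmodX χ hχ) hr
  push Not at hneg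
  have hnn : ∀ χ ∈ F, 0 ≤ εX χ * v χ := fun χ hχ => by
    have := hrb χ _ (hcX χ hχ)
    have := hneg χ hχ
    omega
  have hYd := hYdeg θ hθ
  have hru := hrel' θ hθ u v hu5 hv
  have hr1 := hrel' θ hθ 1 (fun χ => (charDegree (χ : G → ℂ) : ℤ)) h15
    fun χ => by rw [deg_eq]; push_cast; rfl
  have hy := hrb θ ε hε
  have he24 : e = 2 ∨ e = 4 := by
    have := Nat.le_of_dvd (by norm_num) he4
    interval_cases e <;> first | omega | norm_num at he4
  rcases he24 with rfl | rfl
  · -- e = 2
    have hprin : principal G ∈ F := by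
      rw [hF, Set.Finite.mem_toFinset]
      rcases hmem with h' | h'
      · exact h'
      exfalso
      have h1 := hYdeg _ h'
      rw [hprin1] at h1
      rcases hε with rfl | rfl <;> revert h1 <;> decide
    obtain ⟨χ, hne, hFeq⟩ : ∃ χ, χ ≠ principal G ∧ F = {principal G, χ} := by
      obtain ⟨a, b, hab, hFab⟩ := Finset.card_eq_two.mp hFc
      rw [hFab, Finset.mem_insert, Finset.mem_singleton] at hprin
      rcases hprin with h' | h'
      · exact ⟨b, h' ▸ hab.symm, by rw [hFab, h']⟩
      · exact ⟨a, h' ▸ hab, by rw [hFab, h', Finset.pair_comm]⟩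
    have hεp : εX (principal G) = 1 := by
      have h1 := hmodX _ hprin
      rw [hprin1] at h1
      rcases hcX _ hprin with h' | h' <;> rw [h'] at h1 ⊢
      revert h1; decide
    have hχF : χ ∈ F := by rw [hFeq]; simp
    have h7 := hv7 χ
    rw [hFeq, Finset.sum_pair (Ne.symm hne), hεp, hvp] at hru
    rw [hFeq, Finset.sum_pair (Ne.symm hne), hεp, hprin1] at hr1
    have hr0 : εX χ * v χ = 0 := by
      have := hnn χ hχF
      omega
    have hv0 : v χ = 0 := by rcases hcX χ hχF with h' | h' <;> rw [h'] at hr0 <;> omega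
    have habs : ∀ c : ℤ, (c = 1 ∨ c = -1) → ∀ d : ℕ, (c * (d : ℤ)).natAbs = d := fun c hc d => by
      rcases hc with rfl | rfl <;> simp
    have h0 := cands_five_zero (εX χ * charDegree (χ : G → ℂ))
      (Small.mem_signedCands (hmodX χ hχF)
        (by rw [habs _ (hcX χ hχF), ← h]; exact Small.charDegree_dvd_card χ)
        (by rw [habs _ (hcX χ hχF)]; exact hdegne χ hne)
        (by rw [habs _ (hcX χ hχF)]; exact hsqd χ))
      (by
        rw [hv0] at h7
        rcases hcX χ hχF with h' | h' <;> rw [h'] <;> omega)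
    refine absurd ?_ h0
    rw [show (1 : ℤ) + εX χ * charDegree (χ : G → ℂ) = ε * charDegree (θ : G → ℂ) by
      push_cast at hr1; linarith, habs ε hε, ← h]
    exact Small.charDegree_dvd_card θ
  · -- e = 4: the exceptional character has the opposite sign
    by_cases hθr : -ε * v θ = -1
    · refine hsix θ (-ε) (by rcases hε with rfl | rfl <;> simp) ?_ hθr
      have h1 := hYd.mul_left (-ε)
      rcases hε with rfl | rfl <;> norm_num at h1 ⊢ <;> unfold Int.ModEq at h1 ⊢ <;> omega
    exfalso
    have hp1 : 1 ≤ ∑ χ ∈ F, εX χ * v χ ∨ θ = principal G := by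
      rcases hmem with h' | h'
      · left
        have hpF : principal G ∈ F := by rw [hF, Set.Finite.mem_toFinset]; exact h'
        have hεp : εX (principal G) = 1 := by
          have h1 := hmodX _ hpF
          rw [hprin1] at h1
          rcases hcX _ hpF with h'' | h'' <;> rw [h''] at h1 ⊢
          revert h1; decide
        refine le_trans ?_ (Finset.single_le_sum hnn hpF)
        rw [hεp, hvp, mul_one]
      · right
        have h1 : Nat.card Y = 1 := by rw [hY]
        exact congrArg Subtype.val ((Nat.card_eq_one_iff_unique.mp h1).1.elim ⟨θ, hθ⟩ ⟨_, h'⟩)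
    rcases hp1 with h' | h'
    · rw [neg_mul] at hθr
      omega
    · have hYd' := hYd
      rw [h', hprin1] at hYd'
      have h1 : ε = -1 := by
        rcases hε with rfl | rfl
        · revert hYd'; decide
        · rfl
      have h2 := Finset.sum_nonneg hnn
      rw [h', hvp, h1] at hru
      omega

/-- No finite simple group has order 5040 = 2^4 * 3^2 * 5 * 7. -/
theorem result {G : Type*} [Group G] [Finite G] [IsSimpleGroup G] : Nat.card G ≠ 5040 := by
  intro h
  have := Fact.mk (show Nat.Prime 7 by norm_num)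
  have hG : ¬ IsMulCommutative G := Small.not_isMulCommutative_of_card (by rw [h]; norm_num)
  obtain ⟨P⟩ : Nonempty (Sylow 7 G) := inferInstance
  have hP : Nat.card (P : Subgroup G) = 7 := by
    simpa using Small.card_sylow_eq (p := 7) 1 720 (by omega) (by norm_num) P
  obtain ⟨e, he1, he6, hce⟩ := Small.exists_normalizer_centralizer hG P hP
  have hrel := Small.relIndex_of_card_mul P hce
  obtain ⟨k, hk⟩ := Small.dvd_card_centralizer P hP
  have hmul := Small.card_normalizer_mul P
  rw [← hce, h, hk] at hmul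
  set n := Nat.card (Sylow 7 G) with hn
  have hnd : n ∈ (Nat.divisors 720).filter fun d => d % 7 = 1 := Finset.mem_filter.mpr
    ⟨Nat.mem_divisors.mpr ⟨Small.card_sylow_dvd (p := 7) 1 720 (by omega) (by norm_num),
      by norm_num⟩, Eq.trans (card_sylow_modEq_one 7 G) (Nat.mod_eq_of_lt (by norm_num))⟩
  rw [show ((Nat.divisors 720).filter fun d => d % 7 = 1) = {1, 8, 15, 36, 120} from by
    decide +kernel] at hnd
  simp only [Finset.mem_insert, Finset.mem_singleton] at hnd
  have hn1 : 1 < n := Small.one_lt_card_sylow hG (p := 7) (by rw [h]; norm_num)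
  have hek : k * e * n = 720 := by nlinarith
  have he236 : e = 2 ∨ e = 3 ∨ e = 6 := by
    have := Nat.le_of_dvd (by norm_num) he6
    interval_cases e <;> first | omega | norm_num at he6
  rcases hnd with h' | h' | h' | h' | h'
  · omega
  · -- n = 8
    have hodd := (Small.sylow_succ hG P hP (by rw [← hn, h'])).2 (by norm_num)
    have hN := Small.card_normalizer_mul P
    rw [← hn, h, h'] at hN
    rw [show Nat.card (normalizer ((P : Subgroup G) : Set G)) = 630 by omega] at hodd
    exact (by decide : ¬ Odd 630) hodd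
  · -- n = 15
    have hodd := Small.odd_card_centralizer_of_few hG (by norm_num) P hP (by rw [← hn, h']; norm_num)
    rw [hk, Nat.odd_iff] at hodd
    rw [h'] at hek
    rcases he236 with rfl | rfl | rfl <;> omega
  · -- n = 36
    rw [h'] at hek
    have he2 : e = 2 := by rcases he236 with rfl | rfl | rfl <;> omega
    have hodd := no_involution hG h P hP hrel (Or.inl he2)
    rw [hk, Nat.odd_iff] at hodd
    subst he2
    omega
  · -- n = 120
    rw [h'] at hek
    rcases he236 with rfl | rfl | rfl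
    · exact not_twenty_one hG h P hP (by rw [hk]; omega) (by rw [← hce, hk]; omega)
    · have hodd := no_involution hG h P hP hrel (Or.inr rfl)
      rw [hk, Nat.odd_iff] at hodd
      omega
    -- e = 6
    have hk1 : k = 1 := by omega
    subst hk1
    obtain ⟨g, hg⟩ := (isCyclic_of_prime_card hP).exists_generator
    set u : G := (g : G) with hu
    have huo : orderOf u = 7 := by
      rw [hu, Subgroup.orderOf_coe, orderOf_eq_card_of_forall_mem_zpowers hg, hP]
    have hconj : ∀ j < 7, j ≠ 0 → IsConj (u ^ j) u := by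
      intro j hj hj0
      obtain ⟨w, -, hw⟩ := Small.exists_conj_eq_pow_of_full P hP hce g.2 hj hj0
      exact (isConj_iff.mpr ⟨w, hw⟩).symm
    obtain ⟨χ, hd, hv⟩ := exists_six hG h P hP (by rw [hk]) hrel g.2 huo hconj
    -- an involution of the normalizer
    have := Fact.mk Nat.prime_two
    obtain ⟨z, hz⟩ := exists_prime_orderOf_dvd_card'
      (G := normalizer ((P : Subgroup G) : Set G)) 2 (by rw [← hce, hk]; norm_num)
    have hzo : orderOf (z : G) = 2 := by rw [Subgroup.orderOf_coe, hz]
    have hzz : (z : G) * z = 1 := by rw [← sq, ← hzo, pow_orderOf_eq_one]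
    have hzinv : (z : G)⁻¹ = z := inv_eq_of_mul_eq_one_left hzz
    have hu7 : u ^ 7 = 1 := by rw [← huo, pow_orderOf_eq_one]
    have hgen : (P : Subgroup G) = zpowers u :=
      (eq_of_le_of_card_ge (zpowers_le.mpr g.2) (by rw [Nat.card_zpowers, huo, hP])).symm
    obtain ⟨i, hi⟩ := hgen.le ((z.2 u).mp g.2)
    change u ^ i = (z : G) * u * (z : G)⁻¹ at hi
    have hi2 : u ^ (i * i) = u := by
      rw [zpow_mul, hi, conj_zpow, hi, hzinv]
      simp [mul_assoc, hzz, ← mul_assoc (z : G) z]
    have hinv : (z : G) * u * (z : G)⁻¹ = u⁻¹ := by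
      have h7 : (7 : ℤ) ∣ (i - 1) * (i + 1) := by
        rw [show (i - 1) * (i + 1) = i * i - 1 by ring, show (7 : ℤ) = ((orderOf u : ℕ) : ℤ) by
          rw [huo]; rfl, orderOf_dvd_iff_zpow_eq_one, zpow_sub, zpow_one, hi2, mul_inv_cancel]
      rcases (Int.prime_iff_natAbs_prime.mpr (by norm_num : Nat.Prime (7 : ℤ).natAbs)).dvd_or_dvd h7
        with h1 | h1
      · exfalso
        have h2 : u ^ (i - 1) = 1 := by
          rw [← orderOf_dvd_iff_zpow_eq_one, huo]; exact_mod_cast h1
        rw [zpow_sub, zpow_one, mul_inv_eq_one, hi] at h2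
        have hzC : (z : G) ∈ centralizer ((P : Subgroup G) : Set G) := by
          rw [mem_centralizer_iff]
          intro x hx
          obtain ⟨a, rfl⟩ := hgen.le hx
          exact ((Commute.zpow_right (mul_inv_eq_iff_eq_mul.mp h2 : Commute (z : G) u) a).eq).symm
        have := Subgroup.orderOf_dvd_natCard _ hzC
        rw [Subgroup.orderOf_coe, hz, hk] at this
        norm_num at this
      · have h2 : u ^ (i + 1) = 1 := by
          rw [← orderOf_dvd_iff_zpow_eq_one, huo]; exact_mod_cast h1
        rw [← hi]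
        rw [zpow_add, zpow_one] at h2
        exact eq_inv_of_mul_eq_one_left h2
    haveI := Fintype.ofFinite G
    have hcf := isClassFunction_irr χ
    -- the values on the powers of u sum to zero
    have hsum : ∑ j ∈ Finset.range 7, (χ : G → ℂ) (u ^ j) = 0 := by
      rw [← Finset.add_sum_erase _ _ (Finset.mem_range.mpr (by norm_num : 0 < 7)), pow_zero, deg_eq,
        hd, Finset.sum_congr rfl (g := fun _ => (-1 : ℂ)) fun j hj => by
          rw [Blocks.classFun_of_isConj hcf
            (hconj j (Finset.mem_range.mp (Finset.mem_erase.mp hj).2) (Finset.mem_erase.mp hj).1), hv]]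
      norm_num
    have hsum' := Small.sum_pow_mul_eq_zero χ hu7 hsum (z : G)
    -- all elements of the coset are conjugate
    have hall : ∀ j, (χ : G → ℂ) (u ^ j * z) = (χ : G → ℂ) z := by
      intro j
      have h8 : u ^ (4 * j) * (z : G) * (u ^ (4 * j))⁻¹ = u ^ j * z := by
        have hzu : (z : G) * (u ^ (4 * j))⁻¹ = u ^ (4 * j) * z := by
          rw [← mul_inv_eq_iff_eq_mul]
          have h9 : (z : G) * u ^ (4 * j) * (z : G)⁻¹ = (u ^ (4 * j))⁻¹ := by
            rw [← conj_pow, hinv, inv_pow]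
          simpa [mul_inv_rev, hzinv, mul_assoc] using congrArg (·⁻¹) h9
        rw [mul_assoc, hzu, ← mul_assoc, ← pow_add, show 4 * j + 4 * j = j + 7 * j by ring, pow_add,
          pow_mul, hu7, one_pow, mul_one]
      rw [← h8]
      exact hcf _ _
    rw [Finset.sum_congr rfl fun j _ => hall j, Finset.sum_const, Finset.card_range, nsmul_eq_mul,
      mul_eq_zero] at hsum'
    have hz0 : ((0 : ℤ) : ℂ) = (χ : G → ℂ) z := by
      rcases hsum' with h1 | h1
      · norm_num at h1
      · rw [h1, Int.cast_zero]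
    have h4 := Small.four_dvd_degree_sub (Small.commutator_eq_top hG) χ hzz hz0
    rw [hd] at h4
    norm_num at h4

end Cfsg.Agent.S0978
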