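import Cfsg.Statements.S0983
import Cfsg.Agent.Lib.Small.Orders6232
import Cfsg.Agent.Lib.Small.SmallSieve
import Cfsg.Agent.S0496
import Cfsg.Agent.S0975
import Cfsg.Agent.S0976
import Cfsg.Agent.S0977
import Cfsg.Agent.S0978
import Cfsg.Agent.S0980

set_option autoImplicit false
set_option linter.unusedSectionVars false
open Cfsg

namespace Cfsg.Agent.S0983


open CfsgLib.Small
open scoped Nat

universe u

theorem left_over : ∀ i ∈ List.range 2592, (4 ∣ 3641 + i ∧ 3641 + i ∣ 510510 ^ 13 ∧
    ([3, 5, 7, 11, 13, 17].all fun q => !((3641 + i) ∣ (2 * q) ^ 13)) = true ∧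
    ([(3, 5), (3, 7), (3, 11), (3, 13), (3, 17), (5, 7), (5, 11), (5, 13), (5, 17), (7, 11),
      (7, 13), (7, 17), (11, 13), (11, 17), (13, 17)].all
        fun pr => !((3641 + i) ∣ pr.1 * pr.2 * 2 ^ 11)) = true ∧
    (¬ 17 ∣ 3641 + i ∨ 4913 ≤ 3641 + i)) →
    3641 + i ∈ [3696, 3744, 3780, 3900, 3920, 3960, 4004, 4032, 4056, 4116, 4200, 4212, 4312, 4320,
      4356, 4368, 4400, 4500, 4536, 4620, 4680, 4704, 4732, 4752, 4800, 4840, 4860, 4900, 5040,
      5096, 5100, 5148, 5200, 5236, 5280, 5292, 5304, 5400, 5460, 5500, 5508, 5544, 5600, 5616,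
      5712, 5720, 5760, 5780, 5808, 5880, 5940, 6000, 6048, 6084, 6120, 6160, 6188] := by
  decide +kernel

variable {G : Type u} [Group G] [Finite G] [IsSimpleGroup G]

/-- Orders killed by the numbers of Sylow subgroups alone. -/
theorem sylow_numbers (hG : ¬ IsMulCommutative G) {N : ℕ} (hN : Nat.card G = N) (p a m : ℕ)
    (hp : p.Prime) (hNm : N = p ^ a * m) (hm : ¬ p ∣ m) (ha : a ≠ 0)
    (key : ∀ d ∈ Nat.divisors m, 1 < d → d % p = 1 → (d < 16 → 2 * N ∣ d !) → False) : False :=
  have : Fact p.Prime := ⟨hp⟩
  false_of_sylow_numbers hG hN p a m hNm hm ha fun d hd h1 h2 h3 => key d hd h1 h2 fun _ => h3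

theorem sylow_killed (hG : ¬ IsMulCommutative G) :
    Nat.card G ∉ [3920, 4056, 4116, 4356, 4704, 4732, 4840, 4860, 5096, 5100, 5304, 5500, 5712,
      5720, 5780, 5808, 6084, 6188] := by
  intro h
  simp only [List.mem_cons, List.not_mem_nil, or_false] at h
  rcases h with h | h | h | h | h | h | h | h | h | h | h | h | h | h | h | h | h | h
  · exact sylow_numbers hG h 7 2 80 (by norm_num) (by norm_num) (by norm_num) (by norm_num) (by decide +kernel)
  · exact sylow_numbers hG h 13 2 24 (by norm_num) (by norm_num) (by norm_num) (by norm_num) (by decide +kernel)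
  · exact sylow_numbers hG h 7 3 12 (by norm_num) (by norm_num) (by norm_num) (by norm_num) (by decide +kernel)
  · exact sylow_numbers hG h 11 2 36 (by norm_num) (by norm_num) (by norm_num) (by norm_num) (by decide +kernel)
  · exact sylow_numbers hG h 7 2 96 (by norm_num) (by norm_num) (by norm_num) (by norm_num) (by decide +kernel)
  · exact sylow_numbers hG h 13 2 28 (by norm_num) (by norm_num) (by norm_num) (by norm_num) (by decide +kernel)
  · exact sylow_numbers hG h 11 2 40 (by norm_num) (by norm_num) (by norm_num) (by norm_num) (by decide +kernel)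
  · exact sylow_numbers hG h 3 5 20 (by norm_num) (by norm_num) (by norm_num) (by norm_num) (by decide +kernel)
  · exact sylow_numbers hG h 7 2 104 (by norm_num) (by norm_num) (by norm_num) (by norm_num) (by decide +kernel)
  · exact sylow_numbers hG h 17 1 300 (by norm_num) (by norm_num) (by norm_num) (by norm_num) (by decide +kernel)
  · exact sylow_numbers hG h 13 1 408 (by norm_num) (by norm_num) (by norm_num) (by norm_num) (by decide +kernel)
  · exact sylow_numbers hG h 5 3 44 (by norm_num) (by norm_num) (by norm_num) (by norm_num) (by decide +kernel)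
  · exact sylow_numbers hG h 17 1 336 (by norm_num) (by norm_num) (by norm_num) (by norm_num) (by decide +kernel)
  · exact sylow_numbers hG h 11 1 520 (by norm_num) (by norm_num) (by norm_num) (by norm_num) (by decide +kernel)
  · exact sylow_numbers hG h 17 2 20 (by norm_num) (by norm_num) (by norm_num) (by norm_num) (by decide +kernel)
  · exact sylow_numbers hG h 11 2 48 (by norm_num) (by norm_num) (by norm_num) (by norm_num) (by decide +kernel)
  · exact sylow_numbers hG h 13 2 36 (by norm_num) (by norm_num) (by norm_num) (by norm_num) (by decide +kernel)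
  · exact sylow_numbers hG h 13 1 476 (by norm_num) (by norm_num) (by norm_num) (by norm_num) (by decide +kernel)

theorem options_nil (hG : ¬ IsMulCommutative G) {N : ℕ} (hN : Nat.card G = N) (p m : ℕ)
    (hp : p.Prime) (hNm : N = p * m) (hm : ¬ p ∣ m) (hodd : p ≠ 2)
    (key : primeOptions N p m = []) : False :=
  have : Fact p.Prime := ⟨hp⟩
  false_of_options_nil hG hN p m hNm hm hodd key

theorem options_killed (hG : ¬ IsMulCommutative G) :
    Nat.card G ∉ [3900, 4004, 4312, 4368, 4752, 5200, 5236, 5280, 5508, 5544, 6120, 6160] := by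
  intro h
  simp only [List.mem_cons, List.not_mem_nil, or_false] at h
  rcases h with h | h | h | h | h | h | h | h | h | h | h | h
  · exact options_nil hG h 13 300 (by norm_num) (by norm_num) (by norm_num) (by norm_num) (by decide +kernel)
  · exact options_nil hG h 13 308 (by norm_num) (by norm_num) (by norm_num) (by norm_num) (by decide +kernel)
  · exact options_nil hG h 11 392 (by norm_num) (by norm_num) (by norm_num) (by norm_num) (by decide +kernel)
  · exact options_nil hG h 13 336 (by norm_num) (by norm_num) (by norm_num) (by norm_num) (by decide +kernel)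
  · exact options_nil hG h 11 432 (by norm_num) (by norm_num) (by norm_num) (by norm_num) (by decide +kernel)
  · exact options_nil hG h 13 400 (by norm_num) (by norm_num) (by norm_num) (by norm_num) (by decide +kernel)
  · exact options_nil hG h 11 476 (by norm_num) (by norm_num) (by norm_num) (by norm_num) (by decide +kernel)
  · exact options_nil hG h 11 480 (by norm_num) (by norm_num) (by norm_num) (by norm_num) (by decide +kernel)
  · exact options_nil hG h 17 324 (by norm_num) (by norm_num) (by norm_num) (by norm_num) (by decide +kernel)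
  · exact options_nil hG h 11 504 (by norm_num) (by norm_num) (by norm_num) (by norm_num) (by decide +kernel)
  · exact options_nil hG h 17 360 (by norm_num) (by norm_num) (by norm_num) (by norm_num) (by decide +kernel)
  · exact options_nil hG h 7 880 (by norm_num) (by norm_num) (by norm_num) (by norm_num) (by decide +kernel)

theorem relation_killed (hG : ¬ IsMulCommutative G) :
    Nat.card G ∉ [3696, 4400, 4680, 5600] := by
  intro h
  simp only [List.mem_cons, List.not_mem_nil, or_false] at h
  have := Fact.mk (show Nat.Prime 11 by norm_num)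
  have := Fact.mk (show Nat.Prime 13 by norm_num)
  have := Fact.mk (show Nat.Prime 7 by norm_num)
  rcases h with h | h | h | h
  · exact false_of_options_relation hG h 11 336 2 (by norm_num) (by norm_num) (by norm_num)
      (by decide +kernel) (by norm_num) (by decide +kernel)
  · exact false_of_options_relation hG h 11 400 2 (by norm_num) (by norm_num) (by norm_num)
      (by decide +kernel) (by norm_num) (by decide +kernel)
  · exact false_of_options_relation hG h 13 360 3 (by norm_num) (by norm_num) (by norm_num)
      (by decide +kernel) (by norm_num) (by decide +kernel)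
  · exact false_of_options_relation hG h 7 800 2 (by norm_num) (by norm_num) (by norm_num)
      (by decide +kernel) (by norm_num) (by decide +kernel)

theorem card_ne_4536 (hG : ¬ IsMulCommutative G) : Nat.card G ≠ 4536 := by
  intro hN
  have := Fact.mk (show Nat.Prime 7 by norm_num)
  obtain ⟨P, e, hP, -, he1, hediv, hen, hmod, -⟩ := exists_index_three_prime (p := 7)
    (a := 3) (b := 4) hG Nat.prime_two Nat.prime_three (by norm_num) (by norm_num)
    (by rw [hN]; norm_num)
  have hd : Nat.card (Sylow 7 G) ∈ Nat.divisors 648 :=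
    Nat.mem_divisors.mpr ⟨Dvd.intro_left e (by simpa using hen), by norm_num⟩
  have hle := Nat.le_of_dvd (by norm_num) hediv
  have key : ∀ e ∈ Finset.range 7, e ∣ 6 → 1 < e → ∀ d ∈ Nat.divisors 648,
      e * d = 648 → d % 7 ≠ 1 := by decide +kernel
  exact key e (Finset.mem_range.mpr (by omega)) hediv he1 _ hd (by simpa using hen) hmod

theorem card_ne_inter_orders (hG : ¬ IsMulCommutative G) :
    Nat.card G ≠ 4500 ∧ Nat.card G ≠ 5292 ∧ Nat.card G ≠ 6000 := by
  have := Fact.mk Nat.prime_five
  have := Fact.mk (show Nat.Prime 7 by norm_num)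
  refine ⟨fun h => ?_, fun h => ?_, fun h => ?_⟩
  · exact card_ne_inter hG (p := 5) (a := 3) (m := 36) (by norm_num) h (by norm_num) (by norm_num)
      (by decide +kernel) (by decide +kernel)
  · exact card_ne_inter hG (p := 7) (a := 2) (m := 108) (by norm_num) h (by norm_num) (by norm_num)
      (by decide +kernel) (by decide +kernel)
  · exact card_ne_inter hG (p := 5) (a := 3) (m := 48) (by norm_num) h (by norm_num) (by norm_num)
      (by decide +kernel) (by decide +kernel)

theorem dvd_big {n : ℕ} (hn : n ≠ 0) (hk : n < 2 ^ 13)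
    (h : ∀ p, p.Prime → p ∣ n → p ≤ 17) : n ∣ 510510 ^ 13 := by
  rw [← Nat.factorization_le_iff_dvd hn (pow_ne_zero _ (by norm_num))]
  intro p
  by_cases hp : p.Prime ∧ p ∣ n
  · have h17 := h p hp.1 hp.2
    have h1 : 1 ≤ (Nat.factorization 510510) p := by
      refine (hp.1.dvd_iff_one_le_factorization (by norm_num)).1 ?_
      have := hp.1.two_le
      have := hp.1
      interval_cases p <;> norm_num at *
    rw [Nat.factorization_pow, Finsupp.smul_apply, smul_eq_mul]
    calc n.factorization p ≤ 13 := by
          have h2 : p ^ n.factorization p ≤ n := Nat.le_of_dvd (by omega) (Nat.ordProj_dvd n p)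
          have h3 : 2 ^ n.factorization p ≤ n :=
            (Nat.pow_le_pow_left hp.1.two_le _).trans h2
          exact ((Nat.pow_lt_pow_iff_right (by norm_num : 1 < 2)).1 (h3.trans_lt hk)).le
      _ = 13 * 1 := rfl
      _ ≤ _ := Nat.mul_le_mul_left 13 h1
  · rcases not_and_or.1 hp with hp | hp
    · simp [Nat.factorization_eq_zero_of_not_prime n hp]
    · simp [Nat.factorization_eq_zero_of_not_dvd hp]

/-- A non-abelian finite simple group of order greater than 3640 and at most 6232 has order 4080, 5616, 6048 or 6072. -/
theorem result {G : Type*} [Group G] [Finite G] [IsSimpleGroup G] (hG : ¬ IsMulCommutative G) (h1 : 3640 < Nat.card G) (h2 : Nat.card G ≤ 6232) : Nat.card G = 4080 ∨ Nat.card G = 5616 ∨ Nat.card G = 6048 ∨ Nat.card G = 6072 := by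
  classical
  have hGc : ¬ IsCyclic G := fun hc => hG hc.isMulCommutative
  have hbig : ∀ p, p.Prime → p ∣ Nat.card G → 17 ≤ p → Nat.card G < p ^ 3 →
      Nat.card G = 4080 ∨ Nat.card G = 6072 := by
    intro p hp hd h17 h3
    rcases card_of_large_prime hGc hp (by omega) hd h3 with hc | ⟨m, hpm, hc⟩
    · have h23 : p ≤ 23 := by
        by_contra hlt
        push Not at hlt
        have h24 : 24 * (24 ^ 2 - 1) ≤ p * (p ^ 2 - 1) :=
          Nat.mul_le_mul hlt (Nat.sub_le_sub_right (Nat.pow_le_pow_left hlt 2) 1)
        omega
      interval_cases p <;> first | (norm_num at hp; done) | (norm_num at hc; omega)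
    · left
      have h4 : 4 ≤ m := by
        by_contra hlt
        have := Nat.pow_le_pow_right two_pos (show m ≤ 3 by omega)
        omega
      have h4' : m ≤ 4 := by
        by_contra hlt
        have h32 : 2 ^ 5 ≤ 2 ^ m := Nat.pow_le_pow_right two_pos (by omega)
        have h255 : 32 * (32 ^ 2 - 1) ≤ 2 ^ m * ((2 ^ m) ^ 2 - 1) :=
          Nat.mul_le_mul h32 (Nat.sub_le_sub_right (Nat.pow_le_pow_left h32 2) 1)
        omega
      obtain rfl : m = 4 := le_antisymm h4' h4
      rw [hc]
      norm_num
  by_cases hp : ∃ p, p.Prime ∧ p ∣ Nat.card G ∧ 17 ≤ p ∧ Nat.card G < p ^ 3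
  · obtain ⟨p, hp1, hp2, hp3, hp4⟩ := hp
    have := hbig p hp1 hp2 hp3 hp4
    omega
  push Not at hp
  have hsmall : ∀ p, p.Prime → p ∣ Nat.card G → p ≤ 17 := fun p hp' hd => by
    by_contra h17
    push Not at h17
    have h19 : 19 ≤ p := by
      by_contra hlt
      have : p = 18 := by omega
      rw [this] at hp'
      norm_num at hp'
    have := hp p hp' hd (by omega)
    have := Nat.pow_le_pow_left h19 3
    omega
  have h17 : 17 ∣ Nat.card G → 4913 ≤ Nat.card G := fun hd => by
    have := hp 17 (by norm_num) hd le_rfl
    omega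
  have heven : 2 ∣ Nat.card G := by
    by_contra h2'
    haveI : Group.IsSolvable G := CfsgLib.FT.isSolvable_of_odd (Nat.odd_iff.2 (by omega))
    exact hG ⟨⟨fun x y => IsSimpleGroup.comm_iff_isSolvable.2 inferInstance x y⟩⟩
  have h4 := four_dvd_of_even hG (even_iff_two_dvd.2 heven)
  have hdiv := dvd_big (n := Nat.card G) Nat.card_pos.ne' (by omega) hsmall
  obtain ⟨i, hi⟩ : ∃ i, Nat.card G = 3641 + i := ⟨Nat.card G - 3641, by omega⟩
  have hmem := left_over i (List.mem_range.mpr (by omega))
    ⟨hi ▸ h4, hi ▸ hdiv, ?_, ?_, by rw [← hi]; by_cases h : 17 ∣ Nat.card G <;> [exact Or.inr (h17 h); exact Or.inl h]⟩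
  rotate_left
  · rw [List.all_eq_true]
    intro q hq
    rw [Bool.not_eq_true', decide_eq_false_iff_not, ← hi]
    refine not_dvd_two_primes hG Nat.prime_two ?_ 13
    simp only [List.mem_cons, List.not_mem_nil, or_false] at hq
    rcases hq with rfl | rfl | rfl | rfl | rfl | rfl <;> norm_num
  · rw [List.all_eq_true]
    intro pr hpr
    rw [Bool.not_eq_true', decide_eq_false_iff_not, ← hi]
    intro hd
    simp only [List.mem_cons, List.not_mem_nil, or_false] at hpr
    have : Nat.card G = 60 ∨ Nat.card G = 168 := by
      rcases hpr with rfl | rfl | rfl | rfl | rfl | rfl | rfl | rfl | rfl | rfl | rfl | rfl | rfl |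
        rfl | rfl <;>
      exact S0496.p_r_two_pow hG (by norm_num) (by norm_num) (by norm_num) (by norm_num)
        (by norm_num) hd
    omega
  rw [← hi] at hmem
  have := sylow_killed hG
  have := options_killed hG
  have := relation_killed hG
  obtain ⟨_, _, _⟩ := card_ne_inter_orders hG
  have := card_ne_3780 hG
  have := card_ne_3960 hG
  have := card_ne_4200 hG
  have := card_ne_4212 hG
  have := card_ne_4536 hG
  have := card_ne_4620 hG
  have := card_ne_4800 hG
  have := card_ne_4900 hG
  have := card_ne_5148 hG
  have := card_ne_5400 hG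
  have := card_ne_5460 hG
  have := card_ne_5880 hG
  have := card_ne_5940 hG
  have := S0975.result (G := G)
  have := S0976.result (G := G)
  have := S0977.result (G := G)
  have := S0978.result (G := G)
  have := S0980.result (G := G)
  simp only [List.mem_cons, List.not_mem_nil, or_false, not_or] at *
  omega

end Cfsg.Agent.S0983
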