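import Cfsg.Statements.S1001
import Cfsg.Agent.Lib.Blocks.ThreePrimeSimple
import Cfsg.Agent.Lib.Chars.Burnside
import Cfsg.Agent.Lib.Small.Basic

set_option autoImplicit false
open Cfsg

namespace Cfsg.Agent.S1001

/-- In a finite simple group whose order has the form p * 3^a * 2^b with p prime, the centralizer of any element of order p is the cyclic group it generates. -/
theorem result {G : Type*} [Group G] [Finite G] [IsSimpleGroup G] (p a b : ℕ) (hp : p.Prime) (hG : Nat.card G = p * 3 ^ a * 2 ^ b) (x : G) (hx : orderOf x = p) : Subgroup.centralizer ({x} : Set G) = Subgroup.zpowers x := by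
  have hpf := Fact.mk hp
  have hzc : Nat.card (Subgroup.zpowers x) = p := by rw [Nat.card_zpowers, hx]
  by_cases hcase : p = 2 ∨ p = 3
  · -- Burnside: the group is cyclic of prime order
    have hsolv : Group.IsSolvable G := by
      rcases hcase with rfl | rfl
      · exact CfsgLib.Chars.isSolvable_of_card_eq_pow_mul_pow (p := 3) (q := 2) (a := a)
          (b := b + 1) Nat.prime_three Nat.prime_two (by rw [hG]; ring)
      · exact CfsgLib.Chars.isSolvable_of_card_eq_pow_mul_pow (p := 3) (q := 2) (a := a + 1)
          (b := b) Nat.prime_three Nat.prime_two (by rw [hG]; ring)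
    have hcomm : IsMulCommutative G :=
      ⟨⟨IsSimpleGroup.comm_iff_isSolvable.mpr hsolv⟩⟩
    have hprime : (Nat.card G).Prime := by
      by_contra h
      exact CfsgLib.Small.not_isMulCommutative_of_card h hcomm
    have htop : Subgroup.zpowers x = ⊤ := by
      refine Subgroup.eq_top_of_card_eq _ ?_
      rw [hzc]
      exact (Nat.prime_dvd_prime_iff_eq hp hprime).mp (hx ▸ orderOf_dvd_natCard x)
    rw [htop]
    refine top_le_iff.mp fun g _ => ?_
    rw [Subgroup.mem_centralizer_singleton_iff]
    exact hcomm.is_comm.comm g x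
  · push Not at hcase
    obtain ⟨S, hS⟩ := (IsPGroup.of_card (n := 1) (by rw [hzc, pow_one] :
      Nat.card (Subgroup.zpowers x) = p ^ 1)).exists_le_sylow
    have hnd : ¬ p ∣ 3 ^ a * 2 ^ b := fun h => by
      rcases hp.dvd_mul.mp h with h | h
      · exact hcase.2 ((Nat.prime_dvd_prime_iff_eq hp Nat.prime_three).mp (hp.dvd_of_dvd_pow h))
      · exact hcase.1 ((Nat.prime_dvd_prime_iff_eq hp Nat.prime_two).mp (hp.dvd_of_dvd_pow h))
    have hSc : Nat.card (S : Subgroup G) = p := by
      simpa using CfsgLib.Small.card_sylow_eq (p := p) 1 (3 ^ a * 2 ^ b)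
        (by rw [hG]; ring) hnd S
    have heq : Subgroup.zpowers x = (S : Subgroup G) :=
      Subgroup.eq_of_le_of_card_ge hS (by omega)
    have h := CfsgLib.Blocks.centralizer_sylow_three_prime (G := G) (a := a) (b := b)
      Nat.prime_three Nat.prime_two hcase.2.symm hcase.1.symm (by rw [hG]; ring) S
    rw [heq, ← h]
    show Subgroup.centralizer {x} = Subgroup.centralizer ((S : Subgroup G) : Set G)
    rw [← heq, Subgroup.zpowers_eq_closure, Subgroup.centralizer_closure]

end Cfsg.Agent.S1001
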