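import Cfsg.Statements.S3171
import Cfsg.Agent.Lib.LocalEven.M24SylTwoQuot

set_option autoImplicit false
open Cfsg

namespace Cfsg.Agent.S3171

open CfsgLib.LocalEven.M24Syl CfsgLib.Spor

/-- Let P be a Sylow 2-subgroup of the Mathieu group of degree 24 and S the quotient of P by its centre. Then the centre of every maximal subgroup of S has order at most 8; S has an elementary abelian subgroup of order 64; and S has only one abelian subgroup of order 64. -/
theorem result (P : Sylow 2 ↥Cfsg.M24) :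
    (∀ M : Subgroup (↥(P : Subgroup ↥Cfsg.M24) ⧸ Subgroup.center ↥(P : Subgroup ↥Cfsg.M24)), IsCoatom M →
        Nat.card ↥(Subgroup.center ↥M) ≤ 8) ∧
      (∃ A : Subgroup (↥(P : Subgroup ↥Cfsg.M24) ⧸ Subgroup.center ↥(P : Subgroup ↥Cfsg.M24)),
        Cfsg.IsElementaryAbelian 2 A ∧ Nat.card ↥A = 64) ∧
      ∀ A B : Subgroup (↥(P : Subgroup ↥Cfsg.M24) ⧸ Subgroup.center ↥(P : Subgroup ↥Cfsg.M24)),
        IsMulCommutative ↥A → Nat.card ↥A = 64 → IsMulCommutative ↥B → Nat.card ↥B = 64 → A = B := by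
  haveI : Fact (Nat.Prime 2) := ⟨Nat.prime_two⟩
  have hc0 : Nat.card ↥(T.subgroupOf M24) = 2 ^ 10 := by
    rw [Nat.card_congr (Subgroup.subgroupOfEquivOfLe (genGroup_le _)).toEquiv,
      natCard_genGroup syl2_listed]
    norm_num
  let P0 : Sylow 2 ↥Cfsg.M24 := (IsPGroup.of_card hc0).toSylow (by
    have h := (T.subgroupOf M24).card_mul_index
    rw [hc0, natCard_M24] at h
    omega)
  let φ : ↥(P : Subgroup ↥Cfsg.M24) ≃* ↥T :=
    (Sylow.equiv P P0).trans (Subgroup.subgroupOfEquivOfLe (genGroup_le _))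
  let e : (↥(P : Subgroup ↥Cfsg.M24) ⧸ Subgroup.center ↥(P : Subgroup ↥Cfsg.M24)) ≃* Q :=
    QuotientGroup.congr _ _ φ (by
      ext x
      rw [Subgroup.mem_map, Subgroup.mem_center_iff]
      constructor
      · rintro ⟨y, hy, rfl⟩ g
        rw [Subgroup.mem_center_iff] at hy
        obtain ⟨g, rfl⟩ := φ.surjective g
        exact (map_mul φ g y).symm.trans ((congrArg φ (hy g)).trans (map_mul φ y g))
      · intro h
        exact ⟨φ.symm x, Subgroup.mem_center_iff.2 fun g => φ.injective (by simpa using h (φ g)),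
          φ.apply_symm_apply x⟩)
  obtain ⟨A, a, r, ha, hr, hA, hAc, hAe, rA, hcov⟩ := exists_space
  have hcard : ∀ H : Subgroup (↥(P : Subgroup ↥Cfsg.M24) ⧸
      Subgroup.center ↥(P : Subgroup ↥Cfsg.M24)),
      Nat.card ↥(H.map e.toMonoidHom) = Nat.card ↥H := fun H =>
    (Nat.card_congr (e.subgroupMap H).toEquiv).symm
  refine ⟨fun M hM => ?_, ⟨A.map e.symm.toMonoidHom, ⟨⟨⟨?_⟩⟩, ?_⟩, ?_⟩, fun B C hB hBc hC hCc => ?_⟩
  · have h := max_centre ha hr hA hcov (M.map e.toMonoidHom)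
      ((OrderIso.isCoatom_iff e.mapSubgroup M).2 hM)
    exact le_of_eq_of_le (Nat.card_congr (Subgroup.centerCongr (e.subgroupMap M)).toEquiv) h
  · rintro ⟨_, x, hx, rfl⟩ ⟨_, y, hy, rfl⟩
    refine Subtype.ext ?_
    have h := congrArg Subtype.val (hAe.1.is_comm.comm (⟨x, hx⟩ : ↥A) ⟨y, hy⟩)
    exact (map_mul e.symm x y).symm.trans ((congrArg e.symm h).trans (map_mul e.symm y x))
  · rintro _ ⟨x, hx, rfl⟩
    rw [← map_pow, hAe.2 x hx, map_one]
  · rw [← hAc]
    exact (Nat.card_congr (e.symm.subgroupMap A).toEquiv).symm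
  · have key : ∀ H : Subgroup (↥(P : Subgroup ↥Cfsg.M24) ⧸
        Subgroup.center ↥(P : Subgroup ↥Cfsg.M24)),
        IsMulCommutative ↥H → Nat.card ↥H = 64 → H.map e.toMonoidHom = A := fun H hH hHc =>
      abelian_eq ha hr hA hAc
        (fun x hx y hy => congrArg Subtype.val (hAe.1.is_comm.comm (⟨x, hx⟩ : ↥A) ⟨y, hy⟩))
        rA hcov ⟨⟨by
          rintro ⟨_, u, hu, rfl⟩ ⟨_, w, hw, rfl⟩
          refine Subtype.ext ?_
          have h := congrArg Subtype.val (hH.is_comm.comm (⟨u, hu⟩ : ↥H) ⟨w, hw⟩)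
          exact (map_mul e u w).symm.trans ((congrArg e h).trans (map_mul e w u))⟩⟩
        (by rw [hcard, hHc])
    exact Subgroup.map_injective e.injective ((key B hB hBc).trans (key C hC hCc).symm)

end Cfsg.Agent.S3171
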