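import Cfsg.Statements.S0829
import Cfsg.Agent.Lib.Geometry.HermCount

set_option autoImplicit false
open Cfsg CfsgLib.Geometry

namespace Cfsg.Agent.S0829

/-- The unitary quadrangle of PSU_4(q): with |F| = q², the number of 2-dimensional subspaces of F^4 on which the Hermitian form Σ x_i y_i^q vanishes is (q + 1)(q³ + 1). -/
theorem result {F : Type*} [Field F] [Fintype F] {q : ℕ} (hF : Fintype.card F = q ^ 2) : Nat.card {W : Submodule F (Fin 4 → F) // Module.finrank F W = 2 ∧ ∀ u ∈ W, ∀ v ∈ W, Cfsg.hermForm 4 F q u v = 0} = (q + 1) * (q ^ 3 + 1) := by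
  have h := CfsgLib.Geometry.HermCount.card_ti_planes (F := F) (q := q) (by rw [Nat.card_eq_fintype_card, hF]) 2
  have hq : 2 ≤ q := CfsgLib.Classical.two_le_q (F := F) (by rw [Nat.card_eq_fintype_card, hF])
  have e4 := (CfsgLib.Classical.normCount_closed (F := F) (q := q) (by rw [Nat.card_eq_fintype_card, hF]) 4).1
  have e2 := (CfsgLib.Classical.normCount_closed (F := F) (q := q) (by rw [Nat.card_eq_fintype_card, hF]) 2).1
  have h4 : (CfsgLib.Classical.normCount F q 4 0 : ℤ) = (q : ℤ) ^ 7 + q ^ 4 - q ^ 3 :=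
    mul_left_cancel₀ (show (q : ℤ) ≠ 0 by omega) (by rw [e4]; ring)
  have h2 : (CfsgLib.Classical.normCount F q 2 0 : ℤ) = (q : ℤ) ^ 3 + q ^ 2 - q :=
    mul_left_cancel₀ (show (q : ℤ) ≠ 0 by omega) (by rw [e2]; ring)
  have p1' : 1 < q ^ 4 := Nat.one_lt_pow (by norm_num) (by omega)
  have p1 : 1 ≤ q ^ 4 := p1'.le
  have p2 : q ^ 2 < q ^ 4 := Nat.pow_lt_pow_right (by omega) (by norm_num)
  have n4 : 1 ≤ CfsgLib.Classical.normCount F q 4 0 := by
    have : q ^ 3 ≤ q ^ 4 := Nat.pow_le_pow_right (by omega) (by norm_num)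
    have : 1 ≤ q ^ 7 := Nat.one_le_pow _ _ (by omega)
    zify at *; omega
  have n2 : 1 ≤ CfsgLib.Classical.normCount F q 2 0 := by
    have : q ≤ q ^ 2 := Nat.le_self_pow (by norm_num) q
    have : 1 ≤ q ^ 3 := Nat.one_le_pow _ _ (by omega)
    zify at *; omega
  refine Nat.eq_of_mul_eq_mul_right (Nat.mul_pos (by omega : 0 < q ^ 4 - 1) (Nat.sub_pos_of_lt p2)) (h.trans ?_)
  zify [n4, p1, p2.le, Nat.le_mul_of_pos_right (q ^ 2) n2] at *
  rw [h4, h2]
  ring

end Cfsg.Agent.S0829
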