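import Cfsg.Statements.S3761
import Cfsg.Agent.Lib.PLocal.CyclicMaxTwo
import Cfsg.Agent.Lib.Classical.Dihedral
import Cfsg.Agent.Lib.PGroups.UniqueOrderP
import Cfsg.Agent.Lib.PGroups.Basic
open Subgroup
open scoped commutatorElement

set_option autoImplicit false
open Cfsg

namespace Cfsg.Agent.S3761

/-- Let G be a finite non-abelian p-group with a cyclic normal subgroup U of order p^n such that C_G(U) = U. Then either p = 2 and G is dihedral, generalized quaternion or semidihedral of order 2^(n+1); or, writing U₁ for the subgroup generated by the p-th powers of elements of U and M = C_G(U₁), the subgroup U has index p in M and the subgroup Ω₁(M) generated by the elements of M of order dividing p is elementary abelian of order p² and characteristic in G. -/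
theorem result {G : Type*} [Group G] [Finite G] {p : ℕ} [Fact p.Prime] (hG : IsPGroup p G) (hna : ¬ IsMulCommutative G) (U : Subgroup G) [U.Normal] (hU : IsCyclic U) (n : ℕ) (hUn : Nat.card U = p ^ n) (hC : Subgroup.centralizer (U : Set G) = U) : (p = 2 ∧ Nat.card G = 2 ^ (n + 1) ∧ ((∃ m : ℕ, Nonempty (G ≃* DihedralGroup m)) ∨ (∃ m : ℕ, Nonempty (G ≃* QuaternionGroup m)) ∨ Cfsg.IsQuasiDihedral G)) ∨ (U.relIndex (Subgroup.centralizer (Cfsg.powerClosure p 1 U : Set G)) = p ∧ Cfsg.IsElementaryAbelian p (Cfsg.omegaOne p (Subgroup.centralizer (Cfsg.powerClosure p 1 U : Set G))) ∧ Nat.card ↥(Cfsg.omegaOne p (Subgroup.centralizer (Cfsg.powerClosure p 1 U : Set G))) = p ^ 2 ∧ (Cfsg.omegaOne p (Subgroup.centralizer (Cfsg.powerClosure p 1 U : Set G))).Characteristic) := by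
  classical
  have hp : p.Prime := Fact.out
  obtain ⟨a, rfl⟩ := CfsgLib.PLocal.exists_zpowers_eq hU
  have hoa : orderOf a = p ^ n := by rw [← Nat.card_zpowers, hUn]
  have hP : ((p ^ n : ℕ) : ℤ) = (p : ℤ) ^ n := Nat.cast_pow p n
  have hmod : ∀ i j : ℤ, a ^ i = a ^ j ↔ (p : ℤ) ^ n ∣ j - i := by
    intro i j
    rw [zpow_eq_zpow_iff_modEq, hoa, Int.modEq_iff_dvd, hP]
  have hz0 : ∀ i : ℤ, a ^ i = 1 ↔ (p : ℤ) ^ n ∣ i := by
    intro i
    rw [← zpow_zero a, hmod, zero_sub, dvd_neg]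
  have hrex : ∀ g : G, ∃ r : ℤ, g * a * g⁻¹ = a ^ r := fun g =>
    (mem_zpowers_iff.1 (‹(zpowers a).Normal›.conj_mem a (mem_zpowers a) g)).imp fun r h => h.symm
  choose R hR using hrex
  have hRz : ∀ (g : G) (i : ℤ), g * a ^ i * g⁻¹ = a ^ (R g * i) := fun g i => by
    rw [← conj_zpow, hR, ← zpow_mul]
  have hmem : ∀ g : G, g ∈ zpowers a ↔ (p : ℤ) ^ n ∣ R g - 1 := by
    intro g
    rw [← hmod, zpow_one, ← hR g]
    constructor
    · intro hg
      obtain ⟨k, rfl⟩ := mem_zpowers_iff.1 hg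
      rw [((Commute.refl a).zpow_left k).eq, mul_inv_cancel_right]
    · intro h
      rw [← hC, mem_centralizer_iff]
      intro u hu
      obtain ⟨k, rfl⟩ := mem_zpowers_iff.1 hu
      exact ((show Commute g a from mul_inv_eq_iff_eq_mul.1 h.symm).zpow_right k).symm.eq
  have hRmul : ∀ g h : G, (p : ℤ) ^ n ∣ R g * R h - R (g * h) := by
    intro g h
    rw [← hmod]
    calc a ^ R (g * h) = g * (h * a * h⁻¹) * g⁻¹ := by rw [← hR]; group
      _ = _ := by rw [hR h, hRz g (R h)]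
  have hRpow : ∀ (g : G) (k : ℕ), (p : ℤ) ^ n ∣ R g ^ k - R (g ^ k) := by
    intro g k
    induction k with
    | zero =>
      rw [pow_zero, pow_zero, ← dvd_neg, neg_sub]
      exact (hmem 1).1 (one_mem _)
    | succ k ih =>
      have h1 := hRmul (g ^ k) g
      rw [← pow_succ] at h1
      have h2 := dvd_add (ih.mul_right (R g)) h1
      rw [show (R g ^ k - R (g ^ k)) * R g + (R (g ^ k) * R g - R (g ^ (k + 1))) =
        R g ^ (k + 1) - R (g ^ (k + 1)) by ring] at h2
      exact h2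
  have hR1 : 1 ≤ n → ∀ g : G, (p : ℤ) ∣ R g - 1 := by
    intro hn1 g
    obtain ⟨k, hk⟩ := hG g
    have h1 : (p : ℤ) ∣ R g ^ p ^ k - 1 := by
      have h2 := dvd_add (hRpow g (p ^ k)) ((hmem (g ^ p ^ k)).1 (by rw [hk]; exact one_mem _))
      rw [sub_add_sub_cancel] at h2
      exact (dvd_pow_self _ (by omega)).trans h2
    rw [← ZMod.intCast_eq_intCast_iff_dvd_sub] at h1 ⊢
    rw [Int.cast_pow, ZMod.pow_card_pow] at h1
    exact h1
  obtain ⟨g₀, hg₀⟩ : ∃ g : G, g ∉ zpowers a := by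
    by_contra h
    push Not at h
    refine hna ⟨⟨fun x y => ?_⟩⟩
    obtain ⟨i, rfl⟩ := mem_zpowers_iff.1 (h x)
    obtain ⟨j, rfl⟩ := mem_zpowers_iff.1 (h y)
    rw [← zpow_add, ← zpow_add, add_comm]
  have hn2 : 2 ≤ n := by
    by_contra hlt
    refine hg₀ ((hmem g₀).2 ?_)
    rcases (show n = 0 ∨ n = 1 by omega) with rfl | rfl
    · rw [pow_zero]; exact one_dvd _
    · rw [pow_one]; exact hR1 le_rfl g₀
  obtain ⟨N, rfl⟩ : ∃ N, n = N + 2 := ⟨n - 2, by omega⟩
  replace hR1 := hR1 (by omega)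
  have hstep : ∀ g : G, g ∉ zpowers a → ∃ j : ℕ, g ^ p ^ j ∉ zpowers a ∧ (g ^ p ^ j) ^ p ∈ zpowers a := by
    intro g hg
    have hex : ∃ k, g ^ p ^ k ∈ zpowers a := (hG g).imp fun k hk => by rw [hk]; exact one_mem _
    have hpos : Nat.find hex ≠ 0 := fun h => hg (by simpa [h] using Nat.find_spec hex)
    refine ⟨Nat.find hex - 1, Nat.find_min hex (by omega), ?_⟩
    rw [← pow_mul, ← pow_succ, Nat.sub_add_cancel (by omega)]
    exact Nat.find_spec hex
  by_cases hB : ∃ g : G, g ∉ zpowers a ∧ (p : ℤ) ^ (N + 1) ∣ R g - 1 ∧ (p = 2 → 1 ≤ N)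
  · -- the generic case
    right
    obtain ⟨g, hg, ⟨s, hs⟩, hNp⟩ := hB
    have hps : ¬ (p : ℤ) ∣ s := fun ⟨w, hw⟩ => hg ((hmem g).2 ⟨w, by rw [hs, hw]; ring⟩)
    -- geometric sums
    have hsum : ∀ w : ℤ, ∃ u : ℤ, ¬ (p : ℤ) ∣ u ∧
        ∑ t ∈ Finset.range p, (1 + (p : ℤ) ^ (N + 1) * w) ^ t = p * u := by
      intro w
      rcases hp.eq_two_or_odd' with h2 | hodd
      · subst h2
        refine ⟨1 + 2 ^ N * w, ?_, ?_⟩
        · obtain ⟨M, rfl⟩ : ∃ M, N = M + 1 := ⟨N - 1, by have := hNp rfl; omega⟩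
          intro hd
          have h2 : (2 : ℤ) ∣ 2 ^ (M + 1) * w := ⟨2 ^ M * w, by ring⟩
          have h3 := dvd_sub hd h2
          norm_num at h3
        · rw [Finset.sum_range_succ, Finset.sum_range_one]; push_cast; ring
      · have h1 := odd_sq_dvd_geom_sum₂_sub (R := ℤ) (a := 1) (b := (p : ℤ) ^ N * w) hodd
        simp only [one_pow, mul_one] at h1
        obtain ⟨c, hc⟩ := h1
        refine ⟨1 + p * c, fun hd => ?_, ?_⟩
        · have h3 := dvd_sub hd (dvd_mul_right (p : ℤ) c)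
          rw [add_sub_cancel_right] at h3
          exact hp.ne_one (Nat.dvd_one.1 (Int.natCast_dvd_natCast.1 (by exact_mod_cast h3)))
        · rw [show 1 + (p : ℤ) ^ (N + 1) * w = 1 + p * (p ^ N * w) by ring]
          linear_combination hc
    have hprod : ∀ (h : G) (j : ℤ) (k : ℕ),
        (a ^ j * h) ^ k = a ^ (j * ∑ t ∈ Finset.range k, R h ^ t) * h ^ k := by
      intro h j k
      induction k with
      | zero => simp
      | succ k ih =>
        have e1 : (∑ t ∈ Finset.range (k + 1), R h ^ t) = R h * (∑ t ∈ Finset.range k, R h ^ t) + 1 := by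
          rw [geom_sum_succ]
        calc (a ^ j * h) ^ (k + 1) = a ^ j * (h * a ^ (j * ∑ t ∈ Finset.range k, R h ^ t) * h⁻¹) * (h * h ^ k) := by
              rw [pow_succ', ih]; group
          _ = _ := by
              rw [hRz, ← zpow_add, ← pow_succ', e1]
              congr 2
              ring
    have hR0 : R g = 1 + (p : ℤ) ^ (N + 1) * s := by rw [← hs]; ring
    have hRbase : ∀ j : ℕ, ∃ w : ℤ, (p : ℤ) ^ (N + 2) ∣ (R g ^ j - (1 + (p : ℤ) ^ (N + 1) * w)) ∧
        (p : ℤ) ∣ w - j * s := by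
      intro j
      refine ⟨j * s, ?_, by rw [sub_self]; exact dvd_zero _⟩
      induction j with
      | zero => simp
      | succ j ih =>
        obtain ⟨c, hc⟩ := ih
        refine ⟨c * R g + (p : ℤ) ^ N * j * s * s, ?_⟩
        have hc' : R g ^ j = 1 + (p : ℤ) ^ (N + 1) * (j * s) + (p : ℤ) ^ (N + 2) * c := by linear_combination hc
        rw [pow_succ, hc', hR0]
        push_cast
        ring
    -- an element `b` of order `p`
    obtain ⟨u₀, hu₀, hsum₀⟩ := hsum s
    rw [← hR0] at hsum₀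
    have hgp : g ^ p ∈ zpowers a := by
      rw [hmem]
      obtain ⟨w, ⟨c, hc⟩, ⟨e, he⟩⟩ := hRbase p
      have h1 : (p : ℤ) ^ (N + 2) ∣ R g ^ p - 1 :=
        ⟨c + (e + s), by rw [show w = p * e + p * s by linear_combination he] at hc; linear_combination hc⟩
      have h2 := dvd_sub h1 (hRpow g p)
      rw [show R g ^ p - 1 - (R g ^ p - R (g ^ p)) = R (g ^ p) - 1 by ring] at h2
      exact h2
    obtain ⟨i, hi⟩ := mem_zpowers_iff.1 hgp
    obtain ⟨i', rfl⟩ : (p : ℤ) ∣ i := by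
      have h1 : a ^ (R g * i) = a ^ i := by rw [← hRz, hi]; group
      rw [hmod, show i - R g * i = -((p : ℤ) ^ (N + 1) * (s * i)) by rw [hR0]; ring, dvd_neg,
        pow_succ _ (N + 1), mul_dvd_mul_iff_left (pow_ne_zero _ (Int.natCast_ne_zero.2 hp.ne_zero))] at h1
      exact ((Nat.prime_iff_prime_int.1 hp).dvd_mul.1 h1).resolve_left hps
    obtain ⟨v, w', hvw⟩ : IsCoprime ((p : ℤ) ^ (N + 2)) u₀ :=
      IsCoprime.pow_left ((Nat.prime_iff_prime_int.1 hp).coprime_iff_not_dvd.2 hu₀)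
    set b := a ^ (-(i' * w')) * g with hbdef
    have hbp : b ^ p = 1 := by
      rw [hbdef, hprod, hsum₀, ← hi, ← zpow_add, hz0]
      exact ⟨i' * v * p, by linear_combination (-(i' * p)) * hvw⟩
    have hbU : b ∉ zpowers a := fun h => hg ((mul_mem_cancel_left (zpow_mem (mem_zpowers a) _)).1 h)
    have hb1 : b ≠ 1 := fun h => hbU (h ▸ one_mem _)
    have hbo : orderOf b = p := orderOf_eq_prime hbp hb1
    have hbconj : ∀ (j : ℕ) (i : ℤ), b ^ j * a ^ i * (b ^ j)⁻¹ = a ^ (R g ^ j * i) := by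
      intro j i
      induction j with
      | zero => simp
      | succ j ih =>
        rw [pow_succ', show b * b ^ j * a ^ i * (b * b ^ j)⁻¹ = b * (b ^ j * a ^ i * (b ^ j)⁻¹) * b⁻¹ by group,
          ih, hbdef]
        have hsplit : a ^ (-(i' * w')) * g * a ^ (R g ^ j * i) * (a ^ (-(i' * w')) * g)⁻¹ =
            a ^ (-(i' * w')) * (g * a ^ (R g ^ j * i) * g⁻¹) * (a ^ (-(i' * w')))⁻¹ := by group
        rw [hsplit, hRz, ← zpow_add, ← zpow_neg, ← zpow_add]
        congr 1
        ring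
    set U1 := Cfsg.powerClosure p 1 (zpowers a) with hU1
    set M := Subgroup.centralizer (U1 : Set G) with hM
    have hU1eq : U1 = zpowers (a ^ p) := by
      refine le_antisymm ((closure_le _).2 ?_) (zpowers_le.2 (subset_closure ⟨a, mem_zpowers a, by rw [pow_one]⟩))
      rintro _ ⟨x, hx, rfl⟩
      obtain ⟨k, rfl⟩ := mem_zpowers_iff.1 hx
      exact mem_zpowers_iff.2 ⟨k, by rw [pow_one, ← zpow_natCast a, ← zpow_natCast (a ^ k), ← zpow_mul, ← zpow_mul, mul_comm]⟩
    have hMiff : ∀ x : G, x ∈ M ↔ (p : ℤ) ^ (N + 1) ∣ R x - 1 := by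
      intro x
      rw [hM, hU1eq, zpowers_eq_closure, centralizer_closure, mem_centralizer_singleton_iff,
        ← mul_inv_eq_iff_eq_mul, ← zpow_natCast, hRz, hmod,
        show (p : ℤ) - R x * p = -((R x - 1) * p) by ring, dvd_neg, pow_succ _ (N + 1),
        mul_dvd_mul_iff_right (Int.natCast_ne_zero.2 hp.ne_zero)]
    have hdecomp : ∀ x ∈ M, ∃ (i : ℤ) (j : ℕ), x = a ^ i * b ^ j := by
      intro x hx
      obtain ⟨t, ht⟩ := (hMiff x).1 hx
      obtain ⟨j, hj⟩ : ∃ j : ℕ, (p : ℤ) ∣ t - j * s := by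
        obtain ⟨u, v', huv⟩ : IsCoprime (p : ℤ) s := (Nat.prime_iff_prime_int.1 hp).coprime_iff_not_dvd.2 hps
        refine ⟨((t * v') % (p : ℤ)).toNat, ?_⟩
        rw [Int.toNat_of_nonneg (Int.emod_nonneg _ (Int.natCast_ne_zero.2 hp.ne_zero)), Int.emod_def]
        exact ⟨t * u + s * (t * v' / p), by linear_combination (-t) * huv⟩
      obtain ⟨w, ⟨c, hc⟩, ⟨e, he⟩⟩ := hRbase j
      obtain ⟨f, hf⟩ := hj
      have hsame : a ^ R x = a ^ (R g ^ j) :=
        (hmod _ _).2 ⟨c + e - f, by linear_combination hc - ht + (p : ℤ) ^ (N + 1) * he - (p : ℤ) ^ (N + 1) * hf⟩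
      have hcen : (b ^ j)⁻¹ * x ∈ zpowers a := by
        rw [← hC, mem_centralizer_iff]
        intro u hu
        obtain ⟨k, rfl⟩ := mem_zpowers_iff.1 hu
        have h1 : b ^ j * a ^ k * (b ^ j)⁻¹ = x * a ^ k * x⁻¹ := by
          rw [hbconj, hRz, zpow_mul, zpow_mul, hsame]
        calc a ^ k * ((b ^ j)⁻¹ * x) = (b ^ j)⁻¹ * (b ^ j * a ^ k * (b ^ j)⁻¹) * x := by group
          _ = (b ^ j)⁻¹ * (x * a ^ k * x⁻¹) * x := by rw [h1]
          _ = _ := by group
      obtain ⟨k, hk⟩ := mem_zpowers_iff.1 hcen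
      refine ⟨R g ^ j * k, j, ?_⟩
      rw [← hbconj j k, inv_mul_cancel_right, hk, mul_inv_cancel_left]
    have hbM : b ∈ M := by
      rw [hMiff]
      have h1 := hbconj 1 1
      rw [pow_one, pow_one, zpow_one, mul_one, hR b] at h1
      have h2 := (pow_dvd_pow (p : ℤ) (show N + 1 ≤ N + 2 by omega)).trans ((hmod _ _).1 h1)
      have h3 := dvd_sub (show (p : ℤ) ^ (N + 1) ∣ R g - 1 from ⟨s, hs⟩) h2
      rwa [sub_sub, add_comm (1 : ℤ), ← sub_sub, sub_sub_cancel] at h3
    have haM : zpowers a ≤ M := fun x hx => (hMiff x).2 ((pow_dvd_pow _ (by omega)).trans ((hmem x).1 hx))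
    have hbzp : ∀ x ∈ zpowers b, x ∈ zpowers a → x = 1 := by
      intro x hxb hxa
      by_contra hne
      have hle : zpowers b ≤ zpowers a := by
        have hxp : orderOf x = p := by
          obtain ⟨k, rfl⟩ := mem_zpowers_iff.1 hxb
          refine orderOf_eq_prime ?_ hne
          rw [← zpow_natCast, ← zpow_mul, mul_comm, zpow_mul, zpow_natCast, hbp, one_zpow]
        have : zpowers x = zpowers b :=
          eq_of_le_of_card_ge (zpowers_le.2 hxb) (by rw [Nat.card_zpowers, Nat.card_zpowers, hbo, hxp])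
        rw [← this]; exact zpowers_le.2 hxa
      exact hbU (hle (mem_zpowers b))
    have hcardprod : ∀ (A : Subgroup G) (T : Subgroup G), A ≤ zpowers a →
        (∀ x, x ∈ T ↔ ∃ u ∈ A, ∃ v ∈ zpowers b, x = u * v) → Nat.card T = Nat.card A * p := by
      intro A T hA hT
      rw [← hbo, ← Nat.card_zpowers, ← Nat.card_prod]
      symm
      refine Nat.card_eq_of_bijective
        (fun uv : A × zpowers b => (⟨(uv.1 : G) * uv.2, (hT _).2 ⟨_, uv.1.2, _, uv.2.2, rfl⟩⟩ : T)) ⟨?_, ?_⟩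
      · rintro ⟨⟨u, hu⟩, ⟨v, hv⟩⟩ ⟨⟨u', hu'⟩, ⟨v', hv'⟩⟩ h
        have h' : u * v = u' * v' := congrArg Subtype.val h
        have h2 : u'⁻¹ * u = v' * v⁻¹ := by
          rw [eq_mul_inv_iff_mul_eq, mul_assoc, h', inv_mul_cancel_left]
        have h3 : u'⁻¹ * u = 1 := by
          refine hbzp _ ?_ (mul_mem (inv_mem (hA hu')) (hA hu))
          rw [h2]; exact mul_mem hv' (inv_mem hv)
        obtain rfl : u' = u := inv_mul_eq_one.1 h3
        obtain rfl : v = v' := mul_left_cancel h'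
        rfl
      · rintro ⟨x, hx⟩
        obtain ⟨u, hu, v, hv, rfl⟩ := (hT x).1 hx
        exact ⟨(⟨u, hu⟩, ⟨v, hv⟩), rfl⟩
    have hrel : (zpowers a).relIndex M = p := by
      have h1 := hcardprod (zpowers a) M le_rfl (fun x => ⟨fun hx => by
        obtain ⟨i, j, rfl⟩ := hdecomp x hx
        exact ⟨_, zpow_mem (mem_zpowers a) i, _, pow_mem (mem_zpowers b) j, rfl⟩, by
        rintro ⟨u, hu, v, hv, rfl⟩
        exact mul_mem (haM hu) (zpowers_le.2 hbM hv)⟩)
      have h2 := relIndex_mul_relIndex ⊥ (zpowers a) M bot_le haM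
      rw [relIndex_bot_left, relIndex_bot_left, h1] at h2
      exact Nat.eq_of_mul_eq_mul_left Nat.card_pos h2
    set z := a ^ ((p : ℤ) ^ (N + 1)) with hzdef
    have hzp : z ^ p = 1 := by
      rw [hzdef, ← zpow_natCast, ← zpow_mul, hz0]; exact ⟨1, by ring⟩
    have hz1 : z ≠ 1 := fun h => by
      rw [hzdef, hz0] at h
      have h2 : p ^ (N + 2) ∣ p ^ (N + 1) := by exact_mod_cast h
      rw [Nat.pow_dvd_pow_iff_le_right hp.one_lt] at h2
      omega
    have hzb : Commute b z := by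
      show b * z = z * b
      rw [← mul_inv_eq_iff_eq_mul, hzdef, ← pow_one b, hbconj, hmod, pow_one]
      exact ⟨-((p : ℤ) ^ N * s), by rw [hR0]; ring⟩
    have hzU : zpowers z ≤ zpowers a := zpowers_le.2 (zpow_mem (mem_zpowers a) _)
    let E : Subgroup G :=
      { carrier := {x | ∃ u ∈ zpowers z, ∃ v ∈ zpowers b, x = u * v}
        one_mem' := ⟨1, one_mem _, 1, one_mem _, (one_mul 1).symm⟩
        mul_mem' := by
          rintro _ _ ⟨u, hu, v, hv, rfl⟩ ⟨u', hu', v', hv', rfl⟩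
          refine ⟨u * u', mul_mem hu hu', v * v', mul_mem hv hv', ?_⟩
          obtain ⟨k, rfl⟩ := mem_zpowers_iff.1 hv
          obtain ⟨l, rfl⟩ := mem_zpowers_iff.1 hu'
          simp only [mul_assoc]
          congr 1
          rw [← mul_assoc, (hzb.zpow_zpow k l).eq, mul_assoc]
        inv_mem' := by
          rintro _ ⟨u, hu, v, hv, rfl⟩
          refine ⟨u⁻¹, inv_mem hu, v⁻¹, inv_mem hv, ?_⟩
          obtain ⟨k, rfl⟩ := mem_zpowers_iff.1 hv
          obtain ⟨l, rfl⟩ := mem_zpowers_iff.1 hu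
          rw [← mul_inv_rev, (hzb.zpow_zpow k l).eq] }
    have hEexp : ∀ x ∈ E, x ^ p = 1 := by
      rintro _ ⟨u, hu, v, hv, rfl⟩
      obtain ⟨k, rfl⟩ := mem_zpowers_iff.1 hv
      obtain ⟨l, rfl⟩ := mem_zpowers_iff.1 hu
      have e : ∀ (y : G) (m : ℤ), y ^ p = 1 → (y ^ m) ^ p = 1 := fun y m hy => by
        rw [← zpow_natCast, ← zpow_mul, mul_comm, zpow_mul, zpow_natCast, hy, one_zpow]
      rw [((hzb.zpow_zpow k l).symm).mul_pow, e z l hzp, e b k hbp, one_mul]
    have hEM : E ≤ M := by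
      rintro _ ⟨u, hu, v, hv, rfl⟩
      exact mul_mem (haM (hzU hu)) (zpowers_le.2 hbM hv)
    have hUtor : ∀ i : ℤ, (a ^ i) ^ p = 1 → a ^ i ∈ zpowers z := by
      intro i h
      rw [← zpow_natCast, ← zpow_mul, hz0, pow_succ _ (N + 1),
        mul_dvd_mul_iff_right (Int.natCast_ne_zero.2 hp.ne_zero)] at h
      obtain ⟨e, rfl⟩ := h
      rw [zpow_mul]
      exact zpow_mem (mem_zpowers z) e
    have hMtor : ∀ x ∈ M, x ^ p = 1 → x ∈ E := by
      intro x hx hxp
      obtain ⟨i, j, rfl⟩ := hdecomp x hx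
      obtain ⟨w, hw, -⟩ := hRbase j
      obtain ⟨u, hu, hsumw⟩ := hsum w
      have hRb : (p : ℤ) ^ (N + 2) ∣ R g ^ j - R (b ^ j) := by
        rw [← hmod]
        have := hbconj j 1
        rw [zpow_one, mul_one, hR] at this
        exact this
      have h1 : (p : ℤ) ^ (N + 2) ∣ (∑ t ∈ Finset.range p, R (b ^ j) ^ t) - p * u := by
        rw [← hsumw, ← Finset.sum_sub_distrib]
        refine Finset.dvd_sum fun t _ => ?_
        refine dvd_trans ?_ (sub_dvd_pow_sub_pow _ _ t)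
        have h := dvd_sub hw hRb
        rwa [sub_sub_sub_cancel_left] at h
      rw [hprod, ← pow_mul, mul_comm j p, pow_mul, hbp, one_pow, mul_one, hz0] at hxp
      have h2 : (p : ℤ) ^ (N + 2) ∣ i * ((p : ℤ) * u) := by
        have h := dvd_sub hxp (h1.mul_left i)
        rwa [← mul_sub, sub_sub_cancel] at h
      have h3 : (p : ℤ) ^ (N + 1) ∣ i := by
        rw [pow_succ _ (N + 1), show i * ((p : ℤ) * u) = (i * u) * p by ring,
          mul_dvd_mul_iff_right (Int.natCast_ne_zero.2 hp.ne_zero)] at h2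
        exact (IsCoprime.pow_left ((Nat.prime_iff_prime_int.1 hp).coprime_iff_not_dvd.2 hu)).dvd_of_dvd_mul_right h2
      obtain ⟨e, rfl⟩ := h3
      exact ⟨z ^ e, zpow_mem (mem_zpowers z) e, b ^ j, pow_mem (mem_zpowers b) j, by rw [hzdef, ← zpow_mul]⟩
    have hEeq : Cfsg.omegaOne p M = E := by
      refine le_antisymm ((closure_le _).2 fun x hx => hMtor x hx.1 hx.2) fun x hx => subset_closure ?_
      exact ⟨hEM hx, hEexp x hx⟩
    have hEcard : Nat.card E = p ^ 2 := by
      rw [hcardprod (zpowers z) E hzU (fun x => Iff.rfl), Nat.card_zpowers, orderOf_eq_prime hzp hz1, sq]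
    rw [hEeq]
    refine ⟨hrel, ⟨⟨⟨fun x y => Subtype.ext ?_⟩⟩, hEexp⟩, hEcard, ?_⟩
    · obtain ⟨u, hu, v, hv, hxe⟩ := x.2
      obtain ⟨u', hu', v', hv', hye⟩ := y.2
      obtain ⟨k, rfl⟩ := mem_zpowers_iff.1 hv
      obtain ⟨k', rfl⟩ := mem_zpowers_iff.1 hv'
      obtain ⟨l, rfl⟩ := mem_zpowers_iff.1 hu
      obtain ⟨l', rfl⟩ := mem_zpowers_iff.1 hu'
      show (x : G) * y = y * x
      rw [hxe, hye]
      exact ((((Commute.refl z).zpow_zpow l l').mul_right (hzb.zpow_zpow k' l).symm).mul_left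
        ((hzb.zpow_zpow k l').mul_right ((Commute.refl b).zpow_zpow k k'))).eq
    · rw [characteristic_iff_map_le]
      intro φ
      have hMn : ∀ (h x : G), x ∈ M → h * x * h⁻¹ ∈ M := by
        intro h x hx
        rw [hMiff] at hx ⊢
        have h1 : a ^ (R h * (R x * R h⁻¹)) = a ^ R (h * x * h⁻¹) := by
          rw [← hR, ← hRz, ← hRz, ← hR]; group
        have h2 : a ^ (R h * R h⁻¹) = a ^ (1 : ℤ) := by
          rw [← hRz, ← hR]; group
        have h1' := (pow_dvd_pow (p : ℤ) (show N + 1 ≤ N + 2 by omega)).trans ((hmod _ _).1 h1)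
        have h2' := (pow_dvd_pow (p : ℤ) (show N + 1 ≤ N + 2 by omega)).trans ((hmod _ _).1 h2)
        have h3 := dvd_sub (dvd_add h1' (hx.mul_left (R h * R h⁻¹))) h2'
        rw [show R (h * x * h⁻¹) - R h * (R x * R h⁻¹) + R h * R h⁻¹ * (R x - 1) - (1 - R h * R h⁻¹) =
          R (h * x * h⁻¹) - 1 by ring] at h3
        exact h3
      have hEn : E.Normal := ⟨fun x hx h => hMtor _ (hMn h x (hEM hx))
        (by rw [conj_pow, hEexp x hx, mul_one, mul_inv_cancel])⟩
      set F := E.map φ.toMonoidHom with hF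
      haveI hFn : F.Normal := hEn.map _ φ.surjective
      have hFexp : ∀ x ∈ F, x ^ p = 1 := by
        rintro _ ⟨x, hx, rfl⟩
        show (φ x) ^ p = 1
        rw [← map_pow, hEexp x hx, map_one]
      intro f hf
      refine hMtor f ?_ (hFexp f hf)
      rw [hMiff]
      have hfa : f * a * f⁻¹ * a⁻¹ ∈ F ⊓ zpowers a := by
        rw [mem_inf]
        refine ⟨?_, mul_mem (‹(zpowers a).Normal›.conj_mem a (mem_zpowers a) f) (inv_mem (mem_zpowers a))⟩
        rw [show f * a * f⁻¹ * a⁻¹ = f * (a * f⁻¹ * a⁻¹) by group]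
        exact mul_mem hf (hFn.conj_mem _ (inv_mem hf) a)
      rw [hR] at hfa
      have h1 := hFexp _ hfa.1
      rw [show a ^ R f * a⁻¹ = a ^ (R f - 1) by rw [zpow_sub, zpow_one], ← zpow_natCast, ← zpow_mul, hz0,
        pow_succ _ (N + 1), mul_dvd_mul_iff_right (Int.natCast_ne_zero.2 hp.ne_zero)] at h1
      exact h1
  · -- dihedral type
    push Not at hB
    have hp2 : p = 2 := by
      by_contra hne
      obtain ⟨j, hj1, hj2⟩ := hstep g₀ hg₀
      set h := g₀ ^ p ^ j
      obtain ⟨w, hw⟩ := hR1 h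
      have hw' : R h = 1 + p * w := by linear_combination hw
      have h1 := odd_sq_dvd_geom_sum₂_sub (R := ℤ) (a := 1) (b := w) (hp.odd_of_ne_two hne)
      simp only [one_pow, mul_one] at h1
      obtain ⟨c, hc⟩ := h1
      have h2 : (p : ℤ) ^ (N + 2) ∣ R h ^ p - 1 := by
        have := dvd_add (hRpow h p) ((hmem _).1 hj2)
        rwa [sub_add_sub_cancel] at this
      rw [← geom_sum_mul, hw', show (∑ t ∈ Finset.range p, (1 + (p : ℤ) * w) ^ t) = p * (1 + p * c) by
        linear_combination hc, pow_succ' _ (N + 1), mul_assoc,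
        mul_dvd_mul_iff_left (Int.natCast_ne_zero.2 hp.ne_zero), add_sub_cancel_left] at h2
      have h3 : (p : ℤ) ^ (N + 1) ∣ R h - 1 := by
        rw [hw', add_sub_cancel_left]
        refine (IsCoprime.pow_left ?_).dvd_of_dvd_mul_left h2
        exact ⟨-c, 1, by ring⟩
      exact hne (hB h hj1 h3).1
    subst hp2
    have hfact : ∀ g : G, g ∉ zpowers a → g ^ 2 ∈ zpowers a →
        (2 : ℤ) ^ (N + 1) ∣ R g + 1 := by
      intro g hg hg2
      have h1 : (2 : ℤ) ^ (N + 2) ∣ R g * R g - 1 := by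
        have := dvd_add (hRpow g 2) ((hmem _).1 hg2)
        rw [sub_add_sub_cancel, sq] at this
        simpa using this
      rcases CfsgLib.PLocal.sq_eq_one_mod_two_pow N (R g) h1 with h2 | h2
      · obtain ⟨-, hN⟩ := hB g hg (by simpa using h2)
        obtain rfl : N = 0 := by omega
        have := dvd_add h2 (dvd_refl (2 : ℤ))
        simpa [sub_add] using this
      · exact h2
    have hsq : ∀ g : G, g ^ 2 ∈ zpowers a := by
      intro g
      by_contra hg2
      obtain ⟨j, hj1, hj2⟩ := hstep (g ^ 2) hg2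
      set k := g ^ 2 ^ j with hk
      have hkk : (g ^ 2) ^ 2 ^ j = k ^ 2 := by rw [hk, ← pow_mul, ← pow_mul, mul_comm]
      rw [hkk] at hj1 hj2
      by_cases hN : N = 0
      · subst hN
        apply hj1
        rw [hmem]
        obtain ⟨q, hq⟩ := hR1 k
        have hq' : R k = 1 + 2 * q := by simp at hq; linarith
        have := hRpow k 2
        have h4 : (2 : ℤ) ^ (0 + 2) ∣ R k ^ 2 - 1 := ⟨q + q * q, by rw [hq']; ring⟩
        have h5 := dvd_sub h4 (show (2 : ℤ) ^ (0 + 2) ∣ R k ^ 2 - R (k ^ 2) by simpa using this)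
        rw [sub_sub_sub_cancel_left] at h5
        simpa using h5
      · have h1 := hfact _ hj1 hj2
        obtain ⟨q, hq⟩ := hR1 k
        have hq' : R k = 1 + 2 * q := by simp at hq; linarith
        have h4 : (4 : ℤ) ∣ R k ^ 2 - 1 := ⟨q + q * q, by rw [hq']; ring⟩
        have h5 : (4 : ℤ) ∣ R k ^ 2 - R (k ^ 2) :=
          (show (4 : ℤ) ∣ ((2 : ℕ) : ℤ) ^ (N + 2) from ⟨2 ^ N, by push_cast; ring⟩).trans (hRpow k 2)
        have h6 : (4 : ℤ) ∣ R (k ^ 2) + 1 := by
          refine dvd_trans ?_ h1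
          exact ⟨2 ^ (N - 1), by rw [show N + 1 = (N - 1) + 2 by omega, pow_add]; ring⟩
        have h7 := dvd_sub h6 (dvd_sub h4 h5)
        rw [sub_sub_sub_cancel_left, add_sub_sub_cancel] at h7
        norm_num at h7
    have hcoset : ∀ y : G, y ∈ zpowers a ∨ g₀⁻¹ * y ∈ zpowers a := by
      intro y
      by_cases hy : y ∈ zpowers a
      · exact Or.inl hy
      right
      have h1 := hfact y hy (hsq y)
      have h2 := hfact g₀ hg₀ (hsq g₀)
      have hgy : g₀ * y ∈ zpowers a := by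
        by_contra hne
        have h3 := hfact _ hne (hsq _)
        have h4 : (2 : ℤ) ^ (N + 1) ∣ R g₀ * R y - R (g₀ * y) :=
          (pow_dvd_pow _ (show N + 1 ≤ N + 2 by omega)).trans (by simpa using hRmul g₀ y)
        have h5 : (2 : ℤ) ^ (N + 1) ∣ 2 := by
          have h := dvd_add (dvd_add h4 h3) (dvd_sub h2 (h1.mul_left (R g₀)))
          rwa [show R g₀ * R y - R (g₀ * y) + (R (g₀ * y) + 1) + (R g₀ + 1 - R g₀ * (R y + 1)) = 2 by ring] at h
        have hN : N = 0 := by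
          by_contra hN
          have h6 : (4 : ℤ) ∣ 2 :=
            dvd_trans ⟨2 ^ (N - 1), by rw [show N + 1 = (N - 1) + 2 by omega, pow_add]; ring⟩ h5
          norm_num at h6
        subst hN
        apply hne
        rw [hmem]
        have e : ∀ x : G, x ∉ zpowers a → (4 : ℤ) ∣ R x + 1 := by
          intro x hx
          obtain ⟨q, hq⟩ := hR1 x
          have hq' : R x = 1 + 2 * q := by simp at hq; linarith
          rcases Int.even_or_odd q with ⟨t, ht⟩ | ⟨t, ht⟩
          · exact absurd ((hmem x).2 ⟨t, by rw [hq', ht]; push_cast; ring⟩) hx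
          · exact ⟨t + 1, by rw [hq', ht]; ring⟩
        have h := dvd_sub ((e y hy).mul_left (R g₀)) (dvd_add (e g₀ hg₀)
          (show (4 : ℤ) ∣ R g₀ * R y - R (g₀ * y) by simpa using hRmul g₀ y))
        rw [show R g₀ * (R y + 1) - (R g₀ + 1 + (R g₀ * R y - R (g₀ * y))) = R (g₀ * y) - 1 by ring] at h
        simpa using h
      have := mul_mem (inv_mem (hsq g₀)) hgy
      rwa [sq, mul_inv_rev, mul_assoc, inv_mul_cancel_left] at this
    have hcard : Nat.card G = 2 ^ (N + 2 + 1) := by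
      have hi : (zpowers a).index = 2 := by
        rw [index_eq_two_iff]
        refine ⟨g₀, fun y => ?_⟩
        by_cases hy : y ∈ zpowers a
        · exact Or.inr ⟨hy, fun h => hg₀ ((mul_mem_cancel_left hy).1 h)⟩
        · refine Or.inl ⟨?_, hy⟩
          have h := (hcoset y).resolve_left hy
          have h2 := mul_mem (hsq g₀) h
          rw [sq, mul_assoc, mul_inv_cancel_left] at h2
          exact ‹(zpowers a).Normal›.mem_comm h2
      have h1 := card_mul_index (zpowers a)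
      rw [hi, Nat.card_zpowers, hoa] at h1
      rw [← h1, pow_succ _ (N + 2)]
    refine Or.inl ⟨rfl, hcard, ?_⟩
    obtain ⟨q, hq⟩ := hfact g₀ hg₀ (hsq g₀)
    obtain ⟨i, hi⟩ := mem_zpowers_iff.1 (hsq g₀)
    have hfix : a ^ (R g₀ * i) = a ^ i := by rw [← hRz, hi]; group
    have hhalf : a ^ ((2 : ℤ) ^ (N + 1)) = a ^ (2 ^ (N + 1) : ℕ) := by rw [← zpow_natCast a (2 ^ (N + 1))]; push_cast; rfl
    rcases Int.even_or_odd q with ⟨q', rfl⟩ | ⟨q', rfl⟩
    · -- inverted
      have hconj : g₀ * a * g₀⁻¹ = a⁻¹ := by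
        rw [hR, ← zpow_neg_one, hmod]
        exact ⟨-q', by push_cast; linear_combination -hq⟩
      have h2i : a ^ (2 * i) = 1 := by
        rw [hmod] at hfix
        rw [hz0]
        obtain ⟨e, he⟩ := hfix
        exact ⟨e + i * q', by push_cast at he ⊢; linear_combination he + i * hq⟩
      obtain ⟨s, rfl⟩ : (2 : ℤ) ^ (N + 1) ∣ i := by
        rw [hz0] at h2i
        push_cast at h2i
        rw [pow_succ' _ (N + 1)] at h2i
        exact (mul_dvd_mul_iff_left two_ne_zero).1 h2i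
      rcases Int.even_or_odd s with ⟨w, rfl⟩ | ⟨w, rfl⟩
      · left
        refine ⟨2 ^ (N + 2), CfsgLib.Classical.nonempty_mulEquiv_dihedralGroup (pow_pos two_pos _) hoa ?_ hconj hg₀ ?_⟩
        · rw [← sq, ← hi, hz0]
          exact ⟨w, by push_cast; ring⟩
        · rw [hcard]; ring
      · right; left
        haveI : NeZero (2 ^ (N + 1)) := ⟨pow_ne_zero _ two_ne_zero⟩
        refine ⟨2 ^ (N + 1), CfsgLib.PGroups.nonempty_mulEquiv_quaternionGroup (x := a) (g := g₀) ?_ hconj ?_ hcoset hg₀⟩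
        · rw [hoa]; ring
        · rw [← hi, ← hhalf, hmod]
          exact ⟨-w, by push_cast; ring⟩
    · -- semidihedral
      right; right
      have hN : 1 ≤ N := by
        by_contra hN
        obtain rfl : N = 0 := by omega
        exact hg₀ ((hmem g₀).2 ⟨q', by push_cast; linear_combination hq⟩)
      obtain ⟨M', rfl⟩ : ∃ M', N = M' + 1 := ⟨N - 1, by omega⟩
      obtain ⟨s, rfl⟩ : (2 : ℤ) ^ (M' + 2) ∣ i := by
        rw [hmod] at hfix
        obtain ⟨e, he⟩ := hfix
        have h1 : (2 : ℤ) ^ (M' + 3) ∣ 2 * (i * (1 - 2 ^ (M' + 1) * (2 * q' + 1))) :=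
          ⟨e, by push_cast at he; linear_combination he + i * hq⟩
        rw [pow_succ' _ (M' + 2)] at h1
        have h2 := (mul_dvd_mul_iff_left (two_ne_zero (α := ℤ))).1 h1
        refine (IsCoprime.pow_left ?_).dvd_of_dvd_mul_right h2
        exact ⟨2 ^ M' * (2 * q' + 1), 1, by ring⟩
      refine ⟨M' + 1 + 2, by omega, hcard, a, a ^ s * g₀, hoa, ?_, ?_⟩
      · refine orderOf_eq_prime ?_ fun h => hg₀ ((mul_mem_cancel_left (zpow_mem (mem_zpowers a) s)).1 (h ▸ one_mem _))
        have : (a ^ s * g₀) ^ 2 = a ^ s * (g₀ * a ^ s * g₀⁻¹) * g₀ ^ 2 := by rw [sq, sq]; group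
        rw [this, hRz, ← hi, ← zpow_add, ← zpow_add, hz0]
        exact ⟨s * (q' + 1), by push_cast; linear_combination s * hq⟩
      · rw [show a ^ s * g₀ * a * (a ^ s * g₀)⁻¹ = a ^ s * (g₀ * a * g₀⁻¹) * (a ^ s)⁻¹ by group, hR,
          ← zpow_add, ← zpow_neg, ← zpow_add, ← zpow_natCast, hmod,
          Nat.cast_sub (Nat.one_le_two_pow)]
        push_cast
        exact ⟨-q', by linear_combination -hq⟩

end Cfsg.Agent.S3761
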