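import Cfsg.Statements.S2140
import Cfsg.Agent.Lib.KnownA.MinIndexMain

set_option autoImplicit false
open Cfsg

namespace Cfsg.Agent.S2140

/-- Minimal index of a proper subgroup of the linear groups: for n ≥ 3 and a field F with q elements, (n, q) ≠ (4, 2), every proper subgroup of PSL_n(F) has index at least (q^n − 1)/(q − 1), and some subgroup has exactly that index (the stabiliser of a point of the projective space). -/
theorem result {F : Type*} [Field F] [Fintype F] {q : ℕ} (hF : Fintype.card F = q) (n : ℕ) (hn : 3 ≤ n) (hexc : ¬ (n = 4 ∧ q = 2)) : (∀ H : Subgroup (Matrix.ProjectiveSpecialLinearGroup (Fin n) F), H ≠ ⊤ → (q ^ n - 1) / (q - 1) ≤ H.index) ∧ (∃ H : Subgroup (Matrix.ProjectiveSpecialLinearGroup (Fin n) F), H.index = (q ^ n - 1) / (q - 1)) := by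
  classical
  obtain ⟨m, rfl⟩ : ∃ m, n = m + 1 := ⟨n - 1, by omega⟩
  have hq2 : 2 ≤ q := hF ▸ Fintype.one_lt_card
  refine ⟨fun H hH => ?_, ?_⟩
  · let π := QuotientGroup.mk' (Subgroup.center (Matrix.SpecialLinearGroup (Fin (m + 1)) F))
    have hπ : Function.Surjective π := QuotientGroup.mk'_surjective _
    have hne : H.comap π ≠ ⊤ := fun h => hH (Subgroup.comap_injective hπ (h.trans (Subgroup.comap_top π).symm))
    have h1 := CfsgLib.KnownA.MinIndex.index_bound (m := m) (by omega)
      (fun h => hexc ⟨by omega, hF ▸ h.2⟩) (H.comap π) hne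
    rw [Subgroup.index_comap_of_surjective H hπ, hF] at h1
    calc (q ^ (m + 1) - 1) / (q - 1) ≤ H.index * (q - 1) / (q - 1) := Nat.div_le_div_right h1
      _ = H.index := Nat.mul_div_cancel _ (by omega)
  · let p : Projectivization F (Fin (m + 1) → F) :=
      Projectivization.mk F (Pi.single 0 1) (Pi.single_ne_zero_iff.2 one_ne_zero)
    refine ⟨MulAction.stabilizer (Matrix.ProjectiveSpecialLinearGroup (Fin (m + 1)) F) p, ?_⟩
    rw [MulAction.index_stabilizer_of_transitive, Projectivization.card'', Nat.card_fun, Nat.card_fin,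
      Nat.card_eq_fintype_card, hF]

end Cfsg.Agent.S2140
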