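import Cfsg.Statements.S2141
import Cfsg.Agent.Lib.MinIdx.SpMain

set_option autoImplicit false
open Cfsg

namespace Cfsg.Agent.S2141

/-- Minimal index of a proper subgroup of the symplectic groups over fields with at least 3 elements: for m ≥ 2 and a field F with q ≥ 3 elements, (m, q) ≠ (2, 3), every proper subgroup of PSp_2m(F) has index at least (q^(2m) − 1)/(q − 1), and that index is attained. -/
theorem result {F : Type*} [Field F] [Fintype F] {q : ℕ} (hF : Fintype.card F = q) (m : ℕ) (hm : 2 ≤ m) (hq : 3 ≤ q) (hexc : ¬ (m = 2 ∧ q = 3)) : (∀ H : Subgroup (Cfsg.PSp m F), H ≠ ⊤ → (q ^ (2 * m) - 1) / (q - 1) ≤ H.index) ∧ (∃ H : Subgroup (Cfsg.PSp m F), H.index = (q ^ (2 * m) - 1) / (q - 1)) := by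
  classical
  have hcard : Nat.card F = q := by rw [Nat.card_eq_fintype_card, hF]
  let π := QuotientGroup.mk' (Subgroup.center (Matrix.symplecticGroup (Fin m) F))
  have hπ : Function.Surjective π := QuotientGroup.mk'_surjective _
  refine ⟨fun H hH => ?_, ?_⟩
  · have hne : H.comap π ≠ ⊤ := fun h => hH (Subgroup.comap_injective hπ (h.trans (Subgroup.comap_top π).symm))
    have h1 := CfsgLib.MinIdx.sp_index_bound (hcard ▸ hq) m hm (H.comap π) hne (hcard ▸ hexc)
    rw [Subgroup.index_comap_of_surjective H hπ, hcard] at h1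
    calc (q ^ (2 * m) - 1) / (q - 1) ≤ H.index * (q - 1) / (q - 1) := Nat.div_le_div_right h1
      _ = H.index := Nat.mul_div_cancel _ (by omega)
  · have he : (Pi.single (Sum.inl ⟨0, by omega⟩) 1 : Fin m ⊕ Fin m → F) ≠ 0 :=
      Pi.single_ne_zero_iff.2 one_ne_zero
    refine ⟨(CfsgLib.MinIdx.pointStab _ he).map π, ?_⟩
    rw [Subgroup.index_map_eq _ hπ (by rw [QuotientGroup.ker_mk']; exact CfsgLib.MinIdx.center_le_pointStab _ he),
      CfsgLib.MinIdx.index_pointStab, hcard]

end Cfsg.Agent.S2141
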