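import Cfsg.Statements.S0256
import Cfsg.Agent.Lib.Classical.PermModels


set_option autoImplicit false
open Cfsg

namespace Cfsg.Agent.S0256

/-- PSL_4(2) is isomorphic to A_8. -/
theorem result {F : Type*} [Field F] [Fintype F] (hF : Fintype.card F = 2) : Nonempty (Matrix.ProjectiveSpecialLinearGroup (Fin 4) F ≃* alternatingGroup (Fin 8)) := by
  have e : F ≃+* ZMod 2 := FiniteField.ringEquivOfCardEq (by rw [hF, ZMod.card])
  obtain ⟨e1⟩ := CfsgLib.Classical.nonempty_PSL_congr (ι := Fin 4) e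
  obtain ⟨e2⟩ := CfsgLib.Classical.pOmega_six_plus_equiv (F := ZMod 2)
  obtain ⟨e3⟩ := CfsgLib.Classical.pOmega_six_two_equiv_A8
  exact ⟨e1.trans (e2.symm.trans e3)⟩

end Cfsg.Agent.S0256
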