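import Cfsg.Statements.S1241
import Cfsg.Agent.Lib.Involutions.TransferInto

set_option autoImplicit false
open Cfsg

namespace Cfsg.Agent.S1241

/-- Let G be a finite group, p a prime, H a subgroup of index prime to p, K a subgroup of H normal in H with H/K commutative, and g ∈ H ∖ K an element of p-power order such that for all integers m and all a ∈ G with a g^m a⁻¹ ∈ H one has a g^m a⁻¹ ∈ g^m K. Then g ∉ G'. -/
theorem result {G : Type*} [Group G] [Finite G] {p : ℕ} [Fact p.Prime] (H K : Subgroup G) (hHK : K ≤ H) (hKn : (K.subgroupOf H).Normal) (hab : ∀ x ∈ H, ∀ y ∈ H, x * y * x⁻¹ * y⁻¹ ∈ K) (hidx : Nat.Coprime p H.index) (g : G) (hgH : g ∈ H) (hgK : g ∉ K) (hgp : ∃ k : ℕ, orderOf g = p ^ k) (hctrl : ∀ (m : ℤ) (a : G), a * g ^ m * a⁻¹ ∈ H → (a * g ^ m * a⁻¹) * (g ^ m)⁻¹ ∈ K) : g ∉ commutator G := by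
  open Subgroup in
  letI : CommGroup (↥H ⧸ K.subgroupOf H) :=
    { (inferInstance : Group (↥H ⧸ K.subgroupOf H)) with
      mul_comm := fun a b => by
        induction a using QuotientGroup.induction_on with
        | H x =>
          induction b using QuotientGroup.induction_on with
          | H y =>
            rw [← QuotientGroup.mk_mul, ← QuotientGroup.mk_mul, QuotientGroup.eq, mem_subgroupOf]
            have := hab _ (H.inv_mem y.2) _ (H.inv_mem x.2)
            simpa [mul_assoc] using this }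
  intro hg
  let ϕ : ↥H →* ↥H ⧸ K.subgroupOf H := QuotientGroup.mk' _
  have hT : MonoidHom.transfer ϕ g = ϕ ⟨g, hgH⟩ ^ H.index :=
    CfsgLib.Involutions.transfer_eq_map_pow ϕ ⟨g, hgH⟩ fun k g₀ h => by
      have hh : g₀⁻¹ * g ^ k * g₀ ∈ H := h
      have h2 := hctrl k g₀⁻¹ (by rwa [inv_inv, zpow_natCast])
      rw [inv_inv, zpow_natCast] at h2
      rw [← map_pow]
      show ((⟨g₀⁻¹ * g ^ k * g₀, hh⟩ : ↥H) : ↥H ⧸ K.subgroupOf H) = ((⟨g, hgH⟩ ^ k : ↥H) : _)
      rw [QuotientGroup.eq_iff_div_mem, mem_subgroupOf, div_eq_mul_inv]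
      simpa using h2
  rw [Abelianization.commutator_subset_ker (MonoidHom.transfer ϕ) hg] at hT
  obtain ⟨k, hk⟩ := hgp
  have h1 : ϕ ⟨g, hgH⟩ ^ (p ^ k) = 1 := by
    rw [← hk, ← map_pow, show (⟨g, hgH⟩ : ↥H) ^ orderOf g = 1 from
      Subtype.ext (pow_orderOf_eq_one g), map_one]
  have h3 := pow_gcd_eq_one.mpr ⟨h1, hT.symm⟩
  rw [(hidx.pow_left k).gcd_eq_one, pow_one] at h3
  exact hgK (mem_subgroupOf.1 ((QuotientGroup.eq_one_iff _).1 h3))

end Cfsg.Agent.S1241
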