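import Cfsg.Statements.S3225
import Cfsg.Agent.Lib.Techniques.IndexP
import Cfsg.Agent.S1241
import Cfsg.Agent.Lib.Involutions.Dihedral

set_option autoImplicit false
open Cfsg

namespace Cfsg.Agent.S3225

/-- Let G be a finite group of even order with no subgroup of index 2, S a Sylow 2-subgroup of G and M a subgroup of index 2 in S such that, for some n ≥ 1, every element of S outside M has order greater than 2^(n−1). Then every element of S of order 2ⁿ is conjugate in G to an element of M. -/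
theorem result {G : Type*} [Group G] [Finite G] (hev : Even (Nat.card G))
    (hG : ∀ H : Subgroup G, H.index ≠ 2) (S : Sylow 2 G) (M : Subgroup G) (hMS : M ≤ (S : Subgroup G)) (hM : M.relIndex (S : Subgroup G) = 2)
    (n : ℕ) (hn : 1 ≤ n) (hord : ∀ y ∈ (S : Subgroup G), y ∉ M → 2 ^ (n - 1) < orderOf y)
    (x : G) (hx : x ∈ (S : Subgroup G)) (hxn : orderOf x = 2 ^ n) :
    ∃ g : G, g * x * g⁻¹ ∈ M := by
  classical
  by_cases hxM : x ∈ M
  · exact ⟨1, by simpa using hxM⟩
  by_contra hno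
  push Not at hno
  have hidx : (M.subgroupOf (S : Subgroup G)).index = 2 := hM
  haveI := Subgroup.normal_of_index_eq_two hidx
  have hmul : ∀ u ∈ (S : Subgroup G), ∀ v ∈ (S : Subgroup G), (u * v ∈ M ↔ (u ∈ M ↔ v ∈ M)) :=
    fun u hu v hv => Subgroup.mul_mem_iff_of_index_two hidx (a := ⟨u, hu⟩) (b := ⟨v, hv⟩)
  have hinv : ∀ u : G, u⁻¹ ∈ M ↔ u ∈ M := fun u => Subgroup.inv_mem_iff M
  have hodd : ∀ (y : G), y ∈ (S : Subgroup G) → y ∉ M → ∀ i : ℤ, y ^ (2 * i + 1) ∉ M := by
    intro y hy hyM i h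
    have hyy : y * y ∈ M := (hmul y hy y hy).2 Iff.rfl
    have h2 : y ^ (2 * i) ∈ M := by
      rw [zpow_mul, show y ^ (2 : ℤ) = y * y from zpow_two y]
      exact M.zpow_mem hyy i
    rw [zpow_add, zpow_one] at h
    exact hyM ((M.mul_mem_cancel_left h2).1 h)
  refine Cfsg.Agent.S1241.result (p := 2) (S : Subgroup G) M hMS inferInstance ?_
    ((Nat.Prime.coprime_iff_not_dvd Nat.prime_two).2 S.not_dvd_index) x hx hxM ⟨n, hxn⟩ ?_ ?_
  · intro u hu v hv
    have h1 := hmul (u * v * u⁻¹) ((S : Subgroup G).mul_mem ((S : Subgroup G).mul_mem hu hv) ((S : Subgroup G).inv_mem hu))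
      v⁻¹ ((S : Subgroup G).inv_mem hv)
    have h2 := hmul (u * v) ((S : Subgroup G).mul_mem hu hv) u⁻¹ ((S : Subgroup G).inv_mem hu)
    rw [h1, h2, hmul u hu v hv, hinv, hinv]
    tauto
  · intro m a ha
    rcases Int.even_or_odd' m with ⟨i, rfl | rfl⟩
    · have h1 : x ^ (2 * i) ∈ M := by
        rw [zpow_mul, show x ^ (2 : ℤ) = x * x from zpow_two x]
        exact M.zpow_mem ((hmul x hx x hx).2 Iff.rfl) i
      refine M.mul_mem ?_ (M.inv_mem h1)
      by_contra hout
      have h2 := hord _ ha hout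
      rw [CfsgLib.Involutions.orderOf_conj_eq] at h2
      have h3 : orderOf (x ^ (2 * i)) ∣ 2 ^ (n - 1) := by
        refine orderOf_dvd_of_pow_eq_one ?_
        rw [← zpow_natCast, ← zpow_mul, ← orderOf_dvd_iff_zpow_eq_one, hxn]
        obtain ⟨k, rfl⟩ := Nat.exists_eq_add_of_le hn
        rw [show 1 + k - 1 = k by omega, pow_add]
        push_cast
        exact ⟨i, by ring⟩
      have := Nat.le_of_dvd (by positivity) h3
      omega
    · have hy : a * x * a⁻¹ ∈ (S : Subgroup G) := by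
        have hcop : IsCoprime (2 * i + 1) (2 ^ n : ℤ) :=
          IsCoprime.pow_right ⟨1, -i, by ring⟩
        obtain ⟨u, v, huv⟩ := hcop
        have hxx : x = (x ^ (2 * i + 1)) ^ u := by
          conv_lhs => rw [← zpow_one x, ← huv, zpow_add, mul_comm v, zpow_mul x (2 ^ n : ℤ) v]
          have : x ^ (2 ^ n : ℤ) = 1 := by
            rw [show (2 ^ n : ℤ) = ((2 ^ n : ℕ) : ℤ) by push_cast; rfl, zpow_natCast, ← hxn, pow_orderOf_eq_one]
          rw [this, one_zpow, mul_one, mul_comm, zpow_mul]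
        rw [hxx, ← conj_zpow]
        exact (S : Subgroup G).zpow_mem ha u
      refine (hmul _ ha _ ((S : Subgroup G).inv_mem ((S : Subgroup G).zpow_mem hx _))).2 ?_
      rw [hinv, iff_false_right (hodd x hx hxM i), ← conj_zpow]
      exact hodd _ hy (hno a) i
  · by_contra hx'
    obtain ⟨N, -, hN⟩ := CfsgLib.Techniques.exists_index_eq_of_not_le_commutator S fun h => hx' (h hx)
    exact hG N hN

end Cfsg.Agent.S3225
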