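import Cfsg.Statements.S5515
import Cfsg.Agent.Lib.Components.FStar
import Cfsg.Agent.Lib.Geometry.OutPlus
import Cfsg.Agent.Lib.Geometry.D4Normal
import Cfsg.Agent.Lib.Geometry.PGOStd
import Cfsg.Agent.Lib.Geometry.POmegaStd

set_option autoImplicit false
open Cfsg

namespace Cfsg.Agent.S5515

open Subgroup in
theorem six_le_stabilizer (K : Subgroup (Equiv.Perm (Fin 4))) (hK : Nat.card K = 6) :
    ∃ i : Fin 4, MulAction.stabilizer (Equiv.Perm (Fin 4)) i = K := by
  haveI : Fact (Nat.Prime 3) := ⟨by norm_num⟩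
  obtain ⟨c, hc⟩ := exists_prime_orderOf_dvd_card' (G := K) 3 (by rw [hK]; norm_num)
  have hidx : (zpowers c).index = 2 := by
    have h := card_mul_index (zpowers c)
    rw [Nat.card_zpowers, hc, hK] at h
    omega
  haveI := normal_of_index_eq_two hidx
  have key : ∀ c : Equiv.Perm (Fin 4), c ^ 3 = 1 → c ≠ 1 → ∃ i, c i = i ∧
      ∀ k : Equiv.Perm (Fin 4), (k * c * k⁻¹ = c ∨ k * c * k⁻¹ = c⁻¹) → k i = i := by
    decide +kernel
  have hc3 : ((c : K) : Equiv.Perm (Fin 4)) ^ 3 = 1 := by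
    rw [← SubmonoidClass.coe_pow, ← hc, pow_orderOf_eq_one, OneMemClass.coe_one]
  have hc1 : ((c : K) : Equiv.Perm (Fin 4)) ≠ 1 := by
    intro h
    have : c = 1 := Subtype.ext h
    rw [this, orderOf_one] at hc
    omega
  obtain ⟨i, hi, hk⟩ := key _ hc3 hc1
  refine ⟨i, (Subgroup.eq_of_le_of_card_ge ?_ ?_).symm⟩
  · intro k hkK
    rw [MulAction.mem_stabilizer_iff]
    refine hk k ?_
    have hm := Normal.conj_mem ‹(zpowers c).Normal› c (mem_zpowers c) ⟨k, hkK⟩
    rw [mem_zpowers_iff] at hm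
    obtain ⟨m, hm⟩ := hm
    have hmod : c ^ m = c ^ (m % 3) := by
      rw [← zpow_mod_orderOf, hc]; norm_num
    have hcases : m % 3 = 0 ∨ m % 3 = 1 ∨ m % 3 = -1 + 3 := by omega
    rw [hmod] at hm
    rcases hcases with h | h | h
    · exfalso
      rw [h, zpow_zero] at hm
      exact hc1 (congrArg Subtype.val (conj_eq_one_iff.1 hm.symm))
    · left
      rw [h, zpow_one] at hm
      exact (congrArg Subtype.val hm).symm
    · right
      rw [h, zpow_add, zpow_neg_one] at hm
      have h3 : c ^ (3 : ℤ) = 1 := by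
        rw [show (3 : ℤ) = ((3 : ℕ) : ℤ) from rfl, zpow_natCast, ← hc, pow_orderOf_eq_one]
      rw [h3, mul_one] at hm
      exact (congrArg Subtype.val hm).symm
  · rw [hK]
    have := (MulAction.stabilizer (Equiv.Perm (Fin 4)) i).card_mul_index
    rw [MulAction.index_stabilizer_of_transitive] at this
    simp only [Nat.card_eq_fintype_card, Fintype.card_perm, Fintype.card_fin] at this
    simp only [Nat.card_eq_fintype_card]
    have h24 : Nat.factorial 4 = 24 := rfl
    omega

theorem conj_six (A B : Subgroup (Equiv.Perm (Fin 4))) (hA : Nat.card A = 6) (hB : Nat.card B = 6) :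
    ∃ g : Equiv.Perm (Fin 4), A.map (MulAut.conj g).toMonoidHom = B := by
  obtain ⟨i, rfl⟩ := six_le_stabilizer A hA
  obtain ⟨j, rfl⟩ := six_le_stabilizer B hB
  exact ⟨Equiv.swap i j, by
    rw [← MulAction.stabilizer_smul_eq_stabilizer_map_conj]
    simp⟩

variable {G : Type*} [Group G]

/-- The action of `G` on a normal subgroup, read in an isomorphic copy. -/
noncomputable def act (F : Subgroup G) [F.Normal] {L : Type*} [Group L] (e : F ≃* L) : G →* MulAut L :=
  (MulAut.congr e).toMonoidHom.comp MulAut.conjNormal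

theorem act_apply (F : Subgroup G) [F.Normal] {L : Type*} [Group L] (e : F ≃* L) (g : G) (y : F) :
    act F e g (e y) = e (MulAut.conjNormal g y) := by
  simp [act, MulAut.congr]

theorem act_coe (F : Subgroup G) [F.Normal] {L : Type*} [Group L] (e : F ≃* L) (x : F) :
    act F e x = MulAut.conj (e x) := by
  ext y
  obtain ⟨y, rfl⟩ := e.surjective y
  rw [act_apply, MulAut.conj_apply, ← map_inv, ← map_mul, ← map_mul]
  congr 1

theorem image_data [Finite G] (F : Subgroup G) [F.Normal] (hC : Subgroup.centralizer (F : Set G) ≤ F)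
    {L : Type*} [Group L] [Finite L] (hZ : Subgroup.center L = ⊥) (e : F ≃* L) {n : ℕ} (hn : Nat.card (G ⧸ F) = n) :
    ∃ φ : G →* MulAut L, Function.Injective φ ∧ Cfsg.Inn L ≤ φ.range ∧
      Nat.card (φ.range.map (QuotientGroup.mk' (Cfsg.Inn L))) = n := by
  have hinj : Function.Injective (act F e) := by
    rw [← MonoidHom.ker_eq_bot_iff, eq_bot_iff]
    intro g hg
    rw [MonoidHom.mem_ker] at hg
    have hcomm : ∀ y : F, (g : G) * y * g⁻¹ = y := fun y => by
      have := DFunLike.congr_fun hg (e y)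
      rw [act_apply, MulAut.one_apply] at this
      exact congrArg Subtype.val (e.injective this)
    have hgF : g ∈ F := hC (Subgroup.mem_centralizer_iff.2 fun y hy => by
      have := hcomm ⟨y, hy⟩
      calc y * g = (g * y * g⁻¹) * g := by rw [this]
        _ = g * y := by group)
    have h1 : e ⟨g, hgF⟩ ∈ Subgroup.center L := by
      rw [Subgroup.mem_center_iff]
      intro y
      obtain ⟨y, rfl⟩ := e.surjective y
      rw [← map_mul, ← map_mul]
      congr 1
      apply Subtype.ext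
      simp only [Subgroup.coe_mul]
      exact (mul_inv_eq_iff_eq_mul.1 (hcomm y)).symm
    rw [hZ, Subgroup.mem_bot, MulEquiv.map_eq_one_iff] at h1
    exact Subgroup.mem_bot.2 (congrArg Subtype.val h1)
  refine ⟨act F e, hinj, ?_, ?_⟩
  · rintro _ ⟨l, rfl⟩
    obtain ⟨x, rfl⟩ := e.surjective l
    exact ⟨x, act_coe F e x⟩
  · rw [MonoidHom.map_range, ← Nat.card_congr (QuotientGroup.quotientKerEquivRange _).toEquiv]
    have hk : ((QuotientGroup.mk' (Cfsg.Inn L)).comp (act F e)).ker = F := by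
      ext g
      rw [MonoidHom.mem_ker, MonoidHom.comp_apply, QuotientGroup.mk'_apply, QuotientGroup.eq_one_iff]
      constructor
      · rintro ⟨l, hl⟩
        obtain ⟨x, rfl⟩ := e.surjective l
        rw [← act_coe] at hl
        rw [← hinj hl]
        exact x.2
      · intro hg
        exact ⟨e ⟨g, hg⟩, (act_coe F e ⟨g, hg⟩).symm⟩
    rw [Nat.card_congr (QuotientGroup.quotientMulEquivOfEq hk).toEquiv, hn]

theorem unique_ext {G' : Type*} [Group G'] [Finite G] [Finite G']
    {L : Type} [Group L] [Finite L] (hZ : Subgroup.center L = ⊥)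
    (u : Cfsg.Out L ≃* Equiv.Perm (Fin 4))
    (F : Subgroup G) [F.Normal] (hC : Subgroup.centralizer (F : Set G) ≤ F) (e : F ≃* L)
    (F' : Subgroup G') [F'.Normal] (hC' : Subgroup.centralizer (F' : Set G') ≤ F') (e' : F' ≃* L)
    (hn : Nat.card (G ⧸ F) = 6) (hn' : Nat.card (G' ⧸ F') = 6) : Nonempty (G ≃* G') := by
  obtain ⟨φ, hφ, hI, hc⟩ := image_data F hC hZ e hn
  obtain ⟨ψ, hψ, hI', hc'⟩ := image_data F' hC' hZ e' hn'
  set π := QuotientGroup.mk' (Cfsg.Inn L)
  obtain ⟨s, hs⟩ := conj_six ((φ.range.map π).map u.toMonoidHom) ((ψ.range.map π).map u.toMonoidHom)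
    (by rw [Subgroup.card_map_of_injective u.injective]; exact hc)
    (by rw [Subgroup.card_map_of_injective u.injective]; exact hc')
  obtain ⟨a, ha⟩ := QuotientGroup.mk'_surjective (Cfsg.Inn L) (u.symm s)
  have key : φ.range.map (MulAut.conj a).toMonoidHom = ψ.range := by
    have hcomm : π.comp (MulAut.conj a).toMonoidHom = (MulAut.conj (π a)).toMonoidHom.comp π := by
      ext x; simp
    have hI1 : Cfsg.Inn L ≤ φ.range.map (MulAut.conj a).toMonoidHom := by
      intro x hx
      refine ⟨a⁻¹ * x * a, hI ?_, by simp [mul_assoc]⟩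
      have := (inferInstance : (Cfsg.Inn L).Normal).conj_mem x hx a⁻¹
      simpa using this
    have e1 : ∀ K : Subgroup (MulAut L), Cfsg.Inn L ≤ K → (K.map π).comap π = K := fun K hK =>
      Subgroup.comap_map_eq_self (by rwa [QuotientGroup.ker_mk'])
    rw [← e1 _ hI1, ← e1 _ hI', Subgroup.map_map, hcomm, ← Subgroup.map_map]
    congr 1
    apply Subgroup.map_injective (f := u.toMonoidHom) u.injective
    rw [← hs]
    simp only [Subgroup.map_map]
    congr 1
    ext x
    simp [π, show π a = u.symm s from ha]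
  exact ⟨((MonoidHom.ofInjective hφ).trans ((MulAut.conj a).subgroupMap φ.range)).trans
    ((MulEquiv.subgroupCongr key).trans (MonoidHom.ofInjective hψ).symm)⟩

theorem out_comm {L : Type} [Group L] [Finite L] [IsSimpleGroup L] (h : Subgroup.center L = ⊤)
    (u : Cfsg.Out L ≃* Equiv.Perm (Fin 4)) : False := by
  have hc : ∀ x y : L, x * y = y * x := fun x y =>
    (Subgroup.mem_center_iff.1 (h ▸ Subgroup.mem_top y) x)
  letI : CommGroup L := { ‹Group L› with mul_comm := hc }
  haveI : IsCyclic L := IsSimpleGroup.isCyclic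
  have haut : ∀ f g : MulAut L, f * g = g * f := fun f g => by
    obtain ⟨m, hm⟩ := MonoidHom.map_cyclic f.toMonoidHom
    obtain ⟨k, hk⟩ := MonoidHom.map_cyclic g.toMonoidHom
    ext x
    have hf : ∀ z, f z = z ^ m := hm
    have hg : ∀ z, g z = z ^ k := hk
    rw [MulAut.mul_apply, MulAut.mul_apply, hf, hg, hg, hf, ← zpow_mul, ← zpow_mul, mul_comm]
  obtain ⟨f, hf⟩ := QuotientGroup.mk'_surjective (Cfsg.Inn L) (u.symm (Equiv.swap 0 1))
  obtain ⟨g, hg⟩ := QuotientGroup.mk'_surjective (Cfsg.Inn L) (u.symm (Equiv.swap 1 2))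
  have := congrArg u (congrArg (QuotientGroup.mk' (Cfsg.Inn L)) (haut f g))
  simp only [map_mul, hf, hg, u.apply_symm_apply] at this
  exact absurd this (by decide)

/-- PΩ₈⁺(3):S₃ is unique. -/
theorem result {G G' : Type*} [Group G] [Finite G] [Group G'] [Finite G'] (hF : Nonempty (↥(Cfsg.generalizedFittingSubgroup G) ≃* Cfsg.POmega (ZMod 3) (Cfsg.quadFormPlus 4 (ZMod 3)))) (hF' : Nonempty (↥(Cfsg.generalizedFittingSubgroup G') ≃* Cfsg.POmega (ZMod 3) (Cfsg.quadFormPlus 4 (ZMod 3)))) [hn : (Cfsg.generalizedFittingSubgroup G).Normal] [hn' : (Cfsg.generalizedFittingSubgroup G').Normal] (hq : Nonempty (G ⧸ Cfsg.generalizedFittingSubgroup G ≃* Equiv.Perm (Fin 3))) (hq' : Nonempty (G' ⧸ Cfsg.generalizedFittingSubgroup G' ≃* Equiv.Perm (Fin 3))) : Nonempty (G ≃* G') := by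
  haveI : Fact (Nat.Prime 3) := ⟨by norm_num⟩
  haveI : IsSimpleGroup (Cfsg.POmega (ZMod 3) (Cfsg.quadFormPlus 4 (ZMod 3))) := by
    rw [← CfsgLib.Geometry.coe_matQuad_plus]
    exact CfsgLib.Geometry.isSimpleGroup_pOmega _
      (CfsgLib.Geometry.nondegenerate_matQuad (by rw [CfsgLib.Geometry.det_plus_gram]; simp)) (by simp)
  obtain ⟨u⟩ : Nonempty (Cfsg.Out (Cfsg.POmega (ZMod 3) (Cfsg.quadFormPlus 4 (ZMod 3))) ≃* Equiv.Perm (Fin 4)) := by
    rw [← CfsgLib.Geometry.coe_matQuad_plus]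
    obtain ⟨u⟩ := CfsgLib.Geometry.out_plus_four_odd (F := ZMod 3) (p := 3) (f := 1) Fact.out (by norm_num) le_rfl (by simp)
    haveI : Unique (Multiplicative (ZMod 1)) := Unique.mk' _
    exact ⟨u.trans MulEquiv.prodUnique⟩
  obtain ⟨e⟩ := hF
  obtain ⟨e'⟩ := hF'
  obtain ⟨q⟩ := hq
  obtain ⟨q'⟩ := hq'
  refine unique_ext ?_ u _ CfsgLib.Components.centralizer_fstar_le e _
    CfsgLib.Components.centralizer_fstar_le e' (by simp [Nat.card_congr q.toEquiv, Nat.card_eq_fintype_card, Fintype.card_perm]; rfl)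
    (by simp [Nat.card_congr q'.toEquiv, Nat.card_eq_fintype_card, Fintype.card_perm]; rfl)
  refine ((inferInstance : (Subgroup.center (Cfsg.POmega (ZMod 3) (Cfsg.quadFormPlus 4 (ZMod 3)))).Normal).eq_bot_or_eq_top).resolve_right fun htop => ?_
  exact out_comm htop u

end Cfsg.Agent.S5515
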