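import Cfsg.Statements.S3807
import Cfsg.Agent.Lib.PGroups.Basic
import Cfsg.Agent.Lib.PGroups.MaximalClass
import Cfsg.Agent.Lib.PLocal.MaximalClass
open Subgroup
open scoped commutatorElement

set_option autoImplicit false
open Cfsg

namespace Cfsg.Agent.S3807

/-- Let S be a non-abelian finite p-group with an abelian subgroup A of index p. Then [S : Z(S)] = p·#[S,S], and either [S,S] has order p, S/Z(S) is elementary abelian of order p², and S has exactly p + 1 abelian subgroups of index p; or [S,S] has order at least p² and A is the only abelian subgroup of index p in S. -/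
theorem result {S : Type*} [Group S] [Finite S] (p : ℕ) [Fact p.Prime] (hS : IsPGroup p S) (hna : ¬ IsMulCommutative S)
    (A : Subgroup S) (hA : IsMulCommutative ↥A) (hAi : A.index = p) :
    (Subgroup.center S).index = p * Nat.card (commutator S) ∧
      ((Nat.card (commutator S) = p ∧ Cfsg.IsElementaryAbelian p (⊤ : Subgroup (S ⧸ Subgroup.center S)) ∧
          Nat.card (S ⧸ Subgroup.center S) = p ^ 2 ∧
          Nat.card {B : Subgroup S // IsMulCommutative ↥B ∧ B.index = p} = p + 1) ∨
        (p ^ 2 ≤ Nat.card (commutator S) ∧ ∀ B : Subgroup S, IsMulCommutative ↥B → B.index = p → B = A)) := by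
  have hP : p.Prime := Fact.out
  have hAc : IsCoatom A := CfsgLib.PGroups.isCoatom_of_index_eq_prime hAi
  haveI hAn : A.Normal := CfsgLib.PGroups.normal_of_isCoatom hS hAc
  have hcA : ∀ a ∈ A, ∀ b ∈ A, a * b = b * a := fun a ha b hb =>
    congrArg Subtype.val (hA.is_comm.comm (⟨a, ha⟩ : A) ⟨b, hb⟩)
  have hsup : ∀ x : S, x ∉ A → A ⊔ zpowers x = ⊤ := fun x hx =>
    hAc.2 _ (lt_of_le_of_ne le_sup_left fun h => hx (h ▸ mem_sup_right (mem_zpowers x)))
  have hgenc : ∀ x : S, x ∉ A → ∀ g : S, (∀ a ∈ A, Commute a g) → Commute x g → g ∈ center S := by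
    intro x hx g h1 h2
    rw [mem_center_iff]
    intro y
    have hy : y ∈ Subgroup.centralizer ({g} : Set S) := by
      have hle : A ⊔ zpowers x ≤ Subgroup.centralizer ({g} : Set S) := sup_le
        (fun a ha => mem_centralizer_singleton_iff.2 (h1 a ha).eq)
        (zpowers_le.2 (mem_centralizer_singleton_iff.2 h2.eq))
      exact hle (hsup x hx ▸ mem_top y)
    exact mem_centralizer_singleton_iff.1 hy
  have hZA : center S ≤ A := by
    intro z hz
    by_contra hzA
    refine hna ⟨⟨fun a b => ?_⟩⟩
    have hall : ∀ g ∈ A, g ∈ center S := fun g hg => hgenc z hzA g (fun a ha => hcA a ha g hg)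
      ((mem_center_iff.1 hz g).symm)
    have htop : A ⊔ zpowers z ≤ center S := sup_le hall (zpowers_le.2 hz)
    rw [hsup z hzA] at htop
    exact mem_center_iff.1 (htop (mem_top b)) a
  obtain ⟨x, hx⟩ : ∃ x : S, x ∉ A := by
    by_contra h
    push Not at h
    exact hAc.1 (eq_top_iff.2 fun g _ => h g)
  have hmem : ∀ a ∈ A, x * a * x⁻¹ * a⁻¹ ∈ A := fun a ha =>
    mul_mem (hAn.conj_mem a ha x) (inv_mem ha)
  let τ : A →* S :=
    { toFun := fun a => x * a * x⁻¹ * (a : S)⁻¹
      map_one' := by simp
      map_mul' := fun a b => by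
        show x * ((a : S) * b) * x⁻¹ * ((a : S) * b)⁻¹ = x * a * x⁻¹ * (a : S)⁻¹ * (x * b * x⁻¹ * (b : S)⁻¹)
        have h1 : (a : S)⁻¹ * (x * b * x⁻¹ * (b : S)⁻¹) = x * b * x⁻¹ * (b : S)⁻¹ * (a : S)⁻¹ :=
          hcA _ (inv_mem a.2) _ (hmem b b.2)
        rw [mul_assoc (x * a * x⁻¹) (a : S)⁻¹, h1]
        group }
  have hker : τ.ker = (center S).subgroupOf A := by
    ext a
    rw [MonoidHom.mem_ker, mem_subgroupOf]
    show x * a * x⁻¹ * (a : S)⁻¹ = 1 ↔ _
    rw [mul_inv_eq_one, mul_inv_eq_iff_eq_mul]
    exact ⟨fun h => hgenc x hx _ (fun b hb => hcA b hb a a.2) h, fun h => mem_center_iff.1 h x⟩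
  have hRA : τ.range ≤ A := by
    rintro _ ⟨a, rfl⟩; exact hmem a a.2
  have hRn : τ.range.Normal := by
    have hle : A ⊔ zpowers x ≤ normalizer (τ.range : Set S) := by
      refine sup_le (fun a ha => ?_) (zpowers_le.2 ?_)
      · refine mem_normalizer_fintype fun r hr => ?_
        rw [hcA a ha r (hRA hr), mul_inv_cancel_right]; exact hr
      · refine mem_normalizer_fintype ?_
        rintro _ ⟨a, rfl⟩
        refine ⟨⟨x * a * x⁻¹, hAn.conj_mem a a.2 x⟩, ?_⟩
        show x * (x * a * x⁻¹) * x⁻¹ * (x * a * x⁻¹)⁻¹ = x * (x * a * x⁻¹ * (a : S)⁻¹) * x⁻¹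
        group
    rw [hsup x hx] at hle
    exact normalizer_eq_top_iff.1 (top_le_iff.1 hle)
  have hrange : τ.range = commutator S := by
    refine le_antisymm ?_ ?_
    · rintro _ ⟨a, rfl⟩
      rw [_root_.commutator_def]
      exact commutator_mem_commutator (mem_top x) (mem_top (a : S))
    · have key : ∀ g : S, ∀ a ∈ A, ⁅(QuotientGroup.mk' τ.range) g, (QuotientGroup.mk' τ.range) a⁆ = 1 := by
        intro g a ha
        rw [commutatorElement_eq_one_iff_mul_comm]
        have hle : A ⊔ zpowers x ≤ (Subgroup.centralizer ({(QuotientGroup.mk' τ.range) a} : Set _)).comap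
            (QuotientGroup.mk' τ.range) := by
          refine sup_le (fun b hb => ?_) (zpowers_le.2 ?_)
          · rw [mem_comap, mem_centralizer_singleton_iff, ← map_mul, ← map_mul, hcA b hb a ha]
          · rw [mem_comap, mem_centralizer_singleton_iff, ← map_mul, ← map_mul]
            apply QuotientGroup.eq.2
            show (x * a)⁻¹ * (a * x) ∈ τ.range
            have h1 : x * a * x⁻¹ * a⁻¹ ∈ τ.range := ⟨⟨a, ha⟩, rfl⟩
            have h2 := hRn.conj_mem _ (inv_mem h1) (a * x)⁻¹
            have h3 : (a * x)⁻¹ * (x * a * x⁻¹ * a⁻¹)⁻¹ * (a * x)⁻¹⁻¹ = (x * a)⁻¹ * (a * x) := by group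
            rwa [h3] at h2
        rw [hsup x hx] at hle
        exact mem_centralizer_singleton_iff.1 (hle (mem_top g))
      rw [_root_.commutator_def, commutator_le]
      intro u _ v _
      rw [← QuotientGroup.eq_one_iff, ← QuotientGroup.mk'_apply, map_commutatorElement]
      rw [commutatorElement_eq_one_iff_mul_comm]
      have hle : A ⊔ zpowers x ≤ (Subgroup.centralizer ({(QuotientGroup.mk' τ.range) u} : Set _)).comap
          (QuotientGroup.mk' τ.range) := by
        refine sup_le (fun b hb => ?_) (zpowers_le.2 ?_)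
        · rw [mem_comap, mem_centralizer_singleton_iff]
          exact (commutatorElement_eq_one_iff_mul_comm.1 (key u b hb)).symm
        · rw [mem_comap, mem_centralizer_singleton_iff]
          have hle2 : A ⊔ zpowers x ≤ (Subgroup.centralizer ({(QuotientGroup.mk' τ.range) x} : Set _)).comap
              (QuotientGroup.mk' τ.range) := by
            refine sup_le (fun b hb => ?_) (zpowers_le.2 ?_)
            · rw [mem_comap, mem_centralizer_singleton_iff]
              exact (commutatorElement_eq_one_iff_mul_comm.1 (key x b hb)).symm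
            · rw [mem_comap, mem_centralizer_singleton_iff]
          rw [hsup x hx] at hle2
          exact (mem_centralizer_singleton_iff.1 (hle2 (mem_top u))).symm
      rw [hsup x hx] at hle
      exact (mem_centralizer_singleton_iff.1 (hle (mem_top v))).symm
  have hidx : (center S).index = p * Nat.card (commutator S) := by
    rw [← relIndex_mul_index hZA, hAi, mul_comm, ← hrange]
    congr 1
    show ((center S).subgroupOf A).index = _
    rw [← hker, index_ker]
  refine ⟨hidx, ?_⟩
  obtain ⟨k, hk⟩ := CfsgLib.PGroups.card_subgroup_eq_pow hS (commutator S)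
  have hk1 : 1 ≤ k := by
    by_contra h
    have h2 := CfsgLib.PGroups.sq_le_index_center hS hna
    rw [hidx, hk, show k = 0 by omega, pow_zero, mul_one] at h2
    nlinarith [hP.two_le]
  -- any further abelian subgroup of index p contains the centre, and gives a bound
  have hother : ∀ B : Subgroup S, IsMulCommutative ↥B → B.index = p → B ≠ A →
      (center S).index ≤ p ^ 2 := by
    intro B hB hBi hne
    have hBc := CfsgLib.PGroups.isCoatom_of_index_eq_prime hBi
    have hAB : A ⊔ B = ⊤ := hAc.2 _ (lt_of_le_of_ne le_sup_left fun h => by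
      have hBA : B ≤ A := h ▸ le_sup_right
      rcases hBA.eq_or_lt with h' | h'
      · exact hne h'
      · exact hAc.1 (hBc.2 _ h'))
    have hle : A ⊓ B ≤ center S := by
      intro z hz
      rw [mem_center_iff]
      intro y
      have h : A ⊔ B ≤ Subgroup.centralizer ({z} : Set S) := sup_le
        (fun a ha => mem_centralizer_singleton_iff.2 (hcA a ha z hz.1))
        (fun b hb => mem_centralizer_singleton_iff.2
          (congrArg Subtype.val (hB.is_comm.comm (⟨b, hb⟩ : B) ⟨z, hz.2⟩)))
      rw [hAB] at h
      exact mem_centralizer_singleton_iff.1 (h (mem_top y))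
    refine le_trans (Nat.le_of_dvd (Nat.pos_of_ne_zero index_ne_zero_of_finite) (index_dvd_of_le hle)) ?_
    exact (index_inf_le).trans_eq (by rw [hAi, hBi, sq])
  rcases (show k = 1 ∨ 2 ≤ k by omega) with rfl | hk2
  · left
    rw [pow_one] at hk
    have hq : Nat.card (S ⧸ center S) = p ^ 2 := by rw [← Subgroup.index, hidx, hk, sq]
    have hnc := CfsgLib.PGroups.not_isCyclic_quotient_center hna
    have hcomm : ∀ a b : S ⧸ center S, a * b = b * a := IsPGroup.commutative_of_card_eq_prime_sq hq
    refine ⟨hk, ⟨⟨⟨fun a b => Subtype.ext (hcomm a b)⟩⟩, fun a _ => ?_⟩, hq, ?_⟩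
    · obtain ⟨i, hi, hord⟩ := (Nat.dvd_prime_pow hP).1 (hq ▸ orderOf_dvd_natCard a)
      rw [← orderOf_dvd_iff_pow_eq_one, hord]
      rcases (show i ≤ 1 ∨ i = 2 by omega) with h | rfl
      · exact (pow_dvd_pow p h).trans (pow_one p).dvd
      · exact absurd (isCyclic_of_orderOf_eq_card a (by rw [hord, hq])) hnc
    · rw [← CfsgLib.PLocal.card_subgroups_prime_card (p := p) hq hnc]
      have hZle : ∀ B : Subgroup S, IsMulCommutative ↥B → B.index = p → center S ≤ B := by
        intro B hB hBi z hz
        by_contra hzB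
        have hBc := CfsgLib.PGroups.isCoatom_of_index_eq_prime hBi
        refine hna ⟨⟨fun a b => ?_⟩⟩
        have hsupB : B ⊔ zpowers z = ⊤ :=
          hBc.2 _ (lt_of_le_of_ne le_sup_left fun h => hzB (h ▸ mem_sup_right (mem_zpowers z)))
        have htop : B ⊔ zpowers z ≤ center S := by
          refine sup_le (fun g hg => mem_center_iff.2 fun y => ?_) (zpowers_le.2 hz)
          have h : B ⊔ zpowers z ≤ Subgroup.centralizer ({g} : Set S) := sup_le
            (fun b hb => mem_centralizer_singleton_iff.2
              (congrArg Subtype.val (hB.is_comm.comm (⟨b, hb⟩ : B) ⟨g, hg⟩)))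
            (zpowers_le.2 (mem_centralizer_singleton_iff.2 (mem_center_iff.1 hz g).symm))
          rw [hsupB] at h
          exact mem_centralizer_singleton_iff.1 (h (mem_top y))
        rw [hsupB] at htop
        exact mem_center_iff.1 (htop (mem_top b)) a
      set f := QuotientGroup.mk' (center S) with hf
      have hfs : Function.Surjective f := QuotientGroup.mk'_surjective _
      have hback : ∀ B : Subgroup S, center S ≤ B → (B.map f).comap f = B := fun B h => by
        rw [comap_map_eq, QuotientGroup.ker_mk', sup_eq_left.2 h]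
      have hcardmap : ∀ K : Subgroup (S ⧸ center S), Nat.card K = p ↔ K.index = p := by
        intro K
        have h := card_mul_index K
        rw [hq, sq] at h
        constructor <;> intro h' <;> rw [h'] at h
        · exact Nat.eq_of_mul_eq_mul_left hP.pos h
        · exact Nat.eq_of_mul_eq_mul_right hP.pos h
      refine Nat.card_congr
        { toFun := fun B => ⟨B.1.map f, (hcardmap _).2 (by
            rw [← index_comap_of_surjective _ hfs, hback _ (hZle B.1 B.2.1 B.2.2)]; exact B.2.2)⟩
          invFun := fun K => ⟨K.1.comap f, ?_, by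
            rw [index_comap_of_surjective _ hfs]; exact (hcardmap _).1 K.2⟩
          left_inv := fun B => Subtype.ext (hback _ (hZle B.1 B.2.1 B.2.2))
          right_inv := fun K => Subtype.ext (map_comap_eq_self_of_surjective hfs _) }
      haveI : IsCyclic (K.1) := isCyclic_of_prime_card (p := p) K.2
      refine MonoidHom.isMulCommutative_of_isCyclic_of_ker_le_center
        ((f.comp (K.1.comap f).subtype).codRestrict K.1 fun b => b.2) ?_
      intro b hb
      rw [mem_center_iff]
      intro c
      have hbz : (b : S) ∈ center S := (QuotientGroup.eq_one_iff _).1 (congrArg Subtype.val hb)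
      exact Subtype.ext (mem_center_iff.1 hbz c)
  · right
    refine ⟨hk ▸ Nat.pow_le_pow_right hP.pos hk2, fun B hB hBi => ?_⟩
    by_contra hne
    have h := hother B hB hBi hne
    rw [hidx, hk, sq] at h
    have h' := Nat.le_of_mul_le_mul_left h hP.pos
    have : p ^ 2 ≤ p ^ k := Nat.pow_le_pow_right hP.pos hk2
    nlinarith [hP.two_le]

end Cfsg.Agent.S3807
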