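import Cfsg.Statements.S0346
import Cfsg.Agent.Lib.Perm.ZassG.SimpleEven
import Cfsg.Agent.Lib.Perm.ZassG.Feit

set_option autoImplicit false
open Cfsg

namespace Cfsg.Agent.S0346

/-- The number of points of a finite simple Zassenhaus group is `p^k + 1` for some prime power `p^k` (the regular normal
subgroup of a point stabiliser is a `p`-group). -/
theorem result {G Ω : Type*} [Group G] [Finite G] [MulAction G Ω] [Fintype Ω]
    (hZ : Cfsg.IsZassenhausGroup G Ω) [IsSimpleGroup G] :
    IsPrimePow (Fintype.card Ω - 1) := by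
  classical
  have := Fintype.ofFinite G
  obtain ⟨g, -, a, b, hab, -, -⟩ := hZ.2.2.2.1
  obtain ⟨F, hF⟩ := CfsgLib.Perm.ZassG.exists_kernel hZ hab
  have hn := hF.card_add_one hab
  have hcard : Fintype.card Ω - 1 = Nat.card F := by
    rw [← Nat.card_eq_fintype_card, ← hn]; omega
  rw [hcard]
  have small : Nat.card F - 1 ≤ 2 * Nat.card (CfsgLib.Perm.ZassG.pairStab G a b) →
      IsPrimePow (Nat.card F) := fun h => by
    obtain ⟨-, p, f, hp, hf, -, he⟩ := hF.elementary hZ hab h
    exact (isPrimePow_nat_iff _).2 ⟨p, f, hp, hf, he.symm⟩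
  rcases Nat.even_or_odd (Nat.card (CfsgLib.Perm.ZassG.pairStab G a b)) with he | ho
  · refine small ?_
    rw [CfsgLib.Perm.ZassG.half_of_simple hZ hab he.two_dvd hF]; omega
  · rcases CfsgLib.Perm.ZassG.feit _ G rfl hZ hab ho F hF with h | ⟨h2, -, -⟩
    · exact small (by omega)
    · obtain ⟨f, hf⟩ := IsPGroup.iff_card.1 h2
      refine (isPrimePow_nat_iff _).2 ⟨2, f, Nat.prime_two, Nat.pos_of_ne_zero ?_, hf.symm⟩
      rintro rfl
      have : 1 < Nat.card F := (Subgroup.one_lt_card_iff_ne_bot F).2 (hF.ne_bot hZ hab)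
      rw [hf] at this
      simp at this

end Cfsg.Agent.S0346
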