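import Cfsg.Statements.S0672
import Cfsg.Agent.Lib.Perm.Module

set_option autoImplicit false
open Cfsg
open scoped Pointwise

namespace Cfsg.Agent.S0672

/-- Let a finite group act faithfully and doubly transitively with point stabilisers of even order, and let `K` have characteristic `p` dividing the degree. If the heart of the permutation module admits no non-zero equivariant map to the permutation module on unordered pairs (phrased: every intertwining map from the sum-zero functions vanishing on the constants is zero), the action is triply transitive. -/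
theorem result {G : Type*} [Group G] [Finite G] {K : Type*} [Field K] {p : ℕ} [Fact p.Prime] [CharP K p] {Ω : Type*} [Fintype Ω] [DecidableEq Ω] [MulAction G Ω] [FaithfulSMul G Ω] (h2 : MulAction.IsMultiplyPretransitive G Ω 2) (hp : p ∣ Fintype.card Ω) (heven : ∀ a : Ω, Even (Nat.card (MulAction.stabilizer G a))) (h : ∀ f : Representation.IntertwiningMap (Cfsg.permSumZero K G Ω).toRepresentation (Cfsg.permRep K G (Set.powersetCard Ω 2)), (∀ v : (Cfsg.permSumZero K G Ω).toSubmodule, (v : Ω → K) ∈ (Cfsg.permConstants K G Ω).toSubmodule → f v = 0) → f = 0) : MulAction.IsMultiplyPretransitive G Ω 3 := by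
  classical
  have hB : MulAction.IsPretransitive G (Set.powersetCard Ω 2) :=
    Set.powersetCard.isPretransitive_of_isMultiplyPretransitive G h2
  have key : ∀ (B : Set.powersetCard Ω 2) (x y : Ω), x ∉ (B : Finset Ω) → y ∉ (B : Finset Ω) →
      (y, B) ∈ MulAction.orbit G (x, B) := by
    intro B a₁ a₂ h1 h1'
    by_contra hne
    have hne' : (a₁, B) ∉ MulAction.orbit G (a₂, B) := fun h' => hne (MulAction.mem_orbit_symm.1 h')
    let A₁ : Ω → Set.powersetCard Ω 2 → K := CfsgLib.Perm.orbitalInd K G a₁ B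
    let A₂ : Ω → Set.powersetCard Ω 2 → K := CfsgLib.Perm.orbitalInd K G a₂ B
    obtain ⟨c₁, c₂, hc, hc0⟩ : ∃ c₁ c₂ : K,
        c₁ * ∑ x, A₁ x B + c₂ * ∑ x, A₂ x B = 0 ∧ ¬ (c₁ = 0 ∧ c₂ = 0) := by
      by_cases hk : ∑ x, A₁ x B = 0
      · exact ⟨1, 0, by simp [hk], by simp⟩
      · exact ⟨∑ x, A₂ x B, -∑ x, A₁ x B, by ring, fun h' => hk (neg_eq_zero.1 h'.2)⟩
    let D : Ω → Set.powersetCard Ω 2 → K := fun x y => c₁ * A₁ x y + c₂ * A₂ x y
    have hD : ∀ (g : G) x y, D (g • x) (g • y) = D x y := fun g x y => by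
      simp only [D, A₁, A₂, CfsgLib.Perm.orbitalInd_smul]
    have hcol : ∀ y, ∑ x, D x y = 0 := fun y => by
      rw [CfsgLib.Perm.colSum_eq hD y B]
      simpa [D, Finset.sum_add_distrib, Finset.mul_sum] using hc
    let T := CfsgLib.Perm.kernelMap D
    let f : Representation.IntertwiningMap (Cfsg.permSumZero K G Ω).toRepresentation
        (Cfsg.permRep K G (Set.powersetCard Ω 2)) :=
      LinearMap.intertwiningMap_of_isIntertwiningMap _ _
        (T ∘ₗ (Cfsg.permSumZero K G Ω).toSubmodule.subtype)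
        (fun g v => CfsgLib.Perm.kernelMap_permRep hD g v.1)
    have hf : f = 0 := h f fun v hv => by
      obtain ⟨c, hc'⟩ := CfsgLib.Perm.mem_permConstants.1 hv
      change T v.1 = 0
      funext y
      rw [show (v.1 : Ω → K) = fun _ => c from funext hc', CfsgLib.Perm.kernelMap_const, hcol]
      simp
    have hTe : ∀ x y : Ω, D x B = D y B := by
      intro x y
      have hmem : Pi.single x (1 : K) - Pi.single y 1 ∈ (Cfsg.permSumZero K G Ω).toSubmodule := by
        simp [CfsgLib.Perm.mem_permSumZero, Finset.sum_sub_distrib]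
      have h0 : T (Pi.single x 1 - Pi.single y 1) = 0 := by
        have := congrArg (fun φ => (φ : Representation.IntertwiningMap
          (Cfsg.permSumZero K G Ω).toRepresentation
          (Cfsg.permRep K G (Set.powersetCard Ω 2))) ⟨_, hmem⟩) hf
        exact this
      rw [map_sub, sub_eq_zero] at h0
      have := congrFun h0 B
      simpa [T, CfsgLib.Perm.kernelMap_single] using this
    obtain ⟨b, hb⟩ : ((B : Finset Ω)).Nonempty := by
      rw [← Finset.card_pos, Set.powersetCard.card_eq B]; norm_num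
    have hzero : ∀ a, a ∉ (B : Finset Ω) → (b, B) ∉ MulAction.orbit G (a, B) := by
      rintro a ha ⟨g, hg⟩
      refine ha ?_
      have hgB : g • B = B := congrArg Prod.snd hg
      have hga : g • a = b := congrArg Prod.fst hg
      rw [← Finset.smul_mem_smul_finset_iff g, hga, ← Set.powersetCard.coe_smul, hgB]
      exact hb
    have hDb : D b B = 0 := by
      simp [D, A₁, A₂, CfsgLib.Perm.orbitalInd_eq_zero, hzero _ h1, hzero _ h1']
    have e1 : D a₁ B = c₁ := by
      simp [D, A₁, A₂, CfsgLib.Perm.orbitalInd_self, CfsgLib.Perm.orbitalInd_eq_zero hne']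
    have e2 : D a₂ B = c₂ := by
      simp [D, A₁, A₂, CfsgLib.Perm.orbitalInd_self, CfsgLib.Perm.orbitalInd_eq_zero hne]
    exact hc0 ⟨by rw [← e1, hTe a₁ b, hDb], by rw [← e2, hTe a₂ b, hDb]⟩
  -- any two points are interchanged fixing any given third point
  have hswap : ∀ a b d : Ω, a ≠ b → d ≠ a → d ≠ b → ∃ g : G, g • a = b ∧ g • b = a ∧ g • d = d := by
    intro a b d hab hda hdb
    have : Nonempty Ω := ⟨a⟩
    obtain ⟨t, ht⟩ := exists_prime_orderOf_dvd_card' (G := MulAction.stabilizer G d) 2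
      (even_iff_two_dvd.1 (heven d))
    have ht2 : (t : G) * t = 1 := by
      have := pow_orderOf_eq_one t
      rw [ht, pow_two] at this
      exact congrArg Subtype.val this
    obtain ⟨c, hc⟩ : ∃ c : Ω, (t : G) • c ≠ c := by
      by_contra! hall
      have h1 : (t : G) = 1 := FaithfulSMul.eq_of_smul_eq_smul (α := Ω) fun x => by
        rw [hall x, one_smul]
      rw [show t = 1 from Subtype.ext h1, orderOf_one] at ht
      norm_num at ht
    have htd : (t : G) • d = d := t.2
    have hdc : d ≠ c := fun h' => hc (by rw [← h', htd])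
    have hdc' : d ≠ (t : G) • c := fun h' => hdc (MulAction.injective (t : G) (htd.trans h'))
    let B₀ : Set.powersetCard Ω 2 := ⟨{c, (t : G) • c}, Finset.card_pair hc.symm⟩
    let B : Set.powersetCard Ω 2 := ⟨{a, b}, Finset.card_pair hab⟩
    obtain ⟨g₁, hg₁⟩ := hB.exists_smul_eq B₀ B
    have hg₁' : g₁ • ({c, (t : G) • c} : Finset Ω) = {a, b} := congrArg Subtype.val hg₁
    have hd1 : g₁ • d ∉ (B : Finset Ω) := by
      change g₁ • d ∉ ({a, b} : Finset Ω)
      rw [← hg₁', Finset.smul_mem_smul_finset_iff]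
      simp [hdc, hdc']
    obtain ⟨g₂, hg₂⟩ := key B (g₁ • d) d hd1 (by simp [B, hda, hdb])
    have hg₂B : g₂ • B = B := congrArg Prod.snd hg₂
    have hg₂d : g₂ • (g₁ • d) = d := congrArg Prod.fst hg₂
    have hgset : (g₂ * g₁) • ({c, (t : G) • c} : Finset Ω) = {a, b} := by
      rw [mul_smul, hg₁']
      exact congrArg Subtype.val hg₂B
    set g := g₂ * g₁ with hg
    have hgd : g • d = d := by rw [hg, mul_smul, hg₂d]
    have hgd' : g⁻¹ • d = d := inv_smul_eq_iff.2 hgd.symm
    refine ⟨g * t * g⁻¹, ?_⟩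
    have hpair : g • c = a ∧ g • (t : G) • c = b ∨ g • c = b ∧ g • (t : G) • c = a := by
      have h1 : g • c ∈ ({a, b} : Finset Ω) := by
        rw [← hgset, Finset.smul_mem_smul_finset_iff]; simp
      have h2' : g • (t : G) • c ∈ ({a, b} : Finset Ω) := by
        rw [← hgset, Finset.smul_mem_smul_finset_iff]; simp
      have h3 : g • c ≠ g • (t : G) • c := fun h' => hc (MulAction.injective g h').symm
      simp only [Finset.mem_insert, Finset.mem_singleton] at h1 h2'
      rcases h1 with h1 | h1 <;> rcases h2' with h2' | h2'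
      · exact absurd (h1.trans h2'.symm) h3
      · exact Or.inl ⟨h1, h2'⟩
      · exact Or.inr ⟨h1, h2'⟩
      · exact absurd (h1.trans h2'.symm) h3
    have e1 : (g * t * g⁻¹) • g • c = g • (t : G) • c := by simp [mul_smul]
    have e2 : (g * t * g⁻¹) • g • (t : G) • c = g • c := by
      simp only [mul_smul, inv_smul_smul]
      rw [← mul_smul (t : G) (t : G), ht2, one_smul]
    have e3 : (g * t * g⁻¹) • d = d := by
      simp only [mul_smul, hgd', htd, hgd]
    rcases hpair with ⟨ha, hb⟩ | ⟨hb, ha⟩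
    · rw [ha, hb] at e1 e2; exact ⟨e1, e2, e3⟩
    · rw [ha, hb] at e1 e2; exact ⟨e2, e1, e3⟩
  -- three-fold transitivity
  rw [MulAction.isMultiplyPretransitive_iff]
  intro x y
  have hne : ∀ (z : Fin 3 ↪ Ω) (i j : Fin 3), i ≠ j → z i ≠ z j := fun z i j h' he =>
    h' (z.injective he)
  obtain ⟨g₁, hg0, hg1⟩ := MulAction.is_two_pretransitive_iff.1 h2 (hne x 0 1 (by decide))
    (hne y 0 1 (by decide))
  have hc : g₁ • x 2 ≠ y 0 ∧ g₁ • x 2 ≠ y 1 := by
    rw [← hg0, ← hg1]
    exact ⟨(MulAction.injective g₁).ne (hne x 2 0 (by decide)),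
      (MulAction.injective g₁).ne (hne x 2 1 (by decide))⟩
  let B : Set.powersetCard Ω 2 := ⟨{y 0, y 1}, Finset.card_pair (hne y 0 1 (by decide))⟩
  obtain ⟨g₂, hg₂⟩ := key B (g₁ • x 2) (y 2) (by simp [B, hc.1, hc.2])
    (by simp [B, hne y 2 0 (by decide), hne y 2 1 (by decide)])
  have hg₂B : g₂ • ({y 0, y 1} : Finset Ω) = {y 0, y 1} :=
    congrArg (fun q : Ω × Set.powersetCard Ω 2 => (q.2 : Finset Ω)) hg₂
  have hg₂c : g₂ • g₁ • x 2 = y 2 := congrArg Prod.fst hg₂
  obtain ⟨s, hsa, hsb, hsc⟩ := hswap (y 0) (y 1) (y 2) (hne y 0 1 (by decide))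
    (hne y 2 0 (by decide)) (hne y 2 1 (by decide))
  have hsplit : g₂ • y 0 = y 0 ∧ g₂ • y 1 = y 1 ∨ g₂ • y 0 = y 1 ∧ g₂ • y 1 = y 0 := by
    have h1 : g₂ • y 0 ∈ ({y 0, y 1} : Finset Ω) := by
      rw [← hg₂B, Finset.smul_mem_smul_finset_iff]; simp
    have h1' : g₂ • y 1 ∈ ({y 0, y 1} : Finset Ω) := by
      rw [← hg₂B, Finset.smul_mem_smul_finset_iff]; simp
    have h3 : g₂ • y 0 ≠ g₂ • y 1 := (MulAction.injective g₂).ne (hne y 0 1 (by decide))
    simp only [Finset.mem_insert, Finset.mem_singleton] at h1 h1'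
    rcases h1 with h1 | h1 <;> rcases h1' with h1' | h1'
    · exact absurd (h1.trans h1'.symm) h3
    · exact Or.inl ⟨h1, h1'⟩
    · exact Or.inr ⟨h1, h1'⟩
    · exact absurd (h1.trans h1'.symm) h3
  rcases hsplit with ⟨e0, e1⟩ | ⟨e0, e1⟩
  · refine ⟨g₂ * g₁, ?_⟩
    ext i
    fin_cases i <;> simp [mul_smul, hg0, hg1, hg₂c, e0, e1]
  · refine ⟨s * (g₂ * g₁), ?_⟩
    ext i
    fin_cases i <;> simp [mul_smul, hg0, hg1, hg₂c, e0, e1, hsa, hsb, hsc]

end Cfsg.Agent.S0672
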