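import Cfsg.Statements.S0676
import Cfsg.Agent.Lib.Perm.PrimeDegree
import Cfsg.Agent.S0672

set_option autoImplicit false
open Cfsg
open scoped Pointwise

namespace Cfsg.Agent.S0676

/-- A non-solvable transitive permutation group of prime degree `p` whose Sylow `p`-normaliser has even order is triply transitive. -/
theorem result {α : Type*} [Fintype α] [DecidableEq α] {p : ℕ} [Fact p.Prime] (hα : Fintype.card α = p) (G : Subgroup (Equiv.Perm α)) [MulAction.IsPretransitive G α] (hG : ¬ Group.IsSolvable G) (P : Sylow p G) (heven : Even (Nat.card (Subgroup.normalizer ((P : Subgroup G) : Set G)))) : MulAction.IsMultiplyPretransitive G α 3 := by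
  classical
  have hp := (Fact.out : p.Prime)
  have hp5 := CfsgLib.Perm.five_le hα hG
  obtain ⟨σ, s, e, hσ, he, hs1, hss, hs⟩ :=
    CfsgLib.Perm.exists_coord_neg hα (by omega) P heven
  have hstab : ∀ a : α, Even (Nat.card (MulAction.stabilizer G a)) := by
    intro a
    have h0 : Even (Nat.card (MulAction.stabilizer G (e 0))) := by
      rw [even_iff_two_dvd]
      have hs0 : s ∈ MulAction.stabilizer G (e 0) := by
        rw [MulAction.mem_stabilizer_iff, hs, neg_zero]
      have hord : orderOf (⟨s, hs0⟩ : MulAction.stabilizer G (e 0)) = 2 :=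
        orderOf_eq_prime (Subtype.ext (by rw [pow_two]; exact hss))
          (fun h => hs1 (congrArg Subtype.val h))
      exact hord ▸ orderOf_dvd_natCard _
    have hcard : Nat.card (MulAction.stabilizer G a) = Nat.card (MulAction.stabilizer G (e 0)) := by
      have h1 := (MulAction.stabilizer G a).card_mul_index
      have h2 := (MulAction.stabilizer G (e 0)).card_mul_index
      rw [MulAction.index_stabilizer_of_transitive] at h1 h2
      have : Nat.card α ≠ 0 := by rw [Nat.card_eq_fintype_card, hα]; exact hp.ne_zero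
      exact Nat.eq_of_mul_eq_mul_right (Nat.pos_of_ne_zero this) (h1.trans h2.symm)
    rwa [hcard]
  refine Cfsg.Agent.S0672.result (K := ZMod p) (p := p) (CfsgLib.Perm.two_transitive hα hG)
    (by rw [hα]) hstab ?_
  intro f hf
  let U := Cfsg.permSumZero (ZMod p) G α
  let W : Subrepresentation (Cfsg.permRep (ZMod p) G α) :=
    { toSubmodule := (LinearMap.ker f.toLinearMap).map U.toSubmodule.subtype
      apply_mem_toSubmodule := fun g => by
        rintro _ ⟨v, hv, rfl⟩
        refine ⟨U.toRepresentation g v, ?_, rfl⟩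
        simp only [SetLike.mem_coe, LinearMap.mem_ker] at hv ⊢
        rw [Representation.IntertwiningMap.toLinearMap_apply] at hv ⊢
        rw [f.isIntertwining, hv, map_zero] }
  have hconstU : ∀ c : ZMod p, (fun _ : α => c) ∈ U.toSubmodule := fun c => by
    rw [CfsgLib.Perm.mem_permSumZero]; simp [hα]
  have h1 : (Cfsg.permConstants (ZMod p) G α).toSubmodule ≤ W.toSubmodule := by
    intro v hv
    obtain ⟨c, hc⟩ := CfsgLib.Perm.mem_permConstants.1 hv
    refine ⟨⟨v, (funext hc : v = fun _ => c) ▸ hconstU c⟩, ?_, rfl⟩
    exact hf _ hv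
  have h2' : W.toSubmodule ≤ U.toSubmodule := by
    rintro _ ⟨v, -, rfl⟩; exact v.2
  rcases CfsgLib.Perm.heart_irreducible hα hG W h1 h2' with hW | hW
  · exfalso
    let v : α → ZMod p := fun x => e.symm x
    have hv : v ∈ U.toSubmodule := by
      rw [CfsgLib.Perm.mem_permSumZero, ← Equiv.sum_comp e]
      simp only [v, Equiv.symm_apply_apply]
      simpa using FiniteField.sum_pow_lt_card_sub_one (K := ZMod p) 1 (by rw [ZMod.card]; omega)
    let w := f ⟨v, hv⟩
    have hfix : ∀ B, w (σ⁻¹ • B) = w B := by
      intro B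
      have hd : U.toRepresentation σ ⟨v, hv⟩ - ⟨v, hv⟩ = ⟨fun _ => -1, hconstU _⟩ := by
        refine Subtype.ext (funext fun x => ?_)
        obtain ⟨j, rfl⟩ := e.surjective x
        change v (σ⁻¹ • e j) - v (e j) = -1
        simp [v, he.inv_smul]
      have h0 : f (U.toRepresentation σ ⟨v, hv⟩ - ⟨v, hv⟩) = 0 := by
        rw [hd]
        exact hf _ (CfsgLib.Perm.mem_permConstants.2 ⟨-1, fun _ => rfl⟩)
      rw [map_sub, f.isIntertwining, sub_eq_zero] at h0
      exact congrFun h0 B
    have hneg : ∀ B, w (s⁻¹ • B) = - w B := by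
      intro B
      have hd : U.toRepresentation s ⟨v, hv⟩ = -⟨v, hv⟩ := by
        refine Subtype.ext (funext fun x => ?_)
        obtain ⟨j, rfl⟩ := e.surjective x
        change v (s⁻¹ • e j) = -v (e j)
        rw [inv_eq_of_mul_eq_one_right hss, hs]
        simp [v]
      have h0 := congrArg (fun u => f u) hd
      simp only [map_neg] at h0
      exact congrFun ((Representation.IntertwiningMap.isIntertwining _ _ f s (⟨v, hv⟩ : U.toSubmodule)).symm.trans h0) B
    have hpow : ∀ (k : ℕ) B, w (σ ^ k • B) = w B := by
      intro k B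
      induction k with
      | zero => simp
      | succ k ih => rw [pow_succ', mul_smul, ← hfix, inv_smul_smul, ih]
    have hw0 : w = 0 := by
      funext B
      obtain ⟨x, y, hxy, hB⟩ := Finset.card_eq_two.1 (Set.powersetCard.card_eq B)
      obtain ⟨i, rfl⟩ := e.surjective x
      obtain ⟨j, rfl⟩ := e.surjective y
      have hsB : s • B = σ ^ (-(i + j)).val • B := by
        apply Subtype.ext
        change s • (B : Finset α) = σ ^ (-(i + j)).val • (B : Finset α)
        rw [hB, Finset.smul_finset_insert,
          Finset.smul_finset_insert, Finset.smul_finset_singleton, Finset.smul_finset_singleton,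
          hs, hs, he.pow_smul, he.pow_smul, ZMod.natCast_val, ZMod.cast_id', id_eq,
          show i + -(i + j) = -j by ring, show j + -(i + j) = -i by ring, Finset.pair_comm]
      have := hneg (s • B)
      rw [inv_smul_smul, hsB, hpow] at this
      have h20 : (2 : ZMod p) * w B = 0 := by linear_combination this
      refine (mul_eq_zero.1 h20).resolve_left fun h => ?_
      have h' : ((2 : ℕ) : ZMod p) = 0 := by exact_mod_cast h
      rw [ZMod.natCast_eq_zero_iff] at h'
      have := Nat.le_of_dvd (by norm_num) h'
      omega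
    have hvW : v ∈ W.toSubmodule := ⟨⟨v, hv⟩, hw0, rfl⟩
    rw [hW] at hvW
    obtain ⟨c, hc⟩ := CfsgLib.Perm.mem_permConstants.1 hvW
    have := (hc (e 0)).trans (hc (e 1)).symm
    simp [v] at this
  · refine Representation.IntertwiningMap.ext (LinearMap.ext fun u => ?_)
    have hu : (u : α → ZMod p) ∈ W.toSubmodule := by rw [hW]; exact u.2
    obtain ⟨u', hu', huu⟩ := hu
    rw [← Subtype.ext huu]
    simpa using hu'

end Cfsg.Agent.S0676
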