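import Cfsg.Statements.S0743
import Cfsg.Agent.Lib.Perm.Multi

set_option autoImplicit false
open Cfsg

namespace Cfsg.Agent.S0743

/-- Gleason's Lemma: let `p` be a prime and `1 ≤ k < n`; if every `k`-subset of the `n` points is exactly the fixed-point set of some `p`-subgroup of `G`, then `G` is `k`-transitive. -/
theorem result {α : Type*} [Fintype α] [DecidableEq α] (G : Subgroup (Equiv.Perm α)) {p k : ℕ} (hp : p.Prime) (hk : 1 ≤ k) (hkn : k < Fintype.card α) (h : ∀ s : Finset α, s.card = k → ∃ P : Subgroup G, IsPGroup p P ∧ MulAction.fixedPoints P α = (s : Set α)) : MulAction.IsMultiplyPretransitive G α k := by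
  classical
  have : Fact p.Prime := ⟨hp⟩
  refine CfsgLib.Perm.isMultiplyPretransitive_of_fixing hkn fun T hT a b ha hb => ?_
  let K := fixingSubgroup G (T : Set α)
  by_contra hcon
  have hfin : ∀ y, y ∉ T → ∀ c : α, c ∉ T →
      Nat.card (MulAction.orbit K c) ≡ (if y ∈ MulAction.orbit K c then 1 else 0) [MOD p] := by
    intro y hy c hc
    obtain ⟨P, hP, hfix⟩ := h (insert y T) (by rw [Finset.card_insert_of_notMem hy, hT]; omega)
    have hPK : P ≤ K := by
      intro g hg
      rw [mem_fixingSubgroup_iff]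
      intro t ht
      have hmem : t ∈ MulAction.fixedPoints P α := by
        rw [hfix]; simp [Finset.mem_coe.1 ht]
      exact hmem ⟨g, hg⟩
    let S : SubMulAction P α :=
      { carrier := MulAction.orbit K c
        smul_mem' := fun g x hx => by
          have h1 : ((⟨g, hPK g.2⟩ : K) • x) ∈ MulAction.orbit K c := by
            obtain ⟨k, rfl⟩ := hx
            exact ⟨⟨g, hPK g.2⟩ * k, mul_smul _ _ _⟩
          exact h1 }
    have hmod : Nat.card (MulAction.orbit K c) ≡ Nat.card (MulAction.fixedPoints P S) [MOD p] :=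
      hP.card_modEq_card_fixedPoints S
    have hmemiff : ∀ s : S, s ∈ MulAction.fixedPoints P S → (s : α) = y := by
      intro s hs
      have h1 : (s : α) ∈ MulAction.fixedPoints P α := fun g => congrArg Subtype.val (hs g)
      rw [hfix, Finset.mem_coe, Finset.mem_insert] at h1
      refine h1.resolve_right fun hsT => ?_
      obtain ⟨k, hk⟩ := s.2
      have h2 : k • (s : α) = (s : α) := (mem_fixingSubgroup_iff G).1 k.2 _ hsT
      exact hc (MulAction.injective k (h2.trans hk.symm) ▸ hsT)
    have hcount : Nat.card (MulAction.fixedPoints P S) =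
        if y ∈ MulAction.orbit K c then 1 else 0 := by
      split_ifs with hy'
      · rw [Nat.card_eq_one_iff_unique]
        refine ⟨⟨fun u v => Subtype.ext (Subtype.ext ((hmemiff _ u.2).trans (hmemiff _ v.2).symm))⟩,
          ⟨⟨⟨y, hy'⟩, fun g => Subtype.ext ?_⟩⟩⟩
        have : y ∈ MulAction.fixedPoints P α := by rw [hfix]; simp
        exact this g
      · rw [Nat.card_eq_zero]
        refine Or.inl ⟨fun u => hy' ?_⟩
        rw [← hmemiff _ u.2]
        exact u.1.2
    rw [hcount] at hmod
    exact hmod
  have h1 := hfin a ha a ha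
  rw [if_pos (MulAction.mem_orbit_self a)] at h1
  have h2 := hfin b hb a ha
  have hneg : b ∉ MulAction.orbit K a := by
    rintro ⟨g, hg⟩
    exact hcon ⟨g, fun t ht => (mem_fixingSubgroup_iff G).1 g.2 t ht, hg⟩
  rw [if_neg hneg] at h2
  have h3 : 1 ≡ 0 [MOD p] := h1.symm.trans h2
  rw [Nat.modEq_zero_iff_dvd] at h3
  exact hp.not_dvd_one h3

end Cfsg.Agent.S0743
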