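import Cfsg.Statements.S3707
import Mathlib

set_option autoImplicit false
set_option linter.style.haveILetI false
open Cfsg

namespace Cfsg.Agent.S3707

open MulAction
open scoped Pointwise

variable {G Ω : Type*} [Group G] [MulAction G Ω]

/-- the pointwise stabilizer of the complement of `U` is transitive on `U` -/
def J (G : Type*) [Group G] {Ω : Type*} [MulAction G Ω] (U : Set Ω) : Prop :=
  ∀ x ∈ U, ∀ y ∈ U, ∃ g : G, (∀ z ∉ U, g • z = z) ∧ g • x = y

theorem J.smul {U : Set Ω} (h : J G U) (g : G) : J G (g • U) := by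
  rintro _ ⟨x, hx, rfl⟩ _ ⟨y, hy, rfl⟩
  obtain ⟨k, hk, hkxy⟩ := h x hx y hy
  refine ⟨g * k * g⁻¹, fun z hz => ?_, ?_⟩
  · have hz' : g⁻¹ • z ∉ U := fun h' => hz (Set.mem_smul_set_iff_inv_smul_mem.mpr h')
    rw [mul_smul, mul_smul, hk _ hz', smul_inv_smul]
  · show (g * k * g⁻¹) • (g • x) = g • y
    rw [mul_smul, mul_smul, inv_smul_smul, hkxy]

theorem J.union {U V : Set Ω} (hU : J G U) (hV : J G V) {w : Ω} (hwU : w ∈ U) (hwV : w ∈ V) :
    J G (U ∪ V) := by
  have key : ∀ x ∈ U ∪ V, ∃ g : G, (∀ z ∉ U ∪ V, g • z = z) ∧ g • x = w := by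
    rintro x (hx | hx)
    · obtain ⟨g, hg, hgx⟩ := hU x hx w hwU
      exact ⟨g, fun z hz => hg z fun h => hz (Or.inl h), hgx⟩
    · obtain ⟨g, hg, hgx⟩ := hV x hx w hwV
      exact ⟨g, fun z hz => hg z fun h => hz (Or.inr h), hgx⟩
  intro x hx y hy
  obtain ⟨g, hg, hgx⟩ := key x hx
  obtain ⟨k, hk, hky⟩ := key y hy
  refine ⟨k⁻¹ * g, fun z hz => ?_, ?_⟩
  · rw [mul_smul, hg z hz, inv_smul_eq_iff, hk z hz]
  · rw [mul_smul, hgx, inv_smul_eq_iff, hky]

variable [Finite G] [Finite Ω]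

/-- No nontrivial blocks for a point stabilizer in the presence of a small Jordan set. -/
theorem no_block (hprim : IsPreprimitive G Ω) (h2 : IsMultiplyPretransitive G Ω 2)
    (Γ : Set Ω) (h1 : 1 < Γ.ncard) (hsmall : 2 * Γ.ncard ≤ Nat.card Ω) (hΓ : J G Γ)
    (a : Ω) (B : Set Ω) (haB : a ∉ B) (x y : Ω) (hx : x ∈ B) (hy : y ∈ B) (hxy : x ≠ y)
    (z : Ω) (hza : z ≠ a) (hzB : z ∉ B)
    (hblock : ∀ g : G, g • a = a → (∃ b ∈ B, g • b ∈ B) → g • B = B) : False := by
  classical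
  have hxa : x ≠ a := fun h => haB (h ▸ hx)
  have h2' : ∀ {p q r t : Ω}, p ≠ q → r ≠ t → ∃ g : G, g • p = r ∧ g • q = t :=
    is_two_pretransitive_iff.mp h2
  have hcover : ∀ v, v ≠ a → ∃ w : G, w • a = a ∧ v ∈ w • B := by
    intro v hv
    obtain ⟨w, hwa, hwx⟩ := h2' hxa.symm hv.symm
    exact ⟨w, hwa, x, hx, hwx⟩
  -- the dichotomy
  have hcase : ∀ U : Set Ω, J G U → a ∉ U → ∀ w : G, w • a = a → ∀ u ∈ U, u ∈ w • B →
      ¬ w • B ⊆ U → U ⊆ w • B := by
    intro U hU haU w hwa u hu hub hns t ht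
    obtain ⟨v, hv, hvU⟩ := Set.not_subset.mp hns
    obtain ⟨g, hg, hgu⟩ := hU u hu t ht
    have hfix : g • (w • B) = w • B := by
      have e : (w⁻¹ * g * w) • B = B := by
        refine hblock _ ?_ ?_
        · rw [mul_smul, mul_smul, hwa, hg a haU, inv_smul_eq_iff, hwa]
        · obtain ⟨b, hb, rfl⟩ := hv
          refine ⟨b, hb, ?_⟩
          rw [mul_smul, mul_smul, hg _ hvU, inv_smul_smul]
          exact hb
      rw [mul_smul, mul_smul, inv_smul_eq_iff] at e
      exact e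
    rw [← hfix, ← hgu]
    exact Set.smul_mem_smul_set hub
  -- two disjoint translates of the block
  have hBn : 2 * B.ncard < Nat.card Ω := by
    obtain ⟨w, hwa, hwz⟩ := hcover z hza
    have hdis : Disjoint B (w • B) := by
      rw [Set.disjoint_left]
      intro b hb hb'
      obtain ⟨c, hc, hcb⟩ := hb'
      exact hzB (hblock w hwa ⟨c, hc, (show w • c = b from hcb).symm ▸ hb⟩ ▸ hwz)
    have ha' : a ∉ B ∪ w • B := by
      rintro (h | ⟨c, hc, hca⟩)
      · exact haB h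
      · exact haB (show a ∈ B from (MulAction.injective w (hca.trans hwa.symm)) ▸ hc)
    have h3 := Set.ncard_lt_card (s := B ∪ w • B) (fun h => ha' (h ▸ Set.mem_univ a))
    rw [Set.ncard_union_eq hdis, Set.ncard_smul_set] at h3
    omega
  -- no Jordan set is as small as a block
  have hbig : ∀ U : Set Ω, J G U → 1 < U.ncard → B.ncard < U.ncard := by
    by_contra hcon
    push Not at hcon
    obtain ⟨U₀, hU₀, hU₀1, hU₀B⟩ := hcon
    obtain ⟨U, ⟨hU, hU1, hUB⟩, hmax⟩ := Set.Finite.exists_maximalFor (fun U : Set Ω => U.ncard)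
      {U : Set Ω | J G U ∧ 1 < U.ncard ∧ U.ncard ≤ B.ncard} (Set.toFinite _) ⟨U₀, hU₀, hU₀1, hU₀B⟩
    obtain ⟨g, hgne, u, hu, hgu⟩ : ∃ g : G, g • U ≠ U ∧ ∃ u ∈ U, u ∈ g • U := by
      by_contra hno
      push Not at hno
      have hblk : IsBlock G U := isBlock_iff_smul_eq_or_disjoint.mpr fun g => by
        by_cases h : g • U = U
        · exact Or.inl h
        · exact Or.inr (Set.disjoint_left.mpr fun v hv hvU => hno g h v hvU hv)
      rcases hprim.isTrivialBlock_of_isBlock hblk with h | h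
      · have := (Set.ncard_le_one (Set.toFinite _)).mpr fun p hp q hq => h hp hq
        omega
      · rw [h, Set.ncard_univ] at hUB
        omega
    set V := U ∪ g • U with hV
    have hVJ : J G V := hU.union (hU.smul g) hu hgu
    have hUV : U.ncard < V.ncard := by
      refine Set.ncard_lt_ncard ⟨Set.subset_union_left, fun h => hgne ?_⟩ (Set.toFinite _)
      exact Set.eq_of_subset_of_ncard_le (Set.subset_union_right.trans h)
        (le_of_eq (Set.ncard_smul_set g U).symm) (Set.toFinite _)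
    have hVn : V.ncard < Nat.card Ω := by
      have := Set.ncard_union_le U (g • U)
      rw [Set.ncard_smul_set] at this
      show (U ∪ g • U).ncard < _
      omega
    obtain ⟨v, hv⟩ : ∃ v, v ∉ V := by
      by_contra h
      push Not at h
      rw [Set.eq_univ_of_forall h, Set.ncard_univ] at hVn
      exact lt_irrefl _ hVn
    obtain ⟨k, hk⟩ := hprim.toIsPretransitive.exists_smul_eq v a
    have haV : a ∉ k • V := fun h => hv (by rw [← hk, Set.smul_mem_smul_set_iff] at h; exact h)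
    have haU : a ∉ k • U := fun h => haV (Set.smul_set_mono Set.subset_union_left h)
    have haU' : a ∉ k • g • U := fun h => haV (Set.smul_set_mono Set.subset_union_right h)
    have hku : k • u ≠ a := fun h => haU (h ▸ Set.smul_mem_smul_set hu)
    obtain ⟨w, hwa, hwu⟩ := hcover _ hku
    have hin : ∀ T : Set Ω, J G T → T.ncard ≤ B.ncard → a ∉ T → k • u ∈ T → T ⊆ w • B := by
      intro T hT hTB haT huT
      by_cases hs : w • B ⊆ T
      · exact (Set.eq_of_subset_of_ncard_le hs (by rw [Set.ncard_smul_set]; exact hTB)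
          (Set.toFinite _)).ge
      · exact hcase T hT haT w hwa _ huT hwu hs
    have h3 := hin _ (hU.smul k) (by rw [Set.ncard_smul_set]; exact hUB) haU (Set.smul_mem_smul_set hu)
    have h4 := hin _ ((hU.smul g).smul k) (by rw [Set.ncard_smul_set, Set.ncard_smul_set]; exact hUB)
      haU' (Set.smul_mem_smul_set hgu)
    have h5 : V.ncard ≤ B.ncard := by
      rw [← Set.ncard_smul_set k V, ← Set.ncard_smul_set w B, hV, Set.smul_set_union]
      exact Set.ncard_le_ncard (Set.union_subset h3 h4) (Set.toFinite _)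
    have h6 := hmax (show V ∈ {U : Set Ω | J G U ∧ 1 < U.ncard ∧ U.ncard ≤ B.ncard} from
      ⟨hVJ, hU1.trans hUV, h5⟩) hUV.le
    have h7 : V.ncard ≤ U.ncard := h6
    omega
  -- counting translates
  haveI := Fintype.ofFinite G
  haveI := Fintype.ofFinite Ω
  let N : Ω → Ω → ℕ := fun u v =>
    (Finset.univ.filter fun g : G => g⁻¹ • u ∈ Γ ∧ g⁻¹ • v ∈ Γ).card
  have hsep : ∀ g : G, g⁻¹ • x ∈ Γ → g⁻¹ • y ∉ Γ → g⁻¹ • a ∈ Γ := by
    intro g hgx hgy
    by_contra hga
    have haU : a ∉ g • Γ := fun h => hga (Set.mem_smul_set_iff_inv_smul_mem.mp h)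
    have h1B : (1 : G) • B = B := one_smul G B
    have hsub := hcase (g • Γ) (hΓ.smul g) haU 1 (one_smul G a) x
      (Set.mem_smul_set_iff_inv_smul_mem.mpr hgx) (h1B.symm ▸ hx)
      (fun h => hgy (Set.mem_smul_set_iff_inv_smul_mem.mp (h (h1B.symm ▸ hy))))
    have h3 := hbig _ (hΓ.smul g) (by rw [Set.ncard_smul_set]; exact h1)
    have h4 := Set.ncard_le_ncard hsub (Set.toFinite _)
    rw [h1B] at h4
    omega
  have hconst : ∀ v, v ≠ x → N x v = N x y := by
    intro v hv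
    obtain ⟨h, hhx, hhy⟩ := h2' hxy hv.symm
    refine Finset.card_equiv (Equiv.mulLeft h⁻¹) fun g => ?_
    simp only [Finset.mem_filter, Finset.mem_univ, true_and, Equiv.coe_mulLeft, mul_inv_rev, inv_inv,
      mul_smul, hhx, hhy]
  set r := (Finset.univ.filter fun g : G => g⁻¹ • x ∈ Γ).card with hr
  have hrpos : 0 < r := by
    obtain ⟨p, hp⟩ := Set.nonempty_of_ncard_ne_zero (show Γ.ncard ≠ 0 by omega)
    obtain ⟨g, hg⟩ := hprim.toIsPretransitive.exists_smul_eq p x
    exact Finset.card_pos.mpr ⟨g, by simp [← hg, hp]⟩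
  have hle : r ≤ N x y + N x a := by
    rw [hr]
    refine le_trans (Finset.card_le_card fun g hg => ?_) (Finset.card_union_le _ _)
    simp only [Finset.mem_filter, Finset.mem_univ, true_and, Finset.mem_union] at hg ⊢
    by_cases hgy : g⁻¹ • y ∈ Γ
    · exact Or.inl ⟨hg, hgy⟩
    · exact Or.inr ⟨hg, hsep g hg hgy⟩
  rw [hconst a hxa.symm] at hle
  have hdouble : ∑ v, N x v = r * Γ.ncard := by
    have hN : ∀ v, N x v = ∑ g ∈ Finset.univ.filter (fun g : G => g⁻¹ • x ∈ Γ),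
        if g⁻¹ • v ∈ Γ then 1 else 0 := by
      intro v
      rw [← Finset.card_filter, Finset.filter_filter]
    simp only [hN]
    rw [Finset.sum_comm, hr, ← smul_eq_mul, ← Finset.sum_const]
    refine Finset.sum_congr rfl fun g _ => ?_
    rw [← Finset.card_filter, ← Set.ncard_smul_set g Γ, Set.ncard_eq_toFinset_card']
    congr 1
    ext v
    simp [← Finset.inv_smul_mem_iff]
  rw [← Finset.add_sum_erase _ _ (Finset.mem_univ x),
    Finset.sum_congr rfl (fun v hv => hconst v (Finset.ne_of_mem_erase hv)),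
    Finset.sum_const, smul_eq_mul, Finset.card_erase_of_mem (Finset.mem_univ x), Finset.card_univ] at hdouble
  have hxx : N x x = r := by simp [N, hr]
  rw [hxx] at hdouble
  rw [Nat.card_eq_fintype_card] at hsmall
  obtain ⟨m, hm⟩ : ∃ m, Fintype.card Ω = m + 1 := ⟨Fintype.card Ω - 1, by omega⟩
  rw [hm] at hsmall hdouble
  simp only [Nat.add_sub_cancel] at hdouble
  nlinarith

/-- Let G be a finite primitive permutation group on Ω of degree n and Γ ⊂ Ω a subset with 1 < #Γ ≤ n/2 such that the pointwise stabilizer of Ω ∖ Γ is transitive on Γ. Then G is 3-transitive on Ω. -/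
theorem result {G Ω : Type*} [Group G] [Finite G] [MulAction G Ω] [FaithfulSMul G Ω] [Finite Ω] (hprim : MulAction.IsPreprimitive G Ω) (Γ : Set Ω) (h1 : 1 < Γ.ncard) (h2 : 2 * Γ.ncard ≤ Nat.card Ω) (htr : ∀ x ∈ Γ, ∀ y ∈ Γ, ∃ g : G, (∀ z ∉ Γ, g • z = z) ∧ g • x = y) : MulAction.IsMultiplyPretransitive G Ω 3 := by
  classical
  haveI := hprim.toIsPretransitive
  have hc : Γᶜ.ncard = Nat.card Ω - Γ.ncard := Set.ncard_compl Γ
  have hG2 : IsMultiplyPretransitive G Ω 2 := by
    refine hprim.is_two_pretransitive (s := Γᶜ) (n := Γᶜ.ncard - 1) (by omega) (by omega) ⟨?_⟩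
    rintro ⟨u, hu⟩ ⟨v, hv⟩
    obtain ⟨g, hg, hguv⟩ := htr u (not_not.mp hu) v (not_not.mp hv)
    exact ⟨⟨g, fun w => hg w.1 w.2⟩, Subtype.ext hguv⟩
  obtain ⟨a, ha⟩ : ∃ a, a ∉ Γ := by
    by_contra h
    push Not at h
    rw [Set.eq_univ_of_forall h, Set.ncard_univ] at h1 h2
    omega
  rw [SubMulAction.ofStabilizer.isMultiplyPretransitive (a := a)]
  have htrA : IsPretransitive (stabilizer G a) (SubMulAction.ofStabilizer G a) := by
    rw [← is_one_pretransitive_iff, ← SubMulAction.ofStabilizer.isMultiplyPretransitive (a := a)]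
    exact hG2
  have hprimA : IsPreprimitive (stabilizer G a) (SubMulAction.ofStabilizer G a) := by
    refine { toIsPretransitive := htrA, isTrivialBlock_of_isBlock := ?_ }
    intro B₀ hB₀
    by_contra hnt
    rw [IsTrivialBlock] at hnt
    push Not at hnt
    obtain ⟨hns, hnu⟩ := hnt
    obtain ⟨x, hx, y, hy, hxy⟩ := hns
    obtain ⟨z, hz⟩ := (Set.ne_univ_iff_exists_notMem B₀).mp hnu
    refine no_block hprim hG2 Γ h1 h2 htr a (Subtype.val '' B₀) ?_ x.1 y.1 ⟨x, hx, rfl⟩ ⟨y, hy, rfl⟩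
      (fun h => hxy (Subtype.ext h)) z.1 z.2 (fun h => hz ?_) ?_
    · rintro ⟨b, -, hb⟩
      exact b.2 hb
    · obtain ⟨b, hb, hbz⟩ := h
      rwa [← Subtype.ext hbz]
    · intro g hga hmeet
      obtain ⟨-, ⟨b, hb, rfl⟩, ⟨c, hc', hcb⟩⟩ := hmeet
      let k : stabilizer G a := ⟨g, hga⟩
      have e : k • B₀ = B₀ := hB₀.smul_eq_of_nonempty ⟨c, ⟨b, hb, Subtype.ext hcb.symm⟩, hc'⟩
      ext v
      constructor
      · rintro ⟨-, ⟨p, hp, rfl⟩, rfl⟩
        exact ⟨k • p, e ▸ Set.smul_mem_smul_set hp, rfl⟩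
      · rintro ⟨p, hp, rfl⟩
        rw [← e] at hp
        obtain ⟨q, hq, rfl⟩ := hp
        exact ⟨q.1, ⟨q, hq, rfl⟩, rfl⟩
  set s : Set (SubMulAction.ofStabilizer G a) := Subtype.val ⁻¹' Γᶜ with hs
  have hsc : s.ncard = Γᶜ.ncard - 1 := by
    have e : Subtype.val '' s = Γᶜ \ {a} := by
      ext v
      constructor
      · rintro ⟨w, hw, rfl⟩
        exact ⟨hw, w.2⟩
      · rintro ⟨hv, hva⟩
        exact ⟨⟨v, hva⟩, hv, rfl⟩
    rw [← Set.ncard_image_of_injective s Subtype.val_injective, e,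
      Set.ncard_sdiff_singleton_of_mem (show a ∈ Γᶜ from ha)]
  have hcardA : Nat.card (SubMulAction.ofStabilizer G a) = Nat.card Ω - 1 := by
    have e : (SubMulAction.ofStabilizer G a).carrier = ({a}ᶜ : Set Ω) := rfl
    show Nat.card ↥(SubMulAction.ofStabilizer G a).carrier = _
    rw [Nat.card_coe_set_eq, e, Set.ncard_compl, Set.ncard_singleton]
  refine hprimA.is_two_pretransitive (s := s) (n := s.ncard - 1) (by omega) (by omega) ⟨?_⟩
  rintro ⟨u, hu⟩ ⟨v, hv⟩
  obtain ⟨g, hg, hguv⟩ := htr u.1 (not_not.mp hu) v.1 (not_not.mp hv)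
  exact ⟨⟨⟨g, hg a ha⟩, fun w => Subtype.ext (hg w.1.1 w.2)⟩, Subtype.ext (Subtype.ext hguv)⟩

end Cfsg.Agent.S3707
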