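import Cfsg.Statements.S2279
import Cfsg.Agent.Lib.KnownA.GenSmallRank

set_option autoImplicit false
open Cfsg

namespace Cfsg.Agent.S2279

/-- Let F be a finite field with q elements and n ≥ 4. Then SL_n(F) is generated by two regular unipotent elements (elements u with u − 1 nilpotent and (u − 1)^(n−1) ≠ 0); if q is prime, the two can be taken conjugate in SL_n(F). -/
theorem result {F : Type*} [Field F] [Fintype F] (n : ℕ) (hn : 4 ≤ n) :
    (∃ u v : Matrix.SpecialLinearGroup (Fin n) F, (IsNilpotent ((u : Matrix (Fin n) (Fin n) F) - 1) ∧ ((u : Matrix (Fin n) (Fin n) F) - 1) ^ (n - 1) ≠ 0) ∧ (IsNilpotent ((v : Matrix (Fin n) (Fin n) F) - 1) ∧ ((v : Matrix (Fin n) (Fin n) F) - 1) ^ (n - 1) ≠ 0) ∧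
      Subgroup.closure ({u, v} : Set (Matrix.SpecialLinearGroup (Fin n) F)) = ⊤) ∧
    ((Fintype.card F).Prime → ∃ u g : Matrix.SpecialLinearGroup (Fin n) F, (IsNilpotent ((u : Matrix (Fin n) (Fin n) F) - 1) ∧ ((u : Matrix (Fin n) (Fin n) F) - 1) ^ (n - 1) ≠ 0) ∧
      Subgroup.closure ({u, g * u * g⁻¹} : Set (Matrix.SpecialLinearGroup (Fin n) F)) = ⊤) := by
  classical
  obtain ⟨p, hchar⟩ := CharP.exists F
  have : Fact p.Prime := ⟨CharP.char_is_prime F p⟩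
  obtain ⟨w, hw⟩ : ∃ w : Fˣ, ∀ x, x ∈ Submonoid.powers w := IsCyclic.exists_monoid_generator
  have hreg : ∀ (u g : Matrix.SpecialLinearGroup (Fin n) F),
      IsNilpotent ((u : Matrix (Fin n) (Fin n) F) - 1) → ((u : Matrix (Fin n) (Fin n) F) - 1) ^ (n - 1) ≠ 0 →
      IsNilpotent (((g * u * g⁻¹ : Matrix.SpecialLinearGroup (Fin n) F) : Matrix (Fin n) (Fin n) F) - 1) ∧
        (((g * u * g⁻¹ : Matrix.SpecialLinearGroup (Fin n) F) : Matrix (Fin n) (Fin n) F) - 1) ^ (n - 1) ≠ 0 := by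
    intro u g hnil hne
    have h1 : g.1 * (g⁻¹).1 = (1 : Matrix (Fin n) (Fin n) F) := by
      rw [← Matrix.SpecialLinearGroup.coe_mul, mul_inv_cancel, Matrix.SpecialLinearGroup.coe_one]
    have h2 : (g⁻¹).1 * g.1 = (1 : Matrix (Fin n) (Fin n) F) := by
      rw [← Matrix.SpecialLinearGroup.coe_mul, inv_mul_cancel, Matrix.SpecialLinearGroup.coe_one]
    let e : (Matrix (Fin n) (Fin n) F)ˣ := ⟨g.1, (g⁻¹).1, h1, h2⟩
    have he : ((g * u * g⁻¹ : Matrix.SpecialLinearGroup (Fin n) F) : Matrix (Fin n) (Fin n) F) - 1 =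
        (e : Matrix (Fin n) (Fin n) F) * ((u : Matrix (Fin n) (Fin n) F) - 1) * (↑e⁻¹ : Matrix (Fin n) (Fin n) F) := by
      show _ = g.1 * (u.1 - 1) * (g⁻¹).1
      rw [mul_sub, mul_one, sub_mul, h1, Matrix.SpecialLinearGroup.coe_mul, Matrix.SpecialLinearGroup.coe_mul]
    rw [he]
    refine ⟨?_, fun h => hne ?_⟩
    · obtain ⟨m, hm⟩ := hnil
      exact ⟨m, by rw [Units.conj_pow, hm, mul_zero, zero_mul]⟩
    · rw [Units.conj_pow, Units.mul_left_eq_zero, Units.mul_right_eq_zero] at h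
      exact h
  by_cases hp : p = 2
  · subst hp
    obtain ⟨u, g, h1, h2, h3⟩ : ∃ u g : Matrix.SpecialLinearGroup (Fin n) F,
        IsNilpotent ((u : Matrix (Fin n) (Fin n) F) - 1) ∧ ((u : Matrix (Fin n) (Fin n) F) - 1) ^ (n - 1) ≠ 0 ∧
        Subgroup.closure ({u, g * u * g⁻¹} : Set (Matrix.SpecialLinearGroup (Fin n) F)) = ⊤ := by
      by_cases h6 : n = 6
      · subst h6; exact CfsgLib.KnownA.pair_six w hw
      · obtain ⟨k, hk1, hk2, hk3⟩ := CfsgLib.KnownA.exists_good_k (l := n - 1) (by omega) (by omega)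
        exact CfsgLib.KnownA.pair_two hk1 (by omega) hk3 hn w hw
    exact ⟨⟨u, g * u * g⁻¹, ⟨h1, h2⟩, hreg u g h1 h2, h3⟩, fun _ => ⟨u, g, ⟨h1, h2⟩, h3⟩⟩
  refine ⟨?_, fun hq => ?_⟩
  · by_cases h4 : n = 4
    · subst h4
      exact CfsgLib.KnownA.pair_four p hp w hw
    · obtain ⟨u, g, h1, h2, h3⟩ := CfsgLib.KnownA.pair_odd p hp hn (w : F) (Or.inr (by omega))
        (Or.inr ⟨w, hw, rfl⟩)
      exact ⟨u, g * u * g⁻¹, ⟨h1, h2⟩, hreg u g h1 h2, h3⟩
  · have hcard : Fintype.card F = p := by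
      obtain ⟨e, hp', he⟩ := FiniteField.card F p
      have := (Nat.Prime.pow_eq_iff hq).1 he.symm
      exact this.1.symm
    have hprime : ∀ c : F, ∃ k : ℕ, c = k := by
      intro c
      have hbij := ZMod.castHom_bijective F hcard
      obtain ⟨k, hk⟩ := hbij.2 c
      refine ⟨k.val, ?_⟩
      rw [← hk, ← map_natCast (ZMod.castHom dvd_rfl F), ZMod.natCast_val, ZMod.cast_id', id]
    obtain ⟨u, g, h1, h2, h3⟩ := CfsgLib.KnownA.pair_odd (n := n) p hp hn (0 : F) (Or.inl rfl) (Or.inl hprime)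
    exact ⟨u, g, ⟨h1, h2⟩, h3⟩

end Cfsg.Agent.S2279
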