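import Cfsg.Statements.S1160
import Mathlib
import Cfsg.Agent.Lib.Base.Rank
import Cfsg.Agent.Lib.PGroups.Basic
import Cfsg.Agent.Lib.PGroups.Omega
import Cfsg.Agent.Lib.PGroups.UniqueOrderP

set_option autoImplicit false
open Cfsg

namespace Cfsg.Agent.S1160

/-- In a finite cyclic group subgroups of the same order coincide. -/
theorem subgroup_eq_of_card {P : Type*} [Group P] [Finite P] (hc : IsCyclic P) {H K : Subgroup P}
    (h : Nat.card H = Nat.card K) : H = K := by
  classical
  haveI := hc
  haveI := Fintype.ofFinite P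
  have key : ∀ L : Subgroup P, Nat.card L = Nat.card H →
      Finset.univ.filter (fun x => x ∈ L) = Finset.univ.filter (fun x : P => x ^ Nat.card H = 1) := by
    intro L hL
    refine Finset.eq_of_subset_of_card_le (fun x hx => ?_) ?_
    · rw [Finset.mem_filter] at hx ⊢
      exact ⟨hx.1, orderOf_dvd_iff_pow_eq_one.1 (hL ▸ Subgroup.orderOf_dvd_natCard L hx.2)⟩
    · refine (IsCyclic.card_pow_eq_one_le Nat.card_pos).trans (le_of_eq ?_)
      rw [← hL, Nat.card_eq_fintype_card, Fintype.card_subtype]
  ext x
  have := Finset.ext_iff.1 ((key H rfl).trans (key K h.symm).symm) x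
  simpa using this

/-- Let `p ≠ 2` be prime and `P` a finite `p`-group acting faithfully by additive automorphisms on a finite elementary abelian `q`-group `E` (`q` prime), such that `|P_a|` is the same for all `a ≠ 0`. Then `P` is cyclic and every non-identity element of `P` fixes only `0`. -/
theorem result {P E : Type*} [Group P] [Finite P]
    [AddCommGroup E] [Finite E] [DistribMulAction P E] [FaithfulSMul P E]
    {p q : ℕ} [Fact p.Prime] (hp2 : p ≠ 2) (hP : IsPGroup p P) (hq : q.Prime) (hE : ∀ e : E, q • e = 0)
    (hconst : ∀ a b : E, a ≠ 0 → b ≠ 0 →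
      Nat.card (MulAction.stabilizer P a) = Nat.card (MulAction.stabilizer P b)) :
    IsCyclic P ∧ ∀ g : P, g ≠ 1 → ∀ a : E, g • a = a → a = 0 := by
  classical
  have hp : p.Prime := Fact.out
  have hpodd : p ≠ 2 := hp2
  -- sums over powers of an element of exponent `p`
  have hNfix : ∀ (y : P) (v : E), y ^ p = 1 → y • (∑ i ∈ Finset.range p, y ^ i • v) = ∑ i ∈ Finset.range p, y ^ i • v := by
    intro y v hy
    rw [Finset.smul_sum]
    simp_rw [smul_smul, ← pow_succ']
    have h := Finset.sum_range_succ' (fun i => y ^ i • v) p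
    rw [Finset.sum_range_succ, hy, pow_zero] at h
    exact (add_right_cancel h).symm
  have hmain : (∃ a : E, a ≠ 0) → IsCyclic P ∧ ∀ g : P, g ≠ 1 → ∀ a : E, g • a = a → a = 0 := by
    rintro ⟨a₀, ha₀⟩
    have hfaith : ∀ g : P, (∀ a : E, g • a = a) → g = 1 := fun g h =>
      eq_of_smul_eq_smul fun a : E => by rw [h a, one_smul]
    have hsub_eq : ∀ a b : E, a ≠ 0 → b ≠ 0 → MulAction.stabilizer P a ≤ MulAction.stabilizer P b →
        MulAction.stabilizer P b ≤ MulAction.stabilizer P a := fun a b ha hb hle =>
      (Subgroup.eq_of_le_of_card_ge hle (hconst a b ha hb).ge).ge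
    by_cases hcyc : IsCyclic P
    · refine ⟨hcyc, fun g hg a hga => by_contra fun ha => hg (hfaith g fun b => ?_)⟩
      rcases eq_or_ne b 0 with rfl | hb
      · exact smul_zero g
      have h : MulAction.stabilizer P a = MulAction.stabilizer P b := subgroup_eq_of_card hcyc (hconst a b ha hb)
      exact MulAction.mem_stabilizer_iff.1 (h ▸ MulAction.mem_stabilizer_iff.2 hga)
    exfalso
    haveI : Nontrivial P := by
      by_contra h
      rw [not_nontrivial_iff_subsingleton] at h
      exact hcyc inferInstance
    -- the characteristic differs from `p`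
    have hpq : q ≠ p := by
      intro he
      subst he
      have hEp : q ∣ Nat.card E := by
        have h := addOrderOf_dvd_natCard a₀
        rwa [addOrderOf_eq_prime (hE a₀) ha₀] at h
      have hmod := hP.card_modEq_card_fixedPoints (α := E)
      have hfix : q ∣ Nat.card (MulAction.fixedPoints P E) :=
        (Nat.modEq_zero_iff_dvd).1 (hmod.symm.trans ((Nat.modEq_zero_iff_dvd).2 hEp))
      haveI : Nontrivial (MulAction.fixedPoints P E) := by
        rw [← Finite.one_lt_card_iff_nontrivial]
        have : 0 < Nat.card (MulAction.fixedPoints P E) := Nat.card_pos_iff.2 ⟨⟨⟨0, fun g => smul_zero g⟩⟩, inferInstance⟩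
        exact lt_of_lt_of_le hp.one_lt (Nat.le_of_dvd this hfix)
      obtain ⟨⟨a, ha⟩, ha0⟩ := exists_ne (⟨0, fun g => smul_zero g⟩ : MulAction.fixedPoints P E)
      have ha' : a ≠ 0 := fun e => ha0 (Subtype.ext e)
      obtain ⟨g, hg⟩ := exists_ne (1 : P)
      refine hg (hfaith g fun b => ?_)
      rcases eq_or_ne b 0 with rfl | hb
      · exact smul_zero g
      have h : MulAction.stabilizer P b = MulAction.stabilizer P a :=
        Subgroup.eq_of_le_of_card_ge (fun x _ => MulAction.mem_stabilizer_iff.2 (ha x)) (hconst a b ha' hb).le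
      exact MulAction.mem_stabilizer_iff.1 (h ▸ MulAction.mem_stabilizer_iff.2 (ha g))
    have hpinj : ∀ v : E, p • v = 0 → v = 0 := fun v hv => by
      rw [← AddMonoid.addOrderOf_eq_one_iff (x := v)]
      exact Nat.eq_one_of_dvd_coprimes ((Nat.coprime_primes hp hq).2 hpq.symm)
        (addOrderOf_dvd_of_nsmul_eq_zero hv) (addOrderOf_dvd_of_nsmul_eq_zero (hE v))
    -- a central element of order `p`
    haveI := hP.center_nontrivial
    obtain ⟨z, hzc, hzo⟩ : ∃ z : P, z ∈ Subgroup.center P ∧ orderOf z = p := by
      obtain ⟨k, hk, hkc⟩ := (hP.to_subgroup (Subgroup.center P)).nontrivial_iff_card.1 inferInstance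
      obtain ⟨z, hz⟩ := exists_prime_orderOf_dvd_card' (G := Subgroup.center P) p (hkc ▸ dvd_pow_self p (by omega))
      exact ⟨z, z.2, by rw [Subgroup.orderOf_coe, hz]⟩
    have hzp : z ^ p = 1 := hzo ▸ pow_orderOf_eq_one z
    have hz1 : z ≠ 1 := fun h => hp.ne_one (by rw [← hzo, h, orderOf_one])
    have hzcomm : ∀ g : P, g * z = z * g := fun g => Subgroup.mem_center_iff.1 hzc g
    have hzfpf : ∀ a : E, z • a = a → a = 0 := by
      intro a hza
      by_contra ha
      refine hz1 (hfaith z fun v => ?_)
      set n := ∑ i ∈ Finset.range p, z ^ i • v with hn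
      set w := p • v - n with hw
      have hzn : z • n = n := hNfix z v hzp
      have hw0 : w = 0 := by
        by_contra hw0
        have hzw : z • w ≠ w := by
          intro hzw
          have hpw : p • w = 0 := by
            have h1 : ∑ i ∈ Finset.range p, z ^ i • w = p • w := by
              have : ∀ i : ℕ, z ^ i • w = w := fun i => by
                induction i with
                | zero => rw [pow_zero, one_smul]
                | succ i ih => rw [pow_succ, mul_smul, hzw, ih]
              simp [this]
            have h2 : ∑ i ∈ Finset.range p, z ^ i • w = 0 := by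
              simp only [hw, smul_sub, Finset.sum_sub_distrib]
              have : ∀ i : ℕ, z ^ i • n = n := fun i => by
                induction i with
                | zero => rw [pow_zero, one_smul]
                | succ i ih => rw [pow_succ, mul_smul, hzn, ih]
              simp only [this, Finset.sum_const, Finset.card_range, smul_comm (_ : P) p v, ← Finset.smul_sum, ← hn, sub_self]
            exact h1.symm.trans h2
          exact hw0 (hpinj w hpw)
        have hlin : ∀ g : P, g • (a + w) = a + w → g • a = a := by
          intro g hg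
          have key : ∀ (x : E), p • x = ∑ i ∈ Finset.range p, z ^ i • x + (p • x - ∑ i ∈ Finset.range p, z ^ i • x) :=
            fun x => by abel
          have hN : ∑ i ∈ Finset.range p, z ^ i • (g • (a + w)) = ∑ i ∈ Finset.range p, z ^ i • (a + w) := by rw [hg]
          have hcomm : ∀ (i : ℕ) (x : E), z ^ i • g • x = g • z ^ i • x := fun i x => by
            rw [smul_smul, smul_smul, ((show Commute g z from hzcomm g).pow_right i).eq]
          have hNw : ∑ i ∈ Finset.range p, z ^ i • w = 0 := by
            simp only [hw, smul_sub, Finset.sum_sub_distrib]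
            have : ∀ i : ℕ, z ^ i • n = n := fun i => by
              induction i with
              | zero => rw [pow_zero, one_smul]
              | succ i ih => rw [pow_succ, mul_smul, hzn, ih]
            simp only [this, Finset.sum_const, Finset.card_range, smul_comm (_ : P) p v, ← Finset.smul_sum, ← hn, sub_self]
          have hNa : ∑ i ∈ Finset.range p, z ^ i • a = p • a := by
            have : ∀ i : ℕ, z ^ i • a = a := fun i => by
              induction i with
              | zero => rw [pow_zero, one_smul]
              | succ i ih => rw [pow_succ, mul_smul, hza, ih]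
            simp [this]
          simp only [hcomm, ← Finset.smul_sum, smul_add, Finset.sum_add_distrib, hNw, add_zero, hNa, smul_zero] at hN
          rw [smul_comm g p a, ← sub_eq_zero, ← smul_sub] at hN
          exact sub_eq_zero.1 (hpinj _ hN)
        have hab : a + w ≠ 0 := fun h => by
          rw [add_eq_zero_iff_eq_neg] at h
          rw [h, smul_neg, neg_inj] at hza
          exact hzw hza
        have hle : MulAction.stabilizer P (a + w) ≤ MulAction.stabilizer P a := fun g hg =>
          MulAction.mem_stabilizer_iff.2 (hlin g (MulAction.mem_stabilizer_iff.1 hg))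
        have hz_aw := hsub_eq _ _ hab ha hle (MulAction.mem_stabilizer_iff.2 hza)
        rw [MulAction.mem_stabilizer_iff, smul_add, hza] at hz_aw
        exact hzw (add_left_cancel hz_aw)
      have hfixv : p • (z • v - v) = 0 := by
        rw [smul_sub, ← smul_comm z p v, show p • v = n from sub_eq_zero.1 hw0, hzn, sub_self]
      exact sub_eq_zero.1 (hpinj _ hfixv)
    -- a normal elementary subgroup of order `p²` through `z`
    obtain ⟨x, hxp, hxz, hxconj⟩ : ∃ x : P, x ^ p = 1 ∧ x ∉ Subgroup.zpowers z ∧
        ∀ g : P, g * x * g⁻¹ * x⁻¹ ∈ Subgroup.zpowers z := by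
      haveI hzn : (Subgroup.zpowers z).Normal :=
        ⟨fun u hu g => by
          have : Commute g u := by
            obtain ⟨i, rfl⟩ := Subgroup.mem_zpowers_iff.1 hu
            exact (show Commute g z from hzcomm g).zpow_right i
          rwa [this.eq, mul_inv_cancel_right]⟩
      obtain ⟨A, hzA, hAmax⟩ := Set.Finite.exists_le_maximal
        (s := {A : Subgroup P | A.Normal ∧ Cfsg.IsElementaryAbelian p A}) (Set.toFinite _)
        (a := Subgroup.zpowers z) ⟨hzn, CfsgLib.Base.isElementaryAbelian_zpowers hzp⟩
      haveI := hAmax.1.1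
      have hAne : ¬ A ≤ Subgroup.zpowers z := by
        intro hle
        have hAz : A = Subgroup.zpowers z := le_antisymm hle hzA
        have hall : ∀ y : P, y ^ p = 1 → y ∈ Subgroup.zpowers z := by
          intro y hy
          rw [← hAz]
          refine CfsgLib.PGroups.mem_of_maximal_abelian_exponent (n := 1) hP (by rwa [pow_one]) hAmax.1.2.1
            (by rw [pow_one]; exact hAmax.1.2.2)
            (fun B hBn hBc hBe hAB => le_antisymm (hAmax.2 ⟨hBn, hBc, by simpa using hBe⟩ hAB) hAB)
            (Subgroup.mem_centralizer_iff.2 fun u hu => ?_) (by rwa [pow_one])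
          obtain ⟨i, rfl⟩ := Subgroup.mem_zpowers_iff.1 (hle hu)
          exact ((show Commute y z from hzcomm y).zpow_right i).eq.symm
        rcases CfsgLib.PGroups.isCyclic_or_quaternion_of_unique hP hzp hall with h | ⟨h, -⟩
        · exact hcyc h
        · exact hpodd h
      have hne : A.map (QuotientGroup.mk' (Subgroup.zpowers z)) ≠ ⊥ := by
        rwa [ne_eq, Subgroup.map_eq_bot_iff, QuotientGroup.ker_mk']
      haveI : (A.map (QuotientGroup.mk' (Subgroup.zpowers z))).Normal :=
        Subgroup.Normal.map inferInstance _ (QuotientGroup.mk'_surjective _)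
      obtain ⟨u, hu, hu1⟩ := (Subgroup.bot_or_exists_ne_one _).resolve_left
        (CfsgLib.PGroups.inf_center_ne_bot (hP.to_quotient _) hne)
      obtain ⟨⟨x, hxA, rfl⟩, huc⟩ := Subgroup.mem_inf.1 hu
      refine ⟨x, hAmax.1.2.2 x hxA, fun h => hu1 ((QuotientGroup.eq_one_iff x).2 h), fun g => ?_⟩
      rw [← QuotientGroup.eq_one_iff]
      have h := Subgroup.mem_center_iff.1 huc (g : P ⧸ Subgroup.zpowers z)
      simp only [QuotientGroup.mk'_apply] at h
      simp only [QuotientGroup.mk_mul, QuotientGroup.mk_inv, h]
      group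
    have hxz' : Commute x z := hzcomm x
    let y : ℕ → P := fun i => x * z ^ i
    have hyp : ∀ i, y i ^ p = 1 := fun i => by
      show (x * z ^ i) ^ p = 1
      rw [(hxz'.pow_right i).mul_pow, hxp, one_mul, ← pow_mul, mul_comm, pow_mul, hzp, one_pow]
    have hyz : ∀ i (a : E), y i • a = a → ∀ w ∈ Subgroup.zpowers (y i), w • a = a := fun i a ha w hw =>
      MulAction.mem_stabilizer_iff.1 (Subgroup.zpowers_le.2 (MulAction.mem_stabilizer_iff.2 ha) hw)
    -- projection kills the other eigenspaces
    have hkill : ∀ i j, ¬ (z ^ i = z ^ j) → ∀ b : E, y j • b = b → ∑ k ∈ Finset.range p, y i ^ k • b = 0 := by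
      intro i j hij b hb
      refine hzfpf _ ?_
      set c := ∑ k ∈ Finset.range p, y i ^ k • b with hc
      have h1 : y i • c = c := hNfix _ _ (hyp i)
      have hcomm : Commute (y j) (y i) :=
        ((Commute.refl x).mul_left (hxz'.pow_right j).symm).mul_right
          (((hxz'.pow_right i).mul_left ((Commute.refl z).pow_pow j i)))
      have h2 : y j • c = c := by
        rw [hc, Finset.smul_sum]
        refine Finset.sum_congr rfl fun k _ => ?_
        rw [smul_smul, (hcomm.pow_right k).eq, mul_smul, hb]
      have h3 : (z ^ j)⁻¹ * z ^ i ∈ MulAction.stabilizer P c := by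
        have h := mul_mem (inv_mem (MulAction.mem_stabilizer_iff.2 h2 : y j ∈ MulAction.stabilizer P c))
          (MulAction.mem_stabilizer_iff.2 h1 : y i ∈ MulAction.stabilizer P c)
        simpa [y, mul_assoc] using h
      have hne : (z ^ j)⁻¹ * z ^ i ≠ 1 := fun h => hij (inv_mul_eq_one.1 h).symm
      have hmem : (z ^ j)⁻¹ * z ^ i ∈ Subgroup.zpowers z :=
        mul_mem (inv_mem (pow_mem (Subgroup.mem_zpowers z) j)) (pow_mem (Subgroup.mem_zpowers z) i)
      have heq : Subgroup.zpowers ((z ^ j)⁻¹ * z ^ i) = Subgroup.zpowers z := by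
        refine Subgroup.eq_of_le_of_card_ge (Subgroup.zpowers_le.2 hmem) ?_
        rw [Nat.card_zpowers, Nat.card_zpowers, hzo]
        refine le_of_eq (orderOf_eq_prime ?_ hne).symm
        obtain ⟨m, hm⟩ := Subgroup.mem_zpowers_iff.1 hmem
        rw [← hm, ← zpow_natCast, ← zpow_mul, mul_comm, zpow_mul, zpow_natCast, hzp, one_zpow]
      exact MulAction.mem_stabilizer_iff.1 (Subgroup.zpowers_le.2 h3 (heq ▸ Subgroup.mem_zpowers z))
    -- some `y i` fixes a nonzero vector
    obtain ⟨i, a, hia, ha⟩ : ∃ i, ∃ a : E, y i • a = a ∧ a ≠ 0 := by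
      by_contra hno
      push_neg at hno
      obtain ⟨v, hv⟩ : ∃ v : E, v ≠ 0 := ⟨a₀, ha₀⟩
      refine hv (hpinj v ?_)
      have hsum : ∑ i ∈ Finset.range p, ∑ k ∈ Finset.range p, y i ^ k • v = 0 :=
        Finset.sum_eq_zero fun i _ => hno i _ (hNfix _ _ (hyp i))
      rw [Finset.sum_comm] at hsum
      rw [← hsum, Finset.sum_eq_single (0 : ℕ)]
      · simp
      · intro k hk hk0
        have hzk : ∀ a : E, z ^ k • a = a → a = 0 := by
          intro a ha
          refine hzfpf a ?_
          obtain ⟨m, hm⟩ : ∃ m, (z ^ k) ^ m = z := by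
            have hcp : (orderOf z).Coprime k := by
              rw [hzo, hp.coprime_iff_not_dvd]
              exact fun h => hk0 (Nat.eq_zero_of_dvd_of_lt h (Finset.mem_range.1 hk))
            exact exists_pow_eq_self_of_coprime hcp.symm
          rw [← hm]
          exact MulAction.mem_stabilizer_iff.1 (pow_mem (MulAction.mem_stabilizer_iff.2 ha) m)
        have heq : ∀ i : ℕ, y i ^ k • v = x ^ k • (z ^ k) ^ i • v := fun i => by
          show (x * z ^ i) ^ k • v = _
          rw [(hxz'.pow_right i).mul_pow, mul_smul, ← pow_mul, ← pow_mul, mul_comm]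
        simp only [heq, ← Finset.smul_sum]
        rw [hzk _ (hNfix (z ^ k) v (by rw [← pow_mul, mul_comm, pow_mul, hzp, one_pow])), smul_zero]
      · intro h; simp [hp.pos] at h
    -- conjugation moves it
    obtain ⟨g, hg⟩ : ∃ g : P, g * x ≠ x * g := by
      by_contra hc
      push_neg at hc
      have hyc : ∀ g : P, g * y i = y i * g := fun g =>
        (show Commute g x from hc g).mul_right ((show Commute g z from hzcomm g).pow_right i)
      have hy1 : y i ≠ 1 := fun h => hxz (by
        have : x = (z ^ i)⁻¹ := eq_inv_of_mul_eq_one_left h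
        rw [this]; exact inv_mem (pow_mem (Subgroup.mem_zpowers z) i))
      refine hy1 (hfaith _ fun v => ?_)
      -- all stabilisers are equal to that of `a`
      by_contra hv
      set n := ∑ k ∈ Finset.range p, y i ^ k • v with hn
      set w := p • v - n with hw
      have hNfix' : ∀ (u : E), y i • u = u → ∑ k ∈ Finset.range p, y i ^ k • u = p • u := fun u hu => by
        have : ∀ k : ℕ, y i ^ k • u = u := fun k =>
          MulAction.mem_stabilizer_iff.1 (pow_mem (MulAction.mem_stabilizer_iff.2 hu) k)
        simp [this]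
      have hNw : ∑ k ∈ Finset.range p, y i ^ k • w = 0 := by
        simp only [hw, smul_sub, Finset.sum_sub_distrib]
        have hn' := hNfix' n (hNfix _ _ (hyp i))
        rw [hn']
        simp only [smul_comm (_ : P) p v, ← Finset.smul_sum, ← hn, sub_self]
      have hwy : y i • w ≠ w := by
        intro h
        have hw0 : w = 0 := hpinj w (by rw [← hNfix' w h, hNw])
        apply hv
        refine sub_eq_zero.1 (hpinj _ ?_)
        rw [smul_sub, ← smul_comm (y i) p v, show p • v = n from sub_eq_zero.1 hw0, hNfix _ _ (hyp i), sub_self]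
      have hle : MulAction.stabilizer P (a + w) ≤ MulAction.stabilizer P a := by
        intro g hg
        rw [MulAction.mem_stabilizer_iff] at hg ⊢
        have hN : ∑ k ∈ Finset.range p, y i ^ k • (g • (a + w)) = ∑ k ∈ Finset.range p, y i ^ k • (a + w) := by rw [hg]
        have hcomm : ∀ (k : ℕ) (u : E), y i ^ k • g • u = g • y i ^ k • u := fun k u => by
          rw [smul_smul, smul_smul, ((show Commute g (y i) from hyc g).pow_right k).eq]
        simp only [hcomm, ← Finset.smul_sum, smul_add, Finset.sum_add_distrib, hNw, add_zero, hNfix' a hia, smul_zero] at hN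
        rw [smul_comm g p a, ← sub_eq_zero, ← smul_sub] at hN
        exact sub_eq_zero.1 (hpinj _ hN)
      have hab : a + w ≠ 0 := fun h => by
        rw [add_eq_zero_iff_eq_neg] at h
        rw [h, smul_neg, neg_inj] at hia
        exact hwy hia
      have h := hsub_eq _ _ hab ha hle (MulAction.mem_stabilizer_iff.2 hia)
      rw [MulAction.mem_stabilizer_iff, smul_add, hia] at h
      exact hwy (add_left_cancel h)
    obtain ⟨m, hm⟩ : ∃ m : ℕ, g * x * g⁻¹ = x * z ^ m := by
      obtain ⟨m, hm⟩ := (mem_zpowers_iff_mem_range_orderOf).1 (hxconj g) |> Finset.mem_image.1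
      refine ⟨m, ?_⟩
      rw [(hxz'.pow_right m).eq, hm.2, inv_mul_cancel_right]
    have hgy : ∀ j, g * y j * g⁻¹ = y (j + m) := fun j => by
      show g * (x * z ^ j) * g⁻¹ = x * z ^ (j + m)
      rw [pow_add, (Commute.pow_pow (Commute.refl z) j m).eq, ← mul_assoc x, ← hm]
      rw [show g * (x * z ^ j) * g⁻¹ = g * x * g⁻¹ * (g * z ^ j * g⁻¹) by group,
        ((show Commute g z from hzcomm g).pow_right j).eq, mul_inv_cancel_right]
    have hzm : z ^ (i + m) ≠ z ^ i := by
      intro h
      rw [pow_add, mul_eq_left] at h
      rw [h, mul_one] at hm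
      exact hg (mul_inv_eq_iff_eq_mul.1 hm)
    set b := g • a with hb
    have hib : y (i + m) • b = b := by
      rw [← hgy, hb, smul_smul, inv_mul_cancel_right, mul_smul, hia]
    have hb0 : b ≠ 0 := fun h => ha (by simpa [hb] using congrArg (g⁻¹ • ·) h)
    have hNa : ∀ k (u : E), y k • u = u → ∑ l ∈ Finset.range p, y k ^ l • u = p • u := fun k u hu => by
      have : ∀ l : ℕ, y k ^ l • u = u := fun l =>
        MulAction.mem_stabilizer_iff.1 (pow_mem (MulAction.mem_stabilizer_iff.2 hu) l)
      simp [this]
    have hab : a + b ≠ 0 := fun h => by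
      have hN : ∑ l ∈ Finset.range p, y i ^ l • (a + b) = 0 := by rw [h]; simp
      simp only [smul_add, Finset.sum_add_distrib, hNa i a hia, hkill i (i + m) hzm.symm b hib, add_zero] at hN
      exact ha (hpinj a hN)
    have hle : MulAction.stabilizer P (a + b) ≤ MulAction.stabilizer P a := by
      intro h hh
      -- every `h` permutes the two eigenspaces, hence by odd order fixes them
      obtain ⟨r, hr⟩ : ∃ r : ℕ, h * x * h⁻¹ = x * z ^ r := by
        obtain ⟨r, hr⟩ := (mem_zpowers_iff_mem_range_orderOf).1 (hxconj h) |> Finset.mem_image.1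
        refine ⟨r, ?_⟩
        rw [(hxz'.pow_right r).eq, hr.2, inv_mul_cancel_right]
      have hhy : ∀ j, h * y j = y (j + r) * h := fun j => by
        show h * (x * z ^ j) = x * z ^ (j + r) * h
        rw [pow_add, (Commute.pow_pow (Commute.refl z) j r).eq, ← mul_assoc x, ← hr, mul_assoc (h * x * h⁻¹),
          ← ((show Commute h z from hzcomm h).pow_right j).eq]
        group
      rw [MulAction.mem_stabilizer_iff] at hh ⊢
      have ha' : y (i + r) • h • a = h • a := by rw [smul_smul, ← hhy, mul_smul, hia]
      have hb' : y (i + m + r) • h • b = h • b := by rw [smul_smul, ← hhy, mul_smul, hib]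
      have hsplit : ∀ k, ∑ l ∈ Finset.range p, y k ^ l • h • a + ∑ l ∈ Finset.range p, y k ^ l • h • b =
          ∑ l ∈ Finset.range p, y k ^ l • a + ∑ l ∈ Finset.range p, y k ^ l • b := fun k => by
        rw [← Finset.sum_add_distrib, ← Finset.sum_add_distrib]
        refine Finset.sum_congr rfl fun l _ => ?_
        rw [← smul_add, ← smul_add, ← smul_add, hh]
      have hsi := hsplit i
      rw [hNa i a hia, hkill i (i + m) hzm.symm b hib, add_zero] at hsi
      by_cases hr0 : z ^ r = 1
      · have he1 : z ^ (i + r) = z ^ i := by rw [pow_add, hr0, mul_one]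
        have he2 : z ^ (i + m + r) = z ^ (i + m) := by rw [pow_add _ (i + m), hr0, mul_one]
        have hyi : y (i + r) = y i := by show x * z ^ (i + r) = x * z ^ i; rw [he1]
        have hyj : y (i + m + r) = y (i + m) := by show x * z ^ (i + m + r) = x * z ^ (i + m); rw [he2]
        rw [hyi] at ha'
        rw [hyj] at hb'
        rw [hNa i _ ha', hkill i (i + m) hzm.symm _ hb', add_zero, ← sub_eq_zero, ← smul_sub] at hsi
        exact sub_eq_zero.1 (hpinj _ hsi)
      exfalso
      have hir : z ^ i ≠ z ^ (i + r) := by rw [pow_add, ne_eq, left_eq_mul]; exact hr0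
      have e1 : z ^ i = z ^ (i + m + r) := by
        by_contra hne
        rw [hkill i _ hir _ ha', hkill i _ hne _ hb', add_zero] at hsi
        exact ha (hpinj a hsi.symm)
      have e2 : z ^ (i + m) = z ^ (i + r) := by
        by_contra hne
        have hsj := hsplit (i + m)
        rw [hkill (i + m) i hzm _ hia, hNa _ b hib, zero_add, hkill (i + m) (i + r) hne _ ha',
          hkill (i + m) (i + m + r) (fun e => hr0 (by
            rw [pow_add _ (i + m)] at e
            exact left_eq_mul.1 e)) _ hb', add_zero] at hsj
        exact hb0 (hpinj b hsj.symm)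
      rw [pow_add, pow_add] at e1 e2
      rw [mul_assoc, left_eq_mul] at e1
      have hmr : z ^ m = z ^ r := mul_left_cancel e2
      rw [hmr, ← sq, ← pow_mul] at e1
      have hd := orderOf_dvd_of_pow_eq_one e1
      rw [hzo] at hd
      have : p ∣ r := ((Nat.coprime_primes hp Nat.prime_two).2 hpodd).dvd_of_dvd_mul_right hd
      exact hr0 (orderOf_dvd_iff_pow_eq_one.1 (hzo ▸ this))
    have hs := hsub_eq _ _ hab ha hle (MulAction.mem_stabilizer_iff.2 hia)
    rw [MulAction.mem_stabilizer_iff, smul_add, hia, add_right_inj] at hs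
    have hzero := hkill i (i + m) hzm.symm b hib
    rw [hNa i b hs] at hzero
    exact hb0 (hpinj b hzero)
  by_cases hex : ∃ a : E, a ≠ 0
  · exact hmain hex
  push_neg at hex
  haveI : Subsingleton P := ⟨fun g h => eq_of_smul_eq_smul fun a : E => by rw [hex a, smul_zero, smul_zero]⟩
  exact ⟨inferInstance, fun g _ a _ => hex a⟩

end Cfsg.Agent.S1160
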