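import Cfsg.Statements.S1475
import Cfsg.Agent.Lib.Base.FPF
import Cfsg.Agent.Lib.Coprime.Hall
import Cfsg.Agent.Lib.Base.MinimalNormal

set_option autoImplicit false
open Cfsg

namespace Cfsg.Agent.S1475

/-- Let G be a finite solvable group such that the order of every element is a prime power (1 included). Then at most two distinct primes divide the order of G. -/
theorem result {G : Type*} [Group G] [Finite G] [Group.IsSolvable G] (h : ∀ g : G, IsPrimePow (orderOf g) ∨ g = 1) :
    (Nat.card G).primeFactors.card ≤ 2 := by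
  classical
  rcases subsingleton_or_nontrivial G with hsub | hnt
  · simp [Nat.card_of_subsingleton (1 : G)]
  obtain ⟨N, hN⟩ := CfsgLib.Base.exists_isMinimalNormal (G := G)
  haveI := hN.normal
  obtain ⟨p, hp, hNc, hNexp, hNp⟩ := hN.exists_prime inferInstance
  haveI := hNc
  obtain ⟨K, hK, -⟩ := CfsgLib.Coprime.hallD_of_solvable (G := G) {r : ℕ | r ≠ p}
  have hKp : ∀ r : ℕ, r.Prime → r ∣ Nat.card K → r ≠ p := fun r hr hd => hK.1 r hr hd
  have hprod : ∀ {a b : G}, Commute a b → a ≠ 1 → b ≠ 1 → (orderOf a).Coprime (orderOf b) → False := by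
    intro a b hc ha hb hcop
    have ho := hc.orderOf_mul_eq_mul_orderOf_of_coprime hcop
    rcases h (a * b) with hpp | h1
    · obtain ⟨r, k, hr, hk, hrk⟩ := (isPrimePow_nat_iff _).mp hpp
      rw [ho] at hrk
      have ha' : r ∣ orderOf a := by
        obtain ⟨s, hs, hsd⟩ := Nat.exists_prime_and_dvd (fun e => ha (orderOf_eq_one_iff.mp e))
        have : s ∣ r ^ k := hrk ▸ Dvd.dvd.mul_right hsd _
        rwa [← (Nat.prime_dvd_prime_iff_eq hs hr).mp (hs.dvd_of_dvd_pow this)]
      have hb' : r ∣ orderOf b := by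
        obtain ⟨s, hs, hsd⟩ := Nat.exists_prime_and_dvd (fun e => hb (orderOf_eq_one_iff.mp e))
        have : s ∣ r ^ k := hrk ▸ Dvd.dvd.mul_left hsd _
        rwa [← (Nat.prime_dvd_prime_iff_eq hs hr).mp (hs.dvd_of_dvd_pow this)]
      exact hr.ne_one (Nat.eq_one_of_dvd_coprimes hcop ha' hb')
    · rw [h1, orderOf_one, eq_comm, mul_eq_one] at ho
      exact ha (orderOf_eq_one_iff.mp ho.1)
  have hfpf : CfsgLib.Base.IsFPF K N := by
    refine ⟨by rw [Subgroup.normalizer_eq_top]; exact le_top, fun a ha ha1 => ?_⟩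
    rw [eq_bot_iff]
    rintro v ⟨hv, hv'⟩
    rw [Subgroup.mem_bot]
    by_contra hv1
    refine hprod (Subgroup.mem_centralizer_singleton_iff.mp hv' : Commute v a) hv1 ha1 ?_
    refine Nat.Coprime.coprime_dvd_left (orderOf_dvd_of_pow_eq_one (hNexp v hv)) ?_
    rw [hp.coprime_iff_not_dvd]
    exact fun hd => hKp p hp (hd.trans (Subgroup.orderOf_dvd_natCard _ ha)) rfl
  have hone : ∀ q r : ℕ, q.Prime → r.Prime → q ∣ Nat.card K → r ∣ Nat.card K → q = r := by
    intro q r hq hr hqd hrd
    rcases subsingleton_or_nontrivial K with hs | hn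
    · rw [Nat.card_of_subsingleton (1 : K)] at hqd
      exact absurd (Nat.dvd_one.mp hqd) hq.ne_one
    obtain ⟨M, hM⟩ := CfsgLib.Base.exists_isMinimalNormal (G := K)
    haveI := hM.normal
    obtain ⟨s, hs, hMc, hMexp, hMp⟩ := hM.exists_prime inferInstance
    suffices hall : ∀ t : ℕ, t.Prime → t ∣ Nat.card K → t = s by rw [hall q hq hqd, hall r hr hrd]
    intro t ht htd
    by_contra hne
    haveI := Fact.mk ht
    obtain ⟨a, ha, ha1⟩ := (Subgroup.bot_or_exists_ne_one M).resolve_left hM.ne_bot
    haveI := Fact.mk hs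
    have haord : orderOf (a : G) = s := by
      rw [Subgroup.orderOf_coe]
      exact orderOf_eq_prime (hMexp a ha) ha1
    obtain ⟨y, hy⟩ := exists_prime_orderOf_dvd_card' (G := K) t htd
    have hnorm : (y : G) ∈ Subgroup.normalizer (Subgroup.zpowers (a : G) : Set G) := by
      have hmem : ∀ k : K, ((k * a * k⁻¹ : K) : G) ∈ Subgroup.zpowers (a : G) := by
        intro k
        have hb : k * a * k⁻¹ ∈ M := hM.normal.conj_mem a ha k
        refine hfpf.mem_zpowers_of_commute hN.ne_bot hs a.2 (k * a * k⁻¹).2 haord ?_ ?_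
        · exact congrArg Subtype.val (hMexp _ hb)
        · exact congrArg Subtype.val (congrArg Subtype.val (hMc.is_comm.comm ⟨a, ha⟩ ⟨_, hb⟩))
      rw [Subgroup.mem_normalizer_iff]
      intro g
      constructor
      · rintro ⟨i, rfl⟩
        have := hmem y
        push_cast at this
        show (y : G) * (a : G) ^ i * (y : G)⁻¹ ∈ _
        rw [← conj_zpow]
        exact Subgroup.zpow_mem _ this i
      · intro hg
        obtain ⟨i, hi⟩ := hg
        have := hmem y⁻¹
        push_cast at this
        rw [inv_inv] at this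
        rw [show g = (y : G)⁻¹ * ((y : G) * g * (y : G)⁻¹) * (y : G) by group, ← hi]
        have e : (y : G)⁻¹ * (a : G) ^ i * (y : G) = ((y : G)⁻¹ * (a : G) * (y : G)) ^ i := by
          have := conj_zpow (i := i) (a := (y : G)⁻¹) (b := (a : G))
          rw [inv_inv] at this
          exact this.symm
        show (y : G)⁻¹ * (a : G) ^ i * (y : G) ∈ _
        rw [e]
        exact Subgroup.zpow_mem _ this i
    have hyord : orderOf (y : G) = t := by rw [Subgroup.orderOf_coe, hy]
    have hcom := hfpf.commute_of_prime hN.ne_bot hs ht a.2 y.2 haord hyord hnorm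
    refine hprod (hcom : Commute (a : G) (y : G)) (fun e => ha1 (Subtype.ext e)) ?_ ?_
    · intro e
      rw [e, orderOf_one] at hyord
      exact ht.ne_one hyord.symm
    · rw [haord, hyord]
      exact (Nat.coprime_primes hs ht).mpr (Ne.symm hne)
  by_contra hcard
  have hsub : (Nat.card G).primeFactors ⊆ insert p (Nat.card K).primeFactors := by
    intro r hr
    rw [Nat.mem_primeFactors] at hr
    rw [Finset.mem_insert]
    by_contra hh
    rw [not_or, Nat.mem_primeFactors] at hh
    have hrd : r ∣ Nat.card K * K.index := by rw [Subgroup.card_mul_index]; exact hr.2.1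
    rcases (hr.1.dvd_mul).mp hrd with h1 | h1
    · exact hh.2 ⟨hr.1, h1, Nat.card_pos.ne'⟩
    · exact hK.2 r hr.1 hh.1 h1
  have h1 : (Nat.card K).primeFactors.card ≤ 1 := Finset.card_le_one.mpr fun a ha b hb => by
    rw [Nat.mem_primeFactors] at ha hb
    exact hone a b ha.1 hb.1 ha.2.1 hb.2.1
  have := (Finset.card_le_card hsub).trans (Finset.card_insert_le _ _)
  omega

end Cfsg.Agent.S1475
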