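import Cfsg.Statements.S4020
import Cfsg.Agent.Lib.FgsC.EqualOrderConj
-- import your own Cfsg.Agent.* helpers here

set_option autoImplicit false
set_option linter.style.haveILetI false
open Cfsg

namespace Cfsg.Agent.S4020

open CfsgLib.FgsC.EqualOrderConj

theorem q8_conj : ∀ a b : QuaternionGroup 2, a * b * a⁻¹ = b ∨ a * b * a⁻¹ = b⁻¹ := by decide +kernel

theorem iso_of_conj {G : Type*} [Group G] {q : ℕ}
    (hD : ∀ H K : Subgroup G, IsPGroup q H → IsPGroup q K → Nat.card H = Nat.card K →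
      ∃ g : G, K = H.map (MulAut.conj g).toMonoidHom)
    (S : Subgroup G) (hS : IsPGroup q S) (H K : Subgroup ↥S) (h : Nat.card H = Nat.card K) :
    Nonempty (H ≃* K) := by
  have e1 := H.equivMapOfInjective S.subtype Subtype.val_injective
  have e2 := K.equivMapOfInjective S.subtype Subtype.val_injective
  obtain ⟨g, hg⟩ := hD (H.map S.subtype) (K.map S.subtype) ((hS.to_subgroup H).map _)
    ((hS.to_subgroup K).map _) (by rw [← Nat.card_congr e1.toEquiv, ← Nat.card_congr e2.toEquiv, h])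
  exact ⟨((e1.trans ((H.map S.subtype).equivMapOfInjective _ (MulAut.conj g).injective)).trans
    (MulEquiv.subgroupCongr hg.symm)).trans e2.symm⟩

/-- Let G be a finite group in which, for every prime p, any two p-subgroups of the same order are conjugate. Then every Sylow subgroup of G is cyclic, elementary abelian, or a quaternion group of order 8. -/
theorem result {G : Type*} [Group G] [Finite G]
    (hD : ∀ p : ℕ, p.Prime → ∀ H K : Subgroup G, IsPGroup p H → IsPGroup p K → Nat.card H = Nat.card K →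
      ∃ g : G, K = H.map (MulAut.conj g).toMonoidHom) {p : ℕ} [Fact p.Prime] (P : Sylow p G) :
    IsCyclic P ∨ Cfsg.IsElementaryAbelian p (P : Subgroup G) ∨ Nonempty ((P : Subgroup G) ≃* QuaternionGroup 2) := by
  rcases shape P.isPGroup' (iso_of_conj (hD p Fact.out) _ P.isPGroup') with
    h | ⟨hc, he⟩ | ⟨-, h⟩ | ⟨hp2, hcard, hexp, hzc, hcomm⟩
  · exact Or.inl h
  · exact Or.inr (Or.inl ⟨⟨⟨hc⟩⟩, fun a ha => congrArg Subtype.val (he ⟨a, ha⟩)⟩)
  · exact Or.inr (Or.inr h)
  exfalso
  have h2 : ∀ T : Subgroup G, IsPGroup 2 T → ∀ a ∈ T, ∀ b ∈ T,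
      a * b * a⁻¹ = b ∨ a * b * a⁻¹ = b⁻¹ := by
    intro T hT a ha b hb
    obtain ⟨S, hS⟩ := hT.exists_le_sylow
    have key : ∀ x y : ↥(S : Subgroup G), x * y * x⁻¹ = y ∨ x * y * x⁻¹ = y⁻¹ := by
      rcases shape S.isPGroup' (iso_of_conj (hD 2 Nat.prime_two) _ S.isPGroup') with
        h | ⟨hc, -⟩ | ⟨-, ⟨e⟩⟩ | ⟨h, -⟩
      · exact fun x y => Or.inl (by
          haveI := h
          rw [IsCyclic.commGroup.mul_comm x y, mul_inv_cancel_right])
      · exact fun x y => Or.inl (by rw [hc x y, mul_inv_cancel_right])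
      · intro x y
        rcases q8_conj (e x) (e y) with h | h
        · exact Or.inl (e.injective (by simpa using h))
        · exact Or.inr (e.injective (by simpa using h))
      · exact absurd rfl h
    rcases key ⟨a, hS ha⟩ ⟨b, hS hb⟩ with h | h
    · exact Or.inl (congrArg Subtype.val h)
    · exact Or.inr (congrArg Subtype.val h)
  have hp : p.Prime := Fact.out
  haveI : Nontrivial (Subgroup.center ↥(P : Subgroup G)) :=
    Finite.one_lt_card_iff_nontrivial.mp (by rw [hzc]; exact hp.one_lt)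
  obtain ⟨z, hz⟩ := exists_ne (1 : Subgroup.center ↥(P : Subgroup G))
  have hgen : ∀ c ∈ Subgroup.center ↥(P : Subgroup G), (c : G) ∈ Subgroup.zpowers ((z : ↥(P : Subgroup G)) : G) := by
    intro c hc
    have h1 : Subgroup.zpowers (z : ↥(P : Subgroup G)) = Subgroup.center ↥(P : Subgroup G) :=
      Subgroup.eq_of_le_of_card_ge (Subgroup.zpowers_le.mpr z.2) (by
        rw [hzc, Nat.card_zpowers, orderOf_eq_prime (hexp _) (fun h => hz (Subtype.ext h))])
    obtain ⟨i, hi⟩ := Subgroup.mem_zpowers_iff.mp (h1.symm ▸ hc)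
    exact Subgroup.mem_zpowers_iff.mpr ⟨i, by rw [← hi]; simp⟩
  exact not_extraspecial_sylow (hD p hp) h2 P hp2 hcard
    (fun x hx => congrArg Subtype.val (hexp ⟨x, hx⟩)) (z := ((z : ↥(P : Subgroup G)) : G))
    (z : ↥(P : Subgroup G)).2
    (fun h => hz (Subtype.ext (Subtype.ext h)))
    (fun a ha => congrArg Subtype.val (Subgroup.mem_center_iff.mp z.2 ⟨a, ha⟩))
    (fun a ha h => hgen ⟨a, ha⟩ (Subgroup.mem_center_iff.mpr fun b => Subtype.ext (h b b.2).symm))
    (fun a ha b hb => hgen _ (hcomm ⟨a, ha⟩ ⟨b, hb⟩))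

end Cfsg.Agent.S4020
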