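import Cfsg.Statements.S4025
import Cfsg.Agent.Lib.SolvStruct.PlaneTransitive
import Cfsg.Agent.Lib.Base.Cores


set_option autoImplicit false
open Cfsg

namespace Cfsg.Agent.S4025

/-- Burnside fusion for subgroups of an abelian Sylow subgroup. -/
theorem fusion {G : Type*} [Group G] [Finite G] {p : ℕ} [Fact p.Prime] (P : Sylow p G)
    (hab : ∀ a ∈ (P : Subgroup G), ∀ b ∈ (P : Subgroup G), a * b = b * a) (A : Subgroup G)
    (g : G) (hA : A ≤ P) (hB : ∀ a ∈ A, g * a * g⁻¹ ∈ (P : Subgroup G)) :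
    ∃ m ∈ Subgroup.normalizer ((P : Subgroup G) : Set G), ∀ a ∈ A, m * a * m⁻¹ = g * a * g⁻¹ := by
  set C := Subgroup.centralizer ((A.map (MulAut.conj g).toMonoidHom : Subgroup G) : Set G) with hC
  have h1 : (P : Subgroup G) ≤ C := by
    intro x hx
    rw [hC, Subgroup.mem_centralizer_iff]
    rintro _ ⟨a, ha, rfl⟩
    exact hab _ (by simpa using hB a ha) x hx
  have h2 : (↑(g • P) : Subgroup G) ≤ C := by
    rintro _ ⟨z, hz, rfl⟩
    rw [hC, Subgroup.mem_centralizer_iff]
    rintro _ ⟨a, ha, rfl⟩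
    show g * a * g⁻¹ * (g * z * g⁻¹) = g * z * g⁻¹ * (g * a * g⁻¹)
    calc g * a * g⁻¹ * (g * z * g⁻¹) = g * (a * z) * g⁻¹ := by group
      _ = g * (z * a) * g⁻¹ := by rw [hab a (hA ha) z hz]
      _ = _ := by group
  obtain ⟨h, hh⟩ := MulAction.exists_smul_eq C ((g • P).subtype h2) (P.subtype h1)
  simp_rw [Sylow.smul_subtype, Subgroup.smul_def, smul_smul] at hh
  refine ⟨h * g, Sylow.smul_eq_iff_mem_normalizer.mp (Sylow.subtype_injective hh), fun a ha => ?_⟩
  have hc := Subgroup.mem_centralizer_iff.1 h.2 (g * a * g⁻¹) ⟨a, ha, rfl⟩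
  calc (h : G) * g * a * ((h : G) * g)⁻¹ = (h : G) * (g * a * g⁻¹) * (h : G)⁻¹ := by group
    _ = g * a * g⁻¹ := by rw [← hc, mul_inv_cancel_right]

/-- An injective hom into a group which is not larger is an isomorphism. -/
theorem nonempty_iso {A B : Type*} [Group A] [Group B] [Finite B] (f : A →* B)
    (hf : Function.Injective f) (h : Nat.card B ≤ Nat.card A) : Nonempty (A ≃* B) :=
  ⟨MulEquiv.ofBijective f (hf.bijective_of_nat_card_le h)⟩

/-- The order of the semi-affine group of a finite field. -/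
theorem card_semiaffine_le (F : Type) [Field F] [Finite F] :
    Nat.card (semiaffineGroup F) ≤ (Nat.card F - 1) * Nat.card F * Nat.card (F ≃+* F) := by
  haveI : Finite (F ≃+* F) := Finite.of_injective (fun φ => (φ : F → F)) DFunLike.coe_injective
  let f : Fˣ × F × (F ≃+* F) → semiaffineGroup F := fun t =>
    ⟨t.2.2.toEquiv.trans ((Equiv.mulLeft₀ (t.1 : F) t.1.ne_zero).trans (Equiv.addRight t.2.1)),
      t.1, t.2.1, t.2.2, fun _ => rfl⟩
  have hf : Function.Surjective f := by
    rintro ⟨s, a, b, φ, hs⟩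
    exact ⟨(a, b, φ), Subtype.ext (Equiv.ext fun x => (hs x).symm)⟩
  have h := Nat.card_le_card_of_surjective f hf
  rw [Nat.card_prod, Nat.card_prod, Nat.card_units] at h
  rwa [mul_assoc]

/-- The order of the affine group of a finite field. -/
theorem card_affine_le (F : Type) [Field F] [Finite F] :
    Nat.card (affineGroup F) ≤ (Nat.card F - 1) * Nat.card F := by
  let f : Fˣ × F → affineGroup F := fun t =>
    ⟨(Equiv.mulLeft₀ (t.1 : F) t.1.ne_zero).trans (Equiv.addRight t.2),
      t.1, t.2, fun _ => rfl⟩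
  have hf : Function.Surjective f := by
    rintro ⟨s, a, b, hs⟩
    exact ⟨(a, b), Subtype.ext (Equiv.ext fun x => (hs x).symm)⟩
  have h := Nat.card_le_card_of_surjective f hf
  rwa [Nat.card_prod, Nat.card_units] at h


/-- Let p be a prime and G a finite group in which any two p-subgroups of the same order are conjugate, and suppose a Sylow p-subgroup P of G is elementary abelian of order pⁿ with n ≥ 3. Let N be the normalizer of P and K the largest normal subgroup of N of order prime to p, and assume N/K is solvable. Then either n = 3 and N/K embeds in the one-dimensional semi-affine group over the field with p³ elements (and for p = 2 it is isomorphic to the affine or the semi-affine group over the field with 8 elements), or n = 5, p = 2 and N/K is isomorphic to the one-dimensional semi-affine group over the field with 32 elements. -/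
theorem result {G : Type*} [Group G] [Finite G]
    {p : ℕ} [Fact p.Prime] (hC : ∀ H K : Subgroup G, IsPGroup p H → IsPGroup p K → Nat.card H = Nat.card K →
      ∃ g : G, K = H.map (MulAut.conj g).toMonoidHom) (P : Sylow p G) (n : ℕ) (hn : 3 ≤ n)
    (hel : Cfsg.IsElementaryAbelian p (P : Subgroup G)) (hcard : Nat.card P = p ^ n)
    (N : Subgroup G) (hN : N = Subgroup.normalizer ((P : Subgroup G) : Set G))
    (hsolv : Group.IsSolvable (↥N ⧸ Cfsg.pPrimeCore p ↥N)) :
    (n = 3 ∧ (∃ f : ↥N ⧸ Cfsg.pPrimeCore p ↥N →* ↥(Cfsg.semiaffineGroup (GaloisField p 3)), Function.Injective f) ∧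
      (p = 2 → Nonempty (↥N ⧸ Cfsg.pPrimeCore p ↥N ≃* Cfsg.semiaffineGroup (GaloisField 2 3)) ∨
               Nonempty (↥N ⧸ Cfsg.pPrimeCore p ↥N ≃* Cfsg.affineGroup (GaloisField 2 3)))) ∨
    (n = 5 ∧ p = 2 ∧ Nonempty (↥N ⧸ Cfsg.pPrimeCore p ↥N ≃* Cfsg.semiaffineGroup (GaloisField 2 5))) := by
  classical
  have hp : p.Prime := Fact.out
  haveI : NeZero p := ⟨hp.ne_zero⟩
  have hab : ∀ a ∈ (P : Subgroup G), ∀ b ∈ (P : Subgroup G), a * b = b * a := fun a ha b hb =>
    congrArg Subtype.val (hel.1.is_comm.comm ⟨a, ha⟩ ⟨b, hb⟩)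
  have hexp : ∀ a ∈ (P : Subgroup G), a ^ p = 1 := hel.2
  have hPN : (P : Subgroup G) ≤ N := hN ▸ Subgroup.le_normalizer
  have hcj : ∀ (x : N), ∀ v ∈ (P : Subgroup G), (x : G) * v * (x : G)⁻¹ ∈ (P : Subgroup G) :=
    fun x v hv => (Subgroup.mem_normalizer_iff.1 (hN ▸ x.2) v).1 hv
  letI : CommGroup (P : Subgroup G) :=
    { (inferInstance : Group (P : Subgroup G)) with
      mul_comm := fun a b => Subtype.ext (hab _ a.2 _ b.2) }
  let V := Additive (P : Subgroup G)
  have hVp : ∀ x : V, p • x = 0 := fun x => by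
    show Additive.ofMul ((Additive.toMul x) ^ p) = Additive.ofMul 1
    exact congrArg Additive.ofMul (Subtype.ext (hexp _ (Additive.toMul x).2))
  letI : Module (ZMod p) V := AddCommGroup.zmodModule (n := p) hVp
  haveI : Finite V := Finite.of_equiv _ Additive.ofMul
  have hVc : Nat.card V = p ^ n := (Nat.card_congr Additive.toMul).trans hcard
  have hfr : Module.finrank (ZMod p) V = n := by
    haveI : Module.Finite (ZMod p) V := Module.Finite.of_finite
    have h : Nat.card V = Nat.card (ZMod p) ^ Module.finrank (ZMod p) V :=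
      Module.natCard_eq_pow_finrank
    rw [hVc, Nat.card_zmod] at h
    exact (Nat.pow_right_injective hp.two_le h).symm
  -- the action of `N` on `V`
  let val : V → G := fun v => ((Additive.toMul v : (P : Subgroup G)) : G)
  have hval : Function.Injective val := fun a b h => Additive.toMul.injective (Subtype.ext h)
  let cAdd : N → V →+ V := fun x => AddMonoidHom.mk'
    (fun v => Additive.ofMul ⟨(x : G) * val v * (x : G)⁻¹, hcj x _ (Additive.toMul v).2⟩)
    (fun a b => hval (by
      show (x : G) * (val a * val b) * (x : G)⁻¹ =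
        (x : G) * val a * (x : G)⁻¹ * ((x : G) * val b * (x : G)⁻¹)
      group))
  have hcc : ∀ x y v, cAdd x (cAdd y v) = cAdd (x * y) v := fun x y v => hval (by
    show (x : G) * ((y : G) * val v * (y : G)⁻¹) * (x : G)⁻¹ =
      ((x : G) * (y : G)) * val v * ((x : G) * (y : G))⁻¹
    group)
  have hc1 : ∀ v, cAdd 1 v = v := fun v => hval (by
    show ((1 : N) : G) * val v * ((1 : N) : G)⁻¹ = val v
    simp)
  let ρN : N →* (V ≃ₗ[ZMod p] V) :=
    { toFun := fun x =>
        { toFun := cAdd x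
          map_add' := map_add _
          map_smul' := fun c v => ZMod.map_smul (cAdd x) c v
          invFun := cAdd x⁻¹
          left_inv := fun v => by rw [hcc, inv_mul_cancel, hc1]
          right_inv := fun v => by rw [hcc, mul_inv_cancel, hc1] }
      map_one' := LinearEquiv.ext hc1
      map_mul' := fun x y => LinearEquiv.ext fun v => by
        show cAdd (x * y) v = cAdd x (cAdd y v)
        exact (hcc x y v).symm }
  have hρ : ∀ (x : N) v, val (ρN x v) = (x : G) * val v * (x : G)⁻¹ := fun x v => rfl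
  -- the core
  set K := Cfsg.pPrimeCore p N with hK
  haveI hKn : K.Normal := inferInstance
  have hKc : (Nat.card K).Coprime p := CfsgLib.Base.pPrimeCore_coprime p N
  set P' := (P : Subgroup G).subgroupOf N with hP'
  haveI : P'.Normal := ⟨fun v hv x => hcj x _ hv⟩
  have hP'c : Nat.card P' = p ^ n :=
    (Nat.card_congr (Subgroup.subgroupOfEquivOfLe hPN).toEquiv).trans hcard
  have hdisj : Disjoint K P' := disjoint_iff.2 (Subgroup.inf_eq_bot_of_coprime (by
    rw [hP'c]; exact hKc.pow_right n))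
  have hKP : ∀ k ∈ K, ∀ v ∈ (P : Subgroup G), (k : G) * v = v * (k : G) := fun k hk v hv =>
    congrArg Subtype.val (Subgroup.commute_of_normal_of_disjoint K P' hKn inferInstance hdisj k
      ⟨v, hPN hv⟩ hk hv).eq
  have hKρ : K ≤ ρN.ker := fun k hk => LinearEquiv.ext fun v => hval (by
    rw [hρ, hKP k hk _ (Additive.toMul v).2, mul_inv_cancel_right]
    rfl)
  -- a complement
  have hcopP : Nat.Coprime (Nat.card P') P'.index := by
    rw [hP'c]
    refine Nat.Coprime.pow_left n ((hp.coprime_iff_not_dvd).2 fun h => P.not_dvd_index ?_)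
    exact h.trans (Dvd.intro _ (Subgroup.relIndex_mul_index hPN))
  obtain ⟨H, hH⟩ := Subgroup.exists_right_complement'_of_coprime hcopP
  have hNH : Nat.card N = p ^ n * Nat.card H := by rw [← hP'c, hH.card_mul_card]
  have hHp : (Nat.card H).Coprime p := by
    refine ((hp.coprime_iff_not_dvd).2 fun h => P.not_dvd_index ?_).symm
    rw [← hH.symm.index_eq_card] at h
    exact h.trans (Dvd.intro _ (Subgroup.relIndex_mul_index hPN))
  have hdec : ∀ x : N, ∃ u ∈ P', ∃ h ∈ H, x = u * h := fun x => by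
    obtain ⟨⟨⟨u, hu⟩, ⟨h, hh⟩⟩, he⟩ := hH.2 x
    exact ⟨u, hu, h, hh, he.symm⟩
  have huu : ∀ u ∈ P', ρN u = 1 := fun u hu => LinearEquiv.ext fun v => hval (by
    rw [hρ, hab (u : G) hu _ (Additive.toMul v).2, mul_inv_cancel_right]
    rfl)
  have hKH : K ≤ H := fun k hk => by
    obtain ⟨u, hu, h, hh, rfl⟩ := hdec k
    have hcomm : Commute u h := by
      have h1 : ((u * h : N) : G) * (u : G) = (u : G) * ((u * h : N) : G) := hKP _ hk _ hu
      rw [Subgroup.coe_mul, mul_assoc, mul_right_inj] at h1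
      exact Subtype.ext h1.symm
    have h2 : (u * h) ^ Nat.card K = 1 :=
      congrArg Subtype.val (pow_card_eq_one' (G := K) (x := ⟨u * h, hk⟩))
    rw [hcomm.mul_pow] at h2
    have h3 : u ^ Nat.card K ∈ P' ⊓ H := Subgroup.mem_inf.2 ⟨P'.pow_mem hu _, by
      rw [eq_inv_of_mul_eq_one_left h2]; exact H.inv_mem (H.pow_mem hh _)⟩
    rw [hH.disjoint.eq_bot, Subgroup.mem_bot] at h3
    have h4 : u ^ p = 1 := Subtype.ext (by simpa using hexp _ hu)
    have h5 : u = 1 := by
      rw [← pow_one u, ← hKc.gcd_eq_one]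
      exact pow_gcd_eq_one.2 ⟨h3, h4⟩
    rwa [h5, one_mul]
  have hsurj : ∀ x : N, ∃ h ∈ H, ρN h = ρN x := fun x => by
    obtain ⟨u, hu, h, hh, rfl⟩ := hdec x
    exact ⟨h, hh, by rw [map_mul, huu u hu, one_mul]⟩
  have hkerH : ρN.ker ⊓ H = K := by
    refine le_antisymm ?_ (le_inf hKρ hKH)
    refine le_sSup ⟨⟨fun a ha x => ?_⟩,
      Nat.Coprime.coprime_dvd_left (Subgroup.card_dvd_of_le inf_le_right) hHp⟩
    obtain ⟨u, hu, h, hh, rfl⟩ := hdec x
    have h1 : h * a * h⁻¹ ∈ ρN.ker ⊓ H :=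
      Subgroup.mem_inf.2 ⟨(ρN.normal_ker).conj_mem a ha.1 h, H.mul_mem (H.mul_mem hh ha.2) (H.inv_mem hh)⟩
    have h2 : u * (h * a * h⁻¹) = h * a * h⁻¹ * u := by
      refine Subtype.ext ?_
      have h3 : ((h * a * h⁻¹ : N) : G) * (u : G) * ((h * a * h⁻¹ : N) : G)⁻¹ = (u : G) :=
        congrArg val (LinearEquiv.congr_fun (show ρN (h * a * h⁻¹) = 1 from h1.1)
          (Additive.ofMul ⟨(u : G), hu⟩))
      exact (mul_inv_eq_iff_eq_mul.1 h3).symm
    rw [show u * h * a * (u * h)⁻¹ = h * a * h⁻¹ by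
      calc u * h * a * (u * h)⁻¹ = u * (h * a * h⁻¹) * u⁻¹ := by group
        _ = _ := by rw [h2, mul_inv_cancel_right]]
    exact h1
  let L := ρN.range
  haveI : Finite (V ≃ₗ[ZMod p] V) :=
    Finite.of_injective (fun g => (g : V → V)) DFunLike.coe_injective
  have hLsol : Group.IsSolvable L := by
    haveI := hsolv
    refine Group.isSolvable_of_surjective (f := QuotientGroup.lift K ρN.rangeRestrict
      (fun k hk => Subtype.ext (hKρ hk))) ?_
    rintro ⟨_, x, rfl⟩
    exact ⟨QuotientGroup.mk x, rfl⟩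
  -- fusion gives transitivity
  have htr : ∀ W W' : Submodule (ZMod p) V,
      Module.finrank (ZMod p) W = Module.finrank (ZMod p) W' →
      ∃ l : L, W.map (L.subtype l : V →ₗ[ZMod p] V) = W' := by
    intro W W' hWW
    let sg : Submodule (ZMod p) V → Subgroup G := fun U =>
      { carrier := val '' (U : Set V)
        one_mem' := ⟨0, U.zero_mem, rfl⟩
        mul_mem' := by
          rintro _ _ ⟨a, ha, rfl⟩ ⟨b, hb, rfl⟩
          exact ⟨a + b, U.add_mem ha hb, rfl⟩
        inv_mem' := by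
          rintro _ ⟨a, ha, rfl⟩
          exact ⟨-a, U.neg_mem ha, rfl⟩ }
    have hsc : ∀ U, Nat.card (sg U) = p ^ Module.finrank (ZMod p) U := fun U => by
      show Nat.card (val '' (U : Set V)) = _
      rw [Nat.card_image_of_injective hval]
      show Nat.card U = _
      rw [Module.natCard_eq_pow_finrank (K := ZMod p), Nat.card_zmod]
    have hle : ∀ U, sg U ≤ (P : Subgroup G) := by
      rintro U _ ⟨a, _, rfl⟩
      exact (Additive.toMul a).2
    obtain ⟨g, hg⟩ := hC (sg W) (sg W') (P.2.to_le (hle W)) (P.2.to_le (hle W'))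
      (by rw [hsc, hsc, hWW])
    obtain ⟨m, hm, hm'⟩ := fusion P hab (sg W) g (hle W) fun a ha =>
      hle W' (hg ▸ ⟨a, ha, rfl⟩)
    refine ⟨⟨ρN ⟨m, hN ▸ hm⟩, _, rfl⟩, SetLike.ext' (Set.image_injective.2 hval ?_)⟩
    show val '' ((ρN ⟨m, hN ▸ hm⟩) '' (W : Set V)) = (sg W' : Set G)
    rw [hg, Subgroup.coe_map]
    show val '' ((ρN ⟨m, hN ▸ hm⟩) '' (W : Set V)) = _ '' (val '' (W : Set V))
    rw [Set.image_image, Set.image_image]
    exact Set.image_congr fun a ha => hm' _ ⟨a, ha, rfl⟩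
  obtain ⟨e, σ, hsl, hcases⟩ :=
    CfsgLib.SolvStruct.PlaneTransitive.main hLsol L.subtype L.subtype_injective hfr hn htr
  -- the action of `N` on the cosets of `H`
  let ι : V → N ⧸ H := fun v => QuotientGroup.mk ⟨val v, hPN (Additive.toMul v).2⟩
  have hmk : ∀ (u : N), u ∈ P' → ∀ h ∈ H, (QuotientGroup.mk (u * h) : N ⧸ H) = QuotientGroup.mk u :=
    fun u _ h hh => QuotientGroup.mk_mul_of_mem u hh
  have hι : Function.Bijective ι := by
    refine ⟨fun a b hab' => hval ?_, fun q => ?_⟩
    · have h1 := QuotientGroup.eq.1 hab'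
      have h2 : (⟨val a, hPN (Additive.toMul a).2⟩ : N)⁻¹ * ⟨val b, hPN (Additive.toMul b).2⟩ ∈
          P' ⊓ H :=
        Subgroup.mem_inf.2 ⟨P'.mul_mem (P'.inv_mem (Additive.toMul a).2) (Additive.toMul b).2, h1⟩
      rw [hH.disjoint.eq_bot, Subgroup.mem_bot, inv_mul_eq_one] at h2
      exact congrArg (fun z : N => (z : G)) h2
    · obtain ⟨x, rfl⟩ := QuotientGroup.mk_surjective q
      obtain ⟨u, hu, h, hh, rfl⟩ := hdec x
      exact ⟨Additive.ofMul ⟨u, hu⟩, (hmk u hu h hh).symm⟩
  let E : N ⧸ H ≃ GaloisField p n := (Equiv.ofBijective ι hι).symm.trans e.toEquiv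
  let Γ : N →* Equiv.Perm (GaloisField p n) :=
    E.permCongrHom.toMonoidHom.comp (MulAction.toPermHom N (N ⧸ H))
  have hform : ∀ u (hu : u ∈ P'), ∀ h ∈ H, ∀ v : V, Γ (u * h) (e v) =
      e (Additive.ofMul ⟨(u : G), hu⟩) + e (ρN h v) := by
    intro u hu h hh v
    have hEι : ∀ w, E (ι w) = e w := fun w => by
      show e ((Equiv.ofBijective ι hι).symm (ι w)) = e w
      rw [Equiv.ofBijective_symm_apply_apply]
    have hEs : E.symm (e v) = ι v := by rw [Equiv.symm_apply_eq, hEι]
    show E ((u * h) • E.symm (e v)) = _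
    rw [hEs, ← map_add, ← hEι]
    refine congrArg E ?_
    show (QuotientGroup.mk ((u * h) * _) : N ⧸ H) = QuotientGroup.mk _
    rw [QuotientGroup.eq]
    convert H.inv_mem hh using 1
    refine Subtype.ext ?_
    show (((u : G) * (h : G)) * val v)⁻¹ * ((u : G) * ((h : G) * val v * (h : G)⁻¹)) = ((h : G))⁻¹
    group
  have hΓmem : ∀ x, Γ x ∈ semiaffineGroup (GaloisField p n) := fun x => by
    obtain ⟨u, hu, h, hh, rfl⟩ := hdec x
    obtain ⟨a, ha, hav⟩ := hsl ⟨ρN h, h, rfl⟩
    refine ⟨Units.mk0 a ha, e (Additive.ofMul ⟨(u : G), hu⟩), σ ⟨ρN h, h, rfl⟩, fun y => ?_⟩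
    obtain ⟨v, rfl⟩ := e.surjective y
    rw [hform u hu h hh v, add_comm]
    exact congrArg (· + _) (hav v)
  have hΓker : Γ.ker = K := by
    have h1 : Γ.ker = H.normalCore := by
      rw [Subgroup.normalCore_eq_ker]
      ext x
      simp [Γ, MonoidHom.mem_ker]
    rw [h1]
    refine le_antisymm (le_sSup ⟨H.normalCore_normal,
      Nat.Coprime.coprime_dvd_left (Subgroup.card_dvd_of_le H.normalCore_le) hHp⟩)
      (Subgroup.normal_le_normalCore.2 hKH)
  let f : N ⧸ K →* semiaffineGroup (GaloisField p n) :=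
    QuotientGroup.lift K (Γ.codRestrict _ hΓmem) fun x hx =>
      Subtype.ext (show Γ x = 1 from (hΓker.ge hx : x ∈ Γ.ker))
  have hf : Function.Injective f := by
    rw [injective_iff_map_eq_one]
    intro q hq
    obtain ⟨x, rfl⟩ := QuotientGroup.mk_surjective q
    exact (QuotientGroup.eq_one_iff x).2 (hΓker.le (show Γ x = 1 from congrArg Subtype.val hq))
  -- the order
  have hNK : Nat.card (N ⧸ K) = p ^ n * Nat.card L := by
    have h1 : (ρN.comp H.subtype).range = L := by
      refine le_antisymm (by rintro _ ⟨h, rfl⟩; exact ⟨_, rfl⟩) ?_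
      rintro _ ⟨x, rfl⟩
      obtain ⟨h, hh, he⟩ := hsurj x
      exact ⟨⟨h, hh⟩, he⟩
    have h2 : Nat.card (ρN.comp H.subtype).ker = Nat.card K := by
      rw [← hkerH, ← Nat.card_congr (Subgroup.subgroupOfEquivOfLe
        (inf_le_right : ρN.ker ⊓ H ≤ H)).toEquiv, Subgroup.inf_subgroupOf_right]
      rfl
    have h3 : Nat.card H = Nat.card L * Nat.card K := by
      rw [← (ρN.comp H.subtype).ker.index_mul_card, h2, Subgroup.index_ker, h1]
    have h4 := Subgroup.card_eq_card_quotient_mul_card_subgroup K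
    rw [hNH, h3, ← mul_assoc] at h4
    exact (Nat.eq_of_mul_eq_mul_right Nat.card_pos h4).symm
  have hF : Nat.card (GaloisField p n) = p ^ n := GaloisField.card p n (by omega)
  rcases hcases with ⟨rfl, h3⟩ | ⟨rfl, rfl, hLc⟩
  · refine Or.inl ⟨rfl, ⟨f, hf⟩, fun h2 => ?_⟩
    subst h2
    rcases h3 rfl with hL21 | ⟨hL7, htriv⟩
    · refine Or.inl (nonempty_iso f hf ?_)
      refine (card_semiaffine_le _).trans ?_
      rw [hNK, hL21, CfsgLib.SolvStruct.PlaneTransitive.card_ringAut' hF, hF]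
      norm_num
    · have hmem : ∀ x, Γ x ∈ affineGroup (GaloisField 2 3) := fun x => by
        obtain ⟨u, hu, h, hh, rfl⟩ := hdec x
        obtain ⟨a, ha, hav⟩ := hsl ⟨ρN h, h, rfl⟩
        refine ⟨Units.mk0 a ha, e (Additive.ofMul ⟨(u : G), hu⟩), fun y => ?_⟩
        obtain ⟨v, rfl⟩ := e.surjective y
        rw [hform u hu h hh v, add_comm]
        refine congrArg (· + _) ((hav v).trans ?_)
        rw [htriv]
        rfl
      let g : N ⧸ K →* affineGroup (GaloisField 2 3) :=
        QuotientGroup.lift K (Γ.codRestrict _ hmem) fun x hx =>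
          Subtype.ext (show Γ x = 1 from (hΓker.ge hx : x ∈ Γ.ker))
      have hg : Function.Injective g := by
        rw [injective_iff_map_eq_one]
        intro q hq
        obtain ⟨x, rfl⟩ := QuotientGroup.mk_surjective q
        exact (QuotientGroup.eq_one_iff x).2 (hΓker.le (show Γ x = 1 from congrArg Subtype.val hq))
      refine Or.inr (nonempty_iso g hg ?_)
      refine (card_affine_le _).trans ?_
      rw [hNK, hL7, hF]
      norm_num
  · refine Or.inr ⟨rfl, rfl, nonempty_iso f hf ?_⟩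
    refine (card_semiaffine_le _).trans ?_
    rw [hNK, hLc, CfsgLib.SolvStruct.PlaneTransitive.card_ringAut' hF, hF]
    norm_num

end Cfsg.Agent.S4025
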