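import Cfsg.Statements.S0809
import Cfsg.Agent.Lib.Involutions.SLTwoSylow

set_option autoImplicit false
open Cfsg

namespace Cfsg.Agent.S0809

open CfsgLib.GLTwo CfsgLib.Involutions.SLTwoTori CfsgLib.KnownB.SL2Sizes

/-- In SL_2(q), q odd: any two subgroups of order 4 are conjugate, and the normaliser of a subgroup of order 4 has order 2(q − 1) if q ≡ 1 (mod 4) and 2(q + 1) if q ≡ 3 (mod 4); consequently all involutions of PSL_2(q) are conjugate. -/
theorem result {F : Type*} [Field F] [Fintype F] {q : ℕ} (hF : Fintype.card F = q) (hodd : Odd q) (A : Subgroup (Matrix.SpecialLinearGroup (Fin 2) F)) (hA : Nat.card A = 4) : (∀ B : Subgroup (Matrix.SpecialLinearGroup (Fin 2) F), Nat.card B = 4 → ∃ g : Matrix.SpecialLinearGroup (Fin 2) F, B = A.map (MulAut.conj g).toMonoidHom) ∧ (q % 4 = 1 → Nat.card ↥(Subgroup.normalizer (A : Set (Matrix.SpecialLinearGroup (Fin 2) F))) = 2 * (q - 1)) ∧ (q % 4 = 3 → Nat.card ↥(Subgroup.normalizer (A : Set (Matrix.SpecialLinearGroup (Fin 2) F))) = 2 *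 (q + 1)) ∧ (∀ x y : Matrix.ProjectiveSpecialLinearGroup (Fin 2) F, orderOf x = 2 → orderOf y = 2 → IsConj x y) := by
  classical
  subst hF
  have gen : ∀ B : Subgroup (Matrix.SpecialLinearGroup (Fin 2) F), Nat.card B = 4 →
      ∃ x : Matrix.SpecialLinearGroup (Fin 2) F, (x : Matrix (Fin 2) (Fin 2) F).trace = 0 ∧ B = Subgroup.zpowers x := by
    intro B hB
    obtain ⟨x, hxB, hx⟩ : ∃ x ∈ B, ¬ IsScalar2 (x : Matrix (Fin 2) (Fin 2) F) := by
      by_contra! h
      have hle : (Finset.univ.filter fun x => x ∈ B) ⊆ ({1, -1} : Finset (Matrix.SpecialLinearGroup (Fin 2) F)) := fun x hx => by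
        rcases scalar_eq (h x (Finset.mem_filter.1 hx).2) with rfl | rfl <;> simp
      have h1 := Finset.card_le_card hle
      rw [← Fintype.card_subtype, ← Nat.card_eq_fintype_card, show Nat.card {x // x ∈ B} = 4 from hB] at h1
      have := Finset.card_le_two (a := (1 : Matrix.SpecialLinearGroup (Fin 2) F)) (b := -1)
      omega
    have h4 : x * x * (x * x) = 1 := by
      have : ((((⟨x, hxB⟩ : B) ^ Nat.card B : B)) : Matrix.SpecialLinearGroup (Fin 2) F) = 1 := by
        rw [pow_card_eq_one']; rfl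
      rw [Subgroup.coe_pow, hB] at this
      rw [← this]
      simp only [pow_succ, pow_zero, one_mul, mul_assoc]
    have h0 : (x : Matrix (Fin 2) (Fin 2) F).trace = 0 := by
      refine trace_zero_of_sq hx ?_
      rcases (sq_eq_one_iff hodd _).1 h4 with h | h
      · exact absurd (scalar_of_sq_eq_one hodd h) hx
      · exact h
    refine ⟨x, h0, (Subgroup.eq_of_le_of_card_ge (by simpa using hxB) ?_).symm⟩
    rw [hB, Nat.card_zpowers, orderOf_trace_zero hodd h0]; norm_num
  have conj : ∀ x y : Matrix.SpecialLinearGroup (Fin 2) F, (x : Matrix (Fin 2) (Fin 2) F).trace = 0 →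
      (y : Matrix (Fin 2) (Fin 2) F).trace = 0 → IsConj x y := fun x y hx hy =>
    sl_isConj_of_norm_surj (not_scalar_of_trace_sq (trace_sq_ne_four_of_zero hodd hx))
      (not_scalar_of_trace_sq (trace_sq_ne_four_of_zero hodd hy)) (hx.trans hy.symm)
      (norm_surj_odd (ringChar_ne_two hodd) (trace_sq_ne_four_of_zero hodd hx))
  obtain ⟨x, h0, rfl⟩ := gen A hA
  have ht := trace_sq_ne_four_of_zero hodd h0
  have hN : Subgroup.normalizer ((Subgroup.zpowers x : Subgroup _) : Set (Matrix.SpecialLinearGroup (Fin 2) F)) =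
      Subgroup.normalizer ((Subgroup.centralizer {x}) : Set (Matrix.SpecialLinearGroup (Fin 2) F)) := by
    refine le_antisymm (fun n hn => (mem_normalizer_iff hodd ht).2 ?_) (fun n hn => ?_)
    · have hmem := (Subgroup.mem_normalizer_iff.1 hn x).1 (Subgroup.mem_zpowers x)
      have hle : Subgroup.zpowers x ≤ Subgroup.centralizer {x} := by
        simp [Subgroup.mem_centralizer_singleton_iff]
      exact eq_or_eq_inv_of_trace hodd ht (hle hmem) (trace_eq_of_isConj_sl (isConj_iff.2 ⟨n, rfl⟩)).symm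
    · rw [Subgroup.mem_normalizer_iff_map_conj_eq]
      rw [MonoidHom.map_zpowers]
      show Subgroup.zpowers (n * x * n⁻¹) = _
      rcases conj_cases hodd ht hn with h | h <;> simp only [h, Subgroup.zpowers_inv]
  refine ⟨?_, ?_, ?_, ?_⟩
  · intro B hB
    obtain ⟨y, hy, rfl⟩ := gen B hB
    obtain ⟨c, hc⟩ := isConj_iff.1 (conj x y h0 hy)
    refine ⟨c, ?_⟩
    rw [MonoidHom.map_zpowers]
    show _ = Subgroup.zpowers (c * x * c⁻¹)
    rw [hc]
  · intro hq
    rw [hN, (torus_normalizer hodd ht).1, card_centralizer_trace_zero hodd h0, if_pos hq]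
  · intro hq
    rw [hN, (torus_normalizer hodd ht).1, card_centralizer_trace_zero hodd h0, if_neg (by omega)]
  · intro a b ha hb
    have lift : ∀ a : Matrix.ProjectiveSpecialLinearGroup (Fin 2) F, orderOf a = 2 →
        ∃ g : Matrix.SpecialLinearGroup (Fin 2) F, (g : Matrix (Fin 2) (Fin 2) F).trace = 0 ∧ CfsgLib.KnownB.SL2Products.pr g = a := by
      intro a ha
      obtain ⟨g, rfl⟩ := CfsgLib.KnownB.SL2Products.pr_surjective a
      have hns : ¬ IsScalar2 (g : Matrix (Fin 2) (Fin 2) F) := fun h => by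
        rw [CfsgLib.KnownB.SL2Products.pr_eq_one_iff.2 h, orderOf_one] at ha; exact absurd ha (by norm_num)
      have h2 : CfsgLib.KnownB.SL2Products.pr (g * g) = 1 := by
        rw [map_mul, ← pow_two]; exact orderOf_dvd_iff_pow_eq_one.1 (dvd_of_eq ha)
      refine ⟨g, trace_zero_of_sq hns ?_, rfl⟩
      rcases scalar_eq (CfsgLib.KnownB.SL2Products.pr_eq_one_iff.1 h2) with h | h
      · exact absurd (scalar_of_sq_eq_one hodd h) hns
      · exact h
    obtain ⟨g, hg, rfl⟩ := lift a ha
    obtain ⟨h, hh, rfl⟩ := lift b hb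
    exact MonoidHom.map_isConj CfsgLib.KnownB.SL2Products.pr (conj g h hg hh)

end Cfsg.Agent.S0809
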