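import Cfsg.Statements.S2119
import Cfsg.Agent.Lib.KnownA.AutAlt
-- import your own Cfsg.Agent.* helpers here

set_option autoImplicit false
open Cfsg

namespace Cfsg.Agent.S2119

/-- Automorphisms of the alternating groups: for n ≥ 4 with n ≠ 6, every automorphism of the alternating group of degree n is conjugation by a unique permutation, i.e. conjugation induces an isomorphism from the symmetric group of degree n onto the automorphism group of the alternating group (so the outer automorphism group has order 2). -/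
theorem result (n : ℕ) (hn : 4 ≤ n) (h6 : n ≠ 6) : Function.Bijective (MulAut.conjNormal : Equiv.Perm (Fin n) →* MulAut ↥(alternatingGroup (Fin n))) := by
  refine ⟨CfsgLib.KnownA.conjNormal_injective (by simpa using hn), fun ψ => ?_⟩
  rcases Nat.lt_or_ge n 5 with h5 | h5
  swap
  · exact CfsgLib.KnownA.exists_conj_aut (by simpa using h5) (by simpa using h6) ψ
  obtain rfl : n = 4 := by omega
  let a : ↥(alternatingGroup (Fin 4)) :=
    ⟨Equiv.swap 0 1 * Equiv.swap 1 2, Equiv.Perm.mem_alternatingGroup.2 (by decide)⟩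
  let b : ↥(alternatingGroup (Fin 4)) :=
    ⟨Equiv.swap 0 1 * Equiv.swap 2 3, Equiv.Perm.mem_alternatingGroup.2 (by decide)⟩
  have hgen : ∀ g : ↥(alternatingGroup (Fin 4)), ∃ (i : Fin 3) (j : Fin 2) (k : Fin 3),
      g = a ^ (i : ℕ) * b ^ (j : ℕ) * a ^ (k : ℕ) := by decide +kernel
  let T := {p : ↥(alternatingGroup (Fin 4)) × ↥(alternatingGroup (Fin 4)) //
    p.1 ^ 3 = 1 ∧ p.1 ≠ 1 ∧ p.2 ^ 2 = 1 ∧ p.2 ≠ 1}
  have hT : Fintype.card T = 24 := by decide +kernel
  have hab : a ^ 3 = 1 ∧ a ≠ 1 ∧ b ^ 2 = 1 ∧ b ≠ 1 := by decide +kernel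
  let F : MulAut ↥(alternatingGroup (Fin 4)) → T := fun φ => ⟨(φ a, φ b),
    by rw [← map_pow, hab.1, map_one], fun h => hab.2.1 (φ.injective (h.trans (map_one φ).symm)),
    by rw [← map_pow, hab.2.2.1, map_one],
    fun h => hab.2.2.2 (φ.injective (h.trans (map_one φ).symm))⟩
  have hF : Function.Injective F := fun φ χ h => MulEquiv.ext fun g => by
    have h1 : φ a = χ a := congrArg (fun t : T => t.1.1) h
    have h2 : φ b = χ b := congrArg (fun t : T => t.1.2) h
    obtain ⟨i, j, k, rfl⟩ := hgen g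
    simp only [map_mul, map_pow, h1, h2]
  haveI := Finite.of_injective F hF
  have hcard := Nat.card_le_card_of_injective F hF
  rw [Nat.card_eq_fintype_card (α := T), hT] at hcard
  refine ((CfsgLib.KnownA.conjNormal_injective (Ω := Fin 4)
    (by simp)).bijective_of_nat_card_le ?_).2 ψ
  rw [Nat.card_perm, Nat.card_eq_fintype_card (α := Fin 4), Fintype.card_fin]
  exact hcard

end Cfsg.Agent.S2119
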