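import Cfsg.Statements.S0231
import Cfsg.Agent.Lib.Involutions.Isolated

set_option autoImplicit false
open scoped Pointwise
open Cfsg

namespace Cfsg.Agent.S0231

/-- Let T be a Sylow 2-subgroup of the finite group G which is not normal and which intersects every other Sylow 2-subgroup trivially. Then G has a single conjugacy class of involutions. -/
theorem result {G : Type*} [Group G] [Finite G] (T : Sylow 2 G) (hnn : ¬ (T : Subgroup G).Normal) (hTI : ∀ g : G, MulAut.conj g • (T : Subgroup G) ≠ T → MulAut.conj g • (T : Subgroup G) ⊓ T = ⊥) (s t : G) (hs : orderOf s = 2) (ht : orderOf t = 2) : IsConj s t := by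
  open CfsgLib.Involutions in
  open scoped Pointwise in
  by_contra hst
  -- two non-conjugate involutions always lie in one common conjugate of `T`
  have hsame : ∀ (x : G) (g h : G), orderOf x = 2 → g⁻¹ * x * g ∈ T → h⁻¹ * x * h ∈ T →
      (g • T) = (h • T) := by
    intro x g h hx hg hh
    by_contra hne
    have hne' : MulAut.conj (h⁻¹ * g) • (T : Subgroup G) ≠ T := by
      intro he
      apply hne
      have : (h⁻¹ * g) • T = T := Sylow.ext he
      rw [mul_smul, inv_smul_eq_iff] at this
      exact this
    have hb := hTI _ hne'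
    have hm : h⁻¹ * x * h ∈ MulAut.conj (h⁻¹ * g) • (T : Subgroup G) ⊓ T := by
      refine ⟨(mem_smul_sylow_iff' (g := h⁻¹ * g) (P := T)).2 ?_, hh⟩
      convert hg using 1
      group
    rw [hb, Subgroup.mem_bot] at hm
    have : orderOf (h⁻¹ * x * (h⁻¹)⁻¹) = 2 := by rw [orderOf_conj_eq, hx]
    rw [inv_inv, hm, orderOf_one] at this
    omega
  have hcommon : ∀ x y : G, orderOf x = 2 → orderOf y = 2 → ¬ IsConj x y →
      ∀ g : G, g⁻¹ * x * g ∈ T → g⁻¹ * y * g ∈ T := by
    intro x y hx hy hxy g hg
    have heven : Even (orderOf (x * y)) := by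
      by_contra h
      exact hxy (isConj_of_odd_prod hx hy (Nat.not_even_iff_odd.1 h))
    have hw := half_invol (x := x) (y := y) heven
    obtain ⟨a, a1, a2⟩ := exists_conj_mem_sylow T hw hx (half_comm_left hx hy heven)
    obtain ⟨b, b1, b2⟩ := exists_conj_mem_sylow T hw hy (half_comm_right hx hy heven)
    have e1 := hsame _ a⁻¹ b⁻¹ hw (by simpa using a1) (by simpa using b1)
    have e2 := hsame x g a⁻¹ hx hg (by simpa using a2)
    have : y ∈ g • T := by
      rw [e2, e1]
      exact mem_smul_sylow_iff'.2 (by simpa using b2)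
    exact mem_smul_sylow_iff'.1 this
  -- hence all involutions lie in one Sylow subgroup
  obtain ⟨a, ha⟩ := exists_conj_mem_sylow_one T hs
  have hta := hcommon s t hs ht hst a⁻¹ (by simpa using ha)
  have hall : ∀ x : G, orderOf x = 2 → x ∈ a⁻¹ • T := by
    intro x hx
    refine mem_smul_sylow_iff'.2 ?_
    by_cases hsx : IsConj s x
    · exact hcommon t x ht hx (fun h => hst (hsx.trans h.symm)) a⁻¹ hta
    · exact hcommon s x hs hx hsx a⁻¹ (by simpa using ha)
  apply hnn
  have hfix : ∀ g : G, g • T = a⁻¹ • T := by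
    intro g
    have hx : orderOf (g * (a * s * a⁻¹) * g⁻¹) = 2 := conj_invol g (conj_invol a hs)
    refine hsame _ g a⁻¹ hx ?_ (mem_smul_sylow_iff'.1 (hall _ hx))
    convert ha using 1
    group
  rw [← Subgroup.normalizer_eq_top_iff, eq_top_iff]
  intro g _
  exact Sylow.smul_eq_iff_mem_normalizer.1 (by rw [hfix g, ← hfix 1, one_smul])

end Cfsg.Agent.S0231
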