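import Cfsg.Statements.S2469
import Cfsg.Agent.Lib.KnownB.PrimeGraphSp

set_option autoImplicit false
open Cfsg

namespace Cfsg.Agent.S2469

/-- Adjacency of two odd primes in the prime graph of PSp(2n,q): let F be a finite field of characteristic p with q elements, n ≥ 2 with PSp(2n,F) simple, and let r ≠ s be odd primes different from p dividing the order of PSp(2n,F). Let k, l be the multiplicative orders of q modulo r and s, put η(m) = m for odd m and η(m) = m/2 for even m, and suppose η(k) ≤ η(l). Then PSp(2n,F) has NO element of order r·s if and only if η(k) + η(l) > n and l/k is not an odd integer. -/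
theorem result {F : Type*} [Field F] [Fintype F] (p : ℕ) [Fact p.Prime] [CharP F p] (n : ℕ) (hn : 2 ≤ n) (hsmall : n = 2 → 3 ≤ Fintype.card F)
    (r s : ℕ) (hr : r.Prime) (hs : s.Prime) (hr2 : r ≠ 2) (hs2 : s ≠ 2) (hrp : r ≠ p) (hsp : s ≠ p) (hrs : r ≠ s)
    (hrG : r ∣ Nat.card (Cfsg.PSp n F)) (hsG : s ∣ Nat.card (Cfsg.PSp n F))
    (k l ηk ηl : ℕ) (hk : k = orderOf ((Fintype.card F : ℕ) : ZMod r)) (hl : l = orderOf ((Fintype.card F : ℕ) : ZMod s))
    (hηk : (Odd k ∧ ηk = k) ∨ (Even k ∧ 2 * ηk = k)) (hηl : (Odd l ∧ ηl = l) ∨ (Even l ∧ 2 * ηl = l)) (hkl : ηk ≤ ηl) :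
    (r * s ∉ Set.range (orderOf : Cfsg.PSp n F → ℕ)) ↔ (n < ηk + ηl ∧ ¬ ∃ t : ℕ, Odd t ∧ l = k * t) := by
  classical
  subst hk hl
  rw [CfsgLib.KnownB.PrimeGraph.etaQ_eq hηk, CfsgLib.KnownB.PrimeGraph.etaQ_eq hηl] at hkl ⊢
  set a := CfsgLib.KnownB.PrimeGraph.etaQ F r with ha
  set b := CfsgLib.KnownB.PrimeGraph.etaQ F s with hb
  change (r * s ∉ Set.range (orderOf : Cfsg.PSp n F → ℕ)) ↔
    (n < a + b ∧ ¬ ∃ t : ℕ, Odd t ∧ CfsgLib.KnownB.PrimeGraph.ordQ F s = CfsgLib.KnownB.PrimeGraph.ordQ F r * t)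
  have hodd : (r * s).Coprime 2 :=
    Nat.Coprime.mul_left ((Nat.coprime_primes hr Nat.prime_two).2 hr2) ((Nat.coprime_primes hs Nat.prime_two).2 hs2)
  have hcop : (r * s).Coprime (Nat.card (Subgroup.center (Matrix.symplecticGroup (Fin n) F))) :=
    hodd.coprime_dvd_right
      ((CfsgLib.KnownB.PrimeGraph.card_center_dvd_two n (by omega)).trans (Nat.gcd_dvd_left _ _))
  rw [CfsgLib.KnownB.PrimeGraph.mem_range_quotient_iff _ hcop]
  haveI := Fact.mk hr
  haveI := Fact.mk hs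
  have hco := (Nat.coprime_primes hr hs).2 hrs
  obtain ⟨Jm, hJ, hiso⟩ := CfsgLib.KnownB.PrimeGraph.spMat_isometry (F := F) n
  constructor
  · intro hno
    by_contra hcon
    refine hno ?_
    by_cases hle : a + b ≤ n
    · obtain ⟨x, hx⟩ := exists_prime_orderOf_dvd_card' r
        (CfsgLib.KnownB.PrimeGraph.dvd_card_Sp_eta (F := F) p hr hrp le_rfl)
      obtain ⟨y, hy⟩ := exists_prime_orderOf_dvd_card' s
        (CfsgLib.KnownB.PrimeGraph.dvd_card_Sp_eta (F := F) p hs hsp le_rfl)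
      obtain ⟨g, hg⟩ := CfsgLib.KnownB.PrimeGraph.exists_sp_pair hle x y
      exact ⟨g, hg.trans ((congrArg₂ Nat.lcm hx hy).trans hco.lcm_eq_mul)⟩
    · obtain ⟨t, ht, hlt⟩ : ∃ t : ℕ, Odd t ∧
          CfsgLib.KnownB.PrimeGraph.ordQ F s = CfsgLib.KnownB.PrimeGraph.ordQ F r * t := by
        by_contra h
        exact hcon ⟨Nat.lt_of_not_le hle, h⟩
      obtain ⟨g, hg⟩ := CfsgLib.KnownB.PrimeGraph.exists_sp_common hr hs hr2 hs2 hrs
        (CfsgLib.KnownB.PrimeGraph.ordQ_pos p hs hsp) ht hlt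
      obtain ⟨g', hg'⟩ := CfsgLib.KnownB.ElementOrders.mem_range_orderOf_of_dvd hg
      have hbn : b ≤ n := by
        obtain ⟨y, hy⟩ := exists_prime_orderOf_dvd_card' s (hsG.trans (Subgroup.card_quotient_dvd_card _))
        have h2 := CfsgLib.KnownB.PrimeGraph.etaQ_le p hJ (hiso y) hs hs2 hsp
          ((CfsgLib.KnownB.PrimeGraph.spMat_pow_eq_one n y s).2 hy.dvd)
          (fun h => hs.ne_one (Nat.dvd_one.1 (hy ▸ (CfsgLib.KnownB.PrimeGraph.spMat_pow_eq_one n y 1).1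
            ((pow_one _).trans h))))
        omega
      obtain ⟨h, hh⟩ := CfsgLib.KnownB.PrimeGraph.exists_sp_pair (show b + (n - b) ≤ n by omega) g'
        (1 : Matrix.symplecticGroup (Fin (n - b)) F)
      exact ⟨h, hh.trans ((congrArg₂ Nat.lcm hg' orderOf_one).trans (Nat.lcm_one_right _))⟩
  · rintro ⟨hn', hnot⟩ ⟨g, hg⟩
    refine hnot (CfsgLib.KnownB.PrimeGraph.pair_criterion p hJ (hiso g) hr hs hr2 hs2 hrp hsp
      ((CfsgLib.KnownB.PrimeGraph.spMat_pow_eq_one n g _).2 hg.dvd) ?_ ?_ hkl (by omega))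
    · intro h
      have h1 := Nat.le_of_dvd hr.pos (hg ▸ (CfsgLib.KnownB.PrimeGraph.spMat_pow_eq_one n g r).1 h)
      have := lt_mul_of_one_lt_right hr.pos hs.one_lt
      omega
    · intro h
      have h1 := Nat.le_of_dvd hs.pos (hg ▸ (CfsgLib.KnownB.PrimeGraph.spMat_pow_eq_one n g s).1 h)
      have := lt_mul_of_one_lt_left hs.pos hr.one_lt
      omega

end Cfsg.Agent.S2469
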