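import Cfsg.Statements.S2472
import Cfsg.Agent.Lib.KnownB.PrimeGraphSp

set_option autoImplicit false
open Cfsg

namespace Cfsg.Agent.S2472

/-- Adjacency of a prime and the characteristic in the prime graph of PSp(2n,q): let F be a finite field of characteristic p with q elements, n ≥ 2 with PSp(2n,F) simple, and let r ≠ p be an odd prime dividing the order of PSp(2n,F), with k the multiplicative order of q modulo r and η(k) = k for odd k, k/2 for even k. Then PSp(2n,F) has NO element of order r·p if and only if η(k) > n − 1. -/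
theorem result {F : Type*} [Field F] [Fintype F] (p : ℕ) [Fact p.Prime] [CharP F p] (n : ℕ) (hn : 2 ≤ n) (hsmall : n = 2 → 3 ≤ Fintype.card F)
    (r : ℕ) (hr : r.Prime) (hr2 : r ≠ 2) (hrp : r ≠ p) (hrG : r ∣ Nat.card (Cfsg.PSp n F))
    (k ηk : ℕ) (hk : k = orderOf ((Fintype.card F : ℕ) : ZMod r)) (hηk : (Odd k ∧ ηk = k) ∨ (Even k ∧ 2 * ηk = k)) :
    (r * p ∉ Set.range (orderOf : Cfsg.PSp n F → ℕ)) ↔ n - 1 < ηk := by
  classical
  subst hk
  rw [CfsgLib.KnownB.PrimeGraph.etaQ_eq hηk]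
  set a := CfsgLib.KnownB.PrimeGraph.etaQ F r with ha
  have hp := (Fact.out : p.Prime)
  have hcop : (r * p).Coprime (Nat.card (Subgroup.center (Matrix.symplecticGroup (Fin n) F))) := by
    refine Nat.Coprime.coprime_dvd_right (CfsgLib.KnownB.PrimeGraph.card_center_dvd_two n (by omega))
      (Nat.Coprime.mul_left
        (((Nat.coprime_primes hr Nat.prime_two).2 hr2).coprime_dvd_right (Nat.gcd_dvd_left _ _)) ?_)
    refine (hp.coprime_iff_not_dvd.2 fun hd => ?_).coprime_dvd_right (Nat.gcd_dvd_right _ _)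
    obtain ⟨f, -, hf⟩ := FiniteField.card F p
    have h := Nat.dvd_sub (hf ▸ dvd_pow_self p f.ne_zero : p ∣ Fintype.card F) hd
    rw [Nat.sub_sub_self Fintype.card_pos] at h
    exact hp.ne_one (Nat.dvd_one.1 h)
  rw [CfsgLib.KnownB.PrimeGraph.mem_range_quotient_iff _ hcop]
  haveI := Fact.mk hr
  obtain ⟨Jm, hJ, hiso⟩ := CfsgLib.KnownB.PrimeGraph.spMat_isometry (F := F) n
  constructor
  · intro hno
    by_contra hcon
    refine hno ?_
    obtain ⟨x, hx⟩ := exists_prime_orderOf_dvd_card' r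
      (CfsgLib.KnownB.PrimeGraph.dvd_card_Sp_eta (F := F) (a := n - 1) p hr hrp (by omega))
    have hpdvd : p ∣ Nat.card (Matrix.symplecticGroup (Fin 1) F) := by
      obtain ⟨f, -, hf⟩ := FiniteField.card F p
      rw [CfsgLib.Classical.card_symplecticGroup, Nat.card_eq_fintype_card, Fintype.card_fin, one_pow, pow_one]
      exact Dvd.dvd.mul_right (hf ▸ dvd_pow_self p f.ne_zero) _
    obtain ⟨y, hy⟩ := exists_prime_orderOf_dvd_card' p hpdvd
    obtain ⟨g, hg⟩ := CfsgLib.KnownB.PrimeGraph.exists_sp_pair (show n - 1 + 1 ≤ n by omega) x y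
    exact ⟨g, hg.trans ((congrArg₂ Nat.lcm hx hy).trans ((Nat.coprime_primes hr hp).2 hrp).lcm_eq_mul)⟩
  · rintro hlt ⟨g, hg⟩
    have hA : CfsgLib.KnownB.PrimeGraph.spMat n g ^ p ≠ 1 := fun h => by
      have h1 := Nat.le_of_dvd hp.pos (hg ▸ (CfsgLib.KnownB.PrimeGraph.spMat_pow_eq_one n g p).1 h)
      have := lt_mul_of_one_lt_left hp.pos hr.one_lt
      omega
    have hu : CfsgLib.KnownB.PrimeGraph.spMat n g ^ r ≠ 1 := fun h => by
      have h1 := Nat.le_of_dvd hr.pos (hg ▸ (CfsgLib.KnownB.PrimeGraph.spMat_pow_eq_one n g r).1 h)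
      have := lt_mul_of_one_lt_right hr.pos hp.one_lt
      omega
    have hall := (CfsgLib.KnownB.PrimeGraph.spMat_pow_eq_one n g _).2 hg.dvd
    have hiso' := hiso (g ^ p)
    rw [map_pow] at hiso'
    haveI : Nonempty (Fin (n + n)) := ⟨⟨0, by omega⟩⟩
    have h := CfsgLib.KnownB.PrimeGraph.unip_criterion p hJ hiso' hr hr2 hrp
      (u := CfsgLib.KnownB.PrimeGraph.spMat n g ^ r - 1) (n := n)
      (by rw [← pow_mul, mul_comm]; exact hall) hA
      ((Commute.pow_pow_self _ r p).sub_left (Commute.one_left _)) (sub_ne_zero.2 hu)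
      ⟨p, by rw [sub_pow_char_of_commute p (Commute.one_right _), one_pow, ← pow_mul, hall, sub_self]⟩
      hn (by omega)
    omega

end Cfsg.Agent.S2472
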