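import Cfsg.Statements.S2474
import Cfsg.Agent.Lib.KnownB.PrimeGraphTwo
import Cfsg.Agent.S2469
import Cfsg.Agent.S2472

set_option autoImplicit false
open Cfsg

namespace Cfsg.Agent.S2474

open CfsgLib.KnownB.PrimeGraph CfsgLib.Geometry Matrix

universe u

variable {F : Type u} [Field F] [Fintype F]

theorem eta_spec (r : ℕ) :
    (Odd (ordQ F r) ∧ etaQ F r = ordQ F r) ∨ (Even (ordQ F r) ∧ 2 * etaQ F r = ordQ F r) := by
  rcases Nat.even_or_odd (ordQ F r) with h | h
  · exact Or.inr ⟨h, two_mul_etaQ_dvd_of_even h⟩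
  · exact Or.inl ⟨h, by rw [etaQ, if_pos h]⟩

theorem etaQ_pos (p : ℕ) [Fact p.Prime] [CharP F p] {r : ℕ} (hr : r.Prime) (hrp : r ≠ p) :
    0 < etaQ F r := by
  have := ordQ_pos (F := F) p hr hrp
  have := le_two_mul_etaQ (F := F) r
  omega

theorem etaQ_le_rank (p : ℕ) [Fact p.Prime] [CharP F p] {n r : ℕ} (hr : r.Prime) (hr2 : r ≠ 2) (hrp : r ≠ p)
    (hrG : r ∣ Nat.card (Cfsg.PSp n F)) : etaQ F r ≤ n := by
  haveI := Fact.mk hr
  obtain ⟨Jm, hJ, hiso⟩ := spMat_isometry (F := F) n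
  obtain ⟨y, hy⟩ := exists_prime_orderOf_dvd_card' r (hrG.trans (Subgroup.card_quotient_dvd_card _))
  have h2 := etaQ_le p hJ (hiso y) hr hr2 hrp ((spMat_pow_eq_one n y r).2 hy.dvd)
    (fun h => hr.ne_one (Nat.dvd_one.1 (hy ▸ (spMat_pow_eq_one n y 1).1 ((pow_one _).trans h))))
  omega

/-- The torus of one prime. -/
theorem ohas_prime (p : ℕ) [Fact p.Prime] [CharP F p] {r : ℕ} (hr : r.Prime) (hr2 : r ≠ 2) (hrp : r ≠ p) :
    OHas F (etaQ F r + etaQ F r) r := by
  rcases torus_cases (F := F) p hr hr2 hrp rfl with ⟨-, -, hd⟩ | ⟨-, -, hd⟩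
  · exact (ohas_twisted (etaQ_pos p hr hrp)).of_dvd hd
  · exact (ohas_split (etaQ_pos p hr hrp)).of_dvd hd

theorem four_mul_dvd {r m : ℕ} (hr : r.Prime) (hr2 : r ≠ 2) (h4 : 4 ∣ m) (hm : r ∣ m) : 4 * r ∣ m :=
  (Nat.Coprime.pow_left 2 ((Nat.coprime_primes Nat.prime_two hr).2 (Ne.symm hr2))).mul_dvd_of_dvd_of_dvd h4 hm

theorem lcm_four {r : ℕ} (hr : r.Prime) (hr2 : r ≠ 2) : Nat.lcm r 4 = 4 * r := by
  rw [Nat.lcm_comm]
  exact (Nat.Coprime.pow_left 2 ((Nat.coprime_primes Nat.prime_two hr).2 (Ne.symm hr2))).lcm_eq_mul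

theorem half_dvd {r : ℕ} : ∀ k, 4 * r ∣ 2 * k → 2 * r ∣ k := fun _ h =>
  Nat.dvd_of_mul_dvd_mul_left two_pos (by rwa [← mul_assoc])

theorem exists_J_four (h2 : (2 : F) ≠ 0) : ∃ y : Matrix.symplecticGroup (Fin 1) F, orderOf y = 4 := by
  haveI := Fact.mk Nat.prime_two
  refine ⟨⟨Matrix.J (Fin 1) F, SymplecticGroup.J_mem _ _⟩, ?_⟩
  refine orderOf_eq_prime_pow (p := 2) (n := 1) (fun h => ?_) (Subtype.ext ?_)
  · have h' := congrArg Subtype.val h
    rw [pow_one, SubmonoidClass.coe_pow, pow_two, Matrix.J_squared] at h'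
    have e := congrFun (congrFun h' (.inl 0)) (.inl 0)
    simp at e
    exact h2 (by linear_combination -e)
  · rw [SubmonoidClass.coe_pow, pow_succ 2 1, pow_mul, pow_one, pow_two (Matrix.J _ F), Matrix.J_squared]
    simp

theorem sp_image {n m : ℕ} (hn : 0 < n) (g : Matrix.symplecticGroup (Fin n) F) (h : 2 * m ∣ orderOf g) :
    m ∈ Set.range (orderOf : Cfsg.PSp n F → ℕ) := by
  refine CfsgLib.KnownB.ElementOrders.mem_range_orderOf_of_dvd (x := (QuotientGroup.mk g : Cfsg.PSp n F)) ?_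
  set k := orderOf (QuotientGroup.mk g : Cfsg.PSp n F) with hk
  have hmem : g ^ k ∈ Subgroup.center (Matrix.symplecticGroup (Fin n) F) :=
    (QuotientGroup.eq_one_iff _).1 (pow_orderOf_eq_one (QuotientGroup.mk g : Cfsg.PSp n F))
  have h1 : g ^ (k * 2) = 1 := by
    rw [pow_mul]
    have := orderOf_dvd_iff_pow_eq_one.1 ((orderOf_dvd_natCard (⟨_, hmem⟩ :
      Subgroup.center (Matrix.symplecticGroup (Fin n) F))).trans
        ((card_center_dvd_two n hn).trans (Nat.gcd_dvd_left _ _)))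
    exact congrArg Subtype.val this
  exact Nat.dvd_of_mul_dvd_mul_left two_pos (mul_comm k 2 ▸ h.trans (orderOf_dvd_of_pow_eq_one h1))

variable (p : ℕ) [Fact p.Prime] [CharP F p]

theorem two_char (h2 : (2 : F) ≠ 0) (hp2 : p ≠ 2) {n : ℕ} (hn : 3 ≤ n) :
    2 * p ∈ Set.range (orderOf : Cfsg.POmega F (Cfsg.quadFormOdd n F) → ℕ) ∧
      2 * p ∈ Set.range (orderOf : Cfsg.PSp n F → ℕ) := by
  have hp := (Fact.out : p.Prime)
  constructor
  · have h := ((ohas_char (F := F) p h2).add (ohas_four h2)).pad (show 3 + 2 ≤ 2 * n + 1 by omega)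
    rw [lcm_four hp hp2] at h
    exact mem_range_of_ohas h2 hn h half_dvd
  · obtain ⟨y, hy⟩ := exists_J_four (F := F) h2
    have hpdvd : p ∣ Nat.card (Matrix.symplecticGroup (Fin 1) F) := by
      obtain ⟨f, -, hf⟩ := FiniteField.card F p
      rw [CfsgLib.Classical.card_symplecticGroup, Nat.card_eq_fintype_card, Fintype.card_fin, one_pow, pow_one]
      exact Dvd.dvd.mul_right (hf ▸ dvd_pow_self p f.ne_zero) _
    obtain ⟨x, hx⟩ := exists_prime_orderOf_dvd_card' p hpdvd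
    obtain ⟨g, hg⟩ := exists_sp_pair (show 1 + 1 ≤ n by omega) x y
    refine sp_image (by omega) g (dvd_of_eq ?_)
    rw [hg, hx, hy, lcm_four hp hp2]; ring

/-- The criterion for `2 r`, on both sides. -/
theorem two_odd (hq : Odd (Fintype.card F)) (h2 : (2 : F) ≠ 0) {n : ℕ} (hn : 3 ≤ n) {r : ℕ} (hr : r.Prime)
    (hr2 : r ≠ 2) (hrp : r ≠ p) (hrG : r ∣ Nat.card (Cfsg.PSp n F)) :
    (2 * r ∈ Set.range (orderOf : Cfsg.POmega F (Cfsg.quadFormOdd n F) → ℕ) ↔
        (etaQ F r < n ∨ TorCrit F r n)) ∧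
      (2 * r ∈ Set.range (orderOf : Cfsg.PSp n F → ℕ) ↔ (etaQ F r < n ∨ TorCrit F r n)) := by
  haveI := Fact.mk hr
  have hle := etaQ_le_rank p hr hr2 hrp hrG
  constructor <;> constructor
  · intro h
    refine or_iff_not_imp_left.2 fun hlt => ?_
    obtain ⟨g, hg, hord⟩ := (mem_range_pOmega_iff h2 hn (Matrix.transpose_one) isUnit_one _).1 h
    exact torCrit_of_orth p hq h2 hn Matrix.transpose_one isUnit_one hg hr hr2 hrp hord (by omega)
  · intro h
    refine mem_range_of_ohas h2 hn (m' := 4 * r) ?_ half_dvd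
    by_cases hlt : etaQ F r < n
    · have h' := ((ohas_prime p hr hr2 hrp).add (ohas_four h2)).pad
        (show etaQ F r + etaQ F r + 2 ≤ 2 * n + 1 by omega)
      rwa [lcm_four hr hr2] at h'
    · have hη : etaQ F r = n := by omega
      have hC := h.resolve_left hlt
      rcases torus_cases (F := F) p hr hr2 hrp hη with ⟨he, -, hd⟩ | ⟨he, -, hd⟩
      · rw [TorCrit, if_pos he] at hC
        exact ((ohas_twisted (F := F) (show 0 < n by omega)).of_dvd (four_mul_dvd hr hr2 hC hd)).pad (by omega)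
      · rw [TorCrit, if_neg he] at hC
        exact ((ohas_split (F := F) (show 0 < n by omega)).of_dvd (four_mul_dvd hr hr2 hC hd)).pad (by omega)
  · rintro ⟨x, hx⟩
    exact or_iff_not_imp_left.2 fun hlt =>
      torCrit_of_sp p hq h2 (by omega) hr hr2 hrp hx (by omega)
  · intro h
    by_cases hlt : etaQ F r < n
    · obtain ⟨x, hx⟩ := exists_prime_orderOf_dvd_card' r (dvd_card_Sp_eta (F := F) p hr hrp le_rfl)
      obtain ⟨y, hy⟩ := exists_J_four (F := F) h2
      obtain ⟨g, hg⟩ := exists_sp_pair (show etaQ F r + 1 ≤ n by omega) x y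
      refine sp_image (by omega) g (dvd_of_eq ?_)
      rw [hg, hx, hy, lcm_four hr hr2]; ring
    · have hη : etaQ F r = n := by omega
      have hC := h.resolve_left hlt
      rcases torus_cases (F := F) p hr hr2 hrp hη with ⟨he, -, hd⟩ | ⟨he, -, hd⟩
      · rw [TorCrit, if_pos he] at hC
        obtain ⟨g, hg⟩ := exists_sp_twisted (F := F) (show 0 < n by omega)
        refine sp_image (by omega) g ?_
        rw [hg, ← mul_assoc]
        exact four_mul_dvd hr hr2 hC hd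
      · rw [TorCrit, if_neg he] at hC
        obtain ⟨g, hg⟩ := exists_sp_split (F := F) (show 0 < n by omega)
        refine sp_image (by omega) g ((?_ : 2 * (2 * r) ∣ _).trans hg)
        rw [← mul_assoc]
        exact four_mul_dvd hr hr2 hC hd

theorem odd_odd (hq : Odd (Fintype.card F)) (h2 : (2 : F) ≠ 0) {n : ℕ} (hn : 3 ≤ n) {r s : ℕ} (hr : r.Prime)
    (hs : s.Prime) (hr2 : r ≠ 2) (hs2 : s ≠ 2) (hrp : r ≠ p) (hsp : s ≠ p) (hrs : r ≠ s)
    (hrG : r ∣ Nat.card (Cfsg.PSp n F)) (hsG : s ∣ Nat.card (Cfsg.PSp n F)) (hkl : etaQ F r ≤ etaQ F s) :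
    r * s ∈ Set.range (orderOf : Cfsg.POmega F (Cfsg.quadFormOdd n F) → ℕ) ↔
      r * s ∈ Set.range (orderOf : Cfsg.PSp n F → ℕ) := by
  have hSp := Cfsg.Agent.S2469.result p n (by omega) (by omega) r s hr hs hr2 hs2 hrp hsp hrs hrG hsG
    (ordQ F r) (ordQ F s) (etaQ F r) (etaQ F s) rfl rfl (eta_spec r) (eta_spec s) hkl
  have hco := (Nat.coprime_primes hr hs).2 hrs
  have hodd : ∀ k, r * s ∣ 2 * k → r * s ∣ k := fun k h =>
    (Nat.Coprime.mul_left ((Nat.coprime_primes hr Nat.prime_two).2 hr2)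
      ((Nat.coprime_primes hs Nat.prime_two).2 hs2)).dvd_of_dvd_mul_left h
  rw [← not_iff_not, hSp]
  constructor
  · intro hno
    by_contra hcon
    refine hno ?_
    by_cases hle : etaQ F r + etaQ F s ≤ n
    · have h := ((ohas_prime p hr hr2 hrp).add (ohas_prime p hs hs2 hsp)).pad
        (show etaQ F r + etaQ F r + (etaQ F s + etaQ F s) ≤ 2 * n + 1 by omega)
      rw [hco.lcm_eq_mul] at h
      exact mem_range_of_ohas h2 hn h hodd
    · obtain ⟨t, ht, hl⟩ : ∃ t : ℕ, Odd t ∧ ordQ F s = ordQ F r * t := by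
        by_contra h
        exact hcon ⟨Nat.lt_of_not_le hle, h⟩
      have hsle := etaQ_le_rank p hs hs2 hsp hsG
      have hs0 := etaQ_pos (F := F) p hs hsp
      refine mem_range_of_ohas h2 hn (m' := r * s) ?_ hodd
      rcases torus_cases (F := F) p hs hs2 hsp rfl with ⟨he, h2e, hd⟩ | ⟨-, h2e, hd⟩
      · refine ((ohas_twisted hs0).of_dvd (hco.mul_dvd_of_dvd_of_dvd ?_ hd)).pad (by omega)
        refine exists_sp_common.dvd_succ_pow hr ⟨t, by rw [← h2e, hl]⟩ fun ⟨e, he'⟩ => ?_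
        have h5 : ordQ F r * t = ordQ F r * (2 * e) := by rw [← hl, h2e, he']; ring
        have h6 : t = 2 * e := Nat.eq_of_mul_eq_mul_left (ordQ_pos p hr hrp) h5
        obtain ⟨d, hd'⟩ := ht
        omega
      · refine ((ohas_split hs0).of_dvd (hco.mul_dvd_of_dvd_of_dvd ?_ hd)).pad (by omega)
        exact (dvd_pow_sub_one_iff _).2 (h2e ▸ hl ▸ dvd_mul_right _ _)
  · rintro ⟨hlt, hnot⟩ hex
    obtain ⟨g, -, hg⟩ := (mem_range_pOmega_iff h2 hn (Matrix.transpose_one) isUnit_one _).1 hex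
    refine hnot (pair_criterion p isUnit_one (orthMat_isometry h2 Matrix.transpose_one g) hr hs hr2 hs2 hrp hsp
      ((orthMat_pow_eq_one _ g _).2 hg.dvd) ?_ ?_ hkl (by omega))
    · intro h
      have h1 := Nat.le_of_dvd hr.pos (hg ▸ (orthMat_pow_eq_one _ g r).1 h)
      have := lt_mul_of_one_lt_right hr.pos hs.one_lt
      omega
    · intro h
      have h1 := Nat.le_of_dvd hs.pos (hg ▸ (orthMat_pow_eq_one _ g s).1 h)
      have := lt_mul_of_one_lt_left hs.pos hr.one_lt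
      omega

theorem odd_char (h2 : (2 : F) ≠ 0) (hp2 : p ≠ 2) {n : ℕ} (hn : 3 ≤ n) {r : ℕ} (hr : r.Prime) (hr2 : r ≠ 2)
    (hrp : r ≠ p) (hrG : r ∣ Nat.card (Cfsg.PSp n F)) :
    r * p ∈ Set.range (orderOf : Cfsg.POmega F (Cfsg.quadFormOdd n F) → ℕ) ↔
      r * p ∈ Set.range (orderOf : Cfsg.PSp n F → ℕ) := by
  have hp := (Fact.out : p.Prime)
  have hSp := Cfsg.Agent.S2472.result p n (by omega) (by omega) r hr hr2 hrp hrG (ordQ F r) (etaQ F r) rfl
    (eta_spec r)
  rw [← not_iff_not, hSp]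
  constructor
  · intro hno
    by_contra hcon
    have h := ((ohas_prime p hr hr2 hrp).add (ohas_char (F := F) p h2)).pad
      (show etaQ F r + etaQ F r + 3 ≤ 2 * n + 1 by omega)
    rw [((Nat.coprime_primes hr hp).2 hrp).lcm_eq_mul] at h
    exact hno (mem_range_of_ohas h2 hn h fun k hk =>
      (Nat.Coprime.mul_left ((Nat.coprime_primes hr Nat.prime_two).2 hr2)
        ((Nat.coprime_primes hp Nat.prime_two).2 hp2)).dvd_of_dvd_mul_left hk)
  · intro hlt hex
    obtain ⟨g, -, hg⟩ := (mem_range_pOmega_iff h2 hn (Matrix.transpose_one) isUnit_one _).1 hex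
    set M := orthMat _ g
    have hall : M ^ (r * p) = 1 := (orthMat_pow_eq_one _ g _).2 hg.dvd
    have hA : M ^ p ≠ 1 := fun h => by
      have h1 := Nat.le_of_dvd hp.pos (hg ▸ (orthMat_pow_eq_one _ g p).1 h)
      have := lt_mul_of_one_lt_left hp.pos hr.one_lt
      omega
    have hu : M ^ r ≠ 1 := fun h => by
      have h1 := Nat.le_of_dvd hr.pos (hg ▸ (orthMat_pow_eq_one _ g r).1 h)
      have := lt_mul_of_one_lt_right hr.pos hp.one_lt
      omega
    have hiso := orthMat_isometry h2 Matrix.transpose_one (g ^ p)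
    rw [map_pow] at hiso
    haveI : Nonempty (Fin (2 * n + 1)) := ⟨⟨0, by omega⟩⟩
    have h := unip_criterion p isUnit_one hiso hr hr2 hrp (u := M ^ r - 1) (n := n)
      (by rw [← pow_mul, mul_comm p r]; exact hall) hA
      ((Commute.pow_pow_self _ r p).sub_left (Commute.one_left _)) (sub_ne_zero.2 hu)
      ⟨p, by rw [sub_pow_char_of_commute p (Commute.one_right _), one_pow, ← pow_mul, hall, sub_self]⟩
      (by omega) le_rfl
    omega

/-- For q odd and n ≥ 3 the simple groups PΩ(2n+1,q) and PSp(2n,q) (which have the same order but different sets of element orders) have the same prime graph: for all distinct primes r, s, one of them has an element of order r·s if and only if the other does. -/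
theorem result {F : Type*} [Field F] [Fintype F] (hodd : Odd (Fintype.card F)) (n : ℕ) (hn : 3 ≤ n) (r s : ℕ) (hr : r.Prime) (hs : s.Prime) (hrs : r ≠ s) :
    (r * s ∈ Set.range (orderOf : Cfsg.POmega F (Cfsg.quadFormOdd n F) → ℕ)) ↔ (r * s ∈ Set.range (orderOf : Cfsg.PSp n F → ℕ)) := by
  obtain ⟨p, hp⟩ := CharP.exists F
  haveI := Fact.mk (CharP.char_is_prime F p)
  have hp2 : p ≠ 2 := by
    rintro rfl
    obtain ⟨e, -, he⟩ := FiniteField.card F 2
    rw [he] at hodd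
    exact absurd hodd (Nat.not_odd_iff_even.2 (Even.pow_of_ne_zero even_two e.ne_zero))
  have h2 : (2 : F) ≠ 0 := fun h0 => hp2 ((Nat.prime_dvd_prime_iff_eq Fact.out Nat.prime_two).1
      ((CharP.cast_eq_zero_iff F p 2).1 (by exact_mod_cast h0)))
  have hcard := card_pOmega_eq_PSp (F := F) h2 hn
  by_cases hdiv : r ∣ Nat.card (Cfsg.PSp n F) ∧ s ∣ Nat.card (Cfsg.PSp n F)
  swap
  · refine iff_of_false (fun ⟨x, hx⟩ => hdiv ?_) (fun ⟨x, hx⟩ => hdiv ?_)
    · have h : r * s ∣ Nat.card (Cfsg.PSp n F) := hcard ▸ hx ▸ orderOf_dvd_natCard x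
      exact ⟨(dvd_mul_right r s).trans h, (dvd_mul_left s r).trans h⟩
    · have h : r * s ∣ Nat.card (Cfsg.PSp n F) := hx ▸ orderOf_dvd_natCard x
      exact ⟨(dvd_mul_right r s).trans h, (dvd_mul_left s r).trans h⟩
  obtain ⟨hrG, hsG⟩ := hdiv
  rcases eq_or_ne r 2 with rfl | hr2
  · rcases eq_or_ne s p with rfl | hsp
    · exact iff_of_true (two_char s h2 hp2 hn).1 (two_char s h2 hp2 hn).2
    · have h := two_odd p hodd h2 hn hs (Ne.symm hrs) hsp hsG
      exact h.1.trans h.2.symm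
  rcases eq_or_ne s 2 with rfl | hs2
  · rw [mul_comm]
    rcases eq_or_ne r p with rfl | hrp
    · exact iff_of_true (two_char r h2 hp2 hn).1 (two_char r h2 hp2 hn).2
    · have h := two_odd p hodd h2 hn hr hr2 hrp hrG
      exact h.1.trans h.2.symm
  rcases eq_or_ne r p with rfl | hrp
  · rw [mul_comm]
    exact odd_char r h2 hr2 hn hs hs2 (Ne.symm hrs) hsG
  rcases eq_or_ne s p with rfl | hsp
  · exact odd_char s h2 hs2 hn hr hr2 hrp hrG
  rcases le_total (etaQ F r) (etaQ F s) with hle | hle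
  · exact odd_odd p hodd h2 hn hr hs hr2 hs2 hrp hsp hrs hrG hsG hle
  · rw [mul_comm]
    exact odd_odd p hodd h2 hn hs hr hs2 hr2 hsp hrp (Ne.symm hrs) hsG hrG hle

end Cfsg.Agent.S2474
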