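import Cfsg.Statements.S1071
import Cfsg.Agent.Lib.Chev.Twist.Fam.D4

set_option autoImplicit false
open Cfsg

namespace Cfsg.Agent.S1071

open CfsgLib.Chev

/-- ³D₄(q) is simple for every `q`. -/
theorem result {K : Type*} [Field K] [Fintype K] {q : ℕ} (hq : IsPrimePow q) (hK : Fintype.card K = q ^ 3) :
    IsSimpleGroup ↥(Cfsg.Lie.twistedD4 K q) ∧ ¬ IsMulCommutative ↥(Cfsg.Lie.twistedD4 K q) := by
  obtain ⟨σ, hσ⟩ := exists_powHom hq (k := 3) (by norm_num) hK
  rw [D43.twisted_eq_fix hσ hK]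
  exact (D43.split hσ hK).simple (D43.marked hσ hK) D43.top (by decide) (D43.perfect hσ hK)

end Cfsg.Agent.S1071
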