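import Cfsg.Statements.S1996
import Mathlib
import Cfsg.Agent.Lib.Techniques.Invariance

set_option autoImplicit false
universe u
open Cfsg
open scoped Pointwise commutatorElement

namespace Cfsg.Agent.S1996

/-- Let p be a prime, G a finite group and W₁, W₂ two isomorphism-invariant p-group functors (W assigns to every group Q a subgroup W(Q), nontrivial whenever Q is a nontrivial finite p-group, and every isomorphism from a finite p-group Q onto a group R carries W(Q) onto W(R)). Suppose that G* = N_{G*}(W₁(S*)) N_{G*}(W₂(S*)) whenever G* = K/R is a section of G with C_{G*}(O_p(G*)) ≤ O_p(G*) and S* is a Sylow p-subgroup of G*. Then the pair {W₁, W₂} controls strong fusion in G. -/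
theorem result {G : Type u} [Group G] [Finite G] {p : ℕ} [Fact p.Prime] (W₁ W₂ : ∀ (Q : Type u) [Group Q], Subgroup Q) (hW₁ : Cfsg.IsCharPFunctor.{u} p W₁) (hW₂ : Cfsg.IsCharPFunctor.{u} p W₂) (hfac : ∀ (K R : Subgroup G) [hR : (R.subgroupOf K).Normal], Subgroup.centralizer ((Cfsg.pCore p (↥K ⧸ R.subgroupOf K) : Subgroup (↥K ⧸ R.subgroupOf K)) : Set (↥K ⧸ R.subgroupOf K)) ≤ Cfsg.pCore p (↥K ⧸ R.subgroupOf K) → ∀ T : Sylow p (↥K ⧸ R.subgroupOf K), ∀ x : (↥K ⧸ R.subgroupOf K), ∃ a ∈ Subgroup.normalizer ((Cfsg.inducedFunctor (G := (↥K ⧸ R.subgroupOf K)) W₁ (T : Subgroup (↥K ⧸ R.subgroupOf K)) : Subgroup (↥K ⧸ R.subgroupOf K)) : Set (↥K ⧸ R.subgroupOf K)), ∃ b ∈ Subgroup.normalizer ((Cfsg.inducedFunctor (G := (↥K ⧸ R.subgroupOf K)) W₂ (T : Subgroup (↥K ⧸ R.subgroupOf K)) : Subgroup (↥K ⧸ R.subgroupOf K)) : Set (↥K ⧸ R.subgroupOf K)), x = a * b) : Cfsg.FamilyControlsStrongFusionIn p {Cfsg.inducedFunctor (G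 := G) W₁, Cfsg.inducedFunctor (G := G) W₂} ⊤ := by
  have h𝓦 : ∀ V ∈ ({W₁, W₂} : Set (∀ (Q : Type u) [Group Q], Subgroup Q)), Cfsg.IsCharPFunctor.{u} p V := by
    intro V hV
    simp only [Set.mem_insert_iff, Set.mem_singleton_iff] at hV
    rcases hV with rfl | rfl
    · exact hW₁
    · exact hW₂
  have hsec : CfsgLib.Techniques.SectionsSatisfy G
      (fun X _ => CfsgLib.Techniques.Constrained p X →
        Cfsg.FamilyControlsStrongFusionIn p (CfsgLib.Techniques.indFam X {W₁, W₂}) ⊤) := by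
    refine CfsgLib.Techniques.sectionsSatisfy_of_quotients ?_ fun K R hR hc => ?_
    · intro Y Z _ _ _ _ e h hc
      exact CfsgLib.Techniques.familyFusion_congr h𝓦 e (h (CfsgLib.Techniques.constrained_congr e hc))
    obtain ⟨T⟩ := (inferInstance : Nonempty (Sylow p (↥K ⧸ R.subgroupOf K)))
    have hS := CfsgLib.Techniques.sylIn_top T
    refine CfsgLib.Techniques.controls_family (T := T) ?_
    intro A g hA hgA
    obtain ⟨a, ha, b, hb, rfl⟩ := hfac K R hc T g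
    have hV₁ := CfsgLib.Techniques.isConjugacyFunctor_induced (G := ↥K ⧸ R.subgroupOf K) hW₁
    have hV₂ := CfsgLib.Techniques.isConjugacyFunctor_induced (G := ↥K ⧸ R.subgroupOf K) hW₂
    set N₁ := Subgroup.normalizer ((Cfsg.inducedFunctor W₁ (T : Subgroup (↥K ⧸ R.subgroupOf K))) : Set (↥K ⧸ R.subgroupOf K))
    set N₂ := Subgroup.normalizer ((Cfsg.inducedFunctor W₂ (T : Subgroup (↥K ⧸ R.subgroupOf K))) : Set (↥K ⧸ R.subgroupOf K))
    have hT₁ : (T : Subgroup (↥K ⧸ R.subgroupOf K)) ≤ N₁ :=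
      CfsgLib.Techniques.le_normalizer_functor hV₁ hS.isPGroup
    have hT₂ : (T : Subgroup (↥K ⧸ R.subgroupOf K)) ≤ N₂ :=
      CfsgLib.Techniques.le_normalizer_functor hV₂ hS.isPGroup
    have hM : CfsgLib.Techniques.cj b (Subgroup.closure A) ≤ N₁ ⊓ N₂ := by
      rw [Subgroup.map_le_iff_le_comap, Subgroup.closure_le]
      intro x hx
      refine ⟨?_, N₂.mul_mem (N₂.mul_mem hb (hT₂ (hA hx))) (N₂.inv_mem hb)⟩
      have h1 : (a * b) * x * (a * b)⁻¹ ∈ N₁ := hT₁ (hgA ⟨x, hx, rfl⟩)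
      have := N₁.mul_mem (N₁.mul_mem (N₁.inv_mem ha) h1) ha
      simpa [mul_assoc] using this
    obtain ⟨k, hk, hkle⟩ := (hS.mono (le_inf hT₁ hT₂) le_top).exists_conj
      (CfsgLib.Techniques.isPGroup_cj (hS.isPGroup.to_le ((Subgroup.closure_le _).2 hA))) hM
    rw [← CfsgLib.Techniques.cj_mul] at hkle
    have h2 : CfsgLib.Techniques.lc (k * b) '' A ⊆ (T : Subgroup (↥K ⧸ R.subgroupOf K)) := by
      rintro _ ⟨x, hx, rfl⟩
      exact CfsgLib.Techniques.cj_le_iff.1 hkle x (Subgroup.subset_closure hx)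
    have hm₂ : (⊤ ⊓ N₂) ∈ CfsgLib.Techniques.stepSet (CfsgLib.Techniques.indFam (↥K ⧸ R.subgroupOf K) {W₁, W₂})
        (T : Subgroup (↥K ⧸ R.subgroupOf K)) ⊤ := ⟨_, ⟨W₂, Or.inr rfl, rfl⟩, rfl⟩
    have hm₁ : (⊤ ⊓ N₁) ∈ CfsgLib.Techniques.stepSet (CfsgLib.Techniques.indFam (↥K ⧸ R.subgroupOf K) {W₁, W₂})
        (T : Subgroup (↥K ⧸ R.subgroupOf K)) ⊤ := ⟨_, ⟨W₁, Or.inl rfl, rfl⟩, rfl⟩
    refine ((CfsgLib.Techniques.Link.single hm₂
      ⟨Subgroup.mem_top _, N₂.mul_mem hk.2 hb⟩ hA h2).comp (k := a * k⁻¹)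
      (CfsgLib.Techniques.Link.single hm₁
        ⟨Subgroup.mem_top _, N₁.mul_mem ha (N₁.inv_mem hk.1)⟩ h2 ?_)).congr fun x _ => by
          rw [show a * k⁻¹ * (k * b) = a * b by group]
    rintro _ ⟨_, ⟨x, hx, rfl⟩, rfl⟩
    rw [← CfsgLib.Techniques.lc_mul, show a * k⁻¹ * (k * b) = a * b by group]
    exact hgA ⟨x, hx, rfl⟩
  have hctl := CfsgLib.Techniques.familyFusion_of_sections h𝓦 G (hsec.imp fun Y _ _ h _ _ hc => h hc)
  rwa [CfsgLib.Techniques.indFam, Set.image_pair] at hctl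

end Cfsg.Agent.S1996
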