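import Cfsg.Statements.S3333
import Cfsg.Agent.Lib.CharsMore.NineTI.Main
import Cfsg.Agent.Lib.CharsMore.NineTI.Klein.Main
import Cfsg.Agent.Lib.CharsMore.SCThree.Main
import Cfsg.Agent.Lib.FgsC.AltOddAut

/-!
A strongly self-centralizing `3² : D₈` forces the symmetric group of degree six.

A minimal normal subgroup `T` is simple and contains `M`; the normaliser of `M` in it is `M : C₄`,
so it is `A₆`, and the reflection preserves the two classes of elements of order three.
-/

set_option autoImplicit false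
set_option linter.style.haveILetI false
open Cfsg

namespace Cfsg.Agent.S3333

open Subgroup CfsgLib.CharsMore.NineTI
open scoped commutatorElement

universe u

variable {G : Type u} [Group G] [Finite G] {M : Subgroup G} {e1 e2 r s : G}

theorem fix_aux : ∀ (i : Fin 4) (p : ZMod 3 × ZMod 3), p ≠ 0 →
    p = (fun q : ZMod 3 × ZMod 3 => (-q.2, q.1))^[(i : ℕ)] p → i = 0 := by decide

theorem refl_aux : ∀ p : ZMod 3 × ZMod 3, ∃ k : Fin 4,
    (fun q : ZMod 3 × ZMod 3 => (-q.2, q.1))^[(k : ℕ)] p = (-p.1, p.2) := by decide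

/-- An element of the normaliser is determined modulo `M` by its action. -/
theorem exists_form (H : Nine G M) (D : D8 M e1 e2 r s) {n : G}
    (hn : n ∈ normalizer (M : Set G)) :
    ∃ (i : Fin 4) (j : Fin 2), (r ^ (i : ℕ) * s ^ (j : ℕ))⁻¹ * n ∈ M := by
  have hmem : ∀ m ∈ M, n * m * n⁻¹ ∈ M := fun m hm => (mem_normalizer_iff.1 hn m).1 hm
  obtain ⟨a, ha⟩ := D8.coord_surjective H D (hmem _ D.he1)
  obtain ⟨b, hb⟩ := D8.coord_surjective H D (hmem _ D.he2)
  have hax : D8.axis a = true := by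
    have hc : IsConj (D8.coord e1 e2 (1, 0)) (D8.coord e1 e2 a) :=
      isConj_iff.2 ⟨n, by rw [D8.coord_one_zero H D]; exact ha.symm⟩
    exact (D8.isConj_axis_iff H D (p := (1, 0)) (by decide)).1 hc
  have hbx : D8.axis b = true := by
    have hc : IsConj (D8.coord e1 e2 (0, 1)) (D8.coord e1 e2 b) :=
      isConj_iff.2 ⟨n, by rw [D8.coord_zero_one H D]; exact hb.symm⟩
    exact (D8.isConj_axis_iff H D (p := (0, 1)) (by decide)).1 hc
  have hab : b ≠ a ∧ b ≠ -a := by
    constructor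
    · intro e
      have h : n * e2 * n⁻¹ = n * e1 * n⁻¹ := by rw [← ha, ← hb, e]
      exact D8.e1_ne_e2_pow H D 1 (by rw [pow_one]; simpa using h.symm)
    · intro e
      have h : n * e2 * n⁻¹ = n * e1⁻¹ * n⁻¹ := by
        rw [← hb, e, D8.coord_neg H D, ha]; group
      have h' : e2 = e1⁻¹ := by simpa using h
      exact D8.e1_ne_e2_pow H D 2 (by
        rw [h', inv_pow, eq_inv_iff_mul_eq_one, ← pow_succ', D8.e1_cube H D])
  let f : ℕ → ZMod 3 × ZMod 3 → ZMod 3 × ZMod 3 := fun i p => (fun q => (-q.2, q.1))^[i] p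
  let g : ℕ → ZMod 3 × ZMod 3 → ZMod 3 × ZMod 3 := fun j p => (fun q => (-q.1, q.2))^[j] p
  have hf : ∀ (i : ℕ) p, r ^ i * D8.coord e1 e2 p * (r ^ i)⁻¹ = D8.coord e1 e2 (f i p) := by
    intro i
    induction i with
    | zero => intro p; simp [f]
    | succ i ih =>
      intro p
      simp only [f, Function.iterate_succ_apply'] at ih ⊢
      rw [← D8.r_coord H D, ← ih, pow_succ']
      group
  have hg : ∀ (j : ℕ) p, s ^ j * D8.coord e1 e2 p * (s ^ j)⁻¹ = D8.coord e1 e2 (g j p) := by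
    intro j
    induction j with
    | zero => intro p; simp [g]
    | succ j ih =>
      intro p
      simp only [g, Function.iterate_succ_apply'] at ih ⊢
      rw [← D8.s_coord H D, ← ih, pow_succ']
      group
  obtain ⟨i, j, h1, h2⟩ := (show ∀ a b : ZMod 3 × ZMod 3, D8.axis a = true → D8.axis b = true →
      b ≠ a → b ≠ -a → ∃ (i : Fin 4) (j : Fin 2),
        (fun q : ZMod 3 × ZMod 3 => (-q.2, q.1))^[(i : ℕ)]
          ((fun q : ZMod 3 × ZMod 3 => (-q.1, q.2))^[(j : ℕ)] (1, 0)) = a ∧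
        (fun q : ZMod 3 × ZMod 3 => (-q.2, q.1))^[(i : ℕ)]
          ((fun q : ZMod 3 × ZMod 3 => (-q.1, q.2))^[(j : ℕ)] (0, 1)) = b by
    decide) a b hax hbx hab.1 hab.2
  refine ⟨i, j, H.mem_of_forall_commute fun m hm => ?_⟩
  set w := r ^ (i : ℕ) * s ^ (j : ℕ) with hw
  have he : ∀ p, w * D8.coord e1 e2 p * w⁻¹ = D8.coord e1 e2 (f i (g j p)) := fun p => by
    rw [← hf, ← hg, hw]; group
  have k1 : Commute (w⁻¹ * n) e1 := by
    have h : w * e1 * w⁻¹ = n * e1 * n⁻¹ := by
      rw [← ha, ← h1]; conv_lhs => rw [← D8.coord_one_zero H D, he]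
    show w⁻¹ * n * e1 = e1 * (w⁻¹ * n)
    calc w⁻¹ * n * e1 = w⁻¹ * (n * e1 * n⁻¹) * n := by group
      _ = e1 * (w⁻¹ * n) := by rw [← h]; group
  have k2 : Commute (w⁻¹ * n) e2 := by
    have h : w * e2 * w⁻¹ = n * e2 * n⁻¹ := by
      rw [← hb, ← h2]; conv_lhs => rw [← D8.coord_zero_one H D, he]
    show w⁻¹ * n * e2 = e2 * (w⁻¹ * n)
    calc w⁻¹ * n * e2 = w⁻¹ * (n * e2 * n⁻¹) * n := by group
      _ = e2 * (w⁻¹ * n) := by rw [← h]; group
  obtain ⟨p, rfl⟩ := D8.coord_surjective H D hm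
  exact ((k1.pow_right _).mul_right (k2.pow_right _)).symm

/-- The rotation acts irreducibly. -/
theorem le_of_mem (H : Nine G M) (D : D8 M e1 e2 r s) (U : Subgroup G)
    (hU : ∀ x ∈ U, r * x * r⁻¹ ∈ U) {x : G} (hx : x ∈ M) (hxU : x ∈ U) (hx1 : x ≠ 1) : M ≤ U := by
  intro m hm
  obtain ⟨p, rfl⟩ := D8.coord_surjective H D hx
  obtain ⟨q, rfl⟩ := D8.coord_surjective H D hm
  have hp : p ≠ 0 := fun e => hx1 (by rw [e, D8.coord_zero H D])
  have h1 : D8.coord e1 e2 (-p.2, p.1) ∈ U := D8.r_coord H D p ▸ hU _ hxU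
  have hadd : ∀ a b : ℕ, D8.coord e1 e2 (a • p + b • (-p.2, p.1)) ∈ U := by
    have hn : ∀ (a : ℕ) (v : ZMod 3 × ZMod 3), D8.coord e1 e2 v ∈ U →
        D8.coord e1 e2 (a • v) ∈ U := by
      intro a v hv
      induction a with
      | zero => rw [zero_smul, D8.coord_zero H D]; exact one_mem U
      | succ a ih => rw [succ_nsmul, D8.coord_add H D]; exact mul_mem ih hv
    intro a b
    rw [D8.coord_add H D]
    exact mul_mem (hn a _ hxU) (hn b _ h1)
  obtain ⟨a, b, e⟩ := (show ∀ p q : ZMod 3 × ZMod 3, p ≠ 0 →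
    ∃ a b : Fin 3, (a : ℕ) • p + (b : ℕ) • (-p.2, p.1) = q by decide) p q hp
  exact e ▸ hadd a b

/-- A normal subgroup of a simple situation: squares of the normaliser. -/
theorem recognition (H : Nine G M) (D : D8 M e1 e2 r s) (hnn : ¬ M.Normal)
    (T : Subgroup G) [hTn : T.Normal] (hMT : M ≤ T) (hTs : IsSimpleGroup T)
    (hD8 : r ∈ T → s ∈ T → False) : Nonempty (G ≃* Equiv.Perm (Fin 6)) := by
  classical
  haveI := Fact.mk Nat.prime_three
  set M' : Subgroup T := M.subgroupOf T with hM'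
  have H' : Nine T M' := Klein.nine_subgroupOf H hMT
  have hr2 : ∀ m ∈ M, r * m * r⁻¹ ∈ M := fun m hm => (mem_normalizer_iff.1 D.hr m).1 hm
  have hMnT : ¬ M'.Normal := by
    intro hn
    refine hnn ⟨fun x hx g => ?_⟩
    have hgT : g * x * g⁻¹ ∈ T := hTn.conj_mem x (hMT hx) g
    refine H.mem_of_cube ((Klein.mem_normalizer_subgroupOf hMT ⟨_, hgT⟩).1 ?_)
      (by rw [conj_pow, H.exp x hx]; group)
    rw [normalizer_eq_top_iff.2 hn]
    exact mem_top _
  haveI := Fintype.ofFinite T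
  -- representatives of the normaliser in `T`
  have hform : ∀ x : T, x ∈ normalizer (M' : Set T) →
      ∃ (i : Fin 4) (j : Fin 2), r ^ (i : ℕ) * s ^ (j : ℕ) ∈ T ∧
        (r ^ (i : ℕ) * s ^ (j : ℕ))⁻¹ * (x : G) ∈ M := by
    intro x hx
    obtain ⟨i, j, h⟩ := exists_form H D ((Klein.mem_normalizer_subgroupOf hMT x).1 hx)
    refine ⟨i, j, ?_, h⟩
    simpa [mul_assoc] using T.mul_mem x.2 (T.inv_mem (hMT h))
  have hr4 : r ^ 4 = 1 := by
    rw [show (4 : ℕ) = 2 + 2 from rfl, pow_add, pow_two]; exact D.r4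
  have hs2 : s ^ 2 = 1 := by rw [pow_two]; exact D.s2
  have hrs : ∀ i : ℕ, r ^ i * s * (r ^ i * s) = 1 := fun i => by
    calc r ^ i * s * (r ^ i * s) = r ^ i * (s * r ^ i * s⁻¹) * (s * s) := by group
      _ = 1 := by rw [← conj_pow, D.rel, D.s2, mul_one, inv_pow, mul_inv_cancel]
  have hrT : r ∈ T := by
    by_contra hrT
    refine (Klein.false_of_isSimpleGroup (G := T) (M := M') H' fun x hx => ?_).elim
    obtain ⟨i, j, hij, hm⟩ := hform x hx
    set y := r ^ (i : ℕ) * s ^ (j : ℕ) with hy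
    have hy2 : y * y = 1 := by
      fin_cases j
      · fin_cases i
        · simp [hy]
        · exact absurd (by simpa [hy] using hij) hrT
        · simp only [hy, pow_zero, mul_one]
          rw [← pow_add]; exact hr4
        · exact absurd (by
            have h3 : r ^ 3 ∈ T := by simpa [hy] using hij
            have h9 := pow_mem h3 3
            rwa [← pow_mul, show 3 * 3 = 4 * 2 + 1 from rfl, pow_add, pow_mul, hr4, one_pow,
              one_mul, pow_one] at h9) hrT
      · simp only [hy, pow_one]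
        exact hrs _
    have hyN : y ∈ normalizer (M : Set G) := mul_mem (pow_mem D.hr _) (pow_mem D.hs _)
    have hc : y⁻¹ * (y⁻¹ * (x : G)) * y ∈ M := by
      simpa using (mem_normalizer_iff.1 (inv_mem hyN) _).1 hm
    rw [hM', mem_subgroupOf, Subgroup.coe_mul]
    rw [show (x : G) * x = (y * y) * (y⁻¹ * (y⁻¹ * (x : G)) * y) * (y⁻¹ * (x : G)) by group, hy2,
      one_mul]
    exact mul_mem hc hm
  have hsT : s ∉ T := hD8 hrT
  have hj : ∀ (i : Fin 4) (j : Fin 2), r ^ (i : ℕ) * s ^ (j : ℕ) ∈ T → j = 0 := by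
    intro i j h
    fin_cases j
    · rfl
    · refine absurd ?_ hsT
      have := T.mul_mem (T.inv_mem (T.pow_mem hrT i)) h
      simpa using this
  -- `T` is the alternating group of degree six
  have hcent : ∀ a ∈ M', a ≠ 1 → centralizer ({a} : Set T) = M' := by
    intro a ha ha1
    refine le_antisymm (fun x hx => ?_)
      (fun x hx => mem_centralizer_singleton_iff.2 (H'.commute hx ha).eq)
    obtain ⟨i, j, hij, hm⟩ := hform x (H'.loc a ha ha1 hx)
    obtain rfl := hj i j hij
    obtain ⟨p, hp⟩ := D8.coord_surjective H D (show (a : G) ∈ M from ha)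
    have hp0 : p ≠ 0 := fun e => ha1 (Subtype.ext (by rw [← hp, e, D8.coord_zero H D]; rfl))
    have hcx : Commute (x : G) (a : G) := congrArg Subtype.val (mem_centralizer_singleton_iff.1 hx)
    simp only [Fin.val_zero, pow_zero, mul_one] at hm
    have hcr : Commute (r ^ (i : ℕ)) (a : G) := by
      have h2 : Commute ((r ^ (i : ℕ))⁻¹ * (x : G)) (a : G) := H.commute hm ha
      have h3 := hcx.mul_left h2.inv_left
      rwa [mul_inv_rev, inv_inv, mul_inv_cancel_left] at h3
    have hfix : ∀ (k : ℕ) q, r ^ k * D8.coord e1 e2 q * (r ^ k)⁻¹ =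
        D8.coord e1 e2 ((fun q : ZMod 3 × ZMod 3 => (-q.2, q.1))^[k] q) := by
      intro k
      induction k with
      | zero => intro q; simp
      | succ k ih =>
        intro q
        rw [Function.iterate_succ_apply', ← D8.r_coord H D, ← ih, pow_succ']
        group
    have he := hfix i p
    rw [hp, hcr.eq, mul_inv_cancel_right, ← hp] at he
    have := fix_aux i p hp0 (D8.coord_injective H D he)
    subst this
    rw [hM', mem_subgroupOf]
    simpa using hm
  have he1 : (⟨e1, hMT D.he1⟩ : T) ∈ M' := D.he1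
  have hd : (⟨e1 * e2, hMT (D8.mul_mem_d H D)⟩ : T) ∈ M' := D8.mul_mem_d H D
  obtain ⟨f⟩ := CfsgLib.CharsMore.SCThree.recognition (G := T) (S := M')
    ⟨H'.card, H'.exp, hcent, H'.sylow⟩
    ⟨_, _, H'.orderOf_eq he1 (fun e => D.ne1 (congrArg Subtype.val e)),
      H'.orderOf_eq hd (fun e => D8.d_ne_one H D (congrArg Subtype.val e)),
      fun g hg => D8.not_isConj_e1_d H D (isConj_iff.2 ⟨g, congrArg Subtype.val hg⟩)⟩
  -- nothing centralises `T`
  have hTna : ∀ x : T, (∀ y : T, y * x = x * y) → x = 1 := by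
    intro x hx
    rcases hTs.eq_bot_or_eq_top_of_normal (center T) inferInstance with h | h
    · exact mem_bot.1 (h ▸ mem_center_iff.2 hx)
    · refine absurd ⟨fun m hm g => ?_⟩ hMnT
      have hg : m ∈ center T := h ▸ mem_top m
      rwa [mem_center_iff.1 hg g, mul_inv_cancel_right]
  have hCbot : centralizer (T : Set G) = ⊥ := by
    refine Klein.eq_bot_of_coprime H _ fun h3 => ?_
    obtain ⟨⟨x, hx⟩, hxo⟩ := exists_prime_orderOf_dvd_card' (G := centralizer (T : Set G)) 3 h3
    rw [Subgroup.orderOf_mk] at hxo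
    obtain ⟨g, hg⟩ := H.exists_conj_mem (x := x) (hxo ▸ pow_orderOf_eq_one x)
    have hgx : g * x * g⁻¹ ∈ centralizer (T : Set G) :=
      (inferInstance : (centralizer (T : Set G)).Normal).conj_mem x hx g
    have h1 := hTna ⟨_, hMT hg⟩ fun y => Subtype.ext (mem_centralizer_iff.1 hgx y y.2)
    have h2 : x = 1 := by simpa using congrArg Subtype.val h1
    rw [h2, orderOf_one] at hxo
    norm_num at hxo
  -- the reflection preserves the classes
  let α : MulAut T := MulAut.conjNormal s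
  have hα : ∀ x : T, x ^ 3 = 1 → ∃ t : T, α x = t * x * t⁻¹ := by
    intro x hx
    obtain ⟨g, hg⟩ := H'.exists_conj_mem (x := x) hx
    obtain ⟨p, hp⟩ := D8.coord_surjective H D (show ((g * x * g⁻¹ : T) : G) ∈ M from hg)
    have hfix : ∀ (k : ℕ) q, r ^ k * D8.coord e1 e2 q * (r ^ k)⁻¹ =
        D8.coord e1 e2 ((fun q : ZMod 3 × ZMod 3 => (-q.2, q.1))^[k] q) := by
      intro k
      induction k with
      | zero => intro q; simp
      | succ k ih =>
        intro q
        rw [Function.iterate_succ_apply', ← D8.r_coord H D, ← ih, pow_succ']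
        group
    obtain ⟨k, hk⟩ := refl_aux p
    let R : T := ⟨r ^ (k : ℕ), T.pow_mem hrT k⟩
    have e : α (g * x * g⁻¹) = R * (g * x * g⁻¹) * R⁻¹ := Subtype.ext (by
      show s * ((g * x * g⁻¹ : T) : G) * s⁻¹ = r ^ (k : ℕ) * ((g * x * g⁻¹ : T) : G) * (r ^ (k : ℕ))⁻¹
      rw [← hp, D8.s_coord H D, hfix, hk])
    refine ⟨(α g)⁻¹ * R * g, ?_⟩
    rw [map_mul, map_mul, map_inv] at e
    calc α x = (α g)⁻¹ * (α g * α x * (α g)⁻¹) * α g := by group
      _ = _ := by rw [e]; group
  let ψ : MulAut (alternatingGroup (Fin 6)) := (f.symm.trans α).trans f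
  obtain ⟨σ, hσ⟩ := CfsgLib.FgsC.AltOddAut.exists_conj_of_threeCycles (Ω := Fin 6) (by simp) ψ
    fun g hg => by
      have h3 : g ^ 3 = 1 := Subtype.ext (by
        rw [Subgroup.coe_pow, ← hg.orderOf, pow_orderOf_eq_one]; rfl)
      obtain ⟨t, ht⟩ := hα (f.symm g) (by rw [← map_pow, h3, map_one])
      have hψ : ψ g = f t * g * (f t)⁻¹ := by
        show f (α (f.symm g)) = _
        rw [ht, map_mul, map_mul, map_inv, MulEquiv.apply_symm_apply]
      rw [hψ, Equiv.Perm.IsThreeCycle, Subgroup.coe_mul, Subgroup.coe_mul, Subgroup.coe_inv,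
        Equiv.Perm.cycleType_conj]
      exact hg
  -- the representation of degree six
  let Ad : G →* MulAut (alternatingGroup (Fin 6)) :=
    MonoidHom.mk' (fun g => (f.symm.trans (MulAut.conjNormal g)).trans f) fun a b =>
      MulEquiv.ext fun x => by simp [map_mul]
  have hAd : Function.Injective Ad := by
    rw [injective_iff_map_eq_one]
    intro g hg
    have h : g ∈ centralizer (T : Set G) := by
      rw [mem_centralizer_iff]
      intro t ht
      have h1 : f (MulAut.conjNormal g (f.symm (f ⟨t, ht⟩))) = f ⟨t, ht⟩ :=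
        DFunLike.congr_fun hg (f ⟨t, ht⟩)
      rw [MulEquiv.symm_apply_apply] at h1
      have h2 := congrArg Subtype.val (f.injective h1)
      rw [MulAut.conjNormal_apply] at h2
      exact (mul_inv_eq_iff_eq_mul.1 h2).symm
    rwa [hCbot, mem_bot] at h
  let C : Equiv.Perm (Fin 6) →* MulAut (alternatingGroup (Fin 6)) := MulAut.conjNormal
  have hC : Function.Injective C := CfsgLib.KnownA.conjNormal_injective (by simp)
  have hrange : ∀ g, Ad g ∈ C.range := by
    have hgen : ∀ g : G, g ∈ T ∨ s * g ∈ T := by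
      intro g
      obtain ⟨t, ht, n, hn, rfl⟩ : ∃ t ∈ T, ∃ n ∈ normalizer (M : Set G), t * n = g := by
        obtain ⟨P, hP⟩ := H.sylow
        have htop := Sylow.normalizer_sup_eq_top (N := T) (P.subtype (hP ▸ hMT))
        have hmap : ((P.subtype (hP ▸ hMT) : Sylow 3 T) : Subgroup T).map T.subtype = M := by
          rw [Sylow.coe_subtype, subgroupOf_map_subtype, ← hP, inf_eq_left.2 hMT]
        rw [hmap, sup_comm] at htop
        exact Subgroup.mem_sup_of_normal_left.1 (htop ▸ mem_top g)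
      obtain ⟨i, j, h⟩ := exists_form H D hn
      have hn' : r ^ (i : ℕ) * s ^ (j : ℕ) * ((r ^ (i : ℕ) * s ^ (j : ℕ))⁻¹ * n) = n :=
        mul_inv_cancel_left _ _
      rw [← hn']
      fin_cases j
      · left
        simpa using T.mul_mem ht (T.mul_mem (T.pow_mem hrT i) (hMT h))
      · right
        simp only [pow_one] at h ⊢
        rw [show s * (t * (r ^ (i : ℕ) * s * ((r ^ (i : ℕ) * s)⁻¹ * n))) =
          (s * (t * r ^ (i : ℕ)) * s⁻¹) * ((s * s) * ((r ^ (i : ℕ) * s)⁻¹ * n)) by group, D.s2,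
          one_mul]
        exact T.mul_mem (hTn.conj_mem _ (T.mul_mem ht (T.pow_mem hrT i)) s) (hMT h)
    have hT : ∀ t ∈ T, Ad t ∈ C.range := fun t ht => ⟨(f ⟨t, ht⟩ : Equiv.Perm (Fin 6)),
      MulEquiv.ext fun x => Subtype.ext (by
        show (MulAut.conjNormal (f ⟨t, ht⟩ : Equiv.Perm (Fin 6)) x : Equiv.Perm (Fin 6)) =
          (f (MulAut.conjNormal t (f.symm x)) : Equiv.Perm (Fin 6))
        rw [MulAut.conjNormal_apply,
          show MulAut.conjNormal t (f.symm x) = (⟨t, ht⟩ : T) * f.symm x * (⟨t, ht⟩ : T)⁻¹ from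
            Subtype.ext (MulAut.conjNormal_apply t _),
          map_mul, map_mul, map_inv, MulEquiv.apply_symm_apply, Subgroup.coe_mul, Subgroup.coe_mul,
          Subgroup.coe_inv])⟩
    intro g
    rcases hgen g with h | h
    · exact hT g h
    · rw [show g = s⁻¹ * (s * g) by group, map_mul, map_inv]
      exact mul_mem (inv_mem ⟨σ, hσ⟩) (hT _ h)
  let e := MonoidHom.ofInjective hC
  let Φ : G →* Equiv.Perm (Fin 6) := e.symm.toMonoidHom.comp (Ad.codRestrict C.range hrange)
  have hΦ : Function.Injective Φ := e.symm.injective.comp fun a b h =>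
    hAd (congrArg Subtype.val h)
  refine ⟨MulEquiv.ofBijective Φ (Function.Injective.bijective_of_nat_card_le hΦ ?_)⟩
  have hcard : Nat.card T = 360 := by
    rw [Nat.card_congr f.toEquiv, nat_card_alternatingGroup, Nat.card_fin]; rfl
  have hidx : 2 ≤ T.index := by
    rcases Nat.lt_or_ge T.index 2 with h | h
    · interval_cases hi : T.index
      · exact absurd hi index_ne_zero_of_finite
      · exact absurd ((index_eq_one.1 hi).symm ▸ mem_top s : s ∈ T) hsT
    · exact h
  rw [Nat.card_perm, Nat.card_fin, show (6 : ℕ).factorial = 360 * 2 from rfl,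
    ← T.card_mul_index, hcard]
  exact Nat.mul_le_mul_left _ hidx

/-- A Sylow two-subgroup of the normaliser is dihedral. -/
theorem sylow_two_dihedral {K : Type u} [Group K] [Finite K] {N : Subgroup K} {A : Subgroup K}
    (hA : ∀ a ∈ A, a ^ 3 = 1) (q : N →* DihedralGroup 4) (hq : ∀ n, q n = 1 → (n : K) ∈ A)
    (hN : Nat.card N = 72) (Q : Sylow 2 N) : Nonempty (↥(Q : Subgroup N) ≃* DihedralGroup 4) := by
  haveI := Fact.mk Nat.prime_two
  let φ := q.comp (Q : Subgroup N).subtype
  have hφ : Function.Injective φ := by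
    rw [injective_iff_map_eq_one]
    intro x hx
    have h3 : (x : N) ^ 3 = 1 := Subtype.ext (hA _ (hq x hx))
    obtain ⟨k, hk⟩ := IsPGroup.iff_orderOf.1 Q.2 x
    have h1 : orderOf x ∣ 3 := by
      rw [← Subgroup.orderOf_coe]; exact orderOf_dvd_of_pow_eq_one h3
    rw [hk] at h1
    have h := Nat.eq_one_of_dvd_coprimes (Nat.Coprime.pow_left k (by norm_num : Nat.Coprime 2 3))
      dvd_rfl h1
    exact orderOf_eq_one_iff.1 (hk.trans h)
  refine ⟨MulEquiv.ofBijective φ ((Nat.bijective_iff_injective_and_card φ).2 ⟨hφ, ?_⟩)⟩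
  rw [DihedralGroup.nat_card, Q.card_eq_multiplicity, hN, Nat.factorization_def _ Nat.prime_two,
    show (72 : ℕ) = 2 ^ 3 * 9 by norm_num, padicValNat.mul (by norm_num) (by norm_num),
    padicValNat.prime_pow, padicValNat.eq_zero_of_not_dvd (by norm_num : ¬ 2 ∣ 9)]
  norm_num

theorem result {G : Type*} [Group G] [Finite G]
    (P : Sylow 3 G) (S : Subgroup G) (hSP : S = P) (hcard : Nat.card S = 9)
    (hC : Subgroup.centralizer (S : Set G) = S)
    (eN : Subgroup.normalizer (S : Set G) ⧸ S.subgroupOf (Subgroup.normalizer (S : Set G)) ≃* DihedralGroup 4)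
    (hcent : ∀ x ∈ S, x ≠ 1 → Subgroup.centralizer ({x} : Set G) ≤ Subgroup.normalizer (S : Set G)) :
    S.Normal ∨ Nonempty (G ≃* Equiv.Perm (Fin 6)) := by
  classical
  haveI := Fact.mk Nat.prime_three
  refine or_iff_not_imp_left.2 fun hnn => ?_
  set N := normalizer (S : Set G) with hN
  have hab : ∀ a ∈ S, ∀ b ∈ S, a * b = b * a := fun a ha b hb => by
    have := (mem_centralizer_iff.1 (hC.symm ▸ ha : a ∈ centralizer (S : Set G)) b hb)
    exact this.symm
  -- `S` is elementary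
  have hexp : ∀ a ∈ S, a ^ 3 = 1 := by
    intro a ha
    have hd : orderOf a ∣ 3 ^ 2 := by
      have h := orderOf_dvd_natCard (⟨a, ha⟩ : S)
      rwa [Subgroup.orderOf_mk, hcard] at h
    obtain ⟨k, hk, hk'⟩ := (Nat.dvd_prime_pow Nat.prime_three).1 hd
    rcases Nat.lt_or_ge k 2 with h | h
    · exact orderOf_dvd_iff_pow_eq_one.1 (hk' ▸ (pow_dvd_pow 3 (by omega : k ≤ 1)))
    exfalso
    obtain rfl : k = 2 := by omega
    have hgen : zpowers a = S := eq_of_le_of_card_ge (zpowers_le.2 ha) (by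
      rw [Nat.card_zpowers, hk', hcard]; norm_num)
    have key : ∀ n n' : N, (QuotientGroup.mk (n * n') : N ⧸ S.subgroupOf N) =
        QuotientGroup.mk (n' * n) := by
      intro n n'
      obtain ⟨i, hi⟩ := mem_zpowers_iff.1 (hgen.symm ▸ (mem_normalizer_iff.1 n.2 a).1 ha)
      obtain ⟨j, hj⟩ := mem_zpowers_iff.1 (hgen.symm ▸ (mem_normalizer_iff.1 n'.2 a).1 ha)
      have e : ((n : G) * n') * a * ((n : G) * n')⁻¹ = ((n' : G) * n) * a * ((n' : G) * n)⁻¹ := by
        calc ((n : G) * n') * a * ((n : G) * n')⁻¹ = (n : G) * ((n' : G) * a * (n' : G)⁻¹) * (n : G)⁻¹ := by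
              group
          _ = (a ^ i) ^ j := by rw [← hj, ← conj_zpow, ← hi]
          _ = (n' : G) * ((n : G) * a * (n : G)⁻¹) * (n' : G)⁻¹ := by
            rw [← hi, ← conj_zpow, ← hj, ← zpow_mul, ← zpow_mul, mul_comm]
          _ = _ := by group
      rw [QuotientGroup.eq, mem_subgroupOf]
      refine hC.le (mem_centralizer_iff.2 fun x hx => ?_)
      obtain ⟨l, rfl⟩ := mem_zpowers_iff.1 (hgen.symm ▸ hx)
      refine (Commute.zpow_left ?_ l).eq
      show a * (((n : G) * n')⁻¹ * ((n' : G) * n)) = ((n : G) * n')⁻¹ * ((n' : G) * n) * a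
      calc a * (((n : G) * n')⁻¹ * ((n' : G) * n))
          = ((n : G) * n')⁻¹ * (((n : G) * n') * a * ((n : G) * n')⁻¹) * ((n' : G) * n) := by group
        _ = _ := by rw [e]; group
    obtain ⟨x, hx⟩ := QuotientGroup.mk_surjective (eN.symm (DihedralGroup.r 1))
    obtain ⟨y, hy⟩ := QuotientGroup.mk_surjective (eN.symm (DihedralGroup.sr 0))
    have h := congrArg eN (key x y)
    rw [QuotientGroup.mk_mul, QuotientGroup.mk_mul, map_mul, map_mul, hx, hy,
      MulEquiv.apply_symm_apply, MulEquiv.apply_symm_apply] at h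
    exact absurd h (by decide)
  have H : Nine G S := ⟨hcard, hexp, hC, hcent, P, hSP⟩
  have hN72 : Nat.card N = 72 := by
    rw [← (S.subgroupOf N).card_mul_index, Nat.card_congr (subgroupOfEquivOfLe le_normalizer).toEquiv,
      hcard, Subgroup.index, Nat.card_congr eN.toEquiv, DihedralGroup.nat_card]
  let q : N →* DihedralGroup 4 := eN.toMonoidHom.comp (QuotientGroup.mk' (S.subgroupOf N))
  have hq : ∀ n, q n = 1 → (n : G) ∈ S := fun n hn => by
    have : QuotientGroup.mk' (S.subgroupOf N) n = 1 := eN.injective (hn.trans (map_one _).symm)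
    rwa [QuotientGroup.mk'_apply, QuotientGroup.eq_one_iff] at this
  obtain ⟨e1, e2, r, s, D⟩ := exists_D8 H N hN (sylow_two_dihedral hexp q hq hN72)
  -- a minimal normal subgroup
  haveI : Nontrivial G := by
    by_contra h
    rw [not_nontrivial_iff_subsingleton] at h
    exact hnn ⟨fun x hx g => by rwa [Subsingleton.elim (g * x * g⁻¹) x]⟩
  haveI : Nonempty {T : Subgroup G // T.Normal ∧ T ≠ ⊥} := ⟨⟨⊤, inferInstance, top_ne_bot⟩⟩
  obtain ⟨⟨T, hTn, hTb⟩, hTmin⟩ :=
    Finite.exists_min fun T : {T : Subgroup G // T.Normal ∧ T ≠ ⊥} => Nat.card T.1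
  haveI := hTn
  have hmeet : ∀ (U : Subgroup G), U.Normal → U ≠ ⊥ → ∃ x ∈ S, x ∈ U ∧ x ≠ 1 := by
    intro U hU hUb
    haveI := hU
    have h3 : 3 ∣ Nat.card U := by_contra fun h => hUb (Klein.eq_bot_of_coprime H U h)
    obtain ⟨⟨x, hx⟩, hxo⟩ := exists_prime_orderOf_dvd_card' (G := U) 3 h3
    rw [Subgroup.orderOf_mk] at hxo
    obtain ⟨g, hg⟩ := H.exists_conj_mem (x := x) (hxo ▸ pow_orderOf_eq_one x)
    refine ⟨_, hg, hU.conj_mem x hx g, fun e => ?_⟩
    have h2 : x = 1 := by simpa using e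
    rw [h2, orderOf_one] at hxo
    norm_num at hxo
  obtain ⟨x, hxS, hxT, hx1⟩ := hmeet T hTn hTb
  have hST : S ≤ T := le_of_mem H D T (fun y hy => hTn.conj_mem y hy r) hxS hxT hx1
  set S' : Subgroup T := S.subgroupOf T with hS'
  have H' : Nine T S' := Klein.nine_subgroupOf H hST
  have hS'n : ¬ S'.Normal := by
    intro hn
    refine hnn ⟨fun y hy g => ?_⟩
    have hgT : g * y * g⁻¹ ∈ T := hTn.conj_mem y (hST hy) g
    refine H.mem_of_cube ((Klein.mem_normalizer_subgroupOf hST ⟨_, hgT⟩).1 ?_)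
      (by rw [conj_pow, H.exp y hy]; group)
    rw [normalizer_eq_top_iff.2 hn]
    exact mem_top _
  haveI : Nontrivial T := (Subgroup.nontrivial_iff_ne_bot T).2 hTb
  -- it is simple
  have hTs : IsSimpleGroup T := by
    refine ⟨fun U hU => ?_⟩
    by_cases hUb : U = ⊥
    · exact Or.inl hUb
    right
    haveI : Nonempty {K : Subgroup T // K.Normal ∧ K ≠ ⊥ ∧ K ≤ U} := ⟨⟨U, hU, hUb, le_rfl⟩⟩
    obtain ⟨⟨K, hK, hKb, hKU⟩, hKmin⟩ :=
      Finite.exists_min fun K : {K : Subgroup T // K.Normal ∧ K ≠ ⊥ ∧ K ≤ U} => Nat.card K.1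
    haveI := hK
    have hmin : ∀ L : Subgroup T, L.Normal → L ≤ K → L = ⊥ ∨ L = K := fun L hL hLK => by
      rw [or_iff_not_imp_left]
      intro hLb
      exact eq_of_le_of_card_ge hLK (hKmin ⟨L, hL, hLb, hLK.trans hKU⟩)
    have h3 : 3 ∣ Nat.card K := by_contra fun h => hKb (Klein.eq_bot_of_coprime H' K h)
    obtain ⟨⟨y, hy⟩, hyo⟩ := exists_prime_orderOf_dvd_card' (G := K) 3 h3
    rw [Subgroup.orderOf_mk] at hyo
    obtain ⟨t, ht⟩ := H'.exists_conj_mem (x := y) (hyo ▸ pow_orderOf_eq_one y)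
    have hy' : t * y * t⁻¹ ∈ K := hK.conj_mem y hy t
    have hy1 : t * y * t⁻¹ ≠ 1 := fun e => by
      have h2 : y = 1 := by simpa using e
      rw [h2, orderOf_one] at hyo
      norm_num at hyo
    have hinv : ∀ g : G, K.map (MulAut.conjNormal g : MulAut T).toMonoidHom = K := by
      intro g
      set L := K.map (MulAut.conjNormal g : MulAut T).toMonoidHom with hL
      haveI hLn : L.Normal := hK.map _ (MulEquiv.surjective _)
      rcases hmin (L ⊓ K) inferInstance inf_le_right with h | h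
      · exfalso
        refine hS'n ?_
        have hLb : L ≠ ⊥ := fun e => hKb ((map_eq_bot_iff_of_injective K (MulEquiv.injective _)).1 e)
        have hle : L ≤ normalizer (S' : Set T) := fun l hl => H'.loc _ ht hy1
          (mem_centralizer_singleton_iff.2
            (commute_of_normal_of_disjoint L K hLn hK (disjoint_iff.2 h) l _ hl hy').eq)
        exact normalizer_eq_top_iff.1 (Klein.eq_top_of_le H' L hLb hle)
      · refine (eq_of_le_of_card_ge (h ▸ inf_le_left : K ≤ L) ?_).symm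
        rw [hL, Subgroup.card_map_of_injective (MulEquiv.injective _)]
    have hKn : (K.map T.subtype).Normal := ⟨by
      rintro _ ⟨k, hk, rfl⟩ g
      refine ⟨MulAut.conjNormal g k, ?_, MulAut.conjNormal_apply g k⟩
      rw [SetLike.mem_coe, ← hinv g]
      exact mem_map_of_mem _ hk⟩
    have hKtop : K = ⊤ := by
      refine eq_top_of_le_card K ?_
      rw [← Subgroup.card_map_of_injective (f := T.subtype) T.subtype_injective]
      exact hTmin ⟨K.map T.subtype, hKn, fun e =>
        hKb ((map_eq_bot_iff_of_injective K T.subtype_injective).1 e)⟩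
    exact top_le_iff.1 (hKtop ▸ hKU)
  refine recognition H D hnn T hST hTs fun hrT hsT => ?_
  -- the whole normaliser would lie in `T`
  have hNT : N ≤ T := by
    intro n hn
    obtain ⟨i, j, h⟩ := exists_form H D hn
    rw [show n = r ^ (i : ℕ) * s ^ (j : ℕ) * ((r ^ (i : ℕ) * s ^ (j : ℕ))⁻¹ * n) by group]
    exact mul_mem (mul_mem (pow_mem hrT _) (pow_mem hsT _)) (hST h)
  obtain ⟨P', hP'⟩ := H'.sylow
  set N' := normalizer (S' : Set T) with hN'
  let ι : N' →* N := MonoidHom.mk'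
    (fun x => ⟨((x : T) : G), (Klein.mem_normalizer_subgroupOf hST (x : T)).1 x.2⟩) fun a b => rfl
  have hι : Function.Bijective ι := by
    constructor
    · exact fun a b h => Subtype.ext (Subtype.ext (congrArg (fun z : N => (z : G)) h))
    · exact fun n => ⟨⟨⟨n, hNT n.2⟩, (Klein.mem_normalizer_subgroupOf hST _).2 n.2⟩, rfl⟩
  refine not_isSimple_of_D8 P' (hP' ▸ H'.card) (hP' ▸ H'.exp) (hP' ▸ H'.cent) N'
    (by rw [hN', ← hP']) (fun g hg hg1 => H'.loc g (hP' ▸ hg) hg1)
    (sylow_two_dihedral (A := S') H'.exp (q.comp ι)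
      (fun n hn => mem_subgroupOf.2 (hq (ι n) hn))
      (by rw [Nat.card_eq_of_bijective ι hι, hN72])) hTs

end Cfsg.Agent.S3333
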