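import Cfsg.Statements.S3701
import Mathlib
import Cfsg.Agent.Lib.ThreeLocalChars.CubeByFour

set_option autoImplicit false
set_option linter.style.haveILetI false
open Cfsg

namespace Cfsg.Agent.S3701

open CfsgLib.ThreeLocalChars

/-- The three `3`-cycles. -/
def cyc : Fin 3 → Equiv.Perm (Fin 9) :=
  ![Equiv.swap 0 1 * Equiv.swap 1 2, Equiv.swap 3 4 * Equiv.swap 4 5,
    Equiv.swap 6 7 * Equiv.swap 7 8]

/-- The three involutions, `inv i` centralizing `cyc i`. -/
def inv3 : Fin 3 → Equiv.Perm (Fin 9) :=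
  ![Equiv.swap 0 1 * Equiv.swap 6 7 * (Equiv.swap 0 1 * Equiv.swap 3 4),
    Equiv.swap 0 1 * Equiv.swap 6 7, Equiv.swap 0 1 * Equiv.swap 3 4]

/-- The model of `3³`. -/
def cube (v : Vec3) : Equiv.Perm (Fin 9) :=
  cyc 0 ^ (v 0).val * cyc 1 ^ (v 1).val * cyc 2 ^ (v 2).val

theorem cyc_comm (i j : Fin 3) : Commute (cyc i) (cyc j) := by
  show cyc i * cyc j = cyc j * cyc i
  revert i j; decide

theorem cyc_three (i : Fin 3) : cyc i ^ 3 = 1 := by revert i; decide

theorem cyc_pow_add (i : Fin 3) (a b : ZMod 3) :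
    cyc i ^ (a + b).val = cyc i ^ a.val * cyc i ^ b.val := by
  rw [← pow_add, ZMod.val_add]
  exact (pow_eq_pow_mod _ (cyc_three i)).symm

theorem cube_add (v w : Vec3) : cube (v + w) = cube v * cube w := by
  simp only [cube, Pi.add_apply, cyc_pow_add]
  have h10 := (cyc_comm 1 0).pow_pow (v 1).val (w 0).val
  have h20 := (cyc_comm 2 0).pow_pow (v 2).val (w 0).val
  have h21 := (cyc_comm 2 1).pow_pow (v 2).val (w 1).val
  generalize cyc 0 ^ (v 0).val = a, cyc 0 ^ (w 0).val = a', cyc 1 ^ (v 1).val = b,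
    cyc 1 ^ (w 1).val = b', cyc 2 ^ (v 2).val = c, cyc 2 ^ (w 2).val = c' at *
  calc a * a' * (b * b') * (c * c') = a * ((a' * b) * (b' * c)) * c' := by group
    _ = a * ((b * a') * (c * b')) * c' := by rw [h10.eq, h21.eq]
    _ = a * b * ((a' * c) * b') * c' := by group
    _ = a * b * ((c * a') * b') * c' := by rw [h20.eq]
    _ = a * b * c * (a' * b' * c') := by group

theorem inv3_sq (i : Fin 3) : inv3 i * inv3 i = 1 := by revert i; decide

theorem inv3_mul : ∀ i j : Fin 3, i ≠ j → inv3 i * inv3 j = inv3 (thirdIdx i j) := by decide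

theorem inv3_cyc : ∀ i j : Fin 3,
    inv3 i * cyc j * inv3 i = if i = j then cyc j else cyc j ^ 2 := by decide

theorem inv3_cube (i : Fin 3) (v : Vec3) : inv3 i * cube v * inv3 i = cube (flipOff i v) := by
  have key : ∀ (j : Fin 3) (a : ZMod 3), inv3 i * cyc j ^ a.val * inv3 i =
      cyc j ^ (if i = j then a else -a).val := by
    intro j a
    revert a; revert i j; decide
  have hs : ∀ a b : Equiv.Perm (Fin 9), inv3 i * (a * b) * inv3 i =
      inv3 i * a * inv3 i * (inv3 i * b * inv3 i) := by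
    intro a b
    calc inv3 i * (a * b) * inv3 i = inv3 i * a * 1 * b * inv3 i := by group
      _ = inv3 i * a * (inv3 i * inv3 i) * b * inv3 i := by rw [inv3_sq]
      _ = _ := by group
  simp only [cube, hs, key, flipOff]

theorem cube_injective : Function.Injective cube := by
  intro v w h
  have h0 : cube (v - w) = 1 := by
    have := cube_add (v - w) w
    rw [sub_add_cancel, h] at this
    exact mul_eq_right.mp this.symm
  have key : ∀ a b c : ZMod 3,
      cyc 0 ^ a.val * cyc 1 ^ b.val * cyc 2 ^ c.val = 1 → a = 0 ∧ b = 0 ∧ c = 0 := by decide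
  obtain ⟨a, b, c⟩ := key _ _ _ h0
  funext j
  fin_cases j
  · exact sub_eq_zero.mp a
  · exact sub_eq_zero.mp b
  · exact sub_eq_zero.mp c

theorem cube_zero : cube 0 = 1 := by simp [cube]

theorem inv3_ne_cube (i : Fin 3) (v : Vec3) : inv3 i ≠ cube v := by
  intro e
  have h := congrArg (fun x => x * x) e
  simp only [inv3_sq, ← cube_add] at h
  have hv : v + v = 0 := cube_injective (h.symm.trans cube_zero.symm)
  have hv0 : v = 0 := by
    funext j
    have : ∀ a : ZMod 3, a + a = 0 → a = 0 := by decide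
    exact this _ (congrFun hv j)
  rw [hv0, cube_zero] at e
  revert e; revert i; decide

theorem mem_model {x : Equiv.Perm (Fin 9)}
    (hx : x ∈ Subgroup.closure ({Equiv.swap (0 : Fin 9) 1 * Equiv.swap 1 2,
      Equiv.swap (3 : Fin 9) 4 * Equiv.swap 4 5, Equiv.swap (6 : Fin 9) 7 * Equiv.swap 7 8,
      Equiv.swap (0 : Fin 9) 1 * Equiv.swap 3 4,
      Equiv.swap (0 : Fin 9) 1 * Equiv.swap 6 7} : Set (Equiv.Perm (Fin 9)))) :
    ∃ v, x = cube v ∨ ∃ i, x = cube v * inv3 i := by
  have hUE : ∀ i w, inv3 i * cube w = cube (flipOff i w) * inv3 i := by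
    intro i w
    rw [← inv3_cube, mul_assoc _ _ (inv3 i), inv3_sq, mul_one]
  induction hx using Subgroup.closure_induction with
  | mem x hx =>
    simp only [Set.mem_insert_iff, Set.mem_singleton_iff] at hx
    rcases hx with rfl | rfl | rfl | rfl | rfl
    · exact ⟨Pi.single 0 1, Or.inl (by decide)⟩
    · exact ⟨Pi.single 1 1, Or.inl (by decide)⟩
    · exact ⟨Pi.single 2 1, Or.inl (by decide)⟩
    · exact ⟨0, Or.inr ⟨2, by rw [cube_zero, one_mul]; rfl⟩⟩
    · exact ⟨0, Or.inr ⟨1, by rw [cube_zero, one_mul]; rfl⟩⟩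
  | one => exact ⟨0, Or.inl cube_zero.symm⟩
  | mul x y _ _ hx hy =>
    obtain ⟨v, rfl | ⟨i, rfl⟩⟩ := hx <;> obtain ⟨w, rfl | ⟨j, rfl⟩⟩ := hy
    · exact ⟨v + w, Or.inl (cube_add v w).symm⟩
    · exact ⟨v + w, Or.inr ⟨j, by rw [cube_add, mul_assoc]⟩⟩
    · exact ⟨v + flipOff i w, Or.inr ⟨i, by rw [mul_assoc, hUE, ← mul_assoc, ← cube_add]⟩⟩
    · refine ⟨v + flipOff i w, ?_⟩
      rw [← mul_assoc, mul_assoc (cube v), hUE, ← mul_assoc, ← cube_add]
      by_cases hij : i = j
      · subst hij; left; rw [mul_assoc, inv3_sq, mul_one]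
      · right; exact ⟨thirdIdx i j, by rw [mul_assoc, inv3_mul i j hij]⟩
  | inv x _ hx =>
    obtain ⟨v, rfl | ⟨i, rfl⟩⟩ := hx
    · exact ⟨-v, Or.inl (inv_eq_of_mul_eq_one_right (by rw [← cube_add, add_neg_cancel, cube_zero]))⟩
    · refine ⟨flipOff i (-v), Or.inr ⟨i, inv_eq_of_mul_eq_one_right ?_⟩⟩
      rw [← mul_assoc, mul_assoc (cube v), hUE, ← mul_assoc, flipOff_flipOff, mul_assoc, inv3_sq,
        mul_one, ← cube_add, add_neg_cancel, cube_zero]


/-- Let H₀ ≤ Sym(9) be generated by the 3-cycles (1 2 3), (4 5 6), (7 8 9) and the involutions (1 2)(4 5), (1 2)(7 8) (a group of order 108, elementary abelian of order 27 extended by a four-group). Let G be a finite group with a subgroup H ≅ H₀, and T ≤ H of order 27 (a Sylow 3-subgroup of H) with N_G(T) = H and C_G(t) ≤ H for every t ≠ 1 in T. Then G = H. -/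
theorem result {G : Type*} [Group G] [Finite G] (H : Subgroup G)
    (hH : Nonempty (↥H ≃* ↥(Subgroup.closure ({Equiv.swap (0 : Fin 9) 1 * Equiv.swap 1 2, Equiv.swap (3 : Fin 9) 4 * Equiv.swap 4 5, Equiv.swap (6 : Fin 9) 7 * Equiv.swap 7 8,
        Equiv.swap (0 : Fin 9) 1 * Equiv.swap 3 4, Equiv.swap (0 : Fin 9) 1 * Equiv.swap 6 7} : Set (Equiv.Perm (Fin 9))))))
    (T : Subgroup G) (hTH : T ≤ H) (hT : Nat.card T = 27) (hN : Subgroup.normalizer (T : Set G) = H)
    (hC : ∀ t ∈ T, t ≠ 1 → Subgroup.centralizer ({t} : Set G) ≤ H) : H = ⊤ := by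
  obtain ⟨eH⟩ := hH
  set K0 := Subgroup.closure ({Equiv.swap (0 : Fin 9) 1 * Equiv.swap 1 2, Equiv.swap (3 : Fin 9) 4 * Equiv.swap 4 5, Equiv.swap (6 : Fin 9) 7 * Equiv.swap 7 8,
        Equiv.swap (0 : Fin 9) 1 * Equiv.swap 3 4, Equiv.swap (0 : Fin 9) 1 * Equiv.swap 6 7} : Set (Equiv.Perm (Fin 9))) with hK0
  have hcyc : ∀ i, cyc i ∈ K0 := by
    intro i; fin_cases i <;> exact Subgroup.subset_closure (by simp [cyc])
  have hinv : ∀ i, inv3 i ∈ K0 := by
    intro i; fin_cases i
    · exact K0.mul_mem (Subgroup.subset_closure (by simp)) (Subgroup.subset_closure (by simp))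
    · exact Subgroup.subset_closure (by simp [inv3])
    · exact Subgroup.subset_closure (by simp [inv3])
  have hcube : ∀ v, cube v ∈ K0 := fun v => K0.mul_mem
    (K0.mul_mem (K0.pow_mem (hcyc 0) _) (K0.pow_mem (hcyc 1) _)) (K0.pow_mem (hcyc 2) _)
  let φ : K0 →* G := H.subtype.comp eH.symm.toMonoidHom
  have hφ : Function.Injective φ := Subtype.val_injective.comp eH.symm.injective
  let c : FourOnCube H :=
    { E := fun v => φ ⟨cube v, hcube v⟩
      U := fun i => φ ⟨inv3 i, hinv i⟩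
      E_mem := fun v => (eH.symm ⟨cube v, hcube v⟩).2
      U_mem := fun i => (eH.symm ⟨inv3 i, hinv i⟩).2
      E_add := fun v w => by rw [← map_mul]; exact congrArg φ (Subtype.ext (cube_add v w))
      U_sq := fun i => by
        rw [← map_mul, ← map_one φ]; exact congrArg φ (Subtype.ext (inv3_sq i))
      U_conj := fun i v => by
        rw [← map_mul, ← map_mul]; exact congrArg φ (Subtype.ext (inv3_cube i v))
      U_mul := fun i j h => by rw [← map_mul]; exact congrArg φ (Subtype.ext (inv3_mul i j h))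
      exhaust := fun x hx => by
        obtain ⟨v, hv | ⟨i, hv⟩⟩ := mem_model (eH ⟨x, hx⟩).2
        · refine ⟨v, Or.inl ?_⟩
          rw [show (⟨cube v, hcube v⟩ : K0) = eH ⟨x, hx⟩ from Subtype.ext hv.symm]
          simp [φ]
        · refine ⟨v, Or.inr ⟨i, ?_⟩⟩
          rw [← map_mul, show (⟨cube v, hcube v⟩ * ⟨inv3 i, hinv i⟩ : K0) = eH ⟨x, hx⟩ from
            Subtype.ext hv.symm]
          simp [φ]
      E_inj := fun v w h => cube_injective (congrArg Subtype.val (hφ h))
      U_not := fun i v h => inv3_ne_cube i v (congrArg Subtype.val (hφ h)) }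
  have hTE : ∀ x ∈ T, ∃ v, x = c.E v := by
    intro x hx
    refine c.eq_E_of_pow_three (hTH hx) ?_
    obtain ⟨v, hv | ⟨i, hv⟩⟩ := c.exhaust x (hTH hx)
    · rw [hv]; exact c.E_pow_three v
    · have h2 : x ^ 2 = c.E (v + flipOff i v) := by rw [hv, pow_two, c.EU_mul_EU]
      have h6 : x ^ 6 = 1 := by rw [pow_mul x 2 3, h2, c.E_pow_three]
      have h27 : x ^ 27 = 1 := by
        have := pow_card_eq_one' (x := (⟨x, hx⟩ : T))
        rw [hT] at this
        exact congrArg Subtype.val this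
      exact orderOf_dvd_iff_pow_eq_one.mp
        (Nat.dvd_gcd (orderOf_dvd_of_pow_eq_one h6) (orderOf_dvd_of_pow_eq_one h27))
  have hET : ∀ v, c.E v ∈ T := by
    let f : T → Vec3 := fun x => (hTE x x.2).choose
    have hf : ∀ x : T, (x : G) = c.E (f x) := fun x => (hTE x x.2).choose_spec
    have hfb : Function.Bijective f := by
      have hinj : Function.Injective f := fun a b e => Subtype.ext (by rw [hf a, hf b, e])
      refine hinj.bijective_of_nat_card_le ?_
      rw [hT]; simp [Nat.card_eq_fintype_card, ZMod.card]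
    intro v
    obtain ⟨x, rfl⟩ := hfb.2 v
    rw [← hf]; exact x.2
  haveI := Fintype.ofFinite G
  refine c.eq_top ⟨fun g hg => ?_, fun v g hv hcm => ?_⟩
  · rw [← hN, Subgroup.mem_normalizer_iff_map_conj_eq]
    refine Subgroup.eq_of_le_of_card_ge ?_ (le_of_eq (Subgroup.card_map_of_injective
      (f := (MulAut.conj g).toMonoidHom) (MulAut.conj g).injective).symm)
    rintro _ ⟨x, hx, rfl⟩
    obtain ⟨v, rfl⟩ := hTE x hx
    obtain ⟨w, hw⟩ := hg v
    show g * c.E v * g⁻¹ ∈ T
    rw [hw]; exact hET w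
  · exact hC _ (hET v) (c.E_ne_one hv) (Subgroup.mem_centralizer_singleton_iff.mpr hcm)


end Cfsg.Agent.S3701
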