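import Cfsg.Statements.S4774
import Cfsg.Agent.Lib.CharApps.SLTwoGraph

set_option autoImplicit false
open Cfsg

namespace Cfsg.Agent.S4774

/-- Let F be a finite field of odd characteristic t with q > 5 elements and let S be isomorphic to PSL(2,F) or to SL(2,F). Then the vertices of the character degree graph of S are the primes dividing q(q²−1); the prime t is adjacent to no vertex; two distinct primes dividing q² − 1 are adjacent exactly when one of them is 2, or both divide q + 1, or both divide q − 1. -/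
theorem result (F : Type*) [Field F] [Fintype F] (t : ℕ) [Fact t.Prime] [CharP F t] (ht : t ≠ 2) (q : ℕ) (hq : Fintype.card F = q) (h5 : 5 < q) {S : Type*} [Group S] [Finite S] (hS : Nonempty (S ≃* Matrix.ProjectiveSpecialLinearGroup (Fin 2) F) ∨ Nonempty (S ≃* Matrix.SpecialLinearGroup (Fin 2) F)) : Cfsg.degreePrimes S = {r : ℕ | r.Prime ∧ r ∣ q * (q ^ 2 - 1)} ∧ ∀ r s : ℕ, (Cfsg.degreeGraph S).Adj r s ↔ (r ≠ s ∧ r.Prime ∧ s.Prime ∧ r ∣ q ^ 2 - 1 ∧ s ∣ q ^ 2 - 1 ∧ (r = 2 ∨ s = 2 ∨ (r ∣ q + 1 ∧ s ∣ q + 1) ∨ (r ∣ q - 1 ∧ s ∣ q - 1))) := by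
  classical
  subst hq
  obtain ⟨n, -, hn⟩ := FiniteField.card F t
  have hodd : Odd (Fintype.card F) := hn ▸ ((Fact.out : t.Prime).odd_of_ne_two ht).pow
  have h := CfsgLib.SLTwoDegrees.shape_of_cases (S := S) (Or.inl ⟨h5, hodd⟩) hS
  refine ⟨h.primes, fun r s => ?_⟩
  rw [h.adj Fact.out hn]
  refine and_congr_right fun hne => and_congr_right fun hr => and_congr_right fun hs => ?_
  rw [CfsgLib.SLTwoDegrees.mul_dvd_iff hr hs hne, CfsgLib.SLTwoDegrees.mul_dvd_iff hr hs hne,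
    CfsgLib.SLTwoDegrees.sq_sub_one]
  obtain ⟨j, hj⟩ := hodd
  have h2p : 2 ∣ Fintype.card F + 1 := ⟨j + 1, by omega⟩
  have h2m : 2 ∣ Fintype.card F - 1 := ⟨j, by omega⟩
  constructor
  · rintro (⟨h1, h2⟩ | ⟨h1, h2⟩)
    · exact ⟨h1.mul_right _, h2.mul_right _, Or.inr (Or.inr (Or.inl ⟨h1, h2⟩))⟩
    · exact ⟨h1.mul_left _, h2.mul_left _, Or.inr (Or.inr (Or.inr ⟨h1, h2⟩))⟩
  · rintro ⟨h1, h2, rfl | rfl | h3 | h3⟩
    · rcases hs.dvd_mul.1 h2 with h' | h'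
      · exact Or.inl ⟨h2p, h'⟩
      · exact Or.inr ⟨h2m, h'⟩
    · rcases hr.dvd_mul.1 h1 with h' | h'
      · exact Or.inl ⟨h', h2p⟩
      · exact Or.inr ⟨h', h2m⟩
    · exact Or.inl h3
    · exact Or.inr h3

end Cfsg.Agent.S4774
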