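import Cfsg.Statements.S0984
import Cfsg.Agent.Lib.Small.Order2520
-- import your own Cfsg.Agent.* helpers here

set_option autoImplicit false
open Cfsg

namespace Cfsg.Agent.S0984

/-- A simple group of order 2520 is isomorphic to the alternating group of degree 7. -/
theorem result {G : Type*} [Group G] [Finite G] [IsSimpleGroup G] (h : Nat.card G = 2520) : Nonempty (G ≃* alternatingGroup (Fin 7)) :=
  CfsgLib.Small.O2520.equiv_alternating_seven h

end Cfsg.Agent.S0984
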