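import Cfsg.Statements.S4812
import Cfsg.Agent.Lib.CharApps.SLTwoGraph

set_option autoImplicit false
open Cfsg

namespace Cfsg.Agent.S4812

/-- Let F be a finite field of characteristic 2 with q ≥ 4 elements and let S be isomorphic to PSL(2,F) or to SL(2,F). Then the vertices of the character degree graph of S are the primes dividing q(q²−1), and two distinct primes are adjacent exactly when both divide q + 1 or both divide q − 1; so the graph has the three connected components {2}, the primes dividing q + 1 and the primes dividing q − 1, each complete. -/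
theorem result (F : Type*) [Field F] [Fintype F] [CharP F 2] (q : ℕ) (hq : Fintype.card F = q) (h4 : 4 ≤ q) {S : Type*} [Group S] [Finite S] (hS : Nonempty (S ≃* Matrix.ProjectiveSpecialLinearGroup (Fin 2) F) ∨ Nonempty (S ≃* Matrix.SpecialLinearGroup (Fin 2) F)) : Cfsg.degreePrimes S = {r : ℕ | r.Prime ∧ r ∣ q * (q ^ 2 - 1)} ∧ ∀ r s : ℕ, (Cfsg.degreeGraph S).Adj r s ↔ (r ≠ s ∧ r.Prime ∧ s.Prime ∧ ((r ∣ q + 1 ∧ s ∣ q + 1) ∨ (r ∣ q - 1 ∧ s ∣ q - 1))) := by
  classical
  subst hq
  haveI : Fact (Nat.Prime 2) := ⟨Nat.prime_two⟩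
  obtain ⟨n, -, hn⟩ := FiniteField.card F 2
  have h := CfsgLib.SLTwoDegrees.shape_of_cases (S := S) (Or.inr ⟨h4, ‹CharP F 2›⟩) hS
  refine ⟨h.primes, fun r s => ?_⟩
  rw [h.adj Nat.prime_two hn]
  refine and_congr_right fun hne => and_congr_right fun hr => and_congr_right fun hs => ?_
  rw [CfsgLib.SLTwoDegrees.mul_dvd_iff hr hs hne, CfsgLib.SLTwoDegrees.mul_dvd_iff hr hs hne]

end Cfsg.Agent.S4812
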