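import Cfsg.Statements.S0678
import Cfsg.Agent.Lib.Perm.DegreeSeven

set_option autoImplicit false
open Cfsg

namespace Cfsg.Agent.S0678

/-- A non-solvable transitive permutation group on 7 points that does not contain the alternating group is a simple group of order 168. -/
theorem result {α : Type*} [Fintype α] [DecidableEq α] (hα : Fintype.card α = 7) (G : Subgroup (Equiv.Perm α)) [MulAction.IsPretransitive G α] (hG : ¬ Group.IsSolvable G) (hA : ¬ alternatingGroup α ≤ G) : Nat.card G = 168 ∧ IsSimpleGroup G := by
  have : Fact (Nat.Prime 7) := ⟨by norm_num⟩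
  let G₀ : Subgroup (Equiv.Perm α) := G ⊓ alternatingGroup α
  let N : Subgroup G := G₀.subgroupOf G
  have hNker : N = (Equiv.Perm.sign.comp G.subtype).ker := by
    ext g
    simp [N, G₀, Subgroup.mem_subgroupOf, Equiv.Perm.mem_alternatingGroup]
  have hNn : N.Normal := by rw [hNker]; exact MonoidHom.normal_ker _
  have hcardN : Nat.card N = Nat.card G₀ :=
    Nat.card_congr (Subgroup.subgroupOfEquivOfLe inf_le_left).toEquiv
  have hNns : ¬ Group.IsSolvable N := by
    intro h
    exact hG (Group.isSolvable_of_ker_le_range N.subtype (Equiv.Perm.sign.comp G.subtype)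
      (by rw [Subgroup.range_subtype, hNker]))
  have hN0 : N ≠ ⊥ := by
    intro h
    refine hNns ?_
    rw [h]
    infer_instance
  have hNt := CfsgLib.Perm.normal_isPretransitive hα N hN0
  have : MulAction.IsPretransitive G₀ α := by
    constructor
    intro a b
    obtain ⟨g, hg⟩ := MulAction.exists_smul_eq N a b
    exact ⟨⟨((g : G) : Equiv.Perm α), g.2⟩, hg⟩
  have hG₀ns : ¬ Group.IsSolvable G₀ := fun h => hNns (Group.isSolvable_of_isSolvable_injective
    (f := (Subgroup.subgroupOfEquivOfLe (inf_le_left : G₀ ≤ G)).toMonoidHom)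
    (MulEquiv.injective _))
  have hne : G₀ ≠ alternatingGroup α := fun h => hA (h ▸ inf_le_left)
  obtain ⟨h168, hsimp⟩ := CfsgLib.Perm.degree_seven_even hα G₀ inf_le_right hne hG₀ns
  by_cases hle : G ≤ alternatingGroup α
  · have heq : G₀ = G := inf_eq_left.2 hle
    exact heq ▸ ⟨h168, hsimp⟩
  exfalso
  have h336 : Nat.card G = 336 := by
    have h1 := N.card_mul_index
    rw [hcardN, h168] at h1
    have h2 : N.index ∣ 2 := by
      rw [hNker, Subgroup.index_ker]
      refine (Subgroup.card_subgroup_dvd_card _).trans ?_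
      rw [Nat.card_eq_fintype_card, Fintype.card_units_int]
    have h3 : N.index ≠ 1 := by
      rw [ne_eq, Subgroup.index_eq_one]
      intro h
      exact hle (le_inf_iff.1 (Subgroup.subgroupOf_eq_top.1 h)).2
    have : N.index = 2 := ((Nat.dvd_prime Nat.prime_two).1 h2).resolve_left h3
    rw [this] at h1
    omega
  obtain ⟨P⟩ := (inferInstance : Nonempty (Sylow 7 G))
  obtain ⟨k, n, hcard, hN, -, hk, hn, hk1⟩ := CfsgLib.Perm.exists_counts hα P
  have hk6 : k = 6 := by
    have hkle := Nat.le_of_dvd (by norm_num) hk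
    rw [h336] at hcard
    interval_cases k <;> omega
  have h3 := Cfsg.Agent.S0676.result hα G hG P (by rw [hN, hk6]; decide)
  have := CfsgLib.Perm.dvd_card_of_transitive_tuples h3 (by omega)
  rw [h336, hα] at this
  exact absurd this (by decide)

end Cfsg.Agent.S0678
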