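import Cfsg.Statements.S0562
import Mathlib

set_option autoImplicit false
open Cfsg

namespace Cfsg.Agent.S0562

/-- Let the finite group G be the product HK of subgroups, A normal in H, B normal in K, and L the normalizer of the subgroup generated by A and B. Then every element of L is a product of an element of L ∩ H and an element of L ∩ K. -/
theorem result {G : Type*} [Group G] [Finite G] (H K A B : Subgroup G) (hHK : ∀ g : G, ∃ h ∈ H, ∃ k ∈ K, g = h * k) (hA : A ≤ H) (hAn : (A.subgroupOf H).Normal) (hB : B ≤ K) (hBn : (B.subgroupOf K).Normal) : ∀ g ∈ Subgroup.normalizer ((A ⊔ B : Subgroup G) : Set G), ∃ h ∈ Subgroup.normalizer ((A ⊔ B : Subgroup G) : Set G) ⊓ H, ∃ k ∈ Subgroup.normalizer ((A ⊔ B : Subgroup G) : Set G) ⊓ K, g = h * k := by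
  intro g hg
  obtain ⟨h, hh, k, hk, rfl⟩ := hHK g
  have key : h ∈ Subgroup.normalizer ((A ⊔ B : Subgroup G) : Set G) := by
    have hle : (A ⊔ B).map (MulAut.conj h).toMonoidHom ≤ A ⊔ B := by
      rw [Subgroup.map_sup, sup_le_iff]
      constructor
      · rintro _ ⟨a, ha, rfl⟩
        exact Subgroup.mem_sup_left (hAn.conj_mem ⟨a, hA ha⟩ ha ⟨h, hh⟩)
      · rintro _ ⟨b, hb, rfl⟩
        have hb' : k⁻¹ * b * k⁻¹⁻¹ ∈ B := hBn.conj_mem ⟨b, hB hb⟩ hb ⟨k⁻¹, K.inv_mem hk⟩
        have := (Subgroup.mem_normalizer_iff.1 hg (k⁻¹ * b * k⁻¹⁻¹)).1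
          (Subgroup.mem_sup_right hb')
        have he : h * k * (k⁻¹ * b * k⁻¹⁻¹) * (h * k)⁻¹ = h * b * h⁻¹ := by group
        rw [he] at this
        exact this
    have he := Subgroup.eq_of_le_of_card_ge hle
      (Subgroup.card_map_of_injective (MulAut.conj h).injective).ge
    rw [Subgroup.mem_normalizer_iff]
    intro x
    constructor
    · exact fun hx => hle ⟨x, hx, rfl⟩
    · intro hx
      obtain ⟨y, hy, hye⟩ := (he.symm ▸ hx :
        h * x * h⁻¹ ∈ (A ⊔ B).map (MulAut.conj h).toMonoidHom)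
      have : y = x := (MulAut.conj h).injective hye
      rwa [← this]
  exact ⟨h, ⟨key, hh⟩, k, ⟨(Subgroup.mul_mem_cancel_left _ key).1 hg, hk⟩, rfl⟩

end Cfsg.Agent.S0562
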