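import Cfsg.Statements.S0815
import Cfsg.Agent.S2603

set_option autoImplicit false
open Cfsg CfsgLib.Geometry

namespace Cfsg.Agent.S0815

/-- |Aut(PSU_n(q))| = gcd(n, q+1) · 2f · |PSU_n(q)| for q = p^f, n ≥ 3, (n, q) ≠ (3, 2); the form is realised over F with |F| = q². -/
theorem result {F : Type*} [Field F] [Fintype F] (p f : ℕ) [Fact p.Prime] (hf : 1 ≤ f) {q : ℕ} (hq : q = p ^ f) (hF : Fintype.card F = q ^ 2) (n : ℕ) (hn : 3 ≤ n) (h32 : ¬ (n = 3 ∧ q = 2)) : Nat.card (MulAut (Cfsg.PSU n F q)) = Nat.gcd n (q + 1) * (2 * f) * Nat.card (Cfsg.PSU n F q) := by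
  have hK : Fintype.card F = p ^ (2 * f) := by rw [hF, hq, ← pow_mul, mul_comm]
  obtain ⟨φ, h1, -, h3⟩ := Cfsg.Agent.S2603.result hf hq hF hn h32
  obtain ⟨σ, S⟩ := CfsgLib.KnownB.PSUAut.exists_setting hq hf hF hn
  have hinj : Function.Injective (MulAut.conj : Cfsg.PSU n F q →* MulAut (Cfsg.PSU n F q)) := by
    rw [← MonoidHom.ker_eq_bot_iff, Subgroup.eq_bot_iff_forall]
    intro x hx
    obtain ⟨s, rfl⟩ := CfsgLib.KnownB.PSUAut.π_surjective x
    rw [MonoidHom.mem_ker, CfsgLib.KnownB.PSUAut.conj_π] at hx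
    obtain ⟨u, hu⟩ := (S.δ_eq_one_iff hn _).1 hx
    refine CfsgLib.KnownB.PSUAut.π_eq_one_iff.2 (Subgroup.mem_center_iff.2 fun t => Subtype.ext (Subtype.ext ?_))
    have h4 : s.1.1 = Matrix.scalar (Fin n) (((u : Fˣ) : F)) := congrArg (fun g : Cfsg.GU n F q => g.1.1) hu
    show t.1.1 * s.1.1 = s.1.1 * t.1.1
    rw [h4]
    exact ((Matrix.scalar_commute _ (fun r' => Commute.all _ r') t.1.1).eq).symm
  have hout : Nat.card (Cfsg.Out (Cfsg.PSU n F q)) = Nat.gcd n (q + 1) * (2 * f) := by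
    rw [Subgroup.card_eq_card_quotient_mul_card_subgroup φ.ker, h3,
      Nat.card_congr (QuotientGroup.quotientKerEquivOfSurjective φ h1).toEquiv,
      Nat.card_congr Multiplicative.toAdd, Nat.card_zmod, mul_comm]
  rw [← (Cfsg.Inn (Cfsg.PSU n F q)).index_mul_card, ← hout]
  congr 1
  exact (Nat.card_congr (MonoidHom.ofInjective hinj).toEquiv).symm

end Cfsg.Agent.S0815
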