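import Cfsg.Statements.S2086
import Cfsg.Agent.Lib.StSL.Universal
import Cfsg.Agent.Lib.KnownA.PSL2Multiplier


set_option autoImplicit false
open Cfsg

namespace Cfsg.Agent.S2086

/-- Schur multipliers of the linear groups: for n ≥ 2 and a field F with q elements (q ≥ 4 when n = 2), apart from the five exceptional pairs (n, q) = (2, 4), (2, 9), (3, 2), (3, 4), (4, 2), the Schur multiplier of PSL_n(F) is cyclic of order gcd(n, q − 1); here the Schur multiplier is described through stem extensions, as in the definitions. -/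
theorem result {F : Type*} [Field F] [Fintype F] {q : ℕ} (hF : Fintype.card F = q) (n : ℕ) (hn : 2 ≤ n) (h2 : n = 2 → 4 ≤ q) (hexc : (n, q) ∉ ({(2, 4), (2, 9), (3, 2), (3, 4), (4, 2)} : Set (ℕ × ℕ))) : Cfsg.HasCyclicSchurMultiplier (Matrix.ProjectiveSpecialLinearGroup (Fin n) F) (Nat.gcd n (q - 1)) := by
  classical
  set C := Matrix.SpecialLinearGroup (Fin n) F
  set Z := Subgroup.center C
  haveI : Finite C := inferInstance
  haveI : NeZero n := ⟨by omega⟩
  let eZ : Z ≃* rootsOfUnity n F :=
    (Matrix.SpecialLinearGroup.center_equiv_rootsOfUnity' (⟨0, by omega⟩ : Fin n)).trans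
      (MulEquiv.subgroupCongr (by rw [Fintype.card_fin]))
  haveI : IsCyclic Z := isCyclic_of_surjective eZ.symm.toMonoidHom eZ.symm.surjective
  have hcard : Nat.card Z = Nat.gcd n (q - 1) := by
    rw [Nat.card_congr eZ.toEquiv]
    have := IsCyclic.card_powMonoidHom_ker (G := Fˣ) n
    rw [show (powMonoidHom n : Fˣ →* Fˣ).ker = rootsOfUnity n F from by
      ext x; simp [mem_rootsOfUnity]] at this
    rw [this, Nat.card_units, Nat.card_eq_fintype_card, hF, Nat.gcd_comm]
  let e : Z ≃* Multiplicative (ZMod (Nat.gcd n (q - 1))) :=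
    mulEquivOfCyclicCardEq (by rw [hcard, Nat.card_congr Multiplicative.toAdd, Nat.card_zmod])
  have hperf : commutator C = ⊤ :=
    CfsgLib.Classical.SL_fin_commutator_eq_top n hn fun h => by
      rw [Nat.card_eq_fintype_card, hF]; exact h2 h
  let σ : C →* Matrix.ProjectiveSpecialLinearGroup (Fin n) F := QuotientGroup.mk' Z
  have hσ : Function.Surjective σ := QuotientGroup.mk'_surjective _
  have hker : σ.ker = Z := QuotientGroup.ker_mk' Z
  rcases eq_or_ne n 2 with rfl | hn2
  · have hq4 : q ≠ 4 := fun h => hexc (by simp [h])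
    have hq9 : q ≠ 9 := fun h => hexc (by simp [h])
    haveI : Finite (Matrix.ProjectiveSpecialLinearGroup (Fin 2) F) := Finite.of_surjective _ hσ
    have hs : Cfsg.IsStemExtension σ := ⟨hσ, hker.le, hperf ▸ le_top⟩
    obtain ⟨m⟩ := CfsgLib.Schur.mult_equiv_ker_of_trivial σ hs
      (CfsgLib.KnownA.SLTwo.multiplier_trivial (F := F) (hF ▸ hq4) (hF ▸ hq9))
    rw [Cfsg.HasCyclicSchurMultiplier, CfsgLib.Schur.hasSchurMultiplier_iff]
    exact ⟨(e.symm.trans (MulEquiv.subgroupCongr hker).symm).trans m.symm⟩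
  · have hx : CfsgLib.StSL.CExt.NotExc n (Fintype.card F) := by
      refine ⟨by omega, fun h => ⟨fun h' => hexc ?_, fun h' => hexc ?_⟩, fun h h' => hexc ?_⟩ <;>
        simp [h, ← hF, h']
    refine CfsgLib.Steinberg.hasMultiplier (C := C) (fun X _ p hp hc => ?_) hperf σ hσ hker.le
      ((MulEquiv.subgroupCongr hker).trans e)
    exact (CfsgLib.StSL.CExt.mk hp hc).exists_lift hx

end Cfsg.Agent.S2086
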