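import Cfsg.Statements.S0997
import Cfsg.Agent.Lib.BrauerTuan.Count

set_option autoImplicit false
set_option linter.style.haveILetI false
open Cfsg

namespace CfsgLib.BrauerTuan

theorem psl_arith {p b d : ℕ} (hp : p % 2 = 1) (hd : Odd d) (hlt : d < p - 1)
    (h : (p + 1) * (p - 1) = 2 ^ (b + 1) * d) : ∃ m : ℕ, p = 2 ^ m + 1 ∨ p = 2 ^ m - 1 := by
  have hd0 : 0 < d := by obtain ⟨k, hk⟩ := hd; omega
  have key : ∀ m x : ℕ, Odd m → (2 * m) * x = 2 ^ (b + 1) * d → d < 2 * m → x = 2 ^ b := by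
    intro m x hm hx hlt'
    have h1 : m * x = 2 ^ b * d := by
      refine Nat.eq_of_mul_eq_mul_left two_pos ?_
      rw [← mul_assoc, hx, pow_succ]; ring
    obtain ⟨l, rfl⟩ : m ∣ d := ((Nat.coprime_two_right.2 hm).pow_right b).dvd_of_dvd_mul_left
      (h1 ▸ dvd_mul_right m x)
    have hm0 : 0 < m := Nat.pos_of_ne_zero fun e => by rw [e, zero_mul] at hd0; omega
    have hl : l = 1 := by
      rcases Nat.lt_or_ge l 2 with hl | hl
      · have : l ≠ 0 := fun e => by rw [e, mul_zero] at hd0; omega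
        omega
      · have := Nat.mul_le_mul_left m hl
        omega
    subst hl
    exact Nat.eq_of_mul_eq_mul_left hm0 (by rw [h1]; ring)
  rcases (show p % 4 = 1 ∨ p % 4 = 3 by omega) with h4 | h4
  · refine ⟨b, Or.inl ?_⟩
    have := key ((p + 1) / 2) (p - 1) (Nat.odd_iff.2 (by omega))
      (by rw [show 2 * ((p + 1) / 2) = p + 1 by omega]; exact h) (by omega)
    omega
  · refine ⟨b, Or.inr ?_⟩
    have := key ((p - 1) / 2) (p + 1) (Nat.odd_iff.2 (by omega))
      (by rw [show 2 * ((p - 1) / 2) = p - 1 by omega, mul_comm]; exact h) (by omega)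
    omega

theorem psl_card {F : Type} [Field F] [Fintype F] {p : ℕ} (hp : p.Prime) (hp2 : p ≠ 2)
    (hc : Fintype.card F = p) :
    2 * Nat.card (Matrix.ProjectiveSpecialLinearGroup (Fin 2) F) = p * ((p + 1) * (p - 1)) := by
  have h := CfsgLib.Classical.card_PSL_two_mul (F := F)
  rw [CfsgLib.Classical.gcd_two_card_sub_one_of_odd (F := F) (by
      rw [Nat.card_eq_fintype_card, hc]; exact hp.odd_of_ne_two hp2),
    Nat.card_eq_fintype_card (α := F), hc] at h
  rw [h, ← Nat.sq_sub_sq, one_pow]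

end CfsgLib.BrauerTuan

namespace Cfsg.Agent.S0997

/-- Let G be a non-cyclic finite simple group of order p * q^b * g₀, where p and q are distinct primes and g₀ < p - 1. Then either p has the form 2^m + 1 or 2^m - 1 and G is isomorphic to the projective special linear group of dimension 2 over the field with p elements, or p = 2^m + 1 > 3 and G is isomorphic to that group over the field with 2^m elements. -/
theorem result {G : Type*} [Group G] [Finite G] [IsSimpleGroup G] (hG : ¬ IsCyclic G) (p q b g₀ : ℕ) (hp : p.Prime) (hq : q.Prime) (hpq : p ≠ q) (hG' : Nat.card G = p * q ^ b * g₀) (hg : g₀ < p - 1) : (∃ (m : ℕ) (F : Type) (_ : Field F) (_ : Fintype F), Fintype.card F = p ∧ (p = 2 ^ m + 1 ∨ p = 2 ^ m - 1) ∧ Nonempty (G ≃* Matrix.ProjectiveSpecialLinearGroup (Fin 2) F)) ∨ (∃ (m : ℕ) (F : Type) (_ : Field F) (_ : Fintype F), Fintype.card F = 2 ^ m ∧ p = 2 ^ m + 1 ∧ 3 < p ∧ Nonempty (G ≃* Matrix.ProjectiveSpecialLinearGroup (Fin 2) F)) := by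
  haveI : Fact p.Prime := ⟨hp⟩
  rcases CfsgLib.BrauerTuan.pos_or_neg hG hq hpq hG' hg with
    ⟨d, hd, hgd, ⟨i⟩⟩ | ⟨rfl, P, d, e, t, εX, X, Y, hgd, D⟩
  · have hp2 : p ≠ 2 := by omega
    have h := CfsgLib.BrauerTuan.psl_card (F := ZMod p) hp hp2 (ZMod.card p)
    rw [← Nat.card_congr i.toEquiv, hG', hgd] at h
    have h1 : 2 * (q ^ b * d) = (p + 1) * (p - 1) :=
      Nat.eq_of_mul_eq_mul_left hp.pos (by rw [← h]; ring)
    have hqb : q ^ b = p + 1 := by
      refine Nat.eq_of_mul_eq_mul_left (show 0 < 2 * d by omega) ?_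
      rw [show p - 1 = 2 * d by omega] at h1
      linarith
    have hq2 : q = 2 := by
      refine ((Nat.prime_dvd_prime_iff_eq Nat.prime_two hq).1 (Nat.prime_two.dvd_of_dvd_pow
        (show 2 ∣ q ^ b by rw [hqb]; omega))).symm
    subst hq2
    exact Or.inl ⟨b, ZMod p, inferInstance, inferInstance, ZMod.card p, Or.inr (by omega), ⟨i⟩⟩
  · have hperf := CfsgLib.BrauerTuan.perfect_of_simple (G := G) hG
    have hb := D.bound hG fun ht he => D.degree_eq ht he
    have hdlt := D.d_lt
    have hdvd : p ∣ Nat.card G := D.card_P ▸ Subgroup.card_subgroup_dvd_card _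
    have hbig : Nat.card G < p ^ 3 := by
      rw [D.card_G]
      calc p * 2 ^ b * d ≤ p * p * d := Nat.mul_le_mul_right _ (Nat.mul_le_mul_left _ hb)
        _ < p * p * p := Nat.mul_lt_mul_of_pos_left hdlt (Nat.mul_pos hp.pos hp.pos)
        _ = p ^ 3 := by ring
    have hnP : ¬ ((P : Subgroup G)).Normal := fun h => by
      rcases IsSimpleGroup.eq_bot_or_eq_top_of_normal _ h with h | h
      · have := D.card_P; rw [h, Subgroup.card_bot] at this; exact hp.ne_one this.symm
      · have := D.card_P; rw [h, Subgroup.card_top] at this; exact hG (isCyclic_of_prime_card this)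
    have hde := D.de
    have hpo := D.p_odd
    have h2 : ∀ N : Subgroup G, N.Normal → Nat.card N ≠ 2 := fun N hN hc => by
      rcases IsSimpleGroup.eq_bot_or_eq_top_of_normal _ hN with rfl | rfl
      · rw [Subgroup.card_bot] at hc; omega
      · rw [Subgroup.card_top] at hc
        exact hG (isCyclic_of_prime_card (p := 2) hc)
    rcases CfsgLib.Brauer43.large_prime hperf hdvd hbig P hnP h2 with
      ⟨F, hF, hF', hc, hp3, ⟨i⟩⟩ | ⟨m, F, hF, hF', hc, hpm, hp3, ⟨i⟩⟩
    · have h := CfsgLib.BrauerTuan.psl_card (F := F) hp (by omega) hc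
      rw [← Nat.card_congr i.toEquiv, D.card_G] at h
      obtain ⟨m, hm⟩ := CfsgLib.BrauerTuan.psl_arith hpo D.d_odd (hgd ▸ hg)
        (Nat.eq_of_mul_eq_mul_left hp.pos (h.symm.trans (by ring)) : (p + 1) * (p - 1) = 2 ^ (b + 1) * d)
      exact Or.inl ⟨m, F, hF, hF', hc, hm, ⟨i⟩⟩
    · haveI : CharP F 2 := by
        have h2 : ringChar F = 2 := FiniteField.even_card_iff_char_two.2 (by
          rw [hc]
          rcases m with _ | m
          · omega
          · rw [pow_succ]; omega)
        exact h2 ▸ ringChar.charP F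
      exact Or.inr ⟨m, F, hF, hF', hc, hpm, hp3, ⟨i.trans (CfsgLib.Recog.pslEquivSL (F := F))⟩⟩

end Cfsg.Agent.S0997
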