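import Cfsg.Statements.S1602
import Cfsg.Agent.Lib.Spor.DodecadSub
-- import your own Cfsg.Agent.* helpers here

set_option autoImplicit false
open scoped Pointwise
open Cfsg

namespace Cfsg.Agent.S1602

/-- In the 12-point action of the smallest Mathieu group the setwise stabiliser of a pair is isomorphic to the symmetric group of degree 5. -/
theorem result (d : Finset Cfsg.GolayPt) (hd : d ∈ Cfsg.dodecads) (p q q' : Cfsg.GolayPt) (hp : p ∈ d) (hq : q ∉ d) (hq' : q' ∉ d) (hqq' : q ≠ q') : Nonempty (↥(MulAction.stabilizer Cfsg.M24 d ⊓ MulAction.stabilizer Cfsg.M24 p ⊓ MulAction.stabilizer Cfsg.M24 ({q, q'} : Finset Cfsg.GolayPt)) ≃* Equiv.Perm (Fin 5)) := by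
  obtain ⟨g, h1, h2, h3, h4⟩ := CfsgLib.Spor.exists_base hd hp hq hq' hqq'
  obtain ⟨e⟩ := CfsgLib.Spor.pair_iso
  have h34 : g • ({CfsgLib.Spor.outA, CfsgLib.Spor.outB} : Finset Cfsg.GolayPt) = {q, q'} := by
    show (g : Equiv.Perm Cfsg.GolayPt) • ({_, _} : Finset Cfsg.GolayPt) = _
    rw [Finset.smul_finset_insert, Finset.smul_finset_singleton]
    exact congrArg₂ (fun u v => ({u, v} : Finset Cfsg.GolayPt)) h3 h4
  exact ⟨(CfsgLib.Spor.dodPtStabEquiv h1 h2 h34).symm.trans e⟩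

end Cfsg.Agent.S1602
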