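import Cfsg.Statements.S1603
import Cfsg.Agent.Lib.Spor.DodecadSub
-- import your own Cfsg.Agent.* helpers here

set_option autoImplicit false
open scoped Pointwise
open Cfsg

namespace Cfsg.Agent.S1603

/-- Involution centralisers in the smallest Mathieu group are isomorphic to GL(2, 3). -/
theorem result (d : Finset Cfsg.GolayPt) (hd : d ∈ Cfsg.dodecads) (p : Cfsg.GolayPt) (hp : p ∈ d) (x : ↥(MulAction.stabilizer Cfsg.M24 d ⊓ MulAction.stabilizer Cfsg.M24 p)) (hx : orderOf x = 2) : Nonempty (↥(Subgroup.centralizer ({x} : Set ↥(MulAction.stabilizer Cfsg.M24 d ⊓ MulAction.stabilizer Cfsg.M24 p))) ≃* GL (Fin 2) (ZMod 3)) := by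
  have hx2 : x * x = 1 := by rw [← sq, ← hx, pow_orderOf_eq_one]
  have hx1 : x ≠ 1 := fun h => by rw [h, orderOf_one] at hx; norm_num at hx
  obtain ⟨k, hkd, hkp, hk⟩ := CfsgLib.Spor.involution_conj hd hp x.2
    (congrArg Subtype.val hx2) (fun h => hx1 (Subtype.ext h))
  obtain ⟨t, -, ht⟩ := CfsgLib.Spor.exists_baseOK CfsgLib.Spor.invCent_ok.2.2.2.1
  obtain ⟨e⟩ := CfsgLib.Spor.cent_iso ht
  have hkt := hk t ht
  refine ⟨MulEquiv.trans ?_ e⟩
  let f := (MulAut.conj k⁻¹).toMonoidHom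
  have hmap : ((Subgroup.centralizer {x}).map
      (MulAction.stabilizer Cfsg.M24 d ⊓ MulAction.stabilizer Cfsg.M24 p).subtype).map f =
      CfsgLib.Spor.dodPtStab CfsgLib.Spor.dod0 (CfsgLib.Spor.pt 0) ⊓ Subgroup.centralizer {t} := by
    subst hkd hkp
    ext y
    simp only [Subgroup.mem_map, Subgroup.mem_inf, Subgroup.mem_centralizer_singleton_iff,
      MulAction.mem_stabilizer_iff]
    constructor
    · rintro ⟨_, ⟨⟨z, hz1, hz2⟩, hzx, rfl⟩, rfl⟩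
      replace hz1 : z • _ = _ := hz1
      replace hz2 : z • _ = _ := hz2
      have hzx' : z * (x : ↥Cfsg.M24) = (x : ↥Cfsg.M24) * z := congrArg Subtype.val hzx
      show ((k⁻¹ * z * k⁻¹⁻¹) • _ = _ ∧ (k⁻¹ * z * k⁻¹⁻¹) • _ = _) ∧
        (k⁻¹ * z * k⁻¹⁻¹) * t = t * (k⁻¹ * z * k⁻¹⁻¹)
      refine ⟨⟨?_, ?_⟩, ?_⟩
      · rw [inv_inv, mul_smul, mul_smul, hz1, inv_smul_smul]
      · rw [inv_inv, mul_smul, mul_smul, hz2, inv_smul_smul]
      · rw [← hkt] at hzx'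
        calc k⁻¹ * z * k⁻¹⁻¹ * t = k⁻¹ * (z * (k * t * k⁻¹)) * k := by group
          _ = k⁻¹ * ((k * t * k⁻¹) * z) * k := by rw [hzx']
          _ = t * (k⁻¹ * z * k⁻¹⁻¹) := by group
    · rintro ⟨⟨hy1, hy2⟩, hyt⟩
      refine ⟨k * y * k⁻¹, ⟨⟨k * y * k⁻¹, ?_, ?_⟩, ?_, rfl⟩, ?_⟩
      · show (k * y * k⁻¹) • (k • CfsgLib.Spor.dod0) = k • CfsgLib.Spor.dod0
        rw [mul_smul, mul_smul, inv_smul_smul, hy1]
      · show (k * y * k⁻¹) • (k • CfsgLib.Spor.pt 0) = k • CfsgLib.Spor.pt 0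
        rw [mul_smul, mul_smul, inv_smul_smul, hy2]
      · refine Subtype.ext ?_
        show k * y * k⁻¹ * (x : ↥Cfsg.M24) = (x : ↥Cfsg.M24) * (k * y * k⁻¹)
        rw [← hkt]
        calc k * y * k⁻¹ * (k * t * k⁻¹) = k * (y * t) * k⁻¹ := by group
          _ = k * (t * y) * k⁻¹ := by rw [hyt]
          _ = k * t * k⁻¹ * (k * y * k⁻¹) := by group
      · show k⁻¹ * (k * y * k⁻¹) * k⁻¹⁻¹ = y
        group
  exact (((Subgroup.centralizer {x}).equivMapOfInjective _ (Subgroup.subtype_injective _)).trans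
    ((Subgroup.equivMapOfInjective _ f (MulAut.conj k⁻¹).injective))).trans
    (MulEquiv.subgroupCongr hmap)

end Cfsg.Agent.S1603
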