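import Cfsg.Statements.S2507
import Cfsg.Agent.Lib.KnownB.SL2Sizes
-- import your own Cfsg.Agent.* helpers here

set_option autoImplicit false
open Cfsg

namespace Cfsg.Agent.S2507

/-- Let F be a finite field with q = 2^f ≥ 4 elements. The conjugacy class sizes of PSL(2,F) are exactly 1, q(q − 1), q² − 1 and q(q + 1). -/
theorem result {F : Type*} [Field F] [Fintype F]
    (h2 : 2 ∣ Fintype.card F) (h4 : 4 ≤ Fintype.card F) :
    Set.range (fun g : (Matrix.ProjectiveSpecialLinearGroup (Fin 2) F) => (Subgroup.centralizer ({g} : Set (Matrix.ProjectiveSpecialLinearGroup (Fin 2) F))).index) =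
      {1, Fintype.card F * (Fintype.card F - 1), Fintype.card F ^ 2 - 1, Fintype.card F * (Fintype.card F + 1)} := by
  classical
  set q := Fintype.card F
  obtain ⟨p, hpc⟩ := CharP.exists F
  obtain ⟨kk, hp, hk⟩ := FiniteField.card F p
  haveI : Fact p.Prime := ⟨hp⟩
  let size : Matrix.ProjectiveSpecialLinearGroup (Fin 2) F → ℕ := fun g => (Subgroup.centralizer ({g} : Set (Matrix.ProjectiveSpecialLinearGroup (Fin 2) F))).index
  have hqq : q ^ 2 - 1 = (q + 1) * (q - 1) := by rw [← Nat.sq_sub_sq, one_pow]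
  have hone : size 1 = 1 := by
    change (Subgroup.centralizer ({1} : Set (Matrix.ProjectiveSpecialLinearGroup (Fin 2) F))).index = 1
    rw [Subgroup.index_eq_one, Subgroup.centralizer_eq_top_iff_subset, Set.singleton_subset_iff]
    exact one_mem _
  have hp2 : p = 2 := ((Nat.prime_dvd_prime_iff_eq Nat.prime_two hp).1 (Nat.prime_two.dvd_of_dvd_pow (n := (kk : ℕ)) (by rw [← hk]; exact h2))).symm
  subst hp2
  have h20 : (2 : F) = 0 := CharTwo.two_eq_zero
  have h40 : (4 : F) = 0 := by linear_combination 2 * h20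
  have heq : ∀ g : Matrix.SpecialLinearGroup (Fin 2) F, CfsgLib.KnownB.SL2Sizes.projCent g = Subgroup.centralizer ({g} : Set (Matrix.SpecialLinearGroup (Fin 2) F)) := fun g => by
    have hneg : -g = g := Subtype.ext (by
      rw [Matrix.SpecialLinearGroup.coe_neg]
      ext i j
      simp [CharTwo.neg_eq])
    ext x
    rw [CfsgLib.KnownB.SL2Sizes.mem_projCent, hneg, or_self, Subgroup.mem_centralizer_singleton_iff, mul_inv_eq_iff_eq_mul]
  have hsize : ∀ g : Matrix.SpecialLinearGroup (Fin 2) F, ¬ CfsgLib.GLTwo.IsScalar2 (g : Matrix (Fin 2) (Fin 2) F) →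
      let t := (g : Matrix (Fin 2) (Fin 2) F).trace
      (t = 0 → size (CfsgLib.KnownB.SL2Products.pr g) = q ^ 2 - 1) ∧
      (t ≠ 0 → CfsgLib.KnownB.SL2Sizes.Split t → size (CfsgLib.KnownB.SL2Products.pr g) = q * (q + 1)) ∧
      (¬ CfsgLib.KnownB.SL2Sizes.Split t → size (CfsgLib.KnownB.SL2Products.pr g) = q * (q - 1)) := by
    intro g hg
    have hi : size (CfsgLib.KnownB.SL2Products.pr g) = (Subgroup.centralizer ({g} : Set (Matrix.SpecialLinearGroup (Fin 2) F))).index :=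
      (CfsgLib.KnownB.SL2Sizes.index_projCent g).trans (by rw [heq])
    refine ⟨fun ht => ?_, fun ht hs => ?_, fun hs => ?_⟩ <;> rw [hi] <;>
      refine CfsgLib.KnownB.SL2Sizes.index_eq (CfsgLib.GLTwo.sl_card_centralizer hg) ?_
    · change _ * Nat.card (CfsgLib.KnownB.SL2Sizes.NormOne _) = _
      rw [CfsgLib.KnownB.SL2Sizes.card_double (s := (1 : F)) (one_mul 1) (by rw [ht, h20, zero_mul])]
      have h1 : Nat.card {e : F // e ^ 2 = 1} = 1 := Nat.card_eq_one_iff_unique.2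
        ⟨⟨fun a b => Subtype.ext (CharTwo.sq_inj.1 (a.2.trans b.2.symm))⟩, ⟨⟨1, one_pow 2⟩⟩⟩
      rw [h1, mul_one, Nat.card_eq_fintype_card, mul_comm]
    · change _ * Nat.card (CfsgLib.KnownB.SL2Sizes.NormOne _) = _
      rw [CfsgLib.KnownB.SL2Sizes.card_split hs (by rw [h40]; exact pow_ne_zero 2 ht), Nat.card_units, Nat.card_eq_fintype_card, hqq]
      ring
    · change _ * Nat.card (CfsgLib.KnownB.SL2Sizes.NormOne _) = _
      rw [CfsgLib.KnownB.SL2Sizes.card_nonsplit hs, Nat.card_eq_fintype_card, hqq]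
      ring
  refine Set.Subset.antisymm ?_ ?_
  · rintro _ ⟨x, rfl⟩
    obtain ⟨g, rfl⟩ := CfsgLib.KnownB.SL2Products.pr_surjective x
    change size (CfsgLib.KnownB.SL2Products.pr g) ∈ _
    by_cases hg : CfsgLib.GLTwo.IsScalar2 (g : Matrix (Fin 2) (Fin 2) F)
    · rw [CfsgLib.KnownB.SL2Products.pr_eq_one_iff.2 hg, hone]
      exact Or.inl rfl
    obtain ⟨h0, hs, hn⟩ := hsize g hg
    by_cases ht : (g : Matrix (Fin 2) (Fin 2) F).trace = 0
    · exact Or.inr (Or.inr (Or.inl (h0 ht)))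
    · by_cases hsp : CfsgLib.KnownB.SL2Sizes.Split (g : Matrix (Fin 2) (Fin 2) F).trace
      · exact Or.inr (Or.inr (Or.inr (hs ht hsp)))
      · exact Or.inr (Or.inl (hn hsp))
  · have hc : ∀ t : F, ∃ g : Matrix.SpecialLinearGroup (Fin 2) F, ¬ CfsgLib.GLTwo.IsScalar2 (g : Matrix (Fin 2) (Fin 2) F) ∧ (g : Matrix (Fin 2) (Fin 2) F).trace = t :=
      fun t => ⟨CfsgLib.GLTwo.mkSL _ (CfsgLib.GLTwo.det_companion t 1), CfsgLib.GLTwo.companion_not_scalar t 1, CfsgLib.GLTwo.trace_companion t 1⟩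
    intro k hkk
    rcases hkk with rfl | rfl | rfl | rfl
    · exact ⟨1, hone⟩
    · obtain ⟨g, hg, -, hn⟩ := CfsgLib.KnownB.SL2Sizes.exists_nonsplit (F := F) 2 h4 (fun h5 => by
        have : 2 ∣ 5 := h5 ▸ h2
        omega)
      exact ⟨_, (hsize g hg).2.2 hn⟩
    · obtain ⟨g, hg, ht⟩ := hc 0
      exact ⟨_, (hsize g hg).1 ht⟩
    · obtain ⟨z, hz⟩ := Finset.exists_mem_notMem_of_card_lt_card (s := ({0, 1} : Finset F)) (t := Finset.univ)
        (by rw [Finset.card_univ]; exact lt_of_le_of_lt Finset.card_le_two (by omega))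
      simp only [Finset.mem_insert, Finset.mem_singleton, not_or] at hz
      obtain ⟨-, hz0, hz1⟩ := hz
      obtain ⟨g, hg, ht⟩ := hc (z + z⁻¹)
      refine ⟨_, (hsize g hg).2.1 ?_ ⟨z, ?_⟩⟩
      · rw [ht]
        intro h0
        have h1 : z = z⁻¹ := CharTwo.add_eq_zero.1 h0
        refine hz1 (CharTwo.sq_injective ?_)
        change z ^ 2 = 1 ^ 2
        rw [pow_two, one_pow]
        nth_rw 2 [h1]
        exact mul_inv_cancel₀ hz0
      · rw [ht]
        field_simp
        ring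

end Cfsg.Agent.S2507
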