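import Cfsg.Statements.S2092
import Cfsg.Agent.Lib.CTRecog.SpSchur.Big
import Cfsg.Agent.Lib.CTRecog.SpSchur.TwoSection
import Cfsg.Agent.Lib.Steinberg.Multiplier

set_option autoImplicit false
open Cfsg

namespace Cfsg.Agent.S2092

/-- Schur multipliers of the symplectic groups: for m ≥ 2 and a field F with q elements (q ≥ 3 when m = 2), with (m, q) ≠ (3, 2), the Schur multiplier of PSp_2m(F) is cyclic of order gcd(2, q − 1); here the Schur multiplier is described through stem extensions, as in the definitions. -/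
theorem result {F : Type*} [Field F] [Fintype F] {q : ℕ} (hF : Fintype.card F = q) (m : ℕ) (hm : 2 ≤ m) (h2 : m = 2 → 3 ≤ q) (hexc : ¬ (m = 3 ∧ q = 2)) : Cfsg.HasCyclicSchurMultiplier (Cfsg.PSp m F) (Nat.gcd 2 (q - 1)) := by
  classical
  subst hF
  have h1 : 1 < Fintype.card F := Fintype.one_lt_card
  have : Nonempty (Fin m) := ⟨⟨0, by omega⟩⟩
  have hperf : commutator (Matrix.symplecticGroup (Fin m) F) = ⊤ := by
    refine CfsgLib.Classical.sp_commutator_eq_top' ?_
    rw [Fintype.card_fin, Nat.card_eq_fintype_card]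
    by_cases hm2 : m = 2
    · exact Or.inr (Or.inl ⟨hm, h2 hm2⟩)
    · exact Or.inl (by omega)
  have hs : CfsgLib.Steinberg.Splits (Matrix.symplecticGroup (Fin m) F) := by
    by_cases hq : 3 ≤ Fintype.card F
    · rcases eq_or_ne m 2 with rfl | hm2
      · exact CfsgLib.CTRecog.SpSchur.splits_sp_four hq
      · obtain ⟨k, rfl⟩ : ∃ k, m = k + 2 + 1 := ⟨m - 3, by omega⟩
        exact CfsgLib.CTRecog.SpSchur.splits_sp_big k hq
    · have hq2 : Fintype.card F = 2 := by omega
      have hm4 : 4 ≤ m := by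
        by_contra h
        by_cases hm2 : m = 2
        · exact hq (h2 hm2)
        · exact hexc ⟨by omega, hq2⟩
      obtain ⟨k, rfl⟩ : ∃ k, m = k + 4 := ⟨m - 4, by omega⟩
      have hF : ∀ t : F, t = 0 ∨ t = 1 := fun t => by
        have hu : ({0, 1} : Finset F) = Finset.univ :=
          Finset.eq_univ_of_card _ (by rw [hq2]; exact Finset.card_pair zero_ne_one)
        have ht : t ∈ ({0, 1} : Finset F) := by rw [hu]; exact Finset.mem_univ t
        simpa using ht
      intro X _ q hsur hc
      obtain ⟨S⟩ := CfsgLib.CTRecog.SpSchur.exists_lifts (q := q) hF hsur hc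
      obtain ⟨Ψ, hΨ⟩ := S.exists_hom hF
      exact ⟨Ψ, MonoidHom.ext hΨ⟩
  let σ := QuotientGroup.mk' (Subgroup.center (Matrix.symplecticGroup (Fin m) F))
  have hker : σ.ker = Subgroup.center (Matrix.symplecticGroup (Fin m) F) := QuotientGroup.ker_mk' _
  have hn : Nat.gcd 2 (Fintype.card F - 1) = 1 ∨ (Nat.gcd 2 (Fintype.card F - 1)).Prime := by
    rcases (Nat.dvd_prime Nat.prime_two).1 (Nat.gcd_dvd_left 2 (Fintype.card F - 1)) with h | h
    · exact Or.inl h
    · exact Or.inr (by rw [h]; exact Nat.prime_two)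
  have hcard : Nat.card σ.ker = Nat.gcd 2 (Fintype.card F - 1) := by
    rw [hker, CfsgLib.Classical.card_center_sp, Nat.card_eq_fintype_card]
  obtain ⟨e⟩ := CfsgLib.Steinberg.equiv_zmod hn hcard
  exact CfsgLib.Steinberg.hasMultiplier hs hperf σ (QuotientGroup.mk'_surjective _) hker.le e

end Cfsg.Agent.S2092
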