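import Cfsg.Statements.S2118
import Cfsg.Agent.Lib.KnownA.AltSixSevenMult
import Cfsg.Agent.Lib.KnownA.PSL2Multiplier
import Cfsg.Agent.S0254

set_option autoImplicit false
open Cfsg
open scoped commutatorElement

set_option linter.style.haveILetI false

namespace Cfsg.Agent.S2118

/-- For the field with 9 elements, the special linear group SL₂ has Schur multiplier cyclic of order 3 (here the Schur multiplier is described through stem extensions, as in the definitions). -/
theorem result {F : Type*} [Field F] [Fintype F] (hF : Fintype.card F = 9) : Cfsg.HasCyclicSchurMultiplier (Matrix.SpecialLinearGroup (Fin 2) F) 3 := by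
  classical
  obtain ⟨e⟩ := Cfsg.Agent.S0254.result hF
  have hodd' : Odd (Nat.card F) := by rw [Nat.card_eq_fintype_card, hF]; decide
  have h2 : (2 : F) ≠ 0 := CfsgLib.Classical.two_ne_zero_of_odd_card hodd'
  set S := Matrix.SpecialLinearGroup (Fin 2) F
  let π : S →* Matrix.ProjectiveSpecialLinearGroup (Fin 2) F := QuotientGroup.mk' _
  have hker : π.ker = Subgroup.center S := QuotientGroup.ker_mk' _
  have hcard : Nat.card (Subgroup.center S) = 2 := by
    have h := CfsgLib.Classical.card_PSL_two_mul (F := F)
    rw [CfsgLib.Classical.gcd_two_card_sub_one_of_odd hodd', ← CfsgLib.Classical.card_SL_two] at h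
    refine Nat.eq_of_mul_eq_mul_left
      (Nat.card_pos (α := Matrix.ProjectiveSpecialLinearGroup (Fin 2) F))
      ((Subgroup.card_eq_card_quotient_mul_card_subgroup (Subgroup.center S)).symm.trans ?_)
    rw [← h, mul_comm]
  have hs : Cfsg.IsStemExtension π := by
    refine ⟨QuotientGroup.mk'_surjective _, hker.le, ?_⟩
    rw [hker]
    intro x hx
    obtain ⟨a, b, -, -, hab⟩ := CfsgLib.Classical.exists_q8 (F := F) h2
    have hz : CfsgLib.Classical.negOneSL F = ⁅a, b⁆ := by
      rw [commutatorElement_def, hab]; group
    have hx2 : x = 1 ∨ x = CfsgLib.Classical.negOneSL F := by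
      refine CfsgLib.Classical.sl2_eq_one_or_of_sq h2 CfsgLib.Classical.negOneSL_coe ?_
      have := pow_card_eq_one' (x := (⟨x, hx⟩ : Subgroup.center S))
      rw [hcard] at this
      exact congrArg Subtype.val this
    rcases hx2 with rfl | rfl
    · exact one_mem _
    · rw [hz, commutator_def]
      exact Subgroup.commutator_mem_commutator (Subgroup.mem_top _) (Subgroup.mem_top _)
  have hQ : commutator (Matrix.ProjectiveSpecialLinearGroup (Fin 2) F) = ⊤ := by
    have h := commutator_alternatingGroup_eq_top (α := Fin 6) (by simp)
    have h' := congrArg (Subgroup.map e.symm.toMonoidHom) h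
    rwa [commutator_def, Subgroup.map_commutator,
      Subgroup.map_top_of_surjective _ e.symm.surjective, ← commutator_def] at h'
  exact CfsgLib.KnownA.AltSixSeven.multiplier_of_double_cover π hs (by rw [hker, hcard]) hQ
    (CfsgLib.KnownA.AltSixSeven.multiplier_of_equiv (Or.inl rfl) e.symm).1

end Cfsg.Agent.S2118
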