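import Cfsg.Statements.S5957

set_option autoImplicit false
open scoped MatrixGroups
open Cfsg

namespace CfsgLib.ThreeTransp.InvolDecomp

/-- An invariant set of prescribed size for an involution. -/
theorem exists_invariant {α : Type*} [DecidableEq α] (π : α → α) (hπ : Function.Involutive π) :
    ∀ (k : ℕ) (U : Finset α), (∀ x ∈ U, π x ∈ U) → k ≤ U.card → (Even k ∨ ∃ x ∈ U, π x = x) →
      ∃ S ⊆ U, S.card = k ∧ ∀ x ∈ S, π x ∈ S := by
  intro k
  induction k using Nat.strong_induction_on with
  | _ k ih =>
    intro U hU hk hp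
    rcases k with _ | _ | k
    · exact ⟨∅, Finset.empty_subset _, rfl, by simp⟩
    · obtain ⟨x, hx, hfix⟩ := hp.resolve_left (by simp)
      exact ⟨{x}, by simpa using hx, by simp, by simp [hfix]⟩
    · obtain ⟨S, hSU, hSc, hS⟩ := ih k (by omega) U hU (by omega)
        (hp.imp (fun h => by simpa [Nat.even_add] using h) id)
      have hc : ∀ y ∈ U \ S, π y ∈ U \ S := fun y hy => by
        rw [Finset.mem_sdiff] at hy ⊢
        exact ⟨hU y hy.1, fun h => hy.2 (hπ y ▸ hS _ h)⟩
      have hcard : 1 < (U \ S).card := by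
        rw [Finset.card_sdiff_of_subset hSU]; omega
      obtain ⟨T, hTU, hTc, hT⟩ : ∃ T ⊆ U \ S, T.card = 2 ∧ ∀ z ∈ T, π z ∈ T := by
        by_cases h : ∃ x ∈ U \ S, π x ≠ x
        · obtain ⟨x, hx, hne⟩ := h
          refine ⟨{x, π x}, ?_, Finset.card_pair (Ne.symm hne), ?_⟩
          · simp [Finset.insert_subset_iff, hx, hc x hx]
          · intro z hz
            rcases Finset.mem_insert.1 hz with rfl | hz
            · simp
            · rw [Finset.mem_singleton.1 hz, hπ x]; simp
        · push Not at h
          obtain ⟨T, hTU, hTc⟩ := Finset.exists_subset_card_eq (Nat.succ_le_of_lt hcard)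
          exact ⟨T, hTU, hTc, fun z hz => (h z (hTU hz)).symm ▸ hz⟩
      refine ⟨S ∪ T, Finset.union_subset hSU (hTU.trans Finset.sdiff_subset), ?_, ?_⟩
      · rw [Finset.card_union_of_disjoint, hSc, hTc]
        exact Finset.disjoint_left.2 fun z hz hz' => (Finset.mem_sdiff.1 (hTU hz')).2 hz
      · intro z hz
        rcases Finset.mem_union.1 hz with h | h
        · exact Finset.mem_union_left _ (hS z h)
        · exact Finset.mem_union_right _ (hT z h)

/-- A set disjoint from its image, for an involution without fixed points. -/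
theorem exists_half {α : Type*} [DecidableEq α] (π : α → α) (hπ : Function.Involutive π)
    (U : Finset α) (hU : ∀ x ∈ U, π x ∈ U) (hne : ∀ x ∈ U, π x ≠ x) :
    ∀ k : ℕ, 2 * k ≤ U.card → ∃ S ⊆ U, S.card = k ∧ ∀ x ∈ S, π x ∉ S := by
  intro k
  induction k with
  | zero => exact fun _ => ⟨∅, Finset.empty_subset _, rfl, by simp⟩
  | succ k ih =>
    intro hk
    obtain ⟨S, hSU, hSc, hS⟩ := ih (by omega)
    obtain ⟨x, hxU, hx⟩ : ∃ x ∈ U, x ∉ S ∪ S.image π :=
      Finset.exists_mem_notMem_of_card_lt_card (lt_of_le_of_lt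
        ((Finset.card_union_le _ _).trans (Nat.add_le_add le_rfl Finset.card_image_le)) (by omega))
    rw [Finset.notMem_union] at hx
    have hpx : π x ∉ S := fun h => hx.2 (Finset.mem_image.2 ⟨π x, h, hπ x⟩)
    refine ⟨insert x S, Finset.insert_subset hxU hSU, by rw [Finset.card_insert_of_notMem hx.1, hSc], ?_⟩
    intro y hy hy'
    rcases Finset.mem_insert.1 hy with rfl | hy <;> rcases Finset.mem_insert.1 hy' with h | h
    · exact hne _ hxU h
    · exact hpx h
    · exact hpx (by rw [← h, hπ y]; exact hy)
    · exact hS y hy h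

/-- Equal blocks permuted by an involution. -/
theorem exists_blocks {α : Type*} [DecidableEq α] (π : α → α) (hπ : Function.Involutive π)
    {a : ℕ} (ha : 1 ≤ a) :
    ∀ (t : ℕ) (U : Finset α), (∀ x ∈ U, π x ∈ U) → U.card = a * t →
      ∃ (f : α → ℕ) (σ : ℕ → ℕ), (∀ x ∈ U, f x < t) ∧ (∀ j < t, (U.filter fun x => f x = j).card = a) ∧
        (∀ j < t, σ j < t ∧ σ (σ j) = j) ∧ ∀ x ∈ U, f (π x) = σ (f x) := by
  intro t
  induction t using Nat.strong_induction_on with
  | _ t ih =>
    intro U hU hcard
    rcases Nat.eq_zero_or_pos t with rfl | htpos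
    · have : U = ∅ := Finset.card_eq_zero.1 (by omega)
      exact ⟨fun _ => 0, id, by simp [this], by omega, by omega, by simp [this]⟩
    by_cases hp : Even a ∨ ∃ x ∈ U, π x = x
    · obtain ⟨t, rfl⟩ : ∃ t', t = t' + 1 := ⟨t - 1, by omega⟩
      obtain ⟨S, hSU, hSc, hS⟩ := exists_invariant π hπ a U hU (by rw [hcard]; exact Nat.le_mul_of_pos_right _ htpos) hp
      have hU' : ∀ x ∈ U \ S, π x ∈ U \ S := fun y hy => by
        rw [Finset.mem_sdiff] at hy ⊢
        exact ⟨hU y hy.1, fun h => hy.2 (hπ y ▸ hS _ h)⟩
      obtain ⟨f, σ, hf, hfc, hσ, hfσ⟩ := ih t (by omega) (U \ S) hU'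
        (by rw [Finset.card_sdiff_of_subset hSU, hSc, hcard, Nat.mul_succ]; omega)
      refine ⟨fun x => if x ∈ S then t else f x, fun j => if j < t then σ j else j, ?_, ?_, ?_, ?_⟩
      · intro x hx
        by_cases h : x ∈ S
        · simp [h]
        · have := hf x (by simp [hx, h]); simp [h]; omega
      · intro j hj
        rcases Nat.lt_or_eq_of_le (Nat.le_of_lt_succ hj) with hj' | rfl
        · rw [← hfc j hj']
          congr 1
          ext x
          simp only [Finset.mem_filter, Finset.mem_sdiff]
          by_cases h : x ∈ S <;> simp [h]; omega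
        · rw [← hSc]
          congr 1
          ext x
          simp only [Finset.mem_filter]
          by_cases h : x ∈ S
          · simp [h, hSU h]
          · simp only [h, if_false, iff_false, not_and]
            intro hx; exact (hf x (by simp [hx, h])).ne
      · intro j hj
        by_cases h : j < t
        · obtain ⟨h1, h2⟩ := hσ j h
          simp [h, h1, h2]; omega
        · simp [h]; omega
      · intro x hx
        by_cases h : x ∈ S
        · simp [h, hS x h]
        · have hm : x ∈ U \ S := by simp [hx, h]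
          have hn := (Finset.mem_sdiff.1 (hU' x hm)).2
          simp [h, hn, hf x hm, hfσ x hm]
    · push Not at hp
      obtain ⟨hodd, hne⟩ := hp
      have heven : Even U.card := by
        by_contra h
        -- an involution of a set of odd size has a fixed point
        obtain ⟨S, hSU, hSc, hS⟩ := exists_invariant π hπ (U.card - 1) U hU (by omega)
          (Or.inl (Nat.Odd.sub_odd (Nat.not_even_iff_odd.1 h) odd_one))
        obtain ⟨z, hz⟩ := Finset.card_eq_one.1 (show (U \ S).card = 1 by
          rw [Finset.card_sdiff_of_subset hSU, hSc]; have := Nat.not_even_iff_odd.1 h; have := this.pos; omega)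
        have hzm : z ∈ U \ S := hz ▸ Finset.mem_singleton_self z
        rw [Finset.mem_sdiff] at hzm
        have : π z ∈ U \ S := Finset.mem_sdiff.2 ⟨hU z hzm.1, fun h => hzm.2 (hπ z ▸ hS _ h)⟩
        rw [hz, Finset.mem_singleton] at this
        exact hne z hzm.1 this
      have ht2 : 2 ≤ t := by
        by_contra h
        have : t = 1 := by omega
        rw [hcard, this, mul_one] at heven
        exact hodd heven
      obtain ⟨t, rfl⟩ : ∃ t', t = t' + 2 := ⟨t - 2, by omega⟩
      obtain ⟨S, hSU, hSc, hS⟩ := exists_half π hπ U hU hne a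
        (by rw [hcard, Nat.mul_comm 2]; exact Nat.mul_le_mul_left _ (by omega))
      set T := S.image π with hT
      have hTU : T ⊆ U := Finset.image_subset_iff.2 fun x hx => hU x (hSU hx)
      have hTc : T.card = a := by rw [hT, Finset.card_image_of_injective _ hπ.injective, hSc]
      have hmem : ∀ x, π x ∈ T ↔ x ∈ S := fun x =>
        ⟨fun h => by obtain ⟨y, hy, e⟩ := Finset.mem_image.1 h; exact hπ.injective e ▸ hy, Finset.mem_image_of_mem π⟩
      have hmem' : ∀ x, π x ∈ S ↔ x ∈ T := fun x => by rw [← hmem, hπ x]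
      have hdis : Disjoint S T := Finset.disjoint_left.2 fun x hx hx' => hS x hx ((hmem' x).2 hx')
      have hST : S ∪ T ⊆ U := Finset.union_subset hSU hTU
      have hU' : ∀ x ∈ U \ (S ∪ T), π x ∈ U \ (S ∪ T) := fun y hy => by
        simp only [Finset.mem_sdiff, Finset.mem_union, hmem, hmem'] at hy ⊢
        exact ⟨hU y hy.1, fun h => hy.2 h.symm⟩
      obtain ⟨f, σ, hf, hfc, hσ, hfσ⟩ := ih t (by omega) (U \ (S ∪ T)) hU'
        (by rw [Finset.card_sdiff_of_subset hST, Finset.card_union_of_disjoint hdis, hSc, hTc, hcard, Nat.mul_add]; omega)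
      refine ⟨fun x => if x ∈ S then t else if x ∈ T then t + 1 else f x,
        fun j => if j < t then σ j else if j = t then t + 1 else t, ?_, ?_, ?_, ?_⟩
      · intro x hx
        by_cases h : x ∈ S
        · simp [h]
        by_cases h' : x ∈ T
        · simp [h, h']
        · have := hf x (by simp [hx, h, h']); simp [h, h']; omega
      · intro j hj
        rcases (show j < t ∨ j = t ∨ j = t + 1 by omega) with hj' | rfl | rfl
        · rw [← hfc j hj']
          congr 1
          ext x
          simp only [Finset.mem_filter, Finset.mem_sdiff, Finset.mem_union]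
          by_cases h : x ∈ S
          · simp [h]; omega
          by_cases h' : x ∈ T <;> simp [h, h']; omega
        · rw [← hSc]
          congr 1
          ext x
          simp only [Finset.mem_filter]
          by_cases h : x ∈ S
          · simp [h, hSU h]
          by_cases h' : x ∈ T
          · simp [h, h']
          · simp only [h, h', if_false, iff_false, not_and]
            intro hx; exact (hf x (by simp [hx, h, h'])).ne
        · rw [← hTc]
          congr 1
          ext x
          simp only [Finset.mem_filter]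
          by_cases h : x ∈ S
          · simp [h, Finset.disjoint_left.1 hdis h]
          by_cases h' : x ∈ T
          · simp [h, h', hTU h']
          · simp only [h, h', if_false, iff_false, not_and]
            intro hx; have := hf x (by simp [hx, h, h']); omega
      · intro j hj
        by_cases h : j < t
        · obtain ⟨h1, h2⟩ := hσ j h
          simp [h, h1, h2]; omega
        · rcases (show j = t ∨ j = t + 1 by omega) with rfl | rfl <;> simp
      · intro x hx
        by_cases h : x ∈ S
        · simp [h, (hmem x).2 h, hS x h]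
        by_cases h' : x ∈ T
        · simp [h, h', (hmem' x).2 h']
        · have hm : x ∈ U \ (S ∪ T) := by simp [hx, h, h']
          simp [h, h', hmem, hmem', hf x hm, hfσ x hm]

/-- An operator with scalar square is monomial along an involution in a suitable basis. -/
theorem exists_monomial {F : Type*} [Field F] {V : Type*} [AddCommGroup V] [Module F V] [FiniteDimensional F V]
    (f : Module.End F V) (z : F) (hz : z ≠ 0) (hf : ∀ v, f (f v) = z • v) :
    ∀ (n : ℕ) (W : Submodule F V), (∀ w ∈ W, f w ∈ W) → Module.finrank F W = n →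
      ∃ (b : Fin n → V) (π : Fin n → Fin n) (c : Fin n → F), Function.Involutive π ∧ LinearIndependent F b ∧
        Submodule.span F (Set.range b) = W ∧ ∀ i, c i ≠ 0 ∧ f (b i) = c i • b (π i) := by
  intro n
  induction n using Nat.strong_induction_on with
  | _ n ih =>
    intro W hW hn
    have hfne : ∀ v, v ≠ 0 → f v ≠ 0 := fun v hv h => by
      have := hf v; rw [h, map_zero] at this
      exact hv ((smul_eq_zero.1 this.symm).resolve_left hz)
    by_cases hall : ∀ v ∈ W, ∃ c : F, f v = c • v
    · let B := Module.finBasisOfFinrankEq F W hn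
      have hex : ∀ i, ∃ c : F, f (B i : V) = c • (B i : V) := fun i => hall _ (B i).2
      choose c hc using hex
      refine ⟨fun i => (B i : V), id, c, fun _ => rfl,
        B.linearIndependent.map' W.subtype W.ker_subtype, ?_, fun i => ⟨fun h0 => ?_, hc i⟩⟩
      · rw [show (fun i => (B i : V)) = W.subtype ∘ B from rfl, Set.range_comp, ← Submodule.map_span, B.span_eq,
          Submodule.map_top, Submodule.range_subtype]
      · refine hfne (B i : V) ?_ (by rw [hc i, h0, zero_smul])
        simpa using B.ne_zero i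
    push Not at hall
    obtain ⟨v, hvW, hv⟩ := hall
    have hli : LinearIndependent F ![v, f v] := by
      have hv0 : v ≠ 0 := fun h => hv 0 (by rw [h, map_zero, smul_zero])
      exact (LinearIndependent.pair_iff' hv0).2 fun a ha => hv a ha.symm
    -- a functional equal to one at `v` and vanishing at `f v`
    obtain ⟨φ, hφv, hφf⟩ : ∃ φ : Module.Dual F V, φ v = 1 ∧ φ (f v) = 0 := by
      obtain ⟨g, hg⟩ := LinearMap.exists_extend ((Finsupp.linearCombination F ![(1 : F), 0]).comp hli.repr)
      refine ⟨g, ?_, ?_⟩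
      · have := LinearMap.congr_fun hg ⟨![v, f v] 0, Submodule.subset_span ⟨0, rfl⟩⟩
        rw [LinearMap.comp_apply, LinearMap.comp_apply,
          hli.repr_eq_single 0 ⟨![v, f v] 0, Submodule.subset_span ⟨0, rfl⟩⟩ rfl] at this
        simpa using this
      · have := LinearMap.congr_fun hg ⟨![v, f v] 1, Submodule.subset_span ⟨1, rfl⟩⟩
        rw [LinearMap.comp_apply, LinearMap.comp_apply,
          hli.repr_eq_single 1 ⟨![v, f v] 1, Submodule.subset_span ⟨1, rfl⟩⟩ rfl] at this
        simpa using this
    let W' : Submodule F V := W ⊓ (LinearMap.ker φ ⊓ LinearMap.ker (φ.comp f))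
    have hW' : ∀ w ∈ W', f w ∈ W' := fun w hw => by
      obtain ⟨h1, h2, h3⟩ := hw
      refine ⟨hW w h1, by simpa using h3, ?_⟩
      simp only [SetLike.mem_coe, LinearMap.mem_ker, LinearMap.comp_apply, hf, map_smul] at h2 ⊢
      rw [h2, smul_zero]
    let P : Submodule F V := Submodule.span F (Set.range ![v, f v])
    have hPW : P ≤ W := by
      rw [Submodule.span_le, Set.range_subset_iff]
      intro i; fin_cases i <;> simp [hvW, hW v hvW]
    have hdis : Disjoint P W' := by
      rw [Submodule.disjoint_def]
      intro x hx hx'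
      rw [Submodule.mem_span_range_iff_exists_fun] at hx
      obtain ⟨co, rfl⟩ := hx
      obtain ⟨-, h2, h3⟩ := hx'
      simp [Fin.sum_univ_two, map_add, map_smul, hf, hφv, hφf, hz] at h2 h3 ⊢
      simp [h2, h3]
    have hsup : P ⊔ W' = W := by
      refine le_antisymm (sup_le hPW inf_le_left) fun w hw => ?_
      refine Submodule.mem_sup.2 ⟨φ w • v + (φ (f w) * z⁻¹) • f v, ?_, w - (φ w • v + (φ (f w) * z⁻¹) • f v), ?_, by abel⟩
      · exact add_mem (Submodule.smul_mem _ _ (Submodule.subset_span ⟨0, rfl⟩))
          (Submodule.smul_mem _ _ (Submodule.subset_span ⟨1, rfl⟩))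
      · refine ⟨sub_mem hw (add_mem (W.smul_mem _ hvW) (W.smul_mem _ (hW v hvW))), ?_, ?_⟩
        · simp [map_sub, map_add, map_smul, hφv, hφf]
        · simp [map_sub, map_add, map_smul, hf, hφv, hφf, hz]
    have hdim : Module.finrank F W' + 2 = n := by
      have h := Submodule.finrank_sup_add_finrank_inf_eq P W'
      rw [hsup, hdis.eq_bot, hn, finrank_bot] at h
      have hP : Module.finrank F P = 2 := by rw [finrank_span_eq_card hli, Fintype.card_fin]
      omega
    obtain ⟨m, rfl⟩ : ∃ m, n = m + 2 := ⟨_, hdim.symm⟩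
    obtain ⟨b, π, c, hπ, hb, hbs, hbc⟩ := ih m (by omega) W' hW' (by omega)
    let e : Fin (m + 2) ≃ Fin m ⊕ Fin 2 := finSumFinEquiv.symm
    let π₀ : Fin m ⊕ Fin 2 → Fin m ⊕ Fin 2 := Sum.map π (Equiv.swap 0 1)
    refine ⟨Sum.elim b ![v, f v] ∘ e, fun i => e.symm (π₀ (e i)), fun i => Sum.elim c ![1, z] (e i), ?_, ?_, ?_, ?_⟩
    · intro i
      have h0 : ∀ y, π₀ (π₀ y) = y := by rintro (j | j) <;> simp [π₀, hπ _]
      simp [h0]
    · rw [linearIndependent_equiv e]
      refine hb.sum_type hli ?_
      rw [hbs]; exact hdis.symm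
    · rw [Set.range_comp, e.surjective.range_eq, Set.image_univ, Set.Sum.elim_range, Submodule.span_union, hbs,
        sup_comm]
      exact hsup
    · intro i
      simp only [π₀, Function.comp_apply, Equiv.apply_symm_apply]
      rcases e i with j | j
      · simpa using hbc j
      · fin_cases j <;> simp [hf, hz]

end CfsgLib.ThreeTransp.InvolDecomp

namespace Cfsg.Agent.S5957

/-- Involutions of PSL_n(q) and imprimitive subgroups. Here `T = PSL_n(F)` for a field `F` with `q = p^f` elements (`n ≥ 2`, `(n, q) ≠ (2, 2), (2, 3)`), `n = a·t` with `t ≥ 2`, and Ω is the set of direct-sum decompositions of `F^n` into `t` subspaces of dimension `a` (unordered; their number is the number of ordered ones divided by `t!`), whose stabilizers are the imprimitive subgroups of type GL_a(q) ≀ S_t (maximal except in some small cases; maximality is not assumed); an element of `T` of prime order `r` (a matrix `x` of determinant 1 with `x^r` scalar, `x` not scalar) fixes a point of Ω when it permutes the summands of some such decomposition. If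 the number of such decompositions is even, then every involution of `T` stabilizes one of them (the action is 2-elusive). -/
theorem result {F : Type*} [Field F] [Fintype F] {p : ℕ} [Fact p.Prime] [CharP F p] {q : ℕ} (hq : Fintype.card F = q)
    (n a t : ℕ) (hn : 2 ≤ n) (hT : (n, q) ≠ (2, 2) ∧ (n, q) ≠ (2, 3)) (hat : n = a * t) (ha : 1 ≤ a) (ht : 2 ≤ t)
    (hΩ : 2 ∣ Nat.card {D : Fin t → Submodule F (Fin n → F) // Cfsg.Geo.IsMDecomposition a D} / Nat.factorial t)
    (x : Matrix.SpecialLinearGroup (Fin n) F)
    (hx1 : ∃ z : F, ((x ^ 2 : Matrix.SpecialLinearGroup (Fin n) F) : Matrix (Fin n) (Fin n) F) = z • (1 : Matrix (Fin n) (Fin n) F))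
    (hx2 : ∀ z : F, (x : Matrix (Fin n) (Fin n) F) ≠ z • (1 : Matrix (Fin n) (Fin n) F)) :
    ∃ D : Fin t → Submodule F (Fin n → F), Cfsg.Geo.IsMDecomposition a D ∧
        ∃ σ : Equiv.Perm (Fin t), ∀ j, (D j).map (Matrix.toLin' (x : Matrix (Fin n) (Fin n) F)) = D (σ j) := by
  open CfsgLib.ThreeTransp.InvolDecomp in
  classical
  obtain ⟨z, hz⟩ := hx1
  rw [Matrix.SpecialLinearGroup.coe_pow] at hz
  have hz0 : z ≠ 0 := by
    intro h
    have hd : ((x : Matrix (Fin n) (Fin n) F) ^ 2).det = 1 := by rw [Matrix.det_pow, x.2, one_pow]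
    rw [hz, h, zero_smul, @Matrix.det_zero _ _ _ _ _ ⟨⟨0, by omega⟩⟩] at hd
    exact zero_ne_one hd
  have hf : ∀ v, Matrix.toLin' (x : Matrix (Fin n) (Fin n) F) (Matrix.toLin' (x : Matrix (Fin n) (Fin n) F) v) = z • v := by
    intro v
    rw [← Matrix.toLin'_mul_apply, ← pow_two, hz, map_smul, Matrix.toLin'_one]
    rfl
  obtain ⟨b, π, c, hπ, hb, hbs, hbc⟩ := exists_monomial _ z hz0 hf n ⊤ (fun _ _ => Submodule.mem_top)
    (by rw [finrank_top, Module.finrank_fin_fun])
  obtain ⟨g, σ, hg, hgc, hσ, hgσ⟩ := exists_blocks π hπ ha t Finset.univ (by simp) (by simp [hat])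
  let g' : Fin n → Fin t := fun i => ⟨g i, hg i (Finset.mem_univ i)⟩
  let s : Fin t → Fin t := fun j => ⟨σ j, (hσ j j.2).1⟩
  have hs : Function.Involutive s := fun j => Fin.ext (hσ j j.2).2
  have hgs : ∀ i, g' (π i) = s (g' i) := fun i => Fin.ext (hgσ i (Finset.mem_univ i))
  let D : Fin t → Submodule F (Fin n → F) := fun j => Submodule.span F (b '' (g' ⁻¹' {j}))
  refine ⟨D, ⟨ht, ha, fun j => ?_, ?_, ?_⟩, hs.toPerm s, fun j => ?_⟩
  · have hli : LinearIndepOn F id (b '' (g' ⁻¹' {j})) :=
      ((hb.linearIndepOn Set.univ).id_image).mono (Set.image_mono (Set.subset_univ _))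
    have hcard : (g' ⁻¹' {j}).ncard = a := by
      rw [Set.ncard_eq_toFinset_card', ← hgc j j.2]
      congr 1
      ext i
      simp [g', Fin.ext_iff]
    haveI : Fintype (b '' (g' ⁻¹' {j})) := Fintype.ofFinite _
    show Module.finrank F (Submodule.span F (b '' (g' ⁻¹' {j}))) = a
    rw [finrank_span_set_eq_card hli, ← Set.ncard_eq_toFinset_card', Set.ncard_image_of_injective _ hb.injective, hcard]
  · intro j
    refine (hb.disjoint_span_image (s := g' ⁻¹' {j}) (t := g' ⁻¹' {k | k ≠ j}) ?_).mono_right
      (iSup₂_le fun k hk => Submodule.span_mono (Set.image_mono fun i hi => ?_))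
    · exact Set.disjoint_left.2 fun i hi hi' => hi' hi
    · simpa [Set.mem_singleton_iff.1 hi] using hk
  · rw [eq_top_iff, ← hbs, Submodule.span_le, Set.range_subset_iff]
    exact fun i => Submodule.mem_iSup_of_mem (g' i) (Submodule.subset_span ⟨i, rfl, rfl⟩)
  · show (Submodule.span F (b '' (g' ⁻¹' {j}))).map _ = Submodule.span F (b '' (g' ⁻¹' {s j}))
    rw [Submodule.map_span]
    refine le_antisymm (Submodule.span_le.2 ?_) (Submodule.span_le.2 ?_)
    · rintro _ ⟨_, ⟨i, hi, rfl⟩, rfl⟩
      rw [SetLike.mem_coe, (hbc i).2]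
      exact Submodule.smul_mem _ _ (Submodule.subset_span ⟨π i, by simp [hgs, Set.mem_singleton_iff.1 hi], rfl⟩)
    · rintro _ ⟨i, hi, rfl⟩
      have hi' : π i ∈ g' ⁻¹' {j} := by simp [hgs, Set.mem_singleton_iff.1 hi, hs j]
      have h := Submodule.subset_span (R := F) (Set.mem_image_of_mem (Matrix.toLin' (x : Matrix (Fin n) (Fin n) F)) (Set.mem_image_of_mem b hi'))
      rw [(hbc (π i)).2, hπ i] at h
      simpa using (Submodule.smul_mem_iff _ (hbc (π i)).1).1 h

end Cfsg.Agent.S5957

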