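import Cfsg.Statements.S3189
import Cfsg.Agent.Lib.EightSolvCent.Main
import Cfsg.Agent.Lib.Involutions.Isolated
import Cfsg.Agent.Lib.Involutions.ZStar.Main

set_option autoImplicit false
open Cfsg

namespace Cfsg.Agent.S3189

/-- Let G be a non-abelian finite simple group whose Sylow 2-subgroup S is elementary abelian of order 8, and suppose the centralizer of every involution of G is solvable. Then the normalizer of S modulo the centralizer of S has order 7. -/
theorem result {G : Type*} [Group G] [Finite G]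
    [IsSimpleGroup G] (hG : ¬ IsMulCommutative G) (S : Sylow 2 G)
    (hS : Cfsg.IsElementaryAbelian 2 (S : Subgroup G)) (hS8 : Nat.card ↥(S : Subgroup G) = 8)
    (hC : ∀ t : G, orderOf t = 2 → Group.IsSolvable ↥(Subgroup.centralizer ({t} : Set G))) :
    (Subgroup.centralizer ((S : Subgroup G) : Set G)).relIndex (Subgroup.normalizer ((S : Subgroup G) : Set G)) = 7 := by
  classical
  haveI : Fact (Nat.Prime 2) := ⟨Nat.prime_two⟩
  set P : Subgroup G := (S : Subgroup G) with hPdef
  haveI : IsMulCommutative P := hS.1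
  set A := P.normalizerMonoidHom.range with hA
  have hrel : (Subgroup.centralizer (P : Set G)).relIndex (Subgroup.normalizer (P : Set G)) =
      Nat.card A := by
    rw [hA, ← Subgroup.index_ker, Subgroup.normalizerMonoidHom_ker]
    rfl
  have hPC : P ≤ Subgroup.centralizer (P : Set G) := fun x hx =>
    Subgroup.mem_centralizer_iff.2 fun y hy =>
      congrArg Subtype.val (hS.1.is_comm.comm ⟨y, hy⟩ ⟨x, hx⟩)
  have hodd : Odd (Nat.card A) := by
    rw [← hrel, ← Nat.not_even_iff_odd, even_iff_two_dvd]
    exact fun hd => S.not_dvd_index (hd.trans ((Dvd.intro _ (Subgroup.relIndex_mul_index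
      (Subgroup.centralizer_le_normalizer _))).trans (Subgroup.index_dvd_of_le hPC)))
  have hsq : ∀ s : P, s * s = 1 := fun s => Subtype.ext (by
    have := hS.2 (s : G) s.2
    rw [sq] at this
    exact this)
  have hord : ∀ v : P, v ≠ 1 → orderOf (v : G) = 2 := fun v hv =>
    orderOf_eq_prime (hS.2 (v : G) v.2) fun e => hv (Subtype.ext e)
  have hfix : ∀ v : P, v ≠ 1 → ∃ a : A, a • v ≠ v := by
    intro v hv
    by_contra hno
    push Not at hno
    have hiso : Cfsg.IsIsolatedInvolution (v : G) := by
      refine CfsgLib.Involutions.isolated_of_sylow S (hord v hv) fun g hg => ?_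
      obtain ⟨n, hn, he⟩ := Sylow.conj_eq_normalizer_conj_of_mem S (v : G) g⁻¹ v.2
        (by rwa [inv_inv])
      rw [inv_inv] at he
      rw [he]
      have h := congrArg Subtype.val
        (hno ⟨P.normalizerMonoidHom ⟨n⁻¹, inv_mem hn⟩, ⟨_, rfl⟩⟩)
      have h' : n⁻¹ * (v : G) * n⁻¹⁻¹ = (v : G) := h
      rwa [inv_inv] at h'
    have h2 : 2 ∣ Nat.card G := by
      rw [← hord v hv]; exact orderOf_dvd_natCard _
    have hO : Cfsg.oddCore G = ⊥ := by
      rcases IsSimpleGroup.eq_bot_or_eq_top_of_normal (Cfsg.oddCore G) inferInstance with e | e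
      · exact e
      · exact absurd (CfsgLib.Base.oddCore_eq_top_iff.1 e)
          (Nat.not_odd_iff_even.2 (even_iff_two_dvd.2 h2))
    have hc := CfsgLib.Involutions.ZStar.mem_center_of_oddCore_eq_bot hiso hO
    rcases IsSimpleGroup.eq_bot_or_eq_top_of_normal (Subgroup.center G) inferInstance with e | e
    · rw [e, Subgroup.mem_bot] at hc
      exact hv (Subtype.ext hc)
    · exact hG ⟨⟨fun a b => (Subgroup.mem_center_iff.1 (e ▸ Subgroup.mem_top a) b).symm⟩⟩
  obtain ⟨htrans, hcard⟩ := CfsgLib.EightSolvCent.transitive hS8 hsq A hodd hfix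
  rcases hcard with h7 | hstab
  · exact hrel.trans h7
  · exfalso
    obtain ⟨t, ht⟩ := exists_prime_orderOf_dvd_card' (G := P) 2 (by rw [hS8]; norm_num)
    have ht' : orderOf (t : G) = 2 := by rw [Subgroup.orderOf_coe, ht]
    obtain ⟨D⟩ := CfsgLib.EightSolvCent.exists_octCent S hS hS8 t.2 ht' (hC _ ht') htrans hstab hodd
    exact D.false_of_simple

end Cfsg.Agent.S3189
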