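import Cfsg.Statements.S0016
import Cfsg.Agent.Lib.PGroups.UniqueOrderP

set_option autoImplicit false
open Cfsg

namespace Cfsg.Agent.S0016

/-- A finite p-group in which only one subgroup has order p is either cyclic or (with p = 2) isomorphic to a generalized quaternion group. -/
theorem result {G : Type*} [Group G] [Finite G] (p : ℕ) [Fact p.Prime]
    (hG : IsPGroup p G) (huniq : ∀ H K : Subgroup G, Nat.card H = p → Nat.card K = p → H = K) :
    IsCyclic G ∨ (p = 2 ∧ ∃ n : ℕ, Nonempty (G ≃* QuaternionGroup (2 ^ n))) := by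
  have hp : p.Prime := Fact.out
  rcases subsingleton_or_nontrivial G with h | h
  · exact Or.inl isCyclic_of_subsingleton
  obtain ⟨n, hn0, hn⟩ := hG.nontrivial_iff_card.mp h
  obtain ⟨z, hz⟩ := exists_prime_orderOf_dvd_card' (G := G) p (hn ▸ dvd_pow_self p hn0.ne')
  have huq : ∀ y, y ^ p = 1 → y ∈ Subgroup.zpowers z := by
    intro y hy
    rcases eq_or_ne y 1 with rfl | hy1
    · exact one_mem _
    · have := huniq (Subgroup.zpowers y) (Subgroup.zpowers z)
        (by rw [Nat.card_zpowers, orderOf_eq_prime hy hy1]) (by rw [Nat.card_zpowers, hz])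
      exact this ▸ Subgroup.mem_zpowers y
  rcases CfsgLib.PGroups.isCyclic_or_quaternion_of_unique hG (z := z) (hz ▸ pow_orderOf_eq_one z)
    huq with h | ⟨h2, n, -, h⟩
  · exact Or.inl h
  · exact Or.inr ⟨h2, n, h⟩

end Cfsg.Agent.S0016
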