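import Cfsg.Statements.S0018
import Cfsg.Agent.Lib.Base.MinimalNormal

set_option autoImplicit false
open Cfsg

namespace Cfsg.Agent.S0018

/-- A finite solvable group whose Sylow p-subgroups are abelian has p-length one: a Sylow p-subgroup together with the largest normal subgroup of order prime to p generates a normal subgroup. -/
theorem result {G : Type*} [Group G] [Finite G] [Group.IsSolvable G]
    (p : ℕ) [Fact p.Prime] (P : Sylow p G) (hP : IsMulCommutative P) :
    ((P : Subgroup G) ⊔ Cfsg.pPrimeCore p G).Normal := by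
  have hbot := CfsgLib.Base.pPrimeCore_quotient_pPrimeCore p G
  set π := QuotientGroup.mk' (Cfsg.pPrimeCore p G) with hπ
  haveI : Group.IsSolvable (G ⧸ Cfsg.pPrimeCore p G) :=
    Group.isSolvable_of_surjective (QuotientGroup.mk'_surjective _)
  let Q := P.mapSurjective (QuotientGroup.mk'_surjective (Cfsg.pPrimeCore p G))
  have hQc : (Q : Subgroup (G ⧸ Cfsg.pPrimeCore p G)) ≤ Subgroup.centralizer ((Q : Subgroup (G ⧸ Cfsg.pPrimeCore p G)) : Set _) := by
    rintro _ ⟨a, ha, rfl⟩
    rw [Subgroup.mem_centralizer_iff]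
    rintro _ ⟨b, hb, rfl⟩
    rw [← map_mul, ← map_mul]
    exact congrArg _ (congrArg Subtype.val
      ((hP.is_comm.comm ⟨b, hb⟩ ⟨a, ha⟩)))
  have hQ : (Q : Subgroup (G ⧸ Cfsg.pPrimeCore p G)) = Cfsg.pCore p (G ⧸ Cfsg.pPrimeCore p G) := by
    refine le_antisymm ?_ (CfsgLib.Base.pCore_le_sylow Q)
    exact (hQc.trans (Subgroup.centralizer_le (CfsgLib.Base.pCore_le_sylow Q))).trans
      (CfsgLib.Base.centralizer_pCore_le_of_isSolvable hbot)
  rw [← CfsgLib.Base.comap_map_mk' (Cfsg.pPrimeCore p G) (P : Subgroup G)]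
  have hn : ((P : Subgroup G).map π).Normal := by
    show (Q : Subgroup (G ⧸ Cfsg.pPrimeCore p G)).Normal
    rw [hQ]
    infer_instance
  exact hn.comap _

end Cfsg.Agent.S0018
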