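import Cfsg.Statements.S0030
import Cfsg.Agent.Lib.Coprime.Action

set_option autoImplicit false
open Cfsg CfsgLib.Coprime

namespace Cfsg.Agent.S0030

/-- Under coprime action fixed points of a product of two invariant subgroups factor: if K = X Y with X and Y normalised by A then every A-fixed element of K is a product of an A-fixed element of X and an A-fixed element of Y. -/
theorem result {G : Type*} [Group G] [Finite G] (A K : Subgroup G) (hAK : A ≤ Subgroup.normalizer (K : Set G))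
    (hcop : (Nat.card A).Coprime (Nat.card K)) (hsolv : Group.IsSolvable A ∨ Group.IsSolvable K)
    (X Y : Subgroup G) (hX : X ≤ K) (hY : Y ≤ K) (hXA : A ≤ Subgroup.normalizer (X : Set G)) (hYA : A ≤ Subgroup.normalizer (Y : Set G))
    (hXY : ∀ k ∈ K, ∃ x ∈ X, ∃ y ∈ Y, k = x * y) (k : G) (hk : k ∈ K ⊓ Subgroup.centralizer (A : Set G)) :
    ∃ x ∈ X ⊓ Subgroup.centralizer (A : Set G), ∃ y ∈ Y ⊓ Subgroup.centralizer (A : Set G), k = x * y := by
  obtain ⟨hkK, hkC⟩ := hk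
  obtain ⟨x, hx, y, hy, rfl⟩ := hXY k hkK
  have hD : A ≤ Subgroup.normalizer ((X ⊓ Y : Subgroup G) : Set G) := le_normalizer_inf_inf hXA hYA
  have hfix : ∀ a ∈ A, x⁻¹ * (a * x * a⁻¹) ∈ X ⊓ Y := by
    intro a ha
    refine ⟨X.mul_mem (X.inv_mem hx) ((Subgroup.mem_normalizer_iff.mp (hXA ha) x).mp hx), ?_⟩
    have e : a * (x * y) * a⁻¹ = x * y := by
      rw [Subgroup.mem_centralizer_iff.mp hkC a ha]; group
    have h' : x⁻¹ * (a * x * a⁻¹) = y * (a * y * a⁻¹)⁻¹ := by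
      calc x⁻¹ * (a * x * a⁻¹) = x⁻¹ * (a * (x * y) * a⁻¹) * (a * y * a⁻¹)⁻¹ := by group
        _ = y * (a * y * a⁻¹)⁻¹ := by rw [e]; group
    rw [h']
    exact Y.mul_mem hy (Y.inv_mem ((Subgroup.mem_normalizer_iff.mp (hYA ha) y).mp hy))
  have hle : X ⊓ Y ≤ K := inf_le_left.trans hX
  obtain ⟨c, hc, hxc⟩ := exists_centralizing_in_coset hD
    (hcop.coprime_dvd_right (Subgroup.card_dvd_of_le hle)) (hsolv.imp id (isSolvable_of_le hle)) hfix
  refine ⟨c, ⟨by simpa using X.mul_mem hx hxc.1, hc⟩, c⁻¹ * (x * y), ⟨?_, ?_⟩, by group⟩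
  · have := Y.mul_mem (Y.inv_mem hxc.2) hy
    simpa [mul_assoc] using this
  · exact Subgroup.mul_mem _ (Subgroup.inv_mem _ hc) hkC

end Cfsg.Agent.S0030
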