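import Cfsg.Statements.S0031
import Cfsg.Agent.Lib.Coprime.Action

set_option autoImplicit false
open Cfsg CfsgLib.Coprime
open scoped Pointwise

namespace Cfsg.Agent.S0031

/-- A fixed-point-free automorphism of a finite group maps some Sylow p-subgroup to itself. -/
theorem result {G : Type*} [Group G] [Finite G] (φ : G ≃* G)
    (hφ : MonoidHom.FixedPointFree (φ : G →* G)) (p : ℕ) [Fact p.Prime] :
    ∃ P : Sylow p G, (P : Subgroup G).map (φ : G →* G) = P := by
  classical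
  obtain ⟨P₀⟩ : Nonempty (Sylow p G) := inferInstance
  have hP₀ := P₀.2.map (φ : G →* G)
  obtain ⟨P₁, hP₁⟩ := hP₀.exists_le_sylow
  have hP₁eq : (P₀ : Subgroup G).map (φ : G →* G) = P₁ := by
    refine Subgroup.eq_of_le_of_card_ge hP₁ ?_
    rw [P₁.card_eq_multiplicity, ← P₀.card_eq_multiplicity]
    exact (Nat.card_congr (φ.subgroupMap (P₀ : Subgroup G)).toEquiv).le
  obtain ⟨x, hx⟩ := MulAction.exists_smul_eq G P₁ P₀
  have hinj : Function.Injective (fun z : G => z⁻¹ * φ z) := by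
    intro u v huv
    have h : φ (u * v⁻¹) = u * v⁻¹ := by
      rw [map_mul, map_inv]
      calc φ u * (φ v)⁻¹ = u * (u⁻¹ * φ u) * (φ v)⁻¹ := by group
        _ = u * (v⁻¹ * φ v) * (φ v)⁻¹ := by rw [show u⁻¹ * φ u = v⁻¹ * φ v from huv]
        _ = u * v⁻¹ := by group
    exact mul_inv_eq_one.mp (hφ _ h)
  -- `y⁻¹ φ(y) = x`
  obtain ⟨y, hy⟩ := Finite.surjective_of_injective hinj x
  refine ⟨y • P₀, ?_⟩
  rw [Sylow.coe_subgroup_smul, ← conj_smul_map, hP₁eq]
  have hyx : φ y = y * x := by rw [← show y⁻¹ * φ y = x from hy, mul_inv_cancel_left]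
  rw [show MulAut.conj ((φ : G →* G) y) = MulAut.conj (φ y) from rfl, hyx, map_mul, mul_smul,
    ← Sylow.coe_subgroup_smul]
  exact congrArg (fun Q : Sylow p G => MulAut.conj y • (Q : Subgroup G)) hx

end Cfsg.Agent.S0031
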