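import Cfsg.Statements.S0032
import Cfsg.Agent.Lib.Coprime.Action

set_option autoImplicit false
open Cfsg CfsgLib.Coprime

namespace Cfsg.Agent.S0032

/-- If an automorphism of a finite group fixes only the identity and maps a normal subgroup N into itself, then the only cosets of N it fixes are those in N: a fixed coset xN forces x ∈ N. -/
theorem result {G : Type*} [Group G] [Finite G] (φ : G ≃* G)
    (hφ : MonoidHom.FixedPointFree (φ : G →* G)) (N : Subgroup G) [N.Normal] (hN : ∀ n ∈ N, φ n ∈ N)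
    (x : G) (hx : (φ x)⁻¹ * x ∈ N) : x ∈ N := by
  have hinj : Function.Injective (fun z : G => (φ z)⁻¹ * z) := by
    intro u v huv
    have h : φ (v * u⁻¹) = v * u⁻¹ := by
      rw [map_mul, map_inv]
      calc φ v * (φ u)⁻¹ = φ v * ((φ u)⁻¹ * u) * u⁻¹ := by group
        _ = φ v * ((φ v)⁻¹ * v) * u⁻¹ := by rw [show (φ u)⁻¹ * u = (φ v)⁻¹ * v from huv]
        _ = v * u⁻¹ := by group
    exact (mul_inv_eq_one.mp (hφ _ h)).symm
  have hinjN : Function.Injective (fun z : N => (⟨(φ z)⁻¹ * z,
      N.mul_mem (N.inv_mem (hN z z.2)) z.2⟩ : N)) :=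
    fun u v h => Subtype.ext (hinj (congrArg Subtype.val h))
  obtain ⟨n, hn⟩ := Finite.surjective_of_injective hinjN ⟨_, hx⟩
  exact hinj (congrArg Subtype.val hn) ▸ n.2

end Cfsg.Agent.S0032
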