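import Cfsg.Statements.S0041
import Cfsg.Agent.Lib.Base.FPF

set_option autoImplicit false
open Cfsg

namespace Cfsg.Agent.S0041

/-- A group acting on a nontrivial abelian group so that no nonidentity element has a nonidentity fixed point is cyclic, provided it is abelian or its order is a product of two (possibly equal) primes. -/
theorem result {G : Type*} [Group G] [Finite G] (A V : Subgroup G) [IsMulCommutative V]
    (hV : V ≠ ⊥) (hAV : A ≤ Subgroup.normalizer (V : Set G)) (hfpf : ∀ a ∈ A, a ≠ 1 → V ⊓ Subgroup.centralizer {a} = ⊥)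
    (hA : IsMulCommutative A ∨ ∃ p q : ℕ, p.Prime ∧ q.Prime ∧ Nat.card A = p * q) : IsCyclic A := by
  have h : CfsgLib.Base.IsFPF A V := ⟨hAV, hfpf⟩
  rcases hA with hA | ⟨p, q, hp, hq, hcard⟩
  · exact h.isCyclic_of_comm hV
  suffices hAc : IsMulCommutative A from h.isCyclic_of_comm hV
  rcases eq_or_ne p q with rfl | hpq
  · haveI := Fact.mk hp
    exact IsPGroup.isMulCommutative_of_card_eq_prime_sq (p := p) (by rw [hcard, pow_two])
  wlog hlt : q < p generalizing p q with H
  · exact H q p hq hp (by rw [hcard, mul_comm]) (Ne.symm hpq) (lt_of_le_of_ne (not_lt.1 hlt) hpq)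
  haveI := Fact.mk hp
  haveI := Fact.mk hq
  obtain ⟨a, ha⟩ := exists_prime_orderOf_dvd_card' p (G := A) (by rw [hcard]; exact dvd_mul_right p q)
  obtain ⟨b, hb⟩ := exists_prime_orderOf_dvd_card' q (G := A) (by rw [hcard]; exact dvd_mul_left q p)
  have hidx : (Subgroup.zpowers a).index = q := by
    have := (Subgroup.zpowers a).card_mul_index
    rw [Nat.card_zpowers, ha, hcard] at this
    exact Nat.eq_of_mul_eq_mul_left hp.pos this
  haveI hn : (Subgroup.zpowers a).Normal := Subgroup.normal_of_index_eq_minFac_card (by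
    rw [hidx, hcard]
    have hne : p * q ≠ 1 := fun e => hp.one_lt.ne' (Nat.eq_one_of_mul_eq_one_right e)
    refine le_antisymm ?_ (Nat.minFac_le_of_dvd hq.two_le (dvd_mul_left q p))
    rcases (Nat.minFac_prime hne).dvd_mul.1 (Nat.minFac_dvd (p * q)) with hd | hd
    · rw [(Nat.prime_dvd_prime_iff_eq (Nat.minFac_prime hne) hp).1 hd]; omega
    · rw [(Nat.prime_dvd_prime_iff_eq (Nat.minFac_prime hne) hq).1 hd])
  have hnorm : (b : G) ∈ Subgroup.normalizer (Subgroup.zpowers (a : G) : Set G) := by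
    have := Subgroup.le_normalizer_map A.subtype
      (⟨b, by rw [SetLike.mem_coe, Subgroup.normalizer_eq_top_iff.2 hn]; trivial, rfl⟩ :
        (b : G) ∈ (Subgroup.normalizer (Subgroup.zpowers a : Set A)).map A.subtype)
    rwa [MonoidHom.map_zpowers] at this
  have hc : a * b = b * a := Subtype.ext (h.commute_of_prime hV hp hq a.2 b.2
    (by rw [Subgroup.orderOf_coe, ha]) (by rw [Subgroup.orderOf_coe, hb]) hnorm)
  have hgen : Subgroup.zpowers (a * b) = ⊤ := by
    refine Subgroup.eq_top_of_card_eq _ ?_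
    rw [Nat.card_zpowers, hcard, Commute.orderOf_mul_eq_mul_orderOf_of_coprime hc
      (by rw [ha, hb]; exact (Nat.coprime_primes hp hq).2 hpq), ha, hb]
  exact ⟨⟨fun x y => by
    obtain ⟨i, rfl⟩ := Subgroup.mem_zpowers_iff.1 (hgen.ge (Subgroup.mem_top x))
    obtain ⟨j, rfl⟩ := Subgroup.mem_zpowers_iff.1 (hgen.ge (Subgroup.mem_top y))
    exact (Commute.zpow_zpow_self _ i j).eq⟩⟩

end Cfsg.Agent.S0041
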