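import Cfsg.Statements.S0049
import Cfsg.Agent.Lib.Base.Fitting
import Cfsg.Agent.Lib.Base.Frattini

set_option autoImplicit false
open Cfsg

namespace Cfsg.Agent.S0049

/-- A prime divisor of the order of a finite group also divides the index of the Frattini subgroup. -/
theorem result {G : Type*} [Group G] [Finite G] (p : ℕ) (hp : p.Prime) (hdvd : p ∣ Nat.card G) :
    p ∣ (frattini G).index := by
  haveI := Fact.mk hp
  by_contra hnd
  obtain ⟨P⟩ := (inferInstance : Nonempty (Sylow p G))
  -- every p-element lies in the Frattini subgroup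
  have hPle : (P : Subgroup G) ≤ frattini G := by
    rw [← CfsgLib.Base.map_mk'_eq_bot_iff]
    obtain ⟨n, hn⟩ := IsPGroup.iff_card.1 (P.isPGroup'.map (QuotientGroup.mk' (frattini G)))
    refine Subgroup.eq_bot_of_card_eq _ ?_
    cases n with
    | zero => rw [hn, pow_zero]
    | succ n =>
      refine absurd ((dvd_pow_self p n.succ_ne_zero).trans ?_) hnd
      rw [← hn]
      exact Subgroup.card_subgroup_dvd_card _
  haveI : Group.IsNilpotent (frattini G) := frattini_nilpotent
  haveI : (P.subtype hPle : Subgroup (frattini G)).Normal := inferInstance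
  haveI : (P.subtype hPle : Subgroup (frattini G)).Characteristic :=
    Sylow.characteristic_of_normal _ inferInstance
  haveI : (P : Subgroup G).Normal := by
    have h := CfsgLib.Base.normal_map_subtype (P.subtype hPle : Subgroup (frattini G))
    rwa [Sylow.coe_subtype, Subgroup.map_subgroupOf_eq_of_le hPle] at h
  obtain ⟨H, hH⟩ := Subgroup.exists_right_complement'_of_coprime P.card_coprime_index
  have htop : H = ⊤ :=
    CfsgLib.Base.eq_top_of_sup_le_frattini hPle (by rw [sup_comm]; exact hH.sup_eq_top)
  exact P.ne_bot_of_dvd_card hdvd (le_bot_iff.1 (hH.disjoint le_rfl (by rw [htop]; exact le_top)))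

end Cfsg.Agent.S0049
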