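import Cfsg.Statements.S0052
import Cfsg.Agent.Lib.Coprime.Gaschutz

set_option autoImplicit false
open Pointwise
open Cfsg CfsgLib.Coprime

namespace Cfsg.Agent.S0052

/-- Gaschütz's Theorem, conjugacy: for an abelian normal subgroup K ≤ U with the order of K coprime to the index of U, two complements of K in G having the same intersection with U are conjugate. -/
theorem result {G : Type*} [Group G] [Finite G] (K U : Subgroup G) [K.Normal] [IsMulCommutative K]
    (hKU : K ≤ U) (hcop : (Nat.card K).Coprime U.index)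
    (H₀ H₁ : Subgroup G) (h₀ : Subgroup.IsComplement' K H₀) (h₁ : Subgroup.IsComplement' K H₁) (hU : H₀ ⊓ U = H₁ ⊓ U) :
    ∃ g : G, MulAut.conj g • H₀ = H₁ := by
  have hU' : U ⊔ H₀ = ⊤ := top_le_iff.mp (h₀.sup_eq_top.ge.trans (sup_le_sup_right hKU H₀))
  have hd : U.relIndex H₀ = U.index := by
    have hset : (U : Set G) * (H₀ : Set G) = Set.univ := by
      rw [Set.eq_univ_iff_forall]
      intro g
      obtain ⟨k, hk, h, hh, rfl⟩ := Subgroup.mem_sup_of_normal_left.mp
        (h₀.sup_eq_top ▸ Subgroup.mem_top g)
      exact Set.mul_mem_mul (hKU hk) hh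
    refine Nat.card_congr (Equiv.ofBijective
      (Quotient.map' (Subgroup.subtype H₀) fun a b hab => ?_) ⟨?_, ?_⟩)
    · rw [QuotientGroup.leftRel_apply] at hab ⊢
      exact hab
    · intro x y
      induction x using Quotient.inductionOn' with
      | _ x =>
        induction y using Quotient.inductionOn' with
        | _ y =>
          intro hxy
          refine Quotient.sound' ?_
          rw [QuotientGroup.leftRel_apply]
          simp only [Quotient.map'_mk''] at hxy
          have h := QuotientGroup.leftRel_apply.mp (Quotient.exact' hxy :)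
          exact h
    · intro x
      induction x using Quotient.inductionOn' with
      | _ g =>
        obtain ⟨u, hu, h, hh, he⟩ := (Set.eq_univ_iff_forall.mp hset g⁻¹)
        refine ⟨Quotient.mk'' ⟨h⁻¹, H₀.inv_mem hh⟩, Quotient.sound' ?_⟩
        rw [QuotientGroup.leftRel_apply]
        have : h * g = u⁻¹ := eq_inv_of_mul_eq_one_right (by
          rw [← mul_assoc, show u * h = g⁻¹ from he, inv_mul_cancel])
        simpa [this] using hu
  obtain ⟨a, -, ha⟩ := gaschutz_conj K H₀ H₁ U (inf_comm H₀ K ▸ h₀.disjoint.eq_bot)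
    (inf_comm H₁ K ▸ h₁.disjoint.eq_bot) (h₁.sup_eq_top ▸ le_top) (h₀.sup_eq_top ▸ le_top)
    (hU.le.trans inf_le_left) (hd ▸ hcop)
  exact ⟨a, ha⟩

end Cfsg.Agent.S0052
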