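import Cfsg.Statements.S0053
import Cfsg.Agent.Lib.Base.Solvable
import Cfsg.Agent.Lib.Base.Frattini

set_option autoImplicit false
open Cfsg

namespace Cfsg.Agent.S0053

/-- An abelian minimal normal subgroup N of a finite group is complemented exactly when N is not inside the Frattini subgroup. -/
theorem result {G : Type*} [Group G] [Finite G]
    (N : Subgroup G) [N.Normal] [IsMulCommutative N] (hN : N ≠ ⊥)
    (hmin : ∀ M : Subgroup G, M.Normal → M ≤ N → M = ⊥ ∨ M = N) :
    (∃ H : Subgroup G, Subgroup.IsComplement' N H) ↔ ¬ N ≤ frattini G := by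
  constructor
  · rintro ⟨H, hH⟩ hle
    have htop : H = ⊤ := CfsgLib.Base.eq_top_of_sup_le_frattini hle (by rw [sup_comm]; exact hH.sup_eq_top)
    exact hN (le_bot_iff.1 (hH.disjoint le_rfl (by rw [htop]; exact le_top)))
  · intro hle
    obtain ⟨M, hM, hMN⟩ : ∃ M : Subgroup G, IsCoatom M ∧ ¬ N ≤ M := by
      by_contra h
      push Not at h
      exact hle (le_iInf₂ h)
    obtain ⟨h1, h2⟩ :=
      CfsgLib.Base.inf_eq_bot_of_isCoatom hM (N := N) ⟨inferInstance, hN, hmin⟩ hMN
    refine ⟨M, Subgroup.isComplement'_of_disjoint_and_mul_eq_univ ?_ ?_⟩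
    · rw [disjoint_iff, inf_comm, h1]
    · rw [← Subgroup.coe_mul_of_right_le_normalizer_left N M Subgroup.le_normalizer_of_normal,
        sup_comm, h2, Subgroup.coe_top]

end Cfsg.Agent.S0053
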