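import Cfsg.Statements.S0054
import Cfsg.Agent.Lib.Base.Cores

set_option autoImplicit false
open Cfsg

namespace Cfsg.Agent.S0054

/-- A regular normal subgroup of a finite 2-transitive group is elementary abelian: it is commutative and all its elements have order dividing one prime. -/
theorem result {G : Type*} [Group G] [Finite G]
    {X : Type*} [Nonempty X] [MulAction G X] (h2 : MulAction.IsMultiplyPretransitive G X 2)
    (N : Subgroup G) [N.Normal] (htrans : MulAction.IsPretransitive N X) (hreg : ∀ x : X, MulAction.stabilizer N x = ⊥) :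
    IsMulCommutative N ∧ ∃ p : ℕ, p.Prime ∧ ∀ n ∈ N, n ^ p = 1 := by
  classical
  obtain ⟨x⟩ := (inferInstance : Nonempty X)
  have htr : ∀ y : X, ∃ n ∈ N, n • x = y := fun y => by
    obtain ⟨n, hn⟩ := htrans.exists_smul_eq x y
    exact ⟨n, n.2, hn⟩
  have hinj : ∀ n ∈ N, ∀ m ∈ N, n • x = m • x → n = m := by
    intro n hn m hm he
    have h1 : (⟨m⁻¹ * n, N.mul_mem (N.inv_mem hm) hn⟩ : N) ∈ MulAction.stabilizer N x := by
      show (m⁻¹ * n) • x = x
      rw [mul_smul, he, inv_smul_smul]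
    rw [hreg, Subgroup.mem_bot] at h1
    exact (inv_mul_eq_one.1 (congrArg Subtype.val h1)).symm
  have hconj : ∀ n ∈ N, n ≠ 1 → ∀ m ∈ N, m ≠ 1 → ∃ g : G, g * n * g⁻¹ = m := by
    intro n hn hn1 m hm hm1
    have hne : ∀ k ∈ N, k ≠ 1 → x ≠ k • x := fun k hk hk1 e =>
      hk1 (hinj k hk 1 N.one_mem (by rw [one_smul, ← e]))
    obtain ⟨g, h1, h2⟩ := MulAction.is_two_pretransitive_iff.1 h2 (hne n hn hn1) (hne m hm hm1)
    refine ⟨g, hinj _ (Subgroup.Normal.conj_mem inferInstance n hn g) m hm ?_⟩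
    have h3 : g⁻¹ • x = x := by rw [inv_smul_eq_iff, h1]
    rw [mul_smul, mul_smul, h3, h2]
  by_cases hN : N = ⊥
  · subst hN
    exact ⟨⟨⟨fun a b => Subsingleton.elim _ _⟩⟩, 2, Nat.prime_two, fun n hn => by
      rw [Subgroup.mem_bot.1 hn, one_pow]⟩
  haveI : Nontrivial N := (Subgroup.nontrivial_iff_ne_bot N).2 hN
  obtain ⟨p, hp, hd⟩ := Nat.exists_prime_and_dvd (Finite.one_lt_card (α := N)).ne'
  haveI := Fact.mk hp
  obtain ⟨n₀, hn₀⟩ := exists_prime_orderOf_dvd_card' p hd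
  have hn₀1 : (n₀ : G) ≠ 1 := by
    intro e
    rw [show n₀ = 1 from Subtype.ext e, orderOf_one] at hn₀
    exact hp.one_lt.ne hn₀
  have hexp : ∀ n ∈ N, n ^ p = 1 := by
    intro n hn
    rcases eq_or_ne n 1 with rfl | hn1
    · exact one_pow p
    obtain ⟨g, hg⟩ := hconj n₀ n₀.2 hn₀1 n hn hn1
    rw [← hg, conj_pow, show (n₀ : G) ^ p = 1 by
      rw [← hn₀, ← Subgroup.orderOf_coe]; exact pow_orderOf_eq_one _, mul_one, mul_inv_cancel]
  refine ⟨?_, p, hp, hexp⟩
  have hP : IsPGroup p N := fun a => ⟨1, Subtype.ext (by simpa using hexp a a.2)⟩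
  obtain ⟨z, hz, hz1⟩ := (Subgroup.bot_or_exists_ne_one (Subgroup.center N)).resolve_left
    ((Subgroup.nontrivial_iff_ne_bot _).1 hP.center_nontrivial)
  have hz1' : (z : G) ≠ 1 := fun e => hz1 (Subtype.ext e)
  refine ⟨⟨fun a b => ?_⟩⟩
  rcases eq_or_ne (a : G) 1 with ha | ha
  · rw [show a = 1 from Subtype.ext ha, one_mul, mul_one]
  obtain ⟨g, hg⟩ := hconj z z.2 hz1' a a.2 ha
  have hz2 := Subgroup.mem_center_iff.1 hz
    ⟨g⁻¹ * b * g, by simpa using Subgroup.Normal.conj_mem inferInstance (b : G) b.2 g⁻¹⟩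
  have h3 : g⁻¹ * (b : G) * g * z = z * (g⁻¹ * b * g) := congrArg Subtype.val hz2
  refine Subtype.ext ?_
  show (a : G) * b = b * a
  calc (a : G) * b = g * (z * (g⁻¹ * b * g)) * g⁻¹ := by rw [← hg]; group
    _ = g * (g⁻¹ * (b : G) * g * z) * g⁻¹ := by rw [h3]
    _ = b * a := by rw [← hg]; group

end Cfsg.Agent.S0054
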