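import Cfsg.Statements.S0056
import Cfsg.Agent.Lib.Coprime.Action2

set_option autoImplicit false
open Cfsg CfsgLib.Coprime

namespace Cfsg.Agent.S0056

/-- A coprime action on an abelian group that fixes all elements of prime order is trivial. -/
theorem result {G : Type*} [Group G] [Finite G] (A V : Subgroup G) [IsMulCommutative V]
    (hAV : A ≤ Subgroup.normalizer (V : Set G)) (hcop : (Nat.card A).Coprime (Nat.card V))
    (hΩ : ∀ v ∈ V, (orderOf v).Prime → ∀ a ∈ A, a * v = v * a) : A ≤ Subgroup.centralizer (V : Set G) := by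
  have hV : Group.IsSolvable V := Group.isSolvable_of_comm fun u v => mul_comm' u v
  have hbot : ⁅V, A⁆ = ⊥ := by
    by_contra hne
    have h1 : Nat.card (⁅V, A⁆ : Subgroup G) ≠ 1 := fun h => hne (Subgroup.card_eq_one.mp h)
    obtain ⟨r, hr, hrd⟩ := Nat.exists_prime_and_dvd h1
    have := Fact.mk hr
    obtain ⟨⟨v, hv⟩, hov⟩ := exists_prime_orderOf_dvd_card' r hrd
    have hov' : orderOf v = r := (Subgroup.orderOf_coe (⟨v, hv⟩ : (⁅V, A⁆ : Subgroup G))).trans hov
    have hvV : v ∈ V := commutator_le_of_le_normalizer hAV hv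
    have hmem : v ∈ (V ⊓ Subgroup.centralizer (A : Set G)) ⊓ ⁅V, A⁆ :=
      ⟨⟨hvV, Subgroup.mem_centralizer_iff.mpr fun a ha => hΩ v hvV (hov' ▸ hr) a ha⟩, hv⟩
    rw [centralizer_inf_commutator_eq_bot hAV hcop, Subgroup.mem_bot] at hmem
    rw [hmem, orderOf_one] at hov'
    exact hr.one_lt.ne hov'
  exact Subgroup.le_centralizer_iff.mp (Subgroup.commutator_eq_bot_iff_le_centralizer.mp hbot)

end Cfsg.Agent.S0056
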