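import Cfsg.Statements.S0057
import Cfsg.Agent.Lib.Coprime.Action2

set_option autoImplicit false
open Cfsg CfsgLib.Coprime
open scoped Pointwise commutatorElement

namespace Cfsg.Agent.S0057

/-- Under coprime action, if the centraliser of A in K has prime index p in K then the commutator subgroup [K, A] has order exactly p. -/
theorem result {G : Type*} [Group G] [Finite G] (A K : Subgroup G) (hAK : A ≤ Subgroup.normalizer (K : Set G))
    (hcop : (Nat.card A).Coprime (Nat.card K)) (hsolv : Group.IsSolvable A ∨ Group.IsSolvable K)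
    (p : ℕ) (hp : p.Prime) (hidx : (K ⊓ Subgroup.centralizer (A : Set G)).relIndex K = p) :
    Nat.card (⁅K, A⁆ : Subgroup G) = p := by
  have := Fact.mk hp
  set C := K ⊓ Subgroup.centralizer (A : Set G) with hC
  obtain ⟨S, hS⟩ := exists_invariant_sylow (p := p) hAK hcop hsolv
  set P := (S : Subgroup K).map K.subtype with hP
  have hPK : P ≤ K := Subgroup.map_subtype_le _
  set D := P ⊓ Subgroup.centralizer (A : Set G) with hD
  have hDC : D ≤ C := inf_le_inf_right _ hPK
  have hcards : ∀ {U V : Subgroup G}, U ≤ V → Nat.card U * U.relIndex V = Nat.card V := by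
    intro U V h
    rw [← Subgroup.relIndex_bot_left, ← Subgroup.relIndex_bot_left,
      Subgroup.relIndex_mul_relIndex _ _ _ bot_le h]
  -- the order of `P` and `C`
  have hPC : P ⊓ C = D := by rw [hC, hD, ← inf_assoc, inf_eq_left.mpr hPK]
  have hCK := hcards (inf_le_left : C ≤ K)
  rw [hidx] at hCK
  have hnPC : ¬ P ≤ C := by
    intro h
    have h1 := Nat.mul_dvd_mul_right (Subgroup.card_dvd_of_le h) p
    rw [hCK, ← Nat.card_congr ((S : Subgroup K).equivMapOfInjective _ K.subtype_injective).toEquiv,
      S.card_eq_multiplicity, ← pow_succ] at h1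
    exact absurd ((hp.pow_dvd_iff_le_factorization Nat.card_pos.ne').mp h1) (by omega)
  have hrel : D.relIndex P ≤ p := by
    rw [← hPC, Subgroup.inf_relIndex_left, ← hidx]
    exact Subgroup.relIndex_le_of_le_right hPK (by rw [hidx]; exact hp.ne_zero)
  have hDP : D.relIndex P = p := by
    have hne1 : D.relIndex P ≠ 1 := fun h => hnPC ((Subgroup.relIndex_eq_one.mp h).trans hDC)
    obtain ⟨n, hn⟩ := IsPGroup.iff_card.mp (S.2.map K.subtype)
    have hd : D.relIndex P ∣ p ^ n := hn ▸ Dvd.intro_left _ (hcards (inf_le_left : D ≤ P))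
    obtain ⟨j, -, hj⟩ := (Nat.dvd_prime_pow hp).mp hd
    rcases j with _ | _ | j
    · exact absurd hj hne1
    · simpa using hj
    · exfalso
      have : p ^ 2 ≤ p := le_trans (le_trans (Nat.pow_le_pow_right hp.pos (by omega)) hj.ge) hrel
      have : p < p ^ 2 := lt_self_pow₀ hp.one_lt (by omega)
      omega
  -- `[P, A]` is centralized by `D`
  have hPn : Group.IsNilpotent P := (S.2.map K.subtype).isNilpotent
  have hDn : (D.subgroupOf P).Normal := by
    refine Subgroup.NormalizerCondition.normal_of_coatom _ Group.normalizerCondition_of_isNilpotent ?_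
    refine ⟨fun h => hnPC (((Subgroup.subgroupOf_eq_top.mp h)).trans hDC), fun U hU => ?_⟩
    by_contra hne
    have h1 : (D.subgroupOf P).relIndex U * U.index = p := by
      rw [Subgroup.relIndex_mul_index hU.le]; exact hDP
    rcases (Nat.prime_mul_iff.mp (h1.symm ▸ hp)) with ⟨-, h2⟩ | ⟨-, h2⟩
    · exact hne (Subgroup.index_eq_one.mp h2)
    · exact hU.not_ge (Subgroup.relIndex_eq_one.mp h2)
  have hPD : P ≤ Subgroup.normalizer (D : Set G) :=
    (Subgroup.normal_subgroupOf_iff_le_normalizer inf_le_left).mp hDn
  set Q := ⁅P, A⁆ with hQdef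
  have hQP : Q ≤ P := commutator_le_of_le_normalizer hS
  have hQD : Q ≤ Subgroup.centralizer (D : Set G) := by
    rw [← Subgroup.commutator_eq_bot_iff_le_centralizer]
    refine Subgroup.commutator_commutator_eq_bot_of_rotate ?_ ?_
    · rw [Subgroup.commutator_eq_bot_iff_le_centralizer.mpr
        (Subgroup.le_centralizer_iff.mp (inf_le_right : D ≤ _)), Subgroup.commutator_bot_left]
    · rw [Subgroup.commutator_eq_bot_iff_le_centralizer]
      exact (Subgroup.le_normalizer_iff_commutator_le_left.mp hPD).trans inf_le_right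
  have hcopP : (Nat.card A).Coprime (Nat.card P) :=
    hcop.coprime_dvd_right (Subgroup.card_dvd_of_le hPK)
  have hPs : Group.IsSolvable P := inferInstance
  have hQne : Q ≠ ⊥ := by
    intro h
    apply hnPC
    rw [hQdef, Subgroup.commutator_eq_bot_iff_le_centralizer] at h
    exact le_inf hPK h
  -- `Q` is abelian
  set E := Q ⊓ D with hE
  have hQE : E.relIndex Q ≤ p := by
    rw [hE, Subgroup.inf_relIndex_left, ← hDP]
    exact Subgroup.relIndex_le_of_le_right hQP (by rw [hDP]; exact hp.ne_zero)
  have hQab : IsMulCommutative Q := by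
    have hEc : E.subgroupOf Q ≤ Subgroup.center Q := by
      intro e he
      rw [Subgroup.mem_center_iff]
      intro x
      exact Subtype.ext (Subgroup.mem_centralizer_iff.mp (hQD x.2) _
        (Subgroup.mem_subgroupOf.mp he).2).symm
    have hcyc : IsCyclic (Q ⧸ Subgroup.center Q) := by
      have h1 : Nat.card (Q ⧸ Subgroup.center Q) ∣ p ^ 1 := by
        obtain ⟨n, hn⟩ := IsPGroup.iff_card.mp ((S.2.map K.subtype).to_le hQP)
        obtain ⟨j, -, hj⟩ := (Nat.dvd_prime_pow hp).mp
          (hn ▸ Subgroup.card_quotient_dvd_card (Subgroup.center Q))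
        rw [hj]
        apply pow_dvd_pow
        by_contra hlt
        have h2 : p ^ j ≤ p := by
          rw [← hj, ← Subgroup.index_eq_card]
          exact (Nat.le_of_dvd (Nat.pos_of_ne_zero Subgroup.index_ne_zero_of_finite)
            (Subgroup.index_dvd_of_le hEc)).trans hQE
        have : p < p ^ j := lt_self_pow₀ hp.one_lt (by omega)
        omega
      rw [pow_one] at h1
      rcases hp.eq_one_or_self_of_dvd _ h1 with h | h
      · have := (Nat.card_eq_one_iff_unique.mp h).1
        infer_instance
      · exact isCyclic_of_prime_card h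
    exact MonoidHom.isMulCommutative_of_isCyclic_of_ker_le_center
      (QuotientGroup.mk' (Subgroup.center Q)) (by rw [QuotientGroup.ker_mk'])
  have hAQ : A ≤ Subgroup.normalizer (Q : Set G) := Subgroup.normalizer_commutator_ge_right _ _
  have hcopQ : (Nat.card A).Coprime (Nat.card Q) :=
    hcopP.coprime_dvd_right (Subgroup.card_dvd_of_le hQP)
  have hEbot : E = ⊥ := by
    rw [← le_bot_iff, ← centralizer_inf_commutator_eq_bot hAQ hcopQ,
      show ⁅Q, A⁆ = Q from commutator_commutator_eq hS hcopP (Or.inr hPs)]
    exact le_inf (inf_le_inf_left _ inf_le_right) inf_le_left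
  have hQcard : Nat.card Q = p := by
    have h := hcards (inf_le_left : E ≤ Q)
    rw [← hE, hEbot, Subgroup.card_bot, one_mul] at h
    rw [hEbot] at hQE
    obtain ⟨n, hn⟩ := IsPGroup.iff_card.mp ((S.2.map K.subtype).to_le hQP)
    rcases n with _ | _ | n
    · exact absurd (Subgroup.card_eq_one.mp hn) hQne
    · simpa using hn
    · exfalso
      have : p ^ 2 ≤ p ^ (n + 1 + 1) := Nat.pow_le_pow_right hp.pos (by omega)
      have : p < p ^ 2 := lt_self_pow₀ hp.one_lt (by omega)
      omega
  -- `K = P C`, so `[K, A] = Q`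
  suffices hKA : ⁅K, A⁆ = Q by rw [hKA, hQcard]
  refine le_antisymm ?_ (Subgroup.commutator_mono hPK le_rfl)
  rw [Subgroup.commutator_le]
  intro k hk a ha
  have hcount : (P : Set G) * (C : Set G) = (K : Set G) := by
    refine Set.Subset.antisymm ?_ fun k hk => ?_
    · rintro _ ⟨u, hu, v, hv, rfl⟩
      exact K.mul_mem (hPK hu) hv.1
    · -- cosets of `C` in `K` are represented in `P`
      have hb : Function.Bijective (fun u : P ⧸ C.subgroupOf P =>
          (Quotient.map' (Subgroup.inclusion hPK) (fun u v huv => by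
            rw [QuotientGroup.leftRel_apply] at huv ⊢
            exact huv) u : K ⧸ C.subgroupOf K)) := by
        refine (Nat.bijective_iff_injective_and_card _).mpr ⟨?_, ?_⟩
        · intro u v
          induction u using Quotient.inductionOn' with
          | _ u =>
            induction v using Quotient.inductionOn' with
            | _ v =>
              intro huv
              simp only [Quotient.map'_mk''] at huv
              refine Quotient.sound' ?_
              rw [QuotientGroup.leftRel_apply]
              have h := QuotientGroup.leftRel_apply.mp (Quotient.exact' huv :)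
              exact h
        · change C.relIndex P = C.relIndex K
          rw [hidx, ← hDP, ← hPC, Subgroup.inf_relIndex_left]
      obtain ⟨u, hu⟩ := hb.2 (Quotient.mk'' ⟨k, hk⟩)
      induction u using Quotient.inductionOn' with
      | _ u =>
        simp only [Quotient.map'_mk''] at hu
        have h := QuotientGroup.leftRel_apply.mp (Quotient.exact' hu :)
        exact ⟨u, u.2, (u : G)⁻¹ * k, h, by simp⟩
  obtain ⟨u, hu, v, hv, rfl⟩ := Set.ext_iff.mp hcount k |>.mpr hk
  have hv' : v * a = a * v := (Subgroup.mem_centralizer_iff.mp hv.2 a ha).symm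
  have e : ⁅u * v, a⁆ = ⁅u, a⁆ := by
    calc ⁅u * v, a⁆ = u * (v * a) * v⁻¹ * u⁻¹ * a⁻¹ := by rw [commutatorElement_def]; group
      _ = u * (a * v) * v⁻¹ * u⁻¹ * a⁻¹ := by rw [hv']
      _ = ⁅u, a⁆ := by rw [commutatorElement_def]; group
  rw [e]
  exact Subgroup.commutator_mem_commutator hu ha

end Cfsg.Agent.S0057
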