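import Cfsg.Statements.S0060
import Cfsg.Agent.Lib.Base.Cores

set_option autoImplicit false
open Pointwise
open Cfsg

namespace Cfsg.Agent.S0060

/-- Brodkey's Theorem: in a finite group with abelian Sylow p-subgroups and no nontrivial normal p-subgroup, some conjugate of a Sylow p-subgroup meets it trivially. -/
theorem result {G : Type*} [Group G] [Finite G] (p : ℕ) [Fact p.Prime]
    (S : Sylow p G) (hS : IsMulCommutative S) (hOp : Cfsg.pCore p G = ⊥) :
    ∃ g : G, (S : Subgroup G) ⊓ MulAut.conj g • (S : Subgroup G) = ⊥ := by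
  classical
  -- a pair of Sylow subgroups with an intersection of least order
  obtain ⟨⟨S₁, S₂⟩, hmin⟩ := Finite.exists_min
    (fun q : Sylow p G × Sylow p G => Nat.card ↥((q.1 : Subgroup G) ⊓ (q.2 : Subgroup G)))
  set D : Subgroup G := (S₁ : Subgroup G) ⊓ (S₂ : Subgroup G) with hD
  have hab : ∀ T : Sylow p G, ∀ a ∈ (T : Subgroup G), ∀ b ∈ (T : Subgroup G), a * b = b * a := by
    intro T a ha b hb
    obtain ⟨g, rfl⟩ := MulAction.exists_smul_eq G S T
    rw [Sylow.smul_def, Sylow.pointwise_smul_def, ← CfsgLib.Base.map_conj_eq_smul] at ha hb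
    obtain ⟨a', ha', rfl⟩ := ha
    obtain ⟨b', hb', rfl⟩ := hb
    rw [← map_mul, ← map_mul]
    exact congrArg _ (congrArg Subtype.val (hS.is_comm.comm ⟨a', ha'⟩ ⟨b', hb'⟩))
  set C := Subgroup.centralizer (D : Set G) with hC
  have h1 : (S₁ : Subgroup G) ≤ C := fun a ha => Subgroup.mem_centralizer_iff.2 fun d hd =>
    hab S₁ d hd.1 a ha
  have h2 : (S₂ : Subgroup G) ≤ C := fun a ha => Subgroup.mem_centralizer_iff.2 fun d hd =>
    hab S₂ d hd.2 a ha
  have hall : ∀ R : Sylow p G, D ≤ (R : Subgroup G) := by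
    intro R
    obtain ⟨Q, hQ⟩ := IsPGroup.exists_le_sylow (G := C)
      ((R.isPGroup').comap_subtype (K := C))
    obtain ⟨c, hc⟩ := MulAction.exists_smul_eq C (S₂.subtype h2) Q
    have hQG : (Q : Subgroup C).map C.subtype = ((c : G) • S₂ : Sylow p G) := by
      rw [← hc, Sylow.smul_def, Sylow.pointwise_smul_def, Sylow.coe_subtype, Sylow.smul_def,
        Sylow.pointwise_smul_def, ← CfsgLib.Base.map_conj_eq_smul, ← CfsgLib.Base.map_conj_eq_smul,
        Subgroup.map_map]
      conv_rhs => rw [← Subgroup.map_subgroupOf_eq_of_le h2, Subgroup.map_map]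
      rfl
    have hDfix : ∀ d ∈ D, (c : G) * d * (c : G)⁻¹ = d := fun d hd => by
      rw [← Subgroup.mem_centralizer_iff.1 c.2 d hd, mul_inv_cancel_right]
    have hconjD : D.map (MulAut.conj (c : G)).toMonoidHom = D := by
      ext y
      constructor
      · rintro ⟨d, hd, rfl⟩
        rw [MulEquiv.coe_toMonoidHom, MulAut.conj_apply, hDfix d hd]
        exact hd
      · exact fun hy => ⟨y, hy, hDfix y hy⟩
    -- the conjugate of the first Sylow subgroup meets R inside D
    have hle : ((c : G) • S₁ : Sylow p G).1 ⊓ (R : Subgroup G) ≤ D := by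
      rintro y ⟨hy1, hy2⟩
      have hyC : y ∈ C := by
        change y ∈ MulAut.conj (c : G) • (S₁ : Subgroup G) at hy1
        rw [← CfsgLib.Base.map_conj_eq_smul] at hy1
        obtain ⟨s, hs, rfl⟩ := hy1
        exact C.mul_mem (C.mul_mem c.2 (h1 hs)) (C.inv_mem c.2)
      have hy3 : y ∈ ((c : G) • S₂ : Sylow p G).1 := by
        have := Subgroup.mem_map_of_mem C.subtype (hQ (show (⟨y, hyC⟩ : C) ∈ _ from hy2))
        rwa [hQG] at this
      rw [← hconjD]
      change y ∈ MulAut.conj (c : G) • (S₁ : Subgroup G) at hy1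
      change y ∈ MulAut.conj (c : G) • (S₂ : Subgroup G) at hy3
      rw [← CfsgLib.Base.map_conj_eq_smul] at hy1 hy3
      rw [CfsgLib.Base.mem_map_conj] at hy1 hy3 ⊢
      exact ⟨hy1, hy3⟩
    have := Subgroup.eq_of_le_of_card_ge hle (hmin (((c : G) • S₁ : Sylow p G), R))
    exact this ▸ inf_le_right
  have hDbot : D = ⊥ := by
    rw [← le_bot_iff, ← hOp, CfsgLib.Base.pCore_eq_iInf_sylow]
    exact le_iInf hall
  obtain ⟨a, ha⟩ := MulAction.exists_smul_eq G S₁ S
  obtain ⟨b, hb⟩ := MulAction.exists_smul_eq G S (a • S₂)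
  refine ⟨b, ?_⟩
  have hb' : MulAut.conj b • (S : Subgroup G) = ((a • S₂ : Sylow p G) : Subgroup G) := by
    rw [← hb]; rfl
  rw [hb', ← ha, Sylow.smul_def, Sylow.pointwise_smul_def, Sylow.smul_def, Sylow.pointwise_smul_def,
    ← Subgroup.smul_inf, show (S₁ : Subgroup G) ⊓ (S₂ : Subgroup G) = ⊥ from hDbot,
    Subgroup.smul_bot]

end Cfsg.Agent.S0060
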