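import Cfsg.Statements.S0063


set_option autoImplicit false
open Cfsg

namespace Cfsg.Agent.S0063

theorem class_le {p : ℕ} [hp : Fact p.Prime] : ∀ (k : ℕ) (G : Type*) [Group G] [Finite G],
    Nat.card G = p ^ k → Group.nilpotencyClass G ≤ max (k - 1) 1 := by
  intro k
  induction k using Nat.strong_induction_on with
  | _ k ih =>
    intro G _ _ hG
    have hP : IsPGroup p G := IsPGroup.of_card hG
    haveI := hP.isNilpotent
    by_cases hcomm : Subgroup.center G = ⊤
    · have h1 : Group.nilpotencyClass G ≤ 1 := by
        rw [← upperCentralSeries_eq_top_iff_nilpotencyClass_le, Subgroup.upperCentralSeries_one]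
        exact hcomm
      exact h1.trans (le_max_right _ _)
    · haveI : Nontrivial G := by
        by_contra h
        rw [not_nontrivial_iff_subsingleton] at h
        exact hcomm (Subsingleton.elim _ _)
      obtain ⟨j, hj⟩ := IsPGroup.iff_card.1 (hP.to_quotient (Subgroup.center G))
      obtain ⟨i, hi⟩ := IsPGroup.iff_card.1 (hP.to_subgroup (Subgroup.center G))
      have hmul := (Subgroup.card_eq_card_quotient_mul_card_subgroup (Subgroup.center G)).symm
      rw [hj, hi, hG, ← pow_add] at hmul
      have hjk : j + i = k := Nat.pow_right_injective hp.out.two_le hmul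
      have hi0 : i ≠ 0 := by
        rintro rfl
        exact (IsPGroup.center_nontrivial hP |> (Subgroup.nontrivial_iff_ne_bot _).1)
          ((Subgroup.center G).eq_bot_of_card_eq (by rw [hi, pow_zero]))
      have hj1 : 2 ≤ j := by
        by_contra h
        interval_cases j
        · refine hcomm (Subgroup.index_eq_one.1 ?_)
          rw [Subgroup.index, hj, pow_zero]
        · haveI : IsCyclic (G ⧸ Subgroup.center G) :=
            isCyclic_of_prime_card (p := p) (by rw [hj, pow_one])
          have hc := commutative_of_cyclic_center_quotient (QuotientGroup.mk' (Subgroup.center G))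
            (QuotientGroup.ker_mk' _).le
          exact hcomm (Subgroup.eq_top_iff' _ |>.2 fun x =>
            Subgroup.mem_center_iff.2 fun y => hc y x)
      have hih := ih j (by omega) (G ⧸ Subgroup.center G) hj
      rw [Group.nilpotencyClass_eq_quotient_center_plus_one]
      omega

/-- A finite group of prime-power order p ^ m with m > 1 is nilpotent of class at most m - 1. -/
theorem result {G : Type*} [Group G] [Finite G] (p m : ℕ) [Fact p.Prime]
    (hG : Nat.card G = p ^ m) (hm : 1 < m) : Group.nilpotencyClass G ≤ m - 1 := by
  have := class_le m G hG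
  omega

end Cfsg.Agent.S0063
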