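import Cfsg.Statements.S0068
import Cfsg.Agent.Lib.Base.Frobenius

set_option autoImplicit false
open Cfsg

namespace Cfsg.Agent.S0068

/-- Frobenius complements of even order: if H complements a nontrivial normal subgroup K, each nonidentity element of H has trivial centraliser in K, and H has even order, then H contains a unique involution s, K is abelian, and s inverts every element of K. -/
theorem result {G : Type*} [Group G] [Finite G] (K H : Subgroup G) [K.Normal]
    (hc : Subgroup.IsComplement' K H) (hK : K ≠ ⊥) (hfpf : ∀ h ∈ H, h ≠ 1 → K ⊓ Subgroup.centralizer {h} = ⊥)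
    (heven : 2 ∣ Nat.card H) :
    (∃ s ∈ H, orderOf s = 2 ∧ (∀ t ∈ H, orderOf t = 2 → t = s) ∧ ∀ k ∈ K, s * k * s⁻¹ = k⁻¹) ∧ IsMulCommutative K := by
  haveI : Fact (Nat.Prime 2) := ⟨Nat.prime_two⟩
  obtain ⟨s', hs'⟩ := exists_prime_orderOf_dvd_card' 2 heven
  have hs : orderOf (s' : G) = 2 := by rw [Subgroup.orderOf_coe, hs']
  have hH : H ≠ ⊥ := fun e => by
    have h1 : (s' : G) = 1 := Subgroup.mem_bot.1 (e ▸ s'.2)
    rw [h1, orderOf_one] at hs
    omega
  have hF := (CfsgLib.Base.Frobenius.isFrobeniusComplement_iff K H hc hK hH).2 hfpf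
  have hker := CfsgLib.Base.Frobenius.frobeniusKernel_eq hF K hc
  have hinv : ∀ t ∈ H, orderOf t = 2 → t ≠ 1 ∧ t * t = 1 := fun t _ ht =>
    ⟨fun e => by rw [e, orderOf_one] at ht; omega, by rw [← pow_two, ← ht]; exact pow_orderOf_eq_one t⟩
  obtain ⟨hs1, hs2⟩ := hinv _ s'.2 hs
  refine ⟨⟨s', s'.2, hs, fun t ht ht' => ?_, fun k hk => ?_⟩, ⟨⟨fun a b => Subtype.ext ?_⟩⟩⟩
  · exact CfsgLib.Base.Frobenius.involution_unique hF ht (hinv t ht ht').1 (hinv t ht ht').2 s'.2 hs1 hs2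
  · exact CfsgLib.Base.Frobenius.conj_eq_inv_of_involution hF s'.2 hs1 hs2 (hker ▸ hk)
  · exact CfsgLib.Base.Frobenius.frobeniusKernel_commute hF s'.2 hs1 hs2 (hker ▸ a.2) (hker ▸ b.2)

end Cfsg.Agent.S0068
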