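import Cfsg.Statements.S0073
import Cfsg.Agent.Lib.Transfer.AbelianSylow

set_option autoImplicit false
open Cfsg
open Subgroup CfsgLib.Transfer

namespace Cfsg.Agent.S0073

/-- For a finite non-abelian simple group, either the cube of the least prime divisor of the order divides the order, or 12 does. -/
theorem result {G : Type*} [Group G] [Finite G] [IsSimpleGroup G] (hG : ∃ x y : G, x * y ≠ y * x) : (Nat.card G).minFac ^ 3 ∣ Nat.card G ∨ 12 ∣ Nat.card G := by
  by_contra hcon
  push Not at hcon
  obtain ⟨h3, h12⟩ := hcon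
  set p := (Nat.card G).minFac with hp
  have hcard : Nat.card G ≠ 1 := Finite.one_lt_card.ne'
  have hpp : p.Prime := Nat.minFac_prime hcard
  have : Fact p.Prime := ⟨hpp⟩
  have hpd : p ∣ Nat.card G := Nat.minFac_dvd _
  have hno := not_hasNormalPComplement_of_isSimpleGroup hG hpd
  obtain ⟨P⟩ : Nonempty (Sylow p G) := inferInstance
  obtain ⟨a, ha⟩ := IsPGroup.iff_card.mp P.2
  have hdvd : p ^ a ∣ Nat.card G := ha ▸ card_subgroup_dvd_card _
  have ha3 : a < 3 := by
    by_contra hc
    exact h3 ((pow_dvd_pow p (not_lt.mp hc)).trans hdvd)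
  have ha0 : a ≠ 0 := by
    rintro rfl
    have := P.dvd_card_of_dvd_card hpd
    rw [ha, pow_zero] at this
    exact hpp.ne_one (Nat.dvd_one.mp this)
  have hncyc : ¬ IsCyclic P := fun hc => hno
    (hasNormalPComplement_of_normalizer_le_centralizer P (hc.normalizer_le_centralizer rfl))
  have ha2 : a = 2 := by
    rcases Nat.lt_or_ge a 2 with h | h
    · exfalso
      exact hncyc (isCyclic_of_prime_card (p := p) (by rw [ha, show a = 1 by omega, pow_one]))
    · omega
  subst ha2
  obtain ⟨q, hq, hqp, hqG, j, hj1, hj2, hqj⟩ := exists_prime_dvd_of_not_hasNormalPComplement P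
    (IsPGroup.isMulCommutative_of_card_eq_prime_sq ha) hno ha
  have hlt : p < q := lt_of_le_of_ne (Nat.minFac_le_of_dvd hq.two_le hqG) (Ne.symm hqp)
  have hp2 := hpp.two_le
  have hq1 : q ∣ p + 1 := by
    rcases (show j = 1 ∨ j = 2 by omega) with rfl | rfl
    · rw [pow_one] at hqj
      exact absurd (Nat.le_of_dvd (by omega) hqj) (by omega)
    · rw [show p ^ 2 - 1 = (p + 1) * (p - 1) by rw [← Nat.sq_sub_sq, one_pow]] at hqj
      exact (hq.dvd_mul.mp hqj).resolve_right fun h => absurd (Nat.le_of_dvd (by omega) h) (by omega)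
  have hqe : q = p + 1 := le_antisymm (Nat.le_of_dvd (by omega) hq1) (by omega)
  have hp22 : p = 2 := by
    by_contra hne
    have hodd : Odd p := hpp.odd_of_ne_two hne
    have hev : Even q := hqe ▸ hodd.add_one
    have := (Nat.prime_dvd_prime_iff_eq Nat.prime_two hq).mp (even_iff_two_dvd.mp hev)
    omega
  apply h12
  rw [hp22] at hdvd
  rw [hqe, hp22] at hqG
  exact Nat.Coprime.mul_dvd_of_dvd_of_dvd (by norm_num : Nat.Coprime 4 3) hdvd hqG

end Cfsg.Agent.S0073
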