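import Cfsg.Statements.S0077
import Cfsg.Agent.Lib.Transfer.Fusion

set_option autoImplicit false
open Cfsg
open Subgroup

namespace Cfsg.Agent.S0077

/-- If a subgroup Z of the centre of a Sylow p-subgroup P is weakly closed in P, then P meets the derived subgroup of G exactly where it meets the derived subgroup of the normalizer of Z. -/
theorem result {G : Type*} [Group G] [Finite G] {p : ℕ} [Fact p.Prime] (P : Sylow p G) (Z : Subgroup G) (hZ : Z ≤ Subgroup.centralizer (P : Set G)) (hW : Cfsg.IsWeaklyClosed Z P) : commutator G ⊓ (P : Subgroup G) = ⁅Subgroup.normalizer (Z : Set G), Subgroup.normalizer (Z : Set G)⁆ ⊓ (P : Subgroup G) := by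
  refine CfsgLib.Transfer.commutator_inf_eq_of_fusion P (fun y hy => ?_) fun x hx g hg => ?_
  · rw [mem_set_normalizer_iff]
    intro z
    constructor <;> intro hz
    · rwa [hZ hz y hy, mul_inv_cancel_right]
    · have h := hZ hz y hy
      rw [← mul_assoc, ← mul_assoc, inv_mul_cancel_right] at h
      have h' : y * z * y⁻¹ = z := by
        calc y * z * y⁻¹ = y⁻¹ * (y * y * z * y⁻¹) := by group
          _ = y⁻¹ * (y * z) := by rw [h]
          _ = z := by group
      rwa [← h']
  · obtain ⟨n, hn, h⟩ := CfsgLib.Transfer.exists_mem_normalizer_conj_of_isWeaklyClosed P hZ hW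
      (A := {x}) (g := g) (Set.singleton_subset_iff.mpr hx)
      (fun a ha => by rw [Set.mem_singleton_iff.mp ha]; exact hg)
    exact ⟨n, hn, h x rfl⟩

end Cfsg.Agent.S0077
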