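import Cfsg.Statements.S0078
import Cfsg.Agent.Lib.Transfer.Control

set_option autoImplicit false
open Cfsg
open Subgroup CfsgLib.Transfer

namespace Cfsg.Agent.S0078

/-- In a p-normal group, a Sylow p-subgroup P meets O^p(G) exactly where it meets O^p(V), for any subgroup V containing the normalizer of the centre of P. -/
theorem result {G : Type*} [Group G] [Finite G] {p : ℕ} [Fact p.Prime] (P : Sylow p G) (hn : ∀ Q : Sylow p G, (P : Subgroup G) ⊓ Subgroup.centralizer (P : Set G) ≤ (Q : Subgroup G) → (Q : Subgroup G) ⊓ Subgroup.centralizer (Q : Set G) = (P : Subgroup G) ⊓ Subgroup.centralizer (P : Set G)) (V : Subgroup G) (hV : Subgroup.normalizer (((P : Subgroup G) ⊓ Subgroup.centralizer (P : Set G) : Subgroup G) : Set G) ≤ V) : (P : Subgroup G) ⊓ Cfsg.pResidual p G = (P : Subgroup G) ⊓ (Cfsg.pResidual p V).map V.subtype := by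
  set Z : Subgroup G := (P : Subgroup G) ⊓ centralizer ((P : Subgroup G) : Set G) with hZ
  have hW : Cfsg.IsWeaklyClosed Z (P : Subgroup G) := by
    refine ⟨inf_le_left, fun g hg => ?_⟩
    have hR : Z ≤ ((g⁻¹ • P : Sylow p G) : Subgroup G) := by
      intro z hz
      rw [mem_coe_smul_sylow_iff, inv_inv]
      exact hg ⟨z, hz, rfl⟩
    have hRZ := hn (g⁻¹ • P) hR
    have hle : Z.map (MulAut.conj g⁻¹).toMonoidHom ≤ Z := by
      rintro _ ⟨z, hz, rfl⟩
      simp only [MulEquiv.coe_toMonoidHom, MulAut.conj_apply, inv_inv]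
      refine hRZ.le ⟨?_, ?_⟩
      · change g⁻¹ * z * g ∈ ((g⁻¹ • P : Sylow p G) : Subgroup G)
        rw [mem_coe_smul_sylow_iff, inv_inv, show g * (g⁻¹ * z * g) * g⁻¹ = z by group]
        exact hz.1
      · refine mem_centralizer_iff.mpr fun r hr => ?_
        have h1 := mem_coe_smul_sylow_iff.mp hr
        rw [inv_inv] at h1
        have h2 := mem_centralizer_iff.mp hz.2 _ h1
        calc r * (g⁻¹ * z * g) = g⁻¹ * ((g * r * g⁻¹) * z) * g := by group
          _ = g⁻¹ * (z * (g * r * g⁻¹)) * g := by rw [h2]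
          _ = _ := by group
    have hN : g⁻¹ ∈ normalizer (Z : Set G) := by
      refine mem_normalizer_iff_map_conj_eq.mpr (eq_of_le_of_card_ge hle (le_of_eq ?_))
      exact (card_map_of_injective (MulAut.conj g⁻¹).injective).symm
    exact mem_normalizer_iff_map_conj_eq.mp (inv_mem_iff.mp hN)
  refine inf_pResidual_eq_of_fusion P (fun y hy => hV ?_) fun x hx g hg => ?_
  · rw [mem_normalizer_iff_conj_image_eq]
    have hc : ∀ z ∈ Z, MulAut.conj y z = z := fun z hz => by
      simp [mem_centralizer_iff.mp hz.2 y hy]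
    exact (Set.image_congr (fun z hz => hc z hz)).trans (Set.image_id _)
  · obtain ⟨n, hn', h⟩ := exists_mem_normalizer_conj_of_isWeaklyClosed P inf_le_right hW
      (A := {x}) (g := g) (Set.singleton_subset_iff.mpr hx)
      (fun a ha => by rw [Set.mem_singleton_iff.mp ha]; exact hg)
    exact ⟨n, hV hn', h x rfl⟩

end Cfsg.Agent.S0078
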