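import Cfsg.Statements.S0079
import Cfsg.Agent.Lib.Transfer.Control

set_option autoImplicit false
open Cfsg
open Subgroup CfsgLib.Transfer

namespace Cfsg.Agent.S0079

/-- A nilpotent Hall subgroup has a normal complement exactly when elements of it that are conjugate in the whole group are already conjugate inside it. -/
theorem result {G : Type*} [Group G] [Finite G] (H : Subgroup G) (hH : Group.IsNilpotent H) (hHall : Nat.Coprime (Nat.card H) H.index) : (∃ N : Subgroup G, N.Normal ∧ N.IsComplement' H) ↔ ∀ x ∈ H, ∀ y ∈ H, (∃ g : G, g * x * g⁻¹ = y) → ∃ h ∈ H, h * x * h⁻¹ = y := by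
  constructor
  · rintro ⟨N, hN, hc⟩ x hx y hy ⟨g, rfl⟩
    obtain ⟨n, hn, h, hh, rfl⟩ := mem_sup_of_normal_left.mp (hc.sup_eq_top ▸ mem_top g)
    refine ⟨h, hh, ?_⟩
    have hx' : h * x * h⁻¹ ∈ H := mul_mem (mul_mem hh hx) (inv_mem hh)
    have h1 : (h * x * h⁻¹)⁻¹ * (n * h * x * (n * h)⁻¹) ∈ N := by
      rw [show (h * x * h⁻¹)⁻¹ * (n * h * x * (n * h)⁻¹) =
        ((h * x * h⁻¹)⁻¹ * n * (h * x * h⁻¹)) * n⁻¹ by group]
      refine mul_mem ?_ (inv_mem hn)
      have := hN.conj_mem n hn (h * x * h⁻¹)⁻¹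
      rwa [inv_inv] at this
    exact inv_mul_eq_one.mp (disjoint_def.mp hc.disjoint h1 (mul_mem (inv_mem hx') hy))
  intro hfus
  have hcomp : ∀ p : ℕ, p.Prime → p ∣ Nat.card H → Cfsg.HasNormalPComplement p G := by
    intro p hp hpH
    have : Fact p.Prime := ⟨hp⟩
    obtain ⟨P₀⟩ : Nonempty (Sylow p H) := inferInstance
    let P' : Subgroup G := (P₀ : Subgroup H).map H.subtype
    have hmax : ¬ p ∣ P'.index := by
      intro hd
      rw [← relIndex_mul_index (show P' ≤ H from map_subtype_le _)] at hd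
      rcases hp.dvd_mul.mp hd with h | h
      · rw [relIndex, subgroupOf, comap_map_eq_self_of_injective H.subtype_injective] at h
        exact P₀.not_dvd_index h
      · exact hp.ne_one (Nat.dvd_one.mp (hHall ▸ Nat.dvd_gcd hpH h))
    let P : Sylow p G := (P₀.2.map H.subtype).toSylow hmax
    refine hasNormalPComplement_of_fusion P fun x hx g hg => ?_
    obtain ⟨⟨x₀, hx₀⟩, hxP, rfl⟩ := hx
    obtain ⟨h, hh, hh'⟩ := hfus x₀ hx₀ _ (map_subtype_le (P₀ : Subgroup H) hg) ⟨g, rfl⟩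
    have hmem : (⟨h, hh⟩ : H) ∈ (P₀ : Subgroup H) ⊔ Cfsg.pResidual p H := by
      rw [sup_pResidual_eq_top]; exact mem_top _
    have := pResidual_normal (G := H) (p := p)
    obtain ⟨u, hu, c, hc, huc⟩ := mem_sup_of_normal_right.mp hmem
    have hle : Cfsg.pResidual p H ≤ centralizer ((P₀ : Subgroup H) : Set H) :=
      (closure_le _).mpr fun k hk => mem_centralizer_sylow_of_isNilpotent P₀ hk
    refine ⟨u, ⟨u, hu, rfl⟩, ?_⟩
    have hcx := congrArg Subtype.val (mem_centralizer_iff.mp (hle hc) _ hxP)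
    have huc' : (u : G) * (c : G) = h := congrArg Subtype.val huc
    simp only [coe_subtype, coe_mul] at hcx hh' ⊢
    rw [← hh', ← huc']
    calc (u : G) * x₀ * (u : G)⁻¹ = (u : G) * (x₀ * (c : G)) * (c : G)⁻¹ * (u : G)⁻¹ := by group
      _ = (u : G) * ((c : G) * x₀) * (c : G)⁻¹ * (u : G)⁻¹ := by rw [hcx]
      _ = _ := by group
  let N : Subgroup G := ⨅ p : {p : ℕ // p.Prime ∧ p ∣ Nat.card H}, Cfsg.pResidual p.1 G
  have hN : N.Normal := normal_iInf_normal fun p => pResidual_normal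
  have hcopN : Nat.Coprime (Nat.card N) (Nat.card H) := by
    refine Nat.coprime_of_dvd fun p hp hpN hpH => ?_
    have : Fact p.Prime := ⟨hp⟩
    exact hasNormalPComplement_iff_pResidual.mp (hcomp p hp hpH)
      (hpN.trans (card_dvd_of_le (iInf_le _ (⟨p, hp, hpH⟩ : {p : ℕ // p.Prime ∧ p ∣ Nat.card H}))))
  have hidx : Nat.Coprime N.index H.index := by
    refine Nat.coprime_of_dvd fun q hq hqN hqH => ?_
    have : Fact q.Prime := ⟨hq⟩
    have hqH' : ¬ q ∣ Nat.card H := fun h => hq.ne_one (Nat.dvd_one.mp (hHall ▸ Nat.dvd_gcd h hqH))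
    obtain ⟨R⟩ : Nonempty (Sylow q G) := inferInstance
    refine R.not_dvd_index (hqN.trans (index_dvd_of_le fun r hr => mem_iInf.mpr fun p => ?_))
    refine mem_pResidual_of_coprime ?_
    have : Fact p.1.Prime := ⟨p.2.1⟩
    obtain ⟨k, hk⟩ := IsPGroup.iff_orderOf.mp R.2 ⟨r, hr⟩
    rw [← orderOf_injective (R : Subgroup G).subtype (subtype_injective _)] at hk
    change orderOf r = q ^ k at hk
    rw [hk]
    exact Nat.Coprime.pow_left k ((Nat.coprime_primes hq p.2.1).mpr fun e => hqH' (e ▸ p.2.2))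
  refine ⟨N, hN, isComplement'_of_coprime ?_ hcopN⟩
  have e : Nat.card N * N.index = Nat.card H * H.index := N.card_mul_index.trans H.card_mul_index.symm
  have d1 : N.index ∣ Nat.card H := hidx.dvd_mul_right.mp ⟨Nat.card N, by rw [← e, mul_comm]⟩
  have d2 : Nat.card H ∣ N.index := hcopN.symm.dvd_mul_left.mp ⟨H.index, e⟩
  rw [← Nat.dvd_antisymm d1 d2]
  exact N.card_mul_index

end Cfsg.Agent.S0079
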