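import Cfsg.Statements.S0080
import Cfsg.Agent.Lib.Transfer.CentralTransfer

set_option autoImplicit false
open Cfsg
open Subgroup

namespace Cfsg.Agent.S0080

/-- When the index of H is prime to the order of H/H', the focal subgroup of H is G' ∩ H, and H/(G' ∩ H) has a normal complement. -/
theorem result {G : Type*} [Group G] [Finite G] (H : Subgroup G) (h : Nat.Coprime H.index (⁅H, H⁆.relIndex H)) : Subgroup.focalSubgroup H = commutator G ⊓ H ∧ ∃ N : Subgroup G, N.Normal ∧ N ⊓ H = commutator G ⊓ H ∧ N ⊔ H = ⊤ := by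
  have hd : Nat.card (H ⧸ H.focalSubgroupOf) ∣ ⁅H, H⁆.relIndex H := by
    have h1 : H.focalSubgroupOf.index ∣ (commutator H).index :=
      index_dvd_of_le H.commutator_le_focalSubgroupOf
    have h2 : (⁅H, H⁆).subgroupOf H = commutator H := by
      rw [subgroupOf, ← map_subtype_commutator, comap_map_eq_self_of_injective H.subtype_injective]
    rwa [← h2] at h1
  have hcop : (Nat.card (H ⧸ H.focalSubgroupOf)).Coprime H.index :=
    (h.coprime_dvd_right hd).symm
  let N := H.transferFocal.ker
  have hfoc : N ⊓ H = H.focalSubgroup := by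
    ext x
    constructor
    · rintro ⟨hx, hxH⟩
      have h1 := H.transferFocal_eq_pow ⟨x, hxH⟩
      rw [(hx : H.transferFocal x = 1)] at h1
      have h2 : (powCoprime hcop) ((⟨x, hxH⟩ : H) : H ⧸ H.focalSubgroupOf) = (powCoprime hcop) 1 := by
        simp only [powCoprime, Equiv.coe_fn_mk, one_pow]
        exact h1.symm
      exact (mem_subgroupOf (K := H) (h := ⟨x, hxH⟩)).mp ((QuotientGroup.eq_one_iff (N := H.focalSubgroupOf) _).mp ((powCoprime hcop).injective h2))
    · intro hx
      have hxH := H.focalSubgroup_le hx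
      refine ⟨?_, hxH⟩
      change H.transferFocal x = 1
      rw [show x = ((⟨x, hxH⟩ : H) : G) from rfl, H.transferFocal_eq_pow,
        (QuotientGroup.eq_one_iff (N := H.focalSubgroupOf) (⟨x, hxH⟩ : H)).mpr (mem_subgroupOf.mpr hx),
        one_pow]
  have hcomm : commutator G ≤ N := by
    rw [_root_.commutator_def, commutator_le]
    intro a _ b _
    have hab := Subgroup.Normal.quotient_commutative_iff_commutator_le.mpr H.commutator_le_focalSubgroupOf
    have : Std.Commutative (α := H ⧸ H.focalSubgroupOf) (· * ·) := hab.is_comm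
    change H.transferFocal _ = 1
    rw [map_commutatorElement, commutatorElement_eq_one_iff_mul_comm]
    exact this.comm _ _
  have heq : H.focalSubgroup = commutator G ⊓ H :=
    le_antisymm (le_inf H.focalSubgroup_le_commutator H.focalSubgroup_le)
      (hfoc ▸ inf_le_inf_right H hcomm)
  refine ⟨heq, N, inferInstance, hfoc.trans heq, top_le_iff.mp fun g _ => ?_⟩
  obtain ⟨q, hq⟩ := (powCoprime hcop).surjective (H.transferFocal g)
  obtain ⟨y, rfl⟩ := QuotientGroup.mk'_surjective H.focalSubgroupOf q
  have hy : g * (y : G)⁻¹ ∈ N := by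
    change H.transferFocal _ = 1
    rw [map_mul, map_inv, H.transferFocal_eq_pow, ← hq, mul_inv_eq_one]
    rfl
  have := mul_mem (mem_sup_left (T := H) hy) (mem_sup_right (S := N) y.2)
  rwa [inv_mul_cancel_right] at this

end Cfsg.Agent.S0080
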