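import Cfsg.Statements.S0082
import Cfsg.Agent.Lib.Transfer.Fusion

set_option autoImplicit false
open Cfsg
open CfsgLib.Transfer Subgroup

namespace Cfsg.Agent.S0082

/-- With a cyclic Sylow p-subgroup, either there is a normal p-complement or the elements of order prime to p generate the whole group. -/
theorem result {G : Type*} [Group G] [Finite G] {p : ℕ} [Fact p.Prime] (P : Sylow p G) (hP : IsCyclic P) : Cfsg.HasNormalPComplement p G ∨ Cfsg.pResidual p G = ⊤ := by
  rcases P.normalizer_le_centralizer_or_le_commutator with h | h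
  · exact Or.inl (hasNormalPComplement_of_normalizer_le_centralizer P h)
  have hc : IsMulCommutative (P : Subgroup G) := inferInstance
  have e : (P : Subgroup G) ≤ ⁅(P : Subgroup G), normalizer ((P : Subgroup G) : Set G)⁆ := by
    rw [← focalSubgroup_eq_of_isMulCommutative P hc, ← commutator_inf_eq_focalSubgroup]
    exact le_inf h le_rfl
  refine Or.inr (top_le_iff.mp ?_)
  rw [← sup_pResidual_eq_top P]
  refine sup_le (e.trans ?_) le_rfl
  have hres := pResidual_normal (G := G) (p := p)
  rw [commutator_le]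
  intro t ht n hn
  let N : Subgroup G := normalizer ((P : Subgroup G) : Set G)
  let S : Sylow p N := P.subtype le_normalizer
  have hmem : (⟨n, hn⟩ : N) ∈ (S : Subgroup N) ⊔ Cfsg.pResidual p N := by
    rw [sup_pResidual_eq_top]
    exact mem_top _
  have hresN := pResidual_normal (G := N) (p := p)
  obtain ⟨u, hu, c, hc', huc⟩ := mem_sup_of_normal_right.mp hmem
  have hcG : (c : G) ∈ Cfsg.pResidual p G := map_pResidual_le N.subtype ⟨c, hc', rfl⟩
  have hn' : (u : G) * (c : G) = n := congrArg Subtype.val huc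
  have huT : (u : G) ∈ (P : Subgroup G) := hu
  have hcomm : t * u = u * t := congrArg Subtype.val (hc.is_comm.comm ⟨t, ht⟩ ⟨u, huT⟩)
  rw [commutatorElement_def, ← hn',
    show t * (↑u * ↑c) * t⁻¹ * (↑u * ↑c)⁻¹ = (t * u) * ((c : G) * t⁻¹ * (↑c)⁻¹ * t) * (t⁻¹ * (↑u)⁻¹) by group,
    show t⁻¹ * (u : G)⁻¹ = ((u : G) * t)⁻¹ by group, ← hcomm]
  refine hres.conj_mem _ ?_ _
  rw [mul_assoc (c : G), mul_assoc (c : G)]
  refine mul_mem hcG ?_
  have := hres.conj_mem _ (inv_mem hcG) t⁻¹
  rwa [inv_inv] at this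

end Cfsg.Agent.S0082
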