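import Cfsg.Statements.S0083
import Cfsg.Agent.Lib.Transfer.Control

set_option autoImplicit false
open Cfsg
open Subgroup CfsgLib.Transfer

namespace Cfsg.Agent.S0083

/-- For an abelian Sylow p-subgroup P, a normal p-complement exists exactly when the normalizer of P is an internal direct product of P with some subgroup. -/
theorem result {G : Type*} [Group G] [Finite G] {p : ℕ} [Fact p.Prime] (P : Sylow p G) (hP : IsMulCommutative P) : Cfsg.HasNormalPComplement p G ↔ ∃ Q : Subgroup G, Q ≤ Subgroup.centralizer (P : Set G) ∧ Q ⊓ (P : Subgroup G) = ⊥ ∧ Q ⊔ (P : Subgroup G) = Subgroup.normalizer (P : Set G) := by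
  let N : Subgroup G := normalizer ((P : Subgroup G) : Set G)
  let S : Sylow p N := P.subtype le_normalizer
  constructor
  · intro h
    have hN := hasNormalPComplement_subgroup h N
    have hn := pResidual_normal (G := N) (p := p)
    refine ⟨(Cfsg.pResidual p N).map N.subtype, ?_, ?_, ?_⟩
    · rw [map_le_iff_le_comap]
      refine (closure_le _).mpr fun c hc => ?_
      refine ((hasNormalPComplement_iff_forall_centralizing P).mp h (P : Subgroup G) le_rfl _ c.2 ?_)
      rwa [orderOf_injective N.subtype N.subtype_injective]
    · rw [eq_bot_iff]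
      rintro _ ⟨⟨c, hc, rfl⟩, hcP⟩
      have := disjoint_def.mp (isComplement'_pResidual hN S).disjoint hc hcP
      rw [this, map_one]
      exact mem_bot.mpr rfl
    · refine le_antisymm (sup_le (map_subtype_le _) le_normalizer) fun g hg => ?_
      have hmem : (⟨g, hg⟩ : N) ∈ Cfsg.pResidual p N ⊔ (S : Subgroup N) := by
        rw [(isComplement'_pResidual hN S).sup_eq_top]; exact mem_top _
      obtain ⟨c, hc, u, hu, he⟩ := mem_sup_of_normal_left.mp hmem
      rw [show g = (c : G) * (u : G) from (congrArg Subtype.val he).symm]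
      exact mul_mem (mem_sup_left ⟨c, hc, rfl⟩) (mem_sup_right hu)
  · rintro ⟨Q, hQ, -, hsup⟩
    refine hasNormalPComplement_of_normalizer_le_centralizer P ?_
    exact hsup ▸ sup_le hQ P.le_centralizer

end Cfsg.Agent.S0083
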