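import Cfsg.Statements.S0085
import Cfsg.Agent.Lib.Transfer.AbelianSylow

set_option autoImplicit false
open Cfsg
open Subgroup CfsgLib.Transfer

namespace Cfsg.Agent.S0085

/-- A group whose Sylow 2-subgroups are elementary abelian of order 8 and whose order is prime to 3 and to 7 has a normal 2-complement. -/
theorem result {G : Type*} [Group G] [Finite G] (T : Sylow 2 G) (h8 : Nat.card T = 8) (he : ∀ x : T, x * x = 1) (h3 : ¬ 3 ∣ Nat.card G) (h7 : ¬ 7 ∣ Nat.card G) : Cfsg.HasNormalPComplement 2 G := by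
  by_contra hno
  have hc : IsMulCommutative T := ⟨⟨fun a b => by
    have ha := mul_eq_one_iff_eq_inv.mp (he a)
    have hb := mul_eq_one_iff_eq_inv.mp (he b)
    have hab := mul_eq_one_iff_eq_inv.mp (he (a * b))
    rw [hab, mul_inv_rev, ← ha, ← hb]⟩⟩
  obtain ⟨q, hq, hq2, hqG, j, hj1, hj2, hqj⟩ :=
    exists_prime_dvd_of_not_hasNormalPComplement T hc hno (a := 3) h8
  rcases (show j = 1 ∨ j = 2 ∨ j = 3 by omega) with rfl | rfl | rfl
  · exact hq.ne_one (Nat.dvd_one.mp hqj)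
  · exact h3 ((Nat.prime_dvd_prime_iff_eq hq Nat.prime_three).mp hqj ▸ hqG)
  · exact h7 ((Nat.prime_dvd_prime_iff_eq hq (by norm_num : Nat.Prime 7)).mp hqj ▸ hqG)

end Cfsg.Agent.S0085
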