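import Cfsg.Statements.S0087
import Cfsg.Agent.Lib.Transfer.NilpotentHall
import Cfsg.Agent.S0079

set_option autoImplicit false
open Cfsg
open Subgroup CfsgLib.Transfer
open scoped IsMulCommutative

namespace Cfsg.Agent.S0087

/-- A Hall subgroup that is central in its normalizer has a normal complement. -/
theorem result {G : Type*} [Group G] [Finite G] (H : Subgroup G) (hHall : Nat.Coprime (Nat.card H) H.index) (h : Subgroup.normalizer (H : Set G) ≤ Subgroup.centralizer (H : Set G)) : ∃ N : Subgroup G, N.Normal ∧ N.IsComplement' H := by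
  have hc : IsMulCommutative H :=
    ⟨⟨fun a b => Subtype.ext (mem_centralizer_iff.mp (h (le_normalizer b.2)) a a.2)⟩⟩
  have hnil : Group.IsNilpotent H := inferInstance
  refine (Cfsg.Agent.S0079.result H hnil hHall).mpr fun x hx y hy hxy => ?_
  obtain ⟨g, rfl⟩ := hxy
  let C : Subgroup G := centralizer {g * x * g⁻¹}
  have hHC : H ≤ C := fun a ha => mem_centralizer_singleton_iff.mpr
    (congrArg Subtype.val (hc.is_comm.comm (⟨a, ha⟩ : H) ⟨_, hy⟩))
  let K : Subgroup G := H.map (MulAut.conj g).toMonoidHom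
  have hKC : K ≤ C := by
    rintro _ ⟨a, ha, rfl⟩
    rw [mem_centralizer_singleton_iff]
    have e : a * x = x * a := congrArg Subtype.val (hc.is_comm.comm (⟨a, ha⟩ : H) ⟨x, hx⟩)
    change MulAut.conj g a * MulAut.conj g x = MulAut.conj g x * MulAut.conj g a
    rw [← map_mul, ← map_mul, e]
  obtain ⟨c, hcC, hcK⟩ := exists_conj_nilpotent_hall hHC hKC hnil
    (Group.nilpotent_of_mulEquiv (H.equivMapOfInjective _ (MulAut.conj g).injective))
    (card_map_of_injective (MulAut.conj g).injective).symm
    (hHall.coprime_dvd_right (relIndex_dvd_index_of_le hHC))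
  have hn : c * g ∈ normalizer (H : Set G) := by
    rw [mem_normalizer_iff_map_conj_eq]
    refine Eq.trans ?_ hcK
    rw [Subgroup.map_map]
    congr 1
    ext z
    simp [mul_assoc]
  have hfix : c * g * x * (c * g)⁻¹ = x := by
    rw [← mem_centralizer_iff.mp (h hn) x hx, mul_inv_cancel_right]
  refine ⟨1, one_mem H, ?_⟩
  rw [one_mul, inv_one, mul_one]
  calc x = c * g * x * (c * g)⁻¹ := hfix.symm
    _ = c * (g * x * g⁻¹) * c⁻¹ := by group
    _ = g * x * g⁻¹ := by rw [mem_centralizer_singleton_iff.mp hcC, mul_inv_cancel_right]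

end Cfsg.Agent.S0087
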