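import Cfsg.Statements.S0089
import Cfsg.Agent.Lib.Transfer.CentralTransfer

set_option autoImplicit false
open Cfsg
open Subgroup

namespace Cfsg.Agent.S0089

/-- When all Sylow subgroups are abelian, the derived subgroup meets the centre trivially. -/
theorem result {G : Type*} [Group G] [Finite G] (h : ∀ p : ℕ, p.Prime → ∀ P : Sylow p G, IsMulCommutative P) : commutator G ⊓ Subgroup.center G = ⊥ := by
  rw [eq_bot_iff]
  intro x hx
  rw [mem_bot]
  by_contra hne
  have hx' : orderOf x ≠ 1 := by rwa [Ne, orderOf_eq_one_iff]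
  obtain ⟨p, hp, hpd⟩ := Nat.exists_prime_and_dvd hx'
  have : Fact p.Prime := ⟨hp⟩
  have ho := orderOf_pow_orderOf_div (orderOf_pos x).ne' hpd
  have hP : IsPGroup p (zpowers (x ^ (orderOf x / p))) :=
    IsPGroup.of_card (n := 1) (by rw [Nat.card_zpowers, ho, pow_one])
  obtain ⟨P, hP'⟩ := hP.exists_le_sylow
  have h0 := CfsgLib.Transfer.inf_commutator_inf_center_eq_bot (P : Subgroup G) (h p hp P) P.card_coprime_index
  have : x ^ (orderOf x / p) = 1 :=
    mem_bot.mp (h0 ▸ ⟨⟨hP' (mem_zpowers _), pow_mem hx.1 _⟩, pow_mem hx.2 _⟩)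
  rw [this, orderOf_one] at ho
  exact hp.ne_one ho.symm

end Cfsg.Agent.S0089
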