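import Cfsg.Statements.S0091
import Cfsg.Agent.Lib.Transfer.Fusion

set_option autoImplicit false
open Cfsg
open CfsgLib.Transfer Subgroup

namespace Cfsg.Agent.S0091

/-- If a nontrivial Sylow p-subgroup controls its own fusion then it is not contained in the derived subgroup. -/
theorem result {G : Type*} [Group G] [Finite G] {p : ℕ} [Fact p.Prime] (P : Sylow p G) (hp : p ∣ Nat.card G) (h : ∀ x ∈ P, ∀ y ∈ P, (∃ g : G, g * x * g⁻¹ = y) → ∃ z ∈ P, z * x * z⁻¹ = y) : ¬ (P : Subgroup G) ≤ commutator G := by
  intro hle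
  have hN := hasNormalPComplement_of_fusion P (fun x hx g hg => h x hx _ hg ⟨g, rfl⟩)
  have e := commutator_inf_eq_of_fusion P le_rfl (fun x hx g hg => h x hx _ hg ⟨g, rfl⟩)
  rw [inf_eq_right.mpr hle] at e
  have hle' : (P : Subgroup G) ≤ ⁅(P : Subgroup G), (P : Subgroup G)⁆ := e.le.trans inf_le_left
  have : Nontrivial (P : Subgroup G) :=
    (nontrivial_iff_ne_bot _).mpr (P.ne_bot_of_dvd_card hp)
  have hnil : Group.IsNilpotent (P : Subgroup G) := P.2.isNilpotent
  refine (Group.IsSolvable.commutator_lt_top_of_nontrivial (P : Subgroup G)).ne ?_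
  apply map_injective (P : Subgroup G).subtype_injective
  rw [map_subtype_commutator, ← MonoidHom.range_eq_map, range_subtype]
  exact le_antisymm (commutator_le_self _) hle'

end Cfsg.Agent.S0091
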