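import Cfsg.Statements.S0092
import Cfsg.Agent.Lib.Transfer.Fusion
import Cfsg.Agent.Lib.Coprime.Action
import Cfsg.Agent.Lib.Coprime.Action2

set_option autoImplicit false
open Cfsg
open Subgroup CfsgLib.Transfer
open scoped commutatorElement Pointwise

namespace Cfsg.Agent.S0092

/-- If the Sylow p-subgroups of O^p(G) are abelian then G splits over O^p(G). -/
theorem result {G : Type*} [Group G] [Finite G] {p : ℕ} [Fact p.Prime] (h : ∀ Q : Sylow p (Cfsg.pResidual p G), IsMulCommutative Q) : ∃ K : Subgroup G, K.IsComplement' (Cfsg.pResidual p G) := by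
  let K : Subgroup G := Cfsg.pResidual p G
  have hKn : K.Normal := pResidual_normal
  obtain ⟨P⟩ : Nonempty (Sylow p G) := inferInstance
  let Q : Subgroup G := (P : Subgroup G) ⊓ K
  have hQK : Q ≤ K := inf_le_right
  let S : Sylow p K := (P.2.comap_subtype (K := K)).toSylow (not_dvd_index_subgroupOf_of_normal P K)
  have hSc : IsMulCommutative (S : Subgroup K) := h S
  have hQc : IsMulCommutative Q := ⟨⟨fun a b => Subtype.ext (congrArg Subtype.val (congrArg Subtype.val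
    (hSc.is_comm.comm (⟨⟨a, a.2.2⟩, mem_subgroupOf.mpr a.2.1⟩ : (S : Subgroup K)) ⟨⟨b, b.2.2⟩, mem_subgroupOf.mpr b.2.1⟩)) :)⟩⟩
  have hres : Cfsg.pResidual p K = ⊤ := by
    apply map_injective K.subtype_injective
    rw [← MonoidHom.range_eq_map, range_subtype]
    refine le_antisymm (map_subtype_le _) ?_
    refine (closure_le _).mpr fun g hg => ⟨⟨g, mem_pResidual_of_coprime hg⟩, ?_, rfl⟩
    refine mem_pResidual_of_coprime ?_
    rwa [← orderOf_injective K.subtype K.subtype_injective]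
  let N : Subgroup G := normalizer (Q : Set G)
  have hQN : Q ≤ N := le_normalizer
  have hPN : (P : Subgroup G) ≤ N :=
    CfsgLib.Coprime.le_normalizer_inf_inf le_normalizer (by rw [normalizer_eq_top]; exact le_top)
  -- `Q = [Q, L]` for `L = N ⊓ K`
  let L : Subgroup G := N ⊓ K
  have hQL : Q ≤ L := le_inf hQN hQK
  have hfocQ : Q ≤ ⁅Q, L⁆ := by
    intro x hx
    have h0 : (S : Subgroup K) ≤ (S : Subgroup K).focalSubgroup := by
      have := inf_pResidual_le_focalSubgroup S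
      rwa [hres, inf_top_eq] at this
    rw [focalSubgroup_eq_of_isMulCommutative S hSc] at h0
    have h1 := mem_map_of_mem K.subtype (h0 (show (⟨x, hx.2⟩ : K) ∈ (S : Subgroup K) from mem_subgroupOf.mpr hx.1))
    rw [map_commutator] at h1
    refine commutator_mono ?_ ?_ h1
    · rintro _ ⟨s, hs, rfl⟩
      exact ⟨mem_subgroupOf.mp hs, s.2⟩
    · rintro _ ⟨n, hn, rfl⟩
      refine ⟨mem_set_normalizer_iff.mpr fun y => ⟨fun hy => ?_, fun hy => ?_⟩, n.2⟩
      · have := (mem_set_normalizer_iff.mp hn ⟨y, hy.2⟩).mp (mem_subgroupOf.mpr hy.1)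
        exact ⟨mem_subgroupOf.mp this, hKn.conj_mem y hy.2 _⟩
      · have hyK : y ∈ K := by
          have := hKn.conj_mem _ hy.2 ((n : G))⁻¹
          simpa [mul_assoc] using this
        exact ⟨mem_subgroupOf.mp ((mem_set_normalizer_iff.mp hn ⟨y, hyK⟩).mpr (mem_subgroupOf.mpr hy.1)), hyK⟩
  -- a complement `W` of `Q` in `L`
  have hcop : Nat.Coprime (Nat.card Q) (Q.relIndex L) := by
    obtain ⟨k, hk⟩ := IsPGroup.iff_card.mp (P.2.to_le (inf_le_left : Q ≤ _))
    rw [hk]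
    refine Nat.Coprime.pow_left k ((Fact.out : p.Prime).coprime_iff_not_dvd.mpr fun hd => ?_)
    refine not_dvd_index_subgroupOf_of_normal P K (hd.trans ?_)
    change Q.relIndex L ∣ (P : Subgroup G).relIndex K
    rw [← inf_relIndex_right (P : Subgroup G) K]
    exact Dvd.intro _ (relIndex_mul_relIndex Q L K hQL inf_le_right)
  obtain ⟨W, hWL, hWcard, hQW⟩ := CfsgLib.Coprime.exists_complement_in hQL (inf_le_left : L ≤ N) hcop
  have hWN : W ≤ N := hWL.trans inf_le_left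
  have hcopW : Nat.Coprime (Nat.card Q) (Nat.card W) := hWcard ▸ hcop
  have hQWbot : Q ⊓ W = ⊥ := CfsgLib.Coprime.inf_eq_bot_of_coprime hcopW
  have hQeq : Q ≤ ⁅Q, W⁆ := by
    refine hfocQ.trans ?_
    rw [commutator_le]
    intro a ha b hb
    have hb' : b ∈ W ⊔ Q := sup_comm Q W ▸ hQW.symm ▸ hb
    obtain ⟨w, hw, z, hz, rfl⟩ := CfsgLib.Coprime.mem_sup_iff_of_le_normalizer hWN |>.mp hb'
    have hwN := hWN hw
    have hwz : w * z * w⁻¹ ∈ Q := (mem_set_normalizer_iff.mp hwN z).mp hz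
    have hcomm : a * (w * z * w⁻¹) = (w * z * w⁻¹) * a :=
      congrArg Subtype.val (hQc.is_comm.comm (⟨a, ha⟩ : Q) ⟨_, hwz⟩)
    have e : ⁅a, w * z⁆ = ⁅a, w⁆ := by
      rw [commutatorElement_def, commutatorElement_def]
      have hc2 : a⁻¹ * z⁻¹ = z⁻¹ * a⁻¹ :=
        congrArg Subtype.val (hQc.is_comm.comm (⟨_, inv_mem ha⟩ : Q) ⟨_, inv_mem hz⟩)
      calc a * (w * z) * a⁻¹ * (w * z)⁻¹ = a * w * (z * (a⁻¹ * z⁻¹)) * w⁻¹ := by group
        _ = a * w * (z * (z⁻¹ * a⁻¹)) * w⁻¹ := by rw [hc2]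
        _ = _ := by group
    rw [e]
    exact commutator_mem_commutator ha hw
  -- the normalizer `M` of `W` in `N` complements `Q`
  let M : Subgroup G := N ⊓ normalizer (W : Set G)
  have hNM : ∀ n ∈ N, ∃ a ∈ Q, a⁻¹ * n ∈ M := by
    intro n hn
    have hle : MulAut.conj n • W ≤ Q ⊔ W := by
      rw [CfsgLib.Coprime.conj_smul_le_iff, hQW]
      exact fun w hw => ⟨N.mul_mem (N.mul_mem hn (hWN hw)) (N.inv_mem hn), hKn.conj_mem w (hWL hw).2 n⟩
    obtain ⟨a, ha, he⟩ := CfsgLib.Coprime.sz_conj_rel hWN (hle.trans (sup_le le_normalizer hWN)) hcopW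
      (CfsgLib.Coprime.card_conj_smul n W) hle (Or.inl (Group.isSolvable_of_comm fun x y => hQc.is_comm.comm x y))
    refine ⟨a, ha, N.mul_mem (N.inv_mem (hQN ha)) hn, ?_⟩
    change a⁻¹ * n ∈ normalizer (W : Set G)
    rw [CfsgLib.Coprime.mem_normalizer_iff_conj_smul, map_mul, mul_smul, ← he, ← mul_smul, ← map_mul,
      inv_mul_cancel, map_one, one_smul]
  have hQM : Q ⊓ M = ⊥ := by
    rw [eq_bot_iff, ← CfsgLib.Coprime.centralizer_inf_commutator_eq_bot (A := W) (V := Q) hWN hcopW.symm]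
    rintro x ⟨hxQ, hxN, hxW⟩
    refine ⟨⟨hxQ, mem_centralizer_iff.mpr fun w hw => ?_⟩, hQeq hxQ⟩
    have h1 : x * w * x⁻¹ * w⁻¹ ∈ Q ⊓ W := by
      refine ⟨?_, W.mul_mem ((mem_set_normalizer_iff.mp hxW w).mp hw) (W.inv_mem hw)⟩
      have h2 : w * x⁻¹ * w⁻¹ ∈ Q := (mem_set_normalizer_iff.mp (hWN hw) _).mp (inv_mem hxQ)
      rw [mul_assoc (x * w), mul_assoc x, ← mul_assoc w]
      exact mul_mem hxQ h2
    rw [hQWbot, mem_bot, mul_inv_eq_one, mul_inv_eq_iff_eq_mul] at h1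
    exact h1.symm
  let R : Subgroup G := (P : Subgroup G) ⊓ M
  have hdis : Disjoint R K := by
    rw [disjoint_iff, eq_bot_iff, ← hQM]
    exact fun x hx => ⟨⟨hx.1.1, hx.2⟩, hx.1.2⟩
  refine ⟨R, isComplement'_of_disjoint_and_mul_eq_univ hdis ?_⟩
  rw [← mul_normal, ← coe_top, SetLike.coe_set_eq]
  refine top_le_iff.mp ?_
  rw [← sup_pResidual_eq_top P]
  refine sup_le (fun x hx => ?_) le_sup_right
  obtain ⟨a, ha, hm⟩ := hNM x (hPN hx)
  rw [← mul_inv_cancel_left a x]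
  exact mul_mem (mem_sup_right (hQK ha)) (mem_sup_left ⟨(P : Subgroup G).mul_mem ((P : Subgroup G).inv_mem ha.1) hx, hm⟩)

end Cfsg.Agent.S0092
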