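import Cfsg.Statements.S0097
import Cfsg.Agent.Lib.PGroups.Extraspecial
open scoped commutatorElement

set_option autoImplicit false
open Cfsg

namespace Cfsg.Agent.S0097

/-- For odd p and E extraspecial, the subgroup generated by the elements of order dividing p has exponent dividing p and index at most p. -/
theorem result {E : Type*} [Group E] [Finite E] {p : ℕ} [Fact p.Prime] (hp : p ≠ 2) (h : Cfsg.IsExtraspecial p E) : (Subgroup.closure {x : E | x ^ p = 1}).index ≤ p ∧ ∀ g ∈ Subgroup.closure {x : E | x ^ p = 1}, g ^ p = 1 := by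
  have hpp : p.Prime := Fact.out
  have hc := CfsgLib.PGroups.Extraspecial.commutator_mem_center h
  have hzp : ∀ z ∈ Subgroup.center E, z ^ p = 1 := fun z hz =>
    CfsgLib.PGroups.pow_eq_one_of_mem_center_of_special h.1 hz
  let f : E →* Subgroup.center E :=
    { toFun := fun x => ⟨x ^ p, CfsgLib.PGroups.Extraspecial.pow_mem_center h x⟩
      map_one' := Subtype.ext (one_pow p)
      map_mul' := fun a b => Subtype.ext (by
        obtain ⟨t, ht⟩ : p ∣ p.choose 2 :=
          hpp.dvd_choose_self two_ne_zero (lt_of_le_of_ne hpp.two_le (Ne.symm hp))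
        show (a * b) ^ p = a ^ p * b ^ p
        rw [CfsgLib.PGroups.mul_pow_of_central (hc b a), ht, pow_mul, hzp _ (hc b a), one_pow, mul_one]) }
  have hker : Subgroup.closure {x : E | x ^ p = 1} = f.ker := by
    refine le_antisymm ((Subgroup.closure_le _).mpr fun x hx => Subtype.ext hx) fun x hx => ?_
    exact Subgroup.subset_closure (congrArg Subtype.val hx : x ^ p = 1)
  rw [hker]
  refine ⟨?_, fun g hg => congrArg Subtype.val hg⟩
  rw [Subgroup.index_ker, ← h.2]
  exact Subgroup.card_le_card_group _

end Cfsg.Agent.S0097
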