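import Cfsg.Statements.S0098
import Cfsg.Agent.Lib.PGroups.ExtraspecialBasis

set_option autoImplicit false
open Cfsg

namespace Cfsg.Agent.S0098

/-- For odd p, extraspecial p-groups of exponent p are determined up to isomorphism by their order. -/
theorem result {E₁ : Type*} {E₂ : Type*} [Group E₁] [Group E₂] [Finite E₁] [Finite E₂] {p : ℕ} [Fact p.Prime] (hp : p ≠ 2) (h₁ : Cfsg.IsExtraspecial p E₁) (h₂ : Cfsg.IsExtraspecial p E₂) (he₁ : Monoid.exponent E₁ = p) (he₂ : Monoid.exponent E₂ = p) (hc : Nat.card E₁ = Nat.card E₂) : Nonempty (E₁ ≃* E₂) := by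
  obtain ⟨z, m, -, S⟩ := CfsgLib.PGroups.exists_isSympGroup h₁
  obtain ⟨z', m', -, S'⟩ := CfsgLib.PGroups.exists_isSympGroup h₂
  obtain rfl : m = m' := by
    have := S.card_eq.symm.trans (hc.trans S'.card_eq)
    have := Nat.pow_right_injective (Fact.out : p.Prime).two_le this
    omega
  obtain ⟨a, b, B⟩ := S.exists_basis_of_exponent (fun g => he₁ ▸ Monoid.pow_exponent_eq_one g)
  obtain ⟨a', b', B'⟩ := S'.exists_basis_of_exponent (fun g => he₂ ▸ Monoid.pow_exponent_eq_one g)
  exact CfsgLib.PGroups.nonempty_mulEquiv_of_basis S S' B B'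

end Cfsg.Agent.S0098
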