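import Cfsg.Statements.S0099
import Cfsg.Agent.Lib.PGroups.ExtraspecialBasis

set_option autoImplicit false
open Cfsg

namespace Cfsg.Agent.S0099

/-- Among three extraspecial 2-groups of equal order, some two are isomorphic. -/
theorem result {E₁ : Type*} {E₂ : Type*} {E₃ : Type*} [Group E₁] [Group E₂] [Group E₃] [Finite E₁] [Finite E₂] [Finite E₃] (h₁ : Cfsg.IsExtraspecial 2 E₁) (h₂ : Cfsg.IsExtraspecial 2 E₂) (h₃ : Cfsg.IsExtraspecial 2 E₃) (h12 : Nat.card E₁ = Nat.card E₂) (h23 : Nat.card E₂ = Nat.card E₃) : Nonempty (E₁ ≃* E₂) ∨ Nonempty (E₂ ≃* E₃) ∨ Nonempty (E₁ ≃* E₃) := by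
  obtain ⟨z₁, m, -, S₁⟩ := CfsgLib.PGroups.exists_isSympGroup h₁
  obtain ⟨z₂, m₂, -, S₂⟩ := CfsgLib.PGroups.exists_isSympGroup h₂
  obtain ⟨z₃, m₃, -, S₃⟩ := CfsgLib.PGroups.exists_isSympGroup h₃
  obtain rfl : m = m₂ := by
    have := Nat.pow_right_injective le_rfl (S₁.card_eq.symm.trans (h12.trans S₂.card_eq))
    omega
  obtain rfl : m = m₃ := by
    have := Nat.pow_right_injective le_rfl (S₂.card_eq.symm.trans (h23.trans S₃.card_eq))
    omega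
  by_cases c1 : CfsgLib.PGroups.HasMaxElem E₁ m <;> by_cases c2 : CfsgLib.PGroups.HasMaxElem E₂ m
  · obtain ⟨a, b, B⟩ := (S₁.classify.1 c1).1
    obtain ⟨a', b', B'⟩ := (S₂.classify.1 c2).1
    exact Or.inl (CfsgLib.PGroups.nonempty_mulEquiv_of_basis S₁ S₂ B B')
  · by_cases c3 : CfsgLib.PGroups.HasMaxElem E₃ m
    · obtain ⟨a, b, B⟩ := (S₁.classify.1 c1).1
      obtain ⟨a', b', B'⟩ := (S₃.classify.1 c3).1
      exact Or.inr (Or.inr (CfsgLib.PGroups.nonempty_mulEquiv_of_basis S₁ S₃ B B'))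
    · obtain ⟨a, b, B⟩ := (S₂.classify.2 c2).2.1
      obtain ⟨a', b', B'⟩ := (S₃.classify.2 c3).2.1
      exact Or.inr (Or.inl (CfsgLib.PGroups.nonempty_mulEquiv_of_basis S₂ S₃ B B'))
  · by_cases c3 : CfsgLib.PGroups.HasMaxElem E₃ m
    · obtain ⟨a, b, B⟩ := (S₂.classify.1 c2).1
      obtain ⟨a', b', B'⟩ := (S₃.classify.1 c3).1
      exact Or.inr (Or.inl (CfsgLib.PGroups.nonempty_mulEquiv_of_basis S₂ S₃ B B'))
    · obtain ⟨a, b, B⟩ := (S₁.classify.2 c1).2.1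
      obtain ⟨a', b', B'⟩ := (S₃.classify.2 c3).2.1
      exact Or.inr (Or.inr (CfsgLib.PGroups.nonempty_mulEquiv_of_basis S₁ S₃ B B'))
  · obtain ⟨a, b, B⟩ := (S₁.classify.2 c1).2.1
    obtain ⟨a', b', B'⟩ := (S₂.classify.2 c2).2.1
    exact Or.inl (CfsgLib.PGroups.nonempty_mulEquiv_of_basis S₁ S₂ B B')

end Cfsg.Agent.S0099
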