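import Cfsg.Statements.S0100
import Cfsg.Agent.Lib.PGroups.Omega

set_option autoImplicit false
open Cfsg

namespace Cfsg.Agent.S0100

/-- For odd p, a p-group without normal elementary abelian subgroups of order p^3 has p-rank at most 2. -/
theorem result {P : Type*} [Group P] [Finite P] {p : ℕ} [Fact p.Prime] (hp : p ≠ 2) (hP : IsPGroup p P) (h : ∀ A : Subgroup P, A.Normal → IsMulCommutative A → (∀ a ∈ A, a ^ p = 1) → Nat.card A ≠ p ^ 3) (E : Subgroup P) (hE : IsMulCommutative E) (hEe : ∀ e ∈ E, e ^ p = 1) : Nat.card E ≤ p ^ 2 := by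
  have hpp : p.Prime := Fact.out
  obtain ⟨A, hA⟩ := Set.Finite.exists_maximal
    (s := {A : Subgroup P | A.Normal ∧ IsMulCommutative A ∧ ∀ a ∈ A, a ^ p ^ 1 = 1}) (Set.toFinite _)
    ⟨⊥, inferInstance, inferInstance, by simp⟩
  obtain ⟨hAn, hAab, hAe⟩ := hA.1
  haveI := hAn
  have hΩ : ∀ x ∈ Subgroup.centralizer (A : Set P), x ^ p = 1 → x ∈ A := fun x hx hxp =>
    CfsgLib.PGroups.mem_of_maximal_abelian_exponent hP (n := 1) (by simpa using hp) hAab hAe
      (fun B h1 h2 h3 h4 => le_antisymm (hA.2 ⟨h1, h2, h3⟩ h4) h4) hx (by simpa using hxp)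
  obtain ⟨a, ha⟩ := CfsgLib.PGroups.card_subgroup_eq_pow hP A
  have ha2 : a ≤ 2 := by
    by_contra hlt
    obtain ⟨K, hK, -, hKA, hcard⟩ := CfsgLib.PGroups.exists_normal_card_eq hP (bot_le : ⊥ ≤ A)
      (k := 3) (by rw [Subgroup.card_bot]; exact Nat.one_le_pow _ _ hpp.pos)
      (by rw [ha]; exact Nat.pow_le_pow_right hpp.pos (by omega))
    refine h K hK ⟨⟨fun a b => Subtype.ext (congrArg (fun t : A => (t : P)) (hAab.is_comm.comm ⟨a, hKA a.2⟩ ⟨b, hKA b.2⟩) :)⟩⟩ (fun x hx => ?_) hcard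
    simpa using hAe x (hKA hx)
  by_contra hlt
  push Not at hlt
  have hCA : E ⊓ Subgroup.centralizer (A : Set P) ≤ A := fun x hx => hΩ x hx.2 (hEe x hx.1)
  have hidx := CfsgLib.PGroups.index_centralizer_le hP a ha
  have hidx' : (Subgroup.centralizer (A : Set P)).index ≤ p :=
    hidx.trans (by interval_cases a <;> simp [hpp.one_le])
  have hEC : (E ⊓ Subgroup.centralizer (A : Set P)).relIndex E ≤ p := by
    rw [Subgroup.inf_relIndex_left]
    exact ((Subgroup.relIndex_le_of_le_right le_top (by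
      rw [Subgroup.relIndex_top_right]; exact Subgroup.FiniteIndex.index_ne_zero)).trans_eq
      (Subgroup.relIndex_top_right _)).trans hidx'
  obtain ⟨e, he⟩ := CfsgLib.PGroups.card_subgroup_eq_pow hP E
  have he3 : 3 ≤ e := by
    rw [he] at hlt; exact (Nat.pow_lt_pow_iff_right hpp.one_lt).mp hlt
  set X := E ⊓ Subgroup.centralizer (A : Set P) with hX
  have hXcard : p ^ e ≤ Nat.card X * p := by
    rw [← he, ← Subgroup.relIndex_bot_left, ← Subgroup.relIndex_mul_relIndex ⊥ X E bot_le inf_le_left,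
      Subgroup.relIndex_bot_left]
    exact Nat.mul_le_mul_left _ hEC
  have hXA : X = A := by
    refine Subgroup.eq_of_le_of_card_ge hCA ?_
    refine Nat.le_of_mul_le_mul_right (le_trans ?_ hXcard) hpp.pos
    rw [ha, ← pow_succ]
    exact Nat.pow_le_pow_right hpp.pos (by omega)
  have hAE : A ≤ E := hXA ▸ inf_le_left
  have hEA : E ≤ A := by
    intro x hx
    refine hΩ x (fun y hy => ?_) (hEe x hx)
    exact congrArg Subtype.val (hE.is_comm.comm ⟨y, hAE hy⟩ ⟨x, hx⟩)
  have := Subgroup.card_le_of_le hEA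
  rw [ha, he] at this
  have := (Nat.pow_le_pow_iff_right hpp.one_lt).mp this
  omega

end Cfsg.Agent.S0100
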