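import Cfsg.Statements.S0101
import Cfsg.Agent.Lib.Transfer.CentralTransfer

set_option autoImplicit false
open Cfsg
open Subgroup

namespace Cfsg.Agent.S0101

/-- In a perfect central extension, the kernel meets each Sylow p-subgroup P inside the Frattini subgroup of P. -/
theorem result {H : Type*} {G : Type*} [Group H] [Group G] [Finite H] (σ : H →* G) (hσ : Function.Surjective σ) (hc : σ.ker ≤ Subgroup.center H) (hH : commutator H = ⊤) {p : ℕ} [Fact p.Prime] (P : Sylow p H) : σ.ker ⊓ (P : Subgroup H) ≤ (frattini P).map (P : Subgroup H).subtype := by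
  rintro z ⟨hz, hzP⟩
  refine ⟨⟨z, hzP⟩, ?_, rfl⟩
  rw [SetLike.mem_coe, frattini, Order.radical]
  simp only [mem_iInf]
  intro M hM
  have hnil : Group.IsNilpotent (P : Subgroup H) := P.2.isNilpotent
  have hMn : M.Normal :=
    NormalizerCondition.normal_of_coatom _ Group.normalizerCondition_of_isNilpotent hM
  have hcomm : IsMulCommutative ((P : Subgroup H) ⧸ M) := by
    have : Nontrivial ((P : Subgroup H) ⧸ M) :=
      QuotientGroup.nontrivial_iff.mpr hM.1
    have hne : center ((P : Subgroup H) ⧸ M) ≠ ⊥ :=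
      ((nontrivial_iff_ne_bot _).mp (IsPGroup.center_nontrivial (P.2.to_quotient M)))
    have hlt : M < (center ((P : Subgroup H) ⧸ M)).comap (QuotientGroup.mk' M) := by
      refine lt_of_le_of_ne (QuotientGroup.le_comap_mk' M _) fun he => hne ?_
      rw [← map_comap_eq_self_of_surjective (QuotientGroup.mk'_surjective M) (center _), ← he,
        QuotientGroup.map_mk'_self]
    have htop := hM.2 _ hlt
    refine ⟨⟨fun a b => ?_⟩⟩
    obtain ⟨a, rfl⟩ := QuotientGroup.mk'_surjective M a
    obtain ⟨b, rfl⟩ := QuotientGroup.mk'_surjective M b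
    exact mem_center_iff.mp (mem_comap.mp (htop ▸ mem_top b)) _
  let _ : CommGroup ((P : Subgroup H) ⧸ M) :=
    { (inferInstance : Group ((P : Subgroup H) ⧸ M)) with mul_comm := hcomm.is_comm.comm }
  have h1 := CfsgLib.Transfer.map_pow_index_eq_one (QuotientGroup.mk' M) (z := ⟨z, hzP⟩) (hc hz)
    (hH ▸ mem_top z)
  rw [← QuotientGroup.eq_one_iff]
  exact ((P.2.to_quotient M).powEquiv' P.not_dvd_index).injective (h1.trans (one_pow _).symm)

end Cfsg.Agent.S0101
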