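import Cfsg.Statements.S0102
import Cfsg.Agent.Lib.Transfer.CentralTransfer

set_option autoImplicit false
open Cfsg
open Subgroup

namespace Cfsg.Agent.S0102

/-- A finite perfect group with cyclic Sylow p-subgroups has no perfect central extension whose kernel has order divisible by p. -/
theorem result {G : Type*} {H : Type*} [Group G] [Group H] [Finite G] [Finite H] (hG : commutator G = ⊤) {p : ℕ} [Fact p.Prime] (hcyc : ∀ P : Sylow p G, IsCyclic P) (σ : H →* G) (hσ : Function.Surjective σ) (hz : σ.ker ≤ Subgroup.center H) (hH : commutator H = ⊤) : ¬ p ∣ Nat.card σ.ker := by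
  obtain ⟨P⟩ : Nonempty (Sylow p H) := inferInstance
  have hcycP : IsCyclic ((P : Subgroup H).map σ) := hcyc (P.mapSurjective hσ)
  have hker : (σ.subgroupMap (P : Subgroup H)).ker ≤ center (P : Subgroup H) := by
    intro x hx
    have hx' : (x : H) ∈ σ.ker := congrArg Subtype.val hx
    rw [mem_center_iff]
    exact fun y => Subtype.ext (mem_center_iff.mp (hz hx') _)
  have hcomm : IsMulCommutative (P : Subgroup H) :=
    ⟨⟨commutative_of_cyclic_center_quotient (σ.subgroupMap (P : Subgroup H)) hker⟩⟩
  have h0 := CfsgLib.Transfer.inf_commutator_inf_center_eq_bot (P : Subgroup H) hcomm P.card_coprime_index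
  have hbot : (P : Subgroup H).subgroupOf σ.ker = ⊥ := by
    rw [eq_bot_iff]
    intro x hx
    have : (x : H) ∈ (P : Subgroup H) ⊓ commutator H ⊓ center H :=
      ⟨⟨mem_subgroupOf.mp hx, hH ▸ mem_top _⟩, hz x.2⟩
    rw [h0, mem_bot] at this
    exact mem_bot.mpr (Subtype.ext this)
  have := CfsgLib.Transfer.not_dvd_index_subgroupOf_of_normal P σ.ker
  rwa [hbot, index_bot] at this

end Cfsg.Agent.S0102
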