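import Cfsg.Statements.S0104
import Cfsg.Agent.Lib.Transfer.Fusion

set_option autoImplicit false
open Cfsg
open Subgroup CfsgLib.Transfer

namespace Cfsg.Agent.S0104

/-- A subgroup Z of a Sylow p-subgroup P that is normalized by N_G(P) is weakly closed in P exactly when it is normal in every Sylow p-subgroup containing it. -/
theorem result {G : Type*} [Group G] [Finite G] {p : ℕ} [Fact p.Prime] (P : Sylow p G) (Z : Subgroup G) (hZP : Z ≤ (P : Subgroup G)) (hZN : Subgroup.normalizer (P : Set G) ≤ Subgroup.normalizer (Z : Set G)) : Cfsg.IsWeaklyClosed Z P ↔ ∀ R : Sylow p G, Z ≤ (R : Subgroup G) → (R : Subgroup G) ≤ Subgroup.normalizer (Z : Set G) := by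
  constructor
  · intro hW R hR
    obtain ⟨g, hg⟩ := MulAction.exists_smul_eq G P R
    subst hg
    have hmap : Z.map (MulAut.conj g⁻¹).toMonoidHom ≤ (P : Subgroup G) := by
      rintro _ ⟨z, hz, rfl⟩
      simp only [MulEquiv.coe_toMonoidHom, MulAut.conj_apply, inv_inv]
      exact mem_coe_smul_sylow_iff.mp (hR hz)
    have hgN : g ∈ normalizer (Z : Set G) :=
      inv_mem_iff.mp (mem_normalizer_iff_map_conj_eq.mpr (hW.2 g⁻¹ hmap))
    intro r hr
    have h1 : g⁻¹ * r * g ∈ normalizer (Z : Set G) :=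
      hZN (le_normalizer (mem_coe_smul_sylow_iff.mp hr))
    have h2 := mul_mem (mul_mem hgN h1) (inv_mem hgN)
    rwa [show g * (g⁻¹ * r * g) * g⁻¹ = r by group] at h2
  · intro h
    refine ⟨hZP, fun g hg => ?_⟩
    have hR : Z ≤ ((g⁻¹ • P : Sylow p G) : Subgroup G) := by
      intro z hz
      rw [mem_coe_smul_sylow_iff, inv_inv]
      exact hg ⟨z, hz, by simp⟩
    obtain ⟨k, hk, hkP⟩ := exists_smul_eq_of_le P (g⁻¹ • P) (h P hZP) (h _ hR)
    have h1 : g * k ∈ normalizer ((P : Subgroup G) : Set G) := by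
      refine Sylow.smul_eq_iff_mem_normalizer.mp ?_
      rw [mul_smul, hkP, smul_inv_smul]
    exact mem_normalizer_iff_map_conj_eq.mp ((mul_mem_cancel_right hk).mp (hZN h1))

end Cfsg.Agent.S0104
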