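import Cfsg.Statements.S0105
import Cfsg.Agent.Lib.Transfer.AbelianHall

set_option autoImplicit false
open Cfsg
open Subgroup CfsgLib.Transfer

namespace Cfsg.Agent.S0105

/-- With an abelian Sylow p-subgroup P, some quotient of G is isomorphic to the part of P central in N_G(P). -/
theorem result {G : Type*} [Group G] [Finite G] {p : ℕ} [Fact p.Prime] (P : Sylow p G) (hP : IsMulCommutative P) : ∃ (N : Subgroup G) (hN : N.Normal), Nonempty (G ⧸ N ≃* ((P : Subgroup G) ⊓ Subgroup.centralizer (Subgroup.normalizer (P : Set G) : Set G) : Subgroup G)) := by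
  let N : Subgroup G := normalizer ((P : Subgroup G) : Set G)
  let S : Sylow p N := P.subtype le_normalizer
  have hSn : (S : Subgroup N).Normal := P.normal_in_normalizer
  have hSc : IsMulCommutative (S : Subgroup N) := ⟨⟨fun a b => by
    have := congrArg Subtype.val (hP.is_comm.comm (⟨a, a.2⟩ : (P : Subgroup G)) ⟨b, b.2⟩)
    exact Subtype.ext (Subtype.ext this)⟩⟩
  set Z : Subgroup G := (P : Subgroup G) ⊓ centralizer (N : Set G) with hZ
  let hom : Z →* (P : Subgroup G) ⧸ (P : Subgroup G).focalSubgroupOf :=
    (QuotientGroup.mk' _).comp (inclusion (inf_le_left : Z ≤ (P : Subgroup G)))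
  have hbij : Function.Bijective hom := by
    constructor
    · rw [injective_iff_map_eq_one]
      intro z hz
      have h1 : (z : G) ∈ (P : Subgroup G).focalSubgroup :=
        (mem_subgroupOf (H := (P : Subgroup G).focalSubgroup) (h := inclusion (inf_le_left : Z ≤ (P : Subgroup G)) z)).mp ((QuotientGroup.eq_one_iff (N := (P : Subgroup G).focalSubgroupOf) _).mp hz)
      rw [focalSubgroup_eq_of_isMulCommutative P hP] at h1
      let w : N := ⟨z, le_normalizer z.2.1⟩
      have hwN : w ∈ commutator N := by
        obtain ⟨v, hv, hvw⟩ : (z : G) ∈ (commutator N).map N.subtype := by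
          rw [map_subtype_commutator]; exact commutator_mono le_normalizer le_rfl h1
        rwa [show w = v from Subtype.ext hvw.symm]
      have hwZ : w ∈ center N := mem_center_iff.mpr fun n => Subtype.ext (z.2.2 n n.2)
      have h2 : w ∈ (S : Subgroup N) ⊓ commutator N ⊓ center N := ⟨⟨z.2.1, hwN⟩, hwZ⟩
      rw [inf_commutator_inf_center_eq_bot (S : Subgroup N) hSc S.card_coprime_index, mem_bot] at h2
      exact Subtype.ext (show (z : G) = 1 from congrArg Subtype.val h2)
    · intro q
      obtain ⟨x, rfl⟩ := QuotientGroup.mk'_surjective _ q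
      let w : N := ⟨x, le_normalizer x.2⟩
      obtain ⟨y, hy, z, hz, hyz⟩ := mem_sup_of_normal_left.mp
        (le_commutator_sup_center (S : Subgroup N) hSc S.card_coprime_index (show w ∈ (S : Subgroup N) from x.2))
      have hzZ : (z : G) ∈ Z := ⟨hz.2, fun n hn => congrArg Subtype.val (mem_center_iff.mp hz.1 ⟨n, hn⟩)⟩
      refine ⟨⟨z, hzZ⟩, ?_⟩
      refine QuotientGroup.eq.mpr ?_
      refine (mem_subgroupOf (H := (P : Subgroup G).focalSubgroup)).mpr ?_
      rw [focalSubgroup_eq_of_isMulCommutative P hP]
      have hyG : (y : G) ∈ ⁅(P : Subgroup G), N⁆ := by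
        have h3 := mem_map_of_mem N.subtype hy
        rw [map_commutator, ← MonoidHom.range_eq_map, range_subtype] at h3
        exact commutator_mono (by rintro _ ⟨a, ha, rfl⟩; exact ha) le_rfl h3
      have hxe : (x : G) = (y : G) * (z : G) := (congrArg Subtype.val hyz).symm
      change (z : G)⁻¹ * (x : G) ∈ _
      rw [hxe]
      have hcomm := congrArg Subtype.val (mem_center_iff.mp hz.1 y)
      simp only [coe_mul] at hcomm
      rw [hcomm, inv_mul_cancel_left]
      exact hyG
  exact ⟨(P : Subgroup G).transferFocal.ker, inferInstance,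
    ⟨(transferFocal.quotientKerMulEquivQuotientFocalSubroupOf P).trans (MulEquiv.ofBijective hom hbij).symm⟩⟩

end Cfsg.Agent.S0105
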