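import Cfsg.Statements.S0107
import Cfsg.Agent.Lib.Transfer.ThompsonTransfer

set_option autoImplicit false
open Cfsg
open Subgroup CfsgLib.Transfer

namespace Cfsg.Agent.S0107

/-- A finite group with no nontrivial 2-group quotient and dihedral Sylow 2-subgroups of order at least 8 has a single class of involutions. -/
theorem result {G : Type*} [Group G] [Finite G] (T : Sylow 2 G) (n : ℕ) (hn : 2 ≤ n) (hT : Nonempty ((T : Subgroup G) ≃* DihedralGroup (2 ^ n))) (hO : Cfsg.pResidual 2 G = ⊤) (x y : G) (hx : orderOf x = 2) (hy : orderOf y = 2) : ∃ g : G, g * x * g⁻¹ = y := by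
  obtain ⟨e⟩ := hT
  have h2n : 2 ^ n = 2 * 2 ^ (n - 1) := by
    rw [← pow_succ']; congr 1; omega
  have hne : NeZero (2 ^ n) := ⟨(Nat.two_pow_pos n).ne'⟩
  let f : DihedralGroup (2 ^ n) →* G := (T : Subgroup G).subtype.comp e.symm.toMonoidHom
  have hf : Function.Injective f := (T : Subgroup G).subtype_injective.comp e.symm.injective
  let z : G := f (DihedralGroup.r ((2 ^ (n - 1) : ℕ) : ZMod (2 ^ n)))
  -- the rotations
  let Q : Subgroup G := (zpowers (DihedralGroup.r (1 : ZMod (2 ^ n)))).map f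
  have hrot : ∀ d ∈ zpowers (DihedralGroup.r (1 : ZMod (2 ^ n))), d ^ 2 = 1 → d ≠ 1 →
      d = DihedralGroup.r ((2 ^ (n - 1) : ℕ) : ZMod (2 ^ n)) := by
    intro d hd h2 h1
    obtain ⟨k, rfl⟩ := mem_zpowers_iff.mp hd
    rw [DihedralGroup.r_one_zpow] at h2 h1 ⊢
    rw [DihedralGroup.r_pow, ← DihedralGroup.r_zero, DihedralGroup.r.injEq] at h2
    rw [← DihedralGroup.r_zero, Ne, DihedralGroup.r.injEq] at h1
    rw [DihedralGroup.r.injEq]
    have h2' : ((k * 2 : ℤ) : ZMod (2 ^ n)) = 0 := by push_cast; simpa using h2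
    rw [ZMod.intCast_zmod_eq_zero_iff_dvd, h2n] at h2'
    push_cast at h2'
    rw [mul_comm k] at h2'
    obtain ⟨j, hj⟩ := (mul_dvd_mul_iff_left (two_ne_zero : (2 : ℤ) ≠ 0)).mp h2'
    rcases Int.even_or_odd j with ⟨l, rfl⟩ | ⟨l, rfl⟩
    · exact absurd ((ZMod.intCast_zmod_eq_zero_iff_dvd _ _).mpr ⟨l, by rw [hj, h2n]; push_cast; ring⟩) h1
    · rw [← Int.cast_natCast, ZMod.intCast_eq_intCast_iff_dvd_sub]
      exact ⟨-l, by rw [hj, h2n]; push_cast; ring⟩
  have hQT : Q ≤ (T : Subgroup G) := by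
    rintro _ ⟨d, -, rfl⟩
    exact (e.symm d).2
  have hQi : Q.relIndex (T : Subgroup G) = 2 := by
    have h1 := relIndex_mul_index hQT
    have h2 := Q.card_mul_index
    have h3 := (T : Subgroup G).card_mul_index
    have hQc : Nat.card Q = 2 ^ n := by
      rw [card_map_of_injective hf, Nat.card_zpowers, DihedralGroup.orderOf_r_one]
    have hTc : Nat.card (T : Subgroup G) = 2 * 2 ^ n := by
      rw [Nat.card_congr e.toEquiv, DihedralGroup.nat_card]
    have hpos : 0 < (T : Subgroup G).index := Nat.pos_of_ne_zero index_ne_zero_of_finite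
    rw [hQc, ← h1, ← h3, hTc] at h2
    have : 2 ^ n * (T : Subgroup G).index * Q.relIndex (T : Subgroup G) =
        2 ^ n * (T : Subgroup G).index * 2 := by
      rw [mul_comm (Q.relIndex _)] at h2
      rw [mul_assoc, h2]; ring
    exact Nat.eq_of_mul_eq_mul_left (by positivity) this
  -- every involution is conjugate to `z`
  have key : ∀ u : G, orderOf u = 2 → ∃ g : G, g * u * g⁻¹ = z := by
    intro u hu
    by_cases hmem : ∃ g : G, g * u * g⁻¹ ∈ Q
    · obtain ⟨g, d, hd, hdu⟩ := hmem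
      refine ⟨g, ?_⟩
      rw [← hdu]
      have ho : orderOf d = 2 := by
        rw [← orderOf_injective f hf, hdu, ← hu]
        exact orderOf_injective (MulAut.conj g).toMonoidHom (MulAut.conj g).injective u
      refine congrArg f (hrot d hd ?_ ?_)
      · exact orderOf_dvd_iff_pow_eq_one.mp (dvd_of_eq ho)
      · intro h1; rw [h1, orderOf_one] at ho; exact absurd ho (by norm_num)
    · obtain ⟨M, hM, hMi, huM⟩ :=
        exists_index_two_of_not_conj_mem T hQT hQi hu (not_exists.mp hmem)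
      have : Cfsg.pResidual 2 G ≤ M := pResidual_le ⟨1, by rw [hMi]; rfl⟩
      rw [hO] at this
      exact absurd (this (mem_top u)) huM
  obtain ⟨a, ha⟩ := key x hx
  obtain ⟨b, hb⟩ := key y hy
  refine ⟨b⁻¹ * a, ?_⟩
  rw [← hb] at ha
  calc b⁻¹ * a * x * (b⁻¹ * a)⁻¹ = b⁻¹ * (a * x * a⁻¹) * b := by group
    _ = y := by rw [ha]; group

end Cfsg.Agent.S0107
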