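import Cfsg.Statements.S0110
import Cfsg.Agent.Lib.PGroups.Extraspecial

set_option autoImplicit false
open Cfsg

namespace Cfsg.Agent.S0110

/-- In a p-group G, an extraspecial subgroup E with [G, E] ≤ Z(E) satisfies G = E C_G(E). -/
theorem result {G : Type*} [Group G] [Finite G] {p : ℕ} [Fact p.Prime] (hG : IsPGroup p G) (E : Subgroup G) (hE : Cfsg.IsExtraspecial p E) (h : ⁅(⊤ : Subgroup G), E⁆ ≤ E ⊓ Subgroup.centralizer (E : Set G)) : E ⊔ Subgroup.centralizer (E : Set G) = ⊤ := by
  have hmemZ : ∀ x : G, x ∈ E ⊓ Subgroup.centralizer (E : Set G) → x ∈ (Subgroup.center E).map E.subtype :=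
    fun x hx => ⟨⟨x, hx.1⟩, Subgroup.mem_center_iff.mpr fun y => Subtype.ext (hx.2 y y.2), rfl⟩
  haveI hEn : E.Normal := Subgroup.commutator_top_left_le_iff.mp (h.trans inf_le_left)
  haveI : ((Subgroup.center E).map E.subtype).Normal := inferInstance
  refine CfsgLib.PGroups.sup_centralizer_eq_top_of_extraspecial hE ?_ (fun g x hx =>
    hmemZ _ (h (Subgroup.commutator_mem_commutator (Subgroup.mem_top g) hx)))
  set Z := (Subgroup.center E).map E.subtype with hZ
  have hZp : Nat.card Z = p := by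
    rw [← hE.2]; exact Subgroup.card_map_of_injective E.subtype_injective
  have hZne : Z ≠ ⊥ := fun hb => (Fact.out : p.Prime).ne_one (by rw [← hZp, hb, Subgroup.card_bot])
  have hlt := CfsgLib.PGroups.commutator_top_lt hG hZne
  have hbot : ⁅Z, (⊤ : Subgroup G)⁆ = ⊥ := by
    rw [← Subgroup.card_eq_one]
    rcases (Nat.dvd_prime (Fact.out : p.Prime)).mp (hZp ▸ Subgroup.card_dvd_of_le hlt.le) with h1 | h1
    · exact h1
    · exact absurd (Subgroup.eq_of_le_of_card_ge hlt.le (by rw [hZp, h1])) hlt.ne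
  exact Subgroup.commutator_top_right_eq_bot_iff_le_center.mp hbot

end Cfsg.Agent.S0110
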