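import Cfsg.Statements.S0113
import Cfsg.Agent.Lib.PGroups.MaximalClassTwo

set_option autoImplicit false
open Cfsg

namespace Cfsg.Agent.S0113

/-- A 2-group of maximal class contains a cyclic subgroup of index 2. -/
theorem result {X : Type*} [Group X] [Finite X] (n : ℕ) (hn : 3 ≤ n) (hX : Nat.card X = 2 ^ n) (hc : Group.nilpotencyClass X = n - 1) : ∃ C : Subgroup X, IsCyclic C ∧ C.index = 2 := by
  obtain ⟨c, hord⟩ := CfsgLib.PGroups.exists_orderOf_eq_of_maximalClass hn hX hc
  refine ⟨Subgroup.zpowers c, inferInstance, ?_⟩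
  have h := Subgroup.card_mul_index (Subgroup.zpowers c)
  rw [Nat.card_zpowers, hord, hX, ← mul_pow_sub_one (show n ≠ 0 by omega) (2 : ℕ),
    mul_comm 2 (2 ^ (n - 1))] at h
  exact Nat.eq_of_mul_eq_mul_left (pow_pos two_pos (n - 1)) h

end Cfsg.Agent.S0113
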