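import Cfsg.Statements.S0114
import Cfsg.Agent.Lib.PGroups.MaximalClassTwo

set_option autoImplicit false
open Cfsg

namespace Cfsg.Agent.S0114

/-- The central quotient of a 2-group of maximal class is dihedral. -/
theorem result {X : Type*} [Group X] [Finite X] (n : ℕ) (hn : 3 ≤ n) (hX : Nat.card X = 2 ^ n) (hc : Group.nilpotencyClass X = n - 1) : Nonempty (X ⧸ Subgroup.center X ≃* DihedralGroup (2 ^ (n - 2))) := by
  obtain ⟨c, t, hord, ht, hdec, hZ, hw1, ht2, htc⟩ :=
    CfsgLib.PGroups.maximalClass_two_structure hn hX hc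
  obtain ⟨hZ2, hQ, -⟩ := CfsgLib.PGroups.center_of_maximalClass (p := 2) hn hX hc
  have hwQ : ((c ^ 2 ^ (n - 2) : X) : X ⧸ Subgroup.center X) = 1 :=
    (QuotientGroup.eq_one_iff _).mpr (hZ.ge (Subgroup.mem_zpowers _))
  refine CfsgLib.Classical.nonempty_mulEquiv_dihedralGroup (pow_pos two_pos _)
    (x := (c : X ⧸ Subgroup.center X)) (s := (t : X ⧸ Subgroup.center X)) ?_ ?_ ?_ ?_ ?_
  · have h1 : (c : X ⧸ Subgroup.center X) ^ 2 ^ (n - 2) = 1 := by
      rw [← QuotientGroup.mk_pow, hwQ]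
    have h2 : ¬ (c : X ⧸ Subgroup.center X) ^ 2 ^ (n - 3) = 1 := by
      intro h
      rw [← QuotientGroup.mk_pow, QuotientGroup.eq_one_iff] at h
      have h4 := pow_card_eq_one' (x := (⟨_, h⟩ : Subgroup.center X))
      rw [hZ2] at h4
      have h3 : (c ^ 2 ^ (n - 3)) ^ 2 = 1 := congrArg Subtype.val h4
      rw [← pow_mul, ← pow_succ, ← orderOf_dvd_iff_pow_eq_one, hord,
        Nat.pow_dvd_pow_iff_le_right one_lt_two] at h3
      omega
    rw [show n - 2 = n - 3 + 1 by omega] at h1 ⊢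
    exact orderOf_eq_prime_pow (p := 2) h2 h1
  · rw [← QuotientGroup.mk_mul]
    rcases ht2 with h | h <;> rw [h]
    · exact QuotientGroup.mk_one _
    · exact hwQ
  · rw [← QuotientGroup.mk_inv, ← QuotientGroup.mk_mul, ← QuotientGroup.mk_mul]
    rcases htc with h | h <;> rw [h]
    · rfl
    · rw [QuotientGroup.mk_mul, hwQ, one_mul, QuotientGroup.mk_inv]
  · intro h
    obtain ⟨k, hk⟩ := Subgroup.mem_zpowers_iff.mp h
    rw [← QuotientGroup.mk_zpow, QuotientGroup.eq] at hk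
    have hmem : (c ^ k)⁻¹ * t ∈ Subgroup.zpowers c := by
      rw [hZ] at hk
      exact Subgroup.zpowers_le.mpr (pow_mem (Subgroup.mem_zpowers c) _) hk
    have := mul_mem (zpow_mem (Subgroup.mem_zpowers c) k) hmem
    rw [mul_inv_cancel_left] at this
    exact ht this
  · rw [hQ, ← pow_succ']; congr 1; omega

end Cfsg.Agent.S0114
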