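import Cfsg.Statements.S0115
import Cfsg.Agent.Lib.PGroups.MaximalClassTwo

set_option autoImplicit false
open Cfsg

namespace Cfsg.Agent.S0115

/-- A 2-group of order 2^n, n ≥ 3, is of maximal class exactly when its commutator quotient is a Klein four-group. -/
theorem result {X : Type*} [Group X] [Finite X] (n : ℕ) (hn : 3 ≤ n) (hX : Nat.card X = 2 ^ n) : Group.nilpotencyClass X = n - 1 ↔ IsKleinFour (X ⧸ commutator X) := by
  have hP : IsPGroup 2 X := IsPGroup.of_card hX
  constructor
  · intro hc
    have hidx := CfsgLib.PGroups.index_commutator_of_maximalClass (p := 2) hn hX hc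
    have hna : ¬ IsMulCommutative X := fun h => by
      haveI := hP.isNilpotent
      have := Group.IsNilpotent.nilpotencyClass_le_one_iff.mpr h; omega
    refine ⟨by rw [← Subgroup.index, hidx]; norm_num, ?_⟩
    have : Nontrivial (X ⧸ commutator X) := Finite.one_lt_card_iff_nontrivial.mp
      (by rw [← Subgroup.index, hidx]; norm_num)
    refine Monoid.exponent_eq_prime_iff Nat.prime_two |>.mpr fun q hq => orderOf_eq_prime ?_ hq
    obtain ⟨g, rfl⟩ := QuotientGroup.mk_surjective q
    rw [← QuotientGroup.mk_pow, QuotientGroup.eq_one_iff,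
      ← CfsgLib.PGroups.frattini_eq_commutator hP hna hidx]
    exact CfsgLib.PGroups.pow_mem_frattini hP g
  · intro hk
    exact CfsgLib.PGroups.maximalClass_of_index_commutator hX hk.card_four

end Cfsg.Agent.S0115
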