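import Cfsg.Statements.S0116
import Cfsg.Agent.Lib.Transfer.Alperin

set_option autoImplicit false
open Cfsg
open CfsgLib.Transfer

namespace Cfsg.Agent.S0116

/-- The Alperin fusion Theorem states that conjugation between subsets of a Sylow p-subgroup P factors through normalizers of tame intersections P ∩ Q_i with other Sylow p-subgroups, carrying the subset along step by step. -/
theorem result {G : Type*} [Group G] [Finite G] {p : ℕ} [Fact p.Prime] (P : Sylow p G) (A : Set G) (g : G) (hA : A ⊆ (P : Set G)) (hAg : (fun a => g⁻¹ * a * g) '' A ⊆ (P : Set G)) : ∃ (n : ℕ) (Q : Fin n → Sylow p G) (x : Fin n → G), (List.ofFn x).prod = g ∧ (∀ i : Fin n, x i ∈ Subgroup.normalizer ((((P : Subgroup G) ⊓ (Q i : Subgroup G)) : Subgroup G) : Set G) ∧ ¬ p ∣ ((P : Subgroup G) ⊓ Subgroup.normalizer ((((P : Subgroup G) ⊓ (Q i : Subgroup G)) : Subgroup G) : Set G)).relIndex (Subgroup.normalizer ((((P : Subgroup G) ⊓ (Q i : Subgroup G)) : Subgroup G) : Set G)) ∧ ¬ p ∣ ((Q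 i : Subgroup G) ⊓ Subgroup.normalizer ((((P : Subgroup G) ⊓ (Q i : Subgroup G)) : Subgroup G) : Set G)).relIndex (Subgroup.normalizer ((((P : Subgroup G) ⊓ (Q i : Subgroup G)) : Subgroup G) : Set G))) ∧ (∀ h : 0 < n, A ⊆ (((P : Subgroup G) ⊓ (Q ⟨0, h⟩ : Subgroup G) : Subgroup G) : Set G)) ∧ ∀ i : Fin n, ∀ h : i.val + 1 < n, (fun a => (((List.ofFn x).take (i.val + 1)).prod)⁻¹ * a * ((List.ofFn x).take (i.val + 1)).prod) '' A ⊆ (((P : Subgroup G) ⊓ (Q ⟨i.val + 1, h⟩ : Subgroup G) : Subgroup G) : Set G) := by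
  have h := fusionChain P (A := A) (g := g) hA (fun a ha => hAg ⟨a, ha, rfl⟩)
  clear hA hAg
  induction h with
  | nil A => exact ⟨0, Fin.elim0, Fin.elim0, by simp, fun i => i.elim0, fun h => absurd h (lt_irrefl 0), fun i => i.elim0⟩
  | @cons A g Q₀ x₀ hxN hP hQ hA _ ih =>
    obtain ⟨n, Q, x, hprod, hprop, hfirst, hrest⟩ := ih
    refine ⟨n + 1, Fin.cons Q₀ Q, Fin.cons x₀ x, ?_, ?_, fun _ => ?_, ?_⟩
    · rw [List.ofFn_cons, List.prod_cons, hprod]
    · intro i
      refine Fin.cases ?_ ?_ i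
      · simp only [Fin.cons_zero]
        exact ⟨hxN, hP, hQ⟩
      · intro j
        simp only [Fin.cons_succ]
        exact hprop j
    · exact hA
    · intro i
      refine Fin.cases ?_ ?_ i
      · intro hi
        have hn : 0 < n := by simpa using hi
        rintro _ ⟨a, ha, rfl⟩
        have e : (⟨(0 : Fin (n + 1)).val + 1, hi⟩ : Fin (n + 1)) = Fin.succ ⟨0, hn⟩ := by
          ext; simp
        rw [e, Fin.cons_succ]
        refine hfirst hn ⟨a, ha, ?_⟩
        simp
      · intro j hj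
        have hj' : j.val + 1 < n := by simpa using hj
        rintro _ ⟨a, ha, rfl⟩
        have e : (⟨(Fin.succ j).val + 1, hj⟩ : Fin (n + 1)) = Fin.succ ⟨j.val + 1, hj'⟩ := by
          ext; simp
        rw [e, Fin.cons_succ]
        refine hrest j hj' ⟨x₀⁻¹ * a * x₀, ⟨a, ha, rfl⟩, ?_⟩
        simp only [Fin.val_succ, List.ofFn_cons, List.take_succ_cons, List.prod_cons]
        group

end Cfsg.Agent.S0116
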