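import Cfsg.Statements.S0120
import Mathlib
import Cfsg.Agent.Lib.OddOrder.OmegaFixed

set_option autoImplicit false
open Cfsg

namespace Cfsg.Agent.S0120

/-- For odd p, a p'-automorphism of a p-group acting trivially on the elements of order dividing p is trivial. -/
theorem result {G : Type*} [Group G] [Finite G] {p : ℕ} [Fact p.Prime] (hp : p ≠ 2) (hG : IsPGroup p G) (a : MulAut G) (ha : Nat.Coprime (orderOf a) p) (h : ∀ x : G, x ^ p = 1 → a x = x) : a = 1 := by
  let φ : Subgroup.zpowers a →* MulAut G := (Subgroup.zpowers a).subtype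
  let X := SemidirectProduct G (Subgroup.zpowers a) φ
  let i : G →* X := SemidirectProduct.inl
  let j : Subgroup.zpowers a →* X := SemidirectProduct.inr
  haveI : Finite X := Finite.of_equiv _ SemidirectProduct.equivProd.symm
  have hconj : ∀ (b : Subgroup.zpowers a) (g : G), j b * i g * (j b)⁻¹ = i (φ b g) := fun b g =>
    (SemidirectProduct.inl_aut b g).symm ▸ (map_inv j b) ▸ rfl
  have hT : IsPGroup p i.range :=
    hG.of_surjective i.rangeRestrict i.rangeRestrict_surjective
  have hQ : (Nat.card j.range).Coprime p := by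
    rw [← Nat.card_congr (MonoidHom.ofInjective SemidirectProduct.inr_injective).toEquiv, Nat.card_zpowers]
    exact ha
  have hQT : j.range ≤ Subgroup.normalizer (i.range : Set X) := by
    rintro _ ⟨b, rfl⟩
    refine Subgroup.mem_normalizer_iff.mpr fun x => ⟨?_, ?_⟩
    · rintro ⟨g, rfl⟩; exact ⟨φ b g, (hconj b g).symm⟩
    · rintro ⟨g, hg⟩
      refine ⟨φ b⁻¹ g, ?_⟩
      rw [← hconj b⁻¹ g, hg, map_inv]
      simp [mul_assoc]
  have key := CfsgLib.OddOrder.le_centralizer_of_fix_order_prime hp i.range j.range hT hQ hQT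
    (by
      rintro _ ⟨g, rfl⟩ hg _ ⟨b, rfl⟩
      have hg' : g ^ p = 1 := SemidirectProduct.inl_injective (φ := φ) (by rw [map_pow, map_one]; exact hg)
      have hb : φ b g = g := by
        have hle : Subgroup.zpowers a ≤ MulAction.stabilizer (MulAut G) g :=
          Subgroup.zpowers_le.mpr (h g hg')
        exact hle b.2
      exact mul_inv_eq_iff_eq_mul.mp (by rw [hconj, hb]))
  ext g
  have h1 := key ⟨⟨a, Subgroup.mem_zpowers a⟩, rfl⟩ (i g) ⟨g, rfl⟩
  have h2 := hconj ⟨a, Subgroup.mem_zpowers a⟩ g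
  rw [← h1, mul_inv_cancel_right] at h2
  exact (SemidirectProduct.inl_injective h2).symm

end Cfsg.Agent.S0120
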