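import Cfsg.Statements.S0125
import Cfsg.Agent.Lib.Transfer.Control

set_option autoImplicit false
open Cfsg
open Subgroup CfsgLib.Transfer

namespace Cfsg.Agent.S0125

/-- The centralizer of a self-centralizing normal subgroup A of a Sylow p-subgroup is the direct product of A with a normal p'-subgroup. -/
theorem result {G : Type*} [Group G] [Finite G] {p : ℕ} [Fact p.Prime] (R : Sylow p G) (A : Subgroup G) (hAR : A ≤ (R : Subgroup G)) (hAn : (R : Subgroup G) ≤ Subgroup.normalizer (A : Set G)) (hC : (R : Subgroup G) ⊓ Subgroup.centralizer (A : Set G) = A) : ∃ H : Subgroup G, H ≤ Subgroup.centralizer (A : Set G) ∧ Nat.Coprime (Nat.card H) p ∧ Subgroup.centralizer (A : Set G) ≤ Subgroup.normalizer (H : Set G) ∧ H ⊓ A = ⊥ ∧ H ⊔ A = Subgroup.centralizer (A : Set G) := by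
  let M : Subgroup G := normalizer (A : Set G)
  let C : Subgroup G := centralizer (A : Set G)
  have hCM : C ≤ M := by
    intro x hx
    rw [mem_normalizer_iff_conj_image_eq]
    refine (Set.image_congr fun a ha => ?_).trans (Set.image_id _)
    simp [← mem_centralizer_iff.mp hx a ha]
  have hAC : A ≤ C := fun a ha => (hC.ge ha).2
  have : (C.subgroupOf M).Normal := normalizerMonoidHom_ker A ▸ inferInstance
  have hidx : ¬ p ∣ A.relIndex C := by
    have h := not_dvd_index_subgroupOf_of_normal (R.subtype hAn) (C.subgroupOf M)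
    rw [Sylow.coe_subtype] at h
    change ¬ p ∣ ((R : Subgroup G).subgroupOf M).relIndex (C.subgroupOf M) at h
    rwa [relIndex_subgroupOf hCM, ← inf_relIndex_right, hC] at h
  let S : Sylow p C := ((R.2.to_le hAR).comap_subtype (K := C)).toSylow hidx
  have hcen : ∀ c : C, ∀ a ∈ (S : Subgroup C), a * c = c * a := fun c a ha =>
    Subtype.ext (mem_centralizer_iff.mp c.2 _ (mem_subgroupOf.mp ha))
  have hCc : normalizer ((S : Subgroup C) : Set C) ≤ centralizer ((S : Subgroup C) : Set C) :=
    fun c _ => mem_centralizer_iff.mpr fun a ha => hcen c a ha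
  have hcomp := hasNormalPComplement_of_normalizer_le_centralizer S hCc
  have hn := pResidual_normal (G := C) (p := p)
  refine ⟨(Cfsg.pResidual p C).map C.subtype, map_subtype_le _, ?_, ?_, ?_, ?_⟩
  · rw [card_map_of_injective C.subtype_injective, Nat.coprime_comm, (Fact.out : p.Prime).coprime_iff_not_dvd]
    exact hasNormalPComplement_iff_pResidual.mp hcomp
  · intro c hc
    rw [mem_set_normalizer_iff]
    intro y
    constructor
    · rintro ⟨z, hz, rfl⟩
      exact ⟨(⟨c, hc⟩ : C) * z * (⟨c, hc⟩ : C)⁻¹, hn.conj_mem z hz _, rfl⟩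
    · rintro ⟨z, hz, hzy⟩
      refine ⟨(⟨c, hc⟩ : C)⁻¹ * z * (⟨c, hc⟩ : C), ?_, ?_⟩
      · simpa using hn.conj_mem z hz (⟨c, hc⟩ : C)⁻¹
      · change c⁻¹ * (z : G) * c = y
        rw [show (z : G) = c * y * c⁻¹ from hzy]
        group
  · rw [eq_bot_iff]
    rintro _ ⟨⟨z, hz, rfl⟩, hzA⟩
    rw [mem_bot, disjoint_def.mp (isComplement'_pResidual hcomp S).disjoint hz (mem_subgroupOf.mpr hzA), map_one]
  · refine le_antisymm (sup_le (map_subtype_le _) hAC) fun g hg => ?_
    have hmem : (⟨g, hg⟩ : C) ∈ Cfsg.pResidual p C ⊔ (S : Subgroup C) := by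
      rw [(isComplement'_pResidual hcomp S).sup_eq_top]; exact mem_top _
    obtain ⟨c, hc, u, hu, he⟩ := mem_sup_of_normal_left.mp hmem
    rw [show g = (c : G) * (u : G) from (congrArg Subtype.val he).symm]
    exact mul_mem (mem_sup_left ⟨c, hc, rfl⟩) (mem_sup_right (mem_subgroupOf.mp hu))

end Cfsg.Agent.S0125
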