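import Cfsg.Statements.S0127
import Cfsg.Agent.S0126
open scoped commutatorElement

set_option autoImplicit false
open Cfsg

namespace Cfsg.Agent.S0127

/-- For odd p, in a non-cyclic p-group with a cyclic subgroup of index p, the elements of order dividing p generate an elementary abelian subgroup of order p^2. -/
theorem result {R : Type*} [Group R] [Finite R] {p : ℕ} [Fact p.Prime] (hp : p ≠ 2) (hR : IsPGroup p R) (hnc : ¬ IsCyclic R) (C : Subgroup R) (hC : IsCyclic C) (hCi : C.index = p) : Cfsg.IsElementaryAbelian p (Subgroup.closure {x : R | x ^ p = 1}) ∧ Nat.card (Subgroup.closure {x : R | x ^ p = 1}) = p ^ 2 := by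
  have hpp : p.Prime := Fact.out
  obtain ⟨A, hAn, hAe, hAc⟩ := Cfsg.Agent.S0126.result hp hR hnc
  haveI := hC
  haveI : C.Normal := CfsgLib.PGroups.normal_of_isCoatom hR
    (CfsgLib.PGroups.isCoatom_of_index_eq_prime hCi)
  obtain ⟨⟨x, hxC⟩, hxgen⟩ := IsCyclic.exists_generator (α := C)
  have hCeq : C = Subgroup.zpowers x := by
    refine le_antisymm (fun a ha => ?_) (Subgroup.zpowers_le.mpr hxC)
    obtain ⟨i, hi⟩ := Subgroup.mem_zpowers_iff.mp (hxgen ⟨a, ha⟩)
    exact Subgroup.mem_zpowers_iff.mpr ⟨i, by simpa using congrArg Subtype.val hi⟩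
  obtain ⟨k, hk⟩ := IsPGroup.iff_orderOf.mp hR x
  have hxc : ∀ g : R, ⁅g, x⁆ ∈ C ∧ ⁅g, x⁆ ^ p = 1 := by
    intro g
    refine ⟨by rw [commutatorElement_def]; exact mul_mem (‹C.Normal›.conj_mem x hxC g) (inv_mem hxC), ?_⟩
    have hr := ‹C.Normal›.conj_mem x hxC g
    rw [hCeq, Subgroup.mem_zpowers_iff] at hr
    obtain ⟨r, hr⟩ := hr
    refine CfsgLib.PGroups.commutator_pow_eq_one_of_normalizes hp hk hr.symm ?_
    have hgp : g ^ p ∈ C := hCi ▸ Subgroup.pow_index_mem C g
    rw [hCeq, Subgroup.mem_zpowers_iff] at hgp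
    obtain ⟨i, hi⟩ := hgp
    exact hi ▸ (Commute.refl x).zpow_left i
  have hcom : ∀ g h : R, ⁅g, h⁆ ∈ Subgroup.center R := by
    let Z := Subgroup.center R
    suffices hh : commutator R ≤ Z from fun g h =>
      hh (Subgroup.commutator_mem_commutator (Subgroup.mem_top g) (Subgroup.mem_top h))
    have hxZ : ∀ g : R, ⁅g, x⁆ ∈ Z := fun g =>
      CfsgLib.PGroups.mem_center_of_pow_eq_one hR (hxc g).1 (hxc g).2
    rw [_root_.commutator_def, Subgroup.commutator_le]
    have hCt : ∀ g : R, ∀ c ∈ C, ⁅g, c⁆ ∈ Z := by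
      intro g c hc
      rw [hCeq, Subgroup.mem_zpowers_iff] at hc
      obtain ⟨i, rfl⟩ := hc
      rw [← QuotientGroup.eq_one_iff, ← QuotientGroup.mk'_apply Z, map_commutatorElement,
        commutatorElement_eq_one_iff_commute, map_zpow]
      refine Commute.zpow_right ?_ i
      rw [← commutatorElement_eq_one_iff_commute, ← map_commutatorElement, QuotientGroup.mk'_apply,
        QuotientGroup.eq_one_iff]
      exact hxZ g
    intro g _ h _
    by_cases hhC : h ∈ C
    · exact hCt g h hhC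
    -- the quotient by C is generated by h
    haveI : IsCyclic (R ⧸ C) := isCyclic_of_prime_card (p := p) hCi
    have : g ∈ C ⊔ Subgroup.zpowers h := by
      by_contra hg
      have hlt : C < C ⊔ Subgroup.zpowers h := lt_of_le_not_ge le_sup_left fun hle =>
        hhC (hle (le_sup_right (a := C) (Subgroup.mem_zpowers h)))
      rw [(CfsgLib.PGroups.isCoatom_of_index_eq_prime hCi).2 _ hlt] at hg
      exact hg (Subgroup.mem_top g)
    obtain ⟨c, hc, t, ht, rfl⟩ := Subgroup.mem_sup_of_normal_left.mp this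
    obtain ⟨i, rfl⟩ := Subgroup.mem_zpowers_iff.mp ht
    rw [← QuotientGroup.eq_one_iff, ← QuotientGroup.mk'_apply Z, map_commutatorElement,
      commutatorElement_eq_one_iff_commute, map_mul, map_zpow]
    refine Commute.mul_left ?_ ((Commute.refl _).zpow_left i)
    rw [← commutatorElement_eq_one_iff_commute, ← map_commutatorElement, QuotientGroup.mk'_apply,
      QuotientGroup.eq_one_iff, ← commutatorElement_inv]
    exact inv_mem (hCt h c hc)
  let Ω : Subgroup R :=
    { carrier := {g | g ^ p = 1}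
      one_mem' := one_pow p
      mul_mem' := fun {a b} ha hb =>
        CfsgLib.PGroups.mul_pow_eq_one_of_odd (hcom b a) (hpp.odd_of_ne_two hp) ha hb
      inv_mem' := fun {a} ha => by
        simp only [Set.mem_setOf_eq, Set.mem_ofPred_eq] at ha ⊢
        rw [inv_pow, ha, inv_one] }
  have hcl : Subgroup.closure {x : R | x ^ p = 1} = Ω :=
    le_antisymm ((Subgroup.closure_le _).mpr (fun _ h => h)) (fun g hg => Subgroup.subset_closure hg)
  have hAΩ : A ≤ Ω := fun a ha => hAe.2 a ha
  have hΩle : Nat.card Ω ≤ p ^ 2 := by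
    have h1 : Nat.card ↥(Ω ⊓ C) ≤ p := by
      haveI : IsCyclic ↥(Ω ⊓ C) := isCyclic_of_injective (Subgroup.inclusion inf_le_right)
        (Subgroup.inclusion_injective _)
      obtain ⟨w, hw⟩ := IsCyclic.exists_generator (α := ↥(Ω ⊓ C))
      rw [← Subgroup.card_top, ← (Subgroup.eq_top_iff' _).mpr hw, Nat.card_zpowers]
      exact Nat.le_of_dvd hpp.pos (orderOf_dvd_iff_pow_eq_one.mpr (Subtype.ext w.2.1))
    have h2 : (Ω ⊓ C).relIndex Ω ≤ p := by
      rw [Subgroup.inf_relIndex_left, ← hCi, ← Subgroup.relIndex_top_right C]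
      exact Subgroup.relIndex_le_of_le_right le_top (by rw [Subgroup.relIndex_top_right, hCi]; exact hpp.ne_zero)
    rw [← Subgroup.relIndex_bot_left, ← Subgroup.relIndex_mul_relIndex ⊥ (Ω ⊓ C) Ω bot_le inf_le_left,
      Subgroup.relIndex_bot_left, sq]
    exact Nat.mul_le_mul h1 h2
  have heq : A = Ω := Subgroup.eq_of_le_of_card_ge hAΩ (hAc ▸ hΩle)
  rw [hcl, ← heq]
  exact ⟨hAe, hAc⟩

end Cfsg.Agent.S0127
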