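import Cfsg.Statements.S0131
import Cfsg.Agent.Lib.Transfer.CentralTransfer

set_option autoImplicit false
open Cfsg
open Subgroup

namespace Cfsg.Agent.S0131

/-- P/P' has a normal complement in G exactly when the focal subgroup G' ∩ P is as small as possible, namely P'. -/
theorem result {G : Type*} [Group G] [Finite G] {p : ℕ} [Fact p.Prime] (P : Sylow p G) : (∃ N : Subgroup G, N.Normal ∧ N ⊓ (P : Subgroup G) = ⁅(P : Subgroup G), (P : Subgroup G)⁆ ∧ N ⊔ (P : Subgroup G) = ⊤) ↔ commutator G ⊓ (P : Subgroup G) = ⁅(P : Subgroup G), (P : Subgroup G)⁆ := by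
  constructor
  · rintro ⟨N, hN, h1, h2⟩
    refine le_antisymm ?_ (le_inf (commutator_mono le_top le_top) (commutator_le_self _))
    rw [← h1]
    refine inf_le_inf_right _ (Normal.quotient_commutative_iff_commutator_le.mp ⟨⟨?_⟩⟩)
    -- the quotient is generated by the image of `P`, and `P'` dies in it
    have key : ∀ q : G ⧸ N, ∃ u ∈ (P : Subgroup G), QuotientGroup.mk' N u = q := by
      intro q
      obtain ⟨g, rfl⟩ := QuotientGroup.mk'_surjective N q
      obtain ⟨n, hn, u, hu, rfl⟩ := mem_sup_of_normal_left.mp (h2 ▸ mem_top g)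
      exact ⟨u, hu, by rw [map_mul, show QuotientGroup.mk' N n = 1 from (QuotientGroup.eq_one_iff n).mpr hn, one_mul]⟩
    intro a b
    obtain ⟨u, hu, rfl⟩ := key a
    obtain ⟨v, hv, rfl⟩ := key b
    rw [← commutatorElement_eq_one_iff_mul_comm, ← map_commutatorElement]
    refine (QuotientGroup.eq_one_iff _).mpr ?_
    exact ((h1.symm ▸ commutator_mem_commutator hu hv : _ ∈ N ⊓ (P : Subgroup G))).1
  · intro h
    refine ⟨(P : Subgroup G).transferFocal.ker, inferInstance, ?_, ?_⟩
    · rw [ker_transferFocal_inf_eq_focalSubgroup, ← commutator_inf_eq_focalSubgroup, h]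
    · refine top_le_iff.mp fun g _ => ?_
      obtain ⟨q, hq⟩ := focalSubgroupOf.pow_index_surjective P ((P : Subgroup G).transferFocal g)
      obtain ⟨y, rfl⟩ := QuotientGroup.mk'_surjective (P : Subgroup G).focalSubgroupOf q
      have hy : g * (y : G)⁻¹ ∈ (P : Subgroup G).transferFocal.ker := by
        rw [MonoidHom.mem_ker, map_mul, map_inv, transferFocal_eq_pow, ← hq, mul_inv_eq_one]
        rfl
      have := mul_mem (mem_sup_left (T := (P : Subgroup G)) hy)
        (mem_sup_right (S := (P : Subgroup G).transferFocal.ker) y.2)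
      rwa [inv_mul_cancel_right] at this

end Cfsg.Agent.S0131
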