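import Cfsg.Statements.S0155
import Cfsg.Agent.Lib.Chars.Irr

set_option autoImplicit false
open Cfsg
open CfsgLib.Chars

namespace Cfsg.Agent.S0155

/-- The character of the left regular representation of a finite group takes the value |G| at the identity and 0 at every other element. -/
theorem result {G : Type*} [Group G] [Fintype G] [DecidableEq G] (g : G) : (Representation.leftRegular ℂ G).character g = if g = 1 then (Nat.card G : ℂ) else 0 := by
  rw [Representation.character]
  refine ((LinearMap.trace_eq_matrix_trace ℂ (MonoidAlgebra.basis G ℂ) _).trans ?_)
  have h : ∀ x : G, Matrix.diag (LinearMap.toMatrix (MonoidAlgebra.basis G ℂ)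
      (MonoidAlgebra.basis G ℂ) (Representation.leftRegular ℂ G g)) x = if g = 1 then 1 else 0 := by
    intro x
    simp [LinearMap.toMatrix_apply, Representation.ofMulAction_single]
    show ((MonoidAlgebra.single (g * x) (1 : ℂ)).coeff x) = _
    simp [MonoidAlgebra.coeff_single, Finsupp.single_apply]
  rw [Matrix.trace, Finset.sum_congr rfl (fun x _ => h x), Finset.sum_const, Finset.card_univ,
    Nat.card_eq_fintype_card]
  split <;> simp

end Cfsg.Agent.S0155
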