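import Cfsg.Statements.S0166
import Cfsg.Agent.Lib.Chars.Splitting

set_option autoImplicit false
open Cfsg
open CfsgLib.Chars

namespace Cfsg.Agent.S0166

/-- Brauer's splitting field Theorem: a complex representation of a finite group of exponent m is equivalent to a representation by matrices with entries in ℚ adjoined exp(2πi/m). -/
theorem result {G : Type*} [Group G] [Finite G] (n : ℕ) (ρ : Representation ℂ G (Fin n → ℂ)) : ∃ σ : Representation ℂ G (Fin n → ℂ), Nonempty (ρ.Equiv σ) ∧ ∀ g : G, ∀ i j : Fin n, LinearMap.toMatrix' (σ g) i j ∈ Algebra.adjoin ℚ ({Complex.exp (2 * Real.pi * Complex.I / (Monoid.exponent G : ℂ))} : Set ℂ) := by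
  classical
  haveI := Fintype.ofFinite G
  let ζ : ℂ := Complex.exp (2 * Real.pi * Complex.I / (Monoid.exponent G : ℂ))
  have hm : Monoid.exponent G ≠ 0 := Monoid.exponent_ne_zero_of_finite
  haveI : NeZero (Monoid.exponent G) := ⟨hm⟩
  have hprim : IsPrimitiveRoot ζ (Monoid.exponent G) := Complex.isPrimitiveRoot_exp _ hm
  let K : IntermediateField ℚ ℂ := IntermediateField.adjoin ℚ {ζ}
  have hK : ∀ (H : Subgroup G) (lam : H →* ℂˣ) (h : H), (lam h : ℂ) ∈ K := by
    intro H lam h
    have h1 : ((lam h : ℂˣ) : ℂ) ^ Monoid.exponent G = 1 := by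
      have h2 : h ^ Monoid.exponent G = 1 :=
        Subtype.ext (by rw [SubgroupClass.coe_pow, Monoid.pow_exponent_eq_one]; rfl)
      rw [← Units.val_pow_eq_pow_val, ← map_pow, h2, map_one, Units.val_one]
    obtain ⟨i, -, hi⟩ := hprim.eq_pow_of_pow_eq_one h1
    rw [← hi]
    exact pow_mem (IntermediateField.subset_adjoin ℚ {ζ} (Set.mem_singleton ζ)) i
  obtain ⟨m, σ, hσ, hmem⟩ := exists_rep_of_isKChar
    (isKChar_of_isCharacter hK ⟨n, ρ, rfl⟩)
  obtain rfl : m = n := by
    have h := congrFun hσ 1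
    simp at h
    exact_mod_cast h
  refine ⟨σ, equiv_of_character_eq ρ σ hσ.symm, fun g i j => ?_⟩
  have hint : IsIntegral ℚ ζ := (hprim.isIntegral (NeZero.pos _)).tower_top
  have hsub : K.toSubalgebra = Algebra.adjoin ℚ {ζ} :=
    IntermediateField.adjoin_simple_toSubalgebra_of_isAlgebraic hint.isAlgebraic
  rw [← hsub]
  exact hmem g i j

end Cfsg.Agent.S0166
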