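import Cfsg.Statements.S0169
import Cfsg.Agent.Lib.Chars.Degree
import Cfsg.Agent.Lib.CharsMore.CliffordDegree

set_option autoImplicit false
open Cfsg
open CfsgLib.Chars

namespace Cfsg.Agent.S0169

/-- Itô's Theorem on character degrees: the degree of an irreducible complex representation of a finite group divides the index of any abelian normal subgroup. -/
theorem result {G : Type*} [Group G] [Finite G] {V : Type*} [AddCommGroup V] [Module ℂ V] [FiniteDimensional ℂ V] (ρ : Representation ℂ G V) [ρ.IsIrreducible] (H : Subgroup G) [H.Normal] (hH : ∀ a ∈ H, ∀ b ∈ H, a * b = b * a) : Module.finrank ℂ V ∣ H.index := by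
  classical
  haveI := Fintype.ofFinite G
  haveI := Fintype.ofFinite H
  have hχ := isIrrCharacter_character ρ
  have hne : (fun a : H => ρ.character a) ≠ 0 := fun h0 => by
    have := congrFun h0 1
    simp [(finrank_pos_of_isIrreducible ρ).ne'] at this
  obtain ⟨θ, hθ⟩ := exists_constituent (isCharacter_restrict H (isCharacter_of_irr hχ)) hne
  obtain ⟨k, -, hk, hdvd⟩ := CfsgLib.CharsMore.degree_quotient H hχ θ.2 hθ
  rw [irr_abelian_degree (fun a b => Subtype.ext (hH a a.2 b b.2)) θ.2, mul_one,
    Representation.char_one, Nat.cast_inj] at hk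
  exact hk ▸ hdvd

end Cfsg.Agent.S0169
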