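import Cfsg.Statements.S0170
import Cfsg.Agent.Lib.Chars.Virtual

set_option autoImplicit false
open Cfsg
open CfsgLib.Chars

namespace Cfsg.Agent.S0170

/-- Exceptional characters. Let S be a subset of a finite group contained in its normalizer N and meeting its conjugates by elements outside N only in the identity. Given n ≥ 2 distinct irreducible characters of N of equal degree that vanish on N away from S, there exist a sign ε and n distinct irreducible characters θ_i of G such that inducing χ_i − χ_j to G gives ε (θ_i − θ_j) for all i, j. -/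
theorem result {G : Type*} [Group G] [Fintype G] (S : Set G) (hSN : S ⊆ Subgroup.normalizer S) (hTI : ∀ g : G, g ∉ Subgroup.normalizer S → ∀ s ∈ S, g * s * g⁻¹ ∈ S → s = 1) (n : ℕ) (hn : 2 ≤ n) (χ : Fin n → (Subgroup.normalizer S → ℂ)) (hirr : ∀ i, Cfsg.IsIrrCharacter (Subgroup.normalizer S) (χ i)) (hinj : Function.Injective χ) (hvan : ∀ i, ∀ x : Subgroup.normalizer S, (x : G) ∉ S → χ i x = 0) (hdeg : ∀ i j, χ i 1 = χ j 1) : ∃ ε : ℂ, (ε = 1 ∨ ε = -1) ∧ ∃ θ : Fin n → (G → ℂ), (∀ i, Cfsg.IsIrrCharacter G (θ i)) ∧ Function.Injective θ ∧ ∀ i j, Cfsg.indFun (Subgroup.normalizer S) (χ i) - Cfsg.indFun (Subgroup.normalizer S) (χ j) = ε • (θ i - θ j) := by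
  classical
  haveI := Fintype.ofFinite (Subgroup.normalizer S)
  let i₀ : Fin n := ⟨0, by omega⟩
  let N := Subgroup.normalizer S
  let τ : Fin n → G → ℂ := fun i => Cfsg.indFun N (χ i - χ i₀)
  have hc : ∀ i, Cfsg.IsClassFunction N (χ i - χ i₀) := fun i =>
    isClassFunction_sub (isClassFunction_of_isCharacter (isCharacter_of_irr (hirr i)))
      (isClassFunction_of_isCharacter (isCharacter_of_irr (hirr i₀)))
  have hv : ∀ i, ∀ x : N, (x : G) ∉ S → (χ i - χ i₀) x = 0 := fun i x hx => by
    simp [hvan i x hx, hvan i₀ x hx]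
  have h1 : ∀ i, (χ i - χ i₀) 1 = 0 := fun i => by simp [hdeg i i₀]
  obtain ⟨ε, hε, μ, hμ, hμinj, hτ⟩ := coherent_family n i₀ τ
    (by simp only [τ, sub_self, indFun_zero])
    (fun i => isGeneralized_indFun N ⟨_, _, isCharacter_of_irr (hirr i),
      isCharacter_of_irr (hirr i₀), rfl⟩)
    (fun i => by simp only [τ, indFun_one_apply, h1, mul_zero])
    (fun i j hi hj => by
      simp only [τ]
      rw [inner_indFun_TI S N hTI (hc j) (hv i) (hv j) (h1 i), CfsgLib.Chars.inner_sub_left, CfsgLib.Chars.inner_sub_right,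
        CfsgLib.Chars.inner_sub_right, inner_irr_of_isIrr (hirr i) (hirr j),
        inner_irr_of_isIrr (hirr i) (hirr i₀), inner_irr_of_isIrr (hirr i₀) (hirr j),
        inner_irr_of_isIrr (hirr i₀) (hirr i₀), if_pos rfl,
        if_neg (hinj.ne hi), if_neg (hinj.ne hj.symm)]
      by_cases hij : i = j
      · rw [if_pos (congrArg χ hij), if_pos hij]; norm_num
      · rw [if_neg (hinj.ne hij), if_neg hij]; norm_num)
  refine ⟨ε, hε, μ, hμ, hμinj, fun i j => ?_⟩
  have e : Cfsg.indFun N (χ i) - Cfsg.indFun N (χ j) = τ i - τ j := by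
    simp only [τ, indFun_sub]; abel
  rw [e, hτ i, hτ j, ← smul_sub]
  congr 1
  abel

end Cfsg.Agent.S0170
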