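import Cfsg.Statements.S0180
import Cfsg.Agent.Lib.Chars.Irr
import Cfsg.Agent.Lib.CharApps.Galois

set_option autoImplicit false
open Cfsg
open CfsgLib.Chars

namespace Cfsg.Agent.S0180

/-- Every irreducible complex character of a finite group takes only rational values if and only if g is conjugate to g ^ m for every element g and every m coprime to the group order. -/
theorem result {G : Type*} [Group G] [Finite G] : (∀ χ : Cfsg.IrrCharacter G, ∀ g : G, ∃ q : ℚ, (χ : G → ℂ) g = (q : ℂ)) ↔ ∀ m : ℕ, m.Coprime (Nat.card G) → ∀ g : G, IsConj g (g ^ m) := by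
  classical
  haveI : NeZero (Nat.card G) := ⟨Nat.card_pos.ne'⟩
  constructor
  · intro hrat m hm g
    rw [isConj_iff_forall_irr]
    intro χ
    obtain ⟨σ, hσ⟩ := CfsgLib.CharApps.exists_galois_pow (Nat.card G) hm
    obtain ⟨q, hq⟩ := hrat χ g
    have h := CfsgLib.CharApps.galois_apply σ hσ (isCharacter_of_irr χ.2) g pow_card_eq_one'
    rw [← h, hq, map_ratCast]
  · intro hconj χ g
    have hmem := CfsgLib.CharApps.char_mem_cyclo (N := Nat.card G) (isCharacter_of_irr χ.2) g
      pow_card_eq_one'
    obtain ⟨q, hq⟩ := CfsgLib.CharApps.exists_rat_of_fixed hmem fun k σ hk hσ => by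
      rw [CfsgLib.CharApps.galois_apply σ hσ (isCharacter_of_irr χ.2) g pow_card_eq_one']
      exact ((isConj_iff_forall_irr g (g ^ k)).mp (hconj k hk g) χ).symm
    exact ⟨q, hq.symm⟩

end Cfsg.Agent.S0180
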