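import Cfsg.Statements.S0181
import Cfsg.Agent.Lib.Chars.Misc
import Cfsg.Agent.Lib.CharApps.NormalSum

set_option autoImplicit false
open Cfsg
open CfsgLib.Chars

namespace Cfsg.Agent.S0181

/-- Let H be a normal subgroup of a finite group G and ρ an irreducible complex representation whose kernel does not contain H. If g commutes with no non-identity element of H, then the character of ρ vanishes at g. -/
theorem result {G : Type*} [Group G] [Finite G] {V : Type*} [AddCommGroup V] [Module ℂ V] [FiniteDimensional ℂ V] (ρ : Representation ℂ G V) [ρ.IsIrreducible] (H : Subgroup G) [H.Normal] (hker : ∃ h ∈ H, ρ h ≠ LinearMap.id) (g : G) (hg : ∀ h ∈ H, h * g = g * h → h = 1) : ρ.character g = 0 := by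
  classical
  haveI := Fintype.ofFinite G
  haveI := Fintype.ofFinite H
  let χ : Cfsg.IrrCharacter G := ⟨ρ.character, isIrrCharacter_character ρ⟩
  have hnot : ¬ H ≤ CfsgLib.CharApps.charKer χ := by
    obtain ⟨h, hh, hne⟩ := hker
    intro hle
    have hm : ρ.character h = ρ.character 1 := CfsgLib.CharApps.mem_charKer.mp (hle hh)
    exact hne ((character_eq_finrank_iff ρ h).mp (hm.trans ρ.char_one))
  have h0 : ∑ n : H, ρ.character ((n : G) * g) = 0 :=
    CfsgLib.CharApps.sum_coset_eq_zero H χ hnot g
  let f : H → H := fun h => ⟨(h : G) * g * (h : G)⁻¹ * g⁻¹, by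
    have := H.mul_mem h.2 (‹H.Normal›.conj_mem _ (H.inv_mem h.2) g)
    simpa [mul_assoc] using this⟩
  have hf : Function.Injective f := by
    intro a b hab
    have h1 : (a : G) * g * (a : G)⁻¹ = (b : G) * g * (b : G)⁻¹ :=
      mul_right_cancel (congrArg Subtype.val hab)
    have h2 : ((b : G)⁻¹ * a) * g = g * ((b : G)⁻¹ * a) := by
      have := congrArg (fun y => (b : G)⁻¹ * y * a) h1
      simpa [mul_assoc] using this
    exact Subtype.ext (inv_mul_eq_one.mp (hg _ (H.mul_mem (H.inv_mem b.2) a.2) h2)).symm
  rw [← Equiv.sum_comp (Equiv.ofBijective f (Finite.injective_iff_bijective.mp hf))] at h0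
  have h1 : ∀ h : H, ρ.character ((f h : G) * g) = ρ.character g := by
    intro h
    have : (f h : G) * g = (h : G) * g * (h : G)⁻¹ := by simp [f]
    rw [this, Representation.char_conj]
  simp only [Equiv.ofBijective_apply, h1] at h0
  simpa using h0

end Cfsg.Agent.S0181
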