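import Cfsg.Statements.S0184
import Cfsg.Agent.Lib.Chars.Quotient
import Cfsg.Agent.Lib.Chars.Degree

set_option autoImplicit false
open Cfsg
open CfsgLib.Chars

namespace Cfsg.Agent.S0184

/-- A finite p-group admits a faithful irreducible complex representation if and only if its centre is cyclic. -/
theorem result {G : Type*} [Group G] [Finite G] (p : ℕ) [Fact p.Prime] (hG : IsPGroup p G) : (∃ (n : ℕ) (ρ : Representation ℂ G (Fin n → ℂ)), ρ.IsIrreducible ∧ Function.Injective ρ) ↔ IsCyclic (Subgroup.center G) := by
  classical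
  constructor
  · rintro ⟨n, ρ, hρ, hinj⟩
    haveI : Nontrivial (Fin n → ℂ) := nontrivial_of_isIrreducible ρ
    choose c hc using fun z : Subgroup.center G => exists_scalar_of_mem_center ρ z z.2
    have hidne : (LinearMap.id : (Fin n → ℂ) →ₗ[ℂ] (Fin n → ℂ)) ≠ 0 := by
      intro h
      obtain ⟨v, hv⟩ := exists_ne (0 : Fin n → ℂ)
      exact hv (LinearMap.congr_fun h v)
    let φ : Subgroup.center G →* ℂ :=
      { toFun := c
        map_one' := by
          refine smul_left_injective ℂ hidne ?_
          show c 1 • _ = (1 : ℂ) • _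
          rw [← hc, one_smul]
          simp [Module.End.one_eq_id]
        map_mul' := fun x y => by
          refine smul_left_injective ℂ hidne ?_
          show c (x * y) • _ = (c x * c y) • _
          rw [← hc, Subgroup.coe_mul, map_mul, hc, hc]
          ext; simp; ring }
    exact isCyclic_of_injective_ringHom φ (fun x y h => Subtype.ext (hinj (by
      rw [hc, hc]; exact congrArg (fun t => t • LinearMap.id) h)))
  · intro hcyc
    rcases subsingleton_or_nontrivial G with hs | hs
    · obtain ⟨n, ρ, hρ, -⟩ := isIrrCharacter_one (G := G)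
      exact ⟨n, ρ, hρ, fun a b _ => Subsingleton.elim a b⟩
    haveI := hG.center_nontrivial
    obtain ⟨z, hz⟩ := exists_prime_orderOf_dvd_card' (G := Subgroup.center G) p (by
      obtain ⟨k, hk⟩ := (IsPGroup.iff_card.mp (hG.to_subgroup (Subgroup.center G)))
      rw [hk]
      have h1 : 1 < Nat.card (Subgroup.center G) := Finite.one_lt_card
      rw [hk] at h1
      exact dvd_pow_self p (by rintro rfl; simp at h1))
    have hz1 : (z : G) ≠ 1 := fun h => (Fact.out : p.Prime).ne_one (by
      have : z = 1 := Subtype.ext h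
      rw [← hz, this, orderOf_one])
    obtain ⟨⟨χ, n, ρ, hρ, rfl⟩, hχ⟩ : ∃ χ : Cfsg.IrrCharacter G,
        (χ : G → ℂ) z ≠ (χ : G → ℂ) 1 := by
      by_contra hno
      push Not at hno
      exact hz1 (eq_one_of_forall_irr hno)
    refine ⟨n, ρ, hρ, (MonoidHom.ker_eq_bot_iff ρ).mp ?_⟩
    by_contra hker
    let N := MonoidHom.ker ρ
    letI : MulAction G N := MulAction.compHom N (MulAut.conjNormal (H := N))
    obtain ⟨k, hk⟩ := IsPGroup.iff_card.mp (hG.to_subgroup N)
    have h1 : 1 < Nat.card N := (Subgroup.one_lt_card_iff_ne_bot N).mpr hker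
    have hpN : p ∣ Nat.card N := by
      rw [hk] at h1 ⊢
      exact dvd_pow_self p (by rintro rfl; simp at h1)
    obtain ⟨b, hb, hb1⟩ := hG.exists_fixed_point_of_prime_dvd_card_of_fixed_point (α := N) hpN
      (a := 1) (fun g => map_one (MulAut.conjNormal g))
    have hbc : (b : G) ∈ Subgroup.center G := Subgroup.mem_center_iff.mpr fun g => by
      have h2 : g * (b : G) * g⁻¹ = b := congrArg Subtype.val (hb g)
      exact mul_inv_eq_iff_eq_mul.mp h2
    -- a power of `b` of order `p` lies in the kernel and generates the subgroup of `z`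
    let b' : Subgroup.center G := ⟨b, hbc⟩
    have hb' : b' ≠ 1 := fun h => hb1 (Subtype.ext (congrArg (fun x : Subgroup.center G => (x : G)) h).symm)
    obtain ⟨k', hk'⟩ := IsPGroup.iff_orderOf.mp (hG.to_subgroup (Subgroup.center G)) b'
    have hk0 : k' ≠ 0 := by
      rintro rfl
      rw [pow_zero, orderOf_eq_one_iff] at hk'
      exact hb' hk'
    let w : Subgroup.center G := b' ^ p ^ (k' - 1)
    have hw : orderOf w = p := by
      obtain ⟨j, rfl⟩ : ∃ j, k' = j + 1 := ⟨k' - 1, by omega⟩
      show orderOf (b' ^ p ^ (j + 1 - 1)) = p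
      rw [orderOf_pow, hk', Nat.add_sub_cancel, Nat.gcd_eq_right (Nat.pow_dvd_pow p (Nat.le_succ j)),
        pow_succ', Nat.mul_div_cancel _ (pow_pos (Fact.out : p.Prime).pos j)]
    haveI := Fintype.ofFinite (Subgroup.center G)
    have hzw : z ∈ Subgroup.zpowers w := by
      have hsub : Finset.univ.filter (fun x : Subgroup.center G => x ∈ Subgroup.zpowers w) ⊆
          Finset.univ.filter (fun x : Subgroup.center G => x ^ p = 1) := by
        intro x hx
        obtain ⟨j, rfl⟩ := Subgroup.mem_zpowers_iff.mp (Finset.mem_filter.mp hx).2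
        refine Finset.mem_filter.mpr ⟨Finset.mem_univ _, ?_⟩
        rw [← zpow_natCast, ← zpow_mul, mul_comm, zpow_mul, zpow_natCast, ← hw, pow_orderOf_eq_one,
          one_zpow]
      have hcard : (Finset.univ.filter (fun x : Subgroup.center G => x ∈ Subgroup.zpowers w)).card = p := by
        rw [← Fintype.card_subtype, ← Nat.card_eq_fintype_card]
        exact (Nat.card_zpowers w).trans hw
      have heq := Finset.eq_of_subset_of_card_le hsub (by
        rw [hcard]; exact IsCyclic.card_pow_eq_one_le (Fact.out : p.Prime).pos)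
      have hzmem : z ∈ Finset.univ.filter (fun x : Subgroup.center G => x ^ p = 1) :=
        Finset.mem_filter.mpr ⟨Finset.mem_univ _, by rw [← hz, pow_orderOf_eq_one]⟩
      rw [← heq] at hzmem
      exact (Finset.mem_filter.mp hzmem).2
    obtain ⟨i, hi⟩ := Subgroup.mem_zpowers_iff.mp hzw
    have hzN : (z : G) ∈ N := by
      rw [← hi, SubgroupClass.coe_zpow]
      exact N.zpow_mem (N.pow_mem b.2 _) i
    refine hχ ?_
    show ρ.character z = ρ.character 1
    simp [Representation.character, MonoidHom.mem_ker.mp hzN]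

end Cfsg.Agent.S0184
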