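import Cfsg.Statements.S0185
import Cfsg.Agent.Lib.Chars.Integral

set_option autoImplicit false
open Cfsg
open CfsgLib.Chars

namespace Cfsg.Agent.S0185

/-- If a finite group has a faithful complex representation of degree less than the smallest prime dividing its order, the group is abelian. -/
theorem result {G : Type*} [Group G] [Finite G] {V : Type*} [AddCommGroup V] [Module ℂ V] [FiniteDimensional ℂ V] (ρ : Representation ℂ G V) (hfaithful : Function.Injective ρ) (hdeg : ∀ p : ℕ, p.Prime → p ∣ Nat.card G → Module.finrank ℂ V < p) (a b : G) : a * b = b * a := by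
  apply hfaithful
  rw [map_mul, map_mul]
  have key := rep_induction (G := G) (P := fun W _ _ _ σ =>
    (∀ p : ℕ, p.Prime → p ∣ Nat.card G → Module.finrank ℂ W < p) →
      ∀ a b : G, σ a * σ b = σ b * σ a) ?_ ?_ ?_ V ρ hdeg a b
  · exact key
  · intro W _ _ _ σ _ _ a b
    exact Subsingleton.elim _ _
  · intro W _ _ _ σ hσ hlt a b
    have hone : Module.finrank ℂ W = 1 := by
      by_contra hne
      obtain ⟨q, hq, hqd⟩ := Nat.exists_prime_and_dvd hne
      have h1 := hlt q hq (hqd.trans (finrank_dvd_card σ))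
      have h2 := Nat.le_of_dvd (finrank_pos_of_isIrreducible σ) hqd
      omega
    obtain ⟨v, hv, hspan⟩ := finrank_eq_one_iff'.mp hone
    refine LinearMap.ext fun x => ?_
    obtain ⟨c, rfl⟩ := hspan x
    obtain ⟨ca, hca⟩ := hspan (σ a v)
    obtain ⟨cb, hcb⟩ := hspan (σ b v)
    simp only [Module.End.mul_apply, map_smul, ← hca, ← hcb, smul_comm ca cb]
  · intro W _ _ _ σ U U' hc h1 h2 hlt a b
    have hle : ∀ S : Subrepresentation σ, ∀ p : ℕ, p.Prime → p ∣ Nat.card G →
        Module.finrank ℂ S.toSubmodule < p := fun S p hp hd =>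
      lt_of_le_of_lt (Submodule.finrank_le _) (hlt p hp hd)
    refine LinearMap.ext fun x => ?_
    have hx : x ∈ U.toSubmodule ⊔ U'.toSubmodule := by rw [hc.sup_eq_top]; trivial
    obtain ⟨u, hu, u', hu', rfl⟩ := Submodule.mem_sup.mp hx
    have e1 : σ a (σ b u) = σ b (σ a u) :=
      congrArg Subtype.val (LinearMap.congr_fun (h1 (hle U) a b) ⟨u, hu⟩)
    have e2 : σ a (σ b u') = σ b (σ a u') :=
      congrArg Subtype.val (LinearMap.congr_fun (h2 (hle U') a b) ⟨u', hu'⟩)
    simp only [Module.End.mul_apply, map_add, e1, e2]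

end Cfsg.Agent.S0185
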