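import Cfsg.Statements.S0186
import Cfsg.Agent.Lib.Chars.Burnside
import Cfsg.Agent.Lib.Chars.Degree
import Cfsg.Agent.Lib.CharsMore.CdThree
import Cfsg.Agent.Lib.Base.Nilpotent
import Mathlib

set_option autoImplicit false
set_option linter.style.haveILetI false
open Cfsg CfsgLib
open scoped commutatorElement

namespace Cfsg.Agent.S0186

/-- Let G be a finite simple group of order n and p a prime dividing n. If G has more than n / p^2 conjugacy classes, then every Sylow p-subgroup of G is abelian. -/
theorem result {G : Type*} [Group G] [Finite G] [IsSimpleGroup G] (p : ℕ) [Fact p.Prime] (hp : p ∣ Nat.card G) (hmany : Nat.card G < p ^ 2 * Nat.card (ConjClasses G)) (P : Sylow p G) (a b : G) (ha : a ∈ P) (hb : b ∈ P) : a * b = b * a := by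
  classical
  by_contra hab
  let _ := Fintype.ofFinite G
  let _ := Chars.irrFintype G
  let _ := Fintype.ofFinite P
  let _ := Chars.irrFintype P
  have hp' : p.Prime := Fact.out
  -- a non-trivial central commutator in `P`
  have hPna : ¬ ∀ x y : (P : Subgroup G), x * y = y * x := fun h =>
    hab (congrArg Subtype.val (h ⟨a, ha⟩ ⟨b, hb⟩))
  have hc' : commutator P ≠ ⊥ := fun h => hPna fun x y => by
    have h2 : ⁅x, y⁆ ∈ commutator P :=
      Subgroup.commutator_mem_commutator (Subgroup.mem_top x) (Subgroup.mem_top y)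
    rw [h, Subgroup.mem_bot] at h2
    exact commutatorElement_eq_one_iff_mul_comm.1 h2
  haveI : Group.IsNilpotent P := P.isPGroup'.isNilpotent
  obtain ⟨c, hc, hc1⟩ := (Subgroup.bot_or_exists_ne_one _).resolve_left
    (CfsgLib.Base.inf_center_ne_bot_of_isNilpotent hc')
  have hnp : ¬ (Nat.card G).Prime := by
    intro hpr
    haveI := Fact.mk hpr
    haveI : IsCyclic G := isCyclic_of_prime_card rfl
    exact hab ((IsCyclic.isMulCommutative (α := G)).is_comm.comm a b)
  -- all non-principal degrees exceed `p`
  have hdeg : ∀ χ : IrrCharacter G, χ ≠ Chars.principal G → p + 1 ≤ charDegree (χ : G → ℂ) := by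
    rintro ⟨χ, hχ⟩ hne
    by_contra hle
    obtain ⟨n, ρ, hρ, rfl⟩ := id hχ
    have hdn : charDegree ρ.character = n := by
      have h := CharApps.deg_eq (⟨ρ.character, hχ⟩ : IrrCharacter G)
      simp at h
      exact_mod_cast h.symm
    simp only [hdn] at hle
    set φ : P → ℂ := fun x => ρ.character (x : G) with hφdef
    have hφ : IsCharacter P φ := Chars.isCharacter_restrict _ ⟨n, ρ, rfl⟩
    have hφ1 : φ 1 = n := by simp [hφdef]
    have hsum := CharsMore.CdThree.deg_sum hφ hφ1
    have hψdeg : ∀ ψ : IrrCharacter P, ‖(ψ : P → ℂ) c‖ = charDegree (ψ : P → ℂ) ∧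
        (charDegree (ψ : P → ℂ) = 1 → (ψ : P → ℂ) c = 1) ∧
        (charDegree (ψ : P → ℂ) = 1 ∨ p ≤ charDegree (ψ : P → ℂ)) := by
      rintro ⟨ψ, hψ⟩
      obtain ⟨k, σ, hσ, rfl⟩ := id hψ
      have hk : charDegree σ.character = k := by
        have h := CharApps.deg_eq (⟨σ.character, hψ⟩ : IrrCharacter P)
        simp at h
        exact_mod_cast h.symm
      refine ⟨?_, fun h1 => ?_, ?_⟩
      · obtain ⟨w, hw⟩ := Chars.exists_scalar_of_mem_center σ c hc.2
        rw [hk]
        simpa using (Chars.norm_character_eq_iff σ c).2 ⟨w, hw⟩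
      · obtain ⟨lam, hlam⟩ := Chars.exists_hom_of_degree_one (Chars.isCharacter_of_irr hψ)
          ((CharApps.deg_eq (⟨σ.character, hψ⟩ : IrrCharacter P)).trans (by rw [h1, Nat.cast_one]))
        have h2 : lam c = 1 := Abelianization.commutator_subset_ker lam hc.1
        show σ.character c = 1
        rw [congrFun hlam c, h2, Units.val_one]
      · rw [hk]
        have hdvd : k ∣ Nat.card P := by
          simpa using (Chars.finrank_dvd_index_center σ).trans (Subgroup.index_dvd_card _)
        obtain ⟨l, hl⟩ := IsPGroup.iff_card.1 P.isPGroup'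
        obtain ⟨j, -, hj⟩ := (Nat.dvd_prime_pow hp').1 (hl ▸ hdvd)
        rcases Nat.eq_zero_or_pos j with rfl | hj0
        · exact Or.inl (by simpa using hj)
        · exact Or.inr (hj ▸ Nat.le_self_pow hj0.ne' p)
    have hnorm : ‖ρ.character (c : G)‖ = (n : ℝ) := by
      show ‖φ c‖ = _
      by_cases hbig : ∃ ψ : IrrCharacter P, classInner φ (ψ : P → ℂ) ≠ 0 ∧
          charDegree (ψ : P → ℂ) ≠ 1
      · obtain ⟨ψ, h0, h1⟩ := hbig
        have hge := (hψdeg ψ).2.2.resolve_left h1
        have heq := CharsMore.eq_of_constituent_degree hφ ψ.2 h0 hφ1 (CharApps.deg_eq ψ) (by omega)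
        have hn : charDegree (ψ : P → ℂ) = n := by
          have h := CharApps.deg_eq ψ
          rw [← congrFun heq 1, hφ1] at h
          exact_mod_cast h.symm
        rw [heq, (hψdeg ψ).1, hn]
      · push Not at hbig
        have hval : φ c = φ 1 := by
          rw [CharsMore.char_eq_sum_multNat hφ]
          simp only [Finset.sum_apply, Pi.smul_apply, smul_eq_mul]
          refine Finset.sum_congr rfl fun ψ _ => ?_
          by_cases h0 : classInner φ (ψ : P → ℂ) = 0
          · rw [CharsMore.inner_eq_multNat hφ (Chars.isCharacter_of_irr ψ.2)] at h0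
            simp [h0]
          · rw [(hψdeg ψ).2.1 (hbig ψ h0), CharApps.deg_eq, hbig ψ h0, Nat.cast_one]
        rw [hval, hφ1]; simp
    obtain ⟨ω, hω⟩ := (Chars.norm_character_eq_iff ρ (c : G)).1 (by simpa using hnorm)
    rcases IsSimpleGroup.eq_bot_or_eq_top_of_normal ρ.ker inferInstance with hker | hker
    · refine hnp (Chars.prime_card_of_central (g := (c : G)) (fun h => hc1 (Subtype.ext h))
        fun x => ?_)
      refine (MonoidHom.ker_eq_bot_iff ρ).mp hker ?_
      rw [map_mul, map_mul, hω]
      ext; simp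
    · refine hne (Subtype.ext ?_)
      have hconst : ∀ x, ρ.character x = (n : ℂ) := fun x => by
        have h1 : ρ x = 1 := (hker ▸ Subgroup.mem_top x : x ∈ ρ.ker)
        simp [Representation.character, h1]
      have h3 := Chars.inner_self_irr ρ
      simp only [Chars.inner_def, hconst, map_natCast, Finset.sum_const, Finset.card_univ,
        nsmul_eq_mul, ← Nat.card_eq_fintype_card] at h3
      rw [← mul_assoc, inv_mul_cancel₀ (Chars.card_ne_zero G), one_mul] at h3
      have h4 : n * n = 1 := by exact_mod_cast h3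
      funext x
      rw [Chars.principal_apply]
      show ρ.character x = 1
      rw [hconst x, Nat.eq_one_of_mul_eq_one_right h4, Nat.cast_one]
  -- the degree sum is too large
  have hsum : Nat.card G = ∑ χ : IrrCharacter G, charDegree (χ : G → ℂ) ^ 2 := by
    have h := Chars.sum_degree_mul (G := G) 1
    rw [if_pos rfl] at h
    simp only [CharApps.deg_eq, ← sq] at h
    exact_mod_cast h.symm
  rw [← Finset.add_sum_erase _ _ (Finset.mem_univ (Chars.principal G))] at hsum
  have hk : Nat.card (ConjClasses G) = Fintype.card (IrrCharacter G) := by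
    rw [← Chars.card_irr_eq_card_classes, Nat.card_eq_fintype_card]
  have hge : (Fintype.card (IrrCharacter G) - 1) * (p + 1) ^ 2 ≤
      ∑ χ ∈ Finset.univ.erase (Chars.principal G), charDegree (χ : G → ℂ) ^ 2 := by
    refine le_trans (le_of_eq ?_) (Finset.card_nsmul_le_sum _ _ _ fun χ hχ =>
      Nat.pow_le_pow_left (hdeg χ (Finset.ne_of_mem_erase hχ)) 2)
    rw [Finset.card_erase_of_mem (Finset.mem_univ _), Finset.card_univ, smul_eq_mul]
  have hp3 : p ^ 3 ∣ Nat.card G := by
    refine dvd_trans ?_ (P : Subgroup G).card_subgroup_dvd_card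
    obtain ⟨l, hl⟩ := IsPGroup.iff_card.1 P.isPGroup'
    rw [hl]
    refine pow_dvd_pow p ?_
    by_contra hl3
    apply hPna
    interval_cases l
    · haveI : Subsingleton (P : Subgroup G) := (Nat.card_eq_one_iff_unique.1 (by simpa using hl)).1
      exact fun x y => Subsingleton.elim _ _
    · haveI : IsCyclic (P : Subgroup G) := isCyclic_of_prime_card (p := p) (by simpa using hl)
      exact fun x y => IsCyclic.isMulCommutative.is_comm.comm x y
    · exact fun x y => IsPGroup.commutative_of_card_eq_prime_sq hl x y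
  have hp3' : p ^ 3 ≤ Nat.card G := Nat.le_of_dvd Nat.card_pos hp3
  rw [hk] at hmany
  have hkp : p < Fintype.card (IrrCharacter G) := by
    by_contra h
    have := Nat.mul_le_mul_left (p ^ 2) (not_lt.1 h)
    have : p ^ 3 = p ^ 2 * p := by ring
    omega
  have h2 := hp'.two_le
  obtain ⟨k, hk2⟩ : ∃ k, Fintype.card (IrrCharacter G) = k + 1 :=
    ⟨_, (Nat.succ_pred_eq_of_pos (by omega)).symm⟩
  rw [hk2] at hmany hge hkp
  simp only [Nat.add_sub_cancel] at hge
  nlinarith

end Cfsg.Agent.S0186
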