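import Cfsg.Statements.S0187
import Cfsg.Agent.Lib.Chars.Char

set_option autoImplicit false
open Cfsg
open CfsgLib.Chars

namespace Cfsg.Agent.S0187

/-- A finite group is commutative if and only if every irreducible complex character has degree 1. -/
theorem result {G : Type*} [Group G] [Finite G] : (∀ a b : G, a * b = b * a) ↔ ∀ χ : Cfsg.IrrCharacter G, (χ : G → ℂ) 1 = 1 := by
  classical
  constructor
  · intro hab χ
    obtain ⟨χ, n, ρ, hρ, rfl⟩ := χ
    haveI : IsMulCommutative G := ⟨⟨hab⟩⟩
    show ρ.character 1 = 1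
    rw [Representation.char_one, Representation.IsIrreducible.finrank_eq_one_of_isMulCommutative ρ,
      Nat.cast_one]
  · intro hdeg a b
    have hconj : IsConj (a * b) (b * a) := isConj_iff.mpr ⟨b, by simp [mul_assoc]⟩
    by_contra hne
    haveI := Fintype.ofFinite G
    haveI := irrFintype G
    have h0 := sum_degree_mul ((a * b) * (b * a)⁻¹)
    rw [if_neg (fun h => hne (mul_inv_eq_one.mp h))] at h0
    have h1 : ∀ χ : Cfsg.IrrCharacter G, (χ : G → ℂ) 1 * (χ : G → ℂ) ((a * b) * (b * a)⁻¹) = 1 := by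
      intro χ
      obtain ⟨lam, hlam⟩ := exists_hom_of_degree_one (isCharacter_of_irr χ.2) (hdeg χ)
      rw [hdeg χ, one_mul, hlam]
      show ((lam (a * b * (b * a)⁻¹) : ℂˣ) : ℂ) = 1
      rw [map_mul, map_inv, map_mul, map_mul, mul_comm (lam b) (lam a), mul_inv_cancel, Units.val_one]
    rw [Finset.sum_congr rfl (fun χ _ => h1 χ), Finset.sum_const, Finset.card_univ] at h0
    have h2 : 0 < Fintype.card (Cfsg.IrrCharacter G) := Fintype.card_pos_iff.mpr ⟨principal G⟩
    exact (Nat.cast_ne_zero (R := ℂ)).mpr h2.ne' (by simpa using h0)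

end Cfsg.Agent.S0187
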