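import Cfsg.Statements.S0191
import Cfsg.Agent.Lib.Chars.Misc
import Cfsg.Agent.Lib.CharApps.Galois

set_option autoImplicit false
open Cfsg
open CfsgLib.Chars

namespace Cfsg.Agent.S0191

/-- An irreducible complex representation of a finite group of degree greater than 1 has a character that vanishes somewhere. -/
theorem result {G : Type*} [Group G] [Finite G] {V : Type*} [AddCommGroup V] [Module ℂ V] [FiniteDimensional ℂ V] (ρ : Representation ℂ G V) [ρ.IsIrreducible] (hdeg : 1 < Module.finrank ℂ V) : ∃ g : G, ρ.character g = 0 := by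
  classical
  by_contra hno
  push Not at hno
  haveI := Fintype.ofFinite G
  let S : Finset G := Finset.univ.erase 1
  have hS : (S.card : ℝ) ≤ ∑ g ∈ S, ‖ρ.character g‖ ^ 2 := by
    refine CfsgLib.CharApps.card_le_sum_normSq S (fun _ => ρ.character) id
      (fun _ _ => isCharacter_character ρ) (fun g _ => hno g) fun k σ hk hσ => ?_
    refine ⟨fun g => g ^ k, fun g hg => ?_, fun a _ b _ hab => ?_, fun g _ => ?_⟩
    · refine Finset.mem_erase.mpr ⟨fun h => Finset.ne_of_mem_erase hg ?_, Finset.mem_univ _⟩
      exact (powCoprime (hk.symm)).injective (by simpa using h)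
    · exact (powCoprime hk.symm).injective (by simpa using hab)
    · exact CfsgLib.CharApps.galois_apply σ hσ (isCharacter_character ρ) g pow_card_eq_one'
  have hsum : ∑ g : G, ‖ρ.character g‖ ^ 2 = (Nat.card G : ℝ) := by
    have h := inner_self_irr ρ
    rw [inner_self_eq, Complex.ofReal_eq_one, inv_mul_eq_one₀ (Nat.cast_ne_zero.mpr Nat.card_pos.ne')] at h
    exact h.symm
  rw [← Finset.add_sum_erase _ _ (Finset.mem_univ (1 : G)), Representation.char_one,
    Complex.norm_natCast] at hsum
  have hc : (S.card : ℝ) + 1 = (Nat.card G : ℝ) := by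
    rw [Nat.card_eq_fintype_card, ← Finset.card_univ, ← Finset.card_erase_add_one (Finset.mem_univ (1 : G))]
    push_cast
    rfl
  have h2 : (2 : ℝ) ≤ (Module.finrank ℂ V : ℝ) := by exact_mod_cast hdeg
  nlinarith

end Cfsg.Agent.S0191
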