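import Cfsg.Statements.S0192
import Cfsg.Agent.Lib.Chars.Misc

set_option autoImplicit false
open Cfsg
open CfsgLib.Chars

namespace Cfsg.Agent.S0192

/-- Brauer's generation criterion. Let G be a finite simple group, H₁ and H₂ subgroups, and χ a non-principal irreducible character. If the multiplicity of the principal character in χ restricted to H₁ ⊓ H₂ is less than the sum of the corresponding multiplicities for H₁ and H₂, then H₁ and H₂ do not generate G. -/
theorem result {G : Type*} [Group G] [Fintype G] [IsSimpleGroup G] (H₁ H₂ : Subgroup G) [Fintype H₁] [Fintype H₂] [Fintype ↥(H₁ ⊓ H₂)] (χ : G → ℂ) (hχ : Cfsg.IsIrrCharacter G χ) (hχ1 : χ ≠ fun _ => 1) (hlt : (Cfsg.classInner (fun x : ↥(H₁ ⊓ H₂) => χ x) (fun _ => 1)).re < (Cfsg.classInner (fun x : H₁ => χ x) (fun _ => 1)).re + (Cfsg.classInner (fun x : H₂ => χ x) (fun _ => 1)).re) : H₁ ⊔ H₂ ≠ ⊤ := by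
  classical
  intro hsup
  obtain ⟨n, ρ, hρ, rfl⟩ := hχ
  have key : ∀ (H : Subgroup G) [Fintype H], (Cfsg.classInner (fun x : H => ρ.character x)
      (fun _ => 1)).re = (Module.finrank ℂ (Representation.invariants (ρ.comp H.subtype)) : ℝ) := by
    intro H _
    have h := inner_one_eq_finrank_invariants (V := Fin n → ℂ)
      (ρ.comp H.subtype : Representation ℂ H (Fin n → ℂ))
    rw [show (fun x : H => ρ.character x) = Representation.character
      (ρ.comp H.subtype : Representation ℂ H (Fin n → ℂ)) from rfl, h, Complex.natCast_re]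
  rw [key, key, key] at hlt
  set W₁ := Representation.invariants (ρ.comp H₁.subtype : Representation ℂ H₁ (Fin n → ℂ)) with hW₁
  set W₂ := Representation.invariants (ρ.comp H₂.subtype : Representation ℂ H₂ (Fin n → ℂ)) with hW₂
  set W := Representation.invariants
    (ρ.comp (H₁ ⊓ H₂).subtype : Representation ℂ ↥(H₁ ⊓ H₂) (Fin n → ℂ)) with hW
  have hdisj : W₁ ⊓ W₂ = ⊥ := by
    rw [eq_bot_iff]
    rintro v ⟨h1, h2⟩
    let S : Subgroup G :=
      { carrier := {g | ρ g v = v}
        mul_mem' := fun {a b} ha hb => by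
          show ρ (a * b) v = v
          rw [map_mul, Module.End.mul_apply, hb, ha]
        one_mem' := by show ρ 1 v = v; simp
        inv_mem' := fun {a} ha => by
          show ρ a⁻¹ v = v
          conv_lhs => rw [← ha]
          exact ρ.inv_self_apply a v }
    have hS : ⊤ ≤ S := hsup ▸ sup_le (fun x hx => h1 ⟨x, hx⟩) (fun x hx => h2 ⟨x, hx⟩)
    have hv : v ∈ ρ.invariants := fun g => hS (Subgroup.mem_top g)
    rwa [invariants_eq_bot ρ hχ1] at hv
  have hle : W₁ ⊔ W₂ ≤ W := sup_le (fun v hv x => hv ⟨x, x.2.1⟩) (fun v hv x => hv ⟨x, x.2.2⟩)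
  have h1 := Submodule.finrank_sup_add_finrank_inf_eq W₁ W₂
  rw [hdisj, finrank_bot, add_zero] at h1
  have h2 := Submodule.finrank_mono hle
  rw [h1] at h2
  have h3 : (Module.finrank ℂ W₁ : ℝ) + Module.finrank ℂ W₂ ≤ Module.finrank ℂ W := by
    exact_mod_cast h2
  linarith

end Cfsg.Agent.S0192
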