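import Cfsg.Statements.S0194
import Cfsg.Agent.Lib.Chars.Permutation
import Cfsg.Agent.Lib.CharsMore.Clifford

set_option autoImplicit false
open scoped ComplexConjugate
open Cfsg
open CfsgLib.Chars

namespace Cfsg.Agent.S0194

/-- Let G have odd order, H be a normal subgroup and θ a non-principal irreducible character of H. Then the function induced from θ is orthogonal to its complex conjugate. -/
theorem result {G : Type*} [Group G] [Fintype G] (hodd : Odd (Nat.card G)) (H : Subgroup G) [H.Normal] (θ : H → ℂ) (hθ : Cfsg.IsIrrCharacter H θ) (hθ1 : θ ≠ fun _ => 1) : Cfsg.classInner (fun g => conj (Cfsg.indFun H θ g)) (Cfsg.indFun H θ) = 0 := by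
  classical
  haveI := Fintype.ofFinite H
  have hθ' := isIrrCharacter_conj hθ
  have hconjind : (fun g => conj (Cfsg.indFun H θ g)) = Cfsg.indFun H (fun h => conj (θ h)) := by
    funext g
    rw [indFun_apply, indFun_apply, map_mul, map_inv₀, map_natCast, map_sum]
    refine congrArg _ (Finset.sum_congr rfl fun x _ => ?_)
    by_cases hx : x⁻¹ * g * x ∈ H
    · rw [extendByZero_of_mem _ _ hx, extendByZero_of_mem _ _ hx]
    · rw [extendByZero_of_not_mem _ _ hx, extendByZero_of_not_mem _ _ hx, map_zero]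
  rw [hconjind, inner_indFun_right H θ (isClassFunction_indFun H _),
    CfsgLib.CharsMore.inner_indFun_restrict H hθ' hθ]
  suffices hE : IsEmpty {x : G // CfsgLib.CharsMore.conjFn H x (fun h => conj (θ h)) = θ} by
    rw [Nat.card_of_isEmpty (α := {x : G // CfsgLib.CharsMore.conjFn H x (fun h => conj (θ h)) = θ}),
      Nat.cast_zero, mul_zero]
  refine ⟨fun ⟨x, hx⟩ => hθ1 ?_⟩
  have h1 : ∀ n : H, conj (θ (CfsgLib.CharsMore.conjBy H x n)) = θ n := fun n => congrFun hx n
  have hx2 : CfsgLib.CharsMore.conjFn H (x * x) θ = θ := by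
    funext n
    rw [CfsgLib.CharsMore.conjFn_mul]
    show θ (CfsgLib.CharsMore.conjBy H x (CfsgLib.CharsMore.conjBy H x n)) = θ n
    rw [← h1 n, ← h1 (CfsgLib.CharsMore.conjBy H x n), Complex.conj_conj]
  have hxI : x ∈ CfsgLib.CharsMore.inertia H θ := by
    obtain ⟨m, hm⟩ := hodd.of_dvd_nat (orderOf_dvd_natCard x)
    have h3 : x = (x * x) ^ (m + 1) := by
      have h4 : (x * x) ^ (m + 1) = x ^ (2 * m + 1) * x := by
        rw [← pow_two, ← pow_mul, ← pow_succ]; congr 1
      rw [h4, ← hm, pow_orderOf_eq_one, one_mul]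
    rw [h3]
    exact pow_mem (show x * x ∈ CfsgLib.CharsMore.inertia H θ from hx2) _
  have hreal : ∀ n : H, ((⟨θ, hθ⟩ : Cfsg.IrrCharacter H).1 n).im = 0 := by
    intro n
    have h2 := h1 n
    rw [(CfsgLib.CharsMore.mem_inertia H).mp hxI n] at h2
    exact Complex.conj_eq_iff_im.mp h2
  exact congrArg Subtype.val (eq_principal_of_real_of_odd
    (hodd.of_dvd_nat (Subgroup.card_subgroup_dvd_card H)) ⟨θ, hθ⟩ hreal)

end Cfsg.Agent.S0194
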