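import Cfsg.Statements.S0196
import Cfsg.Agent.Lib.Chars.Basic

set_option autoImplicit false
open Cfsg
open CfsgLib.Chars

namespace Cfsg.Agent.S0196

/-- Let A be a subgroup of a finite group G that equals the centralizer of each of its non-identity elements, and let N be its normalizer. Then the index of A in N divides |A| − 1 (N/A permutes the non-identity elements of A in orbits of full length). -/
theorem result {G : Type*} [Group G] [Finite G] (A : Subgroup G) (hA : ∀ x ∈ A, x ≠ 1 → Subgroup.centralizer ({x} : Set G) = A) : (A.subgroupOf (Subgroup.normalizer (A : Set G))).index ∣ Nat.card A - 1 := by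
  classical
  let N := Subgroup.normalizer (A : Set G)
  let X := {x : G // x ∈ A ∧ x ≠ 1}
  letI act : MulAction N X :=
    { smul := fun n x => ⟨(n : G) * x.1 * (n : G)⁻¹,
        (Subgroup.mem_normalizer_iff.mp n.2 x.1).mp x.2.1, fun h => x.2.2 (by simpa using h)⟩
      one_smul := fun x => Subtype.ext (by show (1 : G) * x.1 * (1 : G)⁻¹ = x.1; simp)
      mul_smul := fun a b x => Subtype.ext (by
        show (↑(a * b) : G) * x.1 * (↑(a * b) : G)⁻¹ = (a : G) * ((b : G) * x.1 * (b : G)⁻¹) * (a : G)⁻¹
        simp [mul_assoc]) }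
  have hstab : ∀ x : X, MulAction.stabilizer N x = A.subgroupOf N := by
    intro x
    ext n
    rw [MulAction.mem_stabilizer_iff, Subgroup.mem_subgroupOf]
    conv_rhs => rw [← hA x.1 x.2.1 x.2.2, Subgroup.mem_centralizer_singleton_iff]
    rw [Subtype.ext_iff]
    show (n : G) * x.1 * (n : G)⁻¹ = x.1 ↔ _
    exact mul_inv_eq_iff_eq_mul
  have horb : ∀ ω : MulAction.orbitRel.Quotient N X,
      Nat.card (MulAction.orbit N ω.out) = (A.subgroupOf N).index := fun ω => by
    rw [← hstab ω.out, MulAction.index_stabilizer, Nat.card_coe_set_eq]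
  have h1 := Nat.card_congr (MulAction.selfEquivSigmaOrbits N X)
  haveI := Fintype.ofFinite (MulAction.orbitRel.Quotient N X)
  have h1' : Nat.card X = Nat.card (MulAction.orbitRel.Quotient N X) * (A.subgroupOf N).index := by
    rw [h1, Nat.card_sigma]
    rw [Finset.sum_congr rfl (fun ω _ => horb ω), Finset.sum_const, Finset.card_univ, smul_eq_mul,
      Nat.card_eq_fintype_card]
  have h2 : Nat.card X = Nat.card A - 1 := by
    haveI := Fintype.ofFinite A
    have e : X ≃ {a : A // a ≠ 1} :=
      { toFun := fun x => ⟨⟨x.1, x.2.1⟩, fun h => x.2.2 (congrArg Subtype.val h)⟩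
        invFun := fun a => ⟨a.1.1, a.1.2, fun h => a.2 (Subtype.ext h)⟩
        left_inv := fun x => rfl
        right_inv := fun a => rfl }
    rw [Nat.card_congr e, Nat.card_eq_fintype_card, Fintype.card_subtype_compl,
      Fintype.card_subtype_eq, Nat.card_eq_fintype_card]
  exact ⟨Nat.card (MulAction.orbitRel.Quotient N X), by rw [← h2, h1', mul_comm]⟩

end Cfsg.Agent.S0196
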