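import Cfsg.Statements.S0210
import Cfsg.Agent.Lib.Involutions.Dihedral

set_option autoImplicit false
open Cfsg

namespace Cfsg.Agent.S0210

/-- If x, y are involutions whose product has even order, no element of the subgroup generated by x and y conjugates x to y. -/
theorem result {G : Type*} [Group G] [Finite G] (x y : G) (hx : orderOf x = 2) (hy : orderOf y = 2) (heven : Even (orderOf (x * y))) (d : G) (hd : d ∈ Subgroup.closure ({x, y} : Set G)) : d * x * d⁻¹ ≠ y := by
  open CfsgLib.Involutions in
  intro h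
  obtain ⟨k, hk⟩ := conj_self_eq_refl_even hx hy hd
  rw [hk] at h
  replace h := h.trans (eq_invol_mul_prod (y := y) hx)
  have h2 : ((orderOf (x * y) : ℤ)) ∣ 2 * k - 1 := by
    rw [orderOf_dvd_iff_zpow_eq_one, zpow_sub, zpow_one, mul_inv_eq_one]
    exact mul_left_cancel h
  obtain ⟨m, hm⟩ := heven
  obtain ⟨c, hc⟩ := h2
  rw [hm] at hc
  push_cast at hc
  have : (2:ℤ) ∣ 1 := ⟨k - (m:ℤ) * c, by linarith⟩
  norm_num at this

end Cfsg.Agent.S0210
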