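import Cfsg.Statements.S0211
import Cfsg.Agent.Lib.Involutions.Dihedral

set_option autoImplicit false
open Cfsg

namespace Cfsg.Agent.S0211

/-- Let x, y be involutions with xy of even order n and z = (xy)^(n/2). Then xz is conjugate to x by an element of the subgroup generated by x, y if and only if 4 divides n. -/
theorem result {G : Type*} [Group G] [Finite G] (x y : G) (hx : orderOf x = 2) (hy : orderOf y = 2) (heven : Even (orderOf (x * y))) : (∃ d ∈ Subgroup.closure ({x, y} : Set G), d * x * d⁻¹ = x * (x * y) ^ (orderOf (x * y) / 2)) ↔ 4 ∣ orderOf (x * y) := by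
  open CfsgLib.Involutions in
  constructor
  · rintro ⟨d, hd, h⟩
    obtain ⟨k, hk⟩ := conj_self_eq_refl_even hx hy hd
    rw [hk, ← zpow_natCast] at h
    have h2 := orderOf_dvd_sub_iff_zpow_eq_zpow.2 (mul_left_cancel h)
    obtain ⟨m, hm⟩ := heven
    obtain ⟨c, hc⟩ := h2
    have hh : orderOf (x * y) / 2 = m := by omega
    rw [hh, hm] at hc
    push_cast at hc
    have h2m : (2:ℤ) ∣ (m:ℤ) := ⟨k - (m:ℤ) * c, by linarith⟩
    obtain ⟨j, hj⟩ : 2 ∣ m := by exact_mod_cast h2m
    exact ⟨j, by omega⟩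
  · intro h4
    obtain ⟨d, hd, ⟨_, h⟩ | ⟨h, _⟩⟩ := mul_half_conj_self_or hx hy heven
    · exact ⟨d, hd, h⟩
    · exact absurd h4 h

end Cfsg.Agent.S0211
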