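import Cfsg.Statements.S0212
import Cfsg.Agent.Lib.Involutions.BrauerFowler

set_option autoImplicit false
open Cfsg

namespace Cfsg.Agent.S0212

/-- The Brauer–Fowler bound: if G is a finite simple group and t an involution of G whose centralizer has order n, then |G| ≤ (2n^2)!. -/
theorem result {G : Type*} [Group G] [Finite G] [IsSimpleGroup G] (t : G) (ht : orderOf t = 2) : Nat.card G ≤ Nat.factorial (2 * (Nat.card (Subgroup.centralizer ({t} : Set G))) ^ 2) := by
  open CfsgLib.Involutions in
  open Subgroup in
  set c := Nat.card (centralizer ({t} : Set G)) with hc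
  have hc2 : 2 ≤ c := by
    rw [← ht]; exact Nat.le_of_dvd Nat.card_pos (orderOf_dvd_natCard _ (mem_centralizer_singleton.2 (Commute.refl t)))
  by_cases hcomm : IsMulCommutative G
  · have : Nat.card G = c := by
      rw [hc, show centralizer ({t} : Set G) = ⊤ from eq_top_iff.2 fun g _ =>
        mem_centralizer_singleton.2 (hcomm.1.1 t g), Subgroup.card_top]
    rw [this]
    exact le_trans (by nlinarith) (Nat.self_le_factorial _)
  · have hZ := CfsgLib.Small.center_eq_bot hcomm
    obtain ⟨H, hH, hidx⟩ := exists_small_index (G := G)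
      (even_iff_two_dvd.2 (ht ▸ orderOf_dvd_natCard t)) (by rw [hZ, Subgroup.card_bot]; exact odd_one)
    have h5 := CfsgLib.Small.five_le_index hcomm hH
    have hb := index_bound (hidx.resolve_left (by omega)) (le_invol_mul_centralizer ht)
    have hdvd := CfsgLib.Small.two_mul_card_dvd_factorial hcomm hH
    have h1 := Nat.le_of_dvd (Nat.factorial_pos _) hdvd
    have h2 : Nat.factorial H.index ≤ Nat.factorial (2 * c ^ 2) := Nat.factorial_le (by nlinarith)
    omega

end Cfsg.Agent.S0212
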