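import Cfsg.Statements.S0214
import Cfsg.Agent.Lib.Involutions.StrongEmb

set_option autoImplicit false
open Cfsg

namespace Cfsg.Agent.S0214

/-- Let H be a proper subgroup of the finite group G and P a nontrivial Sylow 2-subgroup of H. Then H is strongly embedded in G if and only if N_G(X) ≤ H for every nontrivial subgroup X of P. -/
theorem result {G : Type*} [Group G] [Finite G] (H : Subgroup G) (hH : H ≠ ⊤) (P : Sylow 2 ↥H) (hP : (P : Subgroup ↥H) ≠ ⊥) : Cfsg.IsStronglyEmbedded H ↔ (∀ X : Subgroup ↥H, X ≤ (P : Subgroup ↥H) → X ≠ ⊥ → Subgroup.normalizer ((X.map H.subtype : Subgroup G) : Set G) ≤ H) := by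
  open CfsgLib.Involutions in
  open Subgroup in
  constructor
  · intro h X hX hX1
    refine SE.normalizer_le h (map_subtype_le X) ?_
    rw [Nat.card_congr (equivMapOfInjective X _ H.subtype_injective).symm.toEquiv,
      even_iff_two_dvd]
    obtain ⟨n, hn⟩ := IsPGroup.iff_card.1 (P.isPGroup'.to_le hX)
    rw [hn]
    refine dvd_pow_self 2 fun h0 => hX1 (eq_bot_of_card_eq _ ?_)
    rw [hn, h0, pow_zero]
  · intro h
    have hev : Even (Nat.card H) := by
      obtain ⟨n, hn⟩ := IsPGroup.iff_card.1 P.isPGroup'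
      have hn0 : n ≠ 0 := fun h0 => hP (eq_bot_of_card_eq _ (by rw [hn, h0, pow_zero]))
      rw [even_iff_two_dvd]
      exact (hn ▸ dvd_pow_self 2 hn0).trans (card_subgroup_dvd_card _)
    refine ⟨hH, hev, fun g hg => (odd_card_iff _).2 fun t ht hto => ?_⟩
    refine not_le_inf_conj_of_normalizer_le (p := 2) H (fun D => D ≠ ⊥)
      (fun D E hle hD hE => hD (le_bot_iff.1 (hE ▸ hle))) ?_ hg (Subgroup.zpowers t) ?_
      (zpowers_le.2 ht) (zpowers_ne_bot.2 (invol_ne_one hto))
    · intro D hDH hDp hD n hn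
      -- conjugate `D` into `P` inside `H`
      obtain ⟨R, hR⟩ := (hDp.comap_subtype (K := H)).exists_le_sylow
      obtain ⟨k, rfl⟩ := MulAction.exists_smul_eq H P R
      let X : Subgroup H := (D.comap H.subtype).map (MulAut.conj k⁻¹).toMonoidHom
      have hX : X ≤ P := by
        rintro _ ⟨d, hd, rfl⟩
        have := mem_smul_sylow_iff'.1 (hR hd)
        show MulAut.conj k⁻¹ d ∈ P
        simpa using this
      have hmapX : X.map H.subtype = D.map (MulAut.conj (k⁻¹ : G)).toMonoidHom := by
        ext x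
        constructor
        · rintro ⟨_, ⟨d, hd, rfl⟩, rfl⟩
          exact ⟨d, hd, by simp⟩
        · rintro ⟨d, hd, rfl⟩
          exact ⟨_, ⟨⟨d, hDH hd⟩, hd, rfl⟩, by simp⟩
      have hX1 : X ≠ ⊥ := by
        intro hb
        apply hD
        have : D.map (MulAut.conj (k⁻¹ : G)).toMonoidHom = ⊥ := by rw [← hmapX, hb, Subgroup.map_bot]
        exact (Subgroup.map_eq_bot_iff_of_injective _ (MulAut.conj _).injective).1 this
      have := h X hX hX1 (show (k⁻¹ : G) * n * (k : G) ∈ _ by
        rw [hmapX, mem_normalizer_iff]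
        intro x
        rw [mem_conj_map, mem_conj_map, inv_inv, mem_normalizer_iff.1 hn]
        refine iff_of_eq (congrArg (· ∈ D) ?_)
        group)
      have := H.mul_mem (H.mul_mem k.2 this) (H.inv_mem k.2)
      rwa [show (k : G) * ((k⁻¹ : G) * n * k) * (k : G)⁻¹ = n by group] at this
    · rw [IsPGroup.iff_card]; exact ⟨1, by rw [Nat.card_zpowers, hto, pow_one]⟩

end Cfsg.Agent.S0214
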