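import Cfsg.Statements.S0216
import Cfsg.Agent.Lib.Involutions.Isolated

set_option autoImplicit false
open Cfsg

namespace Cfsg.Agent.S0216

/-- For an involution u in a Sylow 2-subgroup P of a finite group G, the following are equivalent: no G-conjugate of u other than u lies in P; every commutator of u with an element of G has odd order. -/
theorem result {G : Type*} [Group G] [Finite G] (P : Sylow 2 G) (u : G) (hu : orderOf u = 2) (huP : u ∈ P) : (∀ g : G, g * u * g⁻¹ ∈ P → g * u * g⁻¹ = u) ↔ (∀ g : G, Odd (orderOf (u * g * u⁻¹ * g⁻¹))) := by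
  open CfsgLib.Involutions in
  refine ⟨fun h g => Isolated.odd_orderOf_commutator (isolated_of_sylow P hu h) g, fun h g hg => ?_⟩
  have hodd := h g
  rw [invol_inv hu, mul_assoc u g u, mul_assoc u] at hodd
  obtain ⟨k, hk⟩ := P.isPGroup' ⟨_, P.mul_mem huP hg⟩
  have hk' : (u * (g * u * g⁻¹)) ^ (2 ^ k) = 1 := congrArg Subtype.val hk
  have h1 : orderOf (u * (g * u * g⁻¹)) = 1 := Nat.eq_one_of_dvd_coprimes
    ((Nat.coprime_two_left.2 hodd).pow_left k) (orderOf_dvd_of_pow_eq_one hk') dvd_rfl
  rw [orderOf_eq_one_iff, mul_eq_one_iff_inv_eq, invol_inv hu] at h1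
  exact h1.symm

end Cfsg.Agent.S0216
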