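import Cfsg.Statements.S0218
import Cfsg.Agent.Lib.Involutions.Basic

set_option autoImplicit false
open Cfsg

namespace Cfsg.Agent.S0218

/-- The generalized quaternion group of order 2^(n+3) contains exactly one element of order 2. -/
theorem result (n : ℕ) : Nat.card {x : QuaternionGroup (2 ^ (n + 1)) // orderOf x = 2} = 1 := by
  have : NeZero (2 ^ (n + 1)) := ⟨by positivity⟩
  rw [Nat.card_eq_one_iff_exists]
  refine ⟨⟨QuaternionGroup.a ((2 ^ (n + 1) : ℕ) : ZMod (2 * 2 ^ (n + 1))), ?_⟩, ?_⟩
  · rw [CfsgLib.Involutions.invol_iff, QuaternionGroup.a_mul_a, ← Nat.cast_add, ← two_mul,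
      ZMod.natCast_self]
    refine ⟨QuaternionGroup.a_zero, fun h => ?_⟩
    rw [QuaternionGroup.one_def, QuaternionGroup.a.injEq, ZMod.natCast_eq_zero_iff] at h
    have h2 := Nat.le_of_dvd (by positivity) h
    have : 0 < 2 ^ (n + 1) := by positivity
    omega
  · rintro ⟨(i | i), hi⟩
    · rw [CfsgLib.Involutions.invol_iff, QuaternionGroup.a_mul_a, QuaternionGroup.one_def,
        QuaternionGroup.a.injEq] at hi
      obtain ⟨h1, h2⟩ := hi
      have hi0 : i ≠ 0 := fun h => h2 (by rw [h])
      congr 2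
      rw [← ZMod.natCast_zmod_val i, ← Nat.cast_add, ZMod.natCast_eq_zero_iff] at h1
      obtain ⟨c, hc⟩ := h1
      have hlt := ZMod.val_lt i
      have hpos : i.val ≠ 0 := fun h => hi0 ((ZMod.val_eq_zero i).1 h)
      have hc1 : c = 1 := by
        rcases c with _ | _ | c
        · omega
        · rfl
        · nlinarith [Nat.zero_le (2 * 2 ^ (n + 1) * c)]
      subst hc1
      rw [← ZMod.natCast_zmod_val i]
      congr 1
      omega
    · rw [QuaternionGroup.orderOf_xa] at hi
      omega

end Cfsg.Agent.S0218
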