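import Cfsg.Statements.S0220
import Cfsg.Agent.Lib.Involutions.Isolated
import Cfsg.Agent.S0219

set_option autoImplicit false
open Cfsg

namespace Cfsg.Agent.S0220

/-- If x is an involution of a finite group G and a Sylow 2-subgroup of the centralizer of x is cyclic, then G has a subgroup of index 2; in particular G is not simple unless it has order 2. -/
theorem result {G : Type*} [Group G] [Finite G] (x : G) (hx : orderOf x = 2) (S : Sylow 2 ↥(Subgroup.centralizer ({x} : Set G))) (hS : IsCyclic (S : Subgroup ↥(Subgroup.centralizer ({x} : Set G)))) : ∃ H : Subgroup G, H.index = 2 := by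
  open CfsgLib.Involutions in
  open Subgroup in
  have hxC : x ∈ centralizer ({x} : Set G) := mem_centralizer_singleton.2 (Commute.refl x)
  let x' : ↥(centralizer ({x} : Set G)) := ⟨x, hxC⟩
  have hx'o : orderOf x' = 2 := by rw [← hx]; exact (orderOf_mk x hxC)
  have hx'S : x' ∈ S := by
    obtain ⟨g, hg⟩ := exists_conj_mem_sylow_one S hx'o
    have : g * x' * g⁻¹ = x' := by
      apply Subtype.ext
      show (g : G) * x * (g : G)⁻¹ = x
      rw [← (mem_centralizer_singleton.1 g.2).eq, mul_inv_cancel_right]
    rwa [this] at hg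
  let R : Subgroup G := (S : Subgroup _).map (centralizer ({x} : Set G)).subtype
  obtain ⟨P, hP⟩ := (S.isPGroup'.map (centralizer ({x} : Set G)).subtype).exists_le_sylow
  have hRcyc : IsCyclic R := isCyclic_of_surjective _
    (equivMapOfInjective (S : Subgroup _) _ (centralizer ({x} : Set G)).subtype_injective).surjective
  have hxR : x ∈ R := ⟨x', hx'S, rfl⟩
  have hPeq : R = (P : Subgroup G) := by
    by_contra hne
    have hlt : R.subgroupOf P < ⊤ :=
      lt_top_iff_ne_top.2 fun h => hne (le_antisymm hP (subgroupOf_eq_top.1 h))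
    have hgrow := Group.normalizerCondition_of_isNilpotent (h := P.isPGroup'.isNilpotent) _ hlt
    rw [← subgroupOf_normalizer_eq hP] at hgrow
    obtain ⟨a, ha, ha'⟩ := SetLike.exists_of_lt hgrow
    -- `a` normalises the cyclic group `R`, so centralises its unique involution
    have hax : (a : G) * x * (a : G)⁻¹ = x := by
      have hconjR := (mem_normalizer_iff.1 ha x).1 hxR
      classical
      have : Fintype R := Fintype.ofFinite _
      have h2 := IsCyclic.card_orderOf_eq_totient (α := R) (d := 2) (by
        rw [← Nat.card_eq_fintype_card]; exact hx ▸ Subgroup.orderOf_dvd_natCard R hxR)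
      rw [Nat.totient_two, Finset.card_eq_one] at h2
      obtain ⟨w, hw⟩ := h2
      have e1 : (⟨x, hxR⟩ : R) = w := Finset.mem_singleton.1 (hw ▸ Finset.mem_filter.2
        ⟨Finset.mem_univ _, by rw [orderOf_mk, hx]⟩)
      have e2 : (⟨_, hconjR⟩ : R) = w := Finset.mem_singleton.1 (hw ▸ Finset.mem_filter.2
        ⟨Finset.mem_univ _, by rw [orderOf_mk, conj_invol _ hx]⟩)
      exact congrArg Subtype.val (e2.trans e1.symm)
    have hac : (a : G) ∈ centralizer ({x} : Set G) := mem_centralizer_singleton.2 (by
      show x * (a : G) = a * x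
      calc x * (a : G) = ((a : G) * x * (a : G)⁻¹) * a := by rw [hax]
        _ = a * x := by group)
    apply ha'
    show (a : G) ∈ R
    let P' : Subgroup ↥(centralizer ({x} : Set G)) := (P : Subgroup G).subgroupOf _
    have hP' : (S : Subgroup _) ≤ P' := fun s hs => hP ⟨s, hs, rfl⟩
    have := S.is_maximal' P.isPGroup'.comap_subtype hP'
    exact ⟨⟨_, hac⟩, this ▸ (show (⟨(a : G), hac⟩ : centralizer ({x} : Set G)) ∈ P' from a.2), rfl⟩
  exact Cfsg.Agent.S0219.result (even_iff_two_dvd.2 (hx ▸ orderOf_dvd_natCard x)) P (hPeq ▸ hRcyc)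

end Cfsg.Agent.S0220
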