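import Cfsg.Statements.S0221
import Cfsg.Agent.Lib.Involutions.Isolated
import Cfsg.Agent.Lib.Involutions.NormalFour
import Cfsg.Agent.Lib.Transfer.ThompsonTransfer

set_option autoImplicit false
open Cfsg

namespace Cfsg.Agent.S0221

/-- Let G be a finite group with no subgroup of index 2 whose 2-rank is at least 3 (it contains an elementary abelian subgroup of order 8). Then the centralizer of every involution of G also contains an elementary abelian subgroup of order 8. -/
theorem result {G : Type*} [Group G] [Finite G] (hno : ∀ H : Subgroup G, H.index ≠ 2) (hrank : ∃ E : Subgroup G, Nat.card E = 8 ∧ ∀ e ∈ E, e ^ 2 = 1) (x : G) (hx : orderOf x = 2) : ∃ E : Subgroup G, E ≤ Subgroup.centralizer ({x} : Set G) ∧ Nat.card E = 8 ∧ ∀ e ∈ E, e ^ 2 = 1 := by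
  open CfsgLib.Involutions CfsgLib.Base in
  open Subgroup in
  have h2G := hno
  obtain ⟨E0, hE0, hE02⟩ := hrank
  have hE0el : Cfsg.IsElementaryAbelian 2 E0 := by
    refine isElementaryAbelian_iff.2 ⟨fun a ha b hb => ?_, hE02⟩
    have e : ∀ c ∈ E0, c⁻¹ = c := fun c hc => by
      rw [inv_eq_iff_mul_eq_one, ← sq]; exact hE02 c hc
    calc a * b = (a * b)⁻¹ := (e _ (mul_mem ha hb)).symm
      _ = b * a := by rw [mul_inv_rev, e a ha, e b hb]
  obtain ⟨S, hS⟩ := (isPGroup_of_isElementaryAbelian hE0el).exists_le_sylow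
  obtain ⟨z, u, hz, hzc, hu, huz, hconj⟩ := exists_normal_four S.isPGroup' (E0.subgroupOf S)
    (isElementaryAbelian_subgroupOf hE0el _) (by
      rw [Nat.card_congr (subgroupOfEquivOfLe hS).toEquiv, hE0])
  have hzS : ∀ g : (S : Subgroup G), Commute g z := fun g => mem_center_iff.1 hzc g
  let M0 : Subgroup (S : Subgroup G) := centralizer ({u} : Set (S : Subgroup G))
  let M : Subgroup G := M0.map (S : Subgroup G).subtype
  have hidx : M0.index ≤ 2 := by
    classical
    by_contra hlt
    rw [← card_conjugates_eq_index] at hlt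
    have hinj : Function.Injective (fun y : {y : (S : Subgroup G) // IsConj u y} =>
        if y.1 = u then false else true) := by
      rintro ⟨y, hy⟩ ⟨y', hy'⟩ h
      obtain ⟨g, rfl⟩ := isConj_iff.1 hy
      obtain ⟨g', rfl⟩ := isConj_iff.1 hy'
      have hne : u * z ≠ u := fun h => invol_ne_one hz (mul_eq_left.1 h)
      rcases hconj g with h1 | h1 <;> rcases hconj g' with h2 | h2 <;>
        simp [h1, h2, hne] at h ⊢
    have := Nat.card_le_card_of_injective _ hinj
    rw [Nat.card_eq_fintype_card (α := Bool), Fintype.card_bool] at this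
    omega
  -- an elementary subgroup of order eight centralising the four-group
  obtain ⟨W, hWM, hW, hW8, hzW, huW⟩ : ∃ W : Subgroup (S : Subgroup G), W ≤ M0 ∧
      Cfsg.IsElementaryAbelian 2 W ∧ 8 ≤ Nat.card W ∧ z ∈ W ∧ u ∈ W := by
    let E := E0.subgroupOf (S : Subgroup G)
    have hE : Cfsg.IsElementaryAbelian 2 E := isElementaryAbelian_subgroupOf hE0el _
    have hE8 : Nat.card E = 8 := by
      rw [Nat.card_congr (subgroupOfEquivOfLe hS).toEquiv, hE0]
    have hU : Cfsg.IsElementaryAbelian 2 (zpowers z ⊔ zpowers u) :=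
      isElementaryAbelian_sup
        (isElementaryAbelian_zpowers (orderOf_dvd_iff_pow_eq_one.1 hz.dvd))
        (isElementaryAbelian_zpowers (orderOf_dvd_iff_pow_eq_one.1 hu.dvd))
        (zpowers_le.2 (mem_centralizer_iff.2 fun v _ => (hzS v).eq))
    let W := (E ⊓ M0) ⊔ (zpowers z ⊔ zpowers u)
    have hEM : E ⊓ M0 ≤ centralizer ((zpowers z ⊔ zpowers u : Subgroup _) : Set _) := by
      intro g hg
      rw [zpowers_eq_closure, zpowers_eq_closure, ← Subgroup.closure_union, centralizer_closure,
        mem_centralizer_iff]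
      rintro v (rfl | rfl)
      · exact (hzS g).eq.symm
      · exact (mem_centralizer_singleton_iff.1 hg.2).symm
    have hWe : Cfsg.IsElementaryAbelian 2 W :=
      isElementaryAbelian_sup (isElementaryAbelian_le inf_le_left hE) hU hEM
    have hzM : z ∈ M0 := mem_centralizer_singleton_iff.2 (hzS u).eq.symm
    have huM : u ∈ M0 := mem_centralizer_singleton_iff.2 rfl
    refine ⟨W, sup_le inf_le_right (sup_le (zpowers_le.2 hzM) (zpowers_le.2 huM)), hWe, ?_,
      le_sup_right (a := E ⊓ M0) (mem_sup_left (mem_zpowers z)),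
      le_sup_right (a := E ⊓ M0) (mem_sup_right (mem_zpowers u))⟩
    obtain ⟨k, hk⟩ := exists_card_eq_pow_of_isElementaryAbelian hWe
    by_contra hlt
    have hk2 : k ≤ 2 := by
      by_contra h
      exact hlt (hk ▸ Nat.pow_le_pow_right two_pos (by omega : 3 ≤ k))
    have hW4 : Nat.card W ≤ 4 := hk ▸ Nat.pow_le_pow_right two_pos hk2
    have hU4 : 4 ≤ Nat.card (zpowers z ⊔ zpowers u : Subgroup _) := by
      have h2 : Nat.card (zpowers z) = 2 := by rw [Nat.card_zpowers, hz]
      obtain ⟨j, hj⟩ := exists_card_eq_pow_of_isElementaryAbelian hU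
      rw [hj]
      have h3 : zpowers z < zpowers z ⊔ zpowers u := by
        refine lt_of_le_of_ne le_sup_left fun h => ?_
        have hmem : u ∈ zpowers z := h ▸ mem_sup_right (mem_zpowers u)
        have heq : zpowers u = zpowers z := eq_of_le_of_card_ge (zpowers_le.2 hmem)
          (by rw [Nat.card_zpowers, Nat.card_zpowers, hu, hz])
        obtain ⟨i, hi⟩ := hmem
        rcases Int.even_or_odd' i with ⟨m, rfl | rfl⟩
        · refine invol_ne_one hu (hi ▸ ?_)
          show z ^ (2 * m) = 1
          rw [zpow_mul, zpow_two, invol_mul_self hz, one_zpow]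
        · refine huz (hi ▸ ?_)
          show z ^ (2 * m + 1) = z
          rw [zpow_add, zpow_mul, zpow_two, invol_mul_self hz, one_zpow, one_mul, zpow_one]
      have hlt2 : 2 < 2 ^ j := by
        by_contra hle
        exact h3.ne (eq_of_le_of_card_ge h3.le (by omega))
      calc 4 = 2 ^ 2 := by norm_num
        _ ≤ 2 ^ j := Nat.pow_le_pow_right two_pos (by
            by_contra hj2
            have := Nat.pow_le_pow_right (n := 2) two_pos (by omega : j ≤ 1)
            omega)
    have hUW : (zpowers z ⊔ zpowers u : Subgroup _) = W := eq_of_le_of_card_ge le_sup_right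
      (by omega)
    have hEU : E ⊓ M0 ≤ zpowers z ⊔ zpowers u := by rw [hUW]; exact le_sup_left
    have h4 : 4 ≤ Nat.card (E ⊓ M0 : Subgroup _) := by
      have h1 := card_mul_index ((E ⊓ M0).subgroupOf E)
      rw [Nat.card_congr (subgroupOfEquivOfLe (inf_le_left : E ⊓ M0 ≤ E)).toEquiv, hE8,
        inf_subgroupOf_left] at h1
      have h2 : (M0.subgroupOf E).index ≤ 2 := ((relIndex_le_of_le_right (H := M0) (le_top : E ≤ ⊤) (by
          rw [relIndex_top_right]; exact index_ne_zero_of_finite)).trans (relIndex_top_right M0).le).trans hidx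
      nlinarith
    have hEeq : E ⊓ M0 = zpowers z ⊔ zpowers u := eq_of_le_of_card_ge hEU (by
      have : Nat.card (zpowers z ⊔ zpowers u : Subgroup _) ≤ Nat.card W := card_le_of_le le_sup_right
      omega)
    have huE : u ∈ E := (hEeq.ge (mem_sup_right (mem_zpowers u))).1
    have hle : E ≤ M0 := fun g hg => mem_centralizer_singleton_iff.2
      ((isElementaryAbelian_iff.1 hE).1 g hg u huE)
    rw [inf_eq_left.2 hle] at hEeq
    have : Nat.card (zpowers z ⊔ zpowers u : Subgroup _) ≤ Nat.card W := card_le_of_le le_sup_right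
    have h9 : Nat.card E = Nat.card (zpowers z ⊔ zpowers u : Subgroup _) := by rw [hEeq]
    omega
  -- it suffices to treat an involution of `M`
  obtain ⟨g, hgM⟩ : ∃ g : G, g * x * g⁻¹ ∈ M := by
    rcases Nat.lt_or_ge M0.index 2 with h | h
    · obtain ⟨g, hg⟩ := exists_conj_mem_sylow_one S hx
      refine ⟨g, ⟨⟨_, hg⟩, ?_, rfl⟩⟩
      have h1 : M0.index = 1 := by
        have : M0.index ≠ 0 := index_ne_zero_of_finite
        omega
      rw [index_eq_one] at h1
      rw [h1]
      exact mem_top _
    · by_contra hno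
      push Not at hno
      obtain ⟨N, -, hN, -⟩ := CfsgLib.Transfer.exists_index_two_of_not_conj_mem S
        (Q := M) (map_subtype_le _) (by
          rw [relIndex, subgroupOf, comap_map_eq_self_of_injective (S : Subgroup G).subtype_injective]
          omega) hx hno
      exact h2G N hN
  obtain ⟨y, hy, hyx⟩ := hgM
  have hyo : orderOf y = 2 := by
    rw [← Subgroup.orderOf_coe]; exact (congrArg orderOf hyx).trans (conj_invol g hx)
  -- an elementary subgroup of order at least eight centralising `y`
  obtain ⟨V, hV, hV8, hVy⟩ : ∃ V : Subgroup (S : Subgroup G), Cfsg.IsElementaryAbelian 2 V ∧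
      8 ≤ Nat.card V ∧ ∀ v ∈ V, Commute v y := by
    by_cases hyU : y ∈ zpowers z ⊔ zpowers u
    · exact ⟨W, hW, hW8, fun v hv => (isElementaryAbelian_iff.1 hW).1 v hv y
        (sup_le (zpowers_le.2 hzW) (zpowers_le.2 huW) hyU)⟩
    · have hU : Cfsg.IsElementaryAbelian 2 (zpowers z ⊔ zpowers u) :=
        isElementaryAbelian_le (sup_le (zpowers_le.2 hzW) (zpowers_le.2 huW)) hW
      have hc : zpowers y ≤ centralizer ((zpowers z ⊔ zpowers u : Subgroup _) : Set _) := by
        rw [zpowers_le, zpowers_eq_closure, zpowers_eq_closure, ← Subgroup.closure_union,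
          centralizer_closure, mem_centralizer_iff]
        rintro v (rfl | rfl)
        · exact (hzS y).eq.symm
        · exact (mem_centralizer_singleton_iff.1 hy).symm
      have hV := isElementaryAbelian_sup
        (isElementaryAbelian_zpowers (orderOf_dvd_iff_pow_eq_one.1 hyo.dvd)) hU hc
      refine ⟨_, hV, ?_, fun v hv => (isElementaryAbelian_iff.1 hV).1 v hv y
        (mem_sup_left (mem_zpowers y))⟩
      obtain ⟨k, hk⟩ := exists_card_eq_pow_of_isElementaryAbelian hV
      obtain ⟨j, hj⟩ := exists_card_eq_pow_of_isElementaryAbelian hU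
      have hz2 : 2 < 2 ^ j := by
        rw [← hj]
        by_contra hle
        have heq : zpowers z = zpowers z ⊔ zpowers u := eq_of_le_of_card_ge le_sup_left
          (by rw [Nat.card_zpowers, hz]; omega)
        obtain ⟨i, hi⟩ := (heq.ge (mem_sup_right (mem_zpowers u)) : u ∈ zpowers z)
        rcases Int.even_or_odd' i with ⟨m, rfl | rfl⟩
        · refine invol_ne_one hu (hi ▸ ?_)
          show z ^ (2 * m) = 1
          rw [zpow_mul, zpow_two, invol_mul_self hz, one_zpow]
        · refine huz (hi ▸ ?_)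
          show z ^ (2 * m + 1) = z
          rw [zpow_add, zpow_mul, zpow_two, invol_mul_self hz, one_zpow, one_mul, zpow_one]
      have hlt : 2 ^ j < 2 ^ k := by
        rw [← hj, ← hk]
        by_contra hle
        exact hyU ((eq_of_le_of_card_ge (le_sup_right : _ ≤ zpowers y ⊔ (zpowers z ⊔ zpowers u))
          (not_lt.1 hle)).ge (mem_sup_left (mem_zpowers y)))
      rw [Nat.pow_lt_pow_iff_right (by norm_num)] at hlt
      have hj1 : 2 ≤ j := by
        by_contra h
        have := Nat.pow_le_pow_right (n := 2) two_pos (by omega : j ≤ 1)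
        omega
      rw [hk]
      exact (Nat.pow_le_pow_right two_pos (by omega : 3 ≤ k))
  obtain ⟨V8, hV8', hV8le⟩ : ∃ K : Subgroup (S : Subgroup G), Nat.card K = 8 ∧ K ≤ V := by
    obtain ⟨k, hk⟩ := exists_card_eq_pow_of_isElementaryAbelian hV
    have h3 : 3 ≤ k := by
      by_contra h
      have := Nat.pow_le_pow_right (n := 2) two_pos (by omega : k ≤ 2)
      omega
    obtain ⟨K, hK⟩ := Sylow.exists_subgroup_card_pow_prime 2 (G := V) (n := 3)
      (by rw [hk]; exact pow_dvd_pow 2 h3)
    exact ⟨K.map V.subtype, by rw [Subgroup.card_map_of_injective V.subtype_injective, hK]; norm_num,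
      map_subtype_le _⟩
  refine ⟨(V8.map (S : Subgroup G).subtype).map (MulAut.conj g⁻¹).toMonoidHom, ?_, ?_, ?_⟩
  · rintro _ ⟨_, ⟨v, hv, rfl⟩, rfl⟩
    rw [mem_centralizer_singleton_iff]
    have hc : (v : G) * (g * x * g⁻¹) = g * x * g⁻¹ * v := by
      rw [← hyx]; exact congrArg Subtype.val (hVy v (hV8le hv)).eq
    show MulAut.conj g⁻¹ (v : G) * x = x * MulAut.conj g⁻¹ (v : G)
    rw [MulAut.conj_apply, inv_inv]
    calc g⁻¹ * v * g * x = g⁻¹ * ((v : G) * (g * x * g⁻¹)) * g := by group
      _ = _ := by rw [hc]; group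
  · rw [Subgroup.card_map_of_injective (MulAut.conj g⁻¹).injective,
      Subgroup.card_map_of_injective (S : Subgroup G).subtype_injective, hV8']
  · intro e he
    obtain ⟨v, hv, rfl⟩ := he
    obtain ⟨w, hw, rfl⟩ := hv
    rw [← map_pow, ← map_pow, (isElementaryAbelian_iff.1 hV).2 w (hV8le hw), map_one, map_one]

end Cfsg.Agent.S0221
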