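import Cfsg.Statements.S0223
import Cfsg.Agent.Lib.Involutions.StrongEmb

set_option autoImplicit false
open Cfsg

namespace Cfsg.Agent.S0223

/-- Let H be a proper subgroup of even order of the finite group G. Then H is strongly embedded if and only if (i) C_G(t) ≤ H for every involution t of H and (ii) H controls fusion of its involutions: involutions of H conjugate in G are conjugate in H. -/
theorem result {G : Type*} [Group G] [Finite G] (H : Subgroup G) (hH : H ≠ ⊤) (heven : Even (Nat.card H)) : Cfsg.IsStronglyEmbedded H ↔ ((∀ t ∈ H, orderOf t = 2 → Subgroup.centralizer ({t} : Set G) ≤ H) ∧ (∀ t ∈ H, ∀ s ∈ H, orderOf t = 2 → orderOf s = 2 → IsConj t s → ∃ h ∈ H, h * t * h⁻¹ = s)) := by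
  open CfsgLib.Involutions in
  constructor
  · intro h
    refine ⟨fun t ht hto => SE.centralizer_le h hto ht, fun t ht s hs hto _ hc => ?_⟩
    obtain ⟨g, hg⟩ := isConj_iff.1 hc
    exact ⟨g, SE.mem_of_conj h hto ht (by rwa [hg]), hg⟩
  · rintro ⟨h1, h2⟩
    refine ⟨hH, heven, fun g hg => (odd_card_iff _).2 fun s hs hso => hg ?_⟩
    have ht : g⁻¹ * s * g ∈ H := mem_conj_map.1 hs.2
    have hto : orderOf (g⁻¹ * s * g) = 2 := by
      simpa [orderOf_conj_eq, hso] using orderOf_conj_eq g⁻¹ s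
    obtain ⟨h, hh, he⟩ := h2 _ ht s hs.1 hto hso (isConj_iff.2 ⟨g, by group⟩)
    have hc : h⁻¹ * g ∈ Subgroup.centralizer ({g⁻¹ * s * g} : Set G) :=
      conj_eq_iff_inv_mul_mem.1 (by rw [he]; group)
    have := H.mul_mem hh (h1 _ ht hto hc)
    rwa [mul_inv_cancel_left] at this

end Cfsg.Agent.S0223
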