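import Cfsg.Statements.S0224
import Cfsg.Agent.Lib.Involutions.StrongEmb

set_option autoImplicit false
open Cfsg

namespace Cfsg.Agent.S0224

/-- Let H be a proper subgroup of even order of the finite group G. Then H is strongly embedded if and only if each involution of H fixes exactly one point (namely the coset H) in the action of G on the cosets of H. -/
theorem result {G : Type*} [Group G] [Finite G] (H : Subgroup G) (hH : H ≠ ⊤) (heven : Even (Nat.card H)) : Cfsg.IsStronglyEmbedded H ↔ ∀ t ∈ H, orderOf t = 2 → Nat.card {c : G ⧸ H // t • c = c} = 1 := by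
  open CfsgLib.Involutions in
  have hfix : ∀ (t g : G), t • (g : G ⧸ H) = g ↔ g⁻¹ * t * g ∈ H := by
    intro t g
    rw [MulAction.Quotient.smul_mk, QuotientGroup.eq, smul_eq_mul, mul_inv_rev]
    constructor <;> intro h <;> simpa [mul_assoc] using H.inv_mem h
  constructor
  · intro h t ht hto
    rw [Nat.card_eq_one_iff_exists]
    refine ⟨⟨((1 : G) : G ⧸ H), (hfix t 1).2 (by simpa using ht)⟩, ?_⟩
    rintro ⟨c, hc⟩
    obtain ⟨g, rfl⟩ := QuotientGroup.mk_surjective c
    refine Subtype.ext (QuotientGroup.eq.2 ?_)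
    simpa using H.inv_mem (H.inv_mem (SE.mem_of_conj h (t := g⁻¹ * t * g)
      (by simpa [orderOf_conj_eq, hto] using orderOf_conj_eq g⁻¹ t) ((hfix t g).1 hc) (g := g)
      (by simpa [mul_assoc] using ht)))
  · intro h
    refine ⟨hH, heven, fun g hg => (odd_card_iff _).2 fun s hs hso => hg ?_⟩
    obtain ⟨c, hc⟩ := Nat.card_eq_one_iff_exists.1 (h s hs.1 hso)
    have h1 := hc ⟨((1 : G) : G ⧸ H), (hfix s 1).2 (by simpa using hs.1)⟩
    have h2 := hc ⟨(g : G ⧸ H), (hfix s g).2 (mem_conj_map.1 hs.2)⟩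
    have := QuotientGroup.eq.1 (Subtype.ext_iff.1 (h2.trans h1.symm))
    simpa using H.inv_mem this

end Cfsg.Agent.S0224
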