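import Cfsg.Statements.S0226
import Cfsg.Agent.Lib.Involutions.Dihedral


set_option autoImplicit false
open Cfsg

namespace Cfsg.Agent.S0226

/-- A finite group of even order has an odd number of involutions. -/
theorem result {G : Type*} [Group G] [Finite G] (heven : Even (Nat.card G)) : Odd (Nat.card {t : G // orderOf t = 2}) := by
  classical
  obtain ⟨t, ht⟩ := exists_prime_orderOf_dvd_card' 2 (even_iff_two_dvd.1 heven)
  have : Fintype G := Fintype.ofFinite G
  let e : Function.End G := fun g => g⁻¹
  have key := Equiv.Perm.card_fixedPoints_modEq (p := 2) (n := 1)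
    (f := (e : Function.End G)) (by rw [pow_one, sq]; funext g; exact inv_inv g)
  rw [← Nat.card_eq_fintype_card] at key
  have hfix : Nat.card {g : G // g⁻¹ = g} = Nat.card {t : G // orderOf t = 2} + 1 := by
    have h : {g : G | g⁻¹ = g} = insert 1 {t : G | orderOf t = 2} := by
      ext g
      simp only [Set.mem_ofPred_eq, Set.mem_insert_iff]
      constructor
      · intro h
        by_cases hg : g = 1
        · exact Or.inl hg
        · exact Or.inr (CfsgLib.Involutions.invol_iff.2 ⟨by
            nth_rw 1 [← h]; exact inv_mul_cancel g, hg⟩)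
      · rintro (rfl | h)
        · simp
        · exact CfsgLib.Involutions.invol_inv h
    show ({g : G | g⁻¹ = g}).ncard = ({t : G | orderOf t = 2}).ncard + 1
    rw [h, Set.ncard_insert_of_notMem (by simp)]
  have hc : Fintype.card (Function.fixedPoints e) = Nat.card {g : G // g⁻¹ = g} := by
    rw [← Nat.card_eq_fintype_card]; rfl
  rw [hc, hfix] at key
  rw [Nat.odd_iff]
  obtain ⟨m, hm⟩ := heven
  unfold Nat.ModEq at key
  omega

end Cfsg.Agent.S0226
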