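import Cfsg.Statements.S0229
import Cfsg.Agent.Lib.Involutions.Isolated

set_option autoImplicit false
open Cfsg

namespace Cfsg.Agent.S0229

/-- Let t be an involution of a Sylow 2-subgroup S of a finite group G, conjugate in G to no other element of S, and let s be an involution of G not conjugate to t. Then the order of st is twice an odd number. -/
theorem result {G : Type*} [Group G] [Finite G] (S : Sylow 2 G) (t : G) (ht : orderOf t = 2) (htS : t ∈ S) (hiso : ∀ g : G, g * t * g⁻¹ ∈ S → g * t * g⁻¹ = t) (s : G) (hs : orderOf s = 2) (hns : ¬ IsConj s t) : orderOf (s * t) % 4 = 2 := by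
  open CfsgLib.Involutions in
  have hz := isolated_of_sylow S ht hiso
  have heven : Even (orderOf (s * t)) := by
    by_contra h
    exact hns (isConj_of_odd_prod hs ht (Nat.not_even_iff_odd.1 h))
  have hcomm : orderOf (s * t) = orderOf (t * s) := by
    rw [← orderOf_conj_eq t (s * t), mul_assoc t (s * t), mul_assoc s, mul_inv_cancel, mul_one]
  have heven' : Even (orderOf (t * s)) := by rwa [← hcomm]
  rw [hcomm]
  have hw := half_invol (x := t) (y := s) heven'
  have hcz := half_comm_left ht hs heven'
  obtain ⟨d, -, ⟨-, hd⟩ | ⟨h4, -⟩⟩ := mul_half_conj_self_or ht hs heven'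
  · have := Isolated.eq_of_commute_isConj hz (isConj_iff.2 ⟨d, hd⟩) ((Commute.refl t).mul_right hcz.symm)
    exact absurd (mul_eq_left.1 this) (invol_ne_one hw)
  · obtain ⟨m, hm⟩ := heven'
    omega

end Cfsg.Agent.S0229
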