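import Cfsg.Statements.S0230
import Cfsg.Agent.Lib.Involutions.Basic

set_option autoImplicit false
open Cfsg

namespace Cfsg.Agent.S0230

/-- Let G be a finite group with two non-conjugate involutions, and let t be an involution whose centralizer has maximal order among centralizers of involutions. Then |G| < |C_G(t)|^3. -/
theorem result {G : Type*} [Group G] [Finite G] (s t : G) (hs : orderOf s = 2) (ht : orderOf t = 2) (hnc : ¬ IsConj s t) (hmax : ∀ u : G, orderOf u = 2 → Nat.card (Subgroup.centralizer ({u} : Set G)) ≤ Nat.card (Subgroup.centralizer ({t} : Set G))) : Nat.card G < Nat.card (Subgroup.centralizer ({t} : Set G)) ^ 3 := by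
  open CfsgLib.Involutions in
  classical
  -- every conjugate of `t` commutes with some involution of the centralizer of `s`
  let Cs := Subgroup.centralizer ({s} : Set G)
  let Ct := Subgroup.centralizer ({t} : Set G)
  let Z := {z : Cs // orderOf z = 2}
  have hf : ∀ y : {y : G // IsConj t y}, ∃ p : Σ z : Z, Subgroup.centralizer ({(z.1 : G)} : Set G),
      (p.2 : G) = y.1 := by
    rintro ⟨y, hy⟩
    have hyo := isConj_invol hy ht
    have heven : Even (orderOf (s * y)) := by
      by_contra h
      exact hnc ((isConj_of_odd_prod hs hyo (Nat.not_even_iff_odd.1 h)).trans hy.symm)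
    exact ⟨⟨⟨⟨_, mem_centralizer_singleton.2 (half_comm_left hs hyo heven).symm⟩,
      by rw [Subgroup.orderOf_mk]; exact half_invol (x := s) (y := y) heven⟩,
      ⟨y, mem_centralizer_singleton.2 (half_comm_right hs hyo heven)⟩⟩, rfl⟩
  choose f hf using hf
  have hinj : Function.Injective f := fun a b h => Subtype.ext (by rw [← hf a, ← hf b, h])
  have hle := Nat.card_le_card_of_injective f hinj
  have : Fintype Z := Fintype.ofFinite _
  rw [Nat.card_sigma] at hle
  have hle2 : (∑ z : Z, Nat.card (Subgroup.centralizer ({(z.1 : G)} : Set G)))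
      ≤ Nat.card Z * Nat.card Ct := by
    refine (Finset.sum_le_sum (g := fun _ => Nat.card Ct) fun z _ => ?_).trans_eq ?_
    · exact hmax _ (by rw [Subgroup.orderOf_coe]; exact z.2)
    · rw [Finset.sum_const, Finset.card_univ, ← Nat.card_eq_fintype_card, smul_eq_mul]
  have hZ : Nat.card Z < Nat.card Cs := by
    have : Fintype Cs := Fintype.ofFinite _
    rw [Nat.card_eq_fintype_card, Nat.card_eq_fintype_card]
    exact Fintype.card_subtype_lt (x := (1 : Cs)) (by simp)
  rw [← card_conjugates_mul t]
  have hs' := hmax s hs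
  have hpos : 0 < Nat.card Ct := Nat.card_pos
  calc Nat.card {y : G // IsConj t y} * Nat.card Ct ≤ Nat.card Z * Nat.card Ct * Nat.card Ct :=
        Nat.mul_le_mul_right _ (hle.trans hle2)
    _ < Nat.card Cs * Nat.card Ct * Nat.card Ct :=
        Nat.mul_lt_mul_of_pos_right (Nat.mul_lt_mul_of_pos_right hZ hpos) hpos
    _ ≤ Nat.card Ct ^ 3 := by
        rw [pow_succ, pow_two]
        exact Nat.mul_le_mul_right _ (Nat.mul_le_mul_right _ hs')

end Cfsg.Agent.S0230
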