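import Cfsg.Statements.S0234
import Cfsg.Agent.Lib.Involutions.BrauerFowler
import Cfsg.Agent.Lib.Small.Order60

set_option autoImplicit false
open Cfsg

namespace Cfsg.Agent.S0234

/-- In a finite simple group G of even order greater than 2, the number n of involutions satisfies 3n < |G|. -/
theorem result {G : Type*} [Group G] [Finite G] [IsSimpleGroup G] (heven : Even (Nat.card G)) (hgt : 2 < Nat.card G) : 3 * Nat.card {t : G // orderOf t = 2} < Nat.card G := by
  open CfsgLib.Involutions in
  open Subgroup in
  have hcomm : ¬ IsMulCommutative G := CfsgLib.Small.not_isMulCommutative_of_card fun hp => by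
    have := (Nat.prime_dvd_prime_iff_eq Nat.prime_two hp).1 (even_iff_two_dvd.1 heven)
    omega
  obtain ⟨H, hH, hidx⟩ := exists_small_index (G := G) heven
    (by rw [CfsgLib.Small.center_eq_bot hcomm, Subgroup.card_bot]; exact odd_one)
  have h5 := CfsgLib.Small.five_le_index hcomm hH
  replace hidx := hidx.resolve_left (by omega)
  set n := Nat.card {t : G // orderOf t = 2}
  set g := Nat.card G with hg
  by_contra hno
  rw [not_lt] at hno
  have hb : 2 * H.index < 3 * (3 + 1) := index_bound hidx (hno.trans_eq (mul_comm _ _))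
  have h5' : H.index = 5 := by omega
  have hdvd := CfsgLib.Small.two_mul_card_dvd_factorial hcomm hH
  rw [h5', show Nat.factorial 5 = 2 * 60 from rfl, Nat.mul_dvd_mul_iff_left two_pos] at hdvd
  have h4 := CfsgLib.Small.four_dvd_of_even hcomm heven
  have hi : 5 ∣ g := h5' ▸ Subgroup.index_dvd_card H
  have h20 : 20 ∣ g := Nat.Coprime.mul_dvd_of_dvd_of_dvd (m := 4) (n := 5) (by norm_num) h4 hi
  have hle := Nat.le_of_dvd (by norm_num) hdvd
  rcases (show g = 20 ∨ g = 40 ∨ g = 60 by omega) with h | h | h
  · -- order 20: the Sylow 5-subgroup is normal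
    have : Fact (Nat.Prime 5) := ⟨by norm_num⟩
    have h1 := CfsgLib.Small.one_lt_card_sylow hcomm (p := 5) hi
    obtain ⟨P⟩ := (inferInstance : Nonempty (Sylow 5 G))
    have h2 := card_sylow_modEq_one 5 G
    have hP : Nat.card (P : Subgroup G) = 5 :=
      CfsgLib.Small.card_sylow_eq 1 4 (h.trans (by norm_num)) (by norm_num) P
    have h3 := P.card_dvd_index
    have h4 := (P : Subgroup G).index_mul_card
    rw [hP, ← hg, h] at h4
    rw [show (P : Subgroup G).index = 4 by omega] at h3
    have h6 := Nat.le_of_dvd (by norm_num) h3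
    unfold Nat.ModEq at h2
    omega
  · rw [← hg, h] at hdvd
    norm_num at hdvd
  · obtain ⟨e⟩ := CfsgLib.Small.equiv_alternating_five h
    have hn : n = Nat.card {t : alternatingGroup (Fin 5) // orderOf t = 2} :=
      Nat.card_congr (e.toEquiv.subtypeEquiv fun t => by rw [← MulEquiv.orderOf_eq e t]; rfl)
    have h15 : Nat.card {t : alternatingGroup (Fin 5) // orderOf t = 2} = 15 := by
      rw [Nat.card_congr (Equiv.subtypeEquivRight (q := fun t => t * t = 1 ∧ t ≠ 1)
        fun t => invol_iff), Nat.card_eq_fintype_card]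
      decide +kernel
    omega

end Cfsg.Agent.S0234
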