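import Cfsg.Statements.S0236
import Cfsg.Agent.Lib.Involutions.Basic

set_option autoImplicit false
open Cfsg

namespace Cfsg.Agent.S0236

/-- If x is an involution, the number of ordered pairs (u, v) of involutions with uv = x, plus one, equals the number of involutions in the centralizer of x. -/
theorem result {G : Type*} [Group G] [Finite G] (x : G) (hx : orderOf x = 2) : Nat.card {p : G × G // orderOf p.1 = 2 ∧ orderOf p.2 = 2 ∧ p.1 * p.2 = x} + 1 = Nat.card {t : G // orderOf t = 2 ∧ Commute t x} := by
  open CfsgLib.Involutions in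
  classical
  rw [Nat.card_congr (pairEquiv x)]
  have h : {t : G | orderOf t = 2 ∧ Commute t x}
      = insert x {t : G | orderOf t = 2 ∧ t * x * t⁻¹ = x⁻¹ ∧ x ≠ t} := by
    ext t
    simp only [Set.mem_ofPred_eq, Set.mem_insert_iff, invol_inv hx]
    constructor
    · rintro ⟨h1, h2⟩
      by_cases h3 : t = x
      · exact Or.inl h3
      · exact Or.inr ⟨h1, by rw [h2.eq, mul_inv_cancel_right], fun h => h3 h.symm⟩
    · rintro (rfl | ⟨h1, h2, -⟩)
      · exact ⟨hx, Commute.refl _⟩
      · refine ⟨h1, ?_⟩
        show t * x = x * t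
        calc t * x = t * x * t⁻¹ * t := by group
          _ = x * t := by rw [h2]
  show ({t : G | orderOf t = 2 ∧ t * x * t⁻¹ = x⁻¹ ∧ x ≠ t}).ncard + 1
    = ({t : G | orderOf t = 2 ∧ Commute t x}).ncard
  rw [h, Set.ncard_insert_of_notMem (by simp)]

end Cfsg.Agent.S0236
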