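import Cfsg.Statements.S0238
import Cfsg.Agent.Lib.Involutions.Basic

set_option autoImplicit false
open Cfsg

namespace Cfsg.Agent.S0238

/-- For every x in a finite group G, the number c of ordered pairs (u, v) of involutions with uv = x is at most |C_G(x)|; c = 0 when x is not conjugate to x⁻¹; and c + 2 ≤ |C_G(x)| when x is an involution. -/
theorem result {G : Type*} [Group G] [Finite G] (x : G) : Nat.card {p : G × G // orderOf p.1 = 2 ∧ orderOf p.2 = 2 ∧ p.1 * p.2 = x} ≤ Nat.card (Subgroup.centralizer ({x} : Set G)) ∧ (¬ IsConj x x⁻¹ → Nat.card {p : G × G // orderOf p.1 = 2 ∧ orderOf p.2 = 2 ∧ p.1 * p.2 = x} = 0) ∧ (orderOf x = 2 → Nat.card {p : G × G // orderOf p.1 = 2 ∧ orderOf p.2 = 2 ∧ p.1 * p.2 = x} + 2 ≤ Nat.card (Subgroup.centralizer ({x} : Set G))) := by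
  open CfsgLib.Involutions in
  classical
  rw [Nat.card_congr (pairEquiv x)]
  refine ⟨?_, fun hnr => ?_, fun hx => ?_⟩
  · by_cases h : IsConj x x⁻¹
    · obtain ⟨g₀, hg⟩ := isConj_iff.1 h
      rw [← card_conjugators x g₀]
      exact Nat.card_le_card_of_injective
        (fun t => (⟨t.1, t.2.2.1.trans hg.symm⟩ : {g : G // g * x * g⁻¹ = g₀ * x * g₀⁻¹}))
        (fun a b hab => Subtype.ext (Subtype.ext_iff.1 hab :))
    · have : IsEmpty {t : G // orderOf t = 2 ∧ t * x * t⁻¹ = x⁻¹ ∧ x ≠ t} :=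
        ⟨fun t => h (isConj_iff.2 ⟨t.1, t.2.2.1⟩)⟩
      rw [Nat.card_of_isEmpty]; exact Nat.zero_le _
  · have : IsEmpty {t : G // orderOf t = 2 ∧ t * x * t⁻¹ = x⁻¹ ∧ x ≠ t} :=
      ⟨fun t => hnr (isConj_iff.2 ⟨t.1, t.2.2.1⟩)⟩
    exact Nat.card_of_isEmpty
  · let C : Set G := (Subgroup.centralizer ({x} : Set G) : Set G)
    let P : Set G := {t : G | orderOf t = 2 ∧ t * x * t⁻¹ = x⁻¹ ∧ x ≠ t}
    have hsub : insert 1 (insert x P) ⊆ C := by
      rintro t (rfl | rfl | ⟨h1, h2, -⟩)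
      · exact Subgroup.one_mem _
      · exact mem_centralizer_singleton.2 (Commute.refl _)
      · rw [invol_inv hx] at h2
        exact mem_centralizer_singleton.2 (Commute.symm (show t * x = x * t by
          calc t * x = t * x * t⁻¹ * t := by group
            _ = x * t := by rw [h2]))
    have h := Set.ncard_le_ncard hsub
    rw [Set.ncard_insert_of_notMem, Set.ncard_insert_of_notMem (by simp [P])] at h
    · exact h
    · rintro (h1 | ⟨h1, -⟩)
      · exact invol_ne_one hx h1.symm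
      · simp at h1

end Cfsg.Agent.S0238
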