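import Cfsg.Statements.S0239
import Cfsg.Agent.Lib.Involutions.Basic

set_option autoImplicit false
open Cfsg

namespace Cfsg.Agent.S0239

/-- If some nontrivial element x of a finite group G is conjugate to x⁻¹, then |G| is even. -/
theorem result {G : Type*} [Group G] [Finite G] (x : G) (hx : x ≠ 1) (hreal : IsConj x x⁻¹) : Even (Nat.card G) := by
  open CfsgLib.Involutions in
  by_contra hno
  rw [Nat.not_even_iff_odd] at hno
  obtain ⟨g, hg⟩ := isConj_iff.1 hreal
  have ho : ∀ a : G, Odd (orderOf a) := fun a => Odd.of_dvd_nat hno (orderOf_dvd_natCard a)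
  obtain ⟨k, hk⟩ := exists_zpow_sq_eq (ho g)
  have hconj : g * x⁻¹ * g⁻¹ = x := by
    rw [show g * x⁻¹ * g⁻¹ = (g * x * g⁻¹)⁻¹ by group, hg, inv_inv]
  have h2 : Commute (g ^ 2) x := by
    show g ^ 2 * x = x * g ^ 2
    calc g ^ 2 * x = g * (g * x * g⁻¹) * g⁻¹ * g ^ 2 := by rw [sq]; group
      _ = x * g ^ 2 := by rw [hg, hconj]
  have h3 : Commute g x := by
    rw [← hk, ← zpow_natCast, ← zpow_mul, mul_comm, zpow_mul, zpow_natCast]
    exact h2.zpow_left k
  rw [h3.eq, mul_inv_cancel_right] at hg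
  exact hx (eq_one_of_eq_inv_of_odd hg (ho x))

end Cfsg.Agent.S0239
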