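import Cfsg.Statements.S0240
import Cfsg.Agent.Lib.Involutions.Basic

set_option autoImplicit false
open Cfsg

namespace Cfsg.Agent.S0240

/-- Let G be a finite group with n involutions and H a subgroup with |H|·(n+1) > |G|. Then some nontrivial h ∈ H is strongly real in G: an involution t of G satisfies t h t⁻¹ = h⁻¹. -/
theorem result {G : Type*} [Group G] [Finite G] (H : Subgroup G) (hH : Nat.card G < Nat.card H * (Nat.card {t : G // orderOf t = 2} + 1)) : ∃ h : G, h ∈ H ∧ h ≠ 1 ∧ ∃ t : G, orderOf t = 2 ∧ t * h * t⁻¹ = h⁻¹ := by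
  open CfsgLib.Involutions in
  classical
  by_contra hno
  push Not at hno
  -- the map `(h, u) ↦ u * h` is injective on `H × ({1} ∪ involutions)`
  have hinj : Function.Injective
      (fun p : H × Option {t : G // orderOf t = 2} => (p.2.elim 1 Subtype.val) * (p.1 : G)) := by
    have key : ∀ (u v : Option {t : G // orderOf t = 2}) (a b : H),
        (u.elim 1 Subtype.val) * (a : G) = (v.elim 1 Subtype.val) * b → a = b := by
      intro u v a b h
      have hmem : ((b : G) * (a : G)⁻¹) ∈ H := H.mul_mem b.2 (H.inv_mem a.2)
      by_contra hab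
      have hne : (b : G) * (a : G)⁻¹ ≠ 1 := fun h1 => hab (Subtype.ext (mul_inv_eq_one.1 h1).symm)
      have heq : (b : G) * (a : G)⁻¹ = (v.elim 1 Subtype.val)⁻¹ * (u.elim 1 Subtype.val) := by
        rw [eq_inv_mul_iff_mul_eq, ← mul_assoc, ← h, mul_inv_cancel_right]
      rcases v with _ | v <;> rcases u with _ | u <;> simp only [Option.elim] at heq
      · exact hne (by simpa using heq)
      · refine hno _ hmem hne u.1 u.2 ?_
        rw [heq, inv_one, one_mul, invol_inv u.2, invol_mul_self u.2, one_mul]
      · refine hno _ hmem hne v.1 v.2 ?_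
        rw [heq, mul_one, invol_inv v.2, invol_inv v.2, invol_mul_self v.2, one_mul]
      · refine hno _ hmem hne v.1 v.2 ?_
        rw [heq, invol_inv v.2, mul_inv_rev, invol_inv v.2, invol_inv u.2, ← mul_assoc,
          invol_mul_self v.2, one_mul]
    rintro ⟨a, u⟩ ⟨b, v⟩ h
    obtain rfl := key u v a b h
    have h' := mul_right_cancel h
    rcases u with _ | u <;> rcases v with _ | v <;> simp only [Option.elim] at h'
    · rfl
    · exact absurd h'.symm (invol_ne_one v.2)
    · exact absurd h' (invol_ne_one u.2)
    · rw [Subtype.ext h']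
  have := Nat.card_le_card_of_injective _ hinj
  rw [Nat.card_prod, Finite.card_option] at this
  omega

end Cfsg.Agent.S0240
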