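import Cfsg.Statements.S0241
import Cfsg.Agent.Lib.Involutions.Basic

set_option autoImplicit false
open Cfsg

namespace Cfsg.Agent.S0241

/-- If x ≠ 1 is conjugate to x⁻¹ in a finite group G and |C_G(x)| is odd, then some involution t satisfies t x t⁻¹ = x⁻¹. -/
theorem result {G : Type*} [Group G] [Finite G] (x : G) (hx : x ≠ 1) (hreal : IsConj x x⁻¹) (hodd : Odd (Nat.card (Subgroup.centralizer ({x} : Set G)))) : ∃ t : G, orderOf t = 2 ∧ t * x * t⁻¹ = x⁻¹ := by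
  open CfsgLib.Involutions in
  obtain ⟨g, hg⟩ := isConj_iff.1 hreal
  have ho : ∀ a : G, a ∈ Subgroup.centralizer ({x} : Set G) → Odd (orderOf a) :=
    fun a ha => Odd.of_dvd_nat hodd (Subgroup.orderOf_dvd_natCard _ ha)
  have hconj : g * x⁻¹ * g⁻¹ = x := by
    rw [show g * x⁻¹ * g⁻¹ = (g * x * g⁻¹)⁻¹ by group, hg, inv_inv]
  have h2 : g ^ 2 ∈ Subgroup.centralizer ({x} : Set G) := by
    rw [mem_centralizer_singleton]
    refine Commute.symm ?_
    show g ^ 2 * x = x * g ^ 2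
    calc g ^ 2 * x = g * (g * x * g⁻¹) * g⁻¹ * g ^ 2 := by rw [sq]; group
      _ = x * g ^ 2 := by rw [hg, hconj]
  obtain ⟨m, hm⟩ := ho _ h2
  have hodd_pow : ∀ j : ℕ, g ^ (2 * j + 1) * x * (g ^ (2 * j + 1))⁻¹ = x⁻¹ := by
    intro j
    have hc : Commute x ((g ^ 2) ^ j) := (mem_centralizer_singleton.1 h2).pow_right j
    rw [pow_succ', pow_mul, mul_inv_rev]
    calc g * (g ^ 2) ^ j * x * (((g ^ 2) ^ j)⁻¹ * g⁻¹)
        = g * (((g ^ 2) ^ j) * x * ((g ^ 2) ^ j)⁻¹) * g⁻¹ := by group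
      _ = x⁻¹ := by rw [← hc.eq, mul_inv_cancel_right, hg]
  refine ⟨g ^ (2 * m + 1), invol_iff.2 ⟨?_, fun h => ?_⟩, hodd_pow m⟩
  · rw [← pow_add, ← two_mul, pow_mul, ← hm, pow_orderOf_eq_one]
  · have := hodd_pow m
    rw [h, one_mul, inv_one, mul_one] at this
    exact hx (eq_one_of_eq_inv_of_odd this (ho x (mem_centralizer_singleton.2 (Commute.refl x))))

end Cfsg.Agent.S0241
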