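import Cfsg.Statements.S0250
import Cfsg.Agent.Lib.Classical.P1


set_option autoImplicit false
open Cfsg

namespace Cfsg.Agent.S0250

/-- SL_2(2) is isomorphic to S_3. -/
theorem result {F : Type*} [Field F] [Fintype F] (hF : Fintype.card F = 2) : Nonempty (Matrix.SpecialLinearGroup (Fin 2) F ≃* Equiv.Perm (Fin 3)) := by
  rw [← Nat.card_eq_fintype_card] at hF
  have h3 : Nat.card (Projectivization F (Fin 2 → F)) = 3 := by
    rw [CfsgLib.Classical.card_proj_line, hF]
  let f := (CfsgLib.Classical.psl2Perm h3).comp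
    (QuotientGroup.mk' (Subgroup.center (Matrix.SpecialLinearGroup (Fin 2) F)))
  have hz : Subgroup.center (Matrix.SpecialLinearGroup (Fin 2) F) = ⊥ := by
    refine Subgroup.eq_bot_of_card_eq _ ?_
    rw [CfsgLib.Classical.card_center_SL_fin 2 (by norm_num), hF]
    rfl
  have hinj : Function.Injective f := by
    refine (CfsgLib.Classical.psl2Perm_injective h3).comp ?_
    rw [← MonoidHom.ker_eq_bot_iff, QuotientGroup.ker_mk', hz]
  exact ⟨MulEquiv.ofBijective f ((Nat.bijective_iff_injective_and_card f).2 ⟨hinj, by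
    rw [CfsgLib.Classical.card_SL_two, hF, Nat.card_perm, Nat.card_fin]; rfl⟩)⟩

end Cfsg.Agent.S0250
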