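import Cfsg.Statements.S0252
import Cfsg.Agent.Lib.Classical.P1


set_option autoImplicit false
open Cfsg

namespace Cfsg.Agent.S0252

/-- PSL_2(4) is isomorphic to A_5. -/
theorem result {F : Type*} [Field F] [Fintype F] (hF : Fintype.card F = 4) : Nonempty (Matrix.ProjectiveSpecialLinearGroup (Fin 2) F ≃* alternatingGroup (Fin 5)) := by
  rw [← Nat.card_eq_fintype_card] at hF
  have h5 : Nat.card (Projectivization F (Fin 2 → F)) = 5 := by
    rw [CfsgLib.Classical.card_proj_line, hF]
  refine CfsgLib.Classical.nonempty_mulEquiv_alternatingGroup (by norm_num) _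
    (CfsgLib.Classical.psl2Perm_injective h5) ?_
  rw [CfsgLib.Classical.card_PSL_two, hF]
  rfl

end Cfsg.Agent.S0252
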