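import Cfsg.Statements.S0257
import Cfsg.Agent.Lib.Classical.SL2Sylow
import Cfsg.Agent.Lib.Classical.P1


set_option autoImplicit false
open Cfsg

namespace Cfsg.Agent.S0257

/-- SL_2(3) has a normal subgroup of index 3 isomorphic to the quaternion group of order 8, and its centre has order 2. -/
theorem result {F : Type*} [Field F] [Fintype F] (hF : Fintype.card F = 3) : (∃ Q : Subgroup (Matrix.SpecialLinearGroup (Fin 2) F), Q.Normal ∧ Q.index = 3 ∧ Nonempty (Q ≃* QuaternionGroup 2)) ∧ Nat.card (Subgroup.center (Matrix.SpecialLinearGroup (Fin 2) F)) = 2 := by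
  rw [← Nat.card_eq_fintype_card] at hF
  have : Fact (Nat.Prime 2) := ⟨Nat.prime_two⟩
  have hodd : Odd (Nat.card F) := by rw [hF]; decide
  have h2 := CfsgLib.Classical.two_ne_zero_of_odd_card hodd
  refine ⟨?_, by rw [CfsgLib.Classical.card_center_SL_fin 2 (by norm_num), hF]; rfl⟩
  have h4 : Nat.card (Projectivization F (Fin 2 → F)) = 4 := by
    rw [CfsgLib.Classical.card_proj_line, hF]
  obtain ⟨e⟩ := CfsgLib.Classical.nonempty_mulEquiv_alternatingGroup (by norm_num) _
    (CfsgLib.Classical.psl2Perm_injective h4) (by rw [CfsgLib.Classical.card_PSL_two, hF]; rfl)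
  let f := e.toMonoidHom.comp
    (QuotientGroup.mk' (Subgroup.center (Matrix.SpecialLinearGroup (Fin 2) F)))
  have hf : Function.Surjective f := e.surjective.comp (QuotientGroup.mk'_surjective _)
  have hn4 : Nat.card (Fin 4) = 4 := Nat.card_fin 4
  have := alternatingGroup.normal_kleinFour hn4
  set Q := (alternatingGroup.kleinFour (Fin 4)).comap f with hQ
  have hidx : Q.index = 3 := by
    rw [hQ, Subgroup.index_comap_of_surjective _ hf]
    have h := Subgroup.card_mul_index (alternatingGroup.kleinFour (Fin 4))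
    rw [alternatingGroup.kleinFour_card_of_card_eq_four hn4, nat_card_alternatingGroup, hn4,
      show Nat.factorial 4 / 2 = 4 * 3 from rfl] at h
    exact Nat.eq_of_mul_eq_mul_left (by norm_num) h
  have hcQ : Nat.card Q = 8 := by
    have h := Subgroup.card_mul_index Q
    rw [hidx, CfsgLib.Classical.card_SL_two, hF] at h
    exact Nat.eq_of_mul_eq_mul_right (show 0 < 3 by norm_num) (h.trans (by norm_num))
  refine ⟨Q, inferInstance, hidx, ?_⟩
  let S : Sylow 2 (Matrix.SpecialLinearGroup (Fin 2) F) := Sylow.ofCard Q (by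
    rw [hcQ, CfsgLib.Classical.factorization_two_card_SL2 (Or.inl (by rw [hF]))]; rfl)
  obtain ⟨k, hk, ⟨eq⟩⟩ := CfsgLib.Classical.sylow_two_SL2 h2 S
  have hc : Nat.card Q = 4 * 2 ^ k := by
    have : NeZero (2 ^ k) := ⟨pow_ne_zero _ two_ne_zero⟩
    rw [show Nat.card Q = Nat.card (S : Subgroup (Matrix.SpecialLinearGroup (Fin 2) F)) from rfl,
      Nat.card_congr eq.toEquiv, Nat.card_eq_fintype_card, QuaternionGroup.card]
  have hk1 : (2 : ℕ) ^ k = 2 := by omega
  rw [hk1] at eq
  exact ⟨eq⟩

end Cfsg.Agent.S0257
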