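import Cfsg.Statements.S0263
import Cfsg.Agent.Lib.Classical.Order


set_option autoImplicit false
open Cfsg

namespace Cfsg.Agent.S0263

/-- A Sylow p-subgroup of GL_n(q), p the characteristic, has order q^(n(n-1)/2). -/
theorem result {F : Type*} [Field F] [Fintype F] {q : ℕ} (hF : Fintype.card F = q) (p : ℕ) [Fact p.Prime] [CharP F p] (n : ℕ) (P : Sylow p (Matrix.GeneralLinearGroup (Fin n) F)) : Nat.card P = q ^ (n * (n - 1) / 2) := by
  subst hF
  obtain ⟨k, hp, hk⟩ := FiniteField.card F p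
  rw [Sylow.card_eq_multiplicity, CfsgLib.Classical.card_GL_fin', Nat.card_eq_fintype_card, hk]
  have hP : ∏ i ∈ Finset.range n, ((p ^ (k : ℕ)) ^ (i + 1) - 1) ≠ 0 :=
    Finset.prod_ne_zero_iff.2 fun i _ => by
      have : 1 < (p ^ (k : ℕ)) ^ (i + 1) :=
        Nat.one_lt_pow (by omega) (Nat.one_lt_pow k.pos.ne' hp.one_lt)
      omega
  have hnd : ¬ p ∣ ∏ i ∈ Finset.range n, ((p ^ (k : ℕ)) ^ (i + 1) - 1) := by
    intro h
    obtain ⟨i, _, hi⟩ := (Nat.prime_iff.1 hp).exists_mem_finset_dvd h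
    have h0 : p ∣ (p ^ (k : ℕ)) ^ (i + 1) := by
      rw [← pow_mul]; exact dvd_pow_self p (Nat.mul_ne_zero k.pos.ne' (by omega))
    have h1 : 1 ≤ (p ^ (k : ℕ)) ^ (i + 1) := Nat.one_le_pow _ _ (pow_pos hp.pos _)
    exact hp.one_lt.ne' (Nat.dvd_one.1 ((Nat.dvd_sub h0 hi).trans (by rw [Nat.sub_sub_self h1])))
  rw [Nat.factorization_mul (pow_ne_zero _ (pow_ne_zero _ hp.ne_zero)) hP, Finsupp.add_apply,
    Nat.factorization_eq_zero_of_not_dvd hnd, add_zero, ← pow_mul, hp.factorization_pow,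
    Finsupp.single_eq_same, pow_mul]

end Cfsg.Agent.S0263
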