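import Cfsg.Statements.S0274
import Cfsg.Agent.Lib.OddOrder.DicksonConj

set_option autoImplicit false
open Cfsg

namespace Cfsg.Agent.S0274

/-- Dickson's Theorem for SL_2: if p is odd and H is a subgroup of SL_2(q), q a power of p, with more than one Sylow p-subgroup, then H contains a copy of SL_2(p). -/
theorem result {F : Type*} [Field F] [Fintype F] (p : ℕ) [Fact p.Prime] [CharP F p] (hp : p ≠ 2) (H : Subgroup (Matrix.SpecialLinearGroup (Fin 2) F)) (hH : 1 < Nat.card (Sylow p H)) : ∃ K : Subgroup (Matrix.SpecialLinearGroup (Fin 2) F), K ≤ H ∧ Nonempty (K ≃* Matrix.SpecialLinearGroup (Fin 2) (ZMod p)) := by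
  have hP : ∀ x ∈ H, (∃ k, x ^ p ^ k = 1) → ∃ w : Fin 2 → F, w ≠ 0 ∧ x.1.mulVec w = w := by
    rintro x - ⟨k, hk⟩
    exact CfsgLib.OddOrder.SL2.exists_fixed_vec (CfsgLib.OddOrder.SL2.det_sub_one_eq_zero_of_pow p
      (k := k) (by rw [← Matrix.SpecialLinearGroup.coe_pow, hk, Matrix.SpecialLinearGroup.coe_one]))
  have hfix : ∀ (v w : Fin 2 → F), v ≠ 0 → w ≠ 0 → v 0 * w 1 - v 1 * w 0 = 0 →
      ∀ x : Matrix.SpecialLinearGroup (Fin 2) F, x.1.mulVec w = w → x.1.mulVec v = v := by
    intro v w hv hw h0 x hx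
    obtain ⟨c, hc⟩ : ∃ c : F, v = c • w := by
      by_cases hw0 : w 0 = 0
      · have hw1 : w 1 ≠ 0 := fun h1 => hw (funext fun i => by fin_cases i <;> assumption)
        have hv0 : v 0 = 0 := (mul_eq_zero.1 (by rw [hw0] at h0; linear_combination h0 :
          v 0 * w 1 = 0)).resolve_right hw1
        exact ⟨v 1 / w 1, funext fun i => by fin_cases i <;> simp [hv0, hw0, hw1]⟩
      · refine ⟨v 0 / w 0, funext fun i => ?_⟩
        fin_cases i
        · simp [hw0]
        · simp only [Fin.mk_one, Pi.smul_apply, smul_eq_mul]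
          field_simp
          linear_combination -h0
    rw [hc, Matrix.mulVec_smul, hx]
  have hpel : ∀ (P : Sylow p H) (x : H), x ∈ (P : Subgroup H) →
      ∃ k, (x : Matrix.SpecialLinearGroup (Fin 2) F) ^ p ^ k = 1 := by
    intro P x hx
    obtain ⟨k, hk⟩ := P.2 ⟨x, hx⟩
    exact ⟨k, by simpa using congrArg (fun y : (P : Subgroup H) => (y.1 : Matrix.SpecialLinearGroup (Fin 2) F)) hk⟩
  obtain ⟨g, h, hgH, hhH, hg1, hh1, v, w, hgv, hhw, hvw⟩ :
      ∃ g h : Matrix.SpecialLinearGroup (Fin 2) F, g ∈ H ∧ h ∈ H ∧ g ≠ 1 ∧ h ≠ 1 ∧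
        ∃ v w : Fin 2 → F, g.1.mulVec v = v ∧ h.1.mulVec w = w ∧
          v 0 * w 1 - v 1 * w 0 ≠ 0 := by
    by_contra hcon
    push Not at hcon
    obtain ⟨P, Q, hPQ⟩ := Finite.one_lt_card_iff_nontrivial.1 hH |>.exists_pair_ne
    have hcomm : ∀ (P Q : Sylow p H) (x y : H), x ∈ (P : Subgroup H) → y ∈ (Q : Subgroup H) →
        x * y = y * x := by
      intro P Q x y hx hy
      rcases eq_or_ne x 1 with rfl | hx1
      · simp
      rcases eq_or_ne y 1 with rfl | hy1
      · simp
      obtain ⟨a, ha, hxa⟩ := hP x.1 x.2 (hpel P x hx)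
      obtain ⟨b, hb, hyb⟩ := hP y.1 y.2 (hpel Q y hy)
      have h0 := hcon x.1 y.1 x.2 y.2 (fun h => hx1 (Subtype.ext h)) (fun h => hy1 (Subtype.ext h))
        a b hxa hyb
      exact Subtype.ext (CfsgLib.OddOrder.SL2.commute_of_common_fix ha hxa (hfix a b ha hb h0 _ hyb))
    have hn : (P : Subgroup H) ≤ Subgroup.normalizer ((Q : Subgroup H) : Set H) := by
      intro x hx
      rw [Subgroup.mem_normalizer_iff]
      intro y
      constructor
      · intro hy
        rwa [hcomm P Q x y hx hy, mul_inv_cancel_right]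
      · intro hy
        have h1 : x⁻¹ * (x * y * x⁻¹) = (x * y * x⁻¹) * x⁻¹ :=
          hcomm P Q _ _ (inv_mem hx) hy
        have : y = x * y * x⁻¹ := by
          have h2 := congrArg (· * x) h1
          simpa [mul_assoc] using h2
        rwa [this]
    have hsup : IsPGroup p ↥((P : Subgroup H) ⊔ (Q : Subgroup H)) :=
      IsPGroup.to_sup_of_normal_right' P.2 Q.2 hn
    exact hPQ (Sylow.ext ((P.3 hsup le_sup_left).symm.trans (Q.3 hsup le_sup_right)))
  let K := AlgebraicClosure F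
  let f : F →+* K := algebraMap F K
  haveI : CharP K p := charP_of_injective_ringHom f.injective p
  let ι := Matrix.SpecialLinearGroup.map (n := Fin 2) f
  have hinj : Function.Injective ι := by
    intro x y hxy
    apply Subtype.ext
    ext i j
    exact f.injective (congrFun (congrFun (congrArg Subtype.val hxy) i) j)
  have : Finite (H.map ι) :=
    Finite.of_surjective _ (ι.subgroupMap_surjective H)
  have hf' : ∀ (x : Matrix.SpecialLinearGroup (Fin 2) F) (u : Fin 2 → F), x.1.mulVec u = u →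
      (ι x).1.mulVec (f ∘ u) = f ∘ u := by
    intro x u hu
    funext i
    show ((x.1.map f).mulVec (f ∘ u)) i = _
    rw [← RingHom.map_mulVec, hu]; rfl
  obtain ⟨φ, hφ, hle⟩ := CfsgLib.OddOrder.SL2.exists_sl2_of_vectors p hp (H.map ι)
    ⟨g, hgH, rfl⟩ ⟨h, hhH, rfl⟩
    (fun h1 => hg1 (hinj (h1.trans (map_one ι).symm)))
    (fun h1 => hh1 (hinj (h1.trans (map_one ι).symm)))
    (hf' g v hgv) (hf' h w hhw) (by
      intro h0
      apply hvw
      apply f.injective
      rw [map_sub, map_mul, map_mul, map_zero]; exact h0)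
  refine ⟨φ.range.comap ι, fun x hx => ?_, ⟨?_⟩⟩
  · obtain ⟨y, hy, hxy⟩ := hle hx
    exact hinj hxy ▸ hy
  · have hmap : (φ.range.comap ι).map ι = φ.range := Subgroup.map_comap_eq_self (by
      intro z hz
      obtain ⟨y, -, rfl⟩ := hle hz
      exact ⟨y, rfl⟩)
    exact ((Subgroup.equivMapOfInjective _ ι hinj).trans (MulEquiv.subgroupCongr hmap)).trans
      (MonoidHom.ofInjective hφ).symm

end Cfsg.Agent.S0274
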