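import Cfsg.Statements.S0275
import Cfsg.Agent.S0274
import Cfsg.Agent.Lib.Classical.SL2Sylow


set_option autoImplicit false
open Cfsg

namespace Cfsg.Agent.S0275

/-- If p is odd and H is a subgroup of SL_2(q), q a power of p, with more than one Sylow p-subgroup, then the Sylow 2-subgroups of H are generalised quaternion. -/
theorem result {F : Type*} [Field F] [Fintype F] (p : ℕ) [Fact p.Prime] [CharP F p] (hp : p ≠ 2) (H : Subgroup (Matrix.SpecialLinearGroup (Fin 2) F)) (hH : 1 < Nat.card (Sylow p H)) (S : Sylow 2 H) : ∃ k : ℕ, 1 ≤ k ∧ Nonempty ((S : Subgroup H) ≃* QuaternionGroup (2 ^ k)) := by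
  obtain ⟨K, hKH, ⟨e⟩⟩ := Cfsg.Agent.S0274.result p hp H hH
  have : Fact (Nat.Prime 2) := ⟨Nat.prime_two⟩
  have h2 : (2 : F) ≠ 0 := Ring.two_ne_zero (by rwa [ringChar.eq F p])
  have h2p : (2 : ZMod p) ≠ 0 := Ring.two_ne_zero (by rwa [ZMod.ringChar_zmod_n])
  refine (CfsgLib.Classical.twoGroup_cyclic_or_quaternion h2 S.isPGroup'
    ((H.subtype).comp (S : Subgroup H).subtype)
    (H.subtype_injective.comp (S : Subgroup H).subtype_injective)).resolve_left fun hc => ?_
  let ψ : Matrix.SpecialLinearGroup (Fin 2) (ZMod p) →* H :=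
    (Subgroup.inclusion hKH).comp e.symm.toMonoidHom
  have hψ : Function.Injective ψ := (Subgroup.inclusion_injective hKH).comp e.symm.injective
  let Q : Sylow 2 (Matrix.SpecialLinearGroup (Fin 2) (ZMod p)) := default
  obtain ⟨R, hR⟩ := (Q.isPGroup'.map ψ).exists_le_sylow
  have hRc : IsCyclic (R : Subgroup H) := (Sylow.equiv S R).isCyclic.1 hc
  refine CfsgLib.Classical.sylow_two_SL2_not_commutative h2p Q ⟨⟨fun x y => ?_⟩⟩
  refine Subtype.ext (hψ ?_)
  have h1 : ψ x.1 ∈ (R : Subgroup H) := hR ⟨x.1, x.2, rfl⟩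
  have h2' : ψ y.1 ∈ (R : Subgroup H) := hR ⟨y.1, y.2, rfl⟩
  have h3 := congrArg Subtype.val (hRc.isMulCommutative.is_comm.comm ⟨_, h1⟩ ⟨_, h2'⟩)
  simpa using h3

end Cfsg.Agent.S0275
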