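import Cfsg.Statements.S0282
import Cfsg.Agent.Lib.Classical.PSU32


set_option autoImplicit false
open Cfsg

namespace Cfsg.Agent.S0282

/-- PSU_3(2) is a solvable group of order 72. -/
theorem result {F : Type*} [Field F] [Fintype F] (hF : Fintype.card F = 4) : Nat.card (Cfsg.PSU 3 F 2) = 72 ∧ Group.IsSolvable (Cfsg.PSU 3 F 2) := by
  obtain ⟨hc, N, hN, hN9, hN3, ⟨e⟩⟩ := CfsgLib.Classical.Unitary.psu32_structure (q := 2)
    (show Nat.card F = 2 ^ 2 by rw [Nat.card_eq_fintype_card, hF]; norm_num) rfl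
  refine ⟨hc, ?_⟩
  have : Fact (Nat.Prime 3) := ⟨Nat.prime_three⟩
  have : Fact (Nat.Prime 2) := ⟨Nat.prime_two⟩
  have hp : IsPGroup 3 N := IsPGroup.of_card (n := 2) (by rw [hN9]; norm_num)
  have hq : IsPGroup 2 (Cfsg.PSU 3 F 2 ⧸ N) := IsPGroup.of_card (n := 3) (by
    rw [Nat.card_congr e.toEquiv, Nat.card_eq_fintype_card, QuaternionGroup.card]; norm_num)
  have := hp.isNilpotent
  have := hq.isNilpotent
  exact (Group.isSolvable_iff_subgroup_quotient N).2 ⟨inferInstance, inferInstance⟩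

end Cfsg.Agent.S0282
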