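import Cfsg.Statements.S0285
import Cfsg.Agent.Lib.Classical.UnitaryOrder


set_option autoImplicit false
open Cfsg

namespace Cfsg.Agent.S0285

/-- The standard Hermitian form on F^n, |F| = q^2, has exactly (q^n - (-1)^n)(q^(n-1) + (-1)^n) non-zero isotropic vectors; counting the zero vector too: -/
theorem result {F : Type*} [Field F] [Fintype F] {q : ℕ} (hF : Fintype.card F = q ^ 2) (n : ℕ) : Nat.card {v : Fin n → F // Cfsg.hermForm n F q v v = 0} = (if Even n then (q ^ n - 1) * (q ^ (n - 1) + 1) else (q ^ n + 1) * (q ^ (n - 1) - 1)) + 1 := by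
  have hF' : Nat.card F = q ^ 2 := by rw [Nat.card_eq_fintype_card, hF]
  rw [Nat.card_congr (Equiv.subtypeEquivRight fun v => by rw [CfsgLib.Classical.hermForm_self])]
  show CfsgLib.Classical.normCount F q n 0 = _
  have h := (CfsgLib.Classical.normCount_closed hF' n).1
  cases n with
  | zero =>
    classical
    simp [CfsgLib.Classical.normCount_zero_dim]
  | succ k =>
    have hq := CfsgLib.Classical.two_le_q hF'
    have hq0 : (q : ℤ) ≠ 0 := by omega
    have h1 : ∀ j, 1 ≤ q ^ j := fun j => Nat.one_le_pow _ _ (by omega)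
    rw [← @Nat.cast_inj ℤ]
    refine mul_left_cancel₀ hq0 (h.trans ?_)
    rw [Nat.add_sub_cancel]
    simp only [Nat.even_add_one]
    split_ifs with he
    · rw [pow_succ (-1 : ℤ) k, he.neg_one_pow]
      push_cast [Nat.cast_sub (h1 k)]
      ring
    · rw [pow_succ (-1 : ℤ) k, (Nat.not_even_iff_odd.1 he).neg_one_pow]
      push_cast [Nat.cast_sub (h1 (k + 1))]
      ring

end Cfsg.Agent.S0285
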