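import Cfsg.Statements.S0315
import Cfsg.Agent.Lib.Chev.BNBasic

set_option autoImplicit false
open Cfsg

namespace Cfsg.Agent.S0315

/-- Standard parabolic subgroups intersect as the index sets do: `P_J ⊓ P_K = P_{J ∩ K}`. -/
theorem result {G : Type*} [Group G] (P : Cfsg.BNPair G) {J K : Set G}
    (hJ : J ⊆ P.S) (hK : K ⊆ P.S) : P.parabolic J ⊓ P.parabolic K = P.parabolic (J ∩ K) := by
  have hB : P.B ≤ P.parabolic J ⊓ P.parabolic K := le_inf le_sup_left le_sup_left
  rw [CfsgLib.Chev.BN.eq_parabolic_of_le hB]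
  congr 1
  ext s
  constructor
  · rintro ⟨hs, h1, h2⟩
    exact ⟨CfsgLib.Chev.BN.mem_J_of_mem_parabolic hJ hs h1,
      CfsgLib.Chev.BN.mem_J_of_mem_parabolic hK hs h2⟩
  · rintro ⟨h1, h2⟩
    exact ⟨hJ h1, (le_sup_right : Subgroup.closure J ≤ P.parabolic J) (Subgroup.subset_closure h1),
      (le_sup_right : Subgroup.closure K ≤ P.parabolic K) (Subgroup.subset_closure h2)⟩

end Cfsg.Agent.S0315
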