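import Cfsg.Statements.S0316
import Cfsg.Agent.Lib.Chev.BNBasic

set_option autoImplicit false
open Cfsg

namespace Cfsg.Agent.S0316

/-- The map `J ↦ P_J` is a lattice isomorphism from the power set of the set of distinguished generators onto the
subgroups containing `B`. -/
theorem result {G : Type*} [Group G] (P : Cfsg.BNPair G) :
    ∃ e : Set P.S ≃o {M : Subgroup G // P.B ≤ M},
      ∀ J : Set P.S, ((e J : {M : Subgroup G // P.B ≤ M}) : Subgroup G) = P.parabolic (Subtype.val '' J) := by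
  have hsub : ∀ J : Set P.S, Subtype.val '' J ⊆ P.S := fun J => by
    rintro _ ⟨x, _, rfl⟩; exact x.2
  refine ⟨{
    toFun := fun J => ⟨P.parabolic (Subtype.val '' J), le_sup_left⟩
    invFun := fun M => Subtype.val ⁻¹' CfsgLib.Chev.BN.gens P M.1
    left_inv := fun J => ?_
    right_inv := fun M => ?_
    map_rel_iff' := @fun J K => ?_ }, fun J => rfl⟩
  · show Subtype.val ⁻¹' CfsgLib.Chev.BN.gens P (P.parabolic (Subtype.val '' J)) = J
    rw [CfsgLib.Chev.BN.gens_parabolic (hsub J), Set.preimage_image_eq _ Subtype.val_injective]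
  · apply Subtype.ext
    show P.parabolic (Subtype.val '' (Subtype.val ⁻¹' CfsgLib.Chev.BN.gens P M.1)) = M.1
    rw [Set.image_preimage_eq_of_subset (fun x hx => ⟨⟨x, hx.1⟩, rfl⟩)]
    exact (CfsgLib.Chev.BN.eq_parabolic_of_le M.2).symm
  · show P.parabolic (Subtype.val '' J) ≤ P.parabolic (Subtype.val '' K) ↔ J ⊆ K
    refine ⟨fun h x hx => ?_, fun h => CfsgLib.Chev.BN.parabolic_mono (Set.image_mono h)⟩
    have h1 : (x : G) ∈ Subtype.val '' K := CfsgLib.Chev.BN.mem_J_of_mem_parabolic (hsub K) x.2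
      (h ((le_sup_right : Subgroup.closure _ ≤ P.parabolic (Subtype.val '' J))
        (Subgroup.subset_closure ⟨x, hx, rfl⟩)))
    obtain ⟨y, hy, e⟩ := h1
    rwa [← Subtype.ext e]

end Cfsg.Agent.S0316
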