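import Cfsg.Statements.S0321
import Cfsg.Agent.Lib.Chev.BNSimple

set_option autoImplicit false
open Cfsg

namespace Cfsg.Agent.S0321

/-- For `n ∈ N` not in `B`, the union `B ∪ B n B` is (the underlying set of) a subgroup exactly when `n` agrees
modulo `B ⊓ N` with one of the distinguished representatives; thus the distinguished involutions are
determined by `B` and `N`. -/
theorem result {G : Type*} [Group G] (P : Cfsg.BNPair G) {n : G}
    (hn : n ∈ P.N) (hnB : n ∉ P.B) :
    (∃ H : Subgroup G, (H : Set G) = (P.B : Set G) ∪ DoubleCoset.doubleCoset n (P.B : Set G) P.B) ↔ ∃ s ∈ P.S, s⁻¹ * n ∈ P.B := by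
  constructor
  · rintro ⟨H, hH⟩
    have hBH : P.B ≤ H := fun b hb => by
      have : b ∈ (H : Set G) := hH.symm ▸ Or.inl hb
      exact this
    have hnH : n ∈ H := by
      have : n ∈ (H : Set G) := hH.symm ▸ Or.inr (CfsgLib.Chev.BN.self_mem_cell n)
      exact this
    obtain ⟨l, hr, e⟩ := CfsgLib.Chev.BN.exists_reduced hn
    have hl := CfsgLib.Chev.BN.letters_mem hBH hr e
      fun c hc => mul_mem (mul_mem hnH (hBH hc)) (inv_mem hnH)
    match l with
    | [] => exact absurd (by simpa [CfsgLib.Chev.BN.Eqv] using e) hnB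
    | s :: l' =>
      have hs : s ∈ P.S := hr.1 s (by simp)
      refine ⟨s, hs, ?_⟩
      have h1 : s ∈ (H : Set G) := hl s (by simp)
      rw [hH] at h1
      rcases h1 with h1 | h1
      · exact absurd h1 (CfsgLib.Chev.BN.not_mem_B hs)
      · exact CfsgLib.Chev.BN.eqv_of_mem_cells (P.subset hs) hn
          (CfsgLib.Chev.BN.self_mem_cell s) h1
  · rintro ⟨s, hs, e⟩
    refine ⟨P.parabolic {s}, ?_⟩
    rw [CfsgLib.Chev.BN.parabolic_singleton hs, CfsgLib.Chev.BN.cell_eq_of_eqv (show CfsgLib.Chev.BN.Eqv P s n from e)]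
    rfl

end Cfsg.Agent.S0321
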