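import Cfsg.Statements.S0322
import Cfsg.Agent.Lib.Chev.BNSimple

set_option autoImplicit false
open Cfsg

namespace Cfsg.Agent.S0322

/-- A group with a (B,N)-pair of rank one acts doubly transitively on the left cosets of `B`. -/
theorem result {G : Type*} [Group G] (P : Cfsg.BNPair G) (h : P.rank = 1) : MulAction.IsMultiplyPretransitive G (G ⧸ P.B) 2 := by
  obtain ⟨s, hS⟩ : ∃ s, P.S = {s} := by
    have := (Nat.card_eq_one_iff_exists (α := P.S)).1 h
    obtain ⟨⟨s, hs⟩, hu⟩ := this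
    exact ⟨s, Set.ext fun x => ⟨fun hx => congrArg Subtype.val (hu ⟨x, hx⟩), fun hx => hx ▸ hs⟩⟩
  have hs : s ∈ P.S := hS ▸ rfl
  have hG : ∀ g : G, g ∈ P.B ∨ g ∈ CfsgLib.Chev.BN.cell P s := fun g => by
    have : g ∈ (P.parabolic {s} : Set G) := by
      rw [← hS, CfsgLib.Chev.BN.parabolic_S]; trivial
    rwa [CfsgLib.Chev.BN.parabolic_singleton hs] at this
  have key : ∀ a b : G ⧸ P.B, a ≠ b → ∃ g : G, g • (QuotientGroup.mk 1 : G ⧸ P.B) = a ∧
      g • (QuotientGroup.mk s : G ⧸ P.B) = b := by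
    intro a b hab
    obtain ⟨x, rfl⟩ := QuotientGroup.mk_surjective a
    obtain ⟨y, rfl⟩ := QuotientGroup.mk_surjective b
    rcases hG (x⁻¹ * y) with h | h
    · exact absurd (QuotientGroup.eq.2 h) hab
    obtain ⟨c, hc, c', hc', e⟩ := CfsgLib.Chev.BN.mem_cell.1 h
    refine ⟨x * c, ?_, ?_⟩
    · rw [MulAction.Quotient.smul_mk, QuotientGroup.eq]
      simpa using inv_mem hc
    · rw [MulAction.Quotient.smul_mk, QuotientGroup.eq]
      have : (x * c * s)⁻¹ * y = c' := by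
        calc (x * c * s)⁻¹ * y = s⁻¹ * c⁻¹ * (x⁻¹ * y) := by group
        _ = c' := by rw [e]; group
      rw [smul_eq_mul, this]
      exact hc'
  rw [MulAction.is_two_pretransitive_iff]
  intro a b c d hab hcd
  obtain ⟨g₁, e1, e2⟩ := key a b hab
  obtain ⟨g₂, e3, e4⟩ := key c d hcd
  exact ⟨g₂ * g₁⁻¹, by rw [← e1, ← e3, mul_smul, inv_smul_smul],
    by rw [← e2, ← e4, mul_smul, inv_smul_smul]⟩

end Cfsg.Agent.S0322
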