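import Cfsg.Statements.S0323
import Cfsg.Agent.Lib.Chev.BNSimple

set_option autoImplicit false
open scoped Pointwise
open Cfsg

namespace Cfsg.Agent.S0323

/-- A doubly transitive action on a set with at least three points yields a (B,N)-pair of rank one:
`B` is the stabiliser of a point `x`, `N` the setwise stabiliser of a pair `{x, y}`. -/
theorem result {G Ω : Type*} [Group G] [MulAction G Ω]
    (h2 : MulAction.IsMultiplyPretransitive G Ω 2) {x y z : Ω} (hxy : x ≠ y) (hyz : y ≠ z) (hxz : x ≠ z) :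
    ∃ P : Cfsg.BNPair G, P.B = MulAction.stabilizer G x ∧
      P.N = MulAction.stabilizer G ({x, y} : Set Ω) ∧ P.rank = 1 := by
  rw [MulAction.is_two_pretransitive_iff] at h2
  obtain ⟨n, hnx, hny⟩ := h2 hxy hxy.symm
  obtain ⟨b₀, hb₀x, hb₀y⟩ := h2 hxy hxz
  have hnN : n ∈ MulAction.stabilizer G ({x, y} : Set Ω) := by
    rw [MulAction.mem_stabilizer_iff, ← Set.image_smul, Set.image_pair, hnx, hny, Set.pair_comm]
  have hN : ∀ g ∈ MulAction.stabilizer G ({x, y} : Set Ω),
      (g • x = x ∧ g • y = y) ∨ (g • x = y ∧ g • y = x) := by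
    intro g hg
    rw [MulAction.mem_stabilizer_iff, ← Set.image_smul, Set.image_pair, Set.pair_eq_pair_iff] at hg
    exact hg
  have hBB : ∀ g : G, g • x ≠ x → ∃ b ∈ MulAction.stabilizer G x,
      ∃ b' ∈ MulAction.stabilizer G x, g = b * n * b' := by
    intro g hg
    obtain ⟨b, hbx, hby⟩ := h2 hxy (Ne.symm hg)
    refine ⟨b, hbx, (b * n)⁻¹ * g, ?_, by group⟩
    rw [MulAction.mem_stabilizer_iff, mul_smul, inv_smul_eq_iff, mul_smul, hnx, hby]
  refine ⟨{
    B := MulAction.stabilizer G x
    N := MulAction.stabilizer G ({x, y} : Set Ω)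
    S := {n}
    sup_eq_top := ?_
    conj_mem := ?_
    subset := by simpa using hnN
    sq_mem := ?_
    inj := by simp
    closure_sup := ?_
    mul_mem_union := ?_
    conj_ne := ?_ }, rfl, rfl, ?_⟩
  · rw [eq_top_iff]
    intro g _
    by_cases hg : g • x = x
    · exact Subgroup.mem_sup_left hg
    · obtain ⟨b, hb, b', hb', rfl⟩ := hBB g hg
      exact mul_mem (mul_mem (Subgroup.mem_sup_left hb) (Subgroup.mem_sup_right hnN))
        (Subgroup.mem_sup_left hb')
  · intro g hg t ht
    have htx : t • x = x := ht.1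
    have hty : t • y = y := by
      rcases hN t ht.2 with h | h
      · exact h.2
      · exact absurd (htx.symm.trans h.1) hxy
    rw [MulAction.mem_stabilizer_iff, mul_smul, mul_smul]
    rcases hN g hg with ⟨h, _⟩ | ⟨_, h⟩
    · have : g⁻¹ • x = x := inv_smul_eq_iff.2 h.symm
      rw [this, htx, h]
    · have : g⁻¹ • x = y := inv_smul_eq_iff.2 h.symm
      rw [this, hty, h]
  · intro s hs
    rw [Set.mem_singleton_iff] at hs
    subst hs
    rw [MulAction.mem_stabilizer_iff, mul_smul, hnx, hny]
  · refine le_antisymm (sup_le ((Subgroup.closure_le _).2 (by simpa using hnN)) inf_le_right) ?_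
    intro g hg
    rcases hN g hg with ⟨h, _⟩ | ⟨h, h'⟩
    · exact Subgroup.mem_sup_right ⟨h, hg⟩
    · have e : g = n * (n⁻¹ * g) := by group
      rw [e]
      refine mul_mem (Subgroup.mem_sup_left (Subgroup.subset_closure rfl))
        (Subgroup.mem_sup_right ⟨?_, (MulAction.stabilizer G ({x, y} : Set Ω)).mul_mem
          ((MulAction.stabilizer G ({x, y} : Set Ω)).inv_mem hnN) hg⟩)
      show (n⁻¹ * g) • x = x
      rw [mul_smul, h, inv_smul_eq_iff, hnx]
  · intro s hs g hg b hb
    rw [Set.mem_singleton_iff] at hs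
    subst hs
    rcases hN g hg with ⟨h, _⟩ | ⟨h, h'⟩
    · left
      have hb' : b • x = x := hb
      refine DoubleCoset.mem_doubleCoset.2 ⟨1, one_mem _, (s * g)⁻¹ * (s * b * g), ?_, by group⟩
      rw [SetLike.mem_coe, MulAction.mem_stabilizer_iff, mul_smul, inv_smul_eq_iff, mul_smul, mul_smul,
        mul_smul, h, hb']
    · by_cases hx' : (s * b * g) • x = x
      · left
        have hsg : s * g ∈ MulAction.stabilizer G x := by
          rw [MulAction.mem_stabilizer_iff, mul_smul, h, hny]
        exact DoubleCoset.mem_doubleCoset.2 ⟨(s * b * g) * (s * g)⁻¹,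
          (MulAction.stabilizer G x).mul_mem hx' (inv_mem hsg), 1, one_mem _, by group⟩
      · right
        obtain ⟨c, hc, c', hc', e⟩ := hBB _ hx'
        have hgs : g⁻¹ * s ∈ MulAction.stabilizer G x := by
          rw [MulAction.mem_stabilizer_iff, mul_smul, hnx, inv_smul_eq_iff, h]
        exact DoubleCoset.mem_doubleCoset.2 ⟨c, hc, (g⁻¹ * s) * c', mul_mem hgs hc', by rw [e]; group⟩
  · intro s hs h
    rw [Set.mem_singleton_iff] at hs
    subst hs
    have hbmem : s * b₀ * s ∈ (fun b : G => s * b * s) '' (MulAction.stabilizer G x : Set G) :=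
      ⟨b₀, hb₀x, rfl⟩
    rw [h, SetLike.mem_coe, MulAction.mem_stabilizer_iff, mul_smul, mul_smul, hnx, hb₀y] at hbmem
    have h5 : s • z = s • y := hbmem.trans hny.symm
    exact hyz (smul_left_cancel s h5).symm
  · simp [Cfsg.BNPair.rank]

end Cfsg.Agent.S0323
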