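import Cfsg.Statements.S0332
import Cfsg.Agent.Lib.KnownA.Suzuki.RowsTorus

set_option autoImplicit false
open Cfsg

namespace Cfsg.Agent.S0332

/-- The Suzuki group is a CN-group: every non-identity element has nilpotent centraliser. -/
theorem result {F : Type*} [Field F] [Fintype F] {m : ℕ} (hm : 1 ≤ m)
    (hF : Fintype.card F = 2 ^ (2 * m + 1)) : Cfsg.IsCNGroup (Cfsg.Sz F m) := by
  have H := CfsgLib.KnownA.Suzuki.titsField_of_card hF
  let f := CfsgLib.KnownA.Suzuki.iso hm hF
  intro g hg
  obtain ⟨g, rfl⟩ := f.surjective g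
  rw [← CfsgLib.KnownA.Suzuki.map_centralizer f g]
  haveI := CfsgLib.KnownA.Suzuki.isNilpotent_centralizer H hF (g := g)
    (fun h => hg (by rw [h, map_one]))
  exact Group.nilpotent_of_mulEquiv (f.subgroupMap _)

end Cfsg.Agent.S0332
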