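import Cfsg.Statements.S0338
import Cfsg.Agent.Lib.Perm.ZassG.Normal

set_option autoImplicit false
open Cfsg

namespace Cfsg.Agent.S0338

/-- A Zassenhaus group of odd degree is a simple group. -/
theorem result {G Ω : Type*} [Group G] [MulAction G Ω] [Fintype Ω]
    (hZ : Cfsg.IsZassenhausGroup G Ω) (hodd : Odd (Fintype.card Ω)) : IsSimpleGroup G := by
  classical
  have := hZ.1
  have : Finite G := Finite.of_injective (fun g : G => (g • · : Ω → Ω))
    (fun _ _ h => eq_of_smul_eq_smul (congrFun h))
  obtain ⟨g, -, a, b, hab, -, -⟩ := hZ.2.2.2.1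
  exact CfsgLib.Perm.ZassG.odd_degree_simple hZ hab (by rwa [Nat.card_eq_fintype_card])

end Cfsg.Agent.S0338
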