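import Cfsg.Statements.S0380
import Cfsg.Agent.Lib.Spor.PlaneStab
import Cfsg.Agent.Lib.Classical.PermModels
-- import your own Cfsg.Agent.* helpers here

set_option autoImplicit false
open Cfsg

namespace Cfsg.Agent.S0380

/-- A three-point stabiliser in the group of the length-24 code is isomorphic to PSL(3, F) for the field F with 4 elements. -/
theorem result (p q r : Cfsg.GolayPt) (hpq : p ≠ q) (hpr : p ≠ r) (hqr : q ≠ r) (F : Type) [Field F] [Fintype F] (hF : Fintype.card F = 4) : Nonempty (↥(MulAction.stabilizer Cfsg.M24 p ⊓ MulAction.stabilizer Cfsg.M24 q ⊓ MulAction.stabilizer Cfsg.M24 r) ≃* Matrix.ProjectiveSpecialLinearGroup (Fin 3) F) := by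
  classical
  obtain ⟨g, hg, h⟩ := CfsgLib.Spor.exists_list_map_M24
    (l := [CfsgLib.Spor.pt 0, CfsgLib.Spor.pt 1, CfsgLib.Spor.pt 2]) (l' := [p, q, r])
    (by decide +kernel) (by simp [hpq, hpr, hqr]) rfl (by simp)
  simp only [List.map_cons, List.map_nil, List.cons.injEq, and_true] at h
  obtain ⟨h0, h1, h2⟩ := h
  obtain ⟨e⟩ := CfsgLib.Spor.plane_iso
  obtain ⟨e'⟩ := CfsgLib.Classical.nonempty_PSL_congr (ι := Fin 3)
    (FiniteField.ringEquivOfCardEq (K := CfsgLib.Spor.QField) (K' := F)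
      (CfsgLib.Spor.QField.card_eq.trans hF.symm))
  have hK : (CfsgLib.Spor.threeStab).map (MulAut.conj (⟨g, hg⟩ : ↥Cfsg.M24)).toMonoidHom =
      MulAction.stabilizer Cfsg.M24 p ⊓ MulAction.stabilizer Cfsg.M24 q ⊓
        MulAction.stabilizer Cfsg.M24 r := by
    obtain rfl : (⟨g, hg⟩ : ↥Cfsg.M24) • CfsgLib.Spor.pt 0 = p := h0
    obtain rfl : (⟨g, hg⟩ : ↥Cfsg.M24) • CfsgLib.Spor.pt 1 = q := h1
    obtain rfl : (⟨g, hg⟩ : ↥Cfsg.M24) • CfsgLib.Spor.pt 2 = r := h2
    simp only [CfsgLib.Spor.threeStab, MulAction.stabilizer_smul_eq_stabilizer_map_conj]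
    rw [Subgroup.map_inf _ _ _ (fun a b h => MulEquiv.injective _ h),
      Subgroup.map_inf _ _ _ (fun a b h => MulEquiv.injective _ h)]
  exact ⟨((((CfsgLib.Spor.threeStab).equivMapOfInjective _
    (MulAut.conj (⟨g, hg⟩ : ↥Cfsg.M24)).injective).trans
    (MulEquiv.subgroupCongr hK)).symm.trans e).trans e'⟩

end Cfsg.Agent.S0380
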