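import Cfsg.Statements.S1624
import Cfsg.Agent.Lib.Spor.J2.U33

set_option autoImplicit false
open Quaternion
open Cfsg

namespace Cfsg.Agent.S1624

/-- The Hall–Janko group contains PSU(3, 3) with index 100 and acts on the 100 cosets with rank 3 and subdegrees 1, 36, 63. -/
theorem result : ∃ H : Subgroup Cfsg.Spor.J2, H.index = 100 ∧ (∃ (F : Type) (_ : Field F) (_ : Fintype F), Fintype.card F = 9 ∧ Nonempty (↥H ≃* Cfsg.PSU 3 F 3)) ∧ ∃ c₁ c₂ : Cfsg.Spor.J2 ⧸ H, (MulAction.orbit ↥H c₁).ncard = 36 ∧ (MulAction.orbit ↥H c₂).ncard = 63 := by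
  obtain ⟨H, hH⟩ : ∃ H : Subgroup Cfsg.Spor.J2, H = CfsgLib.J2.uSub.map CfsgLib.J2.j2Equiv.symm.toMonoidHom := ⟨_, rfl⟩
  obtain ⟨F, hF, hFi, hK, ⟨e⟩, -⟩ := CfsgLib.J2.uSub_iso
  let es : CfsgLib.J2.uSub ≃* H :=
    (CfsgLib.J2.j2Equiv.symm.subgroupMap _).trans (MulEquiv.subgroupCongr hH.symm)
  refine ⟨H, ?_, ⟨F, hF, hFi, hK, ⟨es.symm.trans e⟩⟩, ?_⟩
  · rw [hH, Subgroup.index_map_of_bijective (CfsgLib.J2.j2Equiv.symm.bijective), CfsgLib.J2.index_uSub]
  · let Φ : CfsgLib.J2.imgGen ⧸ CfsgLib.J2.uSub → Cfsg.Spor.J2 ⧸ H :=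
      Quotient.map' CfsgLib.J2.j2Equiv.symm fun a b h => by
        rw [QuotientGroup.leftRel_apply] at h ⊢
        rw [hH]
        exact ⟨a⁻¹ * b, h, by simp⟩
    have hΦ : Function.Injective Φ := by
      intro a b
      induction a using QuotientGroup.induction_on with | _ a => ?_
      induction b using QuotientGroup.induction_on with | _ b => ?_
      intro h
      refine QuotientGroup.eq.2 ?_
      have h' := QuotientGroup.eq.1 (show (QuotientGroup.mk (CfsgLib.J2.j2Equiv.symm a) : Cfsg.Spor.J2 ⧸ H) =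
        QuotientGroup.mk (CfsgLib.J2.j2Equiv.symm b) from h)
      rw [hH] at h'
      obtain ⟨y, hy, hye⟩ := h'
      have : y = a⁻¹ * b := CfsgLib.J2.j2Equiv.symm.injective (by simpa using hye)
      exact this ▸ hy
    have horb : ∀ c, MulAction.orbit ↥H (Φ c) = Φ '' MulAction.orbit ↥CfsgLib.J2.uSub c := by
      intro c
      induction c using QuotientGroup.induction_on with | _ c => ?_
      ext y
      constructor
      · rintro ⟨h, rfl⟩
        refine ⟨es.symm h • (QuotientGroup.mk c), ⟨_, rfl⟩, ?_⟩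
        show (QuotientGroup.mk (CfsgLib.J2.j2Equiv.symm ((es.symm h).1 * c)) : Cfsg.Spor.J2 ⧸ H) =
          QuotientGroup.mk (h.1 * CfsgLib.J2.j2Equiv.symm c)
        rw [map_mul]
        congr 2
        exact congrArg Subtype.val (es.apply_symm_apply h)
      · rintro ⟨_, ⟨h, rfl⟩, rfl⟩
        refine ⟨es h, ?_⟩
        show (QuotientGroup.mk ((es h).1 * CfsgLib.J2.j2Equiv.symm c) : Cfsg.Spor.J2 ⧸ H) =
          QuotientGroup.mk (CfsgLib.J2.j2Equiv.symm (h.1 * c))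
        rw [map_mul]
        rfl
    obtain ⟨c₁, h₁⟩ := CfsgLib.J2.orbit_ncard CfsgLib.J2.uOrb36_ok.2 (by norm_num) CfsgLib.J2.uOrb36_ok.1
    obtain ⟨c₂, h₂⟩ := CfsgLib.J2.orbit_ncard CfsgLib.J2.uOrb63_ok.2 (by norm_num) CfsgLib.J2.uOrb63_ok.1
    exact ⟨Φ c₁, Φ c₂, by rw [horb, Set.ncard_image_of_injective _ hΦ, h₁],
      by rw [horb, Set.ncard_image_of_injective _ hΦ, h₂]⟩

end Cfsg.Agent.S1624
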