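import Cfsg.Statements.S0423
import Cfsg.Agent.S1619
import Cfsg.Agent.S1620
import Cfsg.Agent.S1624

set_option autoImplicit false
open Cfsg

namespace Cfsg.Agent.S0423

/-- Existence of a simple group of order 604800. -/
theorem result : ∃ G : Subgroup (Equiv.Perm (Fin 100)), Cfsg.IsJ2 G := by
  obtain ⟨H, hidx, -⟩ := Cfsg.Agent.S1624.result
  have hcard : Nat.card Cfsg.Spor.J2 = 604800 := Cfsg.Agent.S1619.result.2.2.2
  haveI hs : IsSimpleGroup Cfsg.Spor.J2 := Cfsg.Agent.S1620.result.1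
  haveI : Finite Cfsg.Spor.J2 := Nat.finite_of_card_ne_zero (by rw [hcard]; norm_num)
  have hne : H ≠ ⊤ := fun h => by rw [h, Subgroup.index_top] at hidx; norm_num at hidx
  have hcore : H.normalCore = ⊥ := (hs.eq_bot_or_eq_top_of_normal _ H.normalCore_normal).resolve_right
    fun h => hne (top_le_iff.mp (h ▸ H.normalCore_le))
  obtain ⟨e⟩ : Nonempty (Cfsg.Spor.J2 ⧸ H ≃ Fin 100) := ⟨Finite.equivFinOfCardEq hidx⟩
  set f : Cfsg.Spor.J2 →* Equiv.Perm (Fin 100) :=
    e.permCongrHom.toMonoidHom.comp (MulAction.toPermHom Cfsg.Spor.J2 (Cfsg.Spor.J2 ⧸ H)) with hf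
  have hinj : Function.Injective f := by
    rw [hf, MonoidHom.coe_comp]
    refine e.permCongrHom.injective.comp ?_
    rw [← MonoidHom.ker_eq_bot_iff, ← Subgroup.normalCore_eq_ker, hcore]
  refine ⟨f.range, ?_, ?_⟩
  · haveI : Nontrivial ↥f.range := (MonoidHom.ofInjective hinj).toEquiv.nontrivial_congr.mp inferInstance
    exact IsSimpleGroup.isSimpleGroup_of_surjective f.rangeRestrict f.rangeRestrict_surjective
  · rw [← Nat.card_congr (MonoidHom.ofInjective hinj).toEquiv, hcard]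

end Cfsg.Agent.S0423
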