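import Cfsg.Statements.S0441
import Cfsg.Agent.Lib.ThreeTransp.FischerRankThree

set_option autoImplicit false
open Cfsg

open CfsgLib.ThreeTransp

namespace Cfsg.Agent.S0441

/-- Fischer's rank-three property. Let a finite group be generated by a conjugacy class D of 3-transpositions, with non-abelian simple commutator subgroup. Then for a in D there are members of D other than a commuting with a and members not commuting with a, and the centraliser of a acts transitively on each of these two sets. -/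
theorem result {G : Type*} [Group G] [Finite G] {D : Set G} (hD : Cfsg.IsThreeTranspositionClass D) (hsimple : IsSimpleGroup (commutator G)) (hnonab : ∃ x y : commutator G, x * y ≠ y * x) {a : G} (ha : a ∈ D) : (∃ b ∈ D, b ≠ a ∧ Commute a b) ∧ (∃ c ∈ D, ¬ Commute a c) ∧ (∀ b ∈ D, ∀ b' ∈ D, b ≠ a → b' ≠ a → Commute a b → Commute a b' → ∃ g : G, Commute g a ∧ g * b * g⁻¹ = b') ∧ (∀ c ∈ D, ∀ c' ∈ D, ¬ Commute a c → ¬ Commute a c' → ∃ g : G, Commute g a ∧ g * c * g⁻¹ = c') := by
  obtain ⟨x, y, hxy⟩ := hnonab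
  have htwo : ∃ u ∈ D, ∃ v ∈ D, u ≠ v := by
    by_contra hn
    push Not at hn
    have hall : ∀ g h : G, g * h = h * g := by
      have hle : Subgroup.closure D ≤ Subgroup.zpowers a :=
        (Subgroup.closure_le _).2 fun e he => by rw [hn e he a ha]; exact Subgroup.mem_zpowers a
      intro g h
      obtain ⟨i, rfl⟩ := Subgroup.mem_zpowers_iff.1 (hle (hD.2.2 ▸ Subgroup.mem_top g))
      obtain ⟨j, rfl⟩ := Subgroup.mem_zpowers_iff.1 (hle (hD.2.2 ▸ Subgroup.mem_top h))
      rw [← zpow_add, ← zpow_add, add_comm]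
    exact hxy (Subtype.ext (hall _ _))
  have hC := CfsgLib.ThreeTransp.tclass_of_class hD htwo
  obtain ⟨hp, hw⟩ := hC.primitive_of_simple_commutator hsimple ⟨x, y, hxy⟩
  refine ⟨?_, ?_, fun b hb b' hb' hne hne' hc hc' => ?_, fun c hc c' hc' h h' => ?_⟩
  · obtain ⟨u, hu, v, hv, hne, hcuv⟩ := hw
    obtain ⟨g, rfl⟩ := hC.trans u hu a ha
    exact ⟨g * v * g⁻¹, hC.conj g v hv, fun e => hne (mul_left_cancel (mul_right_cancel e)).symm,
      (CfsgLib.ThreeTransp.commute_conj_iff g).2 hcuv⟩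
  · obtain ⟨c, hc, hn⟩ := hC.exists_noncommute ha
    exact ⟨c, hc, fun e => hn e.symm⟩
  · obtain ⟨g, hg, e⟩ := hC.orb_nb hp ha ⟨hb, hne, hc⟩ ⟨hb', hne', hc'⟩
    exact ⟨g, CfsgLib.ThreeTransp.commute_closure_nb hg, e⟩
  · obtain ⟨g, h1, h2⟩ := hC.rank_three hp hw ha hc hc' h h'
    exact ⟨g, mul_inv_eq_iff_eq_mul.1 h1, h2⟩

end Cfsg.Agent.S0441
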