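import Cfsg.Statements.S0461
import Cfsg.Agent.Lib.Spor.J4Cent.Simple

set_option autoImplicit false
set_option maxRecDepth 100000
set_option maxHeartbeats 1000000
open Cfsg

namespace Cfsg.Agent.S0461

theorem range_isJ4 {A B : Type*} [Group A] [Group B] (f : A →* B) (hf : Function.Injective f)
    (hA : Cfsg.IsJ4 A) : Cfsg.IsJ4 f.range := by
  have := hA.1
  exact ⟨(MonoidHom.ofInjective hf).symm.isSimpleGroup, by
    rw [← Nat.card_congr (MonoidHom.ofInjective hf).toEquiv]; exact hA.2⟩

/-- Janko's fourth group exists as a group of 112 × 112 matrices over the field with two elements: GL(112, 2) has a simple subgroup of order 86775571046077562880. -/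
theorem result : ∃ H : Subgroup (GL (Fin 112) (ZMod 2)), Cfsg.IsJ4 H := by
  have hs := CfsgLib.Spor.J4Cent.isJ4
  have hinj : Function.Injective CfsgLib.Spor.J4Rep.rep := by
    have := hs.1
    exact CfsgLib.Spor.J4Rep.rep_injective
  exact ⟨_, range_isJ4 CfsgLib.Spor.J4Rep.rep hinj hs⟩

end Cfsg.Agent.S0461
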