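import Cfsg.Statements.S0464
import Cfsg.Agent.Lib.Spor.Th.Facts
import Cfsg.Agent.Lib.Spor.Th.Triality
import Cfsg.Agent.Lib.Spor.ThRep.Card
-- import your own Cfsg.Agent.* helpers here

set_option autoImplicit false
set_option maxRecDepth 100000
open Cfsg

namespace Cfsg.Agent.S0464

theorem of_injective {M : Type*} [Group M] (φ : Cfsg.Spor.Th →* M) (hinj : Function.Injective φ) :
    ∃ H : Subgroup M, Cfsg.IsTh H ∧ ∃ K : Subgroup H, K.index = 143127000 ∧
      ∃ L : Subgroup H, L ≤ K ∧ Cfsg.Is3D4 L := by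
  have hF := CfsgLib.Spor.Th.thFacts_of inferInstance
    (by intro _; exact CfsgLib.Spor.ThRep.th_card_dvd)
  have hTh : Cfsg.IsTh Cfsg.Spor.Th := CfsgLib.Spor.Th.isTh_of inferInstance
    (by intro _; exact CfsgLib.Spor.ThRep.th_card_dvd)
  have := hTh.1
  let ε : Cfsg.Spor.Th ≃* φ.range := MonoidHom.ofInjective hinj
  refine ⟨φ.range, ⟨?_, ?_⟩, CfsgLib.ThCent.dSub.map ε.toMonoidHom, ?_,
    (CfsgLib.Spor.Th.triL.map CfsgLib.ThCent.dSub.subtype).map ε.toMonoidHom,
    Subgroup.map_mono (Subgroup.map_subtype_le _), ?_⟩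
  · exact ε.symm.isSimpleGroup
  · rw [← Nat.card_congr ε.toEquiv]; exact hTh.2
  · rw [Subgroup.index_map_of_bijective (f := ε.toMonoidHom) ε.bijective]; exact hF.index
  · have h := CfsgLib.Spor.Th.triL_is3D4 (inferInstance : Nontrivial Cfsg.Spor.Th)
    let e : CfsgLib.Spor.Th.triL ≃*
        ((CfsgLib.Spor.Th.triL.map CfsgLib.ThCent.dSub.subtype).map ε.toMonoidHom) :=
      (CfsgLib.Spor.Th.triL.equivMapOfInjective _ CfsgLib.ThCent.dSub.subtype_injective).trans
        ((CfsgLib.Spor.Th.triL.map CfsgLib.ThCent.dSub.subtype).equivMapOfInjective _ ε.injective)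
    refine ⟨?_, ?_⟩
    · have := h.1
      exact e.symm.isSimpleGroup
    · obtain ⟨q, hq, hc⟩ := h.2
      exact ⟨q, hq, by rw [← Nat.card_congr e.toEquiv]; exact hc⟩

/-- The Thompson group exists as a group of 248 × 248 matrices over the field with three elements: a simple subgroup of GL(248, 3) of order 90745943887872000, possessing a subgroup of index 143127000 which contains a simple subgroup of the order of a triality-twisted D4 group. -/
theorem result : ∃ H : Subgroup (GL (Fin 248) (ZMod 3)), Cfsg.IsTh H ∧ ∃ K : Subgroup H, K.index = 143127000 ∧ ∃ L : Subgroup H, L ≤ K ∧ Cfsg.Is3D4 L := by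
  have := (CfsgLib.Spor.Th.isTh_of inferInstance
    (by intro _; exact CfsgLib.Spor.ThRep.th_card_dvd)).1
  refine of_injective CfsgLib.Spor.ThRep.rep ?_
  rcases (MonoidHom.normal_ker CfsgLib.Spor.ThRep.rep).eq_bot_or_eq_top with h | h
  · exact (MonoidHom.ker_eq_bot_iff _).1 h
  · exfalso
    refine CfsgLib.Spor.ThRep.gl_zero_ne ?_
    rw [← CfsgLib.Spor.ThRep.rep_letter (by norm_num), ← MonoidHom.mem_ker, h]
    trivial

end Cfsg.Agent.S0464
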