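import Cfsg.Statements.S0499
import Cfsg.Agent.Lib.Small.PCompl

set_option autoImplicit false
open Cfsg

namespace Cfsg.Agent.S0499

/-- A non-abelian finite simple group of even order has order divisible by 12, 16 or 56. -/
theorem result {G : Type*} [Group G] [Finite G] [IsSimpleGroup G]
    (hG : ¬ IsMulCommutative G) (h2 : Even (Nat.card G)) :
    12 ∣ Nat.card G ∨ 16 ∣ Nat.card G ∨ 56 ∣ Nat.card G := by
  open CfsgLib.Small in
  by_contra hno
  push Not at hno
  obtain ⟨h12, h16, h56⟩ := hno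
  have := Fact.mk Nat.prime_two
  obtain ⟨P⟩ := (inferInstance : Nonempty (Sylow 2 G))
  have h4 := four_dvd_of_even hG h2
  obtain ⟨a, ha⟩ := P.isPGroup'.exists_card_eq
  have hPd : 2 ^ a ∣ Nat.card G := ha ▸ Subgroup.card_subgroup_dvd_card _
  have ha3 : a ≤ 3 := by
    by_contra h
    exact h16 ((pow_dvd_pow 2 (show 4 ≤ a by omega)).trans hPd)
  obtain ⟨q, hq, hq2, hqG, j, hj1, hja, hqj⟩ :=
    exists_prime_dvd_pow_sub_one hG (even_iff_two_dvd.mp h2) P ha
  have h3 : ¬ 3 ∣ Nat.card G := fun h => h12 (Nat.Coprime.mul_dvd_of_dvd_of_dvd (by norm_num) h h4)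
  have hj3 : j = 1 ∨ j = 2 ∨ j = 3 := by omega
  rcases hj3 with rfl | rfl | rfl
  · exact hq.ne_one (Nat.dvd_one.mp (by simpa using hqj))
  · exact h3 ((Nat.prime_dvd_prime_iff_eq hq Nat.prime_three).mp (by simpa using hqj) ▸ hqG)
  · have h7 : q = 7 := (Nat.prime_dvd_prime_iff_eq hq (by norm_num)).mp (by simpa using hqj)
    refine h56 (Nat.Coprime.mul_dvd_of_dvd_of_dvd (show Nat.Coprime 8 7 by norm_num) ?_ (h7 ▸ hqG))
    exact (show 2 ^ 3 ∣ 2 ^ a from pow_dvd_pow 2 hja).trans hPd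

end Cfsg.Agent.S0499
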