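import Cfsg.Statements.S0502
import Mathlib
import Cfsg.Agent.Lib.PGroups.Basic
import Cfsg.Agent.Lib.Involutions.KleinPair
import Cfsg.Agent.Lib.Involutions.KleinSylow

set_option autoImplicit false
open Cfsg CfsgLib.Involutions

namespace Cfsg.Agent.S0502

/-- If a finite 2-group has a normal elementary abelian subgroup of order at least 8, then any two of its Klein
four-subgroups are joined by a chain of Klein four-subgroups with consecutive members commuting elementwise. -/
theorem result {P : Type*} [Group P] [Finite P] (hP : IsPGroup 2 P)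
    (E : Subgroup P) [E.Normal] (hE : IsMulCommutative E) (hE2 : ∀ e ∈ E, e ^ 2 = 1) (hE8 : 8 ≤ Nat.card E) :
    Cfsg.IsFourConnected P := by
  classical
  have hEbot : E ≠ ⊥ := fun h => by rw [h, Subgroup.card_bot] at hE8; omega
  obtain ⟨z, ⟨hzE, hzZ⟩, hz1⟩ := (Subgroup.bot_or_exists_ne_one _).resolve_left
    (CfsgLib.PGroups.inf_center_ne_bot (p := 2) hP hEbot)
  have hord : ∀ e ∈ E, e ≠ 1 → orderOf e = 2 := fun e he h1 => orderOf_eq_prime (hE2 e he) h1
  have hEc : ∀ a ∈ E, ∀ b ∈ E, Commute a b := fun a ha b hb =>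
    congrArg Subtype.val (hE.is_comm.comm ⟨a, ha⟩ ⟨b, hb⟩)
  have hz2 : orderOf z = 2 := hord z hzE hz1
  have hzc : ∀ g : P, Commute z g := fun g => (Subgroup.mem_center_iff.1 hzZ g).symm
  set R := fun A B : Subgroup P => IsKleinFour A ∧ IsKleinFour B ∧ ∀ a ∈ A, ∀ b ∈ B, a * b = b * a
  have hR : ∀ x y u w : P, orderOf x = 2 → orderOf y = 2 → Commute x y → x ≠ y →
      orderOf u = 2 → orderOf w = 2 → Commute u w → u ≠ w →
      Commute x u → Commute x w → Commute y u → Commute y w →
      R (Subgroup.closure ({x, y} : Set P)) (Subgroup.closure ({u, w} : Set P)) := by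
    intro x y u w hx hy hxy hne hu hw huw hne' h1 h2 h3 h4
    refine ⟨isKleinFour_closure_pair hx hy hxy hne, isKleinFour_closure_pair hu hw huw hne', ?_⟩
    have hle : Subgroup.closure ({x, y} : Set P) ≤
        Subgroup.centralizer (Subgroup.closure ({u, w} : Set P) : Set P) := by
      rw [Subgroup.centralizer_closure, Subgroup.closure_le]
      intro a ha
      refine Subgroup.mem_centralizer_iff.2 fun b hb => ?_
      simp only [Set.mem_insert_iff, Set.mem_singleton_iff] at ha hb
      rcases ha with rfl | rfl <;> rcases hb with rfl | rfl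
      exacts [h1.symm, h2.symm, h3.symm, h4.symm]
    exact fun a ha b hb => (Subgroup.mem_centralizer_iff.1 (hle ha) b hb).symm
  -- every four-subgroup is joined to one inside `E`
  have main : ∀ U : Subgroup P, IsKleinFour U →
      ∃ W : Subgroup P, W ≤ E ∧ IsKleinFour W ∧ Relation.ReflTransGen R U W := by
    intro U hU
    obtain ⟨v, hvU, hv1, hvz⟩ : ∃ v ∈ U, v ≠ 1 ∧ v ≠ z := by
      by_contra h
      push Not at h
      haveI := hU
      have hinj : Function.Injective fun a : U => decide ((a : P) = 1) := by
        intro a b hab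
        simp only [decide_eq_decide] at hab
        by_cases ha : (a : P) = 1
        · exact Subtype.ext (ha.trans (hab.1 ha).symm)
        · exact Subtype.ext ((h a a.2 ha).trans (h b b.2 fun hb => ha (hab.2 hb)).symm)
      have := Nat.card_le_card_of_injective _ hinj
      rw [IsKleinFour.card_four] at this
      simp at this
    have hv2 : orderOf v = 2 := orderOf_eq_two_of_mem hU hvU hv1
    have hvv : v * v = 1 := klein_sq hU hvU
    have hvi : v⁻¹ = v := inv_eq_of_mul_eq_one_left hvv
    let f : E →* E :=
      { toFun := fun e => ⟨e * (v * e * v⁻¹), E.mul_mem e.2 (‹E.Normal›.conj_mem e e.2 v)⟩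
        map_one' := Subtype.ext (by simp)
        map_mul' := fun a b => Subtype.ext (by
          show (a : P) * b * (v * (a * b) * v⁻¹) = a * (v * a * v⁻¹) * (b * (v * b * v⁻¹))
          have h2 : (b : P) * (v * a * v⁻¹) = (v * a * v⁻¹) * b :=
            hEc b b.2 _ (‹E.Normal›.conj_mem a a.2 v)
          calc (a : P) * b * (v * (a * b) * v⁻¹) = a * (b * (v * a * v⁻¹)) * (v * b * v⁻¹) := by group
            _ = _ := by rw [h2]; group) }
    have hker : ∀ e : E, f e = 1 ↔ Commute (e : P) v := by
      intro e
      have he : (e : P) * e = 1 := by rw [← sq]; exact hE2 e e.2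
      constructor
      · intro h
        have h' : (e : P) * (v * e * v⁻¹) = e * e := (congrArg Subtype.val h).trans he.symm
        have h'' := mul_left_cancel h'
        calc (e : P) * v = v * e * v⁻¹ * v := by rw [h'']
          _ = v * e := inv_mul_cancel_right _ _
      · intro h
        refine Subtype.ext ?_
        show (e : P) * (v * e * v⁻¹) = 1
        rw [← h.eq, mul_inv_cancel_right, he]
    have hrange : f.range ≤ f.ker := by
      rintro _ ⟨e, rfl⟩
      rw [MonoidHom.mem_ker, hker]
      show Commute ((e : P) * (v * e * v⁻¹)) v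
      have h2 : (e : P) * (v * e * v⁻¹) = (v * e * v⁻¹) * e := hEc e e.2 _ (‹E.Normal›.conj_mem e e.2 v)
      rw [hvi] at h2 ⊢
      calc (e : P) * (v * e * v) * v = e * (v * e) * (v * v) := by group
        _ = (v * v) * (e * v * e) := by rw [hvv, mul_one, one_mul, mul_assoc]
        _ = v * ((v * e * v) * e) := by group
        _ = v * ((e : P) * (v * e * v)) := by rw [h2]
    obtain ⟨w, hwE, hwv, hw1, hwz⟩ : ∃ w ∈ E, Commute w v ∧ w ≠ 1 ∧ w ≠ z := by
      by_contra h
      push Not at h
      have hk : Nat.card f.ker ≤ 2 := by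
        have hinj : Function.Injective fun a : f.ker => decide (((a : E) : P) = 1) := by
          intro a b hab
          simp only [decide_eq_decide] at hab
          by_cases ha : ((a : E) : P) = 1
          · exact Subtype.ext (Subtype.ext (ha.trans (hab.1 ha).symm))
          · exact Subtype.ext (Subtype.ext ((h _ a.1.2 ((hker _).1 a.2) ha).trans
              (h _ b.1.2 ((hker _).1 b.2) fun hb => ha (hab.2 hb)).symm))
        exact (Nat.card_le_card_of_injective _ hinj).trans (by simp)
      have := f.ker.card_mul_index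
      rw [Subgroup.index_ker] at this
      have h2 : Nat.card f.range ≤ 2 := (Subgroup.card_le_of_le hrange).trans hk
      nlinarith
    refine ⟨Subgroup.closure ({z, w} : Set P), ?_, isKleinFour_closure_pair hz2 (hord w hwE hw1)
      (hzc w) hwz.symm, ?_⟩
    · rw [Subgroup.closure_le]
      rintro a (rfl | rfl)
      exacts [hzE, hwE]
    refine (Relation.ReflTransGen.single (b := Subgroup.closure ({z, v} : Set P)) ?_).trans
      (Relation.ReflTransGen.single (hR z v z w hz2 hv2 (hzc v) hvz.symm hz2 (hord w hwE hw1) (hzc w)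
        hwz.symm (Commute.refl z) (hzc w) (hzc v).symm hwv.symm))
    refine ⟨hU, isKleinFour_closure_pair hz2 hv2 (hzc v) hvz.symm, fun a ha b hb => ?_⟩
    refine (Subgroup.mem_centralizer_iff.1 (?_ : b ∈ Subgroup.centralizer ({a} : Set P)) a rfl)
    refine (Subgroup.closure_le _).2 ?_ hb
    intro c hc
    simp only [Set.mem_insert_iff, Set.mem_singleton_iff] at hc
    refine Subgroup.mem_centralizer_singleton_iff.2 ?_
    rcases hc with rfl | rfl
    · exact (hzc a).eq
    · exact klein_comm hU hvU ha
  intro U V hU hV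
  obtain ⟨W, hWE, hW, h1⟩ := main U hU
  obtain ⟨W', hW'E, hW', h2⟩ := main V hV
  haveI : Std.Symm R := ⟨fun A B h => ⟨h.2.1, h.1, fun a ha b hb => (h.2.2 b hb a ha).symm⟩⟩
  exact (h1.tail ⟨hW, hW', fun a ha b hb => hEc a (hWE ha) b (hW'E hb)⟩).trans (Std.Symm.symm _ _ h2)

end Cfsg.Agent.S0502
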