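import Cfsg.Statements.S0505
import Cfsg.Agent.Lib.LocalEven.CharP2
import Cfsg.Agent.Lib.PLocal.Constrained
import Cfsg.Agent.Lib.Base.MinimalNormal

set_option autoImplicit false
open Cfsg

namespace Cfsg.Agent.S0505

/-- Let G be a finite group of even order in which the centralizer of every involution is solvable and has trivial
core (no nontrivial normal subgroup of odd order). Then G is of characteristic 2 type. -/
theorem result {G : Type*} [Group G] [Finite G]
    (h2 : Even (Nat.card G))
    (hs : ∀ t : G, orderOf t = 2 → Group.IsSolvable (Subgroup.centralizer ({t} : Set G)))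
    (hc : ∀ t : G, orderOf t = 2 → Cfsg.oddCore (Subgroup.centralizer ({t} : Set G)) = ⊥) :
    Cfsg.IsCharacteristicTwoType G := by
  refine ⟨h2, fun T hT hT1 => ?_⟩
  have := Fact.mk Nat.prime_two
  show Subgroup.centralizer _ ≤ _
  -- an involution in the centre of `T`
  have : Nontrivial T := (Subgroup.nontrivial_iff_ne_bot T).mpr hT1
  have hnt := hT.center_nontrivial
  obtain ⟨k, hk⟩ := (hT.to_subgroup (Subgroup.center T)).exists_card_eq
  rw [← Finite.one_lt_card_iff_nontrivial, hk] at hnt
  obtain ⟨z, hz⟩ := exists_prime_orderOf_dvd_card' (G := Subgroup.center T) 2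
    (hk ▸ dvd_pow_self 2 (by rintro rfl; simp at hnt))
  set t : G := (z.1 : G)
  have ht : orderOf t = 2 := by rw [Subgroup.orderOf_coe, Subgroup.orderOf_coe, hz]
  have htT : t ∈ T := z.1.2
  set C := Subgroup.centralizer ({t} : Set G)
  have hTC : T ≤ C := fun s hs => Subgroup.mem_centralizer_singleton_iff.mpr
    (congrArg Subtype.val (Subgroup.mem_center_iff.mp z.2 ⟨s, hs⟩))
  have hsol := hs t ht
  have hC : Subgroup.centralizer (Cfsg.pCore 2 C : Set C) ≤ Cfsg.pCore 2 C :=
    CfsgLib.Base.centralizer_pCore_le_of_isSolvable (hc t ht)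
  set N := Subgroup.normalizer (T : Set G) with hNdef
  -- `N ⊓ C` has characteristic 2
  have hNC : Subgroup.centralizer (Cfsg.pCore 2 (N.subgroupOf C) : Set (N.subgroupOf C)) ≤
      Cfsg.pCore 2 (N.subgroupOf C) := by
    rw [hNdef, Subgroup.subgroupOf_normalizer_eq hTC]
    exact CfsgLib.PLocal.centralizer_pCore_normalizer_le hC
      (P := T.subgroupOf C) hT.comap_subtype
  -- `D = C_N(O_2 N)`
  set D := Subgroup.centralizer (Cfsg.pCore 2 N : Set N) with hD
  have hDn : D.Normal := inferInstance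
  have hTN : T.subgroupOf N ≤ Cfsg.pCore 2 N :=
    CfsgLib.LocalEven.le_pCore
      ((Subgroup.normal_subgroupOf_iff_le_normalizer Subgroup.le_normalizer).mpr le_rfl)
      hT.comap_subtype
  have hDC : ∀ d ∈ D, ((d : N) : G) ∈ C := fun d hd => Subgroup.mem_centralizer_singleton_iff.mpr
    (congrArg Subtype.val
      (Subgroup.mem_centralizer_iff.mp hd ⟨t, Subgroup.le_normalizer htT⟩ (hTN htT))).symm
  -- transport `D` into `N ⊓ C`
  set M : Subgroup N := C.subgroupOf N with hM
  have hDM : D ≤ M := hDC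
  let e : M ≃* N.subgroupOf C :=
    { toFun := fun m => ⟨⟨((m : N) : G), m.2⟩, (m : N).2⟩
      invFun := fun m => ⟨⟨((m : C) : G), m.2⟩, (m : C).2⟩
      left_inv := fun m => rfl
      right_inv := fun m => rfl
      map_mul' := fun a b => rfl }
  have hMc : Subgroup.centralizer (Cfsg.pCore 2 M : Set M) ≤ Cfsg.pCore 2 M :=
    CfsgLib.LocalEven.charP_equiv e.symm hNC
  have hD'n : (D.subgroupOf M).Normal := hDn.subgroupOf M
  have hDc := CfsgLib.LocalEven.charP_equiv (Subgroup.subgroupOfEquivOfLe hDM)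
    (CfsgLib.LocalEven.charP_normal hMc hD'n)
  -- `O_2 D ≤ O_2 N`, so it is central in `D`
  have hle : (Cfsg.pCore 2 D).map D.subtype ≤ Cfsg.pCore 2 N := by
    refine CfsgLib.LocalEven.le_pCoreOf (H := D) (p := 2) (N := (Cfsg.pCore 2 D).map D.subtype)
      (Subgroup.map_subtype_le _) (CfsgLib.Base.le_normalizer_map_pCore D)
      (CfsgLib.Base.isPGroup_map_pCore 2 D) |>.trans ?_
    exact CfsgLib.Base.map_pCore_le_of_isSubnormal hDn.isSubnormal
  have htop : Subgroup.centralizer (Cfsg.pCore 2 D : Set D) = ⊤ := by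
    rw [eq_top_iff]
    intro d _
    rw [Subgroup.mem_centralizer_iff]
    intro r hr
    exact Subtype.ext (Subgroup.mem_centralizer_iff.mp d.2 r (hle ⟨r, hr, rfl⟩))
  have hDp : IsPGroup 2 D := by
    rw [← CfsgLib.Base.pCore_eq_top_iff]
    exact top_le_iff.mp (htop ▸ hDc)
  exact CfsgLib.Base.le_pCore hDp

end Cfsg.Agent.S0505
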