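import Cfsg.Statements.S1238
import Cfsg.Agent.Lib.Fusion.Group
import Cfsg.Agent.Lib.Fusion.RankTwoTypes
-- import your own Cfsg.Agent.* helpers here

set_option autoImplicit false
open Cfsg

namespace Cfsg.Agent.S1238

/-- Let G be a finite group of 2-rank 2 (a Klein four-subgroup but no elementary abelian subgroup of order 8) which is fusion simple: G has no subgroup of index 2 and no isolated involution. Let S be a Sylow 2-subgroup. Then S is dihedral, quasi-dihedral, wreathed, isomorphic to Z_{2^n} × Z_{2^n} for some n ≥ 2, or isomorphic to a Sylow 2-subgroup of PSU(3) over the field with 16 elements. -/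
theorem result {G : Type*} [Group G] [Finite G] (h2 : Cfsg.PRankLE 2 2 G) (h1 : ¬ Cfsg.PRankLE 2 1 G) (hidx : ∀ H : Subgroup G, H.index ≠ 2) (hiso : ∀ z : G, ¬ Cfsg.IsIsolatedInvolution z) (S : Sylow 2 G) {F : Type*} [Field F] [Fintype F] (hF : Fintype.card F = 16) (P : Sylow 2 (Cfsg.PSU 3 F 4)) : (∃ m : ℕ, 2 ≤ m ∧ Nonempty ((S : Subgroup G) ≃* DihedralGroup m)) ∨ Cfsg.IsQuasiDihedral (S : Subgroup G) ∨ Cfsg.IsWreathed (S : Subgroup G) ∨ (∃ n : ℕ, 2 ≤ n ∧ Nonempty ((S : Subgroup G) ≃* Multiplicative (ZMod (2 ^ n) × ZMod (2 ^ n)))) ∨ Nonempty ((S : Subgroup G) ≃* (P : Subgroup (Cfsg.PSU 3 F 4))) := by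
  classical
  haveI : Fact (Nat.Prime 2) := ⟨Nat.prime_two⟩
  have hr : Cfsg.PRankLE 2 2 ↥(S : Subgroup G) := by
    intro A hA hA2
    rw [← Subgroup.card_map_of_injective (K := A) (f := (S : Subgroup G).subtype)
      (Subgroup.subtype_injective _)]
    refine h2 _ ⟨⟨fun ⟨x, x', hx', hx⟩ ⟨y, y', hy', hy⟩ => Subtype.ext ?_⟩⟩ ?_
    · show x * y = y * x
      rw [← hx, ← hy, ← map_mul, ← map_mul,
        show x' * y' = y' * x' from congrArg Subtype.val (hA.is_comm.comm ⟨x', hx'⟩ ⟨y', hy'⟩)]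
    · rintro _ ⟨x, hx, rfl⟩
      rw [← map_pow, hA2 x hx, map_one]
  have hr1 : ¬ Cfsg.PRankLE 2 1 ↥(S : Subgroup G) := by
    intro hS1
    apply h1
    intro A hA hA2
    have hAp : IsPGroup 2 A := fun x => ⟨1, Subtype.ext (by rw [pow_one]; exact hA2 x x.2)⟩
    obtain ⟨g, hg⟩ := CfsgLib.Fusion.exists_conj_le_sylow S hAp
    let ι : ↥A →* ↥(S : Subgroup G) :=
      { toFun := fun x => ⟨g * (x : G) * g⁻¹, hg (CfsgLib.Fusion.mem_img_of_mem _ x.2)⟩
        map_one' := Subtype.ext (by simp)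
        map_mul' := fun x y => Subtype.ext (by simp [mul_assoc]) }
    have hι : Function.Injective ι := fun x y h => Subtype.ext
      (mul_left_cancel (mul_right_cancel (congrArg Subtype.val h :)))
    rw [Nat.card_congr (MonoidHom.ofInjective hι).toEquiv]
    refine hS1 _ ⟨⟨fun ⟨x, x', hx⟩ ⟨y, y', hy⟩ => Subtype.ext ?_⟩⟩ ?_
    · show x * y = y * x
      rw [← hx, ← hy, ← map_mul, ← map_mul, hA.is_comm.comm x' y']
    · rintro _ ⟨x, rfl⟩
      rw [← map_pow, show x ^ 2 = 1 from Subtype.ext (hA2 x x.2), map_one]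
  have hmov : ∀ z ∈ (S : Subgroup G), z * z = 1 → z ≠ 1 →
      (∀ g ∈ (S : Subgroup G), g * z = z * g) →
      ∃ f, CfsgLib.Fusion.IsMor (Cfsg.groupFusionSystem (S : Subgroup G)) (Subgroup.zpowers z) f ∧
        f z ≠ z := by
    intro z hzS hz2 hz1 _
    have hn := hiso z
    simp only [Cfsg.IsIsolatedInvolution, not_and, not_forall] at hn
    obtain ⟨g, hgc, hgne⟩ := hn (orderOf_eq_prime (by rw [pow_two, hz2]) hz1)
    set w := g * z * g⁻¹ with hw
    have hw2 : w * w = 1 := by rw [hw]; simp [mul_assoc, ← mul_assoc z z, hz2]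
    set W := Subgroup.closure ({z, w} : Set G) with hWdef
    have hcomm : IsMulCommutative W := Subgroup.isMulCommutative_closure (by
      rintro x (rfl | rfl) y (rfl | rfl)
      exacts [rfl, hgc.eq, hgc.eq.symm, rfl])
    have hexp : ∀ x ∈ W, x ^ 2 = 1 := fun x hx => by
      induction hx using Subgroup.closure_induction with
      | mem y hy => rcases hy with rfl | rfl <;> rw [pow_two] <;> assumption
      | one => exact one_pow 2
      | mul x y hx hy ihx ihy =>
        rw [Commute.mul_pow (show Commute x y from congrArg Subtype.val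
          (hcomm.is_comm.comm ⟨x, hx⟩ ⟨y, hy⟩)), ihx, ihy, one_mul]
      | inv x _ ih => rw [inv_pow, ih, inv_one]
    have hWp : IsPGroup 2 W := fun x => ⟨1, Subtype.ext (by rw [pow_one]; exact hexp x x.2)⟩
    obtain ⟨h, hh⟩ := CfsgLib.Fusion.exists_conj_le_sylow S hWp
    have h1 : h * z * h⁻¹ ∈ (S : Subgroup G) :=
      hh (CfsgLib.Fusion.mem_img_of_mem _ (Subgroup.subset_closure (by simp)))
    have h2 : h * w * h⁻¹ ∈ (S : Subgroup G) :=
      hh (CfsgLib.Fusion.mem_img_of_mem _ (Subgroup.subset_closure (by simp)))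
    have mor : ∀ k : G, k * z * k⁻¹ ∈ (S : Subgroup G) →
        CfsgLib.Fusion.IsMor (Cfsg.groupFusionSystem (S : Subgroup G)) (Subgroup.zpowers z)
          (CfsgLib.Fusion.cj k) := fun k hk => by
      refine CfsgLib.Fusion.isMor_group.2 ⟨Subgroup.zpowers_le.2 hzS, fun x hx => ?_, k, fun _ _ => rfl⟩
      obtain ⟨i, rfl⟩ := Subgroup.mem_zpowers_iff.1 hx
      show k * z ^ i * k⁻¹ ∈ (S : Subgroup G)
      rw [← conj_zpow]
      exact Subgroup.zpow_mem _ hk i
    by_cases hz : h * z * h⁻¹ = z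
    · refine ⟨CfsgLib.Fusion.cj (h * g), mor _ ?_, fun e => hgne ?_⟩
      · rw [show h * g * z * (h * g)⁻¹ = h * w * h⁻¹ by rw [hw]; group]; exact h2
      · have e' : h * w * h⁻¹ = z := by rw [← e, hw, CfsgLib.Fusion.cj_apply]; group
        exact mul_left_cancel (mul_right_cancel (e'.trans hz.symm))
    · exact ⟨CfsgLib.Fusion.cj h, mor _ h1, hz⟩
  rcases CfsgLib.Fusion.RankTwoTypes.main S.2 (CfsgLib.Fusion.groupFusion_isSaturated S) hr hr1 hmov
    hF P with (h | h | h) | ⟨n, hn, e⟩ | e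
  · exact Or.inl h
  · exact Or.inr (Or.inl h)
  · exact Or.inr (Or.inr (Or.inl h))
  · rcases Nat.lt_or_ge n 2 with hlt | hge
    · obtain rfl : n = 1 := by omega
      obtain ⟨e⟩ := e
      exact Or.inl ⟨2, le_rfl, CfsgLib.Fusion.RankTwoTypes.dihedral_two_of_zmod e⟩
    · exact Or.inr (Or.inr (Or.inr (Or.inl ⟨n, hge, e⟩)))
  · exact Or.inr (Or.inr (Or.inr (Or.inr e)))

end Cfsg.Agent.S1238
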