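import Cfsg.Statements.S0516
import Cfsg.Agent.S1238
import Cfsg.Agent.S0949
import Cfsg.Agent.Lib.FT.OddOrderTheorem
import Cfsg.Agent.Lib.Involutions.ZStar.Main
-- import your own Cfsg.Agent.* helpers here

set_option autoImplicit false
open Cfsg

namespace Cfsg.Agent.S0516

/-- In a non-abelian finite simple group of 2-rank at most 2, a Sylow 2-subgroup is dihedral (of order at least 4),
quasi-dihedral, wreathed, or isomorphic to a Sylow 2-subgroup of the projective special unitary group of dimension 3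
over the field with 16 elements. -/
theorem result {G : Type*} [Group G] [Finite G] [IsSimpleGroup G]
    (hG : ¬ IsMulCommutative G) (h2 : Cfsg.PRankLE 2 2 G) (S : Sylow 2 G) {F : Type*} [Field F] [Fintype F]
    (hF : Fintype.card F = 16) (P : Sylow 2 (Cfsg.PSU 3 F 4)) :
    (∃ n : ℕ, 2 ≤ n ∧ Nonempty ((S : Subgroup G) ≃* DihedralGroup n)) ∨ Cfsg.IsQuasiDihedral (S : Subgroup G) ∨
      Cfsg.IsWreathed (S : Subgroup G) ∨ Nonempty ((S : Subgroup G) ≃* (P : Subgroup (Cfsg.PSU 3 F 4))) := by
  classical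
  haveI : Fact (Nat.Prime 2) := ⟨Nat.prime_two⟩
  have hnsol : ¬ Group.IsSolvable G := fun h => hG ⟨⟨IsSimpleGroup.comm_iff_isSolvable.2 h⟩⟩
  have hO : Cfsg.oddCore G = ⊥ := by
    haveI : (Cfsg.oddCore G).Normal := Cfsg.pPrimeCore_normal 2 G
    rcases IsSimpleGroup.eq_bot_or_eq_top_of_normal (Cfsg.oddCore G) inferInstance with h | h
    · exact h
    · exfalso
      have := CfsgLib.Base.odd_card_oddCore G
      rw [h, Subgroup.card_top] at this
      exact hnsol (CfsgLib.FT.isSolvable_of_odd this)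
  have hiso : ∀ z : G, ¬ Cfsg.IsIsolatedInvolution z := by
    intro z hz
    have hc := CfsgLib.Involutions.ZStar.mem_center_of_oddCore_eq_bot hz hO
    rcases IsSimpleGroup.eq_bot_or_eq_top_of_normal (Subgroup.center G) inferInstance with h | h
    · rw [h, Subgroup.mem_bot] at hc
      rw [hc] at hz
      simp [Cfsg.IsIsolatedInvolution] at hz
    · exact hG ⟨⟨fun a b => (Subgroup.mem_center_iff.1 (h ▸ Subgroup.mem_top b) a)⟩⟩
  have h1 : ¬ Cfsg.PRankLE 2 1 G := by
    intro h1
    have heven : 2 ∣ Nat.card G := by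
      by_contra h
      exact hnsol (CfsgLib.FT.isSolvable_of_odd (Nat.odd_iff.2 (by omega)))
    obtain ⟨z, hz⟩ := exists_prime_orderOf_dvd_card' 2 heven
    refine hiso z ⟨hz, fun g hgc => ?_⟩
    by_contra hne
    set w := g * z * g⁻¹ with hw
    have hz2 : z * z = 1 := by rw [← pow_two, ← hz]; exact pow_orderOf_eq_one z
    have hw2 : w * w = 1 := by rw [hw]; simp [mul_assoc, ← mul_assoc z z, hz2]
    set W := Subgroup.closure ({z, w} : Set G) with hWdef
    have hcomm : IsMulCommutative W := Subgroup.isMulCommutative_closure (by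
      rintro x (rfl | rfl) y (rfl | rfl)
      exacts [rfl, hgc.eq, hgc.eq.symm, rfl])
    have hexp : ∀ x ∈ W, x ^ 2 = 1 := fun x hx => by
      induction hx using Subgroup.closure_induction with
      | mem y hy => rcases hy with rfl | rfl <;> rw [pow_two] <;> assumption
      | one => exact one_pow 2
      | mul x y hx hy ihx ihy =>
        rw [Commute.mul_pow (show Commute x y from congrArg Subtype.val
          (hcomm.is_comm.comm ⟨x, hx⟩ ⟨y, hy⟩)), ihx, ihy, one_mul]
      | inv x _ ih => rw [inv_pow, ih, inv_one]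
    have hsub : ({1, z, w} : Set G) ⊆ (W : Set G) := by
      rintro x (rfl | rfl | rfl)
      exacts [one_mem _, Subgroup.subset_closure (by simp), Subgroup.subset_closure (by simp)]
    have hz1 : z ≠ 1 := fun h => by rw [h, orderOf_one] at hz; norm_num at hz
    have hw1 : w ≠ 1 := fun h => hz1 (by rwa [hw, conj_eq_one_iff] at h)
    have h3 := Set.ncard_le_ncard hsub (Set.toFinite _)
    rw [Set.ncard_insert_of_notMem (by simp [hz1.symm, hw1.symm]), Set.ncard_pair (Ne.symm hne),
      ← Nat.card_coe_set_eq] at h3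
    change 3 ≤ Nat.card W at h3
    have := h1 W hcomm hexp
    omega
  have hidx : ∀ H : Subgroup G, H.index ≠ 2 := by
    intro H h
    haveI := Subgroup.normal_of_index_eq_two h
    rcases IsSimpleGroup.eq_bot_or_eq_top_of_normal H inferInstance with e | e
    · rw [e, Subgroup.index_bot] at h
      haveI : IsCyclic G := isCyclic_of_prime_card (p := 2) h
      exact hG ⟨⟨fun a b => (IsCyclic.commGroup (α := G)).mul_comm a b⟩⟩
    · rw [e, Subgroup.index_top] at h
      norm_num at h
  rcases Cfsg.Agent.S1238.result h2 h1 hidx hiso S hF P with h | h | h | ⟨n, hn, ⟨e⟩⟩ | h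
  · exact Or.inl h
  · exact Or.inr (Or.inl h)
  · exact Or.inr (Or.inr (Or.inl h))
  · exfalso
    obtain ⟨M, hMax, h2M⟩ := CfsgLib.BlockOrth.exists_maximal_above 2
    have hfew := CfsgLib.Blocks.fewInvolutions_of_homocyclic S n (by omega) e
    have h4 : 4 < Nat.card S := by
      rw [Nat.card_congr e.toEquiv, Nat.card_congr Multiplicative.toAdd, Nat.card_prod, Nat.card_zmod,
        ← pow_add]
      calc 4 < 2 ^ 4 := by norm_num
        _ ≤ 2 ^ (n + n) := Nat.pow_le_pow_right (by norm_num) (by omega)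
    have hO' : CfsgLib.Blocks.NoOddNormal G := fun N hN hodd => by
      haveI := hN
      exact le_bot_iff.1 (hO ▸ CfsgLib.Base.le_oddCore hodd)
    have hn' := CfsgLib.Blocks.sylow_normal_of_fewInvolutions (M := M) ⟨Nat.prime_two, hMax, h2M⟩ _ G
      le_rfl hO' S hfew h4
    rcases IsSimpleGroup.eq_bot_or_eq_top_of_normal (S : Subgroup G) hn' with h | h
    · rw [show Nat.card S = Nat.card (⊥ : Subgroup G) by rw [← h], Subgroup.card_bot] at h4
      omega
    · exact hG ⟨⟨fun a b => congrArg Subtype.val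
        (hfew.comm ⟨a, h ▸ Subgroup.mem_top a⟩ ⟨b, h ▸ Subgroup.mem_top b⟩)⟩⟩
  · exact Or.inr (Or.inr (Or.inr h))

end Cfsg.Agent.S0516
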