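import Cfsg.Statements.S0522
import Cfsg.Agent.Lib.OddOrder.TransitivityPConstrained

set_option autoImplicit false
open Cfsg
open scoped Pointwise

namespace Cfsg.Agent.S0522

/-- Transitivity Theorem (odd-order setting). Let X be a finite group of odd order in which the normalizer of every
nontrivial p-subgroup is solvable, P a Sylow p-subgroup, and B an abelian subgroup of P, normalized by P, with
C_P(B) = B and containing an elementary abelian subgroup of order p^3. Then for every prime q ≠ p, any two q-subgroups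
that are maximal among the q-subgroups normalized by B are conjugate by an element of the centralizer of B. -/
theorem result {X : Type*} [Group X] [Finite X] (hX : Odd (Nat.card X)) (p : ℕ)
    [Fact p.Prime] (hloc : ∀ T : Subgroup X, IsPGroup p T → T ≠ ⊥ → Group.IsSolvable (Subgroup.normalizer (T : Set X)))
    (P : Sylow p X) (B : Subgroup X) (hBP : B ≤ (P : Subgroup X))
    (hBn : ∀ x ∈ (P : Subgroup X), ∀ b ∈ B, x * b * x⁻¹ ∈ B) (hBa : IsMulCommutative B)
    (hBc : (P : Subgroup X) ⊓ Subgroup.centralizer (B : Set X) = B)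
    (hB3 : ∃ E : Subgroup X, E ≤ B ∧ (∀ e ∈ E, e ^ p = 1) ∧ p ^ 3 ≤ Nat.card E)
    (q : ℕ) [Fact q.Prime] (hqp : q ≠ p) (Q₁ Q₂ : Subgroup X)
    (h₁ : IsPGroup q Q₁ ∧ B ≤ Subgroup.normalizer (Q₁ : Set X) ∧
      ∀ R : Subgroup X, IsPGroup q R → B ≤ Subgroup.normalizer (R : Set X) → Q₁ ≤ R → R = Q₁)
    (h₂ : IsPGroup q Q₂ ∧ B ≤ Subgroup.normalizer (Q₂ : Set X) ∧
      ∀ R : Subgroup X, IsPGroup q R → B ≤ Subgroup.normalizer (R : Set X) → Q₂ ≤ R → R = Q₂) :
    ∃ c ∈ Subgroup.centralizer (B : Set X), Q₂ = Q₁.map (MulAut.conj c).toMonoidHom := by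
  have hBp : IsPGroup p B := P.isPGroup'.to_le hBP
  obtain ⟨E, hEB, hEp, hE3⟩ := hB3
  haveI := hBa
  have hEe : IsElementaryAbelian p (E.subgroupOf B) :=
    ⟨⟨⟨fun a b => Subtype.ext (hBa.is_comm.comm (a : B) b)⟩⟩, fun a ha => Subtype.ext (hEp _ ha)⟩
  have hE3' : ¬ PRankLE p 2 B := fun h => by
    have h1 := CfsgLib.Base.pRankLE_iff.1 h _ hEe
    rw [CfsgLib.Base.card_subgroupOf hEB] at h1
    have := Nat.pow_lt_pow_right (Fact.out : p.Prime).one_lt (show 2 < 3 by norm_num)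
    omega
  have hcl : p = 2 → ∀ (S : Sylow p X), ∀ x ∈ (S : Subgroup X), ∀ y ∈ (S : Subgroup X),
      ∀ z ∈ (S : Subgroup X), Commute (x * y * x⁻¹ * y⁻¹) z := by
    rintro rfl
    refine absurd ?_ hE3'
    refine CfsgLib.Base.pRankLE_iff.2 fun A hA => ?_
    obtain ⟨k, hk⟩ := IsPGroup.iff_card.1 (hBp.to_subgroup A)
    rcases k with _ | k
    · rw [hk]; norm_num
    · exfalso
      refine (Nat.not_even_iff_odd.2 hX) (even_iff_two_dvd.2 ?_)
      exact ((hk ▸ dvd_pow_self 2 k.succ_ne_zero).trans A.card_subgroup_dvd_card).trans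
        B.card_subgroup_dvd_card
  have hfull : ∀ x ∈ Subgroup.centralizer (B : Set X),
      IsPGroup p (Subgroup.zpowers x) → x ∈ B := by
    intro x hx hxp
    set N := Subgroup.normalizer (B : Set X) with hN
    set C := Subgroup.centralizer (B : Set X) with hC
    have hCN : C ≤ N := Subgroup.centralizer_le_normalizer _
    have hPN : (P : Subgroup X) ≤ N := fun g hg => Subgroup.mem_normalizer_iff.2 fun b =>
      ⟨fun hb => hBn g hg b hb, fun hb => by
        have := hBn g⁻¹ ((P : Subgroup X).inv_mem hg) _ hb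
        simpa [mul_assoc] using this⟩
    obtain ⟨T, hT⟩ := (hxp.comap_subtype (K := N)).exists_le_sylow
    obtain ⟨g, hg⟩ := MulAction.exists_smul_eq N (P.subtype hPN) T
    have hxN : x ∈ N := hCN hx
    have hx2 : (⟨x, hxN⟩ : N) ∈ (g • P.subtype hPN : Sylow p N) := by
      rw [hg]; exact hT (Subgroup.mem_zpowers x)
    replace hx2 : (⟨x, hxN⟩ : N) ∈ MulAut.conj g • ((P : Subgroup X).subgroupOf N) := hx2
    rw [Subgroup.mem_pointwise_smul_iff_inv_smul_mem] at hx2
    have hP' : (g : X)⁻¹ * x * g ∈ (P : Subgroup X) := by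
      simpa [MulAut.smul_def, Subgroup.mem_subgroupOf] using hx2
    have hcent : (g : X)⁻¹ * x * g ∈ C := by
      refine Subgroup.mem_centralizer_iff.2 fun b hb => ?_
      have hb' : (g : X) * b * (g : X)⁻¹ ∈ B := (Subgroup.mem_normalizer_iff.1 g.2 b).1 hb
      have h1 := Subgroup.mem_centralizer_iff.1 hx _ hb'
      calc b * ((g : X)⁻¹ * x * g) = (g : X)⁻¹ * (((g : X) * b * (g : X)⁻¹) * x) * g := by group
        _ = (g : X)⁻¹ * (x * ((g : X) * b * (g : X)⁻¹)) * g := by rw [h1]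
        _ = (g : X)⁻¹ * x * g * b := by group
    have hB' : (g : X)⁻¹ * x * g ∈ B := hBc.le ⟨hP', hcent⟩
    have := (Subgroup.mem_normalizer_iff.1 g.2 _).1 hB'
    simpa [mul_assoc] using this
  have hmem : ∀ Q : Subgroup X, IsPGroup q Q ∧ B ≤ Subgroup.normalizer (Q : Set X) ∧
      (∀ R : Subgroup X, IsPGroup q R → B ≤ Subgroup.normalizer (R : Set X) → Q ≤ R → R = Q) →
      Q ∈ maxInvSubgroups ⊤ B {q} := fun Q hQ =>
    ⟨CfsgLib.OddOrder.mem_invSubgroups_singleton_iff.2 ⟨le_top, hQ.1, hQ.2.1⟩, fun R hR hQR => by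
      obtain ⟨-, hR1, hR2⟩ := CfsgLib.OddOrder.mem_invSubgroups_singleton_iff.1 hR
      exact hQ.2.2 R hR1 hR2 hQR⟩
  obtain ⟨k, hk, hk'⟩ := CfsgLib.OddOrder.full_transitive
    (fun T hT hT1 => by
      haveI := hloc T hT hT1
      exact CfsgLib.PLocal.isPConstrained_of_isPSolvable
        CfsgLib.PLocal.isPSolvable_of_isSolvable)
    hcl hBp hBa hE3' hfull hqp (hmem Q₁ h₁) (hmem Q₂ h₂)
  exact ⟨k, Subgroup.map_subtype_le _ hk, hk'.symm⟩

end Cfsg.Agent.S0522
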