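import Cfsg.Statements.S0530
import Cfsg.Agent.Lib.SolvStruct.Orders

set_option autoImplicit false
open Cfsg CfsgLib.SolvStruct

namespace Cfsg.Agent.S0530

/-- A finite group whose order is twice a prime power is supersolvable. -/
theorem result {G : Type*} [Group G] [Finite G] (p n : ℕ) (hp : p.Prime) (hG : Nat.card G = 2 * p ^ n) : Cfsg.IsSupersolvable G := by
  have := Fact.mk hp
  by_cases h2 : p = 2
  · subst h2
    exact supersolvable_of_pgroup (IsPGroup.of_card (n := n + 1) (by rw [hG, pow_succ']))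
  -- all maximal subgroups have prime index
  obtain ⟨P⟩ : Nonempty (Sylow p G) := inferInstance
  have hne : (2 : ℕ) ≠ p := fun h => h2 h.symm
  have hfac : (Nat.card G).factorization p = n := by
    rw [hG, Nat.factorization_mul two_ne_zero (pow_ne_zero n hp.ne_zero)]
    simp [Nat.factorization_eq_zero_of_not_dvd
      (fun hd => hne ((Nat.prime_dvd_prime_iff_eq hp Nat.prime_two).mp hd).symm),
      Nat.Prime.factorization_self hp]
  have hcP : Nat.card (P : Subgroup G) = p ^ n := by rw [P.card_eq_multiplicity, hfac]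
  have hPidx : (P : Subgroup G).index = 2 := by
    have := (P : Subgroup G).card_mul_index
    rw [hcP, hG, mul_comm 2] at this
    exact Nat.eq_of_mul_eq_mul_left (pow_pos hp.pos n) this
  have hPn : (P : Subgroup G).Normal := Subgroup.normal_of_index_eq_two hPidx
  apply supersolvable_of_prime_index
  intro M hM
  have hd : M.index ∣ 2 * p ^ n := hG ▸ M.index_dvd_card
  by_cases hPM : (P : Subgroup G) ≤ M
  · have h1 := Subgroup.index_dvd_of_le hPM
    rw [hPidx] at h1
    rcases Nat.prime_two.eq_one_or_self_of_dvd _ h1 with h | h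
    · exact absurd (Subgroup.index_eq_one.mp h) hM.1
    · exact h ▸ Nat.prime_two
  -- the intersection with `P` is normal, with quotient inverted or centralized by an involution
  have htop : M ⊔ (P : Subgroup G) = ⊤ :=
    hM.2 _ (lt_of_le_of_ne le_sup_left fun he => hPM (he ▸ le_sup_right))
  have hMnP : M ≤ Subgroup.normalizer ((P : Subgroup G) : Set G) := Subgroup.le_normalizer_of_normal
  have hcard := CfsgLib.Coprime.card_sup_mul_card_inf hMnP
  rw [htop, Subgroup.card_top, ← M.card_mul_index, mul_assoc] at hcard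
  have hidx : M.index * Nat.card ↥(M ⊓ (P : Subgroup G)) = p ^ n :=
    hcP ▸ Nat.eq_of_mul_eq_mul_left Nat.card_pos hcard
  obtain ⟨k, -, hk⟩ := (Nat.dvd_prime_pow hp).mp (Dvd.intro _ hidx : M.index ∣ p ^ n)
  obtain ⟨j, hj⟩ : ∃ j, Nat.card ↥(M ⊓ (P : Subgroup G)) = p ^ j :=
    IsPGroup.iff_card.mp (P.2.to_le inf_le_right)
  rcases k with _ | _ | k
  · exact absurd (Subgroup.index_eq_one.mp (by simpa using hk)) hM.1
  · rw [hk]; simpa using hp
  exfalso
  set R := M ⊓ (P : Subgroup G) with hR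
  have hRlt : R < (P : Subgroup G) := lt_of_le_of_ne inf_le_right fun he => hPM (he ▸ inf_le_left)
  have hRn : R.Normal := by
    rw [← Subgroup.normalizer_eq_top_iff]
    refine hM.2 _ (lt_of_le_of_ne
      (CfsgLib.Coprime.le_normalizer_inf_inf Subgroup.le_normalizer hMnP) fun he => ?_)
    have : Group.IsNilpotent (P : Subgroup G) := P.2.isNilpotent
    have hlt : R.subgroupOf (P : Subgroup G) < ⊤ :=
      lt_top_iff_ne_top.mpr fun ht => hRlt.not_ge (Subgroup.subgroupOf_eq_top.mp ht)
    obtain ⟨x, hx, hxR⟩ :=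
      SetLike.exists_of_lt (Group.normalizerCondition_of_isNilpotent _ hlt)
    rw [← Subgroup.subgroupOf_normalizer_eq inf_le_right, Subgroup.mem_subgroupOf, ← he] at hx
    exact hxR (Subgroup.mem_subgroupOf.mpr ⟨hx, x.2⟩)
  -- an element of the quotient of `P` that is central in it
  set f := QuotientGroup.mk' R with hf
  have hPb : IsPGroup p ((P : Subgroup G).map f) := P.2.map f
  have hPbne : ((P : Subgroup G).map f) ≠ ⊥ := fun h0 => by
    rw [Subgroup.map_eq_bot_iff, QuotientGroup.ker_mk'] at h0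
    exact hRlt.not_ge h0
  have : Nontrivial ((P : Subgroup G).map f) := (Subgroup.nontrivial_iff_ne_bot _).mpr hPbne
  have := hPb.center_nontrivial
  have hPbn : ((P : Subgroup G).map f).Normal := hPn.map f (QuotientGroup.mk'_surjective R)
  -- an involution `t` outside `P`
  obtain ⟨t, ht⟩ := exists_prime_orderOf_dvd_card' (hp := ⟨Nat.prime_two⟩) 2 (hG ▸ dvd_mul_right 2 _)
  have htP : t ∉ (P : Subgroup G) := fun h => by
    obtain ⟨e, he⟩ := P.2 ⟨t, h⟩
    have := orderOf_dvd_of_pow_eq_one (congrArg Subtype.val he)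
    rw [ht] at this
    exact hne ((Nat.prime_dvd_prime_iff_eq Nat.prime_two hp).mp (Nat.prime_two.dvd_of_dvd_pow this))
  have hgen : ∀ g : G, g ∈ (P : Subgroup G) ∨ t⁻¹ * g ∈ (P : Subgroup G) := by
    intro g
    by_cases hg : g ∈ (P : Subgroup G)
    · exact Or.inl hg
    · right
      exact (Subgroup.mul_mem_iff_of_index_two hPidx).mpr
        (iff_of_false (fun h => htP (inv_mem_iff.mp h)) hg)
  obtain ⟨z, hz⟩ := exists_ne (1 : Subgroup.center ((P : Subgroup G).map f))
  set u : G ⧸ R := ((z : (P : Subgroup G).map f) : G ⧸ R) with hu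
  have hu1 : u ≠ 1 := fun h => hz (Subtype.ext (Subtype.ext h))
  have htt : f t * f t = 1 := by
    rw [← map_mul, ← sq, ← ht, pow_orderOf_eq_one, map_one]
  set v : G ⧸ R := f t * u * (f t)⁻¹ with hv
  have hcomm : ∀ w ∈ (P : Subgroup G).map f, u * w = w * u := fun w hw =>
    (congrArg Subtype.val (Subgroup.mem_center_iff.mp z.2 ⟨w, hw⟩)).symm
  have hvP : v ∈ (P : Subgroup G).map f := hPbn.conj_mem _ (z : (P : Subgroup G).map f).2 _
  have hcommv : ∀ w ∈ (P : Subgroup G).map f, v * w = w * v := by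
    intro w hw
    have h := hcomm _ (hPbn.conj_mem w hw (f t)⁻¹)
    rw [inv_inv] at h
    calc v * w = f t * (u * ((f t)⁻¹ * w * f t)) * (f t)⁻¹ := by rw [hv]; group
      _ = f t * (((f t)⁻¹ * w * f t) * u) * (f t)⁻¹ := by rw [h]
      _ = w * v := by rw [hv]; group
  have huv : f t * v * (f t)⁻¹ = u := by
    have : (f t)⁻¹ = f t := inv_eq_of_mul_eq_one_right htt
    rw [hv, this]
    calc f t * (f t * u * f t) * f t = (f t * f t) * u * (f t * f t) := by group
      _ = u := by rw [htt, one_mul, mul_one]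
  -- a nontrivial `w` whose cyclic group is normal
  obtain ⟨w, hw1, hwP, hwc, hwt⟩ : ∃ w : G ⧸ R, w ≠ 1 ∧ w ∈ (P : Subgroup G).map f ∧
      (∀ y ∈ (P : Subgroup G).map f, w * y = y * w) ∧
      f t * w * (f t)⁻¹ ∈ Subgroup.zpowers w := by
    by_cases hinv : v = u⁻¹
    · refine ⟨u, hu1, (z : (P : Subgroup G).map f).2, hcomm, ?_⟩
      rw [← hv, hinv]
      exact Subgroup.inv_mem _ (Subgroup.mem_zpowers u)
    · refine ⟨u * v, fun h => hinv (eq_inv_of_mul_eq_one_right h),
        Subgroup.mul_mem _ (z : (P : Subgroup G).map f).2 hvP,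
        fun y hy => by rw [mul_assoc, hcommv y hy, ← mul_assoc, hcomm y hy, mul_assoc], ?_⟩
      have : f t * (u * v) * (f t)⁻¹ = u * v := by
        calc f t * (u * v) * (f t)⁻¹ = v * (f t * v * (f t)⁻¹) := by rw [hv]; group
          _ = u * v := by rw [huv, hcommv u (z : (P : Subgroup G).map f).2]
      rw [this]
      exact Subgroup.mem_zpowers _
  -- a subgroup of order `p` of it is normal
  obtain ⟨e, he⟩ := hPb ⟨w, hwP⟩
  have hwo : orderOf w ∣ p ^ e := orderOf_dvd_of_pow_eq_one (congrArg Subtype.val he)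
  obtain ⟨l, -, hl⟩ := (Nat.dvd_prime_pow hp).mp hwo
  obtain ⟨l, rfl⟩ : ∃ l', l = l' + 1 := ⟨l - 1, by
    rcases Nat.eq_zero_or_pos l with h0 | h0
    · exact absurd (orderOf_eq_one_iff.mp (by rw [hl, h0, pow_zero])) hw1
    · omega⟩
  set w₁ := w ^ (p ^ l) with hw₁
  have hw₁o : orderOf w₁ = p := by
    rw [hw₁, orderOf_pow, hl, Nat.gcd_eq_right (pow_dvd_pow p (Nat.le_succ l)),
      Nat.pow_div (Nat.le_succ l) hp.pos, show l + 1 - l = 1 by omega, pow_one]
  set T := (Subgroup.zpowers w₁).comap f with hT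
  have hTn : (Subgroup.zpowers w₁).Normal := by
    have hfix : ∀ y : G ⧸ R, y * w₁ * y⁻¹ ∈ Subgroup.zpowers w₁ := by
      intro y
      obtain ⟨g, rfl⟩ := QuotientGroup.mk'_surjective R y
      obtain ⟨b, hb⟩ := Subgroup.mem_zpowers_iff.mp hwt
      have hPc : ∀ x ∈ (P : Subgroup G), f x * w₁ * (f x)⁻¹ = w₁ := by
        intro x hx
        rw [hw₁, ← (Commute.pow_left (hwc _ ⟨x, hx, rfl⟩) _).eq, mul_inv_cancel_right]
      rcases hgen g with hg | hg
      · rw [hPc g hg]; exact Subgroup.mem_zpowers _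
      · have hgd : f g = f t * f (t⁻¹ * g) := by rw [← map_mul, mul_inv_cancel_left]
        rw [hgd, mul_inv_rev]
        rw [show f t * f (t⁻¹ * g) * w₁ * ((f (t⁻¹ * g))⁻¹ * (f t)⁻¹)
          = f t * (f (t⁻¹ * g) * w₁ * (f (t⁻¹ * g))⁻¹) * (f t)⁻¹ by group, hPc _ hg, hw₁,
          ← conj_pow, ← hb, ← zpow_natCast (w ^ b), ← zpow_mul, mul_comm, zpow_mul, zpow_natCast]
        exact Subgroup.zpow_mem_zpowers _ _
    refine ⟨fun y hy x => ?_⟩
    obtain ⟨i, rfl⟩ := Subgroup.mem_zpowers_iff.mp hy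
    rw [← conj_zpow]
    exact Subgroup.zpow_mem _ (hfix x) i
  have hTc : Nat.card T = Nat.card R * p := by
    have h := T.card_mul_index
    rw [hT, Subgroup.index_comap_of_surjective _ (QuotientGroup.mk'_surjective R), ← hT,
      ← R.card_mul_index, Subgroup.index_eq_card R, ← (Subgroup.zpowers w₁).card_mul_index,
      Nat.card_zpowers, hw₁o, ← mul_assoc] at h
    exact Nat.eq_of_mul_eq_mul_right (Nat.pos_of_ne_zero Subgroup.index_ne_zero_of_finite) h
  have hRT : R ≤ T := (QuotientGroup.ker_mk' R).symm.le.trans (MonoidHom.ker_le_comap f _)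
  have hTP : T ≤ (P : Subgroup G) := by
    intro x hx
    have hxP : f x ∈ (P : Subgroup G).map f :=
      Subgroup.zpowers_le.mpr (Subgroup.pow_mem _ hwP _) hx
    obtain ⟨x', hx', hxx⟩ := hxP
    have := QuotientGroup.eq.mp hxx
    simpa using (P : Subgroup G).mul_mem hx' (hRlt.le this)
  have hTn' : T.Normal := hTn.comap f
  have hMT : M ⊔ T = ⊤ := hM.2 _ (lt_of_le_of_ne le_sup_left fun he => by
    have h1 : T ≤ R := le_inf (le_sup_right.trans he.ge) hTP
    have h3 := Nat.le_of_dvd Nat.card_pos (Subgroup.card_dvd_of_le h1)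
    rw [hTc] at h3
    exact absurd h3 (Nat.not_le.mpr (lt_mul_of_one_lt_right Nat.card_pos hp.one_lt)))
  have h1 := CfsgLib.Coprime.card_sup_mul_card_inf (Subgroup.le_normalizer_of_normal (K := M) (H := T))
  have hMTi : M ⊓ T = R := le_antisymm (inf_le_inf_left _ hTP) (le_inf inf_le_left hRT)
  rw [hMT, hMTi, Subgroup.card_top, ← M.card_mul_index, hTc, hk] at h1
  have h2 : p ^ (k + 1 + 1) = p :=
    Nat.eq_of_mul_eq_mul_left (Nat.mul_pos (Nat.card_pos (α := M)) (Nat.card_pos (α := R)))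
      (by linarith)
  have := Nat.pow_right_injective hp.two_le (h2.trans (pow_one p).symm)
  omega

end Cfsg.Agent.S0530
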