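import Cfsg.Statements.S0534
import Cfsg.Agent.Lib.SolvStruct.Abelian
import Cfsg.Agent.Lib.Coprime.Hall

set_option autoImplicit false
open Cfsg

namespace Cfsg.Agent.S0534

/-- Let G be a finite solvable group and A a finite abelian group such that every prime dividing the order of A divides the order of G and, for each prime p dividing the order of G, the exponent of p in the order of A is one less than its exponent in the order of G. Then G × A has a subgroup of every order dividing its order. -/
theorem result {G A : Type*} [Group G] [CommGroup A] [Finite G] [Finite A] [Group.IsSolvable G] (hA : ∀ p : ℕ, p.Prime → p ∣ Nat.card A → p ∣ Nat.card G) (hexp : ∀ p : ℕ, p.Prime → p ∣ Nat.card G → (Nat.card A).factorization p + 1 = (Nat.card G).factorization p) : Cfsg.HasSubgroupOfEveryOrder (G × A) := by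
  classical
  intro d hd
  have hcard : Nat.card (G × A) = Nat.card G * Nat.card A := Nat.card_prod G A
  have hdpos : d ≠ 0 := ne_zero_of_dvd_ne_zero Nat.card_pos.ne' hd
  let π : Set ℕ := {p | (Nat.card G).factorization p ≤ d.factorization p}
  obtain ⟨H, hH, -⟩ := CfsgLib.Coprime.hallD_of_solvable (G := G) π
  have hHd : Nat.card H ∣ d := by
    rw [← Nat.factorization_prime_le_iff_dvd Nat.card_pos.ne' hdpos]
    intro p hp
    by_cases h0 : (Nat.card H).factorization p = 0
    · simp [h0]
    · have hpd : p ∣ Nat.card H := Nat.dvd_of_factorization_pos h0
      exact ((Nat.factorization_le_iff_dvd Nat.card_pos.ne' Nat.card_pos.ne').mpr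
        (Subgroup.card_subgroup_dvd_card H) p).trans (hH.1 p hp hpd)
  obtain ⟨e, he⟩ := hHd
  have hepos : e ≠ 0 := fun h0 => hdpos (by rw [he, h0, mul_zero])
  have heA : e ∣ Nat.card A := by
    rw [← Nat.factorization_prime_le_iff_dvd hepos Nat.card_pos.ne']
    intro p hp
    have hsum : d.factorization p = (Nat.card H).factorization p + e.factorization p := by
      rw [he, Nat.factorization_mul Nat.card_pos.ne' hepos, Finsupp.add_apply]
    have hdle : d.factorization p ≤ (Nat.card G).factorization p + (Nat.card A).factorization p := by
      have := (Nat.factorization_le_iff_dvd hdpos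
        (mul_ne_zero (Nat.card_pos (α := G)).ne' (Nat.card_pos (α := A)).ne')).mpr (hcard ▸ hd) p
      rwa [Nat.factorization_mul (Nat.card_pos (α := G)).ne' (Nat.card_pos (α := A)).ne',
        Finsupp.add_apply] at this
    by_cases hpG : p ∣ Nat.card G
    · by_cases hπ : p ∈ π
      · have h1 : (Nat.card H).factorization p = (Nat.card G).factorization p := by
          have := congrArg (fun f => f p) (Nat.factorization_mul (Nat.card_pos (α := H)).ne'
            (Subgroup.index_ne_zero_of_finite (H := H)))
          rw [H.card_mul_index, Finsupp.add_apply,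
            Nat.factorization_eq_zero_of_not_dvd (hH.2 p hp hπ)] at this
          simpa using this.symm
        omega
      · have := hexp p hp hpG
        have : ¬ (Nat.card G).factorization p ≤ d.factorization p := hπ
        omega
    · have h1 : (Nat.card G).factorization p = 0 := Nat.factorization_eq_zero_of_not_dvd hpG
      have h2 : (Nat.card A).factorization p = 0 :=
        Nat.factorization_eq_zero_of_not_dvd fun h => hpG (hA p hp h)
      omega
  obtain ⟨B, hB⟩ := CfsgLib.SolvStruct.hasSubgroupOfEveryOrder_comm (A := A) e heA
  refine ⟨H.prod B, ?_⟩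
  rw [Nat.card_congr (Subgroup.prodEquiv H B).toEquiv, Nat.card_prod, hB, ← he]

end Cfsg.Agent.S0534
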