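import Cfsg.Statements.S0535
import Cfsg.Agent.Lib.Base.HallConverse

set_option autoImplicit false
open Cfsg

namespace Cfsg.Agent.S0535

/-- Suppose that for every nontrivial subgroup H of a finite group and every prime p dividing the order of H there is a proper subgroup of H whose index in H is a power of p. Then the group is solvable. -/
theorem result {G : Type*} [Group G] [Finite G] (h : ∀ H : Subgroup G, H ≠ ⊥ → ∀ p : ℕ, p.Prime → p ∣ Nat.card H → ∃ K : Subgroup H, K ≠ ⊤ ∧ ∃ k : ℕ, K.index = p ^ k) : Group.IsSolvable G := by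
  refine CfsgLib.Base.isSolvable_of_pComplements fun p hp => ?_
  -- a minimal subgroup of `p`-power index
  obtain ⟨H, ⟨k, hk⟩, hmin⟩ := (Set.toFinite {H : Subgroup G | ∃ k, H.index = p ^ k}).exists_minimal
    ⟨⊤, 0, by simp⟩
  refine ⟨H, ?_⟩
  have hpH : ¬ p ∣ Nat.card H := by
    intro hd
    have hne : H ≠ ⊥ := by
      rintro rfl
      rw [Subgroup.card_bot, Nat.dvd_one] at hd
      exact hp.ne_one hd
    obtain ⟨K, hK, j, hj⟩ := h H hne p hp hd
    have hle : K.map H.subtype ≤ H := Subgroup.map_subtype_le K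
    have := hmin ⟨j + k, by rw [Subgroup.index_map_subtype, hj, hk, ← pow_add]⟩ hle
    refine hK (eq_top_iff.mpr fun x _ => ?_)
    obtain ⟨y, hy, hyx⟩ := this x.2
    exact (Subtype.ext hyx : y = x) ▸ hy
  rw [hk]
  congr 1
  have h1 := congrArg (fun f => f p) (Nat.factorization_mul (Nat.card_pos (α := H)).ne'
    (Subgroup.index_ne_zero_of_finite (H := H)))
  rw [H.card_mul_index, Finsupp.add_apply, Nat.factorization_eq_zero_of_not_dvd hpH, hk,
    Nat.factorization_pow, Finsupp.smul_apply, Nat.Prime.factorization_self hp] at h1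
  simpa using h1.symm

end Cfsg.Agent.S0535
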