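import Cfsg.Statements.S0537
import Cfsg.Agent.Lib.Base.MinNonNilpotent
import Cfsg.Agent.Lib.Coprime.Action2
import Cfsg.Agent.Lib.PLocal.Thompson

set_option autoImplicit false
open Cfsg

namespace Cfsg.Agent.S0537

/-- A finite non-abelian group in which every proper subgroup is abelian is either of prime-power order, or is generated by a cyclic Sylow p-subgroup and a normal Sylow q-subgroup that is elementary abelian, for distinct primes p and q. -/
theorem result {G : Type*} [Group G] [Finite G] (hna : ¬ IsMulCommutative G) (h : ∀ H : Subgroup G, H ≠ ⊤ → IsMulCommutative H) : (∃ p : ℕ, p.Prime ∧ IsPGroup p G) ∨ ∃ p q : ℕ, p.Prime ∧ q.Prime ∧ p ≠ q ∧ ∃ (P : Sylow p G) (Q : Sylow q G), IsCyclic P ∧ (Q : Subgroup G).Normal ∧ Cfsg.IsElementaryAbelian q (Q : Subgroup G) ∧ (P : Subgroup G) ⊔ Q = ⊤ := by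
  by_cases hnil : Group.IsNilpotent G
  · refine Or.inl (by_contra fun hno => hna ?_)
    push Not at hno
    haveI := hnil
    choose S hS using fun q : Nat.Primes => show ∃ S : Sylow (q : ℕ) G, True from
      ⟨Classical.choice inferInstance, trivial⟩
    have hcen : ∀ q r : Nat.Primes, (S r : Subgroup G) ≤
        Subgroup.centralizer ((S q : Subgroup G) : Set G) := by
      intro q r
      haveI := Fact.mk q.2
      haveI := Fact.mk r.2
      by_cases hrq : r = q
      · subst hrq
        haveI : IsMulCommutative ↥(S r : Subgroup G) := h _ fun e => hno r r.2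
          ((e ▸ (S r).isPGroup').of_equiv Subgroup.topEquiv)
        exact Subgroup.le_centralizer _
      · exact CfsgLib.Base.MinNonNilpotent.le_centralizer_of_nilpotent
          (fun e => hrq (Subtype.ext e.symm)) (S q).isPGroup' (S r).isPGroup'
          inferInstance
    have htop : ∀ q, (⊤ : Subgroup G) ≤ Subgroup.centralizer ((S q : Subgroup G) : Set G) :=
      fun q => (CfsgLib.Base.iSup_sylow_eq_top S).ge.trans (iSup_le (hcen q))
    have h2 : (⊤ : Subgroup G) ≤ Subgroup.centralizer ((⊤ : Subgroup G) : Set G) := by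
      conv_lhs => rw [← CfsgLib.Base.iSup_sylow_eq_top S]
      exact iSup_le fun q => Subgroup.le_centralizer_iff.1 (htop q)
    exact ⟨⟨fun a b => (Subgroup.mem_centralizer_iff.1 (h2 (Subgroup.mem_top b)) a (Subgroup.mem_top a))⟩⟩
  right
  have hG : Cfsg.IsMinimalNonNilpotent G := ⟨hnil, fun H hH => by
    haveI := h H hH
    letI : CommGroup H :=
      { (inferInstance : Group H) with mul_comm := fun a b => (h H hH).is_comm.comm a b }
    exact CommGroup.isNilpotent⟩
  obtain ⟨p, q, hp, hq, P, Q, hpq, hc, hPn, hQ, hPQ⟩ :=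
    CfsgLib.Base.MinNonNilpotent.exists_structure hG
  haveI := hQ
  refine ⟨p, q, hp.out, hq.out, hpq, P, Q, hc, hQ, ?_, hPQ⟩
  haveI hQc : IsMulCommutative ↥(Q : Subgroup G) := h _ fun e => hnil
    (((e ▸ Q.isPGroup').of_equiv Subgroup.topEquiv).isNilpotent)
  have hdisj : (P : Subgroup G) ⊓ Q = ⊥ :=
    (IsPGroup.disjoint_of_ne p q hpq _ _ P.isPGroup' Q.isPGroup').eq_bot
  have hcop : (Nat.card (P : Subgroup G)).Coprime (Nat.card (Q : Subgroup G)) :=
    IsPGroup.coprime_card_of_ne p q hpq _ _ P.isPGroup' Q.isPGroup'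
  have hPN : (P : Subgroup G) ≤ Subgroup.normalizer ((Q : Subgroup G) : Set G) :=
    le_top.trans (Subgroup.normalizer_eq_top_iff.2 hQ).ge
  have hstep : ∀ X : Subgroup G, X ≤ (Q : Subgroup G) →
      (P : Subgroup G) ≤ Subgroup.normalizer (X : Set G) →
      X ≤ Subgroup.centralizer ((P : Subgroup G) : Set G) ∨ X = (Q : Subgroup G) := by
    intro X hX hn
    by_cases ht : X ⊔ (P : Subgroup G) = ⊤
    · refine Or.inr (le_antisymm hX fun y hy => ?_)
      have hmem := ht.ge (Subgroup.mem_top y)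
      rw [sup_comm] at hmem
      obtain ⟨a, ha, b, hb, rfl⟩ := (CfsgLib.Coprime.mem_sup_iff_of_le_normalizer hn).1 hmem
      have : a ∈ (P : Subgroup G) ⊓ Q := ⟨ha, by
        have := (Q : Subgroup G).mul_mem hy ((Q : Subgroup G).inv_mem (hX hb))
        rwa [mul_inv_cancel_right] at this⟩
      rw [hdisj, Subgroup.mem_bot] at this
      rwa [this, one_mul]
    · haveI := h _ ht
      refine Or.inl fun x hx => Subgroup.mem_centralizer_iff.2 fun a ha => ?_
      exact congrArg Subtype.val ((inferInstance : IsMulCommutative ↥(X ⊔ (P : Subgroup G))).is_comm.comm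
        ⟨a, Subgroup.mem_sup_right ha⟩ ⟨x, Subgroup.mem_sup_left hx⟩)
  haveI : Group.IsSolvable ↥(Q : Subgroup G) :=
    Group.isSolvable_of_comm fun a b => hQc.is_comm.comm a b
  set W := ⁅(Q : Subgroup G), (P : Subgroup G)⁆ with hW
  have hWQ : W ≤ (Q : Subgroup G) := Subgroup.commutator_le_left _ _
  have hWn : (P : Subgroup G) ≤ Subgroup.normalizer (W : Set G) := by
    intro x hx
    refine CfsgLib.Base.map_conj_eq_self_iff.1 ?_
    rw [hW, Subgroup.map_commutator, CfsgLib.Base.map_conj_eq_self_iff.2 (hPN hx),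
      CfsgLib.Base.map_conj_eq_self_iff.2 (Subgroup.le_normalizer hx)]
  have hWQ' : W = (Q : Subgroup G) := by
    refine (hstep W hWQ hWn).resolve_left fun hc1 => hPn ?_
    have h0 : W = ⊥ := by
      rw [hW, ← CfsgLib.Coprime.commutator_commutator_eq hPN hcop (Or.inr inferInstance), ← hW,
        Subgroup.commutator_eq_bot_iff_le_centralizer]
      exact hc1
    rw [hW, Subgroup.commutator_eq_bot_iff_le_centralizer] at h0
    refine Subgroup.normalizer_eq_top_iff.1 (top_le_iff.1 ?_)
    rw [← hPQ, sup_le_iff]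
    exact ⟨Subgroup.le_normalizer, h0.trans (Subgroup.centralizer_le_normalizer _)⟩
  have hC := CfsgLib.Coprime.centralizer_inf_commutator_eq_bot hPN hcop
  rw [← hW, hWQ', inf_right_comm, inf_idem] at hC
  set Ω := Cfsg.omegaOne q (Q : Subgroup G) with hΩ
  have hΩe : Cfsg.IsElementaryAbelian q Ω :=
    CfsgLib.PLocal.isElementaryAbelian_omegaOne (Subgroup.le_centralizer _)
  have hΩQ : Ω ≤ (Q : Subgroup G) := CfsgLib.PLocal.omegaOne_le q _
  have hΩn : (P : Subgroup G) ≤ Subgroup.normalizer (Ω : Set G) := fun x hx => by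
    refine CfsgLib.Base.map_conj_eq_self_iff.1 ?_
    rw [hΩ, CfsgLib.PLocal.map_omegaOne (MulAut.conj x).injective,
      CfsgLib.Base.map_conj_eq_self_iff.2 (hPN hx)]
  rcases hstep Ω hΩQ hΩn with h1 | h1
  · have h0 : Ω = ⊥ := le_bot_iff.1 ((le_inf hΩQ h1).trans hC.le)
    have hQne : (Q : Subgroup G) ≠ ⊥ := fun e => hPn (by
      rw [e, sup_bot_eq] at hPQ
      rw [hPQ]; infer_instance)
    exact absurd h0 (CfsgLib.PLocal.omegaOne_ne_bot Q.isPGroup' hQne)
  · rw [← h1]; exact hΩe

end Cfsg.Agent.S0537
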