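import Cfsg.Statements.S0539
import Cfsg.Agent.Lib.PLocal.SubnormalJoin

set_option autoImplicit false
open Pointwise
open Cfsg
open scoped Pointwise

namespace Cfsg.Agent.S0539

/-- Let S be a family of subnormal subgroups of a finite group that is closed under conjugation, and S₀ a proper subfamily. Then some member of S not in S₀ normalizes the join of S₀. -/
theorem result {G : Type*} [Group G] [Finite G] (S S₀ : Set (Subgroup G)) (hS : ∀ U ∈ S, U.IsSubnormal) (hconj : ∀ U ∈ S, ∀ g : G, MulAut.conj g • U ∈ S) (h₀ : S₀ ⊂ S) : ∃ X ∈ S, X ∉ S₀ ∧ X ≤ Subgroup.normalizer ((sSup S₀ : Subgroup G) : Set G) := by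
  set T := sSup S₀ with hT
  have hTsub : T.IsSubnormal := by
    have h1 : ∀ F : Set (Subgroup G), F.Finite → F ⊆ S → (sSup F).IsSubnormal := by
      intro F hF
      induction F, hF using Set.Finite.induction_on with
      | empty => intro _; simp
      | @insert U F _ _ ih =>
        intro hsub
        rw [sSup_insert]
        exact CfsgLib.PLocal.isSubnormal_join (hS U (hsub (Set.mem_insert _ _)))
          (ih ((Set.subset_insert _ _).trans hsub))
    exact h1 S₀ (Set.toFinite _) h₀.1
  by_contra hno
  push Not at hno
  have hin : ∀ X ∈ S, X ≤ Subgroup.normalizer (T : Set G) → X ∈ S₀ := fun X hX hle =>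
    by_contra fun h => hno X hX h hle
  have key : ∀ K : Subgroup G, K.IsSubnormal → T ≤ K → K ≤ Subgroup.normalizer (T : Set G) →
      Subgroup.normalizer (T : Set G) = ⊤ := by
    intro K hK
    induction hK with
    | top => exact fun _ h => top_le_iff.1 h
    | step A B hAB _ hN ih =>
      intro hTA hA
      refine ih (hTA.trans hAB) fun x hx => ?_
      have hle : (MulAut.conj x • T : Subgroup G) ≤ T := by
        change T.map (MulAut.conj x).toMonoidHom ≤ T
        rw [Subgroup.map_le_iff_le_comap]
        conv_lhs => rw [hT]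
        refine sSup_le fun X hX => ?_
        rw [← Subgroup.map_le_iff_le_comap]
        have hXA : X.map (MulAut.conj x).toMonoidHom ≤ A := by
          rintro _ ⟨y, hy, rfl⟩
          have hyA : y ∈ A := hTA (le_sSup hX hy)
          exact hN.conj_mem ⟨y, hAB hyA⟩ hyA ⟨x, hx⟩
        exact le_sSup (hin (MulAut.conj x • X) (hconj X (h₀.1 hX) x) (hXA.trans hA))
      have he : MulAut.conj x • T = T :=
        Subgroup.eq_of_le_of_card_ge hle (Subgroup.card_map_of_injective (MulAut.conj x).injective).ge
      rw [Subgroup.mem_normalizer_iff]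
      intro y
      constructor
      · exact fun hy => he ▸ ⟨y, hy, rfl⟩
      · intro hy
        obtain ⟨z, hz, hze⟩ := (he.symm ▸ hy : x * y * x⁻¹ ∈ MulAut.conj x • T)
        have : z = y := (MulAut.conj x).injective hze
        rwa [← this]
  have htop := key T hTsub le_rfl Subgroup.le_normalizer
  obtain ⟨X, hX, hX0⟩ := Set.exists_of_ssubset h₀
  exact hno X hX hX0 (by rw [htop]; exact le_top)

end Cfsg.Agent.S0539
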