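import Cfsg.Statements.S0540
import Cfsg.Agent.S0539
import Cfsg.Agent.Lib.Coprime.Basic

set_option autoImplicit false
open Pointwise
open Cfsg
open scoped Pointwise

namespace Cfsg.Agent.S0540

/-- A uniqueness lemma of zipper type. Let A be a subgroup of a finite group G and U a nonempty family of subgroups. For V in U write S(V) for the set of conjugates of A that lie in V and are subnormal in V. Assume: A belongs to S(V) for every V in U; a member of some S(W) that lies in V belongs to S(V); and for all V, W in U the normalizer of the join of S(V) ∩ S(W) lies in some member of U. Then U has a greatest element. -/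
theorem result {G : Type*} [Group G] [Finite G] (A : Subgroup G) (U : Set (Subgroup G)) (hU : U.Nonempty) (S : Subgroup G → Set (Subgroup G)) (hS : ∀ V B : Subgroup G, B ∈ S V ↔ (∃ g : G, B = MulAut.conj g • A) ∧ B ≤ V ∧ (B.subgroupOf V).IsSubnormal) (h1 : ∀ V ∈ U, A ∈ S V) (h2 : ∀ V ∈ U, ∀ W ∈ U, ∀ B ∈ S W, B ≤ V → B ∈ S V) (h3 : ∀ V ∈ U, ∀ W ∈ U, ∃ X ∈ U, Subgroup.normalizer ((sSup (S V ∩ S W) : Subgroup G) : Set G) ≤ X) : ∃ M ∈ U, ∀ V ∈ U, V ≤ M := by
  classical
  -- every `V` either normalises `⟨T⟩` or has a further member of `S V` doing so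
  have step : ∀ (V : Subgroup G) (T : Set (Subgroup G)), T ⊆ S V →
      V ≤ Subgroup.normalizer ((sSup T : Subgroup G) : Set G) ∨
        ∃ B ∈ S V, B ∉ T ∧ B ≤ Subgroup.normalizer ((sSup T : Subgroup G) : Set G) := by
    intro V T hT
    have hle : ∀ B ∈ S V, B ≤ V := fun B hB => ((hS V B).1 hB).2.1
    have hconjV : ∀ B ∈ S V, ∀ v ∈ V, MulAut.conj v • B ∈ S V := by
      intro B hB v hv
      obtain ⟨⟨g, rfl⟩, hBV, hsn⟩ := (hS V B).1 hB
      have hle' : MulAut.conj v • (MulAut.conj g • A) ≤ V := by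
        intro x hx
        rw [CfsgLib.Coprime.mem_conj_smul] at hx
        have := mul_mem (mul_mem hv (hBV hx)) (inv_mem hv)
        simpa [mul_assoc] using this
      refine (hS V _).2 ⟨⟨v * g, by rw [map_mul, mul_smul]⟩, hle', ?_⟩
      have he : (MulAut.conj v • (MulAut.conj g • A)).subgroupOf V =
          ((MulAut.conj g • A).subgroupOf V).map (MulAut.conj (⟨v, hv⟩ : V)).toMonoidHom := by
        rw [show ((MulAut.conj g • A).subgroupOf V).map (MulAut.conj (⟨v, hv⟩ : V)).toMonoidHom =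
            MulAut.conj (⟨v, hv⟩ : V) • (MulAut.conj g • A).subgroupOf V from rfl]
        ext z
        simp only [Subgroup.mem_subgroupOf, CfsgLib.Coprime.mem_conj_smul]
        rfl
      rw [he]
      exact Subgroup.IsSubnormal.map (MulAut.conj (⟨v, hv⟩ : V)).surjective hsn
    let S' : Set (Subgroup V) := (fun B => B.subgroupOf V) '' S V
    let T' : Set (Subgroup V) := (fun B => B.subgroupOf V) '' T
    have hmapT : (sSup T').map V.subtype = sSup T := by
      refine le_antisymm ?_ (sSup_le fun B hB => ?_)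
      · rw [Subgroup.map_le_iff_le_comap]
        refine sSup_le ?_
        rintro _ ⟨B, hB, rfl⟩
        exact Subgroup.comap_mono (le_sSup hB)
      · rw [← Subgroup.map_subgroupOf_eq_of_le (hle B (hT hB))]
        exact Subgroup.map_mono (le_sSup ⟨B, hB, rfl⟩)
    by_cases hTS : T' = S'
    · left
      intro v hv
      have key : ∀ v ∈ V, (sSup T).map (MulAut.conj v).toMonoidHom ≤ sSup T := by
        intro v hv
        rw [Subgroup.map_le_iff_le_comap]
        refine sSup_le fun B hB => ?_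
        rw [← Subgroup.map_le_iff_le_comap]
        have h1 := hconjV B (hT hB) v hv
        obtain ⟨B', hB', he⟩ : ((MulAut.conj v • B).subgroupOf V) ∈ T' := hTS ▸ ⟨_, h1, rfl⟩
        have he' : B' = MulAut.conj v • B := by
          rw [← Subgroup.map_subgroupOf_eq_of_le (hle B' (hT hB')),
            ← Subgroup.map_subgroupOf_eq_of_le (hle _ h1)]
          exact congrArg (Subgroup.map V.subtype) he
        rw [he'] at hB'
        exact le_sSup (a := MulAut.conj v • B) hB'
      rw [Subgroup.mem_normalizer_iff]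
      intro x
      constructor
      · exact fun hx => key v hv ⟨x, hx, rfl⟩
      · intro hx
        have h2 := key v⁻¹ (inv_mem hv) ⟨_, hx, rfl⟩
        simpa [mul_assoc] using h2
    · right
      have hss : T' ⊂ S' := lt_of_le_of_ne (Set.image_mono hT) hTS
      obtain ⟨X, ⟨B, hB, rfl⟩, hX0, hXn⟩ := Cfsg.Agent.S0539.result S' T'
        (by rintro _ ⟨B, hB, rfl⟩; exact ((hS V B).1 hB).2.2)
        (by
          rintro _ ⟨B, hB, rfl⟩ v
          refine ⟨MulAut.conj (v : G) • B, hconjV B hB v v.2, ?_⟩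
          ext z
          simp only [Subgroup.mem_subgroupOf, CfsgLib.Coprime.mem_conj_smul]
          rfl) hss
      refine ⟨B, hB, fun h => hX0 ⟨B, h, rfl⟩, ?_⟩
      rw [← hmapT]
      refine le_trans ?_ (Subgroup.le_normalizer_map V.subtype)
      rw [← Subgroup.map_subgroupOf_eq_of_le (hle B hB)]
      exact Subgroup.map_mono hXn
  -- maximal members
  obtain ⟨M, hM, hMmax⟩ := Set.Finite.exists_maximal (Set.toFinite U) hU
  refine ⟨M, hM, ?_⟩
  by_contra hne
  push Not at hne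
  obtain ⟨V₀, hV₀, hV₀M⟩ := hne
  let P : Set (Subgroup G × Subgroup G) :=
    {q | q.1 ∈ U ∧ q.2 ∈ U ∧ Maximal (· ∈ U) q.1 ∧ Maximal (· ∈ U) q.2 ∧ q.1 ≠ q.2}
  obtain ⟨V₁, hV₁, hV₁max⟩ := Set.Finite.exists_maximal (Set.toFinite {X | X ∈ U ∧ V₀ ≤ X})
    ⟨V₀, hV₀, le_rfl⟩
  have hV₁' : Maximal (· ∈ U) V₁ := ⟨hV₁.1, fun Y hY hle => hV₁max ⟨hY, hV₁.2.trans hle⟩ hle⟩
  have hPne : P.Nonempty := ⟨(M, V₁), hM, hV₁.1, ⟨hM, fun Y hY => hMmax hY⟩, hV₁',
    fun e => hV₀M (le_trans hV₁.2 (le_of_eq e.symm))⟩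
  obtain ⟨⟨V, W⟩, hVW, hbest⟩ := Set.exists_max_image P (fun q => (S q.1 ∩ S q.2).ncard)
    (Set.toFinite _) hPne
  obtain ⟨hVU, hWU, hVmax, hWmax, hVW'⟩ := hVW
  obtain ⟨X₀, hX₀, hNX₀⟩ := h3 V hVU W hWU
  obtain ⟨X, hX, hXmax'⟩ := Set.Finite.exists_maximal (Set.toFinite {X | X ∈ U ∧ X₀ ≤ X})
    ⟨X₀, hX₀, le_rfl⟩
  have hXmax : Maximal (· ∈ U) X := ⟨hX.1, fun Y hY hle => hXmax' ⟨hY, hX.2.trans hle⟩ hle⟩
  set T := S V ∩ S W with hT
  have hN : Subgroup.normalizer ((sSup T : Subgroup G) : Set G) ≤ X := hNX₀.trans hX.2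
  have hTX : T ⊆ S X := fun B hB =>
    h2 X hX.1 V hVU B hB.1 (((le_sSup hB).trans Subgroup.le_normalizer).trans hN)
  have main : ∀ V : Subgroup G, V ∈ U → Maximal (· ∈ U) V → T ⊆ S V →
      (∀ q ∈ P, (S q.1 ∩ S q.2).ncard ≤ T.ncard) → V = X := by
    intro V hV hVm hTV hb
    rcases step V T hTV with h | ⟨B, hB, hBT, hBn⟩
    · exact le_antisymm (h.trans hN) (hVm.2 hX.1 (h.trans hN))
    · by_contra hne
      have h5 := hb (V, X) ⟨hV, hX.1, hVm, hXmax, hne⟩
      have hlt : T.ncard < (S V ∩ S X).ncard := by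
        refine Set.ncard_lt_ncard ?_ (Set.toFinite _)
        refine ⟨fun C hC => ⟨hTV hC, hTX hC⟩, fun hle => hBT (hle ⟨hB, ?_⟩)⟩
        exact h2 X hX.1 V hV B hB (hBn.trans hN)
      exact absurd h5 (not_le.2 hlt)
  exact hVW' ((main V hVU hVmax (fun B hB => hB.1) hbest).trans
    (main W hWU hWmax (fun B hB => hB.2) hbest).symm)

end Cfsg.Agent.S0540
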