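import Cfsg.Statements.S0541
import Cfsg.Agent.S0539
import Cfsg.Agent.Lib.Base.Nilpotent
import Cfsg.Agent.Lib.Coprime.Basic

set_option autoImplicit false
open Pointwise
open Cfsg
open scoped Pointwise

namespace Cfsg.Agent.S0541

/-- Let Z and Y be subgroups of a finite group G and p a prime. Suppose that for every g in G the subgroup generated by the conjugates of g Z g⁻¹ under Y is a p-group. Then there is a Sylow p-subgroup P of G such that Y normalizes the subgroup generated by all conjugates of Z contained in P. -/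
theorem result {G : Type*} [Group G] [Finite G] (p : ℕ) [Fact p.Prime] (Z Y : Subgroup G) (h : ∀ g : G, IsPGroup p ↥(⨆ y ∈ Y, MulAut.conj (y * g) • Z)) : ∃ P : Sylow p G, Y ≤ Subgroup.normalizer ((⨆ g ∈ {g : G | MulAut.conj g • Z ≤ (P : Subgroup G)}, MulAut.conj g • Z : Subgroup G) : Set G) := by
  classical
  let gen : Subgroup G → Subgroup G := fun W =>
    ⨆ g ∈ {g : G | MulAut.conj g • Z ≤ W}, MulAut.conj g • Z
  have gen_le : ∀ W, gen W ≤ W := fun W => iSup₂_le fun g hg => hg
  have mem_gen : ∀ (W : Subgroup G) (g : G), MulAut.conj g • Z ≤ W → MulAut.conj g • Z ≤ gen W :=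
    fun W g hg => le_iSup₂ (f := fun g (_ : g ∈ {g : G | MulAut.conj g • Z ≤ W}) =>
      MulAut.conj g • Z) g hg
  let 𝒲 : Set (Subgroup G) :=
    {W | IsPGroup p W ∧ gen W = W ∧ Y ≤ Subgroup.normalizer (W : Set G)}
  have hne : 𝒲.Nonempty := ⟨⊥, IsPGroup.of_bot, le_bot_iff.1 (gen_le ⊥), fun y _ => by
    rw [Subgroup.mem_normalizer_iff]
    intro x
    simp⟩
  obtain ⟨W, hW, hmax⟩ := Set.Finite.exists_maximal (Set.toFinite 𝒲) hne
  obtain ⟨P, hP⟩ := hW.1.exists_le_sylow
  have : Y ≤ Subgroup.normalizer ((gen (P : Subgroup G) : Subgroup G) : Set G) := by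
    let S : Set (Subgroup (P : Subgroup G)) :=
      {U | ∃ g : G, MulAut.conj g • Z ≤ P ∧ U = (MulAut.conj g • Z).subgroupOf P}
    let S₀ : Set (Subgroup (P : Subgroup G)) :=
      {U | ∃ g : G, MulAut.conj g • Z ≤ W ∧ U = (MulAut.conj g • Z).subgroupOf P}
    by_cases hall : ∀ g : G, MulAut.conj g • Z ≤ P → MulAut.conj g • Z ≤ W
    · have he : gen (P : Subgroup G) = W := by
        refine le_antisymm (iSup₂_le fun g hg => hall g hg) ?_
        rw [← hW.2.1]
        exact iSup₂_le fun g hg => mem_gen _ g (le_trans hg hP)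
      rw [he]
      exact hW.2.2
    push Not at hall
    obtain ⟨g₀, hg₀P, hg₀W⟩ := hall
    haveI : Group.IsNilpotent (P : Subgroup G) := P.isPGroup'.isNilpotent
    have hss : S₀ ⊂ S := by
      refine ⟨?_, fun hle => ?_⟩
      · rintro U ⟨g, hg, rfl⟩
        exact ⟨g, le_trans hg hP, rfl⟩
      · obtain ⟨g, hg, he⟩ := hle ⟨g₀, hg₀P, rfl⟩
        refine hg₀W ?_
        rw [← Subgroup.map_subgroupOf_eq_of_le hg₀P, he,
          Subgroup.map_subgroupOf_eq_of_le (le_trans hg hP)]
        exact hg
    have hconj : ∀ U ∈ S, ∀ x : (P : Subgroup G), MulAut.conj x • U ∈ S := by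
      rintro U ⟨g, hg, rfl⟩ x
      have e1 : MulAut.conj ((x : G) * g) • Z = MulAut.conj (x : G) • MulAut.conj g • Z := by
        rw [map_mul, mul_smul]
      refine ⟨(x : G) * g, ?_, ?_⟩
      · rw [e1]
        intro z hz
        rw [CfsgLib.Coprime.mem_conj_smul] at hz
        have := mul_mem (mul_mem x.2 (hg hz)) (inv_mem x.2)
        simpa [mul_assoc] using this
      · ext z
        rw [e1, CfsgLib.Coprime.mem_conj_smul, Subgroup.mem_subgroupOf, Subgroup.mem_subgroupOf,
          CfsgLib.Coprime.mem_conj_smul (g := (x : G))]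
        rfl
    obtain ⟨X, hXS, hX0, hXn⟩ := Cfsg.Agent.S0539.result S S₀
      (fun U _ => CfsgLib.Base.isSubnormal_of_isNilpotent U) hconj hss
    have hsup : sSup S₀ = W.subgroupOf P := by
      refine le_antisymm (sSup_le ?_) ?_
      · rintro U ⟨g, hg, rfl⟩
        exact Subgroup.comap_mono hg
      · intro w hw
        have hle : W ≤ (sSup S₀).map (P : Subgroup G).subtype := by
          conv_lhs => rw [← hW.2.1]
          refine iSup₂_le fun g hg => ?_
          rw [← Subgroup.map_subgroupOf_eq_of_le (le_trans (hg : _ ≤ W) hP)]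
          exact Subgroup.map_mono (le_sSup ⟨g, hg, rfl⟩)
        obtain ⟨v, hv, hve⟩ := hle (Subgroup.mem_subgroupOf.1 hw)
        rwa [← Subtype.ext (hve : (v : G) = (w : G))]
    obtain ⟨g, hgP, rfl⟩ := hXS
    have hgW : ¬ MulAut.conj g • Z ≤ W := fun hle => hX0 ⟨g, hle, rfl⟩
    rw [hsup] at hXn
    have hgn : MulAut.conj g • Z ≤ Subgroup.normalizer (W : Set G) := by
      intro x hx
      have h1 := hXn (show (⟨x, hgP hx⟩ : (P : Subgroup G)) ∈ _ from hx)
      rw [Subgroup.mem_normalizer_iff] at h1 ⊢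
      intro w
      constructor
      · intro hw
        exact (h1 ⟨w, hP hw⟩).1 hw
      · intro hw
        have hwP : w ∈ (P : Subgroup G) := by
          have h2 := mul_mem (mul_mem (inv_mem (hgP hx)) (hP hw)) (hgP hx)
          simpa [mul_assoc] using h2
        exact (h1 ⟨w, hwP⟩).2 hw
    exfalso
    set T := ⨆ y ∈ Y, MulAut.conj (y * g) • Z with hT
    have hTn : T ≤ Subgroup.normalizer (W : Set G) := iSup₂_le fun y hy => by
      rw [map_mul, mul_smul]
      intro x hx
      rw [CfsgLib.Coprime.mem_conj_smul] at hx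
      have h2 := mul_mem (mul_mem (hW.2.2 hy) (hgn hx)) (inv_mem (hW.2.2 hy))
      simpa [mul_assoc] using h2
    have hTY : Y ≤ Subgroup.normalizer (T : Set G) := by
      intro y hy
      have key : ∀ y ∈ Y, T.map (MulAut.conj y).toMonoidHom ≤ T := by
        intro y hy
        rw [hT, Subgroup.map_iSup]
        refine iSup_le fun y' => ?_
        rw [Subgroup.map_iSup]
        refine iSup_le fun hy' => ?_
        refine le_trans (le_of_eq ?_) (le_iSup₂ (f := fun z (_ : z ∈ Y) => MulAut.conj (z * g) • Z)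
          (y * y') (mul_mem hy hy'))
        show MulAut.conj y • MulAut.conj (y' * g) • Z = _
        rw [smul_smul, ← map_mul, mul_assoc]
      rw [Subgroup.mem_normalizer_iff]
      intro x
      constructor
      · exact fun hx => key y hy ⟨x, hx, rfl⟩
      · intro hx
        have h2 := key y⁻¹ (inv_mem hy) ⟨_, hx, rfl⟩
        simpa [mul_assoc] using h2
    have hmem : W ⊔ T ∈ 𝒲 := by
      refine ⟨?_, le_antisymm (gen_le _) (sup_le ?_ ?_), ?_⟩
      · rw [sup_comm]
        exact IsPGroup.to_sup_of_normal_right' (h g) hW.1 hTn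
      · conv_lhs => rw [← hW.2.1]
        exact iSup₂_le fun u hu => mem_gen _ u (le_trans (hu : _ ≤ W) le_sup_left)
      · refine iSup₂_le fun y hy => mem_gen _ (y * g) (le_trans ?_ le_sup_right)
        exact le_iSup₂ (f := fun z (_ : z ∈ Y) => MulAut.conj (z * g) • Z) y hy
      · intro y hy
        have key : ∀ y ∈ Y, (W ⊔ T).map (MulAut.conj y).toMonoidHom ≤ W ⊔ T := by
          intro y hy
          rw [Subgroup.map_sup, sup_le_iff]
          constructor
          · rintro _ ⟨w, hw, rfl⟩
            exact Subgroup.mem_sup_left ((Subgroup.mem_normalizer_iff.1 (hW.2.2 hy) w).1 hw)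
          · rintro _ ⟨w, hw, rfl⟩
            exact Subgroup.mem_sup_right ((Subgroup.mem_normalizer_iff.1 (hTY hy) w).1 hw)
        rw [Subgroup.mem_normalizer_iff]
        intro x
        constructor
        · exact fun hx => key y hy ⟨x, hx, rfl⟩
        · intro hx
          have h2 := key y⁻¹ (inv_mem hy) ⟨_, hx, rfl⟩
          simpa [mul_assoc] using h2
    refine hgW (le_trans ?_ (hmax hmem le_sup_left))
    refine le_trans ?_ (le_sup_right : T ≤ W ⊔ T)
    have h1 := le_iSup₂ (f := fun z (_ : z ∈ Y) => MulAut.conj (z * g) • Z) 1 (one_mem Y)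
    rwa [one_mul] at h1
  exact ⟨P, this⟩

end Cfsg.Agent.S0541
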