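import Cfsg.Statements.S0548
import Cfsg.Agent.Lib.SolvStruct.Primitive

set_option autoImplicit false
open Cfsg

namespace Cfsg.Agent.S0548

/-- Let a finite solvable group G act faithfully and primitively on a set, let M be a minimal normal subgroup and H the stabilizer of a point. Then H is a complement to M, no non-identity element of H centralizes M, and the only subgroups of M normalized by H are the trivial subgroup and M. -/
theorem result {G : Type*} [Group G] [Finite G] [Group.IsSolvable G] {Ω : Type*} [MulAction G Ω] [FaithfulSMul G Ω] (hprim : MulAction.IsPreprimitive G Ω) (M : Subgroup G) [M.Normal] (hM : M ≠ ⊥) (hmin : ∀ K : Subgroup G, K.Normal → K ≤ M → K = ⊥ ∨ K = M) (ω : Ω) : Subgroup.IsComplement' M (MulAction.stabilizer G ω) ∧ MulAction.stabilizer G ω ⊓ Subgroup.centralizer (M : Set G) = ⊥ ∧ ∀ K : Subgroup G, K ≤ M → MulAction.stabilizer G ω ≤ Subgroup.normalizer (K : Set G) → K = ⊥ ∨ K = M := by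
  have hmn : CfsgLib.Base.IsMinimalNormal M := ⟨‹M.Normal›, hM, fun K hK hle => hmin K hK hle⟩
  have hab := hmn.isMulCommutative inferInstance
  haveI := hab
  have ht := CfsgLib.SolvStruct.isPretransitive_of_normal_of_ne_bot hprim M hM
  refine ⟨?_, ?_, ?_⟩
  · refine Subgroup.isComplement'_of_disjoint_and_mul_eq_univ ?_ ?_
    · rw [disjoint_iff, Subgroup.eq_bot_iff_forall]
      rintro m ⟨hm, hs⟩
      exact CfsgLib.SolvStruct.eq_one_of_smul_eq_of_abelian M ht hm hs
    · rw [Set.eq_univ_iff_forall]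
      intro g
      obtain ⟨m, hm, h, hh, rfl⟩ := CfsgLib.SolvStruct.exists_mul_stabilizer M ht ω g
      exact Set.mul_mem_mul hm hh
  · rw [Subgroup.eq_bot_iff_forall]
    rintro h ⟨hs, hc⟩
    refine FaithfulSMul.eq_of_smul_eq_smul (α := Ω) fun x => ?_
    obtain ⟨⟨k, hk⟩, hkx⟩ := ht.exists_smul_eq ω x
    have hkx' : k • ω = x := hkx
    have hs' : h • ω = ω := hs
    rw [one_smul, ← hkx', smul_smul, ← Subgroup.mem_centralizer_iff.1 hc k hk, ← smul_smul, hs']
  · intro K hK hn
    refine hmin K ?_ hK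
    constructor
    intro x hx g
    obtain ⟨m, hm, h, hh, rfl⟩ := CfsgLib.SolvStruct.exists_mul_stabilizer M ht ω g
    have h1 : h * x * h⁻¹ ∈ K := (Subgroup.mem_normalizer_iff.1 (hn hh) x).1 hx
    have hcomm : m * (h * x * h⁻¹) = (h * x * h⁻¹) * m :=
      congrArg Subtype.val (hab.is_comm.comm (⟨m, hm⟩ : M) ⟨_, hK h1⟩)
    have he : m * h * x * (m * h)⁻¹ = h * x * h⁻¹ := by
      calc m * h * x * (m * h)⁻¹ = m * (h * x * h⁻¹) * m⁻¹ := by group
        _ = _ := by rw [hcomm, mul_inv_cancel_right]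
    rw [he]
    exact h1

end Cfsg.Agent.S0548
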