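import Cfsg.Statements.S0549
import Mathlib

set_option autoImplicit false
open Cfsg

namespace Cfsg.Agent.S0549

/-- Let U be a maximal subgroup of a finite group G whose normal core is trivial, and N a nontrivial normal subgroup with centralizer C. Then C ∩ U = 1, and either C = 1 or C is a minimal normal subgroup of G. -/
theorem result {G : Type*} [Group G] [Finite G] (U : Subgroup G) (hU : IsCoatom U) (hcore : U.normalCore = ⊥) (N : Subgroup G) [N.Normal] (hN : N ≠ ⊥) : Subgroup.centralizer (N : Set G) ⊓ U = ⊥ ∧ (Subgroup.centralizer (N : Set G) = ⊥ ∨ (Subgroup.centralizer (N : Set G) ≠ ⊥ ∧ ∀ K : Subgroup G, K.Normal → K ≤ Subgroup.centralizer (N : Set G) → K = ⊥ ∨ K = Subgroup.centralizer (N : Set G))) := by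
  have key : ∀ (K : Subgroup G) [K.Normal], K ≠ ⊥ → K ⊔ U = ⊤ := by
    intro K _ hK
    refine hU.2 _ ?_
    rw [right_lt_sup]
    intro hle
    exact hK (le_bot_iff.1 (hcore ▸ Subgroup.normal_le_normalCore.2 hle))
  set C := Subgroup.centralizer (N : Set G) with hC
  haveI : C.Normal := inferInstanceAs (Subgroup.centralizer (N : Set G)).Normal
  have hCU : C ⊓ U = ⊥ := by
    have hn : (C ⊓ U).Normal := by
      rw [← Subgroup.normalizer_eq_top_iff, eq_top_iff, ← key N hN, sup_le_iff]
      constructor
      · refine le_trans ?_ (Subgroup.centralizer_le_normalizer _)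
        refine le_trans ?_ (Subgroup.centralizer_le (s := ((C ⊓ U : Subgroup G) : Set G))
          (t := (C : Set G)) inf_le_left)
        intro n hn
        exact Subgroup.mem_centralizer_iff.2 fun c hc =>
          ((Subgroup.mem_centralizer_iff.1 (show c ∈ C from hc)) n hn).symm
      · exact (le_inf Subgroup.le_normalizer_of_normal Subgroup.le_normalizer).trans
          Subgroup.inf_normalizer_le_normalizer_inf
    haveI := hn
    exact le_bot_iff.1 (hcore ▸ Subgroup.normal_le_normalCore.2 inf_le_right)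
  refine ⟨hCU, ?_⟩
  by_cases hb : C = ⊥
  · exact Or.inl hb
  refine Or.inr ⟨hb, fun K hK hle => ?_⟩
  by_cases hKb : K = ⊥
  · exact Or.inl hKb
  refine Or.inr (le_antisymm hle fun c hc => ?_)
  haveI := hK
  obtain ⟨k, hk, u, hu, rfl⟩ := Subgroup.mem_sup_of_normal_left.1 (key K hKb ▸ Subgroup.mem_top c)
  have : u ∈ C ⊓ U := ⟨(Subgroup.mul_mem_cancel_left C (hle hk)).1 hc, hu⟩
  rw [hCU, Subgroup.mem_bot] at this
  rw [this, mul_one]
  exact hk

end Cfsg.Agent.S0549
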