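import Cfsg.Statements.S0550
import Cfsg.Agent.Lib.Base.CoreFree

set_option autoImplicit false
open Cfsg

namespace Cfsg.Agent.S0550

/-- Let U be a maximal subgroup with trivial normal core in a finite group G, and A ≠ B two minimal normal subgroups. Then A is the centralizer of B and B that of A, U complements each of them, A and B are non-abelian, and A, B and (A ⊔ B) ∩ U are pairwise isomorphic. -/
theorem result {G : Type*} [Group G] [Finite G] (U : Subgroup G) (hU : IsCoatom U) (hcore : U.normalCore = ⊥) (A B : Subgroup G) [A.Normal] [B.Normal] (hA : A ≠ ⊥) (hB : B ≠ ⊥) (hAmin : ∀ K : Subgroup G, K.Normal → K ≤ A → K = ⊥ ∨ K = A) (hBmin : ∀ K : Subgroup G, K.Normal → K ≤ B → K = ⊥ ∨ K = B) (hAB : A ≠ B) : Subgroup.centralizer (B : Set G) = A ∧ Subgroup.centralizer (A : Set G) = B ∧ Subgroup.IsComplement' A U ∧ Subgroup.IsComplement' B U ∧ ¬ IsMulCommutative A ∧ Nonempty (A ≃* B) ∧ Nonempty (A ≃* ↥((A ⊔ B) ⊓ U)) := by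
  open CfsgLib.Base in
  have hAi : IsMinimalNormal A := ⟨inferInstance, hA, hAmin⟩
  have hBi : CfsgLib.Base.IsMinimalNormal B := ⟨inferInstance, hB, hBmin⟩
  have hBA : B ≤ Subgroup.centralizer (A : Set G) := hBi.le_centralizer_of_ne hAi (Ne.symm hAB)
  have hAB' : A ≤ Subgroup.centralizer (B : Set G) := hAi.le_centralizer_of_ne hBi hAB
  have hAU : A ⊓ U = ⊥ := CfsgLib.Base.CoreFree.normal_inf hU hcore hB hBA
  have hBU : B ⊓ U = ⊥ := CfsgLib.Base.CoreFree.normal_inf hU hcore hA hAB'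
  have hCB : Subgroup.centralizer (B : Set G) = A :=
    CfsgLib.Base.CoreFree.eq_of_inf_eq_bot hU hcore hA hAB'
      (CfsgLib.Base.CoreFree.normal_inf hU hcore hB (Subgroup.le_centralizer_iff.1 le_rfl))
  have hCA : Subgroup.centralizer (A : Set G) = B :=
    CfsgLib.Base.CoreFree.eq_of_inf_eq_bot hU hcore hB hBA
      (CfsgLib.Base.CoreFree.normal_inf hU hcore hA (Subgroup.le_centralizer_iff.1 le_rfl))
  have hcA := CfsgLib.Base.CoreFree.isComplement' hU hcore hA hAU
  have hcB := CfsgLib.Base.CoreFree.isComplement' hU hcore hB hBU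
  have hinf : A ⊓ B = ⊥ := (hAi.le_or_inf_eq_bot B).resolve_left fun h =>
    hAB ((hBmin A inferInstance h).resolve_left hA)
  have key : ∀ (X Y : Subgroup G) [X.Normal], Subgroup.IsComplement' X U → X ⊓ Y = ⊥ →
      Nonempty (Y ≃* ↥((X ⊔ Y) ⊓ U)) := by
    intro X Y _ hc hXY
    set e := hc.symm.QuotientMulEquiv with he
    have hsymm : ∀ u : U, e.symm u = QuotientGroup.mk' X (u : G) := fun u => rfl
    set f : Y →* U := (e.toMonoidHom.comp (QuotientGroup.mk' X)).comp Y.subtype
    have hf : ∀ y : Y, QuotientGroup.mk' X ((f y : U) : G) = QuotientGroup.mk' X (y : G) := fun y => by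
      rw [← hsymm]; exact e.symm_apply_apply _
    have hinj : Function.Injective f := by
      rw [← MonoidHom.ker_eq_bot_iff, Subgroup.eq_bot_iff_forall]
      intro y hy
      have h1 := hf y
      rw [MonoidHom.mem_ker.1 hy, OneMemClass.coe_one, map_one, eq_comm, QuotientGroup.mk'_apply,
        QuotientGroup.eq_one_iff] at h1
      exact Subtype.ext (Subgroup.mem_bot.1 (hXY.le ⟨h1, y.2⟩))
    have hrange : ((f.range).map U.subtype) = (X ⊔ Y) ⊓ U := by
      apply le_antisymm
      · rintro _ ⟨_, ⟨y, rfl⟩, rfl⟩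
        refine ⟨?_, (f y).2⟩
        have h1 := hf y
        rw [QuotientGroup.mk'_apply, QuotientGroup.mk'_apply, eq_comm, QuotientGroup.eq] at h1
        simpa using (X ⊔ Y).mul_mem (Subgroup.mem_sup_right y.2) (Subgroup.mem_sup_left h1)
      · rintro u ⟨huXY, hu⟩
        obtain ⟨x, hx, y, hy, hxy⟩ := Subgroup.mem_sup_of_normal_left.1 huXY
        refine ⟨f ⟨y, hy⟩, ⟨_, rfl⟩, ?_⟩
        have h1 : e.symm (f ⟨y, hy⟩) = e.symm ⟨u, hu⟩ := by
          rw [hsymm, hsymm, hf]
          show QuotientGroup.mk' X y = QuotientGroup.mk' X u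
          rw [← hxy, map_mul]
          simp [hx]
        exact congrArg Subtype.val (e.symm.injective h1)
    exact ⟨(MonoidHom.ofInjective hinj).trans ((f.range.equivMapOfInjective _ U.subtype_injective).trans
      (MulEquiv.subgroupCongr hrange))⟩
  obtain ⟨e₁⟩ := key A B hcA hinf
  obtain ⟨e₂⟩ := key B A hcB (by rw [inf_comm]; exact hinf)
  have hswap : (B ⊔ A) ⊓ U = (A ⊔ B) ⊓ U := by rw [sup_comm]
  refine ⟨hCB, hCA, hcA, hcB, fun hcomm => ?_, ⟨(e₂.trans (MulEquiv.subgroupCongr hswap)).trans e₁.symm⟩,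
    ⟨e₂.trans (MulEquiv.subgroupCongr hswap)⟩⟩
  haveI := hcomm
  exact hAB ((hBmin A inferInstance (hCA ▸ A.le_centralizer)).resolve_left hA)

end Cfsg.Agent.S0550
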