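import Cfsg.Statements.S0551
import Cfsg.Agent.Lib.Base.CoreFree
import Cfsg.Agent.Lib.Base.Nilpotent
import Cfsg.Agent.Lib.Coprime.SchurZassenhaus

set_option autoImplicit false
open Pointwise
open Cfsg

namespace Cfsg.Agent.S0551

/-- In a finite solvable group all core-free maximal subgroups are conjugate. -/
theorem result {G : Type*} [Group G] [Finite G] [Group.IsSolvable G] (U V : Subgroup G) (hU : IsCoatom U) (hV : IsCoatom V) (hUc : U.normalCore = ⊥) (hVc : V.normalCore = ⊥) : ∃ g : G, MulAut.conj g • U = V := by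
  rcases subsingleton_or_nontrivial G with hs | hs
  · exact ⟨1, Subsingleton.elim _ _⟩
  obtain ⟨A, hA⟩ := CfsgLib.Base.exists_isMinimalNormal (G := G)
  haveI := hA.normal
  obtain ⟨p, hp, hAc, -, hAp⟩ := hA.exists_prime inferInstance
  haveI := Fact.mk hp
  haveI := hAc
  have hAU : A ⊓ U = ⊥ := CfsgLib.Base.CoreFree.normal_inf hU hUc hA.ne_bot A.le_centralizer
  have hAV : A ⊓ V = ⊥ := CfsgLib.Base.CoreFree.normal_inf hV hVc hA.ne_bot A.le_centralizer
  have hcU := CfsgLib.Base.CoreFree.isComplement' hU hUc hA.ne_bot hAU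
  have hcV := CfsgLib.Base.CoreFree.isComplement' hV hVc hA.ne_bot hAV
  have hCA : Subgroup.centralizer (A : Set G) = A :=
    CfsgLib.Base.CoreFree.eq_of_inf_eq_bot hU hUc hA.ne_bot A.le_centralizer
      (CfsgLib.Base.CoreFree.normal_inf hU hUc hA.ne_bot (Subgroup.le_centralizer_iff.1 le_rfl))
  rcases subsingleton_or_nontrivial (G ⧸ A) with hq | hq
  · have hAtop : A = ⊤ := QuotientGroup.subsingleton_iff.1 hq
    refine ⟨1, ?_⟩
    rw [hAtop, top_inf_eq] at hAU hAV
    rw [map_one, one_smul, hAU, hAV]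
  obtain ⟨Bb, hB⟩ := CfsgLib.Base.exists_isMinimalNormal (G := G ⧸ A)
  haveI := hB.normal
  obtain ⟨q, hq', -, -, hBq⟩ := hB.exists_prime inferInstance
  haveI := Fact.mk hq'
  set B := Bb.comap (QuotientGroup.mk' A) with hBdef
  haveI hBn : B.Normal := Subgroup.Normal.comap inferInstance _
  have hAB : A ≤ B := QuotientGroup.le_comap_mk' A Bb
  have hne : B ≠ A := fun e => hB.ne_bot (by
    rw [← CfsgLib.Base.map_mk'_comap A Bb, ← hBdef, e, QuotientGroup.map_mk'_self])
  have hBmul : ∀ (W : Subgroup G), A ⊔ W = ⊤ → B = A ⊔ W ⊓ B := fun W hW => by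
    refine le_antisymm (fun b hb => ?_) (sup_le hAB inf_le_right)
    obtain ⟨a, ha, w, hw, rfl⟩ := Subgroup.mem_sup_of_normal_left.1 (hW.ge (Subgroup.mem_top b))
    exact Subgroup.mul_mem_sup ha ⟨hw, by simpa using B.mul_mem (B.inv_mem (hAB ha)) hb⟩
  have hU1 := hBmul U (by rw [sup_comm]; exact CfsgLib.Base.CoreFree.sup_eq_top hU hUc hA.ne_bot)
  have hV1 := hBmul V (by rw [sup_comm]; exact CfsgLib.Base.CoreFree.sup_eq_top hV hVc hA.ne_bot)
  have hcard : ∀ (W : Subgroup G), A ⊓ W = ⊥ → B = A ⊔ W ⊓ B →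
      Nat.card ↥(W ⊓ B) = Nat.card Bb := fun W hW h1 => by
    have h2 : Nat.card B = Nat.card A * Nat.card Bb := by
      rw [hBdef, CfsgLib.Base.card_comap_mk']
    have h3 : Nat.card ↥((W ⊓ B) ⊔ A) = Nat.card ↥(W ⊓ B) * Nat.card A :=
      CfsgLib.Base.card_sup_of_disjoint _ A
        (le_bot_iff.1 ((inf_le_inf_right A inf_le_left).trans (by rw [inf_comm, hW])))
    rw [sup_comm, ← h1, h2, mul_comm (Nat.card ↥(W ⊓ B))] at h3
    exact (Nat.eq_of_mul_eq_mul_left Nat.card_pos h3).symm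
  have hpq : p ≠ q := by
    rintro rfl
    have hBp : IsPGroup p B := hBq.comap_of_ker_isPGroup _ (by rw [QuotientGroup.ker_mk']; exact hAp)
    refine hne (le_antisymm ?_ hAB)
    rw [← hCA, Subgroup.le_centralizer_iff]
    have hZn : (B ⊓ Subgroup.centralizer (B : Set G)).Normal := inferInstance
    refine fun a ha => ((hA.le_or_inf_eq_bot (B ⊓ Subgroup.centralizer (B : Set G))).resolve_right
      fun h0 => ?_) ha |>.2
    haveI : Nontrivial (A.subgroupOf B) := (Subgroup.nontrivial_iff_ne_bot _).2 fun e =>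
      hA.ne_bot (by rwa [Subgroup.subgroupOf_eq_bot, disjoint_iff, inf_eq_left.2 hAB] at e)
    haveI := hBp.isNilpotent
    obtain ⟨z, hz, hz1⟩ := (Subgroup.bot_or_exists_ne_one _).resolve_left
      (CfsgLib.Base.inf_center_ne_bot_of_isNilpotent
        ((Subgroup.nontrivial_iff_ne_bot (A.subgroupOf B)).1 inferInstance))
    refine hz1 (Subtype.ext (Subgroup.mem_bot.1 (h0.le ⟨hz.1, z.2, ?_⟩)))
    exact Subgroup.mem_centralizer_iff.2 fun b hb =>
      congrArg Subtype.val (Subgroup.mem_center_iff.1 hz.2 ⟨b, hb⟩)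
  have hcop : (Nat.card A).Coprime (Nat.card ↥(U ⊓ B)) := by
    obtain ⟨m, hm⟩ := IsPGroup.iff_card.1 hAp
    obtain ⟨k, hk⟩ := IsPGroup.iff_card.1 hBq
    rw [hcard U hAU hU1, hm, hk]
    exact ((Nat.coprime_primes hp hq').2 hpq).pow m k
  obtain ⟨a, -, ha⟩ := CfsgLib.Coprime.sz_conj_of_solvable (N := A) inferInstance
    (H := U ⊓ B) (K := V ⊓ B)
    (le_bot_iff.1 ((inf_le_inf_right A inf_le_left).trans (by rw [inf_comm, hAU])))
    (le_bot_iff.1 ((inf_le_inf_right A inf_le_left).trans (by rw [inf_comm, hAV])))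
    (inf_le_right.trans hV1.le) (inf_le_right.trans hU1.le) hcop
  refine ⟨a, ?_⟩
  have hnorm : ∀ (W : Subgroup G), IsCoatom W → W.normalCore = ⊥ → W ⊓ B ≠ ⊥ →
      Subgroup.normalizer ((W ⊓ B : Subgroup G) : Set G) = W := fun W hW hWc h0 => by
    have hle : W ≤ Subgroup.normalizer ((W ⊓ B : Subgroup G) : Set G) := fun w hw => by
      refine CfsgLib.Base.map_conj_eq_self_iff.1 ?_
      rw [Subgroup.map_inf _ _ _ (MulAut.conj w).injective,
        CfsgLib.Base.map_conj_eq_self_iff.2 (Subgroup.le_normalizer hw),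
        CfsgLib.Base.map_conj_eq_self_iff.2 (by rw [Subgroup.normalizer_eq_top_iff.2 hBn]; trivial)]
    rcases hle.eq_or_lt with h | h
    · exact h.symm
    · haveI := Subgroup.normalizer_eq_top_iff.1 (hW.2 _ h)
      exact absurd (CfsgLib.Base.CoreFree.eq_bot_of_le hWc (inf_le_left (b := B))) h0
  have hUne : U ⊓ B ≠ ⊥ := fun e => hne (by rw [hU1, e, sup_bot_eq])
  have hVne : V ⊓ B ≠ ⊥ := fun e => hne (by rw [hV1, e, sup_bot_eq])
  rw [← hnorm U hU hUc hUne, ← hnorm V hV hVc hVne, ← ha, ← CfsgLib.Base.map_conj_eq_smul,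
    ← CfsgLib.Base.map_conj_eq_smul,
    Subgroup.map_normalizer_eq_of_bijective _ (MulAut.conj a).bijective]

end Cfsg.Agent.S0551
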