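import Cfsg.Statements.S0552
import Cfsg.Agent.Lib.Base.MinimalNormal

set_option autoImplicit false
open Cfsg

namespace Cfsg.Agent.S0552

/-- Let σ be an automorphism of a finite solvable group G fixing every element of the Fitting subgroup. If σ is not the identity then the order of σ and the order of G have a common prime factor. -/
theorem result {G : Type*} [Group G] [Finite G] [Group.IsSolvable G] (σ : G ≃* G) (hσ : ∀ x ∈ Cfsg.fittingSubgroup G, σ x = x) (hne : σ ≠ MulEquiv.refl G) : ¬ (orderOf σ).Coprime (Nat.card G) := by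
  intro hcop
  apply hne
  set F := Cfsg.fittingSubgroup G with hF
  haveI : F.Normal := CfsgLib.Base.fittingSubgroup_normal' G
  ext x
  have hz : x⁻¹ * σ x ∈ F := by
    refine CfsgLib.Base.centralizer_fittingSubgroup_le (Subgroup.mem_centralizer_iff.2 fun f hf => ?_)
    have hf' : x * f * x⁻¹ ∈ F := (inferInstance : F.Normal).conj_mem f hf x
    have h1 : σ (x * f * x⁻¹) = x * f * x⁻¹ := hσ _ hf'
    rw [map_mul, map_mul, map_inv, hσ f hf] at h1
    have h2 : σ x * f = x * f * x⁻¹ * σ x := by rw [← h1]; group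
    calc f * (x⁻¹ * σ x) = x⁻¹ * (x * f * x⁻¹ * σ x) := by group
      _ = x⁻¹ * σ x * f := by rw [← h2]; group
  set z := x⁻¹ * σ x with hzdef
  have hx : σ x = x * z := by rw [hzdef, mul_inv_cancel_left]
  have hit : ∀ n : ℕ, (σ ^ n : MulAut G) x = x * z ^ n := by
    intro n
    induction n with
    | zero => simp
    | succ n ih =>
      rw [pow_succ', MulAut.mul_apply, ih, map_mul, hx, map_pow, hσ z hz, mul_assoc, ← pow_succ']
  have hz1 : z ^ orderOf (σ : MulAut G) = 1 := by
    have h1 := hit (orderOf (σ : MulAut G))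
    rw [pow_orderOf_eq_one, MulAut.one_apply] at h1
    exact mul_eq_left.1 h1.symm
  have hz0 : z = 1 := by
    rw [← orderOf_eq_one_iff]
    exact Nat.eq_one_of_dvd_coprimes hcop (orderOf_dvd_of_pow_eq_one hz1) (orderOf_dvd_natCard z)
  rw [MulEquiv.refl_apply, hx, hz0, mul_one]

end Cfsg.Agent.S0552
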