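import Cfsg.Statements.S0553
import Cfsg.Agent.Lib.Base.MinimalNormal
import Cfsg.Agent.Lib.Coprime.SchurZassenhaus

set_option autoImplicit false
open Cfsg

namespace Cfsg.Agent.S0553

/-- Let G be a nontrivial finite solvable group in which every maximal subgroup has order coprime to its index. Then for some prime p dividing the order of G the Sylow p-subgroups of G are normal. -/
theorem result {G : Type*} [Group G] [Finite G] [Group.IsSolvable G] [Nontrivial G] (h : ∀ M : Subgroup G, IsCoatom M → (Nat.card M).Coprime M.index) : ∃ p : ℕ, p.Prime ∧ p ∣ Nat.card G ∧ ∀ P : Sylow p G, (P : Subgroup G).Normal := by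
  suffices key : ∀ n : ℕ, ∀ (G : Type u_1) [Group G] [Finite G] [Group.IsSolvable G],
      Nat.card G = n → Nontrivial G → (∀ M : Subgroup G, IsCoatom M → (Nat.card M).Coprime M.index) →
      ∃ p : ℕ, p.Prime ∧ p ∣ Nat.card G ∧ ∀ P : Sylow p G, (P : Subgroup G).Normal from
    key _ G rfl inferInstance h
  intro n
  induction n using Nat.strong_induction_on with
  | _ n ih =>
  intro G _ _ _ hn hnt h
  subst hn
  haveI := hnt
  -- it suffices to find one normal Sylow subgroup
  suffices hone : ∃ p : ℕ, p.Prime ∧ p ∣ Nat.card G ∧ ∃ P : Sylow p G, (P : Subgroup G).Normal by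
    obtain ⟨p, hp, hpd, P, hP⟩ := hone
    haveI := Fact.mk hp
    haveI : Unique (Sylow p G) := Sylow.unique_of_normal P hP
    exact ⟨p, hp, hpd, fun Q => by rw [Subsingleton.elim Q P]; exact hP⟩
  obtain ⟨N, hN⟩ := CfsgLib.Base.exists_isMinimalNormal (G := G)
  haveI := hN.normal
  obtain ⟨p, hp, hNc, -, hNp⟩ := hN.exists_prime inferInstance
  haveI := Fact.mk hp
  haveI := hNc
  have hpN : p ∣ Nat.card N := by
    obtain ⟨k, hk⟩ := IsPGroup.iff_card.1 hNp
    rcases Nat.eq_zero_or_pos k with rfl | hk0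
    · exact absurd (N.eq_bot_of_card_eq (by simpa using hk)) hN.ne_bot
    · exact hk ▸ dvd_pow_self p hk0.ne'
  have hpG : p ∣ Nat.card G := hpN.trans N.card_subgroup_dvd_card
  rcases subsingleton_or_nontrivial (G ⧸ N) with hq | hq
  · have hNtop : N = ⊤ := QuotientGroup.subsingleton_iff.1 hq
    obtain ⟨P⟩ := (inferInstance : Nonempty (Sylow p G))
    have hG : IsPGroup p G := (hNtop ▸ hNp).of_equiv Subgroup.topEquiv
    refine ⟨p, hp, hpG, P, ?_⟩
    rw [← P.is_maximal' (hG.to_subgroup ⊤) le_top]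
    infer_instance
  have hquot : ∀ M : Subgroup (G ⧸ N), IsCoatom M → (Nat.card M).Coprime M.index := by
    intro M hM
    have hco : IsCoatom (M.comap (QuotientGroup.mk' N)) :=
      Subgroup.isCoatom_comap_of_surjective (QuotientGroup.mk'_surjective N) hM
    have h1 := h _ hco
    rw [Subgroup.index_comap_of_surjective _ (QuotientGroup.mk'_surjective N),
      CfsgLib.Base.card_comap_mk'] at h1
    exact h1.coprime_dvd_left (Dvd.intro_left _ rfl)
  obtain ⟨q, hq', hqd, hall⟩ := ih _ (CfsgLib.Coprime.card_quotient_lt hN.ne_bot) (G ⧸ N) rfl hq hquot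
  haveI := Fact.mk hq'
  have hqG : q ∣ Nat.card G := hqd.trans (Subgroup.card_quotient_dvd_card N)
  obtain ⟨S⟩ := (inferInstance : Nonempty (Sylow q G))
  by_cases hqp : q = p
  · subst hqp
    refine ⟨q, hq', hqG, S, ?_⟩
    have h1 : ((S : Subgroup G).map (QuotientGroup.mk' N)).Normal :=
      hall (S.mapSurjective (QuotientGroup.mk'_surjective N))
    have h2 := h1.comap (QuotientGroup.mk' N)
    rw [CfsgLib.Base.comap_map_mk'] at h2
    have hle : N ≤ (S : Subgroup G) := hNp.le_sylow_of_normal S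
    rwa [sup_eq_left.2 hle] at h2
  set B := ((S : Subgroup G).map (QuotientGroup.mk' N)).comap (QuotientGroup.mk' N) with hB
  haveI : B.Normal := (hall (S.mapSurjective (QuotientGroup.mk'_surjective N))).comap _
  have hB' : B = (S : Subgroup G) ⊔ N := CfsgLib.Base.comap_map_mk' _ _
  by_cases hSn : (S : Subgroup G).Normal
  · exact ⟨q, hq', hqG, S, hSn⟩
  have hSB : (S : Subgroup G) ≤ B := hB' ▸ le_sup_left
  have hfr : Subgroup.normalizer ((S : Subgroup G) : Set G) ⊔ N = ⊤ := by
    have h1 := Sylow.normalizer_sup_eq_top (S.subtype hSB)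
    rw [Sylow.coe_subtype, Subgroup.map_subgroupOf_eq_of_le hSB, hB', ← sup_assoc,
      sup_eq_left.2 Subgroup.le_normalizer] at h1
    exact h1
  obtain ⟨M, hM, hNM⟩ : ∃ M, IsCoatom M ∧ Subgroup.normalizer ((S : Subgroup G) : Set G) ≤ M :=
    (eq_top_or_exists_le_coatom _).resolve_left fun e => hSn (Subgroup.normalizer_eq_top_iff.1 e)
  have hsup : M ⊔ N = ⊤ := eq_top_iff.2 (hfr.ge.trans (sup_le_sup_right hNM N))
  have hinf : M ⊓ N = ⊥ := by
    have hn : (⊤ : Subgroup G) ≤ Subgroup.normalizer ((M ⊓ N : Subgroup G) : Set G) := by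
      rw [← hsup, sup_le_iff]
      constructor
      · intro x hx
        refine CfsgLib.Base.map_conj_eq_self_iff.1 ?_
        rw [Subgroup.map_inf _ _ _ (MulAut.conj x).injective,
          CfsgLib.Base.map_conj_eq_self_iff.2 (Subgroup.le_normalizer hx),
          CfsgLib.Base.map_conj_eq_self_iff.2 (by rw [Subgroup.normalizer_eq_top_iff.2 hN.normal]; trivial)]
      · exact (N.le_centralizer.trans (Subgroup.centralizer_le inf_le_right)).trans
          (Subgroup.centralizer_le_normalizer _)
    refine (hN.eq_bot_or_eq (Subgroup.normalizer_eq_top_iff.1 (top_le_iff.1 hn)) inf_le_right).resolve_right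
      fun e => hM.1 ?_
    rw [← hsup, eq_comm, sup_eq_left, ← e]
    exact inf_le_left
  have hidx : M.index = Nat.card N := by
    have h1 := CfsgLib.Base.card_sup_of_disjoint M N hinf
    rw [hsup, Subgroup.card_top, ← M.card_mul_index] at h1
    exact Nat.eq_of_mul_eq_mul_left Nat.card_pos h1
  obtain ⟨P', hNP'⟩ := hNp.exists_le_sylow
  have hcopM := h M hM
  rw [hidx] at hcopM
  have hpM : ¬ p ∣ Nat.card M := fun hd => hp.one_lt.ne' (Nat.eq_one_of_dvd_coprimes hcopM hd hpN)
  have hNi : ¬ p ∣ N.index := by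
    intro hd
    have h2 := CfsgLib.Base.card_sup_of_disjoint M N hinf
    rw [hsup, Subgroup.card_top, ← N.index_mul_card] at h2
    exact hpM ((Nat.eq_of_mul_eq_mul_right Nat.card_pos h2) ▸ hd)
  exact ⟨p, hp, hpG, hNp.toSylow hNi, by simpa using hN.normal⟩

end Cfsg.Agent.S0553
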