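import Cfsg.Statements.S0554
import Cfsg.Agent.Lib.Coprime.Basic

set_option autoImplicit false
open Cfsg

namespace Cfsg.Agent.S0554

universe u

theorem absorb_normal {G : Type u} [Group G] (N : Subgroup G) [N.Normal] :
    ∀ (t : ℕ) (f : Fin t → Subgroup G) (i : Fin t), N ≤ f i → ∀ s : Fin t → G, (∀ j, s j ∈ f j) →
      ∀ n ∈ N, ∃ s' : Fin t → G, (∀ j, s' j ∈ f j) ∧ (List.ofFn s).prod * n = (List.ofFn s').prod := by
  intro t
  induction t with
  | zero => exact fun f i => i.elim0
  | succ t ih =>
    intro f i hi s hs n hn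
    cases i using Fin.cases with
    | zero =>
      set r := (List.ofFn fun j : Fin t => s j.succ).prod with hr
      have hn' : r * n * r⁻¹ ∈ N := (inferInstance : N.Normal).conj_mem n hn r
      refine ⟨Fin.cons (s 0 * (r * n * r⁻¹)) fun j => s j.succ, fun j => ?_, ?_⟩
      · cases j using Fin.cases with
        | zero => simpa using mul_mem (hs 0) (hi hn')
        | succ j => simpa using hs j.succ
      · rw [List.ofFn_succ, List.prod_cons, List.ofFn_succ, List.prod_cons]
        simp only [Fin.cons_zero, Fin.cons_succ]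
        rw [← hr]
        group
    | succ i =>
      obtain ⟨s', hs', he⟩ := ih (fun j => f j.succ) i hi (fun j => s j.succ) (fun j => hs j.succ) n hn
      refine ⟨Fin.cons (s 0) s', fun j => ?_, ?_⟩
      · cases j using Fin.cases with
        | zero => simpa using hs 0
        | succ j => simpa using hs' j
      · rw [List.ofFn_succ, List.prod_cons, List.ofFn_succ, List.prod_cons]
        simp only [Fin.cons_zero, Fin.cons_succ]
        rw [mul_assoc, he]

theorem sylow_prod_eq {G : Type u} [Group G] [Finite G] [Group.IsSolvable G] (t : ℕ) (p : Fin t → ℕ)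
    (hp : ∀ i, (p i).Prime) (hinj : Function.Injective p)
    (hall : ∀ q : ℕ, q.Prime → q ∣ Nat.card G → ∃ i, p i = q) (S : (i : Fin t) → Sylow (p i) G) :
    ∀ g : G, ∃ s : (i : Fin t) → G, (∀ i, s i ∈ (S i : Subgroup G)) ∧ g = (List.ofFn s).prod := by
  induction hn : Nat.card G using Nat.strong_induction_on generalizing G with
  | _ n ih =>
  subst hn
  intro g
  rcases subsingleton_or_nontrivial G with h | h
  · exact ⟨fun _ => 1, fun i => one_mem _, Subsingleton.elim _ _⟩
  obtain ⟨q, N, hq, hN, hNne, -, hpow⟩ := CfsgLib.Coprime.exists_normal_elementaryAbelian (G := G)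
  haveI := hN
  haveI := Fact.mk hq
  have hNp : IsPGroup q N := fun x => ⟨1, by rw [pow_one]; exact Subtype.ext (hpow x x.2)⟩
  have hdvd : q ∣ Nat.card N := by
    haveI : Nontrivial N := (Subgroup.nontrivial_iff_ne_bot N).2 hNne
    rcases hNp.card_eq_or_dvd with h1 | h1
    · exact absurd (Subgroup.card_eq_one.1 h1) hNne
    · exact h1
  obtain ⟨i, hi⟩ := hall q hq (hdvd.trans (Subgroup.card_subgroup_dvd_card N))
  subst hi
  have hNle : N ≤ (S i : Subgroup G) := by
    obtain ⟨P, hP⟩ := hNp.exists_le_sylow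
    obtain ⟨z, hz⟩ := MulAction.exists_smul_eq G P (S i)
    rw [← hz]
    intro x hx
    refine ⟨z⁻¹ * x * z⁻¹⁻¹, hP (hN.conj_mem x hx z⁻¹), ?_⟩
    change z * (z⁻¹ * x * z⁻¹⁻¹) * z⁻¹ = x
    group
  have hlt : Nat.card (G ⧸ N) < Nat.card G := by
    conv_rhs => rw [Subgroup.card_eq_card_quotient_mul_card_subgroup N]
    exact lt_mul_of_one_lt_right Nat.card_pos ((Subgroup.one_lt_card_iff_ne_bot N).2 hNne)
  haveI : ∀ j, Fact (p j).Prime := fun j => ⟨hp j⟩
  obtain ⟨s, hs, hse⟩ := ih _ hlt
    (fun r hr hrd => hall r hr (hrd.trans (Subgroup.card_quotient_dvd_card N)))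
    (fun j => (S j).mapSurjective (QuotientGroup.mk'_surjective N)) rfl (QuotientGroup.mk' N g)
  choose u hu hue using fun j => hs j
  have hprod : QuotientGroup.mk' N (List.ofFn u).prod = QuotientGroup.mk' N g := by
    rw [map_list_prod, List.map_ofFn, hse]
    congr 1
    exact congrArg List.ofFn (funext hue)
  have hmem : (List.ofFn u).prod⁻¹ * g ∈ N := QuotientGroup.eq.1 hprod
  obtain ⟨s', hs', he⟩ := absorb_normal N t (fun j => (S j : Subgroup G)) i hNle u hu _ hmem
  exact ⟨s', hs', by rw [← he, mul_inv_cancel_left]⟩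

/-- Let G be a finite solvable group and let S assign to each of t distinct primes, including every prime divisor of the order of G, a Sylow subgroup of G. Then every element of G is a product s_0 s_1 ⋯ s_(t-1) with s_i in S i, the factors taken in the given order. -/
theorem result {G : Type*} [Group G] [Finite G] [Group.IsSolvable G] (t : ℕ) (p : Fin t → ℕ) (hp : ∀ i, (p i).Prime) (hinj : Function.Injective p) (hall : ∀ q : ℕ, q.Prime → q ∣ Nat.card G → ∃ i, p i = q) (S : (i : Fin t) → Sylow (p i) G) : ∀ g : G, ∃ s : (i : Fin t) → G, (∀ i, s i ∈ (S i : Subgroup G)) ∧ g = (List.ofFn s).prod := by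
  exact sylow_prod_eq t p hp hinj hall S

end Cfsg.Agent.S0554
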