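import Cfsg.Statements.S0555
import Mathlib

set_option autoImplicit false
open Cfsg
open scoped commutatorElement

namespace Cfsg.Agent.S0555

/-- Let i ≥ 1. If in the derived series of a group the quotient of the i-th term by the (i+1)-st and the quotient of the (i+1)-st by the (i+2)-nd are both cyclic, then the (i+1)-st and (i+2)-nd terms coincide. -/
theorem result {G : Type*} [Group G] (i : ℕ) (hi : 1 ≤ i) (h₁ : IsCyclic (↥(derivedSeries G i) ⧸ (derivedSeries G (i + 1)).subgroupOf (derivedSeries G i))) (h₂ : IsCyclic (↥(derivedSeries G (i + 1)) ⧸ (derivedSeries G (i + 2)).subgroupOf (derivedSeries G (i + 1)))) : derivedSeries G (i + 1) = derivedSeries G (i + 2) := by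
  refine le_antisymm ?_ (derivedSeries_antitone G (Nat.le_succ _))
  set A := derivedSeries G i with hA
  set B := derivedSeries G (i + 1) with hB
  set C := derivedSeries G (i + 2) with hC
  haveI := derivedSeries_normal G i
  haveI := derivedSeries_normal G (i + 1)
  haveI := derivedSeries_normal G (i + 2)
  have hBA : B ≤ A := derivedSeries_antitone G (Nat.le_succ _)
  have hCB : C ≤ B := derivedSeries_antitone G (Nat.le_succ _)
  set π := QuotientGroup.mk' C with hπ
  have gen : ∀ (X Y : Subgroup G) [Y.Normal], Y ≤ X → IsCyclic (↥X ⧸ Y.subgroupOf X) →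
      ∃ a ∈ X, ∀ x ∈ X, ∃ n : ℤ, ∃ y ∈ Y, x = a ^ n * y := by
    intro X Y _ _ hc
    obtain ⟨g, hg⟩ := hc.exists_generator
    obtain ⟨⟨a, ha⟩, rfl⟩ := QuotientGroup.mk_surjective g
    refine ⟨a, ha, fun x hx => ?_⟩
    obtain ⟨n, hn⟩ := Subgroup.mem_zpowers_iff.1
      (hg (QuotientGroup.mk (⟨x, hx⟩ : X) : ↥X ⧸ Y.subgroupOf X))
    rw [← QuotientGroup.mk_zpow, QuotientGroup.eq, Subgroup.mem_subgroupOf] at hn
    refine ⟨n, (a ^ n)⁻¹ * x, ?_, (mul_inv_cancel_left _ _).symm⟩
    simpa using hn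
  obtain ⟨b, hb, hgb⟩ := gen B C hCB h₂
  obtain ⟨a, ha, hga⟩ := gen A B hBA h₁
  -- conjugations act on `B / C` as commuting maps
  have hact : ∀ g : G, ∃ r : ℤ, π (g * b * g⁻¹) = π b ^ r := by
    intro g
    obtain ⟨n, c, hc, he⟩ := hgb _ ((inferInstance : B.Normal).conj_mem b hb g)
    refine ⟨n, ?_⟩
    rw [he, map_mul, map_zpow, hπ, QuotientGroup.mk'_apply C c, (QuotientGroup.eq_one_iff c).2 hc,
      mul_one]
  have hcomm : ∀ g h : G, π g * π h * π b * (π g * π h)⁻¹ = π h * π g * π b * (π h * π g)⁻¹ := by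
    intro g h
    obtain ⟨r, hr⟩ := hact g
    obtain ⟨s, hs⟩ := hact h
    simp only [map_mul, map_inv] at hr hs
    have e1 : π g * π h * π b * (π g * π h)⁻¹ = π b ^ (r * s) := by
      calc _ = π g * (π h * π b * (π h)⁻¹) * (π g)⁻¹ := by group
        _ = _ := by rw [hs, ← conj_zpow, hr, ← zpow_mul]
    have e2 : π h * π g * π b * (π h * π g)⁻¹ = π b ^ (s * r) := by
      calc _ = π h * (π g * π b * (π g)⁻¹) * (π h)⁻¹ := by group
        _ = _ := by rw [hr, ← conj_zpow, hs, ← zpow_mul]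
    rw [e1, e2, mul_comm r s]
  have hN : derivedSeries G 1 ≤ (Subgroup.centralizer ({π b} : Set (G ⧸ C))).comap π := by
    rw [derivedSeries_one, commutator_def, Subgroup.commutator_le]
    intro g _ h _
    rw [Subgroup.mem_comap, Subgroup.mem_centralizer_singleton_iff, map_commutatorElement,
      commutatorElement_def]
    have h4 := hcomm g⁻¹ h⁻¹
    simp only [map_inv] at h4
    generalize π g = u at h4 ⊢
    generalize π h = v at h4 ⊢
    generalize π b = w at h4 ⊢
    have hc : u * v * u⁻¹ * v⁻¹ * w * (u * v * u⁻¹ * v⁻¹)⁻¹ = w := by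
      calc _ = u * v * (u⁻¹ * v⁻¹ * w * (u⁻¹ * v⁻¹)⁻¹) * v⁻¹ * u⁻¹ := by group
        _ = _ := by rw [h4]; group
    exact mul_inv_eq_iff_eq_mul.1 hc
  have hab : Commute (π a) (π b) := by
    have h1 : a ∈ derivedSeries G 1 := derivedSeries_antitone G hi ha
    exact Subgroup.mem_centralizer_singleton_iff.1 (hN h1)
  have hform : ∀ x ∈ A, ∃ n m : ℤ, π x = π a ^ n * π b ^ m := by
    intro x hx
    obtain ⟨n, y, hy, rfl⟩ := hga x hx
    obtain ⟨m, c, hc, rfl⟩ := hgb y hy
    refine ⟨n, m, ?_⟩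
    rw [map_mul, map_mul, map_zpow, map_zpow, hπ, QuotientGroup.mk'_apply C c,
      (QuotientGroup.eq_one_iff c).2 hc, mul_one]
  rw [hB, derivedSeries_succ, Subgroup.commutator_le]
  intro x hx y hy
  rw [← QuotientGroup.eq_one_iff, ← QuotientGroup.mk'_apply, map_commutatorElement,
    commutatorElement_eq_one_iff_mul_comm]
  obtain ⟨n, m, hnm⟩ := hform x hx
  obtain ⟨n', m', hnm'⟩ := hform y hy
  rw [← hπ, hnm, hnm']
  exact (Commute.mul_left ((Commute.refl _).zpow_zpow n n' |>.mul_right (hab.zpow_zpow n m'))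
    ((hab.symm.zpow_zpow m n').mul_right ((Commute.refl _).zpow_zpow m m'))).eq

end Cfsg.Agent.S0555
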