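import Cfsg.Statements.S0556
import Cfsg.Agent.Lib.Base.ThompsonFPF

set_option autoImplicit false
open Cfsg

namespace Cfsg.Agent.S0556

open scoped commutatorElement

open scoped Pointwise in
theorem mem_conj {G : Type*} [Group G] {g x : G} {H : Subgroup G} :
    x ∈ MulAut.conj g • H ↔ g⁻¹ * x * g ∈ H := CfsgLib.Base.Frobenius.mem_conj_iff

theorem derivedSeries_two_eq_bot_of {G : Type*} [Group G] {N : Subgroup G}
    (h1 : commutator G ≤ N) (h2 : IsMulCommutative N) : derivedSeries G 2 = ⊥ := by
  rw [derivedSeries_succ, derivedSeries_one, eq_bot_iff]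
  refine (Subgroup.commutator_mono h1 h1).trans ?_
  rw [le_bot_iff, Subgroup.commutator_eq_bot_iff_le_centralizer]
  exact N.le_centralizer

/-- If a finite group has a maximal subgroup that is abelian, then the third term of its derived series is trivial (so the group is solvable of derived length at most three). -/
theorem result {G : Type*} [Group G] [Finite G] (A : Subgroup G) (hA : IsCoatom A) [IsMulCommutative A] : derivedSeries G 3 = ⊥ := by
  have hA' : ∀ a ∈ A, ∀ b ∈ A, a * b = b * a := fun a ha b hb =>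
    congrArg Subtype.val ((inferInstance : IsMulCommutative A).is_comm.comm ⟨a, ha⟩ ⟨b, hb⟩)
  by_cases hn : A.Normal
  · haveI := hn
    have hcomm : commutator G ≤ A := by
      by_contra hle
      obtain ⟨g, hg⟩ : ∃ g, g ∉ A := by
        by_contra hall
        push Not at hall
        exact hle fun x _ => hall x
      have hsup : Subgroup.zpowers g ⊔ A = ⊤ := hA.2 _ (lt_of_le_of_ne le_sup_right fun e =>
        hg (e ▸ Subgroup.mem_sup_left (Subgroup.mem_zpowers g)))
      refine hle ?_
      rw [commutator_def, Subgroup.commutator_le]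
      intro x _ y _
      obtain ⟨a, ha, a', ha', rfl⟩ := Subgroup.mem_sup_of_normal_right.1 (hsup.ge (Subgroup.mem_top x))
      obtain ⟨b, hb, b', hb', rfl⟩ := Subgroup.mem_sup_of_normal_right.1 (hsup.ge (Subgroup.mem_top y))
      rw [← QuotientGroup.eq_one_iff]
      show QuotientGroup.mk' A _ = 1
      rw [map_commutatorElement, commutatorElement_eq_one_iff_mul_comm, map_mul, map_mul,
        show QuotientGroup.mk' A a' = 1 from (QuotientGroup.eq_one_iff a').2 ha',
        show QuotientGroup.mk' A b' = 1 from (QuotientGroup.eq_one_iff b').2 hb', mul_one, mul_one]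
      obtain ⟨i, rfl⟩ := Subgroup.mem_zpowers_iff.1 ha
      obtain ⟨j, rfl⟩ := Subgroup.mem_zpowers_iff.1 hb
      exact ((Commute.zpow_zpow_self g i j).map (QuotientGroup.mk' A)).eq
    exact le_bot_iff.1 ((derivedSeries_antitone G (by norm_num : 2 ≤ 3)).trans
      (derivedSeries_two_eq_bot_of hcomm inferInstance).le)
  set Z := A ⊓ Subgroup.center G with hZ
  haveI hZn : Z.Normal := CfsgLib.Base.normal_of_le_center inf_le_right
  have hTI : ∀ g x : G, g ∉ A → x ∈ A → g⁻¹ * x * g ∈ A → x ∈ Z := by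
    intro g x hg hx hgx
    refine ⟨hx, Subgroup.mem_center_iff.2 fun y => ?_⟩
    set B := A.map (MulAut.conj g).toMonoidHom with hB
    have hBA : ¬ B ≤ A := fun hle => by
      have hn' : Subgroup.normalizer (A : Set G) = A := by
        refine ((hA.le_iff).1 Subgroup.le_normalizer).resolve_left fun e => hn ?_
        exact Subgroup.normalizer_eq_top_iff.1 e
      refine hg (hn'.le ?_)
      rw [← CfsgLib.Base.map_conj_eq_self_iff]
      exact Subgroup.eq_of_le_of_card_ge hle (CfsgLib.Base.card_map_conj g A).ge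
    have htop : A ⊔ B = ⊤ := hA.2 _ (lt_of_le_of_ne le_sup_left fun e => hBA (e ▸ le_sup_right))
    have hyc : y ∈ Subgroup.centralizer ({x} : Set G) := by
      refine (htop.ge.trans (sup_le ?_ ?_)) (Subgroup.mem_top y)
      · exact fun a ha => Subgroup.mem_centralizer_iff.2 fun v hv => by
          rw [Set.mem_singleton_iff.1 hv]; exact hA' x hx a ha
      · rintro _ ⟨a, ha, rfl⟩
        refine Subgroup.mem_centralizer_iff.2 fun v hv => ?_
        rw [Set.mem_singleton_iff.1 hv]
        have := hA' _ hgx a ha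
        show x * (g * a * g⁻¹) = g * a * g⁻¹ * x
        calc x * (g * a * g⁻¹) = g * (g⁻¹ * x * g * a) * g⁻¹ := by group
          _ = g * (a * (g⁻¹ * x * g)) * g⁻¹ := by rw [this]
          _ = g * a * g⁻¹ * x := by group
    exact (Subgroup.mem_centralizer_iff.1 hyc x rfl).symm
  set π := QuotientGroup.mk' Z with hπ
  have hπs := QuotientGroup.mk'_surjective Z
  set Ab := A.map π with hAb
  have hcomap : Ab.comap π = A := by rw [hAb, CfsgLib.Base.comap_map_mk', sup_eq_left.2 inf_le_left]
  have hAbne : Ab ≠ ⊥ := fun e => hn (by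
    rw [hAb, CfsgLib.Base.map_mk'_eq_bot_iff] at e
    exact CfsgLib.Base.normal_of_le_center (e.trans inf_le_right))
  have hAbtop : Ab ≠ ⊤ := fun e => hA.1 (by rw [← hcomap, e, Subgroup.comap_top])
  have hF : Cfsg.IsFrobeniusComplement Ab := by
    refine ⟨hAbne, hAbtop, fun gb hgb => ?_⟩
    obtain ⟨g, rfl⟩ := hπs gb
    rw [Subgroup.eq_bot_iff_forall]
    intro xb hxb
    obtain ⟨x, rfl⟩ := hπs xb
    obtain ⟨h1, h2⟩ := Subgroup.mem_inf.1 hxb
    rw [mem_conj] at h2
    have hx : x ∈ A := hcomap.le h1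
    have hgx : g⁻¹ * x * g ∈ A := hcomap.le (by
      show π (g⁻¹ * x * g) ∈ Ab
      rw [map_mul, map_mul, map_inv]; exact h2)
    exact (QuotientGroup.eq_one_iff x).2 (hTI g x (fun h => hgb ⟨g, h, rfl⟩) hx hgx)
  obtain ⟨N, -, hNn, hc, hNnil⟩ := CfsgLib.Base.Frobenius.exists_nilpotent_kernel hF
  haveI := hNn
  haveI := hNnil
  have hNne : N ≠ ⊥ := fun e => hAbtop (Subgroup.isComplement'_bot_left.1 (e ▸ hc))
  haveI : Nontrivial N := (Subgroup.nontrivial_iff_ne_bot N).2 hNne
  set W := (Subgroup.center N).map N.subtype with hW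
  haveI : W.Normal := CfsgLib.Base.normal_map_subtype _
  have hWne : W ≠ ⊥ := fun e => Group.IsNilpotent.center_ne_bot (G := N)
    ((Subgroup.map_eq_bot_iff_of_injective _ N.subtype_injective).1 e)
  have hWN : W ≤ N := Subgroup.map_subtype_le _
  have hco : IsCoatom Ab := ⟨hAbtop, fun Y hY => by
    have h1 : A < Y.comap π := by
      rw [← hcomap]
      exact (Subgroup.comap_lt_comap_of_surjective hπs).2 hY
    rw [← CfsgLib.Base.map_mk'_comap Z Y, hA.2 _ h1, Subgroup.map_top_of_surjective _ hπs]⟩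
  have hsup : W ⊔ Ab = ⊤ := hco.2 _ (lt_of_le_of_ne le_sup_right fun e => hWne (le_bot_iff.1
    (hc.disjoint.eq_bot ▸ le_inf hWN (e ▸ le_sup_left))))
  have hWN' : W = N := le_antisymm hWN fun x hx => by
    obtain ⟨w, hw, a, ha, rfl⟩ := Subgroup.mem_sup_of_normal_left.1 (hsup.ge (Subgroup.mem_top x))
    have : a ∈ N ⊓ Ab := ⟨by simpa using N.mul_mem (N.inv_mem (hWN hw)) hx, ha⟩
    rw [hc.disjoint.eq_bot, Subgroup.mem_bot] at this
    rwa [this, mul_one]
  have hNc : IsMulCommutative N := ⟨⟨fun a b => by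
    obtain ⟨a', ha', hae⟩ := hWN'.ge a.2
    rw [← show a' = a from Subtype.ext hae]
    exact (Subgroup.mem_center_iff.1 ha' b).symm⟩⟩
  have hGc : commutator (G ⧸ Z) ≤ N := by
    rw [commutator_def, Subgroup.commutator_le]
    intro x _ y _
    rw [← QuotientGroup.eq_one_iff]
    show QuotientGroup.mk' N _ = 1
    rw [map_commutatorElement, commutatorElement_eq_one_iff_mul_comm]
    have e := hc.symm.QuotientMulEquiv
    refine e.injective ?_
    rw [map_mul, map_mul]
    refine Subtype.ext ?_
    obtain ⟨a, ha, hae⟩ := (e (QuotientGroup.mk' N x)).2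
    obtain ⟨b, hb, hbe⟩ := (e (QuotientGroup.mk' N y)).2
    show ((e (QuotientGroup.mk' N x) : G ⧸ Z)) * _ = _ * _
    rw [← hae, ← hbe, ← map_mul, ← map_mul, hA' a ha b hb]
  have h2 := derivedSeries_two_eq_bot_of hGc hNc
  have h3 : derivedSeries G 2 ≤ Z := by
    have := map_derivedSeries_le_derivedSeries (n := 2) π
    rw [h2, le_bot_iff, CfsgLib.Base.map_mk'_eq_bot_iff] at this
    exact this
  rw [derivedSeries_succ, eq_bot_iff]
  refine (Subgroup.commutator_mono h3 h3).trans ?_
  rw [le_bot_iff, Subgroup.commutator_eq_bot_iff_le_centralizer]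
  exact inf_le_right.trans (Subgroup.center_le_centralizer _)

end Cfsg.Agent.S0556
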