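import Cfsg.Statements.S0557
import Mathlib

set_option autoImplicit false
open Cfsg
open scoped commutatorElement

namespace Cfsg.Agent.S0557

universe u

theorem focal_map_le {G N : Type*} [Group G] [Group N] (f : N →* G) (X : Subgroup N) :
    (Subgroup.focalSubgroup X).map f ≤ Subgroup.focalSubgroup (X.map f) := by
  rw [Subgroup.map_le_iff_le_comap, Subgroup.focalSubgroup_def, Subgroup.closure_le]
  rintro g ⟨hg, x, hx, v, rfl⟩
  exact Subgroup.subset_closure ⟨⟨_, hg, rfl⟩, f x, ⟨x, hx, rfl⟩, f v, map_commutatorElement f x v⟩

theorem focal_mono {G : Type*} [Group G] {X Y : Subgroup G} (h : X ≤ Y) :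
    Subgroup.focalSubgroup X ≤ Subgroup.focalSubgroup Y := by
  rw [Subgroup.focalSubgroup_def, Subgroup.closure_le]
  rintro g ⟨hg, x, hx, v, rfl⟩
  exact Subgroup.subset_closure ⟨h hg, x, h hx, v, rfl⟩

theorem exists_complement_of_iterate_focal (n : ℕ) : ∀ {G : Type u} [Group G] [Finite G]
    (H : Subgroup G), (Nat.card H).Coprime H.index →
      (fun K : Subgroup G => Subgroup.focalSubgroup K)^[n] H = ⊥ →
      ∃ N : Subgroup G, N.Normal ∧ Subgroup.IsComplement' N H := by
  induction n with
  | zero =>
    intro G _ _ H _ hH
    rw [Function.iterate_zero, id_eq] at hH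
    exact ⟨⊤, inferInstance, hH ▸ Subgroup.isComplement'_top_bot⟩
  | succ n ih =>
    intro G _ _ H hHall hfoc
    set V := Subgroup.transferFocal H with hV
    set N := V.ker with hN
    have hcopQ : (Nat.card (↥H ⧸ H.focalSubgroupOf)).Coprime H.index :=
      hHall.coprime_dvd_left (Subgroup.card_quotient_dvd_card _)
    have hVH : ∀ x : H, V x = 1 ↔ x ∈ H.focalSubgroupOf := by
      intro x
      rw [hV, Subgroup.transferFocal_eq_pow, ← QuotientGroup.eq_one_iff]
      refine ⟨fun h => ?_, fun h => by rw [h, one_pow]⟩
      exact (powCoprime hcopQ).injective (by simpa using h)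
    have hinf : N ⊓ H = H.focalSubgroup := by
      ext x
      constructor
      · rintro ⟨hx, hxH⟩
        exact (hVH ⟨x, hxH⟩).1 hx
      · intro hx
        exact ⟨(hVH ⟨x, H.focalSubgroup_le hx⟩).2 hx, H.focalSubgroup_le hx⟩
    have hgen : ∀ g : G, ∃ m ∈ N, ∃ h ∈ H, g = m * h := by
      intro g
      obtain ⟨y, hy⟩ := (powCoprime hcopQ).surjective (V g)
      obtain ⟨h, rfl⟩ := QuotientGroup.mk_surjective y
      refine ⟨g * (h : G)⁻¹, ?_, h, h.2, (inv_mul_cancel_right g (h : G)).symm⟩
      rw [hN, MonoidHom.mem_ker, map_mul, map_inv, mul_inv_eq_one, hV, Subgroup.transferFocal_eq_pow]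
      exact (hy : ((h : ↥H ⧸ H.focalSubgroupOf)) ^ H.index = V g).symm
    -- `|N : N ∩ H| = |G : H|`
    have htop : N ⊔ H = ⊤ := by
      rw [eq_top_iff]
      intro g _
      obtain ⟨m, hm, h, hh, rfl⟩ := hgen g
      exact mul_mem (Subgroup.mem_sup_left hm) (Subgroup.mem_sup_right hh)
    have hrel : H.relIndex N = H.index := by
      have h1 : (N ⊓ H).relIndex N * N.index = (N ⊓ H).index :=
        Subgroup.relIndex_mul_index inf_le_left
      have h2 : (N ⊓ H).relIndex H * H.index = (N ⊓ H).index :=
        Subgroup.relIndex_mul_index inf_le_right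
      rw [Subgroup.inf_relIndex_left] at h1
      rw [Subgroup.inf_relIndex_right] at h2
      have h3 : N.relIndex H = N.index := by
        rw [← Subgroup.relIndex_sup_right, sup_comm, htop, Subgroup.relIndex_top_right]
      rw [h3, ← h1, mul_comm] at h2
      exact (Nat.eq_of_mul_eq_mul_right (Nat.pos_of_ne_zero Subgroup.index_ne_zero_of_finite) h2).symm
    have hHallN : (Nat.card (H.subgroupOf N)).Coprime (H.subgroupOf N).index := by
      change (Nat.card (H.subgroupOf N)).Coprime (H.relIndex N)
      rw [hrel]
      refine hHall.coprime_dvd_left ?_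
      exact Subgroup.card_comap_dvd_of_injective _ _ N.subtype_injective
    have hiter : ∀ k, ((fun K : Subgroup N => Subgroup.focalSubgroup K)^[k] (H.subgroupOf N)).map
        N.subtype ≤ (fun K : Subgroup G => Subgroup.focalSubgroup K)^[k] H.focalSubgroup := by
      intro k
      induction k with
      | zero =>
        rw [Function.iterate_zero, id_eq, Function.iterate_zero, id_eq, Subgroup.subgroupOf_map_subtype,
          inf_comm, hinf]
      | succ k ihk =>
        rw [Function.iterate_succ_apply', Function.iterate_succ_apply']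
        exact (focal_map_le _ _).trans (focal_mono ihk)
    have hfocN : (fun K : Subgroup N => Subgroup.focalSubgroup K)^[n] (H.subgroupOf N) = ⊥ := by
      rw [← Subgroup.map_eq_bot_iff_of_injective _ N.subtype_injective, eq_bot_iff]
      refine (hiter n).trans ?_
      rw [← Function.iterate_succ_apply (fun K : Subgroup G => Subgroup.focalSubgroup K) n H, hfoc]
    obtain ⟨M, hMn, hMc⟩ := ih (H.subgroupOf N) hHallN hfocN
    have hcM : Nat.card M = H.index := by
      rw [← hMc.index_eq_card]
      exact hrel
    haveI : M.Characteristic := by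
      rw [Subgroup.characteristic_iff_map_le]
      intro φ
      haveI := hMn
      intro x hx
      obtain ⟨y, hy, rfl⟩ := hx
      rw [← QuotientGroup.eq_one_iff, ← orderOf_eq_one_iff]
      have h1 : orderOf ((φ y : N) : N ⧸ M) ∣ Nat.card M :=
        ((orderOf_map_dvd (QuotientGroup.mk' M) (φ y)).trans
          (orderOf_map_dvd φ.toMonoidHom y)).trans (Subgroup.orderOf_dvd_natCard _ hy)
      have h2 : orderOf ((φ y : N) : N ⧸ M) ∣ M.index := orderOf_dvd_natCard _
      refine Nat.eq_one_of_dvd_coprimes ?_ h1 h2
      rw [hMc.symm.index_eq_card, hcM, ← hrel]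
      exact hHallN.symm
    haveI : (M.map N.subtype).Normal := ConjAct.normal_of_characteristic_of_normal
    refine ⟨M.map N.subtype, inferInstance, Subgroup.isComplement'_of_coprime ?_ ?_⟩
    · rw [Subgroup.card_map_of_injective N.subtype_injective, hcM, mul_comm, H.card_mul_index]
    · rw [Subgroup.card_map_of_injective N.subtype_injective, hcM]
      exact hHall.symm

/-- Let H be a subgroup of a finite group G with order coprime to its index. If iterating the focal-subgroup construction starting from H reaches the trivial subgroup after finitely many steps, then H has a normal complement in G. -/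
theorem result {G : Type*} [Group G] [Finite G] (H : Subgroup G) (hHall : (Nat.card H).Coprime H.index) (n : ℕ) (hfoc : (fun K : Subgroup G => Subgroup.focalSubgroup K)^[n] H = ⊥) : ∃ N : Subgroup G, N.Normal ∧ Subgroup.IsComplement' N H := by
  exact exists_complement_of_iterate_focal n H hHall hfoc

end Cfsg.Agent.S0557
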