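import Cfsg.Statements.S0558
import Mathlib
import Cfsg.Agent.Lib.Transfer.Fusion
import Cfsg.Agent.Lib.Transfer.NormalPComplement
import Cfsg.Agent.Lib.Fusion.SylowAux

set_option autoImplicit false
open Cfsg
open scoped Pointwise commutatorElement

namespace Cfsg.Agent.S0558

/-- Let H be a subgroup of a finite group G that is not a Sylow subgroup of G for any prime, and suppose that for every prime p dividing the order of H and every Sylow p-subgroup P of H the normalizer of P in G is exactly H. Then some normal subgroup of G is a complement to H. -/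
theorem result {G : Type*} [Group G] [Finite G] (H : Subgroup G) (hnot : ∀ p : ℕ, p.Prime → ∀ P : Sylow p G, (P : Subgroup G) ≠ H) (hnorm : ∀ p : ℕ, p.Prime → p ∣ Nat.card H → ∀ P : Sylow p H, Subgroup.normalizer (((P : Subgroup H).map H.subtype : Subgroup G) : Set G) = H) : ∃ N : Subgroup G, N.Normal ∧ Subgroup.IsComplement' N H := by
  classical
  have key : ∀ p : ℕ, p.Prime → p ∣ Nat.card H → ∃ P : Sylow p G, (P : Subgroup G) ≤ H ∧
      Subgroup.normalizer ((P : Subgroup G) : Set G) = H := by
    intro p hp hd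
    haveI := Fact.mk hp
    obtain ⟨P₀⟩ : Nonempty (Sylow p H) := inferInstance
    set PG := (P₀ : Subgroup H).map H.subtype with hPG
    have hN := hnorm p hp hd P₀
    obtain ⟨P, hP⟩ := (P₀.isPGroup'.map H.subtype).exists_le_sylow
    refine ⟨P, ?_⟩
    have heq : (P : Subgroup G) = PG := by
      by_contra hne
      obtain ⟨x, hx, hxS⟩ := SetLike.exists_of_lt
        (CfsgLib.Fusion.lt_inf_normalizer P.isPGroup' (lt_of_le_of_ne hP (Ne.symm hne)))
      apply hxS
      have hxH : x ∈ H := hN ▸ hx.2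
      have hmax : ((P : Subgroup G).subgroupOf H) = (P₀ : Subgroup H) :=
        P₀.3 P.isPGroup'.comap_subtype fun s hs => hP ⟨s, hs, rfl⟩
      exact ⟨⟨x, hxH⟩, hmax.le hx.1, rfl⟩
    exact ⟨heq ▸ Subgroup.map_subtype_le _, heq ▸ hN⟩
  -- Sylow subgroups of `H` for different primes commute
  have comm : ∀ p q : ℕ, p.Prime → q.Prime → p ≠ q → ∀ (P : Sylow p G) (Q : Sylow q G),
      (P : Subgroup G) ≤ H → (Q : Subgroup G) ≤ H →
      Subgroup.normalizer ((P : Subgroup G) : Set G) = H →
      Subgroup.normalizer ((Q : Subgroup G) : Set G) = H →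
      ∀ x ∈ (P : Subgroup G), ∀ y ∈ (Q : Subgroup G), x * y = y * x := by
    intro p q hp hq hpq P Q hPH hQH hPN hQN x hx y hy
    haveI := Fact.mk hp
    haveI := Fact.mk hq
    have hd := IsPGroup.disjoint_of_ne p q hpq _ _ P.isPGroup' Q.isPGroup'
    have h1 : x * y * x⁻¹ * y⁻¹ ∈ (P : Subgroup G) := by
      have : y * x⁻¹ * y⁻¹ ∈ (P : Subgroup G) :=
        (Subgroup.mem_normalizer_iff.mp (hPN ▸ hQH hy) x⁻¹).mp (inv_mem hx)
      have := mul_mem hx this
      simpa [mul_assoc] using this
    have h2 : x * y * x⁻¹ * y⁻¹ ∈ (Q : Subgroup G) :=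
      mul_mem ((Subgroup.mem_normalizer_iff.mp (hQN ▸ hPH hx) y).mp hy) (inv_mem hy)
    have h3 := Subgroup.disjoint_def.mp hd h1 h2
    calc x * y = x * y * x⁻¹ * y⁻¹ * (y * x) := by group
      _ = y * x := by rw [h3, one_mul]
  -- `H` is not a `p`-group
  have two : ∀ p : ℕ, p.Prime → p ∣ Nat.card H → ∃ q : ℕ, q.Prime ∧ q ≠ p ∧ q ∣ Nat.card H := by
    intro p hp hd
    haveI := Fact.mk hp
    by_contra hcon
    push Not at hcon
    obtain ⟨P, hPH, -⟩ := key p hp hd
    refine hnot p hp P (le_antisymm hPH ?_)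
    have hHp : IsPGroup p H := IsPGroup.of_card (n := (Nat.card H).primeFactorsList.length)
      (Nat.eq_prime_pow_of_unique_prime_dvd Nat.card_pos.ne' fun {r} hr hrd => by
        by_contra h
        exact hcon r hr h hrd)
    exact (P.3 hHp hPH).le
  -- normal complements for the primes of `H`
  have comp : ∀ p : ℕ, p.Prime → p ∣ Nat.card H → Cfsg.HasNormalPComplement p G := by
    intro p hp hd
    haveI := Fact.mk hp
    obtain ⟨P, hPH, hPN⟩ := key p hp hd
    obtain ⟨q, hq, hqp, hqd⟩ := two p hp hd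
    haveI := Fact.mk hq
    obtain ⟨Q, hQH, hQN⟩ := key q hq hqd
    have hcq := comm p q hp hq hqp.symm P Q hPH hQH hPN hQN
    refine CfsgLib.Transfer.hasNormalPComplement_of_fusion P fun x hx g hgx => ?_
    set y := g * x * g⁻¹ with hy
    set C := Subgroup.centralizer ({y} : Set G) with hC
    have hQC : (Q : Subgroup G) ≤ C := fun u hu =>
      Subgroup.mem_centralizer_singleton_iff.mpr (hcq y hgx u hu).symm
    have hgQC : ((g • Q : Sylow q G) : Subgroup G) ≤ C := by
      intro u hu
      obtain ⟨w, hw, rfl⟩ := (show u ∈ ((Q : Subgroup G)).map (MulAut.conj g).toMonoidHom from hu)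
      refine Subgroup.mem_centralizer_singleton_iff.mpr ?_
      show g * w * g⁻¹ * (g * x * g⁻¹) = g * x * g⁻¹ * (g * w * g⁻¹)
      calc g * w * g⁻¹ * (g * x * g⁻¹) = g * (w * x) * g⁻¹ := by group
        _ = g * (x * w) * g⁻¹ := by rw [hcq x hx w hw]
        _ = _ := by group
    obtain ⟨c, hc⟩ := MulAction.exists_smul_eq C ((g • Q : Sylow q G).subtype hgQC) (Q.subtype hQC)
    have hcgQ : ((c : G) * g) • Q = Q := by
      refine Sylow.subtype_injective (hP := ?_) (hQ := hQC) ?_
      · rw [mul_smul]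
        intro u hu
        obtain ⟨w, hw, rfl⟩ := (show u ∈
          ((g • Q : Sylow q G) : Subgroup G).map (MulAut.conj (c : G)).toMonoidHom from hu)
        exact C.mul_mem (C.mul_mem c.2 (hgQC hw)) (C.inv_mem c.2)
      · rw [← hc]
        ext u
        simp [mul_smul, Sylow.smul_subtype]
        rfl
    have hH : (c : G) * g ∈ H := hQN ▸ Sylow.smul_eq_iff_mem_normalizer.mp hcgQ
    have hcy : (c : G) * g * x * ((c : G) * g)⁻¹ = y := by
      calc (c : G) * g * x * ((c : G) * g)⁻¹ = c * y * (c : G)⁻¹ := by rw [hy]; group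
        _ = y := by rw [Subgroup.mem_centralizer_singleton_iff.mp c.2, mul_inv_cancel_right]
    -- write the conjugator as an element of `P` times one centralizing `P`
    have hsup : H ≤ (P : Subgroup G) ⊔ (H ⊓ Subgroup.centralizer ((P : Subgroup G) : Set G)) := by
      set M := (P : Subgroup G) ⊔ (H ⊓ Subgroup.centralizer ((P : Subgroup G) : Set G))
      have h1 : M.relIndex H = 1 := by
        by_contra hne
        obtain ⟨r, hr, hrd⟩ := Nat.exists_prime_and_dvd hne
        haveI := Fact.mk hr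
        have hrH : r ∣ Nat.card H := hrd.trans (Subgroup.index_dvd_card _)
        obtain ⟨R, hRH, hRN⟩ := key r hr hrH
        have hRM : (R : Subgroup G) ≤ M := by
          by_cases hrp : r = p
          · subst hrp
            obtain ⟨k, hk⟩ := MulAction.exists_smul_eq H (R.subtype hRH) (P.subtype hPH)
            intro u hu
            have hku : (k : G) * u * (k : G)⁻¹ ∈ (P : Subgroup G) := by
              have h := Subgroup.smul_mem_pointwise_smul (⟨u, hRH hu⟩ : H) (MulAut.conj k)
                ((R.subtype hRH : Sylow r H) : Subgroup H) hu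
              exact (congrArg (fun S : Sylow r H => (S : Subgroup H)) hk).le h
            exact Subgroup.mem_sup_left
              ((Subgroup.mem_normalizer_iff.mp (hPN ▸ k.2) u).mpr hku)
          · intro u hu
            refine Subgroup.mem_sup_right ⟨hRH hu, Subgroup.mem_centralizer_iff.mpr fun w hw => ?_⟩
            exact (comm r p hr hp hrp R P hRH hPH hRN hPN u hu w hw).symm
        have h2 : M.relIndex H ∣ (R : Subgroup G).relIndex H :=
          Subgroup.relIndex_dvd_of_le_left H hRM
        exact (R.subtype hRH).not_dvd_index (hrd.trans h2)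
      exact Subgroup.relIndex_eq_one.mp h1
    have hmem := hsup hH
    rw [← SetLike.mem_coe, Subgroup.coe_mul_of_right_le_normalizer_left (P : Subgroup G) _
      (inf_le_left.trans hPN.ge)] at hmem
    obtain ⟨a, ha, b, hb, hab⟩ := Set.mem_mul.mp hmem
    refine ⟨a, ha, ?_⟩
    rw [← hcy, ← hab]
    have hbx : x * b = b * x := Subgroup.mem_centralizer_iff.mp hb.2 x hx
    calc a * x * a⁻¹ = a * (x * b) * b⁻¹ * a⁻¹ := by group
      _ = a * (b * x) * b⁻¹ * a⁻¹ := by rw [hbx]
      _ = a * b * x * (a * b)⁻¹ := by group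
  -- the complement
  let N : Subgroup G := ⨅ p : {p : ℕ // p.Prime ∧ p ∣ Nat.card H}, Cfsg.pResidual p.1 G
  have hNn : N.Normal := Subgroup.normal_iInf_normal fun p => by
    haveI := Fact.mk p.2.1
    exact CfsgLib.Transfer.pResidual_normal
  refine ⟨N, hNn, ?_⟩
  haveI := hNn
  refine Subgroup.isComplement'_of_disjoint_and_mul_eq_univ ?_ ?_
  · rw [Subgroup.disjoint_def]
    intro x hxN hxH
    by_contra hx1
    obtain ⟨p, hp, hpd⟩ := Nat.exists_prime_and_dvd (fun h => hx1 (orderOf_eq_one_iff.mp h))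
    haveI := Fact.mk hp
    have hpH : p ∣ Nat.card H := hpd.trans (H.orderOf_dvd_natCard hxH)
    exact CfsgLib.Transfer.coprime_orderOf_iff.mp ((CfsgLib.Transfer.mem_pResidual_iff
      (comp p hp hpH)).mp (Subgroup.mem_iInf.mp hxN ⟨p, hp, hpH⟩)) hpd
  · rw [← Subgroup.normal_mul, ← Subgroup.coe_top, SetLike.coe_set_eq]
    rw [← Subgroup.index_eq_one]
    by_contra hne
    obtain ⟨r, hr, hrd⟩ := Nat.exists_prime_and_dvd hne
    haveI := Fact.mk hr
    by_cases hrH : r ∣ Nat.card H
    · obtain ⟨R, hRH, -⟩ := key r hr hrH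
      exact R.not_dvd_index (hrd.trans (Subgroup.index_dvd_of_le (hRH.trans le_sup_right)))
    · obtain ⟨R⟩ : Nonempty (Sylow r G) := inferInstance
      refine R.not_dvd_index (hrd.trans (Subgroup.index_dvd_of_le (le_trans ?_ le_sup_left)))
      intro u hu
      refine Subgroup.mem_iInf.mpr fun p => CfsgLib.Transfer.mem_pResidual_of_coprime ?_
      haveI := Fact.mk p.2.1
      refine CfsgLib.Transfer.coprime_orderOf_iff.mpr fun hpu => ?_
      obtain ⟨k, hk⟩ := IsPGroup.iff_orderOf.mp R.isPGroup' ⟨u, hu⟩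
      rw [Subgroup.orderOf_mk] at hk
      exact hrH ((Nat.prime_dvd_prime_iff_eq p.2.1 hr).mp (p.2.1.dvd_of_dvd_pow (hk ▸ hpu)) ▸ p.2.2)

end Cfsg.Agent.S0558
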