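import Cfsg.Statements.S0566
import Cfsg.Agent.Lib.SolvStruct.Factorization
import Cfsg.Agent.Lib.Coprime.Action

set_option autoImplicit false
open Pointwise
open Cfsg
open scoped Pointwise

namespace Cfsg.Agent.S0566

/-- Let A and B be nontrivial subgroups of a finite group G such that for every x the product set of A and xBx⁻¹ is a proper subgroup of G. Then there is a proper normal subgroup of G containing A or containing B. -/
theorem result {G : Type*} [Group G] [Finite G] (A B : Subgroup G) (hA : A ≠ ⊥) (hB : B ≠ ⊥) (h : ∀ x : G, ∃ S : Subgroup G, S ≠ ⊤ ∧ (S : Set G) = (A : Set G) * ((MulAut.conj x • B : Subgroup G) : Set G)) : ∃ N : Subgroup G, N.Normal ∧ N ≠ ⊤ ∧ (A ≤ N ∨ B ≤ N) := by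
  have hperm : ∀ {H C : Subgroup G} {S : Subgroup G}, (S : Set G) = (H : Set G) * (C : Set G) →
      ∀ w ∈ H, ∀ c ∈ C, ∃ c' ∈ C, ∃ w' ∈ H, w * c = c' * w' := by
    intro H C S hS w hw c hc
    have h1 : w * c ∈ S := by
      rw [← SetLike.mem_coe, hS]
      exact Set.mul_mem_mul hw hc
    obtain ⟨w', hw', c', hc', he⟩ := Set.mem_mul.1 (hS ▸ inv_mem h1 : (w * c)⁻¹ ∈ (H : Set G) * C)
    exact ⟨c'⁻¹, inv_mem hc', w'⁻¹, inv_mem hw', by rw [← mul_inv_rev, he, inv_inv]⟩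
  have hmk : ∀ {H C : Subgroup G}, (∀ w ∈ H, ∀ c ∈ C, ∃ c' ∈ C, ∃ w' ∈ H, w * c = c' * w') →
      ∃ S : Subgroup G, (S : Set G) = (H : Set G) * (C : Set G) := by
    intro H C hp
    have hsw : ∀ c ∈ C, ∀ w ∈ H, ∃ w' ∈ H, ∃ c' ∈ C, c * w = w' * c' := fun c hc w hw => by
      obtain ⟨c', hc', w', hw', he⟩ := hp w⁻¹ (inv_mem hw) c⁻¹ (inv_mem hc)
      exact ⟨w'⁻¹, inv_mem hw', c'⁻¹, inv_mem hc', by rw [← mul_inv_rev, ← he, mul_inv_rev, inv_inv, inv_inv]⟩
    refine ⟨{ carrier := (H : Set G) * (C : Set G)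
              one_mem' := ⟨1, one_mem H, 1, one_mem C, mul_one 1⟩
              mul_mem' := ?_
              inv_mem' := ?_ }, rfl⟩
    · rintro _ _ ⟨a, ha, b, hb, rfl⟩ ⟨a', ha', b', hb', rfl⟩
      obtain ⟨w, hw, c, hc, he⟩ := hsw b hb a' ha'
      exact ⟨a * w, mul_mem ha hw, c * b', mul_mem hc hb', by
        calc a * w * (c * b') = a * (w * c) * b' := by group
          _ = _ := by rw [← he]; group⟩
    · rintro _ ⟨a, ha, b, hb, rfl⟩
      obtain ⟨w, hw, c, hc, he⟩ := hsw b⁻¹ (inv_mem hb) a⁻¹ (inv_mem ha)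
      exact ⟨w, hw, c, hc, by simp only [mul_inv_rev, he]⟩
  let P : Subgroup G → Prop := fun A₁ => ∀ x : G, ∃ S : Subgroup G, S ≠ ⊤ ∧
    (S : Set G) = (A₁ : Set G) * ((MulAut.conj x • B : Subgroup G) : Set G)
  obtain ⟨A₁, hle, hmax⟩ := Finite.exists_le_maximal (p := P) (show P A from h)
  have hnorm : ∀ y : G, MulAut.conj y • B ≤ Subgroup.normalizer (A₁ : Set G) := by
    intro y b hb
    obtain ⟨S, hStop, hS⟩ := hmax.prop y
    have hA₁S : A₁ ≤ S := fun a ha => by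
      rw [← SetLike.mem_coe, hS]
      exact ⟨a, ha, 1, one_mem _, mul_one a⟩
    have hBS : MulAut.conj y • B ≤ S := fun c hc => by
      rw [← SetLike.mem_coe, hS]
      exact ⟨1, one_mem _, c, hc, one_mul c⟩
    set A₂ := MulAut.conj b • A₁ with hA₂
    have hA₂S : A₂ ≤ S := by
      intro u hu
      rw [hA₂, CfsgLib.Coprime.mem_conj_smul] at hu
      have := mul_mem (mul_mem (hBS hb) (hA₁S hu)) (inv_mem (hBS hb))
      simpa [mul_assoc] using this
    have hP : P (A₁ ⊔ A₂) := by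
      intro x
      have hp1 := hperm (hmax.prop x).choose_spec.2
      have hp2 : ∀ w ∈ A₂, ∀ c ∈ MulAut.conj x • B, ∃ c' ∈ MulAut.conj x • B, ∃ w' ∈ A₂,
          w * c = c' * w' := by
        intro w hw c hc
        have hp := hperm (hmax.prop (b⁻¹ * x)).choose_spec.2
        rw [hA₂, CfsgLib.Coprime.mem_conj_smul] at hw
        obtain ⟨c', hc', w', hw', he⟩ := hp _ hw (b⁻¹ * c * b) (by
          rw [CfsgLib.Coprime.mem_conj_smul] at hc ⊢
          simpa [mul_assoc] using hc)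
        refine ⟨b * c' * b⁻¹, ?_, b * w' * b⁻¹, ?_, ?_⟩
        · rw [CfsgLib.Coprime.mem_conj_smul] at hc' ⊢
          simpa [mul_assoc] using hc'
        · rw [hA₂, CfsgLib.Coprime.mem_conj_smul]
          simpa [mul_assoc] using hw'
        · calc w * c = b * ((b⁻¹ * w * b) * (b⁻¹ * c * b)) * b⁻¹ := by group
            _ = _ := by rw [he]; group
      have hsup : ∀ w ∈ A₁ ⊔ A₂, ∀ c ∈ MulAut.conj x • B, ∃ c' ∈ MulAut.conj x • B,
          ∃ w' ∈ A₁ ⊔ A₂, w * c = c' * w' := by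
        intro w hw
        rw [Subgroup.sup_eq_closure] at hw
        refine (Subgroup.closure_induction
          (p := fun v _ => ∀ c ∈ MulAut.conj x • B,
            (∃ c' ∈ MulAut.conj x • B, ∃ w' ∈ A₁ ⊔ A₂, v * c = c' * w') ∧
            (∃ c' ∈ MulAut.conj x • B, ∃ w' ∈ A₁ ⊔ A₂, v⁻¹ * c = c' * w')) ?_ ?_ ?_ ?_ hw · · |>.1)
        · rintro v (hv | hv) c hc
          · obtain ⟨c', hc', w', hw', he⟩ := hp1 v hv c hc
            obtain ⟨c'', hc'', w'', hw'', he'⟩ := hp1 v⁻¹ (inv_mem hv) c hc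
            exact ⟨⟨c', hc', w', Subgroup.mem_sup_left hw', he⟩,
              ⟨c'', hc'', w'', Subgroup.mem_sup_left hw'', he'⟩⟩
          · obtain ⟨c', hc', w', hw', he⟩ := hp2 v hv c hc
            obtain ⟨c'', hc'', w'', hw'', he'⟩ := hp2 v⁻¹ (inv_mem hv) c hc
            exact ⟨⟨c', hc', w', Subgroup.mem_sup_right hw', he⟩,
              ⟨c'', hc'', w'', Subgroup.mem_sup_right hw'', he'⟩⟩
        · exact fun c hc => ⟨⟨c, hc, 1, one_mem _, by simp⟩, ⟨c, hc, 1, one_mem _, by simp⟩⟩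
        · intro u v _ _ hu hv c hc
          obtain ⟨c₁, hc₁, w₁, hw₁, e₁⟩ := (hv c hc).1
          obtain ⟨c₂, hc₂, w₂, hw₂, e₂⟩ := (hu c₁ hc₁).1
          obtain ⟨d₁, hd₁, u₁, hu₁, f₁⟩ := (hu c hc).2
          obtain ⟨d₂, hd₂, u₂, hu₂, f₂⟩ := (hv d₁ hd₁).2
          refine ⟨⟨c₂, hc₂, w₂ * w₁, mul_mem hw₂ hw₁, ?_⟩, ⟨d₂, hd₂, u₂ * u₁, mul_mem hu₂ hu₁, ?_⟩⟩
          · rw [mul_assoc u v, e₁, ← mul_assoc, e₂, mul_assoc]
          · rw [mul_inv_rev, mul_assoc, f₁, ← mul_assoc, f₂, mul_assoc]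
        · intro u _ hu c hc
          exact ⟨(hu c hc).2, by rw [inv_inv]; exact (hu c hc).1⟩
      obtain ⟨S', hS'⟩ := hmk hsup
      refine ⟨S', fun e => hStop (top_le_iff.1 fun g _ => ?_), hS'⟩
      have hf : ∀ g : G, ∃ a ∈ A₁ ⊔ A₂, ∃ c ∈ MulAut.conj x • B, g = a * c := fun g => by
        have hm : g ∈ (S' : Set G) := by rw [e]; exact Subgroup.mem_top g
        rw [hS'] at hm
        obtain ⟨a, ha, c, hc, he⟩ := Set.mem_mul.1 hm
        exact ⟨a, ha, c, hc, he.symm⟩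
      obtain ⟨a, ha, c, hc, he⟩ := CfsgLib.SolvStruct.factor_conj hf 1 (y * x⁻¹) g
      rw [map_one, one_smul] at ha
      rw [smul_smul, ← map_mul, inv_mul_cancel_right] at hc
      rw [he]
      exact mul_mem ((sup_le hA₁S hA₂S) ha) (hBS hc)
    have hA₂le : A₂ ≤ A₁ := le_sup_right.trans (hmax.le_of_ge hP le_sup_left)
    exact CfsgLib.Coprime.mem_normalizer_iff_conj_smul.2
      (Subgroup.eq_of_le_of_card_ge hA₂le (CfsgLib.Coprime.card_conj_smul b A₁).ge)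
  by_cases hN : Subgroup.normalizer (A₁ : Set G) = ⊤
  · obtain ⟨S, hStop, hS⟩ := hmax.prop 1
    refine ⟨A₁, Subgroup.normalizer_eq_top_iff.1 hN, fun e => hStop (top_le_iff.1 fun g _ => ?_),
      Or.inl hle⟩
    rw [← SetLike.mem_coe, hS]
    exact ⟨g, e ▸ Subgroup.mem_top g, 1, one_mem _, mul_one g⟩
  · refine ⟨Subgroup.normalClosure (B : Set G), Subgroup.normalClosure_normal,
      fun e => hN (top_le_iff.1 (e ▸ ?_)), Or.inr Subgroup.subset_normalClosure⟩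
    rw [Subgroup.normalClosure, Subgroup.closure_le]
    intro u hu
    obtain ⟨c, hc, hcon⟩ := Group.mem_conjugatesOfSet_iff.1 hu
    obtain ⟨g, rfl⟩ := isConj_iff.1 hcon
    exact hnorm g ⟨c, hc, rfl⟩

end Cfsg.Agent.S0566
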