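import Cfsg.Statements.S0567
import Mathlib

set_option autoImplicit false
open Cfsg
open scoped commutatorElement

namespace Cfsg.Agent.S0567

/-- A subgroup H of a group G is subnormal exactly when, for some m, the subgroup obtained from G by taking the commutator with H m times in succession is contained in H. -/
theorem result {G : Type*} [Group G] (H : Subgroup G) : H.IsSubnormal ↔ ∃ m : ℕ, (fun K : Subgroup G => ⁅K, H⁆)^[m] ⊤ ≤ H := by
  set φ : Subgroup G → Subgroup G := fun K => ⁅K, H⁆ with hφ
  constructor
  · intro hH
    have key : ∀ K : Subgroup G, K.IsSubnormal → H ≤ K → ∃ m : ℕ, φ^[m] ⊤ ≤ K := by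
      intro K hK
      induction hK with
      | top => exact fun _ => ⟨0, le_rfl⟩
      | step A B hAB _ hN ih =>
        intro hle
        obtain ⟨m, hm⟩ := ih (hle.trans hAB)
        refine ⟨m + 1, ?_⟩
        rw [Function.iterate_succ_apply']
        exact (Subgroup.commutator_mono hm hle).trans (Subgroup.le_normalizer_iff_commutator_le_right.1
          ((Subgroup.normal_subgroupOf_iff_le_normalizer hAB).1 hN))
    exact key H hH le_rfl
  · rintro ⟨m, hm⟩
    have key : ∀ n, (H ⊔ φ^[n] ⊤).IsSubnormal ∧ H ≤ Subgroup.normalizer ((φ^[n] ⊤ : Subgroup G) : Set G) := by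
      intro n
      induction n with
      | zero =>
        refine ⟨by simp, ?_⟩
        intro h _
        rw [Function.iterate_zero, id_eq, Subgroup.normalizer_eq_top]
        exact Subgroup.mem_top h
      | succ n ih =>
        set K := φ^[n] ⊤ with hK
        rw [Function.iterate_succ_apply']
        have h1 : ⁅K, H⁆ ≤ H ⊔ K := by
          rw [Subgroup.commutator_le]
          intro k hk h hh
          exact mul_mem (mul_mem (mul_mem (Subgroup.mem_sup_right hk) (Subgroup.mem_sup_left hh))
            (Subgroup.mem_sup_right (inv_mem hk))) (Subgroup.mem_sup_left (inv_mem hh))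
        refine ⟨Subgroup.IsSubnormal.step _ _ (sup_le le_sup_left h1) ih.1 ?_,
          Subgroup.normalizer_commutator_ge_right _ _⟩
        rw [Subgroup.normal_subgroupOf_iff_le_normalizer (sup_le le_sup_left h1), sup_le_iff]
        refine ⟨le_sup_left.trans Subgroup.le_normalizer, fun k hk => ?_⟩
        have hmap : ∀ k ∈ K, (H ⊔ ⁅K, H⁆).map (MulAut.conj k).toMonoidHom ≤ H ⊔ ⁅K, H⁆ := by
          intro k hk
          rw [Subgroup.map_sup, sup_le_iff]
          constructor
          · rintro _ ⟨h, hh, rfl⟩
            have he : k * h * k⁻¹ = ⁅k, h⁆ * h := by rw [commutatorElement_def]; group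
            change k * h * k⁻¹ ∈ _
            rw [he]
            exact mul_mem (Subgroup.mem_sup_right (Subgroup.commutator_mem_commutator hk hh))
              (Subgroup.mem_sup_left hh)
          · rintro _ ⟨c, hc, rfl⟩
            exact Subgroup.mem_sup_right ((Subgroup.mem_normalizer_iff.1
              (Subgroup.normalizer_commutator_ge_left _ _ hk) c).1 hc)
        rw [Subgroup.mem_normalizer_iff]
        intro x
        constructor
        · exact fun hx => hmap k hk ⟨x, hx, rfl⟩
        · intro hx
          have := hmap k⁻¹ (inv_mem hk) ⟨_, hx, rfl⟩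
          simpa [mul_assoc] using this
    have hfin := (key m).1
    rwa [sup_eq_left.2 hm] at hfin

end Cfsg.Agent.S0567
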