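import Cfsg.Statements.S0568
import Cfsg.Agent.Lib.SolvStruct.SystemNormalizer2

set_option autoImplicit false
open Cfsg
open scoped commutatorElement

namespace Cfsg.Agent.S0568

/-- Let D be the system normalizer of a Hall complement system of a finite solvable group G, and let A < B be normal subgroups with no normal subgroup of G strictly between them (a chief factor). If G centralizes B modulo A then B ≤ A ⊔ D (D covers the factor); otherwise B ∩ D ≤ A (D avoids it). -/
theorem result {G : Type*} [Group G] [Finite G] [Group.IsSolvable G] (K : Nat.Primes → Subgroup G) (hK : Cfsg.IsComplementSystem K) (A B : Subgroup G) [A.Normal] [B.Normal] (hAB : A < B) (hchief : ∀ N : Subgroup G, N.Normal → A ≤ N → N ≤ B → N = A ∨ N = B) : (⁅B, (⊤ : Subgroup G)⁆ ≤ A → B ≤ A ⊔ Cfsg.systemNormalizer K) ∧ (¬ ⁅B, (⊤ : Subgroup G)⁆ ≤ A → B ⊓ Cfsg.systemNormalizer K ≤ A) := by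
  haveI : Group.IsSolvable (G ⧸ A) :=
    Group.isSolvable_of_surjective (QuotientGroup.mk'_surjective A)
  have hK' := CfsgLib.SolvStruct.isComplementSystem_map hK A
  have hmap := CfsgLib.SolvStruct.systemNormalizer_map hK A
  have hcentral : ∀ b, QuotientGroup.mk' A b ∈ Subgroup.center (G ⧸ A) ↔ ∀ g : G, ⁅b, g⁆ ∈ A := by
    intro b
    rw [Subgroup.mem_center_iff]
    constructor
    · intro h g
      rw [← QuotientGroup.eq_one_iff, ← QuotientGroup.mk'_apply, map_commutatorElement,
        commutatorElement_eq_one_iff_mul_comm]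
      exact (h _).symm
    · intro h x
      obtain ⟨g, rfl⟩ := QuotientGroup.mk'_surjective A x
      have h1 := h g
      rw [← QuotientGroup.eq_one_iff, ← QuotientGroup.mk'_apply, map_commutatorElement,
        commutatorElement_eq_one_iff_mul_comm] at h1
      exact h1.symm
  constructor
  · intro hc b hb
    have hbc : QuotientGroup.mk' A b ∈
        Cfsg.systemNormalizer (fun p => (K p).map (QuotientGroup.mk' A)) := by
      rw [Cfsg.systemNormalizer, Subgroup.mem_iInf]
      intro p
      exact Subgroup.center_le_normalizer _ ((hcentral b).2 fun g =>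
        hc (Subgroup.commutator_mem_commutator hb (Subgroup.mem_top g)))
    rw [hmap] at hbc
    obtain ⟨d, hd, hde⟩ := hbc
    rw [← mul_inv_cancel_left d b]
    have h1 : d⁻¹ * b ∈ A := QuotientGroup.eq.1 hde
    exact mul_mem (Subgroup.mem_sup_right hd) (Subgroup.mem_sup_left h1)
  · intro hnc x hx
    have hBmin : CfsgLib.Base.IsMinimalNormal (B.map (QuotientGroup.mk' A)) := by
      refine ⟨Subgroup.Normal.map inferInstance _ (QuotientGroup.mk'_surjective A), fun h => ?_,
        fun X hX hle => ?_⟩
      · rw [Subgroup.map_eq_bot_iff, QuotientGroup.ker_mk'] at h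
        exact hAB.not_ge h
      · have hXe := Subgroup.map_comap_eq_self_of_surjective (QuotientGroup.mk'_surjective A) X
        rcases hchief (X.comap (QuotientGroup.mk' A)) (hX.comap _)
            (QuotientGroup.le_comap_mk' _ _) (by
              refine (Subgroup.comap_mono hle).trans ?_
              rw [Subgroup.comap_map_eq, QuotientGroup.ker_mk', sup_eq_left.2 hAB.le]) with h | h
        · left
          rw [← hXe, h, QuotientGroup.map_mk'_self]
        · right
          rw [← hXe, h]
    have hb := CfsgLib.SolvStruct.inf_systemNormalizer_eq_bot hK' hBmin fun hle => hnc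
      (Subgroup.commutator_le.2 fun b hb g _ => (hcentral b).1 (hle ⟨b, hb, rfl⟩) g)
    rw [hmap] at hb
    have h1 : QuotientGroup.mk' A x ∈ (⊥ : Subgroup (G ⧸ A)) :=
      hb ▸ ⟨⟨x, hx.1, rfl⟩, ⟨x, hx.2, rfl⟩⟩
    rw [Subgroup.mem_bot] at h1
    exact (QuotientGroup.eq_one_iff x).1 h1

end Cfsg.Agent.S0568
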