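import Cfsg.Statements.S0571
import Cfsg.Agent.Lib.SolvStruct.AbelianFactors
import Cfsg.Agent.Lib.SolvStruct.Supersolvable

set_option autoImplicit false
open Cfsg

namespace Cfsg.Agent.S0571

universe u

theorem supersolvable_of_cyclic_factors (n : ℕ) : ∀ {G : Type u} [Group G] [Finite G]
    (A B : Subgroup G) [IsCyclic A] [IsCyclic B], Nat.card G ≤ n →
      (∀ g : G, ∃ a ∈ A, ∃ b ∈ B, g = a * b) → Cfsg.IsSupersolvable G := by
  induction n with
  | zero => intro G _ _ _ _ _ _ h _; exact absurd h (Nat.not_le.2 Nat.card_pos)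
  | succ n ih =>
    intro G _ _ A B _ _ hn hAB
    rcases subsingleton_or_nontrivial G with h | h
    · exact CfsgLib.SolvStruct.supersolvable_of_subsingleton
    haveI : IsMulCommutative A := ⟨⟨fun a b => IsCyclic.commGroup.mul_comm a b⟩⟩
    haveI : IsMulCommutative B := ⟨⟨fun a b => IsCyclic.commGroup.mul_comm a b⟩⟩
    obtain ⟨N, hN, hne, hle⟩ := CfsgLib.SolvStruct.exists_normal_le_factor A B hAB
    haveI := hN
    haveI : IsCyclic N := by
      rcases hle with h' | h'
      · exact isCyclic_of_surjective (Subgroup.subgroupOfEquivOfLe h').toMonoidHom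
          (Subgroup.subgroupOfEquivOfLe h').surjective
      · exact isCyclic_of_surjective (Subgroup.subgroupOfEquivOfLe h').toMonoidHom
          (Subgroup.subgroupOfEquivOfLe h').surjective
    refine CfsgLib.SolvStruct.supersolvable_of_cyclic_normal N ?_
    haveI : IsCyclic (A.map (QuotientGroup.mk' N)) :=
      isCyclic_of_surjective ((QuotientGroup.mk' N).subgroupMap A)
        (MonoidHom.subgroupMap_surjective _ _)
    haveI : IsCyclic (B.map (QuotientGroup.mk' N)) :=
      isCyclic_of_surjective ((QuotientGroup.mk' N).subgroupMap B)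
        (MonoidHom.subgroupMap_surjective _ _)
    refine ih (A.map (QuotientGroup.mk' N)) (B.map (QuotientGroup.mk' N)) ?_ ?_
    · exact Nat.le_of_lt_succ ((CfsgLib.SolvStruct.card_quotient_lt' hne).trans_le hn)
    · intro g
      obtain ⟨g, rfl⟩ := QuotientGroup.mk'_surjective N g
      obtain ⟨a, ha, b, hb, rfl⟩ := hAB g
      exact ⟨_, ⟨a, ha, rfl⟩, _, ⟨b, hb, rfl⟩, map_mul _ _ _⟩

/-- If a finite group G is the product AB of two cyclic subgroups (every element is a product ab), then G is supersolvable. -/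
theorem result {G : Type*} [Group G] [Finite G] (A B : Subgroup G) [IsCyclic A] [IsCyclic B] (hAB : ∀ g : G, ∃ a ∈ A, ∃ b ∈ B, g = a * b) : Cfsg.IsSupersolvable G := by
  exact supersolvable_of_cyclic_factors _ A B le_rfl hAB

end Cfsg.Agent.S0571
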