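import Cfsg.Statements.S0576
import Cfsg.Agent.Lib.Base.Frattini

set_option autoImplicit false
open Cfsg

namespace Cfsg.Agent.S0576

/-- Let H be a normal subgroup of a finite group G with H contained in the Frattini subgroup of G. Then the group of inner automorphisms of H is contained in the Frattini subgroup of the automorphism group of H. -/
theorem result {G : Type*} [Group G] [Finite G] (H : Subgroup G) [H.Normal] (hH : H ≤ frattini G) : (MulAut.conj : ↥H →* MulAut ↥H).range ≤ frattini (MulAut ↥H) := by
  refine le_iInf₂ fun M hM => ?_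
  by_contra hle
  haveI hn : (MulAut.conj : ↥H →* MulAut ↥H).range.Normal := by
    refine ⟨?_⟩
    rintro _ ⟨h, rfl⟩ e
    exact ⟨e h, by ext; simp⟩
  have htop : M ⊔ (MulAut.conj : ↥H →* MulAut ↥H).range = ⊤ :=
    hM.2 _ (lt_of_le_of_ne le_sup_left fun e => hle (e ▸ le_sup_right))
  let α : G →* MulAut H := MulAut.conjNormal
  have hα : ∀ h : H, α (h : G) = MulAut.conj h := fun h => by ext; rfl
  have hU : M.comap α ⊔ frattini G = ⊤ := by
    rw [eq_top_iff]
    intro g _
    obtain ⟨m, hm, _, ⟨h, rfl⟩, hmh⟩ := Subgroup.mem_sup_of_normal_right.1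
      (htop.ge (Subgroup.mem_top (α g)))
    have hmem : g * (h : G)⁻¹ ∈ M.comap α := by
      rw [Subgroup.mem_comap, map_mul, map_inv, hα, ← hmh, mul_inv_cancel_right]
      exact hm
    have := Subgroup.mul_mem_sup hmem (hH h.2)
    simpa using this
  have hUtop := CfsgLib.Base.eq_top_of_sup_frattini hU
  refine hle ?_
  rintro _ ⟨h, rfl⟩
  have : (h : G) ∈ M.comap α := hUtop.ge (Subgroup.mem_top _)
  rwa [Subgroup.mem_comap, hα] at this

end Cfsg.Agent.S0576
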