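import Cfsg.Statements.S0577
import Cfsg.Agent.Lib.Base.MinNonNilpotent
import Cfsg.Agent.Lib.Coprime.Action2
import Cfsg.Agent.Lib.PGroups.Basic

set_option autoImplicit false
open Cfsg

namespace Cfsg.Agent.S0577

open scoped commutatorElement

/-- Let G be a finite minimal non-nilpotent group and Q a normal Sylow q-subgroup of G, and let D be the commutator subgroup of Q regarded in G (a normal subgroup). Then G modulo D is non-abelian and all its proper subgroups are abelian. -/
theorem result {G : Type*} [Group G] [Finite G] (hG : Cfsg.IsMinimalNonNilpotent G) (q : ℕ) [Fact q.Prime] (hq : q ∣ Nat.card G) (Q : Sylow q G) (hQ : (Q : Subgroup G).Normal) (D : Subgroup G) [D.Normal] (hD : D = (commutator ↥(Q : Subgroup G)).map (Q : Subgroup G).subtype) : ¬ IsMulCommutative (G ⧸ D) ∧ ∀ K : Subgroup (G ⧸ D), K ≠ ⊤ → IsMulCommutative K := by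
  obtain ⟨p, q₀, hp, hq₀, P, Q₀, hpq, hc, hPn, hQ₀, hPQ⟩ :=
    CfsgLib.Base.MinNonNilpotent.exists_structure hG
  have hqp : q ≠ p := by
    rintro rfl
    haveI := Sylow.unique_of_normal Q hQ
    exact hPn (by rwa [Subsingleton.elim P Q])
  haveI := hQ₀
  have hq₀q : q = q₀ := by
    have hd : q ∣ Nat.card (P : Subgroup G) * Nat.card (Q₀ : Subgroup G) := by
      refine hq.trans ?_
      conv_lhs => rw [← Subgroup.card_top (G := G), ← hPQ]
      exact CfsgLib.Base.card_sup_dvd _ _
    obtain ⟨a, ha⟩ := IsPGroup.iff_card.1 P.isPGroup'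
    obtain ⟨b, hb⟩ := IsPGroup.iff_card.1 Q₀.isPGroup'
    rw [ha, hb] at hd
    rcases (Fact.out (p := q.Prime)).dvd_mul.1 hd with h | h
    · exact absurd ((Nat.prime_dvd_prime_iff_eq Fact.out hp.out).1 ((Fact.out (p := q.Prime)).dvd_of_dvd_pow h)) hqp
    · exact (Nat.prime_dvd_prime_iff_eq Fact.out hq₀.out).1 ((Fact.out (p := q.Prime)).dvd_of_dvd_pow h)
  subst hq₀q
  haveI := Sylow.unique_of_normal Q hQ
  obtain rfl : Q₀ = Q := Subsingleton.elim _ _
  set π := QuotientGroup.mk' D
  have hDQ : D ≤ (Q₀ : Subgroup G) := hD ▸ Subgroup.map_subtype_le _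
  have hcop : (Nat.card (P : Subgroup G)).Coprime (Nat.card (Q₀ : Subgroup G)) :=
    IsPGroup.coprime_card_of_ne p q hpq _ _ P.isPGroup' Q₀.isPGroup'
  refine ⟨fun hab => hPn ?_, fun K hK => ?_⟩
  · refine Subgroup.normalizer_eq_top_iff.1 (top_le_iff.1 ?_)
    rw [← hPQ, sup_le_iff]
    refine ⟨Subgroup.le_normalizer, le_trans ?_ (Subgroup.centralizer_le_normalizer _)⟩
    rw [Subgroup.le_centralizer_iff]
    refine CfsgLib.Coprime.le_centralizer_of_trivial_mod_frattini
      (le_top.trans (Subgroup.normalizer_eq_top_iff.2 hQ₀).ge)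
      (hcop.coprime_dvd_right (Subgroup.card_subgroup_dvd_card _)) fun a ha k hk => ?_
    have hmem : a * k * a⁻¹ * k⁻¹ ∈ D := by
      rw [← QuotientGroup.eq_one_iff]
      have := hab.is_comm.comm (π a) (π k)
      show π (a * k * a⁻¹ * k⁻¹) = 1
      rw [map_mul, map_mul, map_mul, this, map_inv, map_inv]
      group
    rw [hD] at hmem
    exact Subgroup.map_mono (CfsgLib.PGroups.commutator_le_frattini Q₀.isPGroup') hmem
  · set L := K.comap π with hL
    have hLne : L ≠ ⊤ := fun e => hK (by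
      rw [← CfsgLib.Base.map_mk'_comap D K, ← hL, e,
        Subgroup.map_top_of_surjective _ (QuotientGroup.mk'_surjective D)])
    haveI := hG.2 L hLne
    obtain ⟨S⟩ := (inferInstance : Nonempty (Sylow p L))
    have hScyc : IsCyclic ↥(S : Subgroup L) := by
      obtain ⟨P', hP'⟩ := (S.isPGroup'.map L.subtype).exists_le_sylow
      haveI : IsCyclic ↥(P' : Subgroup G) := (Sylow.equiv P P').isCyclic.1 hc
      have h1 : IsCyclic ↥((S : Subgroup L).map L.subtype) := Subgroup.isCyclic_of_le hP'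
      exact ((S : Subgroup L).equivMapOfInjective _ L.subtype_injective).isCyclic.2 h1
    let f : L →* K := (π.comp L.subtype).codRestrict K fun x => x.2
    have hf : Function.Surjective f := by
      rintro ⟨k, hk⟩
      obtain ⟨g, rfl⟩ := QuotientGroup.mk'_surjective D k
      exact ⟨⟨g, hk⟩, rfl⟩
    have hQcomm : ∀ a b : L, (a : G) ∈ (Q₀ : Subgroup G) → (b : G) ∈ (Q₀ : Subgroup G) →
        f a * f b = f b * f a := by
      intro a b ha hb
      refine Subtype.ext ?_
      show π a * π b = π b * π a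
      rw [← map_mul, ← map_mul, QuotientGroup.mk'_apply, QuotientGroup.mk'_apply, QuotientGroup.eq, hD]
      refine ⟨⁅(⟨b, hb⟩ : ↥(Q₀ : Subgroup G))⁻¹, (⟨a, ha⟩ : ↥(Q₀ : Subgroup G))⁻¹⁆,
        Subgroup.commutator_mem_commutator (Subgroup.mem_top _) (Subgroup.mem_top _), ?_⟩
      simp [commutatorElement_def, mul_assoc]
    set T := (Q₀ : Subgroup G).subgroupOf L
    have hTS : T ≤ Subgroup.centralizer ((S : Subgroup L) : Set L) := by
      haveI := hq₀
      refine CfsgLib.Base.MinNonNilpotent.le_centralizer_of_nilpotent hpq S.isPGroup'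
        (Q₀.isPGroup'.comap_subtype) ?_
      infer_instance
    have htop : (S : Subgroup L) ⊔ T = ⊤ := by
      refine Subgroup.index_eq_one.1 (Nat.eq_one_of_dvd_coprimes (a := (S : Subgroup L).index)
        (b := T.index) ?_ (Subgroup.index_dvd_of_le le_sup_left) (Subgroup.index_dvd_of_le le_sup_right))
      have h1 : T.index ∣ Nat.card (P : Subgroup G) := by
        refine (Subgroup.relIndex_dvd_index_of_normal (Q₀ : Subgroup G) L).trans ?_
        have h := CfsgLib.Base.card_sup_dvd (P : Subgroup G) (Q₀ : Subgroup G)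
        rw [hPQ, Subgroup.card_top, ← (Q₀ : Subgroup G).index_mul_card] at h
        exact Nat.dvd_of_mul_dvd_mul_right Nat.card_pos h
      refine Nat.Coprime.coprime_dvd_right h1 ?_
      obtain ⟨a, ha⟩ := IsPGroup.iff_card.1 P.isPGroup'
      rw [ha]
      exact ((hp.out.coprime_iff_not_dvd.2 S.not_dvd_index).symm).pow_right a
    have hgen : ∀ y : L, ∃ s ∈ (S : Subgroup L), ∃ t ∈ T, y = s * t := fun y => by
      obtain ⟨s, hs, t, ht, e⟩ := Subgroup.mem_sup_of_normal_right.1 (htop.ge (Subgroup.mem_top y))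
      exact ⟨s, hs, t, ht, e.symm⟩
    refine ⟨⟨fun x y => ?_⟩⟩
    obtain ⟨a, rfl⟩ := hf x
    obtain ⟨b, rfl⟩ := hf y
    obtain ⟨s, hs, t, ht, rfl⟩ := hgen a
    obtain ⟨s', hs', t', ht', rfl⟩ := hgen b
    have c1 : Commute (f s) (f s') := by
      obtain ⟨g, hg⟩ := hScyc.exists_generator
      obtain ⟨i, hi⟩ := Subgroup.mem_zpowers_iff.1 (hg ⟨s, hs⟩)
      obtain ⟨j, hj⟩ := Subgroup.mem_zpowers_iff.1 (hg ⟨s', hs'⟩)
      have hi' : ((g : L) ^ i) = s := congrArg Subtype.val hi
      have hj' : ((g : L) ^ j) = s' := congrArg Subtype.val hj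
      rw [← hi', ← hj']
      exact (Commute.zpow_zpow_self _ i j).map f
    have c2 : Commute (f s) (f t') := (Commute.map (Subgroup.mem_centralizer_iff.1 (hTS ht') s hs) f)
    have c3 : Commute (f t) (f s') := (Commute.map (Subgroup.mem_centralizer_iff.1 (hTS ht) s' hs').symm f)
    have c4 : Commute (f t) (f t') := hQcomm t t' ht ht'
    rw [map_mul, map_mul]
    exact ((c1.mul_right c2).mul_left (c3.mul_right c4)).eq

end Cfsg.Agent.S0577
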