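import Cfsg.Statements.S0578
import Cfsg.Agent.Lib.Base.Nilpotent

set_option autoImplicit false
open Cfsg
open scoped commutatorElement

namespace Cfsg.Agent.S0578

/-- If in a finite group the normalizer of each abelian subgroup coincides with its centralizer, then the group is abelian. -/
theorem result {G : Type*} [Group G] [Finite G] (h : ∀ A : Subgroup G, IsMulCommutative A → Subgroup.normalizer (A : Set G) = Subgroup.centralizer (A : Set G)) : IsMulCommutative G := by
  have hsyl : ∀ (p : ℕ) [Fact p.Prime] (P : Sylow p G), IsMulCommutative (P : Subgroup G) := by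
    intro p _ P
    haveI : Group.IsNilpotent (P : Subgroup G) := P.isPGroup'.isNilpotent
    obtain ⟨A, hA⟩ := Set.Finite.exists_maximal
      (s := {A : Subgroup (P : Subgroup G) | A.Normal ∧ IsMulCommutative A}) (Set.toFinite _)
      ⟨⊥, inferInstance, ⟨⟨fun a b => Subsingleton.elim _ _⟩⟩⟩
    haveI := hA.1.1
    haveI := hA.1.2
    have hc : Subgroup.centralizer (A : Set (P : Subgroup G)) = A :=
      CfsgLib.Base.centralizer_eq_self_of_maximal fun M hMn hMc hle =>
        le_antisymm (hA.2 ⟨hMn, hMc⟩ hle) hle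
    have hA' : IsMulCommutative (A.map (P : Subgroup G).subtype) := by
      refine ⟨⟨?_⟩⟩
      rintro ⟨_, a, ha, rfl⟩ ⟨_, b, hb, rfl⟩
      exact Subtype.ext (congrArg (fun z : A => ((z : (P : Subgroup G)) : G))
        (hA.1.2.is_comm.comm (⟨a, ha⟩ : A) ⟨b, hb⟩))
    have htop : A = ⊤ := by
      rw [eq_top_iff, ← hc]
      intro x _
      refine Subgroup.mem_centralizer_iff.2 fun a ha => Subtype.ext ?_
      have hx : (x : G) ∈ Subgroup.normalizer ((A.map (P : Subgroup G).subtype : Subgroup G) : Set G) :=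
        Subgroup.le_normalizer_map _ ⟨x, by
          rw [SetLike.mem_coe, Subgroup.normalizer_eq_top_iff.2 hA.1.1]; exact Subgroup.mem_top _, rfl⟩
      rw [h _ hA'] at hx
      exact Subgroup.mem_centralizer_iff.1 hx _ ⟨a, ha, rfl⟩
    exact ⟨⟨fun a b => congrArg Subtype.val
      (hA.1.2.is_comm.comm (⟨a, htop.symm ▸ Subgroup.mem_top a⟩ : A)
        ⟨b, htop.symm ▸ Subgroup.mem_top b⟩)⟩⟩
  have hcomm : commutator G = ⊥ := by
    refine Subgroup.card_eq_one.1 ?_
    by_contra hne
    obtain ⟨p, hp, hd⟩ := Nat.exists_prime_and_dvd hne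
    haveI := Fact.mk hp
    obtain ⟨P⟩ : Nonempty (Sylow p G) := inferInstance
    haveI := hsyl p P
    have hP : Subgroup.normalizer ((P : Subgroup G) : Set G) ≤
        Subgroup.centralizer ((P : Subgroup G) : Set G) := (h _ (hsyl p P)).le
    refine MonoidHom.not_dvd_card_ker_transferSylow P hP (hd.trans (Subgroup.card_dvd_of_le ?_))
    rw [commutator_def, Subgroup.commutator_le]
    intro a _ b _
    rw [MonoidHom.mem_ker, map_commutatorElement, commutatorElement_eq_one_iff_mul_comm]
    exact (hsyl p P).is_comm.comm _ _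
  refine ⟨⟨fun a b => commutatorElement_eq_one_iff_mul_comm.1 ?_⟩⟩
  rw [← Subgroup.mem_bot, ← hcomm]
  exact Subgroup.commutator_mem_commutator (Subgroup.mem_top a) (Subgroup.mem_top b)

end Cfsg.Agent.S0578
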