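import Cfsg.Statements.S0584
import Cfsg.Agent.Lib.Base.Nilpotent

set_option autoImplicit false
open Cfsg

namespace Cfsg.Agent.S0584

/-- Let B ≤ A be normal subgroups of a finite group G with B contained in the Frattini subgroup of G. If A modulo B is nilpotent then A is nilpotent. -/
theorem result {G : Type*} [Group G] [Finite G] (A B : Subgroup G) [A.Normal] [B.Normal] (hBA : B ≤ A) (hB : B ≤ frattini G) (h : Group.IsNilpotent (↥A ⧸ B.subgroupOf A)) : Group.IsNilpotent A := by
  haveI := h
  have hker : B.subgroupOf A ≤ ((QuotientGroup.mk' (frattini G)).subgroupMap A).ker := by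
    intro x hx
    rw [MonoidHom.mem_ker]
    apply Subtype.ext
    exact (QuotientGroup.eq_one_iff (x : G)).2 (hB (Subgroup.mem_subgroupOf.1 hx))
  have hnil : Group.IsNilpotent (A.map (QuotientGroup.mk' (frattini G))) :=
    Group.nilpotent_of_surjective (QuotientGroup.lift (B.subgroupOf A) _ hker)
      (QuotientGroup.lift_surjective_of_surjective _ _
        (MonoidHom.subgroupMap_surjective _ _) hker)
  have hM : Group.IsNilpotent (A ⊔ frattini G : Subgroup G) := by
    refine CfsgLib.Base.isNilpotent_of_map_frattini le_sup_right ?_
    have he : (A ⊔ frattini G).map (QuotientGroup.mk' (frattini G)) =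
        A.map (QuotientGroup.mk' (frattini G)) := by
      rw [Subgroup.map_sup, sup_eq_left]
      rw [QuotientGroup.map_mk'_self]
      exact bot_le
    rw [he]
    exact hnil
  exact CfsgLib.Base.isNilpotent_of_le le_sup_left hM

end Cfsg.Agent.S0584
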