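import Cfsg.Statements.S0587
import Cfsg.Agent.Lib.PGroups.Basic
import Cfsg.Agent.Lib.Base.Frattini
import Cfsg.Agent.Lib.Base.Cores

set_option autoImplicit false
open Cfsg
open scoped commutatorElement

namespace Cfsg.Agent.S0587

/-- Let G be a finite group whose largest normal p-subgroup L is nontrivial, and M a maximal subgroup of G with trivial normal core. Then L is elementary abelian, M is a complement to L, L is a minimal normal subgroup of G, the centralizer of L is L, and for every prime q such that the largest normal q-subgroup of M is nontrivial, the order of L is congruent to 1 modulo q and q ≠ p. -/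
theorem result {G : Type*} [Group G] [Finite G] (p : ℕ) [Fact p.Prime] (hL : Cfsg.pCore p G ≠ ⊥) (M : Subgroup G) (hM : IsCoatom M) (hcore : M.normalCore = ⊥) : Cfsg.IsElementaryAbelian p (Cfsg.pCore p G) ∧ Subgroup.IsComplement' (Cfsg.pCore p G) M ∧ (∀ K : Subgroup G, K.Normal → K ≤ Cfsg.pCore p G → K = ⊥ ∨ K = Cfsg.pCore p G) ∧ Subgroup.centralizer ((Cfsg.pCore p G : Subgroup G) : Set G) = Cfsg.pCore p G ∧ ∀ (q : ℕ) [Fact q.Prime], Cfsg.pCore q ↥M ≠ ⊥ → Nat.card (Cfsg.pCore p G) % q = 1 % q ∧ q ≠ p := by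
  set L := Cfsg.pCore p G with hLdef
  have hpg : IsPGroup p L := CfsgLib.Base.isPGroup_pCore p G
  have key : ∀ (K : Subgroup G) [K.Normal], K ≠ ⊥ → K ⊔ M = ⊤ := by
    intro K _ hK
    refine hM.2 _ (right_lt_sup.2 fun hle => hK ?_)
    exact le_bot_iff.1 (hcore ▸ Subgroup.normal_le_normalCore.2 hle)
  have hΦ : frattini L = ⊥ := by
    by_contra hne
    haveI : ((frattini L).map L.subtype).Normal := ConjAct.normal_of_characteristic_of_normal
    refine hne ((Subgroup.map_eq_bot_iff_of_injective _ L.subtype_injective).1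
      (le_bot_iff.1 (hcore ▸ Subgroup.normal_le_normalCore.2 ?_)))
    exact (CfsgLib.Base.map_frattini_le_frattini L).trans (frattini_le_coatom hM)
  have hab : IsMulCommutative L := by
    refine ⟨⟨fun a b => commutatorElement_eq_one_iff_mul_comm.1 ?_⟩⟩
    rw [← Subgroup.mem_bot, ← hΦ]
    exact CfsgLib.PGroups.commutator_le_frattini hpg
      (Subgroup.commutator_mem_commutator (Subgroup.mem_top a) (Subgroup.mem_top b))
  haveI := hab
  have hexp : ∀ a ∈ L, a ^ p = 1 := fun a ha => by
    have h1 := CfsgLib.PGroups.pow_mem_frattini hpg (⟨a, ha⟩ : L)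
    rw [hΦ, Subgroup.mem_bot] at h1
    exact congrArg Subtype.val h1
  have hnorm : ∀ S : Subgroup G, S ≤ L → M ≤ Subgroup.normalizer (S : Set G) → S.Normal := by
    intro S hS hMS
    rw [← Subgroup.normalizer_eq_top_iff, eq_top_iff, ← key L hL, sup_le_iff]
    exact ⟨(L.le_centralizer.trans (Subgroup.centralizer_le hS)).trans
      (Subgroup.centralizer_le_normalizer _), hMS⟩
  have hLM : L ⊓ M = ⊥ := by
    haveI := hnorm (L ⊓ M) inf_le_left
      ((le_inf Subgroup.le_normalizer_of_normal Subgroup.le_normalizer).trans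
        Subgroup.inf_normalizer_le_normalizer_inf)
    exact le_bot_iff.1 (hcore ▸ Subgroup.normal_le_normalCore.2 inf_le_right)
  set C := Subgroup.centralizer (L : Set G) with hC
  haveI : C.Normal := inferInstanceAs (Subgroup.centralizer (L : Set G)).Normal
  have hLC : L ≤ C := L.le_centralizer
  have hCM : C ⊓ M = ⊥ := by
    haveI : (C ⊓ M).Normal := by
      rw [← Subgroup.normalizer_eq_top_iff, eq_top_iff, ← key L hL, sup_le_iff]
      constructor
      · refine le_trans ?_ (Subgroup.centralizer_le_normalizer _)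
        intro l hl
        exact Subgroup.mem_centralizer_iff.2 fun c hc =>
          (Subgroup.mem_centralizer_iff.1 hc.1 l hl).symm
      · exact (le_inf Subgroup.le_normalizer_of_normal Subgroup.le_normalizer).trans
          Subgroup.inf_normalizer_le_normalizer_inf
    exact le_bot_iff.1 (hcore ▸ Subgroup.normal_le_normalCore.2 inf_le_right)
  refine ⟨⟨hab, hexp⟩, ?_, ?_, ?_, ?_⟩
  · refine Subgroup.isComplement'_of_disjoint_and_mul_eq_univ (disjoint_iff.2 hLM) ?_
    rw [Set.eq_univ_iff_forall]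
    intro g
    obtain ⟨a, ha, m, hm, rfl⟩ :=
      Subgroup.mem_sup_of_normal_left.1 ((key L hL).symm ▸ Subgroup.mem_top g)
    exact Set.mul_mem_mul ha hm
  · intro K hK hKL
    by_cases hKb : K = ⊥
    · exact Or.inl hKb
    refine Or.inr (le_antisymm hKL fun l hl => ?_)
    haveI := hK
    obtain ⟨k, hk, m, hm, rfl⟩ :=
      Subgroup.mem_sup_of_normal_left.1 ((key K hKb).symm ▸ Subgroup.mem_top l)
    have : m ∈ L ⊓ M := ⟨(Subgroup.mul_mem_cancel_left L (hKL hk)).1 hl, hm⟩
    rw [hLM, Subgroup.mem_bot] at this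
    rw [this, mul_one]
    exact hk
  · refine le_antisymm (fun c hc => ?_) hLC
    obtain ⟨l, hl, m, hm, rfl⟩ :=
      Subgroup.mem_sup_of_normal_left.1 ((key L hL).symm ▸ Subgroup.mem_top c)
    have : m ∈ C ⊓ M := ⟨(Subgroup.mul_mem_cancel_left C (hLC hl)).1 hc, hm⟩
    rw [hCM, Subgroup.mem_bot] at this
    rw [this, mul_one]
    exact hl
  intro q hq hQ
  have hQg : IsPGroup q (Cfsg.pCore q ↥M) := CfsgLib.Base.isPGroup_pCore q M
  set Q : Subgroup G := (Cfsg.pCore q ↥M).map M.subtype with hQdef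
  have hQpg : IsPGroup q Q := hQg.map _
  have hQM : Q ≤ M := Subgroup.map_subtype_le _
  have hQn : M ≤ Subgroup.normalizer (Q : Set G) := CfsgLib.Base.le_normalizer_map_pCore M
  have hQne : Q ≠ ⊥ := fun h =>
    hQ ((Subgroup.map_eq_bot_iff_of_injective _ M.subtype_injective).1 h)
  have hfix : L ⊓ Subgroup.centralizer (Q : Set G) = ⊥ := by
    have hMn : M ≤ Subgroup.normalizer ((L ⊓ Subgroup.centralizer (Q : Set G) : Subgroup G) : Set G) := by
      intro m hm
      have hcl : ∀ m ∈ M, ∀ x ∈ L ⊓ Subgroup.centralizer (Q : Set G),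
          m * x * m⁻¹ ∈ L ⊓ Subgroup.centralizer (Q : Set G) := by
        intro m hm x hx
        refine ⟨(inferInstance : L.Normal).conj_mem x hx.1 m, Subgroup.mem_centralizer_iff.2 fun y hy => ?_⟩
        have hy' : m⁻¹ * y * m ∈ Q := by
          simpa using (Subgroup.mem_normalizer_iff.1 (hQn (inv_mem hm)) y).1 hy
        have h1 := Subgroup.mem_centralizer_iff.1 hx.2 _ hy'
        calc y * (m * x * m⁻¹) = m * ((m⁻¹ * y * m) * x) * m⁻¹ := by group
          _ = m * (x * (m⁻¹ * y * m)) * m⁻¹ := by rw [h1]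
          _ = _ := by group
      rw [Subgroup.mem_normalizer_iff]
      intro x
      refine ⟨hcl m hm x, fun hx => ?_⟩
      simpa [mul_assoc] using hcl m⁻¹ (inv_mem hm) _ hx
    haveI := hnorm _ inf_le_left hMn
    by_contra hne
    refine hQne (le_bot_iff.1 (hCM ▸ le_inf (fun y hy => ?_) hQM))
    refine Subgroup.mem_centralizer_iff.2 fun l hl => ?_
    obtain ⟨k, hk, m, hm, rfl⟩ :=
      Subgroup.mem_sup_of_normal_left.1 ((key _ hne).symm ▸ Subgroup.mem_top l)
    have : m ∈ L ⊓ M := ⟨(Subgroup.mul_mem_cancel_left L hk.1).1 hl, hm⟩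
    rw [hLM, Subgroup.mem_bot] at this
    rw [this, mul_one]
    exact (Subgroup.mem_centralizer_iff.1 hk.2 y hy).symm
  letI : MulAction Q L := MulAction.compHom L ((MulAut.conjNormal (H := L)).comp Q.subtype)
  have hmod : Nat.card L % q = 1 % q := by
    have h1 := hQpg.card_modEq_card_fixedPoints L
    have h2 : MulAction.fixedPoints Q L = {1} := by
      ext x
      refine ⟨fun hx => ?_, fun hx => ?_⟩
      · have hmem : (x : G) ∈ L ⊓ Subgroup.centralizer (Q : Set G) := by
          refine ⟨x.2, Subgroup.mem_centralizer_iff.2 fun y hy => ?_⟩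
          have h3 : y * (x : G) * y⁻¹ = x := congrArg Subtype.val (hx ⟨y, hy⟩)
          exact mul_inv_eq_iff_eq_mul.1 h3
        rw [hfix, Subgroup.mem_bot] at hmem
        exact Subtype.ext hmem
      · rw [Set.mem_singleton_iff] at hx
        subst hx
        intro y
        exact map_one (MulAut.conjNormal (H := L) (y : G))
    rw [h2] at h1
    simpa [Nat.ModEq] using h1
  refine ⟨hmod, fun hqp => ?_⟩
  subst hqp
  haveI : Nontrivial L := (Subgroup.nontrivial_iff_ne_bot L).2 hL
  rcases hpg.card_eq_or_dvd with h1 | h1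
  · exact hL (Subgroup.card_eq_one.1 h1)
  · rw [Nat.mod_eq_zero_of_dvd h1, Nat.mod_eq_of_lt hq.out.one_lt] at hmod
    exact Nat.zero_ne_one hmod

end Cfsg.Agent.S0587
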