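import Cfsg.Statements.S0589
import Cfsg.Agent.Lib.Base.ThompsonFPF
import Cfsg.Agent.Lib.Coprime.SchurZassenhaus

set_option autoImplicit false
open Pointwise
open Cfsg
open scoped Pointwise

namespace Cfsg.Agent.S0589

/-- Let H be a Frobenius complement in a finite group G and L a subgroup of G whose order divides the order of H. Then L is contained in some conjugate of H. -/
theorem result {G : Type*} [Group G] [Finite G] (H : Subgroup G) (hH : Cfsg.IsFrobeniusComplement H) (L : Subgroup G) (hL : Nat.card L ∣ Nat.card H) : ∃ x : G, L ≤ MulAut.conj x • H := by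
  obtain ⟨N, -, hN, hc, hnil⟩ := CfsgLib.Base.Frobenius.exists_nilpotent_kernel hH
  haveI := hN
  haveI := hnil
  have hcop : (Nat.card N).Coprime (Nat.card H) := by
    have h := CfsgLib.Base.Frobenius.coprime_card_index hH
    rw [hc.index_eq_card] at h
    exact h.symm
  obtain ⟨a, -, ha⟩ := CfsgLib.Coprime.sz_conj_le (N := N) (H := H) (U := L)
    Subgroup.le_normalizer_of_normal (by rw [hc.sup_eq_top]; exact le_top) hcop
    (hcop.coprime_dvd_right hL) (Or.inl inferInstance)
  exact ⟨a⁻¹, by
    rw [map_inv, Subgroup.subset_pointwise_smul_iff, inv_inv]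
    exact ha⟩

end Cfsg.Agent.S0589
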