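import Cfsg.Statements.S0592
import Cfsg.Agent.Lib.PLocal.TwoGenQuadratic

set_option autoImplicit false
open Cfsg

namespace Cfsg.Agent.S0592

/-- Two quadratically acting generators of a linear group that is not a p-group, with the p'-part of the order of their product dividing q - 1, give a homomorphism onto a subgroup of SL(2, q) that is not a p-group. -/
theorem result {K : Type*} [Field K] [Fintype K] {p : ℕ} [Fact p.Prime] [CharP K p] {W : Type*} [AddCommGroup W] [Module K W] [FiniteDimensional K W] [Finite W] [Nontrivial W] (H : Subgroup (W ≃ₗ[K] W)) (a b : W ≃ₗ[K] W) (hH : H = Subgroup.closure {a, b}) (ha : ∀ w : W, a (a w - w) = a w - w) (hb : ∀ w : W, b (b w - w) = b w - w) (hnp : ¬ IsPGroup p H) (hk : ∃ e k : ℕ, orderOf (a * b) = p ^ e * k ∧ k ∣ Fintype.card K - 1) : ∃ φ : H →* Matrix.SpecialLinearGroup (Fin 2) K, ¬ IsPGroup p φ.range := by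
  obtain ⟨e, k, hord, hk⟩ := hk
  haveI : Finite (W ≃ₗ[K] W) := Finite.of_injective _ DFunLike.coe_injective
  let ρ : H →* (W →ₗ[K] W) :=
    { toFun := fun g => ((g : W ≃ₗ[K] W) : W →ₗ[K] W)
      map_one' := rfl
      map_mul' := fun _ _ => rfl }
  have hinj : Function.Injective ρ := fun g h hgh =>
    Subtype.ext (LinearEquiv.toLinearMap_injective hgh)
  have haH : a ∈ H := hH ▸ Subgroup.subset_closure (by simp)
  have hbH : b ∈ H := hH ▸ Subgroup.subset_closure (by simp)
  have hgen : Subgroup.closure ({⟨a, haH⟩, ⟨b, hbH⟩} : Set H) = ⊤ := by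
    apply Subgroup.map_injective (f := H.subtype) H.subtype_injective
    rw [MonoidHom.map_closure, Set.image_pair, ← MonoidHom.range_eq_map, Subgroup.range_subtype]
    exact hH.symm
  refine CfsgLib.PLocal.TwoGen.exists_plane_section ρ hinj ⟨a, haH⟩ ⟨b, hbH⟩ hgen ?_ ?_ hnp hk
    (Subtype.ext ?_) (e := e)
  · ext w
    rw [pow_two]
    exact sub_eq_zero.2 (ha w)
  · ext w
    rw [pow_two]
    exact sub_eq_zero.2 (hb w)
  · show (a * b) ^ _ = 1
    rw [← hord]
    exact pow_orderOf_eq_one _

end Cfsg.Agent.S0592
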