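import Cfsg.Statements.S0594
import Cfsg.Agent.Lib.OddOrder.QuadraticSection

set_option autoImplicit false
open Cfsg
open scoped commutatorElement

namespace Cfsg.Agent.S0594

/-- For odd p, two quadratic generators of a faithful group that is not a p-group, one of which acts nontrivially on a normal subgroup of order prime to p, force p = 3 and a section isomorphic to SL(2,3). -/
theorem result {G : Type*} [Group G] [Finite G] {p : ℕ} [Fact p.Prime] (hp : p ≠ 2) (V H : Subgroup G) (hV : Cfsg.IsElementaryAbelian p V) (hHV : H ≤ Subgroup.normalizer (V : Set G)) (hf : H ⊓ Subgroup.centralizer (V : Set G) = ⊥) (a b : G) (hab : H = Subgroup.closure {a, b}) (ha : ⁅⁅V, Subgroup.zpowers a⁆, Subgroup.zpowers a⁆ = ⊥) (hb : ⁅⁅V, Subgroup.zpowers b⁆, Subgroup.zpowers b⁆ = ⊥) (hnp : ¬ IsPGroup p H) (Q : Subgroup G) (hQH : Q ≤ H) (hQn : H ≤ Subgroup.normalizer (Q : Set G)) (hQ : (Nat.card Q).Coprime p) (hQa : ⁅Q, Subgroup.zpowers a⁆ ≠ ⊥) : p = 3 ∧ ∃ (K L :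 Subgroup G) (hL : (L.subgroupOf K).Normal), K ≤ H ∧ Nonempty ((K ⧸ L.subgroupOf K) ≃* Matrix.SpecialLinearGroup (Fin 2) (ZMod 3)) := by
  subst hab
  have haH : a ∈ Subgroup.closure ({a, b} : Set G) := Subgroup.subset_closure (Or.inl rfl)
  have hap : a ^ p = 1 := by
    have h1 := CfsgLib.PLocal.pow_mem_centralizer_of_quadratic hV
      (H := Subgroup.zpowers a) ((Subgroup.zpowers_le.2 haH).trans hHV) ha (Subgroup.mem_zpowers a)
    exact Subgroup.mem_bot.1 (hf ▸ ⟨pow_mem haH p, h1⟩)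
  have hAp : IsPGroup p (Subgroup.zpowers a) := by
    obtain ⟨k, -, hk⟩ := (Nat.dvd_prime_pow (Fact.out : p.Prime)).1
      (show orderOf a ∣ p ^ 1 by rw [pow_one]; exact orderOf_dvd_of_pow_eq_one hap)
    exact IsPGroup.of_card (by rw [Nat.card_zpowers]; exact hk)
  set S := Q ⊔ Subgroup.zpowers a with hS
  have hSH : S ≤ Subgroup.closure ({a, b} : Set G) := sup_le hQH (Subgroup.zpowers_le.2 haH)
  have haS : a ∈ S := Subgroup.mem_sup_right (Subgroup.mem_zpowers a)
  have hQS : Q ≤ S := le_sup_left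
  have hSQ : S ≤ Subgroup.normalizer (Q : Set G) := hSH.trans hQn
  have hNn : (Q.subgroupOf S).Normal := (Subgroup.normal_subgroupOf_iff_le_normalizer hQS).2 hSQ
  have hps : Cfsg.IsPSolvable p S := by
    refine CfsgLib.PLocal.isPSolvable_of_normal (Q.subgroupOf S) ?_ ?_
    · exact CfsgLib.PLocal.isPSolvable_of_coprime
        (by rwa [Nat.card_congr (Subgroup.subgroupOfEquivOfLe hQS).toEquiv])
    · refine CfsgLib.PLocal.isPSolvable_of_isPGroup ?_
      intro x
      obtain ⟨⟨g, hg⟩, rfl⟩ := QuotientGroup.mk'_surjective (Q.subgroupOf S) x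
      have hn : (Subgroup.zpowers a) ≤ Subgroup.normalizer (Q : Set G) :=
        (Subgroup.zpowers_le.2 haS).trans hSQ
      rw [hS, ← SetLike.mem_coe, Subgroup.coe_mul_of_right_le_normalizer_left _ _ hn] at hg
      obtain ⟨q, hq, z, hz, hqz⟩ := hg
      obtain ⟨k, hk⟩ := hAp ⟨z, hz⟩
      refine ⟨k, ?_⟩
      have hzS : z ∈ S := (Subgroup.zpowers_le.2 haS) hz
      have he : QuotientGroup.mk' (Q.subgroupOf S) ⟨g, (hqz ▸ mul_mem (hQS hq) hzS : g ∈ S)⟩ =
          QuotientGroup.mk' (Q.subgroupOf S) ⟨z, hzS⟩ := by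
        rw [QuotientGroup.mk'_eq_mk']
        refine ⟨⟨z⁻¹ * q⁻¹ * z, mul_mem (mul_mem (inv_mem hzS) (inv_mem (hQS hq))) hzS⟩, ?_, ?_⟩
        · have h2 := (Subgroup.mem_normalizer_iff.1 (inv_mem (hn hz)) q⁻¹).1 (inv_mem hq)
          simpa [Subgroup.mem_subgroupOf] using h2
        · exact Subtype.ext (by simp [← hqz, mul_assoc])
      show (QuotientGroup.mk' (Q.subgroupOf S) ⟨g, _⟩) ^ p ^ k = 1
      rw [he, ← map_pow, show (⟨z, hzS⟩ : S) ^ p ^ k = 1 from
        Subtype.ext (by simpa using congrArg Subtype.val hk), map_one]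
  have hfS : S ⊓ Subgroup.centralizer (V : Set G) = ⊥ :=
    le_bot_iff.1 ((inf_le_inf_right _ hSH).trans hf.le)
  have hna : a ∉ (Cfsg.pCore p S).map S.subtype := by
    intro hmem
    apply hQa
    rw [eq_bot_iff]
    have hPn : S ≤ Subgroup.normalizer (((Cfsg.pCore p S).map S.subtype : Subgroup G) : Set G) :=
      CfsgLib.Base.le_normalizer_map_pCore S
    have h1 : ⁅Q, Subgroup.zpowers a⁆ ≤ (Cfsg.pCore p S).map S.subtype := by
      rw [Subgroup.commutator_le]
      intro x hx y hy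
      have hy' := (Subgroup.zpowers_le.2 hmem) hy
      rw [commutatorElement_def]
      exact mul_mem ((Subgroup.mem_normalizer_iff.1 (hPn (hQS hx)) y).1 hy') (inv_mem hy')
    have h2 : ⁅Q, Subgroup.zpowers a⁆ ≤ Q := by
      rw [Subgroup.commutator_le]
      intro x hx y hy
      have hy' : y ∈ Subgroup.normalizer (Q : Set G) :=
        hSQ ((Subgroup.zpowers_le.2 haS) hy)
      rw [commutatorElement_def, show x * y * x⁻¹ * y⁻¹ = x * (y * x⁻¹ * y⁻¹) by group]
      exact mul_mem hx ((Subgroup.mem_normalizer_iff.1 hy' x⁻¹).1 (inv_mem hx))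
    exact (le_inf h1 h2).trans
      (CfsgLib.Base.inf_eq_bot_of_isPGroup_of_coprime (CfsgLib.Base.isPGroup_map_pCore p S) hQ).le
  have h := CfsgLib.OddOrder.exists_involves hp hV (hSH.trans hHV) hfS haS ha hna
  have h3 := CfsgLib.OddOrder.InvolvesSL2.eq_three hp hps h
  subst h3
  obtain ⟨K, L, hL, hK, he⟩ := CfsgLib.OddOrder.InvolvesSL2.section_of_subgroup h
  exact ⟨rfl, K, L, hL, hK.trans hSH, he⟩

end Cfsg.Agent.S0594
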