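import Cfsg.Statements.S0600
import Cfsg.Agent.Lib.PLocal.Frattini

set_option autoImplicit false
open Cfsg

namespace Cfsg.Agent.S0600

/-- A normal elementary abelian p-subgroup generated by the fixed points of the Sylow p-subgroups admits no nontrivial normal p-subgroup of G modulo its centralizer. -/
theorem result {G : Type*} [Group G] [Finite G] {p : ℕ} [Fact p.Prime] (V : Subgroup G) [V.Normal] (hV : Cfsg.IsElementaryAbelian p V) (hgen : V = ⨆ S : Sylow p G, V ⊓ Subgroup.centralizer ((S : Subgroup G) : Set G)) : Cfsg.pCore p (G ⧸ Subgroup.centralizer (V : Set G)) = ⊥ := by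
  have hn : (Subgroup.centralizer (V : Set G)).Normal := inferInstance
  haveI hDn : ((Cfsg.pCore p (G ⧸ Subgroup.centralizer (V : Set G))).comap
      (QuotientGroup.mk' (Subgroup.centralizer (V : Set G)))).Normal := Subgroup.Normal.comap inferInstance _
  have hle := CfsgLib.PLocal.le_comap_mk' (Subgroup.centralizer (V : Set G))
    (Cfsg.pCore p (G ⧸ Subgroup.centralizer (V : Set G)))
  obtain ⟨k, hk⟩ := CfsgLib.Base.pCore_eq_pow_card p (G ⧸ Subgroup.centralizer (V : Set G))
  have he := CfsgLib.PLocal.eq_centralizer_of_generated (p := p) hgen.le hle (k := k) (by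
    rw [← CfsgLib.PLocal.card_map_mk'_eq_relIndex, CfsgLib.Base.map_mk'_comap, hk])
  rw [← CfsgLib.Base.map_mk'_comap (Subgroup.centralizer (V : Set G))
    (Cfsg.pCore p (G ⧸ Subgroup.centralizer (V : Set G))), CfsgLib.Base.map_mk'_eq_bot_iff, he]

end Cfsg.Agent.S0600
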