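import Cfsg.Statements.S0602
import Cfsg.Agent.Lib.PLocal.Thompson

set_option autoImplicit false
open Cfsg

namespace Cfsg.Agent.S0602

/-- The Thompson subgroup is characteristic, and nontrivial as soon as p divides the group order. -/
theorem result {G : Type*} [Group G] [Finite G] {p : ℕ} [Fact p.Prime] : (Cfsg.thompsonSubgroup p G).Characteristic ∧ (p ∣ Nat.card G → Cfsg.thompsonSubgroup p G ≠ ⊥) := by
  refine ⟨CfsgLib.PLocal.thompsonSubgroup_characteristic p G, fun hp hbot => ?_⟩
  obtain ⟨x, hx⟩ := exists_prime_orderOf_dvd_card' (G := G) p hp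
  have hz : Cfsg.IsElementaryAbelian p (Subgroup.closure ({x} : Set G)) :=
    CfsgLib.PLocal.isElementaryAbelian_closure (by rintro a rfl b rfl; rfl)
      (by rintro a rfl; rw [← hx]; exact pow_orderOf_eq_one a)
  obtain ⟨A, hA⟩ := CfsgLib.PLocal.exists_mem_maxElementaryAbelian p G
  have h1 := hA.2 _ hz
  rw [show A = ⊥ from le_bot_iff.1 (hbot ▸ CfsgLib.PLocal.le_thompsonSubgroup hA),
    Subgroup.card_bot, ← Subgroup.zpowers_eq_closure, Nat.card_zpowers, hx] at h1
  exact absurd h1 (not_le.2 (Fact.out : p.Prime).one_lt)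

end Cfsg.Agent.S0602
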