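import Cfsg.Statements.S0615
import Cfsg.Agent.Lib.PLocal.TwoSubnormal

set_option autoImplicit false
open Cfsg

namespace Cfsg.Agent.S0615

/-- Two subnormal subgroups acting irreducibly on their incomparable commutator modules, in a faithful group with trivial largest normal p-subgroup, generate their direct product, and the commutator module splits accordingly. -/
theorem result {G : Type*} [Group G] [Finite G] {p : ℕ} [Fact p.Prime] (V E E₁ E₂ : Subgroup G) (hV : Cfsg.IsElementaryAbelian p V) (hEV : E ≤ Subgroup.normalizer (V : Set G)) (hf : E ⊓ Subgroup.centralizer (V : Set G) = ⊥) (hgen : E = E₁ ⊔ E₂) (hs₁ : (E₁.subgroupOf E).IsSubnormal) (hs₂ : (E₂.subgroupOf E).IsSubnormal) (hOp : Cfsg.pCore p ↥E = ⊥) (hirr₁ : (∀ U : Subgroup G, U ≤ ⁅V, E₁⁆ → E₁ ≤ Subgroup.normalizer (U : Set G) → U = ⊥ ∨ U = ⁅V, E₁⁆)) (hirr₂ : (∀ U : Subgroup G, U ≤ ⁅V, E₂⁆ → E₂ ≤ Subgroup.normalizer (U : Set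 G) → U = ⊥ ∨ U = ⁅V, E₂⁆)) (h12 : ¬ ⁅V, E₁⁆ ≤ ⁅V, E₂⁆) (h21 : ¬ ⁅V, E₂⁆ ≤ ⁅V, E₁⁆) (hc₁ : 2 < Nat.card E₁) (hc₂ : 2 < Nat.card E₂) : ⁅E₁, E₂⁆ = ⊥ ∧ E₁ ⊓ E₂ = ⊥ ∧ ⁅V, E₁⁆ ⊓ ⁅V, E₂⁆ = ⊥ ∧ ⁅V, E⁆ = ⁅V, E₁⁆ ⊔ ⁅V, E₂⁆ := by
  have hs₁' : CfsgLib.Base.IsSubnormalIn E₁ E := ⟨hgen ▸ le_sup_left, hs₁⟩
  have hs₂' : CfsgLib.Base.IsSubnormalIn E₂ E := ⟨hgen ▸ le_sup_right, hs₂⟩
  obtain ⟨hc, hd, h1, h2⟩ :=
    CfsgLib.PLocal.two_subnormal hV E E₁ E₂ hEV hf hs₁' hs₂' hOp hirr₁ hirr₂ h12 h21 hc₁ hc₂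
  refine ⟨hc, ?_, hd, le_antisymm ?_ ?_⟩
  · rw [eq_bot_iff, ← hf]
    refine le_inf (inf_le_left.trans hs₁'.1) fun e he => Subgroup.mem_centralizer_iff.2 fun v hv => ?_
    rw [← commutatorElement_eq_one_iff_mul_comm, ← Subgroup.mem_bot (G := G), ← hd]
    exact ⟨Subgroup.commutator_mem_commutator hv he.1, Subgroup.commutator_mem_commutator hv he.2⟩
  · refine CfsgLib.PLocal.commutator_le_of_le_trivQuot ?_
    rw [hgen]
    refine sup_le (CfsgLib.PLocal.le_trivQuot ?_ le_sup_left)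
      (CfsgLib.PLocal.le_trivQuot ?_ le_sup_right)
    · exact (le_inf CfsgLib.PLocal.le_normalizer_self_commutator
        ((Subgroup.le_centralizer_iff.1 (Subgroup.commutator_eq_bot_iff_le_centralizer.1 h2)).trans
          (Subgroup.centralizer_le_normalizer _))).trans
        fun x hx => CfsgLib.Coprime.le_normalizer_sup_sup
          (Subgroup.zpowers_le.2 hx.1) (Subgroup.zpowers_le.2 hx.2) (Subgroup.mem_zpowers x)
    · exact (le_inf ((Subgroup.le_centralizer_iff.1 (Subgroup.commutator_eq_bot_iff_le_centralizer.1 h1)).trans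
          (Subgroup.centralizer_le_normalizer _)) CfsgLib.PLocal.le_normalizer_self_commutator).trans
        fun x hx => CfsgLib.Coprime.le_normalizer_sup_sup
          (Subgroup.zpowers_le.2 hx.1) (Subgroup.zpowers_le.2 hx.2) (Subgroup.mem_zpowers x)
  · rw [hgen]
    exact sup_le (Subgroup.commutator_mono le_rfl le_sup_left)
      (Subgroup.commutator_mono le_rfl le_sup_right)

end Cfsg.Agent.S0615
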