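import Cfsg.Statements.S0620
import Cfsg.Agent.Lib.PLocal.OffenderCoprime

set_option autoImplicit false
open Cfsg

namespace Cfsg.Agent.S0620

/-- Under coprime action of an elementary abelian q-group X on a p-separable group K with trivial p'-core, K is generated by the normalizer of J(S), the centralizer of Ω₁(Z(S)) and the fixed points of X. -/
theorem result {G : Type*} [Group G] [Finite G] {p : ℕ} [Fact p.Prime] {q : ℕ} [Fact q.Prime] (K X : Subgroup G) (hXK : X ≤ Subgroup.normalizer (K : Set G)) (hX : Cfsg.IsElementaryAbelian q X) (hq : ¬ q ∣ Nat.card K) (hsep : Cfsg.IsPSolvable p ↥K) (hO : Cfsg.pPrimeCore p ↥K = ⊥) (S : Sylow p ↥K) : (Subgroup.normalizer (Cfsg.thompsonSubgroupOf p (S : Subgroup ↥K) : Set ↥K) ⊔ Subgroup.centralizer (Cfsg.omegaOne p ((S : Subgroup ↥K) ⊓ Subgroup.centralizer ((S : Subgroup ↥K) : Set ↥K)) : Set ↥K) ⊔ (Subgroup.centralizer (X : Set G)).subgroupOf K) = ⊤ := by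
  set L := K ⊔ X with hL
  set j : ↥K →* ↥L := Subgroup.inclusion le_sup_left with hjdef
  haveI hn : j.range.Normal := by
    rw [show j.range = K.subgroupOf L from Subgroup.inclusion_range le_sup_left]
    exact Subgroup.normal_subgroupOf_of_le_normalizer (sup_le Subgroup.le_normalizer hXK)
  have hXe : Cfsg.IsElementaryAbelian q (X.subgroupOf L) :=
    (CfsgLib.PLocal.isElementaryAbelian_map_iff (f := L.subtype) L.subtype_injective).1
      (by rwa [Subgroup.map_subgroupOf_eq_of_le le_sup_right])
  have hcX : ∀ k : ↥L, k ∈ Subgroup.centralizer ((X.subgroupOf L : Subgroup ↥L) : Set ↥L) ↔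
      (k : G) ∈ Subgroup.centralizer (X : Set G) := by
    intro k
    rw [Subgroup.mem_centralizer_iff, Subgroup.mem_centralizer_iff]
    exact ⟨fun h x hx => congrArg Subtype.val (h ⟨x, Subgroup.mem_sup_right hx⟩ hx),
      fun h x hx => Subtype.ext (h x hx)⟩
  have h := CfsgLib.PLocal.generated_by_fixed j (Subgroup.inclusion_injective le_sup_left)
    (X.subgroupOf L) hXe hq hsep hO S
  refine top_le_iff.1 (h.ge.trans (sup_le_sup le_rfl fun k hk => ?_))
  exact (hcX (j k)).1 hk

end Cfsg.Agent.S0620
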