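import Cfsg.Statements.S0621
import Cfsg.Agent.Lib.PLocal.OffenderCoprime
import Cfsg.Agent.S0608

set_option autoImplicit false
open Cfsg

namespace Cfsg.Agent.S0621

/-- Let K be p-separable with O_p'(K) = 1, normalized by an elementary abelian q-group X for a prime q not dividing the order of K. If the Thompson factorization fails in K, then p is 2 or 3 and the fixed points of X contain a plane W of order p² and a subgroup inducing SL(2, p) on it. -/
theorem result {G : Type*} [Group G] [Finite G] {p : ℕ} [Fact p.Prime] {q : ℕ} [Fact q.Prime] (K X : Subgroup G) (hXK : X ≤ Subgroup.normalizer (K : Set G)) (hX : Cfsg.IsElementaryAbelian q X) (hq : ¬ q ∣ Nat.card K) (hsep : Cfsg.IsPSolvable p ↥K) (hO : Cfsg.pPrimeCore p ↥K = ⊥) (hnf : ¬ Cfsg.IsThompsonFactorizable p ↥K) : (p = 2 ∨ p = 3) ∧ ∃ W D : Subgroup G, W ≤ K ⊓ Subgroup.centralizer (X : Set G) ∧ D ≤ K ⊓ Subgroup.centralizer (X : Set G) ∧ Cfsg.IsElementaryAbelian p W ∧ Nat.card W = p ^ 2 ∧ D ≤ Subgroup.normalizer (W : Set G)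 ∧ ∃ hn : ((Subgroup.centralizer (W : Set G)).subgroupOf D).Normal, Nonempty ((↥D ⧸ (Subgroup.centralizer (W : Set G)).subgroupOf D) ≃* Matrix.SpecialLinearGroup (Fin 2) (ZMod p)) := by
  set L := K ⊔ X with hL
  set j : ↥K →* ↥L := Subgroup.inclusion le_sup_left with hjdef
  haveI hn : j.range.Normal := by
    rw [show j.range = K.subgroupOf L from Subgroup.inclusion_range le_sup_left]
    exact Subgroup.normal_subgroupOf_of_le_normalizer (sup_le Subgroup.le_normalizer hXK)
  have hXe : Cfsg.IsElementaryAbelian q (X.subgroupOf L) :=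
    (CfsgLib.PLocal.isElementaryAbelian_map_iff (f := L.subtype) L.subtype_injective).1
      (by rwa [Subgroup.map_subgroupOf_eq_of_le le_sup_right])
  have hcX : ∀ k : ↥L, k ∈ Subgroup.centralizer ((X.subgroupOf L : Subgroup ↥L) : Set ↥L) ↔
      (k : G) ∈ Subgroup.centralizer (X : Set G) := by
    intro k
    rw [Subgroup.mem_centralizer_iff, Subgroup.mem_centralizer_iff]
    exact ⟨fun h x hx => congrArg Subtype.val (h ⟨x, Subgroup.mem_sup_right hx⟩ hx),
      fun h x hx => Subtype.ext (h x hx)⟩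
  obtain ⟨hp, W, D, hW, hD, hWe, hWc, hDW, hn', hne⟩ :=
    CfsgLib.PLocal.fixed_plane j (Subgroup.inclusion_injective le_sup_left) (X.subgroupOf L) hXe hq hsep hO
      fun h => hnf ((Cfsg.Agent.S0608.result hO).2 h)
  obtain ⟨e⟩ := hne
  have hsub : ∀ U : Subgroup ↥L, U ≤ j.range ⊓ Subgroup.centralizer ((X.subgroupOf L : Subgroup ↥L) : Set ↥L) →
      U.map L.subtype ≤ K ⊓ Subgroup.centralizer (X : Set G) := by
    rintro U hU _ ⟨u, hu, rfl⟩
    obtain ⟨⟨k, rfl⟩, huX⟩ := hU hu
    exact ⟨k.2, (hcX (j k)).1 huX⟩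
  have hinj := L.subtype_injective
  refine ⟨hp, W.map L.subtype, D.map L.subtype, hsub W hW, hsub D hD,
    CfsgLib.PLocal.isElementaryAbelian_map _ hWe,
    (Subgroup.card_map_of_injective hinj).trans hWc,
    (Subgroup.map_mono hDW).trans (Subgroup.le_normalizer_map _), ?_⟩
  let η := D.equivMapOfInjective L.subtype hinj
  have hmap : ((Subgroup.centralizer (W : Set ↥L)).subgroupOf D).map η.toMonoidHom =
      (Subgroup.centralizer ((W.map L.subtype : Subgroup G) : Set G)).subgroupOf (D.map L.subtype) := by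
    ext y
    constructor
    · rintro ⟨d, hd, rfl⟩
      refine Subgroup.mem_centralizer_iff.2 ?_
      rintro _ ⟨w, hw, rfl⟩
      exact congrArg L.subtype (Subgroup.mem_centralizer_iff.1 hd w hw)
    · intro hy
      obtain ⟨d, rfl⟩ := η.surjective y
      refine ⟨d, Subgroup.mem_centralizer_iff.2 fun w hw => hinj ?_, rfl⟩
      simp only [map_mul]
      exact Subgroup.mem_centralizer_iff.1 hy _ (Subgroup.mem_map_of_mem _ hw)
  haveI := hn'
  haveI hn2 : ((Subgroup.centralizer ((W.map L.subtype : Subgroup G) : Set G)).subgroupOf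
      (D.map L.subtype)).Normal := hmap ▸ Subgroup.Normal.map hn' _ η.surjective
  exact ⟨hn2, ⟨(QuotientGroup.congr _ _ η hmap).symm.trans e⟩⟩

end Cfsg.Agent.S0621
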