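import Cfsg.Statements.S0627
import Cfsg.Agent.Lib.PLocal.StableNormal
import Cfsg.Agent.Lib.PLocal.Constrained
import Cfsg.Agent.S0625
import Cfsg.Agent.S0624

set_option autoImplicit false
open Cfsg

namespace Cfsg.Agent.S0627

/-- In a p-separable group with p at least 5, the normalizer of W(S) supplements the largest normal subgroup of order prime to p. -/
theorem result {G : Type*} [Group G] [Finite G] {p : ℕ} [Fact p.Prime] (hp : 5 ≤ p) (hsep : Cfsg.IsPSolvable p G) (S : Sylow p G) : Cfsg.pPrimeCore p G ⊔ Subgroup.normalizer (((Cfsg.stableNormalClosure p ↥(S : Subgroup G)).map (S : Subgroup G).subtype) : Set G) = ⊤ := by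
  set N := Cfsg.pPrimeCore p G with hNdef
  have hN : (Nat.card N).Coprime p := CfsgLib.Base.pPrimeCore_coprime p G
  set f := QuotientGroup.mk' N with hfdef
  have hf : Function.Surjective f := QuotientGroup.mk'_surjective _
  have hQ : Cfsg.pPrimeCore p (G ⧸ N) = ⊥ := CfsgLib.Base.pPrimeCore_quotient_pPrimeCore p G
  have hsep' : Cfsg.IsPSolvable p (G ⧸ N) := CfsgLib.PLocal.isPSolvable_quotient hsep N
  have hst := Cfsg.Agent.S0625.result hp hsep'
  have hc' : Subgroup.centralizer (Cfsg.pCore p (G ⧸ N) : Set (G ⧸ N)) ≤ Cfsg.pCore p (G ⧸ N) :=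
    CfsgLib.PLocal.centralizer_pCore_le hsep' hQ
  set P : Subgroup G := (S : Subgroup G)
  have hinj : Function.Injective (f.comp P.subtype) := by
    rw [← MonoidHom.ker_eq_bot_iff, eq_bot_iff]
    intro x hx
    have h2 : (x : G) ∈ N := (QuotientGroup.eq_one_iff (x : G)).1 hx
    exact Subtype.ext (Subgroup.mem_bot.1
      ((CfsgLib.Base.inf_eq_bot_of_isPGroup_of_coprime S.2 hN).le ⟨x.2, h2⟩))
  have hr : (f.comp P.subtype).range = ((S.mapSurjective hf : Sylow p (G ⧸ N)) : Subgroup (G ⧸ N)) := by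
    rw [MonoidHom.range_comp, Subgroup.range_subtype]; rfl
  let η : P ≃* ((S.mapSurjective hf : Sylow p (G ⧸ N)) : Subgroup (G ⧸ N)) :=
    (MonoidHom.ofInjective hinj).trans (MulEquiv.subgroupCongr hr)
  haveI := Cfsg.Agent.S0624.result hst hc' (S.mapSurjective hf)
  have e1 : ((Cfsg.stableNormalClosure p P).map P.subtype).map f =
      (Cfsg.stableNormalClosure p ((S.mapSurjective hf : Sylow p (G ⧸ N)) : Subgroup (G ⧸ N))).map
        ((S.mapSurjective hf : Sylow p (G ⧸ N)) : Subgroup (G ⧸ N)).subtype := by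
    rw [← CfsgLib.PLocal.map_stableNormalClosure η, Subgroup.map_map, Subgroup.map_map]
    rfl
  have e2 : (Subgroup.normalizer ((Cfsg.stableNormalClosure p P).map P.subtype : Set G)).map f = ⊤ := by
    rw [CfsgLib.PLocal.map_normalizer_mk' N hN (S.2.to_le (Subgroup.map_subtype_le _)), e1,
      Subgroup.normalizer_eq_top_iff]
    infer_instance
  have e3 := Subgroup.comap_map_eq f (Subgroup.normalizer ((Cfsg.stableNormalClosure p P).map P.subtype : Set G))
  rw [e2, Subgroup.comap_top, QuotientGroup.ker_mk', sup_comm] at e3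
  exact e3.symm

end Cfsg.Agent.S0627
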