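import Cfsg.Statements.S0634
import Cfsg.Agent.Lib.PLocal.Constrained

set_option autoImplicit false
open Cfsg

namespace Cfsg.Agent.S0634

/-- In a p-soluble group each p-factor of the upper p-series contains its own centralizer in the corresponding quotient. -/
theorem result {G : Type*} [Group G] [Finite G] {p : ℕ} [Fact p.Prime] (hsol : Cfsg.IsPSolvable p G) (k : ℕ) : Subgroup.centralizer ((((Cfsg.upperPSeries p G (2 * k + 2)).1.map (QuotientGroup.mk' (Cfsg.upperPSeries p G (2 * k + 1)).1)) : Subgroup (G ⧸ (Cfsg.upperPSeries p G (2 * k + 1)).1)) : Set (G ⧸ (Cfsg.upperPSeries p G (2 * k + 1)).1)) ≤ (Cfsg.upperPSeries p G (2 * k + 2)).1.map (QuotientGroup.mk' (Cfsg.upperPSeries p G (2 * k + 1)).1) := by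
  haveI : (Cfsg.upperPSeries p G (2 * k + 1)).1.Normal := inferInstance
  rw [CfsgLib.PLocal.upperPSeries_even, CfsgLib.Base.map_mk'_comap]
  refine CfsgLib.PLocal.centralizer_pCore_le (CfsgLib.PLocal.isPSolvable_quotient hsol _) ?_
  have e := CfsgLib.PLocal.upperPSeries_odd p G k
  rw [← CfsgLib.Base.map_pPrimeCore_mulEquiv
    ((QuotientGroup.quotientQuotientEquivQuotient _ _ (CfsgLib.PLocal.upperPSeries_monotone p G (Nat.le_succ (2 * k)))).trans
      (MulEquiv.refl _)), Subgroup.map_eq_bot_iff_of_injective _ (MulEquiv.injective _)]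
  have e' : (Cfsg.upperPSeries p G (2 * k + 1)).1.map (QuotientGroup.mk' (Cfsg.upperPSeries p G (2 * k)).1) = Cfsg.pPrimeCore p _ := by
    rw [e, CfsgLib.Base.map_mk'_comap]
  rw [← CfsgLib.Base.map_pPrimeCore_mulEquiv (QuotientGroup.quotientMulEquivOfEq e'.symm),
    CfsgLib.Base.pPrimeCore_quotient_pPrimeCore, Subgroup.map_bot]

end Cfsg.Agent.S0634
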