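import Cfsg.Statements.S0640
import Cfsg.Agent.Lib.OddOrder.SmallRank
import Mathlib.GroupTheory.SemidirectProduct

set_option autoImplicit false
open Cfsg

namespace Cfsg.Agent.S0640

/-- For odd p, a prime q ≠ p dividing the order of the automorphism group of a p-group of rank at most 2 divides p² - 1 and is less than p. -/
theorem result {R : Type*} [Group R] [Finite R] {p : ℕ} [Fact p.Prime] (hp : p ≠ 2) (hR : IsPGroup p R) (hrk : Cfsg.PRankLE p 2 R) (q : ℕ) (hq : q.Prime) (hqp : q ≠ p) (hdvd : q ∣ Nat.card (MulAut R)) : q ∣ p ^ 2 - 1 ∧ q < p := by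
  have : Fact q.Prime := ⟨hq⟩
  obtain ⟨σ, hσ⟩ := exists_prime_orderOf_dvd_card' (G := MulAut R) q hdvd
  let φ : Subgroup.zpowers σ →* MulAut R := (Subgroup.zpowers σ).subtype
  have : Finite (R ⋊[φ] Subgroup.zpowers σ) := Finite.of_equiv _ SemidirectProduct.equivProd.symm
  let a : R ⋊[φ] Subgroup.zpowers σ := SemidirectProduct.inr ⟨σ, Subgroup.mem_zpowers σ⟩
  let R' := (SemidirectProduct.inl : R →* R ⋊[φ] Subgroup.zpowers σ).range
  let e : R ≃* R' := MonoidHom.ofInjective SemidirectProduct.inl_injective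
  have hR' : IsPGroup p R' := hR.of_equiv e
  have hrk' : Cfsg.PRankLE p 2 R' := (CfsgLib.Base.pRankLE_congr e).1 hrk
  have ha : orderOf a = q := by
    rw [orderOf_injective _ SemidirectProduct.inr_injective, Subgroup.orderOf_mk, hσ]
  have hn : R'.Normal := by
    rw [show R' = (SemidirectProduct.rightHom : R ⋊[φ] Subgroup.zpowers σ →* _).ker from
      SemidirectProduct.range_inl_eq_ker_rightHom]
    exact MonoidHom.normal_ker _
  refine CfsgLib.OddOrder.prime_dvd_and_lt hp hR' hrk' hq hqp ha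
    (by rw [Subgroup.normalizer_eq_top R']; exact Subgroup.mem_top a) fun hc => hq.ne_one ?_
  rw [← hσ, orderOf_eq_one_iff]
  refine MulEquiv.ext fun x => ?_
  have h1 := Subgroup.mem_centralizer_iff.1 hc (SemidirectProduct.inl x) ⟨x, rfl⟩
  have h2 : (SemidirectProduct.inl (φ ⟨σ, Subgroup.mem_zpowers σ⟩ x) : R ⋊[φ] Subgroup.zpowers σ) = SemidirectProduct.inl x := by
    rw [SemidirectProduct.inl_aut, map_inv]
    exact mul_inv_eq_iff_eq_mul.2 h1.symm
  exact SemidirectProduct.inl_injective h2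

end Cfsg.Agent.S0640
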