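import Cfsg.Statements.S0647


set_option autoImplicit false
open Cfsg

namespace Cfsg.Agent.S0647

/-- For a nonempty family of maximal abelian subgroups of a finite group, the intersection of the family is the centre of the subgroup it generates, which is also the full centralizer of that subgroup. -/
theorem result {S : Type*} [Group S] [Finite S] (𝒜 : Set (Subgroup S)) (hne : 𝒜.Nonempty) (hab : ∀ A ∈ 𝒜, IsMulCommutative A) (hmax : ∀ A ∈ 𝒜, ∀ B : Subgroup S, IsMulCommutative B → A ≤ B → B = A) : sInf 𝒜 = sSup 𝒜 ⊓ Subgroup.centralizer ((sSup 𝒜 : Subgroup S) : Set S) ∧ sInf 𝒜 = Subgroup.centralizer ((sSup 𝒜 : Subgroup S) : Set S) := by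
  have key : Subgroup.centralizer ((sSup 𝒜 : Subgroup S) : Set S) ≤ sInf 𝒜 := by
    refine le_sInf fun A hA x hx => ?_
    have hc : ∀ a ∈ A, a * x = x * a := fun a ha =>
      Subgroup.mem_centralizer_iff.1 hx a (le_sSup hA ha)
    have h1 : IsMulCommutative ↥(Subgroup.closure ((A : Set S) ∪ {x})) := by
      refine Subgroup.isMulCommutative_closure ?_
      rintro a (ha | ha) b (hb | hb)
      · exact congrArg Subtype.val ((hab A hA).is_comm.comm ⟨a, ha⟩ ⟨b, hb⟩)
      · rw [Set.mem_singleton_iff.1 hb]; exact hc a ha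
      · rw [Set.mem_singleton_iff.1 ha]; exact (hc b hb).symm
      · rw [Set.mem_singleton_iff.1 ha, Set.mem_singleton_iff.1 hb]
    rw [← hmax A hA _ h1 (fun a ha => Subgroup.subset_closure (Or.inl ha))]
    exact Subgroup.subset_closure (Or.inr rfl)
  have key2 : sInf 𝒜 ≤ sSup 𝒜 ⊓ Subgroup.centralizer ((sSup 𝒜 : Subgroup S) : Set S) := by
    obtain ⟨A, hA⟩ := hne
    refine le_inf ((sInf_le hA).trans (le_sSup hA)) ?_
    rw [Subgroup.le_centralizer_iff]
    refine sSup_le fun B hB b hb => Subgroup.mem_centralizer_iff.2 fun y hy => ?_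
    exact congrArg Subtype.val ((hab B hB).is_comm.comm ⟨y, sInf_le hB hy⟩ ⟨b, hb⟩)
  exact ⟨le_antisymm key2 (inf_le_right.trans key), le_antisymm (key2.trans inf_le_right) key⟩

end Cfsg.Agent.S0647
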