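import Cfsg.Statements.S0655
import Cfsg.Agent.Lib.PLocal.Thompson

set_option autoImplicit false
open Cfsg

namespace Cfsg.Agent.S0655

/-- In a p-group the intersection of all elementary abelian subgroups of largest order is the subgroup generated by the elements of order dividing p in the centre (equivalently the centralizer) of the elementary-version Thompson subgroup. -/
theorem result {S : Type*} [Group S] [Finite S] {p : ℕ} [Fact p.Prime] (hS : IsPGroup p S) : sInf (Cfsg.maxElementaryAbelianSubgroups p S) = Cfsg.omegaCenterThompson p S ∧ Cfsg.omegaCenterThompson p S = Cfsg.omegaOne p (Subgroup.centralizer (Cfsg.thompsonSubgroup p S : Set S)) := by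
  have h1 : sInf (Cfsg.maxElementaryAbelianSubgroups p S) ≤ Cfsg.omegaCenterThompson p S := by
    intro x hx
    obtain ⟨A, hA⟩ := CfsgLib.PLocal.exists_mem_maxElementaryAbelian p S
    refine CfsgLib.PLocal.mem_omegaOne
      (Subgroup.mem_inf.2 ⟨CfsgLib.PLocal.le_thompsonSubgroup hA (sInf_le hA hx), ?_⟩) (hA.1.2 x (sInf_le hA hx))
    suffices Cfsg.thompsonSubgroup p S ≤ Subgroup.centralizer ({x} : Set S) from
      Subgroup.mem_centralizer_iff.2 fun y hy => (Subgroup.mem_centralizer_iff.1 (this hy) x rfl).symm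
    refine sSup_le fun B hB b hb => Subgroup.mem_centralizer_iff.2 ?_
    rintro _ rfl
    exact CfsgLib.PLocal.isElementaryAbelian_comm hB.1 (sInf_le hB hx) hb
  have h2 : Cfsg.omegaOne p (Subgroup.centralizer (Cfsg.thompsonSubgroup p S : Set S)) ≤
      sInf (Cfsg.maxElementaryAbelianSubgroups p S) := by
    refine (Subgroup.closure_le _).2 fun x hx => Subgroup.mem_sInf.2 fun A hA => ?_
    rw [← CfsgLib.PLocal.maxEAOf_top] at hA
    exact CfsgLib.PLocal.mem_of_max_of_commute hA (Subgroup.mem_top x) hx.2 fun a ha =>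
      Subgroup.mem_centralizer_iff.1 hx.1 a
        (CfsgLib.PLocal.le_thompsonSubgroup (by rwa [← CfsgLib.PLocal.maxEAOf_top]) ha)
  have h3 : Cfsg.omegaCenterThompson p S ≤
      Cfsg.omegaOne p (Subgroup.centralizer (Cfsg.thompsonSubgroup p S : Set S)) :=
    CfsgLib.PLocal.omegaOne_mono inf_le_right
  exact ⟨le_antisymm h1 (h3.trans h2), le_antisymm h3 (h2.trans h1)⟩

end Cfsg.Agent.S0655
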