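import Cfsg.Statements.S0654
import Cfsg.Agent.Lib.PLocal.ZJ
import Cfsg.Agent.S0655

set_option autoImplicit false
open Cfsg

namespace Cfsg.Agent.S0654

/-- The ZJ-Theorem for the elementary-abelian Thompson subgroup: for an odd prime p, a finite group G with C_G(O_p(G)) ≤ O_p(G) acting p-stably on its normal p-subgroups, and a Sylow p-subgroup S of G, the subgroup generated by the elements of order dividing p in Z(J_e(S)) is characteristic in G. -/
theorem result {G : Type*} [Group G] [Finite G] {p : ℕ} [Fact p.Prime] (hp : p ≠ 2) (hc : Subgroup.centralizer (Cfsg.pCore p G : Set G) ≤ Cfsg.pCore p G) (hst : ∀ (P : Subgroup G) [P.Normal], IsPGroup p P → Cfsg.IsPStableOn p P) (S : Sylow p G) : ((Cfsg.omegaCenterThompson p ↥(S : Subgroup G)).map (S : Subgroup G).subtype).Characteristic := by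
  rw [← (Cfsg.Agent.S0655.result (p := p) S.2).1, ← CfsgLib.PLocal.maxEAOf_top]
  show ((CfsgLib.PLocal.maxCenter p (⊤ : Subgroup ↥(S : Subgroup G))).map
    (S : Subgroup G).subtype).Characteristic
  rw [← CfsgLib.PLocal.maxCenter_eq_map_top]
  exact CfsgLib.PLocal.maxCenter_characteristic hp
    (Or.inl ((Fact.out : p.Prime).odd_of_ne_two hp)) hc
    (CfsgLib.PLocal.quadStable_of_isPStableOn hst) S

end Cfsg.Agent.S0654
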