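import Cfsg.Statements.S0657
import Cfsg.Agent.Lib.OddOrder.ActionPStable

set_option autoImplicit false
open Cfsg

namespace Cfsg.Agent.S0657

/-- For odd p, a group that fails to be p-stable modulo its largest normal subgroup of order prime to p, and whose upper p-series does not stop there, has a section isomorphic to SL(2, p). -/
theorem result {G : Type*} [Group G] [Finite G] {p : ℕ} [Fact p.Prime] (hp : p ≠ 2) (hO : Cfsg.pPrimeCore p G < Cfsg.pPrimePCore p G) (hns : ¬ Cfsg.IsPStable p (G ⧸ Cfsg.pPrimeCore p G)) : ∃ (K L : Subgroup G) (hL : (L.subgroupOf K).Normal), K ≤ ⊤ ∧ Nonempty ((K ⧸ L.subgroupOf K) ≃* Matrix.SpecialLinearGroup (Fin 2) (ZMod p)) := by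
  by_contra hcon
  apply hns
  refine CfsgLib.OddOrder.isPStable_of_not_involves hp (fun h => hcon ?_) (fun h => ?_)
  · have hG : CfsgLib.OddOrder.InvolvesSL2 p G :=
      h.of_surjective _ (QuotientGroup.mk'_surjective (Cfsg.pPrimeCore p G))
    obtain ⟨K₀, f, hf⟩ := hG
    refine CfsgLib.OddOrder.InvolvesSL2.section_of_subgroup (H := (⊤ : Subgroup G))
      ⟨K₀.comap (⊤ : Subgroup G).subtype,
        f.comp (((⊤ : Subgroup G).subtype.comp
          (K₀.comap (⊤ : Subgroup G).subtype).subtype).codRestrict K₀ fun x => x.2), fun y => ?_⟩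
    obtain ⟨k, hk⟩ := hf y
    exact ⟨⟨⟨k, trivial⟩, k.2⟩, hk⟩
  · refine hO.ne' ?_
    rw [Cfsg.pPrimePCore, h, MonoidHom.comap_bot, QuotientGroup.ker_mk']

end Cfsg.Agent.S0657
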