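import Cfsg.Statements.S0660
import Cfsg.Agent.Lib.Coprime.Gaschutz
import Cfsg.Agent.Lib.PLocal.Replacement

set_option autoImplicit false
open Cfsg

namespace Cfsg.Agent.S0660

/-- Under a coprime action on an abelian group, an invariant subgroup that is complemented admits an invariant complement. -/
theorem result {G : Type*} [Group G] [Finite G] (V A U : Subgroup G) (hVab : IsMulCommutative V) (hAV : A ≤ Subgroup.normalizer (V : Set G)) (hcop : (Nat.card A).Coprime (Nat.card V)) (hUV : U ≤ V) (hAU : A ≤ Subgroup.normalizer (U : Set G)) (W : Subgroup G) (hWV : W ≤ V) (hUW : U ⊓ W = ⊥) (hUWV : U ⊔ W = V) : ∃ W' : Subgroup G, W' ≤ V ∧ A ≤ Subgroup.normalizer (W' : Set G) ∧ U ⊓ W' = ⊥ ∧ U ⊔ W' = V := by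
  set Γ := V ⊔ A with hΓ
  have hVΓ : Γ ≤ Subgroup.normalizer (V : Set G) := sup_le Subgroup.le_normalizer hAV
  have hUΓ : Γ ≤ Subgroup.normalizer (U : Set G) :=
    sup_le (CfsgLib.PLocal.le_normalizer_of_abelian hVab hUV) hAU
  have hUle : U ≤ Γ := hUV.trans le_sup_left
  haveI : (U.subgroupOf Γ).Normal := Subgroup.normal_subgroupOf_of_le_normalizer hUΓ
  haveI hVn : (V.subgroupOf Γ).Normal := Subgroup.normal_subgroupOf_of_le_normalizer hVΓ
  haveI : IsMulCommutative ↥(U.subgroupOf Γ) := ⟨⟨fun a b => Subtype.ext (Subtype.ext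
    (CfsgLib.PLocal.comm_of_mem hVab (hUV a.2) (hUV b.2)))⟩⟩
  have hcard : Nat.card Γ * Nat.card ↥(A ⊓ V) = Nat.card A * Nat.card V := by
    rw [hΓ, sup_comm]
    exact CfsgLib.PLocal.card_sup_mul_card_inf A V hAV
  have hVi : Nat.card V * (V.subgroupOf Γ).index = Nat.card Γ := by
    have h := Subgroup.relIndex_mul_relIndex ⊥ V Γ bot_le le_sup_left
    rwa [Subgroup.relIndex_bot_left, Subgroup.relIndex_bot_left] at h
  have hdvd : (V.subgroupOf Γ).index ∣ Nat.card A := by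
    refine Dvd.intro (Nat.card ↥(A ⊓ V)) (Nat.eq_of_mul_eq_mul_left (Nat.card_pos (α := V)) ?_)
    rw [← mul_assoc, hVi, hcard, mul_comm]
  have hcop' : (Nat.card (U.subgroupOf Γ)).Coprime (V.subgroupOf Γ).index := by
    rw [Nat.card_congr (Subgroup.subgroupOfEquivOfLe hUle).toEquiv]
    exact (hcop.symm.coprime_dvd_left (Subgroup.card_dvd_of_le hUV)).coprime_dvd_right hdvd
  obtain ⟨H, hH⟩ := CfsgLib.Coprime.gaschutz_exists (U.subgroupOf Γ) (V.subgroupOf Γ)
    (Subgroup.comap_mono hUV) hcop' (W.subgroupOf Γ) (Subgroup.comap_mono hWV)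
    (by rw [inf_comm]; simp only [Subgroup.subgroupOf, ← Subgroup.comap_inf]; rw [hUW]; simp)
    (by rw [← Subgroup.subgroupOf_sup hUle (hWV.trans le_sup_left), hUWV])
  refine ⟨(H ⊓ V.subgroupOf Γ).map Γ.subtype, ?_, ?_, ?_, ?_⟩
  · exact (Subgroup.map_mono inf_le_right).trans (Subgroup.subgroupOf_map_subtype V Γ ▸ inf_le_left)
  · have hnorm : (H ⊓ V.subgroupOf Γ).Normal := by
      refine Subgroup.normalizer_eq_top_iff.1 (top_le_iff.1 ?_)
      rw [← hH.sup_eq_top]
      refine sup_le (fun u hu => Subgroup.mem_normalizer_iff.2 fun x => ?_) (fun h hh => Subgroup.mem_normalizer_iff.2 fun x => ?_)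
      · have hc : ∀ y ∈ V.subgroupOf Γ, u * y * u⁻¹ = y := fun y hy => by
          rw [Subtype.ext (CfsgLib.PLocal.comm_of_mem hVab (hUV hu) hy : (u : G) * y = y * u) |> fun e => (show u * y = y * u from e), mul_inv_cancel_right]
        refine ⟨fun hx => by rwa [hc x (Subgroup.mem_inf.1 hx).2], fun hx => ?_⟩
        have hx2 := hVn.conj_mem _ (Subgroup.mem_inf.1 hx).2 u⁻¹
        simp [mul_assoc] at hx2
        rwa [hc x hx2] at hx
      · refine ⟨fun hx => Subgroup.mem_inf.2 ⟨mul_mem (mul_mem hh (Subgroup.mem_inf.1 hx).1) (inv_mem hh),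
          hVn.conj_mem _ (Subgroup.mem_inf.1 hx).2 h⟩, fun hx => Subgroup.mem_inf.2 ⟨?_, ?_⟩⟩
        · simpa [mul_assoc] using mul_mem (mul_mem (inv_mem hh) (Subgroup.mem_inf.1 hx).1) hh
        · simpa [mul_assoc] using hVn.conj_mem _ (Subgroup.mem_inf.1 hx).2 h⁻¹
    refine (le_sup_right : A ≤ Γ).trans ?_
    refine le_trans (le_of_eq ((Subgroup.range_subtype Γ).symm.trans (MonoidHom.range_eq_map _))) ?_
    refine le_trans ?_ (Subgroup.le_normalizer_map _)
    rw [Subgroup.normalizer_eq_top_iff.2 hnorm]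
  · rw [← Subgroup.map_subgroupOf_eq_of_le hUle, ← Subgroup.map_inf _ _ _ Γ.subtype_injective,
      ← inf_assoc, hH.disjoint.eq_bot, bot_inf_eq, Subgroup.map_bot]
  · rw [← Subgroup.map_subgroupOf_eq_of_le hUle, ← Subgroup.map_sup]
    have e : U.subgroupOf Γ ⊔ (H ⊓ V.subgroupOf Γ) = V.subgroupOf Γ := by
      refine le_antisymm (sup_le (Subgroup.comap_mono hUV) inf_le_right) fun x hx => ?_
      have hx' : x ∈ U.subgroupOf Γ ⊔ H := hH.sup_eq_top ▸ Subgroup.mem_top x
      rw [← SetLike.mem_coe, Subgroup.normal_mul] at hx'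
      obtain ⟨u, hu, h, hh, rfl⟩ := hx'
      refine Subgroup.mul_mem_sup hu (Subgroup.mem_inf.2 ⟨hh, ?_⟩)
      have huV : u ∈ V.subgroupOf Γ := Subgroup.comap_mono hUV hu
      simpa using mul_mem (inv_mem huV) hx
    rw [e, Subgroup.map_subgroupOf_eq_of_le le_sup_left]

end Cfsg.Agent.S0660
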