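import Cfsg.Statements.S0668
import Cfsg.Agent.Lib.Perm.Module

set_option autoImplicit false
open Cfsg

namespace Cfsg.Agent.S0668

/-- The equivariant linear maps between the permutation modules of two finite `G`-sets form a space whose dimension is the number of `G`-orbits on the product of the two sets. -/
theorem result {G : Type*} [Group G] {K : Type*} [Field K] {Ω₁ Ω₂ : Type*} [Fintype Ω₁] [Fintype Ω₂] [MulAction G Ω₁] [MulAction G Ω₂] : Module.finrank K ((Cfsg.permRep K G Ω₁).linHom (Cfsg.permRep K G Ω₂)).invariants = Nat.card (MulAction.orbitRel.Quotient G (Ω₁ × Ω₂)) := by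
  classical
  open CfsgLib.Perm MulAction in
  let e : ((Cfsg.permRep K G Ω₁).linHom (Cfsg.permRep K G Ω₂)).invariants ≃ₗ[K]
      (MulAction.orbitRel.Quotient G (Ω₁ × Ω₂) → K) :=
    { toFun := fun T q => Quotient.liftOn' q
        (fun xy => (T : (Ω₁ → K) →ₗ[K] (Ω₂ → K)) (Pi.single xy.1 1) xy.2) (by
          rintro xy ⟨x, y⟩ ⟨g, rfl⟩
          exact kernel_smul_of_equivariant ((mem_invariants_linHom_iff _).1 T.2) g x y)
      map_add' := fun S T => by
        funext q
        induction q using Quotient.inductionOn'
        rfl
      map_smul' := fun c T => by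
        funext q
        induction q using Quotient.inductionOn'
        rfl
      invFun := fun f => ⟨kernelMap (fun x y => f (Quotient.mk'' (x, y))), by
        rw [mem_invariants_linHom_iff]
        intro g v
        refine kernelMap_permRep (fun g x y => congrArg f (Quotient.sound' (s₁ := MulAction.orbitRel G (Ω₁ × Ω₂)) (a := (g • x, g • y)) (b := (x, y)) ⟨g, rfl⟩)) g v⟩
      left_inv := fun T => Subtype.ext (eq_kernelMap (T : (Ω₁ → K) →ₗ[K] (Ω₂ → K))).symm
      right_inv := fun f => by
        funext q
        induction q using Quotient.inductionOn' with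
        | h a => exact congrFun (kernelMap_single (fun x y => f (Quotient.mk'' (x, y))) a.1) a.2 }
  rw [LinearEquiv.finrank_eq e]
  have : Finite (MulAction.orbitRel.Quotient G (Ω₁ × Ω₂)) := Quotient.finite _
  have := Fintype.ofFinite (MulAction.orbitRel.Quotient G (Ω₁ × Ω₂))
  rw [Module.finrank_fintype_fun_eq_card, Nat.card_eq_fintype_card]

end Cfsg.Agent.S0668
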