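import Cfsg.Statements.S0677
import Cfsg.Agent.Lib.Perm.PrimeIndex

set_option autoImplicit false
open Cfsg

namespace Cfsg.Agent.S0677

/-- In a transitive permutation group of prime degree `p` whose Sylow `p`-normaliser has even order, the point stabilisers are the only subgroups of index `p`. -/
theorem result {α : Type*} [Fintype α] [DecidableEq α] {p : ℕ} [Fact p.Prime] (hα : Fintype.card α = p) (G : Subgroup (Equiv.Perm α)) [MulAction.IsPretransitive G α] (P : Sylow p G) (heven : Even (Nat.card (Subgroup.normalizer ((P : Subgroup G) : Set G)))) (H : Subgroup G) (hH : H.index = p) : ∃ a : α, H = MulAction.stabilizer G a := by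
  by_cases hp2 : p = 2
  · subst hp2
    have hcard : Nat.card G ≤ 2 := by
      refine (Subgroup.card_le_card_group G).trans ?_
      rw [Nat.card_perm, Nat.card_eq_fintype_card, hα]
      decide
    have hH1 : H = ⊥ := by
      rw [← Subgroup.card_eq_one]
      have h1 := H.card_mul_index
      rw [hH] at h1
      have := Nat.card_pos (α := H)
      omega
    obtain ⟨a⟩ : Nonempty α := Fintype.card_pos_iff.1 (by omega)
    refine ⟨a, ?_⟩
    rw [hH1, eq_comm, ← Subgroup.card_eq_one, CfsgLib.Perm.card_stabilizer_eq hα hH a, hH1,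
      Subgroup.card_bot]
  obtain ⟨σ, s, e, hσ, he, hs1, hss, hs⟩ := CfsgLib.Perm.exists_coord_neg hα hp2 P heven
  exact CfsgLib.Perm.index_eq_stabilizer hα hp2 hσ he hs1 hss hs H hH

end Cfsg.Agent.S0677
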