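import Cfsg.Statements.S0680
import Cfsg.Agent.Lib.Perm.Sharp

set_option autoImplicit false
open Cfsg

namespace Cfsg.Agent.S0680

/-- A finite sharply doubly transitive permutation group has degree a prime power `p ^ j`; a Sylow `p`-subgroup is normal, elementary abelian and regular, and consists of the identity together with the elements without fixed points. (Frobenius' Theorem is not needed.) -/
theorem result {α : Type*} [Fintype α] [DecidableEq α] (G : Subgroup (Equiv.Perm α)) [MulAction.IsMultiplyPretransitive G α 2] (hsharp : ∀ x : Fin 2 ↪ α, MulAction.stabilizer G x = ⊥) (h2 : 2 ≤ Fintype.card α) : ∃ p j : ℕ, p.Prime ∧ 1 ≤ j ∧ Fintype.card α = p ^ j ∧ ∀ (hp : Fact p.Prime) (P : Sylow p G), (P : Subgroup G).Normal ∧ IsMulCommutative (P : Subgroup G) ∧ (∀ x ∈ (P : Subgroup G), x ^ p = 1) ∧ MulAction.IsPretransitive (P : Subgroup G) α ∧ (∀ a : α, MulAction.stabilizer (P : Subgroup G) a = ⊥) ∧ ∀ g : G, g ∈ (P : Subgroup G) ↔ g = 1 ∨ ∀ a : α, g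 • a ≠ a := by
  obtain ⟨p, j, K, hp, hj, hcard, hKn, hKset, hKc, hcomm, hexp, htr, hreg⟩ :=
    (⟨inferInstance, hsharp, h2⟩ : CfsgLib.Perm.IsSharpTwo G).exists_kernel
  refine ⟨p, j, hp, hj, hcard, fun _ P => ?_⟩
  have hKp : IsPGroup p K := fun x => ⟨1, Subtype.ext (by simpa using hexp x x.2)⟩
  have hndvd : ¬ p ∣ K.index := by
    have h1 := K.card_mul_index
    rw [hKc, (⟨inferInstance, hsharp, h2⟩ : CfsgLib.Perm.IsSharpTwo G).card_eq, hcard] at h1
    rw [Nat.eq_of_mul_eq_mul_left (pow_pos hp.pos j) h1]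
    intro hd
    have hd' : p ∣ p ^ j := dvd_pow_self p (by omega)
    have h3 := Nat.dvd_sub hd' hd
    rw [Nat.sub_sub_self (pow_pos hp.pos j)] at h3
    exact hp.not_dvd_one h3
  have hPK : (P : Subgroup G) = K := by
    let Q : Sylow p G := hKp.toSylow hndvd
    have hQn : (Q : Subgroup G).Normal := hKn
    obtain ⟨g, hg⟩ := MulAction.exists_smul_eq G Q P
    rw [← hg, Sylow.smul_eq_of_normal]
    rfl
  rw [hPK]
  exact ⟨hKn, ⟨⟨fun a b => Subtype.ext (hcomm _ a.2 _ b.2)⟩⟩, hexp, htr, hreg,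
    fun g => Set.ext_iff.1 hKset g⟩

end Cfsg.Agent.S0680
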