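import Cfsg.Statements.S0682
import Cfsg.Agent.Lib.Perm.NearField

set_option autoImplicit false
open Cfsg

namespace Cfsg.Agent.S0682

/-- A finite near-field has prime-power order; its additive group is commutative of prime exponent. -/
theorem result {F : Type*} [Cfsg.NearField F] [Finite F] : ∃ p j : ℕ, p.Prime ∧ 1 ≤ j ∧ Nat.card F = p ^ j ∧ (∀ x y : F, x + y = y + x) ∧ ∀ x : F, p • x = 0 := by
  classical
  let _ : Fintype F := Fintype.ofFinite F
  obtain ⟨p, j, K, hp, hj, hcard, -, hKset, -, hcomm, hexp, -, -⟩ :=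
    (CfsgLib.Perm.nearAffine_isSharpTwo (F := F)).exists_kernel
  have h10 : (1 : F) ≠ 0 := fun h => Cfsg.NearField.zero_ne_one h.symm
  let T : F → CfsgLib.Perm.nearAffine F := fun b =>
    ⟨CfsgLib.Perm.nearMap 1 h10 b, CfsgLib.Perm.nearMap_mem _ _ _⟩
  have hT : ∀ b x : F, (T b) • x = x + b := fun b x => by
    change x * 1 + b = x + b
    rw [mul_one]
  have hmem : ∀ b, T b ∈ K := by
    intro b
    rw [← SetLike.mem_coe, hKset]
    rcases eq_or_ne b 0 with rfl | hb
    · refine Or.inl (Subtype.ext (Equiv.ext fun x => ?_))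
      have := hT 0 x
      rwa [add_zero] at this
    · refine Or.inr fun a ha => hb ?_
      rw [hT] at ha
      exact add_eq_left.1 ha
  refine ⟨p, j, hp, hj, by rw [Nat.card_eq_fintype_card, hcard], fun x y => ?_, fun x => ?_⟩
  · have h := congrArg (fun g : CfsgLib.Perm.nearAffine F => g • (0 : F))
      (hcomm _ (hmem y) _ (hmem x))
    simpa [mul_smul, hT] using h
  · have h : ∀ (n : ℕ) (y : F), (T x) ^ n • y = y + n • x := by
      intro n
      induction n with
      | zero => simp
      | succ n ih => intro y; rw [pow_succ', mul_smul, ih, hT, succ_nsmul, add_assoc]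
    have := h p 0
    rw [hexp _ (hmem x), one_smul, zero_add] at this
    exact this.symm

end Cfsg.Agent.S0682
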