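import Cfsg.Statements.S0691
import Cfsg.Agent.Lib.Perm.MatrixClosure

set_option autoImplicit false
open Cfsg
open Matrix

namespace Cfsg.Agent.S0691

/-- Certificate enumerating the group. -/
def cert : List (ℕ × ℕ) := [(0,0), (0,1), (0,2), (1,0), (1,1), (1,2), (2,0), (2,2), (3,0), (3,2), (4,0), (4,1), (4,2), (5,2), (6,2), (8,0), (8,2), (9,1), (9,2), (13,2), (14,2), (16,2), (18,2)]

/-- The enumerated group. -/
def elems : List CfsgLib.Perm.Quad := CfsgLib.Perm.qList 5 [(2, 0, 0, 3), (0, 4, 1, 0), (1, 2, 1, 3)] cert [(1, 0, 0, 1)]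


/-- An exceptional sharply doubly transitive group of degree 5^2: the listed matrices generate a subgroup of GL(2,5) of order 24 acting regularly on the non-zero vectors. -/
theorem result (A : Matrix.GeneralLinearGroup (Fin 2) (ZMod 5)) (B : Matrix.GeneralLinearGroup (Fin 2) (ZMod 5)) (C : Matrix.GeneralLinearGroup (Fin 2) (ZMod 5)) (hA : (A : Matrix (Fin 2) (Fin 2) (ZMod 5)) = !![2, 0; 0, -2]) (hB : (B : Matrix (Fin 2) (Fin 2) (ZMod 5)) = !![0, -1; 1, 0]) (hC : (C : Matrix (Fin 2) (Fin 2) (ZMod 5)) = !![1, 2; 1, -2]) : Nat.card (Subgroup.closure ({A, B, C} : Set (Matrix.GeneralLinearGroup (Fin 2) (ZMod 5)))) = 24 ∧ ∀ v w : Fin 2 → ZMod 5, v ≠ 0 → w ≠ 0 → ∃! h : Subgroup.closure ({A, B, C} : Set (Matrix.GeneralLinearGroup (Fin 2) (ZMod 5))), Matrix.mulVec ((h : Matrix.GeneralLinearGroup (Fin 2) (ZMod 5)) : Matrix (Fin 2) (Fin 2) (ZMod 5)) v = w := by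
  have : Fact (Nat.Prime 5) := ⟨by norm_num⟩
  open CfsgLib.Perm in
  have hcl : qClosed 5 [(2, 0, 0, 3), (0, 4, 1, 0), (1, 2, 1, 3)] elems = true := by decide +kernel
  have hnd : (elems.map CfsgLib.Perm.qCol).Nodup := by decide +kernel
  have hone : (1, 0, 0, 1) ∈ elems := by decide +kernel
  have hlen : elems.length = 24 := by decide +kernel
  have hlt : ∀ q ∈ elems, q.1 < 5 ∧ q.2.2.1 < 5 := by decide +kernel
  have eA : CfsgLib.Perm.qMat 5 (2, 0, 0, 3) = (A : Matrix (Fin 2) (Fin 2) (ZMod 5)) := by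
    rw [hA]
    ext i j
    fin_cases i <;> fin_cases j <;> simp [CfsgLib.Perm.qMat] <;> decide
  have eB : CfsgLib.Perm.qMat 5 (0, 4, 1, 0) = (B : Matrix (Fin 2) (Fin 2) (ZMod 5)) := by
    rw [hB]
    ext i j
    fin_cases i <;> fin_cases j <;> simp [CfsgLib.Perm.qMat] <;> decide
  have eC : CfsgLib.Perm.qMat 5 (1, 2, 1, 3) = (C : Matrix (Fin 2) (Fin 2) (ZMod 5)) := by
    rw [hC]
    ext i j
    fin_cases i <;> fin_cases j <;> simp [CfsgLib.Perm.qMat] <;> decide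
  have hS : ∀ g ∈ ({A, B, C} : Set (Matrix.GeneralLinearGroup (Fin 2) (ZMod 5))), ∃ q ∈ ([(2, 0, 0, 3), (0, 4, 1, 0), (1, 2, 1, 3)] : List CfsgLib.Perm.Quad),
      CfsgLib.Perm.qMat 5 q = (g : Matrix (Fin 2) (Fin 2) (ZMod 5)) := by
    intro g hg
    simp only [Set.mem_insert_iff, Set.mem_singleton_iff] at hg
    rcases hg with rfl | rfl | rfl
    · exact ⟨(2, 0, 0, 3), by simp, eA⟩
    · exact ⟨(0, 4, 1, 0), by simp, eB⟩
    · exact ⟨(1, 2, 1, 3), by simp, eC⟩
  have hS' : ∀ q ∈ ([(2, 0, 0, 3), (0, 4, 1, 0), (1, 2, 1, 3)] : List CfsgLib.Perm.Quad), ∃ g ∈ ({A, B, C} : Set (Matrix.GeneralLinearGroup (Fin 2) (ZMod 5))),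
      CfsgLib.Perm.qMat 5 q = (g : Matrix (Fin 2) (Fin 2) (ZMod 5)) := by
    intro q hq
    simp only [List.mem_cons, List.not_mem_nil, or_false] at hq
    rcases hq with rfl | rfl | rfl
    · exact ⟨A, by simp, eA⟩
    · exact ⟨B, by simp, eB⟩
    · exact ⟨C, by simp, eC⟩
  set G := Subgroup.closure ({A, B, C} : Set (Matrix.GeneralLinearGroup (Fin 2) (ZMod 5)))
  have hfst : ∀ q ∈ elems, ∀ q' ∈ elems,
      CfsgLib.Perm.qMat 5 q *ᵥ ![1, 0] = CfsgLib.Perm.qMat 5 q' *ᵥ ![1, 0] → q = q' := by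
    rintro ⟨a, b, c, d⟩ hq ⟨a', b', c', d'⟩ hq' h
    have h0 := congrFun h 0
    have h1 := congrFun h 1
    simp [CfsgLib.Perm.qMat, Matrix.mulVec, dotProduct, Fin.sum_univ_two] at h0 h1
    refine List.inj_on_of_nodup_map hnd hq hq' ?_
    rw [ZMod.natCast_eq_natCast_iff', Nat.mod_eq_of_lt (hlt _ hq).1,
      Nat.mod_eq_of_lt (hlt _ hq').1] at h0
    rw [ZMod.natCast_eq_natCast_iff', Nat.mod_eq_of_lt (hlt _ hq).2,
      Nat.mod_eq_of_lt (hlt _ hq').2] at h1
    exact Prod.ext h0 h1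
  have hstab : ∀ h ∈ G, (h : Matrix (Fin 2) (Fin 2) (ZMod 5)) *ᵥ ![1, 0] = ![1, 0] → h = 1 := by
    intro h hh hv
    obtain ⟨q, hq, hqh⟩ := CfsgLib.Perm.closure_subset_qList _ _ elems hS hone hcl hh
    have : q = (1, 0, 0, 1) := hfst q hq _ hone (by
      rw [hqh, hv, CfsgLib.Perm.qMat_one, Matrix.one_mulVec])
    refine Units.ext ?_
    rw [← hqh, this, CfsgLib.Perm.qMat_one, Units.val_one]
  have hge : 24 ≤ Nat.card G := by
    have hex : ∀ i : Fin elems.length, ∃ h : G, CfsgLib.Perm.qMat 5 (elems.get i) =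
        ((h : Matrix.GeneralLinearGroup (Fin 2) (ZMod 5)) : Matrix (Fin 2) (Fin 2) (ZMod 5)) := by
      intro i
      obtain ⟨h, hh, he⟩ := CfsgLib.Perm.qList_subset_closure _ _ hS' cert (List.get_mem elems i)
      exact ⟨⟨h, hh⟩, he⟩
    choose f hf using hex
    have hinj : Function.Injective f := by
      intro i j hij
      have h1 := hfst _ (List.get_mem elems i) _ (List.get_mem elems j) (by rw [hf, hf, hij])
      exact (List.Nodup.of_map _ hnd).get_inj_iff.1 h1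
    have := Nat.card_le_card_of_injective f hinj
    rwa [Nat.card_eq_fintype_card, Fintype.card_fin, hlen] at this
  have hle : Nat.card G ≤ 24 := by
    have hex : ∀ h : G, ∃ i : Fin elems.length, CfsgLib.Perm.qMat 5 (elems.get i) =
        ((h : Matrix.GeneralLinearGroup (Fin 2) (ZMod 5)) : Matrix (Fin 2) (Fin 2) (ZMod 5)) := by
      intro h
      obtain ⟨q, hq, hqh⟩ := CfsgLib.Perm.closure_subset_qList _ _ elems hS hone hcl h.2
      obtain ⟨i, hi⟩ := List.get_of_mem hq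
      exact ⟨i, by rw [hi, hqh]⟩
    choose f hf using hex
    have hinj : Function.Injective f := fun a b hab =>
      Subtype.ext (Units.ext (by rw [← hf, ← hf, hab]))
    have := Nat.card_le_card_of_injective f hinj
    rwa [Nat.card_eq_fintype_card (α := Fin elems.length), Fintype.card_fin, hlen] at this
  exact CfsgLib.Perm.regular_of_card_dvd G hstab (by rw [le_antisymm hle hge]; norm_num) |>
    fun r => ⟨le_antisymm hle hge, r.2⟩

end Cfsg.Agent.S0691
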