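import Cfsg.Statements.S0693
import Cfsg.Agent.Lib.Perm.MatrixClosure

set_option autoImplicit false
open Cfsg
open Matrix

namespace Cfsg.Agent.S0693

theorem four_pow : (4 : ZMod 59) ^ 29 = 1 := by decide +kernel

theorem four_ne_zero' : (4 : ZMod 59) ≠ 0 := by decide +kernel

theorem four_ne_one' : (4 : ZMod 59) ≠ 1 := by decide +kernel

/-- Certificate enumerating the group generated by the first two matrices. -/
def cert : List (ℕ × ℕ) := [(0,0), (0,1), (1,0), (1,1), (2,0), (2,1), (3,0), (3,1), (4,0), (4,1), (5,1), (6,0), (7,1), (8,0), (8,1), (9,1), (10,0), (11,0), (11,1), (12,1), (13,0), (13,1), (14,1), (15,0), (16,0), (16,1), (17,1), (18,1), (19,0), (20,0), (20,1), (21,1), (22,0), (23,0), (23,1), (24,1), (25,1), (26,0), (27,0), (27,1), (28,1), (29,1), (30,1), (32,0), (32,1), (33,1), (34,1), (35,0), (36,0), (36,1), (37,1), (38,1), (39,1), (41,0), (42,0), (42,1), (43,1), (44,1), (45,0), (46,0), (46,1), (47,1), (48,1), (49,1), (51,0), (52,0), (52,1), (53,1), (54,1), (55,1),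 (57,0), (58,1), (59,1), (60,1), (62,0), (63,0), (63,1), (64,1), (65,1), (66,1), (68,0), (69,0), (69,1), (70,1), (71,1), (72,0), (73,0), (73,1), (74,1), (75,1), (76,1), (78,0), (79,0), (79,1), (80,1), (81,1), (82,1), (84,0), (85,0), (86,1), (87,1), (90,0), (90,1), (91,1), (92,1), (95,0), (96,0), (97,1), (98,1), (99,1), (100,0), (100,1), (101,1), (105,0), (106,1), (107,1), (108,0), (109,0), (110,1)]

/-- The enumerated group. -/
def elems : List CfsgLib.Perm.Quad := CfsgLib.Perm.qList 59 [(0, 58, 1, 0), (9, 15, 49, 49)] cert [(1, 0, 0, 1)]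


/-- An exceptional sharply doubly transitive group of degree 59^2: the listed matrices generate a subgroup of GL(2,59) of order 3480 acting regularly on the non-zero vectors. -/
theorem result (A : Matrix.GeneralLinearGroup (Fin 2) (ZMod 59)) (B : Matrix.GeneralLinearGroup (Fin 2) (ZMod 59)) (C : Matrix.GeneralLinearGroup (Fin 2) (ZMod 59)) (hA : (A : Matrix (Fin 2) (Fin 2) (ZMod 59)) = !![0, -1; 1, 0]) (hB : (B : Matrix (Fin 2) (Fin 2) (ZMod 59)) = !![9, 15; -10, -10]) (hC : (C : Matrix (Fin 2) (Fin 2) (ZMod 59)) = !![4, 0; 0, 4]) : Nat.card (Subgroup.closure ({A, B, C} : Set (Matrix.GeneralLinearGroup (Fin 2) (ZMod 59)))) = 3480 ∧ ∀ v w : Fin 2 → ZMod 59, v ≠ 0 → w ≠ 0 → ∃! h : Subgroup.closure ({A, B, C} : Set (Matrix.GeneralLinearGroup (Fin 2) (ZMod 59))), Matrix.mulVec ((h : Matrix.GeneralLinearGroup (Fin 2) (ZMod 59)) : Matrix (Fin 2) (Fin 2) (ZMod 59)) v = w := by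
  have : Fact (Nat.Prime 59) := ⟨by norm_num⟩
  open CfsgLib.Perm in
  have hcl : qClosed 59 [(0, 58, 1, 0), (9, 15, 49, 49)] elems = true := by decide +kernel
  have hnd : (elems.map CfsgLib.Perm.qCol).Nodup := by decide +kernel
  have hone : (1, 0, 0, 1) ∈ elems := by decide +kernel
  have hlen : elems.length = 120 := by decide +kernel
  have hlt : ∀ q ∈ elems, q.1 < 59 ∧ q.2.2.1 < 59 := by decide +kernel
  have hscal : (elems.all fun q => (List.range 29).all fun i =>
      q.2.2.1 != 0 || q.1 * 4 ^ i % 59 != 1 || i == 0) = true := by decide +kernel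
  have eA : CfsgLib.Perm.qMat 59 (0, 58, 1, 0) = (A : Matrix (Fin 2) (Fin 2) (ZMod 59)) := by
    rw [hA]
    ext i j
    fin_cases i <;> fin_cases j <;> simp [CfsgLib.Perm.qMat] <;> decide
  have eB : CfsgLib.Perm.qMat 59 (9, 15, 49, 49) = (B : Matrix (Fin 2) (Fin 2) (ZMod 59)) := by
    rw [hB]
    ext i j
    fin_cases i <;> fin_cases j <;> simp [CfsgLib.Perm.qMat] <;> decide
  have eC : (C : Matrix (Fin 2) (Fin 2) (ZMod 59)) = (4 : ZMod 59) • (1 : Matrix (Fin 2) (Fin 2) (ZMod 59)) := by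
    rw [hC]
    ext i j
    fin_cases i <;> fin_cases j <;> simp
  have hS' : ∀ q ∈ ([(0, 58, 1, 0), (9, 15, 49, 49)] : List CfsgLib.Perm.Quad),
      ∃ g ∈ ({A, B} : Set (Matrix.GeneralLinearGroup (Fin 2) (ZMod 59))),
      CfsgLib.Perm.qMat 59 q = (g : Matrix (Fin 2) (Fin 2) (ZMod 59)) := by
    intro q hq
    simp only [List.mem_cons, List.not_mem_nil, or_false] at hq
    rcases hq with rfl | rfl
    · exact ⟨A, by simp, eA⟩
    · exact ⟨B, by simp, eB⟩
  set G := Subgroup.closure ({A, B, C} : Set (Matrix.GeneralLinearGroup (Fin 2) (ZMod 59))) with hG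
  have hAG : A ∈ G := Subgroup.subset_closure (by simp)
  have hBG : B ∈ G := Subgroup.subset_closure (by simp)
  have hCG : C ∈ G := Subgroup.subset_closure (by simp)
  have h4 : (4 : ZMod 59) ^ 29 = 1 := four_pow
  have hCpow : ∀ n : ℕ, ((C ^ n : Matrix.GeneralLinearGroup (Fin 2) (ZMod 59)) :
      Matrix (Fin 2) (Fin 2) (ZMod 59)) = (4 : ZMod 59) ^ n • 1 := by
    intro n
    rw [Units.val_pow_eq_pow_val, eC, smul_pow, one_pow]
  have hC29 : C ^ 29 = 1 := Units.ext (by rw [hCpow, h4, one_smul, Units.val_one])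
  -- every element is a listed matrix times a power of the scalar
  have hform : ∀ h ∈ G, ∃ q ∈ elems, ∃ n : ℕ, (h : Matrix (Fin 2) (Fin 2) (ZMod 59))
      = (4 : ZMod 59) ^ n • CfsgLib.Perm.qMat 59 q := by
    intro h hh
    rw [hG, ← Subgroup.mem_toSubmonoid, Subgroup.closure_toSubmonoid_of_finite] at hh
    have hstep : ∀ q ∈ elems, ∀ g ∈ ([(0, 58, 1, 0), (9, 15, 49, 49)] : List CfsgLib.Perm.Quad),
        CfsgLib.Perm.qmul 59 q g ∈ elems := by
      intro q hq g hg
      simp only [CfsgLib.Perm.qClosed, List.all_eq_true, List.contains_iff_mem] at hcl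
      exact hcl q hq g hg
    induction hh using Submonoid.closure_induction_right with
    | one => exact ⟨_, hone, 0, by rw [pow_zero, one_smul, CfsgLib.Perm.qMat_one, Units.val_one]⟩
    | mul_right x _ y hy ih =>
      obtain ⟨q, hq, n, hx⟩ := ih
      simp only [Set.mem_insert_iff, Set.mem_singleton_iff] at hy
      rcases hy with rfl | rfl | rfl
      · exact ⟨_, hstep q hq (0, 58, 1, 0) (by simp), n, by
          rw [Units.val_mul, hx, CfsgLib.Perm.qMat_qmul, eA, Matrix.smul_mul]⟩
      · exact ⟨_, hstep q hq (9, 15, 49, 49) (by simp), n, by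
          rw [Units.val_mul, hx, CfsgLib.Perm.qMat_qmul, eB, Matrix.smul_mul]⟩
      · exact ⟨q, hq, n + 1, by
          rw [Units.val_mul, hx, eC, Matrix.mul_smul, mul_one, smul_smul, pow_succ']⟩
  have hfst : ∀ q ∈ elems, ∀ q' ∈ elems,
      CfsgLib.Perm.qMat 59 q *ᵥ ![1, 0] = CfsgLib.Perm.qMat 59 q' *ᵥ ![1, 0] → q = q' := by
    rintro ⟨a, b, c, d⟩ hq ⟨a', b', c', d'⟩ hq' h
    have h0 := congrFun h 0
    have h1 := congrFun h 1
    simp [CfsgLib.Perm.qMat, Matrix.mulVec, dotProduct, Fin.sum_univ_two] at h0 h1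
    refine List.inj_on_of_nodup_map hnd hq hq' ?_
    rw [ZMod.natCast_eq_natCast_iff', Nat.mod_eq_of_lt (hlt _ hq).1,
      Nat.mod_eq_of_lt (hlt _ hq').1] at h0
    rw [ZMod.natCast_eq_natCast_iff', Nat.mod_eq_of_lt (hlt _ hq).2,
      Nat.mod_eq_of_lt (hlt _ hq').2] at h1
    exact Prod.ext h0 h1
  have hstab : ∀ h ∈ G, (h : Matrix (Fin 2) (Fin 2) (ZMod 59)) *ᵥ ![1, 0] = ![1, 0] → h = 1 := by
    intro h hh hv
    obtain ⟨⟨a, b, c, d⟩, hq, n, hhq⟩ := hform h hh
    have hmod : (4 : ZMod 59) ^ n = (4 : ZMod 59) ^ (n % 29) := by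
      conv_lhs => rw [← Nat.mod_add_div n 29, pow_add, pow_mul, h4, one_pow, mul_one]
    rw [hhq, hmod] at hv
    have h0 := congrFun hv 0
    have h1 := congrFun hv 1
    simp [CfsgLib.Perm.qMat, Matrix.mulVec, dotProduct, Fin.sum_univ_two] at h0 h1
    have hc : c = 0 := by
      have h4' : (4 : ZMod 59) ≠ 0 := four_ne_zero'
      have hc' : (c : ZMod 59) = 0 := by
        rcases h1 with h | h
        · exact absurd h.1 h4'
        · exact h
      have h3 := Nat.eq_zero_of_dvd_of_lt ((ZMod.natCast_eq_zero_iff c 59).1 hc') (hlt _ hq).2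
      exact h3
    subst hc
    have ha : a * 4 ^ (n % 29) % 59 = 1 := by
      have h' : ((a * 4 ^ (n % 29) : ℕ) : ZMod 59) = ((1 : ℕ) : ZMod 59) := by
        push_cast
        rw [mul_comm]
        exact h0
      rw [ZMod.natCast_eq_natCast_iff'] at h'
      exact h'
    simp only [List.all_eq_true, Bool.or_eq_true, bne_iff_ne, ne_eq, beq_iff_eq,
      List.mem_range] at hscal
    rcases hscal _ hq (n % 29) (Nat.mod_lt _ (by norm_num)) with (h' | h') | h'
    · exact absurd rfl h'
    · exact absurd ha h'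
    · rw [h', pow_zero, mul_one, Nat.mod_eq_of_lt (hlt _ hq).1] at ha
      simp only at ha
      subst ha
      have : ((1, b, 0, d) : CfsgLib.Perm.Quad) = (1, 0, 0, 1) :=
        List.inj_on_of_nodup_map hnd hq hone rfl
      refine Units.ext ?_
      rw [hhq, hmod, h', pow_zero, one_smul, this, CfsgLib.Perm.qMat_one, Units.val_one]
  have h120 : 120 ∣ Nat.card G := by
    set H := Subgroup.closure ({A, B} : Set (Matrix.GeneralLinearGroup (Fin 2) (ZMod 59)))
    have hHG : H ≤ G := Subgroup.closure_mono (Set.insert_subset_insert (Set.singleton_subset_iff.2 (Set.mem_insert _ _)))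
    have hS : ∀ g ∈ ({A, B} : Set (Matrix.GeneralLinearGroup (Fin 2) (ZMod 59))),
        ∃ q ∈ ([(0, 58, 1, 0), (9, 15, 49, 49)] : List CfsgLib.Perm.Quad),
        CfsgLib.Perm.qMat 59 q = (g : Matrix (Fin 2) (Fin 2) (ZMod 59)) := by
      intro g hg
      simp only [Set.mem_insert_iff, Set.mem_singleton_iff] at hg
      rcases hg with rfl | rfl
      · exact ⟨(0, 58, 1, 0), by simp, eA⟩
      · exact ⟨(9, 15, 49, 49), by simp, eB⟩
    have hge : 120 ≤ Nat.card H := by
      have hex : ∀ i : Fin elems.length, ∃ h : H, CfsgLib.Perm.qMat 59 (elems.get i) =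
          ((h : Matrix.GeneralLinearGroup (Fin 2) (ZMod 59)) : Matrix (Fin 2) (Fin 2) (ZMod 59)) := by
        intro i
        obtain ⟨h, hh, he⟩ := CfsgLib.Perm.qList_subset_closure _ _ hS' cert (List.get_mem elems i)
        exact ⟨⟨h, hh⟩, he⟩
      choose f hf using hex
      have hinj : Function.Injective f := by
        intro i j hij
        have h1 := hfst _ (List.get_mem elems i) _ (List.get_mem elems j) (by rw [hf, hf, hij])
        exact (List.Nodup.of_map _ hnd).get_inj_iff.1 h1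
      have := Nat.card_le_card_of_injective f hinj
      rwa [Nat.card_eq_fintype_card, Fintype.card_fin, hlen] at this
    have hle : Nat.card H ≤ 120 := by
      have hex : ∀ h : H, ∃ i : Fin elems.length, CfsgLib.Perm.qMat 59 (elems.get i) =
          ((h : Matrix.GeneralLinearGroup (Fin 2) (ZMod 59)) : Matrix (Fin 2) (Fin 2) (ZMod 59)) := by
        intro h
        obtain ⟨q, hq, hqh⟩ := CfsgLib.Perm.closure_subset_qList _ _ elems hS hone hcl h.2
        obtain ⟨i, hi⟩ := List.get_of_mem hq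
        exact ⟨i, by rw [hi, hqh]⟩
      choose f hf using hex
      have hinj : Function.Injective f := fun a b hab =>
        Subtype.ext (Units.ext (by rw [← hf, ← hf, hab]))
      have := Nat.card_le_card_of_injective f hinj
      rwa [Nat.card_eq_fintype_card (α := Fin elems.length), Fintype.card_fin, hlen] at this
    rw [← le_antisymm hle hge]
    exact Subgroup.card_dvd_of_le hHG
  have h29 : 29 ∣ Nat.card G := by
    have : Fact (Nat.Prime 29) := ⟨by norm_num⟩
    have hC1 : C ≠ 1 := by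
      intro h
      have := congrArg (fun u : Matrix.GeneralLinearGroup (Fin 2) (ZMod 59) =>
        (u : Matrix (Fin 2) (Fin 2) (ZMod 59)) 0 0) h
      simp [hC] at this
      exact four_ne_one' this
    have hord : orderOf (⟨C, hCG⟩ : G) = 29 :=
      orderOf_eq_prime (Subtype.ext hC29) (fun h => hC1 (congrArg Subtype.val h))
    exact hord ▸ orderOf_dvd_natCard _
  exact CfsgLib.Perm.regular_of_card_dvd G hstab
    (by norm_num; exact Nat.Coprime.mul_dvd_of_dvd_of_dvd (show Nat.Coprime 120 29 by norm_num) h120 h29)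

end Cfsg.Agent.S0693
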