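import Cfsg.Statements.S0702
import Cfsg.Agent.Lib.Perm.Centralizer

set_option autoImplicit false
open Cfsg

namespace Cfsg.Agent.S0702

/-- For a transitive permutation group `G` on a finite set, the centraliser of `G` in the symmetric group is isomorphic to `N_G(G_ω)/G_ω`, and its orbit of `ω` is the set of fixed points of `G_ω`. -/
theorem result {α : Type*} [Finite α] (G : Subgroup (Equiv.Perm α)) [MulAction.IsPretransitive G α] (a : α) : Nonempty (Subgroup.centralizer (G : Set (Equiv.Perm α)) ≃* Subgroup.normalizer ((MulAction.stabilizer G a : Subgroup G) : Set G) ⧸ (MulAction.stabilizer G a).subgroupOf (Subgroup.normalizer ((MulAction.stabilizer G a : Subgroup G) : Set G))) ∧ MulAction.orbit (Subgroup.centralizer (G : Set (Equiv.Perm α))) a = MulAction.fixedPoints (MulAction.stabilizer G a) α := by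
  classical
  let C := Subgroup.centralizer (G : Set (Equiv.Perm α))
  let S := MulAction.stabilizer G a
  let N := Subgroup.normalizer (S : Set G)
  have hcomm : ∀ c ∈ C, ∀ (g : G) (x : α), c (g • x) = g • c x := fun c hc g x => by
    have := Equiv.ext_iff.1 (Subgroup.mem_centralizer_iff.1 hc _ g.2) x
    simp only [Equiv.Perm.mul_apply] at this
    exact this.symm
  have hnorm : ∀ n : N, ∀ h : G, h • a = a → (h * (n : G)⁻¹) • a = (n : G)⁻¹ • a := by
    intro n h hh
    rw [mul_smul]
    have : (n : G) * h * (n : G)⁻¹ ∈ S := (Subgroup.mem_normalizer_iff.1 n.2 h).1 hh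
    rw [MulAction.mem_stabilizer_iff, mul_smul, mul_smul] at this
    exact eq_inv_smul_iff.2 this
  choose gx hgx using fun x : α => MulAction.exists_smul_eq G a x
  have hwd : ∀ (n : N) (g : G), (gx (g • a) * (n : G)⁻¹) • a = (g * (n : G)⁻¹) • a := by
    intro n g
    rw [mul_smul g, ← hnorm n (g⁻¹ * gx (g • a)) (by rw [mul_smul, hgx, inv_smul_smul]),
      ← mul_smul, ← mul_assoc, ← mul_assoc, mul_inv_cancel, one_mul]
  let f : N → α → α := fun n x => (gx x * (n : G)⁻¹) • a
  have hf : ∀ n g, f n (g • a) = (g * (n : G)⁻¹) • a := hwd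
  have hmul : ∀ n m : N, ∀ x, f n (f m x) = f (n * m) x := by
    intro n m x
    obtain ⟨g, rfl⟩ := MulAction.exists_smul_eq G a x
    rw [hf m g, hf n (g * (m : G)⁻¹), hf (n * m) g, Subgroup.coe_mul, mul_inv_rev, mul_assoc]
  have hone : ∀ x, f 1 x = x := by
    intro x
    obtain ⟨g, rfl⟩ := MulAction.exists_smul_eq G a x
    rw [hf, Subgroup.coe_one, inv_one, mul_one]
  let ψ : N →* Equiv.Perm α :=
    { toFun := fun n => ⟨f n, f n⁻¹, fun x => by rw [hmul, inv_mul_cancel, hone],
        fun x => by rw [hmul, mul_inv_cancel, hone]⟩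
      map_one' := Equiv.ext hone
      map_mul' := fun n m => Equiv.ext fun x => (hmul n m x).symm }
  have hψC : ∀ n, ψ n ∈ C := by
    intro n
    rw [Subgroup.mem_centralizer_iff]
    intro h hh
    refine Equiv.ext fun x => ?_
    obtain ⟨g, rfl⟩ := MulAction.exists_smul_eq G a x
    change (⟨h, hh⟩ : G) • f n (g • a) = f n ((⟨h, hh⟩ : G) • g • a)
    rw [← mul_smul (⟨h, hh⟩ : G) g, hf, hf, ← mul_smul, mul_assoc]
  have hkey : ∀ b ∈ MulAction.fixedPoints S α, ∃ n : N, (n : G)⁻¹ • a = b := by
    intro b hb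
    obtain ⟨g, rfl⟩ := MulAction.exists_smul_eq G a b
    have hle : S ≤ S.map (MulAut.conj g).toMonoidHom := by
      intro h hh
      refine ⟨g⁻¹ * h * g, ?_, by simp [mul_assoc]⟩
      rw [SetLike.mem_coe, MulAction.mem_stabilizer_iff, mul_smul, mul_smul, inv_smul_eq_iff]
      exact hb ⟨h, hh⟩
    have heq := Subgroup.eq_of_le_of_card_ge hle
      (by rw [Subgroup.card_map_of_injective (MulAut.conj g).injective])
    refine ⟨⟨g⁻¹, ?_⟩, by simp⟩
    refine inv_mem (Subgroup.mem_normalizer_iff.2 fun h => ?_)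
    constructor
    · intro hh
      change g * h * g⁻¹ ∈ S
      rw [heq]; exact ⟨h, hh, rfl⟩
    · intro hh
      change g * h * g⁻¹ ∈ S at hh
      rw [heq] at hh
      obtain ⟨h', hh', he⟩ := hh
      have : h' = h := (MulAut.conj g).injective he
      rwa [← this]
  have hCfix : ∀ c ∈ C, c a ∈ MulAction.fixedPoints S α := fun c hc s => by
    change (s : G) • c a = c a
    rw [← hcomm c hc, s.2]
  have hψa : ∀ n, ψ n a = (n : G)⁻¹ • a := fun n => by
    have := hf n 1
    rw [one_smul, one_mul] at this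
    exact this
  constructor
  · let φ : N →* C := ψ.codRestrict C hψC
    have hsurj : Function.Surjective φ := by
      intro c
      obtain ⟨n, hn⟩ := hkey _ (hCfix c c.2)
      exact ⟨n, Subtype.ext (CfsgLib.Perm.eq_of_commute_of_apply_eq
        (CfsgLib.Perm.exists_mem_apply_eq G) (hψC n) c.2 ((hψa n).trans hn))⟩
    have hker : φ.ker = S.subgroupOf N := by
      ext n
      rw [MonoidHom.mem_ker, Subgroup.mem_subgroupOf, MulAction.mem_stabilizer_iff]
      constructor
      · intro h
        have h1 := (hψa n).symm.trans (Equiv.ext_iff.1 (congrArg Subtype.val h) a)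
        exact (inv_smul_eq_iff.1 h1).symm
      · intro h
        refine Subtype.ext (CfsgLib.Perm.eq_of_commute_of_apply_eq
          (CfsgLib.Perm.exists_mem_apply_eq G) (hψC n) (Subgroup.one_mem _) (a := a) ?_)
        change ψ n a = a
        rw [hψa, inv_smul_eq_iff.2 h.symm]
    exact ⟨((QuotientGroup.quotientMulEquivOfEq hker.symm).trans
      (QuotientGroup.quotientKerEquivOfSurjective φ hsurj)).symm⟩
  · refine Set.Subset.antisymm ?_ fun b hb => ?_
    · rintro _ ⟨c, rfl⟩
      exact hCfix c c.2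
    · obtain ⟨n, hn⟩ := hkey b hb
      exact ⟨⟨ψ n, hψC n⟩, (hψa n).trans hn⟩

end Cfsg.Agent.S0702
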