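import Cfsg.Statements.S0703
import Cfsg.Agent.Lib.Perm.Centralizer

set_option autoImplicit false
open Cfsg

namespace Cfsg.Agent.S0703

/-- An abelian transitive minimal normal subgroup `M` of a permutation group on a finite set is self-centralising in the symmetric group, regular, elementary abelian, and is the unique minimal normal subgroup. -/
theorem result {α : Type*} [Finite α] (G : Subgroup (Equiv.Perm α)) (M : Subgroup G) [M.Normal] (hM : M ≠ ⊥) (hmin : ∀ L : Subgroup G, L.Normal → L ≤ M → L = ⊥ ∨ L = M) (hab : IsMulCommutative M) (htrans : MulAction.IsPretransitive M α) : Subgroup.centralizer ((M.map G.subtype : Subgroup (Equiv.Perm α)) : Set (Equiv.Perm α)) = M.map G.subtype ∧ (∀ a : α, MulAction.stabilizer M a = ⊥) ∧ (∃ p : ℕ, p.Prime ∧ ∀ m ∈ M, m ^ p = 1) ∧ ∀ L : Subgroup G, L.Normal → L ≠ ⊥ → (∀ L' : Subgroup G, L'.Normal → L' ≤ L → L' = ⊥ ∨ L' = L) → L = M := by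
  classical
  have htr : ∀ a b : α, ∃ g ∈ ((M.map G.subtype : Subgroup (Equiv.Perm α)) : Set (Equiv.Perm α)),
      g a = b := fun a b => by
    obtain ⟨m, hm⟩ := MulAction.exists_smul_eq M a b
    exact ⟨((m : G) : Equiv.Perm α), ⟨m, m.2, rfl⟩, hm⟩
  have hMC : ∀ m ∈ M, (m : Equiv.Perm α) ∈
      Subgroup.centralizer ((M.map G.subtype : Subgroup (Equiv.Perm α)) : Set (Equiv.Perm α)) := by
    intro m hm
    rw [Subgroup.mem_centralizer_iff]
    rintro _ ⟨x, hx, rfl⟩
    exact congrArg (fun y : M => ((y : G) : Equiv.Perm α))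
      (mul_comm' (⟨x, hx⟩ : M) ⟨m, hm⟩)
  have hcent : Subgroup.centralizer
      ((M.map G.subtype : Subgroup (Equiv.Perm α)) : Set (Equiv.Perm α)) = M.map G.subtype := by
    refine le_antisymm (fun c hc => ?_) ?_
    · rcases isEmpty_or_nonempty α with h | h
      · rw [Subsingleton.elim c 1]; exact Subgroup.one_mem _
      obtain ⟨a⟩ := h
      obtain ⟨m, hm⟩ := MulAction.exists_smul_eq M a (c a)
      rw [← CfsgLib.Perm.eq_of_commute_of_apply_eq htr (hMC m m.2) hc hm]
      exact ⟨m, m.2, rfl⟩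
    · rintro _ ⟨m, hm, rfl⟩
      exact hMC m hm
  have hreg : ∀ a : α, MulAction.stabilizer M a = ⊥ := by
    intro a
    rw [Subgroup.eq_bot_iff_forall]
    intro m hm
    exact Subtype.ext (Subtype.ext (CfsgLib.Perm.eq_of_commute_of_apply_eq htr (hMC m m.2)
      (Subgroup.one_mem _) (a := a) hm))
  refine ⟨hcent, hreg, ?_, ?_⟩
  · obtain ⟨m₀, hm₀, hm₁⟩ := (Subgroup.ne_bot_iff_exists_ne_one.1 hM) |> fun ⟨⟨x, hx⟩, h⟩ =>
      (⟨x, hx, fun e => h (Subtype.ext e)⟩ : ∃ x, x ∈ M ∧ x ≠ 1)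
    obtain ⟨p, hp, hpd⟩ := Nat.exists_prime_and_dvd
      (show orderOf m₀ ≠ 1 by rwa [ne_eq, orderOf_eq_one_iff])
    let T : Subgroup G :=
      { carrier := {x | x ∈ M ∧ x ^ p = 1}
        mul_mem' := fun {x y} hx hy => ⟨M.mul_mem hx.1 hy.1, by
          have hc : Commute x y := congrArg (fun z : M => (z : G))
            (mul_comm' (⟨x, hx.1⟩ : M) ⟨y, hy.1⟩)
          rw [hc.mul_pow, hx.2, hy.2, one_mul]⟩
        one_mem' := ⟨M.one_mem, one_pow p⟩
        inv_mem' := fun {x} hx => ⟨M.inv_mem hx.1, by rw [inv_pow, hx.2, inv_one]⟩ }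
    have hTn : T.Normal := ⟨fun x hx g =>
      ⟨(inferInstance : M.Normal).conj_mem x hx.1 g, by rw [conj_pow, hx.2, mul_one, mul_inv_cancel]⟩⟩
    rcases hmin T hTn (fun x hx => hx.1) with hT | hT
    · exfalso
      have hpow : m₀ ^ (orderOf m₀ / p) ∈ T :=
        ⟨M.pow_mem hm₀ _, by rw [← pow_mul, Nat.div_mul_cancel hpd, pow_orderOf_eq_one]⟩
      rw [hT, Subgroup.mem_bot] at hpow
      have h1 := orderOf_pow_orderOf_div (orderOf_pos m₀).ne' hpd
      rw [hpow, orderOf_one] at h1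
      exact hp.ne_one h1.symm
    · refine ⟨p, hp, fun m hm => ?_⟩
      rw [← hT] at hm
      exact hm.2
  · intro L hL hL0 hLmin
    by_contra hne
    rcases hLmin (L ⊓ M) inferInstance inf_le_left with h | h
    · have hLM : L ≤ M := by
        intro l hl
        have hc : (l : Equiv.Perm α) ∈ Subgroup.centralizer
            ((M.map G.subtype : Subgroup (Equiv.Perm α)) : Set (Equiv.Perm α)) := by
          rw [Subgroup.mem_centralizer_iff]
          rintro _ ⟨x, hx, rfl⟩
          exact congrArg Subtype.val (Subgroup.commute_of_normal_of_disjoint L M hL inferInstance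
            (disjoint_iff.2 h) l x hl hx).symm.eq
        rw [hcent] at hc
        obtain ⟨m, hm, he⟩ := hc
        rwa [← Subtype.ext he]
      rw [inf_eq_left.2 hLM] at h
      exact hL0 h
    · rcases hmin L hL (inf_eq_left.1 h) with h' | h'
      · exact hL0 h'
      · exact hne h'

end Cfsg.Agent.S0703
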