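import Cfsg.Statements.S0704
import Cfsg.Agent.Lib.Perm.Centralizer

set_option autoImplicit false
open Cfsg

namespace Cfsg.Agent.S0704

/-- Two distinct transitive minimal normal subgroups `M`, `N` of a permutation group are regular, non-abelian, isomorphic, each other's centraliser in the symmetric group, and the only minimal normal subgroups. -/
theorem result {α : Type*} (G : Subgroup (Equiv.Perm α)) (M N : Subgroup G) [M.Normal] [N.Normal] (hM : M ≠ ⊥) (hN : N ≠ ⊥) (hMmin : ∀ L : Subgroup G, L.Normal → L ≤ M → L = ⊥ ∨ L = M) (hNmin : ∀ L : Subgroup G, L.Normal → L ≤ N → L = ⊥ ∨ L = N) (hMN : M ≠ N) (hMt : MulAction.IsPretransitive M α) (hNt : MulAction.IsPretransitive N α) : (∀ a : α, MulAction.stabilizer M a = ⊥) ∧ (∀ a : α, MulAction.stabilizer N a = ⊥) ∧ ¬ IsMulCommutative M ∧ Nonempty (M ≃* N) ∧ Subgroup.centralizer ((M.map G.subtype : Subgroup (Equiv.Perm α)) : Set (Equiv.Perm α)) = N.map G.subtype ∧ Subgroup.centralizer ((N.map G.subtype : Subgroup (Equiv.Perm α)) : Set (Equiv.Perm α)) = M.map G.subtype ∧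 ∀ L : Subgroup G, L.Normal → L ≠ ⊥ → (∀ L' : Subgroup G, L'.Normal → L' ≤ L → L' = ⊥ ∨ L' = L) → L = M ∨ L = N := by
  classical
  have htr : ∀ (K : Subgroup G), MulAction.IsPretransitive K α → ∀ a b : α,
      ∃ g ∈ ((K.map G.subtype : Subgroup (Equiv.Perm α)) : Set (Equiv.Perm α)), g a = b := by
    intro K hK a b
    obtain ⟨m, hm⟩ := MulAction.exists_smul_eq K a b
    exact ⟨((m : G) : Equiv.Perm α), ⟨m, m.2, rfl⟩, hm⟩
  have hdisj : M ⊓ N = ⊥ := by
    rcases hMmin (M ⊓ N) inferInstance inf_le_left with h | h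
    · exact h
    · exfalso
      rcases hNmin M inferInstance (inf_eq_left.1 h) with h' | h'
      · exact hM h'
      · exact hMN h'
  have hcentle : ∀ (K L : Subgroup G), K.Normal → L.Normal → K ⊓ L = ⊥ → ∀ l ∈ L,
      (l : Equiv.Perm α) ∈ Subgroup.centralizer
        ((K.map G.subtype : Subgroup (Equiv.Perm α)) : Set (Equiv.Perm α)) := by
    intro K L hK hL h l hl
    rw [Subgroup.mem_centralizer_iff]
    rintro _ ⟨x, hx, rfl⟩
    exact congrArg Subtype.val
      (Subgroup.commute_of_normal_of_disjoint K L hK hL (disjoint_iff.2 h) x l hx hl).eq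
  have hreg : ∀ (K L : Subgroup G), K.Normal → L.Normal → K ⊓ L = ⊥ →
      MulAction.IsPretransitive L α → ∀ a : α, MulAction.stabilizer K a = ⊥ := by
    intro K L hK hL h hLt a
    rw [Subgroup.eq_bot_iff_forall]
    intro k hk
    refine Subtype.ext (Subtype.ext ?_)
    exact CfsgLib.Perm.eq_of_commute_of_apply_eq (htr L hLt)
      (hcentle L K hL hK (by rwa [inf_comm]) k k.2) (Subgroup.one_mem _) (a := a) hk
  have hcent : ∀ (K L : Subgroup G), K.Normal → L.Normal → K ⊓ L = ⊥ →
      MulAction.IsPretransitive K α → MulAction.IsPretransitive L α →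
      Subgroup.centralizer ((K.map G.subtype : Subgroup (Equiv.Perm α)) : Set (Equiv.Perm α))
        = L.map G.subtype := by
    intro K L hK hL h hKt hLt
    refine le_antisymm (fun c hc => ?_) ?_
    · rcases isEmpty_or_nonempty α with he | he
      · rw [Subsingleton.elim c 1]; exact Subgroup.one_mem _
      obtain ⟨a⟩ := he
      obtain ⟨l, hl⟩ := MulAction.exists_smul_eq L a (c a)
      rw [← CfsgLib.Perm.eq_of_commute_of_apply_eq (htr K hKt) (hcentle K L hK hL h l l.2) hc hl]
      exact ⟨l, l.2, rfl⟩
    · rintro _ ⟨l, hl, rfl⟩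
      exact hcentle K L hK hL h l hl
  have hregM := hreg M N inferInstance inferInstance hdisj hNt
  have hregN := hreg N M inferInstance inferInstance (by rwa [inf_comm]) hMt
  have hCM := hcent M N inferInstance inferInstance hdisj hMt hNt
  have hCN := hcent N M inferInstance inferInstance (by rwa [inf_comm]) hNt hMt
  have hne : Nonempty α := by
    by_contra hne
    rw [not_nonempty_iff] at hne
    exact hM ((Subgroup.eq_bot_iff_forall _).2 fun x _ => Subtype.ext (Subsingleton.elim _ _))
  refine ⟨hregM, hregN, fun hab => ?_, ?_, hCM, hCN, fun L hL hL0 hLmin => ?_⟩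
  · have hle : M ≤ N := by
      intro m hm
      have hc : (m : Equiv.Perm α) ∈ Subgroup.centralizer
          ((M.map G.subtype : Subgroup (Equiv.Perm α)) : Set (Equiv.Perm α)) := by
        rw [Subgroup.mem_centralizer_iff]
        rintro _ ⟨x, hx, rfl⟩
        exact congrArg (fun y : M => ((y : G) : Equiv.Perm α)) (mul_comm' (⟨x, hx⟩ : M) ⟨m, hm⟩)
      rw [hCM] at hc
      obtain ⟨n, hn, he⟩ := hc
      rwa [← Subtype.ext he]
    exact hM (by rw [← hdisj, inf_eq_left.2 hle])
  · obtain ⟨a⟩ := hne
    have hex : ∀ (K : Subgroup G), MulAction.IsPretransitive K α →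
        (∀ a : α, MulAction.stabilizer K a = ⊥) → ∀ b : α, ∃! k : K, k • a = b := by
      intro K hKt hKr b
      obtain ⟨k, hk⟩ := MulAction.exists_smul_eq K a b
      refine ⟨k, hk, fun k' hk' => ?_⟩
      have : k⁻¹ * k' ∈ MulAction.stabilizer K a := by
        rw [MulAction.mem_stabilizer_iff, mul_smul, hk', inv_smul_eq_iff, hk]
      rw [hKr, Subgroup.mem_bot, inv_mul_eq_one] at this
      exact this.symm
    choose n hn hnu using hex N hNt hregN
    choose m hm hmu using hex M hMt hregM
    have hswap : ∀ (x : M) (y : N) (z : α), x • y • z = y • x • z := by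
      intro x y z
      change (x : G) • (y : G) • z = (y : G) • (x : G) • z
      rw [← mul_smul, ← mul_smul, (Subgroup.commute_of_normal_of_disjoint M N inferInstance
        inferInstance (disjoint_iff.2 hdisj) x y x.2 y.2).eq]
    refine ⟨{ toFun := fun x => n (x⁻¹ • a), invFun := fun y => (m (y • a))⁻¹,
              left_inv := ?_, right_inv := ?_, map_mul' := ?_ }⟩
    · intro x
      dsimp only
      rw [hn, ← hmu _ x⁻¹ rfl, inv_inv]
    · intro y
      dsimp only
      rw [inv_inv, hm]
      exact (hnu _ y rfl).symm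
    · intro x y
      refine (hnu _ _ ?_).symm
      change (n (x⁻¹ • a) * n (y⁻¹ • a)) • a = _
      rw [mul_smul, hn, ← hswap, hn, ← mul_smul, ← mul_inv_rev]
  · by_contra hcon
    push Not at hcon
    rcases hMmin (M ⊓ L) inferInstance inf_le_left with h | h
    · have hle : L ≤ N := by
        intro l hl
        have hc := hcentle M L inferInstance hL h l hl
        rw [hCM] at hc
        obtain ⟨x, hx, he⟩ := hc
        rwa [← Subtype.ext he]
      rcases hNmin L hL hle with h' | h'
      · exact hL0 h'
      · exact hcon.2 h'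
    · rcases hLmin M inferInstance (inf_eq_left.1 h) with h' | h'
      · exact hM h'
      · exact hcon.1 h'.symm

end Cfsg.Agent.S0704
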