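import Cfsg.Statements.S0705
import Cfsg.Agent.Lib.Perm.Multi

set_option autoImplicit false
open scoped Pointwise
open Cfsg
open scoped Pointwise

namespace Cfsg.Agent.S0705

/-- A generously `k`-transitive permutation group (every `(k+1)`-subset has its full symmetric group induced by the setwise stabiliser) of degree greater than `k` is `k`-transitive, and for a `k`-subset the setwise and pointwise stabilisers have the same orbits outside it. -/
theorem result {α : Type*} [Fintype α] [DecidableEq α] (G : Subgroup (Equiv.Perm α)) {k : ℕ} (hk : k < Fintype.card α) (hgen : ∀ s : Finset α, s.card = k + 1 → ∀ σ : Equiv.Perm ↥s, ∃ g ∈ G, ∀ x : ↥s, g (x : α) = σ x) : MulAction.IsMultiplyPretransitive G α k ∧ ∀ s : Finset α, s.card = k → ∀ a b : α, a ∉ s → b ∉ s → (∃ g ∈ G, g • s = s ∧ g a = b) → ∃ g ∈ G, (∀ x ∈ s, g x = x) ∧ g a = b := by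
  classical
  have key : ∀ T : Finset α, T.card = k → ∀ a b : α, a ∉ T → b ∉ T →
      (∃ g ∈ G, g • T = T ∧ g a = b) → ∃ g ∈ G, (∀ x ∈ T, g x = x) ∧ g a = b := by
    rintro T hT a b ha hb ⟨g, hg, hgT, hgab⟩
    have hmem : ∀ x, x ∈ T → g x ∈ T := fun x hx => by
      rw [← hgT]; exact Finset.smul_mem_smul_finset hx
    let s := insert b T
    have hs : s.card = k + 1 := by rw [Finset.card_insert_of_notMem hb, hT]
    let τ : Equiv.Perm ↥T := g.subtypePerm (fun x => ⟨fun hx => by
      rw [← hgT, ← Equiv.Perm.smul_def, Finset.smul_mem_smul_finset_iff] at hx; exact hx,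
      hmem x⟩)
    let σ : Equiv.Perm ↥s :=
      (τ⁻¹).extendDomain
        ({ toFun := fun x => ⟨⟨x.1, Finset.mem_insert_of_mem x.2⟩, x.2⟩
           invFun := fun x => ⟨x.1.1, x.2⟩
           left_inv := fun _ => rfl
           right_inv := fun _ => rfl } : ↥T ≃ {x : ↥s // x.1 ∈ T})
    obtain ⟨h, hh, hhσ⟩ := hgen s hs σ
    refine ⟨h * g, G.mul_mem hh hg, fun x hx => ?_, ?_⟩
    · rw [Equiv.Perm.mul_apply, hhσ ⟨g x, Finset.mem_insert_of_mem (hmem x hx)⟩]
      simp only [σ]
      rw [Equiv.Perm.extendDomain_apply_subtype _ _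
        (b := (⟨g x, Finset.mem_insert_of_mem (hmem x hx)⟩ : ↥s)) (hmem x hx)]
      change ((τ⁻¹ ⟨g x, hmem x hx⟩ : ↥T) : α) = x
      exact congrArg Subtype.val (τ.symm_apply_apply ⟨x, hx⟩)
    · rw [Equiv.Perm.mul_apply, hgab, hhσ ⟨b, Finset.mem_insert_self _ _⟩]
      simp only [σ]
      rw [Equiv.Perm.extendDomain_apply_not_subtype _ _ (b := (⟨b, Finset.mem_insert_self _ _⟩ : ↥s)) hb]
  refine ⟨?_, key⟩
  rcases Nat.eq_zero_or_pos k with hk0 | hk0
  · subst hk0; exact MulAction.is_zero_pretransitive'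
  refine CfsgLib.Perm.isMultiplyPretransitive_of_fixing hk fun T hT a b ha hb => ?_
  by_cases hab : a = b
  · exact ⟨1, fun t _ => one_smul _ t, by rw [hab, one_smul]⟩
  obtain ⟨s, hsub, hs⟩ := Finset.exists_superset_card_eq (s := insert a (insert b T)) (n := k + 1)
    (by
      have h1 := Finset.card_insert_le a (insert b T)
      have h2 := Finset.card_insert_le b T
      omega) (by omega)
  have has : a ∈ s := hsub (Finset.mem_insert_self _ _)
  have hbs : b ∈ s := hsub (Finset.mem_insert_of_mem (Finset.mem_insert_self _ _))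
  obtain ⟨g, hg, hgσ⟩ := hgen s hs (Equiv.swap ⟨a, has⟩ ⟨b, hbs⟩)
  refine ⟨⟨g, hg⟩, fun t ht => ?_, ?_⟩
  · have hts : t ∈ s := hsub (Finset.mem_insert_of_mem (Finset.mem_insert_of_mem ht))
    change g t = t
    rw [hgσ ⟨t, hts⟩, Equiv.swap_apply_of_ne_of_ne]
    · intro h'
      have e : t = a := congrArg Subtype.val h'
      exact ha (e ▸ ht)
    · intro h'
      have e : t = b := congrArg Subtype.val h'
      exact hb (e ▸ ht)
  · change g a = b
    rw [hgσ ⟨a, has⟩, Equiv.swap_apply_left]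

end Cfsg.Agent.S0705
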