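import Cfsg.Statements.S0706
import Cfsg.Agent.S0705

set_option autoImplicit false
open scoped Pointwise
open Cfsg

namespace Cfsg.Agent.S0706

/-- In a generously `k`-transitive permutation group, for a prime `p ≤ k` and a `k`-set `Γ`, there are no `p` points outside `Γ` lying in distinct orbits of the pointwise stabiliser of `Γ` all of length prime to `p` (at most `p - 1` such orbits). -/
theorem result {α : Type*} [Fintype α] [DecidableEq α] (G : Subgroup (Equiv.Perm α)) {k : ℕ} (hk : k < Fintype.card α) (hgen : ∀ s : Finset α, s.card = k + 1 → ∀ σ : Equiv.Perm ↥s, ∃ g ∈ G, ∀ x : ↥s, g (x : α) = σ x) {p : ℕ} (hp : p.Prime) (hpk : p ≤ k) (Γ : Finset α) (hΓ : Γ.card = k) (f : Fin p → α) (hf : ∀ i, f i ∉ Γ) (hdist : ∀ i j, i ≠ j → f j ∉ MulAction.orbit (fixingSubgroup G (Γ : Set α)) (f i)) : ∃ i, p ∣ Nat.card (MulAction.orbit (fixingSubgroup G (Γ : Set α)) (f i)) := by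
  classical
  obtain ⟨hk_tr, horb⟩ := Cfsg.Agent.S0705.result G hk hgen
  have : Fact p.Prime := ⟨hp⟩
  by_contra! hall
  obtain ⟨Θ, hΘΓ, hΘ⟩ := Finset.exists_subset_card_eq (s := Γ) (n := p) (by omega)
  obtain ⟨s, hΓs, hs⟩ := Finset.exists_superset_card_eq (s := Γ) (n := k + 1) (by omega) (by omega)
  obtain ⟨c, hc, hcsup⟩ : ∃ c : Equiv.Perm ↥s, orderOf c = p ∧ ∀ x : ↥s, (x : α) ∉ Θ → c x = x := by
    have hcard : Fintype.card {x : ↥s // (x : α) ∈ Θ} = p := by
      rw [Fintype.card_congr (Equiv.subtypeSubtypeEquivSubtype fun {x} hx => hΓs (hΘΓ hx)),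
        Fintype.card_coe, hΘ]
    obtain ⟨c₀, hc₀⟩ := exists_prime_orderOf_dvd_card' (G := Equiv.Perm {x : ↥s // (x : α) ∈ Θ}) p
      (by rw [Nat.card_eq_fintype_card, Fintype.card_perm, hcard]; exact Nat.dvd_factorial hp.pos le_rfl)
    refine ⟨Equiv.Perm.ofSubtype c₀, ?_, fun x hx => Equiv.Perm.ofSubtype_apply_of_not_mem c₀ hx⟩
    rw [orderOf_injective _ Equiv.Perm.ofSubtype_injective, hc₀]
  obtain ⟨g, hg, hgc⟩ := hgen s hs c
  -- the `p`-part of `g`
  obtain ⟨e, m, hm, hem⟩ := Nat.exists_eq_pow_mul_and_not_dvd (orderOf_pos g).ne' p hp.ne_one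
  let x := g ^ m
  have hpw : ∀ (i : ℕ) (y : ↥s), (g ^ i) (y : α) = ((c ^ i) y : ↥s) := by
    intro i
    induction i with
    | zero => intro y; rfl
    | succ i ih =>
      intro y
      rw [pow_succ', pow_succ', Equiv.Perm.mul_apply, Equiv.Perm.mul_apply, ih, hgc]
  have hxmove : ∃ a ∈ Θ, x a ≠ a := by
    by_contra! hall'
    have : c ^ m = 1 := Equiv.ext fun y => by
      by_cases hy : (y : α) ∈ Θ
      · exact Subtype.ext (((hpw m y).symm.trans (hall' _ hy)))
      · exact Equiv.Perm.pow_apply_eq_self_of_apply_eq_self (hcsup y hy) m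
    exact hm (hc ▸ orderOf_dvd_of_pow_eq_one this)
  have hxfix : ∀ a ∈ Γ \ Θ, x a = a := fun a ha => by
    rw [Finset.mem_sdiff] at ha
    rw [show a = ((⟨a, hΓs ha.1⟩ : ↥s) : α) from rfl, hpw m]
    exact congrArg Subtype.val (Equiv.Perm.pow_apply_eq_self_of_apply_eq_self (hcsup ⟨a, hΓs ha.1⟩ ha.2) m)
  have hxΓ : x • Γ = Γ := by
    refine Finset.eq_of_subset_of_card_le (fun a ha => ?_) (Finset.card_smul_finset x Γ).ge
    obtain ⟨b, hb, rfl⟩ := Finset.mem_smul_finset.1 ha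
    by_cases hbΘ : b ∈ Θ
    · by_contra hn
      have hb' : b ∈ s := hΓs hb
      have e : x b = ((c ^ m) ⟨b, hb'⟩ : ↥s) := hpw m ⟨b, hb'⟩
      have hne : (((c ^ m) ⟨b, hb'⟩ : ↥s) : α) ∉ Θ := fun h => hn (show x b ∈ Γ from e ▸ hΘΓ h)
      have h1 : (c ^ m) ((c ^ m) ⟨b, hb'⟩) = (c ^ m) ⟨b, hb'⟩ :=
        Equiv.Perm.pow_apply_eq_self_of_apply_eq_self (hcsup _ hne) m
      exact hne (by rw [(c ^ m).injective h1]; exact hbΘ)
    · rw [Equiv.Perm.smul_def, hxfix b (Finset.mem_sdiff.2 ⟨hb, hbΘ⟩)]; exact hb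
  let T : Subgroup G := MulAction.stabilizer G Γ
  let xT : T := ⟨⟨x, pow_mem hg m⟩, hxΓ⟩
  have hxp : IsPGroup p (Subgroup.zpowers xT) := IsPGroup.of_card (n := Nat.factorization (orderOf xT) p) (by
    rw [Nat.card_zpowers]
    have hd : orderOf xT ∣ p ^ e := by
      refine orderOf_dvd_of_pow_eq_one (Subtype.ext (Subtype.ext ?_))
      change (g ^ m) ^ p ^ e = 1
      rw [← pow_mul, mul_comm, ← hem, pow_orderOf_eq_one]
    obtain ⟨j, -, hj⟩ := (Nat.dvd_prime_pow hp).1 hd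
    rw [hj, hp.factorization_pow, Finsupp.single_eq_same])
  obtain ⟨Q, hQ⟩ := hxp.exists_le_sylow
  let K : Subgroup T := (fixingSubgroup G (Γ : Set α)).subgroupOf T
  have hKT : fixingSubgroup G (Γ : Set α) ≤ T := fun h hh => by
    refine Finset.eq_of_subset_of_card_le (fun a ha => ?_) (Finset.card_smul_finset h Γ).ge
    obtain ⟨b, hb, rfl⟩ := Finset.mem_smul_finset.1 ha
    rwa [(mem_fixingSubgroup_iff G).1 hh b (Finset.mem_coe.2 hb)]
  haveI : K.Normal := ⟨fun n hn t => by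
    rw [Subgroup.mem_subgroupOf, mem_fixingSubgroup_iff] at hn ⊢
    intro b hb
    have hb' : (t : G)⁻¹ • b ∈ Γ := by
      have h1 := Finset.smul_mem_smul_finset (a := (t : G)⁻¹) (Finset.mem_coe.1 hb)
      rwa [inv_smul_eq_iff.2 t.2.symm] at h1
    push_cast
    rw [mul_smul, mul_smul, hn _ (Finset.mem_coe.2 hb'), smul_inv_smul]⟩
  have hmemiff : ∀ t : G, t ∈ T → ∀ b : α, t • b ∈ Γ ↔ b ∈ Γ := fun t ht b => by
    have e : t • Γ = Γ := ht
    nth_rewrite 1 [← e]
    exact Finset.smul_mem_smul_finset_iff t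
  -- fixed points of `Q` in the orbits
  have hfix : ∀ i, ∃ d : α, d ∈ MulAction.orbit (fixingSubgroup G (Γ : Set α)) (f i) ∧ ∀ q : (Q : Subgroup T),
      ((q : T) : G) • d = d := by
    intro i
    let O := MulAction.orbit (fixingSubgroup G (Γ : Set α)) (f i)
    let S : SubMulAction (Q : Subgroup T) α :=
      { carrier := O
        smul_mem' := fun q a ha => by
          obtain ⟨h, rfl⟩ := ha
          have hfa : (h : G) • f i ∉ Γ := fun hmem => hf i ((hmemiff _ (hKT h.2) _).1 hmem)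
          have hqa : ((q : T) : G) • (h : G) • f i ∉ Γ := fun hmem => hfa ((hmemiff _ (q : T).2 _).1 hmem)
          obtain ⟨u, hu, hu1, hu2⟩ := horb Γ hΓ _ _ hfa hqa ⟨_, ((q : T) : G).2, (q : T).2, rfl⟩
          refine ⟨⟨⟨u, hu⟩, (mem_fixingSubgroup_iff G).2 fun b hb => hu1 b hb⟩ * h, ?_⟩
          change ((⟨u, hu⟩ : G) * (h : G)) • f i = _
          rw [mul_smul]
          exact hu2 }
    have hnd : ¬ p ∣ Nat.card S := hall i
    obtain ⟨d, hd⟩ := Q.isPGroup'.nonempty_fixed_point_of_prime_not_dvd_card (α := S) hnd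
    exact ⟨d, d.2, fun q => congrArg Subtype.val (hd q)⟩
  choose d hdO hdfix using hfix
  have hdinj : Function.Injective d := fun i j hij => by
    by_contra hne
    refine hdist i j hne ?_
    rw [← MulAction.orbit_eq_iff, ← MulAction.orbit_eq_iff.2 (hdO i), hij, MulAction.orbit_eq_iff.2 (hdO j)]
  have hdΓ : ∀ i, d i ∉ Γ := fun i hmem => by
    obtain ⟨h, hh⟩ := hdO i
    refine hf i ((hmemiff _ (hKT h.2) _).1 ?_)
    rw [← hh] at hmem
    exact hmem
  -- a new `k`-set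
  let Δ : Finset α := (Γ \ Θ) ∪ Finset.univ.image d
  have hΔ : Δ.card = k := by
    rw [Finset.card_union_of_disjoint, Finset.card_sdiff_of_subset hΘΓ, Finset.card_image_of_injective _ hdinj,
      Finset.card_univ, Fintype.card_fin, hΓ, hΘ, Nat.sub_add_cancel hpk]
    rw [Finset.disjoint_left]
    intro a ha hb
    obtain ⟨i, -, rfl⟩ := Finset.mem_image.1 hb
    exact hdΓ i (Finset.mem_sdiff.1 ha).1
  let R : Subgroup T := (Q : Subgroup T) ⊓ (fixingSubgroup G (Δ : Set α)).subgroupOf T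
  have hKR : K ⊓ Q ≤ R := fun q hq => ⟨hq.2, by
    refine Subgroup.mem_subgroupOf.2 ((mem_fixingSubgroup_iff G).2 fun a ha => ?_)
    rcases Finset.mem_union.1 (Finset.mem_coe.1 ha) with h | h
    · exact (mem_fixingSubgroup_iff G).1 hq.1 a (Finset.mem_coe.2 (Finset.mem_sdiff.1 h).1)
    · obtain ⟨i, -, rfl⟩ := Finset.mem_image.1 h
      exact hdfix i ⟨q, hq.2⟩⟩
  have hxR : xT ∈ R := ⟨hQ (Subgroup.mem_zpowers _), by
    refine Subgroup.mem_subgroupOf.2 ((mem_fixingSubgroup_iff G).2 fun a ha => ?_)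
    rcases Finset.mem_union.1 (Finset.mem_coe.1 ha) with h | h
    · exact hxfix a h
    · obtain ⟨i, -, rfl⟩ := Finset.mem_image.1 h
      exact hdfix i ⟨xT, hQ (Subgroup.mem_zpowers _)⟩⟩
  have hxK : xT ∉ K := fun h => by
    obtain ⟨a, ha, hne⟩ := hxmove
    exact hne ((mem_fixingSubgroup_iff G).1 h a (Finset.mem_coe.2 (hΘΓ ha)))
  have hlt : K ⊓ Q < R := lt_of_le_of_ne hKR fun h => hxK (h ▸ hxR : xT ∈ K ⊓ Q).1
  have hcardlt : Nat.card (K ⊓ Q : Subgroup T) < Nat.card R :=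
    lt_of_le_of_ne (Subgroup.card_le_of_le hlt.le) fun h => hlt.ne (Subgroup.eq_of_le_of_card_ge hlt.le h.ge)
  -- `R` is a `p`-subgroup of a conjugate of `K`
  have hindex : ¬ p ∣ (K ⊓ Q).relIndex K := by
    intro h
    have hmul : ∀ A B : Subgroup T, A ≤ B → Nat.card A * A.relIndex B = Nat.card B := fun A B hAB => by
      rw [Subgroup.relIndex, ← Nat.card_congr (Subgroup.subgroupOfEquivOfLe hAB).toEquiv]
      exact Subgroup.card_mul_index _
    have h1 := hmul (K ⊓ Q) K inf_le_left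
    have h2 := hmul (K ⊓ Q) Q inf_le_right
    have h3 := hmul K (K ⊔ Q) le_sup_left
    have h4 := hmul (Q : Subgroup T) (K ⊔ Q) le_sup_right
    rw [Subgroup.relIndex_sup_left] at h3
    rw [Subgroup.inf_relIndex_right] at h2
    have h5 : (K ⊓ Q).relIndex K = (Q : Subgroup T).relIndex (K ⊔ Q) := by
      refine Nat.eq_of_mul_eq_mul_left (Nat.card_pos (α := (K ⊓ Q : Subgroup T))) ?_
      refine Nat.eq_of_mul_eq_mul_left (Nat.card_pos (α := (Q : Subgroup T))) ?_
      calc _ = Nat.card (Q : Subgroup T) * Nat.card K := by rw [h1]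
        _ = Nat.card (K ⊓ Q : Subgroup T) * (Nat.card K * K.relIndex Q) := by rw [← mul_assoc, mul_comm (Nat.card (K ⊓ Q : Subgroup T)), mul_assoc, h2, mul_comm]
        _ = _ := by rw [h3, ← h4, mul_left_comm]
    exact Q.not_dvd_index ((h5 ▸ h).trans (Subgroup.relIndex_dvd_index_of_le le_sup_right))
  have hG : Nat.card (fixingSubgroup G (Δ : Set α)) = Nat.card (fixingSubgroup G (Γ : Set α)) := by
    haveI := hk_tr
    have hcΔ : ∀ E : Finset α, E.card = k → Nat.card (fixingSubgroup G (E : Set α)) * ((Fintype.card α).descFactorial k) = Nat.card G := by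
      intro E hE
      have h := MulAction.IsMultiplyPretransitive.index_of_fixingSubgroup_eq (G := G) (E : Set α) (by
        rw [Set.ncard_coe_finset, hE]; exact hk_tr)
      rw [Set.ncard_coe_finset, hE, Nat.card_eq_fintype_card, mul_comm, ← Nat.descFactorial_eq_factorial_mul_choose] at h
      rw [← Subgroup.card_mul_index (fixingSubgroup G (E : Set α)), h]
    exact Nat.eq_of_mul_eq_mul_right (Nat.descFactorial_pos.2 (le_of_lt hk)) ((hcΔ Δ hΔ).trans (hcΔ Γ hΓ).symm)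
  have hKc : Nat.card K = Nat.card (fixingSubgroup G (Γ : Set α)) :=
    Nat.card_congr (Subgroup.subgroupOfEquivOfLe hKT).toEquiv
  have hR : Nat.card R ∣ Nat.card (fixingSubgroup G (Γ : Set α)) := by
    rw [← hG]
    refine Subgroup.card_dvd_of_injective
      (f := ({ toFun := fun r => ⟨((r : T) : G), r.2.2⟩, map_one' := rfl, map_mul' := fun _ _ => rfl } :
        R →* fixingSubgroup G (Δ : Set α))) ?_
    intro r r' h
    exact Subtype.ext (Subtype.ext (congrArg (fun z : fixingSubgroup G (Δ : Set α) => (z : G)) h))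
  rw [← hKc] at hR
  rw [← (show Nat.card (K ⊓ Q : Subgroup T) * (K ⊓ Q).relIndex K = Nat.card K from by
    rw [Subgroup.relIndex, ← Nat.card_congr (Subgroup.subgroupOfEquivOfLe (inf_le_left : K ⊓ Q ≤ K)).toEquiv]
    exact Subgroup.card_mul_index _)] at hR
  obtain ⟨i, hi⟩ := IsPGroup.iff_card.1 (Q.isPGroup'.to_le (inf_le_left : R ≤ Q))
  rw [hi] at hR hcardlt
  have hcop : Nat.Coprime (p ^ i) ((K ⊓ Q).relIndex K) :=
    Nat.Coprime.pow_left _ ((Nat.Prime.coprime_iff_not_dvd hp).2 hindex)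
  exact absurd (Nat.le_of_dvd Nat.card_pos (hcop.dvd_of_dvd_mul_right hR)) (not_le.2 hcardlt)

end Cfsg.Agent.S0706
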