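import Cfsg.Statements.S0707
import Mathlib

set_option autoImplicit false
open Cfsg
open scoped Pointwise

namespace Cfsg.Agent.S0707

/-- In a primitive permutation group, distinct points have distinct stabilisers unless the group is regular of prime degree. -/
theorem result {α : Type*} (G : Subgroup (Equiv.Perm α)) [MulAction.IsPreprimitive G α] (h : ¬ (Nat.card α).Prime ∨ ∃ a : α, MulAction.stabilizer G a ≠ ⊥) {a b : α} (hab : a ≠ b) : MulAction.stabilizer G a ≠ MulAction.stabilizer G b := by
  classical
  intro heq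
  have : Nontrivial α := ⟨⟨a, b, hab⟩⟩
  have hblock : MulAction.IsBlock G {x : α | MulAction.stabilizer G x = MulAction.stabilizer G a} := by
    rw [MulAction.isBlock_iff_smul_eq_of_nonempty]
    rintro g ⟨x, hx1, hx2⟩
    obtain ⟨y, hy, rfl⟩ := hx1
    ext z
    rw [Set.mem_smul_set_iff_inv_smul_mem]
    simp only [Set.mem_ofPred_eq] at hy hx2 ⊢
    rw [MulAction.stabilizer_smul_eq_stabilizer_map_conj, hy] at hx2
    constructor
    · intro hz
      rw [← smul_inv_smul g z, MulAction.stabilizer_smul_eq_stabilizer_map_conj, hz, hx2]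
    · intro hz
      rw [← smul_inv_smul g z, MulAction.stabilizer_smul_eq_stabilizer_map_conj] at hz
      exact Subgroup.map_injective (MulAut.conj g).injective (hz.trans hx2.symm)
  rcases MulAction.IsPreprimitive.isTrivialBlock_of_isBlock hblock with hs | hs
  · exact hab (hs (x := a) rfl (y := b) heq.symm)
  have hbot : MulAction.stabilizer G a = ⊥ := by
    rw [Subgroup.eq_bot_iff_forall]
    intro g hg
    refine Subtype.ext (Equiv.ext fun x => ?_)
    have : x ∈ {x : α | MulAction.stabilizer G x = MulAction.stabilizer G a} := by rw [hs]; trivial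
    rw [← this] at hg
    exact hg
  have hall : ∀ x : α, MulAction.stabilizer G x = ⊥ := fun x => by
    have : x ∈ {x : α | MulAction.stabilizer G x = MulAction.stabilizer G a} := by rw [hs]; trivial
    exact this.trans hbot
  rcases h with h | ⟨x, hx⟩
  swap
  · exact hx (hall x)
  apply h
  have hcoatom := MulAction.IsPreprimitive.isCoatom_stabilizer_of_isPreprimitive G a
  rw [hbot] at hcoatom
  have hsub : ∀ K : Subgroup G, K = ⊥ ∨ K = ⊤ := fun K =>
    or_iff_not_imp_left.2 fun hK => hcoatom.2 K (bot_lt_iff_ne_bot.2 hK)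
  have : Nontrivial G := (Subgroup.nontrivial_iff).1 ⟨⟨⊥, ⊤, hcoatom.1⟩⟩
  obtain ⟨g, hg⟩ := exists_ne (1 : G)
  have hz : Subgroup.zpowers g = ⊤ := (hsub _).resolve_left (Subgroup.zpowers_ne_bot.2 hg)
  let _ : CommGroup G := { (inferInstance : Group G) with
    mul_comm := fun u v => by
      obtain ⟨i, rfl⟩ := Subgroup.mem_zpowers_iff.1 (hz ▸ Subgroup.mem_top u)
      obtain ⟨j, rfl⟩ := Subgroup.mem_zpowers_iff.1 (hz ▸ Subgroup.mem_top v)
      rw [← zpow_add, ← zpow_add, add_comm] }
  have : IsSimpleGroup G := ⟨fun K _ => hsub K⟩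
  have hcard := IsSimpleGroup.prime_card (α := G)
  rwa [← (MulAction.stabilizer G a).card_mul_index, hbot, Subgroup.card_bot, one_mul, ← hbot,
    MulAction.index_stabilizer_of_transitive] at hcard

end Cfsg.Agent.S0707
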