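import Cfsg.Statements.S0709
-- import your own Cfsg.Agent.* helpers here

set_option autoImplicit false
open Cfsg

namespace Cfsg.Agent.S0709

/-- Witt's Lemma for constructing transitive extensions. Points `q 1, …, q t` (`t ≥ 2`) of a finite set are given; `G` fixes `q i` for `i ≥ 3` and is doubly transitive on the remaining points; `s 1 ∈ G` swaps `q 1, q 2`; for `2 ≤ i ≤ t-1`, `s i` swaps `q i, q (i+1)` and fixes the other `q j`; with `H` the stabiliser of `q 1, q 2` in `G`: `s i ^ 2 ∈ H`, `(s i * s (i+1)) ^ 3 ∈ H`, `(s i * s j) ^ 2 ∈ H` for `j ≥ i + 2`, and `s i` (`i ≥ 2`) normalises the stabiliser of `q 2` in `G`. Then `G` and the `s i` generate a `t`-transitive group whose pointwise stabiliser of the `q`'s is `H`. -/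
theorem result {α : Type*} [Fintype α] [DecidableEq α] (t : ℕ) (ht : 2 ≤ t) (q : ℕ → α) (hq : ∀ i j : ℕ, 1 ≤ i → i ≤ t → 1 ≤ j → j ≤ t → q i = q j → i = j) (G : Subgroup (Equiv.Perm α)) (hfix : ∀ g ∈ G, ∀ i : ℕ, 3 ≤ i → i ≤ t → g (q i) = q i) (h2 : ∀ a b c d : α, (∀ i, 3 ≤ i → i ≤ t → a ≠ q i ∧ b ≠ q i ∧ c ≠ q i ∧ d ≠ q i) → a ≠ b → c ≠ d → ∃ g ∈ G, g a = c ∧ g b = d) (s : ℕ → Equiv.Perm α) (hs1 : s 1 ∈ G) (hs1q : s 1 (q 1) = q 2 ∧ s 1 (q 2) = q 1) (hsq : ∀ i : ℕ, 2 ≤ i → i + 1 ≤ t → s i (q i) = q (i + 1) ∧ s i (q (i + 1)) = q i ∧ ∀ j : ℕ, 1 ≤ j → j ≤ t → j ≠ i → j ≠ i + 1 → s i (q j) = q j) (H : Subgroup (Equiv.Perm α)) (hH : H = G ⊓ MulAction.stabilizer (Equiv.Perm α) (q 1) ⊓ MulAction.stabilizer (Equiv.Perm α) (q 2)) (hsq2 : ∀ i : ℕ, 1 ≤ i → i + 1 ≤ t → s i ^ 2 ∈ H) (hbraid : ∀ i : ℕ, 1 ≤ i → i + 2 ≤ t → (s i * s (i + 1)) ^ 3 ∈ H) (hcomm : ∀ i j : ℕ, 1 ≤ i → i + 2 ≤ j → j + 1 ≤ t → (s i * s j) ^ 2 ∈ H ∧ (s j * s i) ^ 2 ∈ H) (hnorm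 : ∀ i : ℕ, 2 ≤ i → i + 1 ≤ t → ∀ g ∈ G ⊓ MulAction.stabilizer (Equiv.Perm α) (q 2), s i * g * (s i)⁻¹ ∈ G ⊓ MulAction.stabilizer (Equiv.Perm α) (q 2)) : MulAction.IsMultiplyPretransitive ↥(Subgroup.closure ((G : Set (Equiv.Perm α)) ∪ {x | ∃ i : ℕ, 2 ≤ i ∧ i + 1 ≤ t ∧ x = s i})) α t ∧ Subgroup.closure ((G : Set (Equiv.Perm α)) ∪ {x | ∃ i : ℕ, 2 ≤ i ∧ i + 1 ≤ t ∧ x = s i}) ⊓ fixingSubgroup (Equiv.Perm α) {x | ∃ i : ℕ, 1 ≤ i ∧ i ≤ t ∧ x = q i} = H := by
  classical
  -- the chain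
  let K : ℕ → Subgroup (Equiv.Perm α) := fun j =>
    Subgroup.closure ((G : Set (Equiv.Perm α)) ∪ {x | ∃ i : ℕ, 2 ≤ i ∧ i + 1 ≤ j ∧ x = s i})
  let P : ℕ → Subgroup (Equiv.Perm α) := fun j =>
    if j ≤ 1 then G ⊓ MulAction.stabilizer (Equiv.Perm α) (q 2) else K j
  have hK2 : K 2 = G := by
    refine le_antisymm ((Subgroup.closure_le _).2 ?_) fun g hg => Subgroup.subset_closure (Or.inl hg)
    rintro x (hx | ⟨i, hi, hi', -⟩)
    · exact hx
    · omega
  have hP2 : ∀ j, 2 ≤ j → P j = K j := fun j hj => by simp [P, show ¬ j ≤ 1 by omega]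
  have hP1 : P 1 = G ⊓ MulAction.stabilizer (Equiv.Perm α) (q 2) := by simp [P]
  have hGK : ∀ j, G ≤ K j := fun j g hg => Subgroup.subset_closure (Or.inl hg)
  have hHG : H ≤ G := hH ▸ inf_le_left.trans inf_le_left
  have hH1 : H ≤ P 1 := fun g hg => by
    rw [hH] at hg; rw [hP1]; exact ⟨hg.1.1, hg.2⟩
  have hP1G : P 1 ≤ G := hP1 ▸ inf_le_left
  have hGne : ∀ g ∈ G, ∀ z, (∀ i, 3 ≤ i → i ≤ t → z ≠ q i) → ∀ i, 3 ≤ i → i ≤ t → g z ≠ q i :=
    fun g hg z hz i hi hi' e => hz i hi hi' (g.injective (e.trans (hfix g hg i hi hi').symm))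
  have hqne : ∀ i j, 1 ≤ i → i ≤ t → 1 ≤ j → j ≤ t → i ≠ j → q i ≠ q j :=
    fun i j a b c d h e => h (hq i j a b c d e)
  have hsG : ∀ i, 1 ≤ i → i + 1 ≤ t → s i ∈ P (i + 1) := by
    intro i hi hit
    rw [hP2 _ (by omega)]
    by_cases h1 : i = 1
    · subst h1; exact hGK _ hs1
    · exact Subgroup.subset_closure (Or.inr ⟨i, by omega, le_rfl, rfl⟩)
  have hsswap : ∀ i, 1 ≤ i → i + 1 ≤ t → s i (q (i + 1)) = q i := by
    intro i hi hit
    by_cases h1 : i = 1
    · subst h1; exact hs1q.2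
    · exact (hsq i (by omega) hit).2.1
  -- elements of `P j` fix the later points
  have hfixP : ∀ j, ∀ g ∈ P j, ∀ k, j < k → 2 ≤ k → k ≤ t → g (q k) = q k := by
    intro j g hg k hjk hk2 hkt
    by_cases hj : j ≤ 1
    · simp only [P, if_pos hj] at hg
      by_cases hk : k = 2
      · subst hk; exact hg.2
      · exact hfix g hg.1 k (by omega) hkt
    · rw [hP2 j (by omega)] at hg
      refine (?_ : K j ≤ MulAction.stabilizer (Equiv.Perm α) (q k)) hg
      refine (Subgroup.closure_le _).2 ?_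
      rintro x (hx | ⟨i, hi, hij, rfl⟩)
      · exact hfix x hx k (by omega) hkt
      · exact (hsq i hi (by omega)).2.2 k (by omega) hkt (by omega) (by omega)
  have hHP : ∀ j, H ≤ P j := by
    intro j
    by_cases hj : j ≤ 1
    · simp only [P, if_pos hj]; exact hP1 ▸ hH1
    · rw [hP2 j (by omega)]; exact hHG.trans (hGK j)
  -- the decomposition of `G`
  have hG : ∀ g ∈ G, g ∈ P 1 ∨ ∃ a ∈ P 1, ∃ b ∈ P 1, g = a * s 1 * b := by
    intro g hg
    by_cases hgq : g (q 2) = q 2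
    · exact Or.inl (hP1 ▸ ⟨hg, hgq⟩)
    obtain ⟨k, hk, hk1, hk2⟩ := h2 (q 1) (q 2) (g (q 2)) (q 2) (fun i hi hi' =>
      ⟨hqne 1 i le_rfl (by omega) (by omega) hi' (by omega),
        hqne 2 i (by omega) ht (by omega) hi' (by omega),
        hGne g hg (q 2) (fun i hi hi' => hqne 2 i (by omega) ht (by omega) hi' (by omega)) i hi hi',
        hqne 2 i (by omega) ht (by omega) hi' (by omega)⟩)
      (hqne 1 2 le_rfl (by omega) (by omega) ht (by omega)) hgq
    refine Or.inr ⟨k, hP1 ▸ ⟨hk, hk2⟩, (k * s 1)⁻¹ * g, ?_, (mul_inv_cancel_left (k * s 1) g).symm⟩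
    rw [hP1]
    refine ⟨G.mul_mem (G.inv_mem (G.mul_mem hk hs1)) hg, ?_⟩
    show ((k * s 1)⁻¹ * g) (q 2) = q 2
    rw [Equiv.Perm.mul_apply, Equiv.Perm.inv_def, Equiv.symm_apply_eq, Equiv.Perm.mul_apply, hs1q.2, hk1]
  -- commutation modulo `H`
  have hcm : ∀ i k, 1 ≤ i → i + 2 ≤ k → k + 1 ≤ t → s k * s i * (s k)⁻¹ ∈ P (i + 1) := by
    intro i k hi hik hk
    have h1 := (hcomm i k hi hik hk).2
    have e : s k * s i * (s k)⁻¹ = (s k * s i) ^ 2 * (s i)⁻¹ * (s k ^ 2)⁻¹ := by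
      rw [pow_two, pow_two]; group
    rw [e]
    exact mul_mem (mul_mem (hHP _ h1) (inv_mem (hsG i hi (by omega))))
      (inv_mem (hHP _ (hsq2 k (by omega) hk)))
  have hnormP : ∀ i, 1 ≤ i → ∀ k, i + 1 ≤ k → k + 1 ≤ t → ∀ m ∈ P i, s k * m * (s k)⁻¹ ∈ P i := by
    intro i hi k hik hk m hm
    by_cases hi1 : i = 1
    · subst hi1; rw [hP1] at hm ⊢; exact hnorm k (by omega) hk m hm
    rw [hP2 i (by omega)] at hm ⊢
    refine (?_ : K i ≤ (K i).comap (MulAut.conj (s k)).toMonoidHom) hm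
    refine (Subgroup.closure_le _).2 ?_
    rintro x (hx | ⟨l, hl, hli, rfl⟩)
    · show s k * x * (s k)⁻¹ ∈ K i
      refine hGK i ?_
      have h1 : ∀ a ∈ P 1, s k * a * (s k)⁻¹ ∈ G := fun a ha => by
        rw [hP1] at ha; exact (hnorm k (by omega) hk a ha).1
      rcases hG x hx with h | ⟨a, ha, b, hb, rfl⟩
      · exact h1 x h
      · have h3 : s k * s 1 * (s k)⁻¹ ∈ G := by
          have := hcm 1 k le_rfl (by omega) hk
          rwa [hP2 2 le_rfl, hK2] at this
        rw [show s k * (a * s 1 * b) * (s k)⁻¹ =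
          (s k * a * (s k)⁻¹) * (s k * s 1 * (s k)⁻¹) * (s k * b * (s k)⁻¹) by group]
        exact mul_mem (mul_mem (h1 a ha) h3) (h1 b hb)
    · show s k * s l * (s k)⁻¹ ∈ K i
      have := hcm l k (by omega) (by omega) hk
      rw [hP2 (l + 1) (by omega)] at this
      refine (Subgroup.closure_mono ?_) this
      rintro y (hy | ⟨u, hu, hu', rfl⟩)
      · exact Or.inl hy
      · exact Or.inr ⟨u, hu, by omega, rfl⟩
  have hmono : ∀ i, 1 ≤ i → P i ≤ P (i + 1) := by
    intro i hi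
    rw [hP2 (i + 1) (by omega)]
    by_cases hi1 : i = 1
    · subst hi1; exact hP1G.trans (hGK _)
    · rw [hP2 i (by omega)]
      refine Subgroup.closure_mono ?_
      rintro y (hy | ⟨u, hu, hu', rfl⟩)
      · exact Or.inl hy
      · exact Or.inr ⟨u, hu, by omega, rfl⟩
  -- two double cosets
  have hdc : ∀ n, n + 2 ≤ t → ∀ g ∈ P (n + 2),
      g ∈ P (n + 1) ∨ ∃ a ∈ P (n + 1), ∃ b ∈ P (n + 1), g = a * s (n + 1) * b := by
    intro n
    induction n with
    | zero =>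
      intro _ g hg
      rw [hP2 2 le_rfl, hK2] at hg
      exact hG g hg
    | succ n ih =>
      intro hnt g hg
      set L := P (n + 2) with hLdef
      set σ := s (n + 2) with hσdef
      have hσ2 : σ ^ 2 ∈ L := hHP _ (hsq2 (n + 2) (by omega) (by omega))
      rw [hP2 (n + 1 + 2) (by omega)] at hg
      have hσinv : σ⁻¹ = σ * (σ ^ 2)⁻¹ := by rw [pow_two]; group
      -- right multiplication by the new generator
      have hstep : ∀ x, (x ∈ L ∨ ∃ a ∈ L, ∃ b ∈ L, x = a * σ * b) →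
          (x * σ ∈ L ∨ ∃ a ∈ L, ∃ b ∈ L, x * σ = a * σ * b) := by
        rintro x (hx | ⟨a, ha, b, hb, rfl⟩)
        · exact Or.inr ⟨x, hx, 1, one_mem _, (mul_one _).symm⟩
        · rcases ih (by omega) b hb with hb' | ⟨c, hc, d, hd, rfl⟩
          · refine Or.inl ?_
            rw [show a * σ * b * σ = a * (σ * b * σ⁻¹) * σ ^ 2 by rw [pow_two]; group]
            exact mul_mem (mul_mem ha (hmono _ (by omega)
              (hnormP _ (by omega) _ (by omega) (by omega) b hb'))) hσ2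
          · refine Or.inr ?_
            set τ := s (n + 1) with hτdef
            have hτ : τ ∈ L := hsG (n + 1) (by omega) (by omega)
            have hh : (τ * σ) ^ 3 ∈ L := hHP _ (hbraid (n + 1) (by omega) (by omega))
            have e : a * σ * (c * τ * d) * σ = (a * (σ * c * σ⁻¹) * τ⁻¹ * (τ * σ) ^ 3) * σ *
                ((σ ^ 2)⁻¹ * τ⁻¹ * ((σ ^ 2)⁻¹ * (σ * d * σ⁻¹) * σ ^ 2)) := by
              simp only [pow_succ, pow_zero, one_mul]; group
            refine ⟨_, ?_, _, ?_, e⟩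
            · exact mul_mem (mul_mem (mul_mem ha (hmono _ (by omega)
                (hnormP _ (by omega) _ (by omega) (by omega) c hc))) (inv_mem hτ)) hh
            · exact mul_mem (mul_mem (inv_mem hσ2) (inv_mem hτ)) (mul_mem (mul_mem (inv_mem hσ2)
                (hmono _ (by omega) (hnormP _ (by omega) _ (by omega) (by omega) d hd))) hσ2)
      have hrL : ∀ x, (x ∈ L ∨ ∃ a ∈ L, ∃ b ∈ L, x = a * σ * b) → ∀ y ∈ L,
          (x * y ∈ L ∨ ∃ a ∈ L, ∃ b ∈ L, x * y = a * σ * b) := by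
        rintro x (hx | ⟨a, ha, b, hb, rfl⟩) y hy
        · exact Or.inl (mul_mem hx hy)
        · exact Or.inr ⟨a, ha, b * y, mul_mem hb hy, by group⟩
      have hgen : ∀ x ∈ ((G : Set (Equiv.Perm α)) ∪
          {x | ∃ i : ℕ, 2 ≤ i ∧ i + 1 ≤ n + 1 + 2 ∧ x = s i}), x ∈ L ∨ x = σ := by
        rintro x (hx | ⟨i, hi, hi', rfl⟩)
        · refine Or.inl ?_
          rw [hLdef, hP2 (n + 2) (by omega)]
          exact hGK _ hx
        · by_cases hin : i = n + 2
          · exact Or.inr (hin ▸ rfl)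
          · refine Or.inl ?_
            rw [hLdef, hP2 (n + 2) (by omega)]
            exact Subgroup.subset_closure (Or.inr ⟨i, hi, by omega, rfl⟩)
      change g ∈ L ∨ ∃ a ∈ L, ∃ b ∈ L, g = a * σ * b
      induction hg using Subgroup.closure_induction_right with
      | one => exact Or.inl (one_mem _)
      | mul_right x _ y hy hx =>
        rcases hgen y hy with h | rfl
        · exact hrL x hx y h
        · exact hstep x hx
      | mul_inv_cancel x _ y hy hx =>
        rcases hgen y hy with h | rfl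
        · exact hrL x hx _ (inv_mem h)
        · rw [hσinv, ← mul_assoc]
          exact hrL _ (hstep x hx) _ (inv_mem hσ2)
  have hstab : ∀ n, n + 2 ≤ t → ∀ g ∈ P (n + 2), g (q (n + 2)) = q (n + 2) → g ∈ P (n + 1) := by
    intro n hn g hg hgq
    rcases hdc n hn g hg with h | ⟨a, ha, b, hb, rfl⟩
    · exact h
    · exfalso
      rw [Equiv.Perm.mul_apply, Equiv.Perm.mul_apply, hfixP _ b hb _ (by omega) (by omega) hn,
        hsswap (n + 1) (by omega) hn] at hgq
      have h1 := hfixP _ a ha (n + 2) (by omega) (by omega) hn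
      exact hqne (n + 1) (n + 2) (by omega) (by omega) (by omega) hn (by omega)
        (a.injective (hgq.trans h1.symm))
  -- transitivity of the chain
  have htr : ∀ n, n + 2 ≤ t → ∀ y : ℕ → α,
      (∀ i j, 1 ≤ i → i ≤ n + 2 → 1 ≤ j → j ≤ n + 2 → y i = y j → i = j) →
      (∀ i k, 1 ≤ i → i ≤ n + 2 → n + 2 < k → k ≤ t → y i ≠ q k) →
      ∃ g ∈ P (n + 2), ∀ i, 1 ≤ i → i ≤ n + 2 → g (q i) = y i := by
    intro n
    induction n with
    | zero =>
      intro _ y hy hy'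
      obtain ⟨g, hg, g1, g2⟩ := h2 (q 1) (q 2) (y 1) (y 2) (fun i hi hi' =>
        ⟨hqne 1 i le_rfl (by omega) (by omega) hi' (by omega),
          hqne 2 i (by omega) ht (by omega) hi' (by omega),
          hy' 1 i le_rfl (by omega) (by omega) hi', hy' 2 i (by omega) le_rfl (by omega) hi'⟩)
        (hqne 1 2 le_rfl (by omega) (by omega) ht (by omega))
        (fun e => absurd (hy 1 2 le_rfl (by omega) (by omega) le_rfl e) (by omega))
      refine ⟨g, by rw [hP2 2 le_rfl, hK2]; exact hg, fun i hi hi' => ?_⟩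
      rcases (show i = 1 ∨ i = 2 by omega) with rfl | rfl
      · exact g1
      · exact g2
    | succ n ih =>
      intro hnt y hy hy'
      -- move the top point
      obtain ⟨g₁, hg₁, e₁⟩ : ∃ g ∈ P (n + 1 + 2), g (q (n + 3)) = y (n + 3) := by
        by_cases he : y (n + 3) = q (n + 3)
        · exact ⟨1, one_mem _, he.symm⟩
        let y₀ : ℕ → α := fun i => Equiv.swap (q (n + 2)) (y (n + 3)) (q i)
        obtain ⟨a, ha, hay⟩ := ih (by omega) y₀
          (fun i j h1 h2' h3 h4 e => hq i j h1 (by omega) h3 (by omega) ((Equiv.swap _ _).injective e))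
          (fun i k h1 h2' h3 h4 e => by
            have hk : y (n + 3) ≠ q k := by
              rcases Nat.lt_or_ge (n + 3) k with hk | hk
              · exact hy' (n + 3) k (by omega) le_rfl hk h4
              · rw [show k = n + 3 by omega]; exact he
            have h5 : q i = Equiv.swap (q (n + 2)) (y (n + 3)) (q k) := by
              rw [← e]; exact (Equiv.swap_apply_self _ _ _).symm
            rw [Equiv.swap_apply_of_ne_of_ne (hqne k (n + 2) (by omega) h4 (by omega) (by omega) (by omega))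
              hk.symm] at h5
            exact hqne i k h1 (by omega) (by omega) h4 (by omega) h5)
        refine ⟨a * s (n + 2), mul_mem (hmono _ (by omega) ha) (hsG (n + 2) (by omega) (by omega)), ?_⟩
        rw [Equiv.Perm.mul_apply, hsswap (n + 2) (by omega) (by omega), hay _ (by omega) le_rfl]
        exact Equiv.swap_apply_left _ _
      obtain ⟨g₂, hg₂, e₂⟩ := ih (by omega) (fun i => g₁⁻¹ (y i))
        (fun i j a b c d e => hy i j a (by omega) c (by omega) (g₁⁻¹.injective e))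
        (fun i k a b c d e => by
          rw [Equiv.Perm.inv_def, Equiv.symm_apply_eq] at e
          rcases Nat.lt_or_ge (n + 3) k with hk | hk
          · rw [hfixP _ g₁ hg₁ k (by omega) (by omega) d] at e
            exact hy' i k a (by omega) hk d e
          · rw [show k = n + 3 by omega, e₁] at e
            exact absurd (hy i (n + 3) a (by omega) (by omega) le_rfl e) (by omega))
      refine ⟨g₁ * g₂, mul_mem hg₁ (hmono _ (by omega) hg₂), fun i hi hi' => ?_⟩
      rcases Nat.lt_or_ge i (n + 3) with hk | hk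
      · rw [Equiv.Perm.mul_apply, e₂ i hi (by omega), Equiv.Perm.inv_def, Equiv.apply_symm_apply]
      · rw [show i = n + 3 by omega, Equiv.Perm.mul_apply,
          hfixP _ g₂ hg₂ (n + 3) (by omega) (by omega) (by omega), e₁]
  obtain ⟨n, rfl⟩ : ∃ n, t = n + 2 := ⟨t - 2, by omega⟩
  refine ⟨?_, ?_⟩
  · have key : ∀ x : Fin (n + 2) ↪ α, ∃ g ∈ P (n + 2), ∀ i : Fin (n + 2), g (q (i + 1)) = x i := by
      intro x
      obtain ⟨g, hg, hgy⟩ := htr n le_rfl (fun i => x ⟨(i - 1) % (n + 2), Nat.mod_lt _ (by omega)⟩)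
        (fun i j a b c d e => by
          have := congrArg Fin.val (x.injective e)
          simp only [Nat.mod_eq_of_lt (show i - 1 < n + 2 by omega),
            Nat.mod_eq_of_lt (show j - 1 < n + 2 by omega)] at this
          omega)
        (fun i k a b c d => absurd d (by omega))
      refine ⟨g, hg, fun i => (hgy (i + 1) (by omega) (by omega)).trans (congrArg x (Fin.ext ?_))⟩
      simp [Nat.mod_eq_of_lt i.2]
    refine ⟨fun x y => ?_⟩
    obtain ⟨g, hg, hgx⟩ := key x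
    obtain ⟨g', hg', hgy⟩ := key y
    rw [hP2 (n + 2) (by omega)] at hg hg'
    refine ⟨⟨g' * g⁻¹, mul_mem hg' (inv_mem hg)⟩, DFunLike.ext _ _ fun i => ?_⟩
    show (g' * g⁻¹) (x i) = y i
    rw [Equiv.Perm.mul_apply, Equiv.Perm.inv_def, ← hgx i, Equiv.symm_apply_apply, hgy i]
  · rw [show Subgroup.closure ((G : Set (Equiv.Perm α)) ∪
      {x | ∃ i : ℕ, 2 ≤ i ∧ i + 1 ≤ n + 2 ∧ x = s i}) = P (n + 2) from (hP2 _ (by omega)).symm]
    apply le_antisymm
    · rintro g ⟨hg, hgf⟩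
      have hfx : ∀ i, 1 ≤ i → i ≤ n + 2 → g (q i) = q i := fun i hi hi' =>
        mem_fixingSubgroup_iff (Equiv.Perm α) |>.1 hgf (q i) ⟨i, hi, hi', rfl⟩
      have hdown : ∀ k, k ≤ n + 1 → g ∈ P (n + 2 - k) := by
        intro k
        induction k with
        | zero => exact fun _ => hg
        | succ k ih =>
          intro hk
          obtain ⟨j, hj⟩ : ∃ j, n + 2 - k = j + 2 := ⟨n - k, by omega⟩
          rw [show n + 2 - (k + 1) = j + 1 by omega]
          exact hstab j (by omega) g (hj ▸ ih (by omega)) (hfx _ (by omega) (by omega))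
      have h1 := hdown (n + 1) le_rfl
      rw [show n + 2 - (n + 1) = 1 by omega, hP1] at h1
      rw [hH]
      exact ⟨⟨h1.1, hfx 1 le_rfl (by omega)⟩, h1.2⟩
    · intro g hg
      refine ⟨hHP _ hg, (mem_fixingSubgroup_iff (Equiv.Perm α)).2 ?_⟩
      rintro _ ⟨i, hi, hi', rfl⟩
      rw [hH] at hg
      rcases (show i = 1 ∨ i = 2 ∨ 3 ≤ i by omega) with rfl | rfl | h
      · exact hg.1.2
      · exact hg.2
      · exact hfix g hg.1.1 i h hi'

end Cfsg.Agent.S0709
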