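import Cfsg.Statements.S0710
import Cfsg.Agent.Lib.Perm.PrimeSylow

set_option autoImplicit false
open Cfsg

namespace Cfsg.Agent.S0710

/-- No transitive permutation group on 13 points has order `13 * 12 * 11 * 10 * 9 * 8`. -/
theorem result {α : Type*} [Fintype α] [DecidableEq α] (hα : Fintype.card α = 13) (G : Subgroup (Equiv.Perm α)) [MulAction.IsPretransitive G α] : Nat.card G ≠ 13 * 12 * 11 * 10 * 9 * 8 := by
  intro hG
  have : Fact (Nat.Prime 13) := ⟨by norm_num⟩
  obtain ⟨P⟩ := (inferInstance : Nonempty (Sylow 13 G))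
  have hdvd := CfsgLib.Perm.card_normalizer_sylow_dvd hα P
  have hP := CfsgLib.Perm.card_sylow_eq_prime hα P
  have h13 : 13 ∣ Nat.card (Subgroup.normalizer ((P : Subgroup G) : Set G)) := by
    conv_lhs => rw [← hP]
    exact Subgroup.card_dvd_of_le Subgroup.le_normalizer
  have hidx := (Subgroup.normalizer ((P : Subgroup G) : Set G)).card_mul_index
  have hS : Nat.card (Sylow 13 G) = (Subgroup.normalizer ((P : Subgroup G) : Set G)).index :=
    P.card_eq_index_normalizer
  rw [← hS, hG] at hidx
  have hmod := card_sylow_modEq_one 13 G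
  rw [Nat.ModEq] at hmod
  obtain ⟨k, hk⟩ := h13
  rw [hk] at hdvd hidx
  have hk12 : k ∣ 12 := Nat.dvd_of_mul_dvd_mul_left (by norm_num) hdvd
  have hkle := Nat.le_of_dvd (by norm_num) hk12
  interval_cases k <;> omega

end Cfsg.Agent.S0710
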