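import Cfsg.Statements.S0717
import Cfsg.Agent.Lib.Perm.PermCentralizer

set_option autoImplicit false
open Cfsg

namespace Cfsg.Agent.S0717

/-- All suborbits of a transitive group are self-paired (every pair of points is interchanged by some group element) if and only if the permutation character is multiplicity-free and each of its irreducible constituents is real-valued. -/
theorem result {G : Type*} [Group G] [Fintype G] {Ω : Type*} [Fintype Ω] [MulAction G Ω] [MulAction.IsPretransitive G Ω] : (∀ a b : Ω, ∃ g : G, g • a = b ∧ g • b = a) ↔ ∀ χ : G → ℂ, Cfsg.IsIrrCharacter G χ → Cfsg.classInner (fun g : G => (Nat.card (MulAction.fixedBy Ω g) : ℂ)) χ ≠ 0 → Cfsg.classInner (fun g : G => (Nat.card (MulAction.fixedBy Ω g) : ℂ)) χ = 1 ∧ ∀ g : G, (starRingEnd ℂ) (χ g) = χ g := by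
  classical
  have hsymm_of : (∀ a b : Ω, ∃ g : G, g • a = b ∧ g • b = a) → ∀ S : (Ω → ℂ) →ₗ[ℂ] (Ω → ℂ),
      CfsgLib.Perm.Isotypic.IsInter G S → ∀ x y, CfsgLib.Perm.Isotypic.entry S x y = CfsgLib.Perm.Isotypic.entry S y x := by
    intro hgen S hS x y
    obtain ⟨g, h1, h2⟩ := hgen x y
    conv_lhs => rw [← CfsgLib.Perm.Isotypic.entry_smul hS g x y, h1, h2]
  constructor
  · intro hgen χ hχ hne
    rw [CfsgLib.Perm.Isotypic.inner_perm ⟨χ, hχ⟩] at hne ⊢
    have hmf := CfsgLib.Perm.Isotypic.multFree_of_commute (Cfsg.permRep ℂ G Ω) (fun S T hS hT =>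
      CfsgLib.Perm.Isotypic.commute_of_symm (hsymm_of hgen S hS) (hsymm_of hgen T hT)
        (hsymm_of hgen _ (CfsgLib.Perm.Isotypic.isInter_comp hT hS))) ⟨χ, hχ⟩
    refine ⟨hmf.resolve_left hne, fun g => ?_⟩
    let χ' : Cfsg.IrrCharacter G := ⟨_, CfsgLib.Chars.isIrrCharacter_conj hχ⟩
    have he : CfsgLib.Perm.Isotypic.proj (Cfsg.permRep ℂ G Ω) ⟨χ, hχ⟩ =
        CfsgLib.Perm.Isotypic.proj (Cfsg.permRep ℂ G Ω) χ' :=
      CfsgLib.Perm.Isotypic.ext_entry fun x y => by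
        rw [hsymm_of hgen _ (CfsgLib.Perm.Isotypic.isInter_proj _) x y,
          CfsgLib.Perm.Isotypic.entry_proj_swap (χ' := χ') (fun _ => rfl)]
    by_contra hreal
    have hne' : (⟨χ, hχ⟩ : Cfsg.IrrCharacter G) ≠ χ' := fun h => hreal (congrFun (congrArg Subtype.val h) g).symm
    have hz : CfsgLib.Perm.Isotypic.proj (Cfsg.permRep ℂ G Ω) ⟨χ, hχ⟩ = 0 := LinearMap.ext fun f => by
      have h := CfsgLib.Perm.Isotypic.proj_proj (Cfsg.permRep ℂ G Ω) ⟨χ, hχ⟩ χ' f
      rw [if_neg hne', ← he, CfsgLib.Perm.Isotypic.proj_proj, if_pos rfl] at h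
      exact h
    have ht := CfsgLib.Perm.Isotypic.trace_proj (Cfsg.permRep ℂ G Ω) ⟨χ, hχ⟩
    rw [hz, map_zero] at ht
    exact mul_ne_zero (CfsgLib.Chars.irr_degree_ne_zero hχ) hne ht.symm
  · intro h a b
    have := CfsgLib.Chars.irrFintype G
    have hmf : ∀ χ : Cfsg.IrrCharacter G, Cfsg.classInner (Cfsg.permRep ℂ G Ω).character χ = 0 ∨
        Cfsg.classInner (Cfsg.permRep ℂ G Ω).character χ = 1 := fun χ => by
      rw [← CfsgLib.Perm.Isotypic.inner_perm]
      exact or_iff_not_imp_left.2 fun h0 => (h χ χ.2 h0).1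
    have hM := CfsgLib.Perm.Isotypic.isInter_orbOp (G := G) a b
    choose c hc using fun χ => CfsgLib.Perm.Isotypic.scalar_on_part (Cfsg.permRep ℂ G Ω) χ (hmf χ) hM
    have hsum : ∀ x y, CfsgLib.Perm.Isotypic.entry (CfsgLib.Perm.Isotypic.orbOp G a b) x y =
        ∑ χ, c χ * CfsgLib.Perm.Isotypic.entry (CfsgLib.Perm.Isotypic.proj (Cfsg.permRep ℂ G Ω) χ) x y := fun x y => by
      show CfsgLib.Perm.Isotypic.orbOp G a b (Pi.single y 1) x = _
      conv_lhs => rw [← CfsgLib.Perm.Isotypic.sum_proj (Cfsg.permRep ℂ G Ω) (Pi.single y 1), map_sum]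
      rw [Finset.sum_apply]
      exact Finset.sum_congr rfl fun χ _ => by rw [hc χ]; rfl
    have hswap : CfsgLib.Perm.Isotypic.entry (CfsgLib.Perm.Isotypic.orbOp G a b) b a =
        CfsgLib.Perm.Isotypic.entry (CfsgLib.Perm.Isotypic.orbOp G a b) a b := by
      rw [hsum, hsum]
      refine Finset.sum_congr rfl fun χ _ => ?_
      rcases eq_or_ne (Cfsg.classInner (Cfsg.permRep ℂ G Ω).character χ) 0 with h0 | h0
      · rw [CfsgLib.Perm.Isotypic.proj_eq_zero h0]; rfl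
      · rw [CfsgLib.Perm.Isotypic.entry_proj_swap (χ' := χ)]
        exact fun g => ((h χ χ.2 (by rwa [CfsgLib.Perm.Isotypic.inner_perm])).2 g).symm
    rw [CfsgLib.Perm.Isotypic.entry_orbOp, CfsgLib.Perm.Isotypic.entry_orbOp,
      if_pos (show ∃ g : G, g • a = a ∧ g • b = b from ⟨1, one_smul _ _, one_smul _ _⟩)] at hswap
    by_contra hno
    rw [if_neg hno] at hswap
    exact zero_ne_one hswap

end Cfsg.Agent.S0717
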