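import Cfsg.Statements.S0722
import Mathlib

set_option autoImplicit false
open Cfsg

namespace Cfsg.Agent.S0722

/-- In a primitive group `H`, with `N` a minimal normal subgroup and `K` a point stabiliser, `K ⊓ N` is maximal among proper `K`-invariant subgroups of `N`. -/
theorem result {α : Type*} [Finite α] (H : Subgroup (Equiv.Perm α)) [MulAction.IsPreprimitive H α] (N : Subgroup H) [N.Normal] (hN : N ≠ ⊥) (hmin : ∀ M : Subgroup H, M.Normal → M ≤ N → M = ⊥ ∨ M = N) (a : α) (X : Subgroup H) (hX : X ≤ N) (hKX : MulAction.stabilizer H a ⊓ N ≤ X) (hinv : MulAction.stabilizer H a ≤ Subgroup.normalizer (X : Set H)) : X = MulAction.stabilizer H a ⊓ N ∨ X = N := by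
  classical
  have : Nontrivial α := by
    by_contra h
    rw [not_nontrivial_iff_subsingleton] at h
    exact hN ((Subgroup.eq_bot_iff_forall _).2 fun x _ =>
      Subtype.ext (Equiv.ext fun y => Subsingleton.elim _ _))
  let K := MulAction.stabilizer H a
  have hnle : ¬ N ≤ K := by
    intro hle
    refine hN ((Subgroup.eq_bot_iff_forall _).2 fun n hn => Subtype.ext (Equiv.ext fun y => ?_))
    obtain ⟨g, rfl⟩ := MulAction.exists_smul_eq H a y
    have := hle ((inferInstance : N.Normal).conj_mem n hn g⁻¹)
    rw [MulAction.mem_stabilizer_iff, inv_inv, mul_smul, mul_smul, inv_smul_eq_iff] at this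
    exact this
  rcases (MulAction.IsPreprimitive.isCoatom_stabilizer_of_isPreprimitive H a).le_iff.1
    (le_sup_right : K ≤ X ⊔ K) with h | h
  · right
    refine le_antisymm hX fun n hn => ?_
    have hn' : n ∈ X ⊔ K := by rw [h]; trivial
    rw [← SetLike.mem_coe, Subgroup.coe_mul_of_right_le_normalizer_left _ _ hinv] at hn'
    obtain ⟨x, hx, k, hk, rfl⟩ := hn'
    have hkN : k ∈ N := by
      have := N.mul_mem (N.inv_mem (hX hx)) hn
      rwa [inv_mul_cancel_left] at this
    exact X.mul_mem hx (hKX ⟨hk, hkN⟩)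
  · left
    exact le_antisymm (le_inf (h ▸ le_sup_left) hX) hKX

end Cfsg.Agent.S0722
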