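import Cfsg.Statements.S0723
import Cfsg.Agent.S0721
import Cfsg.Agent.S0722
import Cfsg.Agent.Lib.LocalEven.PowerSimple

set_option autoImplicit false
open Cfsg

namespace Cfsg.Agent.S0723

/-- The core of the O'Nan–Scott Theorem. Let `H` be a primitive permutation group on a finite set whose unique minimal normal subgroup `N` is non-abelian, and `K` a point stabiliser. Then there are a non-abelian simple group `T` and an isomorphism `N ≃* T^m` (`m ≥ 1`) under which `K ⊓ N` becomes either a product `∏ K_i` of proper subgroups `K_i < T`, or the set of functions constant on each block of a partition of the index set into blocks of one common size `k ≥ 2`. -/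
theorem result {α : Type*} [Finite α] (H : Subgroup (Equiv.Perm α)) [MulAction.IsPreprimitive H α] (N : Subgroup H) [N.Normal] (hN : N ≠ ⊥) (hmin : ∀ M : Subgroup H, M.Normal → M ≤ N → M = ⊥ ∨ M = N) (huniq : ∀ L : Subgroup H, L.Normal → L ≠ ⊥ → (∀ M : Subgroup H, M.Normal → M ≤ L → M = ⊥ ∨ M = L) → L = N) (hnab : ¬ IsMulCommutative N) (a : α) : ∃ (T : Type) (_ : Group T) (m : ℕ) (e : N ≃* (Fin m → T)), IsSimpleGroup T ∧ ¬ IsMulCommutative T ∧ 0 < m ∧ ((∃ K : Fin m → Subgroup T, (∀ i, K i ≠ ⊤) ∧ ∀ n : N, (n : H) ∈ MulAction.stabilizer H a ↔ ∀ i, e n i ∈ K i) ∨ (∃ (k : ℕ) (c : Fin m → Fin m), 2 ≤ k ∧ (∀ j : Fin m, Nat.card {i : Fin m // c i = j} = k ∨ Nat.card {i : Fin m // c i = j} = 0) ∧ ∀ n : N, (n : H) ∈ MulAction.stabilizer H a ↔ ∀ i j : Fin m, c i = c j → e n i = e n j)) := by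
  classical
  haveI : Nontrivial N := (Subgroup.nontrivial_iff_ne_bot N).2 hN
  obtain ⟨T, iT, m, hTs, hm, ⟨e⟩⟩ := Cfsg.Agent.S0721.result N hN hmin
  have hTna : ¬ IsMulCommutative T := fun h => hnab ⟨⟨fun x y => e.injective (by
    rw [map_mul, map_mul]; funext i; exact h.is_comm.comm _ _)⟩⟩
  set K := MulAction.stabilizer H a with hK
  -- `N` is not in the stabiliser
  have hNK : ¬ N ≤ K := by
    intro hle
    refine hN ((Subgroup.eq_bot_iff_forall _).2 fun n hn => Subtype.ext (Equiv.ext fun y => ?_))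
    obtain ⟨g, rfl⟩ := MulAction.exists_smul_eq H a y
    have h := hle ((inferInstance : N.Normal).conj_mem n hn g⁻¹)
    rw [hK, MulAction.mem_stabilizer_iff, inv_inv, mul_smul, mul_smul, inv_smul_eq_iff] at h
    exact h
  haveI : Nontrivial α := by
    by_contra h
    rw [not_nontrivial_iff_subsingleton] at h
    exact hNK fun n _ => Subsingleton.elim _ _
  have hsup : N ⊔ K = ⊤ :=
    ((MulAction.IsPreprimitive.isCoatom_stabilizer_of_isPreprimitive H a).le_iff.1
      (le_sup_right : K ≤ N ⊔ K)).resolve_right fun h => hNK (le_trans le_sup_left h.le)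
  let M : Subgroup (Fin m → T) := (K.subgroupOf N).map e.toMonoidHom
  have hM : ∀ n : N, e n ∈ M ↔ (n : H) ∈ K := fun n =>
    ⟨fun ⟨n', hn', he⟩ => e.injective he ▸ hn', fun h => ⟨n, h, rfl⟩⟩
  -- conjugation by a stabiliser element, as an automorphism of the power
  let φ : H → (Fin m → T) ≃* (Fin m → T) := fun k =>
    e.symm.trans ((MulAut.conjNormal k : MulAut N).trans e)
  have hφ : ∀ k (n : N), φ k (e n) = e (MulAut.conjNormal k n) := fun k n => by simp [φ]
  choose π hπ using fun k => CfsgLib.LocalEven.PowerSimple.auto_perm hTna (φ k)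
  have hMK : ∀ k ∈ K, ∀ f, φ k f ∈ M ↔ f ∈ M := by
    intro k hk f
    obtain ⟨n, rfl⟩ := e.surjective f
    rw [hφ, hM, hM, MulAut.conjNormal_apply]
    exact ⟨fun h => by simpa [mul_assoc] using K.mul_mem (K.mul_mem (K.inv_mem hk) h) hk,
      fun h => K.mul_mem (K.mul_mem hk h) (K.inv_mem hk)⟩
  -- only the empty and the full coordinate set are invariant
  have htrans : ∀ S : Set (Fin m), S.Nonempty → (∀ k ∈ K, ∀ i ∈ S, π k i ∈ S) → ∀ i, i ∈ S := by
    intro S ⟨i₀, hi₀⟩ hS i₁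
    by_contra hi₁
    obtain ⟨t, ht⟩ := exists_ne (1 : T)
    let W : Subgroup N :=
      { carrier := {n | ∀ i ∈ S, e n i = 1}
        one_mem' := fun i _ => by simp
        mul_mem' := fun {x y} hx hy i hi => by simp [hx i hi, hy i hi]
        inv_mem' := fun {x} hx i hi => by simp [hx i hi] }
    have hperm : ∀ k ∈ K, ∀ i ∈ S, (π k).symm i ∈ S := by
      intro k hk i hi
      have himg : (S.toFinset.map (π k).toEmbedding) = S.toFinset := by
        refine Finset.eq_of_subset_of_card_le ?_ (by simp)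
        intro x hx
        obtain ⟨y, hy, rfl⟩ := Finset.mem_map.1 hx
        exact Set.mem_toFinset.2 (hS k hk y (Set.mem_toFinset.1 hy))
      obtain ⟨y, hy, hyi⟩ := Finset.mem_map.1 (himg.symm ▸ Set.mem_toFinset.2 hi)
      rw [← hyi]
      simpa using hy
    have hWK : ∀ k ∈ K, ∀ n ∈ W, MulAut.conjNormal k n ∈ W := by
      intro k hk n hn i hi
      rw [← hφ, ← (π k).apply_symm_apply i, hπ]
      exact hn _ (hperm k hk i hi)
    have hWN : ∀ n' : N, ∀ n ∈ W, n' * n * n'⁻¹ ∈ W := fun n' n hn i hi => by simp [hn i hi]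
    have hnorm : (W.map N.subtype).Normal := by
      refine ⟨fun x hx g => ?_⟩
      obtain ⟨n, hn, rfl⟩ := hx
      have hg : g ∈ N ⊔ K := hsup ▸ Subgroup.mem_top g
      obtain ⟨u, hu, k, hk, rfl⟩ := Subgroup.mem_sup_of_normal_left.1 hg
      refine ⟨⟨u, hu⟩ * MulAut.conjNormal k n * (⟨u, hu⟩ : N)⁻¹, hWN _ _ (hWK k hk n hn), ?_⟩
      simp [MulAut.conjNormal_apply, mul_assoc]
    rcases hmin _ hnorm (Subgroup.map_subtype_le W) with h | h
    · rw [Subgroup.map_eq_bot_iff_of_injective _ N.subtype_injective] at h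
      have hmem : e.symm (Pi.mulSingle i₁ t) ∈ W := fun i hi => by
        rw [MulEquiv.apply_symm_apply]
        exact Pi.mulSingle_eq_of_ne (M := fun _ : Fin m => T) (fun hh : i = i₁ => hi₁ (hh ▸ hi)) t
      rw [h, Subgroup.mem_bot] at hmem
      have h2 : Pi.mulSingle (M := fun _ : Fin m => T) i₁ t = 1 := by
        rw [← e.apply_symm_apply (Pi.mulSingle i₁ t), hmem, map_one]
      exact ht (by simpa using congrFun h2 i₁)
    · obtain ⟨n, hn, hne⟩ := h.ge (e.symm (Pi.mulSingle i₀ t)).2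
      have h2 := hn i₀ hi₀
      rw [N.subtype_injective hne, MulEquiv.apply_symm_apply, Pi.mulSingle_eq_same] at h2
      exact ht h2
  let P : Fin m → Subgroup T := fun i => M.map (Pi.evalMonoidHom (fun _ => T) i)
  by_cases hP : ∀ i, P i ≠ ⊤
  · refine ⟨T, iT, m, e, hTs, hTna, hm, Or.inl ⟨P, hP, ?_⟩⟩
    let Y : Subgroup H := ((Subgroup.pi Set.univ P).comap e.toMonoidHom).map N.subtype
    have hY : ∀ n : N, (n : H) ∈ Y ↔ ∀ i, e n i ∈ P i := fun n =>
      ⟨fun ⟨n', hn', he⟩ i => N.subtype_injective he ▸ hn' i trivial,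
        fun h => ⟨n, fun i _ => h i, rfl⟩⟩
    have hKY : K ⊓ N ≤ Y := fun x hx => (hY ⟨x, hx.2⟩).2 fun i => ⟨_, (hM ⟨x, hx.2⟩).2 hx.1, rfl⟩
    have hle : ∀ k ∈ K, ∀ y ∈ Y, k * y * k⁻¹ ∈ Y := by
      rintro k hk y ⟨n, hn, rfl⟩
      refine (hY (MulAut.conjNormal k n)).2 fun j => ?_
      obtain ⟨f, hf, hfi⟩ := hn ((π k).symm j) trivial
      refine ⟨φ k f, (hMK k hk f).2 hf, ?_⟩
      show φ k f j = _
      rw [← hφ, ← mul_inv_eq_one, ← Pi.inv_apply, ← Pi.mul_apply, ← map_inv, ← map_mul,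
        ← (π k).apply_symm_apply j, hπ, Pi.mul_apply, Pi.inv_apply, mul_inv_eq_one]
      exact hfi
    have hinv : K ≤ Subgroup.normalizer (Y : Set H) := fun k hk =>
      Subgroup.mem_normalizer_iff.2 fun y => ⟨hle k hk y, fun hy => by
        simpa [mul_assoc] using hle k⁻¹ (K.inv_mem hk) _ hy⟩
    rcases Cfsg.Agent.S0722.result H N hN hmin a Y (Subgroup.map_subtype_le _) hKY hinv with h | h
    · intro n
      rw [← hY, h]
      exact ⟨fun hn => ⟨hn, n.2⟩, fun hn => hn.1⟩
    · exfalso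
      refine hP ⟨0, hm⟩ (eq_top_iff.2 fun t _ => ?_)
      have := (hY (e.symm fun _ => t)).1 (h.symm ▸ (e.symm fun _ => t).2) ⟨0, hm⟩
      simpa using this
  · obtain ⟨i₀, hi₀⟩ := not_forall.1 hP
    rw [not_not] at hi₀
    have honto : ∀ i t, ∃ y ∈ M, y i = t := by
      refine fun i => htrans {i | ∀ t, ∃ y ∈ M, y i = t} ⟨i₀, fun t => ?_⟩ (fun k hk j hj t => ?_) i
      · obtain ⟨y, hy, hyt⟩ : t ∈ P i₀ := hi₀ ▸ Subgroup.mem_top t
        exact ⟨y, hy, hyt⟩
      · obtain ⟨f, hf⟩ := (φ k).surjective (fun _ => t)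
        obtain ⟨y, hy, hyj⟩ := hj (f j)
        refine ⟨φ k y, (hMK k hk y).2 hy, ?_⟩
        have := (hπ k (y * f⁻¹) j).2 (by simp [hyj])
        simpa [hf, mul_inv_eq_one] using this
    obtain ⟨c, θ, hc, hdiag⟩ := CfsgLib.LocalEven.PowerSimple.exists_diagonal hTna honto
    let e' : N ≃* (Fin m → T) := e.trans (MulEquiv.piCongrRight fun i => (θ i).symm)
    have hstab : ∀ n : N, (n : H) ∈ K ↔ ∀ i j, c i = c j → e' n i = e' n j := fun n => by
      rw [← hM, hdiag]
      rfl
    have hlink : ∀ k ∈ K, ∀ i j, c i = c j → c (π k i) = c (π k j) := by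
      intro k hk i j h
      rw [hc] at h ⊢
      intro y hy
      obtain ⟨f, rfl⟩ := (φ k).surjective y
      rw [hπ, hπ]
      exact h f ((hMK k hk f).1 hy)
    let sz : Fin m → ℕ := fun i => (Finset.univ.filter fun j => c j = c i).card
    have hmono : ∀ k ∈ K, ∀ i, sz i ≤ sz (π k i) := fun k hk i =>
      Finset.card_le_card_of_injOn (π k)
        (fun j hj => by
          simp only [Finset.coe_filter, Finset.mem_univ, true_and, Set.mem_ofPred_eq] at hj ⊢
          exact hlink k hk j i hj)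
        (π k).injective.injOn
    obtain ⟨b, -, hb⟩ := Finset.exists_max_image Finset.univ sz ⟨⟨0, hm⟩, Finset.mem_univ _⟩
    have hsz : ∀ i, sz i = sz b :=
      htrans {i | sz i = sz b} ⟨b, rfl⟩ fun k hk i hi =>
        le_antisymm (hb _ (Finset.mem_univ _)) (hi ▸ hmono k hk i)
    refine ⟨T, iT, m, e', hTs, hTna, hm, Or.inr ⟨sz b, c, ?_, fun j => ?_, hstab⟩⟩
    · by_contra hk
      refine hNK fun x hx => (hstab ⟨x, hx⟩).2 fun i j h => ?_
      have h1 : sz i ≤ 1 := by rw [hsz]; omega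
      rw [Finset.card_le_one.1 h1 i (by simp) j (by simp [h])]
    · rw [Nat.card_eq_fintype_card, Fintype.card_subtype]
      by_cases hj : ∃ i, c i = j
      · obtain ⟨i, rfl⟩ := hj
        exact Or.inl (hsz i)
      · right
        simp only [Finset.card_eq_zero, Finset.filter_eq_empty_iff]
        exact fun i _ h => hj ⟨i, h⟩

end Cfsg.Agent.S0723
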