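import Cfsg.Statements.S0724
import Mathlib

set_option autoImplicit false
open Cfsg

namespace Cfsg.Agent.S0724

/-- Blichfeldt's Theorem: if a finite set `L` of natural numbers contains the number of fixed points of every non-identity element of a permutation group `G` of degree `n`, then the order of `G` divides `∏ (n - l)` over `l ∈ L`. -/
theorem result {α : Type*} [Fintype α] [DecidableEq α] (G : Subgroup (Equiv.Perm α)) (L : Finset ℕ) (hL : ∀ g ∈ G, g ≠ 1 → Nat.card (MulAction.fixedBy α g) ∈ L) : Nat.card G ∣ ∏ l ∈ L, (Fintype.card α - l) := by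
  classical
  by_cases hbig : ∃ l ∈ L, Fintype.card α ≤ l
  · obtain ⟨l, hl, hle⟩ := hbig
    rw [Finset.prod_eq_zero hl (Nat.sub_eq_zero_of_le hle)]
    exact dvd_zero _
  push Not at hbig
  let P : Polynomial ℤ := ∏ l ∈ L, (Polynomial.X - Polynomial.C (l : ℤ))
  let fx : G → ℤ := fun g => Nat.card (MulAction.fixedBy α g)
  have hpow : ∀ i : ℕ, (Nat.card G : ℤ) ∣ ∑ g : G, fx g ^ i := by
    intro i
    have hB := MulAction.sum_card_fixedBy_eq_card_orbits_mul_card_group G (Fin i → α)
    have hfix : ∀ g : G, Fintype.card (MulAction.fixedBy (Fin i → α) g)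
        = Nat.card (MulAction.fixedBy α g) ^ i := by
      intro g
      have e : MulAction.fixedBy (Fin i → α) g ≃ (Fin i → MulAction.fixedBy α g) :=
        { toFun := fun f j => ⟨f.1 j, congrFun f.2 j⟩
          invFun := fun f => ⟨fun j => (f j).1, funext fun j => (f j).2⟩
          left_inv := fun f => rfl
          right_inv := fun f => rfl }
      rw [← Nat.card_eq_fintype_card, Nat.card_congr e, Nat.card_fun, Nat.card_fin]
    simp only [hfix] at hB
    refine ⟨Fintype.card (MulAction.orbitRel.Quotient G (Fin i → α)), ?_⟩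
    simp only [fx]
    rw [Nat.card_eq_fintype_card (α := G)]
    exact_mod_cast hB.trans (mul_comm _ _)
  have hP : (Nat.card G : ℤ) ∣ ∑ g : G, P.eval (fx g) := by
    simp only [Polynomial.eval_eq_sum_range, Finset.sum_comm (s := (Finset.univ : Finset G))]
    refine Finset.dvd_sum fun i _ => ?_
    rw [← Finset.mul_sum]
    exact dvd_mul_of_dvd_right (hpow i) _
  have hone : ∑ g : G, P.eval (fx g) = P.eval (fx 1) := by
    refine Finset.sum_eq_single 1 (fun g _ hg => ?_) (fun h => absurd (Finset.mem_univ _) h)
    simp only [P, Polynomial.eval_prod, Polynomial.eval_sub, Polynomial.eval_X, Polynomial.eval_C]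
    refine Finset.prod_eq_zero (hL g g.2 (fun h => hg (Subtype.ext h))) ?_
    rw [sub_eq_zero]
    rfl
  have hfx1 : fx 1 = Fintype.card α := by
    have e : MulAction.fixedBy α (1 : G) = Set.univ := Set.eq_univ_of_forall fun a => one_smul G a
    simp only [fx]
    rw [e, Nat.card_univ, Nat.card_eq_fintype_card]
  rw [hone, hfx1] at hP
  simp only [P, Polynomial.eval_prod, Polynomial.eval_sub, Polynomial.eval_X, Polynomial.eval_C]
    at hP
  rw [← Int.natCast_dvd_natCast, Nat.cast_prod]
  rwa [Finset.prod_congr rfl (fun l hl => Nat.cast_sub (hbig l hl).le)]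

end Cfsg.Agent.S0724
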