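import Cfsg.Statements.S0726
import Mathlib

set_option autoImplicit false
open Cfsg

namespace Cfsg.Agent.S0726

/-- The left and right regular permutation representations of a group are each other's centralisers in the symmetric group: the centraliser of the left regular image is the right regular image, and a transitive subgroup centralising the left regular image is the whole right regular image. -/
theorem result {G : Type*} [Group G] : Subgroup.centralizer ((MulAction.toPermHom G G).range : Set (Equiv.Perm G)) = (MulAction.toPermHom Gᵐᵒᵖ G).range ∧ ∀ H : Subgroup (Equiv.Perm G), H ≤ Subgroup.centralizer ((MulAction.toPermHom G G).range : Set (Equiv.Perm G)) → MulAction.IsPretransitive H G → H = (MulAction.toPermHom Gᵐᵒᵖ G).range := by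
  have hcent : Subgroup.centralizer ((MulAction.toPermHom G G).range : Set (Equiv.Perm G)) =
      (MulAction.toPermHom Gᵐᵒᵖ G).range := by
    refine le_antisymm (fun c hc => ?_) ?_
    · refine ⟨MulOpposite.op (c 1), Equiv.ext fun x => ?_⟩
      have := Equiv.ext_iff.1 (Subgroup.mem_centralizer_iff.1 hc _ ⟨x, rfl⟩) 1
      simpa using this
    · rintro _ ⟨y, rfl⟩
      rw [Subgroup.mem_centralizer_iff]
      rintro _ ⟨g, rfl⟩
      exact Equiv.ext fun x => by simp [mul_assoc]
  refine ⟨hcent, fun H hH htr => le_antisymm (hcent ▸ hH) ?_⟩
  rintro _ ⟨y, rfl⟩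
  obtain ⟨⟨h, hh⟩, he⟩ := MulAction.exists_smul_eq H (1 : G) y.unop
  have hh' := hH hh
  rw [hcent] at hh'
  obtain ⟨z, hz⟩ := hh'
  have he' : h 1 = y.unop := he
  rw [← hz] at he'
  have hzy : z.unop = y.unop := by simpa using he'
  rwa [← MulOpposite.unop_injective hzy, hz]

end Cfsg.Agent.S0726
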