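import Cfsg.Statements.S0727
import Cfsg.Agent.Lib.Perm.ZassG.SharpPGLEven

set_option autoImplicit false
open Cfsg

namespace Cfsg.Agent.S0727

/-- A sharply triply transitive permutation group of degree `2^f + 1` is isomorphic to the projective general linear group of degree 2 over the field with `2^f` elements. -/
theorem result {α : Type*} [Fintype α] [DecidableEq α] {f : ℕ} (hf : 1 ≤ f) (hα : Fintype.card α = 2 ^ f + 1) (G : Subgroup (Equiv.Perm α)) (h3 : MulAction.IsMultiplyPretransitive G α 3) (hsharp : ∀ x : Fin 3 ↪ α, MulAction.stabilizer G x = ⊥) : ∃ (F : Type) (_ : Field F) (_ : Fintype F), Fintype.card F = 2 ^ f ∧ Nonempty (G ≃* Matrix.ProjGenLinGroup (Fin 2) F) := by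
  classical
  have hn : Nat.card α = 2 ^ f + 1 := by rw [Nat.card_eq_fintype_card, hα]
  have h2 : 2 ≤ 2 ^ f := Nat.le_self_pow (by omega) 2
  rcases eq_or_lt_of_le hf with rfl | hf2
  · exact ⟨ZMod 2, inferInstance, inferInstance, by simp,
      CfsgLib.Perm.ZassG.nonempty_pgl_of_three h3 hsharp (by rw [hn]; norm_num)⟩
  have h4 : 2 ^ 2 ≤ 2 ^ f := Nat.pow_le_pow_right (by omega) hf2
  have hZ := CfsgLib.Perm.ZassG.isZassenhausGroup_of_sharp3 h3 hsharp (by omega)
  obtain ⟨a, b, hab⟩ := Fintype.exists_pair_of_one_lt_card (α := α) (by omega)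
  have hcard := CfsgLib.Perm.ZassG.card_pairStab_of_sharp h3 hsharp hab (by omega)
  obtain ⟨K, hK, hK', hq, hiso⟩ := CfsgLib.Perm.ZassG.exists_pgl_of_odd hZ hab hcard
    (by rw [hn]; exact ((Nat.even_pow.2 ⟨even_two, by omega⟩).add_one))
  exact ⟨K, hK, hK', by rw [Nat.card_eq_fintype_card] at hq; omega, hiso⟩

end Cfsg.Agent.S0727
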