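import Cfsg.Statements.S0728
import Cfsg.Agent.Lib.Perm.ZassG.SharpPerm
import Cfsg.Agent.Lib.Perm.ZassG.SharpEven

set_option autoImplicit false
open Cfsg

namespace Cfsg.Agent.S0728

/-- In a sharply triply transitive group of even degree at least 6 (degree `q + 1`, `q` odd), a two-point stabiliser has at most one subgroup of order 3. -/
theorem result {α : Type*} [Fintype α] [DecidableEq α] (heven : Even (Fintype.card α)) (h6 : 6 ≤ Fintype.card α) (G : Subgroup (Equiv.Perm α)) (h3 : MulAction.IsMultiplyPretransitive G α 3) (hsharp : ∀ x : Fin 3 ↪ α, MulAction.stabilizer G x = ⊥) {a b : α} (hab : a ≠ b) (A B : Subgroup G) (hA : A ≤ MulAction.stabilizer G a ⊓ MulAction.stabilizer G b) (hB : B ≤ MulAction.stabilizer G a ⊓ MulAction.stabilizer G b) (hA3 : Nat.card A = 3) (hB3 : Nat.card B = 3) : A = B := by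
  classical
  have hα : Nat.card α = Fintype.card α := Nat.card_eq_fintype_card
  have hZ := CfsgLib.Perm.ZassG.isZassenhausGroup_of_sharp3 h3 hsharp (by obtain ⟨k, hk⟩ := heven; omega)
  have hcard := CfsgLib.Perm.ZassG.card_pairStab_of_sharp h3 hsharp hab (by omega)
  have : Fact (Nat.Prime 3) := ⟨Nat.prime_three⟩
  have key : ∀ (C : Subgroup G), Nat.card C = 3 → ∀ x ∈ C, x ≠ 1 → orderOf x = 3 := fun C hC x hx hx1 =>
    orderOf_eq_prime (by rw [← hC]; exact congrArg Subtype.val (pow_card_eq_one' (x := (⟨x, hx⟩ : C)))) hx1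
  obtain ⟨x, hx, hx1⟩ := (Subgroup.bot_or_exists_ne_one A).resolve_left fun h => by simp [h] at hA3
  refine Subgroup.eq_of_le_of_card_ge ?_ (by omega) |>.symm
  intro y hy
  rcases eq_or_ne y 1 with rfl | hy1
  · exact A.one_mem
  have ho := key A hA3 x hx hx1
  have hne : x ≠ x * x := fun h => hx1 (mul_eq_left.1 h.symm)
  have hxx1 : x * x ≠ 1 := fun h => by
    have := orderOf_dvd_of_pow_eq_one (x := x) (n := 2) (by rw [pow_two, h])
    rw [ho] at this
    omega
  rcases CfsgLib.Perm.ZassG.eq_of_order_three hZ hab hcard (hA hx) (hA (mul_mem hx hx)) (hB hy) ho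
    (key A hA3 _ (mul_mem hx hx) hxx1) (key B hB3 y hy hy1) with h | h | h
  · exact absurd h hne
  · exact h ▸ hx
  · exact h ▸ mul_mem hx hx

end Cfsg.Agent.S0728
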