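import Cfsg.Statements.S0729
import Cfsg.Agent.Lib.Perm.ZassG.SharpPerm
import Cfsg.Agent.Lib.Perm.ZassG.SharpEven

set_option autoImplicit false
open Cfsg

namespace Cfsg.Agent.S0729

/-- In a sharply triply transitive group of even degree at least 6, the two-point stabiliser `H = G_{a,b}` has a normal subgroup of index 2 that is normalised by the element `s` interchanging `a, b` and fixing a third point `c`. -/
theorem result {α : Type*} [Fintype α] [DecidableEq α] (heven : Even (Fintype.card α)) (h6 : 6 ≤ Fintype.card α) (G : Subgroup (Equiv.Perm α)) (h3 : MulAction.IsMultiplyPretransitive G α 3) (hsharp : ∀ x : Fin 3 ↪ α, MulAction.stabilizer G x = ⊥) {a b c : α} (hab : a ≠ b) (hac : a ≠ c) (hbc : b ≠ c) (s : G) (hsa : s • a = b) (hsb : s • b = a) (hsc : s • c = c) : ∃ N : Subgroup G, N ≤ MulAction.stabilizer G a ⊓ MulAction.stabilizer G b ∧ (N.subgroupOf (MulAction.stabilizer G a ⊓ MulAction.stabilizer G b)).Normal ∧ N.relIndex (MulAction.stabilizer G a ⊓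 MulAction.stabilizer G b) = 2 ∧ ∀ n ∈ N, s * n * s⁻¹ ∈ N := by
  classical
  have hα : Nat.card α = Fintype.card α := Nat.card_eq_fintype_card
  have hZ := CfsgLib.Perm.ZassG.isZassenhausGroup_of_sharp3 h3 hsharp (by obtain ⟨k, hk⟩ := heven; omega)
  have hcard := CfsgLib.Perm.ZassG.card_pairStab_of_sharp h3 hsharp hab (by omega)
  have he : 2 ∣ Nat.card ↥(CfsgLib.Perm.ZassG.pairStab G a b) := by
    obtain ⟨k, hk⟩ := heven
    omega
  have hs : s * s = 1 := CfsgLib.Perm.ZassG.eq_one_of_three hZ hab hbc hac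
    (by rw [mul_smul, hsa, hsb]) (by rw [mul_smul, hsb, hsa]) (by rw [mul_smul, hsc, hsc])
  obtain ⟨μ, ⟨x₀, hx₀⟩, hμ⟩ := CfsgLib.Perm.ZassG.exists_invariant_hom hZ hab hcard he hsa hsb hs
  refine ⟨μ.ker.map (CfsgLib.Perm.ZassG.pairStab G a b).subtype, Subgroup.map_subtype_le _, ?_, ?_, ?_⟩
  · show ((μ.ker.map (CfsgLib.Perm.ZassG.pairStab G a b).subtype).subgroupOf _).Normal
    rw [Subgroup.subgroupOf, Subgroup.comap_map_eq_self_of_injective Subtype.val_injective]
    infer_instance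
  · show (μ.ker.map (CfsgLib.Perm.ZassG.pairStab G a b).subtype).relIndex (CfsgLib.Perm.ZassG.pairStab G a b) = 2
    rw [Subgroup.relIndex, Subgroup.subgroupOf, Subgroup.comap_map_eq_self_of_injective Subtype.val_injective,
      Subgroup.index_ker, MonoidHom.range_eq_top.2 ?_, Subgroup.card_top, Nat.card_eq_fintype_card]
    · rfl
    · intro u
      rcases Int.units_eq_one_or u with rfl | rfl
      · exact ⟨1, map_one μ⟩
      · exact ⟨x₀, (Int.units_eq_one_or _).resolve_left hx₀⟩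
  · rintro _ ⟨x, hx, rfl⟩
    have hm : s * (x : G) * s⁻¹ ∈ CfsgLib.Perm.ZassG.pairStab G a b := by
      have h := CfsgLib.Perm.ZassG.conj_mem_pairStab hZ hsa hsb x.2
      rwa [CfsgLib.Perm.ZassG.pairStab_comm] at h
    exact ⟨⟨_, hm⟩, (hμ x ⟨_, hm⟩ rfl).trans hx, rfl⟩

end Cfsg.Agent.S0729
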