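import Cfsg.Statements.S0730
import Cfsg.Agent.Lib.Perm.ZassG.SharpPGLOdd

set_option autoImplicit false
open Cfsg

namespace Cfsg.Agent.S0730

/-- A sharply triply transitive group of degree `p^f + 1`, `p` an odd prime and `f` odd, is isomorphic to the projective general linear group of degree 2 over the field with `p^f` elements (for even `f` there is a second, twisted, group). -/
theorem result {α : Type*} [Fintype α] [DecidableEq α] {p f : ℕ} (hp : p.Prime) (hp2 : p ≠ 2) (hfo : Odd f) (hα : Fintype.card α = p ^ f + 1) (G : Subgroup (Equiv.Perm α)) (h3 : MulAction.IsMultiplyPretransitive G α 3) (hsharp : ∀ x : Fin 3 ↪ α, MulAction.stabilizer G x = ⊥) : ∃ (F : Type) (_ : Field F) (_ : Fintype F), Fintype.card F = p ^ f ∧ Nonempty (G ≃* Matrix.ProjGenLinGroup (Fin 2) F) := by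
  classical
  have hn : Nat.card α = p ^ f + 1 := by rw [Nat.card_eq_fintype_card, hα]
  have hpo : Odd (p ^ f) := (hp.odd_of_ne_two hp2).pow
  have hf : 1 ≤ f := by obtain ⟨k, hk⟩ := hfo; omega
  have hp3 : 3 ≤ p := by have := hp.two_le; omega
  have hq : p ≤ p ^ f := Nat.le_self_pow (by omega) p
  by_cases h4 : p ^ f = 3
  · have : Fact (Nat.Prime 3) := ⟨Nat.prime_three⟩
    exact ⟨ZMod 3, inferInstance, inferInstance, by rw [ZMod.card, h4],
      CfsgLib.Perm.ZassG.nonempty_pgl_of_four h3 hsharp (by rw [hn, h4])⟩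
  have hZ := CfsgLib.Perm.ZassG.isZassenhausGroup_of_sharp3 h3 hsharp (by obtain ⟨k, hk⟩ := hpo; omega)
  obtain ⟨a, b, hab⟩ := Fintype.exists_pair_of_one_lt_card (α := α) (by omega)
  have hcard := CfsgLib.Perm.ZassG.card_pairStab_of_sharp h3 hsharp hab (by omega)
  have he : 2 ∣ Nat.card ↥(CfsgLib.Perm.ZassG.pairStab G a b) := by obtain ⟨k, hk⟩ := hpo; omega
  have hsq : ¬ IsSquare (Nat.card α - 1) := by
    rintro ⟨m, hm⟩
    rw [hn, Nat.add_sub_cancel] at hm
    obtain ⟨k, -, rfl⟩ := (Nat.dvd_prime_pow hp).1 (Dvd.intro m hm.symm)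
    rw [← pow_add] at hm
    obtain ⟨j, hj⟩ := hfo
    have := Nat.pow_right_injective hp.two_le hm
    omega
  obtain ⟨K, hK, hK', hq', hiso⟩ := CfsgLib.Perm.ZassG.exists_pgl_of_even hZ hab hcard he hsq
  exact ⟨K, hK, hK', by rw [Nat.card_eq_fintype_card] at hq'; omega, hiso⟩

end Cfsg.Agent.S0730
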