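import Cfsg.Statements.S0732
import Cfsg.Agent.Lib.Perm.DegreePrimeSuccAffine

set_option autoImplicit false
open Cfsg

namespace Cfsg.Agent.S0732

/-- A transitive permutation group on `p + 1` points (`p` prime) of order `(p+1) p d` with `d < p` is isomorphic to `PGL(2,p)` with `d = p - 1`, or to `PSL(2,p)` with `2d = p - 1`, or else `p + 1 = 2^q` for a prime `q`, `d = 1` or `d = q`, and the group is permutation-isomorphic to a group of semi-affine maps `x ↦ a φ(x) + b` of the field with `2^q` elements. -/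
theorem result {α : Type*} [Fintype α] [DecidableEq α] {p d : ℕ} (hp : p.Prime) (hα : Fintype.card α = p + 1) (G : Subgroup (Equiv.Perm α)) [MulAction.IsPretransitive G α] (hG : Nat.card G = (p + 1) * p * d) (hd : d < p) : (d = p - 1 ∧ Nonempty (G ≃* Matrix.ProjGenLinGroup (Fin 2) (ZMod p))) ∨ (2 * d = p - 1 ∧ Nonempty (G ≃* Matrix.ProjectiveSpecialLinearGroup (Fin 2) (ZMod p))) ∨ (∃ q : ℕ, q.Prime ∧ p + 1 = 2 ^ q ∧ (d = 1 ∨ d = q) ∧ ∃ e : α ≃ GaloisField 2 q, ∀ g : G, (e.symm.trans (((g : Equiv.Perm α)).trans e)) ∈ Cfsg.semiaffineGroup (GaloisField 2 q)) := by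
  classical
  have := Fact.mk hp
  have hn : Nat.card α = p + 1 := by rw [Nat.card_eq_fintype_card, hα]
  have hd0 : 0 < d := Nat.pos_of_ne_zero fun h => by
    rw [h, mul_zero] at hG; exact Nat.card_pos.ne' hG
  have hp1 := hp.two_le
  by_cases hp2 : p = 2
  · subst hp2
    have hd1 : d = 1 := by omega
    subst hd1
    left
    have h3 : MulAction.IsMultiplyPretransitive G α 3 := by
      have htop : G = ⊤ := Subgroup.eq_top_of_card_eq G (by
        rw [hG, Nat.card_perm, hn]; rfl)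
      subst htop
      rw [MulAction.isMultiplyPretransitive_iff]
      intro x y
      let ex : Fin 3 ≃ α := Equiv.ofBijective x
        ((Fintype.bijective_iff_injective_and_card x).2 ⟨x.injective, by rw [Fintype.card_fin, hα]⟩)
      let ey : Fin 3 ≃ α := Equiv.ofBijective y
        ((Fintype.bijective_iff_injective_and_card y).2 ⟨y.injective, by rw [Fintype.card_fin, hα]⟩)
      refine ⟨⟨ex.symm.trans ey, Subgroup.mem_top _⟩, ?_⟩
      ext i
      show ey (ex.symm (x i)) = y i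
      rw [show x i = ex i from rfl, ex.symm_apply_apply]
      rfl
    refine ⟨rfl, CfsgLib.Perm.ZassG.nonempty_pgl_of_three h3 (fun t => ?_) hn⟩
    rw [Subgroup.eq_bot_iff_forall]
    intro g hg
    refine eq_of_smul_eq_smul (α := α) fun c => ?_
    obtain ⟨i, rfl⟩ := ((Fintype.bijective_iff_injective_and_card t).2 ⟨t.injective, by rw [Fintype.card_fin, hα]⟩).2 c
    rw [one_smul]
    exact DFunLike.congr_fun (MulAction.mem_stabilizer_iff.1 hg) i
  have aff : ∀ M : Subgroup G, M.Normal → MulAction.IsPretransitive M α → (∀ x : α, MulAction.stabilizer M x = ⊥) →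
      (∃ q : ℕ, q.Prime ∧ p + 1 = 2 ^ q ∧ (d = 1 ∨ d = q) ∧ ∃ e : α ≃ GaloisField 2 q, ∀ g : G,
        (e.symm.trans (((g : Equiv.Perm α)).trans e)) ∈ Cfsg.semiaffineGroup (GaloisField 2 q)) := by
    intro M hM hMt hMr
    obtain ⟨q, hq, hpq, hdq, e, he⟩ := CfsgLib.Perm.semiaffine_of_regular_normal hp hn hG hd hp2 M hMr
    exact ⟨q, hq, hpq, hdq, e, fun g => he g⟩
  obtain ⟨a, b, hab⟩ := Fintype.exists_pair_of_one_lt_card (α := α) (by omega)
  have hpair := CfsgLib.Perm.card_pair_succ hp hn hG hd hab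
  by_cases hd1 : d = 1
  · have hS : CfsgLib.Perm.IsSharpTwo G := by
      refine ⟨CfsgLib.Perm.two_pretransitive_succ hp hn hG hd, fun x => ?_, by omega⟩
      have hc := CfsgLib.Perm.card_pair_succ hp hn hG hd (x.injective.ne (show (0 : Fin 2) ≠ 1 by decide))
      rw [hd1, Subgroup.card_eq_one] at hc
      rw [eq_bot_iff, ← hc]
      intro g hg
      exact ⟨DFunLike.congr_fun (MulAction.mem_stabilizer_iff.1 hg) 0,
        DFunLike.congr_fun (MulAction.mem_stabilizer_iff.1 hg) 1⟩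
    obtain ⟨-, -, K, -, -, -, hK, -, -, -, -, hKt, hKs⟩ := hS.exists_kernel
    exact Or.inr (Or.inr (aff K hK hKt hKs))
  rcases CfsgLib.Perm.zassenhaus_or_regular_normal hp hn hG hd (by omega) with hZ | ⟨M, hM, hMt, hMr⟩
  swap
  · exact Or.inr (Or.inr (aff M hM hMt hMr))
  obtain ⟨F, hF⟩ := CfsgLib.Perm.ZassG.exists_kernel hZ hab
  have hFn := hF.card_add_one hab
  have hFp : Nat.card F = p := by omega
  have hcomm : ∀ u v : F, u * v = v * u :=
    (isCyclic_of_prime_card hFp).isMulCommutative.is_comm.comm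
  rcases CfsgLib.Perm.ZassG.card_cases hZ hab hF hcomm with h | h
  · have hodd := hp.odd_of_ne_two hp2
    have he : 2 ∣ Nat.card ↥(CfsgLib.Perm.ZassG.pairStab G a b) := by
      obtain ⟨k, hk⟩ := hodd; omega
    have hsq : ¬ IsSquare (Nat.card α - 1) := by
      rw [hn, Nat.add_sub_cancel]; exact hp.not_isSquare
    obtain ⟨K, hK, hK', hq, ⟨i⟩⟩ := CfsgLib.Perm.ZassG.exists_pgl_of_even hZ hab (by omega) he hsq
    obtain ⟨j⟩ := CfsgLib.PSL2.nonempty_pgl_congr (n := Fin 2) (FiniteField.ringEquivOfCardEq (K := K) (K' := ZMod p)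
      (by rw [ZMod.card, ← Nat.card_eq_fintype_card]; omega))
    exact Or.inl ⟨by omega, ⟨i.trans j⟩⟩
  · obtain ⟨K, hK, hK', -, hq, ⟨i⟩⟩ := CfsgLib.Perm.ZassG.exists_psl hZ hab hF h
    obtain ⟨j⟩ := CfsgLib.PSL2.nonempty_psl_congr (n := Fin 2) (FiniteField.ringEquivOfCardEq (K := K) (K' := ZMod p)
      (by rw [ZMod.card, ← Nat.card_eq_fintype_card, hq, hFp]))
    exact Or.inr (Or.inl ⟨by omega, ⟨i.trans j⟩⟩)

end Cfsg.Agent.S0732
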