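import Cfsg.Statements.S0733
import Mathlib

set_option autoImplicit false
open Cfsg
open scoped Pointwise

namespace Cfsg.Agent.S0733

/-- A permutation group of affine type — generated by the translations of a finite vector space `V` over `ZMod p` together with a group `G₀` of linear automorphisms — is primitive on `V` if and only if `G₀` is irreducible on `V`. -/
theorem result {p : ℕ} [Fact p.Prime] {V : Type*} [AddCommGroup V] [Module (ZMod p) V] [Finite V] [Nontrivial V] (G₀ : Subgroup (V ≃ₗ[ZMod p] V)) (G : Subgroup (Equiv.Perm V)) (hG : ∀ σ : Equiv.Perm V, σ ∈ G ↔ ∃ g ∈ G₀, ∃ b : V, ∀ x : V, σ x = (g : V ≃ₗ[ZMod p] V) x + b) : MulAction.IsPreprimitive G V ↔ ∀ W : Submodule (ZMod p) V, (∀ g ∈ G₀, ∀ v ∈ W, (g : V ≃ₗ[ZMod p] V) v ∈ W) → W = ⊥ ∨ W = ⊤ := by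
  classical
  have hT : ∀ b : V, Equiv.addRight b ∈ G := fun b => (hG _).2 ⟨1, G₀.one_mem, b, fun x => rfl⟩
  have : MulAction.IsPretransitive G V := ⟨fun x y => ⟨⟨Equiv.addRight (y - x), hT _⟩, by
    change x + (y - x) = y
    abel⟩⟩
  constructor
  · intro hprim W hW
    have hblock : MulAction.IsBlock G (W : Set V) := by
      rw [MulAction.isBlock_iff_smul_eq_of_nonempty]
      rintro ⟨σ, hσ⟩ ⟨y, hy1, hy2⟩
      obtain ⟨g, hg, b, hgb⟩ := (hG σ).1 hσ
      obtain ⟨x, hx, rfl⟩ := hy1
      have hb : b ∈ W := by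
        have hy2' : σ x ∈ W := hy2
        rw [hgb] at hy2'
        simpa using W.sub_mem hy2' (hW g hg x hx)
      have hsub : (⟨σ, hσ⟩ : G) • (W : Set V) ⊆ W := by
        rintro _ ⟨u, hu, rfl⟩
        change σ u ∈ W
        rw [hgb]
        exact W.add_mem (hW g hg u hu) hb
      refine Set.eq_of_subset_of_ncard_le hsub ?_ (Set.toFinite _)
      rw [Set.ncard_smul_set]
    rcases MulAction.IsPreprimitive.isTrivialBlock_of_isBlock hblock with h | h
    · left
      rw [eq_bot_iff]
      intro x hx
      exact h hx W.zero_mem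
    · right
      rw [eq_top_iff]
      intro x _
      have : x ∈ (W : Set V) := by rw [h]; trivial
      exact this
  · intro hirr
    refine MulAction.IsPreprimitive.of_isTrivialBlock_base (a := (0 : V)) fun {B} h0 hB => ?_
    have hadd : ∀ x ∈ B, ∀ y ∈ B, x + y ∈ B := by
      intro x hx y hy
      rw [← MulAction.isBlock_iff_smul_eq_of_mem.1 hB (g := (⟨Equiv.addRight y, hT y⟩ : G)) h0
        (by change (0 : V) + y ∈ B; rwa [zero_add])]
      exact ⟨x, hx, rfl⟩
    have hnsmul : ∀ (n : ℕ) x, x ∈ B → n • x ∈ B := fun n x hx => by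
      induction n with
      | zero => simpa using h0
      | succ n ih => rw [succ_nsmul]; exact hadd _ ih _ hx
    let W : Submodule (ZMod p) V :=
      { carrier := B
        add_mem' := fun {x y} hx hy => hadd x hx y hy
        zero_mem' := h0
        smul_mem' := fun c x hx => by
          have : c • x = c.val • x := by
            rw [← Nat.cast_smul_eq_nsmul (ZMod p), ZMod.natCast_zmod_val]
          rw [this]
          exact hnsmul _ x hx }
    have hW : ∀ g ∈ G₀, ∀ v ∈ W, (g : V ≃ₗ[ZMod p] V) v ∈ W := by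
      intro g hg v hv
      have hmem : g.toEquiv ∈ G := (hG _).2 ⟨g, hg, 0, fun x => (add_zero _).symm⟩
      change g v ∈ B
      rw [← MulAction.isBlock_iff_smul_eq_of_mem.1 hB (g := (⟨g.toEquiv, hmem⟩ : G)) h0
        (by change g 0 ∈ B; rwa [map_zero])]
      exact ⟨v, hv, rfl⟩
    rcases hirr W hW with h | h
    · left
      intro x hx y hy
      have hx' : x ∈ W := hx
      have hy' : y ∈ W := hy
      rw [h, Submodule.mem_bot] at hx' hy'
      rw [hx', hy']
    · right
      ext x
      simp only [Set.mem_univ, iff_true]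
      have : x ∈ W := by rw [h]; trivial
      exact this

end Cfsg.Agent.S0733
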