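import Cfsg.Statements.S0734
import Mathlib

set_option autoImplicit false
open Cfsg
open scoped Pointwise

namespace Cfsg.Agent.S0734

/-- Higman's criterion for primitivity: a transitive action on a finite set is primitive if and only if every non-trivial orbital graph (edges = images of a fixed pair of distinct points) is connected. -/
theorem result {G : Type*} [Group G] {Ω : Type*} [Finite Ω] [MulAction G Ω] [MulAction.IsPretransitive G Ω] [Nontrivial Ω] : MulAction.IsPreprimitive G Ω ↔ ∀ a b : Ω, a ≠ b → (SimpleGraph.fromRel fun x y : Ω => ∃ g : G, g • a = x ∧ g • b = y).Connected := by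
  classical
  constructor
  · intro hprim a b hab
    set Γ := SimpleGraph.fromRel fun x y : Ω => ∃ g : G, g • a = x ∧ g • b = y with hΓ
    have hadj : ∀ (g : G) {x y : Ω}, Γ.Adj x y → Γ.Adj (g • x) (g • y) := by
      intro g x y h
      simp only [hΓ, SimpleGraph.fromRel_adj] at h ⊢
      refine ⟨(MulAction.injective g).ne h.1, h.2.imp ?_ ?_⟩ <;>
        rintro ⟨k, rfl, rfl⟩ <;> exact ⟨g * k, mul_smul _ _ _, mul_smul _ _ _⟩
    have hreach : ∀ (g : G) {x y : Ω}, Γ.Reachable x y → Γ.Reachable (g • x) (g • y) := by
      intro g x y h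
      exact h.map (⟨fun x => g • x, fun h => hadj g h⟩ : Γ →g Γ)
    have hblock : MulAction.IsBlock G {x | Γ.Reachable a x} := by
      rw [MulAction.isBlock_iff_smul_eq_of_nonempty]
      rintro g ⟨z, hz1, hz2⟩
      obtain ⟨u, hu, rfl⟩ := hz1
      simp only [Set.mem_ofPred_eq] at hu hz2
      have hga : Γ.Reachable a (g • a) := hz2.trans (hreach g hu.symm)
      ext x
      rw [Set.mem_smul_set_iff_inv_smul_mem]
      simp only [Set.mem_ofPred_eq]
      constructor
      · intro h
        have := hreach g h
        rw [smul_inv_smul] at this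
        exact hga.trans this
      · intro h
        have := hreach g⁻¹ (hga.symm.trans h)
        rwa [inv_smul_smul] at this
    have hne : Γ.Adj a b := by
      simp only [hΓ, SimpleGraph.fromRel_adj]
      exact ⟨hab, Or.inl ⟨1, one_smul _ _, one_smul _ _⟩⟩
    rcases MulAction.IsPreprimitive.isTrivialBlock_of_isBlock hblock with h | h
    · exact absurd (h (x := a) (SimpleGraph.Reachable.refl a) (y := b) hne.reachable) hab
    · have : ∀ x, Γ.Reachable a x := fun x => by
        have hx : x ∈ {x | Γ.Reachable a x} := by rw [h]; trivial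
        exact hx
      exact SimpleGraph.connected_iff_exists_forall_reachable Γ |>.2 ⟨a, this⟩
  · intro hconn
    refine MulAction.IsPreprimitive.mk fun {B} hB => ?_
    rw [MulAction.IsTrivialBlock, or_iff_not_imp_left, Set.not_subsingleton_iff]
    rintro ⟨a, ha, b, hb, hab⟩
    rw [Set.eq_univ_iff_forall]
    intro x
    have key : ∀ u v, u ∈ B →
        (SimpleGraph.fromRel fun x y : Ω => ∃ g : G, g • a = x ∧ g • b = y).Walk u v → v ∈ B := by
      intro u v hu w
      induction w with
      | nil => exact hu
      | cons hadj _ ih =>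
        apply ih
        simp only [SimpleGraph.fromRel_adj] at hadj
        rcases hadj.2 with ⟨g, rfl, rfl⟩ | ⟨g, rfl, rfl⟩
        · rw [← MulAction.isBlock_iff_smul_eq_of_mem.1 hB ha hu]
          exact Set.smul_mem_smul_set hb
        · rw [← MulAction.isBlock_iff_smul_eq_of_mem.1 hB hb hu]
          exact Set.smul_mem_smul_set ha
    obtain ⟨w⟩ := (hconn a b hab).preconnected a x
    exact key a x ha w

end Cfsg.Agent.S0734
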