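import Cfsg.Statements.S0735
import Mathlib

set_option autoImplicit false
open Cfsg
open scoped Pointwise

namespace Cfsg.Agent.S0735

/-- A 2-homogeneous permutation group (transitive on 2-subsets) of even order is doubly transitive; a non-trivial 2-homogeneous group is primitive. -/
theorem result {α : Type*} [Fintype α] [DecidableEq α] (G : Subgroup (Equiv.Perm α)) (h2 : MulAction.IsPretransitive G (Set.powersetCard α 2)) (hα : 3 ≤ Fintype.card α) : (Even (Nat.card G) → MulAction.IsMultiplyPretransitive G α 2) ∧ (G ≠ ⊥ → MulAction.IsPreprimitive G α) := by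
  classical
  have hpair : ∀ a b c d : α, a ≠ b → c ≠ d → ∃ g : G, (g • a = c ∧ g • b = d) ∨ (g • a = d ∧ g • b = c) := by
    intro a b c d hab hcd
    obtain ⟨g, hg⟩ := h2.exists_smul_eq ⟨{a, b}, Finset.card_pair hab⟩ ⟨{c, d}, Finset.card_pair hcd⟩
    have hg' : g • ({a, b} : Finset α) = {c, d} := congrArg Subtype.val hg
    have h1 : g • a ∈ ({c, d} : Finset α) := by rw [← hg', Finset.smul_mem_smul_finset_iff]; simp
    have h1' : g • b ∈ ({c, d} : Finset α) := by rw [← hg', Finset.smul_mem_smul_finset_iff]; simp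
    have hne : g • a ≠ g • b := (MulAction.injective g).ne hab
    simp only [Finset.mem_insert, Finset.mem_singleton] at h1 h1'
    refine ⟨g, ?_⟩
    rcases h1 with h1 | h1 <;> rcases h1' with h1' | h1'
    · exact absurd (h1.trans h1'.symm) hne
    · exact Or.inl ⟨h1, h1'⟩
    · exact Or.inr ⟨h1, h1'⟩
    · exact absurd (h1.trans h1'.symm) hne
  refine ⟨fun heven => ?_, fun _ => ?_⟩
  · obtain ⟨t, ht⟩ := exists_prime_orderOf_dvd_card' (G := G) 2 (even_iff_two_dvd.1 heven)
    have htt : t * t = 1 := by rw [← pow_two, ← ht, pow_orderOf_eq_one]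
    obtain ⟨c, hc⟩ : ∃ c : α, t • c ≠ c := by
      by_contra! hall
      have h1 : t = 1 := Subtype.ext (Equiv.ext fun x => hall x)
      rw [h1, orderOf_one] at ht
      omega
    have hswap : ∀ a b : α, a ≠ b → ∃ s : G, s • a = b ∧ s • b = a := by
      intro a b hab
      obtain ⟨g, hg⟩ := hpair c (t • c) a b (Ne.symm hc) hab
      have e1 : (g * t * g⁻¹) • g • c = g • t • c := by simp [mul_smul]
      have e2 : (g * t * g⁻¹) • g • t • c = g • c := by
        simp only [mul_smul, inv_smul_smul]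
        rw [← mul_smul t t, htt, one_smul]
      refine ⟨g * t * g⁻¹, ?_⟩
      rcases hg with ⟨h1, h1'⟩ | ⟨h1, h1'⟩
      · rw [h1', h1] at e1 e2; exact ⟨e1, e2⟩
      · rw [h1', h1] at e1 e2; exact ⟨e2, e1⟩
    rw [MulAction.is_two_pretransitive_iff]
    intro a b c' d hab hcd
    obtain ⟨g, hg | hg⟩ := hpair a b c' d hab hcd
    · exact ⟨g, hg⟩
    · obtain ⟨s, hs1, hs2⟩ := hswap c' d hcd
      exact ⟨s * g, by rw [mul_smul, hg.1, hs2], by rw [mul_smul, hg.2, hs1]⟩
  · have hthird : ∀ a b : α, ∃ c, c ≠ a ∧ c ≠ b := by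
      intro a b
      by_contra! hcon
      have hsub : (Finset.univ : Finset α) ⊆ {a, b} := fun x _ => by
        by_cases hxa : x = a
        · simp [hxa]
        · simp [hcon x hxa]
      have := (Finset.card_le_card hsub).trans Finset.card_le_two
      rw [Finset.card_univ] at this
      omega
    have : MulAction.IsPretransitive G α := by
      constructor
      intro a b
      by_cases hab : a = b
      · exact ⟨1, by rw [one_smul, hab]⟩
      obtain ⟨c, hca, hcb⟩ := hthird a b
      obtain ⟨g, hg | hg⟩ := hpair a c b c (Ne.symm hca) (Ne.symm hcb)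
      · exact ⟨g, hg.1⟩
      · exact ⟨g * g, by rw [mul_smul, hg.1, hg.2]⟩
    refine MulAction.IsPreprimitive.mk fun {B} hB => ?_
    rw [MulAction.IsTrivialBlock, or_iff_not_imp_left, Set.not_subsingleton_iff]
    rintro ⟨a, ha, b, hb, hab⟩
    rw [Set.eq_univ_iff_forall]
    intro x
    by_cases hxa : x = a
    · rwa [hxa]
    obtain ⟨g, hg⟩ := hpair a b a x hab (Ne.symm hxa)
    rcases hg with ⟨h1, h1'⟩ | ⟨h1, h1'⟩
    · rw [← MulAction.isBlock_iff_smul_eq_of_mem.1 hB (g := g) ha (by rw [h1]; exact ha), ← h1']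
      exact Set.smul_mem_smul_set hb
    · rw [← MulAction.isBlock_iff_smul_eq_of_mem.1 hB (g := g) hb (by rw [h1']; exact ha), ← h1]
      exact Set.smul_mem_smul_set ha

end Cfsg.Agent.S0735
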