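import Cfsg.Statements.S0736
import Cfsg.Agent.Lib.Perm.HomogeneousPred

set_option autoImplicit false
open scoped Pointwise
open Cfsg

namespace Cfsg.Agent.S0736

/-- A `k`-homogeneous permutation group of degree `n`, `k ≥ 2`, with `k + q - 1 ≤ n` for every prime power `q` dividing `k`, is `(k-1)`-homogeneous. -/
theorem result {α : Type*} [Fintype α] [DecidableEq α] (G : Subgroup (Equiv.Perm α)) {k : ℕ} (hk : 2 ≤ k) (hG : MulAction.IsPretransitive G (Set.powersetCard α k)) (hq : ∀ q : ℕ, IsPrimePow q → q ∣ k → k + q - 1 ≤ Fintype.card α) : MulAction.IsPretransitive G (Set.powersetCard α (k - 1)) := by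
  classical
  have hkn : k ≤ Fintype.card α := by
    obtain ⟨p, hp, hpk⟩ := Nat.exists_prime_and_dvd (show k ≠ 1 by omega)
    have := hq p hp.isPrimePow hpk
    have := hp.two_le
    omega
  refine ⟨fun S T => ?_⟩
  obtain ⟨g, hg⟩ := CfsgLib.Perm.Homog.pred_homogeneous (G := G) (by omega) hkn (fun B C hB hC => by
    obtain ⟨g, hg⟩ := hG.exists_smul_eq ⟨B, hB⟩ ⟨C, hC⟩
    exact ⟨g, congrArg Subtype.val hg⟩) hq S.1 T.1 S.2 T.2
  exact ⟨g, Subtype.ext hg⟩

end Cfsg.Agent.S0736
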