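import Cfsg.Statements.S0737
import Cfsg.Agent.S0735
import Cfsg.Agent.Lib.Perm.KantorHomogeneous

set_option autoImplicit false
open Cfsg
open scoped Pointwise

namespace Cfsg.Agent.S0737

/-- A non-trivial 2-homogeneous permutation group that is not doubly transitive has odd order and degree `p^f ≡ 3 (mod 4)`, and is permutation-isomorphic to a group of semi-affine transformations `x ↦ a φ(x) + b` of the field with `p^f` elements containing all translations. -/
theorem result {α : Type*} [Fintype α] [DecidableEq α] (G : Subgroup (Equiv.Perm α)) (hne : G ≠ ⊥) (h2 : MulAction.IsPretransitive G (Set.powersetCard α 2)) (hn2 : ¬ MulAction.IsMultiplyPretransitive G α 2) : Odd (Nat.card G) ∧ ∃ (p f : ℕ) (_ : Fact p.Prime), p ≠ 2 ∧ Fintype.card α = p ^ f ∧ p ^ f % 4 = 3 ∧ ∃ e : α ≃ GaloisField p f, (∀ g : G, e.symm.trans (((g : Equiv.Perm α)).trans e) ∈ Cfsg.semiaffineGroup (GaloisField p f)) ∧ ∀ b : GaloisField p f, ∃ g : G, ∀ x : α, e ((g : Equiv.Perm α) x) = e x + b := by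
  classical
  have hcard : 3 ≤ Fintype.card α := by
    by_contra hlt
    obtain ⟨g, hg, hg1⟩ := (Subgroup.bot_or_exists_ne_one G).resolve_left hne
    obtain ⟨c, hc⟩ : ∃ c : α, g c ≠ c := by
      by_contra! hall
      exact hg1 (Equiv.ext hall)
    have hall : ∀ x : α, x = c ∨ x = g c := fun x => by
      by_contra! h
      have : ({x, c, g c} : Finset α).card ≤ Fintype.card α := Finset.card_le_univ _
      rw [Finset.card_eq_three.2 ⟨x, c, g c, h.1, h.2, Ne.symm hc, rfl⟩] at this
      omega
    have hgg : g (g c) = c := (hall (g (g c))).resolve_right fun h => hc (g.injective h)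
    refine hn2 (MulAction.is_two_pretransitive_iff.2 ?_)
    intro a b a' b' hab hab'
    rcases hall a with rfl | rfl <;> rcases hall b with rfl | rfl <;>
      rcases hall a' with rfl | rfl <;> rcases hall b' with rfl | rfl <;>
      first
        | exact absurd rfl hab
        | exact absurd rfl hab'
        | exact ⟨1, one_smul _ _, one_smul _ _⟩
        | exact ⟨⟨g, hg⟩, hgg, rfl⟩
        | exact ⟨⟨g, hg⟩, rfl, hgg⟩
  obtain ⟨heven, hprim⟩ := Cfsg.Agent.S0735.result G h2 hcard
  have hodd : Odd (Nat.card G) := Nat.not_even_iff_odd.1 fun h => hn2 (heven h)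
  haveI := hprim hne
  haveI : Nontrivial α := Fintype.one_lt_card_iff_nontrivial.1 (by omega)
  have hpair : ∀ a b c d : α, a ≠ b → c ≠ d → ∃ g : G, (g • a = c ∧ g • b = d) ∨ (g • a = d ∧ g • b = c) := by
    intro a b c d hab hcd
    obtain ⟨g, hg⟩ := h2.exists_smul_eq ⟨{a, b}, Finset.card_pair hab⟩ ⟨{c, d}, Finset.card_pair hcd⟩
    have hg' : g • ({a, b} : Finset α) = {c, d} := congrArg Subtype.val hg
    have h1 : g • a ∈ ({c, d} : Finset α) := by rw [← hg', Finset.smul_mem_smul_finset_iff]; simp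
    have h1' : g • b ∈ ({c, d} : Finset α) := by rw [← hg', Finset.smul_mem_smul_finset_iff]; simp
    have hne' : g • a ≠ g • b := (MulAction.injective g).ne hab
    simp only [Finset.mem_insert, Finset.mem_singleton] at h1 h1'
    refine ⟨g, ?_⟩
    rcases h1 with h1 | h1 <;> rcases h1' with h1' | h1'
    · exact absurd (h1.trans h1'.symm) hne'
    · exact Or.inl ⟨h1, h1'⟩
    · exact Or.inr ⟨h1, h1'⟩
    · exact absurd (h1.trans h1'.symm) hne'
  obtain ⟨p, f, hp, hp2, hn, h4, e, he, ht⟩ := CfsgLib.Perm.Kantor.semiaffine_of_odd hodd hpair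
  refine ⟨hodd, p, f, hp, hp2, by rw [← Nat.card_eq_fintype_card]; exact hn, h4, e, fun g => ?_, ht⟩
  obtain ⟨a, b, φ, hab⟩ := he g
  exact ⟨a, b, φ, hab⟩

end Cfsg.Agent.S0737
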