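import Cfsg.Statements.S0742
import Cfsg.Agent.Lib.Perm.ZassG.PSL

set_option autoImplicit false
open Cfsg

namespace Cfsg.Agent.S0742

/-- A finite Zassenhaus group of degree `n + 1` with two-point stabilisers of even order `d` satisfying `2d ≤ n - 1` has `n = p^f` for an odd prime `p` and is isomorphic to `PSL(2, p^f)`. -/
theorem result {G Ω : Type*} [Group G] [Finite G] [MulAction G Ω] [Fintype Ω] (hZ : Cfsg.IsZassenhausGroup G Ω) {a b : Ω} (hab : a ≠ b) (heven : Even (Nat.card ↥(MulAction.stabilizer G a ⊓ MulAction.stabilizer G b))) (hd : 2 * Nat.card ↥(MulAction.stabilizer G a ⊓ MulAction.stabilizer G b) ≤ Fintype.card Ω - 2) : ∃ (p f : ℕ) (K : Type) (_ : Field K) (_ : Fintype K), p.Prime ∧ p ≠ 2 ∧ Fintype.card K = p ^ f ∧ Fintype.card Ω = p ^ f + 1 ∧ Nonempty (G ≃* Matrix.ProjectiveSpecialLinearGroup (Fin 2) K) := by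
  classical
  obtain ⟨F, hF⟩ := CfsgLib.Perm.ZassG.exists_kernel hZ hab
  have hn := hF.card_add_one hab
  have h1 := (CfsgLib.Perm.ZassG.even_bound hZ hab heven.two_dvd).1
  rw [Nat.card_eq_fintype_card (α := Ω)] at hn h1
  have hpos : 0 < Nat.card ↥(CfsgLib.Perm.ZassG.pairStab G a b) := Nat.card_pos
  change 2 * Nat.card ↥(CfsgLib.Perm.ZassG.pairStab G a b) ≤ _ at hd
  have hcard : Nat.card F = 2 * Nat.card ↥(CfsgLib.Perm.ZassG.pairStab G a b) + 1 := by omega
  obtain ⟨-, p, f, hp, hf, -, hpf⟩ := hF.elementary hZ hab (by omega)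
  obtain ⟨K, hK, hK', h2, hq, hiso⟩ := CfsgLib.Perm.ZassG.exists_psl hZ hab hF hcard
  refine ⟨p, f, K, hK, hK', hp, ?_, by rw [← Nat.card_eq_fintype_card, hq, hpf], by omega, hiso⟩
  rintro rfl
  have h2f : 2 ∣ 2 ^ f := dvd_pow_self 2 hf.ne'
  omega

end Cfsg.Agent.S0742
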