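import Cfsg.Statements.S0754

set_option autoImplicit false
open Cfsg

namespace Cfsg.Agent.S0754

/-- In a field F with q^2 elements, every non-zero μ with μ^q = μ (that is, μ in the subfield of order q) has exactly q + 1 solutions λ of λ^(q+1) = μ. -/
theorem result {F : Type*} [Field F] [Fintype F] {q : ℕ} (hF : Fintype.card F = q ^ 2) (μ : F) (hμ : μ ≠ 0) (hμq : μ ^ q = μ) : Nat.card {x : F // x ^ (q + 1) = μ} = q + 1 := by
  classical
  have hq : 2 ≤ q := by
    have := Fintype.one_lt_card (α := F)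
    rw [hF] at this
    rcases q with _ | _ | q <;> simp_all
  have hu : Fintype.card Fˣ = (q + 1) * (q - 1) := by
    rw [Fintype.card_units, hF]
    obtain ⟨r, rfl⟩ : ∃ r, q = r + 1 := ⟨q - 1, by omega⟩
    simp only [Nat.add_sub_cancel]
    ring_nf
    omega
  have hμ1 : (Units.mk0 μ hμ) ^ (q - 1) = 1 := by
    ext
    have : μ ^ (q - 1) * μ = 1 * μ := by rw [← pow_succ, Nat.sub_add_cancel (by omega), hμq, one_mul]
    simpa using mul_right_cancel₀ hμ this
  obtain ⟨g, hg⟩ := IsCyclic.exists_generator (α := Fˣ)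
  obtain ⟨k, hk⟩ : ∃ k : ℕ, g ^ k = Units.mk0 μ hμ := by
    obtain ⟨k, hk⟩ := Submonoid.mem_powers_iff _ _ |>.1
      (mem_powers_iff_mem_zpowers.2 (hg (Units.mk0 μ hμ)))
    exact ⟨k, hk⟩
  have hord : orderOf g = (q + 1) * (q - 1) := by
    rw [orderOf_eq_card_of_forall_mem_zpowers hg, Nat.card_eq_fintype_card, hu]
  have hdvd : (q + 1) ∣ k := by
    rw [← hk, ← pow_mul, ← orderOf_dvd_iff_pow_eq_one, hord] at hμ1
    exact Nat.dvd_of_mul_dvd_mul_right (by omega) hμ1
  obtain ⟨r, rfl⟩ := hdvd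
  let x₀ : Fˣ := g ^ r
  have hx₀ : (x₀ : F) ^ (q + 1) = μ := by
    have := congrArg Units.val hk
    simpa [x₀, ← pow_mul, mul_comm r] using this
  have e : {x : F // x ^ (q + 1) = μ} ≃ rootsOfUnity (q + 1) F :=
    { toFun := fun x => ⟨Units.mk0 ((x : F) / x₀) (div_ne_zero (by
          intro h; apply hμ; rw [← x.2, h]; simp) x₀.ne_zero), by
        ext; simp [div_pow, x.2, hx₀, div_self hμ]⟩
      invFun := fun u => ⟨(u.1 : F) * x₀, by
        have := congrArg Units.val ((mem_rootsOfUnity _ _).1 u.2)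
        simp only [Units.val_pow_eq_pow_val, Units.val_one] at this
        rw [mul_pow, this, one_mul, hx₀]⟩
      left_inv := fun x => by ext; simp
      right_inv := fun u => by ext; simp }
  have hzeta : IsPrimitiveRoot (g ^ (q - 1)) (q + 1) := by
    refine (hord ▸ IsPrimitiveRoot.orderOf g).pow ?_ (by ring)
    exact Nat.mul_pos (by omega) (by omega)
  rw [Nat.card_congr e, (IsPrimitiveRoot.coe_units_iff.2 hzeta).card_rootsOfUnity]

end Cfsg.Agent.S0754
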