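import Cfsg.Statements.S0756

set_option autoImplicit false
open Cfsg

namespace Cfsg.Agent.S0756

/-- Classification of symmetric bilinear forms over finite fields of odd characteristic: if B is non-degenerate symmetric on V of dimension n + 1 and α is a fixed non-square of F, there is an orthogonal basis b_0, ..., b_n with B(b_i, b_i) = 1 for i < n and B(b_n, b_n) ∈ {1, α}. -/
theorem result {F V : Type*} [Field F] [Finite F] [AddCommGroup V] [Module F V] [FiniteDimensional F V] (h2 : (2 : F) ≠ 0) (B : LinearMap.BilinForm F V) (hS : B.IsSymm) (hB : B.Nondegenerate) {n : ℕ} (hn : Module.finrank F V = n + 1) (α : F) (hα : ¬ IsSquare α) : ∃ b : Module.Basis (Fin (n + 1)) F V, (∀ i j, i ≠ j → B (b i) (b j) = 0) ∧ (∀ i, i ≠ Fin.last n → B (b i) (b i) = 1) ∧ (B (b (Fin.last n)) (b (Fin.last n)) = 1 ∨ B (b (Fin.last n)) (b (Fin.last n)) = α) := by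
  have hnd : ∀ z w : V, B z w = B w z := fun z w => (hS.eq w z).symm
  have step0 : ∀ {k : ℕ} (v : Fin k → V), k < n + 1 → (∀ i j, i ≠ j → B (v i) (v j) = 0) →
      (∀ i, B (v i) (v i) ≠ 0) → ∃ z, (∀ i, B (v i) z = 0) ∧ B z z ≠ 0 := by
    intro k v hk ho hne
    have hproj : ∀ z i, B (v i) (z - ∑ j, (B (v j) z / B (v j) (v j)) • v j) = 0 := fun z i => by
      rw [map_sub, map_sum, Finset.sum_eq_single i]
      · rw [map_smul, smul_eq_mul, div_mul_cancel₀ _ (hne i), sub_self]
      · intro j _ hj; rw [map_smul, ho i j (Ne.symm hj), smul_zero]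
      · simp
    by_contra hc
    push Not at hc
    have hW : ∀ z w, (∀ i, B (v i) z = 0) → (∀ i, B (v i) w = 0) → B z w = 0 := by
      intro z w hz hw
      have h1 := hc (z + w) (fun i => by simp [hz, hw])
      simp only [map_add, LinearMap.add_apply, hc z hz, hc w hw, zero_add, add_zero, hnd w z] at h1
      rw [← two_mul] at h1
      exact (mul_eq_zero.1 h1).resolve_left h2
    have h0 : ∀ z, (∀ i, B (v i) z = 0) → z = 0 := fun z hz => hB.1 z fun y => by
      have h' := hW z _ hz (hproj y)
      rw [map_sub, map_sum, Finset.sum_eq_zero (fun j _ => by rw [map_smul, hnd z, hz j, smul_zero]),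
        sub_zero] at h'
      exact h'
    have hspan : Submodule.span F (Set.range v) = ⊤ := eq_top_iff.2 fun z _ => by
      rw [sub_eq_zero.1 (h0 _ (hproj z))]
      exact Submodule.sum_mem _ fun j _ => Submodule.smul_mem _ _
        (Submodule.subset_span (Set.mem_range_self j))
    have h' := finrank_range_le_card (R := F) v
    rw [Set.finrank, hspan, finrank_top, Fintype.card_fin] at h'
    omega
  have step : ∀ k ≤ n, ∃ v : Fin k → V, ∀ i j, B (v i) (v j) = if i = j then 1 else 0 := by
    intro k
    induction k with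
    | zero => exact fun _ => ⟨fun i => i.elim0, fun i => i.elim0⟩
    | succ k ih =>
      intro hk
      obtain ⟨v, hv⟩ := ih (by omega)
      obtain ⟨z₁, hz₁, hz₁0⟩ := step0 v (by omega) (fun i j h => by simp [hv, h]) (fun i => by simp [hv])
      obtain ⟨z₂, hz₂, hz₂0⟩ := step0 (Fin.cons z₁ v : Fin (k+1) → V) (by omega)
        (fun i j h => by
          induction i using Fin.cases <;> induction j using Fin.cases
          · exact absurd rfl h
          · simp [hnd z₁, hz₁]
          · simp [hz₁]
          · rename_i i j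
            have hij : i ≠ j := fun e => h (by rw [e])
            simp [hv, hij])
        (fun i => by induction i using Fin.cases <;> simp [hv, hz₁0])
      haveI := Fintype.ofFinite F
      obtain ⟨x, y, hxy⟩ := FiniteField.exists_root_sum_quadratic (R := F)
        (f := Polynomial.C (B z₁ z₁) * Polynomial.X ^ 2)
        (g := Polynomial.C (B z₂ z₂) * Polynomial.X ^ 2 - Polynomial.C 1)
        (Polynomial.degree_C_mul_X_pow 2 hz₁0)
        (by rw [Polynomial.degree_sub_C (by rw [Polynomial.degree_C_mul_X_pow 2 hz₂0]; decide),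
          Polynomial.degree_C_mul_X_pow 2 hz₂0]; rfl)
        (FiniteField.odd_card_of_char_ne_two (fun h => h2 (by
          haveI := ringChar.of_eq h
          exact CharTwo.two_eq_zero)))
      simp only [Polynomial.eval_sub, Polynomial.eval_mul, Polynomial.eval_C, Polynomial.eval_pow,
        Polynomial.eval_X] at hxy
      have hz12 : B z₁ z₂ = 0 := by simpa using hz₂ 0
      have hz₂v : ∀ i, B (v i) z₂ = 0 := fun i => by simpa using hz₂ i.succ
      have hu : ∀ i, B (v i) (x • z₁ + y • z₂) = 0 := fun i => by simp [hz₁, hz₂v]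
      have huu : B (x • z₁ + y • z₂) (x • z₁ + y • z₂) = 1 := by
        simp only [map_add, map_smul, LinearMap.add_apply, LinearMap.smul_apply, smul_eq_mul, hz12,
          hnd z₂ z₁]
        linear_combination hxy
      refine ⟨Fin.cons (x • z₁ + y • z₂) v, fun i j => ?_⟩
      induction i using Fin.cases <;> induction j using Fin.cases
      · rw [Fin.cons_zero, if_pos rfl]; exact huu
      · rw [Fin.cons_zero, Fin.cons_succ, if_neg (Fin.succ_ne_zero _).symm, hnd]; exact hu _
      · simp [hu, Fin.succ_ne_zero]
      · simp [hv]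
  obtain ⟨v, hv⟩ := step n le_rfl
  obtain ⟨z, hz, hzz⟩ := step0 v (by omega) (fun i j h => by simp [hv, h]) (fun i => by simp [hv])
  obtain ⟨c, hc, hcase⟩ : ∃ c : F, c ≠ 0 ∧ (B (c • z) (c • z) = 1 ∨ B (c • z) (c • z) = α) := by
    have hα0 : α ≠ 0 := fun h => hα (h ▸ IsSquare.zero)
    haveI := Fintype.ofFinite F
    classical
    by_cases hs : IsSquare (B z z)
    · obtain ⟨t, ht⟩ := hs
      have ht0 : t ≠ 0 := fun h => hzz (by rw [ht, h, mul_zero])
      refine ⟨t⁻¹, inv_ne_zero ht0, Or.inl ?_⟩
      simp only [map_smul, LinearMap.smul_apply, smul_eq_mul, ht]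
      field_simp
    · have hm : IsSquare (α * B z z) := by
        rw [← quadraticChar_one_iff_isSquare (mul_ne_zero hα0 hzz), map_mul,
          quadraticChar_neg_one_iff_not_isSquare.2 hα, quadraticChar_neg_one_iff_not_isSquare.2 hs]
        rfl
      obtain ⟨t, ht⟩ := hm
      have ht0 : t ≠ 0 := fun h => mul_ne_zero hα0 hzz (by rw [ht, h, mul_zero])
      refine ⟨α / t, div_ne_zero hα0 ht0, Or.inr ?_⟩
      simp only [map_smul, LinearMap.smul_apply, smul_eq_mul]
      field_simp
      linear_combination ht
  let b : Fin (n + 1) → V := Fin.snoc v (c • z)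
  have hb : ∀ i j, i ≠ j → B (b i) (b j) = 0 := fun i j h => by
    induction i using Fin.lastCases <;> induction j using Fin.lastCases
    · exact absurd rfl h
    · simp [b, hnd z, hz]
    · simp [b, hz]
    · have h' := hv; simp_all [b]
  have hbne : ∀ i, B (b i) (b i) ≠ 0 := fun i => by
    induction i using Fin.lastCases
    · simp [b, hc, hzz]
    · simp [b, hv]
  have hli : LinearIndependent F b := Fintype.linearIndependent_iff.2 fun g hg i => by
    have h' := congrArg (fun w => B (b i) w) hg
    simp only [map_sum, map_smul, map_zero, smul_eq_mul] at h'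
    rw [Finset.sum_eq_single i (fun j _ hj => by rw [hb i j (Ne.symm hj), mul_zero]) (by simp)] at h'
    exact (mul_eq_zero.1 h').resolve_right (hbne i)
  refine ⟨basisOfLinearIndependentOfCardEqFinrank' b hli (by simp [hn]), fun i j h => by simpa using hb i j h,
    fun i hi => ?_, ?_⟩
  · induction i using Fin.lastCases
    · exact absurd rfl hi
    · simp [b, hv]
  · simpa [b] using hcase

end Cfsg.Agent.S0756
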