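import Cfsg.Statements.S0757

set_option autoImplicit false
open Cfsg

namespace Cfsg.Agent.S0757

/-- The two diagonal forms Σ x_i^2 and Σ_(i<n) x_i^2 + α x_n^2 on F^(n+1), with α a non-square and 2 ≠ 0 in F, are inequivalent quadratic forms (so over a finite field of odd order there are exactly two classes of non-singular symmetric bilinear forms in each dimension). -/
theorem result {F : Type*} [Field F] (h2 : (2 : F) ≠ 0) (n : ℕ) (α : F) (hα : ¬ IsSquare α) : ¬ (QuadraticMap.weightedSumSquares F (fun _ : Fin (n + 1) => (1 : F))).Equivalent (QuadraticMap.weightedSumSquares F (fun i : Fin (n + 1) => if i = Fin.last n then α else (1 : F))) := by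
  intro ⟨e⟩
  classical
  let M : Matrix (Fin (n+1)) (Fin (n+1)) F := LinearMap.toMatrix' e.toLinearEquiv.toLinearMap
  let w : Fin (n+1) → F := fun i => if i = Fin.last n then α else 1
  have hM : M.transpose * Matrix.diagonal w * M = 1 := by
    have hp : ∀ x, M.mulVec x = e x := fun x => by
      rw [LinearMap.toMatrix'_mulVec]; rfl
    have hQ : ∀ x, ∑ i, w i * (M.mulVec x i * M.mulVec x i) = ∑ i, x i * x i := fun x => by
      have := e.map_app x
      rw [QuadraticMap.weightedSumSquares_apply, QuadraticMap.weightedSumSquares_apply] at this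
      simp only [smul_eq_mul, one_mul] at this
      rw [hp]
      exact this
    have hB : ∀ x y, ∑ i, w i * (M.mulVec x i * M.mulVec y i) = ∑ i, x i * y i := fun x y => by
      have h := hQ (x + y)
      simp only [Matrix.mulVec_add, Pi.add_apply, mul_add, add_mul, Finset.sum_add_distrib,
        hQ] at h
      have c1 : ∑ i, w i * (M.mulVec y i * M.mulVec x i) = ∑ i, w i * (M.mulVec x i * M.mulVec y i) :=
        Finset.sum_congr rfl fun i _ => by ring
      have c2 : ∑ i, y i * x i = ∑ i, x i * y i := Finset.sum_congr rfl fun i _ => by ring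
      rw [c1, c2] at h
      apply mul_left_cancel₀ h2
      linear_combination h
    ext a b
    have := hB (Pi.single a 1) (Pi.single b 1)
    simp only [Matrix.mulVec_single_one] at this
    simp only [Matrix.mul_apply, Matrix.transpose_apply, Matrix.diagonal, Matrix.of_apply,
      Matrix.one_apply]
    simp only [mul_ite, mul_zero, Finset.sum_ite_eq', Finset.mem_univ, if_true]
    rw [show ∑ i, M i a * w i * M i b = ∑ i, w i * (M i a * M i b) from
      Finset.sum_congr rfl fun i _ => by ring]
    simpa [Pi.single_apply, eq_comm] using this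
  have hd := congrArg Matrix.det hM
  rw [Matrix.det_mul, Matrix.det_mul, Matrix.det_transpose, Matrix.det_diagonal, Matrix.det_one,
    show ∏ i, w i = α by simp [w, Fin.prod_univ_castSucc, Fin.castSucc_ne_last]] at hd
  have hd0 : M.det ≠ 0 := fun h => by simp [h] at hd
  exact hα ⟨M.det⁻¹, by field_simp; linear_combination hd⟩

end Cfsg.Agent.S0757
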