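import Cfsg.Statements.S0758

set_option autoImplicit false
open Cfsg

namespace Cfsg.Agent.S0758

/-- For a finite field F of odd order q and a non-square α: the form x² + y² is isotropic iff q ≡ 1 mod 4, and the form x² + α y² is isotropic iff q ≡ 3 mod 4. -/
theorem result {F : Type*} [Field F] [Fintype F] (h2 : (2 : F) ≠ 0) (α : F) (hα : ¬ IsSquare α) : ((∃ x y : F, (x ≠ 0 ∨ y ≠ 0) ∧ x ^ 2 + y ^ 2 = 0) ↔ Fintype.card F % 4 = 1) ∧ ((∃ x y : F, (x ≠ 0 ∨ y ≠ 0) ∧ x ^ 2 + α * y ^ 2 = 0) ↔ Fintype.card F % 4 = 3) := by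
  classical
  have hodd : Fintype.card F % 2 = 1 :=
    FiniteField.odd_card_of_char_ne_two (fun h => h2 (by
      haveI := ringChar.of_eq h
      exact CharTwo.two_eq_zero))
  have hα0 : α ≠ 0 := fun h => hα (h ▸ IsSquare.zero)
  have key : ∀ c : F, c ≠ 0 →
      ((∃ x y : F, (x ≠ 0 ∨ y ≠ 0) ∧ x ^ 2 + c * y ^ 2 = 0) ↔ IsSquare (-c)) := by
    intro c hc
    constructor
    · rintro ⟨x, y, h0, h⟩
      have hy : y ≠ 0 := fun hy => by
        rw [hy, zero_pow two_ne_zero, mul_zero, add_zero] at h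
        exact h0.elim (fun hx => hx (pow_eq_zero_iff two_ne_zero |>.1 h)) (fun hy' => hy' hy)
      exact ⟨x / y, by field_simp; linear_combination -h⟩
    · rintro ⟨t, ht⟩
      exact ⟨t, 1, Or.inr one_ne_zero, by linear_combination (-1 : F) * ht⟩
  refine ⟨?_, ?_⟩
  · rw [show (∃ x y : F, (x ≠ 0 ∨ y ≠ 0) ∧ x ^ 2 + y ^ 2 = 0) ↔
      (∃ x y : F, (x ≠ 0 ∨ y ≠ 0) ∧ x ^ 2 + 1 * y ^ 2 = 0) by simp, key 1 one_ne_zero,
      FiniteField.isSquare_neg_one_iff]
    omega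
  · rw [key α hα0, show IsSquare (-α) ↔ ¬ IsSquare (-1 : F) by
      rw [← quadraticChar_one_iff_isSquare (neg_ne_zero.2 hα0), ← neg_one_mul, map_mul,
        quadraticChar_neg_one_iff_not_isSquare.2 hα,
        ← quadraticChar_neg_one_iff_not_isSquare]
      omega, FiniteField.isSquare_neg_one_iff]
    omega

end Cfsg.Agent.S0758
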