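import Cfsg.Statements.S0759

set_option autoImplicit false
open Cfsg

namespace Cfsg.Agent.S0759

/-- Type of the orthonormal form: over a finite field of odd order q and for m ≥ 1, the quadratic form Σ_(i<2m) x_i² on F^(2m) admits an m-dimensional subspace on which it vanishes identically if and only if it is not the case that q ≡ 3 (mod 4) and m is odd. -/
theorem result {F : Type*} [Field F] [Fintype F] (h2 : (2 : F) ≠ 0) (m : ℕ) (hm : 1 ≤ m) : (∃ W : Submodule F (Fin (2 * m) → F), Module.finrank F W = m ∧ ∀ w ∈ W, ∑ i, w i ^ 2 = 0) ↔ ¬ (Fintype.card F % 4 = 3 ∧ Odd m) := by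
  classical
  have hodd : Fintype.card F % 2 = 1 :=
    FiniteField.odd_card_of_char_ne_two (fun h => h2 (by
      haveI := ringChar.of_eq h
      exact CharTwo.two_eq_zero))
  let e : Fin m ⊕ Fin m ≃ Fin (2 * m) := finSumFinEquiv.trans (finCongr (two_mul m).symm)
  let L : (Fin m ⊕ Fin m → F) ≃ₗ[F] (Fin (2 * m) → F) := LinearEquiv.funCongrLeft F F e.symm
  have hL : ∀ v, ∑ i, L v i ^ 2 = ∑ i, v i ^ 2 := fun v =>
    Fintype.sum_equiv e.symm _ _ (fun i => rfl)
  constructor
  · rintro ⟨W, hW, hW0⟩ ⟨h4, hm'⟩
    have hns : ¬ IsSquare (-1 : F) := by rw [FiniteField.isSquare_neg_one_iff]; omega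
    let W' := W.comap L.toLinearMap
    have hW' : Module.finrank F W' = m := by
      rw [show W' = W.map L.symm.toLinearMap from Submodule.comap_equiv_eq_map_symm L W,
        LinearEquiv.finrank_map_eq, hW]
    have hW'0 : ∀ w ∈ W', ∑ i, w i ^ 2 = 0 := fun w hw => (hL w).symm.trans (hW0 _ hw)
    obtain ⟨C, hC⟩ := Submodule.exists_isCompl W'
    have hCm : Module.finrank F C = m := by
      have h := Submodule.finrank_add_eq_of_isCompl hC
      rw [hW'] at h
      simp at h
      omega
    let bb : Module.Basis (Fin m ⊕ Fin m) F (Fin m ⊕ Fin m → F) :=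
      ((Module.finBasisOfFinrankEq F W' hW').prod (Module.finBasisOfFinrankEq F C hCm)).map
        (Submodule.prodEquivOfIsCompl W' C hC)
    let P : Matrix (Fin m ⊕ Fin m) (Fin m ⊕ Fin m) F := (Pi.basisFun F _).toMatrix bb
    have hP : P.det ≠ 0 := by
      haveI : Invertible P := (Pi.basisFun F _).invertibleToMatrix bb
      exact (Matrix.isUnit_det_of_invertible P).ne_zero
    let G := P.transpose * P
    have hG : ∀ i j, G i j = ∑ k, bb i k * bb j k := fun i j => by
      simp [G, Matrix.mul_apply, P, Module.Basis.toMatrix_apply]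
    have hG11 : G.toBlocks₁₁ = 0 := by
      ext i j
      have hb : ∀ i, bb (Sum.inl i) ∈ W' := fun i => by simp [bb]
      have h1 := hW'0 _ (add_mem (hb i) (hb j))
      have h3 := hW'0 _ (hb i)
      have h4 := hW'0 _ (hb j)
      simp only [Pi.add_apply, add_sq, Finset.sum_add_distrib, h3, h4, zero_add, add_zero] at h1
      show G (Sum.inl i) (Sum.inl j) = 0
      rw [hG]
      refine (mul_eq_zero.1 (?_ : (2 : F) * _ = 0)).resolve_left h2
      rw [Finset.mul_sum]
      simpa [mul_assoc] using h1
    have hJ : G * Matrix.J (Fin m) F =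
        Matrix.fromBlocks G.toBlocks₁₂ 0 G.toBlocks₂₂ (-G.toBlocks₂₁) := by
      conv_lhs => rw [← Matrix.fromBlocks_toBlocks G, hG11]
      rw [Matrix.J, Matrix.fromBlocks_multiply]
      simp
    have hG21 : G.toBlocks₂₁ = G.toBlocks₁₂.transpose := by
      ext i j
      show G (Sum.inr i) (Sum.inl j) = G (Sum.inl j) (Sum.inr i)
      rw [hG, hG]
      exact Finset.sum_congr rfl fun k _ => mul_comm _ _
    have hd := congrArg Matrix.det hJ
    rw [Matrix.det_mul, SymplecticGroup.det_eq_one (SymplecticGroup.J_mem _ _), mul_one,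
      Matrix.det_fromBlocks_zero₁₂, Matrix.det_neg, hG21, Matrix.det_transpose, Fintype.card_fin,
      hm'.neg_one_pow] at hd
    simp only [G, Matrix.det_mul, Matrix.det_transpose] at hd
    have hA : (Matrix.toBlocks₁₂ (P.transpose * P)).det ≠ 0 := fun h => by
      rw [h] at hd; simp [hP] at hd
    exact hns ⟨P.det / (Matrix.toBlocks₁₂ (P.transpose * P)).det, by field_simp; linear_combination -hd⟩
  · intro hne
    obtain ⟨M, hM⟩ : ∃ M : Matrix (Fin m) (Fin m) F, M.transpose * M = -1 := by
      by_cases hm' : Even m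
      · obtain ⟨k, hk⟩ := hm'
        obtain ⟨a, b, hab⟩ := FiniteField.exists_root_sum_quadratic (R := F)
          (f := Polynomial.X ^ 2) (g := Polynomial.X ^ 2 - Polynomial.C (-1 : F))
          (Polynomial.degree_X_pow 2)
          (Polynomial.degree_X_pow_sub_C two_pos _) hodd
        simp only [Polynomial.eval_sub, Polynomial.eval_C, Polynomial.eval_pow,
          Polynomial.eval_X] at hab
        let f : Fin k ⊕ Fin k ≃ Fin m := finSumFinEquiv.trans (finCongr hk.symm)
        let N : Matrix (Fin k ⊕ Fin k) (Fin k ⊕ Fin k) F :=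
          Matrix.fromBlocks (a • 1) (-(b • 1)) (b • 1) (a • 1)
        refine ⟨Matrix.reindex f f N, ?_⟩
        have hN : N.transpose * N = -1 := by
          rw [← Matrix.fromBlocks_one, Matrix.fromBlocks_neg]
          simp only [N, Matrix.fromBlocks_transpose, Matrix.transpose_smul, Matrix.transpose_neg,
            Matrix.transpose_one, Matrix.fromBlocks_multiply, Matrix.smul_mul, Matrix.mul_smul,
            Matrix.one_mul, Matrix.mul_one, Matrix.neg_mul, Matrix.mul_neg, smul_smul, neg_zero]
          congr 1 <;> ext i j <;> by_cases hij : i = j <;> simp [Matrix.one_apply, hij] <;>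
            first | linear_combination hab | linear_combination (0 : F) * hab
        rw [Matrix.reindex_apply, Matrix.transpose_submatrix, Matrix.submatrix_mul_equiv, hN]
        ext i j
        simp [Matrix.one_apply]
      · have hsq : IsSquare (-1 : F) := by
          rw [FiniteField.isSquare_neg_one_iff]
          exact fun h => hne ⟨h, Nat.not_even_iff_odd.1 hm'⟩
        obtain ⟨i, hi⟩ := hsq
        refine ⟨i • 1, ?_⟩
        rw [Matrix.transpose_smul, Matrix.transpose_one, Matrix.smul_mul, Matrix.one_mul, smul_smul,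
          ← hi, neg_smul, one_smul]
    let φ : (Fin m → F) →ₗ[F] (Fin (2 * m) → F) :=
      L.toLinearMap.comp (LinearMap.pi fun s => Sum.elim (fun i => LinearMap.proj i)
        (fun i => (LinearMap.proj i).comp M.mulVecLin) s)
    have hφ : ∀ x, φ x = L (Sum.elim x (M.mulVec x)) := fun x => by
      simp only [φ, LinearMap.comp_apply, LinearEquiv.coe_coe]
      congr 1
      funext s; rcases s with s | s <;> simp
    have hinj : Function.Injective φ := fun x y h => by
      rw [hφ, hφ] at h
      funext i
      exact congrFun (L.injective h) (Sum.inl i)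
    refine ⟨LinearMap.range φ, by rw [LinearMap.finrank_range_of_inj hinj]; simp, ?_⟩
    rintro _ ⟨x, rfl⟩
    rw [hφ, hL, Fintype.sum_sum_type]
    simp only [Sum.elim_inl, Sum.elim_inr]
    have h3 : dotProduct (M.mulVec x) (M.mulVec x) = -dotProduct x x := by
      rw [Matrix.dotProduct_mulVec, ← Matrix.mulVec_transpose, Matrix.mulVec_mulVec, hM,
        Matrix.neg_mulVec, Matrix.one_mulVec, neg_dotProduct]
    simp only [dotProduct] at h3
    simp only [pow_two]
    rw [h3, add_neg_cancel]

end Cfsg.Agent.S0759
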