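import Cfsg.Statements.S0760
import Cfsg.Agent.Lib.Geometry.Quadratic

set_option autoImplicit false
open Cfsg CfsgLib.Geometry

namespace Cfsg.Agent.S0760

/-- Witt index is well defined: if Q is a quadratic form on a finite-dimensional space V over a finite field with non-degenerate polar form, and W₁, W₂ are subspaces on which Q vanishes that are maximal with this property, then W₁ and W₂ have the same dimension, and twice this dimension is at most dim V. -/
theorem result {F V : Type*} [Field F] [Finite F] [AddCommGroup V] [Module F V] [FiniteDimensional F V] (Q : QuadraticForm F V) (hQ : (QuadraticMap.polarBilin Q).Nondegenerate) (W₁ W₂ : Submodule F V) (h₁ : ∀ w ∈ W₁, Q w = 0) (h₂ : ∀ w ∈ W₂, Q w = 0) (hmax₁ : ∀ W : Submodule F V, W₁ ≤ W → (∀ w ∈ W, Q w = 0) → W = W₁) (hmax₂ : ∀ W : Submodule F V, W₂ ≤ W → (∀ w ∈ W, Q w = 0) → W = W₂) : Module.finrank F W₁ = Module.finrank F W₂ ∧ 2 * Module.finrank F W₁ ≤ Module.finrank F V := by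
  have key : ∀ W₁ W₂ : Submodule F V, (∀ w ∈ W₁, Q w = 0) → (∀ w ∈ W₂, Q w = 0) →
      (∀ W : Submodule F V, W₁ ≤ W → (∀ w ∈ W, Q w = 0) → W = W₁) →
      Module.finrank F W₂ ≤ Module.finrank F W₁ := by
    intro W₁ W₂ h₁ h₂ hmax
    by_contra hlt
    push Not at hlt
    obtain ⟨φ, hφ⟩ : ∃ φ : W₁ →ₗ[F] V, Function.Injective φ ∧ ∀ x, φ x ∈ W₂ := by
      obtain ⟨f, hf⟩ : ∃ f : W₁ →ₗ[F] W₂, Function.Injective f := by
        let b₁ := Module.finBasis F W₁
        let b₂ := Module.finBasis F W₂
        refine ⟨(Fintype.linearCombination F fun i => b₂ (Fin.castLE hlt.le i)).comp b₁.equivFun.toLinearMap,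
          ?_⟩
        rw [LinearMap.coe_comp]
        refine Function.Injective.comp ?_ b₁.equivFun.injective
        exact linearIndependent_iff_injective_fintypeLinearCombination.1
          (b₂.linearIndependent.comp _ (Fin.castLE_injective _))
      exact ⟨W₂.subtype.comp f, W₂.injective_subtype.comp hf, fun x => (f x).2⟩
    obtain ⟨g, hg, hgx⟩ := quad_witt hQ W₁ φ hφ.1 fun x => by rw [h₂ _ (hφ.2 x), h₁ _ x.2]
    have hle : W₁ ≤ W₂.comap g.toLinearMap := fun x hx => by
      show g x ∈ W₂
      rw [show g x = φ ⟨x, hx⟩ from hgx ⟨x, hx⟩]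
      exact hφ.2 _
    have heq := hmax _ hle fun w hw => by rw [← mem_orth.1 hg]; exact h₂ _ hw
    have h' := (Submodule.equivMapOfInjective g.toLinearMap g.injective (W₂.comap g.toLinearMap)).finrank_eq
    rw [Submodule.map_comap_eq_of_surjective g.surjective, heq] at h'
    omega
  refine ⟨le_antisymm (key W₂ W₁ h₂ h₁ hmax₂) (key W₁ W₂ h₁ h₂ hmax₁), ?_⟩
  let r := (W₁.subtype.dualMap).comp (QuadraticMap.polarBilin Q : V →ₗ[F] Module.Dual F V)
  have hr : Function.Surjective r := by
    intro f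
    obtain ⟨g, hg⟩ := LinearMap.exists_extend f
    obtain ⟨w, hw⟩ := exists_rep (σ := RingHom.id F) Function.surjective_id _ hQ.1 g
    exact ⟨w, by rw [← hg]; ext x; simp [r, hw]⟩
  have hker : W₁ ≤ LinearMap.ker r := fun w hw => by
    rw [LinearMap.mem_ker]
    ext x
    show QuadraticMap.polar Q w (x : V) = 0
    rw [QuadraticMap.polar, h₁ _ (add_mem hw x.2), h₁ _ hw, h₁ _ x.2]
    ring
  have h3 := LinearMap.finrank_range_add_finrank_ker r
  rw [LinearMap.range_eq_top.2 hr, finrank_top, Subspace.dual_finrank_eq] at h3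
  have := Submodule.finrank_mono hker
  omega

end Cfsg.Agent.S0760
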