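import Cfsg.Statements.S0761
import Cfsg.Agent.Lib.Geometry.Basic

set_option autoImplicit false
open Cfsg CfsgLib.Geometry

namespace Cfsg.Agent.S0761

/-- Hyperbolic partners: let B be a non-degenerate bilinear form on a finite-dimensional space, either alternating, or symmetric with 2 ≠ 0. If Z is a subspace on which B vanishes, x ∉ Z is isotropic and orthogonal to Z, then there is an isotropic y with B x y = 1 which is orthogonal to Z. -/
theorem result {F V : Type*} [Field F] [AddCommGroup V] [Module F V] [FiniteDimensional F V] (B : LinearMap.BilinForm F V) (hB : B.Nondegenerate) (hform : B.IsAlt ∨ (B.IsSymm ∧ (2 : F) ≠ 0)) (x : V) (Z : Submodule F V) (hxZ : x ∉ Z) (hx : B x x = 0) (hxz : ∀ z ∈ Z, B x z = 0) (hZ : ∀ z ∈ Z, ∀ z' ∈ Z, B z z' = 0) : ∃ y : V, B y y = 0 ∧ B x y = 1 ∧ ∀ z ∈ Z, B z y = 0 := by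
  obtain ⟨w, hw, hwx⟩ := exists_perp (σ := RingHom.id F) Function.surjective_id B.flip
    hB.2 Z hxZ (1 : F)
  have hwx' : B x w = 1 := by simpa using hwx
  have hwz : ∀ z ∈ Z, B z w = 0 := fun z hz => by simpa using hw z hz
  rcases hform with hA | ⟨hS, h2⟩
  · exact ⟨w, hA.self_eq_zero w, hwx', hwz⟩
  · have hxw : B w x = 1 := by rw [← hwx']; exact (hS.eq x w).symm
    have hzx : ∀ z ∈ Z, B z x = 0 := fun z hz => by
      rw [show B z x = B x z from (hS.eq x z).symm]; exact hxz z hz
    refine ⟨w - (B w w / 2) • x, ?_, by simp [hwx', hx], fun z hz => by simp [hwz z hz, hzx z hz]⟩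
    simp only [map_sub, map_smul, LinearMap.sub_apply, LinearMap.smul_apply, smul_eq_mul, hwx',
      hxw, hx]
    field_simp
    ring

end Cfsg.Agent.S0761
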