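import Cfsg.Statements.S0762

set_option autoImplicit false
open Cfsg

namespace Cfsg.Agent.S0762

/-- In characteristic two over a finite field, a quadratic form on a space of dimension at least 3 vanishes on some non-zero vector. -/
theorem result {F V : Type*} [Field F] [Finite F] [CharP F 2] [AddCommGroup V] [Module F V] [FiniteDimensional F V] (Q : QuadraticForm F V) (h3 : 3 ≤ Module.finrank F V) : ∃ v : V, v ≠ 0 ∧ Q v = 0 := by
  obtain ⟨v, hv⟩ : ∃ v : V, v ≠ 0 := by
    haveI : Nontrivial V := Module.nontrivial_of_finrank_pos (R := F) (by omega)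
    exact exists_ne 0
  by_cases hQv : Q v = 0
  · exact ⟨v, hv, hQv⟩
  obtain ⟨w, hw, hwv⟩ : ∃ w, QuadraticMap.polar Q v w = 0 ∧ w ∉ Submodule.span F {v} := by
    have h := LinearMap.finrank_range_add_finrank_ker (QuadraticMap.polarBilin Q v)
    have h' : Module.finrank F (LinearMap.range (QuadraticMap.polarBilin Q v)) ≤ 1 :=
      le_trans (Submodule.finrank_le _) (by simp)
    by_contra hc
    push Not at hc
    have hle : LinearMap.ker (QuadraticMap.polarBilin Q v) ≤ Submodule.span F {v} := fun w hw =>
      hc w (by simpa using hw)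
    have := Submodule.finrank_mono hle
    have := finrank_span_singleton (K := F) hv
    omega
  obtain ⟨a, ha⟩ : IsSquare (Q w / Q v) := FiniteField.isSquare_of_char_two (ringChar.eq F 2) _
  have e : Q w = a ^ 2 * Q v := by rw [div_eq_iff hQv] at ha; rw [ha]; ring
  refine ⟨w + a • v, fun h => hwv ?_, ?_⟩
  · rw [eq_neg_of_add_eq_zero_left h, ← neg_smul]
    exact Submodule.smul_mem _ _ (Submodule.mem_span_singleton_self v)
  · rw [QuadraticMap.map_add (⇑Q), Q.map_smul, QuadraticMap.polar_smul_right, QuadraticMap.polar_comm,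
      hw, e]
    simp only [smul_eq_mul, mul_zero, add_zero]
    rw [show a ^ 2 * Q v + a * a * Q v = (a ^ 2 * Q v) + (a ^ 2 * Q v) by ring]
    exact CharTwo.add_self_eq_zero _

end Cfsg.Agent.S0762
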