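import Cfsg.Statements.S0763
import Cfsg.Agent.Lib.Geometry.Quadratic

set_option autoImplicit false
open Cfsg CfsgLib.Geometry

namespace Cfsg.Agent.S0763

/-- Binary quadratic forms in characteristic two over a finite field: if Q is a quadratic form on a 2-dimensional space whose polar form is non-degenerate, then either there are vectors v, w with Q v = Q w = 0 and polar value 1 (Q is xy in these coordinates), or there are v, w and μ with Q v = 1, Q w = μ, polar value 1 and x² + x + μ without roots in F (Q is x² + xy + μy²). -/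
theorem result {F V : Type*} [Field F] [Finite F] [CharP F 2] [AddCommGroup V] [Module F V] (Q : QuadraticForm F V) (h2 : Module.finrank F V = 2) (hQ : (QuadraticMap.polarBilin Q).Nondegenerate) : (∃ v w : V, LinearIndependent F ![v, w] ∧ Q v = 0 ∧ Q w = 0 ∧ QuadraticMap.polar Q v w = 1) ∨ (∃ (v w : V) (μ : F), LinearIndependent F ![v, w] ∧ (∀ x : F, x ^ 2 + x + μ ≠ 0) ∧ Q v = 1 ∧ Q w = μ ∧ QuadraticMap.polar Q v w = 1) := by
  haveI : FiniteDimensional F V := Module.finite_of_finrank_eq_succ h2
  by_cases hiso : ∃ e, e ≠ 0 ∧ Q e = 0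
  · obtain ⟨e, he0, he⟩ := hiso
    obtain ⟨f, hf, hef, -⟩ := exists_partner hQ ⊥ (by simpa using he0) he
      (fun z hz => by rw [(Submodule.mem_bot F).1 hz, QuadraticMap.polar_zero_right])
    refine Or.inl ⟨e, f, LinearIndependent.pair_iff.2 fun s t hst => ?_, he, hf, hef⟩
    have ha := congrArg (fun z => QuadraticMap.polar Q z f) hst
    have hb := congrArg (fun z => QuadraticMap.polar Q z e) hst
    simp [QuadraticMap.polar_add_left, polar_smul_left', polar_self', he, hf, hef,
      QuadraticMap.polar_comm Q f e] at ha hb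
    exact ⟨ha, hb⟩
  push Not at hiso
  haveI : Nontrivial V := Module.nontrivial_of_finrank_pos (R := F) (by omega)
  obtain ⟨u, hu⟩ := exists_ne (0 : V)
  obtain ⟨t, ht⟩ := FiniteField.isSquare_of_char_two (ringChar.eq F 2) (1 / Q u)
  have hv : Q (t • u) = 1 := by rw [map_smul', ← ht, div_mul_cancel₀ _ (hiso u hu)]
  generalize t • u = v at hv
  have hv0 : v ≠ 0 := fun h => by rw [h, QuadraticMap.map_zero] at hv; exact zero_ne_one hv
  obtain ⟨w, -, hw⟩ := exists_polar hQ ⊥ (show v ∉ (⊥ : Submodule F V) by simpa using hv0) 1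
  have hvw : QuadraticMap.polar Q v w = 1 := by rw [QuadraticMap.polar_comm]; exact hw
  have hli : LinearIndependent F ![v, w] := LinearIndependent.pair_iff.2 fun s t hst => by
    have hb := congrArg (fun z => QuadraticMap.polar Q z v) hst
    simp [QuadraticMap.polar_add_left, polar_smul_left', polar_self', hv, hw] at hb
    rw [CharTwo.two_eq_zero, mul_zero, zero_add] at hb
    subst hb
    refine ⟨?_, rfl⟩
    rw [zero_smul, add_zero, smul_eq_zero] at hst
    exact hst.resolve_right hv0
  refine Or.inr ⟨v, w, Q w, hli, fun x hx => ?_, hv, rfl, hvw⟩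
  have hne : x • v + w ≠ 0 := fun h => one_ne_zero ((LinearIndependent.pair_iff.1 hli x 1 (by simpa using h)).2)
  apply hiso _ hne
  rw [map_add', map_smul', hv, polar_smul_left', hvw]
  linear_combination hx

end Cfsg.Agent.S0763
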