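import Cfsg.Statements.S0766
import Cfsg.Agent.Lib.Geometry.Symplectic

set_option autoImplicit false
open Cfsg CfsgLib.Geometry

namespace Cfsg.Agent.S0766

/-- The subgroup generated by the symplectic transvections acts transitively on ordered pairs (u, v) with f(u, v) = 1. -/
theorem result {F : Type*} [Field F] (m : ℕ) (u v u' v' : Fin m ⊕ Fin m → F) (h : Cfsg.sympForm m F u v = 1) (h' : Cfsg.sympForm m F u' v' = 1) : ∃ A ∈ Subgroup.closure {A : Matrix.symplecticGroup (Fin m) F | ∃ (w : Fin m ⊕ Fin m → F) (c : F), (A : Matrix (Fin m ⊕ Fin m) (Fin m ⊕ Fin m) F) = Cfsg.sympTransvection m w c}, (A : Matrix (Fin m ⊕ Fin m) (Fin m ⊕ Fin m) F).mulVec u = u' ∧ (A : Matrix (Fin m ⊕ Fin m) (Fin m ⊕ Fin m) F).mulVec v = v' := by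
  have hli : ∀ a b : Fin m ⊕ Fin m → F, Cfsg.sympForm m F a b = 1 →
      LinearIndependent F ![a, b] := fun a b hab => by
    rw [LinearIndependent.pair_iff]
    intro s t hst
    have ha := congrArg (fun z => sympBilin m F a z) hst
    have hb := congrArg (fun z => sympBilin m F z b) hst
    simp only [map_add, map_smul, LinearMap.add_apply, LinearMap.smul_apply,
      (sympBilin_isAlt m F).self_eq_zero, map_zero, LinearMap.zero_apply] at ha hb
    rw [sympBilin_apply, hab] at ha hb
    simpa using And.intro hb ha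
  obtain ⟨g, hg, hgv⟩ := alt_extend (sympBilin_nondegenerate m F) (sympBilin_isAlt m F)
    ![u, v] ![u', v'] (hli u v h) (hli u' v' h') (fun i j => by
      have e1 := (sympBilin_isAlt m F).neg_eq u v
      have e2 := (sympBilin_isAlt m F).neg_eq u' v'
      fin_cases i <;> fin_cases j <;>
        simp_all [(sympBilin_isAlt m F).self_eq_zero, ← sympBilin_apply])
  obtain ⟨A, hA, rfl⟩ := altTransvGroup_le m F hg
  exact ⟨A, hA, by simpa using hgv 0, by simpa using hgv 1⟩

end Cfsg.Agent.S0766
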