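import Cfsg.Statements.S0767
import Cfsg.Agent.Lib.Geometry.Symplectic

set_option autoImplicit false
open Cfsg CfsgLib.Geometry

namespace Cfsg.Agent.S0767

/-- The root group of a point: T_v(c) T_v(d) = T_v(c + d), and for A in the symplectic group with A v = a v, the conjugate A T_v(c) A⁻¹ is again some T_v(d). -/
theorem result {F : Type*} [Field F] (m : ℕ) (v : Fin m ⊕ Fin m → F) : (∀ c d : F, Cfsg.sympTransvection m v c * Cfsg.sympTransvection m v d = Cfsg.sympTransvection m v (c + d)) ∧ ∀ (A : Matrix (Fin m ⊕ Fin m) (Fin m ⊕ Fin m) F) (a : F), A ∈ Matrix.symplecticGroup (Fin m) F → A.mulVec v = a • v → ∀ c : F, ∃ d : F, A * Cfsg.sympTransvection m v c * A⁻¹ = Cfsg.sympTransvection m v d := by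
  have hvv : Cfsg.sympForm m F v v = 0 := (sympBilin_isAlt m F).self_eq_zero v
  refine ⟨fun c d => matrix_eq_of_mulVec fun x => ?_, fun A a hA hAv c => ⟨c * (a * a), ?_⟩⟩
  · rw [← Matrix.mulVec_mulVec, sympTransvection_mulVec, sympTransvection_mulVec,
      sympTransvection_mulVec]
    simp only [← sympBilin_apply, map_add, map_smul, LinearMap.add_apply, LinearMap.smul_apply,
      smul_eq_mul]
    simp only [sympBilin_apply, hvv, mul_zero, add_zero, add_assoc, ← add_smul]
    ring_nf
  · have hdet : IsUnit A.det := SymplecticGroup.symplectic_det hA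
    apply matrix_eq_of_mulVec
    intro x
    rw [← Matrix.mulVec_mulVec, ← Matrix.mulVec_mulVec, sympTransvection_mulVec,
      sympTransvection_mulVec, Matrix.mulVec_add, Matrix.mulVec_mulVec, Matrix.mul_nonsing_inv _ hdet,
      Matrix.one_mulVec, Matrix.mulVec_smul, hAv, smul_smul]
    have hf := (mem_sp_iff m F A).1 hA (A⁻¹.mulVec x) v
    rw [Matrix.mulVec_mulVec, Matrix.mul_nonsing_inv _ hdet, Matrix.one_mulVec, hAv] at hf
    rw [← hf]
    simp only [← sympBilin_apply, map_smul, smul_eq_mul]
    ring_nf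

end Cfsg.Agent.S0767
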