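import Cfsg.Statements.S0768
import Cfsg.Agent.Lib.Geometry.Symplectic

set_option autoImplicit false
open scoped LinearAlgebra.Projectivization
open Cfsg CfsgLib.Geometry

namespace Cfsg.Agent.S0768

/-- Primitivity: for m ≥ 1 and F finite, the symplectic group of the form sympForm (as a subgroup of the general linear group) acts primitively on the projective space of F^(2m). -/
theorem result {F : Type*} [Field F] [Finite F] (m : ℕ) (hm : 1 ≤ m) : MulAction.IsPreprimitive ↥(Cfsg.spGL m F) (ℙ F (Fin m ⊕ Fin m → F)) := by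
  classical
  let B := sympBilin m F
  have hB := sympBilin_nondegenerate m F
  have hA := sympBilin_isAlt m F
  have lift : ∀ {k : ℕ} (v w : Fin k → (Fin m ⊕ Fin m → F)), LinearIndependent F v →
      LinearIndependent F w → (∀ i j, B (v i) (v j) = B (w i) (w j)) →
      ∃ g : Cfsg.spGL m F, ∀ i, g • v i = w i := by
    intro k v w hv hw h
    obtain ⟨g, hg, hgv⟩ := alt_extend hB hA v w hv hw h
    refine ⟨⟨glEquiv.symm g, fun a b => ?_⟩, fun i => ?_⟩
    · show Cfsg.sympForm m F _ _ = _
      rw [Units.coeHom_apply, glEquiv_symm_mulVec, glEquiv_symm_mulVec]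
      exact altTransvGroup_preserves hA hg a b
    · show (glEquiv.symm g : Matrix.GeneralLinearGroup _ F) • v i = w i
      rw [← hgv i, ← glEquiv_symm_mulVec g (v i)]
      rfl
  have pres : ∀ (g : Cfsg.spGL m F) (a b : Fin m ⊕ Fin m → F), B (g • a) (g • b) = B a b :=
    fun g a b => g.2 a b
  have smk : ∀ (g : Cfsg.spGL m F) (v : Fin m ⊕ Fin m → F) (hv : v ≠ 0),
      g • Projectivization.mk F v hv = Projectivization.mk F (g • v) ((smul_ne_zero_iff_ne g).2 hv) :=
    fun g v hv => rfl
  haveI : MulAction.IsPretransitive (Cfsg.spGL m F) (ℙ F (Fin m ⊕ Fin m → F)) := by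
    refine ⟨fun p r => ?_⟩
    obtain ⟨g, hg⟩ := lift ![p.rep] ![r.rep] (LinearIndependent.of_subsingleton 0 p.rep_nonzero)
      (LinearIndependent.of_subsingleton 0 r.rep_nonzero) (fun i j => by
        fin_cases i; fin_cases j; simp [B, hA.self_eq_zero])
    refine ⟨g, ?_⟩
    have h0 : g • p.rep = r.rep := by simpa using hg 0
    conv_rhs => rw [← r.mk_rep]
    conv_lhs => rw [← p.mk_rep, smk]
    simp only [h0]
  refine ⟨fun {S} hS => ?_⟩
  by_cases hsub : S.Subsingleton
  · exact Or.inl hsub
  right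
  -- two distinct points of the block
  obtain ⟨p, hp, r, hr, hpr⟩ := Set.not_subsingleton_iff.1 hsub
  have closed : ∀ (a b c : ℙ F (Fin m ⊕ Fin m → F)), a ∈ S → b ∈ S → b ≠ a → c ≠ a →
      (B a.rep b.rep = 0 ↔ B a.rep c.rep = 0) → c ∈ S := by
    intro a b c ha hb hba hca hiff
    have hli : ∀ x, x ≠ a → LinearIndependent F ![a.rep, x.rep] := fun x hx =>
      (linearIndependent_fin2).2 ⟨by simpa using x.rep_nonzero, fun t ht => hx (by
        rw [← a.mk_rep, ← x.mk_rep, Projectivization.mk_eq_mk_iff']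
        refine ⟨t⁻¹, ?_⟩
        have ht0 : t ≠ 0 := fun h => a.rep_nonzero (by simpa [h] using ht.symm)
        rw [inv_smul_eq_iff₀ ht0]
        simpa using ht.symm)⟩
    -- scale `c.rep`
    obtain ⟨t, ht0, ht⟩ : ∃ t : F, t ≠ 0 ∧ B a.rep b.rep = B a.rep (t • c.rep) := by
      by_cases h0 : B a.rep b.rep = 0
      · exact ⟨1, one_ne_zero, by rw [one_smul, h0, hiff.1 h0]⟩
      · have hc0 : B a.rep c.rep ≠ 0 := fun h => h0 (hiff.2 h)
        exact ⟨B a.rep b.rep / B a.rep c.rep, div_ne_zero h0 hc0, by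
          rw [map_smul, smul_eq_mul, div_mul_cancel₀ _ hc0]⟩
    have hli2 : LinearIndependent F ![a.rep, t • c.rep] := by
      have := (hli c hca)
      rw [linearIndependent_fin2] at this ⊢
      refine ⟨by simpa [ht0] using this.1, fun s hs => this.2 (s * t) (by simpa [smul_smul] using hs)⟩
    obtain ⟨g, hg⟩ := lift ![a.rep, b.rep] ![a.rep, t • c.rep] (hli b hba) hli2 (fun i j => by
      have e1 := hA.neg_eq a.rep b.rep
      have e2 := hA.neg_eq a.rep (t • c.rep)
      fin_cases i <;> fin_cases j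
      · simp [B, hA.self_eq_zero]
      · simpa using ht
      · show B b.rep a.rep = B (t • c.rep) a.rep
        rw [← e1, ← e2, ht]
      · simp [B, hA.self_eq_zero])
    have h0 : g • a.rep = a.rep := by simpa using hg 0
    have h1 : g • b.rep = t • c.rep := by simpa using hg 1
    have hga : g • a = a := by
      conv_lhs => rw [← a.mk_rep, smk]
      simp only [h0, a.mk_rep]
    have hgb : g • b = c := by
      conv_rhs => rw [← c.mk_rep]
      conv_lhs => rw [← b.mk_rep, smk]
      rw [Projectivization.mk_eq_mk_iff']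
      exact ⟨t, h1.symm⟩
    have := hS.smul_eq_of_mem (g := g) ha (hga.symm ▸ ha)
    rw [← this]
    exact ⟨b, hb, hgb⟩
  apply Set.eq_univ_of_forall
  intro s
  by_cases hsp : s = p
  · exact hsp ▸ hp
  by_cases hiff : B p.rep r.rep = 0 ↔ B p.rep s.rep = 0
  · exact closed p r s hp hr (Ne.symm hpr) hsp hiff
  -- find an intermediate point
  by_cases h0 : B p.rep r.rep = 0
  · have hs0 : B p.rep s.rep ≠ 0 := fun h => hiff (iff_of_true h0 h)
    have hsp0 : B s.rep p.rep ≠ 0 := fun h => hs0 (hA.isRefl _ _ h)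
    let w := r.rep - (B s.rep r.rep / B s.rep p.rep) • p.rep
    have hw0 : w ≠ 0 := fun h => hpr (by
      rw [← p.mk_rep, ← r.mk_rep, eq_comm, Projectivization.mk_eq_mk_iff']
      exact ⟨_, (sub_eq_zero.1 h).symm⟩)
    let t : ℙ F (Fin m ⊕ Fin m → F) := Projectivization.mk F w hw0
    have hpw : B p.rep w = 0 := by
      have := hA.self_eq_zero p.rep
      simp only [w, map_sub, map_smul, smul_eq_mul, h0]
      simp [B] at this ⊢
      simp [this]
    have hsw : B s.rep w = 0 := by
      simp only [w, map_sub, map_smul, smul_eq_mul]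
      field_simp; ring
    obtain ⟨u, hu⟩ := (Projectivization.mk_eq_mk_iff' F t.rep w t.rep_nonzero hw0).1 t.mk_rep
    have hpt : B p.rep t.rep = 0 := by rw [← hu, map_smul, hpw, smul_zero]
    have hst : B s.rep t.rep = 0 := by rw [← hu, map_smul, hsw, smul_zero]
    have htp : t ≠ p := fun h => hsp0 (by rw [← h]; exact hst)
    have hts : s ≠ t := fun h => hs0 (by rw [h]; exact hpt)
    have htS := closed p r t hp hr (Ne.symm hpr) htp (iff_of_true h0 hpt)
    exact closed t p s htS hp (Ne.symm htp) hts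
      (iff_of_true (hA.isRefl _ _ hpt) (hA.isRefl _ _ hst))
  · have hs0 : B p.rep s.rep = 0 := by
      by_contra h
      exact hiff (iff_of_false h0 h)
    obtain ⟨u, -, hup, hus⟩ := exists_perp₂ (σ := RingHom.id F) Function.surjective_id B hB.1 ⊥
      (x := p.rep) (y := s.rep) (by simpa using p.rep_nonzero) (by simpa using s.rep_nonzero)
    have hu0 : u ≠ 0 := fun h => hup (by simp [h])
    let t : ℙ F (Fin m ⊕ Fin m → F) := Projectivization.mk F u hu0
    obtain ⟨c, hc⟩ := (Projectivization.mk_eq_mk_iff' F t.rep u t.rep_nonzero hu0).1 t.mk_rep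
    have hc0 : c ≠ 0 := fun h => t.rep_nonzero (by rw [← hc, h, zero_smul])
    have htp' : B t.rep p.rep ≠ 0 := by rw [← hc]; simp [hc0, hup]
    have hts' : B t.rep s.rep ≠ 0 := by rw [← hc]; simp [hc0, hus]
    have htp : t ≠ p := fun h => htp' (by rw [h]; exact hA.self_eq_zero _)
    have hts : s ≠ t := fun h => hts' (by rw [h]; exact hA.self_eq_zero _)
    have htS := closed p r t hp hr (Ne.symm hpr) htp
      (iff_of_false h0 fun h => htp' (hA.isRefl _ _ h))
    exact closed t p s htS hp (Ne.symm htp) hts (iff_of_false htp' hts')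

end Cfsg.Agent.S0768
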