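import Cfsg.Statements.S0769


set_option autoImplicit false
open Cfsg

namespace Cfsg.Agent.S0769

/-- Order of the Borel subgroup of GL_n(q): the invertible lower-triangular n × n matrices over a field with q elements number q^(n(n-1)/2) (q-1)^n (unitriangular part times the diagonal torus). -/
theorem result {F : Type*} [Field F] [Fintype F] {q : ℕ} (hF : Fintype.card F = q) (n : ℕ) : Nat.card {g : Matrix.GeneralLinearGroup (Fin n) F // ∀ i j : Fin n, i < j → (g : Matrix (Fin n) (Fin n) F) i j = 0} = q ^ (n * (n - 1) / 2) * (q - 1) ^ n := by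
  classical
  let P : Fin n → Fin n → F → Prop := fun i j x => (i < j → x = 0) ∧ (i = j → x ≠ 0)
  let e : {g : Matrix.GeneralLinearGroup (Fin n) F //
      ∀ i j : Fin n, i < j → (g : Matrix (Fin n) (Fin n) F) i j = 0} ≃
      ((i : Fin n) → (j : Fin n) → {x : F // P i j x}) :=
    { toFun := fun g i j => ⟨g.1.1 i j, fun h => g.2 i j h, fun h => by
        subst h
        have hd := ((Matrix.isUnit_iff_isUnit_det _).1 g.1.isUnit).ne_zero
        rw [Matrix.det_of_isLowerTriangular _ (fun a b hab => g.2 a b hab)] at hd
        exact fun h0 => hd (Finset.prod_eq_zero (Finset.mem_univ i) h0)⟩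
      invFun := fun f => ⟨Matrix.GeneralLinearGroup.mkOfDetNeZero (Matrix.of fun i j => (f i j).1) (by
        rw [Matrix.det_of_isLowerTriangular (Matrix.of fun i j => (f i j).1) (fun a b hab => (f a b).2.1 hab)]
        exact Finset.prod_ne_zero_iff.2 fun i _ => (f i i).2.2 rfl), fun i j h => (f i j).2.1 h⟩
      left_inv := fun g => Subtype.ext (Units.ext rfl)
      right_inv := fun f => rfl }
  have hc : ∀ i j : Fin n, Nat.card {x : F // P i j x} = if i = j then q - 1 else if i < j then 1 else q := by
    intro i j
    split_ifs with h h'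
    · rw [Nat.card_congr ((Equiv.subtypeEquivRight (fun x => show P i j x ↔ x ≠ 0 from
        ⟨fun hx => hx.2 h, fun hx => ⟨fun hl => absurd h hl.ne, fun _ => hx⟩⟩)).trans unitsEquivNeZero.symm)]
      rw [Nat.card_units, Nat.card_eq_fintype_card, hF]
    · have : Unique {x : F // P i j x} :=
        ⟨⟨⟨0, fun _ => rfl, fun he => absurd he h⟩⟩, fun x => Subtype.ext (x.2.1 h')⟩
      exact Nat.card_unique
    · rw [Nat.card_congr (Equiv.subtypeUnivEquiv (p := P i j) fun x => ⟨fun hl => absurd hl h', fun he => absurd he h⟩),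
        Nat.card_eq_fintype_card, hF]
  have hrow : ∀ i : Fin n, (∏ j, if i = j then q - 1 else if i < j then 1 else q) = q ^ (i : ℕ) * (q - 1) := by
    intro i
    rw [← Finset.mul_prod_erase Finset.univ _ (Finset.mem_univ i), if_pos rfl, mul_comm]
    congr 1
    rw [Finset.prod_congr rfl (g := fun j => if i < j then 1 else q) (fun j hj => if_neg (Finset.ne_of_mem_erase hj).symm),
      Finset.prod_ite, Finset.prod_const_one, one_mul, Finset.prod_const]
    congr 1
    rw [← Fin.card_Iio i]
    congr 1
    ext j
    simp only [Finset.mem_filter, Finset.mem_erase, Finset.mem_Iio, Finset.mem_univ, and_true, not_lt]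
    omega
  rw [Nat.card_congr e, Nat.card_pi]
  simp only [Nat.card_pi, hc, hrow]
  rw [Finset.prod_mul_distrib, Finset.prod_pow_eq_pow_sum, Finset.prod_const, Finset.card_univ, Fintype.card_fin,
    Fin.sum_univ_eq_sum_range (fun i => i) n, Finset.sum_range_id]

end Cfsg.Agent.S0769
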