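import Cfsg.Statements.S0770


set_option autoImplicit false
open Cfsg

namespace Cfsg.Agent.S0770

/-- For a field with at least 3 elements, an invertible matrix normalises the subgroup of invertible diagonal matrices of GL_n if and only if it is monomial (exactly one non-zero entry in each row). -/
theorem result {F : Type*} [Field F] (hF : ∃ a : F, a ≠ 0 ∧ a ≠ 1) (n : ℕ) (g : Matrix.GeneralLinearGroup (Fin n) F) : g ∈ Subgroup.normalizer ((Units.map (Matrix.diagonalRingHom (Fin n) F).toMonoidHom).range : Subgroup (Matrix.GeneralLinearGroup (Fin n) F)) ↔ ∀ i : Fin n, ∃! j : Fin n, (g : Matrix (Fin n) (Fin n) F) i j ≠ 0 := by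
  classical
  obtain ⟨a, ha0, ha1⟩ := hF
  let D : (Fin n → Fˣ) → Matrix.GeneralLinearGroup (Fin n) F := fun d =>
    Units.map (Matrix.diagonalRingHom (Fin n) F).toMonoidHom (MulEquiv.piUnits.symm d)
  have hD : ∀ d i j, (D d).1 i j = if i = j then (d i : F) else 0 := fun d i j => by
    show Matrix.diagonal (fun k => (d k : F)) i j = _
    exact Matrix.diagonal_apply ..
  have hrange : ∀ h, h ∈ ((Units.map (Matrix.diagonalRingHom (Fin n) F).toMonoidHom).range :
      Subgroup (Matrix.GeneralLinearGroup (Fin n) F)) ↔ ∃ d, D d = h := fun h => by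
    constructor
    · rintro ⟨u, rfl⟩
      exact ⟨MulEquiv.piUnits u, by simp [D]⟩
    · rintro ⟨d, rfl⟩
      exact ⟨_, rfl⟩
  have hcomm : ∀ d e, g * D d = D e * g ↔ ∀ i j, g.1 i j * (d j : F) = (e i : F) * g.1 i j := fun d e => by
    rw [Units.ext_iff, ← Matrix.ext_iff]
    refine forall_congr' fun i => forall_congr' fun j => ?_
    simp [Matrix.mul_apply, hD]
  have hdet := ((Matrix.isUnit_iff_isUnit_det _).1 g.isUnit).ne_zero
  constructor
  · intro hg i
    obtain ⟨j, hj⟩ : ∃ j, g.1 i j ≠ 0 := by
      by_contra h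
      push Not at h
      exact hdet (Matrix.det_eq_zero_of_row_eq_zero i h)
    refine ⟨j, hj, fun k hk => ?_⟩
    by_contra hne
    let d : Fin n → Fˣ := Function.update 1 k (Units.mk0 a ha0)
    obtain ⟨e, he⟩ := (hrange _).1 ((Subgroup.mem_normalizer_iff.1 hg _).1 ((hrange (D d)).2 ⟨d, rfl⟩))
    have h' := (hcomm d e).1 (by rw [he, inv_mul_cancel_right])
    have h1 := h' i j
    have h2 := h' i k
    simp [d, Function.update_of_ne (Ne.symm hne)] at h1 h2
    have hei : (e i : F) = 1 := mul_right_cancel₀ hj (by linear_combination -h1)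
    rw [hei, one_mul] at h2
    exact ha1 (mul_left_cancel₀ hk (by linear_combination h2))
  · intro hg
    choose π hπ huniq using fun i => hg i
    have hπinj : Function.Injective π := by
      intro i i' h
      by_contra hne
      refine hdet ?_
      have hrow : g.1 i' = (g.1 i' (π i') * (g.1 i (π i))⁻¹) • g.1 i := by
        funext j
        by_cases hj : j = π i
        · subst hj
          rw [Pi.smul_apply, smul_eq_mul, inv_mul_cancel_right₀ (hπ i), h]
        · have e1 : g.1 i j = 0 := by_contra fun h0 => hj (huniq i j h0)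
          have e2 : g.1 i' j = 0 := by_contra fun h0 => hj ((huniq i' j h0).trans h.symm)
          simp [e1, e2]
      have := Matrix.det_updateRow_smul g.1 i' (g.1 i' (π i') * (g.1 i (π i))⁻¹) (g.1 i)
      rw [← hrow, Matrix.updateRow_eq_self] at this
      rw [this, Matrix.det_zero_of_row_eq hne (by simp [Matrix.updateRow_ne hne]), mul_zero]
    let π' : Equiv.Perm (Fin n) := Equiv.ofBijective π (Finite.injective_iff_bijective.1 hπinj)
    have key : ∀ d : Fin n → Fˣ, g * D d = D (d ∘ π) * g := fun d => (hcomm d _).2 fun i j => by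
      by_cases hj : g.1 i j = 0
      · simp [hj]
      · rw [huniq i j hj, Function.comp_apply, mul_comm]
    refine Subgroup.mem_normalizer_iff.2 fun h => ⟨fun hh => ?_, fun hh => ?_⟩
    · obtain ⟨d, rfl⟩ := (hrange h).1 hh
      exact (hrange _).2 ⟨d ∘ π, by rw [key, mul_inv_cancel_right]⟩
    · obtain ⟨e, he⟩ := (hrange _).1 hh
      refine (hrange _).2 ⟨e ∘ π'.symm, ?_⟩
      have hk := key (e ∘ π'.symm)
      have hcomp : (e ∘ π'.symm) ∘ π = e := funext fun i => congrArg e (π'.symm_apply_apply i)
      rw [hcomp, he, inv_mul_cancel_right] at hk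
      exact mul_left_cancel hk

end Cfsg.Agent.S0770
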