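import Cfsg.Statements.S0774
import Cfsg.Agent.Lib.Geometry.StabCountSp

set_option autoImplicit false
open Cfsg CfsgLib.Geometry

namespace Cfsg.Agent.S0774

/-- Borel subgroup of the symplectic group: the elements of Sp_2m(q) stabilising each of the totally isotropic coordinate subspaces ⟨e_0, ..., e_k⟩ (k < m) form a subgroup of order q^(m²) (q − 1)^m. -/
theorem result {F : Type*} [Field F] [Fintype F] {q : ℕ} (hF : Fintype.card F = q) (m : ℕ) : Nat.card ↥(⨅ k : Fin m, Cfsg.stabilizing (Cfsg.spToMat m F) {v : Fin m ⊕ Fin m → F | (∀ i : Fin m, (k : ℕ) < (i : ℕ) → v (Sum.inl i) = 0) ∧ ∀ i : Fin m, v (Sum.inr i) = 0}) = q ^ (m ^ 2) * (q - 1) ^ m := by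
  have h := CfsgLib.Geometry.StabCount.card_borel (F := F) (m := m)
  rw [CfsgLib.Geometry.StabCount.card_sp_split le_rfl, hF] at h
  have hpos := CfsgLib.Geometry.StabCount.prod_tiFam_pos (F := F) (le_refl m)
  rw [hF] at hpos
  refine Nat.eq_of_mul_eq_mul_right hpos (h.trans ?_)
  rw [Finset.prod_mul_distrib, Finset.prod_const, Finset.card_univ, Fintype.card_fin, Finset.prod_pow_eq_pow_sum,
    Fin.sum_univ_eq_sum_range (fun i => i) m, Finset.sum_range_id, Nat.sub_self, Finset.prod_range_zero]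
  have he : m * (m + 1) / 2 + m * (m - 1) / 2 = m ^ 2 := by
    rcases m with _ | j
    · simp
    · obtain ⟨a, ha⟩ := Nat.even_mul_succ_self (j + 1)
      obtain ⟨b, hb⟩ := Nat.even_mul_succ_self j
      rw [ha, Nat.add_sub_cancel, show (j + 1) * j = b + b by rw [mul_comm]; exact hb]
      have : (j + 1) ^ 2 = b + a := by nlinarith
      omega
  rw [← he, pow_add]
  ring

end Cfsg.Agent.S0774
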