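import Cfsg.Statements.S0779
import Cfsg.Agent.Lib.Classical.UnitaryTransv


set_option autoImplicit false
open Cfsg

namespace Cfsg.Agent.S0779

/-- Unitary transvections: let |F| = q², h the standard Hermitian form Σ x_i y_i^q and v ≠ 0 with h(v, v) = 0. The linear map x ↦ x + c h(x, v) v is an isometry of h if and only if c = 0 or c^(q−1) = −1. -/
theorem result {F : Type*} [Field F] [Fintype F] {q : ℕ} (hF : Fintype.card F = q ^ 2) (n : ℕ) (v : Fin n → F) (hv : v ≠ 0) (hv0 : Cfsg.hermForm n F q v v = 0) (c : F) : (∀ x y : Fin n → F, Cfsg.hermForm n F q ((Cfsg.unitaryTransvection n q v c).mulVec x) ((Cfsg.unitaryTransvection n q v c).mulVec y) = Cfsg.hermForm n F q x y) ↔ (c = 0 ∨ c ^ (q - 1) = -1) := by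
  have hF' : Nat.card F = q ^ 2 := by rw [Nat.card_eq_fintype_card, hF]
  obtain ⟨σ, h⟩ := CfsgLib.Classical.Unitary.exists_uFrob hF'
  simp only [h.hermForm_eq, h.unitaryTransvection_eq]
  rw [CfsgLib.Classical.Unitary.tMat_preserves_iff h hv (by rw [← h.hermForm_eq, hv0]) c, h.pow]
  have hq : q = q - 1 + 1 := by have := CfsgLib.Classical.two_le_q hF'; omega
  constructor
  · intro hc
    rcases eq_or_ne c 0 with h0 | h0
    · exact Or.inl h0
    · refine Or.inr (mul_right_cancel₀ h0 ?_)
      rw [← pow_succ, ← hq]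
      linear_combination hc
  · rintro (rfl | hc)
    · rw [zero_pow (by omega), add_zero]
    · have hcq : c ^ q = -c := by
        calc c ^ q = c ^ (q - 1 + 1) := by rw [← hq]
          _ = -c := by rw [pow_succ, hc, neg_one_mul]
      rw [hcq, add_neg_cancel]

end Cfsg.Agent.S0779
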