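import Cfsg.Statements.S0781
import Cfsg.Agent.Lib.Classical.UnitarySimple


set_option autoImplicit false
open Cfsg

namespace Cfsg.Agent.S0781

/-- In SU_n(q) with n ≥ 4, or n = 3 and q > 2, every element whose matrix is a unitary transvection x ↦ x + c h(x, v) v (v isotropic) is a commutator ⁅B, C⁆ of two elements of SU_n(q). -/
theorem result {F : Type*} [Field F] [Fintype F] {q : ℕ} (hF : Fintype.card F = q ^ 2) (n : ℕ) (hn : 4 ≤ n ∨ (n = 3 ∧ 3 ≤ q)) (A : ↥(Cfsg.SU n F q)) (v : Fin n → F) (c : F) (hv0 : Cfsg.hermForm n F q v v = 0) (hA : ((A : Matrix.SpecialLinearGroup (Fin n) F) : Matrix (Fin n) (Fin n) F) = Cfsg.unitaryTransvection n q v c) : A ∈ commutatorSet ↥(Cfsg.SU n F q) := by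
  have hF' : Nat.card F = q ^ 2 := by rw [Nat.card_eq_fintype_card, hF]
  obtain ⟨σ, h⟩ := CfsgLib.Classical.Unitary.exists_uFrob hF'
  have h3 : 3 ≤ n := by rcases hn with hn | ⟨hn, -⟩ <;> omega
  rw [h.hermForm_eq] at hv0
  rw [h.unitaryTransvection_eq] at hA
  rcases eq_or_ne v 0 with rfl | hv
  · refine ⟨1, 1, ?_⟩
    rw [commutatorElement_self]
    exact CfsgLib.Classical.Unitary.su_ext fun x => by
      rw [CfsgLib.Classical.Unitary.su_one_mulVec, hA, CfsgLib.Classical.Unitary.tMat_mulVec, smul_zero, add_zero]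
  have hc : c + σ c = 0 := (CfsgLib.Classical.Unitary.tMat_preserves_iff h hv hv0 c).1 fun x y => by
    rw [← hA]; exact CfsgLib.Classical.Unitary.su_uh h A x y
  have : A = CfsgLib.Classical.Unitary.utv h v c hv0 hc := Subtype.ext (Subtype.ext hA)
  rw [this]
  exact CfsgLib.Classical.Unitary.utv_mem_commutatorSet hF' h h3 v c hv0 hc

end Cfsg.Agent.S0781
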