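import Cfsg.Statements.S0783
import Cfsg.Agent.Lib.Classical.UnitarySU


set_option autoImplicit false
open Cfsg

namespace Cfsg.Agent.S0783

/-- PGU_n(q)/PSU_n(q) is cyclic of order (n, q+1): for n ≥ 2 and |F| = q² there is a surjective homomorphism from GU_n(q) onto the cyclic group of order gcd(n, q + 1) whose kernel is generated by the determinant-one elements together with the centre. -/
theorem result {F : Type*} [Field F] [Fintype F] {q : ℕ} (hF : Fintype.card F = q ^ 2) (n : ℕ) (hn : 2 ≤ n) : ∃ φ : ↥(Cfsg.GU n F q) →* Multiplicative (ZMod (Nat.gcd n (q + 1))), Function.Surjective φ ∧ φ.ker = (Matrix.GeneralLinearGroup.det : Matrix.GeneralLinearGroup (Fin n) F →* Fˣ).ker.subgroupOf (Cfsg.GU n F q) ⊔ Subgroup.center ↥(Cfsg.GU n F q) := by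
  classical
  have hF' : Nat.card F = q ^ 2 := by rw [Nat.card_eq_fintype_card, hF]
  have hC : Nat.card (CfsgLib.Classical.normOne F q) = q + 1 := CfsgLib.Classical.card_normOne hF'
  set d := Nat.gcd n (q + 1) with hd
  have hdq : d ∣ q + 1 := Nat.gcd_dvd_right _ _
  let e : Multiplicative (ZMod (q + 1)) ≃* CfsgLib.Classical.normOne F q :=
    hC ▸ zmodCyclicMulEquiv (inferInstance : IsCyclic (CfsgLib.Classical.normOne F q))
  let χ : CfsgLib.Classical.normOne F q →* Multiplicative (ZMod d) :=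
    (ZMod.castHom hdq (ZMod d)).toAddMonoidHom.toMultiplicative.comp e.symm.toMonoidHom
  have hχs : Function.Surjective χ :=
    (show Function.Surjective (ZMod.castHom hdq (ZMod d)).toAddMonoidHom.toMultiplicative from
      ZMod.ringHom_surjective (ZMod.castHom hdq (ZMod d))).comp e.symm.surjective
  have hχk : ∀ x, χ x = 1 ↔ ∃ y, y ^ d = x := by
    intro x
    constructor
    · intro hx
      have h1 : ((ZMod.castHom hdq (ZMod d)) (e.symm x).toAdd) = 0 := hx
      rw [ZMod.castHom_apply, ZMod.cast_eq_val, ZMod.natCast_eq_zero_iff] at h1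
      obtain ⟨b, hb⟩ := h1
      refine ⟨e (Multiplicative.ofAdd ((b : ZMod (q + 1)))), ?_⟩
      rw [← map_pow, ← e.apply_symm_apply x, ← ofAdd_nsmul, nsmul_eq_mul, ← Nat.cast_mul, ← hb,
        ZMod.natCast_zmod_val, ofAdd_toAdd]
    · rintro ⟨y, rfl⟩
      rw [map_pow]
      exact Multiplicative.toAdd.injective (by simp)
  let ψ : Cfsg.GU n F q →* CfsgLib.Classical.normOne F q :=
    (CfsgLib.Classical.guDet n F q).codRestrict _ fun g => by
      rw [← CfsgLib.Classical.guDet_range hF' (show 1 ≤ n by omega)]; exact ⟨g, rfl⟩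
  have hψs : Function.Surjective ψ := fun u => by
    have : (u : Fˣ) ∈ (CfsgLib.Classical.guDet n F q).range := by
      rw [CfsgLib.Classical.guDet_range hF' (show 1 ≤ n by omega)]; exact u.2
    obtain ⟨g, hg⟩ := this
    exact ⟨g, Subtype.ext hg⟩
  refine ⟨χ.comp ψ, hχs.comp hψs, le_antisymm ?_ (sup_le ?_ ?_)⟩
  · intro g hg
    obtain ⟨y, hy⟩ := (hχk _).1 hg
    set z : CfsgLib.Classical.normOne F q := y ^ Nat.gcdA n (q + 1)
    have hz : z ^ n = ψ g := by
      have hy1 : y ^ ((q + 1 : ℕ) : ℤ) = 1 := by rw [zpow_natCast, ← hC, pow_card_eq_one']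
      rw [← hy, ← zpow_natCast y d, hd, Nat.gcd_eq_gcd_ab, zpow_add, zpow_mul y ((q + 1 : ℕ) : ℤ),
        hy1, one_zpow, mul_one, ← zpow_natCast, ← zpow_mul, mul_comm]
    have hz1 : ((z : Fˣ) : F) ^ (q + 1) = 1 := by
      simpa using congrArg Units.val (MonoidHom.mem_ker.1 z.2)
    let s : Matrix (Fin n) (Fin n) F := Matrix.diagonal fun _ => ((z : Fˣ) : F)
    have hs : s.det ≠ 0 := by simp [s, Matrix.det_diagonal]
    let S : Matrix.GeneralLinearGroup (Fin n) F := Matrix.GeneralLinearGroup.mkOfDetNeZero s hs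
    have hS : S ∈ Cfsg.GU n F q := fun u v => by
      show Cfsg.hermForm n F q (s.mulVec u) (s.mulVec v) = _
      rw [CfsgLib.Classical.diag_mulVec_herm]
      exact Finset.sum_congr rfl fun i _ => by rw [hz1, one_mul]
    have hSc : (⟨S, hS⟩ : Cfsg.GU n F q) ∈ Subgroup.center (Cfsg.GU n F q) :=
      Subgroup.mem_center_iff.2 fun k => Subtype.ext (Units.ext (by
        show k.1.1 * s = s * k.1.1
        ext a b; simp [s, mul_comm]))
    have : g = (g * (⟨S, hS⟩ : Cfsg.GU n F q)⁻¹) * ⟨S, hS⟩ := by simp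
    rw [this]
    refine mul_mem (Subgroup.mem_sup_left ?_) (Subgroup.mem_sup_right hSc)
    show Matrix.GeneralLinearGroup.det (g.1 * S⁻¹) = 1
    rw [map_mul, map_inv, mul_inv_eq_one]
    refine (congrArg Subtype.val hz).symm.trans (Units.ext ?_)
    simp [S, s]
  · intro g hg
    refine (hχk _).2 ⟨1, ?_⟩
    rw [one_pow]
    exact Subtype.ext (show (1 : Fˣ) = _ from (Subgroup.mem_subgroupOf.1 hg).symm)
  · intro g hg
    obtain ⟨x, hx, hx1⟩ := CfsgLib.Classical.exists_normOne_sq_ne_one hF'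
    have hoff : ∀ a b, a ≠ b → g.1.1 a b = 0 := by
      intro a b hab
      let v : Fin n → F := Function.update (fun _ => 1) a x
      have hvd : (Matrix.diagonal v).det ≠ 0 := by
        rw [Matrix.det_diagonal, Finset.prod_update_of_mem (Finset.mem_univ _)]
        simp only [Finset.prod_const_one, mul_one]
        rintro rfl; simp at hx
      have hv : Matrix.GeneralLinearGroup.mkOfDetNeZero _ hvd ∈ Cfsg.GU n F q := fun u w => by
        show Cfsg.hermForm n F q ((Matrix.diagonal v).mulVec u) ((Matrix.diagonal v).mulVec w) = _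
        rw [CfsgLib.Classical.diag_mulVec_herm]
        refine Finset.sum_congr rfl fun i _ => ?_
        rcases eq_or_ne i a with rfl | hi <;> simp [v, *]
      have hm : Matrix.diagonal v * g.1.1 = g.1.1 * Matrix.diagonal v :=
        congrArg (fun k : Cfsg.GU n F q => k.1.1) (Subgroup.mem_center_iff.1 hg ⟨_, hv⟩)
      have h1 := congrFun (congrFun hm a) b
      simp [v, hab.symm] at h1
      by_contra h0; exact hx1 (by rw [(mul_eq_right₀ h0).1 h1, one_pow])
    let i₀ : Fin n := ⟨0, by omega⟩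
    have hsame : ∀ a, g.1.1 a a = g.1.1 i₀ i₀ := by
      intro b
      rcases eq_or_ne i₀ b with rfl | hab
      · rfl
      have hm : CfsgLib.Classical.signSwap F i₀ b * g.1.1 = g.1.1 * CfsgLib.Classical.signSwap F i₀ b :=
        congrArg (fun k : Cfsg.GU n F q => k.1.1) (Subgroup.mem_center_iff.1 hg
          ⟨Matrix.SpecialLinearGroup.toGL ⟨_, CfsgLib.Classical.signSwap_det hab⟩,
            fun u w => CfsgLib.Classical.signSwap_mem_SU hF' hab u w⟩)
      have h1 := congrFun (congrFun hm b) i₀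
      rw [Matrix.mul_apply, Matrix.mul_apply, Finset.sum_eq_single i₀, Finset.sum_eq_single b] at h1
      · simpa [CfsgLib.Classical.signSwap, hab.symm, eq_comm] using h1
      · intro l _ hl; simp [hoff b l hl.symm]
      · simp
      · intro l _ hl; simp [hoff l i₀ hl]
      · simp
    have hsc : g.1.1 = Matrix.diagonal fun _ => g.1.1 i₀ i₀ := by
      ext a b
      rcases eq_or_ne a b with rfl | hab
      · simp [hsame a]
      · simp [hoff a b hab, hab]
    have hdg : ((ψ g : Fˣ) : F) = g.1.1 i₀ i₀ ^ n := by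
      show g.1.1.det = _
      conv_lhs => rw [hsc]
      simp [Matrix.det_diagonal]
    have hc0 : g.1.1 i₀ i₀ ≠ 0 := fun h0 => (ψ g : Fˣ).ne_zero (by rw [hdg, h0, zero_pow (by omega)])
    have hcn : g.1.1 i₀ i₀ ^ (q + 1) = 1 := by
      have := g.2 (Pi.single i₀ 1) (Pi.single i₀ 1)
      simp only [Units.coeHom_apply] at this
      rw [hsc, CfsgLib.Classical.diag_mulVec_herm] at this
      rw [Cfsg.hermForm, Finset.sum_eq_single i₀ (fun l _ hl => by simp [hl]) (by simp),
        Finset.sum_eq_single i₀ (fun l _ hl => by simp [hl]) (by simp)] at this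
      simpa using this
    obtain ⟨m, hm⟩ : d ∣ n := Nat.gcd_dvd_left _ _
    refine (hχk _).2 ⟨⟨Units.mk0 _ hc0, MonoidHom.mem_ker.2 (Units.ext (by simpa using hcn))⟩ ^ m, ?_⟩
    rw [← pow_mul, mul_comm, ← hm]
    exact Subtype.ext (Units.ext (by simp [hdg]))

end Cfsg.Agent.S0783
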