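import Cfsg.Statements.S0784
import Cfsg.Agent.Lib.Geometry.OrthMatrix

set_option autoImplicit false
open Cfsg CfsgLib.Geometry

namespace Cfsg.Agent.S0784

/-- Reflections: if Q(v) ≠ 0 then the matrix R = 1 − Q(v)⁻¹ · v f(v, ·)ᵀ preserves Q, maps v to −v, fixes each x with f(v, x) = 0, and has determinant −1 (in characteristic two, −1 = 1 and R is the orthogonal transvection of v). -/
theorem result {F : Type*} [Field F] {n : ℕ} (Q : QuadraticForm F (Fin n → F)) (v : Fin n → F) (hv : Q v ≠ 0) : (∀ x, Q ((Cfsg.reflectionMatrix ⇑Q v).mulVec x) = Q x) ∧ (Cfsg.reflectionMatrix ⇑Q v).mulVec v = -v ∧ (∀ x, QuadraticMap.polar ⇑Q v x = 0 → (Cfsg.reflectionMatrix ⇑Q v).mulVec x = x) ∧ (Cfsg.reflectionMatrix ⇑Q v).det = -1 := by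
  have e : ∀ x, (Cfsg.reflectionMatrix ⇑Q v).mulVec x = refl Q v hv x := fun x => by
    rw [reflectionMatrix_mulVec, refl_apply]
  refine ⟨fun x => by rw [e]; exact refl_mem_orth Q v hv x, by rw [e, refl_self],
    fun x hx => by rw [e]; exact refl_eq_self Q v hv (by rw [QuadraticMap.polar_comm]; exact hx), ?_⟩
  rw [Cfsg.reflectionMatrix, ← Matrix.smul_vecMulVec, sub_eq_add_neg, ← Matrix.neg_vecMulVec,
    Matrix.vecMulVec_eq Unit, Matrix.det_one_add_replicateCol_mul_replicateRow]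
  rw [dotProduct_comm, neg_dotProduct, smul_dotProduct, dotProduct_comm, polarVec_dot, polar_self']
  rw [smul_eq_mul, mul_left_comm, inv_mul_cancel₀ hv]
  ring

end Cfsg.Agent.S0784
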