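import Cfsg.Statements.S0785
import Cfsg.Agent.Lib.Geometry.OrthMatrix

set_option autoImplicit false
open Cfsg CfsgLib.Geometry

namespace Cfsg.Agent.S0785

/-- det(I) = {±1}: for a quadratic form on F^n whose polar form is non-degenerate, every element of the isometry group has determinant 1 or −1, and as soon as Q takes a non-zero value some isometry has determinant −1. -/
theorem result {F : Type*} [Field F] {n : ℕ} (Q : QuadraticForm F (Fin n → F)) (hQ : (QuadraticMap.polarBilin Q).Nondegenerate) : (∀ g : ↥(Cfsg.isometryGroup F ⇑Q), ((g : Matrix.GeneralLinearGroup (Fin n) F) : Matrix (Fin n) (Fin n) F).det = 1 ∨ ((g : Matrix.GeneralLinearGroup (Fin n) F) : Matrix (Fin n) (Fin n) F).det = -1) ∧ ((∃ v, Q v ≠ 0) → ∃ g : ↥(Cfsg.isometryGroup F ⇑Q), ((g : Matrix.GeneralLinearGroup (Fin n) F) : Matrix (Fin n) (Fin n) F).det = -1) := by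
  refine ⟨fun g => ?_, fun ⟨v, hv⟩ => ?_⟩
  · set A := ((g : Matrix.GeneralLinearGroup (Fin n) F) : Matrix (Fin n) (Fin n) F)
    let G := LinearMap.BilinForm.toMatrix' (QuadraticMap.polarBilin Q)
    have hG : G.det ≠ 0 :=
      ((LinearMap.BilinForm.nondegenerate_toMatrix'_iff).2 hQ).det_ne_zero
    have hcomp : (QuadraticMap.polarBilin Q).compl₁₂ A.toLin' A.toLin' = QuadraticMap.polarBilin Q := by
      ext x y
      exact orth_polar (isomEquiv Q g).2 _ _
    have h : A.transpose * G * A = G := by
      have := LinearMap.BilinForm.toMatrix'_comp (QuadraticMap.polarBilin Q) A.toLin' A.toLin'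
      rw [LinearMap.toMatrix'_toLin'] at this
      rw [← this]
      exact congrArg LinearMap.BilinForm.toMatrix' hcomp
    have hd := congrArg Matrix.det h
    rw [Matrix.det_mul, Matrix.det_mul, Matrix.det_transpose] at hd
    exact mul_self_eq_one_iff.1 (mul_right_cancel₀ hG (by linear_combination hd))
  · refine ⟨(isomEquiv Q).symm ⟨refl Q v hv, refl_mem_orth Q v hv⟩, ?_⟩
    have hmat : ((((isomEquiv Q).symm ⟨refl Q v hv, refl_mem_orth Q v hv⟩) :
        Matrix.GeneralLinearGroup (Fin n) F) : Matrix (Fin n) (Fin n) F) = Cfsg.reflectionMatrix ⇑Q v :=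
      matrix_eq_of_mulVec fun x => by
        rw [isomEquiv_symm_mulVec, reflectionMatrix_mulVec, refl_apply]
    rw [hmat, Cfsg.reflectionMatrix, ← Matrix.smul_vecMulVec, sub_eq_add_neg, ← Matrix.neg_vecMulVec,
      Matrix.vecMulVec_eq Unit, Matrix.det_one_add_replicateCol_mul_replicateRow]
    rw [dotProduct_comm, neg_dotProduct, smul_dotProduct, dotProduct_comm, polarVec_dot, polar_self']
    rw [smul_eq_mul, mul_left_comm, inv_mul_cancel₀ hv]
    ring

end Cfsg.Agent.S0785
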