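import Cfsg.Statements.S0786
import Cfsg.Agent.Lib.Geometry.OrthMatrix

set_option autoImplicit false
open Cfsg CfsgLib.Geometry

namespace Cfsg.Agent.S0786

/-- Generation by reflections: if F is finite, Q is a quadratic form on F^n with non-degenerate polar form, and (|F|, n) ≠ (2, 4), then the isometry group of Q is generated by the reflections r_v, Q(v) ≠ 0. -/
theorem result {F : Type*} [Field F] [Fintype F] {n : ℕ} (Q : QuadraticForm F (Fin n → F)) (hQ : (QuadraticMap.polarBilin Q).Nondegenerate) (h : Fintype.card F ≠ 2 ∨ n ≠ 4) : Subgroup.closure {g : ↥(Cfsg.isometryGroup F ⇑Q) | ∃ v : Fin n → F, Q v ≠ 0 ∧ ((g : Matrix.GeneralLinearGroup (Fin n) F) : Matrix (Fin n) (Fin n) F) = Cfsg.reflectionMatrix ⇑Q v} = ⊤ := by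
  rw [eq_top_iff]
  intro g _
  have hn : Module.finrank F (Fin n → F) ≠ 4 ∨ ∃ a : F, a ≠ 0 ∧ a ≠ 1 := by
    rcases h with h | h
    · exact Or.inr ((finite_field_two_or F).resolve_left h)
    · exact Or.inl (by simpa using h)
  have hg : (isomEquiv Q g : (Fin n → F) ≃ₗ[F] (Fin n → F)) ∈ reflGroup Q := by
    rw [reflGroup_eq_orth hQ hn]; exact (isomEquiv Q g).2
  have hle : reflGroup Q ≤ (Subgroup.closure {g : ↥(Cfsg.isometryGroup F ⇑Q) | ∃ v : Fin n → F,
      Q v ≠ 0 ∧ ((g : Matrix.GeneralLinearGroup (Fin n) F) : Matrix (Fin n) (Fin n) F) =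
        Cfsg.reflectionMatrix ⇑Q v}).map ((orth Q).subtype.comp (isomEquiv Q).toMonoidHom) := by
    rw [MonoidHom.map_closure, reflGroup]
    refine Subgroup.closure_mono ?_
    rintro _ ⟨a, ha, rfl⟩
    refine ⟨(isomEquiv Q).symm ⟨refl Q a ha, refl_mem_orth Q a ha⟩, ⟨a, ha, ?_⟩, by simp⟩
    rw [isomEquiv_eq_refl_iff Q _ a ha]; simp
  obtain ⟨g', hg', he⟩ := hle hg
  exact ((isomEquiv Q).injective (Subtype.ext he)) ▸ hg'

end Cfsg.Agent.S0786
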