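import Cfsg.Statements.S0787
import Cfsg.Agent.Lib.Geometry.OmegaMore

set_option autoImplicit false
open Cfsg CfsgLib.Geometry

namespace Cfsg.Agent.S0787

/-- Existence and uniqueness of Ω: if F is finite, n ≥ 2, Q is a quadratic form on F^n with non-degenerate polar form and (|F|, n) ≠ (2, 4), then the group of isometries of determinant one has a unique subgroup of index 2. -/
theorem result {F : Type*} [Field F] [Fintype F] {n : ℕ} (hn : 2 ≤ n) (Q : QuadraticForm F (Fin n → F)) (hQ : (QuadraticMap.polarBilin Q).Nondegenerate) (h : Fintype.card F ≠ 2 ∨ n ≠ 4) : ∃! H : Subgroup ↥(Cfsg.specialIsometryGroup F ⇑Q), H.index = 2 := by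
  have hn' : 2 ≤ Module.finrank F (Fin n → F) := by simpa using hn
  have hF : Module.finrank F (Fin n → F) ≠ 4 ∨ ∃ a : F, a ≠ 0 ∧ a ≠ 1 := by
    rcases h with h | h
    · exact Or.inr ((finite_field_two_or F).resolve_left h)
    · exact Or.inl (by simpa using h)
  have hR := reflGroup_eq_orth hQ hF
  have hne := exists_ne_zero_of_nondegenerate Q hQ (by simp; omega)
  set K := Cfsg.specialIsometryGroup F ⇑Q with hK
  haveI hKn : K.Normal := MonoidHom.normal_ker _
  have hpair : ∀ s ∈ matRefls Q, ∀ t ∈ matRefls Q, s * t ∈ K := fun s hs t ht => by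
    show detHom ⇑Q (s * t) = 1
    rw [map_mul, detHom_refl Q s hs, detHom_refl Q t ht]
    simp
  have hidx : (Cfsg.Omega F ⇑Q).index = 2 * K.index ∧ 0 < K.index := by
    rw [index_Omega]
    by_cases h2 : (2 : F) = 0
    · haveI : CharP F 2 := CharTwo.of_one_ne_zero_of_two_eq_zero one_ne_zero h2
      rw [index_commutator_orth_even hQ hn' hR, hK, special_eq_top_of_char_two Q hR, Subgroup.index_top]
      exact ⟨rfl, one_pos⟩
    · rw [index_commutator_orth_odd hQ hn' h2 hR, hK, index_special Q h2 hR hne]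
      exact ⟨rfl, two_pos⟩
  have hle : Cfsg.Omega F ⇑Q ≤ K := Abelianization.commutator_subset_ker _
  have hrel := Subgroup.relIndex_mul_index hle
  rw [hidx.1] at hrel
  have hOK : ((Cfsg.Omega F ⇑Q).subgroupOf K).index = 2 :=
    Nat.eq_of_mul_eq_mul_right hidx.2 hrel
  refine ⟨(Cfsg.Omega F ⇑Q).subgroupOf K, hOK, fun H hH => ?_⟩
  have h1 := commutator_le_of_index_two (matRefls Q) (closure_matRefls Q hR) (matRefls_involutive Q)
    K hpair H hH
  have h2 : (Cfsg.Omega F ⇑Q).subgroupOf K ≤ H := fun x hx => by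
    obtain ⟨y, hy, hyx⟩ := h1 hx
    rwa [← Subtype.ext hyx]
  have h3 := Subgroup.relIndex_mul_index h2
  rw [hH, hOK] at h3
  have h4 : ((Cfsg.Omega F ⇑Q).subgroupOf K).relIndex H = 1 := by omega
  exact le_antisymm (Subgroup.relIndex_eq_one.1 h4) h2

end Cfsg.Agent.S0787
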