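import Cfsg.Statements.S0791
import Cfsg.Agent.Lib.Geometry.StdForms

set_option autoImplicit false
open Cfsg CfsgLib.Geometry

namespace Cfsg.Agent.S0791

/-- −1 ∈ Ω⁻_2m(q) iff q^m ≡ −1 (mod 4), for q odd and m ≥ 1; for the minus-type form quadFormMinus (m−1) with anisotropic binary part. -/
theorem result {F : Type*} [Field F] [Fintype F] {q : ℕ} (hF : Fintype.card F = q) (hodd : Odd q) (m : ℕ) (hm : 1 ≤ m) (a b : F) (hab : ∀ z₁ z₂ : F, z₁ ^ 2 + a * z₁ * z₂ + b * z₂ ^ 2 = 0 → z₁ = 0 ∧ z₂ = 0) : (∃ g : ↥(Cfsg.isometryGroup F (Cfsg.quadFormMinus (m - 1) F a b)), g ∈ Cfsg.Omega F (Cfsg.quadFormMinus (m - 1) F a b) ∧ ((g : Matrix.GeneralLinearGroup ((Fin (m - 1) ⊕ Fin (m - 1)) ⊕ Fin 2) F) : Matrix ((Fin (m - 1) ⊕ Fin (m - 1)) ⊕ Fin 2) ((Fin (m - 1) ⊕ Fin (m - 1)) ⊕ Fin 2) F) = -1) ↔ q ^ m % 4 = 3 := by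
  have h2 := two_ne_zero_of_odd_card hF hodd
  haveI : Finite F := inferInstance
  obtain ⟨k, rfl⟩ : ∃ k, m = k + 1 := ⟨m - 1, by omega⟩
  show (∃ g : ↥(Cfsg.isometryGroup F (Cfsg.quadFormMinus k F a b)), g ∈ Cfsg.Omega F (Cfsg.quadFormMinus k F a b) ∧ _) ↔ _
  have hN : ¬ IsSquare (a * a - 4 * b) := by
    rintro ⟨t, ht⟩
    refine one_ne_zero (hab ((-a + t) / 2) 1 ?_).2
    field_simp
    linear_combination (-1 : F) * ht
  have hN' : a * a - 4 * b ≠ 0 := fun h => hN (h ▸ IsSquare.zero)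
  have h : ((minusMat k F a b) + (minusMat k F a b).transpose).det ≠ 0 := by
    rw [det_minus_gram]
    exact mul_ne_zero (pow_ne_zero _ (neg_ne_zero.2 one_ne_zero))
      (fun h => hN' (by linear_combination -h))
  have key := neg_one_mem_Omega_iff h2 (by simp [Even]; exact ⟨k + 1, by omega⟩) (by simp) h
  rw [coe_matQuad_minus, det_minus_gram] at key
  refine key.trans ?_
  rw [show (-1 : F) ^ k * (4 * b - a * a) = (-1) ^ (k + 1) * (a * a - 4 * b) by ring]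
  classical
  have hpne : (-1 : F) ^ (k + 1) ≠ 0 := pow_ne_zero _ (neg_ne_zero.2 one_ne_zero)
  have : IsSquare ((-1 : F) ^ (k + 1) * (a * a - 4 * b)) ↔ ¬ IsSquare ((-1 : F) ^ (k + 1)) := by
    rw [← quadraticChar_one_iff_isSquare (mul_ne_zero hpne hN'), map_mul,
      quadraticChar_neg_one_iff_not_isSquare.2 hN, ← quadraticChar_neg_one_iff_not_isSquare]
    omega
  rw [this, isSquare_neg_one_pow_iff hF hodd]
  have hq4 : q ^ (k + 1) % 4 = 1 ∨ q ^ (k + 1) % 4 = 3 := by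
    have : q ^ (k + 1) % 2 = 1 := Nat.odd_iff.1 hodd.pow
    omega
  omega

end Cfsg.Agent.S0791
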