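import Cfsg.Statements.S0792
import Cfsg.Agent.Lib.Geometry.OmegaMore

set_option autoImplicit false
open Cfsg CfsgLib.Geometry

namespace Cfsg.Agent.S0792

/-- For q odd and Q with non-degenerate polar form on F^n, the determinant-one isometries form the subgroup generated by all products r_u r_v of two reflections (Q(u), Q(v) ≠ 0). -/
theorem result {F : Type*} [Field F] [Fintype F] (h2 : (2 : F) ≠ 0) {n : ℕ} (Q : QuadraticForm F (Fin n → F)) (hQ : (QuadraticMap.polarBilin Q).Nondegenerate) : Cfsg.specialIsometryGroup F ⇑Q = Subgroup.closure {g : ↥(Cfsg.isometryGroup F ⇑Q) | ∃ u v : Fin n → F, Q u ≠ 0 ∧ Q v ≠ 0 ∧ ((g : Matrix.GeneralLinearGroup (Fin n) F) : Matrix (Fin n) (Fin n) F) = Cfsg.reflectionMatrix ⇑Q u * Cfsg.reflectionMatrix ⇑Q v} := by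
  have hR := reflGroup_eq_orth hQ (Or.inr ⟨-1, neg_ne_zero.2 one_ne_zero,
    fun h => h2 (by linear_combination (-1 : F) * h)⟩)
  rw [show Cfsg.specialIsometryGroup F ⇑Q = (detHom ⇑Q).ker from rfl,
    ker_eq_closure_pairs (matRefls Q) (closure_matRefls Q hR) (matRefls_involutive Q) (detHom ⇑Q) (-1)
      (fun h => h2 (by
        have := congrArg Units.val h
        simp only [Units.val_neg, Units.val_one] at this
        linear_combination (-1 : F) * this)) (detHom_refl Q)]
  congr 1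
  ext g
  constructor
  · rintro ⟨s, ⟨u, hu, hs⟩, t, ⟨v, hv, ht⟩, rfl⟩
    exact ⟨u, v, hu, hv, by simp [hs, ht]⟩
  · rintro ⟨u, v, hu, hv, h⟩
    have hm : ∀ w (hw : Q w ≠ 0), ((((isomEquiv Q).symm (oRefl Q w hw)) :
        Matrix.GeneralLinearGroup (Fin n) F) : Matrix (Fin n) (Fin n) F) = Cfsg.reflectionMatrix ⇑Q w :=
      fun w hw => matrix_eq_of_mulVec fun x => by
        rw [isomEquiv_symm_mulVec, reflectionMatrix_mulVec, oRefl, refl_apply]
    refine ⟨_, ⟨u, hu, hm u hu⟩, _, ⟨v, hv, hm v hv⟩, ?_⟩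
    refine Subtype.ext (Units.ext ?_)
    rw [h, Subgroup.coe_mul, Units.val_mul, hm, hm]

end Cfsg.Agent.S0792
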