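import Cfsg.Statements.S0793
import Cfsg.Agent.Lib.Geometry.OrthMatrix

set_option autoImplicit false
open Cfsg CfsgLib.Geometry

namespace Cfsg.Agent.S0793

/-- Root elements: if Q(u) = Q(v) = 0 and f(u, v) = 0 (f the polar form), then for every c the Siegel matrix T_(u,v)(c) preserves Q, fixes u and v, and T(c) T(d) = T(c + d). -/
theorem result {F : Type*} [Field F] {n : ℕ} (Q : QuadraticForm F (Fin n → F)) (u v : Fin n → F) (hu : Q u = 0) (hv : Q v = 0) (huv : QuadraticMap.polar ⇑Q u v = 0) : (∀ c x, Q ((Cfsg.siegelMatrix ⇑Q u v c).mulVec x) = Q x) ∧ (∀ c, (Cfsg.siegelMatrix ⇑Q u v c).mulVec u = u ∧ (Cfsg.siegelMatrix ⇑Q u v c).mulVec v = v) ∧ ∀ c d, Cfsg.siegelMatrix ⇑Q u v c * Cfsg.siegelMatrix ⇑Q u v d = Cfsg.siegelMatrix ⇑Q u v (c + d) := by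
  have hz : ∀ c : F, QuadraticMap.polar Q u (c • v) = 0 := fun c => by
    rw [polar_smul_right', huv, mul_zero]
  refine ⟨fun c x => ?_, fun c => ⟨?_, ?_⟩, fun c d => matrix_eq_of_mulVec fun x => ?_⟩
  · rw [siegelMatrix_mulVec_eq Q u v c hu hv huv]
    exact siegel_mem_orth Q u (c • v) hu (hz c) x
  · rw [siegelMatrix_mulVec_eq Q u v c hu hv huv]
    exact siegel_eq_self Q _ _ hu (hz c) (by rw [polar_self', hu, mul_zero]) (hz c)
  · rw [siegelMatrix_mulVec_eq Q u v c hu hv huv]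
    exact siegel_eq_self Q _ _ hu (hz c) (by rw [QuadraticMap.polar_comm]; exact huv)
      (by rw [polar_smul_right', polar_self', hv, mul_zero, mul_zero])
  · rw [← Matrix.mulVec_mulVec, siegelMatrix_mulVec_eq Q u v c hu hv huv,
      siegelMatrix_mulVec_eq Q u v d hu hv huv, siegelMatrix_mulVec_eq Q u v (c + d) hu hv huv]
    show siegelMap Q u (c • v) (siegelMap Q u (d • v) x) = siegelMap Q u ((c + d) • v) x
    rw [siegelMap_comp Q hu (hz c) (hz d), add_smul]

end Cfsg.Agent.S0793
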