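import Cfsg.Statements.S0794
import Cfsg.Agent.Lib.Geometry.OrthMatrix
import Cfsg.Agent.Lib.Geometry.OmegaGen

set_option autoImplicit false
open Cfsg CfsgLib.Geometry

namespace Cfsg.Agent.S0794

/-- For q odd, n ≥ 5 and Q with non-degenerate polar form: an isometry whose matrix is a Siegel transformation T_(u,v)(c) (u, v singular and orthogonal) is a commutator in the isometry group, so lies in Ω. -/
theorem result {F : Type*} [Field F] [Fintype F] (h2 : (2 : F) ≠ 0) {n : ℕ} (hn : 5 ≤ n) (Q : QuadraticForm F (Fin n → F)) (hQ : (QuadraticMap.polarBilin Q).Nondegenerate) (u v : Fin n → F) (hu : Q u = 0) (hv : Q v = 0) (huv : QuadraticMap.polar ⇑Q u v = 0) (c : F) (g : ↥(Cfsg.isometryGroup F ⇑Q)) (hg : ((g : Matrix.GeneralLinearGroup (Fin n) F) : Matrix (Fin n) (Fin n) F) = Cfsg.siegelMatrix ⇑Q u v c) : g ∈ commutatorSet ↥(Cfsg.isometryGroup F ⇑Q) ∧ g ∈ Cfsg.Omega F ⇑Q := by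
  have huc : QuadraticMap.polar Q u (c • v) = 0 := by rw [polar_smul_right', huv, mul_zero]
  have hgs : (isomEquiv Q g : (Fin n → F) ≃ₗ[F] (Fin n → F)) = siegel Q u (c • v) hu huc :=
    LinearEquiv.ext fun x => by rw [isomEquiv_apply, hg, siegelMatrix_mulVec_eq Q u v c hu hv huv]
  have key : g ∈ commutatorSet ↥(Cfsg.isometryGroup F ⇑Q) := by
    suffices gen : ∀ (w : Fin n → F) (hQw : Q w = 0) (huc : QuadraticMap.polar Q u w = 0),
        (isomEquiv Q g : (Fin n → F) ≃ₗ[F] (Fin n → F)) = siegel Q u w hu huc →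
        g ∈ commutatorSet ↥(Cfsg.isometryGroup F ⇑Q) from
      gen (c • v) (by rw [map_smul', hv, mul_zero]) huc hgs
    clear hgs huc
    intro w hQw huc hgs
    by_cases hdep : w ∈ Submodule.span F {u} ∨ u = 0
    · have h1 : g = 1 := by
        apply (isomEquiv Q).injective
        refine Subtype.ext ?_
        rw [hgs, map_one]
        refine LinearEquiv.ext fun x => ?_
        rw [siegel_apply]
        show _ = x
        rcases hdep with h | h
        · obtain ⟨t, ht⟩ := Submodule.mem_span_singleton.1 h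
          rw [← ht, map_smul', hu, polar_smul_right']; module
        · subst h; simp [QuadraticMap.polar_zero_right]
      exact ⟨1, 1, by rw [h1, commutatorElement_one_left]⟩
    push Not at hdep
    obtain ⟨hwu, hu0⟩ := hdep
    let w₂ := (-(2 : F)⁻¹) • w
    have hw₂ : Q w₂ = 0 := by rw [map_smul', hQw, mul_zero]
    have huw₂ : QuadraticMap.polar Q u w₂ = 0 := by rw [polar_smul_right', huc, mul_zero]
    have hli : ∀ t : F, t ≠ 0 → LinearIndependent F ![t • u, w₂] := fun t ht => by
      rw [LinearIndependent.pair_iff]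
      intro a b hab
      have hb : b = 0 := by
        by_contra hb
        refine hwu (Submodule.mem_span_singleton.2 ⟨(b * (2 : F)⁻¹)⁻¹ * (a * t), ?_⟩)
        have h' : (a * t) • u = (b * (2 : F)⁻¹) • w := by
          simp only [w₂, smul_smul] at hab
          rw [mul_neg, neg_smul, add_neg_eq_zero] at hab
          exact hab
        rw [mul_smul, h', smul_smul, inv_mul_cancel₀ (mul_ne_zero hb (inv_ne_zero h2)), one_smul]
      refine ⟨?_, hb⟩
      rw [hb, zero_smul, add_zero, smul_smul, smul_eq_zero] at hab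
      exact (mul_eq_zero.1 (hab.resolve_right hu0)).resolve_right ht
    have h1 := hli 1 one_ne_zero
    rw [one_smul] at h1
    obtain ⟨r, hr, hrv⟩ := quad_extend hQ ![u, w₂] ![(-1 : F) • u, w₂] h1
      (hli (-1) (neg_ne_zero.2 one_ne_zero))
      (fun i => by fin_cases i <;> simp [hu])
      (fun i j => by
        fin_cases i <;> fin_cases j <;>
          simp [QuadraticMap.polar_neg_left, QuadraticMap.polar_neg_right, huw₂,
            QuadraticMap.polar_comm Q w₂ u])
    have hru : r u = (-1 : F) • u := by simpa using hrv 0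
    have hrw : r w₂ = w₂ := by simpa using hrv 1
    let E : orth Q := ⟨siegel Q u w₂ hu huw₂, siegel_mem_orth Q u w₂ hu huw₂⟩
    refine ⟨(isomEquiv Q).symm ⟨r, hr⟩, (isomEquiv Q).symm E, ?_⟩
    apply (isomEquiv Q).injective
    rw [commutatorElement_def, map_mul, map_mul, map_mul, map_inv, map_inv,
      MulEquiv.apply_symm_apply, MulEquiv.apply_symm_apply]
    refine Subtype.ext ?_
    rw [hgs]
    show r * siegel Q u w₂ hu huw₂ * r⁻¹ * (siegel Q u w₂ hu huw₂)⁻¹ = _
    rw [siegel_conj hr, mul_inv_eq_iff_eq_mul, siegel_mul]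
    refine LinearEquiv.ext fun x => ?_
    rw [siegel_apply, siegel_apply]
    simp only [hru, hrw, map_add', hQw, hw₂, polar_smul_right', QuadraticMap.polar_add_right]
    simp only [w₂, polar_smul_right', polar_self', hQw, mul_zero, zero_mul, add_zero]
    match_scalars <;> field_simp <;> ring
  refine ⟨key, ?_⟩
  obtain ⟨a, b, hab⟩ := key
  rw [← hab]
  exact Subgroup.commutator_mem_commutator (Subgroup.mem_top a) (Subgroup.mem_top b)

end Cfsg.Agent.S0794
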