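import Cfsg.Statements.S0795
import Cfsg.Agent.Lib.Geometry.OrthMatrix
import Cfsg.Agent.Lib.Geometry.OmegaPerfect

set_option autoImplicit false
open Cfsg CfsgLib.Geometry

namespace Cfsg.Agent.S0795

/-- Generation of Ω by root elements: for q odd, n ≥ 5 and Q with non-degenerate polar form on F^n, the commutator subgroup of the isometry group equals the subgroup generated by the isometries whose matrices are Siegel transformations T_(u,v)(c) with u, v singular and orthogonal. -/
theorem result {F : Type*} [Field F] [Fintype F] (h2 : (2 : F) ≠ 0) {n : ℕ} (hn : 5 ≤ n) (Q : QuadraticForm F (Fin n → F)) (hQ : (QuadraticMap.polarBilin Q).Nondegenerate) : Cfsg.Omega F ⇑Q = Subgroup.closure {g : ↥(Cfsg.isometryGroup F ⇑Q) | ∃ (u v : Fin n → F) (c : F), Q u = 0 ∧ Q v = 0 ∧ QuadraticMap.polar ⇑Q u v = 0 ∧ ((g : Matrix.GeneralLinearGroup (Fin n) F) : Matrix (Fin n) (Fin n) F) = Cfsg.siegelMatrix ⇑Q u v c} := by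
  have hn4 : Module.finrank F (Fin n → F) ≠ 4 ∨ ∃ a : F, a ≠ 0 ∧ a ≠ 1 := Or.inl (by simp; omega)
  have hR := reflGroup_eq_orth hQ hn4
  have hn5 : 5 ≤ Module.finrank F (Fin n → F) := by simpa using hn
  have hC := commutator_eq_siegel hQ (by omega) (splitSingular_of hQ hn4) hR
  set T := Subgroup.closure {g : ↥(Cfsg.isometryGroup F ⇑Q) | ∃ (u v : Fin n → F) (c : F),
    Q u = 0 ∧ Q v = 0 ∧ QuadraticMap.polar ⇑Q u v = 0 ∧
    ((g : Matrix.GeneralLinearGroup (Fin n) F) : Matrix (Fin n) (Fin n) F) = Cfsg.siegelMatrix ⇑Q u v c}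
  have hT : T.map ((orth Q).subtype.comp (isomEquiv Q).toMonoidHom) = siegelGroup Q := by
    rw [siegelGroup_eq_singular hQ hn5, MonoidHom.map_closure]
    congr 1
    ext x
    constructor
    · rintro ⟨g, ⟨u, v, c, hu, hv, huv, hg⟩, rfl⟩
      refine ⟨u, c • v, hu, by rw [polar_smul_right', huv, mul_zero],
        by rw [map_smul', hv, mul_zero], ?_⟩
      exact LinearEquiv.ext fun x => by
        show (isomEquiv Q g : (Fin n → F) ≃ₗ[F] (Fin n → F)) x = _
        rw [isomEquiv_apply, hg, siegelMatrix_mulVec_eq Q u v c hu hv huv]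
    · rintro ⟨e, w, he, hw, hw0, rfl⟩
      refine ⟨(isomEquiv Q).symm ⟨siegel Q e w he hw, siegel_mem_orth Q e w he hw⟩,
        ⟨e, w, 1, he, hw0, hw, matrix_eq_of_mulVec fun x => ?_⟩, by simp⟩
      rw [isomEquiv_symm_mulVec, siegelMatrix_mulVec_eq Q e w 1 he hw0 hw]
      simp [siegel_apply]
  have hinj : Function.Injective ((orth Q).subtype.comp (isomEquiv Q).toMonoidHom) :=
    (orth Q).subtype_injective.comp (isomEquiv Q).injective
  apply Subgroup.map_injective hinj
  rw [hT, ← Subgroup.map_map,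
    show (Cfsg.Omega F ⇑Q).map (isomEquiv Q).toMonoidHom = commutator (orth Q) by
      rw [Cfsg.Omega, commutator_def, commutator_def, Subgroup.map_commutator,
        Subgroup.map_top_of_surjective _ (isomEquiv Q).surjective],
    hC, Subgroup.subgroupOf_map_subtype]
  exact inf_eq_left.2 siegelGroup_le_orth

end Cfsg.Agent.S0795
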