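import Cfsg.Statements.S0796

set_option autoImplicit false
open Cfsg

namespace Cfsg.Agent.S0796

/-- If G is finite and acts faithfully and primitively on X, H is the stabiliser of a point, A is a normal subgroup of H whose normal closure in G is G, then for every non-trivial normal subgroup K of G the quotient G ⧸ K is isomorphic to A ⧸ B for some normal subgroup B of A. -/
theorem result {G X : Type*} [Group G] [Finite G] [MulAction G X] [FaithfulSMul G X] (hprim : MulAction.IsPreprimitive G X) (x : X) (A : Subgroup G) (hA : A ≤ MulAction.stabilizer G x) (hAn : (A.subgroupOf (MulAction.stabilizer G x)).Normal) (hgen : Subgroup.normalClosure (A : Set G) = ⊤) (K : Subgroup G) [K.Normal] (hK : K ≠ ⊥) : ∃ (B : Subgroup A) (_ : B.Normal), Nonempty (G ⧸ K ≃* A ⧸ B) := by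
  haveI := hprim
  have htrans : MulAction.IsPretransitive G X := inferInstance
  by_cases hX : Subsingleton X
  · have hG : Subsingleton G := ⟨fun a b => FaithfulSMul.eq_of_smul_eq_smul fun y : X => Subsingleton.elim _ _⟩
    exact absurd (Subsingleton.elim K ⊥) hK
  have hnt : Nontrivial X := not_subsingleton_iff_nontrivial.1 hX
  have hmax : IsCoatom (MulAction.stabilizer G x) := (MulAction.isCoatom_stabilizer_iff_preprimitive G x).2 hprim
  have hKx : ¬ K ≤ MulAction.stabilizer G x := by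
    intro hle
    apply hK
    rw [eq_bot_iff]
    intro k hk
    apply Subgroup.mem_bot.2
    apply FaithfulSMul.eq_of_smul_eq_smul (α := X)
    intro y
    obtain ⟨g, rfl⟩ := MulAction.exists_smul_eq G x y
    have hc : g⁻¹ * k * g⁻¹⁻¹ ∈ K := Subgroup.Normal.conj_mem inferInstance k hk g⁻¹
    have := MulAction.mem_stabilizer_iff.1 (hle hc)
    rw [inv_inv, mul_smul, mul_smul, inv_smul_eq_iff] at this
    simpa using this
  have htop : MulAction.stabilizer G x ⊔ K = ⊤ :=
    hmax.2 _ (lt_of_le_of_ne le_sup_left fun h => hKx (h ▸ le_sup_right))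
  have hAK : A ⊔ K = ⊤ := by
    rw [eq_top_iff, ← hgen]
    refine @Subgroup.normalClosure_le_normal _ _ _ _ ⟨fun a ha g => ?_⟩ (SetLike.coe_subset_coe.2 le_sup_left)
    have hg : g ∈ MulAction.stabilizer G x ⊔ K := htop ▸ Subgroup.mem_top g
    obtain ⟨s, hs, k, hk, rfl⟩ := Subgroup.mem_sup_of_normal_right.1 hg
    obtain ⟨a', ha', k', hk', rfl⟩ := Subgroup.mem_sup_of_normal_right.1 ha
    have h1 : k * (a' * k') * k⁻¹ ∈ A ⊔ K :=
      (A ⊔ K).mul_mem ((A ⊔ K).mul_mem (le_sup_right (a := A) hk) ha) ((A ⊔ K).inv_mem (le_sup_right (a := A) hk))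
    obtain ⟨a₂, ha₂, k₂, hk₂, h2⟩ := Subgroup.mem_sup_of_normal_right.1 h1
    rw [show s * k * (a' * k') * (s * k)⁻¹ = (s * a₂ * s⁻¹) * (s * k₂ * s⁻¹) by
      rw [show s * k * (a' * k') * (s * k)⁻¹ = s * (k * (a' * k') * k⁻¹) * s⁻¹ by group, ← h2]
      group]
    refine Subgroup.mul_mem_sup ?_ (Subgroup.Normal.conj_mem inferInstance k₂ hk₂ s)
    have := hAn.conj_mem ⟨a₂, hA ha₂⟩ (Subgroup.mem_subgroupOf.2 ha₂) ⟨s, hs⟩
    simpa [Subgroup.mem_subgroupOf] using this
  let f : A →* G ⧸ K := (QuotientGroup.mk' K).comp A.subtype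
  have hf : Function.Surjective f := by
    intro z
    obtain ⟨g, rfl⟩ := QuotientGroup.mk'_surjective K z
    obtain ⟨a, ha, k, hk, rfl⟩ := Subgroup.mem_sup_of_normal_right.1 (hAK ▸ Subgroup.mem_top g)
    refine ⟨⟨a, ha⟩, ?_⟩
    simp [f, (QuotientGroup.eq_one_iff k).2 hk]
  exact ⟨f.ker, inferInstance, ⟨(QuotientGroup.quotientKerEquivOfSurjective f hf).symm⟩⟩

end Cfsg.Agent.S0796
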