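import Cfsg.Statements.S0797
import Cfsg.Agent.Lib.Geometry.OmegaMore

set_option autoImplicit false
open Cfsg CfsgLib.Geometry

namespace Cfsg.Agent.S0797

/-- O^ε_2m(q) ≅ Ω.2² for q odd: if F is finite of odd characteristic, n ≥ 2 is even and Q has non-degenerate polar form on F^n, the isometry group of Q has exactly three subgroups of index 2. -/
theorem result {F : Type*} [Field F] [Fintype F] (h2 : (2 : F) ≠ 0) {n : ℕ} (hn : 2 ≤ n) (heven : Even n) (Q : QuadraticForm F (Fin n → F)) (hQ : (QuadraticMap.polarBilin Q).Nondegenerate) : Nat.card {H : Subgroup ↥(Cfsg.isometryGroup F ⇑Q) // H.index = 2} = 3 := by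
  have hn' : 2 ≤ Module.finrank F (Fin n → F) := by simpa using hn
  have hR := reflGroup_eq_orth hQ (Or.inr ⟨-1, neg_ne_zero.2 one_ne_zero,
    fun h => h2 (by linear_combination (-1 : F) * h)⟩)
  haveI := heven
  let φ := (orthInvariant hQ hR).comp (isomEquiv Q).toMonoidHom
  have hφ : Function.Surjective φ :=
    (orthInvariant_surjective hQ hn' h2 hR).comp (isomEquiv Q).surjective
  let A := SqClass F × Multiplicative (ZMod 2)
  have hker : φ.ker = commutator ↥(Cfsg.isometryGroup F ⇑Q) := by
    refine le_antisymm (fun g hg => ?_) (Abelianization.commutator_subset_ker _)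
    have hg' : isomEquiv Q g ∈ commutator (orth Q) := by
      rw [← ker_orthInvariant hQ hn' h2 hR]; exact hg
    rw [commutator_def, ← Subgroup.map_top_of_surjective (isomEquiv Q).toMonoidHom
      (isomEquiv Q).surjective, ← Subgroup.map_commutator] at hg'
    obtain ⟨g', hg', he⟩ := hg'
    rw [commutator_def]
    exact (isomEquiv Q).injective he ▸ hg'
  let e : {H : Subgroup ↥(Cfsg.isometryGroup F ⇑Q) // H.index = 2} ≃ {H : Subgroup A // H.index = 2} :=
    { toFun := fun H => ⟨H.1.map φ, by
        rw [Subgroup.index_map_eq _ hφ, H.2]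
        haveI : H.1.Normal := Subgroup.normal_of_index_eq_two H.2
        rw [hker, commutator_def, Subgroup.commutator_le]
        intro a _ b _
        have key : ∀ a b, a * b * a⁻¹ * b⁻¹ ∈ H.1 := fun a b => by
          rw [Subgroup.mul_mem_iff_of_index_two H.2, Subgroup.mul_mem_iff_of_index_two H.2,
            Subgroup.mul_mem_iff_of_index_two H.2, inv_mem_iff, inv_mem_iff]
          tauto
        exact key a b⟩
      invFun := fun H => ⟨H.1.comap φ, by rw [Subgroup.index_comap_of_surjective _ hφ, H.2]⟩
      left_inv := fun H => by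
        apply Subtype.ext
        show (H.1.map φ).comap φ = H.1
        rw [Subgroup.comap_map_eq, hker, sup_eq_left, commutator_def, Subgroup.commutator_le]
        intro a _ b _
        show a * b * a⁻¹ * b⁻¹ ∈ H.1
        rw [Subgroup.mul_mem_iff_of_index_two H.2, Subgroup.mul_mem_iff_of_index_two H.2,
          Subgroup.mul_mem_iff_of_index_two H.2, inv_mem_iff, inv_mem_iff]
        tauto
      right_inv := fun H => Subtype.ext (Subgroup.map_comap_eq_self_of_surjective hφ _) }
  rw [Nat.card_congr e]
  obtain ⟨a, b, hab, hall⟩ := Nat.card_eq_two_iff.1 (card_sqClass (F := F) h2)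
  have hS : ∃ s : SqClass F, s ≠ 1 ∧ ∀ t, t = 1 ∨ t = s := by
    have h : ∀ z : SqClass F, z = a ∨ z = b := fun z => by
      have : z ∈ ({a, b} : Set (SqClass F)) := hall.symm ▸ trivial
      exact this
    rcases h 1 with h1 | h1
    · exact ⟨b, h1 ▸ hab.symm, fun t => h1 ▸ h t⟩
    · exact ⟨a, h1 ▸ hab, fun t => (h t).symm.imp (·.trans h1.symm) id⟩
  obtain ⟨s, hs, hst⟩ := hS
  have hd : ∀ d : Multiplicative (ZMod 2), d = 1 ∨ d = Multiplicative.ofAdd 1 := by decide
  have hd1 : (Multiplicative.ofAdd (1 : ZMod 2)) ≠ 1 := by decide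
  set w : Multiplicative (ZMod 2) := Multiplicative.ofAdd 1
  have hw : w * w = 1 := (hd _).resolve_right (fun h => hd1 (by simpa using h))
  have hss : s * s = 1 := sqClass_mul_self s
  let f : Multiplicative (ZMod 2) × Multiplicative (ZMod 2) → A := fun p =>
    (if p.1 = 1 then 1 else s, p.2)
  have hcardA : Nat.card A = 4 := by
    show Nat.card (SqClass F × Multiplicative (ZMod 2)) = 4
    rw [Nat.card_prod, card_sqClass h2]
    simp
  haveI : Finite A := Nat.finite_of_card_ne_zero (by omega)
  have hcard : ∀ H : Subgroup A, H.index = 2 → Nat.card H = 2 := fun H hH => by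
    have := H.card_mul_index
    rw [hH, hcardA] at this
    omega
  let cand : Fin 3 → A := ![(s, 1), (1, w), (s, w)]
  have hcand : ∀ i, cand i ≠ 1 := fun i => by
    fin_cases i <;> simp [cand, A, Prod.ext_iff, hs, hd1]
  have hinj : Function.Injective cand := fun i j h => by
    fin_cases i <;> fin_cases j <;> first | rfl | (simp [cand, A, Prod.ext_iff, hs, Ne.symm hs, hd1, Ne.symm hd1] at h)
  have hord : ∀ i, orderOf (cand i) = 2 := fun i => by
    refine orderOf_eq_prime ?_ (hcand i)
    fin_cases i <;> simp [cand, A, Prod.ext_iff, pow_two, hss, hw]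
  rw [show (3 : ℕ) = Nat.card (Fin 3) by simp]
  refine (Nat.card_congr (Equiv.ofBijective (fun i => (⟨Subgroup.zpowers (cand i), by
      have := (Subgroup.zpowers (cand i)).card_mul_index
      rw [Nat.card_zpowers, hord, hcardA] at this
      omega⟩ : {H : Subgroup A // H.index = 2})) ⟨fun i j h => hinj ?_, fun H => ?_⟩)).symm
  · have h' : cand i ∈ Subgroup.zpowers (cand j) := by
      have := congrArg Subtype.val h
      simp only at this
      rw [← this]; exact Subgroup.mem_zpowers _
    obtain ⟨k, hk⟩ := Subgroup.mem_zpowers_iff.1 h'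
    have hpow := zpow_mod_orderOf (cand j) k
    rw [hord] at hpow
    rcases Int.emod_two_eq_zero_or_one k with h0 | h0
    · rw [Nat.cast_ofNat, h0, zpow_zero, hk] at hpow
      exact absurd hpow.symm (hcand i)
    · rw [Nat.cast_ofNat, h0, zpow_one, hk] at hpow
      exact hpow.symm
  · obtain ⟨x, hxH, hx1⟩ : ∃ x ∈ H.1, x ≠ 1 := by
      by_contra hc
      push Not at hc
      have := hcard H.1 H.2
      rw [(Subgroup.eq_bot_iff_forall _).2 hc] at this
      simp at this
    obtain ⟨i, rfl⟩ : ∃ i, cand i = x := by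
      obtain ⟨x1, x2⟩ := x
      rcases hst x1 with rfl | rfl <;> rcases hd x2 with rfl | rfl
      · exact absurd rfl hx1
      · exact ⟨1, rfl⟩
      · exact ⟨0, rfl⟩
      · exact ⟨2, rfl⟩
    refine ⟨i, Subtype.ext (Subgroup.eq_of_le_of_card_ge (Subgroup.zpowers_le.2 hxH) ?_)⟩
    rw [hcard H.1 H.2, Nat.card_zpowers, hord]

end Cfsg.Agent.S0797
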