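import Cfsg.Statements.S0798
import Cfsg.Agent.Lib.Geometry.ReflClass
import Cfsg.Agent.Lib.Geometry.OrthMatrix

set_option autoImplicit false
open Cfsg CfsgLib.Geometry

namespace Cfsg.Agent.S0798

/-- For q odd, n ≥ 2 even, Q with non-degenerate polar form (n, |F|) ≠ (4, 3), and a fixed c ≠ 0: the subgroup of the isometry group generated by the reflections r_v with Q(v) ∈ c·(F^×)² has index 2. -/
theorem result {F : Type*} [Field F] [Fintype F] (h2 : (2 : F) ≠ 0) {n : ℕ} (hn : 2 ≤ n) (heven : Even n) (Q : QuadraticForm F (Fin n → F)) (hQ : (QuadraticMap.polarBilin Q).Nondegenerate) (h43 : ¬ (n = 4 ∧ Fintype.card F = 3)) (c : F) (hc : c ≠ 0) : (Subgroup.closure {g : ↥(Cfsg.isometryGroup F ⇑Q) | ∃ (v : Fin n → F) (t : F), t ≠ 0 ∧ Q v = c * t ^ 2 ∧ ((g : Matrix.GeneralLinearGroup (Fin n) F) : Matrix (Fin n) (Fin n) F) = Cfsg.reflectionMatrix ⇑Q v}).index = 2 := by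
  have hn' : Module.finrank F (Fin n → F) = n := Module.finrank_fin_fun F
  have hbig : Module.finrank F (Fin n → F) = 2 ∨ 5 ≤ Module.finrank F (Fin n → F) ∨
      (4 ≤ Module.finrank F (Fin n → F) ∧ 5 ≤ Nat.card F) := by
    rw [hn']
    obtain ⟨r, hr⟩ := heven
    rcases eq_or_ne n 4 with rfl | h4
    · have h3 : Fintype.card F ≠ 3 := fun h => h43 ⟨rfl, h⟩
      have hodd : Fintype.card F % 2 = 1 := FiniteField.odd_card_of_char_ne_two fun h' => h2 (by
        haveI := ringChar.of_eq h'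
        exact CharTwo.two_eq_zero)
      have := Fintype.one_lt_card (α := F)
      rw [Nat.card_eq_fintype_card]
      omega
    · omega
  rw [← Subgroup.index_map_equiv _ (isomEquiv Q)]
  refine Eq.trans ?_ (ReflClass.index_classGroup (c := c) hQ h2 hc hbig)
  congr 1
  refine (MonoidHom.map_closure _ _).trans (congrArg Subgroup.closure (Set.ext fun g => ⟨?_, ?_⟩))
  · rintro ⟨g, ⟨v, t, ht, hv, hg⟩, rfl⟩
    have hv0 : Q v ≠ 0 := by rw [hv]; exact mul_ne_zero hc (pow_ne_zero _ ht)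
    exact ⟨v, hv0, ⟨t, by rw [hv]; field_simp⟩, Subtype.ext ((isomEquiv_eq_refl_iff Q g v hv0).1 hg)⟩
  · rintro ⟨v, hv0, ⟨t, ht⟩, rfl⟩
    have hv : Q v = c * t ^ 2 := by rw [pow_two, ← ht]; field_simp
    refine ⟨(isomEquiv Q).symm (oRefl Q v hv0), ⟨v, t, fun h => hv0 (by rw [hv, h]; ring), hv, ?_⟩, by simp⟩
    rw [isomEquiv_eq_refl_iff Q _ v hv0, MulEquiv.apply_symm_apply]
    rfl

end Cfsg.Agent.S0798
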