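import Cfsg.Statements.S0799
import Cfsg.Agent.Lib.PSL2.DicksonPSL

set_option autoImplicit false
open Cfsg

namespace Cfsg.Agent.S0799

/-- Dickson's classification of the subgroups of PSL_2(q), q a power of the prime p, d = gcd(2, q − 1): every subgroup H is (a) cyclic or dihedral with k dividing (q+1)/d or (q−1)/d (cyclic of order k, or dihedral of order 2k), (b) isomorphic to a subgroup of the normaliser of a Sylow p-subgroup, (c) isomorphic to A_4, S_4 or A_5, or (d) isomorphic to PSL_2(K) or PGL_2(K) for a finite field K with |K|^m = q. -/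
theorem result {F : Type*} [Field F] [Fintype F] {q : ℕ} (hF : Fintype.card F = q) (p : ℕ) [Fact p.Prime] [CharP F p] (H : Subgroup (Matrix.ProjectiveSpecialLinearGroup (Fin 2) F)) : (∃ k : ℕ, (k ∣ (q + 1) / Nat.gcd 2 (q - 1) ∨ k ∣ (q - 1) / Nat.gcd 2 (q - 1)) ∧ ((IsCyclic H ∧ Nat.card H = k) ∨ Nonempty (H ≃* DihedralGroup k))) ∨ (∃ (P : Sylow p (Matrix.ProjectiveSpecialLinearGroup (Fin 2) F)) (K : Subgroup (Matrix.ProjectiveSpecialLinearGroup (Fin 2) F)), K ≤ Subgroup.normalizer ((P : Subgroup (Matrix.ProjectiveSpecialLinearGroup (Fin 2) F)) : Set (Matrix.ProjectiveSpecialLinearGroup (Fin 2) F)) ∧ Nonempty (H ≃* K)) ∨ Nonempty (H ≃* alternatingGroup (Fin 4)) ∨ Nonempty (H ≃* Equiv.Perm (Fin 4)) ∨ Nonempty (H ≃* alternatingGroup (Fin 5)) ∨ (∃ (K : Type) (_ : Field K) (_ : Fintype K) (m : ℕ), Fintype.card K ^ m = q ∧ (Nonempty (H ≃* Matrix.ProjectiveSpecialLinearGroup (Fin 2) K) ∨ Nonempty (H ≃* Matrix.ProjGenLinGroup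 (Fin 2) K))) := by
  subst hF
  haveI : Finite (Matrix.ProjectiveSpecialLinearGroup (Fin 2) F) := Quotient.finite _
  cases CfsgLib.PSL2.dickson_psl (p := p) H with
  | cyclic hc hp =>
    obtain ⟨g, hg⟩ := hc.exists_ofOrder_eq_natCard (α := H)
    have hgp : ¬ p ∣ orderOf (g : Matrix.ProjectiveSpecialLinearGroup (Fin 2) F) := by
      rw [Subgroup.orderOf_coe, hg]; exact hp
    exact Or.inl ⟨Nat.card H, hg ▸ Subgroup.orderOf_coe g ▸ CfsgLib.PSL2.order_dvd hgp,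
      Or.inl ⟨hc, rfl⟩⟩
  | dihedral r hr k hk h2 hp hcard iso =>
    exact Or.inl ⟨k, hk ▸ CfsgLib.PSL2.order_dvd (hk.symm ▸ hp), Or.inr iso⟩
  | borel P hpH hle => exact Or.inr (Or.inl ⟨P, H, hle, ⟨MulEquiv.refl _⟩⟩)
  | tetra hp iso => exact Or.inr (Or.inr (Or.inl iso))
  | octa hp iso => exact Or.inr (Or.inr (Or.inr (Or.inl iso)))
  | icosa hp iso => exact Or.inr (Or.inr (Or.inr (Or.inr (Or.inl iso))))
  | subfield K iso =>
    obtain ⟨K', ⟨e⟩⟩ := CfsgLib.PSL2.exists_small_copy p K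
    haveI := Fintype.ofFinite K'
    refine Or.inr (Or.inr (Or.inr (Or.inr (Or.inr ⟨K', inferInstance, inferInstance, Module.finrank K F, ?_, ?_⟩))))
    · rw [← Nat.card_eq_fintype_card, ← Nat.card_congr e.toEquiv, ← Nat.card_eq_fintype_card,
        ← Module.natCard_eq_pow_finrank]
    · rcases iso with hi | ⟨-, hi⟩ <;> obtain ⟨i⟩ := hi
      · obtain ⟨j⟩ := CfsgLib.PSL2.nonempty_pgl_congr (n := Fin 2) e
        exact Or.inr ⟨i.trans j⟩
      · obtain ⟨j⟩ := CfsgLib.PSL2.nonempty_psl_congr (n := Fin 2) e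
        exact Or.inl ⟨i.trans j⟩

end Cfsg.Agent.S0799
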