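import Cfsg.Statements.S0800


set_option autoImplicit false
open Cfsg

namespace Cfsg.Agent.S0800

/-- Tori of SL_2(q): if g ∈ SL_2(q) has order coprime to the characteristic p, then the order of g divides q − 1 or q + 1. -/
theorem result {F : Type*} [Field F] [Fintype F] {q : ℕ} (hF : Fintype.card F = q) (p : ℕ) [Fact p.Prime] [CharP F p] (g : Matrix.SpecialLinearGroup (Fin 2) F) (hg : Nat.Coprime (orderOf g) p) : orderOf g ∣ q - 1 ∨ orderOf g ∣ q + 1 := by
  classical
  set M : Matrix (Fin 2) (Fin 2) F := g.1 with hM
  set t : F := M 0 0 + M 1 1 with ht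
  have hdet : M 0 0 * M 1 1 - M 0 1 * M 1 0 = 1 := by rw [← Matrix.det_fin_two]; exact g.2
  have hCH : M * M = t • M - 1 := by
    ext i j
    fin_cases i <;> fin_cases j <;> simp [Matrix.mul_apply, Fin.sum_univ_two, ht]
    · linear_combination -hdet
    · ring
    · ring
    · linear_combination -hdet
  have hlift : ∀ k, M ^ k = 1 → orderOf g ∣ k := fun k hk =>
    orderOf_dvd_of_pow_eq_one (Subtype.ext (by rw [Matrix.SpecialLinearGroup.coe_pow, ← hM, hk]; rfl))
  by_cases heig : ∃ l : F, l * l - t * l + 1 = 0
  · left
    obtain ⟨l, hl⟩ := heig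
    have hl0 : l ≠ 0 := by rintro rfl; simp at hl
    have hl1 : l ^ (q - 1) = 1 := by rw [← hF]; exact FiniteField.pow_card_sub_one_eq_one l hl0
    have hm0 : t - l ≠ 0 := fun h => one_ne_zero (α := F) (by linear_combination hl + l * h)
    have hm1 : (t - l) ^ (q - 1) = 1 := by rw [← hF]; exact FiniteField.pow_card_sub_one_eq_one _ hm0
    rcases eq_or_ne (t - l) l with hd | hd
    · have hN : (M - l • (1 : Matrix (Fin 2) (Fin 2) F)) * (M - l • 1) = 0 := by
        rw [show t = 2 * l by linear_combination hd] at hCH hl
        simp only [mul_sub, sub_mul, smul_mul_assoc, mul_smul_comm, one_mul, mul_one, hCH]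
        have hll : l * l = 1 := by linear_combination -hl
        match_scalars <;> first | ring1 | linear_combination hll
      have hp : p.Prime := Fact.out
      have h2 : (M - l • (1 : Matrix (Fin 2) (Fin 2) F)) ^ p = 0 :=
        pow_eq_zero_of_le hp.two_le (by rw [sq, hN])
      have h3 : M ^ p = l ^ p • (1 : Matrix (Fin 2) (Fin 2) F) := by
        have := sub_pow_char_of_commute (p := p) (((Commute.one_right M).smul_right l))
        rw [h2, smul_pow, one_pow] at this
        exact sub_eq_zero.1 this.symm
      have h4 : M ^ (p * (q - 1)) = 1 := by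
        rw [pow_mul, h3, smul_pow, one_pow, ← pow_mul, mul_comm, pow_mul, hl1, one_pow, one_smul]
      exact hg.dvd_of_dvd_mul_left (hlift _ h4)
    · have hne : l - (t - l) ≠ 0 := sub_ne_zero.2 (Ne.symm hd)
      set E : Matrix (Fin 2) (Fin 2) F := (l - (t - l))⁻¹ • (M - (t - l) • 1) with hE
      have hM' : M = (t - l) • 1 + (l - (t - l)) • E := by
        rw [hE, smul_smul, mul_inv_cancel₀ hne, one_smul]; abel
      have hEE : E * E = E := by
        rw [hE]
        simp only [smul_mul_assoc, mul_smul_comm, mul_sub, sub_mul, one_mul, mul_one, hCH]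
        match_scalars
        · field_simp; ring
        · field_simp; linear_combination -hl
      have hpow : ∀ k, M ^ k = (t - l) ^ k • 1 + (l ^ k - (t - l) ^ k) • E := by
        intro k
        induction k with
        | zero => simp
        | succ k ih =>
          rw [pow_succ, ih]
          nth_rw 1 [hM']
          simp only [mul_add, add_mul, smul_mul_assoc, mul_smul_comm, one_mul, mul_one, hEE]
          match_scalars <;> ring
      exact hlift _ (by rw [hpow, hm1, hl1, sub_self, zero_smul, add_zero, one_smul])
  · have hspan : ∀ k, ∃ a b : F, M ^ k = a • 1 + b • M := by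
      intro k
      induction k with
      | zero => exact ⟨1, 0, by simp⟩
      | succ k ih =>
        obtain ⟨a, b, hab⟩ := ih
        refine ⟨-b, a + b * t, ?_⟩
        rw [pow_succ, hab, add_mul, smul_mul_assoc, smul_mul_assoc, one_mul, hCH]
        module
    obtain ⟨a, b, hab⟩ := hspan q
    have hfrob : M ^ q * M ^ q = t • M ^ q - 1 := by
      let f : Polynomial F := Polynomial.X ^ 2 - Polynomial.C t * Polynomial.X + 1
      have hf0 : Polynomial.aeval M f = 0 := by
        simp [f, sq, hCH, ← Algebra.smul_def]
      have h1 := congrArg (Polynomial.aeval M) (FiniteField.expand_card (K := F) f)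
      rw [map_pow, hf0, Polynomial.expand_aeval, hF, zero_pow (by have := Fintype.card_pos (α := F); omega)] at h1
      simp [f, ← Algebra.smul_def, sq] at h1
      rw [← sub_eq_zero, ← h1]; abel
    have hcomm : M * M ^ q = M ^ q * M := (Commute.self_pow M q).eq
    have hprod : (M ^ q - M) * (M ^ q + M - t • 1) = 0 := by
      simp only [mul_sub, mul_add, sub_mul, mul_smul_comm, mul_one, hfrob, hCH, hcomm, smul_sub]
      abel
    by_cases hX : (M ^ q - M).det = 0
    · left
      refine hlift _ ?_
      have hc : b - 1 = 0 := by
        by_contra hc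
        refine heig ⟨-a / (b - 1), ?_⟩
        rw [hab, Matrix.det_fin_two] at hX
        simp at hX
        field_simp
        linear_combination hX - (b - 1) ^ 2 * hdet
      have ha : a = 0 := by
        rw [hab, show b = 1 by linear_combination hc, Matrix.det_fin_two] at hX
        simpa using hX
      have hq : M ^ q = M := by rw [hab, ha, show b = 1 by linear_combination hc]; simp
      have hu : IsUnit M := (Matrix.isUnit_iff_isUnit_det M).2 (by rw [hM, g.2]; exact isUnit_one)
      refine hu.mul_left_cancel ?_
      rw [← pow_succ', Nat.sub_add_cancel (by rw [← hF]; exact Fintype.card_pos), hq, mul_one]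
    · right
      refine hlift _ ?_
      have hY : M ^ q + M - t • 1 = 0 := by
        have := congrArg (fun z => (M ^ q - M)⁻¹ * z) hprod
        rwa [← Matrix.mul_assoc, Matrix.nonsing_inv_mul _ (Ne.isUnit hX), Matrix.one_mul,
          Matrix.mul_zero] at this
      rw [pow_succ, show M ^ q = t • 1 - M by rw [← sub_eq_zero, ← hY]; abel, sub_mul,
        smul_mul_assoc, one_mul, hCH]
      abel

end Cfsg.Agent.S0800
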