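import Cfsg.Statements.S0801
import Cfsg.Agent.Lib.PSL2.DicksonGen
-- import your own Cfsg.Agent.* helpers here

set_option autoImplicit false
open Cfsg

namespace Cfsg.Agent.S0801

/-- Let F be a finite field of odd characteristic and λ ≠ 0 an element generating F as a field. Then the lower and upper unitriangular matrices with off-diagonal entries 1 and λ generate SL_2(F), unless |F| = 9 and λ² = −1, in which case they generate a subgroup of order 120. -/
theorem result {F : Type*} [Field F] [Fintype F] (h2 : (2 : F) ≠ 0) (lam : F) (hlam : lam ≠ 0) (hgen : Subfield.closure ({lam} : Set F) = ⊤) : (Subgroup.closure {g : Matrix.SpecialLinearGroup (Fin 2) F | (g : Matrix (Fin 2) (Fin 2) F) = !![1, 0; 1, 1] ∨ (g : Matrix (Fin 2) (Fin 2) F) = !![1, lam; 0, 1]} = ⊤ ∧ ¬ (Fintype.card F = 9 ∧ lam ^ 2 = -1)) ∨ (Fintype.card F = 9 ∧ lam ^ 2 = -1 ∧ Nat.card ↥(Subgroup.closure {g : Matrix.SpecialLinearGroup (Fin 2) F | (g : Matrix (Fin 2) (Fin 2) F) = !![1, 0; 1, 1]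 ∨ (g : Matrix (Fin 2) (Fin 2) F) = !![1, lam; 0, 1]}) = 120) := by
  classical
  obtain ⟨p, _⟩ := CharP.exists F
  haveI : Fact p.Prime := ⟨CharP.char_is_prime F p⟩
  have hex : Fintype.card F = 9 → p = 3 := by
    intro h9
    obtain ⟨n, hp, hn⟩ := FiniteField.card F p
    rw [h9] at hn
    have hdvd : p ∣ 3 ^ 2 := by
      norm_num
      rw [hn]
      exact dvd_pow_self p n.ne_zero
    exact (Nat.prime_dvd_prime_iff_eq hp Nat.prime_three).1 (hp.dvd_of_dvd_pow hdvd)
  by_cases hexc : Fintype.card F = 9 ∧ lam ^ 2 = -1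
  · obtain rfl := hex hexc.1
    exact Or.inr ⟨hexc.1, hexc.2, CfsgLib.PSL2.GenNine.card_closure hexc.2⟩
  · exact Or.inl ⟨(CfsgLib.PSL2.Gen.main p h2 lam hlam hgen).resolve_right hexc, hexc⟩

end Cfsg.Agent.S0801
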