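import Cfsg.Statements.S0802
import Cfsg.Agent.Lib.PSL2.Icosa

set_option autoImplicit false
open Cfsg

namespace Cfsg.Agent.S0802

/-- PSL_2(p^n) has a subgroup isomorphic to A_4 if and only if it is not the case that p = 2 and n is odd. -/
theorem result {F : Type*} [Field F] [Fintype F] (p n : ℕ) [Fact p.Prime] [CharP F p] (hF : Fintype.card F = p ^ n) : (∃ H : Subgroup (Matrix.ProjectiveSpecialLinearGroup (Fin 2) F), Nonempty (H ≃* alternatingGroup (Fin 4))) ↔ ¬ (p = 2 ∧ Odd n) := by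
  have hq : Nat.card F = p ^ n := by rw [Nat.card_eq_fintype_card, hF]
  set f := Matrix.ProjectiveSpecialLinearGroup.toPGL (n := Fin 2) (R := F)
  have hf : Function.Injective f := Matrix.ProjectiveSpecialLinearGroup.toPGL_injective
  have back : ∀ X : Subgroup (Matrix.ProjGenLinGroup (Fin 2) F), X ≤ CfsgLib.PSL2.pslRange F →
      Nonempty (X ≃* alternatingGroup (Fin 4)) →
      ∃ H : Subgroup (Matrix.ProjectiveSpecialLinearGroup (Fin 2) F), Nonempty (H ≃* alternatingGroup (Fin 4)) := by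
    rintro X hX ⟨e⟩
    exact ⟨X.comap f, ⟨((X.comap f).equivMapOfInjective f hf).trans
      ((MulEquiv.subgroupCongr (Subgroup.map_comap_eq_self hX)).trans e)⟩⟩
  constructor
  · rintro ⟨H, ⟨e⟩⟩ ⟨rfl, hn⟩
    exact CfsgLib.PSL2.no_alt_four hn hq ((H.equivMapOfInjective f hf).symm.trans e)
  · intro h
    rcases eq_or_ne p 2 with rfl | hp2
    · have hev : Even n := Nat.not_odd_iff_even.1 fun ho => h ⟨rfl, ho⟩
      obtain ⟨m, rfl⟩ := hev
      have h5 : 5 ∣ Nat.card F * (Nat.card F ^ 2 - 1) := by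
        refine dvd_mul_of_dvd_right ?_ _
        rw [hq, ← pow_mul, show (m + m) * 2 = 4 * m by ring, pow_mul]
        exact dvd_trans (by norm_num) (Nat.sub_one_dvd_pow_sub_one _ m)
      obtain ⟨τ, hτ⟩ := CfsgLib.PSL2.exists_tau (F := F) h5
      obtain ⟨X, hX, ⟨e⟩⟩ := CfsgLib.PSL2.exists_alt_five hτ
      obtain ⟨Y, hYX, hY⟩ := CfsgLib.PSL2.exists_alt_four_of_alt_five e
      exact back Y (hYX.trans hX) hY
    · have hodd : Odd (Nat.card F) := by
        rw [hq]; exact ((Fact.out : p.Prime).odd_of_ne_two hp2).pow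
      obtain ⟨X, hX, hiso⟩ := CfsgLib.PSL2.exists_alt_four (F := F) hodd
      exact back X hX hiso

end Cfsg.Agent.S0802
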