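import Cfsg.Statements.S0803
import Cfsg.Agent.Lib.PSL2.Four

set_option autoImplicit false
open Cfsg

namespace Cfsg.Agent.S0803

/-- PSL_2(q) has a subgroup isomorphic to S_4 iff q² ≡ 1 (mod 16). -/
theorem result {F : Type*} [Field F] [Fintype F] {q : ℕ} (hF : Fintype.card F = q) : (∃ H : Subgroup (Matrix.ProjectiveSpecialLinearGroup (Fin 2) F), Nonempty (H ≃* Equiv.Perm (Fin 4))) ↔ q ^ 2 % 16 = 1 := by
  obtain ⟨p, hp⟩ := CharP.exists F
  haveI := Fact.mk (CharP.char_is_prime F p)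
  have hq : Nat.card F = q := by rw [Nat.card_eq_fintype_card, hF]
  set f := Matrix.ProjectiveSpecialLinearGroup.toPGL (n := Fin 2) (R := F)
  have hf : Function.Injective f := Matrix.ProjectiveSpecialLinearGroup.toPGL_injective
  have h8 : q ^ 2 % 16 = 1 ↔ q % 8 = 1 ∨ q % 8 = 7 := by
    rw [Nat.pow_mod]
    have h := Nat.mod_lt q (show 16 > 0 by norm_num)
    have h' : q % 8 = q % 16 % 8 := by omega
    interval_cases hr : q % 16 <;> simp <;> omega
  rw [h8]
  constructor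
  · rintro ⟨H, ⟨e⟩⟩
    obtain ⟨g, hg⟩ := CfsgLib.PSL2.exists_orderOf_four_perm
    have h4 : orderOf (f (e.symm g : Matrix.ProjectiveSpecialLinearGroup (Fin 2) F)) = 4 := by
      rw [orderOf_injective f hf, Subgroup.orderOf_coe, MulEquiv.orderOf_eq, hg]
    rw [← hq]
    exact CfsgLib.PSL2.card_mod_of_orderOf_four (F := F) p ⟨_, rfl⟩ h4
  · intro h
    have ho : Odd (Nat.card F) := by rw [hq, Nat.odd_iff]; omega
    obtain ⟨Y, hY, ⟨e⟩⟩ := CfsgLib.PSL2.exists_perm_four (F := F) ho (by rwa [hq])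
    exact ⟨Y.comap f, ⟨((Y.comap f).equivMapOfInjective f hf).trans
      ((MulEquiv.subgroupCongr (Subgroup.map_comap_eq_self hY)).trans e)⟩⟩

end Cfsg.Agent.S0803
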