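import Cfsg.Statements.S0804
import Cfsg.Agent.Lib.PSL2.Icosa

set_option autoImplicit false
open Cfsg

namespace Cfsg.Agent.S0804

/-- PSL_2(q) has a subgroup isomorphic to A_5 iff 5 ∣ q(q² − 1). -/
theorem result {F : Type*} [Field F] [Fintype F] {q : ℕ} (hF : Fintype.card F = q) : (∃ H : Subgroup (Matrix.ProjectiveSpecialLinearGroup (Fin 2) F), Nonempty (H ≃* alternatingGroup (Fin 5))) ↔ 5 ∣ q * (q ^ 2 - 1) := by
  obtain ⟨p, hp⟩ := CharP.exists F
  haveI := Fact.mk (CharP.char_is_prime F p)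
  have hq : Nat.card F = q := by rw [Nat.card_eq_fintype_card, hF]
  set f := Matrix.ProjectiveSpecialLinearGroup.toPGL (n := Fin 2) (R := F)
  have hf : Function.Injective f := Matrix.ProjectiveSpecialLinearGroup.toPGL_injective
  rw [← hq]
  constructor
  · rintro ⟨H, ⟨e⟩⟩
    exact CfsgLib.PSL2.five_dvd_of_alt_five ((H.equivMapOfInjective f hf).symm.trans e)
  · intro h5
    obtain ⟨τ, hτ⟩ := CfsgLib.PSL2.exists_tau (F := F) h5
    obtain ⟨X, hX, ⟨e⟩⟩ := CfsgLib.PSL2.exists_alt_five hτ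
    exact ⟨X.comap f, ⟨((X.comap f).equivMapOfInjective f hf).trans
      ((MulEquiv.subgroupCongr (Subgroup.map_comap_eq_self hX)).trans e)⟩⟩

end Cfsg.Agent.S0804
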