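import Cfsg.Statements.S0805
import Cfsg.Agent.Lib.PSL2.Subfields

set_option autoImplicit false
open Cfsg

namespace Cfsg.Agent.S0805

/-- Subfield subgroups: let F be a finite field of odd order q and K a finite field with |K|^m = q, m ≥ 1. Then PSL_2(F) has a subgroup isomorphic to PSL_2(K), and has a subgroup isomorphic to PGL_2(K) if and only if m is even. -/
theorem result {F K : Type*} [Field F] [Fintype F] [Field K] [Fintype K] {q : ℕ} (hF : Fintype.card F = q) (hodd : Odd q) (m : ℕ) (hm : 1 ≤ m) (hK : Fintype.card K ^ m = q) : (∃ H : Subgroup (Matrix.ProjectiveSpecialLinearGroup (Fin 2) F), Nonempty (H ≃* Matrix.ProjectiveSpecialLinearGroup (Fin 2) K)) ∧ ((∃ H : Subgroup (Matrix.ProjectiveSpecialLinearGroup (Fin 2) F), Nonempty (H ≃* Matrix.ProjGenLinGroup (Fin 2) K)) ↔ Even m) := by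
  have hq : Nat.card K ^ m = Nat.card F := by rw [Nat.card_eq_fintype_card, Nat.card_eq_fintype_card, hK, hF]
  have ho : Odd (Nat.card F) := by rwa [Nat.card_eq_fintype_card, hF]
  set f := Matrix.ProjectiveSpecialLinearGroup.toPGL (n := Fin 2) (R := F)
  have hf : Function.Injective f := Matrix.ProjectiveSpecialLinearGroup.toPGL_injective
  refine ⟨?_, ?_, ?_⟩
  · obtain ⟨H, hH, ⟨e⟩⟩ := CfsgLib.PSL2.exists_psl_copy (F := F) (K := K) hm hq
    obtain ⟨i⟩ := CfsgLib.PSL2.comap_equiv (F := F) hH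
    exact ⟨_, ⟨i.trans e⟩⟩
  · rintro ⟨H, ⟨e⟩⟩
    exact CfsgLib.PSL2.even_of_pgl_sub ho hm hq (Subgroup.map_le_range f H)
      ((H.equivMapOfInjective f hf).symm.trans e)
  · intro he
    obtain ⟨K', -, -, ⟨e⟩⟩ := CfsgLib.PSL2.psl_sub_pgl (F := F) (K := K) ho hm hq he
    obtain ⟨i⟩ := CfsgLib.PSL2.comap_equiv (F := F) (inf_le_right : CfsgLib.PSL2.subGroupK K' 1 ⊓ _ ≤ CfsgLib.PSL2.pslRange F)
    exact ⟨_, ⟨i.trans e⟩⟩

end Cfsg.Agent.S0805
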