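import Cfsg.Statements.S0806
import Cfsg.Agent.Lib.PSL2.Solvable

set_option autoImplicit false
open Cfsg

namespace Cfsg.Agent.S0806

/-- Minimal index (Galois): if q ∉ {2, 3, 5, 7, 9, 11} then every proper subgroup of PSL_2(q) has index ≥ q + 1, and some subgroup has index exactly q + 1. -/
theorem result {F : Type*} [Field F] [Fintype F] {q : ℕ} (hF : Fintype.card F = q) (hq : q ∉ ({2, 3, 5, 7, 9, 11} : Finset ℕ)) : (∀ H : Subgroup (Matrix.ProjectiveSpecialLinearGroup (Fin 2) F), H ≠ ⊤ → q + 1 ≤ H.index) ∧ ∃ H : Subgroup (Matrix.ProjectiveSpecialLinearGroup (Fin 2) F), H.index = q + 1 := by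
  obtain ⟨p, hp⟩ := CharP.exists F
  haveI := Fact.mk (CharP.char_is_prime F p)
  have hc : Nat.card F = q := by rw [Nat.card_eq_fintype_card, hF]
  simp only [Finset.mem_insert, Finset.mem_singleton] at hq
  have h1 : 1 < q := hc ▸ Finite.one_lt_card
  have h3 : 3 < Nat.card F := by omega
  set f := Matrix.ProjectiveSpecialLinearGroup.toPGL (n := Fin 2) (R := F)
  have hf : Function.Injective f := Matrix.ProjectiveSpecialLinearGroup.toPGL_injective
  have hrel : ∀ H : Subgroup (Matrix.ProjectiveSpecialLinearGroup (Fin 2) F),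
      (H.map f).relIndex (CfsgLib.PSL2.pslRange F) = H.index := fun H => by
    rw [CfsgLib.PSL2.pslRange, MonoidHom.range_eq_map, Subgroup.relIndex_map_map_of_injective H ⊤ hf,
      Subgroup.relIndex_top_right]
  constructor
  · intro H hH
    have hlt : H.map f < CfsgLib.PSL2.pslRange F := by
      rw [CfsgLib.PSL2.pslRange, MonoidHom.range_eq_map]
      exact (Subgroup.map_lt_map_iff_of_injective hf).2 (lt_top_iff_ne_top.2 hH)
    have := CfsgLib.PSL2.index_ge h3 (by simp only [Finset.mem_insert, Finset.mem_singleton]; omega) hlt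
    rwa [hrel, hc] at this
  · obtain ⟨hlt, hcard⟩ := CfsgLib.PSL2.stab_ne_psl (CfsgLib.Classical.pInf F) h3
    set M := MulAction.stabilizer (Matrix.ProjGenLinGroup (Fin 2) F) (CfsgLib.Classical.pInf F) ⊓ CfsgLib.PSL2.pslRange F
    refine ⟨M.comap f, ?_⟩
    have h2 := Subgroup.card_mul_index (M.comap f)
    obtain ⟨e⟩ := CfsgLib.PSL2.comap_equiv (F := F) (M := M) inf_le_right
    have h4 := CfsgLib.PSL2.card_pslRange_mul (F := F)
    have h5 : Nat.card (CfsgLib.PSL2.pslRange F) = Nat.card (Matrix.ProjectiveSpecialLinearGroup (Fin 2) F) :=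
      (Nat.card_congr (MonoidHom.ofInjective hf).toEquiv).symm
    rw [h5, ← h2, Nat.card_congr e.toEquiv, ← mul_assoc, hcard, mul_comm (Nat.card F + 1)] at h4
    rw [← hc]
    exact Nat.eq_of_mul_eq_mul_left (Nat.mul_pos (by omega) (by omega)) h4

end Cfsg.Agent.S0806
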