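import Cfsg.Statements.S0807
import Cfsg.Agent.Lib.PSL2.Four

set_option autoImplicit false
open Cfsg

namespace Cfsg.Agent.S0807

open CfsgLib.PSL2 in
theorem klein_transfer {F : Type*} [Field F] (V : Subgroup (Matrix.ProjectiveSpecialLinearGroup (Fin 2) F)) :
    IsKleinFour (V.map (Matrix.ProjectiveSpecialLinearGroup.toPGL (n := Fin 2) (R := F))) ↔ IsKleinFour V := by
  let e := V.equivMapOfInjective _ (Matrix.ProjectiveSpecialLinearGroup.toPGL_injective (n := Fin 2) (R := F))
  constructor
  · intro h
    exact ⟨(Nat.card_congr e.toEquiv).trans h.card_four, (Monoid.exponent_eq_of_mulEquiv e).trans h.exponent_two⟩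
  · intro h
    exact ⟨(Nat.card_congr e.toEquiv).symm.trans h.card_four,
      (Monoid.exponent_eq_of_mulEquiv e).symm.trans h.exponent_two⟩


/-- For q odd, twelve times the number of Klein four-subgroups of PSL_2(q) equals the order of PSL_2(q). -/
theorem result {F : Type*} [Field F] [Fintype F] {q : ℕ} (hF : Fintype.card F = q) (hodd : Odd q) : 12 * Nat.card {V : Subgroup (Matrix.ProjectiveSpecialLinearGroup (Fin 2) F) // IsKleinFour V} = Nat.card (Matrix.ProjectiveSpecialLinearGroup (Fin 2) F) := by
  obtain ⟨p, hp⟩ := CharP.exists F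
  haveI := Fact.mk (CharP.char_is_prime F p)
  have ho : Odd (Nat.card F) := by rwa [Nat.card_eq_fintype_card, hF]
  set f := Matrix.ProjectiveSpecialLinearGroup.toPGL (n := Fin 2) (R := F)
  have hf : Function.Injective f := Matrix.ProjectiveSpecialLinearGroup.toPGL_injective
  have h24 := CfsgLib.PSL2.card_klein (F := F) p ho
  have h2 := CfsgLib.PSL2.two_mul_card_pslRange_of_odd (F := F) ho
  let e : {V : Subgroup (Matrix.ProjectiveSpecialLinearGroup (Fin 2) F) // IsKleinFour V} ≃
      {V : Subgroup (Matrix.ProjGenLinGroup (Fin 2) F) // IsKleinFour V ∧ V ≤ CfsgLib.PSL2.pslRange F} :=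
    { toFun := fun V => ⟨V.1.map f, (klein_transfer V.1).2 V.2, Subgroup.map_le_range f V.1⟩
      invFun := fun W => ⟨W.1.comap f, (klein_transfer _).1 (by
        rw [Subgroup.map_comap_eq_self W.2.2]; exact W.2.1)⟩
      left_inv := fun V => Subtype.ext (Subgroup.comap_map_eq_self_of_injective hf V.1)
      right_inv := fun W => Subtype.ext (Subgroup.map_comap_eq_self W.2.2) }
  rw [Nat.card_congr e, Nat.card_congr (MonoidHom.ofInjective hf).toEquiv]
  simp only [CfsgLib.PSL2.pslRange] at h2 h24 ⊢
  simp only [f] at *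
  omega

end Cfsg.Agent.S0807
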