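import Cfsg.Statements.S0808
import Cfsg.Agent.Lib.PSL2.Four

set_option autoImplicit false
open Cfsg

namespace Cfsg.Agent.S0808

open CfsgLib.PSL2 in
theorem klein_transfer {F : Type*} [Field F] (V : Subgroup (Matrix.ProjectiveSpecialLinearGroup (Fin 2) F)) :
    IsKleinFour (V.map (Matrix.ProjectiveSpecialLinearGroup.toPGL (n := Fin 2) (R := F))) ↔ IsKleinFour V := by
  let e := V.equivMapOfInjective _ (Matrix.ProjectiveSpecialLinearGroup.toPGL_injective (n := Fin 2) (R := F))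
  constructor
  · intro h
    exact ⟨(Nat.card_congr e.toEquiv).trans h.card_four, (Monoid.exponent_eq_of_mulEquiv e).trans h.exponent_two⟩
  · intro h
    exact ⟨(Nat.card_congr e.toEquiv).symm.trans h.card_four,
      (Monoid.exponent_eq_of_mulEquiv e).symm.trans h.exponent_two⟩


/-- Conjugacy classes of four-groups in PSL_2(q), q odd: if q ≡ 3 or 5 (mod 8) all Klein four-subgroups are conjugate; if q ≡ 1 or 7 (mod 8) there are two Klein four-subgroups which are not conjugate, and every Klein four-subgroup is conjugate to one of them. -/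
theorem result {F : Type*} [Field F] [Fintype F] {q : ℕ} (hF : Fintype.card F = q) (hodd : Odd q) : ((q % 8 = 3 ∨ q % 8 = 5) → ∀ V W : Subgroup (Matrix.ProjectiveSpecialLinearGroup (Fin 2) F), IsKleinFour V → IsKleinFour W → ∃ g : Matrix.ProjectiveSpecialLinearGroup (Fin 2) F, W = V.map (MulAut.conj g).toMonoidHom) ∧ ((q % 8 = 1 ∨ q % 8 = 7) → ∃ V₁ V₂ : Subgroup (Matrix.ProjectiveSpecialLinearGroup (Fin 2) F), IsKleinFour V₁ ∧ IsKleinFour V₂ ∧ (¬ ∃ g : Matrix.ProjectiveSpecialLinearGroup (Fin 2) F, V₂ = V₁.map (MulAut.conj g).toMonoidHom) ∧ ∀ W : Subgroup (Matrix.ProjectiveSpecialLinearGroup (Fin 2) F), IsKleinFour W → (∃ g : Matrix.ProjectiveSpecialLinearGroup (Fin 2) F, W = V₁.map (MulAut.conj g).toMonoidHom) ∨ (∃ g : Matrix.ProjectiveSpecialLinearGroup (Fin 2) F, W = V₂.map (MulAut.conj g).toMonoidHom)) := by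
  obtain ⟨p, hp⟩ := CharP.exists F
  haveI := Fact.mk (CharP.char_is_prime F p)
  have ho : Odd (Nat.card F) := by rwa [Nat.card_eq_fintype_card, hF]
  have hq : Nat.card F = q := by rw [Nat.card_eq_fintype_card, hF]
  set f := Matrix.ProjectiveSpecialLinearGroup.toPGL (n := Fin 2) (R := F)
  have hf : Function.Injective f := Matrix.ProjectiveSpecialLinearGroup.toPGL_injective
  have hle : ∀ V : Subgroup (Matrix.ProjectiveSpecialLinearGroup (Fin 2) F),
      V.map f ≤ CfsgLib.PSL2.pslRange F := fun V => Subgroup.map_le_range f V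
  have hcj : ∀ (V W : Subgroup (Matrix.ProjectiveSpecialLinearGroup (Fin 2) F))
      (g : Matrix.ProjectiveSpecialLinearGroup (Fin 2) F),
      (V.map f).map (MulAut.conj (f g)).toMonoidHom = W.map f ↔ W = V.map (MulAut.conj g).toMonoidHom := by
    intro V W g
    have hh : (MulAut.conj (f g)).toMonoidHom.comp f = f.comp (MulAut.conj g).toMonoidHom := by
      ext z; simp
    rw [Subgroup.map_map, hh, ← Subgroup.map_map, (Subgroup.map_injective hf).eq_iff, eq_comm]
  constructor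
  · intro h35 V W hV hW
    obtain ⟨g, ⟨g', rfl⟩, hg⟩ := CfsgLib.PSL2.klein_conj_psl (F := F) p ho (by rw [hq]; omega)
      ((klein_transfer V).2 hV) (hle V) ((klein_transfer W).2 hW) (hle W)
    exact ⟨g', (hcj V W g').1 hg⟩
  · intro h17
    obtain ⟨V₁, V₂, ⟨hV₁, hV₁L⟩, ⟨hV₂, hV₂L⟩, hnot, hall⟩ :=
      CfsgLib.PSL2.klein_two_classes (F := F) p ho (by rwa [hq])
    have h1 : (V₁.comap f).map f = V₁ := Subgroup.map_comap_eq_self hV₁L
    have h2 : (V₂.comap f).map f = V₂ := Subgroup.map_comap_eq_self hV₂L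
    refine ⟨V₁.comap f, V₂.comap f, (klein_transfer _).1 (by rw [h1]; exact hV₁),
      (klein_transfer _).1 (by rw [h2]; exact hV₂), ?_, fun W hW => ?_⟩
    · rintro ⟨g, hg⟩
      have h3 := (hcj _ _ g).2 hg
      rw [h1, h2] at h3
      exact hnot (f g) ⟨g, rfl⟩ h3
    · rcases hall _ ((klein_transfer W).2 hW) (hle W) with ⟨g, ⟨g', rfl⟩, hg⟩ | ⟨g, ⟨g', rfl⟩, hg⟩
      · exact .inl ⟨g', (hcj _ _ g').1 (by rw [h1]; exact hg)⟩
      · exact .inr ⟨g', (hcj _ _ g').1 (by rw [h2]; exact hg)⟩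

end Cfsg.Agent.S0808
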