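import Cfsg.Statements.S0810
import Cfsg.Agent.Lib.PSL2.Solvable

set_option autoImplicit false
open Cfsg

namespace Cfsg.Agent.S0810

/-- PSL_2(q) is minimal simple iff q is 2^r (r prime), 3^r (r an odd prime), a prime greater than 5 congruent to 2 or 3 mod 5, or 5. -/
theorem result {F : Type*} [Field F] [Fintype F] {q : ℕ} (hF : Fintype.card F = q) : Cfsg.IsMinimalSimple (Matrix.ProjectiveSpecialLinearGroup (Fin 2) F) ↔ ((∃ r : ℕ, r.Prime ∧ q = 2 ^ r) ∨ (∃ r : ℕ, r.Prime ∧ r ≠ 2 ∧ q = 3 ^ r) ∨ (q.Prime ∧ 5 < q ∧ (q % 5 = 2 ∨ q % 5 = 3)) ∨ q = 5) := by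
  obtain ⟨p, hp⟩ := CharP.exists F
  haveI := Fact.mk (CharP.char_is_prime F p)
  have hpr : p.Prime := Fact.out
  have hc : Nat.card F = q := by rw [Nat.card_eq_fintype_card, hF]
  obtain ⟨n, hn0, hn⟩ := CfsgLib.Classical.card_eq_charPow (F := F) (p := p)
  rw [hc] at hn
  set G := Matrix.ProjectiveSpecialLinearGroup (Fin 2) F
  set f := Matrix.ProjectiveSpecialLinearGroup.toPGL (n := Fin 2) (R := F)
  have hf : Function.Injective f := Matrix.ProjectiveSpecialLinearGroup.toPGL_injective
  have hq1 : 1 < q := hc ▸ Finite.one_lt_card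
  constructor
  · rintro ⟨hsimple, hnc, hsol⟩
    have hq4 : 4 ≤ q := by
      by_contra h
      haveI := CfsgLib.PSL2.solvable_pgl_small (K := F) (by omega)
      have hs : Group.IsSolvable G := Group.isSolvable_of_isSolvable_injective hf
      exact hnc ⟨⟨IsSimpleGroup.comm_iff_isSolvable.2 hs⟩⟩
    have hns : ∀ M : Subgroup (Matrix.ProjGenLinGroup (Fin 2) F), M < CfsgLib.PSL2.pslRange F →
        Group.IsSolvable M := by
      intro M hM
      obtain ⟨e⟩ := CfsgLib.PSL2.comap_equiv hM.le
      have hne : M.comap f ≠ ⊤ := fun h => by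
        have h1 := CfsgLib.PSL2.map_comap_psl hM.le
        rw [h, ← MonoidHom.range_eq_map] at h1
        exact hM.ne h1.symm
      haveI := hsol _ hne
      exact Group.isSolvable_of_isSolvable_injective (f := e.symm.toMonoidHom) e.symm.injective
    have hpsl := CfsgLib.PSL2.card_pslRange_mul (F := F)
    rw [hc] at hpsl
    -- no icosahedral subgroup
    have h5 : 5 ∣ q * (q ^ 2 - 1) → q = 4 ∨ q = 5 := by
      intro h
      by_contra hne
      obtain ⟨τ, hτ⟩ := CfsgLib.PSL2.exists_tau (F := F) (by rw [hc]; exact h)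
      obtain ⟨X, hX, ⟨e⟩⟩ := CfsgLib.PSL2.exists_alt_five hτ
      have hcX : Nat.card X = 60 := (Nat.card_congr e.toEquiv).trans CfsgLib.PSL2.card_alt_five
      have hlt : X < CfsgLib.PSL2.pslRange F := lt_of_le_of_ne hX fun he => by
        rw [he] at hcX
        rw [hcX] at hpsl
        have h7 : 6 ≤ q := by omega
        have h2 : Nat.gcd 2 (q - 1) ≤ 2 := Nat.le_of_dvd two_pos (Nat.gcd_dvd_left _ _)
        have h3 : 7 * (6 * 5) ≤ (q + 1) * (q * (q - 1)) :=
          Nat.mul_le_mul (by omega) (Nat.mul_le_mul h7 (by omega))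
        have := Nat.mul_le_mul_right 60 h2
        omega
      haveI := hns X hlt
      have hA : Group.IsSolvable (alternatingGroup (Fin 5)) :=
        Group.isSolvable_of_isSolvable_injective (f := e.symm.toMonoidHom) e.symm.injective
      obtain ⟨a, b, hab⟩ : ∃ a b : alternatingGroup (Fin 5), a * b ≠ b * a :=
        ⟨⟨finRotate 5, Equiv.Perm.mem_alternatingGroup.2 (by decide)⟩,
          ⟨Equiv.swap 1 4 * Equiv.swap 2 3, Equiv.Perm.mem_alternatingGroup.2 (by decide)⟩, by decide +kernel⟩
      exact hab (IsSimpleGroup.comm_iff_isSolvable.2 hA a b)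
    -- no large subfield
    have hsub : ∀ a r : ℕ, 2 ≤ r → a * r = n → p ^ a ≤ 3 := by
      intro a r hr har
      by_contra h4
      have hpos : 0 < r := by omega
      obtain ⟨K, hK, -⟩ := CfsgLib.PSL2.exists_subfield_card (F := F) p (Q := p ^ a) (r := r)
        (by rw [hc, hn, ← pow_mul, har]) hpos
      obtain ⟨H, hH, ⟨e⟩⟩ := CfsgLib.PSL2.exists_psl_copy (F := F) (K := K) hpos
        (by rw [hK, hc, hn, ← pow_mul, har])
      have hlt : H < CfsgLib.PSL2.pslRange F := lt_of_le_of_ne hH fun he => by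
        have hKq : Nat.card K * 2 ≤ q := by
          rw [hK, hn, ← har, pow_mul]
          calc p ^ a * 2 ≤ p ^ a * p ^ a := Nat.mul_le_mul_left _ (by omega)
            _ = (p ^ a) ^ 2 := by ring
            _ ≤ _ := Nat.pow_le_pow_right (by omega) hr
        have h1 : Nat.card H = Nat.card (CfsgLib.PSL2.pslRange K) :=
          Nat.card_congr (e.trans (MonoidHom.ofInjective Matrix.ProjectiveSpecialLinearGroup.toPGL_injective)).toEquiv
        rw [he] at h1
        have h2 := CfsgLib.PSL2.card_pslRange_mul (F := K)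
        rw [← h1] at h2
        have hd : Nat.gcd 2 (q - 1) ≤ 2 := Nat.le_of_dvd two_pos (Nat.gcd_dvd_left _ _)
        have hd' : 1 ≤ Nat.gcd 2 (Nat.card K - 1) := Nat.gcd_pos_of_pos_left _ two_pos
        have h3 : 2 * ((Nat.card K + 1) * (Nat.card K * (Nat.card K - 1))) < (q + 1) * (q * (q - 1)) := by
          have hK4 : 4 ≤ Nat.card K := by rw [hK]; omega
          calc 2 * ((Nat.card K + 1) * (Nat.card K * (Nat.card K - 1)))
              = (Nat.card K + 1) * (Nat.card K * 2 * (Nat.card K - 1)) := by ring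
            _ < _ := Nat.mul_lt_mul_of_lt_of_le (by omega) (Nat.mul_le_mul hKq (by omega))
                (Nat.mul_pos (by omega) (by omega))
        have h6 := Nat.mul_le_mul_right (Nat.card (CfsgLib.PSL2.pslRange F)) hd
        have h7 := Nat.mul_le_mul_right (Nat.card (CfsgLib.PSL2.pslRange F)) hd'
        omega
      haveI := hns H hlt
      exact CfsgLib.PSL2.not_solvable_psl (K := K) (by rw [hK]; omega)
        (Group.isSolvable_of_isSolvable_injective (f := e.symm.toMonoidHom) e.symm.injective)
    by_cases hnp : n = 1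
    · rw [hnp, pow_one] at hn
      rw [hn]
      rw [hn] at hq4 h5
      by_cases hp5 : p = 5
      · exact Or.inr (Or.inr (Or.inr hp5))
      · have hp7 : 5 < p := by
          by_contra hle
          interval_cases p
          · exact absurd hpr (by norm_num)
          · exact hp5 rfl
        refine Or.inr (Or.inr (Or.inl ⟨hpr, hp7, ?_⟩))
        by_contra hne
        have hp0 : p % 5 ≠ 0 := fun h =>
          hp5 ((Nat.prime_dvd_prime_iff_eq Nat.prime_five hpr).1 (Nat.dvd_of_mod_eq_zero h)).symm
        have := h5 (CfsgLib.PSL2.five_dvd_of_mod (by omega))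
        omega
    · obtain ⟨r, hr, a, har⟩ := Nat.exists_prime_and_dvd hnp
      have h1 := hsub a r hr.two_le (by rw [har]; ring)
      have ha0 : a ≠ 0 := fun h => by rw [h, mul_zero] at har; omega
      have ha1 : a = 1 := by
        by_contra ha
        have : 2 ^ 2 ≤ p ^ a := (Nat.pow_le_pow_left hpr.two_le 2).trans (Nat.pow_le_pow_right hpr.pos (by omega))
        omega
      subst ha1
      rw [mul_one] at har
      subst har
      rw [pow_one] at h1
      have := hpr.two_le
      interval_cases p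
      · exact Or.inl ⟨n, hr, hn⟩
      · refine Or.inr (Or.inl ⟨n, hr, ?_, hn⟩)
        rintro rfl
        have := h5 (by rw [hn]; norm_num)
        omega
  · intro h
    have h4 : 4 ≤ q := by
      rcases h with ⟨r, hr, h⟩ | ⟨r, hr, -, h⟩ | h | h
      · rw [h]; calc 4 = 2 ^ 2 := by norm_num
          _ ≤ _ := Nat.pow_le_pow_right two_pos hr.two_le
      · rw [h]; calc 4 ≤ 3 ^ 2 := by norm_num
          _ ≤ _ := Nat.pow_le_pow_right (by norm_num) hr.two_le
      · omega
      · omega
    haveI hsimple : IsSimpleGroup G := Matrix.ProjectiveSpecialLinearGroup.rank_two_simple (by rw [hc]; exact h4)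
    have hns := CfsgLib.PSL2.not_solvable_psl (K := F) (by rw [hc]; exact h4)
    refine ⟨hsimple, fun hcomm => hns (Group.isSolvable_of_comm hcomm.is_comm.comm), fun H hH => ?_⟩
    have hlt : H.map f < CfsgLib.PSL2.pslRange F := by
      rw [CfsgLib.PSL2.pslRange, MonoidHom.range_eq_map]
      exact (Subgroup.map_lt_map_iff_of_injective hf).2 (lt_top_iff_ne_top.2 hH)
    suffices Group.IsSolvable (H.map f) from
      Group.isSolvable_of_isSolvable_injective (f := (H.equivMapOfInjective f hf).toMonoidHom)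
        (H.equivMapOfInjective f hf).injective
    refine CfsgLib.PSL2.solvable_of_lt p (by rw [hc]; omega) hlt ?_ ?_
    · rintro M hM ⟨i⟩
      by_cases h45 : q = 4 ∨ q = 5
      · refine hM.ne (Subgroup.eq_of_le_of_card_ge hM.le ?_)
        have hpsl := CfsgLib.PSL2.card_pslRange_mul (F := F)
        rw [hc] at hpsl
        rw [Nat.card_congr i.toEquiv, CfsgLib.PSL2.card_alt_five]
        rcases h45 with rfl | rfl <;> norm_num at hpsl <;> omega
      · refine CfsgLib.PSL2.five_dvd_psl_false ?_ i
        rw [hc]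
        have hodd : ∀ r : ℕ, Odd r → (2 ^ r % 5 = 2 ∨ 2 ^ r % 5 = 3) ∧ (3 ^ r % 5 = 2 ∨ 3 ^ r % 5 = 3) := by
          rintro r ⟨t, rfl⟩
          rcases Nat.even_or_odd t with ⟨v, rfl⟩ | ⟨v, rfl⟩ <;>
            simp [← two_mul, pow_succ, pow_mul, Nat.mul_mod, Nat.pow_mod]
        rcases h with ⟨r, hr, rfl⟩ | ⟨r, hr, hr2, rfl⟩ | h | h
        · refine (hodd r (hr.odd_of_ne_two ?_)).1
          rintro rfl
          exact h45 (.inl rfl)
        · exact (hodd r (hr.odd_of_ne_two hr2)).2
        · exact h.2.2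
        · exact absurd (Or.inr h) h45
    · intro K r hr hm
      have hKr := Module.natCard_eq_pow_finrank (K := K) (V := F)
      rw [hm, hc] at hKr
      obtain ⟨a, ha, hKa⟩ := CfsgLib.PSL2.natCard_eq_pow (F := F) (p := p) (K := K)
      rw [hKa, ← pow_mul] at hKr
      rw [hKa]
      have key : ∀ l s : ℕ, l.Prime → (q = l ^ s) → (s = 1 ∨ s.Prime) → p ^ a ≤ l := by
        intro l s hl hs hs'
        have hs0 : 0 < s := by rcases hs' with rfl | h' <;> [norm_num; exact h'.pos]
        obtain rfl : p = l := by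
          refine (Nat.prime_dvd_prime_iff_eq hpr hl).1 (hpr.dvd_of_dvd_pow (n := s) ?_)
          rw [← hs, hKr]
          exact dvd_pow_self p (Nat.mul_ne_zero ha.ne' hr.pos.ne')
        rw [hs] at hKr
        have har : s = a * r := Nat.pow_right_injective hpr.two_le hKr
        rcases hs' with rfl | hs'
        · exact absurd (Nat.eq_one_of_mul_eq_one_left har.symm) hr.one_lt.ne'
        · rcases (Nat.prime_mul_iff.1 (har ▸ hs')) with ⟨-, h1⟩ | ⟨-, h1⟩
          · exact absurd h1 hr.one_lt.ne'
          · rw [h1, pow_one]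
      rcases h with ⟨s, hs, h⟩ | ⟨s, hs, -, h⟩ | h | h
      · exact (key 2 s Nat.prime_two h (.inr hs)).trans (by norm_num)
      · exact key 3 s Nat.prime_three h (.inr hs)
      · exfalso
        have har := key q 1 h.1 (pow_one q).symm (.inl rfl)
        have hfr : Nat.card F = p := by
          rw [hc, hn]
          have h1 : Nat.Prime (p ^ n) := hn ▸ h.1
          rw [(Nat.Prime.pow_eq_iff h1).1 rfl |>.2, pow_one]
        exact CfsgLib.PSL2.finrank_prime_false hfr hr hm
      · exfalso
        have hfr : Nat.card F = p := by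
          rw [hc, h]
          refine ((Nat.prime_dvd_prime_iff_eq hpr Nat.prime_five).1 ?_).symm
          rw [← h, hn]; exact dvd_pow_self p (by omega)
        exact CfsgLib.PSL2.finrank_prime_false hfr hr hm

end Cfsg.Agent.S0810
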