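import Cfsg.Statements.S0816
import Cfsg.Agent.Lib.Geometry.AutCard
import Cfsg.Agent.S2604
import Cfsg.Agent.Lib.Geometry.OutFrob

set_option autoImplicit false
open Cfsg CfsgLib.Geometry

namespace Cfsg.Agent.S0816

/-- |Aut(PΩ_(2m+1)(q))| = 2 f · |PΩ_(2m+1)(q)| for q = p^f odd and m ≥ 3 (for the form quadFormOdd). -/
theorem result {F : Type*} [Field F] [Fintype F] (p f : ℕ) [Fact p.Prime] (hf : 1 ≤ f) (hF : Fintype.card F = p ^ f) (hodd : Odd p) (m : ℕ) (hm : 3 ≤ m) : Nat.card (MulAut (Cfsg.POmega F (Cfsg.quadFormOdd m F))) = 2 * f * Nat.card (Cfsg.POmega F (Cfsg.quadFormOdd m F)) := by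
  have hp2 : p ≠ 2 := fun h => by rw [h] at hodd; exact absurd hodd (by decide)
  haveI := CfsgLib.Geometry.charP_of_pow (Fact.out : p.Prime) hF
  have h2 : (2 : F) ≠ 0 := Ring.two_ne_zero (by rw [ringChar.eq F p]; exact hp2)
  have hout := CfsgLib.Geometry.card_out_of_equiv (Cfsg.Agent.S2604.result hf hF hp2 hm)
  obtain ⟨q, D⟩ := CfsgLib.Geometry.rootHyp_exists (CfsgLib.Geometry.nondegenerate_odd h2 m) (by simp; omega)
  rw [← CfsgLib.Geometry.coe_matQuad_odd] at hout ⊢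
  rw [D.card_mulAut hout, Nat.card_congr Multiplicative.toAdd, Nat.card_prod, Nat.card_zmod, Nat.card_zmod]

end Cfsg.Agent.S0816
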