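import Cfsg.Statements.S2608
import Cfsg.Agent.Lib.Geometry.OutPlus
import Cfsg.Agent.Lib.Geometry.D4Normal
import Cfsg.Agent.Lib.Geometry.PGOStd

set_option autoImplicit false
open Cfsg CfsgLib.Geometry

namespace Cfsg.Agent.S2608

/-- Outer automorphism group of PΩ⁺_2m(q), q = p^f odd: for m = 4 it is S_4 × C_f (triality); for m ≥ 5 it is C_2 × C_2 × C_f when q ≡ 3 (mod 4) and m is odd, and D_8 × C_f otherwise. -/
theorem result {F : Type*} [Field F] [Fintype F] {p f m : ℕ} [Fact p.Prime] (hf : 1 ≤ f) (hF : Fintype.card F = p ^ f) (hp : p ≠ 2) (hm : 4 ≤ m) : if m = 4 then Nonempty (Cfsg.Out (Cfsg.POmega F (Cfsg.quadFormPlus m F)) ≃* Equiv.Perm (Fin 4) × Multiplicative (ZMod f)) else if p ^ f % 4 = 3 ∧ Odd m then Nonempty (Cfsg.Out (Cfsg.POmega F (Cfsg.quadFormPlus m F)) ≃* Multiplicative (ZMod 2 × ZMod 2 × ZMod f)) else Nonempty (Cfsg.Out (Cfsg.POmega F (Cfsg.quadFormPlus m F)) ≃* DihedralGroup 4 × Multiplicative (ZMod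 f)) := by
  haveI := CfsgLib.Geometry.charP_of_pow (Fact.out : p.Prime) hF
  have h2 : (2 : F) ≠ 0 := Ring.two_ne_zero (by rw [ringChar.eq F p]; exact hp)
  split_ifs with h hd
  · subst h
    rw [← CfsgLib.Geometry.coe_matQuad_plus]
    exact CfsgLib.Geometry.out_plus_four_odd Fact.out hp hf hF
  all_goals
    obtain ⟨v, hv, w, D, hw⟩ := CfsgLib.Geometry.exists_outData_plus (Fact.out : p.Prime) hf hF (show 5 ≤ m by omega)
    have key := CfsgLib.Geometry.isSquare_det_plus_iff (F := F) m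
    rw [hF] at key
    rw [← CfsgLib.Geometry.coe_matQuad_plus]
    obtain ⟨hns, hsq⟩ := D.shape_plus_odd h2 hw
  · exact hns fun h' => key.1 h' ⟨hd.2, hd.1⟩
  · exact hsq (key.2 fun h' => hd ⟨h'.2, h'.1⟩)

end Cfsg.Agent.S2608
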