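import Cfsg.Statements.S0817
import Cfsg.Agent.Lib.Geometry.AutCard
import Cfsg.Agent.S2607
import Cfsg.Agent.S2608

set_option autoImplicit false
open Cfsg CfsgLib.Geometry

namespace Cfsg.Agent.S0817

/-- |Aut(PΩ⁺_2m(q))| for q = p^f, m ≥ 4: |PΩ⁺_2m(q)| times f, times 3 when m = 4, times 2 if p = 2, and times 8 or 4 if p is odd according as m(q−1)/2 is even or odd. -/
theorem result {F : Type*} [Field F] [Fintype F] (p f : ℕ) [Fact p.Prime] (hf : 1 ≤ f) (hF : Fintype.card F = p ^ f) (m : ℕ) (hm : 4 ≤ m) : Nat.card (MulAut (Cfsg.POmega F (Cfsg.quadFormPlus m F))) = (if m = 4 then 3 else 1) * (if p = 2 then 2 else (if Even (m * (p ^ f - 1) / 2) then 8 else 4)) * f * Nat.card (Cfsg.POmega F (Cfsg.quadFormPlus m F)) := by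
  obtain ⟨q, D⟩ := CfsgLib.Geometry.rootHyp_exists (CfsgLib.Geometry.nondegenerate_plus (F := F) m) (by simp; omega)
  have hS4 : Nat.card (Equiv.Perm (Fin 4)) = 24 := by rw [Nat.card_perm, Nat.card_fin]; rfl
  have hS3 : Nat.card (Equiv.Perm (Fin 3)) = 6 := by rw [Nat.card_perm, Nat.card_fin]; rfl
  have hout : Nat.card (Cfsg.Out (Cfsg.POmega F (Cfsg.quadFormPlus m F))) =
      (if m = 4 then 3 else 1) * (if p = 2 then 2 else (if Even (m * (p ^ f - 1) / 2) then 8 else 4)) * f := by
    by_cases hp2 : p = 2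
    · subst hp2
      have h := Cfsg.Agent.S2607.result hf hF hm
      rw [if_pos rfl]
      split_ifs at h ⊢ with h4 <;> rw [CfsgLib.Geometry.card_out_of_equiv h] <;>
        simp [Nat.card_congr Multiplicative.toAdd, Nat.card_prod, -Nat.card_eq_fintype_card, hS3]
    · have h := Cfsg.Agent.S2608.result hf hF hp2 hm
      have key := CfsgLib.Geometry.even_half_iff (m := m) (((Fact.out : p.Prime).odd_of_ne_two hp2).pow (n := f))
      by_cases h4 : m = 4
      · rw [if_pos h4] at h
        have he : Even (m * (p ^ f - 1) / 2) := key.2 fun h' => by rw [h4] at h'; exact absurd h'.2 (by decide)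
        rw [if_pos h4, if_neg hp2, if_pos he, CfsgLib.Geometry.card_out_of_equiv h]
        simp [Nat.card_congr Multiplicative.toAdd, Nat.card_prod, -Nat.card_eq_fintype_card, hS4]
      · rw [if_neg h4] at h
        rw [if_neg h4, if_neg hp2]
        by_cases hd : p ^ f % 4 = 3 ∧ Odd m
        · rw [if_pos hd] at h
          rw [if_neg fun he => key.1 he hd, CfsgLib.Geometry.card_out_of_equiv h]
          simp [Nat.card_congr Multiplicative.toAdd, Nat.card_prod, -Nat.card_eq_fintype_card]; ring
        · rw [if_neg hd] at h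
          rw [if_pos (key.2 hd), CfsgLib.Geometry.card_out_of_equiv h]
          simp [Nat.card_congr Multiplicative.toAdd, Nat.card_prod, -Nat.card_eq_fintype_card, DihedralGroup.nat_card]
  rw [← CfsgLib.Geometry.coe_matQuad_plus] at hout ⊢
  exact D.card_mulAut hout

end Cfsg.Agent.S0817
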