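import Cfsg.Statements.S2606
import Cfsg.Agent.Lib.Geometry.OutMinus
import Cfsg.Agent.Lib.Geometry.PGOStd

set_option autoImplicit false
open Cfsg CfsgLib.Geometry

namespace Cfsg.Agent.S2606

/-- Outer automorphism group of PΩ⁻_2m(q), m ≥ 4, q = p^f odd: it is dihedral of order 8 times cyclic of order f when q ≡ 3 (mod 4) and m is odd, and otherwise the direct product of a group of order 2 with a cyclic group of order 2f. -/
theorem result {F : Type*} [Field F] [Fintype F] {p f m : ℕ} [Fact p.Prime] (hf : 1 ≤ f) (hF : Fintype.card F = p ^ f) (hp : p ≠ 2) (hm : 4 ≤ m) (a b : F) (hab : ∀ z₁ z₂ : F, z₁ ^ 2 + a * z₁ * z₂ + b * z₂ ^ 2 = 0 → z₁ = 0 ∧ z₂ = 0) : if p ^ f % 4 = 3 ∧ Odd m then Nonempty (Cfsg.Out (Cfsg.POmega F (Cfsg.quadFormMinus (m - 1) F a b)) ≃* DihedralGroup 4 × Multiplicative (ZMod f)) else Nonempty (Cfsg.Out (Cfsg.POmega F (Cfsg.quadFormMinus (m - 1) F a b)) ≃* Multiplicative (ZMod 2 × ZMod (2 * f)))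 := by
  haveI := CfsgLib.Geometry.charP_of_pow (Fact.out : p.Prime) hF
  obtain ⟨v, hv, w, D, hw⟩ := CfsgLib.Geometry.exists_outData_minus (Fact.out : p.Prime) hf hF
    (show 3 ≤ m - 1 by omega) hab
  have h2 : (2 : F) ≠ 0 := Ring.two_ne_zero (by rw [ringChar.eq F p]; exact hp)
  have key := CfsgLib.Geometry.isSquare_det_minus_iff h2 (m - 1) hab
  rw [hF] at key
  rw [← CfsgLib.Geometry.coe_matQuad_minus]
  obtain ⟨hns, hsq⟩ := D.shape_minus_odd h2 hw
  split_ifs with h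
  · exact hsq (key.2 ⟨Nat.Odd.sub_odd h.2 odd_one, h.1⟩)
  · exact hns fun hd => h ⟨(key.1 hd).2, by
      obtain ⟨j, hj⟩ := (key.1 hd).1
      exact ⟨j, by omega⟩⟩

end Cfsg.Agent.S2606
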