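import Cfsg.Statements.S0818
import Cfsg.Agent.Lib.Geometry.AutCard
import Cfsg.Agent.S2605
import Cfsg.Agent.S2606

set_option autoImplicit false
open Cfsg CfsgLib.Geometry

namespace Cfsg.Agent.S0818

/-- |Aut(PΩ⁻_2m(q))| for q = p^f, m ≥ 4 (form quadFormMinus (m−1) with anisotropic binary part): |PΩ⁻_2m(q)| times f, times 2 if p = 2, and times 4 or 8 if p is odd according as m(q−1)/2 is even or odd. -/
theorem result {F : Type*} [Field F] [Fintype F] (p f : ℕ) [Fact p.Prime] (hf : 1 ≤ f) (hF : Fintype.card F = p ^ f) (m : ℕ) (hm : 4 ≤ m) (a b : F) (hab : ∀ z₁ z₂ : F, z₁ ^ 2 + a * z₁ * z₂ + b * z₂ ^ 2 = 0 → z₁ = 0 ∧ z₂ = 0) : Nat.card (MulAut (Cfsg.POmega F (Cfsg.quadFormMinus (m - 1) F a b))) = (if p = 2 then 2 else (if Even (m * (p ^ f - 1) / 2) then 4 else 8)) * f * Nat.card (Cfsg.POmega F (Cfsg.quadFormMinus (m - 1) F a b)) := by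
  obtain ⟨q, D⟩ := CfsgLib.Geometry.rootHyp_exists (CfsgLib.Geometry.nondegenerate_minus (m - 1) hab) (by simp; omega)
  have hout : Nat.card (Cfsg.Out (Cfsg.POmega F (Cfsg.quadFormMinus (m - 1) F a b))) =
      (if p = 2 then 2 else (if Even (m * (p ^ f - 1) / 2) then 4 else 8)) * f := by
    by_cases hp2 : p = 2
    · subst hp2
      rw [if_pos rfl]
      exact (Cfsg.Agent.S2605.result hf hF hm a b hab).2
    · have h := Cfsg.Agent.S2606.result hf hF hp2 hm a b hab
      have key := CfsgLib.Geometry.even_half_iff (m := m) (((Fact.out : p.Prime).odd_of_ne_two hp2).pow (n := f))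
      rw [if_neg hp2]
      by_cases hd : p ^ f % 4 = 3 ∧ Odd m
      · rw [if_pos hd] at h
        rw [if_neg fun he => key.1 he hd, CfsgLib.Geometry.card_out_of_equiv h]
        simp [Nat.card_congr Multiplicative.toAdd, Nat.card_prod, -Nat.card_eq_fintype_card, DihedralGroup.nat_card]
      · rw [if_neg hd] at h
        rw [if_pos (key.2 hd), CfsgLib.Geometry.card_out_of_equiv h]
        simp [Nat.card_congr Multiplicative.toAdd, Nat.card_prod, -Nat.card_eq_fintype_card]; ring
  rw [← CfsgLib.Geometry.coe_matQuad_minus] at hout ⊢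
  exact D.card_mulAut hout

end Cfsg.Agent.S0818
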