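import Cfsg.Statements.S0820
import Mathlib

set_option autoImplicit false
open Cfsg

namespace Cfsg.Agent.S0820

theorem char2_of_card {F : Type*} [Field F] [Fintype F] (hF : Fintype.card F = 4) : CharP F 2 := by
  have h4 : (4 : F) = 0 := by
    have h := Nat.cast_card_eq_zero F
    rw [hF] at h
    exact_mod_cast h
  have h22 : (2 : F) * 2 = 0 := by rw [← h4]; norm_num
  exact CharTwo.of_one_ne_zero_of_two_eq_zero one_ne_zero (mul_self_eq_zero.1 h22)

theorem center_cube {F : Type*} [Field F] {z : Matrix.SpecialLinearGroup (Fin 3) F}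
    (hz : z ∈ Subgroup.center (Matrix.SpecialLinearGroup (Fin 3) F)) : z * z * z = 1 := by
  obtain ⟨r, hr, hzr⟩ := Matrix.SpecialLinearGroup.mem_center_iff.1 hz
  rw [Fintype.card_fin] at hr
  refine Subtype.ext ?_
  rw [Matrix.SpecialLinearGroup.coe_mul, Matrix.SpecialLinearGroup.coe_mul, ← hzr, Matrix.SpecialLinearGroup.coe_one]
  rw [← map_mul, ← map_mul, show r * r * r = r ^ 3 by ring, hr, map_one]

/-- Every involution of the special linear group of degree three in characteristic two is a transvection. -/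
theorem exists_normal_form {F : Type*} [Field F] [CharP F 2] (g : Matrix.SpecialLinearGroup (Fin 3) F)
    (hg2 : g * g = 1) (hg1 : g ≠ 1) :
    ∃ P : Matrix.SpecialLinearGroup (Fin 3) F, g = P *
      ⟨Matrix.transvection 0 1 1, Matrix.det_transvection_of_ne 0 1 (by decide) 1⟩ * P⁻¹ := by
  set M : Matrix (Fin 3) (Fin 3) F := (g : Matrix (Fin 3) (Fin 3) F) with hM
  have hM2 : M * M = 1 := congrArg Subtype.val hg2
  set N := M - 1 with hN
  have hNN : N * N = 0 := by
    rw [hN, sub_mul, mul_sub, hM2, one_mul, mul_one]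
    ext i j
    simp [Matrix.sub_apply, CharTwo.sub_eq_add, CharTwo.add_self_eq_zero]
    ring_nf
    simp [CharTwo.two_eq_zero]
  have hNv : ∀ w : Fin 3 → F, N.mulVec (N.mulVec w) = 0 := fun w => by
    rw [Matrix.mulVec_mulVec, hNN, Matrix.zero_mulVec]
  obtain ⟨v2, hv2⟩ : ∃ v2, N.mulVec v2 ≠ 0 := by
    by_contra h
    push Not at h
    apply hg1
    refine Subtype.ext ?_
    rw [← hM, Matrix.SpecialLinearGroup.coe_one, ← sub_eq_zero, ← hN]
    exact Matrix.ext_of_mulVec_single fun i => by rw [h, Matrix.zero_mulVec]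
  set v1 := N.mulVec v2 with hv1
  obtain ⟨v3, hv3, hv3'⟩ : ∃ v3, N.mulVec v3 = 0 ∧ ∀ c : F, v3 ≠ c • v1 := by
    by_contra h
    push Not at h
    have hspan : (⊤ : Submodule F (Fin 3 → F)) ≤ Submodule.span F {v1, v2} := by
      intro w _
      obtain ⟨c, hc⟩ := h (N.mulVec w) (hNv w)
      obtain ⟨d, hd⟩ := h (w - c • v2) (by rw [Matrix.mulVec_sub, Matrix.mulVec_smul, ← hv1, hc, sub_self])
      rw [Submodule.mem_span_pair]
      exact ⟨d, c, by rw [← hd]; abel⟩
    classical
    have h1 := Submodule.finrank_mono hspan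
    have h2 := finrank_span_le_card (R := F) ({v1, v2} : Set (Fin 3 → F))
    rw [finrank_top, Module.finrank_fin_fun] at h1
    have h3 : ({v1, v2} : Set (Fin 3 → F)).toFinset.card ≤ 2 := by
      rw [Set.toFinset_insert, Set.toFinset_singleton]
      exact Finset.card_le_two
    omega
  let B : Matrix (Fin 3) (Fin 3) F := Matrix.of fun i j => ![v1, v2, v3] j i
  have hB0 : B.det ≠ 0 := by
    intro h
    obtain ⟨w, hw0, hw⟩ := Matrix.exists_mulVec_eq_zero_iff.2 h
    have hexp : w 0 • v1 + w 1 • v2 + w 2 • v3 = 0 := by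
      rw [← hw]
      funext i
      simp [B, Matrix.mulVec, dotProduct, Fin.sum_univ_three, mul_comm]
    have h1 := congrArg N.mulVec hexp
    rw [Matrix.mulVec_add, Matrix.mulVec_add, Matrix.mulVec_smul, Matrix.mulVec_smul, Matrix.mulVec_smul,
      hv1, hNv, hv3, ← hv1, Matrix.mulVec_zero, smul_zero, smul_zero, zero_add, add_zero,
      smul_eq_zero_iff_left hv2] at h1
    rw [h1, zero_smul, add_zero] at hexp
    have h2 : w 2 = 0 := by
      by_contra hne
      refine hv3' (-(w 2)⁻¹ * w 0) ?_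
      rw [add_eq_zero_iff_eq_neg'] at hexp
      rw [← one_smul F v3, ← inv_mul_cancel₀ hne, mul_smul, hexp, smul_neg, smul_smul, neg_mul, neg_smul]
    rw [h2, zero_smul, add_zero, smul_eq_zero_iff_left hv2] at hexp
    exact hw0 (funext fun i => by fin_cases i <;> assumption)
  let P0 : Matrix (Fin 3) (Fin 3) F := B * Matrix.diagonal ![1, 1, B.det⁻¹]
  have hP0 : P0.det = 1 := by
    rw [Matrix.det_mul, Matrix.det_diagonal, Fin.prod_univ_three]
    simp [hB0]
  refine ⟨⟨P0, hP0⟩, eq_mul_inv_iff_mul_eq.2 (Subtype.ext ?_)⟩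
  show M * P0 = P0 * Matrix.transvection 0 1 1
  have hMv : ∀ w, M.mulVec w = w + N.mulVec w := fun w => by rw [hN, Matrix.sub_mulVec, Matrix.one_mulVec]; abel
  have hcol : M * B = B * Matrix.transvection 0 1 1 := by
    ext i j
    rw [Matrix.mul_apply]
    change M.mulVec (![v1, v2, v3] j) i = _
    rw [hMv]
    fin_cases j <;>
      simp [B, hv1, hNv, hv3, Matrix.mul_transvection_apply_same, Matrix.mul_transvection_apply_of_ne]
  have hd : Matrix.diagonal ![(1 : F), 1, B.det⁻¹] * Matrix.transvection 0 1 1 =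
      Matrix.transvection 0 1 1 * Matrix.diagonal ![(1 : F), 1, B.det⁻¹] := by
    ext i j
    fin_cases i <;> fin_cases j <;>
      simp [Matrix.mul_apply, Matrix.transvection, Matrix.single_apply, Matrix.one_apply, Fin.sum_univ_three]
  calc M * P0 = (M * B) * Matrix.diagonal ![(1 : F), 1, B.det⁻¹] := (mul_assoc _ _ _).symm
    _ = B * (Matrix.transvection 0 1 1 * Matrix.diagonal ![(1 : F), 1, B.det⁻¹]) := by rw [hcol, mul_assoc]
    _ = P0 * Matrix.transvection 0 1 1 := by rw [← hd, ← mul_assoc]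

/-- Any two elements of order 2 of PSL_3(4) are conjugate. -/
theorem result {F : Type*} [Field F] [Fintype F] (hF : Fintype.card F = 4) (x y : Matrix.ProjectiveSpecialLinearGroup (Fin 3) F) (hx : orderOf x = 2) (hy : orderOf y = 2) : IsConj x y := by
  classical
  haveI : CharP F 2 := char2_of_card hF
  have lift : ∀ x : Matrix.ProjectiveSpecialLinearGroup (Fin 3) F, orderOf x = 2 →
      ∃ g : Matrix.SpecialLinearGroup (Fin 3) F, QuotientGroup.mk' (Subgroup.center _) g = x ∧ g * g = 1 ∧ g ≠ 1 := by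
    intro x hx
    obtain ⟨g, hg⟩ := QuotientGroup.mk'_surjective (Subgroup.center (Matrix.SpecialLinearGroup (Fin 3) F)) x
    have hx2 : x * x = 1 := by rw [← sq, ← hx, pow_orderOf_eq_one]
    have hgc : g * g ∈ Subgroup.center (Matrix.SpecialLinearGroup (Fin 3) F) := by
      rw [← QuotientGroup.eq_one_iff]
      exact (map_mul (QuotientGroup.mk' (Subgroup.center _)) g g).trans (by rw [hg]; exact hx2)
    have himg : QuotientGroup.mk' (Subgroup.center _) (g * g * g) = x := by rw [map_mul, map_mul, hg, hx2, one_mul]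
    refine ⟨g * g * g, himg, ?_, fun h => ?_⟩
    · rw [show g * g * g * (g * g * g) = (g * g) * (g * g) * (g * g) by group]
      exact center_cube hgc
    · rw [h, map_one] at himg
      rw [← himg, orderOf_one] at hx
      omega
  obtain ⟨g, hg, hg2, hg1⟩ := lift x hx
  obtain ⟨k, hk, hk2, hk1⟩ := lift y hy
  obtain ⟨P, hP⟩ := exists_normal_form g hg2 hg1
  obtain ⟨Q, hQ⟩ := exists_normal_form k hk2 hk1
  rw [← hg, ← hk]
  exact MonoidHom.map_isConj _ ((isConj_iff.2 ⟨P, hP.symm⟩).symm.trans (isConj_iff.2 ⟨Q, hQ.symm⟩))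

end Cfsg.Agent.S0820
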