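import Cfsg.Statements.S0823
import Cfsg.Agent.Lib.Geometry.SmallOrth

set_option autoImplicit false
open Cfsg

namespace Cfsg.Agent.S0823

/-- SO_3(3) ≅ S_4: the determinant-one isometries of the form x_0² + x_1y_1 over the field with 3 elements form a group isomorphic to the symmetric group on 4 letters. -/
theorem result {F : Type*} [Field F] [Fintype F] (hF : Fintype.card F = 3) : Nonempty (↥(Cfsg.specialIsometryGroup F (Cfsg.quadFormOdd 1 F)) ≃* Equiv.Perm (Fin 4)) := by
  haveI := Fact.mk Nat.prime_three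
  let e : F ≃+* ZMod 3 := (FiniteField.ringEquivOfCardEq (by rw [ZMod.card, hF]))
  obtain ⟨f, hf⟩ := CfsgLib.Geometry.SmallOrth.isometry_congr e (Cfsg.quadFormOdd 1 F)
    (Cfsg.quadFormOdd 1 (ZMod 3)) fun v => by simp [Cfsg.quadFormOdd, Function.comp_apply]
  obtain ⟨g⟩ := CfsgLib.Geometry.SmallOrth.perm4_equiv
  refine ⟨((f.subgroupMap _).trans (MulEquiv.subgroupCongr ?_)).trans g⟩
  ext x
  constructor
  · rintro ⟨y, hy, rfl⟩
    refine MonoidHom.mem_ker.2 ((hf y).trans ?_)
    rw [show Matrix.GeneralLinearGroup.det (y : GL (Unit ⊕ (Fin 1 ⊕ Fin 1)) F) = 1 from hy, map_one]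
  · intro hx
    refine ⟨f.symm x, MonoidHom.mem_ker.2 ?_, f.apply_symm_apply x⟩
    refine Units.map_injective (f := (e : F →* ZMod 3)) e.injective ?_
    show Units.map (e : F →* ZMod 3)
        (Matrix.GeneralLinearGroup.det (f.symm x : GL (Unit ⊕ (Fin 1 ⊕ Fin 1)) F)) = Units.map (e : F →* ZMod 3) 1
    rw [← hf, f.apply_symm_apply, map_one]
    exact hx

end Cfsg.Agent.S0823
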