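import Cfsg.Statements.S0824
import Cfsg.Agent.Lib.Geometry.SmallOrth

set_option autoImplicit false
open Cfsg

namespace Cfsg.Agent.S0824

/-- O⁻_4(2) ≅ S_5: the isometry group of the form x y + z_1² + z_1 z_2 + z_2² over the field with 2 elements is isomorphic to the symmetric group on 5 letters. -/
theorem result {F : Type*} [Field F] [Fintype F] (hF : Fintype.card F = 2) : Nonempty (↥(Cfsg.isometryGroup F (Cfsg.quadFormMinus 1 F 1 1)) ≃* Equiv.Perm (Fin 5)) := by
  let e : F ≃+* ZMod 2 := (FiniteField.ringEquivOfCardEq (by rw [ZMod.card, hF]))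
  obtain ⟨f, -⟩ := CfsgLib.Geometry.SmallOrth.isometry_congr e (Cfsg.quadFormMinus 1 F 1 1)
    (Cfsg.quadFormMinus 1 (ZMod 2) 1 1) fun v => by simp [Cfsg.quadFormMinus, Function.comp_apply]
  obtain ⟨g⟩ := CfsgLib.Geometry.SmallOrth.perm5_equiv
  exact ⟨f.trans g⟩

end Cfsg.Agent.S0824
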