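import Cfsg.Statements.S0825
import Cfsg.Agent.Lib.Geometry.SmallOrth
import Cfsg.Agent.Lib.KnownB.EvenSets

set_option autoImplicit false
open Cfsg

namespace Cfsg.Agent.S0825

/-- O⁺_6(2) ≅ S_8: the isometry group of the hyperbolic form x_1y_1 + x_2y_2 + x_3y_3 over the field with 2 elements is isomorphic to the symmetric group on 8 letters. -/
theorem result {F : Type*} [Field F] [Fintype F] (hF : Fintype.card F = 2) : Nonempty (↥(Cfsg.isometryGroup F (Cfsg.quadFormPlus 3 F)) ≃* Equiv.Perm (Fin 8)) := by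
  let e : F ≃+* ZMod 2 := (FiniteField.ringEquivOfCardEq (by rw [ZMod.card, hF]))
  obtain ⟨f, -⟩ := CfsgLib.Geometry.SmallOrth.isometry_congr e (Cfsg.quadFormPlus 3 F)
    (Cfsg.quadFormPlus 3 (ZMod 2)) fun v => by simp [Cfsg.quadFormPlus, Function.comp_apply]
  obtain ⟨φ, hφ⟩ := (CfsgLib.KnownB.EvenSets.main 1 le_rfl).1 odd_one
  have hbij : Function.Bijective φ := (Nat.bijective_iff_injective_and_card φ).2 ⟨hφ, by
    rw [CfsgLib.Classical.card_isometry_plus, Nat.card_perm, Nat.card_fin, Nat.card_zmod]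
    rfl⟩
  exact ⟨f.trans (MulEquiv.ofBijective φ hbij).symm⟩

end Cfsg.Agent.S0825
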