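import Cfsg.Statements.S0828
import Cfsg.Agent.Lib.Geometry.StabCountSp

set_option autoImplicit false
open Cfsg CfsgLib.Geometry

namespace Cfsg.Agent.S0828

/-- The symplectic generalised quadrangle over a field with q elements: the number of 2-dimensional subspaces of F^4 on which the symplectic form vanishes is (q + 1)(q² + 1), and every non-zero vector lies in exactly q + 1 of them. -/
theorem result {F : Type*} [Field F] [Fintype F] {q : ℕ} (hF : Fintype.card F = q) : Nat.card {W : Submodule F (Fin 2 ⊕ Fin 2 → F) // Module.finrank F W = 2 ∧ ∀ u ∈ W, ∀ v ∈ W, Cfsg.sympForm 2 F u v = 0} = (q + 1) * (q ^ 2 + 1) ∧ ∀ v : Fin 2 ⊕ Fin 2 → F, v ≠ 0 → Nat.card {W : Submodule F (Fin 2 ⊕ Fin 2 → F) // Module.finrank F W = 2 ∧ v ∈ W ∧ ∀ u ∈ W, ∀ w ∈ W, Cfsg.sympForm 2 F u w = 0} = q + 1 := by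
  refine ⟨?_, fun v hv => hF ▸ CfsgLib.Geometry.StabCount.card_ti_planes_through hv⟩
  have h := CfsgLib.Geometry.StabCount.card_ti_subspaces (F := F) (m := 2) (k := 2) (fun _ => True)
  simp only [and_true, CfsgLib.Geometry.StabCount.card_tiFam, Finset.prod_range_succ, Finset.prod_range_zero,
    Fin.prod_univ_two, Nat.card_eq_fintype_card (α := F), hF, Fin.val_zero, Fin.val_one] at h
  have h2 : 2 ≤ q := hF ▸ Fintype.one_lt_card
  obtain ⟨c, rfl⟩ := Nat.exists_eq_add_of_le h2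
  refine Nat.eq_of_mul_eq_mul_right ?_ (h.trans ?_)
  · exact Nat.mul_pos (Nat.sub_pos_of_lt (Nat.pow_lt_pow_right (by omega) (by norm_num)))
      (Nat.sub_pos_of_lt (Nat.pow_lt_pow_right (by omega) (by norm_num)))
  · norm_num
    have a1 : 1 ≤ (2 + c) ^ 4 := Nat.one_le_pow _ _ (by omega)
    have a2 : (2 + c) ≤ (2 + c) ^ 3 := Nat.le_self_pow (by norm_num) _
    have a3 : 1 ≤ (2 + c) ^ 2 := Nat.one_le_pow _ _ (by omega)
    have a4 : (2 + c) ≤ (2 + c) ^ 2 := Nat.le_self_pow (by norm_num) _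
    zify [a1, a2, a3, a4]
    ring

end Cfsg.Agent.S0828
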