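import Cfsg.Statements.S0831
import Cfsg.Agent.Lib.Geometry.MaxSingular

set_option autoImplicit false
open Cfsg CfsgLib.Geometry

namespace Cfsg.Agent.S0831

/-- The two families of maximal totally singular subspaces of the hyperbolic quadric: for the form Σ x_i y_i on F^(2m), m ≥ 1, and m-dimensional subspaces U, W, X on which it vanishes, the parities of m − dim(U ∩ W), m − dim(W ∩ X) and m − dim(U ∩ X) sum to an even number (so 'even codimension of the intersection' is an equivalence relation), and there exist two such subspaces meeting in codimension 1 (so there are exactly two classes). -/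
theorem result {F : Type*} [Field F] (m : ℕ) (hm : 1 ≤ m) : (∀ U W X : Submodule F (Fin m ⊕ Fin m → F), (Module.finrank F U = m ∧ ∀ w ∈ U, Cfsg.quadFormPlus m F w = 0) → (Module.finrank F W = m ∧ ∀ w ∈ W, Cfsg.quadFormPlus m F w = 0) → (Module.finrank F X = m ∧ ∀ w ∈ X, Cfsg.quadFormPlus m F w = 0) → Even ((m - Module.finrank F ↥(U ⊓ W)) + (m - Module.finrank F ↥(W ⊓ X)) + (m - Module.finrank F ↥(U ⊓ X)))) ∧ ∃ U W : Submodule F (Fin m ⊕ Fin m → F), (Module.finrank F U = m ∧ ∀ w ∈ U, Cfsg.quadFormPlus m F w = 0) ∧ (Module.finrank F W = m ∧ ∀ w ∈ W, Cfsg.quadFormPlus m F w = 0) ∧ Module.finrank F ↥(U ⊓ W) + 1 = m := by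
  have hQ := nondegenerate_plus (F := F) m
  have hV : Module.finrank F (Fin m ⊕ Fin m → F) = 2 * m := by simp; omega
  have conv : ∀ U : Submodule F (Fin m ⊕ Fin m → F),
      (Module.finrank F U = m ∧ ∀ w ∈ U, Cfsg.quadFormPlus m F w = 0) ↔
        IsMaxSing (matQuad (plusMat m F)) m U := fun U => by
    rw [IsMaxSing, coe_matQuad_plus]
  refine ⟨fun U W X hU hW hX =>
    maxSing_parity hQ hV ((conv X).1 hX) _ U W ((conv U).1 hU) ((conv W).1 hW) rfl, ?_⟩
  obtain ⟨U, hU⟩ := (⟨_, isMaxSing_coord (F := F) m⟩ :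
    ∃ U, IsMaxSing (matQuad (plusMat m F)) m U)
  classical
  -- a neighbour of `U`
  haveI : Nontrivial U := Module.nontrivial_of_finrank_pos (R := F) (by rw [hU.1]; omega)
  obtain ⟨e, he⟩ := exists_ne (0 : U)
  have he0 : (e : Fin m ⊕ Fin m → F) ≠ 0 := fun h => he (Subtype.ext h)
  obtain ⟨H, hH⟩ := Submodule.exists_isCompl (Submodule.span F {(e : Fin m ⊕ Fin m → F)})
  have heD : (e : Fin m ⊕ Fin m → F) ∉ U ⊓ H := fun h => he0 (by
    simpa using Submodule.disjoint_def.1 hH.disjoint _ (Submodule.mem_span_singleton_self _) h.2)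
  obtain ⟨f, hf, hef, hfD⟩ := exists_partner hQ (U ⊓ H) heD (hU.2 _ e.2)
    (fun z hz => polar_eq_zero_of_singular hU.2 e.2 hz.1)
  have hfU : f ∉ U := fun h => by
    rw [polar_eq_zero_of_singular hU.2 e.2 h] at hef; exact zero_ne_one hef
  have hDdim : Module.finrank F ↥(U ⊓ H) + 1 = m := by
    have hsup : (U ⊓ H) ⊔ Submodule.span F {(e : Fin m ⊕ Fin m → F)} = U := by
      refine le_antisymm (sup_le inf_le_left ((Submodule.span_singleton_le_iff_mem _ _).2 e.2))
        fun u hu => ?_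
      obtain ⟨a, ha, b, hb, rfl⟩ := Submodule.mem_sup.1 (hH.sup_eq_top ▸ Submodule.mem_top (x := u))
      refine add_comm b a ▸ add_mem (Submodule.mem_sup_left ⟨?_, hb⟩) (Submodule.mem_sup_right ha)
      obtain ⟨t, rfl⟩ := Submodule.mem_span_singleton.1 ha
      simpa using sub_mem hu (U.smul_mem t e.2)
    have h1 := Submodule.finrank_sup_add_finrank_inf_eq (U ⊓ H) (Submodule.span F {(e : Fin m ⊕ Fin m → F)})
    rw [hsup, hU.1, show (U ⊓ H) ⊓ Submodule.span F {(e : Fin m ⊕ Fin m → F)} = ⊥ by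
      rw [eq_bot_iff]; exact fun z hz => by
        simpa using Submodule.disjoint_def.1 hH.disjoint z hz.2 hz.1.2,
      finrank_bot, finrank_span_singleton he0] at h1
    omega
  let W := (U ⊓ H) ⊔ Submodule.span F {f}
  have hinf : U ⊓ W = U ⊓ H := by
    refine le_antisymm (fun z hz => ?_) (le_inf inf_le_left le_sup_left)
    obtain ⟨d, hd, y, hy, rfl⟩ := Submodule.mem_sup.1 hz.2
    obtain ⟨t, rfl⟩ := Submodule.mem_span_singleton.1 hy
    by_cases ht : t = 0
    · simpa [ht] using hd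
    · have := U.smul_mem t⁻¹ (sub_mem hz.1 hd.1)
      rw [add_sub_cancel_left, inv_smul_smul₀ ht] at this
      exact absurd this hfU
  have hW : IsMaxSing (matQuad (plusMat m F)) m W := by
    refine ⟨?_, fun z hz => ?_⟩
    · have h1 := Submodule.finrank_sup_add_finrank_inf_eq (U ⊓ H) (Submodule.span F {f})
      have h2 : (U ⊓ H) ⊓ Submodule.span F {f} = ⊥ := by
        rw [eq_bot_iff]
        intro z hz
        obtain ⟨t, rfl⟩ := Submodule.mem_span_singleton.1 hz.2
        by_contra ht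
        exact hfU (by simpa [show t ≠ 0 from fun h => ht (by simp [h])] using U.smul_mem t⁻¹ hz.1.1)
      rw [h2, finrank_bot, finrank_span_singleton (fun h : f = 0 => hfU (h ▸ U.zero_mem))] at h1
      show Module.finrank F ↥((U ⊓ H) ⊔ Submodule.span F {f}) = m
      omega
    · obtain ⟨d, hd, y, hy, rfl⟩ := Submodule.mem_sup.1 hz
      obtain ⟨t, rfl⟩ := Submodule.mem_span_singleton.1 hy
      rw [map_add', map_smul', hU.2 d hd.1, hf, polar_smul_right', QuadraticMap.polar_comm, hfD d hd]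
      ring
  exact ⟨U, W, (conv U).2 hU, (conv W).2 hW, by rw [hinf]; exact hDdim⟩

end Cfsg.Agent.S0831
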