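import Cfsg.Statements.S0832
import Cfsg.Agent.Lib.Geometry.MaxSingular

set_option autoImplicit false
open Cfsg CfsgLib.Geometry

namespace Cfsg.Agent.S0832

/-- For the form Σ x_i y_i on F^(2m) over a finite field, m ≥ 1: an (m−1)-dimensional subspace on which the form vanishes is contained in exactly two m-dimensional subspaces on which it vanishes. -/
theorem result {F : Type*} [Field F] [Finite F] (m : ℕ) (hm : 1 ≤ m) (U : Submodule F (Fin m ⊕ Fin m → F)) (hU : Module.finrank F U + 1 = m ∧ ∀ u ∈ U, Cfsg.quadFormPlus m F u = 0) : Nat.card {W : Submodule F (Fin m ⊕ Fin m → F) // Module.finrank F W = m ∧ (∀ w ∈ W, Cfsg.quadFormPlus m F w = 0) ∧ U ≤ W} = 2 := by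
  have hQ := nondegenerate_plus (F := F) m
  set Q := matQuad (plusMat m F) with hQdef
  have hV : Module.finrank F (Fin m ⊕ Fin m → F) = 2 * m := by simp; omega
  have hco : (⇑Q : (Fin m ⊕ Fin m → F) → F) = Cfsg.quadFormPlus m F := coe_matQuad_plus m
  rw [← hco] at hU ⊢
  obtain ⟨W₀, hW₀⟩ := (⟨_, isMaxSing_coord (F := F) m⟩ : ∃ U, IsMaxSing Q m U)
  obtain ⟨hUd, hU0⟩ := hU
  -- move `U` into `W₀`
  obtain ⟨φ, hφi, hφm⟩ : ∃ φ : U →ₗ[F] (Fin m ⊕ Fin m → F), Function.Injective φ ∧ ∀ x, φ x ∈ W₀ := by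
    have hle : Module.finrank F U ≤ Module.finrank F W₀ := by rw [hW₀.1]; omega
    let b₁ := Module.finBasis F U
    let b₂ := Module.finBasis F W₀
    refine ⟨W₀.subtype.comp ((Fintype.linearCombination F fun i => b₂ (Fin.castLE hle i)).comp
      b₁.equivFun.toLinearMap), ?_, fun x => Subtype.coe_prop _⟩
    rw [LinearMap.coe_comp, LinearMap.coe_comp]
    exact W₀.injective_subtype.comp ((linearIndependent_iff_injective_fintypeLinearCombination.1
      (b₂.linearIndependent.comp _ (Fin.castLE_injective _))).comp b₁.equivFun.injective)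
  obtain ⟨g, hg, hgφ⟩ := quad_witt hQ U φ hφi (fun x => by rw [hW₀.2 _ (hφm x), hU0 _ x.2])
  let W₁ := W₀.map g.symm.toLinearMap
  have hW₁ : IsMaxSing Q m W₁ := by
    refine ⟨(LinearEquiv.finrank_map_eq _ _).trans hW₀.1, ?_⟩
    rintro _ ⟨w, hw, rfl⟩
    show Q (g.symm w) = 0
    rw [← mem_orth.1 hg (g.symm w), g.apply_symm_apply, hW₀.2 w hw]
  have hUW₁ : U ≤ W₁ := fun u hu => ⟨φ ⟨u, hu⟩, hφm _, by
    show g.symm _ = u
    rw [← hgφ ⟨u, hu⟩, g.symm_apply_apply]⟩
  have hlt : U < W₁ := lt_of_le_of_ne hUW₁ fun h => by have := hW₁.1; rw [← h] at this; omega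
  obtain ⟨e, heW, heU⟩ := SetLike.exists_of_lt hlt
  obtain ⟨f, hf, hef, hfU⟩ := exists_partner hQ U heU (hW₁.2 e heW)
    (fun z hz => polar_eq_zero_of_singular hW₁.2 heW (hUW₁ hz))
  have he : Q e = 0 := hW₁.2 e heW
  have heperp : ∀ u ∈ U, QuadraticMap.polar Q u e = 0 := fun u hu =>
    polar_eq_zero_of_singular hW₁.2 (hUW₁ hu) heW
  have hfperp : ∀ u ∈ U, QuadraticMap.polar Q u f = 0 := fun u hu => by
    rw [QuadraticMap.polar_comm]; exact hfU u hu
  have hfU' : f ∉ U := fun h => by
    rw [QuadraticMap.polar_comm, heperp f h] at hef; exact zero_ne_one hef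
  have mk : ∀ z, z ∉ U → Q z = 0 → (∀ u ∈ U, QuadraticMap.polar Q u z = 0) →
      Module.finrank F ↥(U ⊔ Submodule.span F {z}) = m ∧
      (∀ w ∈ U ⊔ Submodule.span F {z}, Q w = 0) ∧ U ≤ U ⊔ Submodule.span F {z} := by
    intro z hzU hz hperp
    refine ⟨?_, fun w hw => ?_, le_sup_left⟩
    · have h1 := Submodule.finrank_sup_add_finrank_inf_eq U (Submodule.span F {z})
      have h2 : U ⊓ Submodule.span F {z} = ⊥ := by
        rw [eq_bot_iff]
        intro w hw
        obtain ⟨t, rfl⟩ := Submodule.mem_span_singleton.1 hw.2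
        by_contra ht
        exact hzU (by simpa [show t ≠ 0 from fun h => ht (by simp [h])] using U.smul_mem t⁻¹ hw.1)
      rw [h2, finrank_bot, finrank_span_singleton (fun h : z = 0 => hzU (h ▸ U.zero_mem))] at h1
      omega
    · obtain ⟨u, hu, y, hy, rfl⟩ := Submodule.mem_sup.1 hw
      obtain ⟨t, rfl⟩ := Submodule.mem_span_singleton.1 hy
      rw [map_add', map_smul', hU0 u hu, hz, polar_smul_right', hperp u hu]
      ring
  have hperpU : polarPerp Q U = U ⊔ Submodule.span F {e} ⊔ Submodule.span F {f} := by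
    refine (Submodule.eq_of_le_of_finrank_le ?_ ?_).symm
    · refine sup_le (sup_le ?_ ?_) ?_
      · exact fun d hd => mem_polarPerp.2 fun u hu => polar_eq_zero_of_singular hU0 hu hd
      · exact (Submodule.span_singleton_le_iff_mem _ _).2 (mem_polarPerp.2 heperp)
      · exact (Submodule.span_singleton_le_iff_mem _ _).2 (mem_polarPerp.2 hfperp)
    · have h3 := finrank_polarPerp hQ U
      have hlt2 : U ⊔ Submodule.span F {e} < U ⊔ Submodule.span F {e} ⊔ Submodule.span F {f} :=
        lt_of_le_of_ne le_sup_left fun h => by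
          have hf' : f ∈ U ⊔ Submodule.span F {e} :=
            h ▸ Submodule.mem_sup_right (Submodule.mem_span_singleton_self f)
          obtain ⟨u, hu, y, hy, hfe⟩ := Submodule.mem_sup.1 hf'
          obtain ⟨t, rfl⟩ := Submodule.mem_span_singleton.1 hy
          rw [← hfe, QuadraticMap.polar_add_right, polar_smul_right', polar_self', he,
            QuadraticMap.polar_comm, heperp u hu] at hef
          exact zero_ne_one (by linear_combination hef)
      have := Submodule.finrank_lt_finrank_of_lt hlt2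
      have := (mk e heU he heperp).1
      omega
  rw [Nat.card_eq_two_iff]
  refine ⟨⟨_, mk e heU he heperp⟩, ⟨_, mk f hfU' hf hfperp⟩, fun h => ?_,
    Set.eq_univ_of_forall fun ⟨W, hWd, hW0, hUW⟩ => ?_⟩
  · have heq := congrArg Subtype.val h
    simp only at heq
    have hf' : f ∈ U ⊔ Submodule.span F {e} :=
      heq ▸ Submodule.mem_sup_right (Submodule.mem_span_singleton_self f)
    have h0 := polar_eq_zero_of_singular (mk e heU he heperp).2.1
      (Submodule.mem_sup_right (Submodule.mem_span_singleton_self e)) hf'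
    rw [hef] at h0
    exact one_ne_zero h0
  · have hlt3 : U < W := lt_of_le_of_ne hUW fun h => by rw [← h] at hWd; omega
    obtain ⟨w, hwW, hwU⟩ := SetLike.exists_of_lt hlt3
    have hwp : w ∈ polarPerp Q U := mem_polarPerp.2 fun u hu =>
      polar_eq_zero_of_singular hW0 (hUW hu) hwW
    rw [hperpU] at hwp
    obtain ⟨x, hx, y, hy, hxy⟩ := Submodule.mem_sup.1 hwp
    obtain ⟨d, hd, z, hz, hdz⟩ := Submodule.mem_sup.1 hx
    obtain ⟨s, rfl⟩ := Submodule.mem_span_singleton.1 hz
    obtain ⟨t, rfl⟩ := Submodule.mem_span_singleton.1 hy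
    subst hdz
    have hw0 : Q w = 0 := hW0 w hwW
    rw [← hxy, polar_add_smul_add_smul, hU0 d hd, he, hf, heperp d hd, hfperp d hd, hef] at hw0
    simp at hw0
    have eqW : ∀ z, z ∉ U → Q z = 0 → (∀ u ∈ U, QuadraticMap.polar Q u z = 0) → z ∈ W →
        W = U ⊔ Submodule.span F {z} := fun z h1 h2 h3 hz => (Submodule.eq_of_le_of_finrank_le
      (sup_le hUW ((Submodule.span_singleton_le_iff_mem _ _).2 hz))
      (le_of_eq (hWd.trans (mk z h1 h2 h3).1.symm))).symm
    rcases hw0 with rfl | rfl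
    · have ht : t ≠ 0 := fun h => hwU (by rw [← hxy, h]; simpa using hd)
      have hfW : f ∈ W := by
        have := W.smul_mem t⁻¹ (sub_mem hwW (hUW hd))
        rw [← hxy, zero_smul, add_zero, add_sub_cancel_left, inv_smul_smul₀ ht] at this
        exact this
      exact Or.inr (Subtype.ext (eqW f hfU' hf hfperp hfW))
    · have hs : s ≠ 0 := fun h => hwU (by rw [← hxy, h]; simpa using hd)
      have heW' : e ∈ W := by
        have := W.smul_mem s⁻¹ (sub_mem hwW (hUW hd))
        rw [← hxy, zero_smul, add_zero, add_sub_cancel_left, inv_smul_smul₀ hs] at this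
        exact this
      exact Or.inl (Subtype.ext (eqW e heU he heperp heW'))

end Cfsg.Agent.S0832
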