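import Cfsg.Statements.S0836
import Cfsg.Agent.Lib.Classical.SLGen


set_option autoImplicit false
open Cfsg

namespace Cfsg.Agent.S0836

/-- For i ≠ j and any scalar c, the elementary transvection 1 + c E_ij is a commutator ⁅g, h⁆ of two elements of SL_n(F) provided n ≥ 3, or n = 2 and F contains x ≠ 0 with x² ≠ 1. -/
theorem result {F : Type*} [Field F] (n : ℕ) (hn : 3 ≤ n ∨ (n = 2 ∧ ∃ x : F, x ≠ 0 ∧ x ^ 2 ≠ 1)) (i j : Fin n) (hij : i ≠ j) (c : F) (t : Matrix.SpecialLinearGroup (Fin n) F) (ht : (t : Matrix (Fin n) (Fin n) F) = Matrix.transvection i j c) : t ∈ commutatorSet (Matrix.SpecialLinearGroup (Fin n) F) := by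
  have hij' : t = Matrix.SpecialLinearGroup.transvection hij c :=
    Subtype.ext (by rw [ht, Matrix.SpecialLinearGroup.transvection_coe, Matrix.transvection])
  rw [hij']
  rcases hn with hn | ⟨rfl, x, hx, hx2⟩
  · obtain ⟨k, -, hk⟩ : ∃ k ∈ (Finset.univ : Finset (Fin n)), k ∉ ({i, j} : Finset (Fin n)) := by
      refine Finset.exists_mem_notMem_of_card_lt_card ?_
      calc ({i, j} : Finset (Fin n)).card ≤ 2 := Finset.card_le_two
        _ < _ := by rw [Finset.card_univ, Fintype.card_fin]; omega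
    simp only [Finset.mem_insert, Finset.mem_singleton, not_or] at hk
    refine ⟨_, _, (CfsgLib.Classical.commutator_transvection hij (Ne.symm hk.1) hk.2 c 1).trans ?_⟩
    rw [mul_one]
  · refine ⟨Matrix.SpecialLinearGroup.diag2n hij x hx,
      Matrix.SpecialLinearGroup.transvection hij (c / (x ^ 2 - 1)), ?_⟩
    rw [commutatorElement_def, mul_inv_eq_iff_eq_mul, mul_inv_eq_iff_eq_mul]
    refine Subtype.ext (Matrix.ext_iff_mulVec.2 fun v => ?_)
    have hx2' : x ^ 2 - 1 ≠ 0 := sub_ne_zero.2 hx2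
    simp only [Matrix.SpecialLinearGroup.coe_mul, ← Matrix.mulVec_mulVec, CfsgLib.Classical.transvection_mulVec]
    funext m
    fin_cases i <;> fin_cases j <;> (try exact absurd rfl hij) <;> fin_cases m <;>
      simp [Matrix.SpecialLinearGroup.diag2n_coe, Matrix.mulVec_diagonal, Matrix.vecHead, Matrix.vecTail, Pi.single_apply] <;> field_simp <;> ring

end Cfsg.Agent.S0836
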