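import Cfsg.Statements.S0838
import Cfsg.Agent.Lib.Geometry.Quadratic
import Cfsg.Agent.S0756

set_option autoImplicit false
open Cfsg CfsgLib.Geometry

namespace Cfsg.Agent.S0838

/-- Over a finite field with 2 ≠ 0 and n odd: two quadratic forms Q₁, Q₂ on F^n with non-degenerate polar forms are similar — there are an invertible linear map g and a scalar c ≠ 0 with Q₂ (g v) = c · Q₁ v for all v. -/
theorem result {F : Type*} [Field F] [Fintype F] (h2 : (2 : F) ≠ 0) {n : ℕ} (hn : Odd n) (Q₁ Q₂ : QuadraticForm F (Fin n → F)) (h₁ : (QuadraticMap.polarBilin Q₁).Nondegenerate) (h₂ : (QuadraticMap.polarBilin Q₂).Nondegenerate) : ∃ (g : (Fin n → F) ≃ₗ[F] (Fin n → F)) (c : F), c ≠ 0 ∧ ∀ v, Q₂ (g v) = c * Q₁ v := by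
  haveI : Finite F := inferInstance
  classical
  obtain ⟨α, hα⟩ := FiniteField.exists_nonsquare (F := F) (fun h => h2 (by
    haveI := ringChar.of_eq h
    exact CharTwo.two_eq_zero))
  obtain ⟨k, rfl⟩ : ∃ k, n = k + 1 := ⟨n - 1, by rcases hn with ⟨j, hj⟩; omega⟩
  have hsym : ∀ Q : QuadraticForm F (Fin (k+1) → F),
      LinearMap.BilinForm.IsSymm (QuadraticMap.polarBilin Q) := fun Q => ⟨fun x y => QuadraticMap.polar_comm Q x y⟩
  have hfr : Module.finrank F (Fin (k+1) → F) = k + 1 := by simp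
  obtain ⟨b₁, hb₁, hb₁1, hb₁l⟩ := Cfsg.Agent.S0756.result h2 (QuadraticMap.polarBilin Q₁) (hsym _) h₁ hfr α hα
  obtain ⟨b₂, hb₂, hb₂1, hb₂l⟩ := Cfsg.Agent.S0756.result h2 (QuadraticMap.polarBilin Q₂) (hsym _) h₂ hfr α hα
  have hα0 : α ≠ 0 := fun h => hα (h ▸ IsSquare.zero)
  -- isometry from equal normal forms
  have build : ∀ (c : F) (b b' : Module.Basis (Fin (k+1)) F (Fin (k+1) → F)),
      (∀ i j, QuadraticMap.polar Q₂ (b' i) (b' j) = c * QuadraticMap.polar Q₁ (b i) (b j)) →
      ∀ v, Q₂ (b.equiv b' (Equiv.refl _) v) = c * Q₁ v := by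
    intro c b b' h v
    have e : (QuadraticMap.polarBilin Q₂).compl₁₂ (b.equiv b' (Equiv.refl _)).toLinearMap
        (b.equiv b' (Equiv.refl _)).toLinearMap = c • QuadraticMap.polarBilin Q₁ := by
      refine LinearMap.ext_basis b b fun i j => ?_
      show QuadraticMap.polar Q₂ _ _ = c * QuadraticMap.polar Q₁ _ _
      simp [h]
    have := congrArg (fun B => B v v) e
    simp only [LinearMap.compl₁₂_apply, LinearMap.smul_apply, smul_eq_mul] at this
    change QuadraticMap.polar Q₂ _ _ = c * QuadraticMap.polar Q₁ v v at this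
    rw [polar_self', polar_self'] at this
    refine mul_left_cancel₀ h2 ?_
    refine this.trans ?_
    ring
  by_cases heq : QuadraticMap.polar Q₁ (b₁ (Fin.last k)) (b₁ (Fin.last k)) =
      QuadraticMap.polar Q₂ (b₂ (Fin.last k)) (b₂ (Fin.last k))
  · refine ⟨b₁.equiv b₂ (Equiv.refl _), 1, one_ne_zero, build 1 b₁ b₂ fun i j => ?_⟩
    rw [one_mul]
    by_cases hij : i = j
    · subst hij
      by_cases hl : i = Fin.last k
      · rw [hl]; exact heq.symm
      · exact (hb₂1 i hl).trans (hb₁1 i hl).symm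
    · exact (hb₂ i j hij).trans (hb₁ i j hij).symm
  -- scale by a non-square
  obtain ⟨b₃, hb₃, hb₃1, hb₃l⟩ := Cfsg.Agent.S0756.result h2 (α • QuadraticMap.polarBilin Q₁)
    ⟨fun x y => by
      show α * QuadraticMap.polar Q₁ x y = α * QuadraticMap.polar Q₁ y x
      rw [QuadraticMap.polar_comm]⟩
    (by
      refine ⟨fun x hx => h₁.1 x fun y => (mul_eq_zero.1 (hx y)).resolve_left hα0,
        fun y hy => h₁.2 y fun x => (mul_eq_zero.1 (hy x)).resolve_left hα0⟩)
    hfr α hα
  refine ⟨b₃.equiv b₂ (Equiv.refl _), α, hα0, build α b₃ b₂ fun i j => ?_⟩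
  by_cases hij : i = j
  swap
  · exact (hb₂ i j hij).trans (hb₃ i j hij).symm
  subst hij
  by_cases hl : i = Fin.last k
  swap
  · exact (hb₂1 i hl).trans (hb₃1 i hl).symm
  subst hl
  -- compare discriminants
  set β := QuadraticMap.polar Q₁ (b₁ (Fin.last k)) (b₁ (Fin.last k)) with hβ
  set γ := α * QuadraticMap.polar Q₁ (b₃ (Fin.last k)) (b₃ (Fin.last k)) with hγ
  have hG₁ : LinearMap.BilinForm.toMatrix b₁ (QuadraticMap.polarBilin Q₁) =
      Matrix.diagonal (fun i => if i = Fin.last k then β else 1) := by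
    ext i j
    rw [LinearMap.BilinForm.toMatrix_apply, Matrix.diagonal_apply]
    by_cases hij : i = j
    · subst hij
      by_cases hl : i = Fin.last k
      · subst hl; simp [hβ]
      · rw [if_pos rfl, if_neg hl]; exact hb₁1 i hl
    · rw [if_neg hij]; exact hb₁ i j hij
  have hG₃ : LinearMap.BilinForm.toMatrix b₃ (α • QuadraticMap.polarBilin Q₁) =
      Matrix.diagonal (fun i => if i = Fin.last k then γ else 1) := by
    ext i j
    rw [LinearMap.BilinForm.toMatrix_apply, Matrix.diagonal_apply]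
    by_cases hij : i = j
    · subst hij
      by_cases hl : i = Fin.last k
      · subst hl; simp [hγ]
      · rw [if_pos rfl, if_neg hl]; exact hb₃1 i hl
    · rw [if_neg hij]; exact hb₃ i j hij
  have hch := LinearMap.BilinForm.toMatrix_mul_basis_toMatrix (b := b₁) (c := b₃)
    (α • QuadraticMap.polarBilin Q₁)
  rw [hG₃, map_smul, hG₁] at hch
  have hd := congrArg Matrix.det hch
  rw [Matrix.det_mul, Matrix.det_mul, Matrix.det_transpose, Matrix.det_smul, Matrix.det_diagonal,
    Matrix.det_diagonal, Fintype.card_fin] at hd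
  simp only [Finset.prod_ite_eq', Finset.mem_univ, if_true] at hd
  have hP : (b₁.toMatrix b₃).det ≠ 0 := by
    haveI := b₁.invertibleToMatrix b₃
    exact (Matrix.isUnit_det_of_invertible _).ne_zero
  obtain ⟨j, hj⟩ := hn
  have hγ' : QuadraticMap.polar Q₂ (b₂ (Fin.last k)) (b₂ (Fin.last k)) = γ := by
    by_contra hc
    have hb2 : QuadraticMap.polar Q₂ (b₂ (Fin.last k)) (b₂ (Fin.last k)) = 1 ∨
        QuadraticMap.polar Q₂ (b₂ (Fin.last k)) (b₂ (Fin.last k)) = α := hb₂l
    have hb1 : β = 1 ∨ β = α := hb₁l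
    have hb3 : γ = 1 ∨ γ = α := hb₃l
    have hβγ : β = γ := by
      rcases hb1 with e1 | e1 <;> rcases hb2 with e2 | e2 <;> rcases hb3 with e3 | e3 <;>
        rw [e2] at heq hc <;> rw [e1, e3] <;> rw [e1] at heq <;> rw [e3] at hc <;>
        first | rfl | exact absurd rfl heq | exact absurd rfl hc
    rw [← hβγ, show α ^ (k + 1) = α * (α ^ j * α ^ j) by rw [show k + 1 = j + j + 1 by omega]; ring] at hd
    have hβ0 : β ≠ 0 := by rcases hb1 with e1 | e1 <;> rw [e1] <;> simp [hα0]
    refine hα ⟨1 / ((b₁.toMatrix b₃).det * α ^ j), ?_⟩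
    field_simp
    apply mul_right_cancel₀ hβ0
    linear_combination hd
  exact hγ'

end Cfsg.Agent.S0838
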