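import Cfsg.Statements.S0839


set_option autoImplicit false
open Cfsg

namespace Cfsg.Agent.S0839

/-- Every transvection t ∈ SL_(n+2)(F) (rank(t − 1) = 1, (t − 1)² = 0) is conjugate in SL_(n+2)(F) to 1 + v·e_0ᵀ for some column vector v with v_0 = 0 (the group A of matrices that are the identity except in the first column below the diagonal); the dimension is written n + 2 ≥ 2. -/
theorem result {F : Type*} [Field F] (n : ℕ) (t : Matrix.SpecialLinearGroup (Fin (n + 2)) F) (ht : Cfsg.IsTransvection (t : Matrix (Fin (n + 2)) (Fin (n + 2)) F)) : ∃ (g : Matrix.SpecialLinearGroup (Fin (n + 2)) F) (v : Fin (n + 2) → F), v 0 = 0 ∧ ((g⁻¹ * t * g : Matrix.SpecialLinearGroup (Fin (n + 2)) F) : Matrix (Fin (n + 2)) (Fin (n + 2)) F) = 1 + Matrix.vecMulVec v (Pi.single 0 1) := by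
  obtain ⟨hr, hsq⟩ := ht
  obtain ⟨⟨a, ha⟩, ha0, hspan⟩ := finrank_eq_one_iff'.1 hr
  have hcol : ∀ j, ∃ c : F, c • a = ((t : Matrix (Fin (n + 2)) (Fin (n + 2)) F) - 1).col j := fun j => by
    obtain ⟨c, hc⟩ := hspan ⟨((t : Matrix (Fin (n + 2)) (Fin (n + 2)) F) - 1).col j,
      ⟨Pi.single j 1, by rw [Matrix.mulVecLin_apply, Matrix.mulVec_single_one]⟩⟩
    exact ⟨c, congrArg Subtype.val hc⟩
  choose φ hφ using hcol
  have hA : (t : Matrix (Fin (n + 2)) (Fin (n + 2)) F) - 1 = Matrix.vecMulVec a φ := by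
    ext i j
    have := congrFun (hφ j) i
    simp only [Pi.smul_apply, smul_eq_mul, Matrix.col_apply] at this
    rw [Matrix.vecMulVec_apply, ← this, mul_comm]
  have ha' : a ≠ 0 := fun h => ha0 (Subtype.ext h)
  obtain ⟨i, hi⟩ : ∃ i, φ i ≠ 0 := by
    by_contra h
    push Not at h
    have : φ = 0 := funext h
    rw [hA, this, Matrix.vecMulVec_zero, Matrix.rank_zero] at hr
    exact zero_ne_one hr
  have hφa : φ ⬝ᵥ a = 0 := by
    obtain ⟨k, hk⟩ := Function.ne_iff.1 ha'
    have h2 := congrFun (congrFun hsq k) i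
    rw [hA, Matrix.vecMulVec_mul_vecMulVec] at h2
    simp [Matrix.vecMulVec_apply, hi] at h2
    exact h2.resolve_left (by simpa using hk)
  let m : Matrix (Fin (n + 2)) (Fin (n + 2)) F :=
    ((1 : Matrix (Fin (n + 2)) (Fin (n + 2)) F).updateRow i φ).submatrix (Equiv.swap 0 i) id
  have hm0 : ∀ j, m 0 j = φ j := fun j => by simp [m]
  have hm : m.det ≠ 0 := by
    rw [Matrix.det_permute]
    refine mul_ne_zero ?_ ?_
    · rcases Int.units_eq_one_or (Equiv.Perm.sign (Equiv.swap (0 : Fin (n + 2)) i)) with h | h <;> simp [h]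
    · have hu : ((1 : Matrix (Fin (n + 2)) (Fin (n + 2)) F).updateRow i φ).det = φ i := by
        have := Matrix.det_updateRow_sum (1 : Matrix (Fin (n + 2)) (Fin (n + 2)) F) i φ
        rw [Matrix.det_one, smul_eq_mul, mul_one] at this
        rw [← this]
        congr 2
        funext j
        simp [Finset.sum_apply, Matrix.one_apply]
      rw [hu]; exact hi
  let m' : Matrix (Fin (n + 2)) (Fin (n + 2)) F := m.updateRow 0 (m.det⁻¹ • m 0)
  have hm' : m'.det = 1 := by
    rw [Matrix.det_updateRow_smul, Matrix.updateRow_eq_self, inv_mul_cancel₀ hm]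
  let g : Matrix.SpecialLinearGroup (Fin (n + 2)) F := (⟨m', hm'⟩ : Matrix.SpecialLinearGroup (Fin (n + 2)) F)⁻¹
  have hg : Matrix.vecMul φ g.1 = m.det • (Pi.single 0 1 : Fin (n + 2) → F) := by
    have hrow : φ = Matrix.vecMul (m.det • (Pi.single 0 1 : Fin (n + 2) → F)) m' := by
      rw [Matrix.smul_vecMul, Matrix.single_one_vecMul]
      funext j
      simp [m', hm0, mul_inv_cancel_left₀ hm]
    conv_lhs => rw [hrow]
    have hinv : m' * g.1 = 1 :=
      congrArg Subtype.val (mul_inv_cancel (G := Matrix.SpecialLinearGroup (Fin (n + 2)) F) ⟨m', hm'⟩)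
    rw [Matrix.vecMul_vecMul, hinv, Matrix.vecMul_one]
  refine ⟨g, m.det • Matrix.mulVec (g⁻¹).1 a, ?_, ?_⟩
  · have h1 : φ ⬝ᵥ (Matrix.mulVec g.1 (Matrix.mulVec (g⁻¹).1 a)) = 0 := by
      rw [Matrix.mulVec_mulVec, ← Matrix.SpecialLinearGroup.coe_mul, mul_inv_cancel,
        Matrix.SpecialLinearGroup.coe_one, Matrix.one_mulVec, hφa]
    rw [Matrix.dotProduct_mulVec, hg, smul_dotProduct, single_one_dotProduct] at h1
    simpa using h1
  · have ht' : (t : Matrix (Fin (n + 2)) (Fin (n + 2)) F) = 1 + Matrix.vecMulVec a φ := by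
      rw [← hA]; abel
    rw [Matrix.SpecialLinearGroup.coe_mul, Matrix.SpecialLinearGroup.coe_mul, ht', mul_add, add_mul,
      mul_one, ← Matrix.SpecialLinearGroup.coe_mul, inv_mul_cancel, Matrix.SpecialLinearGroup.coe_one,
      Matrix.mul_vecMulVec, Matrix.vecMulVec_mul, hg, Matrix.vecMulVec_smul, Matrix.smul_vecMulVec]

end Cfsg.Agent.S0839
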