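import Cfsg.Statements.S0842
import Cfsg.Agent.Lib.CharsMore.QuaternionSylow
import Mathlib

set_option autoImplicit false
set_option linter.style.haveILetI false
open Cfsg

namespace Cfsg.Agent.S0842

/-- Suppose a Sylow 2-subgroup S of the finite group G is generalized quaternion of order at least 16, and let D be the commutator subgroup of S, C its centralizer and N its normalizer in G. Then there is a subgroup K of odd order, contained in C and normalized by N, with K ⊔ S = N and K ⊔ (S ⊓ C) = C, and C has index 2 in N. -/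
theorem result {G : Type*} [Group G] [Finite G] (S : Sylow 2 G) (n : ℕ) (e : (S : Subgroup G) ≃* QuaternionGroup (2 ^ (n + 2))) (D : Subgroup G) (hD : D = ⁅(S : Subgroup G), (S : Subgroup G)⁆) : ∃ K : Subgroup G, Odd (Nat.card K) ∧ K ≤ Subgroup.centralizer (D : Set G) ∧ Subgroup.normalizer (D : Set G) ≤ Subgroup.normalizer (K : Set G) ∧ K ⊔ (S : Subgroup G) = Subgroup.normalizer (D : Set G) ∧ K ⊔ ((S : Subgroup G) ⊓ Subgroup.centralizer (D : Set G)) = Subgroup.centralizer (D : Set G) ∧ ((Subgroup.centralizer (D : Set G)).subgroupOf (Subgroup.normalizer (D : Set G))).index = 2 := by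
  obtain ⟨q, rfl⟩ := CfsgLib.CharsMore.exists_quatData S n e
  subst hD
  rw [q.commutator_eq]
  obtain ⟨K, hK, hKC, -, hN, hdec, hdec'⟩ := q.exists_complement
  refine ⟨K, hK, hKC, hN, le_antisymm (sup_le (fun k hk => ?_) q.le_normalizer) (fun g hg => ?_),
    le_antisymm (sup_le hKC inf_le_right) (fun c hc => ?_), q.index_C_eq_two⟩
  · refine Subgroup.mem_normalizer_iff.2 fun d => ⟨fun hd => ?_, fun hd => ?_⟩
    · rwa [← Subgroup.mem_centralizer_iff.1 (hKC hk) d hd, mul_inv_cancel_right]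
    · have h : k⁻¹ * (k * d * k⁻¹) * k⁻¹⁻¹ = k * d * k⁻¹ := by
        rw [← Subgroup.mem_centralizer_iff.1 (Subgroup.inv_mem _ (hKC hk)) _ hd,
          mul_inv_cancel_right]
      have h2 : d = k * d * k⁻¹ := by
        calc d = k⁻¹ * (k * d * k⁻¹) * k⁻¹⁻¹ := by group
          _ = k * d * k⁻¹ := h
      rwa [h2]
  · obtain ⟨c, hc, hgc⟩ := hdec' g hg
    obtain ⟨k, hk, x, hx, hkx⟩ := hdec c hc
    rcases hgc with h | h <;> rw [h, hkx]
    · exact Subgroup.mul_mem_sup hk (q.A_le hx)
    · rw [mul_assoc]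
      exact Subgroup.mul_mem_sup hk ((S : Subgroup G).mul_mem (q.A_le hx) q.b_mem)
  · obtain ⟨k, hk, x, hx, hkx⟩ := hdec c hc
    rw [hkx]
    exact Subgroup.mul_mem_sup hk ⟨q.A_le hx, q.A_le_C hx⟩

end Cfsg.Agent.S0842
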