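import Cfsg.Statements.S0849
import Cfsg.Agent.Lib.Chars.Induction
import Mathlib

set_option autoImplicit false
set_option linter.style.haveILetI false
open Cfsg

namespace Cfsg.Agent.S0849

/-- Let H be a subgroup of a finite group G and S a subset of H that is mapped to itself under conjugation by H, is disjoint from its conjugate by any element outside H, and is closed under inverses. Let φ be a class function of H vanishing on H away from S, and let u, v be involutions of G. Then the sum of the induced function of φ over all products a * b with a conjugate to u and b conjugate to v equals the index of H times the sum of φ (a * b) over such pairs with a and b in H. -/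
theorem result {G : Type*} [Group G] [Fintype G] (H : Subgroup G) (S : Set G) (hSH : S ⊆ H) (hHS : ∀ h ∈ H, ∀ s ∈ S, h * s * h⁻¹ ∈ S) (hTI : ∀ g : G, g ∉ H → ∀ s ∈ S, g * s * g⁻¹ ∉ S) (hinv : ∀ s ∈ S, s⁻¹ ∈ S) (φ : H → ℂ) (hφ : Cfsg.IsClassFunction H φ) (hφS : ∀ x : H, (x : G) ∉ S → φ x = 0) (u v : G) (hu : orderOf u = 2) (hv : orderOf v = 2) : ∑ᶠ p ∈ {p : G × G | IsConj u p.1 ∧ IsConj v p.2}, Cfsg.indFun H φ (p.1 * p.2) = (H.index : ℂ) * ∑ᶠ p ∈ {p : H × H | IsConj u (p.1 : G) ∧ IsConj v (p.2 : G)}, φ (p.1 * p.2) := by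
  classical
  set P : Finset (G × G) := Finset.univ.filter (fun p : G × G => IsConj u p.1 ∧ IsConj v p.2) with hP
  set Q : Finset (H × H) :=
    Finset.univ.filter (fun p : H × H => IsConj u (p.1 : G) ∧ IsConj v (p.2 : G)) with hQ
  have e1 : ∑ᶠ p ∈ {p : G × G | IsConj u p.1 ∧ IsConj v p.2}, Cfsg.indFun H φ (p.1 * p.2) =
      ∑ p ∈ P, Cfsg.indFun H φ (p.1 * p.2) :=
    by rw [show {p : G × G | IsConj u p.1 ∧ IsConj v p.2} = (↑P : Set (G × G)) by ext p; simp [hP]]
       exact finsum_mem_coe_finset _ _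
  have e2 : ∑ᶠ p ∈ {p : H × H | IsConj u (p.1 : G) ∧ IsConj v (p.2 : G)}, φ (p.1 * p.2) =
      ∑ p ∈ Q, φ (p.1 * p.2) :=
    by rw [show {p : H × H | IsConj u (p.1 : G) ∧ IsConj v (p.2 : G)} = (↑Q : Set (H × H)) by
         ext p; simp [hQ]]
       exact finsum_mem_coe_finset _ _
  rw [e1, e2]
  have hshift : ∀ x : G, ∑ p ∈ P, Cfsg.extendByZero H φ (x⁻¹ * (p.1 * p.2) * x) =
      ∑ p ∈ P, Cfsg.extendByZero H φ (p.1 * p.2) := by
    intro x
    refine Finset.sum_nbij' (fun p => (x⁻¹ * p.1 * x, x⁻¹ * p.2 * x))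
      (fun p => (x * p.1 * x⁻¹, x * p.2 * x⁻¹)) ?_ ?_ ?_ ?_ ?_
    · intro p hp
      simp only [hP, Finset.mem_filter, Finset.mem_univ, true_and] at hp ⊢
      exact ⟨hp.1.trans (isConj_iff.2 ⟨x⁻¹, by group⟩), hp.2.trans (isConj_iff.2 ⟨x⁻¹, by group⟩)⟩
    · intro p hp
      simp only [hP, Finset.mem_filter, Finset.mem_univ, true_and] at hp ⊢
      exact ⟨hp.1.trans (isConj_iff.2 ⟨x, rfl⟩), hp.2.trans (isConj_iff.2 ⟨x, rfl⟩)⟩
    · intro p _
      exact Prod.ext (by simp only; group) (by simp only; group)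
    · intro p _
      exact Prod.ext (by simp only; group) (by simp only; group)
    · intro p _
      exact congrArg _ (by group)
  have hkey : ∑ p ∈ P, Cfsg.extendByZero H φ (p.1 * p.2) = ∑ p ∈ Q, φ (p.1 * p.2) := by
    have himg : ∑ p ∈ Q, φ (p.1 * p.2) =
        ∑ p ∈ Q.image (fun q : H × H => ((q.1 : G), (q.2 : G))),
          Cfsg.extendByZero H φ (p.1 * p.2) := by
      rw [Finset.sum_image (fun a _ b _ h => by
        obtain ⟨h1, h2⟩ := Prod.mk.inj h
        exact Prod.ext (Subtype.ext h1) (Subtype.ext h2))]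
      refine Finset.sum_congr rfl fun q _ => ?_
      rw [← Subgroup.coe_mul, CfsgLib.Chars.extendByZero_coe]
    rw [himg]
    refine (Finset.sum_subset ?_ ?_).symm
    · intro p hp
      obtain ⟨q, hq, rfl⟩ := Finset.mem_image.1 hp
      simpa [hP, hQ] using hq
    · intro p hp hnp
      by_contra hne
      have hpH : p.1 * p.2 ∈ H := by
        by_contra h
        exact hne (CfsgLib.Chars.extendByZero_of_not_mem H φ h)
      have hpS : p.1 * p.2 ∈ S := by
        by_contra h
        refine hne ?_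
        rw [CfsgLib.Chars.extendByZero_of_mem H φ hpH]
        exact hφS ⟨_, hpH⟩ h
      obtain ⟨h1, h2⟩ := (Finset.mem_filter.1 hp).2
      have o1 : p.1 * p.1 = 1 := by
        obtain ⟨c, hc⟩ := isConj_iff.1 h1
        rw [← hc]
        have : u * u = 1 := by rw [← pow_two, ← hu, pow_orderOf_eq_one]
        calc c * u * c⁻¹ * (c * u * c⁻¹) = c * (u * u) * c⁻¹ := by group
          _ = 1 := by rw [this]; group
      have o2 : p.2 * p.2 = 1 := by
        obtain ⟨c, hc⟩ := isConj_iff.1 h2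
        rw [← hc]
        have : v * v = 1 := by rw [← pow_two, ← hv, pow_orderOf_eq_one]
        calc c * v * c⁻¹ * (c * v * c⁻¹) = c * (v * v) * c⁻¹ := by group
          _ = 1 := by rw [this]; group
      have i1 : p.1⁻¹ = p.1 := inv_eq_of_mul_eq_one_right o1
      have i2 : p.2⁻¹ = p.2 := inv_eq_of_mul_eq_one_right o2
      have ha : p.1 ∈ H := by
        by_contra ha
        refine hTI p.1 ha _ hpS ?_
        have : p.1 * (p.1 * p.2) * p.1⁻¹ = (p.1 * p.2)⁻¹ := by
          rw [mul_inv_rev, i1, i2, ← mul_assoc, o1, one_mul]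
        rw [this]
        exact hinv _ hpS
      have hb : p.2 ∈ H := by
        have := H.mul_mem (H.inv_mem ha) hpH
        rwa [inv_mul_cancel_left] at this
      exact hnp (Finset.mem_image.2 ⟨(⟨_, ha⟩, ⟨_, hb⟩), Finset.mem_filter.2 ⟨Finset.mem_univ _, h1, h2⟩, rfl⟩)
  have hind : ∀ g, Cfsg.indFun H φ g =
      (Nat.card H : ℂ)⁻¹ * ∑ x : G, Cfsg.extendByZero H φ (x⁻¹ * g * x) := fun g => rfl
  simp only [hind]
  rw [← Finset.mul_sum, Finset.sum_comm, Finset.sum_congr rfl (fun x _ => hshift x), Finset.sum_const,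
    hkey, nsmul_eq_mul, ← mul_assoc]
  congr 1
  have hc := Subgroup.card_mul_index H
  have hH : (Nat.card H : ℂ) ≠ 0 := Nat.cast_ne_zero.2 Nat.card_pos.ne'
  rw [Finset.card_univ, ← Nat.card_eq_fintype_card, ← hc, Nat.cast_mul, inv_mul_cancel_left₀ hH]

end Cfsg.Agent.S0849
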