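import Cfsg.Statements.S0850
import Cfsg.Agent.Lib.Chars.Induction
import Mathlib

set_option autoImplicit false
set_option linter.style.haveILetI false
open Cfsg

namespace Cfsg.Agent.S0850

/-- Let K be a subgroup of the finite group G that meets each conjugate by an element outside its normalizer N trivially, is properly contained in N, and contains the centralizer of each of its non-identity elements (a T.I. subgroup with Frobenius normalizer). Then no element of N outside K is conjugate in G to an element of K, and for every class function ϑ of N that vanishes on N away from K and at the identity, the function induced from ϑ to G agrees with ϑ on all of N. -/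
theorem result {G : Type*} [Group G] [Fintype G] (K : Subgroup G) (hTI : ∀ g : G, g ∉ Subgroup.normalizer (K : Set G) → ∀ k ∈ K, g * k * g⁻¹ ∈ K → k = 1) (hlt : K < Subgroup.normalizer (K : Set G)) (hC : ∀ k ∈ K, k ≠ 1 → Subgroup.centralizer ({k} : Set G) ≤ K) : (∀ x ∈ Subgroup.normalizer (K : Set G), x ∉ K → ∀ g : G, g * x * g⁻¹ ∉ K) ∧ ∀ (ϑ : Subgroup.normalizer (K : Set G) → ℂ), Cfsg.IsClassFunction (Subgroup.normalizer (K : Set G)) ϑ → (∀ x : Subgroup.normalizer (K : Set G), (x : G) ∉ K → ϑ x = 0) → ϑ 1 = 0 → ∀ x : Subgroup.normalizer (K : Set G), Cfsg.indFun (Subgroup.normalizer (K : Set G)) ϑ x = ϑ x := by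
  classical
  have key : ∀ x ∈ Subgroup.normalizer (K : Set G), x ∉ K → ∀ g : G, g * x * g⁻¹ ∉ K := by
    intro x hx hxK g hk
    have hgN : g ∉ Subgroup.normalizer (K : Set G) := fun hg =>
      hxK ((Subgroup.mem_normalizer_iff.1 hg x).2 hk)
    have hx1 : g * x * g⁻¹ ≠ 1 := fun h => hxK (by
      rw [mul_inv_eq_one, mul_eq_left] at h
      exact h ▸ K.one_mem)
    set k := g * x * g⁻¹ with hkdef
    obtain ⟨p, hp, hpd⟩ := Nat.exists_prime_and_dvd (mt orderOf_eq_one_iff.1 hx1)
    haveI := Fact.mk hp
    have hk0 : 0 < orderOf k := (isOfFinOrder_of_finite k).orderOf_pos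
    set y := x ^ (orderOf k / p) with hy
    have hgy : g * y * g⁻¹ = k ^ (orderOf k / p) := by rw [hy, hkdef, conj_pow]
    have hox : orderOf x = orderOf k :=
      (orderOf_injective (MulAut.conj g).toMonoidHom (MulAut.conj g).injective x).symm
    have hop : orderOf y = p := by
      rw [hy, ← hox, orderOf_pow_orderOf_div (by omega) (hox ▸ hpd)]
    have hpK : p ∣ Fintype.card K := by
      rw [← Nat.card_eq_fintype_card]
      exact hpd.trans (Subgroup.orderOf_dvd_natCard _ hk)
    have hyN : y ∈ Subgroup.normalizer (K : Set G) := Subgroup.pow_mem _ hx _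
    let σ : Equiv.Perm K :=
      { toFun := fun v => ⟨y * v * y⁻¹, (Subgroup.mem_normalizer_iff.1 hyN v).1 v.2⟩
        invFun := fun v => ⟨y⁻¹ * v * y, (Subgroup.mem_normalizer_iff''.1 hyN v).1 v.2⟩
        left_inv := fun v => Subtype.ext (by simp [mul_assoc])
        right_inv := fun v => Subtype.ext (by simp [mul_assoc]) }
    have hσp : σ ^ p ^ 1 = 1 := by
      have : ∀ (m : ℕ) (v : K), (((σ ^ m) v : K) : G) = y ^ m * v * (y ^ m)⁻¹ := by
        intro m v
        induction m with
        | zero => simp
        | succ m ih =>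
          rw [pow_succ', Equiv.Perm.mul_apply]
          show y * ((σ ^ m) v : K) * y⁻¹ = _
          rw [ih, pow_succ']
          group
      refine Equiv.ext fun v => Subtype.ext ?_
      rw [this, pow_one, ← hop, pow_orderOf_eq_one]
      simp
    obtain ⟨b, hb, hb1⟩ := Equiv.Perm.exists_fixed_point_of_prime' hpK hσp
      (a := (1 : K)) (Subtype.ext (by simp [σ]))
    have hb' : y * b * y⁻¹ = b := congrArg Subtype.val hb
    have hb'' : (b : G) ≠ 1 := fun h => hb1 (Subtype.ext h)
    have hyK : y ∈ K := hC b b.2 hb'' (Subgroup.mem_centralizer_singleton_iff.2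
      (mul_inv_eq_iff_eq_mul.1 hb'))
    have := hTI g hgN y hyK (by rw [hgy]; exact K.pow_mem hk _)
    exact hp.ne_one (by rw [← hop, this, orderOf_one])
  refine ⟨key, fun ϑ hϑ hout h1 x => ?_⟩
  by_cases hxK : (x : G) ∈ K
  · by_cases hx1 : x = 1
    · subst hx1
      rw [OneMemClass.coe_one, CfsgLib.Chars.indFun_one_apply, h1, mul_zero]
    · exact CfsgLib.Chars.indFun_TI_apply (K : Set G) _ hTI hϑ hout x hxK hx1
  · rw [hout x hxK, CfsgLib.Chars.indFun_apply, Finset.sum_eq_zero fun y _ => ?_, mul_zero]
    by_cases hm : y⁻¹ * (x : G) * y ∈ Subgroup.normalizer (K : Set G)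
    · rw [CfsgLib.Chars.extendByZero_of_mem _ _ hm]
      exact hout _ (by simpa using key x x.2 hxK y⁻¹)
    · rw [CfsgLib.Chars.extendByZero_of_not_mem _ _ hm]

end Cfsg.Agent.S0850
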