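import Cfsg.Statements.S0851
import Cfsg.Agent.Lib.CharsMore.Sibley
import Cfsg.Agent.Lib.Chars.Degree
import Cfsg.Agent.Lib.Chars.Virtual
import Mathlib

set_option autoImplicit false
set_option linter.style.haveILetI false
open Cfsg

namespace Cfsg.Agent.S0851

open CfsgLib CfsgLib.CharsMore


/-- Let K be a subgroup of the finite group G that meets each conjugate by an element outside its normalizer N trivially, is properly contained in N, and contains the centralizer of each of its non-identity elements (a T.I. subgroup with Frobenius normalizer). Suppose K is abelian, let e be the index of K in N, and call an irreducible character of N relevant when it takes at some element of K a value different from its degree. Then either there is exactly one relevant character and K is an elementary abelian p-group of order e + 1 for some prime p, or there are a sign ε and an injective map f from the relevant characters to the irreducible characters of G such that inducing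 χ - ξ to G gives ε (f χ - f ξ) for all relevant χ and ξ. -/
theorem result {G : Type*} [Group G] [Fintype G] (K : Subgroup G) (hTI : ∀ g : G, g ∉ Subgroup.normalizer (K : Set G) → ∀ k ∈ K, g * k * g⁻¹ ∈ K → k = 1) (hlt : K < Subgroup.normalizer (K : Set G)) (hC : ∀ k ∈ K, k ≠ 1 → Subgroup.centralizer ({k} : Set G) ≤ K) (hab : ∀ a ∈ K, ∀ b ∈ K, a * b = b * a) : (Nat.card {χ : Cfsg.IrrCharacter (Subgroup.normalizer (K : Set G)) // ∃ k : Subgroup.normalizer (K : Set G), (k : G) ∈ K ∧ (χ : ↥(Subgroup.normalizer (K : Set G)) → ℂ) k ≠ (χ : ↥(Subgroup.normalizer (K : Set G)) → ℂ) 1} = 1 ∧ ∃ p : ℕ, p.Prime ∧ Cfsg.IsElementaryAbelian p K ∧ Nat.card K = (K.subgroupOf (Subgroup.normalizer (K : Set G))).index + 1) ∨ ∃ (ε : ℂ) (f : {χ : Cfsg.IrrCharacter (Subgroup.normalizer (K : Set G)) // ∃ k : Subgroup.normalizer (K : Set G), (k : G) ∈ K ∧ (χ : ↥(Subgroup.normalizer (K : Set G)) → ℂ) k ≠ (χ : ↥(Subgroup.normalizer (K : Set G)) → ℂ) 1} → Cfsg.IrrCharacter G), (ε = 1 ∨ ε =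 -1) ∧ Function.Injective f ∧ ∀ χ ξ, Cfsg.indFun (Subgroup.normalizer (K : Set G)) ((χ.1 : ↥(Subgroup.normalizer (K : Set G)) → ℂ) - (ξ.1 : ↥(Subgroup.normalizer (K : Set G)) → ℂ)) = ε • ((f χ : G → ℂ) - (f ξ : G → ℂ)) := by
  classical
  refine Or.inr ?_
  let N := Subgroup.normalizer (K : Set G)
  let Kn := K.subgroupOf N
  haveI hKn : Kn.Normal := Subgroup.normal_in_normalizer
  letI : Fintype N := Fintype.ofFinite _
  letI : Fintype Kn := Fintype.ofFinite _
  haveI := Chars.irrFintype N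
  have hC' : ∀ k ∈ Kn, k ≠ 1 → Subgroup.centralizer ({k} : Set N) ≤ Kn :=
    centralizer_subgroupOf Subgroup.le_normalizer hC
  let P : IrrCharacter N → Prop := fun χ =>
    ∃ k : N, (k : G) ∈ K ∧ (χ : N → ℂ) k ≠ (χ : N → ℂ) 1
  have hmem : ∀ χ : {χ : IrrCharacter N // P χ}, (χ.1 : N → ℂ) ∈ inducedIrrAbove Kn ⊥ := by
    rintro ⟨χ, k, hk, hne⟩
    rw [inducedIrrAbove_eq_nontrivial hC']
    exact ⟨χ.2, k, Subgroup.mem_subgroupOf.2 hk, hne⟩
  have hdeg : ∀ χ : {χ : IrrCharacter N // P χ}, (χ.1 : N → ℂ) 1 = (Kn.index : ℂ) := by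
    intro χ
    obtain ⟨θ, hθ, -, -, e⟩ := hmem χ
    rw [e, Chars.indFun_one_apply,
      Chars.irr_abelian_degree (fun a b => Subtype.ext (Subtype.ext (hab _ a.2 _ b.2))) hθ, mul_one]
  cases nonempty_fintype {χ : IrrCharacter N // P χ}
  by_cases hne : IsEmpty {χ : IrrCharacter N // P χ}
  · exact ⟨1, fun χ => (hne.false χ).elim, Or.inl rfl, fun χ => (hne.false χ).elim,
      fun χ => (hne.false χ).elim⟩
  obtain ⟨χ₀⟩ := not_isEmpty_iff.1 hne
  let e := Fintype.equivFin {χ : IrrCharacter N // P χ}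
  obtain ⟨hiso, hone⟩ := isometry_indFun_TI (H := K) (N := N) rfl hTI
  have hd : ∀ χ : {χ : IrrCharacter N // P χ},
      (χ.1 : N → ℂ) - (χ₀.1 : N → ℂ) ∈ zspanOn (inducedIrrAbove Kn ⊥) {1}ᶜ := fun χ =>
    mem_zspanOn_one.2 ⟨Submodule.sub_mem _ (Submodule.subset_span (hmem χ))
      (Submodule.subset_span (hmem χ₀)), by rw [Pi.sub_apply, hdeg, hdeg, sub_self]⟩
  obtain ⟨ε, hε, μ, hμ, hμi, hμe⟩ := Chars.coherent_family
    (Fintype.card {χ : IrrCharacter N // P χ}) (e χ₀)
    (fun i => indFun N (((e.symm i).1 : N → ℂ) - (χ₀.1 : N → ℂ)))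
    (by simp [Chars.indFun_zero]) (fun i => hiso.2.2.2 _ (hd _)) (fun i => hone _ (hd _))
    (fun i j hi hj => by
      have hi' : ((e.symm i).1 : N → ℂ) ≠ χ₀.1 := fun h => hi (by
        rw [← e.apply_symm_apply i, Subtype.ext (Subtype.ext h)])
      have hj' : (χ₀.1 : N → ℂ) ≠ (e.symm j).1 := fun h => hj (by
        rw [← e.apply_symm_apply j, Subtype.ext (Subtype.ext h.symm)])
      rw [hiso.2.2.1 _ (hd _) _ (hd _)]
      simp only [Chars.inner_sub_left, Chars.inner_sub_right,
        Chars.inner_irr_of_isIrr (e.symm i).1.2 (e.symm j).1.2,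
        Chars.inner_irr_of_isIrr (e.symm i).1.2 χ₀.1.2, Chars.inner_irr_of_isIrr χ₀.1.2 (e.symm j).1.2,
        Chars.inner_irr_of_isIrr χ₀.1.2 χ₀.1.2, if_pos rfl,
        if_neg hi', if_neg hj']
      by_cases h : i = j
      · subst h; rw [if_pos rfl, if_pos rfl]; norm_num
      · rw [if_neg h, if_neg fun h' => h (e.symm.injective (Subtype.ext (Subtype.ext h')))]
        norm_num)
  refine ⟨ε, fun χ => ⟨μ (e χ), hμ _⟩, hε,
    fun a b h => e.injective (hμi (congrArg Subtype.val h)), fun χ ξ => ?_⟩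
  have h1 := hμe (e χ)
  have h2 := hμe (e ξ)
  simp only [e.symm_apply_apply] at h1 h2
  have h3 : indFun N ((χ.1 : N → ℂ) - (ξ.1 : N → ℂ)) =
      indFun N ((χ.1 : N → ℂ) - (χ₀.1 : N → ℂ)) - indFun N ((ξ.1 : N → ℂ) - (χ₀.1 : N → ℂ)) := by
    rw [← Chars.indFun_sub]
    exact congrArg _ (sub_sub_sub_cancel_right _ _ _).symm
  refine h3.trans ?_
  rw [h1, h2, ← smul_sub, sub_sub_sub_cancel_right]

end Cfsg.Agent.S0851
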