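import Cfsg.Statements.S0852
import Cfsg.Agent.Lib.CharsMore.TIFN
import Mathlib

set_option autoImplicit false
set_option linter.style.haveILetI false
open Cfsg

namespace Cfsg.Agent.S0852

open CfsgLib CfsgLib.CharsMore


/-- Let K be a subgroup of the finite group G that meets each conjugate by an element outside its normalizer N trivially, is properly contained in N, and contains the centralizer of each of its non-identity elements (a T.I. subgroup with Frobenius normalizer). Let S be the set of irreducible characters of N taking at some element of K a value different from their degree, suppose S has at least two members, and let star be a linear isometry on the integer span of S into the generalized characters of G that agrees with induction on the members vanishing at the identity (so S is coherent, with star as the extending isometry). Then an irreducible character ψ of G is of the form star χ or -star χ for some χ in S if and only if ψ is not constant on the non-identity elements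 of K. -/
theorem result {G : Type*} [Group G] [Fintype G] (K : Subgroup G) (hTI : ∀ g : G, g ∉ Subgroup.normalizer (K : Set G) → ∀ k ∈ K, g * k * g⁻¹ ∈ K → k = 1) (hlt : K < Subgroup.normalizer (K : Set G)) (hC : ∀ k ∈ K, k ≠ 1 → Subgroup.centralizer ({k} : Set G) ≤ K) [Fintype ↥(Subgroup.normalizer (K : Set G))] (S : Set (↥(Subgroup.normalizer (K : Set G)) → ℂ)) (hS : S = {χ : ↥(Subgroup.normalizer (K : Set G)) → ℂ | Cfsg.IsIrrCharacter ↥(Subgroup.normalizer (K : Set G)) χ ∧ ∃ k : ↥(Subgroup.normalizer (K : Set G)), (k : G) ∈ K ∧ χ k ≠ χ 1}) (htwo : ∃ χ ∈ S, ∃ ξ ∈ S, χ ≠ ξ) (star : (↥(Subgroup.normalizer (K : Set G)) → ℂ) → (G → ℂ)) (hstar : Cfsg.IsLinearIsometryOn (Cfsg.zspan S) star) (hext : ∀ α ∈ Cfsg.zspanOn S ({1}ᶜ : Set ↥(Subgroup.normalizer (K : Set G))), star α = Cfsg.indFun (Subgroup.normalizer (K : Set G)) α) (ψ : G → ℂ) (hψ : Cfsg.IsIrrCharacter G ψ) : (∃ χ ∈ S, ψ = star χ ∨ ψ = -star χ) ↔ ∃ a ∈ K, ∃ b ∈ K, a ≠ 1 ∧ b ≠ 1 ∧ ψ a ≠ ψ b := by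
  classical
  haveI hKn : (K.subgroupOf (Subgroup.normalizer (K : Set G))).Normal := Subgroup.normal_in_normalizer
  have hC' := centralizer_subgroupOf (N := Subgroup.normalizer (K : Set G)) Subgroup.le_normalizer hC
  have hSeq : inducedIrrAbove (K.subgroupOf (Subgroup.normalizer (K : Set G))) ⊥ = S := by
    rw [inducedIrrAbove_eq_nontrivial hC', hS]; rfl
  obtain ⟨χ₁, hχ₁, χ₂, hχ₂, h12⟩ := htwo
  have hK2 : K.subgroupOf (Subgroup.normalizer (K : Set G)) ≠ ⊤ := fun e =>
    hlt.not_ge (Subgroup.subgroupOf_eq_top.1 e)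
  have hK1 : K.subgroupOf (Subgroup.normalizer (K : Set G)) ≠ ⊥ := by
    intro e
    rw [hS] at hχ₁
    obtain ⟨-, k, hk, hne⟩ := hχ₁
    have : k ∈ K.subgroupOf (Subgroup.normalizer (K : Set G)) := hk
    rw [e, Subgroup.mem_bot] at this
    exact hne (by rw [this])
  subst hSeq
  obtain ⟨m, hm⟩ := tifn_member_value rfl hTI hC' hK2 hK1 hstar hext
  constructor
  · rintro ⟨χ, hχ, hψe⟩
    by_contra hcon
    push Not at hcon
    obtain ⟨⟨k₀, hk₀⟩, hk₀1'⟩ := Subgroup.ne_bot_iff_exists_ne_one.1 hK1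
    have hk₀1 : k₀ ≠ 1 := fun e => hk₀1' (Subtype.ext e)
    obtain ⟨ξ, hξ, hne⟩ : ∃ ξ ∈ inducedIrrAbove (K.subgroupOf (Subgroup.normalizer (K : Set G))) ⊥,
        χ ≠ ξ := by
      by_cases h : χ = χ₁
      · exact ⟨χ₂, hχ₂, h ▸ h12⟩
      · exact ⟨χ₁, hχ₁, h⟩
    refine tifn_not_constant hC' hχ hξ hne (χ k₀) fun k hk hk1 => ?_
    have h1 := hm χ hχ k hk hk1
    have h2 := hm χ hχ k₀ hk₀ hk₀1
    have hc : ψ k = ψ k₀ := hcon k hk k₀ hk₀ (fun e => hk1 (Subtype.ext e))
      (fun e => hk₀1 (Subtype.ext e))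
    have h3 : star χ k = star χ k₀ := by
      rcases hψe with rfl | rfl
      · exact hc
      · exact neg_injective hc
    rw [h3] at h1
    linear_combination h2 - h1
  · rintro ⟨a, ha, b, hb, ha1, hb1, hab⟩
    obtain ⟨M, hM⟩ := tifn_value hC' hK2 hK1 hstar hext (genChar_of_irr hψ)
    have ea := hM ⟨a, Subgroup.le_normalizer ha⟩ ha (fun e => ha1 (congrArg Subtype.val e))
    have eb := hM ⟨b, Subgroup.le_normalizer hb⟩ hb (fun e => hb1 (congrArg Subtype.val e))
    simp only at ea eb
    obtain ⟨ξ, hξ, hne⟩ : ∃ ξ ∈ inducedIrrAbove (K.subgroupOf (Subgroup.normalizer (K : Set G))) ⊥,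
        classInner ψ (star ξ) ≠ 0 := by
      by_contra h
      push Not at h
      refine hab (ea.trans (Eq.trans ?_ eb.symm))
      rw [Finset.sum_eq_zero fun ξ hξ => by rw [h ξ ((Set.Finite.mem_toFinset _).1 hξ), zero_mul],
        Finset.sum_eq_zero fun ξ hξ => by rw [h ξ ((Set.Finite.mem_toFinset _).1 hξ), zero_mul]]
    have hmem := Submodule.subset_span (R := ℤ) hξ
    have hn : classInner (star ξ) (star ξ) = 1 := by
      rw [hstar.2.2.1 _ hmem _ hmem, irr_inner_self (inducedIrrAbove_isIrr hC' ξ hξ)]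
    refine ⟨ξ, hξ, ?_⟩
    rcases Chars.irr_or_neg_irr_of_norm_one (hstar.2.2.2 _ hmem) hn with h | h
    · refine Or.inl ?_
      by_contra hd
      exact hne (irr_orth hψ h hd)
    · refine Or.inr ?_
      by_contra hd
      refine hne ?_
      rw [← neg_neg (star ξ), Chars.inner_neg_right, irr_orth hψ h hd, neg_zero]

end Cfsg.Agent.S0852
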