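import Cfsg.Statements.S0857
import Cfsg.Agent.Lib.CharsMore.GoingDown
import Mathlib

set_option autoImplicit false
set_option linter.style.haveILetI false
open Cfsg

namespace Cfsg.Agent.S0857

open CfsgLib.CharsMore


/-- Let L < K be normal subgroups of the finite group G with no normal subgroup of G strictly between them and with K / L abelian (the commutator subgroup of K lies in L). Let ϑ be an irreducible character of K invariant under conjugation by G. Then the restriction of ϑ to L is irreducible; or it equals e times an irreducible character of L with e ^ 2 equal to the index of L in K; or it is the sum of a family of pairwise distinct irreducible characters of L indexed by a set whose size is the index of L in K. -/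
theorem result {G : Type*} [Group G] [Fintype G] (K L : Subgroup G) [hK : K.Normal] [L.Normal] (hLK : L < K) (hchief : ∀ M : Subgroup G, M.Normal → L ≤ M → M ≤ K → M = L ∨ M = K) (hab : ⁅K, K⁆ ≤ L) (ϑ : K → ℂ) (hϑ : Cfsg.IsIrrCharacter K ϑ) (hinv : ∀ (g : G) (n : K), ϑ ⟨g * n * g⁻¹, hK.conj_mem (n : G) n.2 g⟩ = ϑ n) : Cfsg.IsIrrCharacter L (fun x : L => ϑ ⟨(x : G), hLK.le x.2⟩) ∨ (∃ (φ : L → ℂ) (e : ℕ), Cfsg.IsIrrCharacter L φ ∧ (fun x : L => ϑ ⟨(x : G), hLK.le x.2⟩) = (e : ℂ) • φ ∧ e ^ 2 = L.relIndex K) ∨ (∃ F : Finset (L → ℂ), (∀ φ ∈ F, Cfsg.IsIrrCharacter L φ) ∧ F.card = L.relIndex K ∧ (fun x : L => ϑ ⟨(x : G), hLK.le x.2⟩) = ∑ φ ∈ F, φ) := by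
  classical
  letI : Fintype K := Fintype.ofFinite _
  letI : Fintype (L.subgroupOf K) := Fintype.ofFinite _
  let e := Subgroup.subgroupOfEquivOfLe hLK.le
  obtain ⟨φ, hφ, h⟩ := going_down hLK.le hchief hab hϑ hinv
  have hirr : ∀ ψ : L.subgroupOf K → ℂ, IsIrrCharacter (L.subgroupOf K) ψ →
      IsIrrCharacter L (fun x => ψ (e.symm x)) := fun ψ hψ =>
    CfsgLib.Chars.isIrrCharacter_comp e.symm.toMonoidHom e.symm.surjective hψ
  rcases h with h | ⟨m, hm, he⟩ | ⟨hc, hs⟩
  · refine Or.inl ?_
    have h1 : (fun x : L => ϑ ⟨(x : G), hLK.le x.2⟩) = fun x => φ (e.symm x) := by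
      funext x
      exact congrFun h (e.symm x)
    rw [h1]
    exact hirr φ hφ
  · exact Or.inr (Or.inl ⟨fun x => φ (e.symm x), m, hirr φ hφ, funext fun x => congrFun hm (e.symm x),
      he⟩)
  · refine Or.inr (Or.inr ⟨(orbitFn (L.subgroupOf K) φ).image (fun ψ x => ψ (e.symm x)), ?_, ?_, ?_⟩)
    · intro ψ hψ
      obtain ⟨ψ', hψ', rfl⟩ := Finset.mem_image.1 hψ
      exact hirr ψ' (orbitFn_irr (L.subgroupOf K) hφ hψ')
    · rw [Finset.card_image_of_injective _ (fun a b hab => funext fun y => by
        simpa using congrFun hab (e y)), hc]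
    · rw [Finset.sum_image (fun a _ b _ hab => funext fun y => by simpa using congrFun hab (e y))]
      funext x
      rw [Finset.sum_apply]
      exact (congrFun hs (e.symm x)).trans (Finset.sum_apply _ _ _)

end Cfsg.Agent.S0857
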