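import Cfsg.Statements.S0859
import Cfsg.Agent.Lib.CharsMore.RelativeAGroup
import Mathlib

set_option autoImplicit false
set_option linter.style.haveILetI false
open Cfsg

namespace Cfsg.Agent.S0859

/-- Let G be a finite solvable group and N a normal subgroup such that for every prime p every Sylow p-subgroup of N is abelian. Suppose every irreducible character of G is induced from an irreducible character of some subgroup containing N whose restriction to N is irreducible. Then every irreducible character of G is induced from a character of degree 1 of some subgroup. -/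
theorem result {G : Type*} [Group G] [Fintype G] [Group.IsSolvable G] (N : Subgroup G) [N.Normal] (hab : ∀ (p : ℕ) [Fact p.Prime] (P : Sylow p N), ∀ a ∈ P, ∀ b ∈ P, a * b = b * a) (hrel : ∀ χ : G → ℂ, Cfsg.IsIrrCharacter G χ → ∃ (H : Subgroup G) (hNH : N ≤ H) (ψ : H → ℂ), Cfsg.IsIrrCharacter H ψ ∧ Cfsg.indFun H ψ = χ ∧ Cfsg.IsIrrCharacter N (fun n : N => ψ ⟨(n : G), hNH n.2⟩)) (χ : G → ℂ) (hχ : Cfsg.IsIrrCharacter G χ) : ∃ (U : Subgroup G) (lam : U → ℂ), Cfsg.IsCharacter U lam ∧ lam 1 = 1 ∧ Cfsg.indFun U lam = χ := by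
  classical
  obtain ⟨H, hNH, ψ, hψ, hind, hres⟩ := hrel χ hχ
  letI : Fintype H := Fintype.ofFinite _
  have hres' : Cfsg.IsIrrCharacter (N.subgroupOf H) (fun x : N.subgroupOf H => ψ x) :=
    CfsgLib.Chars.isIrrCharacter_comp (Subgroup.subgroupOfEquivOfLe hNH).toMonoidHom
      (Subgroup.subgroupOfEquivOfLe hNH).surjective hres
  obtain ⟨U, lam, h1, h2, h3⟩ := CfsgLib.CharsMore.monomial_over_agroup _ (G := H) le_rfl
    (N.subgroupOf H) (by
      intro p _ P hP hPN a ha b hb
      let f : P →* N :=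
        { toFun := fun x => ⟨((x : H) : G), hPN x.2⟩
          map_one' := rfl
          map_mul' := fun _ _ => rfl }
      obtain ⟨S, hS⟩ := (hP.of_surjective f.rangeRestrict f.rangeRestrict_surjective).exists_le_sylow
      have := hab p S (f ⟨a, ha⟩) (hS ⟨⟨a, ha⟩, rfl⟩) (f ⟨b, hb⟩) (hS ⟨⟨b, hb⟩, rfl⟩)
      exact Subtype.ext (congrArg (fun z : N => (z : G)) this)) ψ hψ hres'
  let e := U.equivMapOfInjective H.subtype H.subtype_injective
  refine ⟨U.map H.subtype, fun x => lam (e.symm x),
    CfsgLib.Chars.isCharacter_comp e.symm.toMonoidHom h1, ?_, ?_⟩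
  · show lam (e.symm 1) = 1
    rw [map_one, h2]
  · rw [← hind, ← h3, CfsgLib.CharsMore.indFun_map_subtype]

end Cfsg.Agent.S0859
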