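import Cfsg.Statements.S0860
import Cfsg.Agent.Lib.Chars.Permutation
import Mathlib

set_option autoImplicit false
set_option linter.style.haveILetI false
open Cfsg

namespace Cfsg.Agent.S0860

/-- Let a group A act on the set of irreducible characters and on the set of conjugacy classes of a finite group G in such a way that (a • χ) evaluated on the class a • C equals χ evaluated on C, for all a, χ and C. Then every element of A fixes exactly as many irreducible characters as it fixes conjugacy classes. -/
theorem result {G : Type*} [Group G] [Finite G] {A : Type*} [Group A] [MulAction A (Cfsg.IrrCharacter G)] [MulAction A (ConjClasses G)] (hcompat : ∀ (a : A) (χ : Cfsg.IrrCharacter G) (g g' : G), ConjClasses.mk g' = a • ConjClasses.mk g → ((a • χ : Cfsg.IrrCharacter G) : G → ℂ) g' = (χ : G → ℂ) g) (a : A) : Nat.card {χ : Cfsg.IrrCharacter G // a • χ = χ} = Nat.card {C : ConjClasses G // a • C = C} := by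
  classical
  haveI := Fintype.ofFinite G
  letI := CfsgLib.Chars.irrFintype G
  have hcent : ∀ g g' : G, ConjClasses.mk g' = a • ConjClasses.mk g →
      Nat.card {x : G // ConjClasses.mk x = ConjClasses.mk g} =
        Nat.card {x : G // ConjClasses.mk x = ConjClasses.mk g'} := by
    intro g g' h
    have hg := CfsgLib.Chars.second_orthogonality g g
    have hg' := CfsgLib.Chars.second_orthogonality g' g'
    rw [if_pos (IsConj.refl _)] at hg hg'
    have hC : Nat.card (Subgroup.centralizer ({g} : Set G)) =
        Nat.card (Subgroup.centralizer ({g'} : Set G)) := by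
      have e : ∑ χ : Cfsg.IrrCharacter G, (χ : G → ℂ) g * (starRingEnd ℂ) ((χ : G → ℂ) g) =
          ∑ χ : Cfsg.IrrCharacter G, (χ : G → ℂ) g' * (starRingEnd ℂ) ((χ : G → ℂ) g') :=
        Fintype.sum_equiv (MulAction.toPerm a) _ _ fun χ => by
          rw [MulAction.toPerm_apply, hcompat a χ g g' h]
      rw [hg, hg'] at e
      exact_mod_cast e
    have key : ∀ y : G, Nat.card {x : G // ConjClasses.mk x = ConjClasses.mk y} *
        Nat.card (Subgroup.centralizer ({y} : Set G)) = Nat.card G := by
      intro y
      rw [← CfsgLib.Chars.card_isConj_mul_card_centralizer y]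
      congr 1
      exact Nat.card_congr (Equiv.subtypeEquivRight fun x => by
        rw [ConjClasses.mk_eq_mk_iff_isConj]; exact ⟨IsConj.symm, IsConj.symm⟩)
    have e := (key g).trans (key g').symm
    rw [hC] at e
    exact Nat.eq_of_mul_eq_mul_right Nat.card_pos e
  have hfib : ∀ C : ConjClasses G, Nonempty ({x : G // ConjClasses.mk x = C} ≃
      {x : G // ConjClasses.mk x = a • C}) := by
    intro C
    obtain ⟨g, rfl⟩ := ConjClasses.mk_surjective C
    obtain ⟨g', hg'⟩ := ConjClasses.mk_surjective (a • ConjClasses.mk g)
    rw [← hg']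
    exact ⟨Fintype.equivOfCardEq (by
      simpa only [Nat.card_eq_fintype_card] using hcent g g' hg')⟩
  let f := fun C => (hfib C).some
  let e : G ≃ G := ((Equiv.sigmaFiberEquiv (ConjClasses.mk : G → ConjClasses G)).symm.trans
    (Equiv.sigmaCongr (MulAction.toPerm a) f)).trans
    (Equiv.sigmaFiberEquiv (ConjClasses.mk : G → ConjClasses G))
  have he : ∀ g : G, a • ConjClasses.mk g = ConjClasses.mk (e g) :=
    fun g => (f (ConjClasses.mk g) ⟨g, rfl⟩).2.symm
  have h := CfsgLib.Chars.brauer_permutation e (fun C => a • C) he (fun χ => a • χ)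
    (fun χ g => by
      apply hcompat a χ (e.symm g) g
      rw [he, e.apply_symm_apply])
  exact h.symm

end Cfsg.Agent.S0860
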