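import Cfsg.Statements.S0861
import Cfsg.Agent.Lib.CharsMore.ItoDegree
import Cfsg.Agent.Lib.CharsMore.Congruence
import Cfsg.Agent.Lib.CharApps.Galois
import Cfsg.Agent.Lib.CharApps.Inflation
import Mathlib

set_option autoImplicit false
set_option linter.style.haveILetI false
open Cfsg

namespace Cfsg.Agent.S0861

/-- Let P be a normal abelian Sylow p-subgroup of the finite group G and suppose some element g of P has centralizer exactly P. Then the number of irreducible characters of G is at most the order of P, and if equality holds then G / P is abelian (the commutator subgroup lies in P). -/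
theorem result {G : Type*} [Group G] [Finite G] (p : ℕ) [Fact p.Prime] (P : Sylow p G) [(P : Subgroup G).Normal] (hab : ∀ a ∈ P, ∀ b ∈ P, a * b = b * a) (g : G) (hg : g ∈ P) (hC : Subgroup.centralizer ({g} : Set G) = P) : Nat.card (Cfsg.IrrCharacter G) ≤ Nat.card P ∧ (Nat.card (Cfsg.IrrCharacter G) = Nat.card P → commutator G ≤ P) := by
  classical
  haveI := Fintype.ofFinite G
  haveI := Fintype.ofFinite (P : Subgroup G)
  letI := CfsgLib.Chars.irrFintype G
  have hp : p.Prime := Fact.out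
  obtain ⟨j, hj⟩ := IsPGroup.iff_card.1 P.isPGroup'
  have hgj : g ^ p ^ j = 1 := by
    rw [← hj]
    exact orderOf_dvd_iff_pow_eq_one.1 (Subgroup.orderOf_dvd_natCard _ hg)
  have hne : ∀ χ : Cfsg.IrrCharacter G, (χ : G → ℂ) g ≠ 0 := fun χ => by
    obtain ⟨d, hd, hdvd⟩ := CfsgLib.CharsMore.ito_degree_dvd (P : Subgroup G) hab χ.2
    exact CfsgLib.CharsMore.char_ne_zero_of_not_dvd hp (CfsgLib.Chars.isCharacter_of_irr χ.2) hgj hd
      fun h => P.not_dvd_index (h.trans hdvd)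
  have hbound : ∀ S : Finset (Cfsg.IrrCharacter G),
      (∀ (σ : ℂ ≃+* ℂ), ∀ χ ∈ S, CfsgLib.CharApps.galoisIrr σ χ ∈ S) →
      (S.card : ℝ) ≤ ∑ χ ∈ S, ‖(χ : G → ℂ) g‖ ^ 2 := fun S hS =>
    CfsgLib.CharApps.card_le_sum_normSq S (fun χ => (χ : G → ℂ)) (fun _ => g)
      (fun χ _ => CfsgLib.Chars.isCharacter_of_irr χ.2) (fun χ _ => hne χ)
      fun k σ _ _ => ⟨CfsgLib.CharApps.galoisIrr σ, fun χ h => hS σ χ h,
        fun a _ b _ h => (CfsgLib.CharApps.galoisIrr σ).injective h,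
        fun χ _ => (CfsgLib.CharApps.galoisIrr_apply σ χ g).symm⟩
  have htot : ∑ χ : Cfsg.IrrCharacter G, ‖(χ : G → ℂ) g‖ ^ 2 = (Nat.card P : ℝ) := by
    have h := CfsgLib.Chars.second_orthogonality g g
    rw [if_pos (IsConj.refl g), hC] at h
    have h2 : ((∑ χ : Cfsg.IrrCharacter G, ‖(χ : G → ℂ) g‖ ^ 2 : ℝ) : ℂ) = ((Nat.card P : ℝ) : ℂ) := by
      push_cast
      rw [← h]
      exact Finset.sum_congr rfl fun χ _ => (Complex.mul_conj' _).symm
    exact Complex.ofReal_injective h2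
  have hk : Nat.card (Cfsg.IrrCharacter G) ≤ Nat.card P := by
    have h := hbound Finset.univ fun σ χ _ => Finset.mem_univ _
    rw [htot, Finset.card_univ, ← Nat.card_eq_fintype_card] at h
    exact_mod_cast h
  refine ⟨hk, fun heq => ?_⟩
  set S₀ := Finset.univ.filter
    (fun χ : Cfsg.IrrCharacter G => (P : Subgroup G) ≤ CfsgLib.CharApps.charKer χ) with hS₀
  set S₁ := Finset.univ.filter
    (fun χ : Cfsg.IrrCharacter G => ¬ (P : Subgroup G) ≤ CfsgLib.CharApps.charKer χ) with hS₁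
  have hker : ∀ (σ : ℂ ≃+* ℂ) (χ : Cfsg.IrrCharacter G),
      CfsgLib.CharApps.charKer (CfsgLib.CharApps.galoisIrr σ χ) = CfsgLib.CharApps.charKer χ :=
    fun σ χ => by
      ext x
      rw [CfsgLib.CharApps.mem_charKer, CfsgLib.CharApps.mem_charKer,
        CfsgLib.CharApps.galoisIrr_apply, CfsgLib.CharApps.galoisIrr_apply, σ.injective.eq_iff]
  have h1 : (S₁.card : ℝ) ≤ ∑ χ ∈ S₁, ‖(χ : G → ℂ) g‖ ^ 2 := hbound S₁ fun σ χ hχ => by
    simp only [hS₁, Finset.mem_filter, Finset.mem_univ, true_and, hker] at hχ ⊢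
    exact hχ
  have hsplit := Finset.sum_filter_add_sum_filter_not Finset.univ
    (fun χ : Cfsg.IrrCharacter G => (P : Subgroup G) ≤ CfsgLib.CharApps.charKer χ)
    (fun χ => ‖(χ : G → ℂ) g‖ ^ 2)
  rw [← hS₀, ← hS₁, htot] at hsplit
  have hcard : (S₀.card : ℝ) + S₁.card = Nat.card P := by
    rw [← heq, Nat.card_eq_fintype_card, ← Finset.card_univ, ← Nat.cast_add, hS₀, hS₁,
      Finset.card_filter_add_card_filter_not]
  have hval : ∀ χ ∈ S₀, ‖(χ : G → ℂ) g‖ ^ 2 = (Cfsg.charDegree (χ : G → ℂ) : ℝ) ^ 2 := by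
    intro χ hχ
    rw [show (χ : G → ℂ) g = (χ : G → ℂ) 1 from (Finset.mem_filter.1 hχ).2 hg,
      CfsgLib.CharApps.deg_eq χ, Complex.norm_natCast]
  have hle : ∀ χ ∈ S₀, (1 : ℝ) ≤ ‖(χ : G → ℂ) g‖ ^ 2 := fun χ hχ => by
    rw [hval χ hχ]
    exact one_le_pow₀ (by exact_mod_cast CfsgLib.CharApps.deg_pos χ)
  have hge : ∑ χ ∈ S₀, ‖(χ : G → ℂ) g‖ ^ 2 ≤ ∑ _χ ∈ S₀, (1 : ℝ) := by
    rw [Finset.sum_const, nsmul_eq_mul, mul_one]
    linarith
  have hone := (Finset.sum_eq_sum_iff_of_le hle).1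
    (le_antisymm (Finset.sum_le_sum hle) hge)
  intro c hc
  by_contra hcP
  have hq : (QuotientGroup.mk c : G ⧸ (P : Subgroup G)) ≠ 1 :=
    fun h => hcP ((QuotientGroup.eq_one_iff c).1 h)
  refine hq (CfsgLib.CharApps.eq_one_of_forall_ker fun ψ => ?_)
  set χ := CfsgLib.CharApps.inflate (P : Subgroup G) ψ with hχ
  have hmem : χ ∈ S₀ :=
    Finset.mem_filter.2 ⟨Finset.mem_univ _, CfsgLib.CharApps.le_charKer_inflate _ ψ⟩
  have hd : (χ : G → ℂ) 1 = 1 := by
    have h2 := hone χ hmem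
    rw [hval χ hmem, eq_comm, sq_eq_one_iff] at h2
    rcases h2 with h2 | h2
    · rw [CfsgLib.CharApps.deg_eq χ]
      exact_mod_cast h2
    · linarith [Nat.cast_nonneg (α := ℝ) (Cfsg.charDegree (χ : G → ℂ))]
  obtain ⟨l, hl⟩ := CfsgLib.Chars.exists_hom_of_degree_one (CfsgLib.Chars.isCharacter_of_irr χ.2) hd
  have hlc : l c = 1 := Abelianization.commutator_subset_ker l hc
  have e : (χ : G → ℂ) c = (χ : G → ℂ) 1 := by rw [hl]; simp [hlc]
  rw [hχ, CfsgLib.CharApps.inflate_apply, CfsgLib.CharApps.inflate_apply] at e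
  exact e

end Cfsg.Agent.S0861
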