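import Cfsg.Statements.S0862
import Cfsg.Agent.Lib.CharsMore.Extend

set_option autoImplicit false
open Cfsg

namespace Cfsg.Agent.S0862

/-- Let N be a normal subgroup of the finite group G and ϑ an irreducible character of N of degree d coprime to the index of N, which is the restriction of some irreducible character of G. Let μ be a character of G of degree 1 whose restriction to N is the determinantal character of ϑ. Then there is exactly one irreducible character χ of G restricting to ϑ whose determinantal character is μ. -/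
theorem result {G : Type*} [Group G] [Finite G] (N : Subgroup G) [N.Normal] (ϑ : N → ℂ) (hϑ : Cfsg.IsIrrCharacter N ϑ) (d : ℕ) (hd : ϑ 1 = d) (hcop : Nat.Coprime N.index d) (hext : ∃ η : G → ℂ, Cfsg.IsIrrCharacter G η ∧ (∀ n : N, η n = ϑ n)) (μ : G → ℂ) (hμ : Cfsg.IsCharacter G μ ∧ μ 1 = 1) (hμN : ∀ n : N, μ n = Cfsg.detChar ϑ n) : ∃! χ : G → ℂ, Cfsg.IsIrrCharacter G χ ∧ (∀ n : N, χ n = ϑ n) ∧ Cfsg.detChar χ = μ := by
  obtain ⟨k, ρ, hirr, rfl⟩ := hϑ
  have hdet := CfsgLib.CharsMore.detChar_eq ρ (χ := ρ.character) rfl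
  obtain ⟨η, hη, hηres⟩ := hext
  obtain ⟨R₀, hR₀, -, -⟩ := CfsgLib.CharsMore.exists_repExt_of_character N.subtype ρ
    (CfsgLib.Chars.isCharacter_of_irr hη) hηres
  obtain ⟨ν, rfl⟩ := CfsgLib.CharsMore.exists_hom_of_linear hμ
  have hk : k = d := by simpa using hd
  obtain ⟨R, ⟨hR, hRdet⟩, huniq⟩ := CfsgLib.CharsMore.existsUnique_ext_det N ρ
    (by rw [Module.finrank_fin_fun, hk]; exact hcop.symm) ⟨R₀, hR₀⟩ ν
    (fun n => Units.ext ((hμN n).trans (congrFun hdet n)))
  obtain ⟨hRirr, hRchar, hRres⟩ := CfsgLib.CharsMore.isIrrExt_of_rep N R hR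
  refine ⟨R.character, ⟨hRchar, hRres, ?_⟩, ?_⟩
  · rw [CfsgLib.CharsMore.detChar_eq R rfl, hRdet]
  · rintro χ ⟨hχ, hres, hχdet⟩
    obtain ⟨R', hR', hR'irr, rfl⟩ := CfsgLib.CharsMore.exists_repExt_of_character N.subtype ρ
      (CfsgLib.Chars.isCharacter_of_irr hχ) hres
    rw [CfsgLib.CharsMore.detChar_eq R' rfl] at hχdet
    rw [huniq R' ⟨hR', CfsgLib.CharsMore.linFun_injective hχdet⟩]

end Cfsg.Agent.S0862
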