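import Cfsg.Statements.S0866
import Cfsg.Agent.Lib.CharsMore.Extend

set_option autoImplicit false
open Cfsg

namespace Cfsg.Agent.S0866

/-- Let N be a normal subgroup of the finite group G and ϑ an irreducible character of N, invariant under conjugation by G, of degree d coprime to the index of N. Then ϑ is the restriction of an irreducible character of G if and only if the determinantal character of ϑ is the restriction of a character of G of degree 1. -/
theorem result {G : Type*} [Group G] [Finite G] (N : Subgroup G) [hN : N.Normal] (ϑ : N → ℂ) (hϑ : Cfsg.IsIrrCharacter N ϑ) (hinv : ∀ (g : G) (n : N), ϑ ⟨g * n * g⁻¹, hN.conj_mem (n : G) n.2 g⟩ = ϑ n) (d : ℕ) (hd : ϑ 1 = d) (hcop : Nat.Coprime N.index d) : (∃ χ : G → ℂ, Cfsg.IsIrrCharacter G χ ∧ (∀ n : N, χ n = ϑ n)) ↔ ∃ μ : G → ℂ, Cfsg.IsCharacter G μ ∧ μ 1 = 1 ∧ ∀ n : N, μ n = Cfsg.detChar ϑ n := by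
  obtain ⟨k, ρ, hirr, rfl, hI, -⟩ :=
    CfsgLib.CharsMore.exists_invariant_rep N hϑ (fun g n => hinv g n)
  have hdet := CfsgLib.CharsMore.detChar_eq ρ (χ := ρ.character) rfl
  constructor
  · rintro ⟨χ, hχ, hres⟩
    obtain ⟨R, hR, -, -⟩ := CfsgLib.CharsMore.exists_repExt_of_character N.subtype ρ
      (CfsgLib.Chars.isCharacter_of_irr hχ) hres
    refine ⟨_, (CfsgLib.CharsMore.isCharacter_linFun (CfsgLib.CharsMore.detHom R)).1,
      (CfsgLib.CharsMore.isCharacter_linFun (CfsgLib.CharsMore.detHom R)).2, fun n => ?_⟩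
    rw [hdet]
    exact congrArg LinearMap.det (hR n)
  · rintro ⟨μ, hμ, hμ1, hres⟩
    obtain ⟨ν, rfl⟩ := CfsgLib.CharsMore.exists_hom_of_linear ⟨hμ, hμ1⟩
    have hk : k = d := by simpa using hd
    obtain ⟨R, hR⟩ := CfsgLib.CharsMore.repExtends_of_det N ρ hI
      (by rw [Module.finrank_fin_fun, hk]; exact hcop.symm) ν
      (fun n => (hres n).trans (congrFun hdet n))
    exact ⟨_, (CfsgLib.CharsMore.isIrrExt_of_rep N R hR).2⟩

end Cfsg.Agent.S0866
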