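import Cfsg.Statements.S0868
import Cfsg.Agent.Lib.CharsMore.Gallagher
import Mathlib

set_option autoImplicit false
set_option linter.style.haveILetI false
open scoped ComplexConjugate
open Cfsg

namespace Cfsg.Agent.S0868

open CfsgLib in
open scoped ComplexConjugate in
/-- The averaged product vanishes when the restrictions are orthogonal. -/
lemma eta_zero {G : Type*} [Group G] [Fintype G] (N : Subgroup G) [N.Normal] [Fintype N]
    {ψ χ : G → ℂ} (hψ : Cfsg.IsIrrCharacter G ψ) (hχ : Cfsg.IsIrrCharacter G χ)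
    (h : Cfsg.classInner (fun n : N => ψ n) (fun n : N => χ n) = 0) (g : G) :
    (Nat.card N : ℂ)⁻¹ * ∑ n : N, ψ ((n : G) * g) * conj (χ ((n : G) * g)) = 0 := by
  classical
  letI := Chars.irrFintype G
  -- `ψ * conj χ` is a character whose restriction to `N` is orthogonal to `1`
  let φ : G → ℂ := fun x => ψ x * conj (χ x)
  have hφ : Cfsg.IsCharacter G φ := Chars.isCharacter_mul (Chars.isCharacter_of_irr hψ)
    (Chars.isCharacter_conj (Chars.isCharacter_of_irr hχ))
  have hd := CharsMore.char_eq_sum_multNat hφ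
  have hzero : ∀ θ ∈ CharsMore.quotIrr N, CharsMore.multNat φ (θ : G → ℂ) = 0 := by
    intro θ hθ
    have h1 : (0 : ℂ) = ∑ x : IrrCharacter G, (CharsMore.multNat φ (x : G → ℂ) : ℂ) *
        ∑ n : N, (x : G → ℂ) n := by
      rw [Chars.inner_def] at h
      have h2 : ∑ n : N, φ n = 0 := (mul_eq_zero.1 h).resolve_left
        (inv_ne_zero (Chars.card_ne_zero N))
      rw [← h2, Finset.sum_congr rfl (fun x _ => Finset.mul_sum _ _ _), Finset.sum_comm]
      refine Finset.sum_congr rfl fun n _ => ?_
      have := congrFun hd (n : G)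
      simpa [Finset.sum_apply] using this
    have hval : ∀ x ∈ CharsMore.quotIrr N, ∑ n : N, (x : G → ℂ) n =
        ((Nat.card N * Cfsg.charDegree (x : G → ℂ) : ℕ) : ℂ) := by
      intro x hx
      rw [Finset.sum_congr rfl (fun n _ => by rw [← mul_one ((n : N) : G),
          CharsMore.quotIrr_mul N hx n 1]), Finset.sum_const, Finset.card_univ, nsmul_eq_mul,
        CharApps.deg_eq x, Nat.cast_mul, Nat.card_eq_fintype_card]
    rw [← Finset.sum_subset (Finset.subset_univ (CharsMore.quotIrr N)) (fun x _ hx => by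
        have h0 := CharApps.sum_coset_eq_zero N x (fun h => hx ((CharsMore.mem_quotIrr N).2 h)) 1
        simp only [mul_one] at h0
        rw [h0, mul_zero])] at h1
    rw [Finset.sum_congr rfl (fun x hx => by rw [hval x hx, ← Nat.cast_mul]), ← Nat.cast_sum,
      eq_comm, Nat.cast_eq_zero, Finset.sum_eq_zero_iff] at h1
    have hpos : 0 < Nat.card N * Cfsg.charDegree (θ : G → ℂ) :=
      Nat.mul_pos Nat.card_pos (CharApps.deg_pos θ)
    exact (Nat.mul_eq_zero.1 (h1 θ hθ)).resolve_right hpos.ne'
  have hsum : ∑ n : N, φ ((n : G) * g) = ∑ x : IrrCharacter G,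
      (CharsMore.multNat φ (x : G → ℂ) : ℂ) * ∑ n : N, (x : G → ℂ) ((n : G) * g) := by
    rw [Finset.sum_congr rfl (fun x _ => Finset.mul_sum _ _ _), Finset.sum_comm]
    refine Finset.sum_congr rfl fun n _ => ?_
    have := congrFun hd ((n : G) * g)
    simpa [Finset.sum_apply] using this
  rw [show ∑ n : N, ψ ((n : G) * g) * conj (χ ((n : G) * g)) = ∑ n : N, φ ((n : G) * g) from rfl,
    hsum, Finset.sum_eq_zero fun x _ => ?_, mul_zero]
  by_cases hx : x ∈ CharsMore.quotIrr N
  · rw [hzero x hx, Nat.cast_zero, zero_mul]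
  · rw [CharApps.sum_coset_eq_zero N x (fun h => hx ((CharsMore.mem_quotIrr N).2 h)) g, mul_zero]

/-- Let N be a normal subgroup of the finite group G, χ an irreducible character of G whose restriction ϑ to N is irreducible, and ψ an irreducible character of G. Define η on G by η g = (1 / order of N) * Σ over n in N of ψ (n * g) * conj (χ (n * g)). Then: if the restriction of ψ to N has nonzero inner product with ϑ, η is an irreducible character of G; if that inner product is zero, η vanishes identically; and if ψ = χ then η is identically 1. -/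
theorem result {G : Type*} [Group G] [Fintype G] (N : Subgroup G) [N.Normal] [Fintype N] (χ : G → ℂ) (hχ : Cfsg.IsIrrCharacter G χ) (hχN : Cfsg.IsIrrCharacter N (fun n : N => χ n)) (ψ : G → ℂ) (hψ : Cfsg.IsIrrCharacter G ψ) (η : G → ℂ) (hη : η = fun g => (Nat.card N : ℂ)⁻¹ * ∑ n : N, ψ ((n : G) * g) * conj (χ ((n : G) * g))) : (Cfsg.classInner (fun n : N => ψ n) (fun n : N => χ n) ≠ 0 → Cfsg.IsIrrCharacter G η) ∧ (Cfsg.classInner (fun n : N => ψ n) (fun n : N => χ n) = 0 → η = 0) ∧ (ψ = χ → η = fun _ => 1) := by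
  classical
  letI := CfsgLib.Chars.irrFintype G
  subst hη
  refine ⟨fun h => ?_, fun h => ?_, fun h => ?_⟩
  · obtain ⟨β, hβ, rfl⟩ := CfsgLib.CharsMore.gallagher_exists N hχ hχN hψ h
    convert β.2 using 1
    funext g
    rw [show ∑ n : N, ((β : G → ℂ) * χ) ((n : G) * g) * (starRingEnd ℂ) (χ ((n : G) * g)) =
        (β : G → ℂ) g * ∑ n : N, χ ((n : G) * g) * (starRingEnd ℂ) (χ ((n : G) * g)) by
      rw [Finset.mul_sum]
      refine Finset.sum_congr rfl fun n _ => ?_
      rw [Pi.mul_apply, CfsgLib.CharsMore.quotIrr_mul N hβ, mul_assoc],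
      mul_left_comm, CfsgLib.CharsMore.coset_norm_avg N hχ hχN g, mul_one]
  · funext g
    have hψc := CfsgLib.Chars.isClassFunction_of_isCharacter (CfsgLib.Chars.isCharacter_of_irr hψ)
    have hχcl := CfsgLib.Chars.isClassFunction_of_isCharacter (CfsgLib.Chars.isCharacter_of_irr hχ)
    exact eta_zero N hψ hχ h g
  · subst h
    funext g
    exact CfsgLib.CharsMore.coset_norm_avg N hχ hχN g

end Cfsg.Agent.S0868
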