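import Cfsg.Statements.S0869
import Mathlib

set_option autoImplicit false
open Cfsg

namespace Cfsg.Agent.S0869

/-- Let S be a nonempty finite type and R an additive subgroup of the integer-valued functions on S that is closed under pointwise multiplication. If the constant function 1 is not in R, then there exist a point x of S and a prime p such that p divides f x for every f in R. -/
theorem result {S : Type*} [Finite S] [Nonempty S] (R : AddSubgroup (S → ℤ)) (hmul : ∀ f ∈ R, ∀ g ∈ R, f * g ∈ R) (h1 : (1 : S → ℤ) ∉ R) : ∃ (x : S) (p : ℕ), p.Prime ∧ ∀ f ∈ R, (p : ℤ) ∣ f x := by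
  classical
  by_contra hno
  push_neg at hno
  have hone : ∀ x : S, ∃ f ∈ R, f x = 1 := by
    intro x
    obtain ⟨a, ha⟩ := Int.subgroup_cyclic (R.map (Pi.evalAddMonoidHom (fun _ : S => ℤ) x))
    have hdvd : ∀ f ∈ R, a ∣ f x := fun f hf => by
      have : f x ∈ R.map (Pi.evalAddMonoidHom (fun _ : S => ℤ) x) := ⟨f, hf, rfl⟩
      rw [ha, AddSubgroup.mem_closure_singleton] at this
      obtain ⟨m, hm⟩ := this
      exact ⟨m, by rw [← hm]; simp [mul_comm]⟩
    have hunit : a.natAbs = 1 := by
      by_contra hne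
      obtain ⟨p, hp, hpa⟩ := Nat.exists_prime_and_dvd hne
      obtain ⟨f, hf, hpf⟩ := hno x p hp
      exact hpf ((Int.natCast_dvd.2 hpa).trans (hdvd f hf))
    obtain ⟨f, hf, hfa⟩ : a ∈ R.map (Pi.evalAddMonoidHom (fun _ : S => ℤ) x) := by
      rw [ha]; exact AddSubgroup.mem_closure_singleton_self a
    have hfa' : f x = a := hfa
    rcases Int.natAbs_eq a with h | h <;> rw [hunit] at h
    · exact ⟨f, hf, by rw [hfa', h]; rfl⟩
    · exact ⟨-f, R.neg_mem hf, by simp [hfa', h]⟩
  have hall : ∀ s : Finset S, ∃ r ∈ R, ∀ x ∈ s, r x = 1 := by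
    intro s
    induction s using Finset.induction_on with
    | empty => exact ⟨0, R.zero_mem, by simp⟩
    | insert x s _ ih =>
      obtain ⟨r, hr, hr1⟩ := ih
      obtain ⟨f, hf, hf1⟩ := hone x
      refine ⟨r + f - r * f, R.sub_mem (R.add_mem hr hf) (hmul r hr f hf), fun y hy => ?_⟩
      rcases Finset.mem_insert.1 hy with rfl | hy
      · simp [hf1]
      · simp [hr1 y hy]
  have := Fintype.ofFinite S
  obtain ⟨r, hr, hr1⟩ := hall Finset.univ
  exact h1 (by convert hr using 1; funext x; exact (hr1 x (Finset.mem_univ x)).symm)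

end Cfsg.Agent.S0869
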