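import Cfsg.Statements.S0873
import Cfsg.Agent.Lib.CharsMore.Extend

set_option autoImplicit false
open Cfsg

namespace Cfsg.Agent.S0873

/-- Let C be a normal subgroup of the finite group G of order prime to p and P a p-subgroup with C ⊔ P = G. Let λ be a character of C of degree 1 invariant under conjugation by G and equal to 1 at every element of C centralized by P. Then λ is identically 1. -/
theorem result {G : Type*} [Group G] [Finite G] (p : ℕ) [Fact p.Prime] (C P : Subgroup G) [hC : C.Normal] (hP : IsPGroup p P) (hcop : Nat.Coprime (Nat.card C) p) (hCP : C ⊔ P = ⊤) (lam : C → ℂ) (hlam : Cfsg.IsCharacter C lam ∧ lam 1 = 1) (hinv : ∀ (g : G) (c : C), lam ⟨g * c * g⁻¹, hC.conj_mem (c : G) c.2 g⟩ = lam c) (hker : ∀ c : C, (c : G) ∈ Subgroup.centralizer (P : Set G) → lam c = 1) : lam = fun _ => 1 := by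
  classical
  obtain ⟨l, rfl⟩ := CfsgLib.CharsMore.exists_hom_of_linear hlam
  funext c
  let X : Type _ := {d : C // l d = l c}
  let act : MulAction P X :=
    { smul := fun g d => ⟨CfsgLib.CharsMore.conjBy C (g : G) d.1,
        (Units.ext (hinv (g : G) d.1)).trans d.2⟩
      one_smul := fun d => by
        apply Subtype.ext; apply Subtype.ext
        show ((1 : P) : G) * (d.1 : G) * ((1 : P) : G)⁻¹ = d.1
        simp
      mul_smul := fun g g' d => by
        apply Subtype.ext; apply Subtype.ext
        show ((g * g' : P) : G) * (d.1 : G) * ((g * g' : P) : G)⁻¹ =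
          (g : G) * ((g' : G) * d.1 * (g' : G)⁻¹) * (g : G)⁻¹
        simp [mul_assoc] }
  have hX : Nat.card X ∣ Nat.card C := by
    have e : X ≃ l.ker :=
      { toFun := fun d => ⟨c⁻¹ * d.1, by simp [MonoidHom.mem_ker, d.2]⟩
        invFun := fun k => ⟨c * k.1, by rw [map_mul, MonoidHom.mem_ker.1 k.2, mul_one]⟩
        left_inv := fun d => by simp
        right_inv := fun k => by simp }
    rw [Nat.card_congr e]
    exact Subgroup.card_subgroup_dvd_card _
  obtain ⟨d, hd⟩ := hP.nonempty_fixed_point_of_prime_not_dvd_card X fun h => by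
    have := Nat.dvd_gcd (h.trans hX) (dvd_refl p)
    rw [hcop.gcd_eq_one] at this
    exact (Fact.out : p.Prime).not_dvd_one this
  have hdc : ((d.1 : C) : G) ∈ Subgroup.centralizer (P : Set G) := by
    rw [Subgroup.mem_centralizer_iff]
    intro g hg
    have := congrArg (fun z : X => ((z.1 : C) : G)) (hd ⟨g, hg⟩)
    exact mul_inv_eq_iff_eq_mul.1 this
  have h1 := hker d.1 hdc
  show (l c : ℂ) = 1
  rw [← d.2]
  exact h1

end Cfsg.Agent.S0873
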