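import Cfsg.Statements.S0876
import Cfsg.Agent.Lib.CharsMore.AlgIntSpan
import Cfsg.Agent.Lib.BlockOrth.PPart
import Mathlib

set_option autoImplicit false
set_option linter.style.haveILetI false
open Cfsg

namespace Cfsg.Agent.S0876

open CfsgLib.Blocks


/-- Let G be a finite group, p a prime and M a maximal ideal of the ring of algebraic integers containing p. Let x, y be elements with p-parts a and b (so a⁻¹ * x and b⁻¹ * y are their p-regular parts). Then a⁻¹ * x and b⁻¹ * y are conjugate in G if and only if, for every irreducible character χ, the difference χ x - χ y lies in the local ideal at M. -/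
theorem result {G : Type*} [Group G] [Finite G] (p : ℕ) (M : Ideal Cfsg.AlgInt) (hM : Cfsg.IsPModular p M) (x y a b : G) (ha : Cfsg.IsPPart p x a) (hb : Cfsg.IsPPart p y b) : IsConj (a⁻¹ * x) (b⁻¹ * y) ↔ ∀ χ : Cfsg.IrrCharacter G, Cfsg.MemLocalIdeal M ((χ : G → ℂ) x - (χ : G → ℂ) y) := by
  classical
  haveI := Fintype.ofFinite G
  haveI := CfsgLib.Chars.irrFintype G
  obtain ⟨hp, hmax, hpM⟩ := hM
  haveI := Fact.mk hp
  haveI := hmax
  have ea : CfsgLib.BlockOrth.pPrimePart p x = a⁻¹ * x :=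
    (CfsgLib.BlockOrth.isPPrimePart_of_isPPart ha).eq_pPrimePart
  have eb : CfsgLib.BlockOrth.pPrimePart p y = b⁻¹ * y :=
    (CfsgLib.BlockOrth.isPPrimePart_of_isPPart hb).eq_pPrimePart
  set a' := CfsgLib.BlockOrth.pPrimePart p x with ha'
  set b' := CfsgLib.BlockOrth.pPrimePart p y with hb'
  rw [← ea, ← eb]
  have hca : ∀ χ : IrrCharacter G, MemLocalIdeal M ((χ : G → ℂ) x - (χ : G → ℂ) a') := fun χ =>
    CfsgLib.BlockOrth.memLocalIdeal_char_sub hpM (CfsgLib.Chars.isCharacter_of_irr χ.2) x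
  have hcb : ∀ χ : IrrCharacter G, MemLocalIdeal M ((χ : G → ℂ) y - (χ : G → ℂ) b') := fun χ =>
    CfsgLib.BlockOrth.memLocalIdeal_char_sub hpM (CfsgLib.Chars.isCharacter_of_irr χ.2) y
  constructor
  · intro hc χ
    obtain ⟨c, hc⟩ := isConj_iff.1 hc
    have e : (χ : G → ℂ) b' = (χ : G → ℂ) a' := by
      rw [← hc]; exact CfsgLib.Chars.isClassFunction_irr χ a' c
    have h := MemLocalIdeal.sub' (hca χ) (hcb χ)
    rwa [e, sub_sub_sub_cancel_right] at h
  · intro h
    by_contra hne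
    obtain ⟨k, n, hn, hkn⟩ :=
      Nat.exists_eq_pow_mul_and_not_dvd (n := Nat.card G) Nat.card_pos.ne' p hp.ne_one
    have hcop : Nat.Coprime (p ^ k) n := (hp.coprime_iff_not_dvd.2 hn).pow_left k
    have hreg : ∀ z : G, ¬ p ∣ orderOf z → (orderOf z).Coprime (p ^ k) := fun z hz =>
      ((hp.coprime_iff_not_dvd.2 hz).pow_left k).symm
    set Q : G → Prop := fun z => ∃ v : G, IsConj v a' ∧ (∃ u : G, z = u * v ∧ Commute u v ∧
      Nat.Coprime (orderOf u) n ∧ Nat.Coprime (orderOf v) (p ^ k))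
    set ϑ : G → ℂ := fun z => if Q z then (n : ℂ) else 0
    obtain ⟨hcl, hint⟩ := CfsgLib.CharsMore.section_inner_integral (ϑ := ϑ) hkn hcop a'
      (fun z hz => if_pos hz) (fun z hz => if_neg hz)
    have hQa : Q a' := ⟨a', IsConj.refl a', 1, (one_mul _).symm, Commute.one_left _,
      by simp, hreg _ (CfsgLib.BlockOrth.not_dvd_orderOf_pPrimePart x)⟩
    have hQb : ¬ Q b' := by
      rintro ⟨v, hv, u, he, huv, hu, hv'⟩
      have hvn : orderOf v ∣ n :=
        Nat.Coprime.dvd_of_dvd_mul_left hv' (hkn ▸ orderOf_dvd_natCard v)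
      obtain ⟨hmu, -⟩ := CfsgLib.CharsMore.parts_mem_zpowers huv (hu.coprime_dvd_right hvn)
      rw [← he] at hmu
      have hub : orderOf u ∣ orderOf b' := orderOf_dvd_of_mem_zpowers hmu
      have hu1 : u = 1 := by
        rw [← orderOf_eq_one_iff]
        refine Nat.eq_one_of_dvd_coprimes ?_ dvd_rfl ((hkn ▸ orderOf_dvd_natCard u :
          orderOf u ∣ p ^ k * n))
        exact Nat.Coprime.mul_right
          ((hreg _ (CfsgLib.BlockOrth.not_dvd_orderOf_pPrimePart y)).coprime_dvd_left hub) hu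
      rw [hu1, one_mul] at he
      exact hne (he ▸ hv.symm)
    have hdiff : ∀ χ : IrrCharacter G,
        MemLocalIdeal M ((χ : G → ℂ) a' - (χ : G → ℂ) b') := by
      intro χ
      have h1 := MemLocalIdeal.sub' (h χ) (hca χ)
      have h2 := MemLocalIdeal.sub' h1 (MemLocalIdeal.neg' (hcb χ))
      have e : (χ : G → ℂ) x - (χ : G → ℂ) y - ((χ : G → ℂ) x - (χ : G → ℂ) a') -
          -((χ : G → ℂ) y - (χ : G → ℂ) b') = (χ : G → ℂ) a' - (χ : G → ℂ) b' := by ring
      rwa [e] at h2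
    have hexp : ϑ a' - ϑ b' = ∑ χ : IrrCharacter G,
        classInner ϑ (χ : G → ℂ) * ((χ : G → ℂ) a' - (χ : G → ℂ) b') := by
      have e1 := congrFun (CfsgLib.Chars.classFun_eq_sum hcl) a'
      have e2 := congrFun (CfsgLib.Chars.classFun_eq_sum hcl) b'
      simp only [Finset.sum_apply, Pi.smul_apply, smul_eq_mul] at e1 e2
      simp only [mul_sub, Finset.sum_sub_distrib]
      rw [← e1, ← e2]
    have hnM : MemLocalIdeal M (n : ℂ) := by
      have e : ϑ a' - ϑ b' = (n : ℂ) := by simp [ϑ, hQa, hQb]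
      rw [← e, hexp]
      exact CfsgLib.Blocks.MemLocalIdeal.sum' fun χ _ =>
        MemLocalIdeal.mul_left' (CfsgLib.Blocks.isIntegral_mem_loc (hint χ)) (hdiff χ)
    have hinv := CfsgLib.Blocks.inv_natCast_mem_loc hp hpM hn
    have h1 := MemLocalIdeal.mul_left' hinv hnM
    rw [inv_mul_cancel₀ (Nat.cast_ne_zero.2 (fun h0 : n = 0 => hn (by rw [h0]; exact dvd_zero p)))] at h1
    exact CfsgLib.Blocks.not_memLocalIdeal_one h1

end Cfsg.Agent.S0876
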