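import Cfsg.Statements.S0878
import Cfsg.Prelude.Def_LieExceptional
import Mathlib

set_option autoImplicit false
set_option linter.style.haveILetI false
open Cfsg

namespace Cfsg.Agent.S0878

/-- Let G be a Zassenhaus group on the finite set Ω, a a point, and let H be the subgroup of the stabilizer of a consisting of the identity and the elements fixing no point other than a (given here as a subgroup of the stabilizer of order one less than the number of points whose non-identity elements fix only a; it is the Frobenius kernel of the stabilizer). Then an element outside the stabilizer of a conjugates no non-identity element of H into H, and the normalizer of H is exactly the stabilizer of a. -/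
theorem result {G Ω : Type*} [Group G] [Finite G] [MulAction G Ω] [Fintype Ω] (hZ : Cfsg.IsZassenhausGroup G Ω) (a : Ω) (H : Subgroup G) (hHa : H ≤ MulAction.stabilizer G a) (hHcard : Nat.card H + 1 = Fintype.card Ω) (hHfix : ∀ u ∈ H, u ≠ 1 → ∀ c : Ω, u • c = c → c = a) : (∀ g : G, g ∉ MulAction.stabilizer G a → ∀ u ∈ H, g * u * g⁻¹ ∈ H → u = 1) ∧ Subgroup.normalizer (H : Set G) = MulAction.stabilizer G a := by
  classical
  haveI := Fintype.ofFinite G
  obtain ⟨hfaith, h2, h3, ⟨g₀, hg₀, c, d, hcd, hc, hd⟩, -⟩ := hZ
  have h2' : ∀ {p q r t : Ω}, p ≠ q → r ≠ t → ∃ g : G, g • p = r ∧ g • q = t :=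
    MulAction.is_two_pretransitive_iff.1 h2
  have hn : 3 ≤ Fintype.card Ω := by
    by_contra hlt
    refine hg₀ (hfaith.eq_of_smul_eq_smul (α := Ω) fun e => ?_)
    rw [one_smul]
    by_contra he
    have hec : e ≠ c := fun h => he (by rw [h, hc])
    have hed : e ≠ d := fun h => he (by rw [h, hd])
    have h4 := Finset.card_le_univ ({e, c, d} : Finset Ω)
    rw [Finset.card_insert_of_notMem (by simp [hec, hed]), Finset.card_pair hcd] at h4
    omega
  have hHa' : ∀ u ∈ H, u • a = a := fun u hu => hHa hu
  have hTI : ∀ g : G, g ∉ MulAction.stabilizer G a → ∀ u ∈ H, g * u * g⁻¹ ∈ H → u = 1 := by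
    intro g hg u hu hv
    by_contra hu1
    have h1 : (g * u * g⁻¹) • (g • a) = g • a := by
      rw [mul_smul, mul_smul, inv_smul_smul, hHa' u hu]
    exact hg (hHfix _ hv (fun h => hu1 (conj_eq_one_iff.1 h)) _ h1)
  refine ⟨hTI, ?_⟩
  -- the non-identity elements fixing only `a`
  set S := MulAction.stabilizer G a with hS
  have hfixS : ∀ g : S, (g : G) • a = a := fun g => g.2
  set D := Finset.univ.filter (fun g : G => g ≠ 1 ∧ g • a = a ∧ ∀ e : Ω, g • e = e → e = a)
    with hD
  have horb : Fintype.card (MulAction.orbitRel.Quotient S Ω) = 2 := by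
    obtain ⟨b, hb⟩ := Fintype.exists_ne_of_one_lt_card (by omega) a
    rw [Fintype.card_eq_nat_card]
    refine (Nat.card_eq_of_bijective (fun i : Fin 2 =>
      (Quotient.mk'' (if i = 0 then a else b) : MulAction.orbitRel.Quotient S Ω)) ⟨?_, ?_⟩).symm.trans
        (Nat.card_fin 2)
    · have key : ∀ x : Ω, (Quotient.mk'' a : MulAction.orbitRel.Quotient S Ω) = Quotient.mk'' x →
          x = a := by
        intro x hx
        obtain ⟨s, hs⟩ := Quotient.eq''.1 hx
        have : (s : G) • x = (s : G) • a := by rw [hfixS s]; exact hs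
        exact smul_left_cancel _ this
      intro i j h
      dsimp only at h
      by_cases hi : i = 0 <;> by_cases hj : j = 0
      · rw [hi, hj]
      · rw [if_pos hi, if_neg hj] at h
        exact absurd (key b h) hb
      · rw [if_neg hi, if_pos hj] at h
        exact absurd (key b h.symm) hb
      · omega
    · intro q
      induction q using Quotient.inductionOn' with
      | h x =>
        by_cases hx : x = a
        · exact ⟨0, by simp [hx]⟩
        · obtain ⟨g, hga, hgb⟩ := h2' (Ne.symm hx) (Ne.symm hb)
          refine ⟨1, Quotient.eq''.2 ⟨⟨g, hga⟩, ?_⟩⟩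
          show g • x = _
          rw [hgb]; simp
  have hburn := MulAction.sum_card_fixedBy_eq_card_orbits_mul_card_group S Ω
  rw [horb] at hburn
  have hfix : ∀ g : S, Fintype.card (MulAction.fixedBy Ω g) + (if (g : G) ∈ D then 1 else 0) =
      2 + (if g = 1 then Fintype.card Ω - 2 else 0) := by
    intro g
    by_cases h1 : g = 1
    · subst h1
      have : ((1 : S) : G) ∉ D := by simp [hD]
      rw [if_neg this, if_pos rfl]
      have : Fintype.card (MulAction.fixedBy Ω (1 : S)) = Fintype.card Ω :=
        Fintype.card_of_subtype Finset.univ (fun x => by simp [MulAction.mem_fixedBy])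
      omega
    · have hg1 : (g : G) ≠ 1 := fun h => h1 (Subtype.ext h)
      rw [if_neg h1]
      by_cases hmem : (g : G) ∈ D
      · obtain ⟨-, -, honly⟩ := (Finset.mem_filter.1 hmem).2
        rw [if_pos hmem, Fintype.card_of_subtype {a} (fun x => by
          rw [Finset.mem_singleton, MulAction.mem_fixedBy]
          exact ⟨fun h => h ▸ hfixS g, honly x⟩)]
        simp
      · have : ∃ b, b ≠ a ∧ (g : G) • b = b := by
          by_contra hno
          push Not at hno
          exact hmem (Finset.mem_filter.2 ⟨Finset.mem_univ _, hg1, hfixS g,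
            fun e he => by_contra fun hne => hno e hne he⟩)
        obtain ⟨b, hba, hb⟩ := this
        rw [if_neg hmem, Fintype.card_of_subtype {a, b} (fun x => by
          rw [Finset.mem_insert, Finset.mem_singleton, MulAction.mem_fixedBy]
          refine ⟨fun h => by rcases h with rfl | rfl; exacts [hfixS g, hb], fun hx => ?_⟩
          by_contra hne
          push Not at hne
          exact hg1 (h3 g a b x (Ne.symm hba) (Ne.symm hne.2) (Ne.symm hne.1) (hfixS g) hb hx))]
        rw [Finset.card_pair (Ne.symm hba)]
  have hcount : D.card + 2 = Fintype.card Ω := by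
    have hsum := Finset.sum_congr rfl (fun g (_ : g ∈ (Finset.univ : Finset S)) => hfix g)
    rw [Finset.sum_add_distrib, hburn, Finset.sum_add_distrib, Finset.sum_ite_eq',
      if_pos (Finset.mem_univ _), Finset.sum_boole, Finset.sum_const, Finset.card_univ,
      smul_eq_mul, Nat.cast_id] at hsum
    have hD' : (Finset.univ.filter (fun g : S => (g : G) ∈ D)).card = D.card := by
      refine Finset.card_bij (fun g _ => (g : G)) (fun g hg => (Finset.mem_filter.1 hg).2)
        (fun _ _ _ _ h => Subtype.ext h) fun g hg => ?_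
      exact ⟨⟨g, (Finset.mem_filter.1 hg).2.2.1⟩, Finset.mem_filter.2 ⟨Finset.mem_univ _, hg⟩, rfl⟩
    rw [hD', mul_comm] at hsum
    omega
  have hHD : Finset.univ.filter (fun g : G => g ∈ H ∧ g ≠ 1) = D := by
    refine Finset.eq_of_subset_of_card_le (fun g hg => ?_) ?_
    · obtain ⟨-, hgH, hg1⟩ := Finset.mem_filter.1 hg
      exact Finset.mem_filter.2 ⟨Finset.mem_univ _, hg1, hHa' g hgH, hHfix g hgH hg1⟩
    · have : Finset.univ.filter (fun g : G => g ∈ H ∧ g ≠ 1) =
          (Finset.univ.filter (fun g : G => g ∈ H)).erase 1 := by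
        ext g; simp [and_comm]
      have e : (Finset.univ.filter (fun g : G => g ∈ H)).card = Nat.card H := by
        rw [← Fintype.card_subtype, ← Nat.card_eq_fintype_card]
      rw [this, Finset.card_erase_of_mem (by simp), e]
      omega
  have hmem : ∀ g : G, g ≠ 1 → g • a = a → (∀ e : Ω, g • e = e → e = a) → g ∈ H := fun g h1 h2 h3 => by
    have : g ∈ D := Finset.mem_filter.2 ⟨Finset.mem_univ _, h1, h2, h3⟩
    rw [← hHD] at this
    exact (Finset.mem_filter.1 this).2.1
  refine le_antisymm (fun g hg => ?_) fun g hg => ?_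
  · by_contra hgS
    obtain ⟨u, hu, hu1⟩ : ∃ u ∈ H, u ≠ 1 := H.bot_or_exists_ne_one.resolve_left fun h => by
      rw [h, Subgroup.card_bot] at hHcard
      omega
    exact hu1 (hTI g hgS u hu ((Subgroup.mem_normalizer_iff.1 hg u).1 hu))
  · have hconj : ∀ k ∈ S, ∀ u ∈ H, k * u * k⁻¹ ∈ H := by
      intro k hk u hu
      by_cases hu1 : u = 1
      · simp [hu1]
      have hka : k • a = a := hk
      have hka' : k⁻¹ • a = a := by rw [inv_smul_eq_iff, hka]
      refine hmem _ (fun h => hu1 (conj_eq_one_iff.1 h)) ?_ fun e he => ?_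
      · rw [mul_smul, mul_smul, hka', hHa' u hu, hka]
      · rw [mul_smul, mul_smul, ← eq_inv_smul_iff] at he
        have := hHfix u hu hu1 _ he
        rwa [inv_smul_eq_iff, hka] at this
    rw [Subgroup.mem_normalizer_iff]
    refine fun u => ⟨hconj g hg u, fun hu => ?_⟩
    simpa [mul_assoc] using hconj g⁻¹ (inv_mem hg) _ hu

end Cfsg.Agent.S0878
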