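import Cfsg.Statements.S0879
import Cfsg.Prelude.Def_LieExceptional
import Mathlib

set_option autoImplicit false
set_option linter.style.haveILetI false
open Cfsg

namespace Cfsg.Agent.S0879

/-- Let G be a Zassenhaus group on the finite set Ω and E the stabilizer of two distinct points a, b. Then an element outside the normalizer of E conjugates no non-identity element of E into E, and E has index 2 in its normalizer. -/
theorem result {G Ω : Type*} [Group G] [Finite G] [MulAction G Ω] [Fintype Ω] (hZ : Cfsg.IsZassenhausGroup G Ω) {a b : Ω} (hab : a ≠ b) : (∀ g : G, g ∉ Subgroup.normalizer ((MulAction.stabilizer G a ⊓ MulAction.stabilizer G b : Subgroup G) : Set G) → ∀ x ∈ (MulAction.stabilizer G a ⊓ MulAction.stabilizer G b : Subgroup G), g * x * g⁻¹ ∈ (MulAction.stabilizer G a ⊓ MulAction.stabilizer G b : Subgroup G) → x = 1) ∧ ((MulAction.stabilizer G a ⊓ MulAction.stabilizer G b : Subgroup G).subgroupOf (Subgroup.normalizer ((MulAction.stabilizer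 G a ⊓ MulAction.stabilizer G b : Subgroup G) : Set G))).index = 2 := by
  classical
  obtain ⟨hfaith, h2, h3, ⟨g₀, hg₀, c, d, hcd, hc, hd⟩, -⟩ := hZ
  have h2' : ∀ {p q r t : Ω}, p ≠ q → r ≠ t → ∃ g : G, g • p = r ∧ g • q = t :=
    MulAction.is_two_pretransitive_iff.1 h2
  set E := MulAction.stabilizer G a ⊓ MulAction.stabilizer G b with hE
  have hmemE : ∀ g : G, g ∈ E ↔ g • a = a ∧ g • b = b := fun g => Iff.rfl
  have honly : ∀ x ∈ E, x ≠ 1 → ∀ e : Ω, x • e = e → e = a ∨ e = b := by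
    intro x hx hx1 e he
    by_contra hne
    push Not at hne
    exact hx1 (h3 x a b e hab (Ne.symm hne.2) (Ne.symm hne.1) hx.1 hx.2 he)
  obtain ⟨x₀, hx₀, hx₀1⟩ : ∃ x ∈ E, x ≠ 1 := by
    obtain ⟨g, hgc, hgd⟩ := h2' hcd hab
    refine ⟨g * g₀ * g⁻¹, ?_, fun h => hg₀ (conj_eq_one_iff.1 h)⟩
    rw [hmemE, ← hgc, ← hgd]
    simp [mul_smul, hc, hd]
  have hset : ∀ g : G, g ∉ Subgroup.normalizer (E : Set G) →
      ¬ ((g • a = a ∨ g • a = b) ∧ (g • b = a ∨ g • b = b)) := by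
    rintro g hg ⟨ha, hb⟩
    apply hg
    have hcases : (g • a = a ∧ g • b = b) ∨ (g • a = b ∧ g • b = a) := by
      rcases ha with ha | ha <;> rcases hb with hb | hb
      · exact absurd (smul_left_cancel g (ha.trans hb.symm)) hab
      · exact Or.inl ⟨ha, hb⟩
      · exact Or.inr ⟨ha, hb⟩
      · exact absurd (smul_left_cancel g (ha.trans hb.symm)) hab
    have key : ∀ k : G, ((k • a = a ∧ k • b = b) ∨ (k • a = b ∧ k • b = a)) →
        ∀ x ∈ E, k * x * k⁻¹ ∈ E := by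
      intro k hk x hx
      rcases hk with ⟨ka, kb⟩ | ⟨ka, kb⟩ <;> rw [hmemE] <;> constructor
      · conv_lhs => rw [← ka]
        rw [mul_smul, mul_smul, inv_smul_smul, hx.1, ka]
      · conv_lhs => rw [← kb]
        rw [mul_smul, mul_smul, inv_smul_smul, hx.2, kb]
      · conv_lhs => rw [← kb]
        rw [mul_smul, mul_smul, inv_smul_smul, hx.2, kb]
      · conv_lhs => rw [← ka]
        rw [mul_smul, mul_smul, inv_smul_smul, hx.1, ka]
    rw [Subgroup.mem_normalizer_iff]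
    refine fun x => ⟨key g hcases x, fun hx => ?_⟩
    have hinv : (g⁻¹ • a = a ∧ g⁻¹ • b = b) ∨ (g⁻¹ • a = b ∧ g⁻¹ • b = a) := by
      rcases hcases with ⟨ka, kb⟩ | ⟨ka, kb⟩
      · exact Or.inl ⟨inv_smul_eq_iff.2 ka.symm, inv_smul_eq_iff.2 kb.symm⟩
      · exact Or.inr ⟨inv_smul_eq_iff.2 kb.symm, inv_smul_eq_iff.2 ka.symm⟩
    simpa [mul_assoc] using key g⁻¹ hinv _ hx
  have hTI : ∀ g : G, g ∉ Subgroup.normalizer (E : Set G) → ∀ x ∈ E, g * x * g⁻¹ ∈ E → x = 1 := by
    intro g hg x hx hgx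
    by_contra hx1
    have hne : g * x * g⁻¹ ≠ 1 := fun h => hx1 (conj_eq_one_iff.1 h)
    refine hset g hg ⟨?_, ?_⟩
    · exact honly _ hgx hne _ (by rw [mul_smul, mul_smul, inv_smul_smul, hx.1])
    · exact honly _ hgx hne _ (by rw [mul_smul, mul_smul, inv_smul_smul, hx.2])
  refine ⟨hTI, ?_⟩
  have hnorm : ∀ g ∈ Subgroup.normalizer (E : Set G),
      (g • a = a ∧ g • b = b) ∨ (g • a = b ∧ g • b = a) := by
    intro g hg
    have hgx := (Subgroup.mem_normalizer_iff.1 hg x₀).1 hx₀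
    have hne : g * x₀ * g⁻¹ ≠ 1 := fun h => hx₀1 (conj_eq_one_iff.1 h)
    have ha := honly _ hgx hne (g • a) (by rw [mul_smul, mul_smul, inv_smul_smul, hx₀.1])
    have hb := honly _ hgx hne (g • b) (by rw [mul_smul, mul_smul, inv_smul_smul, hx₀.2])
    rcases ha with ha | ha <;> rcases hb with hb | hb
    · exact absurd (smul_left_cancel g (ha.trans hb.symm)) hab
    · exact Or.inl ⟨ha, hb⟩
    · exact Or.inr ⟨ha, hb⟩
    · exact absurd (smul_left_cancel g (ha.trans hb.symm)) hab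
  obtain ⟨t, hta, htb⟩ := h2' hab (Ne.symm hab)
  have htN : t ∈ Subgroup.normalizer (E : Set G) := by
    by_contra h
    exact hset t h ⟨Or.inr hta, Or.inl htb⟩
  rw [Subgroup.index_eq_two_iff]
  refine ⟨⟨t, htN⟩, fun g => ?_⟩
  simp only [Subgroup.mem_subgroupOf, Subgroup.coe_mul, hmemE, mul_smul, hta, htb]
  rcases hnorm (g : G) g.2 with ⟨ga, gb⟩ | ⟨ga, gb⟩ <;> simp [ga, gb, hab, Ne.symm hab, Xor']

end Cfsg.Agent.S0879
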