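import Cfsg.Statements.S0880
import Cfsg.Agent.Lib.Perm.ZassG.Counting

set_option autoImplicit false
open Cfsg

namespace Cfsg.Agent.S0880

/-- Let G be a finite simple Zassenhaus group on Ω with n points whose two-point stabilizer E has odd order less than n - 2. Then there are two elements of G, each fixing no point of Ω, that are not conjugate. -/
theorem result {G Ω : Type*} [Group G] [Finite G] [MulAction G Ω] [Fintype Ω] (hZ : Cfsg.IsZassenhausGroup G Ω) {a b : Ω} (hab : a ≠ b) [IsSimpleGroup G] (hodd : Odd (Nat.card ↥(MulAction.stabilizer G a ⊓ MulAction.stabilizer G b : Subgroup G))) (hlt : Nat.card ↥(MulAction.stabilizer G a ⊓ MulAction.stabilizer G b : Subgroup G) < Fintype.card Ω - 2) : ∃ x y : G, (∀ c : Ω, x • c ≠ c) ∧ (∀ c : Ω, y • c ≠ c) ∧ ¬ IsConj x y := by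
  classical
  have hI := CfsgLib.Perm.ZassG.inverted_of_simple hZ hab hodd
  have h2 : 2 ≤ Nat.card ↥(MulAction.stabilizer G a ⊓ MulAction.stabilizer G b : Subgroup G) :=
    (Subgroup.one_lt_card_iff_ne_bot _).2 (CfsgLib.Perm.ZassG.pairStab_ne_bot hZ hab)
  have hr := hI.card_fpfClasses hZ hab (by
    rw [Nat.card_eq_fintype_card (α := Ω)]
    show Nat.card ↥(MulAction.stabilizer G a ⊓ MulAction.stabilizer G b : Subgroup G) + 1 < Fintype.card Ω
    omega)
  obtain ⟨r, hr2⟩ := hodd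
  have := Fintype.ofFinite (CfsgLib.Perm.ZassG.fpfClasses G Ω)
  have h1 : 1 < Fintype.card (CfsgLib.Perm.ZassG.fpfClasses G Ω) := by
    rw [← Nat.card_eq_fintype_card]
    change Nat.card ↥(MulAction.stabilizer G a ⊓ MulAction.stabilizer G b : Subgroup G) + 1 ≤ _ at hr
    omega
  obtain ⟨⟨C, hC⟩, ⟨D, hD⟩, hne⟩ := Fintype.one_lt_card_iff.1 h1
  obtain ⟨x, rfl⟩ := ConjClasses.exists_rep C
  obtain ⟨y, rfl⟩ := ConjClasses.exists_rep D
  exact ⟨x, y, hC x rfl, hD y rfl, fun h => hne (Subtype.ext (ConjClasses.mk_eq_mk_iff_isConj.2 h))⟩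

end Cfsg.Agent.S0880
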