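import Cfsg.Statements.S0881
import Cfsg.Agent.Lib.Perm.ZassG.CharInd

set_option autoImplicit false
open Cfsg

namespace Cfsg.Agent.S0881

/-- Let G be a finite simple Zassenhaus group on Ω with n points, a ≠ b points with two-point stabilizer E of odd order less than n - 2, and let H be the subgroup of the stabilizer of a consisting of the identity and the elements fixing no point other than a (given here as a subgroup of the stabilizer of order one less than the number of points whose non-identity elements fix only a; it is the Frobenius kernel of the stabilizer). Let μ be a character of degree 1 of the stabilizer of a that is identically 1 on H but not identically 1. Then the function induced from μ to G is an irreducible character of G, and it takes the value 1 at every non-identity element of H. -/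
theorem result {G Ω : Type*} [Group G] [Fintype G] [MulAction G Ω] [Fintype Ω] (hZ : Cfsg.IsZassenhausGroup G Ω) {a b : Ω} (hab : a ≠ b) [IsSimpleGroup G] (hodd : Odd (Nat.card ↥(MulAction.stabilizer G a ⊓ MulAction.stabilizer G b : Subgroup G))) (hlt : Nat.card ↥(MulAction.stabilizer G a ⊓ MulAction.stabilizer G b : Subgroup G) < Fintype.card Ω - 2) (H : Subgroup G) (hHa : H ≤ MulAction.stabilizer G a) (hHcard : Nat.card H + 1 = Fintype.card Ω) (hHfix : ∀ u ∈ H, u ≠ 1 → ∀ c : Ω, u • c = c → c = a) (μ : MulAction.stabilizer G a → ℂ) (hμ : Cfsg.IsCharacter (MulAction.stabilizer G a) μ ∧ μ 1 = 1) (hμH : ∀ u : MulAction.stabilizer G a, (u : G) ∈ H → μ u = 1) (hμne : μ ≠ fun _ => 1) : Cfsg.IsIrrCharacter G (Cfsg.indFun (MulAction.stabilizer G a) μ) ∧ ∀ u ∈ H, u ≠ 1 → Cfsg.indFun (MulAction.stabilizer G a) μ u = 1 := by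
  classical
  obtain ⟨F, hF⟩ := CfsgLib.Perm.ZassG.exists_kernel hZ hab
  have hHF := CfsgLib.Perm.ZassG.eq_kernel hZ hab hF hHa (by rw [Nat.card_eq_fintype_card (α := Ω)]; exact hHcard) hHfix
  subst hHF
  have S : CfsgLib.Perm.ZassG.Setup a b H := ⟨hZ, hab, hF, CfsgLib.Perm.ZassG.inverted_of_simple hZ hab hodd⟩
  obtain ⟨m, rfl⟩ := CfsgLib.Chars.exists_hom_of_degree_one hμ.1 hμ.2
  set l := m.comp (Subgroup.inclusion S.pair_le) with hl
  have hext : (fun g => (m g : ℂ)) = S.ext l := by
    funext g
    obtain ⟨⟨u, x⟩, rfl⟩ := S.prodEquiv.surjective g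
    have hu : m (Subgroup.inclusion S.ker.le u) = 1 := Units.ext (hμH _ u.2)
    have he : S.prodEquiv (u, x) = Subgroup.inclusion S.ker.le u * Subgroup.inclusion S.pair_le x := Subtype.ext rfl
    show (m (S.prodEquiv (u, x)) : ℂ) = S.ext l _
    rw [CfsgLib.Perm.ZassG.Setup.ext, he, map_mul, map_mul, map_mul, hu, S.proj_kernel, map_one, S.proj_pair]
    rfl
  rw [hext] at hμne ⊢
  refine ⟨S.ind_isIrr l fun h => hμne ?_, fun u hu hu1 => ?_⟩
  · funext g
    simp [CfsgLib.Perm.ZassG.Setup.ext, h]
  · exact S.ind_kernel l ⟨u, hu⟩ fun e => hu1 (congrArg Subtype.val e)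

end Cfsg.Agent.S0881
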