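import Cfsg.Statements.S0882
import Cfsg.Agent.Lib.Perm.ZassG.Counting

set_option autoImplicit false
open Cfsg

namespace Cfsg.Agent.S0882

/-- Let G be a finite simple Zassenhaus group on Ω with n = h + 1 points whose two-point stabilizer E has odd order e with 2e < h - 1. Then any two involutions of G are conjugate, and the number of involutions is e * (h + 1) if h is even and e * h if h is odd. -/
theorem result {G Ω : Type*} [Group G] [Finite G] [MulAction G Ω] [Fintype Ω] (hZ : Cfsg.IsZassenhausGroup G Ω) {a b : Ω} (hab : a ≠ b) [IsSimpleGroup G] (h e : ℕ) (hh : Fintype.card Ω = h + 1) (he : Nat.card ↥(MulAction.stabilizer G a ⊓ MulAction.stabilizer G b : Subgroup G) = e) (hodd : Odd e) (hlt : 2 * e < h - 1) : (∀ x y : G, orderOf x = 2 → orderOf y = 2 → IsConj x y) ∧ Nat.card {x : G // orderOf x = 2} = (if Even h then e * (h + 1) else e * h) := by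
  classical
  have hI := CfsgLib.Perm.ZassG.inverted_of_simple hZ hab (he ▸ hodd)
  have hiff : ∀ x : G, orderOf x = 2 ↔ x ≠ 1 ∧ x * x = 1 := by
    intro x
    rw [orderOf_eq_iff (by omega)]
    refine ⟨fun ⟨h2, h1⟩ => ⟨by simpa using h1 1 (by omega) (by omega), by rwa [← pow_two]⟩, fun ⟨h1, h2⟩ =>
      ⟨by rwa [pow_two], fun m hm hm0 => ?_⟩⟩
    obtain rfl : m = 1 := by omega
    simpa using h1
  refine ⟨fun x y hx hy => hI.invol_conj hZ hab ⟨x, (hiff x).1 hx⟩ ⟨y, (hiff y).1 hy⟩, ?_⟩
  rw [Nat.card_congr (Equiv.subtypeEquivRight hiff)]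
  have hc := hI.card_invol hZ hab
  rw [Nat.card_eq_fintype_card (α := Ω), hh, Nat.add_sub_cancel] at hc
  rw [show Nat.card ↥(CfsgLib.Perm.ZassG.pairStab G a b) = e from he] at hc
  rw [hc, mul_ite]
  by_cases hev : Even h
  · rw [if_pos hev, if_pos (by rw [Nat.odd_add_one, Nat.not_odd_iff_even]; exact hev)]
  · rw [if_neg hev, if_neg (by rw [Nat.odd_add_one, Nat.not_odd_iff_even]; exact hev)]

end Cfsg.Agent.S0882
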