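import Cfsg.Statements.S0884
import Cfsg.Agent.Lib.Perm.ZassG.Counting

set_option autoImplicit false
open Cfsg

namespace Cfsg.Agent.S0884

/-- Let G be a finite simple Zassenhaus group on Ω with h + 1 points whose two-point stabilizer E has odd order e with 2e < h - 1, and let H be the subgroup of the stabilizer of a consisting of the identity and the elements fixing no point other than a (given here as a subgroup of the stabilizer of order one less than the number of points whose non-identity elements fix only a; it is the Frobenius kernel of the stabilizer). Then at least e conjugacy classes of G contain no element of H. -/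
theorem result {G Ω : Type*} [Group G] [Finite G] [MulAction G Ω] [Fintype Ω] (hZ : Cfsg.IsZassenhausGroup G Ω) {a b : Ω} (hab : a ≠ b) [IsSimpleGroup G] (h e : ℕ) (hh : Fintype.card Ω = h + 1) (he : Nat.card ↥(MulAction.stabilizer G a ⊓ MulAction.stabilizer G b : Subgroup G) = e) (hodd : Odd e) (hlt : 2 * e < h - 1) (H : Subgroup G) (hHa : H ≤ MulAction.stabilizer G a) (hHcard : Nat.card H + 1 = Fintype.card Ω) (hHfix : ∀ u ∈ H, u ≠ 1 → ∀ c : Ω, u • c = c → c = a) : e ≤ Nat.card {C : ConjClasses G // ∀ g : G, ConjClasses.mk g = C → g ∉ H} := by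
  classical
  have := Fintype.ofFinite G
  have hI := CfsgLib.Perm.ZassG.inverted_of_simple hZ hab (he ▸ hodd)
  have hr := hI.card_fpfClasses hZ hab (by
    rw [Nat.card_eq_fintype_card (α := Ω)]
    show Nat.card ↥(MulAction.stabilizer G a ⊓ MulAction.stabilizer G b : Subgroup G) + 1 < Fintype.card Ω
    omega)
  rw [show Nat.card ↥(CfsgLib.Perm.ZassG.pairStab G a b) = e from he] at hr
  let T : Finset (ConjClasses G) := Finset.univ.filter fun C => ∀ g : G, ConjClasses.mk g = C → ∀ c : Ω, g • c ≠ c
  let E' : Finset G := Finset.univ.filter fun g => g ∈ CfsgLib.Perm.ZassG.pairStab G a b ∧ g ≠ 1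
  let S : Finset (ConjClasses G) := E'.image ConjClasses.mk
  rw [show Nat.card (CfsgLib.Perm.ZassG.fpfClasses G Ω) = T.card by
    rw [Nat.card_eq_fintype_card, Fintype.card_subtype]] at hr
  have hE : e = E'.card + 1 := by
    rw [← he, Nat.card_eq_fintype_card, Fintype.card_subtype, ← Finset.card_erase_add_one (s := Finset.univ.filter _)
      (a := (1 : G)) (Finset.mem_filter.2 ⟨Finset.mem_univ _, one_mem _⟩)]
    congr 2
    ext g
    simp [E', and_comm]
  have hS : E'.card ≤ 2 * S.card := by
    refine Finset.card_le_mul_card_image _ 2 fun C hC => ?_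
    obtain ⟨g, hg, rfl⟩ := Finset.mem_image.1 hC
    refine (Finset.card_le_card (t := {g, g⁻¹}) fun g' hg' => ?_).trans Finset.card_le_two
    obtain ⟨hg'1, hg'2⟩ := Finset.mem_filter.1 hg'
    rcases hI.eq_of_isConj hZ hab (Finset.mem_filter.1 hg).2.1 (Finset.mem_filter.1 hg).2.2
      (Finset.mem_filter.1 hg'1).2.1 (ConjClasses.mk_eq_mk_iff_isConj.1 hg'2.symm) with h | h <;> simp [h]
  have hdisj : Disjoint T S := Finset.disjoint_left.2 fun C hC hC' => by
    obtain ⟨g, hg, rfl⟩ := Finset.mem_image.1 hC'
    exact (Finset.mem_filter.1 hC).2 g rfl a (Finset.mem_filter.1 hg).2.1.1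
  refine le_trans ?_ (le_of_le_of_eq (Finset.card_le_card (s := T ∪ S)
    (t := Finset.univ.filter fun C => ∀ g : G, ConjClasses.mk g = C → g ∉ H) fun C hC => ?_)
    (by rw [Nat.card_eq_fintype_card, Fintype.card_subtype]))
  · rw [Finset.card_union_of_disjoint hdisj]
    obtain ⟨j, hj⟩ := hodd
    omega
  · refine Finset.mem_filter.2 ⟨Finset.mem_univ _, fun g hg hgH => ?_⟩
    rcases Finset.mem_union.1 hC with h | h
    · exact (Finset.mem_filter.1 h).2 g hg a (hHa hgH)
    · obtain ⟨x, hx, rfl⟩ := Finset.mem_image.1 h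
      obtain ⟨hxE, hx1⟩ := (Finset.mem_filter.1 hx).2
      obtain ⟨k, hk⟩ := isConj_iff.1 (ConjClasses.mk_eq_mk_iff_isConj.1 hg.symm)
      have hg1 : g ≠ 1 := fun h => hx1 (conj_eq_one_iff.1 (hk.trans h))
      have key : ∀ c, x • c = c → k • c = a := fun c hc => hHfix g hgH hg1 _ (by
        rw [← hk, mul_smul, mul_smul, inv_smul_smul, hc])
      exact hab (smul_left_cancel k ((key a hxE.1).trans (key b hxE.2).symm))

end Cfsg.Agent.S0884
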