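import Cfsg.Statements.S0893
import Cfsg.Agent.Lib.CharsMore.ExtraspecialChars
import Cfsg.Agent.Lib.Chars.Induction
import Cfsg.Agent.Lib.Chars.Char
import Mathlib

set_option autoImplicit false
set_option linter.style.haveILetI false
open Cfsg

namespace Cfsg.Agent.S0893

open CfsgLib CfsgLib.CharsMore


/-- Let P be an extraspecial p-group of order p ^ (2 * n + 1), A an abelian subgroup of order p ^ (n + 1), and λ a character of A of degree 1 that is not identically 1 on the elements of A lying in the centre of P. Then the function induced from λ to P is an irreducible character of P and vanishes at every element outside the centre. -/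
theorem result {P : Type*} [Group P] [Fintype P] (p n : ℕ) [Fact p.Prime] (hP : Cfsg.IsExtraspecial p P) (hcard : Nat.card P = p ^ (2 * n + 1)) (A : Subgroup P) (hab : ∀ a ∈ A, ∀ b ∈ A, a * b = b * a) (hA : Nat.card A = p ^ (n + 1)) (lam : A → ℂ) (hlam : Cfsg.IsCharacter A lam ∧ lam 1 = 1) (hZ : ∃ a : A, (a : P) ∈ Subgroup.center P ∧ lam a ≠ 1) : Cfsg.IsIrrCharacter P (Cfsg.indFun A lam) ∧ ∀ x : P, x ∉ Subgroup.center P → Cfsg.indFun A lam x = 0 := by
  classical
  obtain ⟨l, hl⟩ := Chars.exists_hom_of_degree_one hlam.1 hlam.2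
  have hZA : Subgroup.center P ≤ A := by
    have h1 : A ⊔ Subgroup.center P ≤ Subgroup.centralizer (A : Set P) :=
      sup_le (fun a ha b hb => hab b hb a ha) (Subgroup.center_le_centralizer _)
    have h2 : A ⊔ Subgroup.center P ≤
        Subgroup.centralizer ((A ⊔ Subgroup.center P : Subgroup P) : Set P) :=
      sup_le (Subgroup.le_centralizer_iff.1 h1) (Subgroup.center_le_centralizer _)
    have h3 := PGroups.Extraspecial.card_le_of_abelian hP h2 hcard
    exact le_sup_right.trans_eq (Subgroup.eq_of_le_of_card_ge le_sup_left (h3.trans hA.ge)).symm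
  haveI hAn : A.Normal := PGroups.Extraspecial.normal_of_center_le hP hZA
  set f := Cfsg.indFun A lam with hf
  let w : P → ℂ := fun z => if h : z ∈ A then lam ⟨z, h⟩ else 0
  have hw : ∀ z ∈ Subgroup.center P, ∀ x, f (z * x) = w z * f x := by
    intro z hz x
    simp only [hf, w, dif_pos (hZA hz), Chars.indFun_apply, ← mul_assoc]
    rw [mul_comm (lam ⟨z, hZA hz⟩) _, mul_assoc, Finset.mul_sum Finset.univ _ (lam ⟨z, hZA hz⟩)]
    refine congrArg _ (Finset.sum_congr rfl fun y _ => ?_)
    have e : y⁻¹ * z * x * y = z * (y⁻¹ * x * y) := by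
      rw [Subgroup.mem_center_iff.1 hz y⁻¹]; group
    rw [e]
    by_cases hm : y⁻¹ * x * y ∈ A
    · rw [Chars.extendByZero_of_mem A lam hm, Chars.extendByZero_of_mem A lam (A.mul_mem (hZA hz) hm),
        hl]
      show (l _ : ℂ) = l ⟨z, hZA hz⟩ * l _
      rw [← Units.val_mul, ← map_mul]
      rfl
    · rw [Chars.extendByZero_of_not_mem A lam hm, Chars.extendByZero_of_not_mem A lam
        (fun h => hm ((A.mul_mem_cancel_left (hZA hz)).1 h)), mul_zero]
  have hw1 : ∀ z ∈ Subgroup.center P, z ≠ 1 → w z ≠ 1 := by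
    intro z hz hz1 e
    refine extraspecial_center_ne hP (l.comp (Subgroup.inclusion hZA)) (fun h => ?_)
      (z := ⟨z, hz⟩) (fun h => hz1 (congrArg Subtype.val h)) ?_
    · obtain ⟨a, ha, hne⟩ := hZ
      refine hne ?_
      rw [hl]
      have := congrArg Units.val (DFunLike.congr_fun h ⟨a, ha⟩)
      exact this
    · refine Units.ext ?_
      simp only [w, dif_pos (hZA hz), hl] at e
      exact e
  have hvan : ∀ x : P, x ∉ Subgroup.center P → f x = 0 := fun x hx =>
    extraspecial_vanish hP (Chars.isClassFunction_indFun A lam) w hw hw1 hx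
  refine ⟨Chars.isIrrCharacter_iff_inner_self.2 ⟨Chars.isCharacter_indFun A hlam.1, ?_⟩, hvan⟩
  have hidx : A.index = p ^ n := by
    have h := A.card_mul_index
    rw [hA, hcard, show 2 * n + 1 = (n + 1) + n by omega, pow_add p (n + 1) n] at h
    exact Nat.eq_of_mul_eq_mul_left (pow_pos (Fact.out : p.Prime).pos _) h
  have hval : ∀ z ∈ Subgroup.center P, f z * starRingEnd ℂ (f z) = ((p : ℂ) ^ n) ^ 2 := by
    intro z hz
    have h := hw z hz 1
    rw [mul_one, hf, Chars.indFun_one_apply, hlam.2, mul_one, hidx] at h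
    simp only [w, dif_pos (hZA hz)] at h
    have hn : ‖lam ⟨z, hZA hz⟩‖ = 1 := by
      rw [congrFun hl]
      refine Complex.norm_eq_one_of_pow_eq_one (n := Nat.card A) ?_ Nat.card_pos.ne'
      rw [← Units.val_pow_eq_pow_val, ← map_pow, pow_card_eq_one', map_one, Units.val_one]
    rw [hf, h, map_mul, map_natCast, mul_mul_mul_comm, Complex.mul_conj',
      hn, Complex.ofReal_one, one_pow, one_mul, sq, Nat.cast_pow]
  rw [Chars.inner_def, ← Finset.sum_subset
    (Finset.subset_univ (Finset.univ.filter (· ∈ Subgroup.center P)))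
    (fun x _ hx => by rw [hvan x (by simpa using hx), zero_mul]),
    Finset.sum_congr rfl (fun x hx => hval x (Finset.mem_filter.1 hx).2), Finset.sum_const,
    ← Fintype.card_subtype, ← Nat.card_eq_fintype_card, nsmul_eq_mul]
  change _ * ((Nat.card (Subgroup.center P) : ℂ) * _) = _
  rw [hP.2, hcard]
  have hp0 : (p : ℂ) ≠ 0 := Nat.cast_ne_zero.2 (Fact.out : p.Prime).ne_zero
  push_cast
  rw [← pow_mul, pow_succ' (p : ℂ) (2 * n), mul_comm n 2]
  exact inv_mul_cancel₀ (mul_ne_zero hp0 (pow_ne_zero _ hp0))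

end Cfsg.Agent.S0893
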