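import Cfsg.Statements.S0894
import Cfsg.Agent.Lib.CharsMore.ExtraspecialChars
import Cfsg.Agent.Lib.CharApps.Codegree
import Cfsg.Agent.Lib.PGroups.Extraspecial
import Mathlib

set_option autoImplicit false
set_option linter.style.haveILetI false
open Cfsg

namespace Cfsg.Agent.S0894

open CfsgLib CfsgLib.CharsMore


/-- Let P be an extraspecial p-group of order p ^ (2 * n + 1). Then every irreducible character of P has degree 1 or p ^ n, and exactly p - 1 of them have degree p ^ n. -/
theorem result {P : Type*} [Group P] [Finite P] (p n : ℕ) [Fact p.Prime] (hP : Cfsg.IsExtraspecial p P) (hcard : Nat.card P = p ^ (2 * n + 1)) : (∀ χ : Cfsg.IrrCharacter P, (χ : P → ℂ) 1 = 1 ∨ (χ : P → ℂ) 1 = (p : ℂ) ^ n) ∧ Nat.card {χ : Cfsg.IrrCharacter P // (χ : P → ℂ) 1 = (p : ℂ) ^ n} = p - 1 := by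
  classical
  haveI := Fintype.ofFinite P
  haveI := Chars.irrFintype P
  have hpp : p.Prime := Fact.out
  obtain ⟨m, hm1, hm⟩ := PGroups.Extraspecial.exists_card_eq hP
  have hn : 1 ≤ n := by
    have := Nat.pow_right_injective hpp.two_le (hm.symm.trans hcard)
    omega
  have hpn : p ^ n ≠ 1 := (Nat.one_lt_pow (by omega) hpp.one_lt).ne'
  have hcast : ∀ χ : Cfsg.IrrCharacter P,
      (χ : P → ℂ) 1 = (p : ℂ) ^ n ↔ Cfsg.charDegree (χ : P → ℂ) = p ^ n := fun χ => by
    rw [CharApps.deg_eq]; exact_mod_cast Iff.rfl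
  refine ⟨fun χ => ?_, ?_⟩
  · rcases extraspecial_degree hP hcard χ.2 with h | h
    · exact Or.inl (by rw [CharApps.deg_eq, h.1, Nat.cast_one])
    · exact Or.inr ((hcast χ).2 h.1)
  · rw [Nat.card_congr (Equiv.subtypeEquivRight hcast), Nat.card_eq_fintype_card, Fintype.card_subtype]
    set B := Finset.univ.filter (fun χ : Cfsg.IrrCharacter P => Cfsg.charDegree (χ : P → ℂ) = p ^ n)
    have hnot : Finset.univ.filter (fun χ : Cfsg.IrrCharacter P =>
        ¬ Cfsg.charDegree (χ : P → ℂ) = p ^ n) =
        Finset.univ.filter (fun χ => Subgroup.center P ≤ CharApps.charKer χ) := by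
      refine Finset.filter_congr fun χ _ => ?_
      rcases extraspecial_degree hP hcard χ.2 with h | h
      · exact iff_of_true (by rw [h.1]; exact hpn.symm) fun z hz => CharApps.mem_charKer.2 (h.2 z hz)
      · exact iff_of_false (not_not.2 h.1) fun hz => h.2 fun z hz' => CharApps.mem_charKer.1 (hz hz')
    have hidx : (Subgroup.center P).index = p ^ (2 * n) := by
      have h := (Subgroup.center P).card_mul_index
      rw [hP.2, hcard, pow_succ'] at h
      exact Nat.eq_of_mul_eq_mul_left hpp.pos h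
    have hall := CharApps.sum_degree_sq_nat (G := P)
    rw [← Finset.sum_filter_add_sum_filter_not Finset.univ
      (fun χ : Cfsg.IrrCharacter P => Cfsg.charDegree (χ : P → ℂ) = p ^ n), hnot,
      CharApps.sum_filter_degree_sq, hidx,
      Finset.sum_congr rfl (fun χ hχ => by rw [(Finset.mem_filter.1 hχ).2]), Finset.sum_const,
      smul_eq_mul, ← pow_mul, mul_comm n 2, hcard, pow_succ'] at hall
    have h4 : (B.card + 1) * p ^ (2 * n) = p * p ^ (2 * n) := by rw [add_mul, one_mul]; exact hall
    have := Nat.eq_of_mul_eq_mul_right (pow_pos hpp.pos _) h4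
    omega

end Cfsg.Agent.S0894
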