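import Cfsg.Statements.S0895
import Cfsg.Agent.Lib.Chars.Indicator
import Cfsg.Agent.Lib.CharApps.FrobeniusSchur
import Mathlib

set_option autoImplicit false
set_option linter.style.haveILetI false
open Cfsg

namespace Cfsg.Agent.S0895

open CfsgLib


/-- Let χ be a real-valued irreducible character of a finite group G whose degree is an odd natural number. Then the average over s in G of χ (s * s) equals 1. -/
theorem result {G : Type*} [Group G] [Fintype G] (χ : G → ℂ) (hχ : Cfsg.IsIrrCharacter G χ) (hreal : ∀ g : G, (χ g).im = 0) (d : ℕ) (hd : χ 1 = d) (hodd : Odd d) : (Nat.card G : ℂ)⁻¹ * ∑ s : G, χ (s * s) = 1 := by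
  obtain ⟨h3, h0⟩ := Chars.indicator_trichotomy hχ
  rcases h3 with h | h | h
  · obtain ⟨s, hs⟩ := h0.1 h
    exact absurd (hreal s) hs
  · exact h
  · exfalso
    obtain ⟨n, ρ, hρ, rfl⟩ := hχ
    haveI := hρ
    have hn : Odd n := by
      have h1 : ρ.character 1 = (n : ℂ) := by
        rw [Representation.char_one, Module.finrank_fin_fun]
      rw [h1] at hd
      exact (Nat.cast_injective hd) ▸ hodd
    have hG : (Nat.card G : ℂ) ≠ 0 := Nat.cast_ne_zero.2 Nat.card_pos.ne'
    have hm : ∑ s : G, ρ.character (s * s) = -(Nat.card G : ℂ) := by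
      rw [inv_mul_eq_iff_eq_mul₀ hG] at h
      rw [h, mul_neg, mul_one]
    have hp : ∑ s : G, ρ.character s * ρ.character s = (Nat.card G : ℂ) := by
      have h1 := Chars.inner_self_irr ρ
      rw [Chars.inner_def, inv_mul_eq_iff_eq_mul₀ hG, mul_one] at h1
      rw [← h1]
      refine Finset.sum_congr rfl fun s _ => ?_
      rw [Complex.conj_eq_iff_im.2 (hreal s)]
    rw [CharApps.sum_char_sq_elem] at hm
    rw [CharApps.sum_char_char] at hp
    obtain ⟨i, j, hij⟩ : ∃ i j, CharApps.symAvg ρ (Matrix.single i j (1 : ℂ)) -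
        CharApps.symAvg ρ (Matrix.single j i (1 : ℂ)) ≠ 0 := by
      by_contra hcon
      push Not at hcon
      have he : ∑ i, ∑ k, CharApps.symAvg ρ (Matrix.single i k (1 : ℂ)) i k =
          ∑ i, ∑ j, CharApps.symAvg ρ (Matrix.single j i (1 : ℂ)) i j :=
        Finset.sum_congr rfl fun i _ => Finset.sum_congr rfl fun j _ => by
          rw [sub_eq_zero.1 (hcon i j)]
      rw [hm, hp] at he
      exact hG (by linear_combination he / 2)
    set A := CharApps.symAvg ρ (Matrix.single i j (1 : ℂ)) -
      CharApps.symAvg ρ (Matrix.single j i (1 : ℂ)) with hA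
    have hT : Matrix.transpose A = -A := by
      rw [hA, Matrix.transpose_sub, CharApps.symAvg_transpose, CharApps.symAvg_transpose,
        Matrix.transpose_single, Matrix.transpose_single, neg_sub]
    have hdet : A.det = 0 := by
      have h1 := congrArg Matrix.det hT
      rw [Matrix.det_transpose, Matrix.det_neg, Fintype.card_fin, hn.neg_one_pow] at h1
      linear_combination h1 / 2
    have hcomm : ∀ g : G, CharApps.repMat ρ g * A = A * Matrix.transpose (CharApps.repMat ρ g⁻¹) := by
      intro g
      rw [hA, Matrix.mul_sub, Matrix.sub_mul, CharApps.symAvg_comm, CharApps.symAvg_comm]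
    rcases ((Chars.isIrreducible_iff ρ).1 hρ).2 (LinearMap.range (Matrix.toLin' A))
      (by
        rintro g _ ⟨x, rfl⟩
        refine ⟨Matrix.toLin' (Matrix.transpose (CharApps.repMat ρ g⁻¹)) x, ?_⟩
        rw [← LinearMap.comp_apply, ← Matrix.toLin'_mul, ← hcomm, Matrix.toLin'_mul,
          LinearMap.comp_apply, CharApps.repMat, Matrix.toLin'_toMatrix']) with hb | ht
    · exact hij (Matrix.toLin'.injective ((LinearMap.range_eq_bot.1 hb).trans (map_zero _).symm))
    · have hu : IsUnit A := by
        rw [← Matrix.mulVec_surjective_iff_isUnit]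
        exact LinearMap.range_eq_top.1 ht
      rw [Matrix.isUnit_iff_isUnit_det, hdet] at hu
      exact not_isUnit_zero hu

end Cfsg.Agent.S0895
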