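import Cfsg.Statements.S0900
import Cfsg.Agent.Lib.CharsMore.Gallagher
import Mathlib

set_option autoImplicit false
set_option linter.style.haveILetI false
open Cfsg

namespace Cfsg.Agent.S0900

/-- Let N be a normal subgroup of the finite group G, χ an irreducible character of G and ϑ an irreducible character of N having nonzero inner product with the restriction of χ. Consider: (a) the restriction of χ to N is e • ϑ for a natural number e with e ^ 2 equal to the index of N; (b) χ vanishes outside N and ϑ is invariant under conjugation by G; (c) ϑ is invariant and every irreducible character of G having nonzero inner product with the function induced from ϑ equals χ. Then (a) ↔ (b) and (a) ↔ (c). -/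
theorem result {G : Type*} [Group G] [Fintype G] (N : Subgroup G) [hN : N.Normal] [Fintype N] (χ : G → ℂ) (hχ : Cfsg.IsIrrCharacter G χ) (ϑ : N → ℂ) (hϑ : Cfsg.IsIrrCharacter N ϑ) (hcon : Cfsg.classInner (fun n : N => χ n) ϑ ≠ 0) : ((∃ e : ℕ, (fun n : N => χ n) = (e : ℂ) • ϑ ∧ e ^ 2 = N.index) ↔ ((∀ g : G, g ∉ N → χ g = 0) ∧ ∀ (g : G) (n : N), ϑ ⟨g * n * g⁻¹, hN.conj_mem (n : G) n.2 g⟩ = ϑ n)) ∧ ((∃ e : ℕ, (fun n : N => χ n) = (e : ℂ) • ϑ ∧ e ^ 2 = N.index) ↔ (∀ (g : G) (n : N), ϑ ⟨g * n * g⁻¹, hN.conj_mem (n : G) n.2 g⟩ = ϑ n ∧ ∀ ψ : G → ℂ, Cfsg.IsIrrCharacter G ψ → Cfsg.classInner (Cfsg.indFun N ϑ) ψ ≠ 0 → ψ = χ)) := by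
  classical
  letI := CfsgLib.Chars.irrFintype G
  have hχc := CfsgLib.Chars.isCharacter_of_irr hχ
  have hϑc := CfsgLib.Chars.isCharacter_of_irr hϑ
  have hcl := CfsgLib.Chars.isClassFunction_of_isCharacter hχc
  set m := CfsgLib.CharsMore.multNat (fun n : N => χ n) ϑ with hm
  have hme : Cfsg.classInner (fun n : N => χ n) ϑ = (m : ℂ) :=
    CfsgLib.CharsMore.inner_eq_multNat (CfsgLib.Chars.isCharacter_restrict N hχc) hϑc
  have hm0 : m ≠ 0 := fun h => hcon (by rw [hme, h, Nat.cast_zero])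
  have hres : (∀ (g : G) (n : N), ϑ ⟨g * n * g⁻¹, hN.conj_mem (n : G) n.2 g⟩ = ϑ n) →
      ∀ n : N, χ n = (m : ℂ) * ϑ n := fun hinv n => by
    rw [← hme]
    exact CfsgLib.CharsMore.restrict_eq_mul_of_invariant N hχ hϑ hinv hcon n
  -- the norm of the restriction
  have hnorm : (∀ n : N, χ n = (m : ℂ) * ϑ n) →
      ((∀ g : G, g ∉ N → χ g = 0) ↔ m ^ 2 = N.index) := by
    intro hr
    have h1 := CfsgLib.Chars.inner_irr_self (⟨χ, hχ⟩ : Cfsg.IrrCharacter G)
    have h2 : Cfsg.classInner (fun n : N => χ n) (fun n : N => χ n) = (m : ℂ) * m := by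
      rw [show (fun n : N => χ n) = (m : ℂ) • ϑ from funext hr, CfsgLib.Chars.inner_smul_left,
        CfsgLib.Chars.inner_smul_right, map_natCast, CfsgLib.Chars.inner_irr_self ⟨ϑ, hϑ⟩, mul_one]
    rw [CfsgLib.Chars.inner_self_eq] at h1 h2
    norm_cast at h1 h2
    rw [inv_mul_eq_iff_eq_mul₀ (Nat.cast_ne_zero.2 Nat.card_pos.ne')] at h1 h2
    push_cast at h1 h2
    rw [mul_one] at h1
    have hsplit : ∑ g : G, ‖χ g‖ ^ 2 = ∑ n : N, ‖χ (n : G)‖ ^ 2 +
        ∑ g ∈ Finset.univ.filter (fun g : G => g ∉ N), ‖χ g‖ ^ 2 := by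
      rw [← Finset.sum_filter_add_sum_filter_not Finset.univ (fun g : G => g ∈ N)]
      congr 1
      exact Finset.sum_subtype _ (fun g => by simp) (fun g => ‖χ g‖ ^ 2)
    rw [h1, h2] at hsplit
    have hidx : (Nat.card G : ℝ) = N.index * Nat.card N := by exact_mod_cast N.index_mul_card.symm
    have hN0 : (Nat.card N : ℝ) ≠ 0 := Nat.cast_ne_zero.2 Nat.card_pos.ne'
    have hiff : (∑ g ∈ Finset.univ.filter (fun g : G => g ∉ N), ‖χ g‖ ^ 2 = 0) ↔
        ∀ g : G, g ∉ N → χ g = 0 := by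
      rw [Finset.sum_eq_zero_iff_of_nonneg fun g _ => sq_nonneg _]
      simp
    rw [← hiff]
    constructor
    · intro h
      rw [h, add_zero, hidx, mul_comm] at hsplit
      have := mul_left_cancel₀ hN0 hsplit
      have h' : N.index = m * m := by exact_mod_cast this
      rw [sq, h']
    · intro h
      have h' : (m : ℝ) * m = N.index := by rw [← sq]; exact_mod_cast h
      rw [hidx, h'] at hsplit
      linarith [hsplit]
  have ha : (∃ e : ℕ, (fun n : N => χ n) = (e : ℂ) • ϑ ∧ e ^ 2 = N.index) ↔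
      ((∀ (g : G) (n : N), ϑ ⟨g * n * g⁻¹, hN.conj_mem (n : G) n.2 g⟩ = ϑ n) ∧ m ^ 2 = N.index) := by
    constructor
    · rintro ⟨e, he, he2⟩
      have hem : e = m := by
        have := hme
        rw [he, CfsgLib.Chars.inner_smul_left, CfsgLib.Chars.inner_irr_self ⟨ϑ, hϑ⟩, mul_one] at this
        exact_mod_cast this
      subst hem
      refine ⟨fun g n => mul_left_cancel₀ (Nat.cast_ne_zero.2 hm0 : (m : ℂ) ≠ 0) ?_, he2⟩
      have e1 := congrFun he ⟨g * n * g⁻¹, hN.conj_mem (n : G) n.2 g⟩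
      have e2 := congrFun he n
      simp only [Pi.smul_apply, smul_eq_mul] at e1 e2
      rw [← e1, ← e2]
      exact hcl (n : G) g
    · rintro ⟨hinv, h2⟩
      exact ⟨m, funext (hres hinv), h2⟩
  refine ⟨ha.trans ⟨fun ⟨hinv, h2⟩ => ⟨(hnorm (hres hinv)).2 h2, hinv⟩,
    fun ⟨h0, hinv⟩ => ⟨hinv, (hnorm (hres hinv)).1 h0⟩⟩, ha.trans ?_⟩
  have hindc := CfsgLib.Chars.isCharacter_indFun N hϑc
  have hcx : Cfsg.classInner (Cfsg.indFun N ϑ) χ = (m : ℂ) := by
    rw [CfsgLib.Chars.inner_indFun N ϑ hcl,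
      CfsgLib.CharsMore.conj_inner (CfsgLib.Chars.isCharacter_restrict N hχc) hϑc, hme]
  constructor
  · rintro ⟨hinv, h2⟩ g n
    refine ⟨hinv g n, fun ψ hψ hψ0 => ?_⟩
    have hself := CfsgLib.CharsMore.inner_indFun_self_of_invariant N hϑ (fun g => funext (hinv g))
    have hz : Cfsg.indFun N ϑ - (m : ℂ) • χ = 0 := by
      rw [← CfsgLib.Chars.inner_self_eq_zero_iff]
      have hxc : Cfsg.classInner χ (Cfsg.indFun N ϑ) = (m : ℂ) := by
        rw [← CfsgLib.Chars.inner_conj, hcx, map_natCast]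
      rw [CfsgLib.Chars.inner_sub_left, CfsgLib.Chars.inner_sub_right,
        CfsgLib.Chars.inner_sub_right, CfsgLib.Chars.inner_smul_left,
        CfsgLib.Chars.inner_smul_left, CfsgLib.Chars.inner_smul_right,
        CfsgLib.Chars.inner_smul_right, hself, hcx, hxc,
        CfsgLib.Chars.inner_irr_self ⟨χ, hχ⟩, map_natCast, ← h2]
      push_cast
      ring
    rw [sub_eq_zero.1 hz, CfsgLib.Chars.inner_smul_left,
      CfsgLib.Chars.inner_irr_of_isIrr hχ hψ] at hψ0
    by_contra hne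
    rw [if_neg (Ne.symm hne), mul_zero] at hψ0
    exact hψ0 rfl
  · intro hc
    have hinv : ∀ (g : G) (n : N), ϑ ⟨g * n * g⁻¹, hN.conj_mem (n : G) n.2 g⟩ = ϑ n :=
      fun g n => (hc g n).1
    refine ⟨hinv, ?_⟩
    have hself := CfsgLib.CharsMore.inner_indFun_self_of_invariant N hϑ (fun g => funext (hinv g))
    have hd : Cfsg.indFun N ϑ = (m : ℂ) • χ := by
      rw [← hcx]
      conv_lhs => rw [CfsgLib.Chars.classFun_eq_sum (CfsgLib.Chars.isClassFunction_of_isCharacter hindc)]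
      refine Finset.sum_eq_single (⟨χ, hχ⟩ : Cfsg.IrrCharacter G) (fun ψ _ hne => ?_) (by simp)
      by_cases h : Cfsg.classInner (Cfsg.indFun N ϑ) (ψ : G → ℂ) = 0
      · simp [h]
      · exact absurd (Subtype.ext ((hc 1 1).2 ψ ψ.2 h)) hne
    rw [hd, CfsgLib.Chars.inner_smul_left, CfsgLib.Chars.inner_smul_right, map_natCast,
      CfsgLib.Chars.inner_irr_self ⟨χ, hχ⟩, mul_one] at hself
    rw [sq]
    exact_mod_cast hself

end Cfsg.Agent.S0900
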