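import Cfsg.Statements.S0901
import Cfsg.Agent.Lib.Blocks.LocalRing

set_option autoImplicit false
open Cfsg

set_option linter.style.haveILetI false

namespace Cfsg.Agent.S0901

/-- Let M be a maximal ideal of the ring of algebraic integers containing the prime p, and let U be the set of complex roots of unity of order prime to p. Then reduction modulo M is injective on U, and every algebraic integer not in M is congruent modulo M to an element of U (so U maps bijectively onto the nonzero residues). -/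
theorem result (p : ℕ) [Fact p.Prime] (M : Ideal Cfsg.AlgInt) (hM : Cfsg.IsPModular p M) : (∀ ε₁ ε₂ : Cfsg.AlgInt, (∃ m : ℕ, ¬ p ∣ m ∧ (ε₁ : ℂ) ^ m = 1) → (∃ m : ℕ, ¬ p ∣ m ∧ (ε₂ : ℂ) ^ m = 1) → ε₁ - ε₂ ∈ M → ε₁ = ε₂) ∧ (∀ a : Cfsg.AlgInt, a ∉ M → ∃ ε : Cfsg.AlgInt, (∃ m : ℕ, ¬ p ∣ m ∧ (ε : ℂ) ^ m = 1) ∧ a - ε ∈ M) := by
  classical
  haveI : M.IsPrime := hM.2.1.isPrime
  have hp : p.Prime := hM.1
  have hpM : (p : AlgInt) ∈ M := hM.2.2
  have coe_eq : ∀ (ε : AlgInt) (m : ℕ), (ε : ℂ) ^ m = 1 → ε ^ m = 1 := fun ε m h =>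
    Subtype.ext (by push_cast; exact h)
  constructor
  · rintro ε₁ ε₂ ⟨m₁, hm₁, h₁⟩ ⟨m₂, hm₂, h₂⟩ hmem
    obtain ⟨m, hmdef⟩ : ∃ m, m = m₁ * m₂ := ⟨_, rfl⟩
    have hm : ¬ p ∣ m := fun h => (hp.dvd_mul.1 (hmdef ▸ h)).elim hm₁ hm₂
    have hm0 : m ≠ 0 := fun h => hm (h ▸ dvd_zero p)
    have e₁ : ε₁ ^ m = 1 := by rw [hmdef, pow_mul, coe_eq _ _ h₁, one_pow]
    have e₂ : ε₂ ^ m = 1 := by rw [hmdef, mul_comm m₁ m₂, pow_mul, coe_eq _ _ h₂, one_pow]
    set z := ε₁ * ε₂ ^ (m - 1) with hz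
    have hinv : ε₂ ^ (m - 1) * ε₂ = 1 := by
      rw [← pow_succ, Nat.sub_add_cancel (Nat.one_le_iff_ne_zero.2 hm0), e₂]
    have hzm : z ^ m = 1 := by rw [hz, mul_pow, e₁, one_mul, pow_right_comm, e₂, one_pow]
    have hz1 : z - 1 ∈ M := by
      have : z - 1 = ε₂ ^ (m - 1) * (ε₁ - ε₂) := by rw [mul_sub, hinv, hz]; ring
      rw [this]
      exact M.mul_mem_left _ hmem
    by_cases h : z = 1
    · calc ε₁ = ε₁ * (ε₂ ^ (m - 1) * ε₂) := by rw [hinv, mul_one]
        _ = z * ε₂ := by rw [hz]; ring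
        _ = ε₂ := by rw [h, one_mul]
    · exfalso
      have hsum : ∑ i ∈ Finset.range m, z ^ i = 0 := by
        have h2 := geom_sum_mul z m
        rw [hzm, sub_self] at h2
        exact (mul_eq_zero.1 h2).resolve_right (sub_ne_zero.2 h)
      refine hm ((CfsgLib.Blocks.natCast_mem_iff hp hpM m).1 ?_)
      have : ((m : ℕ) : AlgInt) = -(∑ i ∈ Finset.range m, (z ^ i - 1)) := by
        rw [Finset.sum_sub_distrib, hsum, Finset.sum_const, Finset.card_range, nsmul_eq_mul,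
          mul_one, zero_sub, neg_neg]
      rw [this]
      refine M.neg_mem (M.sum_mem fun i _ => ?_)
      rw [← geom_sum_mul z i]
      exact M.mul_mem_left _ hz1
  · intro a ha
    let q := Ideal.Quotient.mk M
    have hchar : (p : AlgInt ⧸ M) = 0 := by
      rw [← map_natCast q]; exact Ideal.Quotient.eq_zero_iff_mem.2 hpM
    haveI : CharP (AlgInt ⧸ M) p := by
      refine ⟨fun n => ?_⟩
      rw [← map_natCast q, Ideal.Quotient.eq_zero_iff_mem]
      exact CfsgLib.Blocks.natCast_mem_iff hp hpM n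
    set x := q a with hx
    have hx0 : x ≠ 0 := fun h => ha (Ideal.Quotient.eq_zero_iff_mem.1 h)
    have hint : IsIntegral ℤ a := Algebra.IsIntegral.isIntegral a
    set P := minpoly ℤ a
    have hfin : (Set.range fun n : ℕ => x ^ n).Finite := by
      let F : (Fin (P.natDegree + 1) → ZMod p) → AlgInt ⧸ M :=
        fun c => ∑ i, (ZMod.castHom dvd_rfl (AlgInt ⧸ M) (c i)) * x ^ (i : ℕ)
      refine (Set.finite_range F).subset ?_
      rintro _ ⟨n, rfl⟩
      set R := (Polynomial.X ^ n : Polynomial ℤ) %ₘ P with hR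
      refine ⟨fun i => (R.coeff (i : ℕ) : ZMod p), ?_⟩
      have hmonic : P.Monic := minpoly.monic hint
      have h1 : Polynomial.aeval a R = a ^ n := by
        rw [hR, Polynomial.aeval_modByMonic_eq_self_of_root (minpoly.aeval ℤ a)]
        simp
      have hdeg : R.natDegree < P.natDegree + 1 :=
        Nat.lt_succ_of_le (Polynomial.natDegree_modByMonic_le _ hmonic)
      show ∑ i : Fin (P.natDegree + 1), ZMod.castHom dvd_rfl (AlgInt ⧸ M) ((R.coeff (i : ℕ) : ZMod p)) *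
        x ^ (i : ℕ) = x ^ n
      rw [hx, ← map_pow q a n, ← h1, Polynomial.aeval_eq_sum_range' hdeg, map_sum,
        ← Fin.sum_univ_eq_sum_range]
      refine Finset.sum_congr rfl fun i _ => ?_
      simp [zsmul_eq_mul]
    obtain ⟨i, j, hij, he⟩ : ∃ i j : ℕ, i < j ∧ x ^ i = x ^ j := by
      have := Set.Finite.exists_lt_map_eq_of_forall_mem (f := fun n : ℕ => x ^ n)
        (fun n => Set.mem_range_self n) hfin
      obtain ⟨i, j, hij, he⟩ := this
      exact ⟨i, j, hij, he⟩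
    have hd : ∃ d : ℕ, 0 < d ∧ x ^ d = 1 := by
      refine ⟨j - i, by omega, mul_left_cancel₀ (pow_ne_zero i hx0) ?_⟩
      rw [← pow_add, mul_one, Nat.add_sub_cancel' hij.le, he]
    obtain ⟨d, hd0, hxd⟩ := hd
    obtain ⟨k, m, hm, hdm⟩ := Nat.exists_eq_pow_mul_and_not_dvd (n := d) hd0.ne' p hp.ne_one
    have hxm : x ^ m = 1 := by
      have : Fact p.Prime := ⟨hp⟩
      apply iterateFrobenius_inj (AlgInt ⧸ M) p k
      rw [iterateFrobenius_def, iterateFrobenius_def, ← pow_mul, mul_comm, ← hdm, hxd, one_pow]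
    have hm0 : 0 < m := Nat.pos_of_ne_zero fun h => hm (h ▸ dvd_zero p)
    have hprim := Complex.isPrimitiveRoot_exp m hm0.ne'
    have hint' : IsIntegral ℤ (Complex.exp (2 * Real.pi * Complex.I / m)) :=
      IsIntegral.of_pow hm0 (by rw [hprim.pow_eq_one]; exact isIntegral_one)
    set ζ : AlgInt := ⟨_, hint'⟩
    have hζ : IsPrimitiveRoot ζ m :=
      IsPrimitiveRoot.of_map_of_injective (f := AlgInt.val) (by exact hprim) Subtype.val_injective
    have hprod : ∏ μ ∈ Polynomial.nthRootsFinset m (1 : AlgInt), (a - μ) ∈ M := by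
      have h1 := congrArg (Polynomial.eval a) (Polynomial.X_pow_sub_one_eq_prod hm0 hζ)
      simp only [Polynomial.eval_sub, Polynomial.eval_pow, Polynomial.eval_X, Polynomial.eval_one,
        Polynomial.eval_prod, Polynomial.eval_C] at h1
      rw [← h1, ← Ideal.Quotient.eq_zero_iff_mem]
      show q (a ^ m - 1) = 0
      rw [map_sub, map_pow, map_one, ← hx, hxm, sub_self]
    obtain ⟨μ, hμ, hμM⟩ := (Ideal.IsPrime.prod_mem_iff (p := M)).1 hprod
    refine ⟨μ, ⟨m, hm, ?_⟩, hμM⟩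
    have h1 := (Polynomial.mem_nthRootsFinset hm0 (1 : AlgInt)).1 hμ
    simpa using congrArg (fun z : AlgInt => (z : ℂ)) h1

end Cfsg.Agent.S0901
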