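import Cfsg.Statements.S0902
import Cfsg.Agent.Lib.Blocks.NormalPPrime
import Cfsg.Agent.Lib.BlockOrth.Height

set_option autoImplicit false
open Cfsg

set_option linter.style.haveILetI false

namespace Cfsg.Agent.S0902

/-- If two irreducible characters of a finite group lie in the same block relative to one maximal ideal M of the algebraic integers containing the prime p, then at every element the difference of their central characters is an algebraic integer lying in every maximal ideal containing p; in particular they lie in the same block relative to any such ideal. -/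
theorem result {G : Type*} [Group G] [Finite G] (p : ℕ) [Fact p.Prime] (M : Ideal Cfsg.AlgInt) (hM : Cfsg.IsPModular p M) (χ ψ : Cfsg.IrrCharacter G) (h : Cfsg.SameBlock M (χ : G → ℂ) (ψ : G → ℂ)) (M' : Ideal Cfsg.AlgInt) (hM' : Cfsg.IsPModular p M') (g : G) : ∃ r : Cfsg.AlgInt, r ∈ M' ∧ (r : ℂ) = Cfsg.centralChar (χ : G → ℂ) g - Cfsg.centralChar (ψ : G → ℂ) g := by
  classical
  haveI := Fintype.ofFinite G
  haveI := CfsgLib.Blocks.isPrime_of_isPModular hM
  haveI := CfsgLib.Blocks.isPrime_of_isPModular hM'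
  have hB := CfsgLib.Blocks.isPBlock_blockOf (M := M) χ
  obtain ⟨χ₀, hχ₀, h0⟩ := CfsgLib.BlockOrth.exists_degVal_eq_blockMin (p := p)
    (CfsgLib.Blocks.IsPBlock.nonempty hB)
  have key : ∀ φ ∈ Cfsg.blockOf M (χ : G → ℂ), Cfsg.SameBlock M' (χ₀ : G → ℂ) (φ : G → ℂ) := by
    intro φ hφ
    have hne : CfsgLib.BlockOrth.pInt p χ₀ φ ≠ 0 := fun h0' =>
      CfsgLib.BlockOrth.pInt_exact_of_height_zero hM.2.2 hB hχ₀ hφ h0 (by rw [h0']; exact dvd_zero _)
    by_contra hcon
    exact hne (CfsgLib.BlockOrth.pInt_eq_zero hM'.2.2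
      (CfsgLib.Blocks.isPBlock_blockOf (M := M') χ₀) (CfsgLib.Blocks.mem_blockOf_self χ₀) hcon)
  have h' : Cfsg.SameBlock M' (χ : G → ℂ) (ψ : G → ℂ) :=
    CfsgLib.Blocks.SameBlock.trans
      (CfsgLib.Blocks.SameBlock.symm (key χ (CfsgLib.Blocks.mem_blockOf_self χ))) (key ψ h)
  refine ⟨⟨_, (CfsgLib.Blocks.isIntegral_centralChar χ g).sub
    (CfsgLib.Blocks.isIntegral_centralChar ψ g)⟩, ?_, rfl⟩
  exact (CfsgLib.Blocks.memLocalIdeal_algInt_iff _).1 (h' g)

end Cfsg.Agent.S0902
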