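import Cfsg.Statements.S0903
import Cfsg.Agent.Lib.Blocks.OrbitSum

set_option autoImplicit false
open Cfsg

set_option linter.style.haveILetI false

namespace Cfsg.Agent.S0903

/-- Let P be a p-subgroup of the finite group G, let c centralize P and let g, h ∈ G. The number of pairs (x, y) with x conjugate to g, y conjugate to h and x * y = c is congruent modulo p to the number of such pairs in which x and y both centralize P. (This is why the Brauer map on class sums is multiplicative.) -/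
theorem result {G : Type*} [Group G] [Finite G] (p : ℕ) [Fact p.Prime] (P : Subgroup G) (hP : IsPGroup p P) (c : G) (hc : c ∈ Subgroup.centralizer (P : Set G)) (g h : G) : Nat.card {xy : G × G // IsConj g xy.1 ∧ IsConj h xy.2 ∧ xy.1 * xy.2 = c} ≡ Nat.card {xy : G × G // IsConj g xy.1 ∧ IsConj h xy.2 ∧ xy.1 * xy.2 = c ∧ xy.1 ∈ Subgroup.centralizer (P : Set G) ∧ xy.2 ∈ Subgroup.centralizer (P : Set G)} [MOD p] := by
  classical
  haveI := Fintype.ofFinite G
  letI : MulAction P {xy : G × G // IsConj g xy.1 ∧ IsConj h xy.2 ∧ xy.1 * xy.2 = c} :=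
    { smul := fun u w => ⟨((u : G) * w.1.1 * (u : G)⁻¹, (u : G) * w.1.2 * (u : G)⁻¹),
        w.2.1.trans (isConj_iff.2 ⟨u, rfl⟩), w.2.2.1.trans (isConj_iff.2 ⟨u, rfl⟩), by
          have hcu : (u : G) * c = c * u := Subgroup.mem_centralizer_iff.1 hc u u.2
          calc (u : G) * w.1.1 * (u : G)⁻¹ * ((u : G) * w.1.2 * (u : G)⁻¹)
              = (u : G) * (w.1.1 * w.1.2) * (u : G)⁻¹ := by group
            _ = c := by rw [w.2.2.2, hcu, mul_inv_cancel_right]⟩
      one_smul := fun w => by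
        apply Subtype.ext
        show (((1 : P) : G) * w.1.1 * ((1 : P) : G)⁻¹, ((1 : P) : G) * w.1.2 * ((1 : P) : G)⁻¹) = w.1
        simp
      mul_smul := fun a b w => by
        apply Subtype.ext
        show (((a * b : P) : G) * w.1.1 * ((a * b : P) : G)⁻¹, ((a * b : P) : G) * w.1.2 * ((a * b : P) : G)⁻¹) =
          ((a : G) * ((b : G) * w.1.1 * (b : G)⁻¹) * (a : G)⁻¹, (a : G) * ((b : G) * w.1.2 * (b : G)⁻¹) * (a : G)⁻¹)
        push_cast
        simp [mul_assoc] }
  refine (hP.card_modEq_card_fixedPoints _).trans ?_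
  unfold Nat.ModEq
  apply congrArg (fun n => n % p)
  refine Nat.card_congr
    { toFun := fun w => ⟨w.1.1, w.1.2.1, w.1.2.2.1, w.1.2.2.2, ?_, ?_⟩
      invFun := fun v => ⟨⟨v.1, v.2.1, v.2.2.1, v.2.2.2.1⟩, fun u => ?_⟩
      left_inv := fun w => rfl
      right_inv := fun v => rfl }
  · rw [Subgroup.mem_centralizer_iff]
    intro u hu
    exact mul_inv_eq_iff_eq_mul.1 (congrArg Prod.fst (congrArg Subtype.val (w.2 ⟨u, hu⟩)))
  · rw [Subgroup.mem_centralizer_iff]
    intro u hu
    exact mul_inv_eq_iff_eq_mul.1 (congrArg Prod.snd (congrArg Subtype.val (w.2 ⟨u, hu⟩)))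
  · apply Subtype.ext
    show ((u : G) * v.1.1 * (u : G)⁻¹, (u : G) * v.1.2 * (u : G)⁻¹) = v.1
    rw [mul_inv_eq_iff_eq_mul.2 (Subgroup.mem_centralizer_iff.1 v.2.2.2.2.1 u u.2),
      mul_inv_eq_iff_eq_mul.2 (Subgroup.mem_centralizer_iff.1 v.2.2.2.2.2 u u.2)]

end Cfsg.Agent.S0903
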