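import Cfsg.Statements.S0905
import Cfsg.Agent.Lib.Blocks.NormalPSubgroup
import Cfsg.Agent.Lib.Base.Cores

set_option autoImplicit false
open Cfsg

set_option linter.style.haveILetI false

namespace Cfsg.Agent.S0905

/-- Let F be a field of characteristic p and let g be an element of the finite group G no conjugate of which centralizes O_p(G). Then the class sum of g is a nilpotent element of the group algebra F[G]. -/
theorem result {G : Type*} [Group G] [Finite G] (p : ℕ) [Fact p.Prime] (F : Type*) [Field F] [CharP F p] (g : G) (hg : ∀ x : G, IsConj g x → x ∉ Subgroup.centralizer (Cfsg.pCore p G : Set G)) : IsNilpotent (∑ᶠ x ∈ ConjClasses.carrier (ConjClasses.mk g), MonoidAlgebra.single x (1 : F) : MonoidAlgebra F G) := by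
  classical
  haveI := Fintype.ofFinite G
  haveI : (Cfsg.pCore p G).Normal := inferInstance
  have hfin : (ConjClasses.carrier (ConjClasses.mk g)).Finite := Set.toFinite _
  rw [finsum_mem_eq_finite_toFinset_sum _ hfin]
  have hcoeff : ∀ x : G, (∑ y ∈ hfin.toFinset, MonoidAlgebra.single y (1 : F)).coeff x =
      if IsConj g x then 1 else 0 := by
    intro x
    have hmem : x ∈ ConjClasses.carrier (ConjClasses.mk g) ↔ IsConj g x := by
      rw [ConjClasses.mem_carrier_iff_mk_eq, ConjClasses.mk_eq_mk_iff_isConj, isConj_comm]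
    simp [Finsupp.finsetSum_apply, Finsupp.single_apply, hmem]
  refine CfsgLib.Blocks.isNilpotent_of_vanish_centralizer (p := p)
    (CfsgLib.Base.isPGroup_pCore p G) ?_ ?_
  · intro u _ x
    rw [hcoeff, hcoeff]
    have h : IsConj g (u * x * u⁻¹) ↔ IsConj g x :=
      ⟨fun h1 => h1.trans (isConj_iff.2 ⟨u, rfl⟩).symm, fun h1 => h1.trans (isConj_iff.2 ⟨u, rfl⟩)⟩
    by_cases h1 : IsConj g x
    · rw [if_pos h1, if_pos (h.2 h1)]
    · rw [if_neg h1, if_neg (mt h.1 h1)]
  · intro c hc
    rw [hcoeff, if_neg fun h => hg c h hc]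

end Cfsg.Agent.S0905
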