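import Cfsg.Statements.S0906
import Cfsg.Agent.Lib.Blocks.Osima

set_option autoImplicit false
open Cfsg

namespace Cfsg.Agent.S0906

/-- Let B be a block of the finite group G relative to a maximal ideal M of the algebraic integers containing the prime p. Then some element g represents a defect class of B: the idempotent coefficient of B at g is a local integer not in the local ideal at M, and the central characters of the members of B at g are not in the local ideal. -/
theorem result {G : Type*} [Group G] [Finite G] (p : ℕ) [Fact p.Prime] (M : Ideal Cfsg.AlgInt) (hM : Cfsg.IsPModular p M) (B : Set (Cfsg.IrrCharacter G)) (hB : Cfsg.IsPBlock M B) : ∃ g : G, Cfsg.IsDefectClass M B g := by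
  haveI : M.IsPrime := hM.2.1.isPrime
  haveI := Fintype.ofFinite G
  classical
  by_contra hcon
  obtain ⟨χ₀, hχ₀⟩ := CfsgLib.Blocks.IsPBlock.nonempty hB
  have h1 := CfsgLib.Blocks.omega_blockCoeff B χ₀
  rw [if_pos hχ₀] at h1
  haveI := Fintype.ofFinite (ConjClasses G)
  rw [CfsgLib.Blocks.omega_eq_sum_centralChar χ₀ (CfsgLib.Blocks.isClassFunction_blockCoeff B)] at h1
  apply CfsgLib.Blocks.not_memLocalIdeal_one (M := M)
  rw [← h1]
  refine CfsgLib.Blocks.MemLocalIdeal.sum' fun C _ => ?_
  have hl := CfsgLib.Blocks.blockCoeff_mem_loc hB (CfsgLib.Blocks.classRep C)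
  have hc := CfsgLib.Blocks.centralChar_mem_loc (M := M) χ₀ (CfsgLib.Blocks.classRep C)
  by_cases ha : MemLocalIdeal M (blockCoeff B (CfsgLib.Blocks.classRep C))
  · exact CfsgLib.Blocks.MemLocalIdeal.mul_right' ha hc
  by_cases hw : MemLocalIdeal M (centralChar (χ₀ : G → ℂ) (CfsgLib.Blocks.classRep C))
  · exact CfsgLib.Blocks.MemLocalIdeal.mul_left' hl hw
  refine absurd ⟨_, hl, ha, fun χ hχ h => hw ?_⟩ hcon
  have h2 := CfsgLib.Blocks.MemLocalIdeal.add'
    (CfsgLib.Blocks.IsPBlock.sameBlock hB hχ₀ hχ (CfsgLib.Blocks.classRep C)) h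
  rwa [sub_add_cancel] at h2

end Cfsg.Agent.S0906
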