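import Cfsg.Statements.S0910
import Cfsg.Agent.Lib.Blocks.PrincipalBlock
import Cfsg.Agent.Lib.Chars.Burnside

set_option autoImplicit false
open Cfsg

set_option linter.style.haveILetI false

namespace Cfsg.Agent.S0910

/-- Let G be a non-abelian finite simple group and p a prime. If an irreducible character χ lies in the principal block (relative to a maximal ideal of the algebraic integers containing p) and χ 1 is a power of p, then χ is the principal character. -/
theorem result {G : Type*} [Group G] [Finite G] (p : ℕ) [Fact p.Prime] (M : Ideal Cfsg.AlgInt) (hM : Cfsg.IsPModular p M) [IsSimpleGroup G] (hna : ∃ a b : G, a * b ≠ b * a) (χ : Cfsg.IrrCharacter G) (hχ : χ ∈ Cfsg.principalBlock M G) (k : ℕ) (hdeg : (χ : G → ℂ) 1 = (p : ℂ) ^ k) : (χ : G → ℂ) = fun _ => 1 := by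
  classical
  haveI := Fintype.ofFinite G
  haveI := CfsgLib.Blocks.isPrime_of_isPModular hM
  have hconst : (∀ x, (χ : G → ℂ) x = (χ : G → ℂ) 1) → (χ : G → ℂ) = fun _ => 1 := by
    intro hc
    obtain ⟨n, -, hn⟩ := CfsgLib.Chars.irr_degree_nat χ.2
    have h3 := CfsgLib.Chars.inner_irr_self χ
    simp only [CfsgLib.Chars.inner_def, hc, hn, map_natCast, Finset.sum_const, Finset.card_univ,
      nsmul_eq_mul, ← Nat.card_eq_fintype_card] at h3
    rw [← mul_assoc, inv_mul_cancel₀ (Nat.cast_ne_zero.2 Nat.card_pos.ne'), one_mul] at h3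
    have h4 : n * n = 1 := by exact_mod_cast h3
    funext x
    rw [hc x, hn, Nat.eq_one_of_mul_eq_one_right h4, Nat.cast_one]
  by_cases hpG : p ∣ Nat.card G
  swap
  · refine hconst fun x => CfsgLib.Blocks.principalBlock_apply_normal hM.2.2
      (N := (⊤ : Subgroup G)) (by rwa [Subgroup.card_top]) hχ (Subgroup.mem_top x)
  obtain ⟨P⟩ : Nonempty (Sylow p G) := inferInstance
  haveI : Nontrivial P := by
    rw [← Finite.one_lt_card_iff_nontrivial, P.card_eq_multiplicity]
    exact Nat.one_lt_pow ((Fact.out : p.Prime).factorization_pos_of_dvd Nat.card_pos.ne' hpG).ne'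
      (Fact.out : p.Prime).one_lt
  haveI := P.isPGroup'.center_nontrivial
  obtain ⟨z, hz⟩ := exists_ne (1 : Subgroup.center (P : Subgroup G))
  obtain ⟨g, hgd⟩ : ∃ g : G, g = ((z : (P : Subgroup G)) : G) := ⟨_, rfl⟩
  have hg : g ≠ 1 := fun h1 => hz (Subtype.ext (Subtype.ext (hgd.symm.trans h1)))
  have hle : (P : Subgroup G) ≤ Subgroup.centralizer ({g} : Set G) := by
    intro x hx
    rw [Subgroup.mem_centralizer_singleton_iff, hgd]
    exact congrArg Subtype.val (Subgroup.mem_center_iff.mp z.2 ⟨x, hx⟩)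
  have hi : ¬ p ∣ (Subgroup.centralizer ({g} : Set G)).index := fun hd =>
    P.not_dvd_index (hd.trans (Subgroup.index_dvd_of_le hle))
  have h0 : (χ : G → ℂ) g ≠ 0 := by
    intro h0
    have h1 := CfsgLib.Blocks.mem_blockOf.1 hχ g
    simp only [Cfsg.centralChar, h0, mul_zero, zero_div, sub_zero, mul_one, div_one] at h1
    exact hi ((CfsgLib.Blocks.memLocalIdeal_natCast_iff Fact.out hM.2.2 _).1 h1)
  refine hconst ?_
  obtain ⟨n, ρ, hρ, hρc⟩ := χ.2
  have hn : n = p ^ k := by
    have : ((n : ℕ) : ℂ) = ((p ^ k : ℕ) : ℂ) := by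
      rw [Nat.cast_pow, ← hdeg, ← hρc]; simp
    exact_mod_cast this
  have hcop : Nat.Coprime (Module.finrank ℂ (Fin n → ℂ))
      (Subgroup.centralizer ({g} : Set G)).index := by
    rw [Module.finrank_fin_fun, hn]
    exact Nat.Coprime.pow_left k ((Fact.out : p.Prime).coprime_iff_not_dvd.2 hi)
  obtain ⟨ω, hω⟩ := (CfsgLib.Chars.norm_character_eq_iff ρ g).1
    ((CfsgLib.Chars.character_eq_zero_or_norm_eq ρ g hcop).resolve_left (by rwa [hρc]))
  rcases IsSimpleGroup.eq_bot_or_eq_top_of_normal ρ.ker inferInstance with hker | hker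
  · exfalso
    obtain ⟨a, b, hab⟩ := hna
    have hprime : (Nat.card G).Prime := CfsgLib.Chars.prime_card_of_central hg fun x => by
      refine MonoidHom.ker_eq_bot_iff ρ |>.mp hker ?_
      rw [map_mul, map_mul, hω]
      ext; simp
    haveI := Fact.mk hprime
    haveI : IsCyclic G := isCyclic_of_prime_card rfl
    exact hab (IsCyclic.commGroup.mul_comm a b)
  · intro x
    have h1 : ρ x = 1 := by
      have : x ∈ ρ.ker := hker ▸ Subgroup.mem_top x
      exact this
    rw [← hρc]
    simp [Representation.character, h1]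

end Cfsg.Agent.S0910
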