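import Cfsg.Statements.S0915
import Cfsg.Agent.Lib.Blocks.Correspondence
import Cfsg.Agent.Lib.PLocal.PSolvable

set_option autoImplicit false
open Cfsg

set_option linter.style.haveILetI false

namespace Cfsg.Agent.S0915

/-- Let G be a finite p-solvable group with trivial largest normal subgroup of order prime to p. Then any two irreducible characters of G lie in the same block relative to every maximal ideal M of the algebraic integers containing p: G has a single p-block. -/
theorem result {G : Type*} [Group G] [Finite G] (p : ℕ) [Fact p.Prime] (M : Ideal Cfsg.AlgInt) (hM : Cfsg.IsPModular p M) (hsolv : Cfsg.IsPSolvable p G) (hcore : Cfsg.pPrimeCore p G = ⊥) (χ ψ : Cfsg.IrrCharacter G) : Cfsg.SameBlock M (χ : G → ℂ) (ψ : G → ℂ) := by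
  classical
  haveI := Fintype.ofFinite G
  haveI := CfsgLib.Blocks.isPrime_of_isPModular hM
  haveI := Cfsg.pCore_normal p G
  haveI := Fintype.ofFinite (ConjClasses G)
  have hB := CfsgLib.Blocks.isPBlock_blockOf (M := M) χ
  have he := CfsgLib.Blocks.isLocClassFun_blockCoeff hB
  have hQ := CfsgLib.Base.isPGroup_pCore p G
  have hzero : ∀ g : G, g ≠ 1 → Cfsg.MemLocalIdeal M
      (Cfsg.blockCoeff (Cfsg.blockOf M (χ : G → ℂ)) g) := by
    intro g hg
    by_cases hgQ : g ∈ Cfsg.pCore p G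
    · obtain ⟨i, hi⟩ := IsPGroup.iff_orderOf.1 hQ ⟨g, hgQ⟩
      have hi0 : i ≠ 0 := fun h => hg (congrArg Subtype.val
        (orderOf_eq_one_iff.1 (by rw [hi, h, pow_zero]) : (⟨g, hgQ⟩ : Cfsg.pCore p G) = 1))
      rw [CfsgLib.Blocks.blockCoeff_eq_zero_of_dvd Fact.out hM.2.2 hB (by
        rw [show orderOf g = p ^ i by rw [← hi, ← Subgroup.orderOf_coe]]
        exact dvd_pow_self p hi0)]
      exact CfsgLib.Blocks.MemLocalIdeal.zero'
    · exact CfsgLib.Blocks.blockCoeff_mem_of_notMem_centralizer hM.2.2 hB hQ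
        fun hc => hgQ (CfsgLib.PLocal.centralizer_pCore_le hsolv hcore hc)
  have key : ∀ φ : Cfsg.IrrCharacter G, Cfsg.MemLocalIdeal M
      (CfsgLib.Blocks.omega (φ : G → ℂ) (Cfsg.blockCoeff (Cfsg.blockOf M (χ : G → ℂ))) -
        Cfsg.blockCoeff (Cfsg.blockOf M (χ : G → ℂ)) 1) := by
    intro φ
    rw [CfsgLib.Blocks.omega_eq_sum_centralChar φ he.1,
      ← Finset.add_sum_erase _ _ (Finset.mem_univ (ConjClasses.mk (1 : G)))]
    have h1 : CfsgLib.Blocks.classRep (ConjClasses.mk (1 : G)) = 1 :=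
      isConj_one_right.1 (ConjClasses.mk_eq_mk_iff_isConj.1
        (CfsgLib.Blocks.mk_classRep (ConjClasses.mk (1 : G)))).symm
    rw [h1, CfsgLib.Blocks.centralChar_one, mul_one, add_sub_cancel_left]
    refine CfsgLib.Blocks.MemLocalIdeal.sum' fun C hC => ?_
    refine CfsgLib.Blocks.MemLocalIdeal.mul_right' (hzero _ fun h => ?_)
      (CfsgLib.Blocks.centralChar_mem_loc φ _)
    exact (Finset.mem_erase.1 hC).1 (by rw [← CfsgLib.Blocks.mk_classRep C, h])
  have h := CfsgLib.Blocks.MemLocalIdeal.sub' (key χ) (key ψ)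
  rw [sub_sub_sub_cancel_right, CfsgLib.Blocks.omega_blockCoeff, CfsgLib.Blocks.omega_blockCoeff,
    if_pos (CfsgLib.Blocks.mem_blockOf_self χ)] at h
  by_contra hne
  rw [if_neg fun hm => hne (CfsgLib.Blocks.mem_blockOf.1 hm), sub_zero] at h
  exact CfsgLib.Blocks.not_memLocalIdeal_one h

end Cfsg.Agent.S0915
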