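import Cfsg.Statements.S0916
import Cfsg.Agent.Lib.Blocks.SylowClasses

set_option autoImplicit false
open Cfsg

set_option linter.style.haveILetI false

namespace Cfsg.Agent.S0916

/-- Let P be a p-subgroup of the finite group G, C its centralizer and N its normalizer. Say that a conjugacy class (of G, or of N) has defect group P when P is a Sylow p-subgroup of the centralizer (in G, respectively in N) of some element of the class. Then: (i) if the class of g in G has defect group P, the elements of that class lying in C form a single N-class, again with defect group P; (ii) every N-class with defect group P arises this way from exactly one G-class with defect group P. -/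
theorem result {G : Type*} [Group G] [Finite G] (p : ℕ) [Fact p.Prime] (P : Subgroup G) (hP : IsPGroup p P) : (∀ g : G, (∃ S : Sylow p (Subgroup.centralizer ({g} : Set G)), (S : Subgroup (Subgroup.centralizer ({g} : Set G))).map (Subgroup.centralizer ({g} : Set G)).subtype = P) → (∃ c : G, IsConj g c ∧ c ∈ Subgroup.centralizer (P : Set G)) ∧ (∀ c₁ c₂ : G, IsConj g c₁ → IsConj g c₂ → c₁ ∈ Subgroup.centralizer (P : Set G) → c₂ ∈ Subgroup.centralizer (P : Set G) → ∃ n ∈ Subgroup.normalizer (P : Set G), n * c₁ * n⁻¹ = c₂)) ∧ (∀ c : G, c ∈ Subgroup.centralizer (P : Set G) → (∃ S : Sylow p (Subgroup.centralizer ({c} : Set G) ⊓ Subgroup.normalizer (P : Set G) : Subgroup G), (S : Subgroup ↥(Subgroup.centralizer ({c} : Set G) ⊓ Subgroup.normalizer (P : Set G))).map (Subgroup.centralizer ({c} : Set G) ⊓ Subgroup.normalizer (P : Set G)).subtype = P) → ∃ S : Sylow p (Subgroup.centralizer ({c} : Set G)), (S : Subgroup (Subgroup.centralizer ({c} : Set G))).map (Subgroup.centralizer ({c} : Set G)).subtype = P) := by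
  refine ⟨fun g ⟨S, hS⟩ => ⟨⟨g, IsConj.refl g, hS ▸ CfsgLib.Blocks.mem_centralizer_sylow g S⟩, ?_⟩, ?_⟩
  · intro c₁ c₂ h₁ h₂ hc₁ hc₂
    refine CfsgLib.Blocks.exists_normalizer_conj hP (S := S) ?_ h₁ h₂ hc₁ hc₂
    conv_rhs => rw [← hS]
    rw [CfsgLib.Base.card_map_subtype]
  · rintro c hc ⟨S, hS⟩
    refine CfsgLib.Blocks.exists_sylow_of_normalizer hP hc fun Q hQ hPQ hQle => ?_
    obtain ⟨h, -, hle⟩ := CfsgLib.Blocks.exists_conj_le_sylow hQ hQle S
    rw [hS] at hle
    exact (Subgroup.eq_of_le_of_card_ge hPQ
      (((CfsgLib.Base.card_map_conj h Q).ge.trans (Subgroup.card_le_of_le hle)))).ge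

end Cfsg.Agent.S0916
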