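import Cfsg.Statements.S0922
import Cfsg.Agent.Lib.Blocks.SecondMain
import Cfsg.Agent.Lib.BlockOrth.PPart

set_option autoImplicit false
open Cfsg

set_option linter.style.haveILetI false

namespace Cfsg.Agent.S0922

/-- Let H be a subgroup of the finite group G and let the block b of H induce the block B of G (relative to a maximal ideal M of the algebraic integers containing the prime p). Let h ∈ H be such that the centralizer in G of the p-part of h lies in H, and let χ be an irreducible character of G not in B. Then the sum over k ∈ H of (the idempotent coefficient of b at k) times χ (k * h) vanishes; that is, χ annihilates f_b h where f_b is the sum of the central idempotents of the members of b. -/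
theorem result {G : Type*} [Group G] [Finite G] (p : ℕ) [Fact p.Prime] (M : Ideal Cfsg.AlgInt) (hM : Cfsg.IsPModular p M) (H : Subgroup G) (b : Set (Cfsg.IrrCharacter H)) (B : Set (Cfsg.IrrCharacter G)) (hind : Cfsg.IsInducedBlock M H b B) (h : H) (hC : ∀ z : G, Cfsg.IsPPart p (h : G) z → Subgroup.centralizer ({z} : Set G) ≤ H) (χ : Cfsg.IrrCharacter G) (hχ : χ ∉ B) : ∑ᶠ k : H, Cfsg.blockCoeff b k * (χ : G → ℂ) ((k : G) * (h : G)) = 0 := by
  classical
  haveI : M.IsPrime := hM.2.1.isPrime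
  haveI := Fintype.ofFinite G
  haveI := Fintype.ofFinite H
  rw [finsum_eq_sum_of_fintype]
  -- the decomposition of `h`
  set B' := Cfsg.blockOf M (χ : G → ℂ)
  have hB' : Cfsg.IsPBlock M B' := CfsgLib.Blocks.isPBlock_blockOf χ
  have hχ' : χ ∈ B' := CfsgLib.Blocks.mem_blockOf_self χ
  have he : CfsgLib.Blocks.IsLocClassFun M (Cfsg.blockCoeff B') :=
    CfsgLib.Blocks.isLocClassFun_blockCoeff hB'
  obtain ⟨z, y, hzy, hcomm, ⟨k, hk⟩, hy⟩ : ∃ z y : G, z * y = (h : G) ∧ Commute z y ∧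
      (∃ k : ℕ, orderOf z = p ^ k) ∧ ¬ p ∣ orderOf y := by
    obtain ⟨y', hy'⟩ := CfsgLib.BlockOrth.exists_isPPrimePart (p := p) (h : G)
    obtain ⟨y, hxy, hc, hpx, hpy⟩ := hy'.isPPart
    exact ⟨_, y, hxy, hc, hpx, hpy⟩
  have hC' := hC z ⟨y, hzy, hcomm, ⟨k, hk⟩, hy⟩
  have hzH : z ∈ H := hC' (Subgroup.mem_centralizer_singleton_iff.2 rfl)
  have hω : ∀ ξ ∈ b, MemLocalIdeal M (CfsgLib.Blocks.omega (ξ : H → ℂ)
      (CfsgLib.Blocks.resFun H (Cfsg.blockCoeff B'))) := by
    intro ξ hξ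
    obtain ⟨ψ, hψ⟩ := CfsgLib.Blocks.IsPBlock.nonempty hind.2.1
    have h1 := CfsgLib.Blocks.IsInducedBlock.omega_sub hind hξ hψ he
    rw [CfsgLib.Blocks.omega_blockCoeff, if_neg, sub_zero] at h1
    · exact h1
    · intro hψ'
      exact hχ (CfsgLib.Blocks.IsPBlock.eq_of_mem hB' hind.2.1 hψ' hψ ▸ hχ')
  have key := CfsgLib.Blocks.second_main_core (p := p) hM.2.2 hind.1 he
    (CfsgLib.Blocks.conv_blockCoeff_self B') hω ⟨k, by rw [← hk]; exact pow_orderOf_eq_one z⟩ hy
    hcomm.symm hzH hC' (CfsgLib.Chars.isClassFunction_irr χ)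
  rw [hzy] at key
  rw [← key]
  refine Finset.sum_congr rfl fun k _ => ?_
  rw [CfsgLib.Blocks.sum_mul_blockCoeff B' χ, if_pos hχ']

end Cfsg.Agent.S0922
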