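import Cfsg.Statements.S0924
import Cfsg.Agent.Lib.Blocks.TwistedTrace
import Cfsg.Agent.Lib.Blocks.MinMax

set_option autoImplicit false
open Cfsg

set_option linter.style.haveILetI false

namespace Cfsg.Agent.S0924

/-- Let χ be an irreducible character of the finite group G and g ∈ G, and fix a maximal ideal M of the algebraic integers containing the prime p. If the p-part of g is contained in no defect group of the block of χ, then χ g = 0. -/
theorem result {G : Type*} [Group G] [Finite G] (p : ℕ) [Fact p.Prime] (M : Ideal Cfsg.AlgInt) (hM : Cfsg.IsPModular p M) (χ : Cfsg.IrrCharacter G) (g x : G) (hx : Cfsg.IsPPart p g x) (hD : ∀ D : Subgroup G, Cfsg.IsDefectGroup p M (Cfsg.blockOf M (χ : G → ℂ)) D → x ∉ D) : (χ : G → ℂ) g = 0 := by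
  classical
  haveI : M.IsPrime := hM.2.1.isPrime
  haveI := Fintype.ofFinite G
  obtain ⟨y, hxy, hcomm, ⟨k, hk⟩, hy⟩ := hx
  set B := Cfsg.blockOf M (χ : G → ℂ) with hBdef
  have hB : Cfsg.IsPBlock M B := CfsgLib.Blocks.isPBlock_blockOf χ
  have hχ : χ ∈ B := CfsgLib.Blocks.mem_blockOf_self χ
  have hcls := CfsgLib.Blocks.isClassFunction_blockCoeff B
  have h := CfsgLib.Blocks.sum_twisted_eq_zero hM.1 hM.2.2 (CfsgLib.Blocks.blockCoeff_mem_loc hB)
    (CfsgLib.Blocks.conv_blockCoeff_self B) (z := x) (y := y) ⟨k, by rw [← hk]; exact pow_orderOf_eq_one x⟩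
    hy hcomm.symm (fun c => hcls c x) (fun c => hcls c y) (fun c hc => ?_)
    (CfsgLib.Chars.isClassFunction_irr χ)
  · rw [CfsgLib.Blocks.sum_mul_blockCoeff B χ, if_pos hχ, hxy] at h
    exact h
  · by_contra hcoef
    obtain ⟨D, hDef⟩ := CfsgLib.Blocks.exists_isDefectGroup (p := p) hB
    have hP : IsPGroup p (Subgroup.zpowers x) :=
      IsPGroup.of_card (n := k) (by rw [Nat.card_zpowers, hk])
    obtain ⟨w, hw⟩ := CfsgLib.Blocks.IsDefectGroup.exists_map_conj_le hM.2.2 hB hDef hP (c := c)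
      (by
        rw [Subgroup.mem_centralizer_iff]
        intro u hu
        obtain ⟨j, rfl⟩ := Subgroup.mem_zpowers_iff.1 hu
        exact (Commute.zpow_left (show Commute x c from hc) j).eq) hcoef
    refine hD _ (CfsgLib.Blocks.IsDefectGroup.map_conj hDef w⁻¹ hB) ?_
    have hmem := hw ⟨x, Subgroup.mem_zpowers x, rfl⟩
    refine ⟨_, hmem, ?_⟩
    simp [mul_assoc]

end Cfsg.Agent.S0924
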