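import Cfsg.Statements.S0926
import Cfsg.Agent.Lib.Blocks.HeightClasses
import Cfsg.Agent.S0924

set_option autoImplicit false
open Cfsg

set_option linter.style.haveILetI false

namespace Cfsg.Agent.S0926

/-- Let B be a block of the finite group G with defect group D (relative to a maximal ideal M of the algebraic integers containing p), let χ ∈ B have height zero, and let x be a p-element. Then some conjugate of x lies in D if and only if χ does not vanish on the whole p-section of x (the elements whose p-part is conjugate to x). -/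
theorem result {G : Type*} [Group G] [Finite G] (p : ℕ) [Fact p.Prime] (M : Ideal Cfsg.AlgInt) (hM : Cfsg.IsPModular p M) (B : Set (Cfsg.IrrCharacter G)) (hB : Cfsg.IsPBlock M B) (D : Subgroup G) (hD : Cfsg.IsDefectGroup p M B D) (χ : Cfsg.IrrCharacter G) (hχ : χ ∈ B) (h0 : Cfsg.blockHeight p B (χ : G → ℂ) = 0) (x : G) (hx : ∃ k : ℕ, orderOf x = p ^ k) : (∃ g : G, g * x * g⁻¹ ∈ D) ↔ ∃ u : G, (∃ z : G, Cfsg.IsPPart p u z ∧ IsConj x z) ∧ (χ : G → ℂ) u ≠ 0 := by
  haveI : M.IsPrime := hM.2.1.isPrime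
  haveI := Fintype.ofFinite G
  constructor
  · rintro ⟨g, hg⟩
    obtain ⟨y, hy, P, hP⟩ := id hD
    rw [hP] at hg
    obtain ⟨w, hw, hwe⟩ := hg
    have hwe' : (w : G) = g * x * g⁻¹ := hwe
    have hord : ∃ k, orderOf (w : G) = p ^ k := by
      obtain ⟨k, hk⟩ := hx
      exact ⟨k, by rw [hwe', ← hk]; exact (SemiconjBy.orderOf_eq g (SemiconjBy.conj_mk g x)).symm⟩
    have hcomm : Commute (w : G) y := Subgroup.mem_centralizer_singleton_iff.1 w.2
    refine ⟨(w : G) * y, ⟨(w : G), ⟨y, rfl, hcomm, hord,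
      CfsgLib.Blocks.IsDefectClass.regular hM.2.2 hB hy⟩, isConj_iff.2 ⟨g, hwe'.symm⟩⟩, fun h => ?_⟩
    apply CfsgLib.Blocks.not_mem_apply_of_defectClass (p := p) hM.2.2 hB hy hcomm hord hχ h0
    rw [h]
    exact CfsgLib.Blocks.MemLocalIdeal.zero'
  · rintro ⟨u, ⟨z, huz, hxz⟩, hne⟩
    by_contra hcon
    refine hne (Cfsg.Agent.S0924.result p M hM χ u z huz fun E hE hzE => hcon ?_)
    rw [← CfsgLib.Blocks.IsPBlock.eq_blockOf hB hχ] at hE
    obtain ⟨w, hw⟩ := CfsgLib.Blocks.IsDefectGroup.exists_conj_eq hM.2.2 hB hE hD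
    obtain ⟨c, rfl⟩ := isConj_iff.1 hxz
    exact ⟨w * c, hw ▸ ⟨_, hzE, by simp [mul_assoc]⟩⟩

end Cfsg.Agent.S0926
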