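import Cfsg.Statements.S0929
import Cfsg.Agent.Lib.Blocks.Correspondence
import Cfsg.Agent.Lib.BlockOrth.PPart
import Cfsg.Agent.S0924

set_option autoImplicit false
open Cfsg

set_option linter.style.haveILetI false

namespace Cfsg.Agent.S0929

/-- Let B be a block of the finite group G with defect group P (relative to a maximal ideal M of the algebraic integers containing p), and let g be an element at which the central character of some member of B is not in the local ideal at M. Then some conjugate x of g centralizes P and has its p-part in the centre of P. -/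
theorem result {G : Type*} [Group G] [Finite G] (p : ℕ) [Fact p.Prime] (M : Ideal Cfsg.AlgInt) (hM : Cfsg.IsPModular p M) (B : Set (Cfsg.IrrCharacter G)) (hB : Cfsg.IsPBlock M B) (P : Subgroup G) (hP : Cfsg.IsDefectGroup p M B P) (g : G) (hg : ∃ χ ∈ B, ¬ Cfsg.MemLocalIdeal M (Cfsg.centralChar (χ : G → ℂ) g)) : ∃ x : G, IsConj g x ∧ x ∈ Subgroup.centralizer (P : Set G) ∧ ∀ z : G, Cfsg.IsPPart p x z → z ∈ P ∧ ∀ w ∈ P, z * w = w * z := by
  classical
  haveI : M.IsPrime := hM.2.1.isPrime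
  haveI := Fintype.ofFinite G
  have hp := CfsgLib.Blocks.IsDefectGroup.isPGroup hP
  set H := P ⊔ Subgroup.centralizer (P : Set G) with hHdef
  haveI := Fintype.ofFinite H
  have hPH : P ≤ H := le_sup_left
  have hCH : Subgroup.centralizer (P : Set G) ≤ H := le_sup_right
  have hHN : H ≤ Subgroup.normalizer (P : Set G) :=
    sup_le Subgroup.le_normalizer (Subgroup.centralizer_le_normalizer _)
  obtain ⟨d, hd, S, hS⟩ := id hP
  obtain ⟨b, hind⟩ := CfsgLib.Blocks.exists_block_inducing hM.2.2 hp hPH hCH hHN hB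
    (hS ▸ CfsgLib.Blocks.mem_centralizer_sylow d S) hd.2.1
  obtain ⟨χ, hχ, hu⟩ := hg
  obtain ⟨ξ, hξ⟩ := CfsgLib.Blocks.IsPBlock.nonempty hind.1
  have ha : CfsgLib.Blocks.IsLocClassFun M (CfsgLib.Blocks.classInd g) :=
    CfsgLib.Blocks.isLocClassFun_classInd g
  have hb' := CfsgLib.Blocks.isLocClassFun_brFun (P := P) hHN ha
  obtain ⟨h, hh1, hh2, hh3⟩ : ∃ h : H, (h : G) ∈ Subgroup.centralizer (P : Set G) ∧ IsConj g (h : G) ∧
      ¬ MemLocalIdeal M (centralChar (ξ : H → ℂ) h) := by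
    by_contra hcon
    haveI := Fintype.ofFinite (ConjClasses H)
    apply hu
    have h1 : MemLocalIdeal M (CfsgLib.Blocks.omega (ξ : H → ℂ)
        (CfsgLib.Blocks.brFun P H (CfsgLib.Blocks.classInd g))) := by
      rw [CfsgLib.Blocks.omega_eq_sum_centralChar ξ hb'.1]
      refine CfsgLib.Blocks.MemLocalIdeal.sum' fun C _ => ?_
      set h := CfsgLib.Blocks.classRep C
      by_cases hc : (h : G) ∈ Subgroup.centralizer (P : Set G)
      · rw [CfsgLib.Blocks.brFun_of_mem _ hc, CfsgLib.Blocks.classInd_apply]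
        by_cases hgh : IsConj g (h : G)
        · rw [if_pos hgh, one_mul]
          by_contra hn
          exact hcon ⟨h, hc, hgh, hn⟩
        · rw [if_neg hgh, zero_mul]; exact CfsgLib.Blocks.MemLocalIdeal.zero'
      · rw [CfsgLib.Blocks.brFun_of_notMem _ hc, zero_mul]; exact CfsgLib.Blocks.MemLocalIdeal.zero'
    have h2 := CfsgLib.Blocks.omega_res_sub_br_mem hM.2.2 hp hPH hHN ha ξ
    have h3 := CfsgLib.Blocks.IsInducedBlock.omega_sub hind hξ hχ ha
    have h4 := CfsgLib.Blocks.MemLocalIdeal.sub'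
      (CfsgLib.Blocks.MemLocalIdeal.add' h2 h1) h3
    rwa [sub_add_cancel, sub_sub_cancel, CfsgLib.Blocks.omega_classInd] at h4
  refine ⟨h, hh2, hh1, fun z hz => ?_⟩
  obtain ⟨w, hw⟩ := CfsgLib.BlockOrth.exists_isPPrimePart (p := p) h
  have hz' := CfsgLib.BlockOrth.isPPrimePart_of_isPPart (p := p) hz
  have hzeq : z = ((h * w⁻¹ : H) : G) := by
    have h1 := hz'.unique (hw.map H.subtype Subtype.val_injective)
    have h2 : (H.subtype w : G) = (w : G) := rfl
    push_cast
    rw [← h2, ← h1, mul_inv_rev, inv_inv, mul_inv_cancel_left]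
  -- the `p`-part lies in every defect group of the block of `ξ`
  have hne : (ξ : H → ℂ) h ≠ 0 := fun h0 => hh3 (by
    rw [Cfsg.centralChar, h0, mul_zero, zero_div]; exact CfsgLib.Blocks.MemLocalIdeal.zero')
  have hex : ∃ D : Subgroup H, Cfsg.IsDefectGroup p M (Cfsg.blockOf M (ξ : H → ℂ)) D ∧ (h * w⁻¹) ∈ D := by
    by_contra hcon
    exact hne (Cfsg.Agent.S0924.result p M hM ξ h (h * w⁻¹) hw.isPPart
      fun D hD hmem => hcon ⟨D, hD, hmem⟩)
  obtain ⟨D, hD, hmem⟩ := hex
  rw [← CfsgLib.Blocks.IsPBlock.eq_blockOf hind.1 hξ] at hD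
  -- every defect group of `b` is `P`
  haveI : (P.subgroupOf H).Normal := (Subgroup.normal_subgroupOf_iff_le_normalizer hPH).2 hHN
  have hle := CfsgLib.Blocks.IsDefectGroup.normal_le hM.2.2 hind.1 hD
    (hp.of_equiv (Subgroup.subgroupOfEquivOfLe hPH).symm)
  obtain ⟨F, hF, hDF⟩ := CfsgLib.Blocks.IsInducedBlock.exists_defect_le hM.2.2 hind hD
  obtain ⟨x, hx⟩ := CfsgLib.Blocks.IsDefectGroup.exists_conj_eq hM.2.2 hB hF hP
  have hcard : Nat.card D ≤ Nat.card (P.subgroupOf H) := by
    rw [CfsgLib.Base.card_subgroupOf hPH, ← CfsgLib.Base.card_map_subtype D]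
    exact (Subgroup.card_le_of_le hDF).trans (CfsgLib.Blocks.card_le_of_map_conj_le hx.le)
  rw [← Subgroup.eq_of_le_of_card_ge hle hcard, Subgroup.mem_subgroupOf, ← hzeq] at hmem
  refine ⟨hmem, fun u hu' => ?_⟩
  -- `z` is a power of `h`
  obtain ⟨n, hn⟩ := hw.exists_pow
  have hcz : z ∈ Subgroup.centralizer (P : Set G) := by
    rw [hzeq, ← hn]
    push_cast
    exact mul_mem hh1 (inv_mem (pow_mem hh1 n))
  exact (Subgroup.mem_centralizer_iff.1 hcz u hu').symm

end Cfsg.Agent.S0929
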