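import Cfsg.Statements.S0930
import Cfsg.Agent.Lib.Blocks.HeightClasses
import Cfsg.Agent.Lib.BlockOrth.PPart
import Cfsg.Agent.S0929

set_option autoImplicit false
open Cfsg

set_option linter.style.haveILetI false

namespace Cfsg.Agent.S0930

/-- Let H be a subgroup of the finite group G and fix a maximal ideal M of the algebraic integers containing the prime p. If the block b of H with defect group D induces the block B of G with defect group P, then every element of the centre of P is conjugate in G to an element of the centre of D. -/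
theorem result {G : Type*} [Group G] [Finite G] (p : ℕ) [Fact p.Prime] (M : Ideal Cfsg.AlgInt) (hM : Cfsg.IsPModular p M) (H : Subgroup G) (b : Set (Cfsg.IrrCharacter H)) (B : Set (Cfsg.IrrCharacter G)) (hind : Cfsg.IsInducedBlock M H b B) (D : Subgroup H) (hD : Cfsg.IsDefectGroup p M b D) (P : Subgroup G) (hP : Cfsg.IsDefectGroup p M B P) (x : G) (hx : x ∈ P) (hxc : ∀ w ∈ P, x * w = w * x) : ∃ g : G, g * x * g⁻¹ ∈ D.map H.subtype ∧ ∀ w ∈ D.map H.subtype, (g * x * g⁻¹) * w = w * (g * x * g⁻¹) := by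
  classical
  haveI : M.IsPrime := hM.2.1.isPrime
  haveI := Fintype.ofFinite G
  haveI := Fintype.ofFinite H
  obtain ⟨y, hy, S, rfl⟩ := id hP
  obtain ⟨w, hw, rfl⟩ := hx
  have hxc' : ∀ v ∈ S, w * v = v * w := fun v hv => Subtype.ext (hxc _ ⟨v, hv, rfl⟩)
  obtain ⟨χ, hχ⟩ := CfsgLib.Blocks.IsPBlock.nonempty hind.2.1
  obtain ⟨ξ, hξ⟩ := CfsgLib.Blocks.IsPBlock.nonempty hind.1
  have hu := CfsgLib.Blocks.not_mem_centralChar_of_defectClass hM.2.2 hind.2.1 hy S hw hxc' hχ
  have ha : CfsgLib.Blocks.IsLocClassFun M (CfsgLib.Blocks.classInd ((w : G) * y)) :=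
    CfsgLib.Blocks.isLocClassFun_classInd _
  have hres := CfsgLib.Blocks.isLocClassFun_resFun H ha
  obtain ⟨h, hh2, hh3⟩ : ∃ h : H, IsConj ((w : G) * y) (h : G) ∧
      ¬ MemLocalIdeal M (centralChar (ξ : H → ℂ) h) := by
    by_contra hcon
    haveI := Fintype.ofFinite (ConjClasses H)
    apply hu
    have h1 : MemLocalIdeal M (CfsgLib.Blocks.omega (ξ : H → ℂ)
        (CfsgLib.Blocks.resFun H (CfsgLib.Blocks.classInd ((w : G) * y)))) := by
      rw [CfsgLib.Blocks.omega_eq_sum_centralChar ξ hres.1]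
      refine CfsgLib.Blocks.MemLocalIdeal.sum' fun C _ => ?_
      set h := CfsgLib.Blocks.classRep C
      rw [CfsgLib.Blocks.resFun, CfsgLib.Blocks.classInd_apply]
      by_cases hgh : IsConj ((w : G) * y) (h : G)
      · rw [if_pos hgh, one_mul]
        by_contra hn
        exact hcon ⟨h, hgh, hn⟩
      · rw [if_neg hgh, zero_mul]; exact CfsgLib.Blocks.MemLocalIdeal.zero'
    have h2 := CfsgLib.Blocks.MemLocalIdeal.sub' h1
      (CfsgLib.Blocks.IsInducedBlock.omega_sub hind hξ hχ ha)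
    rwa [sub_sub_cancel, CfsgLib.Blocks.omega_classInd] at h2
  obtain ⟨h', hhh', -, hpart⟩ :=
    Cfsg.Agent.S0929.result p M hM b hind.1 D hD h ⟨ξ, hξ, hh3⟩
  obtain ⟨v, hv⟩ := CfsgLib.BlockOrth.exists_isPPrimePart (p := p) h'
  obtain ⟨hzD, hzc⟩ := hpart _ hv.isPPart
  obtain ⟨c, hc⟩ := isConj_iff.1 (hh2.trans (MonoidHom.map_isConj H.subtype hhh'))
  have hord : ∃ k, orderOf (w : G) = p ^ k := by
    obtain ⟨k, hk⟩ := S.isPGroup' ⟨w, hw⟩
    obtain ⟨i, -, hi⟩ := (Nat.dvd_prime_pow (Fact.out : p.Prime)).1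
      (orderOf_dvd_of_pow_eq_one (congrArg Subtype.val hk))
    exact ⟨i, by rw [Subgroup.orderOf_coe]; exact hi⟩
  have hy' : CfsgLib.BlockOrth.IsPPrimePart p ((w : G) * y) y :=
    ⟨(w : G), rfl, Subgroup.mem_centralizer_singleton_iff.1 w.2, hord,
      CfsgLib.Blocks.IsDefectClass.regular hM.2.2 hind.2.1 hy⟩
  have hveq : c * y * c⁻¹ = H.subtype v := by
    have h1 := hy'.conj c
    rw [hc] at h1
    exact h1.unique (hv.map H.subtype Subtype.val_injective)
  have hz : c * (w : G) * c⁻¹ = H.subtype (h' * v⁻¹) := by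
    rw [map_mul, map_inv, ← hveq, ← hc]
    group
  refine ⟨c, ⟨h' * v⁻¹, hzD, hz.symm⟩, ?_⟩
  rintro _ ⟨u, hu', rfl⟩
  show c * (w : G) * c⁻¹ * _ = _
  rw [hz, ← map_mul, hzc u hu', map_mul]
  exact congrArg (H.subtype u * ·) hz.symm

end Cfsg.Agent.S0930
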