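import Cfsg.Statements.S0931
import Cfsg.Agent.Lib.Blocks.HeightClasses
import Cfsg.Agent.S0930

set_option autoImplicit false
open Cfsg

set_option linter.style.haveILetI false

namespace Cfsg.Agent.S0931

/-- Let H be a subgroup of the finite group G and fix a maximal ideal M of the algebraic integers containing the prime p. If the block b of H induces the block B of G, then b has defect 0 if and only if B has defect 0. -/
theorem result {G : Type*} [Group G] [Finite G] (p : ℕ) [Fact p.Prime] (M : Ideal Cfsg.AlgInt) (hM : Cfsg.IsPModular p M) (H : Subgroup G) (b : Set (Cfsg.IrrCharacter H)) (B : Set (Cfsg.IrrCharacter G)) (hind : Cfsg.IsInducedBlock M H b B) : Cfsg.blockDefect p b = 0 ↔ Cfsg.blockDefect p B = 0 := by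
  haveI : M.IsPrime := hM.2.1.isPrime
  haveI := Fintype.ofFinite G
  haveI := Fintype.ofFinite H
  obtain ⟨D, hD⟩ := CfsgLib.Blocks.exists_isDefectGroup (p := p) hind.1
  obtain ⟨P, hP, hle⟩ := CfsgLib.Blocks.IsInducedBlock.exists_defect_le hM.2.2 hind hD
  have hb1 := CfsgLib.BlockOrth.card_defectGroup hM.2.2 hind.1 hD
  have hB1 := CfsgLib.BlockOrth.card_defectGroup hM.2.2 hind.2.1 hP
  have hone : ∀ n : ℕ, p ^ n = 1 ↔ n = 0 := fun n => by
    rw [Nat.pow_eq_one]; simp [(Fact.out : p.Prime).ne_one]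
  rw [← hone, ← hb1, ← hone, ← hB1]
  constructor
  · intro h
    by_contra hne
    haveI : Nontrivial P := (Subgroup.nontrivial_iff_ne_bot P).2 fun hbot => hne (by rw [hbot]; simp)
    obtain ⟨⟨⟨x, hx⟩, hxc⟩, hxne⟩ :=
      @exists_ne (Subgroup.center P) (CfsgLib.Blocks.IsDefectGroup.isPGroup hP).center_nontrivial 1
    obtain ⟨g, hg, -⟩ := Cfsg.Agent.S0930.result p M hM H b B hind D hD P hP x hx
      (fun u hu => (congrArg Subtype.val ((Subgroup.mem_center_iff.1 hxc) ⟨u, hu⟩)).symm)
    rw [Subgroup.eq_bot_of_card_eq D h, Subgroup.map_bot, Subgroup.mem_bot] at hg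
    apply hxne
    apply Subtype.ext
    apply Subtype.ext
    show x = 1
    have : x = g⁻¹ * (g * x * g⁻¹) * g := by group
    rw [this, hg]; group
  · intro h
    refine le_antisymm ?_ Nat.card_pos
    rw [← h, ← CfsgLib.Base.card_map_subtype D]
    exact Subgroup.card_le_of_le hle

end Cfsg.Agent.S0931
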