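import Cfsg.Statements.S0933
import Cfsg.Agent.Lib.Blocks.Small

set_option autoImplicit false
open Cfsg

set_option linter.style.haveILetI false

namespace Cfsg.Agent.S0933

/-- Let H be a subgroup of the finite group G and ξ an irreducible character of H such that the induced function ξ^G is an irreducible character of G. Then, relative to any maximal ideal M of the algebraic integers containing the prime p, the block of ξ induces the block of ξ^G. -/
theorem result {G : Type*} [Group G] [Fintype G] (p : ℕ) [Fact p.Prime] (M : Ideal Cfsg.AlgInt) (hM : Cfsg.IsPModular p M) (H : Subgroup G) (ξ : Cfsg.IrrCharacter H) (hind : Cfsg.IsIrrCharacter G (Cfsg.indFun H (ξ : H → ℂ))) : Cfsg.IsInducedBlock M H (Cfsg.blockOf M (ξ : H → ℂ)) (Cfsg.blockOf M (Cfsg.indFun H (ξ : H → ℂ))) := by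
  classical
  haveI := CfsgLib.Blocks.isPrime_of_isPModular hM
  haveI := Fintype.ofFinite H
  refine ⟨CfsgLib.Blocks.isPBlock_blockOf ξ,
    CfsgLib.Blocks.isPBlock_blockOf (⟨_, hind⟩ : Cfsg.IrrCharacter G), fun ξ' hξ' χ hχ g => ?_⟩
  have h1 := CfsgLib.Blocks.omega_sub_mem (CfsgLib.Blocks.mem_blockOf.1 hξ')
    (CfsgLib.Blocks.isLocClassFun_resFun (M := M) H (CfsgLib.Blocks.isLocClassFun_classInd g))
  rw [← CfsgLib.Blocks.inducedCentralChar_eq, ← CfsgLib.Blocks.inducedCentralChar_eq,
    CfsgLib.Blocks.inducedCentralChar_eq_centralChar_indFun H (ξ : H → ℂ) g] at h1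
  have h2 := CfsgLib.Blocks.MemLocalIdeal.sub' (CfsgLib.Blocks.mem_blockOf.1 hχ g) h1
  rwa [show ∀ a b c : ℂ, (a - b) - (a - c) = c - b from fun a b c => by ring] at h2

end Cfsg.Agent.S0933
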