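import Cfsg.Statements.S0938
import Cfsg.Agent.Lib.Blocks.NormalPPrime

set_option autoImplicit false
open Cfsg

set_option linter.style.haveILetI false

namespace Cfsg.Agent.S0938

/-- Let B be a block of the finite group G relative to a maximal ideal M of the algebraic integers containing the prime p, and let χ ∈ B. Then the kernel of B (the set of g with ψ g = ψ 1 for all ψ ∈ B) is a normal subgroup of order prime to p contained in the kernel of χ, and it contains every normal subgroup of order prime to p on which χ takes the value χ(1); that is, it is O_p' of the kernel of χ. -/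
theorem result {G : Type*} [Group G] [Finite G] (p : ℕ) [Fact p.Prime] (M : Ideal Cfsg.AlgInt) (hM : Cfsg.IsPModular p M) (B : Set (Cfsg.IrrCharacter G)) (hB : Cfsg.IsPBlock M B) (χ : Cfsg.IrrCharacter G) (hχ : χ ∈ B) : ∃ K : Subgroup G, K.Normal ∧ (K : Set G) = Cfsg.blockKer B ∧ ¬ p ∣ Nat.card K ∧ (∀ g ∈ K, (χ : G → ℂ) g = (χ : G → ℂ) 1) ∧ ∀ N : Subgroup G, N.Normal → ¬ p ∣ Nat.card N → (∀ g ∈ N, (χ : G → ℂ) g = (χ : G → ℂ) 1) → N ≤ K := by
  classical
  haveI := Fintype.ofFinite G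
  haveI := CfsgLib.Blocks.isPrime_of_isPModular hM
  haveI := CfsgLib.Chars.irrFintype G
  refine ⟨⨅ ψ : {ψ : Cfsg.IrrCharacter G // ψ ∈ B}, CfsgLib.CharApps.charKer ψ.1, ?_, ?_, ?_, ?_, ?_⟩
  · exact Subgroup.normal_iInf_normal fun ψ => CfsgLib.CharApps.charKer_normal ψ.1
  · ext g
    simp [Cfsg.blockKer, Subgroup.mem_iInf, CfsgLib.CharApps.mem_charKer, Subtype.forall]
  · intro hd
    obtain ⟨g, hg⟩ := exists_prime_orderOf_dvd_card' p hd
    have hgp : p ∣ orderOf (g : G) := by rw [Subgroup.orderOf_coe, hg]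
    have hker : ∀ ψ ∈ B, (ψ : G → ℂ) (g : G) = (ψ : G → ℂ) 1 := fun ψ hψ =>
      CfsgLib.CharApps.mem_charKer.1 (Subgroup.mem_iInf.1 g.2 ⟨ψ, hψ⟩)
    have h1 := CfsgLib.Blocks.weak_orthogonality Fact.out hM.2.2 hB
      (x := (1 : G)) (y := (g : G)) (by rw [orderOf_one]; exact (Fact.out : p.Prime).not_dvd_one) hgp
    rw [finsum_mem_eq_sum_of_inter_support_eq (t := Finset.univ.filter (· ∈ B)) _
      (by ext ψ; simp)] at h1
    have h2 : ∑ ψ ∈ Finset.univ.filter (· ∈ B),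
        ((Cfsg.charDegree (ψ : G → ℂ) * Cfsg.charDegree (ψ : G → ℂ) : ℕ) : ℂ) = 0 := by
      refine Eq.trans (Finset.sum_congr rfl fun ψ hψ => ?_) h1
      rw [hker ψ (Finset.mem_filter.1 hψ).2, CfsgLib.CharApps.deg_eq ψ, map_natCast, Nat.cast_mul]
    rw [← Nat.cast_sum, Nat.cast_eq_zero, Finset.sum_eq_zero_iff] at h2
    have h3 := h2 χ (Finset.mem_filter.2 ⟨Finset.mem_univ _, hχ⟩)
    have h4 := CfsgLib.CharApps.deg_pos χ
    rw [mul_eq_zero] at h3
    omega
  · intro g hg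
    exact CfsgLib.CharApps.mem_charKer.1 (Subgroup.mem_iInf.1 hg ⟨χ, hχ⟩)
  · intro N hNn hN hker g hg
    haveI := hNn
    refine Subgroup.mem_iInf.2 fun ψ => CfsgLib.CharApps.mem_charKer.2 ?_
    exact CfsgLib.Blocks.kernel_of_sameBlock hM.2.2 N hN
      (CfsgLib.Blocks.IsPBlock.sameBlock hB hχ ψ.2) hker hg

end Cfsg.Agent.S0938
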