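import Cfsg.Statements.S0943
import Cfsg.Agent.Lib.Blocks.Small

set_option autoImplicit false
open Cfsg

set_option linter.style.haveILetI false

namespace Cfsg.Agent.S0943

/-- Let χ be an irreducible character of the finite group G and u, v ∈ G. If χ (x * y) = χ (u * v) whenever x is conjugate to u and y is conjugate to v, then χ u * χ v = χ 1 * χ (u * v). (Multiply the class sums of u and v and apply the central character of χ.) -/
theorem result {G : Type*} [Group G] [Finite G] (χ : Cfsg.IrrCharacter G) (u v : G) (hc : ∀ x y : G, IsConj u x → IsConj v y → (χ : G → ℂ) (x * y) = (χ : G → ℂ) (u * v)) : (χ : G → ℂ) u * (χ : G → ℂ) v = (χ : G → ℂ) 1 * (χ : G → ℂ) (u * v) := by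
  classical
  haveI := Fintype.ofFinite G
  have h := CfsgLib.Blocks.omega_conv χ (CfsgLib.Blocks.isClassFunction_classInd u)
    (CfsgLib.Blocks.classInd v)
  rw [CfsgLib.Blocks.omega_classInd, CfsgLib.Blocks.omega_classInd, CfsgLib.Blocks.omega,
    CfsgLib.Blocks.sum_conv_mul] at h
  have h2 : ∑ y, ∑ z, CfsgLib.Blocks.classInd u y * CfsgLib.Blocks.classInd v z *
      (χ : G → ℂ) (y * z) = (∑ y, CfsgLib.Blocks.classInd u y) *
        (∑ z, CfsgLib.Blocks.classInd v z) * (χ : G → ℂ) (u * v) := by
    rw [Finset.sum_mul_sum, Finset.sum_mul]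
    refine Finset.sum_congr rfl fun y _ => ?_
    rw [Finset.sum_mul]
    refine Finset.sum_congr rfl fun z _ => ?_
    by_cases hy : IsConj u y
    · by_cases hz : IsConj v z
      · rw [hc y z hy hz]
      · rw [CfsgLib.Blocks.classInd_apply v z, if_neg hz]; simp
    · rw [CfsgLib.Blocks.classInd_apply u y, if_neg hy]; simp
  rw [h2, CfsgLib.Blocks.sum_classInd, CfsgLib.Blocks.sum_classInd, Cfsg.centralChar,
    Cfsg.centralChar] at h
  have h0 := CfsgLib.Chars.irr_degree_ne_zero χ.2
  have hu : ((Subgroup.centralizer ({u} : Set G)).index : ℂ) ≠ 0 :=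
    Nat.cast_ne_zero.2 Subgroup.index_ne_zero_of_finite
  have hv : ((Subgroup.centralizer ({v} : Set G)).index : ℂ) ≠ 0 :=
    Nat.cast_ne_zero.2 Subgroup.index_ne_zero_of_finite
  field_simp at h
  linear_combination -h

end Cfsg.Agent.S0943
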