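import Cfsg.Statements.S0944
import Cfsg.Agent.Lib.Chars.Basic

set_option autoImplicit false
open Cfsg

namespace Cfsg.Agent.S0944

/-- Let χ be an irreducible character of the finite group G and u an involution. Then χ u is a rational integer n with n ≡ χ 1 (mod 2). -/
theorem result {G : Type*} [Group G] [Finite G] (χ : Cfsg.IrrCharacter G) (u : G) (hu : orderOf u = 2) : ∃ n : ℤ, (χ : G → ℂ) u = (n : ℂ) ∧ (2 : ℤ) ∣ (Cfsg.charDegree (χ : G → ℂ) : ℤ) - n := by
  obtain ⟨_, n, ρ, hρ, rfl⟩ := χ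
  obtain ⟨b, μ, hμ, -, -, -, h1, -⟩ := CfsgLib.Chars.exists_eigenbasis_rep ρ u
  rw [hu] at hμ
  choose e he he' using fun i => show ∃ e : ℤ, μ i = (e : ℂ) ∧ (2 : ℤ) ∣ 1 - e by
    rcases sq_eq_one_iff.1 (hμ i) with h | h
    · exact ⟨1, by simp [h], by norm_num⟩
    · exact ⟨-1, by simp [h], by norm_num⟩
  refine ⟨∑ i, e i, ?_, ?_⟩
  · show ρ.character u = _
    rw [h1, Int.cast_sum]
    exact Finset.sum_congr rfl fun i _ => he i
  · have hd : (Cfsg.charDegree (ρ.character) : ℤ) = ∑ _i : Fin (Module.finrank ℂ (Fin n → ℂ)), (1 : ℤ) := by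
      simp [Cfsg.charDegree]
    show (2 : ℤ) ∣ (Cfsg.charDegree (ρ.character) : ℤ) - _
    rw [hd, ← Finset.sum_sub_distrib]
    exact Finset.dvd_sum fun i _ => he' i

end Cfsg.Agent.S0944
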