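import Cfsg.Statements.S0947
import Cfsg.Agent.Lib.Blocks.PrincipalBlock

set_option autoImplicit false
open Cfsg

set_option linter.style.haveILetI false

namespace Cfsg.Agent.S0947

/-- Let z ≠ 1 be a p-element of the finite group G with centralizer H, and fix a maximal ideal M of the algebraic integers containing p. (i) For every y ∈ H of order prime to p, the sum over ζ in the principal block of G of |ζ (z * y)|² equals the sum over χ in the principal block of H of |χ y|². (ii) If moreover H has a normal p-complement (its largest normal subgroup of order prime to p has p-power index), that common value is the largest power of p dividing the order of H. -/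
theorem result {G : Type*} [Group G] [Finite G] (p : ℕ) [Fact p.Prime] (M : Ideal Cfsg.AlgInt) (hM : Cfsg.IsPModular p M) (z : G) (hz : ∃ k : ℕ, orderOf z = p ^ k) (hz1 : z ≠ 1) (y : Subgroup.centralizer ({z} : Set G)) (hy : ¬ p ∣ orderOf y) : (∑ᶠ ζ ∈ Cfsg.principalBlock M G, ‖(ζ : G → ℂ) (z * (y : G))‖ ^ 2 = ∑ᶠ χ ∈ Cfsg.principalBlock M (Subgroup.centralizer ({z} : Set G)), ‖(χ : Subgroup.centralizer ({z} : Set G) → ℂ) y‖ ^ 2) ∧ ((∃ k : ℕ, (Cfsg.pPrimeCore p (Subgroup.centralizer ({z} : Set G))).index = p ^ k) → ∑ᶠ ζ ∈ Cfsg.principalBlock M G, ‖(ζ : G → ℂ) (z * (y : G))‖ ^ 2 = ((p ^ (Nat.card (Subgroup.centralizer ({z} : Set G))).factorization p : ℕ) : ℝ)) := by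
  classical
  haveI := Fintype.ofFinite G
  haveI := CfsgLib.Blocks.isPrime_of_isPModular hM
  haveI := Fintype.ofFinite (Subgroup.centralizer ({z} : Set G))
  haveI := CfsgLib.Chars.irrFintype G
  haveI := CfsgLib.Chars.irrFintype (Subgroup.centralizer ({z} : Set G))
  have h := CfsgLib.Blocks.principalBlock_normSum_centralizer hM hz y hy
  have e1 : ∀ (K : Type _) [Group K] [Fintype (Cfsg.IrrCharacter K)]
      (B : Set (Cfsg.IrrCharacter K)) (x : K),
      ∑ᶠ χ ∈ B, (χ : K → ℂ) x * (starRingEnd ℂ) ((χ : K → ℂ) x) =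
        ((∑ᶠ χ ∈ B, ‖(χ : K → ℂ) x‖ ^ 2 : ℝ) : ℂ) := by
    intro K _ _ B x
    rw [finsum_mem_eq_sum_of_inter_support_eq (t := Finset.univ.filter (· ∈ B)) _ (by ext χ; simp),
      finsum_mem_eq_sum_of_inter_support_eq (t := Finset.univ.filter (· ∈ B)) _ (by ext χ; simp),
      Complex.ofReal_sum]
    refine Finset.sum_congr rfl fun χ _ => ?_
    rw [Complex.mul_conj']
    push_cast
    rfl
  rw [e1 G, e1 (Subgroup.centralizer ({z} : Set G)), Complex.ofReal_inj] at h
  refine ⟨h, fun ⟨k, hk⟩ => ?_⟩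
  rw [h, ← Complex.ofReal_inj, ← e1 (Subgroup.centralizer ({z} : Set G))]
  haveI := Cfsg.pPrimeCore_normal p (Subgroup.centralizer ({z} : Set G))
  have hN := CfsgLib.Base.not_dvd_card_pPrimeCore p (Subgroup.centralizer ({z} : Set G))
  have hy' := CfsgLib.Blocks.index_eq_pow_mem_of_regular hk hy
  have h1 := CfsgLib.Blocks.blockCoeff_principalBlock_one hM.2.2 hN hk
  unfold Cfsg.blockCoeff at h1
  have e2 : ∑ᶠ χ ∈ Cfsg.principalBlock M (Subgroup.centralizer ({z} : Set G)),
        (χ : Subgroup.centralizer ({z} : Set G) → ℂ) y *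
          (starRingEnd ℂ) ((χ : Subgroup.centralizer ({z} : Set G) → ℂ) y) =
      ∑ᶠ χ ∈ Cfsg.principalBlock M (Subgroup.centralizer ({z} : Set G)),
        (χ : Subgroup.centralizer ({z} : Set G) → ℂ) 1 *
          (starRingEnd ℂ) ((χ : Subgroup.centralizer ({z} : Set G) → ℂ) 1) :=
    finsum_mem_congr rfl fun χ hχ => by
      rw [CfsgLib.Blocks.principalBlock_apply_normal hM.2.2 hN hχ hy']
  have hcard := (Cfsg.pPrimeCore p (Subgroup.centralizer ({z} : Set G))).card_mul_index
  have hval : (Nat.card (Subgroup.centralizer ({z} : Set G))).factorization p = k := by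
    rw [← hcard, hk, Nat.factorization_mul Nat.card_pos.ne' (pow_ne_zero _ (Fact.out : p.Prime).ne_zero),
      Finsupp.add_apply, Nat.factorization_eq_zero_of_not_dvd hN,
      (Fact.out : p.Prime).factorization_pow, Finsupp.single_eq_same, zero_add]
  rw [e2, hval, Complex.ofReal_natCast, ← hk]
  rw [← hcard, Nat.cast_mul, mul_inv, mul_assoc] at h1
  have h2 := mul_left_cancel₀ (inv_ne_zero (Nat.cast_ne_zero.2 Nat.card_pos.ne'))
    (h1.trans (mul_one _).symm)
  exact (inv_mul_eq_iff_eq_mul₀ (Nat.cast_ne_zero.2 (hk ▸ pow_ne_zero _ (Fact.out : p.Prime).ne_zero))).1 h2 |>.trans (mul_one _)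

end Cfsg.Agent.S0947
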