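import Cfsg.Statements.S0950
import Cfsg.Agent.Lib.Blocks.Q8Fusion

set_option autoImplicit false
open Cfsg

set_option linter.style.haveILetI false

namespace Cfsg.Agent.S0950

/-- Let S be a Sylow 2-subgroup of the finite group G that is isomorphic to the quaternion group of order 8, and suppose S has no normal complement in G. Then any two subgroups of order 4 of S are conjugate by an element of the normalizer of S. -/
theorem result {G : Type*} [Group G] [Finite G] (S : Sylow 2 G) (e : (S : Subgroup G) ≃* QuaternionGroup 2) (hnc : ∀ N : Subgroup G, N.Normal → ¬ Subgroup.IsComplement' N (S : Subgroup G)) (A B : Subgroup G) (hA : A ≤ S) (hB : B ≤ S) (hA4 : Nat.card A = 4) (hB4 : Nat.card B = 4) : ∃ n ∈ Subgroup.normalizer ((S : Subgroup G) : Set G), B = A.map (MulAut.conj n).toMonoidHom := by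
  haveI : Fact (Nat.Prime 2) := ⟨Nat.prime_two⟩
  obtain ⟨g, hg, φ, hφ, hcyc⟩ := CfsgLib.Blocks.exists_q8_normalizer_aut S e fun h => by
    obtain ⟨N, hN, hc⟩ := CfsgLib.Blocks.exists_complement_sylow h S
    exact hnc N hN hc
  obtain ⟨a, ha, rfl⟩ := CfsgLib.Blocks.q8_subgroup_eq_zpowers S e hA hA4
  obtain ⟨b, hb, rfl⟩ := CfsgLib.Blocks.q8_subgroup_eq_zpowers S e hB hB4
  obtain ⟨k, hk⟩ := hcyc a b ha hb
  refine ⟨g ^ k, pow_mem hg k, ?_⟩
  rw [MonoidHom.map_zpowers]
  show Subgroup.zpowers (b : G) = Subgroup.zpowers (g ^ k * (a : G) * (g ^ k)⁻¹)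
  rw [← hφ k a]
  rcases hk with hk | hk
  · rw [hk]
  · rw [hk, Subgroup.coe_inv, Subgroup.zpowers_inv]

end Cfsg.Agent.S0950
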