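import Cfsg.Statements.S0952
import Cfsg.Agent.Lib.BlockOrth.Span

set_option autoImplicit false
open scoped ComplexConjugate
open Cfsg CfsgLib.BlockOrth CfsgLib.Blocks CfsgLib.Chars

namespace Cfsg.Agent.S0952

/-- Let χ and ψ be irreducible characters of the finite group G lying in different blocks relative to a maximal ideal M of the algebraic integers containing the prime p. Then the sum of χ x * conj (ψ x) over the elements x of order prime to p is zero. -/
theorem result {G : Type*} [Group G] [Finite G] (p : ℕ) [Fact p.Prime] (M : Ideal Cfsg.AlgInt) (hM : Cfsg.IsPModular p M) (χ ψ : Cfsg.IrrCharacter G) (h : ¬ Cfsg.SameBlock M (χ : G → ℂ) (ψ : G → ℂ)) : ∑ᶠ x ∈ {x : G | ¬ p ∣ orderOf x}, (χ : G → ℂ) x * conj ((ψ : G → ℂ) x) = 0 := by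
  classical
  haveI := Fintype.ofFinite G
  haveI := CfsgLib.Blocks.isPrime_of_isPModular hM
  have h0 := pInt_eq_zero hM.2.2 (isPBlock_blockOf χ) (mem_blockOf_self χ)
    (fun hψ : ψ ∈ blockOf M (χ : G → ℂ) => h (mem_blockOf.1 hψ))
  have h1 := pInt_spec (p := p) χ ψ
  rw [h0, Int.cast_zero, pInner, mul_eq_zero, inner_def, mul_eq_zero] at h1
  obtain h1 | h1 | h1 := h1
  · exact absurd h1 (Nat.cast_ne_zero.2 (pow_ne_zero _ (Fact.out (p := p.Prime)).ne_zero))
  · exact absurd h1 (inv_ne_zero (Nat.cast_ne_zero.2 Nat.card_pos.ne'))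
  · rw [finsum_mem_def, finsum_eq_sum_of_fintype, ← h1]
    refine Finset.sum_congr rfl fun x _ => ?_
    rw [pRegularPart_apply, Set.indicator_apply]
    split_ifs <;> simp_all

end Cfsg.Agent.S0952
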