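import Cfsg.Statements.S0955
import Cfsg.Agent.Lib.Blocks.Correspondence
import Cfsg.Agent.Lib.Base.Cores

set_option autoImplicit false
open Cfsg

set_option linter.style.haveILetI false

namespace Cfsg.Agent.S0955

/-- Let D be a defect group of a block of the finite group G relative to a maximal ideal M of the algebraic integers containing the prime p. Then D is the largest normal p-subgroup of its own normalizer: O_p(N_G(D)) = D. -/
theorem result {G : Type*} [Group G] [Finite G] (p : ℕ) [Fact p.Prime] (M : Ideal Cfsg.AlgInt) (hM : Cfsg.IsPModular p M) (B : Set (Cfsg.IrrCharacter G)) (hB : Cfsg.IsPBlock M B) (D : Subgroup G) (hD : Cfsg.IsDefectGroup p M B D) : (Cfsg.pCore p (Subgroup.normalizer (D : Set G))).map (Subgroup.normalizer (D : Set G)).subtype = D := by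
  haveI : M.IsPrime := hM.2.1.isPrime
  haveI := Fintype.ofFinite G
  haveI := Fintype.ofFinite (Subgroup.normalizer (D : Set G))
  obtain ⟨b, hb, hbd, -⟩ := CfsgLib.Blocks.first_main_exists hM.2.2 hB hD
  haveI : (D.subgroupOf (Subgroup.normalizer (D : Set G))).Normal :=
    (Subgroup.normal_subgroupOf_iff_le_normalizer Subgroup.le_normalizer).2 le_rfl
  have h1 : D.subgroupOf (Subgroup.normalizer (D : Set G)) ≤ Cfsg.pCore p (Subgroup.normalizer (D : Set G)) :=
    CfsgLib.Base.le_pCore (CfsgLib.Blocks.IsDefectGroup.isPGroup hbd)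
  have h2 : Cfsg.pCore p (Subgroup.normalizer (D : Set G)) ≤ D.subgroupOf (Subgroup.normalizer (D : Set G)) :=
    CfsgLib.Blocks.IsDefectGroup.normal_le hM.2.2 hb hbd (CfsgLib.Base.isPGroup_pCore p _)
  rw [le_antisymm h2 h1, CfsgLib.Blocks.map_subtype_subgroupOf]

end Cfsg.Agent.S0955
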