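import Cfsg.Statements.S0957
import Cfsg.Agent.Lib.Blocks.Small

set_option autoImplicit false
open Cfsg

set_option linter.style.haveILetI false

namespace Cfsg.Agent.S0957

/-- Let P be a Sylow p-subgroup of the finite group G, let g, h ∈ G and let p ^ d be the order of a Sylow p-subgroup of the centralizer of g. Then the number of pairs (y, z) with y conjugate to g, z conjugate to h and z * y⁻¹ ∈ P is divisible by the order of P divided by p ^ d. -/
theorem result {G : Type*} [Group G] [Finite G] (p : ℕ) [Fact p.Prime] (P : Sylow p G) (g h : G) (S : Sylow p (Subgroup.centralizer ({g} : Set G))) : Nat.card P / Nat.card S ∣ Nat.card {yz : G × G // IsConj g yz.1 ∧ IsConj h yz.2 ∧ yz.2 * yz.1⁻¹ ∈ (P : Subgroup G)} := by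
  classical
  haveI := Fintype.ofFinite G
  letI act : MulAction (P : Subgroup G)
      {yz : G × G // IsConj g yz.1 ∧ IsConj h yz.2 ∧ yz.2 * yz.1⁻¹ ∈ (P : Subgroup G)} :=
    { smul := fun x t => ⟨((x : G) * t.1.1 * (x : G)⁻¹, (x : G) * t.1.2 * (x : G)⁻¹),
        t.2.1.trans (isConj_iff.2 ⟨x, rfl⟩), t.2.2.1.trans (isConj_iff.2 ⟨x, rfl⟩), by
          have e : (x : G) * t.1.2 * (x : G)⁻¹ * ((x : G) * t.1.1 * (x : G)⁻¹)⁻¹ =
              (x : G) * (t.1.2 * t.1.1⁻¹) * (x : G)⁻¹ := by group
          rw [e]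
          exact mul_mem (mul_mem x.2 t.2.2.2) (inv_mem x.2)⟩
      one_smul := fun t => Subtype.ext <| Prod.ext
        (show (1 : G) * t.1.1 * (1 : G)⁻¹ = _ by group) (show (1 : G) * t.1.2 * (1 : G)⁻¹ = _ by group)
      mul_smul := fun a b t => Subtype.ext <| Prod.ext
        (show ((a : G) * b) * t.1.1 * ((a : G) * b)⁻¹ =
          (a : G) * ((b : G) * t.1.1 * (b : G)⁻¹) * (a : G)⁻¹ by group)
        (show ((a : G) * b) * t.1.2 * ((a : G) * b)⁻¹ =
          (a : G) * ((b : G) * t.1.2 * (b : G)⁻¹) * (a : G)⁻¹ by group) }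
  haveI := Fintype.ofFinite (Quotient (MulAction.orbitRel (P : Subgroup G)
    {yz : G × G // IsConj g yz.1 ∧ IsConj h yz.2 ∧ yz.2 * yz.1⁻¹ ∈ (P : Subgroup G)}))
  rw [Nat.card_congr (MulAction.selfEquivSigmaOrbits (P : Subgroup G)
    {yz : G × G // IsConj g yz.1 ∧ IsConj h yz.2 ∧ yz.2 * yz.1⁻¹ ∈ (P : Subgroup G)}), Nat.card_sigma]
  refine Finset.dvd_sum fun ω _ => ?_
  set t := Quotient.out ω
  have h1 : Nat.card (MulAction.orbit (P : Subgroup G) t) *
      Nat.card (MulAction.stabilizer (P : Subgroup G) t) = Nat.card (P : Subgroup G) := by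
    rw [Nat.card_coe_set_eq, ← MulAction.index_stabilizer, Subgroup.index_mul_card]
  obtain ⟨c, hc⟩ := isConj_iff.1 t.2.1
  have h2 : Nat.card (MulAction.stabilizer (P : Subgroup G) t) ∣ Nat.card S := by
    let U : Subgroup G := ((MulAction.stabilizer (P : Subgroup G) t).map
      (P : Subgroup G).subtype).map (MulAut.conj c⁻¹).toMonoidHom
    have hU : U ≤ Subgroup.centralizer ({g} : Set G) := by
      rintro u ⟨v, ⟨s, hs, rfl⟩, rfl⟩
      have h3 : (s : G) * t.1.1 * (s : G)⁻¹ = t.1.1 := congrArg (fun r => r.1.1) (MulAction.mem_stabilizer_iff.1 hs)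
      rw [← hc, mul_inv_eq_iff_eq_mul] at h3
      rw [Subgroup.mem_centralizer_singleton_iff]
      simp only [Subgroup.coe_subtype, MulEquiv.coe_toMonoidHom, MulAut.conj_apply, inv_inv]
      calc c⁻¹ * (s : G) * c * g = c⁻¹ * ((s : G) * (c * g * c⁻¹)) * c := by group
        _ = c⁻¹ * (c * g * c⁻¹ * (s : G)) * c := by rw [h3]
        _ = g * (c⁻¹ * (s : G) * c) := by group
    have hUp : IsPGroup p U := ((P.isPGroup'.to_subgroup _).map _).map _
    obtain ⟨T, hT⟩ := (hUp.comap_subtype
      (K := Subgroup.centralizer ({g} : Set G))).exists_le_sylow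
    have h4 := Subgroup.card_dvd_of_le hT
    rw [← Subgroup.card_map_of_injective (Subgroup.centralizer ({g} : Set G)).subtype_injective,
      ← Subgroup.subgroupOf, Subgroup.map_subgroupOf_eq_of_le hU] at h4
    rw [show Nat.card (MulAction.stabilizer (P : Subgroup G) t) = Nat.card U by
      rw [Subgroup.card_map_of_injective (MulAut.conj c⁻¹).injective,
        Subgroup.card_map_of_injective (P : Subgroup G).subtype_injective], Sylow.card_eq_multiplicity S]
    rw [Sylow.card_eq_multiplicity T] at h4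
    exact h4
  obtain ⟨e, he⟩ := h2
  have hpos : 0 < Nat.card (MulAction.stabilizer (P : Subgroup G) t) := Nat.card_pos
  rw [← h1, he, mul_comm (Nat.card (MulAction.orbit (P : Subgroup G) t)),
    Nat.mul_div_mul_left _ _ hpos]
  have hdd : e ∣ Nat.card (MulAction.orbit (P : Subgroup G) t) := by
    have h7 : Nat.card S ∣ Nat.card (P : Subgroup G) := by
      obtain ⟨b, hb⟩ := S.isPGroup'.exists_card_eq
      rw [hb]
      refine P.pow_dvd_card_of_pow_dvd_card ?_
      rw [← hb]
      exact (Subgroup.card_subgroup_dvd_card _).trans (Subgroup.card_subgroup_dvd_card _)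
    rw [he, ← h1, mul_comm (Nat.card (MulAction.orbit (P : Subgroup G) t))] at h7
    exact (Nat.mul_dvd_mul_iff_left hpos).1 h7
  exact Nat.div_dvd_of_dvd hdd

end Cfsg.Agent.S0957
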