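import Cfsg.Statements.S0958
import Cfsg.Agent.Lib.Blocks.Correspondence

set_option autoImplicit false
open Cfsg

set_option linter.style.haveILetI false

namespace Cfsg.Agent.S0958

/-- Let P be a p-subgroup of the finite group G and H a subgroup with P ⊔ C_G(P) ≤ H ≤ N_G(P); fix a maximal ideal M of the algebraic integers containing p. Then a block B of G is induced by some block of H if and only if some conjugate of P is contained in a defect group of B. -/
theorem result {G : Type*} [Group G] [Finite G] (p : ℕ) [Fact p.Prime] (M : Ideal Cfsg.AlgInt) (hM : Cfsg.IsPModular p M) (P H : Subgroup G) (hP : IsPGroup p P) (hPH : P ⊔ Subgroup.centralizer (P : Set G) ≤ H) (hHN : H ≤ Subgroup.normalizer (P : Set G)) (B : Set (Cfsg.IrrCharacter G)) (hB : Cfsg.IsPBlock M B) : (∃ b : Set (Cfsg.IrrCharacter H), Cfsg.IsInducedBlock M H b B) ↔ ∃ D : Subgroup G, Cfsg.IsDefectGroup p M B D ∧ ∃ x : G, P.map (MulAut.conj x).toMonoidHom ≤ D := by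
  haveI : M.IsPrime := hM.2.1.isPrime
  haveI := Fintype.ofFinite G
  have hP' : P ≤ H := le_sup_left.trans hPH
  have hC : Subgroup.centralizer (P : Set G) ≤ H := le_sup_right.trans hPH
  constructor
  · rintro ⟨b, hind⟩
    haveI := Fintype.ofFinite H
    obtain ⟨E, hE⟩ := CfsgLib.Blocks.exists_isDefectGroup (p := p) hind.1
    haveI : (P.subgroupOf H).Normal := (Subgroup.normal_subgroupOf_iff_le_normalizer hP').2 hHN
    have hle := CfsgLib.Blocks.IsDefectGroup.normal_le hM.2.2 hind.1 hE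
      (hP.of_equiv (Subgroup.subgroupOfEquivOfLe hP').symm)
    obtain ⟨D, hD, hle'⟩ := CfsgLib.Blocks.IsInducedBlock.exists_defect_le hM.2.2 hind hE
    refine ⟨D, hD, 1, ?_⟩
    rw [CfsgLib.Blocks.map_conj_one]
    exact fun u hu => hle' ⟨⟨u, hP' hu⟩, hle (Subgroup.mem_subgroupOf.2 hu), rfl⟩
  · rintro ⟨D, ⟨g, hg, S, rfl⟩, x, hx⟩
    have hc : x⁻¹ * g * x⁻¹⁻¹ ∈ Subgroup.centralizer (P : Set G) := by
      have h1 := CfsgLib.Blocks.conj_mem_centralizer (CfsgLib.Blocks.mem_centralizer_sylow g S) x⁻¹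
      refine Subgroup.centralizer_le (fun u hu => ?_) h1
      exact ⟨_, hx ⟨u, hu, rfl⟩, by simp [mul_assoc]⟩
    refine CfsgLib.Blocks.exists_block_inducing hM.2.2 hP hP' hC hHN hB hc ?_
    rw [CfsgLib.Blocks.isClassFunction_blockCoeff B g x⁻¹]
    exact hg.2.1

end Cfsg.Agent.S0958
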