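import Cfsg.Statements.S0959
import Cfsg.Agent.Lib.Blocks.MinMax

set_option autoImplicit false
open Cfsg

set_option linter.style.haveILetI false

namespace Cfsg.Agent.S0959

/-- Let B be a block of the finite group G with defect group D (relative to a maximal ideal M of the algebraic integers containing the prime p), and let P be a p-subgroup. Then there is an element g whose idempotent coefficient for B is a local integer outside the local ideal at M and which has a conjugate centralizing P, if and only if some conjugate of P is contained in D. -/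
theorem result {G : Type*} [Group G] [Finite G] (p : ℕ) [Fact p.Prime] (M : Ideal Cfsg.AlgInt) (hM : Cfsg.IsPModular p M) (B : Set (Cfsg.IrrCharacter G)) (hB : Cfsg.IsPBlock M B) (D : Subgroup G) (hD : Cfsg.IsDefectGroup p M B D) (P : Subgroup G) (hP : IsPGroup p P) : (∃ g : G, Cfsg.MemLocalRing M (Cfsg.blockCoeff B g) ∧ ¬ Cfsg.MemLocalIdeal M (Cfsg.blockCoeff B g) ∧ ∃ c : G, IsConj g c ∧ c ∈ Subgroup.centralizer (P : Set G)) ↔ ∃ x : G, P.map (MulAut.conj x).toMonoidHom ≤ D := by
  haveI : M.IsPrime := hM.2.1.isPrime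
  haveI := Fintype.ofFinite G
  constructor
  · rintro ⟨g, -, hn, c, hgc, hc⟩
    rw [CfsgLib.Blocks.classFun_of_isConj (CfsgLib.Blocks.isClassFunction_blockCoeff B) hgc] at hn
    exact CfsgLib.Blocks.IsDefectGroup.exists_map_conj_le hM.2.2 hB hD hP hc hn
  · rintro ⟨x, hx⟩
    obtain ⟨g, hg, S, rfl⟩ := hD
    refine ⟨g, hg.1, hg.2.1, x⁻¹ * g * x⁻¹⁻¹, isConj_iff.2 ⟨x⁻¹, rfl⟩, ?_⟩
    have h1 := CfsgLib.Blocks.conj_mem_centralizer (CfsgLib.Blocks.mem_centralizer_sylow g S) x⁻¹
    refine Subgroup.centralizer_le (fun u hu => ?_) h1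
    exact ⟨_, hx ⟨u, hu, rfl⟩, by simp [mul_assoc]⟩

end Cfsg.Agent.S0959
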