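import Cfsg.Statements.S0966
import Cfsg.Agent.Lib.Blocks.Covering

set_option autoImplicit false
open Cfsg

set_option linter.style.haveILetI false

namespace Cfsg.Agent.S0966

/-- Let N be a normal subgroup of p-power index in the finite group G and b a block of N relative to a maximal ideal M of the algebraic integers containing p. Then there is exactly one block B of G containing a character whose restriction to N has a constituent in b. -/
theorem result {G : Type*} [Group G] [Fintype G] (p : ℕ) [Fact p.Prime] (M : Ideal Cfsg.AlgInt) (hM : Cfsg.IsPModular p M) (N : Subgroup G) [N.Normal] [Fintype N] (hidx : ∃ k : ℕ, N.index = p ^ k) (b : Set (Cfsg.IrrCharacter N)) (hb : Cfsg.IsPBlock M b) : ∃! B : Set (Cfsg.IrrCharacter G), Cfsg.IsPBlock M B ∧ ∃ χ ∈ B, ∃ θ ∈ b, Cfsg.classInner (fun n : N => (χ : G → ℂ) n) (θ : N → ℂ) ≠ 0 := by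
  classical
  haveI := CfsgLib.Blocks.isPrime_of_isPModular hM
  obtain ⟨k, hk⟩ := hidx
  obtain ⟨θ, hθ⟩ := CfsgLib.Blocks.IsPBlock.nonempty hb
  obtain ⟨χ, hχ⟩ := CfsgLib.Blocks.exists_character_over N θ
  refine ⟨Cfsg.blockOf M (χ : G → ℂ), ⟨CfsgLib.Blocks.isPBlock_blockOf χ, χ,
    CfsgLib.Blocks.mem_blockOf_self χ, θ, hθ, hχ⟩, ?_⟩
  rintro B ⟨hB, χ', hχ', θ', hθ', hc⟩
  refine CfsgLib.Blocks.IsPBlock.eq_of_mem hB (CfsgLib.Blocks.isPBlock_blockOf χ) hχ' ?_
  exact CfsgLib.Blocks.mem_blockOf.2 (CfsgLib.Blocks.sameBlock_of_covering_pow_index N hM.2.2 hk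
    (CfsgLib.Blocks.IsPBlock.sameBlock hb hθ hθ') hχ hc)

end Cfsg.Agent.S0966
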