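import Cfsg.Statements.S0981
import Cfsg.Agent.S0999
import Cfsg.Agent.Lib.Small.PSLPrimes
import Cfsg.Agent.S0256

set_option autoImplicit false
open Cfsg

namespace Cfsg.Agent.S0981

/-- A simple group of order 4080 is isomorphic to the projective special linear group of dimension 2 over the field with 16 elements. -/
theorem result {G : Type*} [Group G] [Finite G] [IsSimpleGroup G] (h : Nat.card G = 4080) {F : Type*} [Field F] [Fintype F] (hF : Fintype.card F = 16) : Nonempty (G ≃* Matrix.ProjectiveSpecialLinearGroup (Fin 2) F) := by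
  classical
  have hG : ¬ IsCyclic G := fun hc =>
    CfsgLib.Small.not_isMulCommutative_of_card (by rw [h]; norm_num) hc.isMulCommutative
  rcases S0999.result hG 17 (by norm_num) (by rw [h]; norm_num) (by rw [h]; norm_num) with
    ⟨F', iF, iT, hF', -, ⟨e⟩⟩ | ⟨m, F', iF, iT, hF', hp, -, ⟨e⟩⟩
  · have h2 := CfsgLib.Small.card_PSL_two_prime hF' (by decide)
    rw [← Nat.card_congr e.toEquiv, h] at h2
    norm_num at h2
  · have hc : Fintype.card F' = Fintype.card F := by omega
    obtain ⟨j⟩ := CfsgLib.Classical.nonempty_PSL_congr (ι := Fin 2)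
      (FiniteField.ringEquivOfCardEq hc)
    exact ⟨e.trans j⟩

end Cfsg.Agent.S0981
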