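import Cfsg.Statements.S0987
import Mathlib

set_option autoImplicit false
open Cfsg

namespace Cfsg.Agent.S0987

/-- If a finite group has order pqr for primes p < q < r, then its Sylow r-subgroups are normal. -/
theorem result {G : Type*} [Group G] [Finite G] (p q r : ℕ) (hp : p.Prime) (hq : q.Prime) [Fact r.Prime] (hpq : p < q) (hqr : q < r) (hG : Nat.card G = p * q * r) (R : Sylow r G) : (R : Subgroup G).Normal := by
  have hr : r.Prime := Fact.out
  have hsq : Squarefree (Nat.card G) := by
    rw [hG, Nat.squarefree_mul_iff, Nat.squarefree_mul_iff]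
    exact ⟨Nat.Coprime.mul_left ((Nat.coprime_primes hp hr).mpr (by omega))
        ((Nat.coprime_primes hq hr).mpr (by omega)),
      ⟨(Nat.coprime_primes hp hq).mpr (by omega), hp.squarefree, hq.squarefree⟩, hr.squarefree⟩
  have : IsZGroup G := IsZGroup.of_squarefree hsq
  have hcyc : IsCyclic (commutator G) := IsZGroup.isCyclic_commutator G
  have hR : Nat.card (R : Subgroup G) = r := by
    rw [R.card_eq_multiplicity]
    have hd : r ∣ Nat.card G := ⟨p * q, by rw [hG]; ring⟩
    rw [Nat.factorization_eq_one_of_squarefree hsq hr hd, pow_one]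
  have hRc : IsCyclic (R : Subgroup G) := isCyclic_of_prime_card hR
  have hpow : ∀ z ∈ (R : Subgroup G), z ^ r = 1 := fun z hz => by
    have h := Subgroup.orderOf_dvd_natCard (R : Subgroup G) hz
    rw [hR] at h
    exact orderOf_dvd_iff_pow_eq_one.mp h
  constructor
  intro x hx g
  set A := commutator G with hA
  by_cases hrA : r ∣ Nat.card A
  · -- `R` is the subgroup of order `r` of the cyclic normal subgroup `A`
    have hRA : (R : Subgroup G) ≤ A := by
      have : Fact r.Prime := ⟨hr⟩
      obtain ⟨y, hy⟩ := exists_prime_orderOf_dvd_card' (G := A) r hrA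
      have hzc : Nat.card (Subgroup.zpowers (y : G)) = r := by
        rw [Nat.card_zpowers, Subgroup.orderOf_coe, hy]
      obtain ⟨a, ha⟩ := MulAction.exists_smul_eq G
        (Sylow.ofCard (Subgroup.zpowers (y : G)) (by
          rw [hzc, Nat.factorization_eq_one_of_squarefree hsq hr ⟨p * q, by rw [hG]; ring⟩,
            pow_one])) R
      intro z hz
      rw [← ha] at hz
      obtain ⟨w, hw, rfl⟩ := hz
      have hwA : w ∈ A := Subgroup.zpowers_le.mpr y.2 hw
      exact (inferInstance : (commutator G).Normal).conj_mem w hwA a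
    have hxA : g * x * g⁻¹ ∈ A := (inferInstance : (commutator G).Normal).conj_mem x (hRA hx) g
    obtain ⟨a, ha⟩ := hcyc.exists_generator
    have key : ∀ u : A, (u : G) ^ r = 1 → (u : G) ∈ (R : Subgroup G) := by
      intro u hu
      classical
      have : Fintype A := Fintype.ofFinite _
      have hroot := IsCyclic.card_pow_eq_one_le (α := A) hr.pos
      have hsub : Finset.univ.filter (fun v : A => (v : G) ∈ (R : Subgroup G)) ⊆
          Finset.univ.filter (fun v : A => v ^ r = 1) := by
        intro v hv
        exact Finset.mem_filter.mpr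
          ⟨Finset.mem_univ _, Subtype.ext (hpow _ (Finset.mem_filter.mp hv).2)⟩
      have hcard : (Finset.univ.filter (fun v : A => (v : G) ∈ (R : Subgroup G))).card = r := by
        rw [← Fintype.card_subtype, ← Nat.card_eq_fintype_card]
        exact (Nat.card_congr (Subgroup.subgroupOfEquivOfLe hRA).toEquiv).trans hR
      have heq := Finset.eq_of_subset_of_card_le hsub (hroot.trans hcard.ge)
      have h2 : u ∈ Finset.univ.filter (fun v : A => (v : G) ∈ (R : Subgroup G)) :=
        heq ▸ Finset.mem_filter.mpr ⟨Finset.mem_univ _, Subtype.ext hu⟩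
      exact (Finset.mem_filter.mp h2).2
    exact key ⟨g * x * g⁻¹, hxA⟩ (by
      show (g * x * g⁻¹) ^ r = 1
      rw [conj_pow, hpow x hx, mul_one, mul_inv_cancel])
  · -- `R` centralises `A`, hence is central
    have hAd : Nat.card A ∣ p * q := by
      have hd : Nat.card A ∣ p * q * r := hG ▸ Subgroup.card_subgroup_dvd_card A
      exact ((hr.coprime_iff_not_dvd.mpr hrA).symm).dvd_of_dvd_mul_right hd
    have hphi : (Nat.card (MulAut A)).Coprime r := by
      rw [hcyc.card_mulAut]
      refine Nat.Coprime.coprime_dvd_left (Nat.totient_dvd_of_dvd hAd) ?_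
      rw [Nat.totient_mul ((Nat.coprime_primes hp hq).mpr (by omega)), Nat.totient_prime hp,
        Nat.totient_prime hq]
      refine Nat.Coprime.mul_left ?_ ?_ <;>
        refine ((hr.coprime_iff_not_dvd).mpr fun hd => ?_).symm <;>
        · have := hp.two_le
          have := Nat.le_of_dvd (by omega) hd
          omega
    have hcomm : ∀ c ∈ A, x * c * x⁻¹ = c := by
      intro c hc
      have : A.Normal := inferInstance
      have h1 : MulAut.conjNormal (H := A) x = 1 := by
        rw [← orderOf_eq_one_iff]
        refine Nat.eq_one_of_dvd_coprimes hphi (orderOf_dvd_natCard _) ?_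
        refine (orderOf_map_dvd _ x).trans ?_
        have := Subgroup.orderOf_dvd_natCard (R : Subgroup G) hx
        rwa [hR] at this
      have := congrArg Subtype.val (DFunLike.congr_fun h1 ⟨c, hc⟩)
      simpa using this
    have hc : g * x * g⁻¹ * x⁻¹ ∈ A := Subgroup.commutator_mem_commutator
      (Subgroup.mem_top g) (Subgroup.mem_top x)
    set c := g * x * g⁻¹ * x⁻¹ with hcdef
    have hxr : x ^ r = 1 := hpow x hx
    have hcx : Commute c x := (mul_inv_eq_iff_eq_mul.mp (hcomm c hc)).symm
    have hcr : c ^ r = 1 := by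
      have h3 : (c * x) ^ r = 1 := by
        rw [hcdef, inv_mul_cancel_right, conj_pow, hxr, mul_one, mul_inv_cancel]
      rwa [hcx.mul_pow, hxr, mul_one] at h3
    have hc1 : c = 1 := by
      rw [← orderOf_eq_one_iff]
      exact Nat.eq_one_of_dvd_coprimes (hr.coprime_iff_not_dvd.mpr hrA).symm
        (Subgroup.orderOf_dvd_natCard A hc) (orderOf_dvd_of_pow_eq_one hcr)
    rw [hcdef, mul_inv_eq_one] at hc1
    rwa [hc1]

end Cfsg.Agent.S0987
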