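import Cfsg.Statements.S0988
import Cfsg.Agent.Lib.Small.AutSmall

set_option autoImplicit false
open Cfsg

namespace Cfsg.Agent.S0988

/-- If a finite simple group has order p^2 * q * r with p, q and r prime, then its order is 60. -/
theorem result {G : Type*} [Group G] [Finite G] [IsSimpleGroup G] (p q r : ℕ) (hp : p.Prime) (hq : q.Prime) (hr : r.Prime) (hG : Nat.card G = p ^ 2 * q * r) : Nat.card G = 60 := by
  have hG2 : ¬ (Nat.card G).Prime := by
    rw [hG, sq, mul_assoc, mul_assoc]
    refine Nat.not_prime_mul hp.ne_one ?_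
    exact fun h => hp.ne_one (Nat.eq_one_of_mul_eq_one_right h)
  have hGc := CfsgLib.Small.not_isMulCommutative_of_card hG2
  have h3 := CfsgLib.Chars.three_le_card_primeFactors_of_simple
    (fun h => hGc ⟨⟨h⟩⟩) (G := G)
  rw [hG, Nat.primeFactors_mul (mul_ne_zero (pow_ne_zero _ hp.ne_zero) hq.ne_zero) hr.ne_zero,
    Nat.primeFactors_mul (pow_ne_zero _ hp.ne_zero) hq.ne_zero,
    Nat.primeFactors_prime_pow two_ne_zero hp, hq.primeFactors, hr.primeFactors] at h3
  have hpq : p ≠ q := by
    rintro rfl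
    have : ({p} ∪ {p} ∪ {r} : Finset ℕ).card ≤ 2 := by
      rw [Finset.union_self]; exact (Finset.card_union_le _ _).trans (by simp)
    omega
  have hpr : p ≠ r := by
    rintro rfl
    have : ({p} ∪ {q} ∪ {p} : Finset ℕ).card ≤ 2 := by
      rw [Finset.union_comm ({p} ∪ {q}), ← Finset.union_assoc, Finset.union_self]
      exact (Finset.card_union_le _ _).trans (by simp)
    omega
  have hqr : q ≠ r := by
    rintro rfl
    have : ({p} ∪ {q} ∪ {q} : Finset ℕ).card ≤ 2 := by
      rw [Finset.union_assoc, Finset.union_self]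
      exact (Finset.card_union_le _ _).trans (by simp)
    omega
  wlog hlt : q < r generalizing q r
  · refine this r q hr hq (by rw [hG]; ring) ?_ hpr hpq hqr.symm (by omega)
    rwa [Finset.union_right_comm]
  set s := (Nat.card G).minFac with hs
  have hsp : s.Prime := Nat.minFac_prime Finite.one_lt_card.ne'
  have hsd : s ∣ p ^ 2 * q * r := hG ▸ Nat.minFac_dvd _
  have hsq : s = p := by
    have h2 : s ^ 2 ∣ Nat.card G := CfsgLib.Small.minFac_sq_dvd hGc
    by_contra hne
    rw [hG, mul_assoc] at h2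
    have h4 : s ^ 2 ∣ q * r :=
      (Nat.Coprime.pow 2 2 ((Nat.coprime_primes hsp hp).mpr hne)).dvd_of_dvd_mul_left h2
    have hsf : Squarefree (q * r) := (Nat.squarefree_mul ((Nat.coprime_primes hq hr).mpr hqr)).mpr
      ⟨hq.squarefree, hr.squarefree⟩
    exact hsp.ne_one (Nat.isUnit_iff.mp (hsf s (by rwa [← sq])))
  have := Fact.mk hp
  obtain ⟨P⟩ := (inferInstance : Nonempty (Sylow p G))
  have hpm : ¬ p ∣ q * r := fun h => by
    rcases hp.dvd_mul.mp h with h | h
    · exact hpq ((Nat.prime_dvd_prime_iff_eq hp hq).mp h)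
    · exact hpr ((Nat.prime_dvd_prime_iff_eq hp hr).mp h)
  have hPc := CfsgLib.Small.card_sylow_eq (p := p) 2 (q * r) (by rw [hG]; ring) hpm P
  obtain ⟨hp2, h3d⟩ := CfsgLib.Small.minFac_sq hGc hsq P hPc
  subst hp2
  have h3G : 3 ∣ Nat.card G := h3d.trans
    (((Subgroup.relIndex_dvd_card _ _).trans (Subgroup.card_subgroup_dvd_card _)))
  have hq3 : q = 3 := by
    rw [hG] at h3G
    have hr2 : 2 < r := lt_of_le_of_ne hr.two_le hpr
    have hq2 : 2 < q := lt_of_le_of_ne hq.two_le hpq
    rcases Nat.prime_three.dvd_mul.mp h3G with h | h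
    · rcases Nat.prime_three.dvd_mul.mp h with h | h
      · norm_num at h
      · exact ((Nat.prime_dvd_prime_iff_eq Nat.prime_three hq).mp h).symm
    · have := (Nat.prime_dvd_prime_iff_eq Nat.prime_three hr).mp h
      omega
  subst hq3
  have := Fact.mk hr
  have hrm : ¬ r ∣ 12 := fun h => by
    have := Nat.le_of_dvd (by norm_num) h
    interval_cases r <;> omega
  have hd := CfsgLib.Small.card_sylow_dvd (p := r) (G := G) 1 12 (by rw [hG]; ring) hrm
  have h1 := CfsgLib.Small.one_lt_card_sylow hGc (p := r) ⟨12, by rw [hG]; ring⟩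
  have hm : Nat.card (Sylow r G) % r = 1 := by
    rw [card_sylow_modEq_one r G, Nat.mod_eq_of_lt hr.one_lt]
  have hle := Nat.le_of_dvd (by norm_num) hd
  have hr12 : r ≤ 11 := by
    have hlt' : r < Nat.card (Sylow r G) := by
      by_contra hge
      rcases lt_or_eq_of_le (not_lt.mp hge) with h | h
      · rw [Nat.mod_eq_of_lt h] at hm; omega
      · rw [h, Nat.mod_self] at hm; omega
    omega
  interval_cases r
  all_goals first
    | (norm_num at hr; done)
    | (rw [hG]; norm_num; done)
    | skip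
  · exfalso
    interval_cases hn : Nat.card (Sylow 7 G) <;> omega
  · obtain ⟨R⟩ := (inferInstance : Nonempty (Sylow 11 G))
    have hRc := CfsgLib.Small.card_sylow_eq (p := 11) 1 12 (by rw [hG]; norm_num) (by norm_num) R
    rw [pow_one] at hRc
    have hn : Nat.card (Sylow 11 G) = 12 := by omega
    obtain ⟨e, he1, hed, hCe⟩ := CfsgLib.Small.exists_normalizer_centralizer hGc R hRc
    have hN := CfsgLib.Small.card_normalizer_mul R
    rw [hn, hG, ← hCe, (CfsgLib.Small.sylow_succ hGc R hRc hn).1, hRc] at hN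
    omega

end Cfsg.Agent.S0988
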