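import Cfsg.Statements.S0994
import Cfsg.Agent.Lib.Small.Count

set_option autoImplicit false
open Cfsg

namespace Cfsg.Agent.S0994

/-- No finite simple group has order 1188 = 2^2 * 3^3 * 11. -/
theorem result {G : Type*} [Group G] [Finite G] [IsSimpleGroup G] : Nat.card G ≠ 1188 := by
  intro h
  have hG : ¬ IsMulCommutative G := CfsgLib.Small.not_isMulCommutative_of_card (by rw [h]; norm_num)
  have := Fact.mk (by norm_num : Nat.Prime 11)
  obtain ⟨P⟩ := (inferInstance : Nonempty (Sylow 11 G))
  have hP := CfsgLib.Small.card_sylow_eq (p := 11) 1 108 (by omega) (by norm_num) P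
  rw [pow_one] at hP
  have hd := CfsgLib.Small.card_sylow_dvd (p := 11) (G := G) 1 108 (by omega) (by norm_num)
  have h1 := CfsgLib.Small.one_lt_card_sylow hG (p := 11) (by omega)
  have hm : Nat.card (Sylow 11 G) % 11 = 1 := card_sylow_modEq_one 11 G
  have hmem : Nat.card (Sylow 11 G) ∈ (Nat.divisors 108).filter (fun d => d % 11 = 1 ∧ 1 < d) :=
    Finset.mem_filter.mpr ⟨Nat.mem_divisors.mpr ⟨hd, by norm_num⟩, hm, h1⟩
  rw [show (Nat.divisors 108).filter (fun d => d % 11 = 1 ∧ 1 < d) = {12} from by decide,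
    Finset.mem_singleton] at hmem
  obtain ⟨e, he1, hed, hCe⟩ := CfsgLib.Small.exists_normalizer_centralizer hG P hP
  have hN := CfsgLib.Small.card_normalizer_mul P
  rw [hmem, h, ← hCe, (CfsgLib.Small.sylow_succ hG P hP hmem).1, hP] at hN
  have : e = 9 := by omega
  rw [this] at hed
  norm_num at hed

end Cfsg.Agent.S0994
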