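import Cfsg.Statements.S0995
import Mathlib
import Cfsg.Agent.Lib.Involutions.Basic

set_option autoImplicit false
open Cfsg

namespace Cfsg.Agent.S0995

/-- Let G be a finite perfect group containing an element z of prime order p whose centralizer is the cyclic group it generates. Let t be the number of conjugacy classes of elements of order p. Then t divides p - 1, the number of Sylow p-subgroups has the form 1 + n * p, and |G| * t = (p - 1) * p * (1 + n * p). -/
theorem result {G : Type*} [Group G] [Finite G] (hperf : commutator G = ⊤) (p : ℕ) [Fact p.Prime] (z : G) (hz : orderOf z = p) (hC : Subgroup.centralizer ({z} : Set G) = Subgroup.zpowers z) : ∃ n t : ℕ, t = Nat.card {c : ConjClasses G // ∃ g : G, ConjClasses.mk g = c ∧ orderOf g = p} ∧ t ∣ p - 1 ∧ Nat.card (Sylow p G) = 1 + n * p ∧ Nat.card G * t = (p - 1) * p * (1 + n * p) := by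
  classical
  obtain ⟨P, hP⟩ : ∃ P : Sylow p G, Subgroup.zpowers z ≤ P :=
    (IsPGroup.of_card (n := 1) (by rw [Nat.card_zpowers, hz, pow_one])).exists_le_sylow
  have hzP : z ∈ (P : Subgroup G) := hP (Subgroup.mem_zpowers z)
  have hPz : (P : Subgroup G) = Subgroup.zpowers z := by
    refine le_antisymm ?_ hP
    haveI : Nontrivial (P : Subgroup G) :=
      ⟨⟨⟨z, hzP⟩, 1, fun h => by
        rw [Subtype.ext_iff] at h; rw [show z = 1 from h, orderOf_one] at hz
        exact (Fact.out : p.Prime).ne_one hz.symm⟩⟩
    haveI := P.isPGroup'.center_nontrivial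
    obtain ⟨⟨⟨w, hwP⟩, hw⟩, hw1⟩ := exists_ne (1 : Subgroup.center (P : Subgroup G))
    have hwz : w ∈ Subgroup.zpowers z := hC ▸ Subgroup.mem_centralizer_singleton_iff.2
      (congrArg Subtype.val (Subgroup.mem_center_iff.1 hw ⟨z, hzP⟩)).symm
    have hzw : z ∈ Subgroup.zpowers w := by
      have hwp : orderOf w = p := by
        have h := Subgroup.orderOf_dvd_natCard _ hwz
        rw [Nat.card_zpowers, hz] at h
        exact ((Fact.out : p.Prime).eq_one_or_self_of_dvd _ h).resolve_left fun h1 =>
          hw1 (Subtype.ext (Subtype.ext (orderOf_eq_one_iff.1 h1)))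
      have he : Subgroup.zpowers w = Subgroup.zpowers z :=
        Subgroup.eq_of_le_of_card_ge (Subgroup.zpowers_le.2 hwz)
          (by rw [Nat.card_zpowers, Nat.card_zpowers, hwp, hz])
      rw [he]; exact Subgroup.mem_zpowers z
    intro g hg
    rw [← hC, Subgroup.mem_centralizer_singleton_iff]
    obtain ⟨k, rfl⟩ := hzw
    exact ((show Commute g w from congrArg Subtype.val
      (Subgroup.mem_center_iff.1 hw ⟨g, hg⟩)).zpow_right k).eq
  have hPcard : Nat.card (P : Subgroup G) = p := by rw [hPz, Nat.card_zpowers, hz]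
  have hcent : ∀ g : G, orderOf g = p →
      Nat.card (Subgroup.centralizer ({g} : Set G)) = p := by
    intro g hg
    obtain ⟨Q, hQ⟩ : ∃ Q : Sylow p G, Subgroup.zpowers g ≤ Q :=
      (IsPGroup.of_card (n := 1) (by rw [Nat.card_zpowers, hg, pow_one])).exists_le_sylow
    obtain ⟨x, hx⟩ := MulAction.exists_smul_eq G P Q
    have hgQ : Subgroup.zpowers g = (Q : Subgroup G) :=
      Subgroup.eq_of_le_of_card_ge hQ (by
        rw [Nat.card_zpowers, hg, Nat.card_congr (P.equiv Q).toEquiv.symm, hPcard])
    have h1 : x * z * x⁻¹ ∈ Subgroup.zpowers g := by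
      rw [hgQ, ← hx]
      exact ⟨z, hzP, rfl⟩
    have h2 : Subgroup.zpowers (x * z * x⁻¹) = Subgroup.zpowers g :=
      Subgroup.eq_of_le_of_card_ge (Subgroup.zpowers_le.2 h1) (by
        rw [Nat.card_zpowers, Nat.card_zpowers, hg, CfsgLib.Involutions.orderOf_conj_eq, hz])
    rw [← Subgroup.centralizer_closure {g}, ← Subgroup.zpowers_eq_closure, ← h2,
      Subgroup.zpowers_eq_closure, Subgroup.centralizer_closure,
      CfsgLib.Involutions.card_centralizer_conj, hC, Nat.card_zpowers, hz]
  set t := Nat.card {c : ConjClasses G // ∃ g : G, ConjClasses.mk g = c ∧ orderOf g = p} with ht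
  set N := Nat.card (Sylow p G) with hN
  -- elements of order `p`, counted by classes and by Sylow subgroups
  have hA : Nat.card {g : G // orderOf g = p} * p = t * Nat.card G := by
    haveI : Fintype G := Fintype.ofFinite G
    rw [show Nat.card {g : G // orderOf g = p} =
      Nat.card (Σ c : {c : ConjClasses G // ∃ g : G, ConjClasses.mk g = c ∧ orderOf g = p},
        {g : G // ConjClasses.mk g = c.1}) from Nat.card_congr
      { toFun := fun g => ⟨⟨ConjClasses.mk g.1, g.1, rfl, g.2⟩, g.1, rfl⟩
        invFun := fun g => ⟨g.2.1, by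
          obtain ⟨⟨c, a, ha, hao⟩, b, hb⟩ := g
          obtain ⟨x, rfl⟩ := isConj_iff.1 (ConjClasses.mk_eq_mk_iff_isConj.1 (ha.trans hb.symm))
          rw [CfsgLib.Involutions.orderOf_conj_eq]; exact hao⟩
        left_inv := fun g => rfl
        right_inv := fun g => by
          obtain ⟨⟨c, hc⟩, b, hb⟩ := g
          change ConjClasses.mk b = c at hb
          subst hb; rfl }]
    rw [Nat.card_sigma, Finset.sum_mul, ht, Nat.card_eq_fintype_card (α := {c : ConjClasses G // _}),
      ← Finset.card_univ, ← smul_eq_mul, ← Finset.sum_const]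
    refine Finset.sum_congr rfl fun c _ => ?_
    obtain ⟨a, ha, hao⟩ := c.2
    rw [← CfsgLib.Involutions.card_conjugates_mul a, hcent a hao]
    congr 1
    exact Nat.card_congr (Equiv.subtypeEquivRight fun g => by
      rw [← ha, ConjClasses.mk_eq_mk_iff_isConj]; exact ⟨IsConj.symm, IsConj.symm⟩)
  have hB : Nat.card {g : G // orderOf g = p} = N * (p - 1) := by
    have key : ∀ g : G, orderOf g = p → ∃ Q : Sylow p G, (Q : Subgroup G) = Subgroup.zpowers g := by
      intro g hg
      obtain ⟨Q, hQ⟩ : ∃ Q : Sylow p G, Subgroup.zpowers g ≤ Q :=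
        (IsPGroup.of_card (n := 1) (by rw [Nat.card_zpowers, hg, pow_one])).exists_le_sylow
      exact ⟨Q, (Subgroup.eq_of_le_of_card_ge hQ (by
        rw [Nat.card_zpowers, hg, Nat.card_congr (P.equiv Q).toEquiv.symm, hPcard])).symm⟩
    haveI : Fintype (Sylow p G) := Fintype.ofFinite _
    rw [show Nat.card {g : G // orderOf g = p} =
      Nat.card (Σ Q : Sylow p G, {g : (Q : Subgroup G) // g ≠ 1}) from Nat.card_congr
      { toFun := fun g => ⟨(key g.1 g.2).choose, ⟨g.1, by
          rw [(key g.1 g.2).choose_spec]; exact Subgroup.mem_zpowers _⟩, fun h => by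
          have h' : g.1 = 1 := congrArg Subtype.val h
          have := g.2; rw [h', orderOf_one] at this
          exact (Fact.out : p.Prime).ne_one this.symm⟩
        invFun := fun g => ⟨g.2.1, by
          have h := Subgroup.orderOf_dvd_natCard _ g.2.1.2
          rw [Nat.card_congr (P.equiv g.1).toEquiv.symm, hPcard] at h
          exact ((Fact.out : p.Prime).eq_one_or_self_of_dvd _ h).resolve_left fun h1 =>
            g.2.2 (Subtype.ext (orderOf_eq_one_iff.1 h1))⟩
        left_inv := fun g => rfl
        right_inv := fun g => by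
          obtain ⟨Q, ⟨a, ha⟩, ha1⟩ := g
          have hao : orderOf a = p := by
            have h := Subgroup.orderOf_dvd_natCard _ ha
            rw [Nat.card_congr (P.equiv Q).toEquiv.symm, hPcard] at h
            exact ((Fact.out : p.Prime).eq_one_or_self_of_dvd _ h).resolve_left fun h1 =>
              ha1 (Subtype.ext (orderOf_eq_one_iff.1 h1))
          have hQ : Q = (key a hao).choose := Sylow.ext (by
            rw [(key a hao).choose_spec]
            exact (Subgroup.eq_of_le_of_card_ge (Subgroup.zpowers_le.2 ha) (by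
              rw [Nat.card_congr (P.equiv Q).toEquiv.symm, hPcard, Nat.card_zpowers, hao])).symm)
          subst hQ
          rfl }]
    rw [Nat.card_sigma, hN, Nat.card_eq_fintype_card (α := Sylow p G), ← Finset.card_univ,
      ← smul_eq_mul, ← Finset.sum_const]
    refine Finset.sum_congr rfl fun Q _ => ?_
    haveI : Fintype (Q : Subgroup G) := Fintype.ofFinite _
    rw [Nat.card_eq_fintype_card, Fintype.card_subtype_compl, Fintype.card_subtype_eq,
      ← Nat.card_eq_fintype_card, Nat.card_congr (P.equiv Q).toEquiv.symm, hPcard]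
  have hmod : N % p = 1 := by
    have h := card_sylow_modEq_one p G
    rwa [Nat.ModEq, Nat.mod_eq_of_lt (Fact.out : p.Prime).one_lt] at h
  have hNeq : N = 1 + N / p * p := by
    have := Nat.mod_add_div N p
    rw [hmod, mul_comm] at this
    exact this.symm
  have heq : Nat.card G * t = (p - 1) * p * N := by
    rw [hB] at hA
    calc Nat.card G * t = t * Nat.card G := mul_comm _ _
      _ = N * (p - 1) * p := hA.symm
      _ = _ := by ring
  refine ⟨N / p, t, rfl, ?_, hNeq, by rw [heq, ← hNeq]⟩
  -- `|G| = N * |N_G(P)|` and `p ∣ |N_G(P)|`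
  have hG : Nat.card G = N * Nat.card (Subgroup.normalizer ((P : Subgroup G) : Set G)) := by
    rw [hN, P.card_eq_index_normalizer]
    exact (Subgroup.index_mul_card _).symm
  obtain ⟨e, he⟩ : p ∣ Nat.card (Subgroup.normalizer ((P : Subgroup G) : Set G)) :=
    by
    have := Subgroup.card_dvd_of_le (Subgroup.le_normalizer (H := (P : Subgroup G)))
    rwa [hPcard] at this
  refine ⟨e, ?_⟩
  rw [hG, he] at heq
  have hNp : 0 < N * p := Nat.mul_pos Nat.card_pos (Fact.out : p.Prime).pos
  refine Nat.eq_of_mul_eq_mul_left hNp ?_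
  calc N * p * (p - 1) = (p - 1) * p * N := by ring
    _ = N * (p * e) * t := heq.symm
    _ = N * p * (t * e) := by ring

end Cfsg.Agent.S0995
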