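import Cfsg.Statements.S0996
import Cfsg.Agent.Lib.Brauer43.Main

set_option autoImplicit false
open Cfsg

namespace Cfsg.Agent.S0996

/-- Let G be a finite perfect group containing an element z of prime order p whose centralizer is the cyclic group it generates, and suppose the number 1 + n * p of Sylow p-subgroups satisfies n < (p + 3) / 2. Then p > 3 and G is isomorphic to the projective special linear group of dimension 2 over the field with p elements, or p - 1 is a power of 2 and G is isomorphic to that group over the field with p - 1 elements. -/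
theorem result {G : Type*} [Group G] [Finite G] (hperf : commutator G = ⊤) (p : ℕ) [Fact p.Prime] (z : G) (hz : orderOf z = p) (hC : Subgroup.centralizer ({z} : Set G) = Subgroup.zpowers z) (hn : 2 * Nat.card (Sylow p G) < (p + 1) * (p + 2)) : (∃ (F : Type) (_ : Field F) (_ : Fintype F), Fintype.card F = p ∧ 3 < p ∧ Nonempty (G ≃* Matrix.ProjectiveSpecialLinearGroup (Fin 2) F)) ∨ (∃ (m : ℕ) (F : Type) (_ : Field F) (_ : Fintype F), Fintype.card F = 2 ^ m ∧ p = 2 ^ m + 1 ∧ 3 < p ∧ Nonempty (G ≃* Matrix.ProjectiveSpecialLinearGroup (Fin 2) F)) := by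
  have hp : p.Prime := Fact.out
  haveI := Fintype.ofFinite G
  obtain ⟨P, hP⟩ := CfsgLib.BlockOrth.exists_sylow_eq hz hC
  have hPc : Nat.card (P : Subgroup G) = p := by rw [hP, Nat.card_zpowers, hz]
  obtain ⟨n, hn'⟩ : ∃ n, Nat.card (Sylow p G) = 1 + n * p := by
    refine ⟨Nat.card (Sylow p G) / p, ?_⟩
    have hmod := card_sylow_modEq_one p G
    rw [Nat.ModEq, Nat.mod_eq_of_lt hp.one_lt] at hmod
    have := Nat.div_add_mod (Nat.card (Sylow p G)) p
    rw [mul_comm]; omega
  have hno : ¬ CfsgLib.Brauer43.IsExceptional p n := fun h => by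
    have := h.bound hp.one_lt.le
    rw [hn'] at hn
    nlinarith
  obtain ⟨hiso, -, hc⟩ := CfsgLib.Brauer43.quotient hperf P hPc n hn' hno
  have hbot : Cfsg.pPrimeCore p G = ⊥ := by
    refine (Subgroup.eq_bot_iff_forall _).2 fun x hx => ?_
    have hxz : x ∈ Subgroup.zpowers z := by
      rw [← hC]
      have := hc hx
      rw [hP, Subgroup.mem_centralizer_iff] at this
      exact Subgroup.mem_centralizer_singleton_iff.2 (this z (Subgroup.mem_zpowers z)).symm
    have h1 : orderOf x ∣ p := hz ▸ orderOf_dvd_of_mem_zpowers hxz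
    rcases (Nat.dvd_prime hp).1 h1 with h2 | h2
    · exact orderOf_eq_one_iff.1 h2
    · exact absurd (h2.symm.dvd.trans (Subgroup.orderOf_dvd_natCard _ hx)) (CfsgLib.Base.not_dvd_card_pPrimeCore p G)
  haveI : (Cfsg.pPrimeCore p G).Normal := Cfsg.pPrimeCore_normal p G
  let e : G ≃* G ⧸ Cfsg.pPrimeCore p G := (QuotientGroup.quotientBot (G := G)).symm.trans
    (QuotientGroup.quotientMulEquivOfEq hbot.symm)
  rcases hiso.congr e with h | ⟨m, F, hF, hF', h1, h2, h3, ⟨i⟩⟩
  · exact Or.inl h
  · haveI : CharP F 2 := by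
      have hm : m ≠ 0 := fun h => by rw [h] at h2; omega
      have : ringChar F = 2 := FiniteField.even_card_iff_char_two.2 (by
        rw [h1]; exact Nat.even_iff.1 (Nat.even_pow.2 ⟨even_two, hm⟩))
      exact this ▸ ringChar.charP F
    exact Or.inr ⟨m, F, hF, hF', h1, h2, h3, ⟨i.trans CfsgLib.Recog.pslEquivSL⟩⟩

end Cfsg.Agent.S0996
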