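import Cfsg.Statements.S1002
import Cfsg.Agent.Lib.FT.OddOrderTheorem

set_option autoImplicit false
open Cfsg

namespace Cfsg.Agent.S1002

/-- No finite simple group has order 1004913 = 3^3 * 7 * 13 * 409. -/
theorem result {G : Type*} [Group G] [Finite G] [IsSimpleGroup G] : Nat.card G ≠ 1004913 := by
  intro h
  haveI : Group.IsSolvable G := CfsgLib.FT.isSolvable_of_odd (by rw [h]; decide)
  letI : CommGroup G := { ‹Group G› with mul_comm := fun a b => IsSimpleGroup.comm_iff_isSolvable.2 inferInstance a b }
  have hp := IsSimpleGroup.prime_card (α := G)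
  rw [h] at hp
  norm_num at hp

end Cfsg.Agent.S1002
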