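import Cfsg.Statements.S1008
import Cfsg.Agent.Lib.Small.Order168Klein

set_option autoImplicit false
open Cfsg

namespace Cfsg.Agent.S1008

/-- In a simple group of order 168 every maximal subgroup is either isomorphic to the symmetric group of degree 4 or non-abelian of order 21; the maximal subgroups of order 21 form one conjugacy class and those isomorphic to the symmetric group of degree 4 form exactly two conjugacy classes. -/
theorem result {G : Type*} [Group G] [Finite G] [IsSimpleGroup G] (h : Nat.card G = 168) : (∀ M : Subgroup G, IsCoatom M → Nonempty (↥M ≃* Equiv.Perm (Fin 4)) ∨ (Nat.card ↥M = 21 ∧ ¬ IsMulCommutative ↥M)) ∧ (∀ M M' : Subgroup G, IsCoatom M → IsCoatom M' → Nat.card ↥M = 21 → Nat.card ↥M' = 21 → ∃ g : G, M' = M.map (MulAut.conj g).toMonoidHom) ∧ ∃ M₁ M₂ : Subgroup G, IsCoatom M₁ ∧ IsCoatom M₂ ∧ Nonempty (↥M₁ ≃* Equiv.Perm (Fin 4)) ∧ Nonempty (↥M₂ ≃* Equiv.Perm (Fin 4)) ∧ (∀ g : G, M₂ ≠ M₁.map (MulAut.conj g).toMonoidHom) ∧ ∀ M : Subgroup G,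 IsCoatom M → Nonempty (↥M ≃* Equiv.Perm (Fin 4)) → ∃ g : G, M = M₁.map (MulAut.conj g).toMonoidHom ∨ M = M₂.map (MulAut.conj g).toMonoidHom := by
  open CfsgLib.Techniques CfsgLib.Small in
  have hcase : ∀ M : Subgroup G, IsCoatom M → Nat.card M = 21 →
      ∃ P : Sylow 7 G, M = Subgroup.normalizer ((P : Subgroup G) : Set G) := fun M hM hc => by
    rcases coatom_cases h hM with hP | ⟨U, hU, rfl⟩
    · exact hP
    · rw [card_normalizer_klein h hU] at hc; omega
  obtain ⟨T⟩ := (inferInstance : Nonempty (Sylow 2 G))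
  obtain ⟨U₁, U₂, hne, h1, k1, h2, k2, hall⟩ := exists_kleins h T
  refine ⟨fun M hM => ?_, fun M M' hM hM' hc hc' => ?_, Subgroup.normalizer (U₁ : Set G),
    Subgroup.normalizer (U₂ : Set G), isCoatom_normalizer_klein h k1,
    isCoatom_normalizer_klein h k2, normalizer_klein_equiv h k1, normalizer_klein_equiv h k2,
    fun g e => ?_, fun M hM hS4 => ?_⟩
  · rcases coatom_cases h hM with ⟨P, rfl⟩ | ⟨U, hU, rfl⟩
    · exact Or.inr ⟨normalizer7 h P, normalizer7_not_comm h P⟩
    · exact Or.inl (normalizer_klein_equiv h hU)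
  · have := Fact.mk (show Nat.Prime 7 by norm_num)
    obtain ⟨P, rfl⟩ := hcase M hM hc
    obtain ⟨P', rfl⟩ := hcase M' hM' hc'
    obtain ⟨g, rfl⟩ := MulAction.exists_smul_eq G P P'
    refine ⟨g, ?_⟩
    have e1 : ((g • P : Sylow 7 G) : Subgroup G) = cj g (P : Subgroup G) := by
      ext x; rw [mem_smul_sylow, mem_cj]
    show _ = cj g _
    rw [cj_normalizer, e1]
  · have e' : Subgroup.normalizer (U₂ : Set G) = cj g (Subgroup.normalizer (U₁ : Set G)) := e
    rw [cj_normalizer] at e'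
    exact klein_not_conj h T h1 h2 k1 k2 hne g
      (klein_eq_of_normalizer_eq h k2 (isKleinFour_cj k1 g) e').symm
  · rcases coatom_cases h hM with ⟨P, rfl⟩ | ⟨U, hU, rfl⟩
    · obtain ⟨f⟩ := hS4
      have e := Nat.card_congr f.toEquiv
      rw [normalizer7 h P, Nat.card_perm, Nat.card_fin] at e
      exact absurd e (by decide)
    obtain ⟨g, hg⟩ := exists_conj_klein h T hU
    refine ⟨g⁻¹, ?_⟩
    have hU' : ∀ W : Subgroup G, cj g U = W →
        Subgroup.normalizer (U : Set G) = cj g⁻¹ (Subgroup.normalizer (W : Set G)) := by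
      rintro W rfl
      rw [← cj_normalizer, cj_inv_cj]
    rcases hall _ hg (isKleinFour_cj hU g) with e | e
    · exact Or.inl (hU' _ e)
    · exact Or.inr (hU' _ e)

end Cfsg.Agent.S1008
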