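import Cfsg.Statements.S1013
import Cfsg.Agent.Lib.Small.Basic

set_option autoImplicit false
open Cfsg

namespace Cfsg.Agent.S1013

/-- Let G be a transitive permutation group of prime degree p having more than one Sylow p-subgroup, and suppose a Sylow p-subgroup P has prime index in its normalizer. Then G is simple. -/
theorem result {α : Type*} [Fintype α] [DecidableEq α] {p : ℕ} [Fact p.Prime] (hα : Fintype.card α = p) (G : Subgroup (Equiv.Perm α)) [MulAction.IsPretransitive ↥G α] (P : Sylow p ↥G) (hn : 1 < Nat.card (Sylow p ↥G)) (ht : (((P : Subgroup ↥G).subgroupOf (Subgroup.normalizer ((P : Subgroup ↥G) : Set ↥G))).index).Prime) : IsSimpleGroup ↥G := by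
  classical
  have hp : p.Prime := Fact.out
  have hαc : Nat.card α = p := by rw [Nat.card_eq_fintype_card, hα]
  have hne : Nonempty α := Nat.card_pos_iff.mp (by rw [hαc]; exact hp.pos) |>.1
  have hfac : Nat.card ↥G ∣ p.factorial := by
    have := Subgroup.card_subgroup_dvd_card G
    rwa [Nat.card_perm, hαc] at this
  have hp2 : ¬ p ^ 2 ∣ Nat.card ↥G := by
    intro h
    have h' := h.trans hfac
    rw [← Nat.mul_factorial_pred hp.ne_zero, sq] at h'
    have h2 := (Nat.Prime.dvd_factorial hp).mp (Nat.dvd_of_mul_dvd_mul_left hp.pos h')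
    have := hp.pos
    omega
  have hpG : p ∣ Nat.card ↥G := by
    obtain ⟨a⟩ := hne
    have h := MulAction.index_stabilizer_of_transitive ↥G a
    rw [hαc] at h
    exact h ▸ Subgroup.index_dvd_card _
  have hPc : Nat.card (P : Subgroup ↥G) = p := by
    obtain ⟨k, hk⟩ := P.2.exists_card_eq
    have hd := Subgroup.card_subgroup_dvd_card (P : Subgroup ↥G)
    rcases Nat.lt_or_ge k 2 with h | h
    · interval_cases k
      · exact absurd (Subgroup.card_eq_one.mp (by simpa using hk)) (P.ne_bot_of_dvd_card hpG)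
      · simpa using hk
    · exact absurd ((pow_dvd_pow p h).trans (hk ▸ hd)) hp2
  have : Nontrivial ↥G := Finite.one_lt_card_iff_nontrivial.mp
    (lt_of_lt_of_le hp.one_lt (Nat.le_of_dvd Nat.card_pos hpG))
  refine ⟨fun N hN => ?_⟩
  by_contra hcon
  push Not at hcon
  obtain ⟨hN1, hN2⟩ := hcon
  have key : ∀ M : Subgroup ↥G, M.Normal → M ≠ ⊥ → ∀ Q : Sylow p ↥G, (Q : Subgroup ↥G) ≤ M := by
    intro M hM hM1 Q
    have hpre : MulAction.IsPreprimitive ↥G α :=
      MulAction.IsPreprimitive.of_prime_card (by rw [hαc]; exact hp)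
    have hfix : MulAction.fixedPoints M α ≠ Set.univ := by
      intro hu
      apply hM1
      rw [Subgroup.eq_bot_iff_forall]
      intro m hm
      apply Subtype.ext
      apply Equiv.ext
      intro a
      exact (Set.ext_iff.mp hu a).mpr trivial ⟨m, hm⟩
    have htr : MulAction.IsPretransitive M α :=
      MulAction.IsQuasiPreprimitive.isPretransitive_of_normal (G := ↥G) hfix
    obtain ⟨a⟩ := hne
    have h := MulAction.index_stabilizer_of_transitive M a
    rw [hαc] at h
    have hpM : p ∣ Nat.card M := h ▸ Subgroup.index_dvd_card _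
    obtain ⟨y, hy⟩ := exists_prime_orderOf_dvd_card' (G := M) p hpM
    have hz : Nat.card (Subgroup.zpowers (y : ↥G)) = p := by
      rw [Nat.card_zpowers, Subgroup.orderOf_coe, hy]
    obtain ⟨S, hS⟩ := (IsPGroup.of_card (n := 1) (by rwa [pow_one]) :
      IsPGroup p (Subgroup.zpowers (y : ↥G))).exists_le_sylow
    have hSeq : (S : Subgroup ↥G) = Subgroup.zpowers (y : ↥G) :=
      (Subgroup.eq_of_le_of_card_ge hS (by
        rw [hz, S.card_eq_multiplicity, ← P.card_eq_multiplicity, hPc])).symm
    obtain ⟨g, rfl⟩ := MulAction.exists_smul_eq ↥G S Q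
    rintro x ⟨w, hw, rfl⟩
    exact hM.conj_mem w (Subgroup.zpowers_le.mpr y.2 (hSeq.le hw)) g
  have hPN := key N hN hN1
  have hfr : Subgroup.normalizer ((P : Subgroup ↥G) : Set ↥G) ⊔ N = ⊤ :=
    Sylow.normalizer_sup_eq_top' P (hPN P)
  set NG := Subgroup.normalizer ((P : Subgroup ↥G) : Set ↥G) with hNG
  have hPle : (P : Subgroup ↥G) ≤ NG ⊓ N := le_inf Subgroup.le_normalizer (hPN P)
  rcases (Nat.dvd_prime ht).mp (Subgroup.relIndex_dvd_of_le_left NG hPle) with h1 | h1
  · have : NG ≤ N := (Subgroup.relIndex_eq_one.mp h1).trans inf_le_right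
    exact hN2 (by rwa [sup_eq_right.mpr this] at hfr)
  · have hmul := Subgroup.relIndex_mul_relIndex _ _ NG hPle inf_le_left
    rw [h1] at hmul
    have hone : (P : Subgroup ↥G).relIndex (NG ⊓ N) = 1 :=
      Nat.eq_of_mul_eq_mul_right ht.pos (hmul.trans (one_mul _).symm)
    have hself : NG ⊓ N ≤ (P : Subgroup ↥G) := Subgroup.relIndex_eq_one.mp hone
    set P' : Sylow p N := P.subtype (hPN P) with hP'
    have hnorm : Subgroup.normalizer ((P' : Subgroup N) : Set N) ≤ (P' : Subgroup N) := by
      intro x hx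
      apply hself
      refine ⟨fun y => ?_, x.2⟩
      constructor
      · intro hy
        exact (hx ⟨y, hPN P hy⟩).mp hy
      · intro hy
        have hyN : y ∈ N := by
          have := hN.conj_mem _ (hPN P hy) (x : ↥G)⁻¹
          simpa [mul_assoc] using this
        exact (hx ⟨y, hyN⟩).mpr hy
    have hP'c : Nat.card (P' : Subgroup N) = p :=
      (Nat.card_congr (Subgroup.subgroupOfEquivOfLe (hPN P)).toEquiv).trans hPc
    have hcyc : IsCyclic (P' : Subgroup N) := isCyclic_of_prime_card hP'c
    have hNC : Subgroup.normalizer ((P' : Subgroup N) : Set N) ≤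
        Subgroup.centralizer ((P' : Subgroup N) : Set N) :=
      hnorm.trans (Subgroup.le_centralizer _ (h := hcyc.isMulCommutative))
    set K := (MonoidHom.transferSylow P' hNC).ker with hK
    have hKc := MonoidHom.ker_transferSylow_isComplement' P' hNC
    have hKch : K.Characteristic := by
      refine Subgroup.characteristic_iff_le_comap.mpr fun φ x hx => ?_
      rw [Subgroup.mem_comap]
      have hcop : (orderOf (φ.toMonoidHom x)).Coprime p := by
        rw [orderOf_injective _ φ.injective]
        refine Nat.Coprime.coprime_dvd_left (Subgroup.orderOf_dvd_natCard K hx) ?_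
        rw [Nat.coprime_comm, hp.coprime_iff_not_dvd]
        exact MonoidHom.not_dvd_card_ker_transferSylow P' hNC
      rw [hK, MonoidHom.mem_ker, ← orderOf_eq_one_iff]
      refine Nat.eq_one_of_dvd_coprimes hcop (orderOf_map_dvd _ _) ?_
      exact (orderOf_dvd_natCard _).trans (dvd_of_eq hP'c)
    have hKn : (K.map N.subtype).Normal := ConjAct.normal_of_characteristic_of_normal
    by_cases hK1 : K.map N.subtype = ⊥
    · rw [Subgroup.map_eq_bot_iff_of_injective _ N.subtype_injective] at hK1
      rw [← hK, hK1, Subgroup.isComplement'_bot_left] at hKc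
      have hNP : N = (P : Subgroup ↥G) :=
        le_antisymm (Subgroup.subgroupOf_eq_top.mp hKc) (hPN P)
      rw [Finite.one_lt_card_iff_nontrivial] at hn
      obtain ⟨Q, hQ⟩ := exists_ne P
      exact hQ (Sylow.ext (Q.3 P.2 (hNP ▸ hPN Q)).symm)
    · have h := key _ hKn hK1 P
      apply MonoidHom.not_dvd_card_ker_transferSylow P' hNC
      have h2 := Subgroup.card_dvd_of_le h
      rwa [hPc, Nat.card_congr (Subgroup.equivMapOfInjective _ _ N.subtype_injective).symm.toEquiv]
        at h2

end Cfsg.Agent.S1013
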