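import Cfsg.Statements.S1014
import Cfsg.Agent.Lib.Small.Count

set_option autoImplicit false
open Cfsg

namespace Cfsg.Agent.S1014

/-- No finite simple group has order 1104 = 2^4 * 3 * 23. -/
theorem result {G : Type*} [Group G] [Finite G] [IsSimpleGroup G] : Nat.card G ≠ 1104 := by
  intro h
  have hG : ¬ IsMulCommutative G := CfsgLib.Small.not_isMulCommutative_of_card (by rw [h]; norm_num)
  have := Fact.mk (by norm_num : Nat.Prime 23)
  obtain ⟨P⟩ := (inferInstance : Nonempty (Sylow 23 G))
  have hP := CfsgLib.Small.card_sylow_eq (p := 23) 1 48 (by omega) (by norm_num) P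
  rw [pow_one] at hP
  have hd := CfsgLib.Small.card_sylow_dvd (p := 23) (G := G) 1 48 (by omega) (by norm_num)
  have h1 := CfsgLib.Small.one_lt_card_sylow hG (p := 23) (by omega)
  have hm : Nat.card (Sylow 23 G) % 23 = 1 := card_sylow_modEq_one 23 G
  have hle := Nat.le_of_dvd (by norm_num) hd
  have hn : Nat.card (Sylow 23 G) = 24 := by
    obtain ⟨c, hc⟩ := hd
    have : Nat.card (Sylow 23 G) = 24 ∨ Nat.card (Sylow 23 G) = 47 := by omega
    rcases this with h' | h'
    · exact h'
    · rw [h'] at hc; omega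
  have hN := CfsgLib.Small.card_normalizer_mul P
  rw [hn, h] at hN
  have hodd := (CfsgLib.Small.sylow_succ hG P hP hn).2 (by norm_num)
  rw [Nat.odd_iff] at hodd
  omega

end Cfsg.Agent.S1014
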