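import Cfsg.Statements.S1015
import Cfsg.Agent.Lib.Small.Count

set_option autoImplicit false
open Cfsg

namespace Cfsg.Agent.S1015

/-- No finite simple group has order 1200 = 2^4 * 3 * 5^2. -/
theorem result {G : Type*} [Group G] [Finite G] [IsSimpleGroup G] : Nat.card G ≠ 1200 := by
  intro h
  have hG : ¬ IsMulCommutative G := CfsgLib.Small.not_isMulCommutative_of_card (by rw [h]; norm_num)
  have := Fact.mk (by norm_num : Nat.Prime 5)
  have hd := CfsgLib.Small.card_sylow_dvd (p := 5) (G := G) 2 48 (by omega) (by norm_num)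
  have h1 := CfsgLib.Small.one_lt_card_sylow hG (p := 5) (by omega)
  have hm : Nat.card (Sylow 5 G) % 5 = 1 := card_sylow_modEq_one 5 G
  have hmem : Nat.card (Sylow 5 G) ∈ (Nat.divisors 48).filter (fun d => d % 5 = 1 ∧ 1 < d) :=
    Finset.mem_filter.mpr ⟨Nat.mem_divisors.mpr ⟨hd, by norm_num⟩, hm, h1⟩
  rw [show (Nat.divisors 48).filter (fun d => d % 5 = 1 ∧ 1 < d) = {6, 16} from by decide] at hmem
  have h25 : Nat.card (Sylow 5 G) % 5 ^ 2 ≠ 1 := by
    simp only [Finset.mem_insert, Finset.mem_singleton] at hmem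
    omega
  obtain ⟨H, hH, d, hd1, hd5, hdvd⟩ := CfsgLib.Small.exists_subgroup_of_inter hG (p := 5) (a := 2)
    (m := 48) le_rfl (by omega) (by norm_num) h25
  have h5 := CfsgLib.Small.five_le_index hG hH
  have hfac := CfsgLib.Small.two_mul_card_dvd_factorial hG hH
  rw [h] at hfac
  have hd6 : 6 ≤ d := by omega
  have hi8 : H.index ≤ 8 := by nlinarith [Nat.le_of_dvd (by norm_num : 0 < 48) hdvd]
  have := hfac.trans (Nat.factorial_dvd_factorial hi8)
  norm_num [Nat.factorial] at this

end Cfsg.Agent.S1015
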