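import Cfsg.Statements.S1017
import Cfsg.Agent.Lib.Small.PrincipalDegrees

set_option autoImplicit false
open Cfsg

namespace Cfsg.Agent.S1017

/-- No finite simple group has order 2016 = 2^5 * 3^2 * 7. -/
theorem result {G : Type*} [Group G] [Finite G] [IsSimpleGroup G] : Nat.card G ≠ 2016 := by
  intro hN
  have hnp : ¬ (Nat.card G).Prime := by rw [hN]; norm_num
  have hG := CfsgLib.Small.not_isMulCommutative_of_card hnp
  have := Fact.mk (by norm_num : Nat.Prime 7)
  obtain ⟨P, e, hP, he, he1, hediv, hen, hmod, -⟩ := CfsgLib.Small.exists_index_three_prime (p := 7)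
    (a := 5) (b := 2) hG Nat.prime_two Nat.prime_three (by norm_num) (by norm_num)
    (by rw [hN]; norm_num)
  have hd : Nat.card (Sylow 7 G) ∈ Nat.divisors 288 :=
    Nat.mem_divisors.mpr ⟨Dvd.intro_left e (by simpa using hen), by norm_num⟩
  have hle := Nat.le_of_dvd (by norm_num) hediv
  have key : ∀ e ∈ Finset.range 7, e ∣ 6 → 1 < e → ∀ d ∈ Nat.divisors 288,
      e * d = 288 → d % 7 = 1 → False := by decide +kernel
  have hkey := key e (Finset.mem_range.mpr (by omega)) hediv he1 _ hd (by simpa using hen) hmod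
  exact hkey

end Cfsg.Agent.S1017
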