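import Cfsg.Statements.S1024
import Cfsg.Agent.Lib.Chev.Types

set_option autoImplicit false
open Cfsg

namespace Cfsg.Agent.S1024

/-- `x_r(0) = 1`, and `x_r(t) = 1` forces `t = 0`: the map `t ↦ x_r(t)` is injective. -/
theorem result {F : Type*} [Field F] (D : Cfsg.Lie.ChevalleyDatum) (hD : D ∈ [Cfsg.Lie.chevG2, Cfsg.Lie.chevB2, Cfsg.Lie.chevD4, Cfsg.Lie.chevF4, Cfsg.Lie.chevE6, Cfsg.Lie.chevE7, Cfsg.Lie.chevE8]) (r : ℕ) (hr : r < D.nroots) (t : F) :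
    D.x F r t = 1 ↔ t = 0 := by
  obtain ⟨A, h⟩ := CfsgLib.Chev.std_of_mem hD
  refine ⟨fun he => ?_, fun ht => ht ▸ CfsgLib.Chev.x_zero h.good hr⟩
  have hnr := h.good.neg_lt r hr
  have hne := h.good.neg_ne r hr
  have h2 := congrFun (CfsgLib.Chev.x_mulVec_neg (F := F) h.good hr t) (Sum.inr ⟨r, hr⟩)
  rw [he, Matrix.one_mulVec] at h2
  have hz : CfsgLib.Chev.hsum D F A r (Sum.inr ⟨r, hr⟩) = 0 := by
    rw [CfsgLib.Chev.hsum, Finset.sum_apply]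
    refine Finset.sum_eq_zero fun j hj => ?_
    have := Finset.mem_range.1 hj
    simp [CfsgLib.Chev.ev, CfsgLib.Chev.idx, show D.rank + r ≠ j by omega]
  simpa [CfsgLib.Chev.ev, CfsgLib.Chev.idx, hz, hne.symm] using h2

end Cfsg.Agent.S1024
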