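import Cfsg.Statements.S1026
import Cfsg.Agent.Lib.Chev.Types
import Cfsg.Agent.Lib.Chev.Borel

set_option autoImplicit false
open Cfsg

namespace Cfsg.Agent.S1026

/-- Every element of `U` has a unique expression `∏_{r ∈ Φ⁺} x_r(t_r)`, the product over the positive roots in increasing index order (the coefficient family `t`, supported on the positive roots, exists and is unique); and conversely every such ordered product is the matrix of an element of `U`. -/
theorem result {F : Type*} [Field F] (D : Cfsg.Lie.ChevalleyDatum) (hD : D ∈ [Cfsg.Lie.chevG2, Cfsg.Lie.chevB2, Cfsg.Lie.chevD4, Cfsg.Lie.chevF4, Cfsg.Lie.chevE6, Cfsg.Lie.chevE7, Cfsg.Lie.chevE8]) :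
    (∀ g : GL D.Idx F, g ∈ D.posUnipotent F →
      ∃! t : ℕ → F, (∀ r, ¬ D.IsPosRoot r → t r = 0) ∧
        (g : Matrix D.Idx D.Idx F) = D.wordMat F (D.posRoots.map fun r => (r, t r))) ∧
    (∀ t : ℕ → F, ∃ g : GL D.Idx F, g ∈ D.posUnipotent F ∧
      (g : Matrix D.Idx D.Idx F) = D.wordMat F (D.posRoots.map fun r => (r, t r))) := by
  obtain ⟨A, h⟩ := CfsgLib.Chev.std_of_mem hD
  constructor
  · intro g hg
    rw [← CfsgLib.Chev.UL_posRoots h.good] at hg
    obtain ⟨T, rfl⟩ := CfsgLib.Chev.exists_pw h CfsgLib.Chev.upList_posRoots hg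
    classical
    have hT : ∀ T' : ℕ → F, CfsgLib.Chev.pw h.good D.posRoots (fun r => if D.IsPosRoot r then T' r else 0)
        = CfsgLib.Chev.pw h.good D.posRoots T' := fun T' => by
      unfold CfsgLib.Chev.pw
      refine congrArg List.prod (List.map_congr_left fun r hr => ?_)
      dsimp only
      rw [if_pos (CfsgLib.Chev.posRoots_mem.1 hr)]
    refine ⟨fun r => if D.IsPosRoot r then T r else 0, ⟨fun r hr => if_neg hr, ?_⟩, ?_⟩
    · rw [← CfsgLib.Chev.pw_val h.good, hT]
    · rintro T' ⟨h0, he⟩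
      rw [← CfsgLib.Chev.pw_val h.good] at he
      funext r
      by_cases hr : D.IsPosRoot r
      · simp only [hr, if_true]
        exact (CfsgLib.Chev.pw_inj h CfsgLib.Chev.upList_posRoots (Units.ext he) r
          (CfsgLib.Chev.posRoots_mem.2 hr)).symm
      · simp only [hr, if_false]
        exact h0 r hr
  · intro t
    refine ⟨CfsgLib.Chev.pw h.good D.posRoots t, ?_, CfsgLib.Chev.pw_val h.good _ t⟩
    rw [← CfsgLib.Chev.UL_posRoots h.good]
    exact CfsgLib.Chev.pw_mem_UL h.good _ t

end Cfsg.Agent.S1026
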