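import Cfsg.Statements.S1034
import Cfsg.Agent.Lib.Chev.Types
import Cfsg.Agent.Lib.Chev.Group

set_option autoImplicit false
open Cfsg

namespace Cfsg.Agent.S1034

/-- Every element of `H` is a product `h_{p_1}(c_1) ⋯ h_{p_l}(c_l)` over the fundamental roots, with non-zero `c_i`. -/
theorem result {F : Type*} [Field F] (D : Cfsg.Lie.ChevalleyDatum) (hD : D ∈ [Cfsg.Lie.chevG2, Cfsg.Lie.chevB2, Cfsg.Lie.chevD4, Cfsg.Lie.chevF4, Cfsg.Lie.chevE6, Cfsg.Lie.chevE7, Cfsg.Lie.chevE8]) (g : GL D.Idx F) (hg : g ∈ D.diagonalSubgroup F) :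
    ∃ c : ℕ → F, (∀ i < D.rank, c i ≠ 0) ∧
      (g : Matrix D.Idx D.Idx F) = D.wordMat F ((List.range D.rank).flatMap fun i => D.hWord (D.simple i) (c i)) := by
  obtain ⟨A, h⟩ := CfsgLib.Chev.std_of_mem hD
  have gd := h.good
  rw [CfsgLib.Chev.diagonalSubgroup_eq gd] at hg
  obtain ⟨c, rfl⟩ := hg
  refine ⟨fun i => if hi : i < D.rank then (c ⟨i, hi⟩ : F) else 1,
    fun i hi => by simp [hi], ?_⟩
  have hword : ∀ k, k ≤ D.rank → D.wordMat F ((List.range k).flatMap fun i =>
      D.hWord (D.simple i) (if hi : i < D.rank then (c ⟨i, hi⟩ : F) else 1)) =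
      CfsgLib.Chev.dia D fun s => ((∏ i : Fin D.rank,
        if i.val < k then c i ^ A.cart i.val s else 1 : Fˣ) : F) := by
    intro k hk
    induction k with
    | zero => simp [CfsgLib.Chev.wordMat_nil, CfsgLib.Chev.dia_one]
    | succ k ih =>
      rw [List.range_succ, List.flatMap_append, List.flatMap_singleton, CfsgLib.Chev.wordMat_append,
        ih (by omega), dif_pos (show k < D.rank by omega)]
      show _ * D.hMat F _ _ = _
      rw [CfsgLib.Chev.hMat_simple gd (show k < D.rank by omega) (c ⟨k, _⟩).ne_zero,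
        CfsgLib.Chev.dia_mul]
      refine CfsgLib.Chev.dia_congr fun s _ => ?_
      rw [← Units.val_zpow_eq_zpow_val, ← Units.val_mul]
      congr 1
      have hk' : k < D.rank := by omega
      calc _ = (∏ i : Fin D.rank, if i.val < k then c i ^ A.cart i.val s else 1) *
            ∏ i : Fin D.rank, if i = ⟨k, hk'⟩ then c i ^ A.cart i.val s else 1 := by
            rw [Finset.prod_ite_eq', if_pos (Finset.mem_univ _)]
        _ = _ := by
            rw [← Finset.prod_mul_distrib]
            refine Finset.prod_congr rfl fun i _ => ?_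
            rcases lt_trichotomy i.val k with h' | h' | h'
            · simp [h', show i.val < k + 1 by omega, Fin.ext_iff, h'.ne]
            · simp [h', Fin.ext_iff]
            · simp [show ¬ i.val < k by omega, show ¬ i.val < k + 1 by omega, Fin.ext_iff,
                show i.val ≠ k by omega]
  rw [hword D.rank le_rfl, CfsgLib.Chev.tor_val]
  refine CfsgLib.Chev.dia_congr fun s _ => ?_
  congr 1
  exact Finset.prod_congr rfl fun i _ => (if_pos i.isLt).symm

end Cfsg.Agent.S1034
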