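import Cfsg.Statements.S1041
import Cfsg.Agent.Lib.Chev.Types
import Cfsg.Agent.Lib.Chev.Group

set_option autoImplicit false
open Cfsg

namespace Cfsg.Agent.S1041

/-- `U` and `V` generate the whole Chevalley group. -/
theorem result {F : Type*} [Field F] (D : Cfsg.Lie.ChevalleyDatum) (hD : D ∈ [Cfsg.Lie.chevG2, Cfsg.Lie.chevB2, Cfsg.Lie.chevD4, Cfsg.Lie.chevF4, Cfsg.Lie.chevE6, Cfsg.Lie.chevE7, Cfsg.Lie.chevE8]) : D.posUnipotent F ⊔ D.negUnipotent F = D.group F := by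
  obtain ⟨A, h⟩ := CfsgLib.Chev.std_of_mem hD
  have g := h.good
  rw [CfsgLib.Chev.posUnipotent_eq g, CfsgLib.Chev.negUnipotent_eq g, CfsgLib.Chev.group_eq g,
    ← Subgroup.closure_union]
  refine congrArg Subgroup.closure (Set.ext fun y => ⟨?_, ?_⟩)
  · rintro (⟨r, t, hr, rfl⟩ | ⟨r, t, hr, rfl⟩)
    · exact ⟨r, t, hr.1, rfl⟩
    · exact ⟨r, t, hr.1, rfl⟩
  · rintro ⟨r, t, hr, rfl⟩
    rcases g.pos_or_neg r hr with hp | hn
    · exact Or.inl ⟨r, t, (g.pos_iff r hr).2 hp, rfl⟩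
    · exact Or.inr ⟨r, t, (g.negRoot_iff r hr).2 hn, rfl⟩

end Cfsg.Agent.S1041
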