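import Cfsg.Statements.S1072
import Cfsg.Agent.Lib.Chev.Twist.Fam.F4

set_option autoImplicit false
open Cfsg

namespace Cfsg.Agent.S1072

open CfsgLib.Chev

/-- ²F₄(2^(2m+1)) is simple for `m ≥ 1`. -/
theorem result {K : Type*} [Field K] [Fintype K] {m : ℕ} (hm : 1 ≤ m) (hK : Fintype.card K = 2 ^ (2 * m + 1)) :
    IsSimpleGroup ↥(Cfsg.Lie.twistedF4 K (2 ^ m)) ∧ ¬ IsMulCommutative ↥(Cfsg.Lie.twistedF4 K (2 ^ m)) := by
  obtain ⟨hc, σ, hσ, hi⟩ := F42.exists_sigma hK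
  rw [F42.twisted_eq_fix hσ hi]
  have h4 : 4 ≤ Fintype.card K := by
    rw [hK]
    calc 4 = 2 ^ 2 := rfl
      _ ≤ 2 ^ (2 * m + 1) := Nat.pow_le_pow_right two_pos (by omega)
  exact (F42.split hi).simple (F42.marked hi) F42.top (by decide) (F42.perfect hσ hi h4)

end Cfsg.Agent.S1072
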