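import Cfsg.Statements.S1073
import Cfsg.Agent.Lib.Chev.Twist.Fam.G2

set_option autoImplicit false
open Cfsg

namespace Cfsg.Agent.S1073

open CfsgLib.Chev

/-- ²G₂(3^(2m+1)) is simple for `m ≥ 1`. -/
theorem result {K : Type*} [Field K] [Fintype K] {m : ℕ} (hm : 1 ≤ m) (hK : Fintype.card K = 3 ^ (2 * m + 1)) :
    IsSimpleGroup ↥(Cfsg.Lie.twistedG2 K (3 ^ m)) ∧ ¬ IsMulCommutative ↥(Cfsg.Lie.twistedG2 K (3 ^ m)) := by
  obtain ⟨hc, h4, σ, hσ, hi⟩ := G22.exists_sigma hK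
  rw [G22.twisted_eq_fix hσ hi h4]
  obtain ⟨y, hy⟩ := G22.exists_outside hm hK
  exact (G22.split hi).simple (G22.marked hi) G22.top (by decide) (G22.perfect hσ hi h4 hy)

end Cfsg.Agent.S1073
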