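import Cfsg.Statements.S1079
import Cfsg.Agent.Lib.Steinberg.Embed
import Cfsg.Agent.Lib.Steinberg.Data
import Cfsg.Agent.S2397


set_option autoImplicit false
open Cfsg

namespace Cfsg.Agent.S1079

/-- `|Z(Ḡ)| = gcd(3, q-1)` for E₆ and `gcd(2, q-1)` for E₇ over a field with `q` elements (the centre is dual to the weight lattice modulo the root lattice). -/
theorem result {K : Type*} [Field K] [Fintype K] {q : ℕ} (hq : Fintype.card K = q)
    (p : Cfsg.Lie.ChevalleyDatum × ℕ) (hp : p ∈ [(Cfsg.Lie.chevE6, 3), (Cfsg.Lie.chevE7, 2)]) :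
    Nat.card (Subgroup.center (p.1.SteinbergGroup K)) = Nat.gcd p.2 (q - 1) := by
    classical
    have he8 : Function.Injective (CfsgLib.Chev.tor Cfsg.Lie.chevE8 CfsgLib.Chev.auxE8 :
        (Fin Cfsg.Lie.chevE8.rank → Kˣ) →* GL Cfsg.Lie.chevE8.Idx K) :=
      CfsgLib.Steinberg.tor_injective CfsgLib.Chev.stdE8.good
        ((by decide : (![1, 1, 1, 1, 1, 1, 1, 1] : Fin 8 → ℕ) = fun _ => 1) ▸ CfsgLib.Chev.smithE8)
    simp only [List.mem_cons, List.not_mem_nil, or_false] at hp
    rcases hp with rfl | rfl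
    · obtain ⟨e, -⟩ := Cfsg.Agent.S2397.result (K := K) Cfsg.Lie.chevE6 (by simp) (fun h => by
        simp only [List.mem_cons, List.not_mem_nil, or_false] at h
        rcases h with h | h <;> exact absurd (congrArg Cfsg.Lie.ChevalleyDatum.rank h) (by decide))
      rw [← Nat.card_congr (Subgroup.centerCongr e).toEquiv,
        CfsgLib.Steinberg.card_center CfsgLib.Chev.stdE6 CfsgLib.Steinberg.splitE6 CfsgLib.Chev.stdE8
          CfsgLib.Steinberg.emb68 he8 CfsgLib.Chev.smithE6, hq]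
      show (∏ i : Fin 6, Nat.gcd ((![1, 1, 1, 1, 1, 3] : Fin 6 → ℕ) i) (q - 1)) = _
      simp [Fin.prod_univ_succ]
    · obtain ⟨e, -⟩ := Cfsg.Agent.S2397.result (K := K) Cfsg.Lie.chevE7 (by simp) (fun h => by
        simp only [List.mem_cons, List.not_mem_nil, or_false] at h
        rcases h with h | h <;> exact absurd (congrArg Cfsg.Lie.ChevalleyDatum.rank h) (by decide))
      rw [← Nat.card_congr (Subgroup.centerCongr e).toEquiv,
        CfsgLib.Steinberg.card_center CfsgLib.Chev.stdE7 CfsgLib.Steinberg.splitE7 CfsgLib.Chev.stdE8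
          CfsgLib.Steinberg.emb78 he8 CfsgLib.Chev.smithE7, hq]
      show (∏ i : Fin 7, Nat.gcd ((![1, 1, 1, 1, 1, 1, 2] : Fin 7 → ℕ) i) (q - 1)) = _
      simp [Fin.prod_univ_succ]

end Cfsg.Agent.S1079
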