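import Cfsg.Statements.S1080
import Cfsg.Agent.Lib.Chev.Types
import Cfsg.Agent.Lib.Chev.Group

set_option autoImplicit false
open Cfsg

namespace Cfsg.Agent.S1080

/-- Field automorphisms: for every field automorphism `f` there is a group automorphism sending each `x_r(t)` to `x_r(f t)`. -/
theorem result {F : Type*} [Field F] (D : Cfsg.Lie.ChevalleyDatum) (hD : D ∈ [Cfsg.Lie.chevG2, Cfsg.Lie.chevB2, Cfsg.Lie.chevD4, Cfsg.Lie.chevF4, Cfsg.Lie.chevE6, Cfsg.Lie.chevE7, Cfsg.Lie.chevE8]) (f : F ≃+* F) :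
    ∃ α : ↥(D.group F) ≃* ↥(D.group F), ∀ (g : ↥(D.group F)) (r : ℕ) (t : F), r < D.nroots →
      ((g : GL D.Idx F) : Matrix D.Idx D.Idx F) = D.x F r t → ((α g : GL D.Idx F) : Matrix D.Idx D.Idx F) = D.x F r (f t) := by
  obtain ⟨A, h⟩ := CfsgLib.Chev.std_of_mem hD
  have gd := h.good
  let e : GL D.Idx F ≃* GL D.Idx F := Units.mapEquiv f.mapMatrix.toMulEquiv
  have he : ∀ y : GL D.Idx F, ((e y : GL D.Idx F) : Matrix D.Idx D.Idx F) =
      (y : Matrix D.Idx D.Idx F).map f := fun y => rfl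
  have hx : ∀ r t, e (CfsgLib.Chev.xG gd r t) = CfsgLib.Chev.xG gd r (f t) := by
    intro r t
    apply Units.ext
    rw [he, CfsgLib.Chev.xG_val, CfsgLib.Chev.xG_val]
    exact CfsgLib.Chev.x_map f.toRingHom r t
  have hmap : (D.group F).map e.toMonoidHom = D.group F := by
    rw [CfsgLib.Chev.group_eq gd, MonoidHom.map_closure]
    refine congrArg Subgroup.closure (Set.ext fun y => ⟨?_, ?_⟩)
    · rintro ⟨_, ⟨r, t, hr, rfl⟩, rfl⟩
      exact ⟨r, f t, hr, hx r t⟩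
    · rintro ⟨r, t, hr, rfl⟩
      exact ⟨_, ⟨r, f.symm t, hr, rfl⟩, by simpa using hx r (f.symm t)⟩
  refine ⟨(e.subgroupMap (D.group F)).trans (MulEquiv.subgroupCongr hmap), fun g r t _ hg => ?_⟩
  show ((e (g : GL D.Idx F) : GL D.Idx F) : Matrix D.Idx D.Idx F) = _
  rw [he, hg]
  exact CfsgLib.Chev.x_map f.toRingHom r t

end Cfsg.Agent.S1080
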