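import Cfsg.Statements.S1081
import Cfsg.Agent.Lib.Chev.Twist.GraphData

set_option autoImplicit false
open Cfsg

namespace Cfsg.Agent.S1081

open CfsgLib.Chev in
lemma key {F : Type*} [Field F] {D : Cfsg.Lie.ChevalleyDatum} {A : CfsgLib.Chev.Aux} (g : Good D A)
    {G : GSym} (v : G.Valid D A) {pi : List ℕ} (hpi : G.pi = pi) :
    ∃ α : ↥(D.group F) ≃* ↥(D.group F), ∀ (y : ↥(D.group F)) (i : ℕ) (t : F), i < D.rank →
      (((y : GL D.Idx F) : Matrix D.Idx D.Idx F) = D.x F (D.simple i) t →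
        ((α y : GL D.Idx F) : Matrix D.Idx D.Idx F) = D.x F (D.simple (pi.getD i 0)) t) ∧
      (((y : GL D.Idx F) : Matrix D.Idx D.Idx F) = D.x F (D.neg (D.simple i)) t →
        ((α y : GL D.Idx F) : Matrix D.Idx D.Idx F) = D.x F (D.neg (D.simple (pi.getD i 0))) t) := by
  subst hpi
  refine ⟨GSym.aut g v, fun y i t hi => ⟨fun hy => ?_, fun hy => ?_⟩⟩
  · obtain rfl : y = ⟨xG g (D.simple i) t, xG_mem_group g _ _⟩ := Subtype.ext ((eq_xG_iff g).1 hy)
    rw [GSym.aut_xG g v (g.simple_lt i hi), v.r_simple i hi, v.e_simple i hi, xG_val]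
    simp [GSym.p]
  · have hs := g.simple_lt i hi
    obtain rfl : y = ⟨xG g (D.neg (D.simple i)) t, xG_mem_group g _ _⟩ :=
      Subtype.ext ((eq_xG_iff g).1 hy)
    rw [GSym.aut_xG g v (neg_lt' g hs), g.neg_eq _ hs, v.r_neg _ hs, v.e_neg _ hs, v.r_simple i hi,
      v.e_simple i hi, g.neg_eq _ (g.simple_lt _ (v.p_lt i hi) : D.simple (G.pi.getD i 0) < D.nroots),
      xG_val]
    simp [GSym.p]


/-- Graph automorphisms: for E₆ with ρ = (p₁ p₆)(p₃ p₅) and for D₄ with ρ the 3-cycle on the outer nodes there is a group automorphism sending `x_p(t) ↦ x_{ρ(p)}(t)` and `x_{-p}(t) ↦ x_{-ρ(p)}(t)` for every fundamental root `p`. -/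
theorem result {F : Type*} [Field F] (p : Cfsg.Lie.ChevalleyDatum × List ℕ)
    (hp : p ∈ [(Cfsg.Lie.chevE6, [5, 1, 4, 3, 2, 0]), (Cfsg.Lie.chevD4, [2, 1, 3, 0]), (Cfsg.Lie.chevD4, [3, 1, 0, 2])]) :
    ∃ α : ↥(p.1.group F) ≃* ↥(p.1.group F), ∀ (g : ↥(p.1.group F)) (i : ℕ) (t : F), i < p.1.rank →
      (((g : GL p.1.Idx F) : Matrix p.1.Idx p.1.Idx F) = p.1.x F (p.1.simple i) t →
        ((α g : GL p.1.Idx F) : Matrix p.1.Idx p.1.Idx F) = p.1.x F (p.1.simple (p.2.getD i 0)) t) ∧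
      (((g : GL p.1.Idx F) : Matrix p.1.Idx p.1.Idx F) = p.1.x F (p.1.neg (p.1.simple i)) t →
        ((α g : GL p.1.Idx F) : Matrix p.1.Idx p.1.Idx F) = p.1.x F (p.1.neg (p.1.simple (p.2.getD i 0))) t) := by
  simp only [List.mem_cons, List.not_mem_nil, or_false] at hp
  rcases hp with rfl | rfl | rfl
  · exact key CfsgLib.Chev.stdE6.good CfsgLib.Chev.symE6_valid rfl
  · exact key CfsgLib.Chev.stdD4.good CfsgLib.Chev.symD4a_valid rfl
  · exact key CfsgLib.Chev.stdD4.good CfsgLib.Chev.symD4b_valid rfl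

end Cfsg.Agent.S1081
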