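import Cfsg.Statements.S1095
import Cfsg.Agent.Lib.Chev.Types

set_option autoImplicit false
open Cfsg

namespace Cfsg.Agent.S1095

/-- `n_p` (p = p_{i+1} fundamental) is the signed monomial matrix `h_{p_j} ↦ h_{p_j} - A_{p_j,p} h_p`, `e_s ↦ η_s e_{w_p(s)}`, with `η_s = ±1`, `η_p = η_{-p} = -1`, `η_s η_{w_p(s)} = (-1)^{A_{p,s}}`, `η_s η_{-s} = 1`. -/
theorem result {F : Type*} [Field F] (D : Cfsg.Lie.ChevalleyDatum) (hD : D ∈ [Cfsg.Lie.chevG2, Cfsg.Lie.chevB2, Cfsg.Lie.chevD4, Cfsg.Lie.chevF4, Cfsg.Lie.chevE6, Cfsg.Lie.chevE7, Cfsg.Lie.chevE8]) (i : ℕ) (hi : i < D.rank) :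
    ∃ η : ℕ → ℤ, (∀ s < D.nroots, η s = 1 ∨ η s = -1) ∧ η (D.simple i) = -1 ∧ η (D.neg (D.simple i)) = -1 ∧
      (∀ s < D.nroots, η s * η (D.reflectRoot i s) = (-1) ^ (D.cartan i s).natAbs ∧ η s * η (D.neg s) = 1) ∧
      D.nMat F (D.simple i) 1 = Matrix.of (fun (row col : D.Idx) =>
        Sum.elim
          (fun j' : Fin D.rank => Sum.elim
            (fun j : Fin D.rank => (if j' = j then (1 : F) else 0) - (if (j' : ℕ) = i then ((D.cartan j (D.simple i) : ℤ) : F) else 0))
            (fun _ => (0 : F)) col)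
          (fun s' : Fin D.nroots => Sum.elim
            (fun _ => (0 : F))
            (fun s : Fin D.nroots => if (s' : ℕ) = D.reflectRoot i s then ((η s : ℤ) : F) else 0) col)
          row) := by
  obtain ⟨A, h⟩ := CfsgLib.Chev.std_of_mem hD
  have g := h.good
  have hp := g.simple_lt i hi
  refine ⟨fun s => A.eta i s, fun s hs => g.eta_sign i hi s hs, g.eta_simple i hi, ?_, ?_, ?_⟩
  · dsimp only
    rw [g.neg_eq _ hp, CfsgLib.Chev.eta_neg_eq g hi hp]
    exact g.eta_simple i hi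
  · intro s hs
    rw [g.reflectRoot_eq i hi s hs, g.cart_eq i hi s hs, g.neg_eq s hs]
    exact ⟨g.eta_mul i hi s hs, g.eta_neg i hi s hs⟩
  · ext row col
    have hc := CfsgLib.Chev.idx_lt col
    have key := congrFun (CfsgLib.Chev.mulVec_ev (D.nMat F (D.simple i) 1) col) row
    rw [← key, Matrix.of_apply]
    rcases col with j | s
    · have hk := congrFun (CfsgLib.Chev.nM_h (F := F) g hi j.isLt) row
      show (D.nMat F (D.simple i) 1).mulVec (CfsgLib.Chev.ev D F j.val) row = _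
      rw [hk]
      rcases row with j' | s'
      · simp [CfsgLib.Chev.ev, CfsgLib.Chev.idx, Fin.ext_iff, g.cart_eq j.val j.isLt _ hp]
        by_cases hji : j'.val = i <;> simp [hji] <;> split_ifs <;> simp_all
      · have := j.isLt
        simp [CfsgLib.Chev.ev, CfsgLib.Chev.idx, show D.rank + s'.val ≠ j.val by omega,
          show D.rank + s'.val ≠ i by omega]
    · have hk := congrFun (CfsgLib.Chev.nM_root (F := F) g hi s.isLt) row
      show (D.nMat F (D.simple i) 1).mulVec (CfsgLib.Chev.ev D F (D.rank + s.val)) row = _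
      rw [hk]
      rcases row with j' | s'
      · have := j'.isLt
        simp [CfsgLib.Chev.ev, CfsgLib.Chev.idx, show j'.val ≠ D.rank + A.refl i s.val by omega]
      · simp [CfsgLib.Chev.ev, CfsgLib.Chev.idx, g.reflectRoot_eq i hi s.val s.isLt]

end Cfsg.Agent.S1095
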