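import Cfsg.Statements.S1098
import Cfsg.Agent.Lib.Chev.Twist.SpecialData

set_option autoImplicit false
open Cfsg

namespace Cfsg.Agent.S1098
open CfsgLib.Chev

open CfsgLib.Chev in
lemma key {K : Type*} [Field K] {D : Cfsg.Lie.ChevalleyDatum} {A : CfsgLib.Chev.Aux} {I : Iso}
    [CharP K I.p] (h : Std D A) (hC : conn D A = true) (v : I.Valid D A)
    (hperf : ∀ x : K, ∃ y : K, y ^ I.p = x) {L : List (ℕ × ℕ)}
    (hL : ∀ i < D.rank, I.r (D.simple i) = D.simple (L.getD i (0, 1)).1 ∧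
      I.r (D.neg (D.simple i)) = D.neg (D.simple (L.getD i (0, 1)).1) ∧
      I.l (D.simple i) = (L.getD i (0, 1)).2 ∧ I.l (D.neg (D.simple i)) = (L.getD i (0, 1)).2) :
    ∃ α : ↥(D.group K) ≃* ↥(D.group K), ∀ (g : ↥(D.group K)) (i : ℕ) (t : K), i < D.rank →
      (((g : GL D.Idx K) : Matrix D.Idx D.Idx K) = D.x K (D.simple i) t →
        ((α g : GL D.Idx K) : Matrix D.Idx D.Idx K) =
          D.x K (D.simple (L.getD i (0, 1)).1) (t ^ (L.getD i (0, 1)).2)) ∧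
      (((g : GL D.Idx K) : Matrix D.Idx D.Idx K) = D.x K (D.neg (D.simple i)) t →
        ((α g : GL D.Idx K) : Matrix D.Idx D.Idx K) =
          D.x K (D.neg (D.simple (L.getD i (0, 1)).1)) (t ^ (L.getD i (0, 1)).2)) := by
  obtain ⟨α, hα⟩ := Iso.exists_aut (F := K) h hC v hperf
  refine ⟨α, fun y i t hi => ⟨fun hy => ?_, fun hy => ?_⟩⟩ <;> obtain ⟨e1, e2, e3, e4⟩ := hL i hi
  · obtain rfl : y = ⟨xG h.good (D.simple i) t, xG_mem_group h.good _ _⟩ :=
      Subtype.ext ((eq_xG_iff h.good).1 hy)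
    rw [hα _ (h.good.simple_lt i hi) t, e1, e3, xG_val]
  · obtain rfl : y = ⟨xG h.good (D.neg (D.simple i)) t, xG_mem_group h.good _ _⟩ :=
      Subtype.ext ((eq_xG_iff h.good).1 hy)
    have hlt : D.neg (D.simple i) < D.nroots := by
      rw [h.good.neg_eq _ (h.good.simple_lt i hi)]; exact h.good.neg_lt _ (h.good.simple_lt i hi)
    rw [hα _ hlt t, e2, e4, xG_val]


/-- Graph automorphisms in characteristic 2 (K perfect): for B₂ (a short, b long) `x_a(t) ↦ x_b(t²)`, `x_b(t) ↦ x_a(t)`, and for F₄ (p₁, p₂ short, p₃, p₄ long) `x_{p₁}(t) ↦ x_{p₄}(t²)`, `x_{p₂}(t) ↦ x_{p₃}(t²)`, `x_{p₃}(t) ↦ x_{p₂}(t)`, `x_{p₄}(t) ↦ x_{p₁}(t)`, likewise on the negatives, extend to an automorphism of the group. -/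
theorem result {K : Type*} [Field K] [CharP K 2] (hperf : ∀ x : K, ∃ y : K, y ^ 2 = x)
    (p : Cfsg.Lie.ChevalleyDatum × List (ℕ × ℕ))
    (hp : p ∈ [(Cfsg.Lie.chevB2, [(1, 2), (0, 1)]), (Cfsg.Lie.chevF4, [(3, 2), (2, 2), (1, 1), (0, 1)])]) :
    ∃ α : ↥(p.1.group K) ≃* ↥(p.1.group K), ∀ (g : ↥(p.1.group K)) (i : ℕ) (t : K), i < p.1.rank →
      (((g : GL p.1.Idx K) : Matrix p.1.Idx p.1.Idx K) = p.1.x K (p.1.simple i) t →
        ((α g : GL p.1.Idx K) : Matrix p.1.Idx p.1.Idx K) = p.1.x K (p.1.simple (p.2.getD i (0, 1)).1) (t ^ (p.2.getD i (0, 1)).2)) ∧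
      (((g : GL p.1.Idx K) : Matrix p.1.Idx p.1.Idx K) = p.1.x K (p.1.neg (p.1.simple i)) t →
        ((α g : GL p.1.Idx K) : Matrix p.1.Idx p.1.Idx K) = p.1.x K (p.1.neg (p.1.simple (p.2.getD i (0, 1)).1)) (t ^ (p.2.getD i (0, 1)).2)) := by
  haveI : Fact (Nat.Prime 2) := ⟨Nat.prime_two⟩
  simp only [List.mem_cons, List.not_mem_nil, or_false] at hp
  rcases hp with rfl | rfl
  · haveI : CharP K isoB2.p := ‹CharP K 2›
    exact key stdB2 conn_B2 isoB2_valid hperf (fun i hi => by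
      change i < 2 at hi
      interval_cases i <;> decide +kernel)
  · haveI : CharP K isoF4.p := ‹CharP K 2›
    exact key stdF4 conn_F4 isoF4_valid hperf (fun i hi => by
      change i < 4 at hi
      interval_cases i <;> decide +kernel)

end Cfsg.Agent.S1098
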