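import Cfsg.Statements.S1099
import Cfsg.Agent.Lib.Chev.Twist.SpecialData

set_option autoImplicit false
open Cfsg

namespace Cfsg.Agent.S1099
open CfsgLib.Chev

/-- Graph automorphism of G₂ in characteristic 3 (K perfect): `x_a(t) ↦ x_b(t³)`, `x_b(t) ↦ x_a(t)`, `x_{-a}(t) ↦ x_{-b}(t³)`, `x_{-b}(t) ↦ x_{-a}(t)` extend to an automorphism of the group. -/
theorem result {K : Type*} [Field K] [CharP K 3] (hperf : ∀ x : K, ∃ y : K, y ^ 3 = x) :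
    ∃ α : ↥(Cfsg.Lie.chevG2.group K) ≃* ↥(Cfsg.Lie.chevG2.group K), ∀ (g : ↥(Cfsg.Lie.chevG2.group K)) (t : K),
      (((g : GL Cfsg.Lie.chevG2.Idx K) : Matrix _ _ K) = Cfsg.Lie.chevG2.x K Cfsg.Lie.g2a t →
        ((α g : GL Cfsg.Lie.chevG2.Idx K) : Matrix _ _ K) = Cfsg.Lie.chevG2.x K Cfsg.Lie.g2b (t ^ 3)) ∧
      (((g : GL Cfsg.Lie.chevG2.Idx K) : Matrix _ _ K) = Cfsg.Lie.chevG2.x K Cfsg.Lie.g2b t →
        ((α g : GL Cfsg.Lie.chevG2.Idx K) : Matrix _ _ K) = Cfsg.Lie.chevG2.x K Cfsg.Lie.g2a t) ∧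
      (((g : GL Cfsg.Lie.chevG2.Idx K) : Matrix _ _ K) = Cfsg.Lie.chevG2.x K Cfsg.Lie.g2ma t →
        ((α g : GL Cfsg.Lie.chevG2.Idx K) : Matrix _ _ K) = Cfsg.Lie.chevG2.x K Cfsg.Lie.g2mb (t ^ 3)) ∧
      (((g : GL Cfsg.Lie.chevG2.Idx K) : Matrix _ _ K) = Cfsg.Lie.chevG2.x K Cfsg.Lie.g2mb t →
        ((α g : GL Cfsg.Lie.chevG2.Idx K) : Matrix _ _ K) = Cfsg.Lie.chevG2.x K Cfsg.Lie.g2ma t) := by
  haveI : CharP K isoG2.p := ‹CharP K 3›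
  obtain ⟨α, hα⟩ := Iso.exists_aut (F := K) stdG2 conn_G2 isoG2_valid hperf
  refine ⟨α, fun y t => ?_⟩
  have step : ∀ r s l : ℕ, r < Cfsg.Lie.chevG2.nroots → isoG2.r r = s → isoG2.l r = l →
      ((y : GL Cfsg.Lie.chevG2.Idx K) : Matrix _ _ K) = Cfsg.Lie.chevG2.x K r t →
      ((α y : GL Cfsg.Lie.chevG2.Idx K) : Matrix _ _ K) = Cfsg.Lie.chevG2.x K s (t ^ l) := by
    intro r s l hr e1 e2 hy
    obtain rfl : y = ⟨xG stdG2.good r t, xG_mem_group stdG2.good r t⟩ :=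
      Subtype.ext ((eq_xG_iff stdG2.good).1 hy)
    rw [hα r hr t, xG_val, e1, e2]
  refine ⟨step _ _ 3 (by decide) (by decide) (by decide), fun hy => ?_,
    step _ _ 3 (by decide) (by decide) (by decide), fun hy => ?_⟩
  · simpa using step _ Cfsg.Lie.g2a 1 (by decide) (by decide) (by decide) hy
  · simpa using step _ Cfsg.Lie.g2ma 1 (by decide) (by decide) (by decide) hy

end Cfsg.Agent.S1099
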