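import Cfsg.Statements.S1100
import Cfsg.Agent.Lib.Chev.Types
import Cfsg.Agent.Lib.Chev.TorusConj

set_option autoImplicit false
open Cfsg

namespace Cfsg.Agent.S1100

/-- Canonical form `g = b n_w u` (`b ∈ B`, `u ∈ U_w⁻ = ⟨X_r : r > 0, n_w X_r n_w⁻¹ ≤ V⟩`): such a decomposition exists for every element of the group; the coset `n_w H` is determined by `g`; and for a fixed representative `n_w` the factors `b`, `u` are unique. -/
theorem result {F : Type*} [Field F] (D : Cfsg.Lie.ChevalleyDatum) (hD : D ∈ [Cfsg.Lie.chevG2, Cfsg.Lie.chevB2, Cfsg.Lie.chevD4, Cfsg.Lie.chevF4, Cfsg.Lie.chevE6, Cfsg.Lie.chevE7, Cfsg.Lie.chevE8]) :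
    (∀ g ∈ D.group F, ∃ b ∈ D.borelSubgroup F, ∃ n ∈ D.monomialSubgroup F,
      ∃ u ∈ Subgroup.closure {x : GL D.Idx F | ∃ (r : ℕ) (t : F), D.IsPosRoot r ∧
            (D.rootSubgroup F r).map (MulAut.conj n).toMonoidHom ≤ D.negUnipotent F ∧ (x : Matrix D.Idx D.Idx F) = D.x F r t},
        g = b * n * u) ∧
    (∀ (b b' n n' u u' : GL D.Idx F), b ∈ D.borelSubgroup F → b' ∈ D.borelSubgroup F →
      n ∈ D.monomialSubgroup F → n' ∈ D.monomialSubgroup F →
      u ∈ Subgroup.closure {x : GL D.Idx F | ∃ (r : ℕ) (t : F), D.IsPosRoot r ∧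
            (D.rootSubgroup F r).map (MulAut.conj n).toMonoidHom ≤ D.negUnipotent F ∧ (x : Matrix D.Idx D.Idx F) = D.x F r t} →
      u' ∈ Subgroup.closure {x : GL D.Idx F | ∃ (r : ℕ) (t : F), D.IsPosRoot r ∧
            (D.rootSubgroup F r).map (MulAut.conj n').toMonoidHom ≤ D.negUnipotent F ∧ (x : Matrix D.Idx D.Idx F) = D.x F r t} →
      b * n * u = b' * n' * u' → n⁻¹ * n' ∈ D.diagonalSubgroup F ∧ (n = n' → b = b' ∧ u = u')) := by
  obtain ⟨A, h⟩ := CfsgLib.Chev.std_of_mem hD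
  have key : ∀ n σ, CfsgLib.Chev.Acts h.good n σ →
      Subgroup.closure {x : GL D.Idx F | ∃ (r : ℕ) (t : F), D.IsPosRoot r ∧
            (D.rootSubgroup F r).map (MulAut.conj n).toMonoidHom ≤ D.negUnipotent F ∧
              (x : Matrix D.Idx D.Idx F) = D.x F r t} =
        CfsgLib.Chev.UP F h.good (CfsgLib.Chev.toNeg D σ) := by
    intro n σ hσ
    refine congrArg Subgroup.closure (Set.ext fun x => ?_)
    constructor
    · rintro ⟨r, t, hr, h', hx⟩
      exact ⟨r, t, ⟨hr, (CfsgLib.Chev.toNeg_iff h hσ hr.1).1 h'⟩,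
        (CfsgLib.Chev.eq_xG_iff h.good).1 hx⟩
    · rintro ⟨r, t, ⟨hr, h'⟩, hx⟩
      exact ⟨r, t, hr, (CfsgLib.Chev.toNeg_iff h hσ hr.1).2 h',
        (CfsgLib.Chev.eq_xG_iff h.good).2 hx⟩
  constructor
  · intro g hg
    obtain ⟨b, hb, n, hn, σ, hσ, u, hu, e⟩ := CfsgLib.Chev.normal_form_exists h hg
    exact ⟨b, hb, n, hn, u, by rw [key n σ hσ]; exact hu, e⟩
  · intro b b' n n' u u' hb hb' hn hn' hu hu' e
    obtain ⟨σ, hσ⟩ := CfsgLib.Chev.exists_acts h.good hn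
    obtain ⟨σ', hσ'⟩ := CfsgLib.Chev.exists_acts h.good hn'
    rw [key n σ hσ] at hu
    rw [key n' σ' hσ'] at hu'
    have hU : ∀ τ, CfsgLib.Chev.UP F h.good (CfsgLib.Chev.toNeg D τ) ≤ D.borelSubgroup F := fun τ =>
      le_trans (CfsgLib.Chev.UP_toNeg_le h.good τ) CfsgLib.Chev.pos_le_borel
    refine ⟨CfsgLib.Chev.bruhat_unique h hb (hU _ hu) hb' (hU _ hu') hn hn' e, fun hnn => ?_⟩
    subst hnn
    rw [CfsgLib.Chev.UP_congr h.good (P := CfsgLib.Chev.toNeg D σ') (Q := CfsgLib.Chev.toNeg D σ)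
      (fun r => and_congr_right fun hr => by rw [hσ'.unique hσ hr.1])] at hu'
    exact CfsgLib.Chev.normal_form_unique h hσ hb hb' hu hu' e

end Cfsg.Agent.S1100
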