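import Cfsg.Statements.S1106
import Cfsg.Agent.Lib.Chev.Twist.Fam.D4

set_option autoImplicit false
open Cfsg

namespace Cfsg.Agent.S1106

open CfsgLib.Chev

/-- `|H¹| = |G¹ ∩ H|`: `|H¹| = (q - 1) ^ 2 * (q ^ 2 + q + 1)` for ³D₄(q). -/
theorem result {K : Type*} [Field K] [Fintype K] {q : ℕ} (hq : IsPrimePow q) (hK : Fintype.card K = q ^ 3) :
    Nat.card ↥(Cfsg.Lie.chevD4.diagonalSubgroup K ⊓ Cfsg.Lie.twistedD4 K q) = (q - 1) ^ 2 * (q ^ 2 + q + 1) := by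
  obtain ⟨σ, hσ⟩ := exists_powHom hq (k := 3) (by norm_num) hK
  rw [D43.twisted_eq_fix hσ hK]
  have h3 : q ^ 3 - 1 = (q - 1) * (q ^ 2 + q + 1) := by
    have h2 := D43.two_le hK
    rw [← geom_nat (show 1 ≤ q by omega) 3]
    simp only [Finset.sum_range_succ, Finset.sum_range_zero]
    ring
  rw [D43.card_diag hσ hK (D43.two_le hK), h3]
  ring

end Cfsg.Agent.S1106
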