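import Cfsg.Statements.S1118
import Cfsg.Agent.Lib.RankOne.Basic

set_option autoImplicit false
open Cfsg

namespace Cfsg.Agent.S1118

/-- In the rank-one set-up (`G` finite and doubly transitive on `Ω`, `t` an involution moving `a`, `Q` normal in `G_a` with `G_a = Q D`, `Q ⊓ D = 1` for the two-point stabiliser `D = G_a ⊓ G_{t • a}`, `|Q|` even, `|D|` odd), the normaliser of a subset of `Q` containing a non-identity element lies in `G_a`; consequently `N_G(Q) = N_G(G_a) = G_a`. -/
theorem result {G Ω : Type*} [Group G] [Finite G] [MulAction G Ω] {a : Ω} {t : G} {Q : Subgroup G}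
    (hS : Cfsg.IsRankOneSetup G Ω a t Q) :
    (∀ X : Set G, X ⊆ (Q : Set G) → (∃ x ∈ X, x ≠ 1) → Subgroup.normalizer X ≤ MulAction.stabilizer G a) ∧
      Subgroup.normalizer (Q : Set G) = MulAction.stabilizer G a ∧
      Subgroup.normalizer (MulAction.stabilizer G a : Set G) = MulAction.stabilizer G a := by
  open CfsgLib.RankOne in
  have hQ : MulAction.stabilizer G a ≤ Subgroup.normalizer (Q : Set G) := fun h hh => by
    rw [Subgroup.mem_normalizer_iff]
    exact fun x => ⟨fun hx => hS.conj_mem h hh x hx, fun hx => by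
      have := hS.conj_mem h⁻¹ ((MulAction.stabilizer G a).inv_mem hh) _ hx
      rwa [show h⁻¹ * (h * x * h⁻¹) * h⁻¹⁻¹ = x by group] at this⟩
  open CfsgLib.RankOne in
  have h1 : ∀ X : Set G, X ⊆ (Q : Set G) → (∃ x ∈ X, x ≠ 1) →
      Subgroup.normalizer X ≤ MulAction.stabilizer G a := by
    rintro X hX ⟨x, hx, hx1⟩ g hg
    rw [Subgroup.mem_set_normalizer_iff] at hg
    have hm : g * x * g⁻¹ ∈ Q := hX ((hg x).1 hx)
    by_contra hne
    have h : (g * x * g⁻¹) • (g • a) = g • a := conj_smul_eq_of_fixed (hS.le (hX hx))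
    exact hx1 (by simpa using eq_one_of_fixed hS hm hne h)
  open CfsgLib.RankOne in
  obtain ⟨s, hs, hsa, hsQ⟩ := exists_involution hS
  refine ⟨h1, le_antisymm (h1 _ subset_rfl ⟨s, hsQ, hs.1⟩) hQ,
    le_antisymm (fun g hg => ?_) Subgroup.le_normalizer⟩
  rw [Subgroup.mem_normalizer_iff] at hg
  have h : g * s * g⁻¹ ∈ MulAction.stabilizer G a := (hg s).1 hsa
  exact CfsgLib.RankOne.fixed_eq hS (CfsgLib.RankOne.conj_mem_invols g hs)
    (CfsgLib.RankOne.conj_smul_eq_of_fixed hsa) h

end Cfsg.Agent.S1118
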