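import Cfsg.Statements.S1119
import Cfsg.Agent.Lib.RankOne.Invol

set_option autoImplicit false
open Cfsg

namespace Cfsg.Agent.S1119

/-- In the rank-one set-up (`G` finite and doubly transitive on `Ω`, `t` an involution moving `a`, `Q` normal in `G_a` with `G_a = Q D`, `Q ⊓ D = 1` for the two-point stabiliser `D = G_a ⊓ G_{t • a}`, `|Q|` even, `|D|` odd): `Q` acts regularly on `Ω` minus `a`; hence `|Ω| = |Q| + 1`, `|G| = |Q| |D| (|Q| + 1)`, some Sylow 2-subgroup of `G` lies in `Q`, and each `g ∉ G_a` is uniquely `x t y` with `x ∈ G_a`, `y ∈ Q` (canonical form). -/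
theorem result {G Ω : Type*} [Group G] [Finite G] [MulAction G Ω] {a : Ω} {t : G} {Q : Subgroup G}
    (hS : Cfsg.IsRankOneSetup G Ω a t Q) :
    (∀ b c : Ω, b ≠ a → c ≠ a → ∃! x : Q, (x : G) • b = c) ∧
      Nat.card Ω = Nat.card Q + 1 ∧
      Nat.card G = Nat.card Q * Nat.card ↥(MulAction.stabilizer G a ⊓ MulAction.stabilizer G (t • a)) * (Nat.card Q + 1) ∧
      (∃ P : Sylow 2 G, (P : Subgroup G) ≤ Q) ∧
      ∀ g : G, g ∉ MulAction.stabilizer G a → ∃! p : G × G, p.1 ∈ MulAction.stabilizer G a ∧ p.2 ∈ Q ∧ g = p.1 * t * p.2 := by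
  open CfsgLib.RankOne in
  have hbr : ∀ g : G, g ∉ MulAction.stabilizer G a → ∃! p : G × G,
      p.1 ∈ MulAction.stabilizer G a ∧ p.2 ∈ Q ∧ g = p.1 * t * p.2 := by
    intro g hg
    obtain ⟨p, hp, y, hy, rfl⟩ := bruhat_exists hS hg
    refine ⟨(p, y), ⟨hp, hy, rfl⟩, ?_⟩
    rintro ⟨q, z⟩ ⟨hq, hz, he⟩
    obtain ⟨rfl, rfl⟩ := bruhat_unique hS hp hq hy hz he
    rfl
  refine ⟨fun b c hb hc => CfsgLib.RankOne.existsUnique_smul hS hb hc,
    CfsgLib.RankOne.card_points hS, CfsgLib.RankOne.card_group hS, ?_, hbr⟩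
  haveI := Fact.mk Nat.prime_two
  let P : Sylow 2 Q := default
  have hcard : Nat.card ↥((P : Subgroup Q).map Q.subtype) =
      2 ^ (Nat.card G).factorization 2 := by
    rw [Subgroup.card_map_of_injective Q.subtype_injective, P.card_eq_multiplicity]
    congr 1
    have hD : ¬ 2 ∣ Nat.card ↥(MulAction.stabilizer G a ⊓ MulAction.stabilizer G (t • a)) :=
      fun h => Nat.not_even_iff_odd.2 hS.odd_card (even_iff_two_dvd.2 h)
    have hQ : ¬ 2 ∣ Nat.card Q + 1 :=
      fun h => Nat.not_even_iff_odd.2 hS.even_card.add_one (even_iff_two_dvd.2 h)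
    rw [CfsgLib.RankOne.card_group hS, Nat.factorization_mul
      (Nat.mul_ne_zero Nat.card_pos.ne' Nat.card_pos.ne') (by omega),
      Nat.factorization_mul Nat.card_pos.ne' Nat.card_pos.ne', Finsupp.add_apply, Finsupp.add_apply,
      Nat.factorization_eq_zero_of_not_dvd hD, Nat.factorization_eq_zero_of_not_dvd hQ, add_zero,
      add_zero]
  exact ⟨Sylow.ofCard _ hcard, Subgroup.map_subtype_le _⟩

end Cfsg.Agent.S1119
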