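import Cfsg.Statements.S1123
import Cfsg.Agent.Lib.RankOne.Invol

set_option autoImplicit false
open Cfsg

namespace Cfsg.Agent.S1123

/-- In the rank-one set-up (`G` finite and doubly transitive on `Ω`, `t` an involution moving `a`, `Q` normal in `G_a` with `G_a = Q D`, `Q ⊓ D = 1` for the two-point stabiliser `D = G_a ⊓ G_{t • a}`, `|Q|` even, `|D|` odd), there is a unique pair `(s, r)` with `s` an involution of `G_a`, `r ∈ Q` and `t s t = r⁻¹ t r`. -/
theorem result {G Ω : Type*} [Group G] [Finite G] [MulAction G Ω] {a : Ω} {t : G} {Q : Subgroup G}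
    (hS : Cfsg.IsRankOneSetup G Ω a t Q) :
    ∃! p : G × G, p.1 ∈ Cfsg.involutionsIn (MulAction.stabilizer G a : Set G) ∧ p.2 ∈ Q ∧
      t * p.1 * t = p.2⁻¹ * t * p.2 := by
  open CfsgLib.RankOne in
  obtain ⟨s, hs, hr⟩ := exists_base hS
  obtain ⟨-, y, hy, he⟩ := id hr
  rw [mul_one] at he
  refine ⟨(s, y), ⟨hs, hy, he⟩, ?_⟩
  rintro ⟨s', r⟩ ⟨hs', hr', he'⟩
  open CfsgLib.RankOne in
  obtain rfl : s = s' := rel_inj hS hs hs' hr (rel_one_iff hS hr' he')
  open CfsgLib.RankOne in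
  have h : y⁻¹ * 1 * t * y = r⁻¹ * 1 * t * r := by
    rw [mul_one, mul_one, ← he, ← he']
  open CfsgLib.RankOne in
  rw [(inverted_form_unique hS hy hr' (one_mem_inverted hS) (one_mem_inverted hS) h).2]

end Cfsg.Agent.S1123
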