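import Cfsg.Statements.S1124
import Cfsg.Agent.Lib.RankOne.OddGroup

set_option autoImplicit false
open scoped Pointwise
open Cfsg

namespace Cfsg.Agent.S1124

/-- Let `t` be an element of order 2 of a finite group normalising a subgroup `X` of odd order, `Y = C_X(t)` and `Z` the set of elements of `X` inverted by `t`. Then `(y, z) ↦ y z` is a bijection `Y × Z → X`, so `|X| = |Y| |Z|`, and the subgroup generated by `Z` is normal in `X`. -/
theorem result {M : Type*} [Group M] [Finite M]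
    (t : M) (ht : orderOf t = 2) (X : Subgroup M) (hodd : Odd (Nat.card X))
    (hnorm : ∀ x ∈ X, t * x * t⁻¹ ∈ X) :
    (∀ x ∈ X, ∃! p : M × M, p.1 ∈ X ⊓ Subgroup.centralizer {t} ∧ p.2 ∈ Cfsg.invertedBy X t ∧ x = p.1 * p.2) ∧
      Nat.card X = Nat.card ↥(X ⊓ Subgroup.centralizer {t}) * Nat.card (Cfsg.invertedBy X t) ∧
      ∀ x ∈ X, MulAut.conj x • Subgroup.closure (Cfsg.invertedBy X t) = Subgroup.closure (Cfsg.invertedBy X t) := by
  have ht2 : t * t = 1 := by rw [← pow_two, ← ht, pow_orderOf_eq_one]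
  refine ⟨fun x hx => CfsgLib.RankOne.existsUnique_decomp ht2 hodd hnorm hx,
    CfsgLib.RankOne.card_eq_mul ht2 hodd hnorm, fun x hx => ?_⟩
  have hle : ∀ z ∈ X, ∀ w ∈ Subgroup.closure (Cfsg.invertedBy X t),
      z * w * z⁻¹ ∈ Subgroup.closure (Cfsg.invertedBy X t) := by
    intro z hz w hw
    induction hw using Subgroup.closure_induction with
    | mem k hk => exact CfsgLib.RankOne.conj_closure_inverted ht2 hodd hnorm hz hk
    | one => simp
    | mul p q _ _ ihp ihq =>
      rw [show z * (p * q) * z⁻¹ = (z * p * z⁻¹) * (z * q * z⁻¹) by group]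
      exact Subgroup.mul_mem _ ihp ihq
    | inv p _ ih =>
      rw [show z * p⁻¹ * z⁻¹ = (z * p * z⁻¹)⁻¹ by group]
      exact Subgroup.inv_mem _ ih
  ext w
  rw [Subgroup.mem_pointwise_smul_iff_inv_smul_mem, ← map_inv, MulAut.smul_def, MulAut.conj_apply]
  refine ⟨fun h => ?_, fun h => hle _ (X.inv_mem hx) w h⟩
  have := hle x hx _ h
  rwa [inv_inv, show x * (x⁻¹ * w * x) * x⁻¹ = w by group] at this

end Cfsg.Agent.S1124
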