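import Cfsg.Statements.S1125
import Cfsg.Agent.Lib.RankOne.Fixed

set_option autoImplicit false
open Cfsg

namespace Cfsg.Agent.S1125

/-- In the rank-one set-up (`G` finite and doubly transitive on `Ω`, `t` an involution moving `a`, `Q` normal in `G_a` with `G_a = Q D`, `Q ⊓ D = 1` for the two-point stabiliser `D = G_a ⊓ G_{t • a}`, `|Q|` even, `|D|` odd), let `X ⊆ D` fix at least three points of `Ω`. Then `C_G(X)` is doubly transitive on the fixed-point set of `X`, `|C_Q(X)|` is even, and `C_{G_a}(X) = C_Q(X) C_D(X)`. -/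
theorem result {G Ω : Type*} [Group G] [Finite G] [MulAction G Ω] {a : Ω} {t : G} {Q : Subgroup G}
    (hS : Cfsg.IsRankOneSetup G Ω a t Q)
    (X : Set G) (hX : X ⊆ ((MulAction.stabilizer G a ⊓ MulAction.stabilizer G (t • a)) : Set G))
    (h3 : ∃ b c d : Ω, b ≠ c ∧ b ≠ d ∧ c ≠ d ∧ ∀ x ∈ X, x • b = b ∧ x • c = c ∧ x • d = d) :
    (∀ b₁ b₂ c₁ c₂ : Ω, (∀ x ∈ X, x • b₁ = b₁ ∧ x • b₂ = b₂ ∧ x • c₁ = c₁ ∧ x • c₂ = c₂) →
        b₁ ≠ b₂ → c₁ ≠ c₂ → ∃ g ∈ Subgroup.centralizer X, g • b₁ = c₁ ∧ g • b₂ = c₂) ∧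
      Even (Nat.card ↥(Subgroup.centralizer X ⊓ Q)) ∧
      (Subgroup.centralizer X ⊓ Q) ⊔ (Subgroup.centralizer X ⊓ (MulAction.stabilizer G a ⊓ MulAction.stabilizer G (t • a))) = Subgroup.centralizer X ⊓ MulAction.stabilizer G a := by
  open CfsgLib.RankOne in
  have h3' : ∃ b ∈ Fix Ω X, ∃ c ∈ Fix Ω X, ∃ d ∈ Fix Ω X, b ≠ c ∧ b ≠ d ∧ c ≠ d := by
    obtain ⟨b, c, d, n1, n2, n3, h⟩ := h3
    exact ⟨b, fun x hx => (h x hx).1, c, fun x hx => (h x hx).2.1, d, fun x hx => (h x hx).2.2,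
      n1, n2, n3⟩
  open CfsgLib.RankOne in
  refine ⟨fun b₁ b₂ c₁ c₂ h hb hc => exists_centralizing_two hS h3' (fun x hx => (h x hx).1)
    (fun x hx => (h x hx).2.1) (fun x hx => (h x hx).2.2.1) (fun x hx => (h x hx).2.2.2) hb hc,
    even_centralizer_Q hS hX h3', le_antisymm (sup_le (inf_le_inf_left _ hS.le)
      (inf_le_inf_left _ inf_le_left)) ?_⟩
  rintro g ⟨hg, hga⟩
  open CfsgLib.RankOne in
  have ha : a ∈ Fix Ω X := fun x hx => (hX hx).1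
  open CfsgLib.RankOne in
  have hta : t • a ∈ Fix Ω X := fun x hx => (hX hx).2
  have hne : g • t • a ≠ a := fun e => CfsgLib.RankOne.ta_ne hS
    (smul_left_cancel g (e.trans hga.symm))
  obtain ⟨q, hq, hqe⟩ := CfsgLib.RankOne.exists_centralizing_Q_smul hS ha hta
    (CfsgLib.RankOne.smul_mem_Fix hg hta) (CfsgLib.RankOne.ta_ne hS) hne
  rw [show g = q * (q⁻¹ * g) by group]
  refine Subgroup.mul_mem_sup hq ⟨(Subgroup.centralizer X).mul_mem
    ((Subgroup.centralizer X).inv_mem hq.1) hg, ?_, ?_⟩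
  · exact (MulAction.stabilizer G a).mul_mem ((MulAction.stabilizer G a).inv_mem (hS.le hq.2)) hga
  · exact show (q⁻¹ * g) • t • a = t • a by rw [mul_smul, inv_smul_eq_iff, hqe]

end Cfsg.Agent.S1125
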