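import Cfsg.Statements.S1132
import Cfsg.Agent.Lib.RankOne.Nilp
import Cfsg.Agent.Lib.Perm.RankOneSemilinear

set_option autoImplicit false
open Cfsg

namespace Cfsg.Agent.S1132

open MulAction in
theorem core {G Ω : Type*} [Group G] [Finite G] [MulAction G Ω] [FaithfulSMul G Ω] {a : Ω} {t : G} {Q : Subgroup G}
    (hS : Cfsg.IsRankOneSetup G Ω a t Q)
    (h2 : ∃ x y : G, x ≠ 1 ∧ y ≠ 1 ∧ x ≠ y ∧ x * x = 1 ∧ y * y = 1 ∧ x * y = y * x)
    (S : Sylow 2 ↥Q) (hna : ∃ x y : ↥(S : Subgroup ↥Q), x * y ≠ y * x) :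
    Cfsg.IsSuzukiTwoGroup ↥(S : Subgroup ↥Q) := by
  classical
  haveI := Fact.mk Nat.prime_two
  haveI := CfsgLib.RankOne.isNilpotent_Q hS h2
  haveI hn : (S : Subgroup ↥Q).Normal :=
    Sylow.normal_of_normalizerCondition Group.normalizerCondition_of_isNilpotent S
  haveI := Sylow.unique_of_normal S hn
  have hmem : ∀ (x : ↥Q) (n : ℕ), x ^ 2 ^ n = 1 → x ∈ (S : Subgroup ↥Q) := by
    intro x n hx
    have hp : IsPGroup 2 ↥(Subgroup.zpowers x) := by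
      rintro ⟨y, hy⟩
      obtain ⟨i, rfl⟩ := Subgroup.mem_zpowers_iff.1 hy
      refine ⟨n, Subtype.ext ?_⟩
      show (x ^ i) ^ 2 ^ n = 1
      rw [← zpow_natCast, ← zpow_mul, mul_comm, zpow_mul, zpow_natCast, hx, one_zpow]
    obtain ⟨T, hT⟩ := hp.exists_le_sylow
    rw [Subsingleton.elim T S] at hT
    exact hT (Subgroup.mem_zpowers x)
  obtain ⟨C, hC, hCc, -⟩ := (CfsgLib.Perm.RankOneSemi.main hS h2).1
  have hCD : ∀ c : ↥C, (c : G) ∈ Cfsg.invertedBy (stabilizer G a ⊓ stabilizer G (t • a)) t :=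
    fun c => hC ▸ c.2
  have hconj : ∀ (c : ↥C) (y : ↥(S : Subgroup ↥Q)),
      ∃ h : (c : G) * y.1.1 * (c : G)⁻¹ ∈ Q, (⟨_, h⟩ : ↥Q) ∈ (S : Subgroup ↥Q) := by
    intro c y
    refine ⟨hS.conj_mem _ (hCD c).1.1 _ y.1.2, ?_⟩
    obtain ⟨n, hy⟩ := S.2 y
    refine hmem _ n (Subtype.ext ?_)
    show ((c : G) * y.1.1 * (c : G)⁻¹) ^ 2 ^ n = 1
    rw [conj_pow, show y.1.1 ^ 2 ^ n = 1 from congrArg (fun z : ↥(S : Subgroup ↥Q) => z.1.1) hy,
      mul_one, mul_inv_cancel]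
  choose h1 h2' using hconj
  let e : ↥C → ↥(S : Subgroup ↥Q) → ↥(S : Subgroup ↥Q) := fun c y => ⟨⟨_, h1 c y⟩, h2' c y⟩
  let φ : ↥C →* MulAut ↥(S : Subgroup ↥Q) :=
    { toFun := fun c =>
        { toFun := e c
          invFun := e c⁻¹
          left_inv := fun y => by apply Subtype.ext; apply Subtype.ext; simp [e, mul_assoc]
          right_inv := fun y => by apply Subtype.ext; apply Subtype.ext; simp [e, mul_assoc]
          map_mul' := fun y z => by apply Subtype.ext; apply Subtype.ext; simp [e, mul_assoc] }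
      map_one' := MulEquiv.ext fun y => by apply Subtype.ext; apply Subtype.ext; simp [e]
      map_mul' := fun c d => MulEquiv.ext fun y => by apply Subtype.ext; apply Subtype.ext; simp [e, mul_assoc] }
  let J := Cfsg.involutionsIn (stabilizer G a : Set G)
  have hJS : ∀ s ∈ J, ∃ y : ↥(S : Subgroup ↥Q), y.1.1 = s ∧ y ≠ 1 ∧ y * y = 1 := by
    intro s hs
    have hsQ := CfsgLib.RankOne.mem_Q hS hs.2.2 hs.1
    refine ⟨⟨⟨s, hsQ⟩, hmem _ 1 (Subtype.ext (by show s ^ 2 ^ 1 = 1; rw [pow_one, pow_two, hs.2.2]))⟩, rfl,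
      fun h => hs.2.1 (congrArg (fun z : ↥(S : Subgroup ↥Q) => z.1.1) h), Subtype.ext (Subtype.ext hs.2.2)⟩
  have hSJ : ∀ y : ↥(S : Subgroup ↥Q), y ≠ 1 → y * y = 1 → y.1.1 ∈ J := fun y hy hy2 =>
    ⟨hS.le y.1.2, fun h => hy (Subtype.ext (Subtype.ext h)),
      congrArg (fun z : ↥(S : Subgroup ↥Q) => z.1.1) hy2⟩
  refine ⟨inferInstance, S.2, hna, ?_, φ.range, (haveI := hCc; isCyclic_of_surjective φ.rangeRestrict φ.rangeRestrict_surjective), ?_⟩
  · obtain ⟨s, hs, s', hs', hne⟩ := CfsgLib.RankOne.exists_pair hS h2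
    obtain ⟨y, rfl, hy⟩ := hJS s hs
    obtain ⟨y', rfl, hy'⟩ := hJS s' hs'
    exact ⟨y, y', fun h => hne (by rw [h]), hy.1, hy.2, hy'.1, hy'.2⟩
  intro x y hx hxx hy hyy
  let F : ↥C → J := fun c => ⟨(c : G) * x.1.1 * (c : G)⁻¹, hSJ (φ c x)
    (fun h => hx ((φ c).injective (h.trans (map_one (φ c)).symm))) (by rw [← map_mul, hxx, map_one])⟩
  have hF : Function.Bijective F := by
    refine (Nat.bijective_iff_surjective_and_card F).2 ⟨fun s => ?_, ?_⟩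
    · obtain ⟨i, hi, he⟩ := CfsgLib.RankOne.exists_conj_inverted hS (hSJ x hx hxx) s.2
      refine ⟨⟨i⁻¹, C.inv_mem (by rw [← SetLike.mem_coe, hC]; exact hi)⟩, Subtype.ext ?_⟩
      show i⁻¹ * x.1.1 * i⁻¹⁻¹ = s
      rw [inv_inv, he]
    · exact (Nat.card_congr (Equiv.setCongr hC)).trans (CfsgLib.RankOne.card_involutionsIn hS)
  obtain ⟨c, hc⟩ := hF.2 ⟨y.1.1, hSJ y hy hyy⟩
  refine ⟨⟨φ c, c, rfl⟩, Subtype.ext (Subtype.ext (congrArg Subtype.val hc : (F c : G) = _)), ?_⟩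
  rintro ⟨_, d, rfl⟩ hd
  have : F d = F c := by
    rw [hc]
    exact Subtype.ext (congrArg (fun z : ↥(S : Subgroup ↥Q) => z.1.1) hd)
  exact Subtype.ext (congrArg φ (hF.1 this))

/-- In the rank-one set-up (`G` finite and doubly transitive on `Ω`, `t` an involution moving `a`, `Q` normal in `G_a` with `G_a = Q D`, `Q ⊓ D = 1` for the two-point stabiliser `D = G_a ⊓ G_{t • a}`, `|Q|` even, `|D|` odd), with the action faithful and `G` containing two distinct commuting involutions: a Sylow 2-subgroup of `Q` is abelian or a Suzuki 2-group. -/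
theorem result {G Ω : Type*} [Group G] [Finite G] [MulAction G Ω] [FaithfulSMul G Ω] {a : Ω} {t : G} {Q : Subgroup G}
    (hS : Cfsg.IsRankOneSetup G Ω a t Q)
    (h2 : ∃ x y : G, x ≠ 1 ∧ y ≠ 1 ∧ x ≠ y ∧ x * x = 1 ∧ y * y = 1 ∧ x * y = y * x)
    (S : Sylow 2 ↥Q) : IsMulCommutative (S : Subgroup ↥Q) ∨ Cfsg.IsSuzukiTwoGroup ↥(S : Subgroup ↥Q) := by
  by_cases h : ∃ x y : ↥(S : Subgroup ↥Q), x * y ≠ y * x
  · exact Or.inr (core hS h2 S h)
  · push Not at h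
    exact Or.inl ⟨⟨h⟩⟩

end Cfsg.Agent.S1132
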