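import Cfsg.Statements.S1137
import Cfsg.Agent.Lib.Chev.Suz2.Center

set_option autoImplicit false
open Cfsg

namespace Cfsg.Agent.S1137

/-- In a Suzuki 2-group `P` (a finite non-abelian 2-group with more than one involution admitting a cyclic group of automorphisms regular on its involutions) the involutions are exactly the non-identity central elements, and `Z(P)` is elementary abelian. -/
theorem result {P : Type*} [Group P] (hP : Cfsg.IsSuzukiTwoGroup P) :
    (∀ x : P, (x ≠ 1 ∧ x * x = 1) ↔ (x ∈ Subgroup.center P ∧ x ≠ 1)) ∧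
      ∀ z ∈ Subgroup.center P, z * z = 1 := by
  obtain ⟨hfin, h2, hna, -, K, hK, htr⟩ := hP
  obtain ⟨g, hg⟩ := hK.exists_generator
  have hk : CfsgLib.Chev.Suz2.Trans (g : MulAut P) := by
    intro x y hx hxx hy hyy
    obtain ⟨k, hk, -⟩ := htr x y hx hxx hy hyy
    have : Finite (MulAut P) :=
      Finite.of_injective (fun e : MulAut P => (e : P → P)) DFunLike.coe_injective
    obtain ⟨i, rfl⟩ := mem_powers_iff_mem_zpowers.2 (hg k)
    exact ⟨i, by simpa using hk⟩
  have hc := CfsgLib.Chev.Suz2.center_elementary (Nat.card P) P le_rfl h2 hna _ hk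
  exact ⟨fun x => ⟨fun h => ⟨CfsgLib.Chev.Suz2.invol_central h2 _ hk h.2, h.1⟩,
    fun h => ⟨h.2, hc x h.1⟩⟩, hc⟩

end Cfsg.Agent.S1137
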