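import Cfsg.Statements.S1138
import Cfsg.Agent.Lib.Chev.Suz2.Card

set_option autoImplicit false
open Cfsg

namespace Cfsg.Agent.S1138

/-- Let `P` be a Suzuki 2-group with `|Z(P)| = q`. Then every square lies in `Z(P)` and `P/Z(P)` is abelian (so elementary abelian), `|P| = q²` or `|P| = q³`, and `P` has exponent 4. -/
theorem result {P : Type*} [Group P] (hP : Cfsg.IsSuzukiTwoGroup P) :
    (∀ x : P, x * x ∈ Subgroup.center P) ∧ (∀ x y : P, x⁻¹ * y⁻¹ * x * y ∈ Subgroup.center P) ∧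
      (Nat.card P = Nat.card (Subgroup.center P) ^ 2 ∨ Nat.card P = Nat.card (Subgroup.center P) ^ 3) ∧
      Monoid.exponent P = 4 := by
  obtain ⟨hfin, h2, hna, hinvs, K, hK, htr⟩ := hP
  obtain ⟨g, hg⟩ := hK.exists_generator
  have hk : CfsgLib.Chev.Suz2.Trans (g : MulAut P) := by
    intro x y hx hxx hy hyy
    obtain ⟨k, hk, -⟩ := htr x y hx hxx hy hyy
    have : Finite (MulAut P) :=
      Finite.of_injective (fun e : MulAut P => (e : P → P)) DFunLike.coe_injective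
    obtain ⟨i, rfl⟩ := mem_powers_iff_mem_zpowers.2 (hg k)
    exact ⟨i, by simpa using hk⟩
  have hsq := CfsgLib.Chev.Suz2.squares_central h2 hna _ hk hinvs
  obtain ⟨hcm, hcard⟩ := CfsgLib.Chev.Suz2.card_cases h2 hna _ hk hinvs
  have hz := CfsgLib.Chev.Suz2.center_elementary (Nat.card P) P le_rfl h2 hna _ hk
  refine ⟨hsq, hcm, hcard, ?_⟩
  have h4 : Monoid.exponent P ∣ 4 := Monoid.exponent_dvd_of_forall_pow_eq_one fun x => by
    rw [show (4 : ℕ) = 2 * 2 from rfl, pow_mul, pow_two, pow_two]; exact hz _ (hsq x)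
  obtain ⟨i, hi, he⟩ := (Nat.dvd_prime_pow Nat.prime_two).1 (show Monoid.exponent P ∣ 2 ^ 2 from h4)
  suffices i = 2 by rw [he, this]; norm_num
  by_contra hne
  obtain ⟨x, y, hxy⟩ := hna
  refine hxy ((Subgroup.mem_center_iff.1 (CfsgLib.Chev.Suz2.invol_central h2 _ hk (x := x) ?_) y).symm)
  have hd : Monoid.exponent P ∣ 2 := by
    rw [he]; exact (pow_dvd_pow 2 (show i ≤ 1 by omega)).trans (by norm_num)
  obtain ⟨c, hc⟩ := hd
  rw [← pow_two, hc, pow_mul, Monoid.pow_exponent_eq_one, one_pow]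

end Cfsg.Agent.S1138
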