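import Cfsg.Statements.S1139
import Cfsg.Agent.Lib.Chev.Suz2.TypeA

set_option autoImplicit false
open Cfsg

namespace Cfsg.Agent.S1139

/-- A Suzuki 2-group `P` with `|P| = |Z(P)|²` is of type A: for some finite field `F` with `|F| = |Z(P)|` and some field automorphism `φ ≠ 1` of odd order, `P` is isomorphic to the group of lower unitriangular matrices with rows `(1,0,0)`, `(x,1,0)`, `(y, φ x, 1)`. -/
theorem result {P : Type*} [Group P] (hP : Cfsg.IsSuzukiTwoGroup P)
    (hcard : Nat.card P = Nat.card (Subgroup.center P) ^ 2) :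
    ∃ (F : Type) (_ : Field F) (_ : Fintype F) (φ : F ≃+* F), Fintype.card F = Nat.card (Subgroup.center P) ∧
      φ ≠ RingEquiv.refl F ∧ Odd (orderOf φ) ∧ Nonempty (P ≃* Cfsg.suzukiTypeA F (φ : F →+* F)) := by
  obtain ⟨hfin, h2, hna, -, K, hK, htr⟩ := hP
  obtain ⟨g, hg⟩ := hK.exists_generator
  have hk : CfsgLib.Chev.Suz2.Trans (g : MulAut P) := by
    intro x y hx hxx hy hyy
    obtain ⟨k, hk, -⟩ := htr x y hx hxx hy hyy
    have : Finite (MulAut P) :=
      Finite.of_injective (fun e : MulAut P => (e : P → P)) DFunLike.coe_injective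
    obtain ⟨i, rfl⟩ := mem_powers_iff_mem_zpowers.2 (hg k)
    exact ⟨i, by simpa using hk⟩
  exact CfsgLib.Chev.Suz2.typeA_of_card h2 hna _ hk hcard

end Cfsg.Agent.S1139
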