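import Cfsg.Statements.S1147
import Cfsg.Agent.Lib.Chev.Suz2.ZassMain
import Cfsg.Agent.Lib.Chev.Suz2.TypeA

set_option autoImplicit false
open Cfsg

namespace Cfsg.Agent.S1147

/-- Let a finite simple Zassenhaus group `G` on `Ω` have a normal subgroup `U` of `G_a`, regular on `Ω` minus `a`, which is a non-abelian 2-group. Then `|Ω| = 2^(2n) + 1` with `n` odd, `n > 1`, a two-point stabiliser `G_a ⊓ G_b` is cyclic of order `2^n - 1`, and `U` is isomorphic to the type-A group over a field with `2^n` elements for some field automorphism `φ`. -/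
theorem result {G Ω : Type*} [Group G] [Finite G] [MulAction G Ω] [Finite Ω]
    (hZ : Cfsg.IsZassenhausGroup G Ω) [IsSimpleGroup G] {a b : Ω} (hab : a ≠ b)
    (U : Subgroup G) (hUle : U ≤ MulAction.stabilizer G a)
    (hUn : ∀ h ∈ MulAction.stabilizer G a, ∀ u ∈ U, h * u * h⁻¹ ∈ U)
    (hreg : ∀ c d : Ω, c ≠ a → d ≠ a → ∃! u : U, (u : G) • c = d)
    (hU2 : IsPGroup 2 U) (hUna : ∃ u ∈ U, ∃ v ∈ U, u * v ≠ v * u) :
    ∃ n : ℕ, Odd n ∧ 1 < n ∧ Nat.card Ω = 2 ^ (2 * n) + 1 ∧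
      IsCyclic ↥(MulAction.stabilizer G a ⊓ MulAction.stabilizer G b) ∧
      Nat.card ↥(MulAction.stabilizer G a ⊓ MulAction.stabilizer G b) = 2 ^ n - 1 ∧
      ∃ (F : Type) (_ : Field F) (_ : Fintype F) (φ : F ≃+* F), Fintype.card F = 2 ^ n ∧
        Nonempty (U ≃* Cfsg.suzukiTypeA F (φ : F →+* F)) := by
  have hF : CfsgLib.Perm.ZassG.IsKernel a U := ⟨hUle, hUn, hreg⟩
  obtain ⟨u, hu, v, hv, huv⟩ := hUna
  have hC := CfsgLib.Chev.Suz2.ctx_of_simple hZ hab hF hU2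
    ⟨⟨u, hu⟩, ⟨v, hv⟩, fun h => huv (congrArg Subtype.val h)⟩
  obtain ⟨n, hn, hn1, hq, hc, ⟨k, hk⟩, hU⟩ := hC.kernel_card
  have hΩ := hF.card_add_one hab
  obtain ⟨F, hFf, hFt, φ, hFc, -, -, hiso⟩ := CfsgLib.Chev.Suz2.typeA_of_card hU2 hC.nonab k hk
    (by rw [hU, hc])
  refine ⟨n, hn, hn1, ?_, (CfsgLib.Perm.ZassG.cyclic_inverted_of_simple hZ hab).1, ?_, F, hFf, hFt, φ, ?_, hiso⟩
  · rw [← hΩ, hU, ← pow_mul, mul_comm]
  · change Nat.card (CfsgLib.Perm.ZassG.pairStab G a b) = _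
    omega
  · rw [hFc, hc]

end Cfsg.Agent.S1147
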