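import Cfsg.Statements.S1166
import Cfsg.Agent.Lib.RankOne.Invol

set_option autoImplicit false
open Cfsg

namespace Cfsg.Agent.S1166

/-- In the rank-one set-up (`G` finite and doubly transitive on `Ω`, `t` an involution moving `a`, `Q` normal in `G_a` with `G_a = Q D`, `Q ⊓ D = 1` for the two-point stabiliser `D = G_a ⊓ G_{t • a}`, `|Q|` even, `|D|` odd), with `t x t = g_x h_x t f_x` and `t y t = g_y h_y t f_y` (`g, f ∈ Q`, `h ∈ D`) for `x, y ∈ Q ∖ 1` with `x y ≠ 1`: then `z = f_x g_y ≠ 1`, and if `t z t = g_z h_z t f_z` and `t (x y) t = g' h' t f'` then `f' = (t h_y t)⁻¹ f_z (t h_y t) f_y` and `h' = h_x h_z h_y` (H6). -/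
theorem result {G Ω : Type*} [Group G] [Finite G] [MulAction G Ω] {a : Ω} {t : G} {Q : Subgroup G}
    (hS : Cfsg.IsRankOneSetup G Ω a t Q)
    (x y gx hx fx gy hy fy : G) (hxQ : x ∈ Q) (hx1 : x ≠ 1) (hyQ : y ∈ Q) (hy1 : y ≠ 1) (hxy : x * y ≠ 1)
    (hgx : gx ∈ Q) (hhx : hx ∈ (MulAction.stabilizer G a ⊓ MulAction.stabilizer G (t • a))) (hfx : fx ∈ Q) (ex : t * x * t = gx * hx * t * fx)
    (hgy : gy ∈ Q) (hhy : hy ∈ (MulAction.stabilizer G a ⊓ MulAction.stabilizer G (t • a))) (hfy : fy ∈ Q) (ey : t * y * t = gy * hy * t * fy) :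
    fx * gy ≠ 1 ∧
      ∀ gz hz fz g' h' f' : G, gz ∈ Q → hz ∈ (MulAction.stabilizer G a ⊓ MulAction.stabilizer G (t • a)) → fz ∈ Q → t * (fx * gy) * t = gz * hz * t * fz →
        g' ∈ Q → h' ∈ (MulAction.stabilizer G a ⊓ MulAction.stabilizer G (t • a)) → f' ∈ Q → t * (x * y) * t = g' * h' * t * f' →
          f' = (t * hy * t)⁻¹ * fz * (t * hy * t) * fy ∧ h' = hx * hz * hy := by
  have ht : t⁻¹ = t := CfsgLib.RankOne.t_inv hS
  have hconj : ∀ d ∈ (MulAction.stabilizer G a ⊓ MulAction.stabilizer G (t • a)),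
      t * d * t ∈ (MulAction.stabilizer G a ⊓ MulAction.stabilizer G (t • a)) := fun d hd => by
    have := CfsgLib.RankOne.conj_t_mem hS hd; rwa [ht] at this
  have hprod : t * (x * y) * t = gx * hx * (t * (fx * gy)) * hy * t * fy := by
    calc t * (x * y) * t = t * x * t * (t * y * t) := by
          rw [show t * x * t * (t * y * t) = t * x * (t * t) * y * t by group, hS.mul_self]
          group
      _ = _ := by rw [ex, ey]; group
  constructor
  · intro h1
    rw [h1, mul_one] at hprod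
    refine hxy (CfsgLib.RankOne.eq_one_of_fixed hS (Q.mul_mem hxQ hyQ)
      (CfsgLib.RankOne.ta_ne hS) ?_)
    have h : (t * (x * y) * t) • a = a := by
      rw [hprod]
      simp only [mul_smul, show fy • a = a from hS.le hfy, show hy • t • a = t • a from hhy.2,
        CfsgLib.RankOne.t_smul_ta hS, show hx • a = a from hhx.1, show gx • a = a from hS.le hgx]
    rw [mul_smul, mul_smul] at h
    calc (x * y) • t • a = t • t • ((x * y) • t • a) := by
          rw [← mul_smul t t, hS.mul_self, one_smul]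
      _ = t • a := by rw [h]
  · intro gz hz fz g' h' f' hgz hhz hfz ez hg' hh' hf' e'
    have ez' : t * (fx * gy) = gz * hz * t * fz * t := by
      rw [← ez, mul_assoc (t * (fx * gy)), hS.mul_self, mul_one]
    have key : t * (x * y) * t = gx * (hx * gz * hx⁻¹) * (hx * hz * hy) * t *
        ((t * hy * t)⁻¹ * fz * (t * hy * t) * fy) := by
      calc t * (x * y) * t = gx * hx * (gz * hz * t * fz * t) * hy * t * fy := by rw [hprod, ez']
        _ = gx * (hx * gz * hx⁻¹) * (hx * hz * hy) *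
            (hy⁻¹ * t * fz * (t * hy * t) * fy) := by group
        _ = gx * (hx * gz * hx⁻¹) * (hx * hz * hy) *
            (t * (t⁻¹ * hy⁻¹ * t * fz * (t * hy * t) * fy)) := by group
        _ = gx * (hx * gz * hx⁻¹) * (hx * hz * hy) * t *
            (t * hy⁻¹ * t * fz * (t * hy * t) * fy) := by rw [ht]; group
        _ = _ := by rw [mul_inv_rev, mul_inv_rev, ht, ← mul_assoc t hy⁻¹ t]
    have hc := hconj hy hhy
    have hf1 : (t * hy * t)⁻¹ * fz * (t * hy * t) * fy ∈ Q := by
      refine Q.mul_mem ?_ hfy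
      have := hS.conj_mem _ ((MulAction.stabilizer G a).inv_mem hc.1) fz hfz
      rwa [inv_inv] at this
    obtain ⟨-, r1, r2⟩ := CfsgLib.RankOne.bruhat_unique' hS hg' hh' hf'
      (Q.mul_mem hgx (hS.conj_mem hx hhx.1 gz hgz)) (mul_mem (mul_mem hhx hhz) hhy) hf1 (e' ▸ key)
    exact ⟨r2, r1⟩

end Cfsg.Agent.S1166
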