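import Cfsg.Statements.S1167
import Mathlib
import Cfsg.Agent.Lib.Perm.ZassG.Half

set_option autoImplicit false
open Cfsg

namespace Cfsg.Agent.S1167

/-- Let `G` be a finite simple Zassenhaus group on `Ω`, `U` a normal subgroup of `G_a` regular on `Ω` minus `a` which is an abelian 2-group, and `v` an involution with `v • a ≠ a`. Then there is a unique `u₀ ∈ U`, `u₀ ≠ 1`, with `v u₀ v = u₀ v u₀`. -/
theorem result {G Ω : Type*} [Group G] [Finite G] [MulAction G Ω] [Finite Ω]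
    (hZ : Cfsg.IsZassenhausGroup G Ω) [IsSimpleGroup G] {a : Ω}
    (U : Subgroup G) (hUle : U ≤ MulAction.stabilizer G a)
    (hUn : ∀ h ∈ MulAction.stabilizer G a, ∀ u ∈ U, h * u * h⁻¹ ∈ U)
    (hreg : ∀ c d : Ω, c ≠ a → d ≠ a → ∃! u : U, (u : G) • c = d)
    (hU2 : IsPGroup 2 U) (hUab : ∀ u ∈ U, ∀ u' ∈ U, u * u' = u' * u)
    (v : G) (hv1 : v ≠ 1) (hv2 : v * v = 1) (hva : v • a ≠ a) :
    ∃! u₀ : G, u₀ ∈ U ∧ u₀ ≠ 1 ∧ v * u₀ * v = u₀ * v * u₀ := by
  classical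
  haveI : Fact (Nat.Prime 2) := ⟨Nat.prime_two⟩
  obtain ⟨b, hb⟩ : ∃ b, v • a = b := ⟨_, rfl⟩
  have hab : a ≠ b := fun h => hva (hb.trans h.symm)
  have hvv : ∀ x : Ω, v • v • x = x := fun x => by rw [smul_smul, hv2, one_smul]
  have hvb : v • b = a := by rw [← hb, hvv]
  have hF : CfsgLib.Perm.ZassG.IsKernel a U := ⟨hUle, hUn, hreg⟩
  have hcomm : ∀ u w : U, u * w = w * u := fun u w => Subtype.ext (hUab u u.2 w w.2)
  have hn := hF.card_add_one hab
  have hcases := CfsgLib.Perm.ZassG.card_cases hZ hab hF hcomm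
  have hUne := hF.ne_bot hZ hab
  obtain ⟨k, hk⟩ := IsPGroup.iff_card.1 hU2
  have hk0 : k ≠ 0 := fun h => hUne (Subgroup.card_eq_one.1 (by rw [hk, h, pow_zero]))
  have hUeven : 2 ∣ Nat.card U := hk ▸ dvd_pow_self 2 hk0
  have hd : Nat.card U - 1 ≤ 2 * Nat.card (CfsgLib.Perm.ZassG.pairStab G a b) := by omega
  have hodd : ¬ 2 ∣ Nat.card (CfsgLib.Perm.ZassG.pairStab G a b) := by omega
  obtain ⟨-, p, f, hp, hf, hexp, hcard⟩ := hF.elementary hZ hab hd
  have hp2 : p = 2 := by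
    have h : p ∣ 2 ^ k := hk ▸ hcard ▸ dvd_pow_self p hf.ne'
    exact (Nat.prime_dvd_prime_iff_eq hp Nat.prime_two).1 (hp.dvd_of_dvd_pow h)
  subst hp2
  have hinv : ∀ u ∈ U, u⁻¹ = u := fun u hu => inv_eq_of_mul_eq_one_right (by rw [← sq, hexp u hu])
  -- the fixed point of `v`
  have hfixuniq : ∀ x y : Ω, v • x = x → v • y = y → x = y := by
    intro x y hx hy
    by_contra hne
    obtain ⟨g, hga, hgb⟩ := CfsgLib.Perm.ZassG.exists_move hZ a b x y hab hne
    have hmem : g⁻¹ * v * g ∈ CfsgLib.Perm.ZassG.pairStab G a b := by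
      refine CfsgLib.Perm.ZassG.mem_pairStab.2 ⟨?_, ?_⟩
      · rw [mul_smul, mul_smul, hga, hx, ← hga, inv_smul_smul]
      · rw [mul_smul, mul_smul, hgb, hy, ← hgb, inv_smul_smul]
    apply hodd
    refine dvd_trans (Eq.dvd ?_) (Subgroup.orderOf_dvd_natCard _ hmem)
    refine (orderOf_eq_prime ?_ ?_).symm
    · rw [sq, show g⁻¹ * v * g * (g⁻¹ * v * g) = g⁻¹ * (v * v) * g by group, hv2, mul_one, inv_mul_cancel]
    · intro h
      apply hv1
      calc v = g * (g⁻¹ * v * g) * g⁻¹ := by group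
        _ = 1 := by rw [h]; group
  obtain ⟨c, hc⟩ : ∃ c : Ω, v • c = c := by
    have hpz : IsPGroup 2 ↥(Subgroup.zpowers v) := by
      refine IsPGroup.of_card (n := 1) ?_
      rw [Nat.card_zpowers, pow_one, orderOf_eq_prime (by rw [sq, hv2]) hv1]
    haveI : Nonempty ↥(MulAction.fixedPoints (↥(Subgroup.zpowers v)) Ω) :=
      (hpz.nonempty_fixed_point_of_prime_not_dvd_card Ω (by omega)).to_subtype
    obtain ⟨⟨c, hc⟩⟩ := this
    exact ⟨c, hc ⟨v, Subgroup.mem_zpowers v⟩⟩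
  have hca : c ≠ a := fun h => hva (h ▸ hc)
  have hcb : c ≠ b := by
    intro h
    rw [h, hvb] at hc
    exact hab hc
  obtain ⟨⟨u, hu⟩, huc, huniq⟩ := hreg b c hab.symm hca
  have huc' : u • b = c := huc
  have hu1 : u ≠ 1 := fun h => hcb (by rw [← huc', h, one_smul])
  have hua : u • a = a := hUle hu
  have hucb : u • c = b := by
    rw [← huc', smul_smul]
    conv_lhs => rw [show u = u⁻¹ from (hinv u hu).symm]
    rw [hinv u hu, ← sq, hexp u hu, one_smul]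
  refine ⟨u, ⟨hu, hu1, ?_⟩, ?_⟩
  · rw [← inv_mul_eq_one]
    refine CfsgLib.Perm.ZassG.eq_one_of_three hZ hab hcb.symm hca.symm ?_ ?_ ?_ <;>
      simp only [mul_smul, inv_smul_eq_iff, hb, hvb, hc, hua, huc', hucb]
  · rintro w ⟨hw, -, hweq⟩
    have h := congrArg (· • b) hweq
    simp only [mul_smul, hvb] at h
    rw [MulAction.mem_stabilizer_iff.1 (hUle hw), hb] at h
    -- `h : b = w • v • w • b`
    have h2 : v • w • b = w • b := by
      have h3 := (eq_inv_smul_iff.2 h.symm)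
      rwa [hinv w hw] at h3
    have hwb : w • b = c := hfixuniq _ _ h2 hc
    exact congrArg Subtype.val (huniq ⟨w, hw⟩ hwb)

end Cfsg.Agent.S1167
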