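import Cfsg.Statements.S1176
import Cfsg.Agent.Lib.Involutions.Basic

set_option autoImplicit false
open Cfsg

namespace Cfsg.Agent.S1176

/-- Let x₀ be an involution of the finite group G and D its conjugacy class. Assume (a) for each x ∈ D the subgroup W(x) generated by the members of D commuting with x is a 2-group of nilpotency class at most 2, and (b) the product of two distinct commuting members of D again lies in D. Then for all x, y ∈ D, if xy has even order greater than 2, its order is 4. -/
theorem result {G : Type*} [Group G] [Finite G] (x₀ : G) (hx₀ : orderOf x₀ = 2) (ha : ∀ x : G, IsConj x₀ x → IsPGroup 2 ↥(Subgroup.closure {y : G | IsConj x₀ y ∧ Commute y x}) ∧ ⁅⁅Subgroup.closure {y : G | IsConj x₀ y ∧ Commute y x}, Subgroup.closure {y : G | IsConj x₀ y ∧ Commute y x}⁆, Subgroup.closure {y : G | IsConj x₀ y ∧ Commute y x}⁆ = ⊥) (hb : ∀ x y : G, IsConj x₀ x → IsConj x₀ y → x ≠ y → Commute x y → IsConj x₀ (x * y)) (x y : G) (hx : IsConj x₀ x) (hy : IsConj x₀ y) (heven : Even (orderOf (x *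 y))) (hgt : 2 < orderOf (x * y)) : orderOf (x * y) = 4 := by
  open CfsgLib.Involutions in
  open scoped commutatorElement in
  have hxo := isConj_invol hx hx₀
  have hyo := isConj_invol hy hx₀
  have hz := half_invol (x := x) (y := y) heven
  have hzx := half_comm_left hxo hyo heven
  have hzy := half_comm_right hxo hyo heven
  have hzD : IsConj x₀ ((x * y) ^ (orderOf (x * y) / 2)) := by
    have hxz : IsConj x₀ (x * (x * y) ^ (orderOf (x * y) / 2)) := by
      obtain ⟨d, -, ⟨-, hd⟩ | ⟨-, hd⟩⟩ := mul_half_conj_self_or hxo hyo heven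
      · exact hx.trans (isConj_iff.2 ⟨d, hd⟩)
      · exact hy.trans (isConj_iff.2 ⟨d, hd⟩)
    have hne : x ≠ x * (x * y) ^ (orderOf (x * y) / 2) := fun h =>
      invol_ne_one hz (mul_eq_left.1 h.symm)
    have := hb _ _ hx hxz hne ((Commute.refl x).mul_right hzx.symm)
    rwa [← mul_assoc, invol_mul_self hxo, one_mul] at this
  have hcls := (ha _ hzD).2
  let W := Subgroup.closure {w : G | IsConj x₀ w ∧ Commute w ((x * y) ^ (orderOf (x * y) / 2))}
  have hxW : x ∈ W := Subgroup.subset_closure ⟨hx, hzx.symm⟩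
  have hyW : y ∈ W := Subgroup.subset_closure ⟨hy, hzy.symm⟩
  have h1 : ⁅⁅x, y⁆, x⁆ ∈ ⁅⁅W, W⁆, W⁆ :=
    Subgroup.commutator_mem_commutator (Subgroup.commutator_mem_commutator hxW hyW) hxW
  rw [hcls, Subgroup.mem_bot] at h1
  have hxy : ⁅x, y⁆ = (x * y) ^ (2 : ℤ) := by
    rw [commutatorElement_def, invol_inv hxo, invol_inv hyo, zpow_two]; group
  have h4 : (x * y) ^ (4 : ℤ) = 1 := by
    have e := conj_zpow_of_inverted (invol_conj_prod_left hxo hyo) (-2)
    rw [hxy, commutatorElement_def, mul_assoc, mul_assoc, ← zpow_neg, ← mul_assoc x, e,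
      ← zpow_add] at h1
    exact h1
  have h5 : orderOf (x * y) ∣ 4 := orderOf_dvd_iff_pow_eq_one.2 (by exact_mod_cast h4)
  have := Nat.le_of_dvd (by norm_num) h5
  interval_cases h : orderOf (x * y) <;> first | rfl | (revert h5; decide)

end Cfsg.Agent.S1176
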