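import Cfsg.Statements.S1177
import Cfsg.Agent.Lib.Involutions.StrongEmb

set_option autoImplicit false
open Cfsg

namespace Cfsg.Agent.S1177

/-- Let A be a nontrivial elementary abelian 2-subgroup of a finite group G which is a T.I. set (each conjugate of A meets A trivially or equals A) and which does not commute elementwise with any conjugate of A other than A itself. Then for every a ∈ A, a ≠ 1, every conjugate of A contained in C_G(a) is equal to A (A is weakly closed in C_G(a)). -/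
theorem result {G : Type*} [Group G] [Finite G] (A : Subgroup G) (hA : Cfsg.IsElementaryAbelian 2 A) (hA1 : A ≠ ⊥) (hTI : ∀ g : G, A.map (MulAut.conj g).toMonoidHom ⊓ A = ⊥ ∨ A.map (MulAut.conj g).toMonoidHom = A) (hb : ∀ g : G, (∀ a ∈ A, ∀ b ∈ A.map (MulAut.conj g).toMonoidHom, a * b = b * a) → A.map (MulAut.conj g).toMonoidHom = A) (a : G) (ha : a ∈ A) (ha1 : a ≠ 1) (g : G) (hg : A.map (MulAut.conj g).toMonoidHom ≤ Subgroup.centralizer ({a} : Set G)) : A.map (MulAut.conj g).toMonoidHom = A := by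
  open CfsgLib.Involutions in
  by_contra hne
  have hcomm : ∀ x ∈ A, ∀ y ∈ A, x * y = y * x := fun x hx y hy =>
    congrArg Subtype.val (hA.1.1.1 (⟨x, hx⟩ : A) ⟨y, hy⟩)
  have hBcomm : ∀ x ∈ A.map (MulAut.conj g).toMonoidHom, Commute a x := fun x hx =>
    mem_centralizer_singleton.1 (hg hx)
  have hdisj := (hTI g).resolve_right hne
  -- every element of the conjugate normalises `A`
  have hnorm : ∀ b ∈ A.map (MulAut.conj g).toMonoidHom, ∀ x ∈ A, b * x * b⁻¹ ∈ A := by
    intro b hb x hx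
    have hmap : A.map (MulAut.conj b).toMonoidHom = A := by
      refine (hTI b).resolve_left fun h => ha1 ?_
      rw [← Subgroup.mem_bot, ← h]
      exact ⟨⟨a, ha, by simp [← (hBcomm b hb).eq]⟩, ha⟩
    exact hmap ▸ map_conj_mem hx
  have hsq : ∀ x ∈ A, x⁻¹ = x := fun x hx => inv_eq_of_mul_eq_one_right (by rw [← sq]; exact hA.2 x hx)
  have hBsq : ∀ b ∈ A.map (MulAut.conj g).toMonoidHom, b * b = 1 := by
    rintro _ ⟨x, hx, rfl⟩
    rw [← map_mul, ← sq, hA.2 x hx, map_one]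
  let A₀ : Subgroup G := A ⊓ Subgroup.centralizer (A.map (MulAut.conj g).toMonoidHom : Set G)
  have hA₀ : ∀ x, x ∈ A₀ ↔ x ∈ A ∧ ∀ b ∈ A.map (MulAut.conj g).toMonoidHom, b * x * b⁻¹ = x := by
    intro x
    simp only [A₀, Subgroup.mem_inf, Subgroup.mem_centralizer_iff, SetLike.mem_coe,
      mul_inv_eq_iff_eq_mul]
  by_cases hall : ∀ x ∈ A, x ∈ A₀
  · refine hne (hb g fun x hx y hy => ?_)
    have := ((hA₀ x).1 (hall x hx)).2 y hy
    rw [mul_inv_eq_iff_eq_mul] at this
    exact this.symm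
  push Not at hall
  -- pick `x` with all commutators with the conjugate centralised by it
  obtain ⟨x, hxA, hx0, hx2⟩ : ∃ x ∈ A, x ∉ A₀ ∧
      ∀ b ∈ A.map (MulAut.conj g).toMonoidHom, b * x * b⁻¹ * x⁻¹ ∈ A₀ := by
    classical
    obtain ⟨x₀, hx₀, hx₀'⟩ := hall
    -- minimise the set of moved points
    by_contra hno
    push Not at hno
    have hstep : ∀ x : {x : G // x ∈ A ∧ x ∉ A₀}, ∃ y : {x : G // x ∈ A ∧ x ∉ A₀},
        {b : G | b ∈ A.map (MulAut.conj g).toMonoidHom ∧ b * x.1 * b⁻¹ = x.1} ⊂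
        {b : G | b ∈ A.map (MulAut.conj g).toMonoidHom ∧ b * y.1 * b⁻¹ = y.1} := by
      rintro ⟨x, hxA, hx0⟩
      obtain ⟨b, hbB, hnb⟩ := hno x hxA hx0
      have hyA : b * x * b⁻¹ * x⁻¹ ∈ A := A.mul_mem (hnorm b hbB x hxA) (A.inv_mem hxA)
      refine ⟨⟨_, hyA, hnb⟩, ?_, ?_⟩
      · rintro c ⟨hc, hcx⟩
        refine ⟨hc, ?_⟩
        have hbc : c * b = b * c := by
          obtain ⟨u, hu, rfl⟩ := hc
          obtain ⟨v, hv, rfl⟩ := hbB
          rw [← map_mul, ← map_mul, hcomm u hu v hv]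
        calc c * (b * x * b⁻¹ * x⁻¹) * c⁻¹
            = (c * b) * x * (c * b)⁻¹ * (c * x⁻¹ * c⁻¹) := by group
          _ = b * (c * x * c⁻¹) * b⁻¹ * (c * x * c⁻¹)⁻¹ := by rw [hbc]; group
          _ = b * x * b⁻¹ * x⁻¹ := by rw [hcx]
      · intro hsub
        have hfix : b * (b * x * b⁻¹ * x⁻¹) * b⁻¹ = b * x * b⁻¹ * x⁻¹ := by
          have hb2 : b⁻¹ = b := inv_eq_of_mul_eq_one_right (hBsq b hbB)
          have e1 : b * (b * x * b⁻¹ * x⁻¹) * b⁻¹ = x * (b * x * b⁻¹)⁻¹ := by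
            calc b * (b * x * b⁻¹ * x⁻¹) * b⁻¹ = (b * b) * x * b⁻¹ * x⁻¹ * b⁻¹ := by group
              _ = x * b * x⁻¹ * b⁻¹ := by rw [hBsq b hbB, hb2, one_mul]
              _ = x * b⁻¹⁻¹ * x⁻¹ * b⁻¹ := by rw [inv_inv]
              _ = x * (b * x * b⁻¹)⁻¹ := by group
          rw [e1, hsq _ (hnorm b hbB x hxA), hsq x hxA, hcomm _ hxA _ (hnorm b hbB x hxA)]
        have := (hsub ⟨hbB, hfix⟩).2
        apply hnb
        rw [this, mul_inv_cancel]
        exact A₀.one_mem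
    obtain ⟨x, -, hmax⟩ := Set.exists_max_image (Set.univ : Set {x : G // x ∈ A ∧ x ∉ A₀})
      (fun x => Set.ncard {b : G | b ∈ A.map (MulAut.conj g).toMonoidHom ∧ b * x.1 * b⁻¹ = x.1})
      (Set.toFinite _) ⟨⟨x₀, hx₀, hx₀'⟩, trivial⟩
    obtain ⟨y, hy⟩ := hstep x
    exact absurd (hmax y trivial) (not_le.2 (Set.ncard_lt_ncard hy))
  -- the commutator map is an injection of the conjugate into `A₀`
  have hinj : Function.Injective (fun b : A.map (MulAut.conj g).toMonoidHom =>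
      (⟨b.1 * x * b.1⁻¹ * x⁻¹, hx2 _ b.2⟩ : A₀)) := by
    intro b c hbc
    have hbc' : (b : G) * x * (b : G)⁻¹ * x⁻¹ = c * x * (c : G)⁻¹ * x⁻¹ := congrArg Subtype.val hbc
    have hfix : ((c⁻¹ * b : A.map (MulAut.conj g).toMonoidHom) : G) * x *
        ((c⁻¹ * b : A.map (MulAut.conj g).toMonoidHom) : G)⁻¹ = x := by
      have e := mul_right_cancel hbc'
      simp only [Subgroup.coe_mul, Subgroup.coe_inv]
      calc (c : G)⁻¹ * b * x * ((c : G)⁻¹ * b)⁻¹ = (c : G)⁻¹ * (b * x * (b : G)⁻¹) * c := by group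
        _ = x := by rw [e]; group
    rw [← inv_mul_eq_one]
    by_contra hbc1
    -- a nontrivial element of the conjugate fixing `x` makes `x` normalise the conjugate
    have hcB : ((c⁻¹ * b : A.map (MulAut.conj g).toMonoidHom) : G) ≠ 1 := fun h => hbc1 (by
      rw [show b⁻¹ * c = (c⁻¹ * b)⁻¹ by group, inv_eq_one]
      exact Subtype.ext h)
    have hxB : ∀ d ∈ (A.map (MulAut.conj g).toMonoidHom), x * d * x⁻¹ ∈ (A.map (MulAut.conj g).toMonoidHom) := by
      intro d hd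
      refine mem_conj_map.2 ?_
      have hmap : A.map (MulAut.conj (g⁻¹ * x * g)).toMonoidHom = A := by
        refine (hTI _).resolve_left fun h => hcB ?_
        obtain ⟨w, hw, hw'⟩ := ((c⁻¹ * b : A.map (MulAut.conj g).toMonoidHom)).2
        have : w = 1 := by
          rw [← Subgroup.mem_bot, ← h]
          refine ⟨⟨w, hw, ?_⟩, hw⟩
          simp only [MulEquiv.coe_toMonoidHom, MulAut.conj_apply] at hw' ⊢
          rw [← hw'] at hfix
          have hfix2 : x * (g * w * g⁻¹) * x⁻¹ = g * w * g⁻¹ := by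
            rw [mul_inv_eq_iff_eq_mul]
            exact (mul_inv_eq_iff_eq_mul.1 hfix).symm
          calc g⁻¹ * x * g * w * (g⁻¹ * x * g)⁻¹ = g⁻¹ * (x * (g * w * g⁻¹) * x⁻¹) * g := by group
            _ = w := by rw [hfix2]; group
        rw [← hw', this]
        simp
      have := mem_conj_map.1 hd
      have h2 := hmap ▸ map_conj_mem (g := g⁻¹ * x * g) this
      convert h2 using 1
      group
    have hcontra : x ∈ A₀ := (hA₀ x).2 ⟨hxA, fun d hd => by
      have h1 : d * x * d⁻¹ * x⁻¹ ∈ (A.map (MulAut.conj g).toMonoidHom) ⊓ A := by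
        refine ⟨?_, A.mul_mem (hnorm d hd x hxA) (A.inv_mem hxA)⟩
        rw [show d * x * d⁻¹ * x⁻¹ = d * (x * d⁻¹ * x⁻¹) by group]
        exact (A.map (MulAut.conj g).toMonoidHom).mul_mem hd (hxB _ ((A.map (MulAut.conj g).toMonoidHom).inv_mem hd))
      rw [hdisj, Subgroup.mem_bot, mul_inv_eq_one] at h1
      exact h1⟩
    exact hx0 hcontra
  have hcard := Nat.card_le_card_of_injective _ hinj
  rw [Nat.card_congr (Subgroup.equivMapOfInjective A _ (MulAut.conj g).injective).symm.toEquiv]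
    at hcard
  have := Subgroup.eq_of_le_of_card_ge (inf_le_left : A₀ ≤ A) hcard
  exact hx0 (this.ge hxA)

end Cfsg.Agent.S1177
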