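import Cfsg.Statements.S1178
import Cfsg.Agent.Lib.Involutions.Isolated
import Cfsg.Agent.Lib.Transfer.Fusion

set_option autoImplicit false
open Cfsg

namespace Cfsg.Agent.S1178

/-- Let A be a subgroup of a Sylow 2-subgroup S of the finite group G which is weakly closed in S. If a conjugate g A g⁻¹ commutes elementwise with A, then g A g⁻¹ = A. -/
theorem result {G : Type*} [Group G] [Finite G] (S : Sylow 2 G) (A : Subgroup G) (hW : Cfsg.IsWeaklyClosed A (S : Subgroup G)) (g : G) (hc : ∀ a ∈ A, ∀ b ∈ A.map (MulAut.conj g).toMonoidHom, a * b = b * a) : A.map (MulAut.conj g).toMonoidHom = A := by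
  open CfsgLib.Involutions in
  have hAp : IsPGroup 2 A := S.isPGroup'.to_le hW.1
  have hle : A.map (MulAut.conj g).toMonoidHom ≤ Subgroup.normalizer (A : Set G) := by
    intro b hb
    rw [Subgroup.mem_normalizer_iff]
    intro a
    constructor
    · intro ha; rw [← hc a ha b hb, mul_inv_cancel_right]; exact ha
    · intro ha
      have := hc _ ha b hb
      have e : b * a * b⁻¹ = a := by
        have h1 : b * a = b * (b * a * b⁻¹) := by rw [← this]; group
        exact (mul_left_cancel h1).symm
      rwa [e] at ha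
  obtain ⟨Q, hQ⟩ := (IsPGroup.to_sup_of_normal_left' hAp (hAp.map _) hle).exists_le_sylow
  obtain ⟨x, hx⟩ := MulAction.exists_smul_eq G Q S
  have key : ∀ v : G, A.map (MulAut.conj v).toMonoidHom ≤ (Q : Subgroup G) →
      A.map (MulAut.conj (x * v)).toMonoidHom = A := by
    intro v hv
    refine hW.2 _ ?_
    rintro _ ⟨a, ha, rfl⟩
    rw [← hx]
    refine mem_smul_sylow_iff'.2 ?_
    have := hv ⟨a, ha, rfl⟩
    simp only [MulEquiv.coe_toMonoidHom, MulAut.conj_apply] at this ⊢
    rw [show x⁻¹ * (x * v * a * (x * v)⁻¹) * x = v * a * v⁻¹ by group]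
    exact this
  have e1 := key 1 (le_trans (by rintro _ ⟨a, ha, rfl⟩; simpa using ha) (le_trans le_sup_left hQ))
  have e2 := key g (le_trans le_sup_right hQ)
  rw [mul_one] at e1
  exact Subgroup.mem_normalizer_iff_map_conj_eq.1 ((Subgroup.mul_mem_cancel_left _
    (Subgroup.mem_normalizer_iff_map_conj_eq.2 e1)).1 (Subgroup.mem_normalizer_iff_map_conj_eq.2 e2))

end Cfsg.Agent.S1178
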