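import Cfsg.Statements.S1181
import Cfsg.Agent.Lib.Involutions.Isolated

set_option autoImplicit false
open Cfsg

namespace Cfsg.Agent.S1181

/-- Let z be an isolated involution of the finite group G and N a normal subgroup with z ∉ N. Then the centralizer of zN in G/N is the image of C_G(z), and zN is an isolated involution of G/N. -/
theorem result {G : Type*} [Group G] [Finite G] (z : G) (hz : Cfsg.IsIsolatedInvolution z) (N : Subgroup G) [N.Normal] (hzN : z ∉ N) : Subgroup.centralizer ({(QuotientGroup.mk z : G ⧸ N)} : Set (G ⧸ N)) = (Subgroup.centralizer ({z} : Set G)).map (QuotientGroup.mk' N) ∧ Cfsg.IsIsolatedInvolution (QuotientGroup.mk z : G ⧸ N) := by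
  open CfsgLib.Involutions in
  have mk_eq : ∀ a b : G, ((a : G ⧸ N) = (b : G ⧸ N)) ↔ a⁻¹ * b ∈ N := fun a b => QuotientGroup.eq
  refine ⟨le_antisymm ?_ ?_, ?_, ?_⟩
  · intro q hq
    obtain ⟨g, rfl⟩ := QuotientGroup.mk'_surjective N q
    rw [mem_centralizer_singleton, QuotientGroup.mk'_apply, Commute, SemiconjBy,
      ← QuotientGroup.mk_mul, ← QuotientGroup.mk_mul] at hq
    have hv : IsConj z (g * z * g⁻¹) := isConj_iff.2 ⟨g, rfl⟩
    have hzv : z * (g * z * g⁻¹) ∈ N := by
      have := Subgroup.Normal.conj_mem inferInstance _ ((mk_eq _ _).1 hq) g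
      rw [show g * ((z * g)⁻¹ * (g * z)) * g⁻¹ = z⁻¹ * (g * z * g⁻¹) by group, invol_inv hz.1] at this
      exact this
    obtain ⟨k, hk⟩ := Isolated.exists_zpow_conj hz hv
    refine ⟨((z * (g * z * g⁻¹)) ^ k)⁻¹ * g, conj_eq_iff_inv_mul_mem.1 hk.symm, ?_⟩
    rw [map_mul, map_inv, (QuotientGroup.eq_one_iff _).2 (N.zpow_mem hzv k) |>
      fun h => (show QuotientGroup.mk' N ((z * (g * z * g⁻¹)) ^ k) = 1 from h), inv_one, one_mul]
  · rintro _ ⟨c, hc, rfl⟩
    rw [mem_centralizer_singleton]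
    exact (mem_centralizer_singleton.1 hc).map (QuotientGroup.mk' N)
  · rw [invol_iff, ← QuotientGroup.mk_mul, invol_mul_self hz.1]
    exact ⟨rfl, fun h => hzN ((QuotientGroup.eq_one_iff z).1 h)⟩
  · intro q hq
    obtain ⟨g, rfl⟩ := QuotientGroup.mk'_surjective N q
    simp only [QuotientGroup.mk'_apply, ← QuotientGroup.mk_inv, ← QuotientGroup.mk_mul] at hq ⊢
    have hv : IsConj z (g * z * g⁻¹) := isConj_iff.2 ⟨g, rfl⟩
    have hodd := Isolated.odd_orderOf_mul hz hv
    generalize g * z * g⁻¹ = v at *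
    have hvo := isConj_invol hv hz.1
    rw [Commute, SemiconjBy, ← QuotientGroup.mk_mul, ← QuotientGroup.mk_mul, mk_eq] at hq
    rw [mul_inv_rev, invol_inv hz.1, invol_inv hvo] at hq
    have h2 : (z * v) ^ 2 ∈ N := by
      have := N.inv_mem hq
      simpa only [sq, mul_inv_rev, invol_inv hz.1, invol_inv hvo, ← mul_assoc] using this
    obtain ⟨k, hk⟩ := exists_zpow_sq_eq hodd
    have h3 : z * v ∈ N := by
      rw [← hk, ← zpow_natCast, ← zpow_mul, mul_comm, zpow_mul]
      exact N.zpow_mem (by rwa [zpow_natCast]) k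
    rw [mk_eq]
    have := N.inv_mem h3
    rw [mul_inv_rev, invol_inv hz.1] at this
    exact this

end Cfsg.Agent.S1181
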