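import Cfsg.Statements.S1183
import Cfsg.Agent.Lib.Involutions.Isolated
import Cfsg.Agent.S1182
import Cfsg.Agent.Lib.Transfer.Control
import Cfsg.Agent.Lib.Techniques.Residual

set_option autoImplicit false
open Cfsg

namespace Cfsg.Agent.S1183

/-- Let z be an isolated involution of the finite group G and C = C_G(z). Then the subgroup of G generated by its elements of odd order is all of G if and only if the subgroup of C generated by its elements of odd order is all of C. -/
theorem result {G : Type*} [Group G] [Finite G] (z : G) (hz : Cfsg.IsIsolatedInvolution z) : Cfsg.pResidual 2 G = ⊤ ↔ Cfsg.pResidual 2 ↥(Subgroup.centralizer ({z} : Set G)) = ⊤ := by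
  open CfsgLib.Involutions in
  open Subgroup in
  obtain ⟨P, hzP⟩ : ∃ P : Sylow 2 G, z ∈ (P : Subgroup G) := by
    obtain ⟨P, hP⟩ := (IsPGroup.iff_card.2 ⟨1, by rw [Nat.card_zpowers, hz.1, pow_one]⟩ :
      IsPGroup 2 (zpowers z)).exists_le_sylow
    exact ⟨P, hP (mem_zpowers z)⟩
  have hPC : (P : Subgroup G) ≤ centralizer ({z} : Set G) := by
    intro s hs
    obtain ⟨j, hj⟩ := P.isPGroup' ⟨z * (s * z * s⁻¹), mul_mem hzP
      (mul_mem (mul_mem hs hzP) (inv_mem hs))⟩
    have hodd := Isolated.odd_orderOf_mul hz (isConj_iff.2 ⟨s, rfl⟩)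
    have h1 : orderOf (z * (s * z * s⁻¹)) ∣ 2 ^ j :=
      orderOf_dvd_of_pow_eq_one (congrArg Subtype.val hj)
    have h2 : orderOf (z * (s * z * s⁻¹)) = 1 :=
      Nat.eq_one_of_dvd_coprimes ((Nat.coprime_two_left.2 hodd).pow_left j) h1 dvd_rfl
    rw [orderOf_eq_one_iff] at h2
    have h3 : s * z * s⁻¹ = z := by
      rw [← inv_eq_of_mul_eq_one_right h2, invol_inv hz.1]
    exact mem_centralizer_singleton_iff.2 (by
      calc s * z = s * z * s⁻¹ * s := by group
        _ = z * s := by rw [h3])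
  have hfus : ∀ x ∈ (P : Subgroup G), ∀ g : G, g * x * g⁻¹ ∈ (P : Subgroup G) →
      ∃ k ∈ centralizer ({z} : Set G), k * x * k⁻¹ = g * x * g⁻¹ := by
    intro x hx g hg
    obtain ⟨c, -, hc, hcx⟩ := S1182.result z hz ⊤ (mem_normalizer_iff.2 fun _ => by simp) x _
      (mem_top _) (mem_top _) (mem_centralizer_singleton_iff.1 (hPC hx))
      (mem_centralizer_singleton_iff.1 (hPC hg)) g (mem_top _) rfl
    exact ⟨c, mem_centralizer_singleton_iff.2 hc, hcx⟩
  have heq := CfsgLib.Transfer.inf_pResidual_eq_of_fusion P hPC hfus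
  let Q := P.subtype hPC
  have hG : Cfsg.pResidual 2 G = ⊤ ↔ (P : Subgroup G) ≤ Cfsg.pResidual 2 G := by
    refine ⟨fun h => h ▸ le_top, fun h => ?_⟩
    rw [← CfsgLib.Techniques.pResidual_sup_eq_top P.not_dvd_index]
    exact (sup_eq_left.2 h).symm
  have hC : Cfsg.pResidual 2 (centralizer ({z} : Set G)) = ⊤ ↔
      (Q : Subgroup (centralizer ({z} : Set G))) ≤ Cfsg.pResidual 2 _ := by
    refine ⟨fun h => h ▸ le_top, fun h => ?_⟩
    rw [← CfsgLib.Techniques.pResidual_sup_eq_top Q.not_dvd_index]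
    exact (sup_eq_left.2 h).symm
  rw [hG, hC]
  constructor
  · intro h x hx
    have hxP : (x : G) ∈ (P : Subgroup G) := hx
    obtain ⟨y, hy, hyx⟩ := (heq.le ⟨hxP, h hxP⟩).2
    rwa [← Subtype.ext hyx]
  · intro h x hx
    exact (heq.ge ⟨hx, ⟨x, hPC hx⟩, h (show (⟨x, hPC hx⟩ : centralizer ({z} : Set G)) ∈
      (Q : Subgroup (centralizer ({z} : Set G))) from hx), rfl⟩).2

end Cfsg.Agent.S1183
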