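import Cfsg.Statements.S1184
import Cfsg.Agent.Lib.Involutions.Isolated

set_option autoImplicit false
open Cfsg

namespace Cfsg.Agent.S1184

/-- Let z be an isolated involution of the finite group G. If s and t are distinct conjugates of z, then st does not commute with z. -/
theorem result {G : Type*} [Group G] [Finite G] (z : G) (hz : Cfsg.IsIsolatedInvolution z) (g h : G) (hne : g * z * g⁻¹ ≠ h * z * h⁻¹) : ¬ Commute (g * z * g⁻¹ * (h * z * h⁻¹)) z := by
  open CfsgLib.Involutions in
  intro hc
  have ha : IsConj z (g * z * g⁻¹) := isConj_iff.2 ⟨g, rfl⟩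
  have hb : IsConj z (h * z * h⁻¹) := isConj_iff.2 ⟨h, rfl⟩
  generalize g * z * g⁻¹ = a at *
  generalize h * z * h⁻¹ = b at *
  have hao := isConj_invol ha hz.1
  have hbo := isConj_invol hb hz.1
  obtain ⟨k, hk⟩ := Isolated.exists_zpow_conj hz ha
  -- `z` centralises `a * b`, `a` inverts it, and they are conjugate in a group normalising it
  have hinv : a * (a * b) * a⁻¹ = (a * b)⁻¹ := invol_conj_prod_left hao hbo
  have hmem : (z * a) ^ k ∈ Subgroup.normalizer (Subgroup.zpowers (a * b) : Set G) := by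
    refine Subgroup.zpow_mem _ (Subgroup.mul_mem _ ?_ ?_) k
    · rw [Subgroup.mem_normalizer_iff]
      intro x
      constructor
      · rintro ⟨i, rfl⟩
        exact ⟨i, (show z * (a * b) ^ i * z⁻¹ = _ by rw [← (hc.zpow_left i).eq, mul_inv_cancel_right]).symm⟩
      · rintro ⟨i, hi⟩
        refine ⟨i, ?_⟩
        have : z * (a * b) ^ i = z * x := by
          rw [← (hc.zpow_left i).eq]; dsimp only at hi; rw [hi, inv_mul_cancel_right]
        exact mul_left_cancel this
    · rw [Subgroup.mem_normalizer_iff]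
      intro x
      constructor
      · rintro ⟨i, rfl⟩
        exact ⟨-i, (conj_zpow_of_inverted hinv i).symm⟩
      · rintro ⟨i, hi⟩
        refine ⟨-i, ?_⟩
        dsimp only at hi ⊢
        rw [← conj_zpow_of_inverted hinv, hi, invol_inv hao, ← mul_assoc, ← mul_assoc,
          invol_mul_self hao, one_mul, mul_assoc, invol_mul_self hao, mul_one]
  generalize (z * a) ^ k = d at *
  apply hne
  have h1 : d⁻¹ * (a * b) * d ∈ Subgroup.zpowers (a * b) := by
    have := (Subgroup.mem_normalizer_iff.1 (Subgroup.inv_mem _ hmem) (a * b)).1 (Subgroup.mem_zpowers _)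
    simpa using this
  obtain ⟨i, hi⟩ := h1
  have hzi : z * (d⁻¹ * (a * b) * d) * z⁻¹ = d⁻¹ * (a * b) * d := by
    dsimp only at hi
    rw [← hi, ← (hc.zpow_left i).eq, mul_inv_cancel_right]
  have h2 : a * (a * b) * a⁻¹ = a * b := by
    calc a * (a * b) * a⁻¹ = d * (z * (d⁻¹ * (a * b) * d) * z⁻¹) * d⁻¹ := by rw [← hk]; group
      _ = a * b := by rw [hzi]; group
  rw [hinv] at h2
  have := eq_one_of_eq_inv_of_odd h2.symm (Isolated.odd_orderOf_mul' hz ha hb)
  rw [mul_eq_one_iff_inv_eq, invol_inv hao] at this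
  exact this

end Cfsg.Agent.S1184
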