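import Cfsg.Statements.S1185
import Cfsg.Agent.Lib.Involutions.Isolated

set_option autoImplicit false
open Cfsg

namespace Cfsg.Agent.S1185

/-- Let z be an isolated involution of the finite group G with centralizer C. Then for every g ∈ G there is exactly one element k in the coset gC that has odd order and is inverted by z. -/
theorem result {G : Type*} [Group G] [Finite G] (z : G) (hz : Cfsg.IsIsolatedInvolution z) (g : G) : ∃! k : G, (Odd (orderOf k) ∧ z * k * z⁻¹ = k⁻¹) ∧ g⁻¹ * k ∈ Subgroup.centralizer ({z} : Set G) := by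
  open CfsgLib.Involutions in
  have hv : IsConj z (g * z * g⁻¹) := isConj_iff.2 ⟨g, rfl⟩
  have hvo := isConj_invol hv hz.1
  have hodd := Isolated.odd_orderOf_mul hz hv
  obtain ⟨k, hk⟩ := Isolated.exists_zpow_conj hz hv
  have hiff : ∀ c : G, g⁻¹ * c ∈ Subgroup.centralizer ({z} : Set G) ↔ c * z * c⁻¹ = g * z * g⁻¹ :=
    fun c => conj_eq_iff_inv_mul_mem.symm
  refine ⟨(z * (g * z * g⁻¹)) ^ k, ⟨⟨?_, ?_⟩, (hiff _).2 hk⟩, ?_⟩
  · exact Odd.of_dvd_nat hodd (orderOf_dvd_of_mem_zpowers (Subgroup.zpow_mem_zpowers _ k))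
  · rw [conj_zpow_of_inverted (invol_conj_prod_left hz.1 hvo), zpow_neg]
  · rintro c ⟨⟨hco, hcz⟩, hcc⟩
    have hc2 := (hiff c).1 hcc
    have hczc : c * z * c⁻¹ = z * c⁻¹ * c⁻¹ := by
      have h1 : z * c⁻¹ * z⁻¹ = c := by
        rw [show z * c⁻¹ * z⁻¹ = (z * c * z⁻¹)⁻¹ by group, hcz, inv_inv]
      nth_rw 1 [← h1]
      group
    have key : c ^ (-2 : ℤ) = ((z * (g * z * g⁻¹)) ^ k) ^ (-2 : ℤ) := by
      have h3 := rot_conj_self hz.1 hvo k
      rw [hk, ← hc2, hczc, mul_assoc] at h3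
      have h4 := mul_left_cancel h3
      rw [← zpow_mul, mul_comm k, ← hc2, hczc, mul_assoc, ← h4]
      group
    have key2 : c ^ 2 = ((z * (g * z * g⁻¹)) ^ k) ^ 2 := by
      rw [zpow_neg, zpow_neg, inv_inj] at key
      exact_mod_cast key
    have hk' : Odd (orderOf ((z * (g * z * g⁻¹)) ^ k)) :=
      Odd.of_dvd_nat hodd (orderOf_dvd_of_mem_zpowers (Subgroup.zpow_mem_zpowers _ k))
    obtain ⟨a, ha⟩ := exists_zpow_sq_eq hco
    obtain ⟨m, hm⟩ := hco
    obtain ⟨n, hn⟩ := hk'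
    have e : ∀ (w : G) (N : ℕ), orderOf w ∣ N → w = w ^ (N + 1) := fun w N h => by
      rw [pow_succ, orderOf_dvd_iff_pow_eq_one.1 h, one_mul]
    generalize (z * (g * z * g⁻¹)) ^ k = w at *
    obtain ⟨q, hq⟩ : Odd (orderOf c * orderOf w) := Odd.mul ⟨m, hm⟩ ⟨n, hn⟩
    calc c = c ^ (2 * (q + 1)) := by
          rw [show 2 * (q + 1) = orderOf c * orderOf w + 1 by omega]; exact e _ _ (dvd_mul_right _ _)
      _ = w ^ (2 * (q + 1)) := by rw [pow_mul, pow_mul, key2]
      _ = w := by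
          rw [show 2 * (q + 1) = orderOf c * orderOf w + 1 by omega]
          exact (e _ _ (dvd_mul_left _ _)).symm

end Cfsg.Agent.S1185
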