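import Cfsg.Statements.S1186
import Cfsg.Agent.Lib.Involutions.Isolated
import Cfsg.Agent.S1184
import Cfsg.Agent.S1185

set_option autoImplicit false
open Cfsg

namespace Cfsg.Agent.S1186

/-- Let z be an isolated involution of the finite group G, C = C_G(z), K the set of elements of odd order inverted by z, and s an involution of C. Then |G| = |C| · |C_K(sz)| · |C_K(s)|. -/
theorem result {G : Type*} [Group G] [Finite G] (z : G) (hz : Cfsg.IsIsolatedInvolution z) (s : G) (hs : orderOf s = 2) (hsz : Commute s z) : Nat.card G = Nat.card (Subgroup.centralizer ({z} : Set G)) * Nat.card {k : G // Odd (orderOf k) ∧ z * k * z⁻¹ = k⁻¹ ∧ Commute k (s * z)} * Nat.card {k : G // Odd (orderOf k) ∧ z * k * z⁻¹ = k⁻¹ ∧ Commute k s} := by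
  open CfsgLib.Involutions in
  open Subgroup in
  let K : G → Prop := fun k => Odd (orderOf k) ∧ z * k * z⁻¹ = k⁻¹
  -- `k ↦ k z k⁻¹` is a bijection from `K` to the class of `z`
  have huniq : ∀ k l : G, K k → K l → k * z * k⁻¹ = l * z * l⁻¹ → k = l := by
    intro k l hk hl h
    obtain ⟨c, -, hc⟩ := S1185.result z hz l
    rw [hc k ⟨hk, conj_eq_iff_inv_mul_mem.1 h⟩, hc l ⟨hl, by rw [inv_mul_cancel]; exact one_mem _⟩]
  have hex : ∀ v : G, IsConj z v → ∃ k : G, K k ∧ k * z * k⁻¹ = v := by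
    intro v hv
    obtain ⟨g, rfl⟩ := isConj_iff.1 hv
    obtain ⟨k, ⟨hk, hk'⟩, -⟩ := S1185.result z hz g
    exact ⟨k, hk, conj_eq_iff_inv_mul_mem.2 hk'⟩
  -- it respects centralising an element of `C`
  have hcomm : ∀ a k : G, Commute a z → K k → (Commute k a ↔ Commute (k * z * k⁻¹) a) := by
    intro a k ha hk
    refine ⟨fun h => ((h.mul_left ha.symm).mul_left h.inv_left), fun h => ?_⟩
    have e : a * (k * z * k⁻¹) * a⁻¹ = k * z * k⁻¹ := by rw [← h.eq, mul_inv_cancel_right]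
    have hKa : K (a * k * a⁻¹) := by
      refine ⟨?_, ?_⟩
      · rw [orderOf_conj_eq]; exact hk.1
      · rw [conj_inv, ← hk.2]
        calc z * (a * k * a⁻¹) * z⁻¹ = (z * a) * k * (z * a)⁻¹ := by group
          _ = (a * z) * k * (a * z)⁻¹ := by rw [ha.eq]
          _ = a * (z * k * z⁻¹) * a⁻¹ := by group
    have h2 := huniq _ k hKa hk (by
      calc (a * k * a⁻¹) * z * (a * k * a⁻¹)⁻¹ = a * k * (a⁻¹ * z * a) * k⁻¹ * a⁻¹ := by group
        _ = a * k * z * k⁻¹ * a⁻¹ := by rw [mul_assoc a⁻¹, ← ha.eq, inv_mul_cancel_left]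
        _ = a * (k * z * k⁻¹) * a⁻¹ := by group
        _ = k * z * k⁻¹ := e)
    show k * a = a * k
    calc k * a = a * k * a⁻¹ * a := by rw [h2]
      _ = a * k := by group
  have hzz := invol_mul_self hz.1
  have hcls : Nat.card {k : G // Odd (orderOf k) ∧ z * k * z⁻¹ = k⁻¹ ∧ Commute k (s * z)} *
      Nat.card {k : G // Odd (orderOf k) ∧ z * k * z⁻¹ = k⁻¹ ∧ Commute k s} =
      Nat.card {y : G // IsConj z y} := by
    rw [← Nat.card_prod]
    let Φ : {k : G // Odd (orderOf k) ∧ z * k * z⁻¹ = k⁻¹ ∧ Commute k (s * z)} ×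
        {k : G // Odd (orderOf k) ∧ z * k * z⁻¹ = k⁻¹ ∧ Commute k s} → {y : G // IsConj z y} :=
      fun p => ⟨(p.2.1 * p.1.1) * z * (p.2.1 * p.1.1)⁻¹, isConj_iff.2 ⟨_, rfl⟩⟩
    have hsz' : Commute (s * z) z := hsz.mul_left (Commute.refl z)
    -- the key identity
    have key : ∀ p, p.2.1 * z * p.2.1⁻¹ * (Φ p).1 * (p.2.1 * z * p.2.1⁻¹)⁻¹
        = s * (Φ p).1 * s⁻¹ := by
      rintro ⟨⟨k2, h2⟩, ⟨k1, h1⟩⟩
      have hc := (hcomm _ k2 hsz' ⟨h2.1, h2.2.1⟩).1 h2.2.2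
      show k1 * z * k1⁻¹ * (k1 * k2 * z * (k1 * k2)⁻¹) * (k1 * z * k1⁻¹)⁻¹
        = s * (k1 * k2 * z * (k1 * k2)⁻¹) * s⁻¹
      calc _ = k1 * (s⁻¹ * ((s * z) * (k2 * z * k2⁻¹)) * z⁻¹) * k1⁻¹ := by group
        _ = k1 * (s⁻¹ * ((k2 * z * k2⁻¹) * (s * z)) * z⁻¹) * k1⁻¹ := by rw [hc.eq]
        _ = k1 * s⁻¹ * (k2 * z * k2⁻¹) * s * k1⁻¹ := by group
        _ = s⁻¹ * k1 * (k2 * z * k2⁻¹) * (k1⁻¹ * s) := by
            rw [h1.2.2.inv_right.eq, mul_assoc _ s k1⁻¹, ← h1.2.2.inv_left.eq]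
        _ = _ := by rw [invol_inv hs]; group
    refine Nat.card_congr (Equiv.ofBijective Φ ⟨?_, ?_⟩)
    · intro p q hpq
      have hu := isConj_invol (Φ p).2 hz.1
      have hp := key p
      have hq := key q
      rw [← hpq] at hq
      have hu' := (Isolated.of_isConj hz (Φ p).2)
      have hwp : IsConj z (p.2.1 * z * p.2.1⁻¹) := isConj_iff.2 ⟨_, rfl⟩
      have hwq : IsConj z (q.2.1 * z * q.2.1⁻¹) := isConj_iff.2 ⟨_, rfl⟩
      obtain ⟨gp, hgp⟩ := isConj_iff.1 ((Φ p).2.symm.trans hwp)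
      obtain ⟨gq, hgq⟩ := isConj_iff.1 ((Φ p).2.symm.trans hwq)
      have hw : q.2.1 * z * q.2.1⁻¹ = p.2.1 * z * p.2.1⁻¹ := by
        by_contra hne
        refine S1184.result _ hu' gq gp (by rwa [hgq, hgp]) ?_
        rw [hgq, hgp]
        have hqo := invol_inv (isConj_invol hwq hz.1)
        have hpo := invol_inv (isConj_invol hwp hz.1)
        generalize (Φ p).1 = u at *
        generalize p.2.1 * z * p.2.1⁻¹ = a at *
        generalize q.2.1 * z * q.2.1⁻¹ = b at *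
        show b * a * u = u * (b * a)
        calc b * a * u = b * (a * u * a⁻¹) * a := by group
          _ = b * (b * u * b⁻¹) * a := by rw [hp, hq]
          _ = b * b * u * b⁻¹ * a := by group
          _ = u * (b * a) := by
              rw [show b * b = 1 from by rw [← mul_inv_cancel b, hqo], one_mul, hqo, mul_assoc]
      have e1 : p.2 = q.2 := Subtype.ext
        (huniq _ _ ⟨p.2.2.1, p.2.2.2.1⟩ ⟨q.2.2.1, q.2.2.2.1⟩ hw.symm)
      refine Prod.ext (Subtype.ext (huniq _ _ ⟨p.1.2.1, p.1.2.2.1⟩ ⟨q.1.2.1, q.1.2.2.1⟩ ?_)) e1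
      have h := Subtype.ext_iff.1 hpq
      simp only [Φ, ← e1, mul_inv_rev] at h
      calc p.1.1 * z * p.1.1⁻¹
          = p.2.1⁻¹ * (p.2.1 * p.1.1 * z * (p.1.1⁻¹ * p.2.1⁻¹)) * p.2.1 := by group
        _ = _ := by rw [h]; group
    · rintro ⟨u, hu⟩
      have huo := isConj_invol hu hz.1
      have hu' := Isolated.of_isConj hz hu
      have hvC : IsConj u (s * u * s⁻¹) := isConj_iff.2 ⟨s, rfl⟩
      have hvo := isConj_invol hvC huo
      obtain ⟨i, hi⟩ := Isolated.exists_zpow_conj hu' hvC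
      have hodd := Isolated.odd_orderOf_mul hu' hvC
      have hinv := invol_conj_prod_left huo hvo
      have hud : u * (u * (s * u * s⁻¹)) ^ i * u⁻¹ = ((u * (s * u * s⁻¹)) ^ i)⁻¹ := by
        rw [conj_zpow_of_inverted hinv, zpow_neg]
      have hsd : s * (u * (s * u * s⁻¹)) ^ i * s⁻¹ = ((u * (s * u * s⁻¹)) ^ i)⁻¹ := by
        rw [← conj_zpow, ← inv_zpow]
        refine congrArg (· ^ i) ?_
        rw [mul_inv_rev, invol_inv huo, invol_inv hvo, invol_inv hs]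
        calc s * (u * (s * u * s)) * s = s * u * s * u * (s * s) := by group
          _ = s * u * s * u := by rw [invol_mul_self hs, mul_one]
      obtain ⟨j, hj⟩ := exists_zpow_sq_eq
        (Odd.of_dvd_nat hodd (orderOf_dvd_of_mem_zpowers (zpow_mem_zpowers _ i)))
      generalize (u * (s * u * s⁻¹)) ^ i = d at *
      have huj : u * d ^ j * u⁻¹ = (d ^ j)⁻¹ := by
        rw [conj_zpow_of_inverted hud, zpow_neg]
      generalize d ^ j = e at *
      subst hj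
      have hw : IsConj z (e ^ 2 * u) := hu.trans (isConj_iff.2 ⟨e, by
        calc e * u * e⁻¹ = e * (u * e⁻¹ * u⁻¹) * u := by group
          _ = e * (u * e * u⁻¹)⁻¹ * u := by group
          _ = e ^ 2 * u := by rw [huj, inv_inv, ← sq]⟩)
      obtain ⟨k1, hk1, hk1w⟩ := hex _ hw
      have hws : Commute (e ^ 2 * u) s := by
        have h1 : s * u = e ^ 2 * u * (e ^ 2)⁻¹ * s := by rw [hi]; group
        show e ^ 2 * u * s = s * (e ^ 2 * u)
        calc e ^ 2 * u * s = (e ^ 2 * u * (e ^ 2)⁻¹ * s) * (s⁻¹ * e ^ 2 * s) := by group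
          _ = (s * u) * (s⁻¹ * e ^ 2 * s) := by rw [h1]
          _ = (s * u) * (s * e ^ 2 * s⁻¹) := by rw [invol_inv hs]
          _ = s * (u * (e ^ 2)⁻¹ * u⁻¹) * u := by rw [hsd]; group
          _ = s * (e ^ 2 * u) := by
              rw [show u * (e ^ 2)⁻¹ * u⁻¹ = (u * e ^ 2 * u⁻¹)⁻¹ by group, hud, inv_inv, mul_assoc]
      have hk1s : Commute k1 s := (hcomm s k1 hsz hk1).2 (by rwa [hk1w])
      obtain ⟨k2, hk2, hk2u⟩ := hex (k1⁻¹ * u * k1)
        (hu.trans (isConj_iff.2 ⟨k1⁻¹, by rw [inv_inv]⟩))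
      have hk2s : Commute k2 (s * z) := by
        refine (hcomm _ k2 hsz' hk2).2 ?_
        rw [hk2u]
        have h1 : (e ^ 2 * u) * u * (e ^ 2 * u)⁻¹ = s * u * s⁻¹ := by
          rw [← hi]; group
        rw [← hk1w] at h1
        show k1⁻¹ * u * k1 * (s * z) = s * z * (k1⁻¹ * u * k1)
        calc k1⁻¹ * u * k1 * (s * z) = k1⁻¹ * u * s * (k1 * z) := by
              rw [show k1⁻¹ * u * k1 * (s * z) = k1⁻¹ * u * (k1 * s) * z by group, hk1s.eq]; group
          _ = k1⁻¹ * s * (s⁻¹ * u * s) * (k1 * z) := by group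
          _ = k1⁻¹ * s * (k1 * z * k1⁻¹ * u * (k1 * z * k1⁻¹)⁻¹) * (k1 * z) := by
              rw [h1, invol_inv hs]
          _ = (k1⁻¹ * s * k1) * z * (k1⁻¹ * u * k1) * (z⁻¹ * z) := by group
          _ = s * z * (k1⁻¹ * u * k1) := by
              rw [mul_assoc k1⁻¹, ← hk1s.eq, inv_mul_cancel_left, inv_mul_cancel, mul_one]
      refine ⟨(⟨k2, hk2.1, hk2.2, hk2s⟩, ⟨k1, hk1.1, hk1.2, hk1s⟩), Subtype.ext ?_⟩
      show k1 * k2 * z * (k1 * k2)⁻¹ = u
      calc k1 * k2 * z * (k1 * k2)⁻¹ = k1 * (k2 * z * k2⁻¹) * k1⁻¹ := by group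
        _ = u := by rw [hk2u]; group
  rw [mul_assoc, hcls, mul_comm, card_conjugates_mul]

end Cfsg.Agent.S1186
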