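import Cfsg.Statements.S1189
import Cfsg.Agent.Lib.Involutions.QuasiDihedral

set_option autoImplicit false
open Cfsg

namespace Cfsg.Agent.S1189

/-- A quasi-dihedral 2-group has exactly two conjugacy classes of elements of order 2 and exactly two conjugacy classes of elements of order 4. -/
theorem result {S : Type*} [Group S] [Finite S] (hS : Cfsg.IsQuasiDihedral S) : Nat.card {C : ConjClasses S // ∃ t : S, orderOf t = 2 ∧ ConjClasses.mk t = C} = 2 ∧ Nat.card {C : ConjClasses S // ∃ t : S, orderOf t = 4 ∧ ConjClasses.mk t = C} = 2 := by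
  obtain ⟨d⟩ := CfsgLib.Involutions.nonempty_qd hS
  open CfsgLib.Involutions in
  have hiso : ∀ a b : S, a ∈ Subgroup.zpowers d.x → IsConj a b → b ∈ Subgroup.zpowers d.x := by
    intro a b ha hab
    obtain ⟨g, rfl⟩ := isConj_iff.1 hab
    have := Subgroup.normal_of_index_eq_two d.index_zpowers
    exact this.conj_mem a ha g
  open CfsgLib.Involutions in
  refine ⟨?_, ?_⟩
  · have hset : {C : ConjClasses S | ∃ t : S, orderOf t = 2 ∧ ConjClasses.mk t = C}
        = {ConjClasses.mk d.z, ConjClasses.mk (d.x ^ (0 : ℤ) * d.y)} := by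
      ext C
      constructor
      · rintro ⟨t, ht, rfl⟩
        rcases d.invol_cases ht with rfl | ⟨i, hi, rfl⟩
        · exact Or.inl rfl
        · refine Or.inr (ConjClasses.mk_eq_mk_iff_isConj.2 ?_)
          obtain ⟨j, hj⟩ := d.exists_conj_refl (i := i) (k := 0) (by simpa using hi.neg)
          exact isConj_iff.2 ⟨_, hj⟩
      · rintro (rfl | rfl)
        · exact ⟨_, d.orderOf_z, rfl⟩
        · exact ⟨_, d.orderOf_refl_even (by simp), rfl⟩
    show ({C : ConjClasses S | ∃ t : S, orderOf t = 2 ∧ ConjClasses.mk t = C}).ncard = 2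
    rw [hset, Set.ncard_pair]
    intro h
    exact d.refl_not_mem 0 (hiso _ _ (Subgroup.zpow_mem_zpowers _ _)
      (ConjClasses.mk_eq_mk_iff_isConj.1 h))
  · have hset : {C : ConjClasses S | ∃ t : S, orderOf t = 4 ∧ ConjClasses.mk t = C}
        = {ConjClasses.mk d.q, ConjClasses.mk (d.x ^ (1 : ℤ) * d.y)} := by
      ext C
      constructor
      · rintro ⟨t, ht, rfl⟩
        rcases d.four_cases ht with rfl | rfl | ⟨i, hi, rfl⟩
        · exact Or.inl rfl
        · exact Or.inl (ConjClasses.mk_eq_mk_iff_isConj.2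
            ((isConj_iff.2 ⟨_, d.conj_q_refl 0⟩).symm))
        · refine Or.inr (ConjClasses.mk_eq_mk_iff_isConj.2 ?_)
          obtain ⟨j, hj⟩ := d.exists_conj_refl (i := i) (k := 1) (by
            obtain ⟨m, rfl⟩ := hi
            exact ⟨-m, by ring⟩)
          exact isConj_iff.2 ⟨_, hj⟩
      · rintro (rfl | rfl)
        · exact ⟨_, d.orderOf_q, rfl⟩
        · exact ⟨_, d.orderOf_refl_odd odd_one, rfl⟩
    show ({C : ConjClasses S | ∃ t : S, orderOf t = 4 ∧ ConjClasses.mk t = C}).ncard = 2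
    rw [hset, Set.ncard_pair]
    intro h
    exact d.refl_not_mem 1 (hiso _ _ (Subgroup.zpow_mem_zpowers _ _)
      (ConjClasses.mk_eq_mk_iff_isConj.1 h))

end Cfsg.Agent.S1189
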