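import Cfsg.Statements.S1190
import Cfsg.Agent.Lib.Involutions.QuasiDihedralSub
import Cfsg.Agent.Lib.Involutions.StrongEmb

set_option autoImplicit false
open Cfsg

namespace Cfsg.Agent.S1190

/-- In a quasi-dihedral 2-group S, any two Klein four-subgroups are conjugate, and every Klein four-subgroup T satisfies C_S(T) = T and |N_S(T) : T| = 2. -/
theorem result {S : Type*} [Group S] [Finite S] (hS : Cfsg.IsQuasiDihedral S) : (∀ T₁ T₂ : Subgroup S, IsKleinFour T₁ → IsKleinFour T₂ → ∃ s : S, T₁.map (MulAut.conj s).toMonoidHom = T₂) ∧ (∀ T : Subgroup S, IsKleinFour T → Subgroup.centralizer (T : Set S) = T ∧ T.relIndex (Subgroup.normalizer (T : Set S)) = 2) := by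
  obtain ⟨d⟩ := CfsgLib.Involutions.nonempty_qd hS
  open CfsgLib.Involutions in
  open Subgroup in
  refine ⟨fun T1 T2 h1 h2 => ?_, fun T hT => ?_⟩
  · obtain ⟨i, hi, -, hT1⟩ := d.exists_klein_eq h1
    obtain ⟨k, hk, -, hT2⟩ := d.exists_klein_eq h2
    obtain ⟨j, hj⟩ := d.exists_conj_refl (Even.sub hk hi)
    refine ⟨d.x ^ j, ?_⟩
    ext g
    rw [hT1, hT2, mem_conj_map, mem_centralizer_singleton_iff, mem_centralizer_singleton_iff]
    constructor <;> intro h
    · calc g * (d.x ^ k * d.y) = d.x ^ j * (((d.x ^ j)⁻¹ * g * d.x ^ j) * (d.x ^ i * d.y))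
            * (d.x ^ j)⁻¹ := by rw [← hj]; group
        _ = d.x ^ k * d.y * g := by rw [h, ← hj]; group
    · calc (d.x ^ j)⁻¹ * g * d.x ^ j * (d.x ^ i * d.y)
          = (d.x ^ j)⁻¹ * (g * (d.x ^ k * d.y)) * d.x ^ j := by rw [← hj]; group
        _ = _ := by rw [h, ← hj]; group
  · obtain ⟨i, hi, hmem, hTC⟩ := d.exists_klein_eq hT
    have hcomm : ∀ a ∈ T, ∀ b ∈ T, a * b = b * a := fun a ha b hb => congrArg Subtype.val
      (mul_comm_of_exponent_two (IsKleinFour.exponent_two) (⟨a, ha⟩ : T) ⟨b, hb⟩)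
    have hzT : d.z ∈ T := hTC ▸ d.mem_centralizer_refl.2 (Or.inr (Or.inl rfl))
    refine ⟨le_antisymm (fun g hg => ?_) (fun g hg => mem_centralizer_iff.2
      fun a ha => hcomm a ha g hg), ?_⟩
    · rw [hTC, mem_centralizer_singleton_iff]
      exact (mem_centralizer_iff.1 hg _ hmem).symm
    obtain ⟨j, hj⟩ := d.exists_conj_refl (i := i) (k := i + d.half) (by
      rw [add_sub_cancel_left]; exact ⟨2 ^ (d.n - 2), by rw [d.half_eq, two_mul]⟩)
    have hja : d.x ^ j * (d.x ^ i * d.y) * (d.x ^ j)⁻¹ = d.x ^ i * d.y * d.z := by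
      rw [hj, zpow_add, show d.x ^ d.half = d.z from rfl, mul_assoc, ← (d.commute_z d.y).eq,
        ← mul_assoc]
    have haN : d.x ^ j ∈ normalizer (T : Set S) := by
      rw [mem_normalizer_iff_map_conj_eq]
      refine eq_of_le_of_card_ge ?_ ?_
      · rintro _ ⟨g, hg, rfl⟩
        rw [hTC] at hg
        rcases d.mem_centralizer_refl.1 hg with rfl | rfl | rfl | rfl
        · simp
        · show MulAut.conj (d.x ^ j) d.z ∈ T
          rwa [MulAut.conj_apply, (d.commute_z (d.x ^ j)).eq, mul_inv_cancel_right]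
        · show MulAut.conj (d.x ^ j) _ ∈ T
          rw [MulAut.conj_apply, hja]
          exact mul_mem hmem hzT
        · show MulAut.conj (d.x ^ j) _ ∈ T
          rw [map_mul, MulAut.conj_apply, MulAut.conj_apply, hja, (d.commute_z (d.x ^ j)).eq,
            mul_inv_cancel_right, mul_assoc _ d.z, invol_mul_self d.orderOf_z, mul_one]
          exact hmem
      · exact (Subgroup.card_map_of_injective (MulAut.conj (d.x ^ j)).injective).ge
    have haT : d.x ^ j ∉ T := fun h => d.refl_mul_z_ne i (by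
      rw [← hja, hcomm _ h _ hmem, mul_inv_cancel_right])
    show (T.subgroupOf (normalizer (T : Set S))).index = 2
    rw [index_eq_two_iff]
    refine ⟨⟨_, haN⟩, fun ⟨b, hb⟩ => ?_⟩
    simp only [mem_subgroupOf, Subgroup.coe_mul]
    by_cases hbT : b ∈ T
    · exact Or.inr ⟨hbT, fun h => haT ((mul_mem_cancel_left hbT).1 h)⟩
    refine Or.inl ⟨?_, hbT⟩
    have hbt : b * (d.x ^ i * d.y) * b⁻¹ ∈ T := (mem_normalizer_iff.1 hb _).1 hmem
    rw [hTC] at hbt hbT ⊢
    rw [mem_centralizer_singleton_iff] at hbT ⊢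
    rcases d.mem_centralizer_refl.1 hbt with h | h | h | h
    · exact absurd (conj_eq_one_iff.1 h) (invol_ne_one (d.orderOf_refl_even hi))
    · refine absurd ?_ (d.refl_not_mem i)
      have : d.x ^ i * d.y = d.z := by
        calc d.x ^ i * d.y = b⁻¹ * (b * (d.x ^ i * d.y) * b⁻¹) * b := by group
          _ = d.z := by rw [h, (d.commute_z b⁻¹).eq, inv_mul_cancel_right]
      rw [this]
      exact zpow_mem (mem_zpowers _) _
    · exact absurd (mul_inv_eq_iff_eq_mul.1 h) hbT
    · calc b * d.x ^ j * (d.x ^ i * d.y)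
          = b * (d.x ^ j * (d.x ^ i * d.y) * (d.x ^ j)⁻¹) * b⁻¹ * (b * d.x ^ j) := by group
        _ = (b * (d.x ^ i * d.y) * b⁻¹) * (b * d.z * b⁻¹) * (b * d.x ^ j) := by rw [hja]; group
        _ = d.x ^ i * d.y * (b * d.x ^ j) := by
            rw [h, (d.commute_z b).eq, mul_inv_cancel_right, mul_assoc _ d.z d.z,
              invol_mul_self d.orderOf_z, mul_one]

end Cfsg.Agent.S1190
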