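import Cfsg.Statements.S1191
import Cfsg.Agent.Lib.Involutions.QuasiDihedralSub
import Cfsg.Agent.Lib.Involutions.StrongEmb

set_option autoImplicit false
open Cfsg

namespace Cfsg.Agent.S1191

/-- In a quasi-dihedral 2-group S, any two subgroups isomorphic to the quaternion group of order 8 are conjugate, and each such subgroup Q satisfies C_S(Q) = Z(Q) and |N_S(Q) : Q| = 2. -/
theorem result {S : Type*} [Group S] [Finite S] (hS : Cfsg.IsQuasiDihedral S) : (∀ Q₁ Q₂ : Subgroup S, Nonempty (Q₁ ≃* QuaternionGroup 2) → Nonempty (Q₂ ≃* QuaternionGroup 2) → ∃ s : S, Q₁.map (MulAut.conj s).toMonoidHom = Q₂) ∧ (∀ Q : Subgroup S, Nonempty (Q ≃* QuaternionGroup 2) → Subgroup.centralizer (Q : Set S) = (Subgroup.center Q).map Q.subtype ∧ Q.relIndex (Subgroup.normalizer (Q : Set S)) = 2) := by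
  obtain ⟨d⟩ := CfsgLib.Involutions.nonempty_qd hS
  open CfsgLib.Involutions in
  open Subgroup in
  refine ⟨fun Q1 Q2 ⟨e1⟩ ⟨e2⟩ => ?_, fun Q ⟨e⟩ => ?_⟩
  · obtain ⟨i, hi, -, -, hQ1⟩ := d.exists_quat_eq e1
    obtain ⟨k, hk, -, -, hQ2⟩ := d.exists_quat_eq e2
    obtain ⟨j, hj⟩ := d.exists_conj_refl (Odd.sub_odd hk hi)
    refine ⟨d.x ^ j, ?_⟩
    rw [hQ1, hQ2, MonoidHom.map_closure, Set.image_pair]
    congr 2
    · show MulAut.conj (d.x ^ j) d.q = d.q
      rw [MulAut.conj_apply, (d.commute_q_zpow j).eq, mul_inv_cancel_right]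
    · show {MulAut.conj (d.x ^ j) (d.x ^ i * d.y)} = {d.x ^ k * d.y}
      rw [MulAut.conj_apply, hj]
  · obtain ⟨i, hi, hmem, hqQ, hQ⟩ := d.exists_quat_eq e
    have hzQ : d.z ∈ Q := d.q_mul_q ▸ mul_mem hqQ hqQ
    have hC : centralizer (Q : Set S) = zpowers d.z := by rw [hQ]; exact d.centralizer_quat i
    refine ⟨?_, ?_⟩
    · ext g
      constructor
      · intro hg
        refine ⟨⟨g, (hC ▸ zpowers_le.2 hzQ : centralizer (Q : Set S) ≤ Q) hg⟩,
          mem_center_iff.2 fun a => Subtype.ext (mem_centralizer_iff.1 hg a a.2), rfl⟩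
      · rintro ⟨c, hc, rfl⟩
        exact mem_centralizer_iff.2 fun a ha => congrArg Subtype.val (mem_center_iff.1 hc ⟨a, ha⟩)
    obtain ⟨j, hj⟩ := d.exists_conj_refl (i := i) (k := i + 2 ^ (d.n - 2)) (by
      rw [add_sub_cancel_left, even_iff_two_dvd]
      exact dvd_pow_self 2 (by have := d.three_le; omega))
    have hja : d.x ^ j * (d.x ^ i * d.y) * (d.x ^ j)⁻¹ = d.q * (d.x ^ i * d.y) := by
      rw [hj, add_comm, zpow_add, mul_assoc]; rfl
    have hcj : ∀ a ∈ Q, d.x ^ j * a * (d.x ^ j)⁻¹ ∈ Q := by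
      intro a ha
      rw [hQ] at ha
      induction ha using closure_induction with
      | mem b hb =>
        rcases hb with rfl | rfl
        · rwa [(d.commute_q_zpow j).eq, mul_inv_cancel_right]
        · rw [hja]; exact mul_mem hqQ hmem
      | one => simp
      | mul a b _ _ ha hb => rw [← conj_mul]; exact mul_mem ha hb
      | inv a _ ha => rw [← conj_inv]; exact inv_mem ha
    have haN : d.x ^ j ∈ normalizer (Q : Set S) := by
      rw [mem_normalizer_iff_map_conj_eq]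
      refine eq_of_le_of_card_ge ?_ ?_
      · rintro _ ⟨g, hg, rfl⟩
        exact hcj g hg
      · exact (Subgroup.card_map_of_injective (MulAut.conj (d.x ^ j)).injective).ge
    have hqz : ∀ a : S, d.q * (d.x ^ i * d.y) ≠ a * (d.x ^ i * d.y) * a⁻¹ ∨ a ∉ Q := by
      intro a
      refine or_iff_not_imp_right.2 fun ha h => ?_
      rw [not_not] at ha
      rw [hQ] at ha
      rcases d.conj_refl_mem_quat ha with h1 | h1 <;> rw [h1] at h
      · have := orderOf_eq_one_iff.2 (mul_eq_right.1 h)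
        rw [d.orderOf_q] at this
        omega
      · rw [(d.commute_z (d.x ^ i * d.y)).eq] at h
        have := d.orderOf_q
        rw [mul_right_cancel h, d.orderOf_z] at this
        omega
    have haQ : d.x ^ j ∉ Q := (hqz _).resolve_left (fun h => h hja.symm)
    show (Q.subgroupOf (normalizer (Q : Set S))).index = 2
    rw [index_eq_two_iff]
    refine ⟨⟨_, haN⟩, fun ⟨b, hb⟩ => ?_⟩
    simp only [mem_subgroupOf, Subgroup.coe_mul]
    by_cases hbQ : b ∈ Q
    · exact Or.inr ⟨hbQ, fun h => haQ ((mul_mem_cancel_left hbQ).1 h)⟩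
    refine Or.inl ⟨?_, hbQ⟩
    -- elements fixing the pair `t`, `t * z` lie in `Q`
    have hin : ∀ c : S, c * (d.x ^ i * d.y) * c⁻¹ = d.x ^ i * d.y ∨
        c * (d.x ^ i * d.y) * c⁻¹ = d.x ^ i * d.y * d.z → c ∈ Q := by
      have h0 : ∀ c : S, c * (d.x ^ i * d.y) * c⁻¹ = d.x ^ i * d.y → c ∈ Q := by
        intro c hc
        rcases d.commute_refl (g := c) (mul_inv_eq_iff_eq_mul.1 hc) with rfl | rfl | rfl | rfl
        · exact one_mem _
        · exact hzQ
        · exact hmem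
        · exact mul_mem hmem hzQ
      intro c hc
      rcases hc with hc | hc
      · exact h0 c hc
      · have h1 : d.q * (d.x ^ i * d.y) * d.q⁻¹ = d.x ^ i * d.y * d.z := by
          refine (d.conj_refl_mem_quat (i := i) (subset_closure (by simp))).resolve_left fun h => ?_
          exact d.not_commute_q_refl i (mul_inv_eq_iff_eq_mul.1 h).symm
        refine (mul_mem_cancel_left (inv_mem hqQ)).1 (h0 (d.q⁻¹ * c) ?_)
        calc d.q⁻¹ * c * (d.x ^ i * d.y) * (d.q⁻¹ * c)⁻¹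
            = d.q⁻¹ * (c * (d.x ^ i * d.y) * c⁻¹) * d.q := by group
          _ = d.q⁻¹ * (d.q * (d.x ^ i * d.y) * d.q⁻¹) * d.q := by rw [hc, h1]
          _ = d.x ^ i * d.y := by group
    have hbt : b * (d.x ^ i * d.y) * b⁻¹ ∈ Q := (mem_normalizer_iff.1 hb _).1 hmem
    have hbq : b * d.q * b⁻¹ = d.q ∨ b * d.q * b⁻¹ = d.q * d.z := by
      rcases d.cover b with ⟨k, rfl⟩ | ⟨k, rfl⟩
      · left; rw [(d.commute_q_zpow k).eq, mul_inv_cancel_right]
      · exact Or.inr (d.conj_q_refl k)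
    have ho : orderOf (b * (d.x ^ i * d.y) * b⁻¹) = 4 := by
      rw [orderOf_conj_eq, d.orderOf_refl_odd hi]
    have hnx : b * (d.x ^ i * d.y) * b⁻¹ ∉ zpowers d.x := fun h => by
      have hn := normal_of_index_eq_two d.index_zpowers
      have := hn.conj_mem _ h b⁻¹
      rw [show b⁻¹ * (b * (d.x ^ i * d.y) * b⁻¹) * b⁻¹⁻¹ = d.x ^ i * d.y by group] at this
      exact d.refl_not_mem i this
    -- `b t b⁻¹ = w t` with `w` a power of `q`
    have hw : b * (d.x ^ i * d.y) * b⁻¹ * (d.x ^ i * d.y)⁻¹ ∈ Q := mul_mem hbt (inv_mem hmem)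
    have hwx : b * (d.x ^ i * d.y) * b⁻¹ * (d.x ^ i * d.y)⁻¹ ∈ zpowers d.x :=
      (mul_mem_iff_of_index_two d.index_zpowers).2
        (iff_of_false hnx (fun h => d.refl_not_mem i (inv_mem_iff.1 h)))
    have hw4 : (b * (d.x ^ i * d.y) * b⁻¹ * (d.x ^ i * d.y)⁻¹) ^ 4 = 1 := by
      have h1 := CfsgLib.Involutions.QD.q8_pow_four (e ⟨_, hw⟩)
      rw [← map_pow, ← map_one e] at h1
      exact congrArg Subtype.val (e.injective h1)
    have key : b * (d.x ^ i * d.y) * b⁻¹ = d.x ^ i * d.y ∨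
        b * (d.x ^ i * d.y) * b⁻¹ = d.x ^ i * d.y * d.z ∨
        b * (d.x ^ i * d.y) * b⁻¹ = d.q * (d.x ^ i * d.y) ∨
        b * (d.x ^ i * d.y) * b⁻¹ = d.q * d.z * (d.x ^ i * d.y) := by
      generalize hwdef : b * (d.x ^ i * d.y) * b⁻¹ * (d.x ^ i * d.y)⁻¹ = w at hw4 hwx
      rw [eq_comm, eq_mul_inv_iff_mul_eq] at hwdef
      rw [← hwdef]
      obtain ⟨k, hk, hk'⟩ := (Nat.dvd_prime_pow Nat.prime_two).1
        (orderOf_dvd_of_pow_eq_one hw4 : orderOf w ∣ 2 ^ 2)
      interval_cases k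
      · left; rw [orderOf_eq_one_iff.1 hk', one_mul]
      · right; left
        rcases d.invol_cases hk' with h | ⟨m, -, h⟩
        · rw [h, (d.commute_z _).eq]
        · exact absurd (h ▸ hwx) (d.refl_not_mem m)
      · rcases d.four_cases hk' with h | h | ⟨m, -, h⟩
        · exact Or.inr (Or.inr (Or.inl (by rw [h])))
        · exact Or.inr (Or.inr (Or.inr (by rw [h])))
        · exact absurd (h ▸ hwx) (d.refl_not_mem m)
    rcases key with h | h | h | h
    · exact absurd (hin b (Or.inl h)) hbQ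
    · exact absurd (hin b (Or.inr h)) hbQ
    all_goals
      refine hin _ ?_
      rw [show b * d.x ^ j * (d.x ^ i * d.y) * (b * d.x ^ j)⁻¹
        = b * (d.x ^ j * (d.x ^ i * d.y) * (d.x ^ j)⁻¹) * b⁻¹ by group, hja, ← conj_mul, h]
      rcases hbq with h2 | h2 <;> rw [h2]
      all_goals
        simp only [← mul_assoc, d.q_mul_q]
    all_goals
      have hzz := invol_mul_self d.orderOf_z
      have hqzq : d.q * d.z * d.q = 1 := by rw [mul_assoc, ← (d.commute_z d.q).eq, ← mul_assoc, d.q_mul_q, hzz]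
      have hct := d.commute_z (d.x ^ i * d.y)
      have hct' : d.z * d.x ^ i * d.y = d.x ^ i * d.y * d.z := by rw [mul_assoc]; exact hct.eq.symm
      simp [← mul_assoc, hqzq, hzz, hct']

end Cfsg.Agent.S1191
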