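import Cfsg.Statements.S1192
import Cfsg.Agent.Lib.Involutions.QuasiDihedralMax

set_option autoImplicit false
open Cfsg

namespace Cfsg.Agent.S1192

/-- A quasi-dihedral group S of order 2^(n+1) has exactly three maximal subgroups; one is cyclic, one is isomorphic to the generalized quaternion group of order 2^n and one to the dihedral group of order 2^n. -/
theorem result {S : Type*} [Group S] [Finite S] (hS : Cfsg.IsQuasiDihedral S) (n : ℕ) (hn : Nat.card S = 2 ^ (n + 1)) : ∃ M₁ M₂ M₃ : Subgroup S, IsCoatom M₁ ∧ IsCoatom M₂ ∧ IsCoatom M₃ ∧ M₁ ≠ M₂ ∧ M₁ ≠ M₃ ∧ M₂ ≠ M₃ ∧ (∀ M : Subgroup S, IsCoatom M → M = M₁ ∨ M = M₂ ∨ M = M₃) ∧ IsCyclic M₁ ∧ Nonempty (M₂ ≃* QuaternionGroup (2 ^ (n - 2))) ∧ Nonempty (M₃ ≃* DihedralGroup (2 ^ (n - 1))) := by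
  obtain ⟨d⟩ := CfsgLib.Involutions.nonempty_qd hS
  open CfsgLib.Involutions in
  obtain rfl := d.n_eq hn
  open Subgroup in
  refine ⟨zpowers d.x, d.maxSub true, d.maxSub false, d.isCoatom_zpowers, d.isCoatom_maxSub _,
    d.isCoatom_maxSub _, fun h => d.x_not_mem_maxSub _ (h ▸ mem_zpowers _),
    fun h => d.x_not_mem_maxSub _ (h ▸ mem_zpowers _), fun h => ?_, fun M hM => d.coatom_cases hM,
    inferInstance, d.maxSub_true_equiv, d.maxSub_false_equiv⟩
  have h0 : d.x ^ (0 : ℤ) * d.y ∈ d.maxSub false := d.refl_mem_maxSub.2 (by simp)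
  rw [← h] at h0
  simpa using (d.refl_mem_maxSub.1 h0)

end Cfsg.Agent.S1192
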