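import Cfsg.Statements.S1193
import Cfsg.Agent.Lib.Involutions.QuasiDihedralMax

set_option autoImplicit false
open Cfsg

namespace Cfsg.Agent.S1193

/-- Let S be quasi-dihedral of order 2^(n+1). Then S' = Φ(S) is cyclic of order 2^(n-1), the centre of S has order 2, and the subgroup generated by the involutions of S is dihedral of order 2^n. -/
theorem result {S : Type*} [Group S] [Finite S] (hS : Cfsg.IsQuasiDihedral S) (n : ℕ) (hn : Nat.card S = 2 ^ (n + 1)) : commutator S = frattini S ∧ IsCyclic (commutator S) ∧ Nat.card (commutator S) = 2 ^ (n - 1) ∧ Nat.card (Subgroup.center S) = 2 ∧ Nonempty (↥(Subgroup.closure {x : S | orderOf x = 2}) ≃* DihedralGroup (2 ^ (n - 1))) := by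
  obtain ⟨d⟩ := CfsgLib.Involutions.nonempty_qd hS
  open CfsgLib.Involutions in
  obtain rfl := d.n_eq hn
  open Subgroup in
  refine ⟨le_antisymm (CfsgLib.PGroups.commutator_le_frattini d.isPGroup) ?_, ?_, ?_, ?_, ?_⟩
  · rw [d.commutator_eq]
    intro g hg
    obtain ⟨i, rfl⟩ := (CfsgLib.PGroups.mem_frattini_iff.1 hg _ d.isCoatom_zpowers)
    obtain ⟨k, hk⟩ := d.zpow_mem_maxSub.1
      (CfsgLib.PGroups.mem_frattini_iff.1 hg _ (d.isCoatom_maxSub false))
    refine ⟨k, ?_⟩
    show (d.x ^ 2) ^ k = d.x ^ i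
    rw [← zpow_natCast, ← zpow_mul, hk]; push_cast; rw [two_mul]
  · rw [d.commutator_eq]; infer_instance
  · rw [d.commutator_eq, Nat.card_zpowers, d.orderOf_x_sq]
  · rw [d.center_eq, Nat.card_zpowers, d.orderOf_z]
  · rw [d.closure_invol]; exact d.maxSub_false_equiv

end Cfsg.Agent.S1193
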