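import Cfsg.Statements.S1194
import Cfsg.Agent.Lib.Involutions.QuasiDihedralMax

set_option autoImplicit false
open Cfsg

namespace Cfsg.Agent.S1194

/-- In a quasi-dihedral 2-group S, every proper normal subgroup is either a maximal subgroup or a cyclic subgroup contained in the derived subgroup S'. -/
theorem result {S : Type*} [Group S] [Finite S] (hS : Cfsg.IsQuasiDihedral S) (N : Subgroup S) [N.Normal] (hN : N ≠ ⊤) : IsCoatom N ∨ (IsCyclic N ∧ N ≤ commutator S) := by
  obtain ⟨d⟩ := CfsgLib.Involutions.nonempty_qd hS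
  open CfsgLib.Involutions in
  open Subgroup in
  by_cases hle : N ≤ commutator S
  · refine Or.inr ⟨?_, hle⟩
    rw [d.commutator_eq] at hle
    exact isCyclic_of_le hle
  refine Or.inl ?_
  obtain ⟨g, hgN, hg⟩ := SetLike.not_le_iff_exists.1 hle
  rw [d.commutator_eq] at hg
  -- `x ^ 2` lies in `N`
  have hx2 : ∀ i : ℤ, d.x ^ i * d.y ∈ N → d.x ^ 2 ∈ N := by
    intro i hi
    obtain ⟨u, v, huv⟩ := d.isCoprime_unit
    have h1 : d.x ^ ((2 : ℤ) - d.half) ∈ N := by
      have h2 := mul_mem (Normal.conj_mem (H := N) inferInstance _ hi d.x) (inv_mem hi)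
      have h3 := d.conj_refl 1 i
      rw [zpow_one] at h3
      rwa [h3, show d.x ^ (i + 1 * (2 - d.half)) * d.y * (d.x ^ i * d.y)⁻¹
        = d.x ^ ((2 : ℤ) - d.half) by group] at h2
    have h4 := zpow_mem h1 u
    rwa [← zpow_mul, show d.x ^ (((2 : ℤ) - d.half) * u) = d.x ^ 2 from by
      rw [← zpow_natCast, d.zpow_x_inj]
      exact ⟨-v, by rw [d.half_eq] at huv ⊢; push_cast; linear_combination 2 * huv⟩] at h4
  rcases d.cover g with ⟨i, rfl⟩ | ⟨i, rfl⟩
  · have hodd : Odd i := by
      rcases Int.even_or_odd i with ⟨k, hk⟩ | h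
      · refine absurd ⟨k, ?_⟩ hg
        show (d.x ^ 2) ^ k = d.x ^ i
        rw [← zpow_natCast, ← zpow_mul, hk]; push_cast; rw [two_mul]
      · exact h
    have hx : d.x ∈ N := by
      have hc : IsCoprime i ((orderOf d.x : ℕ) : ℤ) := by
        rw [d.orderOf_x, Nat.cast_pow]
        refine IsCoprime.pow_right ?_
        obtain ⟨k, hk⟩ := hodd
        exact ⟨1, -k, by push_cast; linear_combination hk⟩
      obtain ⟨u, v, huv⟩ := hc
      have h1 := zpow_mem hgN u
      rwa [← zpow_mul, show i * u = 1 - v * (orderOf d.x : ℤ) by linarith, zpow_sub, zpow_one,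
        mul_comm v, zpow_mul, zpow_natCast, pow_orderOf_eq_one, one_zpow, inv_one, mul_one] at h1
    rw [((d.isCoatom_zpowers).le_iff_eq hN).1 (zpowers_le.2 hx)]
    exact d.isCoatom_zpowers
  · have hx := hx2 i hgN
    have hpow : ∀ k : ℤ, Even k → d.x ^ k ∈ N := by
      rintro k ⟨m, rfl⟩
      rw [← two_mul, zpow_mul, zpow_ofNat]
      exact zpow_mem hx m
    have hle2 : d.maxSub (decide (Odd i)) ≤ N := by
      rintro _ (⟨k, hk, rfl⟩ | ⟨k, hk, rfl⟩)
      · exact hpow k hk
      · have hki : Even (k - i) := by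
          rw [Int.even_sub, hk, decide_eq_false_iff_not, Int.not_odd_iff_even]
        have := mul_mem (hpow _ hki) hgN
        rwa [← mul_assoc, ← zpow_add, sub_add_cancel] at this
    rw [((d.isCoatom_maxSub _).le_iff_eq hN).1 hle2]
    exact d.isCoatom_maxSub _

end Cfsg.Agent.S1194
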