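import Cfsg.Statements.S1195
import Cfsg.Agent.Lib.Involutions.Wreathed

set_option autoImplicit false
open Cfsg

namespace Cfsg.Agent.S1195

/-- A wreathed 2-group has exactly three conjugacy classes of elements of order 2. -/
theorem result {S : Type*} [Group S] [Finite S] (hS : Cfsg.IsWreathed S) : Nat.card {C : ConjClasses S // ∃ t : S, orderOf t = 2 ∧ ConjClasses.mk t = C} = 3 := by
  obtain ⟨d⟩ := CfsgLib.Involutions.nonempty_wr hS
  open CfsgLib.Involutions in
  open Subgroup in
  have hn := normal_of_index_eq_two d.index_U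
  have hiso : ∀ a b : S, a ∈ d.U → IsConj a b → b ∈ d.U := by
    intro a b ha hab
    obtain ⟨g, rfl⟩ := isConj_iff.1 hab
    exact hn.conj_mem a ha g
  have hset : {C : ConjClasses S | ∃ t : S, orderOf t = 2 ∧ ConjClasses.mk t = C}
      = {ConjClasses.mk (d.u d.half d.half), ConjClasses.mk (d.u d.half 0),
          ConjClasses.mk (d.u 0 0 * d.z)} := by
    ext C
    constructor
    · rintro ⟨t, ht, rfl⟩
      rcases d.invol_cases ht with rfl | rfl | rfl | ⟨i, j, hij, rfl⟩
      · exact Or.inl rfl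
      · exact Or.inr (Or.inl rfl)
      · exact Or.inr (Or.inl (ConjClasses.mk_eq_mk_iff_isConj.2
          (isConj_iff.2 ⟨d.z, d.conj_u 0 d.half⟩)))
      · refine Or.inr (Or.inr (ConjClasses.mk_eq_mk_iff_isConj.2 ?_))
        exact isConj_iff.2 (d.exists_conj_refl (by simpa using hij.neg_right))
    · rintro (rfl | rfl | rfl)
      · exact ⟨_, d.orderOf_u_half.1, rfl⟩
      · exact ⟨_, d.orderOf_u_half.2.1, rfl⟩
      · exact ⟨_, d.orderOf_refl (by simp), rfl⟩
  show ({C : ConjClasses S | ∃ t : S, orderOf t = 2 ∧ ConjClasses.mk t = C}).ncard = 3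
  rw [hset, Set.ncard_eq_three]
  refine ⟨_, _, _, ?_, ?_, ?_, rfl⟩
  · intro h
    obtain ⟨g, hg⟩ := isConj_iff.1 (ConjClasses.mk_eq_mk_iff_isConj.1 h)
    rw [mem_center_iff.1 (d.u_mem_center (by simp)) g, mul_inv_cancel_right, d.u_inj] at hg
    exact d.not_N_dvd_half (by simpa using hg.2)
  · exact fun h => d.refl_not_mem 0 0
      (hiso _ _ (d.u_mem _ _) (ConjClasses.mk_eq_mk_iff_isConj.1 h))
  · exact fun h => d.refl_not_mem 0 0
      (hiso _ _ (d.u_mem _ _) (ConjClasses.mk_eq_mk_iff_isConj.1 h))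

end Cfsg.Agent.S1195
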