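import Cfsg.Statements.S1196
import Cfsg.Agent.Lib.Involutions.Wreathed

set_option autoImplicit false
open Cfsg

namespace Cfsg.Agent.S1196

/-- A wreathed 2-group S of order 2^(2n+1) has a unique commutative subgroup of order 2^(2n), and this subgroup is isomorphic to the direct product of two cyclic groups of order 2^n. -/
theorem result {S : Type*} [Group S] [Finite S] (hS : Cfsg.IsWreathed S) (n : ℕ) (hn : Nat.card S = 2 ^ (2 * n + 1)) : (∃! U : Subgroup S, IsMulCommutative U ∧ Nat.card U = 2 ^ (2 * n)) ∧ ∀ U : Subgroup S, IsMulCommutative U → Nat.card U = 2 ^ (2 * n) → Nonempty (U ≃* Multiplicative (ZMod (2 ^ n) × ZMod (2 ^ n))) := by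
  obtain ⟨d⟩ := CfsgLib.Involutions.nonempty_wr hS
  open CfsgLib.Involutions in
  obtain rfl := d.n_eq hn
  refine ⟨⟨d.U, ⟨d.isMulCommutative_U, d.card_U⟩, fun V hV => d.eq_U hV.1 hV.2⟩, fun V h1 h2 => ?_⟩
  rw [d.eq_U h1 h2]
  exact d.nonempty_U_equiv

end Cfsg.Agent.S1196
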