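import Cfsg.Statements.S1197
import Cfsg.Agent.Lib.Involutions.Wreathed
import Cfsg.Agent.Lib.Classical.Dihedral

set_option autoImplicit false
open Cfsg

namespace Cfsg.Agent.S1197

/-- Let S be a wreathed 2-group of order 2^(2n+1). Then Z(S) is cyclic of order 2^n, the derived subgroup S' is cyclic of order 2^n, and S/Z(S) is isomorphic to the dihedral group of order 2^(n+1). -/
theorem result {S : Type*} [Group S] [Finite S] (hS : Cfsg.IsWreathed S) (n : ℕ) (hn : Nat.card S = 2 ^ (2 * n + 1)) : IsCyclic (Subgroup.center S) ∧ Nat.card (Subgroup.center S) = 2 ^ n ∧ IsCyclic (commutator S) ∧ Nat.card (commutator S) = 2 ^ n ∧ Nonempty (S ⧸ Subgroup.center S ≃* DihedralGroup (2 ^ n)) := by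
  obtain ⟨d⟩ := CfsgLib.Involutions.nonempty_wr hS
  open CfsgLib.Involutions in
  obtain rfl := d.n_eq hn
  open Subgroup in
  have hord : ∀ a b : ℤ, (a = 1 ∧ (b = 1 ∨ b = -1)) → orderOf (d.u a b) = 2 ^ d.n := by
    rintro a b ⟨rfl, hb⟩
    refine Nat.dvd_antisymm (orderOf_dvd_of_pow_eq_one ?_) ?_
    · rw [← zpow_natCast, d.u_zpow, d.u_eq_one, WR.N]
      push_cast
      exact ⟨by simp, dvd_mul_left _ _⟩
    · have h := (d.u_eq_one.1 (show d.u (1 * (orderOf (d.u 1 b) : ℤ)) (b * (orderOf (d.u 1 b) : ℤ)) = 1 by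
        rw [← d.u_zpow, zpow_natCast, pow_orderOf_eq_one])).1
      rw [one_mul, WR.N] at h
      exact_mod_cast h
  have hcomm : commutator S = zpowers (d.u 1 (-1)) := by
    refine le_antisymm ?_ (zpowers_le.2 ?_)
    · have hsq : ∀ a b i j : ℤ,
          d.u a b * (d.u i j * d.z) * (d.u a b)⁻¹ * (d.u i j * d.z)⁻¹
            = d.u 1 (-1) ^ (a - b) := by
        intro a b i j
        rw [d.conj_refl, mul_inv_rev, ← mul_assoc, mul_inv_cancel_right, d.u_inv, d.u_mul, d.u_zpow]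
        congr 1 <;> ring
      rw [commutator_def, Subgroup.commutator_le]
      intro g _ h _
      rw [commutatorElement_def]
      rcases d.cover g with ⟨a, b, rfl⟩ | ⟨a, b, rfl⟩ <;> rcases d.cover h with ⟨i, j, rfl⟩ | ⟨i, j, rfl⟩
      · rw [d.u_mul, add_comm a, add_comm b, ← d.u_mul, mul_inv_cancel_right, mul_inv_cancel]
        exact one_mem _
      · exact hsq a b i j ▸ zpow_mem (mem_zpowers _) _
      · rw [show d.u a b * d.z * d.u i j * (d.u a b * d.z)⁻¹ * (d.u i j)⁻¹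
          = (d.u i j * (d.u a b * d.z) * (d.u i j)⁻¹ * (d.u a b * d.z)⁻¹)⁻¹ by group, hsq]
        exact inv_mem (zpow_mem (mem_zpowers _) _)
      · have e : d.u a b * d.z * (d.u i j * d.z) * (d.u a b * d.z)⁻¹ * (d.u i j * d.z)⁻¹
            = d.u a b * (d.u j i * d.z) * (d.u a b)⁻¹ * (d.u j i * d.z)⁻¹ *
              (d.u j i * (d.u i j)⁻¹) := by
          rw [show d.u j i * d.z = d.z * d.u i j from (d.z_mul_u i j).symm]
          rw [mul_inv_rev (d.u i j) d.z, mul_inv_rev d.z (d.u i j), mul_inv_rev (d.u a b) d.z]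
          calc _ = d.u a b * (d.z * d.u i j) * (d.z * (d.z⁻¹ * (d.u a b)⁻¹)) * (d.z⁻¹ * (d.u i j)⁻¹) := by
                group
            _ = d.u a b * (d.z * d.u i j) * (d.u a b)⁻¹ * ((d.u i j)⁻¹ * d.z⁻¹) *
                (d.z * d.u i j * d.z⁻¹ * (d.u i j)⁻¹) := by group
            _ = _ := by rw [d.conj_u i j]
        rw [e, hsq]
        refine mul_mem (zpow_mem (mem_zpowers _) _) ⟨j - i, ?_⟩
        show d.u 1 (-1) ^ (j - i) = d.u j i * (d.u i j)⁻¹
        rw [d.u_zpow, d.u_inv, d.u_mul]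
        congr 1 <;> ring
    · have h := commutator_mem_commutator (mem_top d.x) (mem_top d.z)
      rw [commutatorElement_def, ← d.u_one_zero, mul_assoc (d.u 1 0), mul_assoc (d.u 1 0),
        d.u_inv, show d.z * d.u (-1) (-0) * d.z⁻¹ = d.u (-0) (-1) from d.conj_u _ _, d.u_mul] at h
      exact (commutator_def S).ge (by simpa using h)
  refine ⟨?_, ?_, ?_, ?_, ?_⟩
  · rw [d.center_eq]; infer_instance
  · rw [d.center_eq, Nat.card_zpowers, hord 1 1 ⟨rfl, Or.inl rfl⟩]
  · rw [hcomm]; infer_instance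
  · rw [hcomm, Nat.card_zpowers, hord 1 (-1) ⟨rfl, Or.inr rfl⟩]
  have hcen : ∀ {a b : ℤ}, d.u a b ∈ center S ↔ d.N ∣ a - b := fun {a b} =>
    ⟨fun h => (d.commute_u_refl (i := 0) (j := 0)).1 (mem_center_iff.1 h _).symm, d.u_mem_center⟩
  refine CfsgLib.Classical.nonempty_mulEquiv_dihedralGroup (x := (d.x : S ⧸ center S))
    (s := (d.z : S ⧸ center S)) (pow_pos two_pos _) ?_ ?_ ?_ ?_ ?_
  · refine Nat.dvd_antisymm ((orderOf_map_dvd (QuotientGroup.mk' (center S)) d.x).trans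
      d.orderOf_x.dvd) ?_
    have h : d.x ^ orderOf (d.x : S ⧸ center S) ∈ center S := by
      rw [← QuotientGroup.eq_one_iff, QuotientGroup.mk_pow, pow_orderOf_eq_one]
    rw [← zpow_natCast, ← d.u_one_zero, d.u_zpow, hcen] at h
    simp only [one_mul, zero_mul, sub_zero, d.u_one_zero] at h
    rw [WR.N] at h
    exact_mod_cast h
  · rw [← QuotientGroup.mk_mul, invol_mul_self d.orderOf_z, QuotientGroup.mk_one]
  · rw [← QuotientGroup.mk_inv, ← QuotientGroup.mk_inv, ← QuotientGroup.mk_mul,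
      ← QuotientGroup.mk_mul, QuotientGroup.eq, d.conj_x, ← d.u_one_zero, ← d.u_zero_one,
      d.u_inv, d.u_inv, d.u_mul, hcen]
    simp
  · rintro ⟨k, hk⟩
    rw [← d.u_one_zero] at hk
    have hk' : ((d.u 1 0 ^ k : S) : S ⧸ center S) = (d.z : S ⧸ center S) := hk
    rw [QuotientGroup.eq] at hk'
    have hcU : center S ≤ d.U := d.center_eq ▸ zpowers_le.2 (d.u_mem 1 1)
    exact d.z_not_mem ((mul_mem_cancel_left (inv_mem (zpow_mem (d.u_mem 1 0) k))).1 (hcU hk'))
  · have h := card_eq_card_quotient_mul_card_subgroup (center S)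
    have hc : Nat.card (center S) = 2 ^ d.n := by
      rw [d.center_eq, Nat.card_zpowers, hord 1 1 ⟨rfl, Or.inl rfl⟩]
    rw [hc, d.card_eq, show 2 * d.n + 1 = d.n + 1 + d.n by omega, pow_add] at h
    rw [← pow_succ']
    exact (Nat.eq_of_mul_eq_mul_right (pow_pos two_pos _) h).symm

end Cfsg.Agent.S1197
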