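import Cfsg.Statements.S1198
import Cfsg.Agent.Lib.Involutions.WreathedSub
import Cfsg.Agent.Lib.Involutions.KleinPair

set_option autoImplicit false
open Cfsg

namespace Cfsg.Agent.S1198

/-- A wreathed 2-group S has a normal Klein four-subgroup T such that every Klein four-subgroup of S other than T is conjugate in S to any other such subgroup; in particular S has exactly two conjugacy classes of Klein four-subgroups. -/
theorem result {S : Type*} [Group S] [Finite S] (hS : Cfsg.IsWreathed S) : ∃ T : Subgroup S, IsKleinFour T ∧ T.Normal ∧ (∃ T₀ : Subgroup S, IsKleinFour T₀ ∧ T₀ ≠ T) ∧ ∀ T₁ T₂ : Subgroup S, IsKleinFour T₁ → IsKleinFour T₂ → T₁ ≠ T → T₂ ≠ T → ∃ s : S, T₁.map (MulAut.conj s).toMonoidHom = T₂ := by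
  obtain ⟨d⟩ := CfsgLib.Involutions.nonempty_wr hS
  open CfsgLib.Involutions in
  open Subgroup in
  have hc := d.u_mem_center (i := d.half) (j := d.half) (by simp)
  refine ⟨d.T0, d.isKleinFour_T0, d.T0_normal, ?_, fun T1 T2 h1 h2 n1 n2 => ?_⟩
  · classical
    have h1 : orderOf (d.u 0 0 * d.z) = 2 := d.orderOf_refl (by simp)
    have hc2 := d.orderOf_u_half.1
    have hcomm : Commute (d.u d.half d.half) (d.u 0 0 * d.z) := (mem_center_iff.1 hc _).symm
    refine ⟨closure {d.u d.half d.half, d.u 0 0 * d.z}, CfsgLib.Involutions.isKleinFour_closure_pair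
      hc2 h1 hcomm (fun h => d.refl_not_mem 0 0 (h ▸ d.u_mem _ _)), fun h => d.refl_not_mem 0 0
      ((h ▸ subset_closure (by simp) : d.u 0 0 * d.z ∈ d.T0)).1⟩
  · obtain ⟨i, j, hij, rfl⟩ := d.exists_klein_eq h1 n1
    obtain ⟨a, b, hab, rfl⟩ := d.exists_klein_eq h2 n2
    obtain ⟨g, hg⟩ := d.exists_conj_refl (i := i) (j := j) (a := a) (b := b) (dvd_sub hab hij)
    refine ⟨g, ?_⟩
    rw [MonoidHom.map_closure, Set.image_pair]
    congr 2
    · show MulAut.conj g (d.u d.half d.half) = _
      rw [MulAut.conj_apply, mem_center_iff.1 hc g, mul_inv_cancel_right]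
    · show {MulAut.conj g (d.u i j * d.z)} = ({d.u a b * d.z} : Set S)
      rw [MulAut.conj_apply, hg]

end Cfsg.Agent.S1198
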