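import Cfsg.Statements.S1199
import Cfsg.Agent.Lib.Involutions.WreathedSub

set_option autoImplicit false
open Cfsg

namespace Cfsg.Agent.S1199

/-- A wreathed 2-group S of order 2^(2n+1) has exactly one subgroup of order 2^(n+1) isomorphic to a generalized quaternion group, and that subgroup is normal in S. -/
theorem result {S : Type*} [Group S] [Finite S] (hS : Cfsg.IsWreathed S) (n : ℕ) (hn : Nat.card S = 2 ^ (2 * n + 1)) : (∃! Y : Subgroup S, Nat.card Y = 2 ^ (n + 1) ∧ Nonempty (Y ≃* QuaternionGroup (2 ^ (n - 1)))) ∧ ∀ Y : Subgroup S, Nat.card Y = 2 ^ (n + 1) → Nonempty (Y ≃* QuaternionGroup (2 ^ (n - 1))) → Y.Normal := by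
  obtain ⟨d⟩ := CfsgLib.Involutions.nonempty_wr hS
  open CfsgLib.Involutions in
  obtain rfl := d.n_eq hn
  have hY := d.Y0_quat
  refine ⟨⟨d.Y0, ⟨?_, hY⟩, fun Y hY' => d.eq_Y0 hY'.2.some⟩, fun Y _ ⟨e⟩ => ⟨fun y hy g => ?_⟩⟩
  · rw [Nat.card_congr hY.some.toEquiv, d.card_quat]
  · have hYg := d.eq_Y0 (((Subgroup.equivMapOfInjective Y (MulAut.conj g).toMonoidHom
      (MulAut.conj g).injective).symm).trans e)
    rw [← d.eq_Y0 e] at hYg
    rw [← hYg]
    exact ⟨y, hy, rfl⟩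

end Cfsg.Agent.S1199
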