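import Cfsg.Statements.S1201
import Cfsg.Agent.Lib.Involutions.Wreathed

set_option autoImplicit false
open Cfsg

namespace Cfsg.Agent.S1201

/-- If X is a non-commutative subgroup of a wreathed 2-group S, then Z(X) ≤ Z(S). -/
theorem result {S : Type*} [Group S] [Finite S] (hS : Cfsg.IsWreathed S) (X : Subgroup S) (hX : ¬ IsMulCommutative X) : (Subgroup.center X).map X.subtype ≤ Subgroup.center S := by
  obtain ⟨d⟩ := CfsgLib.Involutions.nonempty_wr hS
  open CfsgLib.Involutions in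
  open Subgroup in
  rintro _ ⟨w, hw, rfl⟩
  show (w : S) ∈ center S
  have hcom : ∀ g ∈ X, Commute g (w : S) := fun g hg =>
    congrArg Subtype.val (mem_center_iff.1 hw ⟨g, hg⟩)
  obtain ⟨g, hgX, hgU⟩ : ∃ g ∈ X, g ∉ d.U := by
    by_contra hno
    push Not at hno
    exact hX ⟨⟨fun a b => Subtype.ext (show (a : S) * b = b * a from
      congrArg Subtype.val (d.isMulCommutative_U.is_comm.comm ⟨a, hno a a.2⟩ ⟨b, hno b b.2⟩))⟩⟩
  by_cases hwU : (w : S) ∈ d.U
  · obtain ⟨a, b, hab⟩ := hwU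
    rcases d.cover g with ⟨i, j, rfl⟩ | ⟨i, j, rfl⟩
    · exact absurd (d.u_mem i j) hgU
    · rw [hab]
      exact d.u_mem_center (d.commute_u_refl.1 (hab ▸ (hcom _ hgX).symm))
  refine absurd ⟨⟨fun a b => Subtype.ext ?_⟩⟩ hX
  -- `X ∩ U` is central
  have hcen : ∀ v ∈ X, v ∈ d.U → v ∈ center S := by
    intro v hvX hvU
    obtain ⟨a, b, rfl⟩ := hvU
    rcases d.cover (w : S) with ⟨i, j, h⟩ | ⟨i, j, h⟩
    · exact absurd (h ▸ d.u_mem i j) hwU
    · exact d.u_mem_center (d.commute_u_refl.1 (h ▸ hcom _ hvX))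
  have hcases : ∀ v ∈ X, v ∈ center S ∨ v * (w : S) ∈ center S := fun v hv => by
    by_cases hvU : v ∈ d.U
    · exact Or.inl (hcen v hv hvU)
    · exact Or.inr (hcen _ (mul_mem hv w.2)
        ((mul_mem_iff_of_index_two d.index_U).2 (iff_of_false hvU hwU)))
  show (a : S) * b = b * a
  rcases hcases a a.2 with h | h
  · exact (mem_center_iff.1 h b).symm
  rcases hcases b b.2 with h' | h'
  · exact mem_center_iff.1 h' a
  · have hca : Commute (a : S) ((b : S) * w) := mem_center_iff.1 h' a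
    have hcw : Commute (a : S) (w : S) := hcom a a.2
    have h2 := hca.mul_right hcw.inv_right
    rwa [mul_inv_cancel_right] at h2

end Cfsg.Agent.S1201
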