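import Cfsg.Statements.S1210
import Cfsg.Agent.Lib.Involutions.WreathedFusion

set_option autoImplicit false
open Cfsg

namespace Cfsg.Agent.S1210

/-- Let G be a finite group whose Sylow 2-subgroup S is wreathed of order 2^(2n+1), U the commutative subgroup of index 2 in S, Q a quaternion subgroup of order 8 of S and V = Q Z(S). If |N_G(U) : C_G(U)| = 2 and |N_G(V) : V C_G(V)| = 6, then G has a normal subgroup K of index 2^n whose Sylow 2-subgroups are generalized quaternion and which has no subgroup of index 2; every subgroup of Z(S) is weakly closed in S; and G has exactly two classes of involutions. -/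
theorem result {G : Type*} [Group G] [Finite G] (S : Sylow 2 G) (hS : Cfsg.IsWreathed (S : Subgroup G)) (n : ℕ) (hn : Nat.card S = 2 ^ (2 * n + 1)) (U : Subgroup G) (hUS : U ≤ S) (hUab : IsMulCommutative U) (hUcard : Nat.card U = 2 ^ (2 * n)) (Q : Subgroup G) (hQS : Q ≤ S) (eQ : Q ≃* QuaternionGroup 2) (h₁ : (Subgroup.centralizer (U : Set G)).relIndex (Subgroup.normalizer (U : Set G)) = 2) (h₂ : ((Q ⊔ ((Subgroup.center (S : Subgroup G)).map (S : Subgroup G).subtype)) ⊔ Subgroup.centralizer ((Q ⊔ ((Subgroup.center (S : Subgroup G)).map (S : Subgroup G).subtype) : Subgroup G) : Set G)).relIndex (Subgroup.normalizer ((Q ⊔ ((Subgroup.center (S : Subgroup G)).map (S : Subgroup G).subtype) : Subgroup G) : Set G)) = 6) : (∃ K : Subgroup G, K.Normal ∧ K.index = 2 ^ n ∧ (∀ P : Sylow 2 ↥K, ∃ m : ℕ, 1 ≤ m ∧ Nonempty ((P : Subgroup ↥K) ≃* QuaternionGroup (2 ^ m))) ∧ (∀ H : Subgroup ↥K, H.index ≠ 2)) ∧ (∀ Z₀ : Subgroup G, Z₀ ≤ ((Subgroup.center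 (S : Subgroup G)).map (S : Subgroup G).subtype) → Cfsg.IsWeaklyClosed Z₀ (S : Subgroup G)) ∧ Nat.card {C : ConjClasses G // ∃ t : G, orderOf t = 2 ∧ ConjClasses.mk t = C} = 2 := by
  obtain ⟨d⟩ := CfsgLib.Involutions.nonempty_wr hS
  obtain rfl := d.n_eq hn
  obtain rfl := d.eq_UG hUS hUab hUcard
  obtain ⟨k, hk⟩ := d.quat_sup_eq hQS eQ
  rw [show (Subgroup.center (S : Subgroup G)).map (S : Subgroup G).subtype = d.ZG from rfl] at *
  rw [hk] at h₂
  have hU : d.U2 := d.commute_UG_of_relIndex h₁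
  have hV := d.v6_of_relIndex h₂
  obtain ⟨K, hKn, hidx, hinf, hres⟩ := d.exists_normal_Y0 hU
  haveI := hKn
  obtain ⟨e⟩ := d.Y0_quat
  refine ⟨⟨K, hKn, hidx, fun P => ?_, d.index_ne_two_of_inf_Y0 hV hinf hres⟩, fun Z₀ hZ => ?_,
    d.card_invol_classes_u2_v6 hU hV⟩
  · obtain ⟨f⟩ := CfsgLib.Involutions.nonempty_sylow_mulEquiv S hinf P
    exact ⟨d.n - 1, by have := d.two_le; omega,
      ⟨f.trans ((d.Y0.equivMapOfInjective _ (S : Subgroup G).subtype_injective).symm.trans e)⟩⟩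
  · refine ⟨hZ.trans d.ZG_le, fun g hg => ?_⟩
    have key : ∀ w ∈ Z₀, g * w * g⁻¹ = w := fun w hw =>
      d.weaklyClosed_ZG hU (hZ hw) (hg ⟨w, hw, rfl⟩)
    refine le_antisymm ?_ fun w hw => ⟨w, hw, key w hw⟩
    rintro _ ⟨w, hw, rfl⟩
    show g * w * g⁻¹ ∈ Z₀
    rwa [key w hw]

end Cfsg.Agent.S1210
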