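import Cfsg.Statements.S1227
import Cfsg.Agent.Lib.Involutions.ElemAbCent

set_option autoImplicit false
open Cfsg

namespace Cfsg.Agent.S1227

/-- Let G be a finite group with a Sylow 2-subgroup T that is neither cyclic nor normal, such that the centralizer of every involution is an elementary abelian 2-group; put H = N_G(T), let u be an involution outside H and D = H ∩ uHu⁻¹. Then u inverts every element of D, |H| = |T|·(|T| − 1), and D is a complement to T in H. -/
theorem result {G : Type*} [Group G] [Finite G] (T : Sylow 2 G) (hnc : ¬ IsCyclic (T : Subgroup G)) (hnn : ¬ (T : Subgroup G).Normal) (hC : ∀ t : G, orderOf t = 2 → IsMulCommutative (Subgroup.centralizer ({t} : Set G)) ∧ ∀ c ∈ Subgroup.centralizer ({t} : Set G), c ^ 2 = 1) (u : G) (hu : orderOf u = 2) (huH : u ∉ Subgroup.normalizer ((T : Subgroup G) : Set G)) : (∀ d ∈ Subgroup.normalizer ((T : Subgroup G) : Set G) ⊓ (Subgroup.normalizer ((T : Subgroup G) : Set G)).map (MulAut.conj u).toMonoidHom, u * d * u⁻¹ = d⁻¹) ∧ Nat.card (Subgroup.normalizer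 ((T : Subgroup G) : Set G)) = Nat.card T * (Nat.card T - 1) ∧ Subgroup.IsComplement' ((Subgroup.normalizer ((T : Subgroup G) : Set G) ⊓ (Subgroup.normalizer ((T : Subgroup G) : Set G)).map (MulAut.conj u).toMonoidHom).subgroupOf (Subgroup.normalizer ((T : Subgroup G) : Set G))) ((T : Subgroup G).subgroupOf (Subgroup.normalizer ((T : Subgroup G) : Set G))) := by
  open CfsgLib.Involutions in
  open Subgroup in
  have h : ElemAbCent T := ⟨hnc, hnn, hC⟩
  have hy : ((u : G) : G ⧸ normalizer ((T : Subgroup G) : Set G)) ≠ ((1 : G) : G ⧸ _) :=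
    fun hh => huH (by have := QuotientGroup.eq.1 hh.symm; simpa using this)
  have hux : u • ((1 : G) : G ⧸ normalizer ((T : Subgroup G) : Set G)) = (u : G ⧸ _) := by
    rw [MulAction.Quotient.smul_mk, smul_eq_mul, mul_one]
  rw [h.pair_eq_inf_map u]
  refine ⟨fun d hd => ?_, ?_, ?_⟩
  · rw [invol_inv hu]; exact h.pair_inverted hy hu hux d hd
  · rw [h.card_normalizer hy, mul_comm, ← h.card_pair hy, Nat.add_sub_cancel]
  · refine isComplement'_of_disjoint_and_mul_eq_univ ?_ ?_
    · rw [Subgroup.disjoint_def]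
      intro a ha1 ha2
      exact Subtype.ext (h.pair_inter_sylow hy ha1 ha2)
    · rw [Set.eq_univ_iff_forall]
      rintro ⟨g, hg⟩
      obtain ⟨d, hd, t, ht, e⟩ := h.exists_mul_eq hy hg
      exact ⟨⟨d, (ElemAbCent.mem_iff_fixes).2 (ElemAbCent.mem_pair.1 hd).1⟩, hd,
        ⟨t, le_normalizer ht⟩, ht, Subtype.ext e⟩

end Cfsg.Agent.S1227
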