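import Cfsg.Statements.S1228
import Cfsg.Agent.Lib.Involutions.ElemAbCent

set_option autoImplicit false
open Cfsg

namespace Cfsg.Agent.S1228

/-- Let G be a finite group with a Sylow 2-subgroup T that is neither cyclic nor normal, such that the centralizer of every involution is an elementary abelian 2-group; put H = N_G(T), let u be an involution outside H and D = H ∩ uHu⁻¹. Then N_G(D) = D ⊔ ⟨u⟩, and a coset gH is fixed by every element of D exactly when gH = H or gH = uH. -/
theorem result {G : Type*} [Group G] [Finite G] (T : Sylow 2 G) (hnc : ¬ IsCyclic (T : Subgroup G)) (hnn : ¬ (T : Subgroup G).Normal) (hC : ∀ t : G, orderOf t = 2 → IsMulCommutative (Subgroup.centralizer ({t} : Set G)) ∧ ∀ c ∈ Subgroup.centralizer ({t} : Set G), c ^ 2 = 1) (u : G) (hu : orderOf u = 2) (huH : u ∉ Subgroup.normalizer ((T : Subgroup G) : Set G)) : Subgroup.normalizer ((Subgroup.normalizer ((T : Subgroup G) : Set G) ⊓ (Subgroup.normalizer ((T : Subgroup G) : Set G)).map (MulAut.conj u).toMonoidHom :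 Subgroup G) : Set G) = (Subgroup.normalizer ((T : Subgroup G) : Set G) ⊓ (Subgroup.normalizer ((T : Subgroup G) : Set G)).map (MulAut.conj u).toMonoidHom) ⊔ Subgroup.zpowers u ∧ ∀ g : G, ((∀ d ∈ Subgroup.normalizer ((T : Subgroup G) : Set G) ⊓ (Subgroup.normalizer ((T : Subgroup G) : Set G)).map (MulAut.conj u).toMonoidHom, d • (QuotientGroup.mk g : G ⧸ Subgroup.normalizer ((T : Subgroup G) : Set G)) = QuotientGroup.mk g) ↔ (QuotientGroup.mk g : G ⧸ Subgroup.normalizer ((T : Subgroup G) : Set G)) = QuotientGroup.mk 1 ∨ (QuotientGroup.mk g : G ⧸ Subgroup.normalizer ((T : Subgroup G) : Set G)) = QuotientGroup.mk u) := by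
  open CfsgLib.Involutions in
  open Subgroup in
  have h : ElemAbCent T := ⟨hnc, hnn, hC⟩
  have hy : ((u : G) : G ⧸ normalizer ((T : Subgroup G) : Set G)) ≠ ((1 : G) : G ⧸ _) :=
    fun hh => huH (by have := QuotientGroup.eq.1 hh.symm; simpa using this)
  have hux : u • ((1 : G) : G ⧸ normalizer ((T : Subgroup G) : Set G)) = (u : G ⧸ _) := by
    rw [MulAction.Quotient.smul_mk, smul_eq_mul, mul_one]
  rw [h.pair_eq_inf_map u]
  refine ⟨h.normalizer_pair hy hu hux, fun g => ⟨fun hfix => h.fixed_pair hy hfix, ?_⟩⟩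
  rintro (hh | hh) d hd <;> rw [hh]
  · exact (ElemAbCent.mem_pair.1 hd).1
  · exact (ElemAbCent.mem_pair.1 hd).2

end Cfsg.Agent.S1228
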