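import Cfsg.Statements.S1231
import Cfsg.Agent.Lib.Involutions.StrongEmb
import Cfsg.Agent.Lib.Base.Rank

set_option autoImplicit false
open Cfsg

namespace Cfsg.Agent.S1231

/-- Let H be a subgroup of the finite group G, p a prime, k ≥ 1, and P a Sylow p-subgroup of H whose p-rank is at least k. Then N_G(X) ≤ H for every subgroup X of P of p-rank at least k if and only if H ∩ gHg⁻¹ has p-rank less than k for every g ∉ H. -/
theorem result {G : Type*} [Group G] [Finite G] {p : ℕ} [Fact p.Prime] (k : ℕ) (hk : 1 ≤ k) (H : Subgroup G) (P : Sylow p ↥H) (hP : ¬ Cfsg.PRankLE p (k - 1) ↥(P : Subgroup ↥H)) : (∀ X : Subgroup G, X ≤ (P : Subgroup ↥H).map H.subtype → ¬ Cfsg.PRankLE p (k - 1) ↥X → Subgroup.normalizer (X : Set G) ≤ H) ↔ (∀ g : G, g ∉ H → Cfsg.PRankLE p (k - 1) ↥(H ⊓ H.map (MulAut.conj g).toMonoidHom)) := by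
  open CfsgLib.Involutions CfsgLib.Base in
  open Subgroup in
  constructor
  · intro h g hg
    by_contra hr
    rw [pRankLE_subgroup_iff] at hr
    push_neg at hr
    obtain ⟨A, hAle, hA, hAc⟩ := hr
    refine not_le_inf_conj_of_normalizer_le (p := p) H
      (fun D : Subgroup G => ¬ Cfsg.PRankLE p (k - 1) ↥D) ?_ ?_ hg A
      (isPGroup_of_isElementaryAbelian hA) hAle
      (fun h0 => hAc.not_ge (pRankLE_subgroup_iff.1 h0 A le_rfl hA))
    · exact fun D E hle hD hE => hD ((pRankLE_iff_of_le hle).1 (pRankLE_subgroup hE _))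
    · intro D hDH hDp hD n hn
      obtain ⟨R, hR⟩ := (hDp.comap_subtype (K := H)).exists_le_sylow
      obtain ⟨c, rfl⟩ := MulAction.exists_smul_eq H P R
      have hX : D.map (MulAut.conj (c⁻¹ : G)).toMonoidHom ≤ (P : Subgroup H).map H.subtype := by
        rintro _ ⟨d, hd, rfl⟩
        exact ⟨c⁻¹ * ⟨d, hDH hd⟩ * c, mem_smul_sylow_iff'.1 (hR hd), by simp⟩
      have := h _ hX (fun h0 => hD ((pRankLE_congr
        (Subgroup.equivMapOfInjective D _ (MulAut.conj (c⁻¹ : G)).injective)).2 h0))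
        (show (c⁻¹ : G) * n * (c : G) ∈ _ by
          rw [mem_normalizer_iff]
          intro x
          rw [mem_conj_map, mem_conj_map, inv_inv, mem_normalizer_iff.1 hn]
          refine iff_of_eq (congrArg (· ∈ D) ?_)
          group)
      have := H.mul_mem (H.mul_mem c.2 this) (H.inv_mem c.2)
      rwa [show (c : G) * ((c⁻¹ : G) * n * c) * (c : G)⁻¹ = n by group] at this
  · intro h X hX hr n hn
    by_contra hnH
    apply hr
    have hXH : X ≤ H := hX.trans (map_subtype_le _)
    have hle : X ≤ H ⊓ H.map (MulAut.conj n).toMonoidHom := fun x hx =>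
      ⟨hXH hx, mem_conj_map.2 (hXH ((mem_normalizer_iff.1 hn _).2 (by
        rwa [show n * (n⁻¹ * x * n) * n⁻¹ = x by group])))⟩
    exact (pRankLE_iff_of_le hle).1 (pRankLE_subgroup (h n hnH) _)

end Cfsg.Agent.S1231
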