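import Cfsg.Statements.S1233
import Cfsg.Agent.Lib.PGroups.Harada.QuaternionPair

set_option autoImplicit false
open Cfsg

namespace Cfsg.Agent.S1233

/-- Let S be a finite 2-group and Q a subgroup of order 32 generated by two elementwise-commuting subgroups Q₁, Q₂ each isomorphic to the quaternion group of order 8 (so Q = Q₁ ∗ Q₂). If C_S(Q) ≤ Q, then every section of S has 2-rank at most 4. -/
theorem result {S : Type*} [Group S] [Finite S] (hS : IsPGroup 2 S) (Q Q₁ Q₂ : Subgroup S) (e₁ : Q₁ ≃* QuaternionGroup 2) (e₂ : Q₂ ≃* QuaternionGroup 2) (hcomm : ∀ a ∈ Q₁, ∀ b ∈ Q₂, a * b = b * a) (hQ : Q₁ ⊔ Q₂ = Q) (hQ32 : Nat.card Q = 32) (hC : Subgroup.centralizer (Q : Set S) ≤ Q) : Cfsg.SectionalPRankLE 2 4 S := by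
  refine CfsgLib.PGroups.Harada.sectionalPRankLE_of_index (k := 4) fun L _ _ ι hι => ?_
  haveI : Fact (Nat.Prime 2) := ⟨Nat.prime_two⟩
  show (frattini L).index ≤ 2 ^ 4
  by_cases h8 : ∀ A : Subgroup S, A.Normal → IsMulCommutative A → (∀ a ∈ A, a ^ 2 = 1) →
      Nat.card A ≤ 4
  · exact (CfsgLib.PGroups.MacWilliams.index_frattini_le_sixteen hS h8 ι hι).trans (by norm_num)
  simp only [not_forall, not_le] at h8
  obtain ⟨N₀, hn, hc, h2, h4⟩ := h8
  haveI := hn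
  have h8' : 8 ≤ Nat.card N₀ :=
    CfsgLib.PGroups.Harada.eq_of_dvd_and_le (X := N₀) (k := 2) hS h4
  obtain ⟨N, hN, -, hNle, hNc⟩ := CfsgLib.PGroups.exists_normal_card_eq hS (bot_le : ⊥ ≤ N₀) (k := 3)
    (by rw [Subgroup.card_bot]; norm_num) (by omega)
  let F : CfsgLib.PGroups.Harada.Eight S := ⟨N, hN, fun x hx y hy =>
    congrArg Subtype.val (hc.is_comm.comm ⟨x, hNle hx⟩ ⟨y, hNle hy⟩),
    fun x hx => h2 x (hNle hx), hNc⟩
  obtain ⟨X⟩ := CfsgLib.PGroups.Harada.exists_extra Q Q₁ Q₂ e₁ e₂ hcomm hQ hQ32 hC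
  obtain ⟨T⟩ := X.exists_selfCent F hS
  exact (CfsgLib.PGroups.Harada.index_frattini_le_sixteen hS T ι hι).trans (by norm_num)

end Cfsg.Agent.S1233
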