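import Cfsg.Statements.S1235
import Cfsg.Agent.Lib.Fusion.DihedralByFour
import Cfsg.Agent.Lib.Involutions.QuasiDihedralMax
-- import your own Cfsg.Agent.* helpers here

set_option autoImplicit false
open Cfsg
open scoped Pointwise

namespace Cfsg.Agent.S1235

/-- The facts about `D` that are needed: elementary of order 4, or centre of order at most 2;
and a cyclic subgroup of index at most 2. -/
theorem factor_shape {D : Type*} [Group D] [Finite D] (hD2 : IsPGroup 2 D)
    (hD : (∃ m : ℕ, 2 ≤ m ∧ Nonempty (D ≃* DihedralGroup m)) ∨ Cfsg.IsQuasiDihedral D) :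
    ((Nat.card D = 4 ∧ (∀ a b : D, a * b = b * a) ∧ ∀ a : D, a * a = 1) ∨
      ((∀ a ∈ Subgroup.center D, a * a = 1) ∧ Nat.card (Subgroup.center D) ≤ 2)) ∧
    ∃ r : D, ∀ a b : D, a ∉ Subgroup.zpowers r → b ∉ Subgroup.zpowers r →
      a⁻¹ * b ∈ Subgroup.zpowers r := by
  classical
  haveI : Fact (Nat.Prime 2) := ⟨Nat.prime_two⟩
  rcases hD with ⟨m, hm, ⟨e⟩⟩ | hq
  · haveI : NeZero m := ⟨by omega⟩
    have hr : ∀ a : D, a ∈ Subgroup.zpowers (e.symm (.r 1)) ↔ ∃ i, e a = .r i := by
      intro a
      constructor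
      · rintro ⟨k, rfl⟩
        exact ⟨(k : ZMod m), by simp [map_zpow, DihedralGroup.r_one_zpow]⟩
      · rintro ⟨i, hi⟩
        refine ⟨(i.val : ℤ), e.injective ?_⟩
        simp [map_zpow, DihedralGroup.r_one_zpow, hi]
    refine ⟨?_, e.symm (.r 1), fun a b ha hb => (hr _).2 ?_⟩
    · by_cases hm2 : m = 2
      · subst hm2
        refine Or.inl ⟨by rw [Nat.card_congr e.toEquiv, DihedralGroup.nat_card],
          fun a b => e.injective ?_, fun a => e.injective ?_⟩
        · rw [map_mul, map_mul]
          have : ∀ a b : DihedralGroup 2, a * b = b * a := by decide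
          exact this _ _
        · rw [map_mul, map_one]
          have : ∀ a : DihedralGroup 2, a * a = 1 := by decide
          exact this _
      obtain ⟨j, hj⟩ := IsPGroup.iff_card.1 hD2
      rw [Nat.card_congr e.toEquiv, DihedralGroup.nat_card] at hj
      obtain ⟨k, hk⟩ : ∃ k, m = 2 ^ k := by
        obtain ⟨k, -, hk⟩ := (Nat.dvd_prime_pow Nat.prime_two).1 (Dvd.intro_left 2 hj)
        exact ⟨k, hk⟩
      have hk2 : 2 ≤ k := by
        by_contra hc
        interval_cases k <;> omega
      have hc : ∀ a ∈ Subgroup.center D, ∃ i : ZMod m, e a = .r i ∧ i + i = 0 := by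
        intro a ha
        have h1 := Subgroup.mem_center_iff.1 ha (e.symm (.r 1))
        have h2 := Subgroup.mem_center_iff.1 ha (e.symm (.sr 0))
        replace h1 := congrArg e h1
        replace h2 := congrArg e h2
        simp only [map_mul, MulEquiv.apply_symm_apply] at h1 h2
        cases hea : e a with
        | r i =>
          rw [hea] at h2
          simp only [DihedralGroup.sr_mul_r, DihedralGroup.r_mul_sr,
            DihedralGroup.sr.injEq] at h2
          exact ⟨i, rfl, by linear_combination h2⟩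
        | sr i =>
          exfalso
          rw [hea] at h1
          simp only [DihedralGroup.r_mul_sr, DihedralGroup.sr_mul_r,
            DihedralGroup.sr.injEq] at h1
          have h3 : ((2 : ℕ) : ZMod m) = 0 := by push_cast; linear_combination -h1
          rw [ZMod.natCast_eq_zero_iff] at h3
          exact hm2 (le_antisymm (Nat.le_of_dvd two_pos h3) hm)
      refine Or.inr ⟨fun a ha => ?_, ?_⟩
      · obtain ⟨i, hi, hii⟩ := hc a ha
        refine e.injective ?_
        rw [map_mul, hi, DihedralGroup.r_mul_r, hii, map_one]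
        rfl
      · let g : Subgroup.center D → Bool := fun a => decide (a = 1)
        refine le_trans (Nat.card_le_card_of_injective g fun a b hab => ?_) (by simp)
        have key : ∀ c : Subgroup.center D, c ≠ 1 → e c = .r (((2 ^ (k - 1) : ℕ)) : ZMod m) := by
          intro c hc1
          obtain ⟨i, hi, hii⟩ := hc c c.2
          rw [hi]
          congr 1
          have h4 : ((2 * i.val : ℕ) : ZMod m) = 0 := by
            push_cast; rw [ZMod.natCast_zmod_val, two_mul, hii]
          rw [ZMod.natCast_eq_zero_iff] at h4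
          have hlt := i.val_lt
          have hne : i.val ≠ 0 := fun h0 => hc1 (Subtype.ext (e.injective (by
            rw [hi, (ZMod.val_eq_zero i).1 h0, OneMemClass.coe_one, map_one]; rfl)))
          have hpk : m = 2 * 2 ^ (k - 1) := by
            rw [hk, ← pow_succ']; congr 1; omega
          obtain ⟨q, hq⟩ := h4
          have hqlt : q < 2 := by
            by_contra hq2
            have : m * 2 ≤ m * q := Nat.mul_le_mul_left m (by omega)
            omega
          interval_cases q
          · omega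
          · rw [← ZMod.natCast_zmod_val i]
            congr 1
            omega
        simp only [g, decide_eq_decide] at hab
        by_cases ha : a = 1
        · rw [ha, hab.1 ha]
        · exact Subtype.ext (e.injective ((key a ha).trans (key b (mt hab.2 ha)).symm))
    · cases hea : e a with
      | r i => exact absurd ((hr a).2 ⟨i, hea⟩) ha
      | sr i => cases heb : e b with
        | r j => exact absurd ((hr b).2 ⟨j, heb⟩) hb
        | sr j =>
          exact ⟨_, by rw [map_mul, map_inv, hea, heb, DihedralGroup.inv_sr,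
            DihedralGroup.sr_mul_sr]⟩
  · obtain ⟨d⟩ := CfsgLib.Involutions.nonempty_qd hq
    refine ⟨Or.inr ⟨fun a ha => ?_, ?_⟩, d.x, fun a b ha hb =>
      (Subgroup.mul_mem_iff_of_index_two d.index_zpowers).2
        (iff_of_false (fun h => ha (inv_mem_iff.1 h)) hb)⟩
    · rw [d.center_eq] at ha
      obtain ⟨k, rfl⟩ := ha
      rw [← (Commute.refl d.z).mul_zpow, CfsgLib.Involutions.invol_mul_self d.orderOf_z, one_zpow]
    · rw [d.center_eq, Nat.card_zpowers, d.orderOf_z]

/-- Let G be a finite group, x an involution and T ≤ G a Sylow 2-subgroup of C_G(x) (T ≤ C_G(x) with |C_G(x) : T| odd) which is the internal direct product of a subgroup D that is dihedral (of order ≥ 4) or quasi-dihedral and a Klein four-subgroup B. Suppose that for every involution b ∈ B, T ≤ C_G(b) with |C_G(b) : T| odd. Then every section of G has 2-rank at most 4. -/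
theorem result {G : Type*} [Group G] [Finite G] (x : G) (hx : orderOf x = 2) (T D B : Subgroup G) (hT : IsPGroup 2 T) (hTx : T ≤ Subgroup.centralizer ({x} : Set G)) (hTxi : Odd (T.relIndex (Subgroup.centralizer ({x} : Set G)))) (hprod : Cfsg.IsInternalDirectProduct D B T) (hD : (∃ m : ℕ, 2 ≤ m ∧ Nonempty (D ≃* DihedralGroup m)) ∨ Cfsg.IsQuasiDihedral D) (hB : IsKleinFour B) (hTb : ∀ b ∈ B, orderOf b = 2 → T ≤ Subgroup.centralizer ({b} : Set G) ∧ Odd (T.relIndex (Subgroup.centralizer ({b} : Set G)))) : Cfsg.SectionalPRankLE 2 4 G := by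
  classical
  haveI : Fact (Nat.Prime 2) := ⟨Nat.prime_two⟩
  obtain ⟨hDT, hBT, hcomm, hDB, hgen⟩ := hprod
  obtain ⟨S, hTS⟩ := hT.exists_le_sylow
  have hdb : ∀ t ∈ T, ∃ d ∈ D, ∃ b ∈ B, t = d * b := by
    intro t ht
    have hn : D ≤ Subgroup.normalizer (B : Set G) := fun d hd => by
      refine Subgroup.mem_normalizer_iff.2 fun c => ⟨fun hc => ?_, fun hc => ?_⟩
      · rwa [hcomm d hd c hc, mul_inv_cancel_right]
      · have h1 := hcomm d⁻¹ (inv_mem hd) _ hc
        have h2 : c = d * c * d⁻¹ := by
          calc c = d⁻¹ * (d * c * d⁻¹) * d := by group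
            _ = d * c * d⁻¹ := by rw [h1, inv_mul_cancel_right]
        rwa [h2]
    rw [← hgen, ← SetLike.mem_coe, Subgroup.coe_mul_of_left_le_normalizer_right D B hn] at ht
    obtain ⟨d, hd, b, hb, rfl⟩ := ht
    exact ⟨d, hd, b, hb, rfl⟩
  have hsqB : ∀ b ∈ B, b * b = 1 := fun b hb => by
    have h1 := hB.exponent_two ▸ Monoid.pow_exponent_eq_one (⟨b, hb⟩ : B)
    exact (pow_two b).symm.trans (congrArg Subtype.val h1 :)
  have hBab : ∀ a ∈ B, ∀ b ∈ B, a * b = b * a := fun a ha b hb => by
    calc a * b = (a * b)⁻¹ := (inv_eq_of_mul_eq_one_right (hsqB _ (mul_mem ha hb))).symm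
      _ = b⁻¹ * a⁻¹ := mul_inv_rev a b
      _ = b * a := by
        rw [inv_eq_of_mul_eq_one_right (hsqB a ha), inv_eq_of_mul_eq_one_right (hsqB b hb)]
  have hset : CfsgLib.Fusion.DihedralByFour.Setting (S : Subgroup G) T B := by
    refine ⟨S.2, hTS, hBT, hB.card_four, hsqB, fun t ht b hb => ?_, fun b hb hb1 s hs hc => ?_⟩
    · obtain ⟨d, hd, b', hb', rfl⟩ := hdb t ht
      rw [mul_assoc, hBab b' hb' b hb, ← mul_assoc, hcomm d hd b hb, mul_assoc]
    · obtain ⟨hTle, hodd⟩ := hTb b hb (orderOf_eq_prime ((pow_two b).trans (hsqB b hb)) hb1)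
      set C := (S : Subgroup G) ⊓ Subgroup.centralizer ({b} : Set G) with hC
      have h1 := Subgroup.relIndex_mul_relIndex T C (Subgroup.centralizer ({b} : Set G))
        (le_inf hTS hTle) inf_le_right
      have h2 : Odd (T.relIndex C) := (Nat.odd_mul.1 (h1.symm ▸ hodd)).1
      obtain ⟨k, hk⟩ := (S.2.to_le (inf_le_left : C ≤ S)).index (T.subgroupOf C)
      rw [← Subgroup.relIndex] at hk
      have hk0 : k = 0 := by
        by_contra h0
        rw [hk] at h2
        exact Nat.not_even_iff_odd.2 h2 ((Nat.even_pow).2 ⟨even_two, h0⟩)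
      rw [hk0, pow_zero, Subgroup.relIndex_eq_one] at hk
      exact hk ⟨hs, Subgroup.mem_centralizer_singleton_iff.2 hc⟩
  obtain ⟨hshape, r, hr⟩ := factor_shape (hT.to_le hDT) hD
  have hsmall : ∀ P : Subgroup G, P ≤ (S : Subgroup G) →
      CfsgLib.Fusion.DihedralByFour.Small P := by
    rcases hshape with ⟨h4, hab, hsq⟩ | ⟨hzsq, hz2⟩
    · refine fun P hP => CfsgLib.Fusion.DihedralByFour.small_of_elementary hset (fun a ha b hb => ?_) (fun t ht => ?_) ?_ hP
      · obtain ⟨d, hd, b₁, hb₁, rfl⟩ := hdb a ha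
        obtain ⟨d', hd', b₂, hb₂, rfl⟩ := hdb b hb
        have h1 : d * d' = d' * d := congrArg Subtype.val (hab ⟨d, hd⟩ ⟨d', hd'⟩)
        calc d * b₁ * (d' * b₂) = d * (b₁ * d') * b₂ := by group
          _ = (d * d') * (b₁ * b₂) := by rw [← hcomm d' hd' b₁ hb₁]; group
          _ = d' * (d * b₂) * b₁ := by rw [h1, hBab b₁ hb₁ b₂ hb₂]; group
          _ = d' * b₂ * (d * b₁) := by rw [hcomm d hd b₂ hb₂]; group
      · obtain ⟨d, hd, b, hb, rfl⟩ := hdb t ht
        have h1 : d * d = 1 := congrArg Subtype.val (hsq ⟨d, hd⟩)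
        calc d * b * (d * b) = d * (b * d) * b := by group
          _ = (d * d) * (b * b) := by rw [← hcomm d hd b hb]; group
          _ = 1 := by rw [h1, hsqB b hb, one_mul]
      · have hbij : Function.Bijective (fun w : D × B =>
            (⟨(w.1 : G) * w.2, mul_mem (hDT w.1.2) (hBT w.2.2)⟩ : T)) := by
          refine ⟨fun u v e => ?_, fun t => ?_⟩
          · exact Subgroup.mul_injective_of_disjoint (disjoint_iff.2 hDB)
              (congrArg Subtype.val e :)
          · obtain ⟨d, hd, b, hb, e⟩ := hdb t t.2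
            exact ⟨(⟨d, hd⟩, ⟨b, hb⟩), Subtype.ext e.symm⟩
        rw [← Nat.card_eq_of_bijective _ hbij, Nat.card_prod, h4, hB.card_four]
    · have hcen : ∀ d (hd : d ∈ D), (∀ t ∈ T, t * d = d * t) →
          (⟨d, hd⟩ : D) ∈ Subgroup.center D := fun d hd h =>
        Subgroup.mem_center_iff.2 fun g => Subtype.ext (h g (hDT g.2))
      let Z : Subgroup G := T ⊓ Subgroup.centralizer (T : Set G)
      have hZdec : ∀ z ∈ Z, ∃ d : Subgroup.center D, ∃ b : B, z = ((d : D) : G) * b := by
        rintro z ⟨hzT, hzc⟩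
        obtain ⟨d, hd, b, hb, rfl⟩ := hdb z hzT
        refine ⟨⟨_, hcen d hd fun t ht => ?_⟩, ⟨b, hb⟩, rfl⟩
        have h1 := Subgroup.mem_centralizer_iff.1 hzc t ht
        rw [← mul_assoc, mul_assoc d b t, ← hset.comm t ht b hb, ← mul_assoc] at h1
        exact mul_right_cancel h1
      have hTeq : T = (S : Subgroup G) := by
        refine CfsgLib.Fusion.DihedralByFour.eq_of_center hset Z inf_le_left (fun b hb => ⟨hBT hb,
          Subgroup.mem_centralizer_iff.2 fun t ht => hset.comm t ht b hb⟩)
          (fun z => ⟨fun h => ⟨h.1, Subgroup.mem_centralizer_iff.1 h.2⟩,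
            fun h => ⟨h.1, Subgroup.mem_centralizer_iff.2 h.2⟩⟩) (fun z hz => ?_) ?_
        · obtain ⟨d, b, rfl⟩ := hZdec z hz
          have h1 : ((d : D) : G) * ((d : D) : G) = 1 :=
            congrArg Subtype.val (hzsq (d : D) d.2)
          calc ((d : D) : G) * b * (((d : D) : G) * b)
              = ((d : D) : G) * ((b : G) * ((d : D) : G)) * b := by group
            _ = (((d : D) : G) * ((d : D) : G)) * ((b : G) * b) := by
              rw [← hcomm _ (d : D).2 _ b.2]; group
            _ = 1 := by rw [h1, hsqB _ b.2, one_mul]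
        · choose fd fb hf using hZdec
          refine le_trans (Nat.card_le_card_of_injective
            (fun z : Z => (fd z z.2, fb z z.2)) fun u v e => ?_) ?_
          · simp only [Prod.mk.injEq] at e
            exact Subtype.ext (by rw [hf u u.2, hf v v.2, e.1, e.2])
          · rw [Nat.card_prod, hB.card_four]
            omega
      intro P hP
      refine CfsgLib.Fusion.DihedralByFour.small_of_product (T := T) (r := (r : G)) hDT hBT hcomm
        hgen.symm hB.card_four r.2 (fun a ha b hb h1 h2 => ?_) (hTeq ▸ hP)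
      have key : ∀ c (hc : c ∈ D), (⟨c, hc⟩ : D) ∈ Subgroup.zpowers r ↔
          c ∈ Subgroup.zpowers (r : G) := fun c hc => by
        simp only [Subgroup.mem_zpowers_iff]
        exact exists_congr fun k => by simp [Subtype.ext_iff]
      exact (key _ _).1 (hr ⟨a, ha⟩ ⟨b, hb⟩ (fun h => h1 ((key a ha).1 h))
        fun h => h2 ((key b hb).1 h))
  -- reduction to the Sylow subgroup
  intro H N hN A hAc hA2
  set H₁ : Subgroup H := A.comap (QuotientGroup.mk' N) with hH₁
  let f : H₁ →* A := ((QuotientGroup.mk' N).comp H₁.subtype).codRestrict A fun h => h.2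
  have hf : Function.Surjective f := by
    rintro ⟨a, ha⟩
    obtain ⟨h, rfl⟩ := QuotientGroup.mk'_surjective N a
    exact ⟨⟨h, ha⟩, rfl⟩
  obtain ⟨P⟩ : Nonempty (Sylow 2 H₁) := inferInstance
  have hA : IsPGroup 2 A := fun a => ⟨1, Subtype.ext (by simpa using hA2 a a.2)⟩
  have hfP : Function.Surjective (f.comp (P : Subgroup H₁).subtype) := by
    have h1 := P.mapSurjective hf
    have h2 : ((P.mapSurjective hf : Sylow 2 A) : Subgroup A) = ⊤ :=
      ((P.mapSurjective hf).3 (hA.of_equiv Subgroup.topEquiv.symm) le_top).symm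
    intro a
    have h3 : a ∈ (P : Subgroup H₁).map f := by
      rw [← Sylow.coe_mapSurjective hf P, h2]; trivial
    obtain ⟨p, hp, e⟩ := h3
    exact ⟨⟨p, hp⟩, e⟩
  set P' : Subgroup G := ((P : Subgroup H₁).map H₁.subtype).map H.subtype with hP'
  have hP'p : IsPGroup 2 P' := (P.2.map _).map _
  obtain ⟨Q, hQ⟩ := hP'p.exists_le_sylow
  obtain ⟨g, hg⟩ := MulAction.exists_smul_eq G Q S
  let φ : (P : Subgroup H₁) →* G :=
    (MulAut.conj g).toMonoidHom.comp ((H.subtype.comp H₁.subtype).comp (P : Subgroup H₁).subtype)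
  have hφ : Function.Injective φ := (MulAut.conj g).injective.comp
    (H.subtype_injective.comp (H₁.subtype_injective.comp (Subgroup.subtype_injective _)))
  have hle : φ.range ≤ (S : Subgroup G) := by
    rintro _ ⟨p, rfl⟩
    rw [← hg]
    exact ⟨_, hQ ⟨_, ⟨_, p.2, rfl⟩, rfl⟩, rfl⟩
  let e := MonoidHom.ofInjective hφ
  let ψ : φ.range →* A := (f.comp (P : Subgroup H₁).subtype).comp e.symm.toMonoidHom
  have hψ : Function.Surjective ψ := hfP.comp e.symm.surjective
  have h16 := hsmall _ hle ψ.ker inferInstance (fun a b => ?_) (fun a => ?_)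
  · rw [Subgroup.index_ker, MonoidHom.range_eq_top.2 hψ, Subgroup.card_top] at h16
    exact h16
  · rw [MonoidHom.mem_ker, map_mul, map_mul, map_mul, map_inv, map_inv]
    have h1 : ψ a * ψ b = ψ b * ψ a := hAc.is_comm.comm _ _
    rw [h1]
    group
  · rw [MonoidHom.mem_ker, map_mul]
    exact Subtype.ext (by simpa [pow_two] using hA2 _ (ψ a).2)

end Cfsg.Agent.S1235
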