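import Cfsg.Statements.S1242
import Cfsg.Agent.Lib.Involutions.TransferInto
import Cfsg.Agent.Lib.Transfer.NormalPComplement

set_option autoImplicit false
open Cfsg

namespace Cfsg.Agent.S1242

/-- Let G be a finite group, p a prime and H a subgroup of index prime to p such that any two elements of H of p-power order that are conjugate in G are conjugate in H. Then (O^p(G)·G') ∩ H = O^p(H)·H', where O^p denotes the subgroup generated by the elements of order prime to p. -/
theorem result {G : Type*} [Group G] [Finite G] {p : ℕ} [Fact p.Prime] (H : Subgroup G) (hidx : Nat.Coprime p H.index) (hfus : ∀ g ∈ H, (∃ k : ℕ, orderOf g = p ^ k) → ∀ a : G, a * g * a⁻¹ ∈ H → ∃ h ∈ H, h * g * h⁻¹ = a * g * a⁻¹) : (Cfsg.pResidual p G ⊔ commutator G) ⊓ H = (Cfsg.pResidual p ↥H ⊔ commutator ↥H).map H.subtype := by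
  open Subgroup in
  open scoped commutatorElement in
  have hRn := CfsgLib.Transfer.pResidual_normal (G := H) (p := p)
  let K : Subgroup H := Cfsg.pResidual p H ⊔ commutator H
  refine le_antisymm ?_ (le_inf ?_ (map_subtype_le _))
  swap
  · rw [Subgroup.map_sup]
    refine sup_le (le_sup_of_le_left (CfsgLib.Transfer.map_pResidual_le _)) (le_sup_of_le_right ?_)
    rw [commutator_def, map_commutator]
    exact commutator_mono le_top le_top
  letI : CommGroup (↥H ⧸ K) :=
    { (inferInstance : Group (↥H ⧸ K)) with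
      mul_comm := fun a b => by
        induction a using QuotientGroup.induction_on with
        | H x =>
          induction b using QuotientGroup.induction_on with
          | H y =>
            rw [← QuotientGroup.mk_mul, ← QuotientGroup.mk_mul, QuotientGroup.eq]
            rw [show (x * y)⁻¹ * (y * x) = ⁅y⁻¹, x⁻¹⁆ by rw [commutatorElement_def]; group]
            exact mem_sup_right (commutator_mem_commutator (mem_top _) (mem_top _)) }
  let ϕ : ↥H →* ↥H ⧸ K := QuotientGroup.mk' _
  have hA : IsPGroup p (↥H ⧸ K) := by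
    intro q
    induction q using QuotientGroup.induction_on with
    | H x =>
      obtain ⟨a, -, b, -, hab, ⟨k, hk⟩, hb⟩ := CfsgLib.Transfer.exists_pPart_mul (p := p) x
      refine ⟨k, ?_⟩
      subst hab
      have hb1 : ϕ b = 1 := (QuotientGroup.eq_one_iff _).2
        (mem_sup_left (CfsgLib.Transfer.mem_pResidual_of_coprime hb))
      show ϕ (a * b) ^ p ^ k = 1
      rw [map_mul, hb1, mul_one, ← map_pow, orderOf_dvd_iff_pow_eq_one.1 hk, map_one]
  let T := MonoidHom.transfer ϕ
  have hker : Cfsg.pResidual p G ⊔ commutator G ≤ T.ker := by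
    refine sup_le ((closure_le _).2 fun g hg => ?_) (Abelianization.commutator_subset_ker T)
    exact CfsgLib.Transfer.eq_one_of_coprime_orderOf hA
      (Nat.Coprime.coprime_dvd_left (orderOf_map_dvd T g) hg)
  have hTp : ∀ a : H, (∃ k : ℕ, orderOf a = p ^ k) → T a = ϕ a ^ H.index := by
    intro a ⟨k, hk⟩
    refine CfsgLib.Involutions.transfer_eq_map_pow ϕ a fun m g₀ h => ?_
    have hak : ∃ j : ℕ, orderOf ((a : G) ^ m) = p ^ j := by
      have hd : orderOf ((a : G) ^ m) ∣ p ^ k := by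
        rw [← hk, ← Subgroup.orderOf_coe a]; exact orderOf_pow_dvd m
      obtain ⟨j, -, hj⟩ := (Nat.dvd_prime_pow (Fact.out : p.Prime)).1 hd
      exact ⟨j, hj⟩
    obtain ⟨c, hc, hc'⟩ := hfus _ (pow_mem a.2 m) hak g₀⁻¹ (by rw [inv_inv]; exact h)
    rw [inv_inv] at hc'
    have : (⟨g₀⁻¹ * (a : G) ^ m * g₀, h⟩ : H) = ⟨c, hc⟩ * a ^ m * ⟨c, hc⟩⁻¹ :=
      Subtype.ext (by simpa using hc'.symm)
    rw [this, map_mul, map_mul, map_inv, map_pow, mul_comm (ϕ ⟨c, hc⟩), mul_inv_cancel_right]
  intro x hx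
  obtain ⟨hxN, hxH⟩ := hx
  obtain ⟨a, -, b, -, hab, ⟨k, hk⟩, hb⟩ :=
    CfsgLib.Transfer.exists_pPart_mul (p := p) (⟨x, hxH⟩ : H)
  obtain ⟨j, -, hj⟩ := (Nat.dvd_prime_pow (Fact.out : p.Prime)).1 hk
  have hbK : b ∈ K := mem_sup_left (CfsgLib.Transfer.mem_pResidual_of_coprime hb)
  have hTb : T b = 1 := hker (mem_sup_left (CfsgLib.Transfer.map_pResidual_le H.subtype
    ⟨b, CfsgLib.Transfer.mem_pResidual_of_coprime hb, rfl⟩))
  have hTx : T x = 1 := hker hxN
  rw [show x = (a : G) * b from (congrArg Subtype.val hab).symm, map_mul, hTb, mul_one,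
    hTp a ⟨j, hj⟩] at hTx
  have h1 : ϕ a ^ (p ^ j) = 1 := by rw [← map_pow, ← hj, pow_orderOf_eq_one, map_one]
  have h3 := pow_gcd_eq_one.mpr ⟨h1, hTx⟩
  rw [(hidx.pow_left j).gcd_eq_one, pow_one] at h3
  refine ⟨⟨x, hxH⟩, ?_, rfl⟩
  rw [← hab]
  exact mul_mem ((QuotientGroup.eq_one_iff _).1 h3) hbK

end Cfsg.Agent.S1242
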