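import Cfsg.Statements.S1243
import Cfsg.Agent.Lib.Involutions.Isolated
import Cfsg.Agent.Lib.Transfer.Fusion

set_option autoImplicit false
open Cfsg

namespace Cfsg.Agent.S1243

/-- Let T be a Sylow p-subgroup of the finite group G and W ≤ T a subgroup weakly closed in T. If d and g d g⁻¹ both centralize W, then g d g⁻¹ = h d h⁻¹ for some h ∈ N_G(W). -/
theorem result {G : Type*} [Group G] [Finite G] {p : ℕ} [Fact p.Prime] (T : Sylow p G) (W : Subgroup G) (hW : Cfsg.IsWeaklyClosed W (T : Subgroup G)) (d g : G) (hd : d ∈ Subgroup.centralizer (W : Set G)) (hgd : g * d * g⁻¹ ∈ Subgroup.centralizer (W : Set G)) : ∃ h ∈ Subgroup.normalizer (W : Set G), h * d * h⁻¹ = g * d * g⁻¹ := by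
  open CfsgLib.Involutions in
  let K : Subgroup G := Subgroup.centralizer ({g * d * g⁻¹} : Set G)
  have hWp : IsPGroup p W := T.isPGroup'.to_le hW.1
  have hWK : W ≤ K := fun w hw => mem_centralizer_singleton.2
    (Subgroup.mem_centralizer_iff.1 hgd w hw).symm
  have hgWK : W.map (MulAut.conj g).toMonoidHom ≤ K := by
    rintro _ ⟨w, hw, rfl⟩
    refine mem_centralizer_singleton.2 ?_
    exact (show Commute d w from (Subgroup.mem_centralizer_iff.1 hd w hw).symm).map (MulAut.conj g).toMonoidHom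
  obtain ⟨R, hR⟩ := (hWp.comap_subtype (K := K)).exists_le_sylow
  have hRp : IsPGroup p ((R : Subgroup K).map K.subtype) := R.2.map _
  obtain ⟨Q, hQ⟩ := hRp.exists_le_sylow
  obtain ⟨k, hk, hkW⟩ := CfsgLib.Transfer.exists_conj_le_of_isPGroup hRp (Subgroup.map_subtype_le _)
    (by rw [Subgroup.relIndex, Subgroup.subgroupOf,
          Subgroup.comap_map_eq_self_of_injective K.subtype_injective]; exact R.not_dvd_index)
    (hWp.map _) hgWK
  obtain ⟨s, hs⟩ := MulAction.exists_smul_eq G Q T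
  have key : ∀ v : G, (∀ w ∈ W, v * w * v⁻¹ ∈ (Q : Subgroup G)) →
      s * v ∈ Subgroup.normalizer (W : Set G) := by
    intro v hv
    rw [Subgroup.mem_normalizer_iff_map_conj_eq]
    refine hW.2 _ ?_
    rintro _ ⟨w, hw, rfl⟩
    rw [← hs]
    refine mem_smul_sylow_iff'.2 ?_
    have := hv w hw
    simp only [MulEquiv.coe_toMonoidHom, MulAut.conj_apply] at this ⊢
    rw [show s⁻¹ * (s * v * w * (s * v)⁻¹) * s = v * w * v⁻¹ by group]
    exact this
  have e1 := key 1 fun w hw => by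
    simpa using hQ (show w ∈ (R : Subgroup K).map K.subtype from ⟨⟨w, hWK hw⟩, hR hw, rfl⟩)
  have e2 := key (k⁻¹ * g) fun w hw => by
    have := hQ (hkW _ ⟨w, hw, rfl⟩)
    simp only [MulEquiv.coe_toMonoidHom, MulAut.conj_apply] at this
    convert this using 1
    group
  rw [mul_one] at e1
  refine ⟨k⁻¹ * g, (Subgroup.mul_mem_cancel_left _ e1).1 e2, ?_⟩
  have hc : Commute (g * d * g⁻¹) k := mem_centralizer_singleton.1 hk
  calc k⁻¹ * g * d * (k⁻¹ * g)⁻¹ = k⁻¹ * ((g * d * g⁻¹) * k) := by group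
    _ = g * d * g⁻¹ := by rw [hc.eq, inv_mul_cancel_left]

end Cfsg.Agent.S1243
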