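import Cfsg.Statements.S1244
import Cfsg.Agent.Lib.Transfer.CentralTransfer
import Cfsg.Agent.Lib.Base.Rank

set_option autoImplicit false
open Cfsg

namespace Cfsg.Agent.S1244

/-- Let G be a finite group with no subgroup of index 2 whose Sylow 2-subgroup S is commutative, and let R ≤ S be a subgroup whose 2-rank is exactly one less than the 2-rank r of S. Then every involution of S is conjugate, by an element of N_G(S), to an element of R. -/
theorem result {G : Type*} [Group G] [Finite G] (hG : ∀ H : Subgroup G, H.index ≠ 2) (S : Sylow 2 G) (hS : IsMulCommutative (S : Subgroup G)) (r : ℕ) (hr1 : 1 ≤ r) (hSr : Cfsg.PRankLE 2 r (S : Subgroup G) ∧ ¬ Cfsg.PRankLE 2 (r - 1) (S : Subgroup G)) (R : Subgroup G) (hRS : R ≤ S) (hRr : Cfsg.PRankLE 2 (r - 1) R ∧ (r = 1 ∨ ¬ Cfsg.PRankLE 2 (r - 2) R)) (t : G) (ht : orderOf t = 2) (htS : t ∈ S) : ∃ n ∈ Subgroup.normalizer ((S : Subgroup G) : Set G), n * t * n⁻¹ ∈ R := by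
  open Subgroup in
  open scoped IsMulCommutative in
  have hN := CfsgLib.Transfer.pResidual_normal (G := G) (p := 2)
  -- `G` has no proper quotient which is a `2`-group
  have htop : Cfsg.pResidual 2 G = ⊤ := by
    obtain ⟨k, hk⟩ := CfsgLib.Transfer.exists_index_pResidual (G := G) (p := 2)
    rcases k with _ | k
    · exact index_eq_one.1 (by simpa using hk)
    exfalso
    have hcard : Nat.card (G ⧸ Cfsg.pResidual 2 G) = 2 ^ (k + 1) := by rw [← index_eq_card, hk]
    obtain ⟨M, hM⟩ := Sylow.exists_subgroup_card_pow_prime 2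
      (G := G ⧸ Cfsg.pResidual 2 G) (n := k) (by rw [hcard]; exact pow_dvd_pow 2 k.le_succ)
    refine hG (M.comap (QuotientGroup.mk' _)) ?_
    rw [index_comap_of_surjective _ (QuotientGroup.mk'_surjective _)]
    have := M.card_mul_index
    rw [hM, hcard, pow_succ] at this
    exact Nat.eq_of_mul_eq_mul_left (pow_pos two_pos k) this
  have hfoc : (S : Subgroup G) ≤ ⁅(S : Subgroup G), normalizer ((S : Subgroup G) : Set G)⁆ := by
    rw [← CfsgLib.Transfer.focalSubgroup_eq_of_isMulCommutative S hS]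
    refine le_trans ?_ (CfsgLib.Transfer.inf_pResidual_le_focalSubgroup S)
    rw [htop, inf_top_eq]
  -- the elements of order at most two of `S`
  have hcomm := CfsgLib.Base.isMulCommutative_subgroup_iff.1 hS
  let Om : Subgroup G :=
    { carrier := {x | x ∈ (S : Subgroup G) ∧ x ^ 2 = 1}
      mul_mem' := fun {a b} ha hb => ⟨mul_mem ha.1 hb.1,
        by rw [Commute.mul_pow (hcomm a ha.1 b hb.1), ha.2, hb.2, one_mul]⟩
      one_mem' := ⟨one_mem _, one_pow _⟩
      inv_mem' := fun {a} ha => ⟨inv_mem ha.1, by rw [inv_pow, ha.2, inv_one]⟩ }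
  have hOmS : Om ≤ S := fun x hx => hx.1
  have hOm : Cfsg.IsElementaryAbelian 2 Om := CfsgLib.Base.isElementaryAbelian_iff.2
    ⟨fun a ha b hb => hcomm a ha.1 b hb.1, fun a ha => ha.2⟩
  have hOmc : Nat.card Om ≤ 2 ^ r := CfsgLib.Base.pRankLE_subgroup_iff.1 hSr.1 _ hOmS hOm
  have hRc : 2 ^ (r - 1) ≤ Nat.card (R ⊓ Om : Subgroup G) := by
    rcases hRr.2 with h1 | h1
    · subst h1; exact Nat.card_pos
    rcases Nat.lt_or_ge r 2 with h2 | h2
    · rw [show r - 1 = 0 by omega, pow_zero]; exact Nat.card_pos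
    rw [CfsgLib.Base.pRankLE_subgroup_iff] at h1
    push Not at h1
    obtain ⟨A, hAR, hA, hAc⟩ := h1
    obtain ⟨n, hn⟩ := CfsgLib.Base.exists_card_eq_pow_of_isElementaryAbelian hA
    have hn1 : r - 1 ≤ n := by
      rw [hn, Nat.pow_lt_pow_iff_right (by norm_num)] at hAc
      omega
    refine le_trans (le_trans (Nat.pow_le_pow_right two_pos hn1) hn.ge) (card_le_of_le ?_)
    exact le_inf hAR fun a ha => ⟨hRS (hAR ha), (CfsgLib.Base.isElementaryAbelian_iff.1 hA).2 a ha⟩
  by_contra hcon
  push Not at hcon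
  have htOm : t ∈ Om := ⟨htS, by rw [← ht]; exact pow_orderOf_eq_one t⟩
  have htR : t ∉ R := by simpa using hcon 1 (one_mem _)
  have hind : (R.subgroupOf Om).index = 2 := by
    have h1 := card_mul_index (R.subgroupOf Om)
    have h2 : (R.subgroupOf Om).index ≠ 1 := fun h =>
      htR (mem_subgroupOf.1 ((index_eq_one.1 h).symm ▸ mem_top (⟨t, htOm⟩ : Om)))
    have h3 : Nat.card (R.subgroupOf Om) = Nat.card (R ⊓ Om : Subgroup G) := by
      rw [← Nat.card_congr (subgroupOfEquivOfLe (inf_le_right : R ⊓ Om ≤ Om)).toEquiv]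
      rw [show (R ⊓ Om).subgroupOf Om = R.subgroupOf Om from inf_subgroupOf_right R Om]
    rw [h3] at h1
    have h0 : (R.subgroupOf Om).index ≠ 0 := index_ne_zero_of_finite
    have hr : 2 ^ r = 2 ^ (r - 1) * 2 := by
      rw [← pow_succ]; congr 1; omega
    have h4 : 2 ^ (r - 1) * (R.subgroupOf Om).index ≤ 2 ^ (r - 1) * 2 := by
      calc _ ≤ Nat.card (R ⊓ Om : Subgroup G) * (R.subgroupOf Om).index :=
            Nat.mul_le_mul_right _ hRc
        _ = Nat.card Om := h1
        _ ≤ _ := hr ▸ hOmc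
    have := Nat.le_of_mul_le_mul_left h4 (pow_pos two_pos _)
    omega
  -- the product over the orbit of `t` under the normalizer
  let N := normalizer ((S : Subgroup G) : Set G)
  have hSN : (S : Subgroup G) ≤ N := le_normalizer
  have hnS : ∀ n ∈ N, ∀ x ∈ (S : Subgroup G), n * x * n⁻¹ ∈ (S : Subgroup G) := fun n hn x hx =>
    (mem_normalizer_iff.1 hn x).1 hx
  let D : Subgroup N := (S : Subgroup G).subgroupOf N
  have : Fintype (N ⧸ D) := Fintype.ofFinite _
  let f0 : N → Om := fun n => ⟨(n : G) * t * (n : G)⁻¹, hnS n n.2 t htS, by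
    rw [conj_pow, htOm.2, mul_one, mul_inv_cancel]⟩
  let f : N ⧸ D → Om := fun q => Quotient.liftOn' q f0 fun a b hab => by
    have hd : ((a⁻¹ * b : N) : G) ∈ (S : Subgroup G) :=
      mem_subgroupOf.1 (QuotientGroup.leftRel_apply.1 hab)
    have hc := hcomm _ hd t htS
    refine Subtype.ext ?_
    show (a : G) * t * (a : G)⁻¹ = (b : G) * t * (b : G)⁻¹
    simp only [Subgroup.coe_mul, InvMemClass.coe_inv] at hc
    calc (a : G) * t * (a : G)⁻¹ = a * (t * ((a : G)⁻¹ * b)) * (b : G)⁻¹ := by group
      _ = _ := by rw [← hc]; group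
  have hOmComm : IsMulCommutative Om := hOm.1
  have hRn : (R.subgroupOf Om).Normal := inferInstance
  let u : Om := ∏ q, f q
  -- `u` is fixed by the normalizer
  have hu : ∀ n : N, (n : G) * (u : G) * (n : G)⁻¹ = u := by
    intro n
    let cn : Om →* Om :=
      { toFun := fun x => ⟨(n : G) * x * (n : G)⁻¹, hnS n n.2 x x.2.1, by
          rw [conj_pow, x.2.2, mul_one, mul_inv_cancel]⟩
        map_one' := by ext; simp
        map_mul' := fun x y => by ext; simp }
    have hcn : cn u = u := by
      show cn (∏ q, f q) = ∏ q, f q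
      rw [map_prod]
      refine Fintype.prod_equiv (MulAction.toPerm n) _ _ fun q => ?_
      induction q using QuotientGroup.induction_on with
      | H a =>
        refine Subtype.ext ?_
        show (n : G) * ((a : G) * t * (a : G)⁻¹) * (n : G)⁻¹
          = ((n * a : N) : G) * t * ((n * a : N) : G)⁻¹
        simp only [Subgroup.coe_mul]
        group
    exact congrArg Subtype.val hcn
  -- hence trivial
  have hu1 : (u : G) = 1 := by
    have hcoS : Nat.Coprime (Nat.card D) D.index := by
      have h1 : Nat.card D = Nat.card S := Nat.card_congr (subgroupOfEquivOfLe hSN).toEquiv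
      rw [h1, S.card_eq_multiplicity]
      refine Nat.Coprime.pow_left _ ((Nat.prime_two.coprime_iff_not_dvd).2 fun h => ?_)
      exact S.not_dvd_index (h.trans (relIndex_dvd_index_of_le hSN))
    have hbot := CfsgLib.Transfer.inf_commutator_inf_center_eq_bot D
      (CfsgLib.Base.isMulCommutative_subgroup_iff.2 fun a ha b hb =>
        Subtype.ext (hcomm a ha b hb)) hcoS
    have hmem : (⟨u, hSN u.2.1⟩ : N) ∈ D ⊓ commutator N ⊓ center N := by
      refine ⟨⟨u.2.1, ?_⟩, mem_center_iff.2 fun n => Subtype.ext ?_⟩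
      · have h1 : (u : G) ∈ ⁅(S : Subgroup G), N⁆ := hfoc u.2.1
        have h2 : ⁅(S : Subgroup G), N⁆ ≤ (commutator N).map N.subtype := by
          rw [commutator_def, map_commutator, ← MonoidHom.range_eq_map, range_subtype]
          exact commutator_mono hSN le_rfl
        obtain ⟨y, hy, hy'⟩ := h2 h1
        rwa [show (⟨u, hSN u.2.1⟩ : N) = y from Subtype.ext hy'.symm]
      · show (n : G) * u = u * n
        calc (n : G) * u = (n : G) * u * (n : G)⁻¹ * n := by group
          _ = _ := by rw [hu n]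
    rw [hbot, mem_bot] at hmem
    exact congrArg Subtype.val hmem
  -- but it lies outside `R`
  have hodd : Odd (Fintype.card (N ⧸ D)) := by
    rw [← Nat.card_eq_fintype_card, Nat.odd_iff, ← Nat.two_dvd_ne_zero]
    exact fun h => S.not_dvd_index ((index_eq_card D ▸ h).trans
      (relIndex_dvd_index_of_le hSN))
  have hsq : ∀ x : Om ⧸ R.subgroupOf Om, x ^ 2 = 1 := fun x => by
    rw [← hind, index_eq_card]; exact pow_card_eq_one'
  have hcls : ∀ q, QuotientGroup.mk' (R.subgroupOf Om) (f q)
      = QuotientGroup.mk' (R.subgroupOf Om) ⟨t, htOm⟩ := by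
    intro q
    induction q using QuotientGroup.induction_on with
    | H a =>
      have hnot : f0 a ∉ R.subgroupOf Om := hcon a a.2
      show QuotientGroup.mk' _ (f0 a) = _
      rw [QuotientGroup.mk'_apply, QuotientGroup.mk'_apply, QuotientGroup.eq]
      refine ((mul_mem_iff_of_index_two hind).2 ?_)
      simp only [inv_mem_iff, hnot, mem_subgroupOf, htR]
  have hfin : QuotientGroup.mk' (R.subgroupOf Om) u = 1 := by
    rw [show u = 1 from Subtype.ext hu1, map_one]
  rw [map_prod, Finset.prod_congr rfl fun q _ => hcls q, Finset.prod_const, Finset.card_univ] at hfin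
  obtain ⟨j, hj⟩ := hodd
  rw [hj, pow_succ, pow_mul, hsq, one_pow, one_mul, QuotientGroup.mk'_apply,
    QuotientGroup.eq_one_iff] at hfin
  exact htR hfin

end Cfsg.Agent.S1244
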