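import Cfsg.Statements.S1249
import Cfsg.Agent.Lib.Involutions.Isolated

set_option autoImplicit false
open Cfsg

namespace Cfsg.Agent.S1249

/-- Let P and Q be Sylow p-subgroups of the finite group G both containing the subgroup A. If A is strongly closed in P, then A is strongly closed in Q. -/
theorem result {G : Type*} [Group G] [Finite G] {p : ℕ} [Fact p.Prime] (P Q : Sylow p G) (A : Subgroup G) (hAQ : A ≤ Q) (hA : Cfsg.IsStronglyClosed A (P : Subgroup G)) : Cfsg.IsStronglyClosed A (Q : Subgroup G) := by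
  open CfsgLib.Involutions in
  obtain ⟨h, hh⟩ := MulAction.exists_smul_eq G Q P
  have hmem : ∀ y : G, y ∈ Q → h * y * h⁻¹ ∈ P := by
    intro y hy
    rw [← hh]
    refine mem_smul_sylow_iff'.2 ?_
    convert hy using 1
    group
  have hA1 : ∀ a ∈ A, h * a * h⁻¹ ∈ A := fun a ha => hA.2 a ha h (hmem a (hAQ ha))
  refine ⟨hAQ, fun x hx g hg => ?_⟩
  have := hmem _ hg
  rw [show h * (g * x * g⁻¹) * h⁻¹ = (h * g) * x * (h * g)⁻¹ by group] at this
  have h2 := hA.2 x hx (h * g) this
  have hn : h ∈ Subgroup.normalizer (A : Set G) := by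
    rw [Subgroup.mem_normalizer_iff_map_conj_eq]
    refine Subgroup.eq_of_le_of_card_ge ?_ (le_of_eq ?_)
    · rintro _ ⟨a, ha, rfl⟩; exact hA1 a ha
    · exact (Nat.card_congr (Subgroup.equivMapOfInjective A _ (MulAut.conj h).injective).toEquiv)
  rw [Subgroup.mem_normalizer_iff] at hn
  rw [hn]
  convert h2 using 1
  group

end Cfsg.Agent.S1249
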