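import Cfsg.Statements.S1250
import Cfsg.Agent.Lib.Involutions.Isolated
import Cfsg.Agent.Lib.Transfer.Fusion

set_option autoImplicit false
open Cfsg

namespace Cfsg.Agent.S1250

/-- Let S be a Sylow p-subgroup of the finite group G, A ≤ S strongly closed in S, and N a normal subgroup. Then the image of A in G ⧸ N is strongly closed in the image of S (which is a Sylow p-subgroup of G ⧸ N). -/
theorem result {G : Type*} [Group G] [Finite G] {p : ℕ} [Fact p.Prime] (S : Sylow p G) (A : Subgroup G) (hA : Cfsg.IsStronglyClosed A (S : Subgroup G)) (N : Subgroup G) [N.Normal] : Cfsg.IsStronglyClosed (A.map (QuotientGroup.mk' N)) ((S : Subgroup G).map (QuotientGroup.mk' N)) := by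
  refine ⟨Subgroup.map_mono hA.1, ?_⟩
  rintro _ ⟨x, hx, rfl⟩ q hq
  obtain ⟨g, rfl⟩ := QuotientGroup.mk'_surjective N q
  rw [← map_inv, ← map_mul, ← map_mul] at hq ⊢
  have hq2 : g * x * g⁻¹ ∈ (S : Subgroup G) ⊔ N := by
    have : g * x * g⁻¹ ∈ Subgroup.comap (QuotientGroup.mk' N) ((S : Subgroup G).map (QuotientGroup.mk' N)) := hq
    rwa [Subgroup.comap_map_eq, QuotientGroup.ker_mk'] at this
  have hV : IsPGroup p (Subgroup.zpowers (g * x * g⁻¹)) :=
    ((S.isPGroup'.to_le hA.1).to_le (Subgroup.zpowers_le.2 hx)).map (MulAut.conj g).toMonoidHom |>.to_le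
      (by rw [MonoidHom.map_zpowers]; exact le_of_eq rfl)
  obtain ⟨k, hk, hkv⟩ := CfsgLib.Transfer.exists_conj_le_of_isPGroup S.isPGroup' le_sup_left
    (fun h => S.not_dvd_index (h.trans (Subgroup.relIndex_dvd_index_of_le le_sup_left)))
    hV (Subgroup.zpowers_le.2 hq2)
  have h1 := hkv _ (Subgroup.mem_zpowers _)
  obtain ⟨s, hs, n, hn, rfl⟩ := Subgroup.mem_sup_of_normal_right.1 hk
  have h2 : s * ((s * n)⁻¹ * (g * x * g⁻¹) * (s * n)) * s⁻¹ ∈ (S : Subgroup G) :=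
    mul_mem (mul_mem hs h1) (inv_mem hs)
  rw [show s * ((s * n)⁻¹ * (g * x * g⁻¹) * (s * n)) * s⁻¹
    = ((s * n⁻¹ * s⁻¹) * g) * x * ((s * n⁻¹ * s⁻¹) * g)⁻¹ by group] at h2
  refine ⟨_, hA.2 x hx _ h2, ?_⟩
  have hn1 : QuotientGroup.mk' N (s * n⁻¹ * s⁻¹) = 1 :=
    (QuotientGroup.eq_one_iff _).2 (Subgroup.Normal.conj_mem inferInstance _ (N.inv_mem hn) s)
  generalize s * n⁻¹ * s⁻¹ = a at hn1 ⊢
  simp only [map_mul, map_inv, hn1, one_mul]

end Cfsg.Agent.S1250
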