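import Cfsg.Statements.S1254
import Cfsg.Agent.Lib.Involutions.DihedralClasses

set_option autoImplicit false
open Cfsg

namespace Cfsg.Agent.S1254

/-- Let X be a finite group whose Sylow 2-subgroup S is dihedral (of order at least 4). Then X has a normal 2-complement if and only if, for every Klein four-subgroup U ≤ S, the normalizer N_X(U) is generated by C_X(U) and N_S(U). -/
theorem result {X : Type*} [Group X] [Finite X] (S : Sylow 2 X) (m : ℕ) (hm : 2 ≤ m) (eS : (S : Subgroup X) ≃* DihedralGroup m) : Cfsg.HasNormalPComplement 2 X ↔ ∀ U : Subgroup X, U ≤ S → IsKleinFour U → Subgroup.normalizer (U : Set X) = Subgroup.centralizer (U : Set X) ⊔ ((S : Subgroup X) ⊓ Subgroup.normalizer (U : Set X)) := by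
  obtain ⟨d⟩ := CfsgLib.Involutions.nonempty_dp S.isPGroup' hm eS
  constructor
  · rintro ⟨P, K, hK, hKP⟩ U hUS hU
    have hKodd : Nat.Coprime 2 (Nat.card K) := by
      rw [Nat.prime_two.coprime_iff_not_dvd, ← hKP.index_eq_card]
      exact P.not_dvd_index
    have hKS : (S : Subgroup X) ⊓ K = ⊥ :=
      CfsgLib.Base.inf_eq_bot_of_isPGroup_of_coprime S.isPGroup' hKodd.symm
    have htop : K ⊔ (S : Subgroup X) = ⊤ := by
      refine Subgroup.index_eq_one.1 (Nat.dvd_one.1 ?_)
      have h1 : (K ⊔ (S : Subgroup X)).index ∣ K.index := Subgroup.index_dvd_of_le le_sup_left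
      have h2 : (K ⊔ (S : Subgroup X)).index ∣ (S : Subgroup X).index :=
        Subgroup.index_dvd_of_le le_sup_right
      rw [hKP.symm.index_eq_card, P.card_eq_multiplicity] at h1
      have h3 := Nat.Coprime.pow_left ((Nat.card X).factorization 2)
        ((Nat.prime_two.coprime_iff_not_dvd).2 S.not_dvd_index)
      exact h3 ▸ Nat.dvd_gcd h1 h2
    refine le_antisymm (fun y hy => ?_) (sup_le (Subgroup.centralizer_le_normalizer _) inf_le_right)
    obtain ⟨k, hk, s, hs, rfl⟩ := Subgroup.mem_sup_of_normal_left.1 (htop.symm ▸ Subgroup.mem_top y :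
      y ∈ K ⊔ (S : Subgroup X))
    have key : ∀ a ∈ U, k * (s * a * s⁻¹) * k⁻¹ = s * a * s⁻¹ := by
      intro a ha
      have h1 : k * (s * a * s⁻¹) * k⁻¹ * (s * a * s⁻¹)⁻¹ ∈ (S : Subgroup X) ⊓ K := by
        refine ⟨(S : Subgroup X).mul_mem ?_ ((S : Subgroup X).inv_mem ((S : Subgroup X).mul_mem ((S : Subgroup X).mul_mem hs (hUS ha)) ((S : Subgroup X).inv_mem hs))), ?_⟩
        · rw [show k * (s * a * s⁻¹) * k⁻¹ = (k * s) * a * (k * s)⁻¹ by group]
          exact hUS ((Subgroup.mem_normalizer_iff.1 hy a).1 ha)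
        · rw [show k * (s * a * s⁻¹) * k⁻¹ * (s * a * s⁻¹)⁻¹
            = k * ((s * a * s⁻¹) * k⁻¹ * (s * a * s⁻¹)⁻¹) by group]
          exact mul_mem hk (hK.conj_mem _ (inv_mem hk) _)
      rw [hKS, Subgroup.mem_bot] at h1
      exact mul_inv_eq_one.1 h1
    have hsN : s ∈ Subgroup.normalizer (U : Set X) := by
      rw [Subgroup.mem_normalizer_iff_map_conj_eq]
      refine Subgroup.eq_of_le_of_card_ge ?_
        (Subgroup.card_map_of_injective (MulAut.conj s).injective).ge
      rintro _ ⟨a, ha, rfl⟩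
      show s * a * s⁻¹ ∈ U
      rw [← key a ha, show k * (s * a * s⁻¹) * k⁻¹ = (k * s) * a * (k * s)⁻¹ by group]
      exact (Subgroup.mem_normalizer_iff.1 hy a).1 ha
    refine mul_mem (Subgroup.mem_sup_left ?_) (Subgroup.mem_sup_right ⟨hs, hsN⟩)
    refine Subgroup.mem_centralizer_iff.2 fun b hb => ?_
    have := key (s⁻¹ * b * s) (by simpa using (Subgroup.mem_normalizer_iff''.1 hsN b).1 hb)
    rw [show s * (s⁻¹ * b * s) * s⁻¹ = b by group] at this
    exact (mul_inv_eq_iff_eq_mul.1 this).symm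
  · intro h
    refine CfsgLib.Involutions.hasNormalPComplement_of_centric S fun D hD y hy hyp a ha => ?_
    have hodd : Odd (orderOf y) := Nat.coprime_two_right.1 hyp
    rcases d.centric_cases hD S.isPGroup' hy hodd with hc | ⟨i, rfl⟩
    · exact hc a ha
    set U := d.TG i
    set N := Subgroup.normalizer (U : Set X)
    set C := Subgroup.centralizer (U : Set X)
    have hN := h U (d.TG_le i) (d.isKleinFour_TG i)
    haveI : (C.subgroupOf N).Normal := by
      rw [← Subgroup.normalizerMonoidHom_ker]; infer_instance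
    set π := QuotientGroup.mk' (C.subgroupOf N)
    set T := (((S : Subgroup X) ⊓ N).comap N.subtype).map π
    have hT : IsPGroup 2 T :=
      ((S.isPGroup'.to_le (inf_le_left : (S : Subgroup X) ⊓ N ≤ _)).comap_subtype (K := N)).map π
    have hle : C ⊔ ((S : Subgroup X) ⊓ N) ≤ (T.comap π).map N.subtype := by
      refine sup_le (fun c hc => ?_) (fun s hs => ?_)
      · refine ⟨⟨c, Subgroup.centralizer_le_normalizer _ hc⟩, ?_, rfl⟩
        show π _ ∈ T
        rw [show π _ = 1 from (QuotientGroup.eq_one_iff (⟨c, _⟩ : N)).2 hc]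
        exact one_mem _
      · exact ⟨⟨s, hs.2⟩, ⟨⟨s, hs.2⟩, hs, rfl⟩, rfl⟩
    obtain ⟨g', hg', e⟩ := hle (hN.le hy)
    have hyT : π ⟨y, hy⟩ ∈ T := by rwa [show (⟨y, hy⟩ : N) = g' from Subtype.ext e.symm]
    obtain ⟨k, hk⟩ := hT ⟨_, hyT⟩
    have hy1 : π ⟨y, hy⟩ = 1 := orderOf_eq_one_iff.1 (Nat.eq_one_of_dvd_coprimes
      (Nat.Coprime.pow_right k (hyp : Nat.Coprime (orderOf y) 2))
      ((orderOf_map_dvd π _).trans (by rw [Subgroup.orderOf_mk]))
      (orderOf_dvd_of_pow_eq_one (congrArg Subtype.val hk)))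
    have hyC : (⟨y, hy⟩ : N) ∈ C.subgroupOf N := (QuotientGroup.eq_one_iff _).1 hy1
    exact (Subgroup.mem_centralizer_iff.1 (Subgroup.mem_subgroupOf.1 hyC) a ha).symm

end Cfsg.Agent.S1254
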