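import Cfsg.Statements.S1255
import Cfsg.Agent.Lib.Involutions.DihedralClasses

set_option autoImplicit false
open Cfsg

namespace Cfsg.Agent.S1255

/-- Let X be a finite group whose Sylow 2-subgroup S is dihedral of order 2m ≥ 4. Then X has no subgroup of index 2 and no isolated involution if and only if either all involutions of X are conjugate, or for every Klein four-subgroup U ≤ S the index |N_X(U) : C_X(U)| equals 3 when |S| = 4 and equals 6 when |S| > 4. -/
theorem result {X : Type*} [Group X] [Finite X] (S : Sylow 2 X) (m : ℕ) (hm : 2 ≤ m) (eS : (S : Subgroup X) ≃* DihedralGroup m) : ((∀ H : Subgroup X, H.index ≠ 2) ∧ (∀ z : X, ¬ Cfsg.IsIsolatedInvolution z)) ↔ ((∀ a b : X, orderOf a = 2 → orderOf b = 2 → IsConj a b) ∨ (∀ U : Subgroup X, U ≤ S → IsKleinFour U → (Subgroup.centralizer (U : Set X)).relIndex (Subgroup.normalizer (U : Set X)) = (if Nat.card S = 4 then 3 else 6))) := by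
  obtain ⟨d⟩ := CfsgLib.Involutions.nonempty_dp S.isPGroup' hm eS
  have hcard : Nat.card S = 4 ↔ d.n = 1 := d.card_eq_four_iff
  constructor
  · rintro ⟨hidx, -⟩
    refine Or.inr fun U hUS hU => ?_
    obtain ⟨i, rfl⟩ := d.klein_eq hUS hU
    rw [d.relIndex_eq fun h => (d.exists_index_two h).elim fun H hH => hidx H hH]
    simp only [hcard]
  · intro h
    have hT : ∀ i, ¬ d.F2 i := by
      intro i
      rcases h with h | h
      · exact fun hF => d.r_not_isConj_z hF (h _ _ (d.orderOf_r i) d.orderOf_z)
      · refine d.not_F2_of_relIndex ?_ (h _ (d.TG_le i) (d.isKleinFour_TG i))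
        split_ifs <;> decide
    exact ⟨d.index_ne_two hT, d.not_isolated fun a b ha hb =>
      (d.isConj_z hT ha).symm.trans (d.isConj_z hT hb)⟩

end Cfsg.Agent.S1255
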