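import Cfsg.Statements.S1256
import Cfsg.Agent.Lib.Involutions.DihedralClasses

set_option autoImplicit false
open Cfsg

namespace Cfsg.Agent.S1256

/-- Let X be a finite group whose Sylow 2-subgroup S is dihedral of order 2m ≥ 4. If |S| = 4, any two Klein four-subgroups of X are conjugate; if |S| > 4, there are Klein four-subgroups U₁, U₂ of X that are not conjugate, and every Klein four-subgroup of X is conjugate to U₁ or to U₂. -/
theorem result {X : Type*} [Group X] [Finite X] (S : Sylow 2 X) (m : ℕ) (hm : 2 ≤ m) (eS : (S : Subgroup X) ≃* DihedralGroup m) : (Nat.card S = 4 → ∀ U V : Subgroup X, IsKleinFour U → IsKleinFour V → (∃ x : X, U.map (MulAut.conj x).toMonoidHom = V)) ∧ (4 < Nat.card S → ∃ U₁ U₂ : Subgroup X, IsKleinFour U₁ ∧ IsKleinFour U₂ ∧ ¬ (∃ x : X, U₁.map (MulAut.conj x).toMonoidHom = U₂) ∧ ∀ V : Subgroup X, IsKleinFour V → (∃ x : X, V.map (MulAut.conj x).toMonoidHom = U₁) ∨ (∃ x : X, V.map (MulAut.conj x).toMonoidHom = U₂)) := by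
  obtain ⟨d⟩ := CfsgLib.Involutions.nonempty_dp S.isPGroup' hm eS
  have hconjS : ∀ U : Subgroup X, IsKleinFour U →
      ∃ x : X, ∃ i : ℤ, U.map (MulAut.conj x).toMonoidHom = d.TG i := by
    intro U hU
    obtain ⟨Q, hQ⟩ := (IsPGroup.of_card (p := 2) (n := 2) (G := U) (by
      rw [IsKleinFour.card_four]; rfl)).exists_le_sylow
    obtain ⟨x, rfl⟩ := MulAction.exists_smul_eq X Q S
    obtain ⟨i, hi⟩ := d.klein_eq (T := U.map (MulAut.conj x).toMonoidHom)
      (Subgroup.map_mono hQ) ⟨by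
        rw [Subgroup.card_map_of_injective (MulAut.conj x).injective]; exact hU.card_four, by
        rw [← hU.exponent_two]
        exact (Monoid.exponent_eq_of_mulEquiv
          (U.equivMapOfInjective _ (MulAut.conj x).injective)).symm⟩
    exact ⟨x, i, hi⟩
  have hmm : ∀ (a b : X) (K : Subgroup X), (K.map (MulAut.conj a).toMonoidHom).map
      (MulAut.conj b).toMonoidHom = K.map (MulAut.conj (b * a)).toMonoidHom := fun a b K => by
    rw [Subgroup.map_map, map_mul]; rfl
  constructor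
  · intro h4 U V hU hV
    obtain ⟨a, i, hi⟩ := hconjS U hU
    obtain ⟨b, j, hj⟩ := hconjS V hV
    refine ⟨b⁻¹ * a, ?_⟩
    rw [← hmm, hi, d.TG_eq_of_one (d.card_eq_four_iff.1 h4) i j, ← hj, hmm, inv_mul_cancel, map_one]
    exact Subgroup.map_id V
  · intro h4
    have hn : d.n ≠ 1 := fun h => by rw [d.card_eq_four_iff.2 h] at h4; omega
    refine ⟨d.TG 0, d.TG 1, d.isKleinFour_TG 0, d.isKleinFour_TG 1,
      fun ⟨x, hx⟩ => d.not_conj_TG hn x hx, fun V hV => ?_⟩
    obtain ⟨a, i, hi⟩ := hconjS V hV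
    rcases Int.even_or_odd i with he | ho
    · obtain ⟨s, -, hs⟩ := d.exists_conj_TG (i := i) (k := 0) (Or.inl (by simpa using he))
      exact Or.inl ⟨s * a, by rw [← hmm, hi, hs]⟩
    · obtain ⟨s, -, hs⟩ := d.exists_conj_TG (i := i) (k := 1) (Or.inl (ho.sub_odd odd_one))
      exact Or.inr ⟨s * a, by rw [← hmm, hi, hs]⟩

end Cfsg.Agent.S1256
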