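import Cfsg.Statements.S1258
import Cfsg.Agent.Lib.Components.Basic
-- import your own Cfsg.Agent.* helpers here

set_option autoImplicit false
open Cfsg
open scoped commutatorElement

namespace Cfsg.Agent.S1258

/-- If the central quotient of a finite group X is non-abelian simple, then X = X' Z(X) and the commutator subgroup X' is quasisimple. -/
theorem result {X : Type*} [Group X] [Finite X] (hs : IsSimpleGroup (X ⧸ Subgroup.center X)) (hna : ¬ IsMulCommutative (X ⧸ Subgroup.center X)) : commutator X ⊔ Subgroup.center X = ⊤ ∧ Cfsg.IsQuasisimple ↥(commutator X) := by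
  have hsup : commutator X ⊔ Subgroup.center X = ⊤ := by
    have hs' := hs
    haveI : ((commutator X).map (QuotientGroup.mk' (Subgroup.center X))).Normal :=
      Subgroup.Normal.map inferInstance _ (QuotientGroup.mk'_surjective _)
    rcases Subgroup.Normal.eq_bot_or_eq_top
      (inferInstance : ((commutator X).map (QuotientGroup.mk' (Subgroup.center X))).Normal) with h | h
    · exfalso
      apply hna
      rw [← Subgroup.center_eq_top_iff, eq_top_iff]
      apply Subgroup.commutator_top_left_eq_bot_iff_le_center.mp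
      rw [commutator_def, Subgroup.map_commutator,
        Subgroup.map_top_of_surjective _ (QuotientGroup.mk'_surjective _)] at h
      exact h
    · have := congrArg (Subgroup.comap (QuotientGroup.mk' (Subgroup.center X))) h
      rwa [Subgroup.comap_map_eq, Subgroup.comap_top, QuotientGroup.ker_mk'] at this
  refine ⟨hsup, ?_⟩
  set D := commutator X with hD
  have hZ : ∀ x : X, ∃ d ∈ D, ∃ z ∈ Subgroup.center X, d * z = x := fun x =>
    Subgroup.mem_sup_of_normal_left.mp (show x ∈ D ⊔ Subgroup.center X by rw [hsup]; exact Subgroup.mem_top x)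
  have hperf : ⁅D, D⁆ = D := by
    refine le_antisymm (Subgroup.commutator_le.mpr fun a ha b hb =>
      D.mul_mem (D.mul_mem (D.mul_mem ha hb) (D.inv_mem ha)) (D.inv_mem hb)) ?_
    conv_lhs => rw [hD, commutator_def]
    refine Subgroup.commutator_le.mpr fun a _ b _ => ?_
    obtain ⟨a', ha', za, hza, rfl⟩ := hZ a
    obtain ⟨b', hb', zb, hzb, rfl⟩ := hZ b
    have e : ⁅a' * za, b' * zb⁆ = ⁅a', b'⁆ := by
      have h1 : ∀ g, g * za = za * g := Subgroup.mem_center_iff.mp hza
      have h2 : ∀ g, g * zb = zb * g := Subgroup.mem_center_iff.mp hzb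
      have h3 : ∀ g : X, za * g * za⁻¹ = g := fun g => by rw [← h1]; group
      have h4 : ∀ g : X, zb * g * zb⁻¹ = g := fun g => by rw [← h2]; group
      calc ⁅a' * za, b' * zb⁆ = a' * (za * (b' * zb) * za⁻¹) * a'⁻¹ * zb⁻¹ * b'⁻¹ := by group
        _ = a' * b' * (zb * a'⁻¹ * zb⁻¹) * b'⁻¹ := by rw [h3]; group
        _ = ⁅a', b'⁆ := by rw [h4, commutatorElement_def]
    rw [e]
    exact Subgroup.commutator_mem_commutator ha' hb'
  have hcen : Subgroup.center ↥D = (Subgroup.center X).subgroupOf D := by
    ext ⟨d, hd⟩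
    refine ⟨fun h => ?_, fun h => Subgroup.mem_center_iff.mpr fun g =>
      Subtype.ext (Subgroup.mem_center_iff.mp h g)⟩
    refine Subgroup.mem_center_iff.mpr fun x => ?_
    obtain ⟨d', hd', z, hz, rfl⟩ := hZ x
    have hc : d' * d = d * d' := congrArg Subtype.val (Subgroup.mem_center_iff.mp h ⟨d', hd'⟩)
    show d' * z * d = d * (d' * z)
    rw [mul_assoc d' z d, ← Subgroup.mem_center_iff.mp hz d, ← mul_assoc, hc, mul_assoc]
  refine ⟨Subgroup.isPerfect_iff.mpr hperf, ?_⟩
  let f : ↥D →* X ⧸ Subgroup.center X := (QuotientGroup.mk' _).comp D.subtype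
  have hf : Function.Surjective f := by
    intro q
    obtain ⟨x, rfl⟩ := QuotientGroup.mk'_surjective _ q
    obtain ⟨d, hd, z, hz, rfl⟩ := hZ x
    refine ⟨⟨d, hd⟩, ?_⟩
    show QuotientGroup.mk' _ d = QuotientGroup.mk' _ (d * z)
    rw [map_mul, (QuotientGroup.eq_one_iff z).mpr hz |> fun h => (show QuotientGroup.mk' (Subgroup.center X) z = 1 from h), mul_one]
  have hker : f.ker = Subgroup.center ↥D := by
    rw [hcen, ← MonoidHom.comap_ker, QuotientGroup.ker_mk']
    rfl
  exact ((QuotientGroup.quotientMulEquivOfEq hker.symm).trans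
    (QuotientGroup.quotientKerEquivOfSurjective f hf)).isSimpleGroup

end Cfsg.Agent.S1258
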