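import Cfsg.Statements.S1286
import Mathlib
-- import your own Cfsg.Agent.* helpers here

set_option autoImplicit false
open Cfsg

namespace Cfsg.Agent.S1286

/-- There exist a finite group X, an elementary abelian subgroup A of order 4 and a solvable A-signalizer functor θ on X for the prime 2 which is not complete. -/
theorem result : ∃ (X : Type) (_ : Group X) (_ : Finite X) (A : Subgroup X) (θ : X → Subgroup X), Cfsg.IsElementaryAbelian 2 A ∧ Nat.card ↥A = 4 ∧ Cfsg.IsSolvableSignalizerFunctor 2 A θ ∧ ¬ Cfsg.IsCompleteSignalizerFunctor 2 A θ := by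
  classical
  let a : Equiv.Perm (Fin 6) := Equiv.swap 0 3 * Equiv.swap 1 4 * Equiv.swap 2 5
  let b : Equiv.Perm (Fin 6) := Equiv.swap 0 1 * Equiv.swap 3 4
  let x : Equiv.Perm (Fin 6) := Equiv.swap 0 1 * Equiv.swap 1 2 * (Equiv.swap 3 4 * Equiv.swap 4 5)
  let y : Equiv.Perm (Fin 6) := Equiv.swap 0 1 * Equiv.swap 1 5 * (Equiv.swap 4 3 * Equiv.swap 3 2)
  let A : Subgroup (Equiv.Perm (Fin 6)) :=
    { carrier := {z | z ∈ [1, a, b, a * b]}
      one_mem' := by show (1 : Equiv.Perm (Fin 6)) ∈ [1, a, b, a * b]; simp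
      mul_mem' := fun {u v} hu hv => by
        have h : ∀ u ∈ [1, a, b, a * b], ∀ v ∈ [1, a, b, a * b], u * v ∈ [1, a, b, a * b] := by
          decide +kernel
        exact h u hu v hv
      inv_mem' := fun {u} hu => by
        have h : ∀ u ∈ [1, a, b, a * b], u⁻¹ ∈ [1, a, b, a * b] := by decide +kernel
        exact h u hu }
  let θ : Equiv.Perm (Fin 6) → Subgroup (Equiv.Perm (Fin 6)) := fun z =>
    if z = a then Subgroup.zpowers x else if z = a * b then Subgroup.zpowers y else ⊥
  have hA : ∀ z, z ∈ A ↔ z ∈ [1, a, b, a * b] := fun z => Iff.rfl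
  have hco : ∀ u ∈ [1, a, b, a * b], ∀ v ∈ [1, a, b, a * b], u * v = v * u := by decide +kernel
  have hab : a * b ≠ a := by decide +kernel
  have hxo : orderOf x = 3 := orderOf_eq_prime (by decide +kernel) (by decide +kernel)
  have hyo : orderOf y = 3 := orderOf_eq_prime (by decide +kernel) (by decide +kernel)
  have hxm : ∀ w, w ∈ Subgroup.zpowers x → w ∈ [1, x, x ^ 2] := by
    intro w hw
    obtain ⟨n, hn⟩ := (isOfFinOrder_of_finite x).mem_powers_iff_mem_zpowers.mpr hw
    rw [← hn]
    show x ^ n ∈ [1, x, x ^ 2]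
    rw [show x ^ n = x ^ (n % 3) by rw [← hxo, pow_mod_orderOf]]
    have := Nat.mod_lt n (show 0 < 3 by norm_num)
    interval_cases n % 3 <;> simp
  have hym : ∀ w, w ∈ Subgroup.zpowers y → w ∈ [1, y, y ^ 2] := by
    intro w hw
    obtain ⟨n, hn⟩ := (isOfFinOrder_of_finite y).mem_powers_iff_mem_zpowers.mpr hw
    rw [← hn]
    show y ^ n ∈ [1, y, y ^ 2]
    rw [show y ^ n = y ^ (n % 3) by rw [← hyo, pow_mod_orderOf]]
    have := Nat.mod_lt n (show 0 < 3 by norm_num)
    interval_cases n % 3 <;> simp
  have hfun : Cfsg.IsSolvableSignalizerFunctor 2 A θ := by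
    refine ⟨⟨?_, ?_, ?_, ?_⟩, ?_⟩
    · intro u hu hu1
      show (if u = a then Subgroup.zpowers x else if u = a * b then Subgroup.zpowers y else ⊥) ≤ _
      split_ifs with h1 h2
      · subst h1
        rw [Subgroup.zpowers_le, Subgroup.mem_centralizer_singleton_iff]; decide +kernel
      · subst h2
        rw [Subgroup.zpowers_le, Subgroup.mem_centralizer_singleton_iff]; decide +kernel
      · exact bot_le
    · intro u hu hu1
      show ¬ 2 ∣ Nat.card (if u = a then Subgroup.zpowers x else if u = a * b then Subgroup.zpowers y else ⊥ : Subgroup _)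
      split_ifs
      · rw [Nat.card_zpowers, hxo]; decide
      · rw [Nat.card_zpowers, hyo]; decide
      · rw [Subgroup.card_bot]; decide
    · intro u hu hu1 v hv w hw
      revert hw
      show w ∈ (if u = a then Subgroup.zpowers x else if u = a * b then Subgroup.zpowers y else ⊥) →
        v * w * v⁻¹ ∈ (if u = a then Subgroup.zpowers x else if u = a * b then Subgroup.zpowers y else ⊥)
      split_ifs with h1 h2
      · intro hw
        obtain ⟨n, rfl⟩ := Subgroup.mem_zpowers_iff.mp hw
        rw [← conj_zpow]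
        refine Subgroup.zpow_mem _ ?_ _
        have h : ∀ v ∈ [1, a, b, a * b], v * x * v⁻¹ = x ∨ v * x * v⁻¹ = x⁻¹ := by decide +kernel
        rcases h v hv with h | h <;> simp [h]
      · intro hw
        obtain ⟨n, rfl⟩ := Subgroup.mem_zpowers_iff.mp hw
        rw [← conj_zpow]
        refine Subgroup.zpow_mem _ ?_ _
        have h : ∀ v ∈ [1, a, b, a * b], v * y * v⁻¹ = y ∨ v * y * v⁻¹ = y⁻¹ := by decide +kernel
        rcases h v hv with h | h <;> simp [h]
      · intro hw
        rw [Subgroup.mem_bot] at hw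
        simp [hw]
    · intro u hu hu1 v hv hv1 w hw
      by_cases huv : u = v
      · exact huv ▸ hw.1
      have h1 : w = 1 := by
        have hw2 : w * v = v * w := Subgroup.mem_centralizer_singleton_iff.mp hw.2
        have hw1 := hw.1
        change w ∈ (if u = a then Subgroup.zpowers x else if u = a * b then Subgroup.zpowers y else ⊥) at hw1
        split_ifs at hw1 with h1 h2
        · subst h1
          have h : ∀ v ∈ [1, a, b, a * b], v ≠ 1 → v ≠ a → ∀ w ∈ [1, x, x ^ 2], w * v = v * w → w = 1 := by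
            decide +kernel
          exact h v hv hv1 (Ne.symm huv) w (hxm w hw1) hw2
        · subst h2
          have h : ∀ v ∈ [1, a, b, a * b], v ≠ 1 → v ≠ a * b → ∀ w ∈ [1, y, y ^ 2], w * v = v * w → w = 1 := by
            decide +kernel
          exact h v hv hv1 (Ne.symm huv) w (hym w hw1) hw2
        · exact Subgroup.mem_bot.mp hw1
      rw [h1]
      exact one_mem _
    · intro u hu hu1
      have h : θ u = Subgroup.zpowers x ∨ θ u = Subgroup.zpowers y ∨ θ u = ⊥ := by
        simp only [θ]; split_ifs <;> simp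
      rcases h with h | h | h <;> rw [h] <;> infer_instance
  refine ⟨Equiv.Perm (Fin 6), inferInstance, inferInstance, A, θ, ⟨⟨⟨fun u v => Subtype.ext (hco u u.2 v v.2)⟩⟩, ?_⟩, ?_, hfun, ?_⟩
  · intro u hu
    have h : ∀ u ∈ [1, a, b, a * b], u ^ 2 = 1 := by decide +kernel
    exact h u hu
  · rw [show (4 : ℕ) = [1, a, b, a * b].toFinset.card from by decide +kernel, ← Nat.card_eq_finsetCard]
    exact Nat.card_congr (Equiv.subtypeEquivRight fun z => by rw [List.mem_toFinset]; exact hA z)
  · rintro ⟨-, X, -, hX2, hXc⟩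
    have hax : x ∈ X := by
      have := (hXc a ((hA a).mpr (by simp)) (by decide +kernel)).ge
      simp only [θ, if_pos] at this
      exact (this (Subgroup.mem_zpowers x)).1
    have hay : y ∈ X := by
      have := (hXc (a * b) ((hA (a * b)).mpr (by simp)) (by decide +kernel)).ge
      simp only [θ, if_neg hab, if_pos] at this
      exact (this (Subgroup.mem_zpowers y)).1
    have hw : x * y * (x * y⁻¹) ∈ X := mul_mem (mul_mem hax hay) (mul_mem hax (inv_mem hay))
    have ho : orderOf (x * y * (x * y⁻¹)) = 2 :=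
      orderOf_eq_prime (by decide +kernel) (by decide +kernel)
    exact hX2 (ho ▸ Subgroup.orderOf_dvd_natCard X hw)

end Cfsg.Agent.S1286
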