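import Cfsg.Statements.S1295
import Cfsg.Agent.Lib.FgsB.RankThree.Connected
import Cfsg.Agent.Lib.Components.PConstrained
import Cfsg.Agent.Lib.Components.LocalBalanceCenter

open CfsgLib.Base CfsgLib.Components

set_option autoImplicit false
open Cfsg

namespace Cfsg.Agent.S1295

/-- Let G be finite with O_{p'}(G) = 1 and p-rank at least 3, whose reduced rank-2 commuting graph for p is connected. Suppose that for every element a of order p with m_p(C_G(a)) ≥ 3 the p-layer of C_G(a) is trivial and O_{p'}(C_G(a)) is solvable. Then F*(C_G(a)) = O_p(C_G(a)) for every such a. -/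
theorem result {G : Type*} [Group G] [Finite G] (p : ℕ) [Fact p.Prime] (hO : Cfsg.pPrimeCore p G = ⊥) (hrk : ¬ Cfsg.PRankLE p 2 G) (hconn : Cfsg.IsRankGraphConnected p 2 G) (hL : ∀ a : G, (orderOf a = p ∧ ¬ Cfsg.PRankLE p 2 ↥(Subgroup.centralizer ({a} : Set G))) → Cfsg.pLayer p ↥(Subgroup.centralizer ({a} : Set G)) = ⊥ ∧ Group.IsSolvable ↥(Cfsg.centralizerPPrimeCore p a)) (a : G) (ha : (orderOf a = p ∧ ¬ Cfsg.PRankLE p 2 ↥(Subgroup.centralizer ({a} : Set G)))) : Cfsg.generalizedFittingSubgroup ↥(Subgroup.centralizer ({a} : Set G)) = Cfsg.pCore p ↥(Subgroup.centralizer ({a} : Set G)) := by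
  set C := Subgroup.centralizer ({a} : Set G) with hC
  have hcore : Cfsg.centralizerPPrimeCore p a = ⊥ := by
    refine CfsgLib.FgsB.RankThree.eq_bot_of_connected hO hconn (Cfsg.centralizerPPrimeCore p)
      (fun x hx => ⟨Subgroup.map_subtype_le _, ?_, (hL x hx).2⟩) ?_ ?_ ha
    · exact (Fact.out : p.Prime).coprime_iff_not_dvd.1 (CfsgLib.Base.coprime_card_map_pPrimeCore _).symm
    · intro x g _
      refine le_antisymm ?_ (CfsgLib.Components.map_centralizerPPrimeCore_le (MulAut.conj g) x)
      have h := CfsgLib.Components.map_centralizerPPrimeCore_le (p := p) (MulAut.conj g).symm (g * x * g⁻¹)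
      rw [show (MulAut.conj g).symm (g * x * g⁻¹) = x by simp [mul_assoc]] at h
      intro y hy
      exact ⟨(MulAut.conj g).symm y, h ⟨y, hy, rfl⟩, (MulAut.conj g).apply_symm_apply y⟩
    · intro x b hx hb hxb
      set X := Subgroup.centralizer ({b} : Set G) with hX
      have hxX : Subgroup.zpowers x ≤ X :=
        Subgroup.zpowers_le.2 (Subgroup.mem_centralizer_singleton_iff.2 hxb)
      set P := (Subgroup.zpowers x).subgroupOf X with hPdef
      have hP : IsPGroup p P := by
        refine IsPGroup.of_card (n := 1) ?_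
        rw [CfsgLib.Base.card_subgroupOf hxX, Nat.card_zpowers, hx.1, pow_one]
      set U := Cfsg.centralizerPPrimeCore p x ⊓ X with hU
      have hN : Subgroup.normalizer (P : Set X) = (Subgroup.normalizer (Subgroup.zpowers x : Set G)).subgroupOf X :=
        CfsgLib.Involutions.subgroupOf_normalizer_eq hxX
      have hUC : U ≤ Subgroup.centralizer ({x} : Set G) := inf_le_left.trans (Subgroup.map_subtype_le _)
      have hUN : U.subgroupOf X ≤ Subgroup.normalizer (P : Set X) := by
        rw [hN]
        exact Subgroup.comap_mono (hUC.trans ((CfsgLib.Signalizer.centralizer_singleton_eq x).ge.trans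
          (Subgroup.centralizer_le_normalizer _)))
      have hnorm : Subgroup.normalizer (P : Set X) ≤ Subgroup.normalizer (U.subgroupOf X : Set X) := by
        rw [hN, CfsgLib.Involutions.subgroupOf_normalizer_eq (inf_le_right : U ≤ X)]
        intro y hy
        have h1 : Subgroup.normalizer (Subgroup.zpowers x : Set G) ≤
            Subgroup.normalizer (Cfsg.centralizerPPrimeCore p x : Set G) := by
          refine le_trans ?_ (normalizer_le_normalizer_map_subtype (Subgroup.centralizer ({x} : Set G)) _)
          rw [← CfsgLib.Signalizer.centralizer_singleton_eq]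
          exact CfsgLib.Coprime.le_normalizer_centralizer le_rfl
        exact Subgroup.inf_normalizer_le_normalizer_inf
          (Subgroup.mem_inf.2 ⟨h1 hy, Subgroup.le_normalizer y.2⟩)
      have hcop : (Nat.card (U.subgroupOf X)).Coprime p := by
        rw [CfsgLib.Base.card_subgroupOf (inf_le_right : U ≤ X)]
        exact (CfsgLib.Base.coprime_card_map_pPrimeCore _).coprime_dvd_left
          (Subgroup.card_dvd_of_le inf_le_left)
      have h2 := (CfsgLib.Base.le_map_pPrimeCore hUN hnorm hcop).trans
        (CfsgLib.Components.map_pPrimeCore_normalizer_le (hL b hb).1 hP)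
      intro y hy
      exact ⟨⟨y, hy.2⟩, h2 (show (⟨y, hy.2⟩ : X) ∈ U.subgroupOf X from hy), rfl⟩
  have hcoreC : Cfsg.pPrimeCore p C = ⊥ :=
    (Subgroup.map_eq_bot_iff_of_injective _ C.subtype_injective).1 hcore
  refine CfsgLib.Components.fstar_eq_pCore_iff_layer.2 ⟨?_, hcoreC⟩
  have hq := CfsgLib.Components.pLayer_eq_bot_iff.1 (hL a ha).1
  have he := CfsgLib.Components.layer_map_equiv
    ((QuotientGroup.quotientMulEquivOfEq hcoreC).trans QuotientGroup.quotientBot)
  rw [← he, hq, Subgroup.map_bot]

end Cfsg.Agent.S1295
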