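import Cfsg.Statements.S1297
import Mathlib
import Cfsg.Agent.Lib.Components.LocalBalanceCenter

set_option autoImplicit false
open Cfsg
open scoped Pointwise commutatorElement

namespace Cfsg.Agent.S1297

/-- Let G be finite. Suppose that for every involution x, writing C = C_G(x), every component K of C / O(C) has K / Z(K) locally balanced. Then G is balanced. -/
theorem result {G : Type*} [Group G] [Finite G] (h : ∀ x : G, orderOf x = 2 → ∀ K : Subgroup (↥(Subgroup.centralizer ({x} : Set G)) ⧸ Cfsg.oddCore ↥(Subgroup.centralizer ({x} : Set G))), Cfsg.IsComponent K → Cfsg.IsLocallyBalanced (↥K ⧸ Subgroup.center ↥K)) : Cfsg.IsBalanced G := by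
  haveI : Fact (Nat.Prime 2) := ⟨Nat.prime_two⟩
  have hle : ∀ x y : G, orderOf x = 2 → orderOf y = 2 → x * y = y * x →
      Cfsg.centralizerPPrimeCore 2 x ⊓ Subgroup.centralizer {y} ≤
        Cfsg.centralizerPPrimeCore 2 y ⊓ Subgroup.centralizer {x} := by
    intro x y hx hy hxy
    have hx1 : x ≠ 1 := fun e => by rw [e, orderOf_one] at hx; omega
    have hy1 : y ≠ 1 := fun e => by rw [e, orderOf_one] at hy; omega
    have hA : Cfsg.IsElementaryAbelian 2 (Subgroup.zpowers x) :=
      CfsgLib.Base.isElementaryAbelian_zpowers (hx ▸ pow_orderOf_eq_one x)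
    have hAB : Cfsg.IsElementaryAbelian 2 (Subgroup.zpowers x ⊔ Subgroup.zpowers y) :=
      CfsgLib.Base.isElementaryAbelian_sup hA
        (CfsgLib.Base.isElementaryAbelian_zpowers (hy ▸ pow_orderOf_eq_one y)) fun a ha =>
        Subgroup.mem_centralizer_iff.2 fun c hc => by
          obtain ⟨i, rfl⟩ := Subgroup.mem_zpowers_iff.1 ha
          obtain ⟨j, rfl⟩ := Subgroup.mem_zpowers_iff.1 hc
          exact (((show Commute x y from hxy).zpow_right j).zpow_left i).eq.symm
    have hbal := CfsgLib.Components.isKBalanced_of_local (p := 2) (k := 1) le_rfl hAB (fun a ha ha1 K hK => by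
      refine CfsgLib.Components.isLocallyKBalanced_of_center_quotient hK.2.1.commutator_eq_top ?_
      intro H hH A hAe hcard
      have ha2 : orderOf a = 2 := orderOf_eq_prime (hAB.2 a ha) ha1
      rw [pow_one] at hcard
      obtain ⟨z, hzA, hz1⟩ := CfsgLib.Components.exists_mem_ne_one (p := 2) (k := 1) le_rfl (B := A) (by rw [hcard, pow_one])
      refine le_bot_iff.1 ((CfsgLib.Components.signalizerDelta_le hzA hz1).trans ?_)
      exact (h a ha2 K hK H hH z (orderOf_eq_prime (hAe.2 z hzA) hz1)).le)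
      le_sup_left hA (by rw [Nat.card_zpowers, hx, pow_one]) (Subgroup.mem_sup_right (Subgroup.mem_zpowers y)) hy1
    refine le_inf ?_ (inf_le_left.trans (Subgroup.map_subtype_le _))
    refine le_trans ?_ hbal
    refine inf_le_inf_right _ (le_iInf ?_)
    rintro ⟨z, hz, hz1⟩
    have hzx : z = x := by
      have h1 : Subgroup.zpowers z = Subgroup.zpowers x := Subgroup.eq_of_le_of_card_ge (Subgroup.zpowers_le.2 hz)
        (by rw [Nat.card_zpowers, Nat.card_zpowers, hx, orderOf_eq_prime (hA.2 z hz) hz1])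
      obtain ⟨i, rfl⟩ := Subgroup.mem_zpowers_iff.1 hz
      rcases Int.even_or_odd i with ⟨j, rfl⟩ | ⟨j, rfl⟩
      · exfalso
        apply hz1
        rw [← two_mul, zpow_mul, zpow_two, ← sq, ← hx, pow_orderOf_eq_one, one_zpow]
      · rw [zpow_add, zpow_mul, zpow_two, ← sq, ← hx, pow_orderOf_eq_one, one_zpow, one_mul, zpow_one]
    exact le_of_eq (show _ = Cfsg.centralizerPPrimeCore 2 z by rw [hzx])
  exact fun x y hx hy hxy => le_antisymm (hle x y hx hy hxy) (hle y x hy hx hxy.symm)

end Cfsg.Agent.S1297
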