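import Cfsg.Statements.S1298
import Mathlib
import Cfsg.Agent.Lib.Components.LocalBalanceCenter

set_option autoImplicit false
open Cfsg
open scoped Pointwise commutatorElement

namespace Cfsg.Agent.S1298

/-- Let G be finite and k ≥ 1. Suppose that for every x of order p, writing C = C_G(x), every component K of C / O_{p'}(C) has K / Z(K) locally k-balanced for p. Then G is k-balanced for p. -/
theorem result {G : Type*} [Group G] [Finite G] (p k : ℕ) [Fact p.Prime] (hk : 1 ≤ k) (h : ∀ x : G, orderOf x = p → ∀ K : Subgroup (↥(Subgroup.centralizer ({x} : Set G)) ⧸ Cfsg.pPrimeCore p ↥(Subgroup.centralizer ({x} : Set G))), Cfsg.IsComponent K → Cfsg.IsLocallyKBalanced p k (↥K ⧸ Subgroup.center ↥K)) : Cfsg.IsKBalanced p k G := by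
  intro A hA hcard b hb hAb
  have hBe : Cfsg.IsElementaryAbelian p (A ⊔ Subgroup.zpowers b) :=
    CfsgLib.Base.isElementaryAbelian_sup hA
      (CfsgLib.Base.isElementaryAbelian_zpowers (hb ▸ pow_orderOf_eq_one b)) fun a ha =>
      Subgroup.mem_centralizer_iff.2 fun c hc => by
        obtain ⟨i, rfl⟩ := Subgroup.mem_zpowers_iff.1 hc
        exact ((show Commute a b from hAb a ha).zpow_right i).eq.symm
  refine CfsgLib.Components.isKBalanced_of_local hk hBe ?_ le_sup_left hA hcard.ge
    (Subgroup.mem_sup_right (Subgroup.mem_zpowers b)) ?_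
  · intro a ha ha1 K hK
    exact CfsgLib.Components.isLocallyKBalanced_of_center_quotient hK.2.1.commutator_eq_top
      (h a (orderOf_eq_prime (hBe.2 a ha) ha1) K hK)
  · intro h1
    rw [h1, orderOf_one] at hb
    exact (Fact.out : p.Prime).one_lt.ne hb

end Cfsg.Agent.S1298
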