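import Cfsg.Statements.S1299
import Cfsg.Agent.Lib.Involutions.KBalanceFunctor

set_option autoImplicit false
open Cfsg

namespace Cfsg.Agent.S1299

/-- Let G be finite and k-balanced for the prime p (k ≥ 1), A an elementary abelian p-subgroup of order at least p^(k+2) such that O_{p'}(C_G(a)) is solvable for every non-identity a ∈ A. For a ∈ A put θ a = the subgroup generated by the Δ_G(D) ∩ C_G(a) over the subgroups D ≤ A of order p^k. Then θ is an A-signalizer functor. -/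
theorem result {G : Type*} [Group G] [Finite G] (p k : ℕ) [Fact p.Prime] (hk : 1 ≤ k) (hbal : Cfsg.IsKBalanced p k G) (A : Subgroup G) (hA : Cfsg.IsElementaryAbelian p A) (hAk : p ^ (k + 2) ≤ Nat.card ↥A) (hsolv : ∀ a ∈ A, a ≠ 1 → Group.IsSolvable ↥(Cfsg.centralizerPPrimeCore p a)) : Cfsg.IsSignalizerFunctor p A (fun a => ⨆ D : {D : Subgroup G // D ≤ A ∧ Nat.card ↥D = p ^ k}, Cfsg.signalizerDelta p (D : Subgroup G) ⊓ Subgroup.centralizer {a}) := by
  classical
  have hp : p.Prime := Fact.out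
  set θ : G → Subgroup G := fun a => ⨆ D : {D : Subgroup G // D ≤ A ∧ Nat.card ↥D = p ^ k},
    Cfsg.signalizerDelta p (D : Subgroup G) ⊓ Subgroup.centralizer {a} with hθ
  have hexact : ∀ D : Subgroup G, D ≤ A → p ^ k ≤ Nat.card D →
      ∃ D₀ : Subgroup G, D₀ ≤ D ∧ Nat.card D₀ = p ^ k := by
    intro D hD hDk
    obtain ⟨m, hm⟩ := CfsgLib.Signalizer.elemAb_card_eq_pow (CfsgLib.Signalizer.elemAb_of_le hA hD)
    have hkm : k ≤ m := (Nat.pow_le_pow_iff_right hp.one_lt).1 (hm ▸ hDk)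
    obtain ⟨K, hK⟩ := Sylow.exists_subgroup_card_pow_prime p (G := ↥D) (hm ▸ pow_dvd_pow p hkm)
    exact ⟨K.map D.subtype, Subgroup.map_subtype_le K,
      (Subgroup.card_map_of_injective D.subtype_injective).trans hK⟩
  have hbal' : ∀ D : Subgroup G, D ≤ A → p ^ k ≤ Nat.card D → ∀ b ∈ A, b ≠ 1 →
      Cfsg.signalizerDelta p D ⊓ Subgroup.centralizer {b} ≤ Cfsg.centralizerPPrimeCore p b := by
    intro D hD hDk b hb hb1
    obtain ⟨D₀, h0, hc⟩ := hexact D hD hDk
    exact le_trans (inf_le_inf_right _ (CfsgLib.Involutions.KBalanceFunctor.signalizerDelta_anti h0))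
      (hbal D₀ (CfsgLib.Signalizer.elemAb_of_le hA (h0.trans hD)) hc b (orderOf_eq_prime (hA.2 b hb) hb1)
        fun a ha => CfsgLib.Signalizer.elemAb_comm hA (hD (h0 ha)) hb)
  have hcore : ∀ a ∈ A, a ≠ 1 → θ a ≤ Cfsg.centralizerPPrimeCore p a := fun a ha ha1 =>
    iSup_le fun D => hbal' D D.2.1 D.2.2.ge a ha ha1
  have hcent : ∀ a, θ a ≤ Subgroup.centralizer {a} := fun a => iSup_le fun D => inf_le_right
  have hcop : ∀ a ∈ A, a ≠ 1 → ¬ p ∣ Nat.card (θ a) := fun a ha ha1 hdvd =>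
    (hp.coprime_iff_not_dvd.1 ((CfsgLib.Base.coprime_card_map_pPrimeCore
      (Subgroup.centralizer ({a} : Set G))).coprime_dvd_left (Subgroup.card_dvd_of_le (hcore a ha ha1))).symm) hdvd
  have hinvY : ∀ (D : Subgroup G), D ≤ A → ∀ a ∈ A,
      A ≤ Subgroup.normalizer ((Cfsg.signalizerDelta p D ⊓ Subgroup.centralizer {a} : Subgroup G) : Set G) := by
    intro D hD a ha
    refine CfsgLib.Involutions.KBalanceFunctor.le_normalizer_inf'
      (CfsgLib.Involutions.KBalanceFunctor.le_normalizer_delta fun b hb => Subgroup.mem_centralizer_iff.2 fun d hd =>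
        CfsgLib.Signalizer.elemAb_comm hA (hD hd) hb) ?_
    exact le_trans (fun b hb => Subgroup.mem_centralizer_singleton_iff.2 (CfsgLib.Signalizer.elemAb_comm hA hb ha))
      Subgroup.le_normalizer
  have hinv : ∀ a ∈ A, ∀ b ∈ A, ∀ x ∈ θ a, b * x * b⁻¹ ∈ θ a := by
    intro a ha b hb x hx
    have h : θ a ≤ (θ a).comap (MulAut.conj b).toMonoidHom := iSup_le fun D y hy =>
      le_iSup (fun D : {D : Subgroup G // D ≤ A ∧ Nat.card ↥D = p ^ k} =>
        Cfsg.signalizerDelta p (D : Subgroup G) ⊓ Subgroup.centralizer {a}) D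
        (CfsgLib.Involutions.KBalanceFunctor.conj_mem_of_mem_normalizer (hinvY D D.2.1 a ha hb) hy)
    exact h hx
  refine ⟨fun a _ _ => hcent a, hcop, fun a ha _ => hinv a ha, ?_⟩
  intro a ha ha1 b hb hb1
  show θ a ⊓ Subgroup.centralizer {b} ≤ θ b
  have hAθ : A ≤ Subgroup.normalizer (θ a : Set G) := CfsgLib.Signalizer.conj_invariant_iff.1 (hinv a ha)
  have hAne : A ≠ ⊥ := CfsgLib.Signalizer.ne_bot_of_pow_le (by omega) hAk
  have hHk : ∀ H : Subgroup G, H ≤ A → H.relIndex A = p → p ^ k ≤ Nat.card H := by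
    intro H hH hHi
    refine le_trans (Nat.pow_le_pow_right hp.pos (Nat.le_succ k)) ?_
    rw [← CfsgLib.Signalizer.card_mul_relIndex hH, hHi, show k + 2 = k + 1 + 1 by ring, pow_succ] at hAk
    exact Nat.le_of_mul_le_mul_right hAk hp.pos
  refine CfsgLib.Signalizer.le_of_hyperplanes hA hAne
    (CfsgLib.Involutions.KBalanceFunctor.le_normalizer_inf' hAθ (le_trans
      (fun c hc => Subgroup.mem_centralizer_singleton_iff.2 (CfsgLib.Signalizer.elemAb_comm hA hc hb)) Subgroup.le_normalizer))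
    (fun h => hcop a ha ha1 (h.trans (Subgroup.card_dvd_of_le inf_le_left))) fun H hH hHi => ?_
  haveI := hsolv a ha ha1
  have hgen : θ a ≤ ⨆ H : {H : Subgroup G // H ≤ A ∧ H.relIndex A = p},
      θ a ⊓ Cfsg.signalizerDelta p (H : Subgroup G) ⊓ Subgroup.centralizer ((H : Subgroup G) : Set G) := by
    refine iSup_le fun D => CfsgLib.Signalizer.le_of_hyperplanes hA hAne (hinvY D D.2.1 a ha)
      (fun h => hcop a ha ha1 (h.trans (Subgroup.card_dvd_of_le
        (le_iSup (fun D : {D : Subgroup G // D ≤ A ∧ Nat.card ↥D = p ^ k} =>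
          Cfsg.signalizerDelta p (D : Subgroup G) ⊓ Subgroup.centralizer {a}) D)))) fun H hH hHi => ?_
    refine le_iSup_of_le ⟨H, hH, hHi⟩ (le_inf (le_inf (inf_le_left.trans (le_iSup
      (fun D : {D : Subgroup G // D ≤ A ∧ Nat.card ↥D = p ^ k} =>
        Cfsg.signalizerDelta p (D : Subgroup G) ⊓ Subgroup.centralizer {a}) D)) (le_iInf ?_)) inf_le_right)
    rintro ⟨h, hh, hh1⟩
    exact le_trans (inf_le_inf inf_le_left (Subgroup.centralizer_le (Set.singleton_subset_iff.2 hh)))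
      (hbal' D D.2.1 D.2.2.ge h (hH hh) hh1)
  have hgood := CfsgLib.Involutions.KBalanceFunctor.fixed_le_delta hA hAk hbal' hAθ (hcop a ha ha1)
    (Group.isSolvable_of_isSolvable_injective (Subgroup.inclusion_injective (hcore a ha ha1))) hgen hH hHi
  obtain ⟨D₀, h0, hc⟩ := hexact H hH (hHk H hH hHi)
  refine le_trans ?_ (le_iSup (fun D : {D : Subgroup G // D ≤ A ∧ Nat.card ↥D = p ^ k} =>
    Cfsg.signalizerDelta p (D : Subgroup G) ⊓ Subgroup.centralizer {b}) ⟨D₀, h0.trans hH, hc⟩)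
  exact le_inf ((le_inf (inf_le_left.trans inf_le_left) inf_le_right).trans
    (hgood.trans (CfsgLib.Involutions.KBalanceFunctor.signalizerDelta_anti h0))) (inf_le_left.trans inf_le_right)

end Cfsg.Agent.S1299
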