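import Cfsg.Statements.S1300

-- import your own Cfsg.Agent.* helpers here

set_option autoImplicit false
open Cfsg

namespace Cfsg.Agent.S1300

/-- For a finite group G, balance in the sense of commuting involutions is the same as 1-balance for the prime 2. -/
theorem result {G : Type*} [Group G] [Finite G] : Cfsg.IsBalanced G ↔ Cfsg.IsKBalanced 2 1 G := by
  constructor
  · intro h A hA hcard b hb hcomm
    rw [pow_one] at hcard
    obtain ⟨a, ha⟩ := exists_prime_orderOf_dvd_card' (G := ↥A) 2 (by rw [hcard])
    rw [← Subgroup.orderOf_coe] at ha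
    have hab : (a : G) * b = b * (a : G) := hcomm a a.2
    have ha1 : (a : G) ≠ 1 := fun h1 => by rw [h1, orderOf_one] at ha; omega
    refine le_trans (inf_le_inf_right _
      (iInf_le (fun c : {c : G // c ∈ A ∧ c ≠ 1} => Cfsg.centralizerPPrimeCore 2 (c : G))
        ⟨(a : G), a.2, ha1⟩)) ?_
    rw [h (a : G) b ha hb hab]
    exact inf_le_left
  · intro h x y hx hy hxy
    have key : ∀ x y : G, orderOf x = 2 → orderOf y = 2 → x * y = y * x →
        Cfsg.centralizerPPrimeCore 2 x ⊓ Subgroup.centralizer {y} ≤
          Cfsg.centralizerPPrimeCore 2 y ⊓ Subgroup.centralizer {x} := by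
      intro x y hx hy hxy
      refine le_inf ?_ (inf_le_left.trans (Subgroup.map_subtype_le _))
      have hxp : x ^ 2 = 1 := hx ▸ pow_orderOf_eq_one x
      have hmem : ∀ z ∈ Subgroup.zpowers x, z = 1 ∨ z = x := by
        intro z hz
        obtain ⟨k, rfl⟩ := Subgroup.mem_zpowers_iff.mp hz
        rcases Int.even_or_odd k with ⟨m, rfl⟩ | ⟨m, rfl⟩
        · left; rw [← two_mul, zpow_mul, zpow_ofNat, hxp, one_zpow]
        · right; rw [zpow_add, zpow_mul, zpow_ofNat, hxp, one_zpow, one_mul, zpow_one]
      have hel : Cfsg.IsElementaryAbelian 2 (Subgroup.zpowers x) := by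
        refine ⟨⟨⟨fun a b => Subtype.ext ?_⟩⟩, fun a ha => ?_⟩
        · rcases hmem a a.2 with h | h <;> rcases hmem b b.2 with h' | h' <;> simp [h, h']
        · rcases hmem a ha with h | h <;> simp [h, hxp]
      refine le_trans (le_inf (le_trans inf_le_left ?_) inf_le_right)
        (h (Subgroup.zpowers x) hel (by rw [Nat.card_zpowers, hx, pow_one]) y hy ?_)
      · exact le_iInf fun c => by rw [(hmem _ c.2.1).resolve_left c.2.2]
      · intro a ha
        rcases hmem a ha with h | h <;> simp [h, hxy]
    exact le_antisymm (key x y hx hy hxy) (key y x hy hx hxy.symm)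

end Cfsg.Agent.S1300
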