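import Cfsg.Statements.S1302
import Cfsg.Agent.Lib.PLocal.Constrained
import Cfsg.Agent.Lib.OddOrder.SmallRank
import Cfsg.Agent.Lib.OddOrder.FixedPoints
-- import your own Cfsg.Agent.* helpers here

set_option autoImplicit false
open Cfsg

namespace Cfsg.Agent.S1302

/-- Let X be a finite p-constrained group, p an odd prime, and A an abelian p-subgroup of X containing every element of order p of C_X(A). Then every subgroup of X of order prime to p that is normalized by A lies in O_{p'}(X). -/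
theorem result {X : Type*} [Group X] [Finite X] (p : ℕ) [Fact p.Prime] (hp : p ≠ 2) (hX : Cfsg.IsPConstrained p X) (A : Subgroup X) (hA : IsMulCommutative ↥A) (hAp : IsPGroup p ↥A) (hΩ : ∀ x ∈ Subgroup.centralizer (A : Set X), orderOf x = p → x ∈ A) (Q : Subgroup X) (hQ : ¬ p ∣ Nat.card ↥Q) (hAQ : A ≤ Subgroup.normalizer (Q : Set X)) : Q ≤ Cfsg.pPrimeCore p X := by
  set N := Cfsg.pPrimeCore p X with hN
  set π := QuotientGroup.mk' N with hπ
  set R := Cfsg.pCore p (X ⧸ N) with hR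
  have hcR := CfsgLib.PLocal.isPConstrained_iff.1 hX
  obtain ⟨V, hVR, hVp, hVcl, hVn, hVdet⟩ :=
    CfsgLib.OddOrder.exists_detecting hp R (CfsgLib.Base.isPGroup_pCore p _)
  have htop : ∀ H : Subgroup (X ⧸ N), H ≤ Subgroup.normalizer (R : Set (X ⧸ N)) := fun H g _ =>
    Subgroup.le_normalizer_of_normal (H := R) (Subgroup.mem_top g)
  have hVall : ∀ H : Subgroup (X ⧸ N), H ≤ Subgroup.normalizer (V : Set (X ⧸ N)) := fun H =>
    (htop H).trans hVn
  have hAQ' : A.map π ≤ Subgroup.normalizer ((Q.map π : Subgroup (X ⧸ N)) : Set (X ⧸ N)) :=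
    (Subgroup.map_mono hAQ).trans (Subgroup.le_normalizer_map π)
  have hQ' : (Nat.card (Q.map π)).Coprime p :=
    ((Fact.out : p.Prime).coprime_iff_not_dvd.2 fun h => hQ (h.trans (Subgroup.card_map_dvd Q π))).symm
  have hVQ : V ⊓ Subgroup.centralizer ((A.map π : Subgroup (X ⧸ N)) : Set (X ⧸ N)) ≤
      Subgroup.centralizer ((Q.map π : Subgroup (X ⧸ N)) : Set (X ⧸ N)) := by
    intro v hv
    obtain ⟨hvV, hvC⟩ := Subgroup.mem_inf.mp hv
    -- `v` lifts to an element of order dividing `p` in `A`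
    have hvA : v ∈ A.map π := by
      by_cases hv1 : v = 1
      · rw [hv1]; exact one_mem _
      rw [← CfsgLib.PLocal.map_centralizer_mk' N (CfsgLib.Base.pPrimeCore_coprime p X) hAp] at hvC
      obtain ⟨x, hx, rfl⟩ := hvC
      obtain ⟨e, he⟩ : ∃ e, Nat.card N * e % p = 1 := by
        obtain ⟨e, -, he⟩ := Nat.exists_mul_mod_eq_one_of_coprime
          (CfsgLib.Base.pPrimeCore_coprime p X) (Fact.out : p.Prime).one_lt
        exact ⟨e, he⟩
      have hxp : x ^ p ∈ N := (QuotientGroup.eq_one_iff (x ^ p)).mp (by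
        show π (x ^ p) = 1
        rw [map_pow]; exact hVp _ hvV)
      have hNc : (x ^ p) ^ Nat.card N = 1 := congrArg Subtype.val (pow_card_eq_one' (x := (⟨x ^ p, hxp⟩ : N)))
      have hmap : π (x ^ (Nat.card N * e)) = π x := by
        rw [map_pow, ← Nat.div_add_mod (Nat.card N * e) p, pow_add, pow_mul, hVp _ hvV, one_pow,
          one_mul, he, pow_one]
      have hy : orderOf (x ^ (Nat.card N * e)) = p := by
        refine orderOf_eq_prime ?_ fun h => hv1 ?_
        · rw [← pow_mul, mul_comm (Nat.card N * e) p, ← mul_assoc, pow_mul, pow_mul, hNc, one_pow]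
        · rw [← hmap, h, map_one]
      exact hmap ▸ Subgroup.mem_map_of_mem π (hΩ _ (Subgroup.pow_mem _ hx _) hy)
    refine Subgroup.mem_centralizer_iff.mpr fun q hq => ?_
    rw [← commutatorElement_eq_one_iff_mul_comm, ← Subgroup.mem_bot,
      ← CfsgLib.Base.inf_eq_bot_of_isPGroup_of_coprime
        ((CfsgLib.Base.isPGroup_pCore p (X ⧸ N)).to_le hVR) hQ']
    refine Subgroup.mem_inf.mpr ⟨?_, ?_⟩
    · rw [commutatorElement_def]
      exact mul_mem ((Subgroup.mem_normalizer_iff.mp (hVall ⊤ (Subgroup.mem_top q)) v).mp hvV) (inv_mem hvV)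
    · rw [commutatorElement_def, mul_assoc, mul_assoc]
      refine mul_mem hq ?_
      rw [← mul_assoc]
      exact (Subgroup.mem_normalizer_iff.mp (hAQ' hvA) q⁻¹).mp (inv_mem hq)
  have hQV := CfsgLib.OddOrder.le_centralizer_of_fixed hp V (A.map π) (Q.map π)
    ((CfsgLib.Base.isPGroup_pCore p _).to_le hVR) (hAp.map π) hQ' (hVall _) (hVall _) hAQ' hVQ
  intro q hq
  have hqπ : π q ∈ Q.map π := Subgroup.mem_map_of_mem π hq
  have hco : (orderOf (π q)).Coprime p :=
    hQ'.coprime_dvd_left (Subgroup.orderOf_dvd_natCard _ hqπ)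
  have hqR : π q ∈ R := hcR (hVdet _ (htop ⊤ (Subgroup.mem_top _)) hco (hQV hqπ))
  refine (QuotientGroup.eq_one_iff q).mp ?_
  exact Subgroup.mem_bot.mp ((CfsgLib.Base.inf_eq_bot_of_isPGroup_of_coprime
    (CfsgLib.Base.isPGroup_pCore p (X ⧸ N)) hQ') ▸ Subgroup.mem_inf.mpr ⟨hqR, hqπ⟩)

end Cfsg.Agent.S1302
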