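import Cfsg.Statements.S1303
import Cfsg.Agent.Lib.PLocal.Constrained
-- import your own Cfsg.Agent.* helpers here

set_option autoImplicit false
open Cfsg

namespace Cfsg.Agent.S1303

/-- The group X = SL(2, 3): it is 2-constrained, O_{2'}(X) = 1, its centre A = Z(X) contains every involution of X = C_X(A), and X has a subgroup of order 3 (normalized by A) not contained in O_{2'}(X). -/
theorem result : Cfsg.IsPConstrained 2 (Matrix.SpecialLinearGroup (Fin 2) (ZMod 3)) ∧ Cfsg.pPrimeCore 2 (Matrix.SpecialLinearGroup (Fin 2) (ZMod 3)) = ⊥ ∧ (∀ t : Matrix.SpecialLinearGroup (Fin 2) (ZMod 3), orderOf t = 2 → t ∈ Subgroup.center (Matrix.SpecialLinearGroup (Fin 2) (ZMod 3))) ∧ ∃ Q : Subgroup (Matrix.SpecialLinearGroup (Fin 2) (ZMod 3)), Nat.card ↥Q = 3 ∧ ¬ (Q ≤ Cfsg.pPrimeCore 2 (Matrix.SpecialLinearGroup (Fin 2) (ZMod 3))) := by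
  set G := Matrix.SpecialLinearGroup (Fin 2) (ZMod 3) with hG
  have h24 : Nat.card G = 24 := by rw [Nat.card_eq_fintype_card]; decide +kernel
  have hnorm : ∀ x : G, x ^ 3 = 1 → x ≠ 1 → ∃ g : G, (g * x * g⁻¹ * x⁻¹) ^ 3 ≠ 1 := by decide +kernel
  have hmul : ∀ x y : G, x ^ 4 = 1 → y ^ 4 = 1 → (x * y) ^ 4 = 1 := by decide +kernel
  have hcent : ∀ c : G, (∀ x : G, x ^ 4 = 1 → x * c = c * x) → c ^ 4 = 1 := by decide +kernel
  have hO : Cfsg.pPrimeCore 2 G = ⊥ := by
    rw [eq_bot_iff]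
    intro x hx
    have hodd := CfsgLib.Base.pPrimeCore_coprime 2 G
    have hcube : ∀ y ∈ Cfsg.pPrimeCore 2 G, y ^ 3 = 1 := by
      intro y hy
      have h1 : orderOf y ∣ Nat.card (Cfsg.pPrimeCore 2 G) := Subgroup.orderOf_dvd_natCard _ hy
      have h2 : orderOf y ∣ 2 ^ 3 * 3 := by
        have := orderOf_dvd_natCard y
        rwa [h24] at this
      exact orderOf_dvd_iff_pow_eq_one.mp
        (((hodd.coprime_dvd_left h1).pow_right 3).dvd_of_dvd_mul_left h2)
    by_contra hne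
    obtain ⟨g, hg⟩ := hnorm x (hcube x hx) (fun h => hne (Subgroup.mem_bot.mpr h))
    haveI hn : (Cfsg.pPrimeCore 2 G).Normal := inferInstance
    exact hg (hcube _ (mul_mem (hn.conj_mem x hx g) (inv_mem hx)))
  refine ⟨?_, hO, ?_, ?_⟩
  · rw [CfsgLib.PLocal.isPConstrained_iff_of_eq_bot hO]
    let Q : Subgroup G :=
      { carrier := {x | x ^ 4 = 1}
        one_mem' := one_pow 4
        mul_mem' := fun ha hb => hmul _ _ ha hb
        inv_mem' := fun {x} hx => by
          show x⁻¹ ^ 4 = 1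
          rw [inv_pow, show x ^ 4 = 1 from hx, inv_one] }
    haveI : Q.Normal := ⟨fun x hx g => by
      show (g * x * g⁻¹) ^ 4 = 1
      rw [conj_pow, show x ^ 4 = 1 from hx]; group⟩
    have hQ : Q ≤ Cfsg.pCore 2 G := CfsgLib.Base.le_pCore fun x => ⟨2, Subtype.ext x.2⟩
    refine le_trans ?_ hQ
    intro c hc
    exact hcent c fun x hx => Subgroup.mem_centralizer_iff.mp hc x (hQ hx)
  · have hinv : ∀ t : G, t ^ 2 = 1 → ∀ g : G, g * t = t * g := by decide +kernel
    intro t ht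
    exact Subgroup.mem_center_iff.mpr (hinv t (orderOf_dvd_iff_pow_eq_one.mp ht.dvd))
  · have hu1 : ∃ w : Matrix.SpecialLinearGroup (Fin 2) (ZMod 3), w ^ 3 = 1 ∧ w ≠ 1 := by decide +kernel
    obtain ⟨u, hu3, hu1⟩ := hu1
    have hu : orderOf u = 3 := orderOf_eq_prime hu3 hu1
    refine ⟨Subgroup.zpowers u, by rw [Nat.card_zpowers, hu], fun h => ?_⟩
    have := h (Subgroup.mem_zpowers u)
    rw [hO, Subgroup.mem_bot] at this
    rw [this, orderOf_one] at hu
    exact absurd hu (by norm_num)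

end Cfsg.Agent.S1303
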