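import Cfsg.Statements.S1304
import Cfsg.Agent.Lib.Components.Basic
-- import your own Cfsg.Agent.* helpers here

set_option autoImplicit false
open Cfsg

namespace Cfsg.Agent.S1304

/-- Let X be a perfect group and α an automorphism of X with α(x) x⁻¹ central for every x. Then α is the identity. -/
theorem result {X : Type*} [Group X] (hperf : commutator X = ⊤) (α : X ≃* X) (h : ∀ x : X, α x * x⁻¹ ∈ Subgroup.center X) : ∀ x : X, α x = x := by
  -- `c x = α x * x⁻¹` is a homomorphism into the centre, hence trivial on commutators
  let c : X →* Subgroup.center X :=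
    { toFun := fun x => ⟨α x * x⁻¹, h x⟩
      map_one' := Subtype.ext (by simp)
      map_mul' := fun x y => Subtype.ext (by
        have hy := Subgroup.mem_center_iff.mp (h y) x⁻¹
        show α (x * y) * (x * y)⁻¹ = α x * x⁻¹ * (α y * y⁻¹)
        rw [map_mul, mul_inv_rev, mul_assoc (α x) x⁻¹, hy]
        simp only [mul_assoc]) }
  intro x
  have hx : x ∈ c.ker := by
    have hle : commutator X ≤ c.ker := by
      rw [commutator_def, Subgroup.commutator_le]
      intro a _ b _
      rw [MonoidHom.mem_ker, map_commutatorElement]
      apply commutatorElement_eq_one_iff_mul_comm.mpr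
      exact Subtype.ext ((Subgroup.mem_center_iff.mp (c a).2 (c b : X)).symm)
    exact hle (hperf ▸ Subgroup.mem_top x)
  have := congrArg Subtype.val (MonoidHom.mem_ker.mp hx)
  exact mul_inv_eq_one.mp this

end Cfsg.Agent.S1304
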