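import Cfsg.Statements.S1306
import Cfsg.Agent.Lib.Components.Basic
import Cfsg.Agent.Lib.Base.Transport
import Cfsg.Agent.Lib.PLocal.Constrained
-- import your own Cfsg.Agent.* helpers here

set_option autoImplicit false
open Cfsg

namespace Cfsg.Agent.S1306

/-- Let G be finite, x an involution and L ≤ C_G(x) a component of C_G(x). Suppose L is a component of C_G(y) for every involution y ∈ C_G(L), and ⁅L, g L g⁻¹⁆ ≠ 1 whenever g L g⁻¹ ≠ L. Then L is a standard subgroup of G. -/
theorem result {G : Type*} [Group G] [Finite G] (x : G) (hx : orderOf x = 2) (L : Subgroup G) (hLx : L ≤ Subgroup.centralizer ({x} : Set G)) (hL : Cfsg.IsComponent (L.subgroupOf (Subgroup.centralizer ({x} : Set G)))) (hne : ∀ y : G, orderOf y = 2 → y ∈ Subgroup.centralizer (L : Set G) → L ≤ Subgroup.centralizer ({y} : Set G) ∧ Cfsg.IsComponent (L.subgroupOf (Subgroup.centralizer ({y} : Set G)))) (hnc : ∀ g : G, L.map (MulAut.conj g).toMonoidHom ≠ L → ⁅L, L.map (MulAut.conj g).toMonoidHom⁆ ≠ ⊥) : Cfsg.IsStandardSubgroup L := by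
  set C := Subgroup.centralizer (L : Set G) with hC
  have hinv : ∀ y : G, orderOf y = 2 → y ∈ C → ∀ g : G,
      g⁻¹ * y * g ∈ C → L.map (MulAut.conj g).toMonoidHom = L := by
    intro y hy hyC g hgC
    by_contra hne'
    have ho : orderOf (g⁻¹ * y * g) = 2 := by
      rw [← hy]
      simpa using MulEquiv.orderOf_eq (MulAut.conj g⁻¹) y
    obtain ⟨h1, h2⟩ := hne y hy hyC
    obtain ⟨h3, h4⟩ := hne _ ho hgC
    set z := g⁻¹ * y * g with hz
    have hmap : (Subgroup.centralizer ({z} : Set G)).map (MulAut.conj g).toMonoidHom =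
        Subgroup.centralizer ({y} : Set G) := by
      ext w
      rw [Subgroup.mem_map_equiv, Subgroup.mem_centralizer_singleton_iff,
        Subgroup.mem_centralizer_singleton_iff, MulAut.conj_symm_apply, hz]
      constructor
      · intro h
        calc w * y = g * (g⁻¹ * w * g * (g⁻¹ * y * g)) * g⁻¹ := by group
          _ = g * (g⁻¹ * y * g * (g⁻¹ * w * g)) * g⁻¹ := by rw [h]
          _ = y * w := by group
      · intro h
        calc g⁻¹ * w * g * (g⁻¹ * y * g) = g⁻¹ * (w * y) * g := by group
          _ = g⁻¹ * (y * w) * g := by rw [h]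
          _ = g⁻¹ * y * g * (g⁻¹ * w * g) := by group
    let e : ↥(Subgroup.centralizer ({z} : Set G)) ≃* ↥(Subgroup.centralizer ({y} : Set G)) :=
      ((Subgroup.centralizer ({z} : Set G)).equivMapOfInjective _ (MulAut.conj g).injective).trans
        (MulEquiv.subgroupCongr hmap)
    have h5 : L.map (MulAut.conj g).toMonoidHom ≤ Subgroup.centralizer ({y} : Set G) := by
      rw [← hmap]; exact Subgroup.map_mono h3
    have h6 : Cfsg.IsComponent ((L.map (MulAut.conj g).toMonoidHom).subgroupOf
        (Subgroup.centralizer ({y} : Set G))) := by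
      have := CfsgLib.Components.isComponent_map_equiv e h4
      convert this using 1
      ext w
      rw [Subgroup.mem_subgroupOf, Subgroup.mem_map_equiv, Subgroup.mem_map_equiv,
        Subgroup.mem_subgroupOf]
      have hw : ((e (e.symm w) : ↥(Subgroup.centralizer ({y} : Set G))) : G) =
          g * (e.symm w : G) * g⁻¹ := rfl
      rw [MulEquiv.apply_symm_apply] at hw
      rw [MulAut.conj_symm_apply, hw]
      simp [mul_assoc]
    have hcom := CfsgLib.Components.components_commute h2 h6 (fun h => hne' (by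
      have := congrArg (Subgroup.map (Subgroup.centralizer ({y} : Set G)).subtype) h
      rw [Subgroup.map_subgroupOf_eq_of_le h1, Subgroup.map_subgroupOf_eq_of_le h5] at this
      exact this.symm))
    refine hnc g hne' ?_
    have := congrArg (Subgroup.map (Subgroup.centralizer ({y} : Set G)).subtype) hcom
    rwa [Subgroup.map_commutator, Subgroup.map_subgroupOf_eq_of_le h1,
      Subgroup.map_subgroupOf_eq_of_le h5, Subgroup.map_bot] at this
  have hxC : x ∈ C := Subgroup.mem_centralizer_iff.mpr fun l hl =>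
    Subgroup.mem_centralizer_singleton_iff.mp (hLx hl)
  have hNle : Subgroup.normalizer (L : Set G) ≤ Subgroup.normalizer (C : Set G) :=
    CfsgLib.PLocal.normalizer_le_centralizer_normalizer L
  refine ⟨?_, ⟨?_, fun g hg => ?_⟩, hnc, le_antisymm hNle fun g hg => ?_⟩
  · exact CfsgLib.Components.isQuasisimple_of_mulEquiv (Subgroup.subgroupOfEquivOfLe hLx) hL.2
  · rw [even_iff_two_dvd, ← hx]
    exact Subgroup.orderOf_dvd_natCard C hxC
  · by_contra hodd
    rw [Nat.not_odd_iff_even, even_iff_two_dvd] at hodd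
    obtain ⟨⟨y, hy1, hy2⟩, hyo⟩ := exists_prime_orderOf_dvd_card' 2 hodd
    rw [← Subgroup.orderOf_coe] at hyo
    obtain ⟨u, hu, huy⟩ := hy2
    exact hg (hNle (CfsgLib.Base.map_conj_eq_self_iff.mp (hinv y hyo hy1 g (by
      have e : y = g * u * g⁻¹ := huy.symm
      rw [e]
      simpa [mul_assoc] using hu))))
  · refine CfsgLib.Base.map_conj_eq_self_iff.mp ?_
    refine hinv (g * x * g⁻¹) ?_ ((Subgroup.mem_normalizer_iff.mp hg x).mp hxC) g ?_
    · rw [← hx]; exact MulEquiv.orderOf_eq (MulAut.conj g) x
    · simpa [mul_assoc] using hxC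

end Cfsg.Agent.S1306
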