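import Cfsg.Statements.S1307
import Cfsg.Agent.Lib.Involutions.ZStar.BrauerSuzuki
import Cfsg.Agent.Lib.PGroups.UniqueOrderP
import Cfsg.Agent.Lib.Components.Basic
import Cfsg.Agent.Lib.Base.Rank
import Cfsg.Agent.Lib.Base.Cores

set_option autoImplicit false
open Cfsg

namespace Cfsg.Agent.S1307

/-- Let G be finite, x an involution and L ≤ C_G(x) a component of C_G(x) of even order and 2-rank 1, such that L is a component of C_G(y) for every involution y ∈ C_G(L). Then some involution of L is a classical involution of G. -/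
theorem result {G : Type*} [Group G] [Finite G] (x : G) (hx : orderOf x = 2) (L : Subgroup G) (hLx : L ≤ Subgroup.centralizer ({x} : Set G)) (hL : Cfsg.IsComponent (L.subgroupOf (Subgroup.centralizer ({x} : Set G)))) (heven : Even (Nat.card ↥L)) (hrk : Cfsg.PRankLE 2 1 ↥L) (hne : ∀ y : G, orderOf y = 2 → y ∈ Subgroup.centralizer (L : Set G) → L ≤ Subgroup.centralizer ({y} : Set G) ∧ Cfsg.IsComponent (L.subgroupOf (Subgroup.centralizer ({y} : Set G)))) : ∃ t ∈ L, Cfsg.IsClassicalInvolution t := by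
  haveI : Fact (Nat.Prime 2) := ⟨Nat.prime_two⟩
  obtain ⟨P⟩ := Sylow.nonempty (p := 2) (G := ↥L)
  have hq : Cfsg.IsQuasisimple ↥L :=
    CfsgLib.Components.isQuasisimple_of_mulEquiv (Subgroup.subgroupOfEquivOfLe hLx) hL.2
  haveI hperf := hq.1
  have hPd : (2 : ℕ) ∣ Nat.card (P : Subgroup ↥L) := Sylow.dvd_card_of_dvd_card P heven.two_dvd
  have hPne : (P : Subgroup ↥L) ≠ ⊥ := fun h => by
    rw [h, Subgroup.card_bot] at hPd; omega
  have hP : IsPGroup 2 ↥(P : Subgroup ↥L) := P.isPGroup'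
  -- unique involution of P
  have hrP : Cfsg.PRankLE 2 1 ↥(P : Subgroup ↥L) := CfsgLib.Base.pRankLE_subgroup hrk _
  haveI : Nontrivial ↥(P : Subgroup ↥L) := (Subgroup.nontrivial_iff_ne_bot _).2 hPne
  haveI := hP.center_nontrivial
  obtain ⟨k, hk, hkc⟩ : ∃ k > 0, Nat.card (Subgroup.center ↥(P : Subgroup ↥L)) = 2 ^ k :=
    (hP.to_subgroup _).nontrivial_iff_card.1 inferInstance
  obtain ⟨z, hz⟩ := exists_prime_orderOf_dvd_card' (G := Subgroup.center ↥(P : Subgroup ↥L)) 2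
    (by rw [hkc]; exact dvd_pow_self 2 (by omega))
  have hz2 : (z : ↥(P : Subgroup ↥L)) ^ 2 = 1 := by
    have h := pow_orderOf_eq_one (z : ↥(P : Subgroup ↥L))
    rwa [Subgroup.orderOf_coe, hz] at h
  have huniq : ∀ y : ↥(P : Subgroup ↥L), y ^ 2 = 1 → y ∈ Subgroup.zpowers (z : ↥(P : Subgroup ↥L)) := by
    intro y hy
    have hA : Cfsg.IsElementaryAbelian 2 (Subgroup.zpowers (z : ↥(P : Subgroup ↥L)) ⊔ Subgroup.zpowers y) :=
      CfsgLib.Base.isElementaryAbelian_sup (CfsgLib.Base.isElementaryAbelian_zpowers hz2)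
        (CfsgLib.Base.isElementaryAbelian_zpowers hy) fun a ha => Subgroup.mem_centralizer_iff.2 fun c hc => by
          obtain ⟨i, rfl⟩ := Subgroup.mem_zpowers_iff.1 ha
          obtain ⟨j, rfl⟩ := Subgroup.mem_zpowers_iff.1 hc
          exact (((show Commute y (z : ↥(P : Subgroup ↥L)) from Subgroup.mem_center_iff.1 z.2 y).zpow_left j).zpow_right i).eq
    have hle := hrP _ hA.1 hA.2
    have h := Subgroup.eq_of_le_of_card_ge
      (le_sup_left : Subgroup.zpowers (z : ↥(P : Subgroup ↥L)) ≤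
        Subgroup.zpowers (z : ↥(P : Subgroup ↥L)) ⊔ Subgroup.zpowers y)
      (by rw [Nat.card_zpowers, Subgroup.orderOf_coe, hz]; simpa using hle)
    rw [h]
    exact Subgroup.mem_sup_right (Subgroup.mem_zpowers y)
  rcases CfsgLib.PGroups.isCyclic_or_quaternion_of_unique hP hz2 huniq with hcyc | ⟨-, n, hn, ⟨e⟩⟩
  · exfalso
    have hmin : (Nat.card ↥L).minFac = 2 := (Nat.minFac_eq_two_iff _).2 heven.two_dvd
    have hc := IsCyclic.isComplement' hmin (P := P) hcyc
    obtain ⟨f, hf⟩ : ∃ f : ↥L →* ↥(P : Subgroup ↥L), f.ker.IsComplement' P := ⟨_, hc⟩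
    have htop : f.ker = ⊤ := by
      rw [eq_top_iff, ← hperf.commutator_eq_top, commutator_def, Subgroup.commutator_le]
      intro a _ b _
      rw [MonoidHom.mem_ker, map_commutatorElement, commutatorElement_eq_one_iff_mul_comm]
      haveI := hcyc
      haveI : IsMulCommutative ↥(P : Subgroup ↥L) := inferInstance
      exact mul_comm' _ _
    rw [htop, Subgroup.isComplement'_top_left] at hf
    exact hPne hf
  obtain ⟨m, rfl⟩ : ∃ m, n = m + 1 := ⟨n - 1, by omega⟩
  haveI hOn : (Cfsg.oddCore ↥L).Normal := Cfsg.pPrimeCore_normal 2 _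
  let φ := QuotientGroup.mk' (Cfsg.oddCore ↥L)
  let Pb := Sylow.mapSurjective (f := φ) (QuotientGroup.mk'_surjective _) P
  have hinj : Function.Injective (φ.comp (P : Subgroup ↥L).subtype) := by
    rw [← MonoidHom.ker_eq_bot_iff, eq_bot_iff]
    intro w hw
    have hw' : (w : ↥L) ∈ Cfsg.oddCore ↥L := (QuotientGroup.eq_one_iff _).1 hw
    have h1 : orderOf (w : ↥L) ∣ Nat.card ↥(Cfsg.oddCore ↥L) := Subgroup.orderOf_dvd_natCard _ hw'
    obtain ⟨k, hk⟩ := IsPGroup.iff_orderOf.1 hP w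
    rw [Subgroup.orderOf_coe, hk] at h1
    rcases k with _ | k
    · rw [Subgroup.mem_bot, ← orderOf_eq_one_iff, hk, pow_zero]
    · exact absurd (dvd_trans (dvd_pow_self 2 (by omega)) h1)
        (CfsgLib.Base.odd_card_oddCore ↥L).not_two_dvd_nat
  have hrange : (φ.comp (P : Subgroup ↥L).subtype).range = (Pb : Subgroup _) := by
    rw [MonoidHom.range_comp, Subgroup.range_subtype]; rfl
  let eb : ↥(Pb : Subgroup (↥L ⧸ Cfsg.oddCore ↥L)) ≃* QuaternionGroup (2 ^ (m + 1)) :=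
    ((MulEquiv.subgroupCongr hrange.symm).trans (MonoidHom.ofInjective hinj).symm).trans e
  have hc2 : Nat.card (Subgroup.center (↥L ⧸ Cfsg.oddCore ↥L)) = 2 :=
    CfsgLib.Involutions.ZStar.card_center_eq_two Pb m eb
      (CfsgLib.Base.pPrimeCore_quotient_pPrimeCore 2 ↥L)
  haveI : ((Subgroup.center (↥L ⧸ Cfsg.oddCore ↥L)).comap φ).Normal := inferInstance
  have hN2 : 2 ∣ Nat.card ↥((Subgroup.center (↥L ⧸ Cfsg.oddCore ↥L)).comap φ) := by
    obtain ⟨w, hw⟩ := exists_prime_orderOf_dvd_card' (G := Subgroup.center (↥L ⧸ Cfsg.oddCore ↥L)) 2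
      (by rw [hc2])
    obtain ⟨v, hv⟩ := QuotientGroup.mk'_surjective (Cfsg.oddCore ↥L) (w : ↥L ⧸ Cfsg.oddCore ↥L)
    have hvm : v ∈ (Subgroup.center (↥L ⧸ Cfsg.oddCore ↥L)).comap φ := by
      rw [Subgroup.mem_comap]; exact hv ▸ w.2
    have h1 := orderOf_map_dvd φ v
    rw [show φ v = _ from hv, Subgroup.orderOf_coe, hw] at h1
    exact h1.trans (Subgroup.orderOf_dvd_natCard _ hvm)
  rcases CfsgLib.Components.quasisimple_normal_eq_top_or_le_center hq
      ((Subgroup.center (↥L ⧸ Cfsg.oddCore ↥L)).comap φ) with htop | hle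
  · exfalso
    have hall : Subgroup.center (↥L ⧸ Cfsg.oddCore ↥L) = ⊤ := by
      rw [← Subgroup.map_comap_eq_self_of_surjective (QuotientGroup.mk'_surjective _)
        (Subgroup.center (↥L ⧸ Cfsg.oddCore ↥L))]
      show ((Subgroup.center (↥L ⧸ Cfsg.oddCore ↥L)).comap φ).map φ = ⊤
      rw [htop, Subgroup.map_top_of_surjective _ (QuotientGroup.mk'_surjective _)]
    have h1 := Subgroup.card_le_card_group (Pb : Subgroup (↥L ⧸ Cfsg.oddCore ↥L))
    rw [Nat.card_congr eb.toEquiv, Nat.card_eq_fintype_card, QuaternionGroup.card, ← Subgroup.card_top (G := ↥L ⧸ Cfsg.oddCore ↥L), ← hall, hc2] at h1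
    have : 2 ≤ 2 ^ (m + 1) := Nat.le_self_pow (by omega) 2
    omega
  obtain ⟨t, ht⟩ := exists_prime_orderOf_dvd_card' (G := Subgroup.center ↥L) 2
    (hN2.trans (Subgroup.card_dvd_of_le hle))
  have ht2 : orderOf ((t : ↥L) : G) = 2 := by rw [Subgroup.orderOf_coe, Subgroup.orderOf_coe, ht]
  have htc : ((t : ↥L) : G) ∈ Subgroup.centralizer (L : Set G) :=
    Subgroup.mem_centralizer_iff.2 fun c hc =>
      congrArg Subtype.val (Subgroup.mem_center_iff.1 t.2 ⟨c, hc⟩)
  obtain ⟨hle', hcomp⟩ := hne _ ht2 htc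
  exact ⟨_, (t : ↥L).2, ht2, L, hle', (t : ↥L).2, hcomp.1, P, m, ⟨e⟩⟩

end Cfsg.Agent.S1307
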