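import Cfsg.Statements.S1313
import Cfsg.Agent.Lib.Components.FStar
-- import your own Cfsg.Agent.* helpers here

set_option autoImplicit false
open Cfsg

namespace Cfsg.Agent.S1313

/-- For a finite group H, |H| ≤ |F*(H)|!. -/
theorem result {H : Type*} [Group H] [Finite H] : Nat.card H ≤ Nat.factorial (Nat.card ↥(Cfsg.generalizedFittingSubgroup H)) := by
  classical
  set N := Cfsg.generalizedFittingSubgroup H with hN
  let φ : H →* MulAut ↥N := MulAut.conjNormal
  have hker : φ.ker ≤ N := by
    intro g hg
    apply CfsgLib.Components.centralizer_fstar_le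
    rw [Subgroup.mem_centralizer_iff]
    intro x hx
    have h1 : ((φ g) ⟨x, hx⟩ : H) = x := by rw [MonoidHom.mem_ker.mp hg]; rfl
    have h2 : g * x * g⁻¹ = x := by rwa [MulAut.conjNormal_apply] at h1
    exact (mul_inv_eq_iff_eq_mul.mp h2).symm
  let ψ : MulAut ↥N → Equiv.Perm {x : ↥N // x ≠ 1} := fun a =>
    a.toEquiv.subtypeEquiv fun x => (map_ne_one_iff a a.injective).symm
  have hψ : Function.Injective ψ := by
    intro a b hab
    ext x
    by_cases hx : x = 1
    · simp [hx]
    · exact congrArg Subtype.val (congrArg Subtype.val (Equiv.ext_iff.mp hab ⟨x, hx⟩))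
  have h1 : Nat.card (MulAut ↥N) ≤ Nat.factorial (Nat.card ↥N - 1) := by
    refine (Nat.card_le_card_of_injective ψ hψ).trans (le_of_eq ?_)
    rw [Nat.card_perm]
    congr 1
    have := Fintype.ofFinite ↥N
    simp [Nat.card_eq_fintype_card, Fintype.card_subtype_compl]
  calc Nat.card H = Nat.card φ.ker * Nat.card φ.range := by
        rw [← Subgroup.index_ker φ, Subgroup.card_mul_index]
    _ ≤ Nat.card ↥N * Nat.factorial (Nat.card ↥N - 1) :=
        Nat.mul_le_mul (Subgroup.card_le_of_le hker)
          ((Nat.card_le_card_of_injective _ Subtype.val_injective).trans h1)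
    _ = Nat.factorial (Nat.card ↥N) := Nat.mul_factorial_pred Nat.card_pos.ne'

end Cfsg.Agent.S1313
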