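import Cfsg.Statements.S1314

-- import your own Cfsg.Agent.* helpers here

set_option autoImplicit false
open Cfsg
open scoped commutatorElement Pointwise

namespace Cfsg.Agent.S1314

/-- Let x be an involution of a group G and L a perfect subgroup with ⁅L, x L x⁻¹⁆ = 1. Then l ↦ l (x l x⁻¹) is a group homomorphism π from L to G whose kernel is central in L and whose image lies in C_G(x); and the commutator subgroup of C_{L ⊔ xLx⁻¹}(x) equals the image of π. -/
theorem result {G : Type*} [Group G] [Finite G] (x : G) (hx : orderOf x = 2) (L : Subgroup G) (hperf : ⁅L, L⁆ = L) (hcomm : ⁅L, L.map (MulAut.conj x).toMonoidHom⁆ = ⊥) : ∃ π : ↥L →* G, (∀ l : ↥L, π l = (l : G) * (x * (l : G) * x⁻¹)) ∧ π.ker ≤ Subgroup.center ↥L ∧ π.range ≤ Subgroup.centralizer ({x} : Set G) ∧ ⁅(L ⊔ L.map (MulAut.conj x).toMonoidHom) ⊓ Subgroup.centralizer ({x} : Set G), (L ⊔ L.map (MulAut.conj x).toMonoidHom) ⊓ Subgroup.centralizer ({x} : Set G)⁆ = π.range := by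
  classical
  have hxx : x * x = 1 := by rw [← pow_two, ← hx, pow_orderOf_eq_one]
  have hxi : x⁻¹ = x := inv_eq_of_mul_eq_one_right hxx
  set L' := L.map (MulAut.conj x).toMonoidHom with hL'
  have hmem : ∀ l ∈ L, x * l * x⁻¹ ∈ L' := fun l hl => ⟨l, hl, rfl⟩
  have hcc : ∀ a ∈ L, ∀ b ∈ L', a * b = b * a := fun a ha b hb =>
    (Subgroup.mem_centralizer_iff.mp (Subgroup.commutator_eq_bot_iff_le_centralizer.mp hcomm ha) b hb).symm
  let π : ↥L →* G :=
    { toFun := fun l => (l : G) * (x * (l : G) * x⁻¹)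
      map_one' := by simp
      map_mul' := fun a b => by
        have := hcc b b.2 (x * (a : G) * x⁻¹) (hmem a a.2)
        show (a : G) * b * (x * ((a : G) * b) * x⁻¹) =
          (a : G) * (x * a * x⁻¹) * ((b : G) * (x * b * x⁻¹))
        calc (a : G) * b * (x * ((a : G) * b) * x⁻¹)
            = (a : G) * ((b : G) * (x * a * x⁻¹)) * (x * b * x⁻¹) := by group
          _ = (a : G) * ((x * a * x⁻¹) * b) * (x * b * x⁻¹) := by rw [this]
          _ = _ := by group }
  have hπ : ∀ l : ↥L, π l = (l : G) * (x * (l : G) * x⁻¹) := fun l => rfl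
  have hrange : π.range ≤ Subgroup.centralizer ({x} : Set G) := by
    rintro _ ⟨l, rfl⟩
    rw [Subgroup.mem_centralizer_singleton_iff, hπ, hxi]
    have := hcc l l.2 (x * (l : G) * x⁻¹) (hmem l l.2)
    rw [hxi] at this
    calc (l : G) * (x * l * x) * x = (l : G) * (x * l) * (x * x) := by group
      _ = (l : G) * (x * l) := by rw [hxx, mul_one]
      _ = x * ((x * l * x) * l) := by
          rw [show x * ((x * (l : G) * x) * l) = (x * x) * l * (x * l) by group, hxx, one_mul]
      _ = x * ((l : G) * (x * l * x)) := by rw [← this]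
  refine ⟨π, hπ, ?_, hrange, ?_⟩
  · intro l hl
    have h1 : (x * (l : G) * x⁻¹) = (l : G)⁻¹ := eq_inv_of_mul_eq_one_right hl
    have hl' : (l : G)⁻¹ ∈ L' := h1 ▸ hmem l l.2
    refine Subgroup.mem_center_iff.mpr fun g => Subtype.ext ?_
    have := hcc g g.2 _ hl'
    show (g : G) * l = l * g
    calc (g : G) * l = (l : G) * ((l : G)⁻¹ * g) * l := by group
      _ = (l : G) * ((g : G) * (l : G)⁻¹) * l := by rw [this]
      _ = l * g := by group
  · set Y := (L ⊔ L') ⊓ Subgroup.centralizer ({x} : Set G) with hY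
    have hDY : π.range ≤ Y := by
      refine le_inf ?_ hrange
      rintro _ ⟨l, rfl⟩
      exact Subgroup.mul_mem_sup l.2 (hmem l l.2)
    haveI := Subgroup.isPerfect_iff.mpr hperf
    have hDperf : ⁅π.range, π.range⁆ = π.range :=
      Subgroup.isPerfect_iff.mp (Group.IsPerfect.range π)
    refine le_antisymm ?_ (hDperf.ge.trans (Subgroup.commutator_mono hDY hDY))
    have hform : ∀ y ∈ Y, ∃ a : ↥L, ∃ z ∈ L', (∀ w ∈ L ⊔ L', z * w = w * z) ∧ y = π a * z := by
      intro y hy
      have hy1 : y ∈ ((L : Set G) * (L' : Set G)) := by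
        rw [← Subgroup.coe_mul_of_left_le_normalizer_right L L'
          ((Subgroup.commutator_eq_bot_iff_le_centralizer.mp hcomm).trans
            (Subgroup.centralizer_le_normalizer _))]
        exact hy.1
      obtain ⟨a, ha, b, hb, rfl⟩ := Set.mem_mul.mp hy1
      set a' := x * a * x⁻¹ with ha'
      set b' := x * b * x⁻¹ with hb'
      have ha'L : a' ∈ L' := hmem a ha
      have hb'L : b' ∈ L := by
        obtain ⟨b0, hb0, hbb⟩ := hb
        have e : b' = b0 := by
          have hbb' : x * b0 * x⁻¹ = b := hbb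
          rw [hb', ← hbb']
          calc x * (x * b0 * x⁻¹) * x⁻¹ = (x * x) * b0 * (x⁻¹ * x⁻¹) := by group
            _ = b0 := by rw [hxi, hxx, one_mul, mul_one]
        rw [e]; exact hb0
      have hconj : a * b = b' * a' := by
        rw [hcc b' hb'L a' ha'L, ha', hb']
        have hyx : a * b * x = x * (a * b) := Subgroup.mem_centralizer_singleton_iff.mp hy.2
        calc a * b = a * b * x * x⁻¹ := by group
          _ = x * (a * b) * x⁻¹ := by rw [hyx]
          _ = _ := by group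
      have he : b'⁻¹ * a = a' * b⁻¹ := by
        calc b'⁻¹ * a = b'⁻¹ * (a * b) * b⁻¹ := by group
          _ = a' * b⁻¹ := by rw [hconj]; group
      have hdL : a' * b⁻¹ ∈ L := he ▸ mul_mem (inv_mem hb'L) ha
      have hdL' : a' * b⁻¹ ∈ L' := mul_mem ha'L (inv_mem hb)
      have hz : a'⁻¹ * b = (a' * b⁻¹)⁻¹ := by
        have h1 := hcc _ hdL _ ha'L
        calc a'⁻¹ * b = ((a' * b⁻¹) * a')⁻¹ * a' := by group
          _ = (a' * (a' * b⁻¹))⁻¹ * a' := by rw [h1]
          _ = (a' * b⁻¹)⁻¹ := by group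
      refine ⟨⟨a, ha⟩, a'⁻¹ * b, mul_mem (inv_mem ha'L) hb, ?_, by rw [hπ]; show a * b = a * a' * (a'⁻¹ * b); group⟩
      intro u hu
      have hu' : u ∈ ((L : Set G) * (L' : Set G)) := by
        rw [← Subgroup.coe_mul_of_left_le_normalizer_right L L'
          ((Subgroup.commutator_eq_bot_iff_le_centralizer.mp hcomm).trans
            (Subgroup.centralizer_le_normalizer _))]
        exact hu
      obtain ⟨c, hc, d, hd, rfl⟩ := Set.mem_mul.mp hu'
      rw [hz]
      have f1 := hcc c hc _ (inv_mem hdL')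
      have f2 := hcc _ (inv_mem hdL) d hd
      rw [← mul_assoc, ← f1, mul_assoc, f2, ← mul_assoc]
    rw [Subgroup.commutator_le]
    intro y1 h1 y2 h2
    obtain ⟨a1, z1, hz1L, hz1, rfl⟩ := hform y1 h1
    obtain ⟨a2, z2, hz2L, hz2, rfl⟩ := hform y2 h2
    have m1 : ∀ a : ↥L, π a ∈ L ⊔ L' := fun a => (hDY ⟨a, rfl⟩).1
    refine ⟨⁅a1, a2⁆, ?_⟩
    rw [map_commutatorElement]
    have c1 : ∀ w ∈ L ⊔ L', z1 * w * z1⁻¹ = w := fun w hw => by rw [hz1 w hw]; group
    have c2 : ∀ w ∈ L ⊔ L', z2 * w * z2⁻¹ = w := fun w hw => by rw [hz2 w hw]; group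
    symm
    calc ⁅π a1 * z1, π a2 * z2⁆
        = π a1 * (z1 * (π a2 * z2) * z1⁻¹) * (π a1)⁻¹ * z2⁻¹ * (π a2)⁻¹ := by
          simp only [commutatorElement_def]; group
      _ = π a1 * π a2 * (z2 * (π a1)⁻¹ * z2⁻¹) * (π a2)⁻¹ := by
          rw [c1 _ (mul_mem (m1 a2) (Subgroup.mem_sup_right hz2L))]; group
      _ = ⁅π a1, π a2⁆ := by rw [c2 _ (inv_mem (m1 a1)), commutatorElement_def]

end Cfsg.Agent.S1314
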