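import Cfsg.Statements.S1315
import Cfsg.Agent.Lib.Components.SLPair.PartTwo

set_option autoImplicit false
open Cfsg CfsgLib.SLPair Subgroup

namespace Cfsg.Agent.S1315

theorem same_normalizes {G : Type*} [Group G] [Finite G] {z : G} {J K : Subgroup G}
    (cJ : Intrinsic z J) (cK : Intrinsic z K) {y : G} (hy : y ∈ K) :
    y ∈ normalizer (J : Set G) := by
  refine cJ.normalizes (cK.le hy) (cj_eq_self.2 ?_)
  have := cJ.normalizes_comp cK 1 (cK.q_mem hy)
  rwa [cj_one] at this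


/-- Let G be finite and J ≠ K subgroups, each containing exactly one involution, z(J) resp. z(K), each a 2-component of the centralizer of its involution, with J / O(J) and K / O(K) both isomorphic to SL(2, F) for one finite field F of odd order, or both non-split double covers of A7. Then (i) every 2-element of K of order at least 4 centralizing z(J) normalizes J; (ii) if z(J) normalizes K then z(K) normalizes J. -/
theorem result {G : Type*} [Group G] [Finite G] (J K : Subgroup G) (hJK : J ≠ K) (zJ zK : G) (hzJ : zJ ∈ J ∧ orderOf zJ = 2 ∧ ∀ t ∈ J, orderOf t = 2 → t = zJ) (hzK : zK ∈ K ∧ orderOf zK = 2 ∧ ∀ t ∈ K, orderOf t = 2 → t = zK) (hJ : J ≤ Subgroup.centralizer ({zJ} : Set G) ∧ Cfsg.IsPComponent 2 (J.subgroupOf (Subgroup.centralizer ({zJ} : Set G)))) (hK : K ≤ Subgroup.centralizer ({zK} : Set G) ∧ Cfsg.IsPComponent 2 (K.subgroupOf (Subgroup.centralizer ({zK} : Set G)))) (htype : (∃ (F : Type) (_ : Field F) (_ : Fintype F),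 Odd (Fintype.card F) ∧ Nonempty (↥J ⧸ Cfsg.oddCore ↥J ≃* Matrix.SpecialLinearGroup (Fin 2) F) ∧ Nonempty (↥K ⧸ Cfsg.oddCore ↥K ≃* Matrix.SpecialLinearGroup (Fin 2) F)) ∨ (Cfsg.IsNonsplitDoubleCover (↥J ⧸ Cfsg.oddCore ↥J) ↥(alternatingGroup (Fin 7)) ∧ Cfsg.IsNonsplitDoubleCover (↥K ⧸ Cfsg.oddCore ↥K) ↥(alternatingGroup (Fin 7)))) : (∀ y ∈ K, IsPGroup 2 ↥(Subgroup.zpowers y) → 4 ≤ orderOf y → y * zJ = zJ * y → y ∈ Subgroup.normalizer (J : Set G)) ∧ (zJ ∈ Subgroup.normalizer (K : Set G) → zK ∈ Subgroup.normalizer (J : Set G)) := by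
  have cJ : Intrinsic zJ J := ⟨hzJ.1, hzJ.2.1, hzJ.2.2, hJ.1, hJ.2⟩
  have cK : Intrinsic zK K := ⟨hzK.1, hzK.2.1, hzK.2.2, hK.1, hK.2⟩
  have hcard : Nat.card (↥(img zJ J) ⧸ center ↥(img zJ J)) =
      Nat.card (↥(img zK K) ⧸ center ↥(img zK K)) := by
    have h1 := cJ.isUQ.card_quotient_mul
    have h2 := cK.isUQ.card_quotient_mul
    rw [cJ.card_img] at h1
    rw [cK.card_img] at h2
    have h3 : Nat.card (↥J ⧸ oddCore ↥J) = Nat.card (↥K ⧸ oddCore ↥K) := by
      rcases htype with ⟨F, _, _, -, ⟨e⟩, ⟨e'⟩⟩ | ⟨⟨hc, ⟨e⟩, -⟩, ⟨hc', ⟨e'⟩, -⟩⟩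
      · exact Nat.card_congr (e.trans e'.symm).toEquiv
      · rw [Subgroup.card_eq_card_quotient_mul_card_subgroup (center (↥J ⧸ oddCore ↥J)),
          Subgroup.card_eq_card_quotient_mul_card_subgroup (center (↥K ⧸ oddCore ↥K)), hc, hc',
          Nat.card_congr (e.trans e'.symm).toEquiv]
    omega
  refine ⟨fun y hy hP h4 hcomm => ?_, fun hn => ?_⟩
  · have hy2 : ∃ k : ℕ, y ^ 2 ^ k = 1 := by
      obtain ⟨k, hk⟩ := hP ⟨y, mem_zpowers y⟩
      exact ⟨k, congrArg Subtype.val hk⟩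
    have hyA : y ∈ centralizer ({zJ} : Set G) := mem_centralizer_singleton_iff.2 hcomm
    by_cases hz : zJ = zK
    · subst hz
      exact same_normalizes cJ cK hy
    have hyy : y * y ≠ 1 := fun h => by
      have := Nat.le_of_dvd two_pos (orderOf_dvd_of_pow_eq_one (n := 2) (x := y) (by rw [sq, h]))
      omega
    obtain ⟨k, hk⟩ := hy2
    obtain ⟨m, -, hm⟩ := (Nat.dvd_prime_pow Nat.prime_two).1 (orderOf_dvd_of_pow_eq_one hk)
    have hzy : zK = y ^ 2 ^ (m - 1) := by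
      have hm1 : 1 ≤ m := by
        by_contra h0
        rw [show m = 0 by omega, pow_zero] at hm
        omega
      refine (hzK.2.2 _ (pow_mem hy _) ?_).symm
      rw [orderOf_pow_of_dvd (by positivity) (hm ▸ pow_dvd_pow 2 (by omega)), hm,
        Nat.pow_div (by omega) two_pos, show m - (m - 1) = 1 by omega, pow_one]
    have p : Pair zJ J zK K := ⟨cJ, cK, hzy ▸ pow_mem hyA _, hz⟩
    exact p.normalizes_of_four hy ⟨k, hk⟩ hyy hyA
  · have hc : zJ ∈ centralizer ({zK} : Set G) := cK.fixes_involution hn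
    by_cases hz : zJ = zK
    · subst hz
      exact le_normalizer hzJ.1
    have p : Pair zJ J zK K :=
      ⟨cJ, cK, mem_centralizer_singleton_iff.2 (mem_centralizer_singleton_iff.1 hc).symm, hz⟩
    exact p.zB_normalizes_of_zA hn hcard

end Cfsg.Agent.S1315
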