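import Cfsg.Statements.S1316
import Cfsg.Agent.Lib.Components.FStar
-- import your own Cfsg.Agent.* helpers here

set_option autoImplicit false
open Cfsg

namespace Cfsg.Agent.S1316

/-- For a finite group X, E(X) equals the intersection of the derived series of F*(X) (its last term). -/
theorem result {X : Type*} [Group X] [Finite X] : (⨅ n : ℕ, (derivedSeries ↥(Cfsg.generalizedFittingSubgroup X) n).map (Cfsg.generalizedFittingSubgroup X).subtype) = Cfsg.layer X := by
  set F := Cfsg.generalizedFittingSubgroup X with hF
  apply le_antisymm
  · let h : ↥F →* X ⧸ Cfsg.layer X := (QuotientGroup.mk' (Cfsg.layer X)).comp F.subtype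
    have hrange : h.range = (Cfsg.fittingSubgroup X).map (QuotientGroup.mk' (Cfsg.layer X)) := by
      rw [MonoidHom.range_comp, Subgroup.range_subtype, hF, Cfsg.generalizedFittingSubgroup,
        Subgroup.map_sup, QuotientGroup.map_mk'_self, bot_sup_eq]
    haveI := CfsgLib.Components.isSolvable_fitting (G := X)
    have hsol : Group.IsSolvable ↥h.range := by
      rw [hrange]
      exact Group.isSolvable_of_surjective
        ((QuotientGroup.mk' (Cfsg.layer X)).subgroupMap_surjective _)
    obtain ⟨n, hn⟩ := (Group.isSolvable_def _).mp hsol
    refine iInf_le_of_le n ?_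
    rintro _ ⟨y, hy, rfl⟩
    have hy' : h.rangeRestrict y ∈ derivedSeries ↥h.range n :=
      map_derivedSeries_le_derivedSeries h.rangeRestrict n ⟨y, hy, rfl⟩
    rw [hn, Subgroup.mem_bot] at hy'
    exact (QuotientGroup.eq_one_iff (y : X)).mp (congrArg Subtype.val hy')
  · refine le_iInf fun n => ?_
    induction n with
    | zero =>
      rw [derivedSeries_zero, ← MonoidHom.range_eq_map, Subgroup.range_subtype]
      exact CfsgLib.Components.layer_le_fstar
    | succ n ih =>
      rw [derivedSeries_succ, Subgroup.map_commutator]
      exact CfsgLib.Components.layer_commutator_self.ge.trans (Subgroup.commutator_mono ih ih)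

end Cfsg.Agent.S1316
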