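import Cfsg.Statements.S1321
import Cfsg.Agent.Lib.Components.Basic
-- import your own Cfsg.Agent.* helpers here

set_option autoImplicit false
open Cfsg

namespace Cfsg.Agent.S1321

/-- Let X be finite and U ≤ X. Then E(X) is generated by C_{E(X)}(U) together with ⁅E(X), U⁆ (indeed it is their product, ⁅E(X), U⁆ being normal in E(X)). -/
theorem result {X : Type*} [Group X] [Finite X] (U : Subgroup X) : Cfsg.layer X = (Cfsg.layer X ⊓ Subgroup.centralizer (U : Set X)) ⊔ ⁅Cfsg.layer X, U⁆ ∧ ⁅Cfsg.layer X, U⁆ ≤ Cfsg.layer X := by
  set E := Cfsg.layer X with hE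
  set N := ⁅E, U⁆ with hN
  haveI hEn : E.Normal := CfsgLib.Components.layer_normal
  have hNE : N ≤ E := Subgroup.commutator_le_left E U
  have hNn : (N.subgroupOf E).Normal :=
    Subgroup.normal_subgroupOf_of_le_normalizer (Subgroup.normalizer_commutator_ge_left E U)
  have hNs : N.IsSubnormal := by
    have := hNn.isSubnormal
    rw [← Subgroup.map_subgroupOf_eq_of_le hNE]
    exact (CfsgLib.Components.isSubnormal_map_subtype_iff hEn.isSubnormal _).mpr this
  refine ⟨le_antisymm (CfsgLib.Components.layer_le_iff.mpr fun K hK => ?_)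
    (sup_le inf_le_left hNE), hNE⟩
  rcases CfsgLib.Components.component_le_or_commutator_eq_bot hK hNs with h | h
  · exact h.trans le_sup_right
  · refine le_trans (le_inf (CfsgLib.Components.component_le_layer hK) ?_) le_sup_left
    rw [← Subgroup.commutator_eq_bot_iff_le_centralizer]
    refine CfsgLib.Components.commutator_eq_bot_of_perfect
      (CfsgLib.Components.component_commutator_self hK) ?_
    rw [eq_bot_iff, ← h, Subgroup.commutator_comm K N]
    exact Subgroup.commutator_mono
      (Subgroup.commutator_mono (CfsgLib.Components.component_le_layer hK) le_rfl) le_rfl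

end Cfsg.Agent.S1321
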