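import Cfsg.Statements.S1323
import Mathlib
import Cfsg.Agent.Lib.Components.Basic

set_option autoImplicit false
open Cfsg

namespace Cfsg.Agent.S1323

theorem double_swap_sq {α : Type*} [DecidableEq α] {a b c d : α} (h1 : a ≠ c) (h2 : a ≠ d) (h3 : b ≠ c)
    (h4 : b ≠ d) : Equiv.swap a b * Equiv.swap c d * (Equiv.swap a b * Equiv.swap c d) = 1 := by
  have h : Equiv.swap a b * Equiv.swap c d = Equiv.swap c d * Equiv.swap a b := by
    rw [Equiv.mul_swap_eq_swap_mul, Equiv.swap_apply_of_ne_of_ne h1.symm h3.symm,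
      Equiv.swap_apply_of_ne_of_ne h2.symm h4.symm]
  conv_lhs => arg 2; rw [h]
  rw [← mul_assoc, mul_assoc (Equiv.swap a b), Equiv.swap_mul_self, mul_one, Equiv.swap_mul_self]

/-- For n ≥ 9, the subgroup of the alternating group on Fin n fixing each of the points 0, 1, 2, 3 is a standard subgroup. -/
theorem result (n : ℕ) (h4 : 4 ≤ n) (hn : 9 ≤ n) : Cfsg.IsStandardSubgroup (⨅ i : Fin 4, MulAction.stabilizer ↥(alternatingGroup (Fin n)) (Fin.castLE h4 i : Fin n)) := by
  classical
  set L := ⨅ i : Fin 4, MulAction.stabilizer ↥(alternatingGroup (Fin n)) (Fin.castLE h4 i : Fin n) with hL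
  have memL : ∀ g : ↥(alternatingGroup (Fin n)), g ∈ L ↔ ∀ x : Fin n, x.val < 4 → (g : Equiv.Perm (Fin n)) x = x := by
    intro g
    simp only [hL, Subgroup.mem_iInf, MulAction.mem_stabilizer_iff]
    exact ⟨fun h x hx => h ⟨x.val, hx⟩, fun h i => h _ i.isLt⟩
  -- the free points
  have hScard : Nat.card {x : Fin n // 4 ≤ x.val} = n - 4 := by
    have e : {x : Fin n // 4 ≤ x.val} ≃ Fin (n - 4) :=
      { toFun := fun x => ⟨x.1.val - 4, by have := x.1.isLt; have := x.2; omega⟩
        invFun := fun i => ⟨⟨i.val + 4, by have := i.isLt; omega⟩, by simp⟩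
        left_inv := fun x => Subtype.ext (Fin.ext (Nat.sub_add_cancel x.2))
        right_inv := fun i => Fin.ext (Nat.add_sub_cancel _ _) }
    rw [Nat.card_congr e, Nat.card_fin]
  have hpick : ∀ a b : Fin n, ∃ y z : Fin n, 4 ≤ y.val ∧ 4 ≤ z.val ∧ y ≠ a ∧ y ≠ b ∧ z ≠ a ∧ z ≠ b ∧ y ≠ z := by
    intro a b
    have h : 2 ≤ ((Finset.univ.filter fun x : Fin n => 4 ≤ x.val) \ {a, b}).card := by
      have h1 := Finset.le_card_sdiff {a, b} (Finset.univ.filter fun x : Fin n => 4 ≤ x.val)
      have h2 : (Finset.univ.filter fun x : Fin n => 4 ≤ x.val).card = n - 4 := by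
        rw [← Fintype.card_subtype, ← Nat.card_eq_fintype_card, hScard]
      have h3 := Finset.card_le_two (a := a) (b := b)
      omega
    obtain ⟨y, hy, z, hz, hyz⟩ := Finset.one_lt_card.1 h
    simp only [Finset.mem_sdiff, Finset.mem_filter, Finset.mem_univ, true_and, Finset.mem_insert,
      Finset.mem_singleton, not_or] at hy hz
    exact ⟨y, z, hy.1, hz.1, hy.2.1, hy.2.2, hz.2.1, hz.2.2, hyz⟩
  -- three-cycles on free points
  have hcyc : ∀ x y z : Fin n, 4 ≤ x.val → 4 ≤ y.val → 4 ≤ z.val → x ≠ y → x ≠ z → y ≠ z →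
      ∃ c ∈ L, (c : Equiv.Perm (Fin n)) x = y ∧ ∀ w, w ≠ x → w ≠ y → w ≠ z → (c : Equiv.Perm (Fin n)) w = w := by
    intro x y z hx hy hz hxy hxz hyz
    refine ⟨⟨Equiv.swap x z * Equiv.swap x y, ?_⟩, ?_, ?_, ?_⟩
    · rw [Equiv.Perm.mem_alternatingGroup, map_mul, Equiv.Perm.sign_swap hxy, Equiv.Perm.sign_swap hxz]; decide
    · rw [memL]
      intro w hw
      have h1 : w ≠ x := fun e => by subst e; omega
      have h2 : w ≠ y := fun e => by subst e; omega
      have h3 : w ≠ z := fun e => by subst e; omega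
      show Equiv.swap x z (Equiv.swap x y w) = w
      rw [Equiv.swap_apply_of_ne_of_ne h1 h2, Equiv.swap_apply_of_ne_of_ne h1 h3]
    · show Equiv.swap x z (Equiv.swap x y x) = y
      rw [Equiv.swap_apply_left, Equiv.swap_apply_of_ne_of_ne hxy.symm hyz]
    · intro w h1 h2 h3
      show Equiv.swap x z (Equiv.swap x y w) = w
      rw [Equiv.swap_apply_of_ne_of_ne h1 h2, Equiv.swap_apply_of_ne_of_ne h1 h3]
  -- the centralizer
  have memK : ∀ g : ↥(alternatingGroup (Fin n)), g ∈ Subgroup.centralizer (L : Set ↥(alternatingGroup (Fin n))) ↔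
      ∀ x : Fin n, 4 ≤ x.val → (g : Equiv.Perm (Fin n)) x = x := by
    intro g
    constructor
    · intro hg x hx
      by_contra hne
      obtain ⟨y, z, hy, hz, hyx, hyg, hzx, hzg, hyz⟩ := hpick x ((g : Equiv.Perm (Fin n)) x)
      obtain ⟨c, hc, hcx, hcw⟩ := hcyc x y z hx hy hz hyx.symm hzx.symm hyz
      have h := DFunLike.congr_fun (congrArg Subtype.val (Subgroup.mem_centralizer_iff.1 hg c hc)) x
      simp only [Subgroup.coe_mul, Equiv.Perm.mul_apply] at h
      rw [hcx, hcw _ hne hyg.symm hzg.symm] at h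
      exact hyx ((g : Equiv.Perm (Fin n)).injective h.symm)
    · intro hg
      rw [Subgroup.mem_centralizer_iff]
      intro c hc
      refine Subtype.ext (Equiv.ext fun w => ?_)
      simp only [Subgroup.coe_mul, Equiv.Perm.mul_apply]
      rcases Nat.lt_or_ge w.val 4 with hw | hw
      · rw [(memL c).1 hc w hw]
        apply (memL c).1 hc
        by_contra hgw
        have h1 := hg ((g : Equiv.Perm (Fin n)) w) (by omega)
        have := (g : Equiv.Perm (Fin n)).injective h1
        rw [this] at hgw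
        omega
      · rw [hg w hw]
        refine (hg _ ?_).symm
        by_contra hcw
        have h1 := (memL c).1 hc ((c : Equiv.Perm (Fin n)) w) (by omega)
        have := (c : Equiv.Perm (Fin n)).injective h1
        rw [this] at hcw
        omega
  -- double transpositions on the four points
  have hdt : ∀ a : Fin n, a.val < 4 → ∀ b c d : Fin n, b.val < 4 → c.val < 4 → d.val < 4 → a ≠ b → c ≠ d → a ≠ c → a ≠ d →
      ∃ k ∈ Subgroup.centralizer (L : Set ↥(alternatingGroup (Fin n))), (k : Equiv.Perm (Fin n)) a ≠ a := by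
    intro a ha b c d hb hc hd hab hcd hac had
    refine ⟨⟨Equiv.swap a b * Equiv.swap c d, ?_⟩, ?_, ?_⟩
    · rw [Equiv.Perm.mem_alternatingGroup, map_mul, Equiv.Perm.sign_swap hab, Equiv.Perm.sign_swap hcd]; decide
    · rw [memK]
      intro x hx
      have e1 : x ≠ a := fun e => by subst e; omega
      have e2 : x ≠ b := fun e => by subst e; omega
      have e3 : x ≠ c := fun e => by subst e; omega
      have e4 : x ≠ d := fun e => by subst e; omega
      show Equiv.swap a b (Equiv.swap c d x) = x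
      rw [Equiv.swap_apply_of_ne_of_ne e3 e4, Equiv.swap_apply_of_ne_of_ne e1 e2]
    · show Equiv.swap a b (Equiv.swap c d a) ≠ a
      rw [Equiv.swap_apply_of_ne_of_ne hac had, Equiv.swap_apply_left]
      exact hab.symm
  have hmove : ∀ a : Fin n, a.val < 4 → ∃ k ∈ Subgroup.centralizer (L : Set ↥(alternatingGroup (Fin n))), (k : Equiv.Perm (Fin n)) a ≠ a := by
    intro a ha
    refine hdt a ha ⟨(a.val + 1) % 4, by omega⟩ ⟨(a.val + 2) % 4, by omega⟩ ⟨(a.val + 3) % 4, by omega⟩
      (Nat.mod_lt _ (by omega)) (Nat.mod_lt _ (by omega)) (Nat.mod_lt _ (by omega)) ?_ ?_ ?_ ?_ <;>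
      (simp only [ne_eq, Fin.ext_iff]; omega)
  -- normalizers
  have hconj : ∀ (g k : ↥(alternatingGroup (Fin n))) (x : Fin n),
      (↑(g * k * g⁻¹) : Equiv.Perm (Fin n)) ((g : Equiv.Perm (Fin n)) x) = (g : Equiv.Perm (Fin n)) ((k : Equiv.Perm (Fin n)) x) := by
    intro g k x
    simp
  have hinv : ∀ (g : ↥(alternatingGroup (Fin n))), (∀ x : Fin n, x.val < 4 → ((g : Equiv.Perm (Fin n)) x).val < 4) →
      ∀ x : Fin n, ((g : Equiv.Perm (Fin n)) x).val < 4 ↔ x.val < 4 := by
    intro g hg x
    refine ⟨fun hx => ?_, hg x⟩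
    have hsub : (Finset.univ.filter fun y : Fin n => y.val < 4).image (g : Equiv.Perm (Fin n)) = Finset.univ.filter fun y : Fin n => y.val < 4 := by
      apply Finset.eq_of_subset_of_card_le
      · intro y hy
        obtain ⟨w, hw, rfl⟩ := Finset.mem_image.1 hy
        exact Finset.mem_filter.2 ⟨Finset.mem_univ _, hg w (Finset.mem_filter.1 hw).2⟩
      · rw [Finset.card_image_of_injective _ (g : Equiv.Perm (Fin n)).injective]
    have hm : (g : Equiv.Perm (Fin n)) x ∈ Finset.univ.filter fun y : Fin n => y.val < 4 := Finset.mem_filter.2 ⟨Finset.mem_univ _, hx⟩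
    rw [← hsub] at hm
    obtain ⟨w, hw, hwx⟩ := Finset.mem_image.1 hm
    exact (g : Equiv.Perm (Fin n)).injective hwx ▸ (Finset.mem_filter.1 hw).2
  have hnorm : ∀ g : ↥(alternatingGroup (Fin n)), (∀ x : Fin n, x.val < 4 → ((g : Equiv.Perm (Fin n)) x).val < 4) →
      g ∈ Subgroup.normalizer (L : Set ↥(alternatingGroup (Fin n))) ∧
      g ∈ Subgroup.normalizer (Subgroup.centralizer (L : Set ↥(alternatingGroup (Fin n))) : Set ↥(alternatingGroup (Fin n))) := by
    intro g hg
    have hi := hinv g hg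
    constructor
    · rw [Subgroup.mem_normalizer_iff]
      intro k
      rw [memL, memL]
      constructor
      · intro h y hy
        obtain ⟨x, rfl⟩ := (g : Equiv.Perm (Fin n)).surjective y
        rw [hconj, h x ((hi x).1 hy)]
      · intro h x hx
        have h' := h _ ((hi x).2 hx)
        rw [hconj] at h'
        exact (g : Equiv.Perm (Fin n)).injective h'
    · rw [Subgroup.mem_normalizer_iff]
      intro k
      rw [memK, memK]
      constructor
      · intro h y hy
        obtain ⟨x, rfl⟩ := (g : Equiv.Perm (Fin n)).surjective y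
        rw [hconj, h x (by have := hi x; omega)]
      · intro h x hx
        have h' := h _ (show 4 ≤ ((g : Equiv.Perm (Fin n)) x).val by have := hi x; omega)
        rw [hconj] at h'
        exact (g : Equiv.Perm (Fin n)).injective h'
  have hnormK : ∀ g : ↥(alternatingGroup (Fin n)),
      g ∈ Subgroup.normalizer (Subgroup.centralizer (L : Set ↥(alternatingGroup (Fin n))) : Set ↥(alternatingGroup (Fin n))) →
      ∀ x : Fin n, x.val < 4 → ((g : Equiv.Perm (Fin n)) x).val < 4 := by
    intro g hg x hx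
    by_contra hgx
    obtain ⟨k, hk, hkx⟩ := hmove x hx
    have h := (memK _).1 ((Subgroup.mem_normalizer_iff.1 hg k).1 hk) _ (show 4 ≤ ((g : Equiv.Perm (Fin n)) x).val by omega)
    rw [hconj] at h
    exact hkx ((g : Equiv.Perm (Fin n)).injective h)
  refine ⟨?_, ⟨?_, ?_⟩, ?_, ?_⟩
  · -- quasisimple
    let f : ↥(alternatingGroup {x : Fin n // 4 ≤ x.val}) →* ↥L :=
      { toFun := fun s => ⟨⟨Equiv.Perm.ofSubtype (s : Equiv.Perm {x : Fin n // 4 ≤ x.val}), by
            rw [Equiv.Perm.mem_alternatingGroup, Equiv.Perm.sign_ofSubtype]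
            exact Equiv.Perm.mem_alternatingGroup.1 s.2⟩, (memL _).2 fun x hx =>
            Equiv.Perm.ofSubtype_apply_of_not_mem _ (by omega)⟩
        map_one' := Subtype.ext (Subtype.ext (map_one _))
        map_mul' := fun s t => Subtype.ext (Subtype.ext (map_mul _ _ _)) }
    have hf : Function.Bijective f := by
      constructor
      · intro s t h
        exact Subtype.ext (Equiv.Perm.ofSubtype_injective (congrArg (fun z : ↥L => ((z : ↥(alternatingGroup (Fin n))) : Equiv.Perm (Fin n))) h))
      · rintro ⟨⟨σ, hσ⟩, hσL⟩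
        have hfix := (memL _).1 hσL
        have h1 : ∀ x : Fin n, 4 ≤ (σ x).val ↔ 4 ≤ x.val := by
          intro x
          constructor
          · intro h
            by_contra hx
            rw [show σ x = x from hfix x (by omega)] at h
            exact hx h
          · intro h
            by_contra hx
            have := σ.injective (hfix (σ x) (by omega))
            rw [this] at hx
            exact hx h
        have h2 : ∀ x, σ x ≠ x → 4 ≤ x.val := fun x hx => by
          by_contra h
          exact hx (hfix x (by omega))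
        refine ⟨⟨σ.subtypePerm h1, ?_⟩, ?_⟩
        · rw [Equiv.Perm.mem_alternatingGroup, Equiv.Perm.sign_subtypePerm _ h1 h2]
          exact Equiv.Perm.mem_alternatingGroup.1 hσ
        · exact Subtype.ext (Subtype.ext (Equiv.Perm.ofSubtype_subtypePerm h1 h2))
    have h5 : 5 ≤ Nat.card {x : Fin n // 4 ≤ x.val} := by omega
    haveI : IsSimpleGroup ↥(alternatingGroup {x : Fin n // 4 ≤ x.val}) := alternatingGroup.isSimpleGroup h5
    refine CfsgLib.Components.isQuasisimple_of_mulEquiv (MulEquiv.ofBijective f hf)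
      (CfsgLib.Components.isQuasisimple_of_isSimpleGroup fun hc => ?_)
    obtain ⟨y, z, hy, hz, -, -, -, -, hyz⟩ := hpick ⟨0, by omega⟩ ⟨0, by omega⟩
    obtain ⟨u, v, hu, hv, huy, huz, hvy, hvz, huv⟩ := hpick y z
    obtain ⟨c, hc', hcy, -⟩ := hcyc y z u hy hz hu hyz huy.symm huz.symm
    obtain ⟨d, hd', hdy, hdw⟩ := hcyc y u v hy hu hv huy.symm hvy.symm huv
    obtain ⟨c', hcc⟩ := hf.2 ⟨c, hc'⟩
    obtain ⟨d', hdd⟩ := hf.2 ⟨d, hd'⟩
    have h := congrArg f (hc.is_comm.comm c' d')
    rw [map_mul, map_mul, hcc, hdd] at h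
    have h' := DFunLike.congr_fun (congrArg (fun w : ↥L => ((w : ↥(alternatingGroup (Fin n))) : Equiv.Perm (Fin n))) h) y
    simp only [Subgroup.coe_mul, Equiv.Perm.mul_apply] at h'
    rw [hdy, hcy, hdw z hyz.symm huz.symm hvz.symm] at h'
    -- c u = z contradicts c y = z
    exact huy ((c : Equiv.Perm (Fin n)).injective (h'.trans hcy.symm))
  · -- even
    have hmem : (⟨Equiv.swap ⟨0, by omega⟩ ⟨1, by omega⟩ * Equiv.swap ⟨2, by omega⟩ ⟨3, by omega⟩, by
        rw [Equiv.Perm.mem_alternatingGroup, map_mul, Equiv.Perm.sign_swap (fun h => absurd (congrArg Fin.val h) (by simp)),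
          Equiv.Perm.sign_swap (fun h => absurd (congrArg Fin.val h) (by simp))]
        decide⟩ : ↥(alternatingGroup (Fin n))) ∈ Subgroup.centralizer (L : Set ↥(alternatingGroup (Fin n))) := by
      rw [memK]
      intro x hx
      show Equiv.swap _ _ (Equiv.swap _ _ x) = x
      rw [Equiv.swap_apply_of_ne_of_ne (a := (⟨2, by omega⟩ : Fin n)) (b := ⟨3, by omega⟩)
          (by simp only [ne_eq, Fin.ext_iff]; omega) (by simp only [ne_eq, Fin.ext_iff]; omega),
        Equiv.swap_apply_of_ne_of_ne (by simp only [ne_eq, Fin.ext_iff]; omega) (by simp only [ne_eq, Fin.ext_iff]; omega)]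
    rw [even_iff_two_dvd]
    refine dvd_trans ?_ (Subgroup.orderOf_dvd_natCard _ hmem)
    refine Eq.dvd (orderOf_eq_prime ?_ ?_).symm
    · refine Subtype.ext ?_
      simp only [sq, Subgroup.coe_mul, Subgroup.coe_one]
      exact double_swap_sq (by simp [Fin.ext_iff]) (by simp [Fin.ext_iff]) (by simp [Fin.ext_iff]) (by simp [Fin.ext_iff])
    · intro h
      have h' := DFunLike.congr_fun (congrArg Subtype.val h) (⟨0, by omega⟩ : Fin n)
      simp [Equiv.swap_apply_def, Fin.ext_iff] at h'
  · -- tight embedding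
    intro g hg
    obtain ⟨x, hx, hgx⟩ : ∃ x : Fin n, x.val < 4 ∧ 4 ≤ ((g : Equiv.Perm (Fin n)) x).val := by
      by_contra hno
      push_neg at hno
      exact hg (hnorm g hno).2
    rw [← Nat.not_even_iff_odd, even_iff_two_dvd]
    intro h2
    obtain ⟨k, hk⟩ := exists_prime_orderOf_dvd_card' (p := 2) h2
    obtain ⟨hk1, hk2⟩ := Subgroup.mem_inf.1 k.2
    obtain ⟨m, hm, hmk⟩ := Subgroup.mem_map.1 hk2
    have hmv : ((k : ↥(alternatingGroup (Fin n))) : Equiv.Perm (Fin n)) ∈ alternatingGroup (Fin n) := (k : ↥(alternatingGroup (Fin n))).2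
    set σ := ((k : ↥(alternatingGroup (Fin n))) : Equiv.Perm (Fin n)) with hσ
    have ho : orderOf σ = 2 := by rw [hσ, Subgroup.orderOf_coe, Subgroup.orderOf_coe, hk]
    obtain ⟨x', hx', hx'4⟩ : ∃ x' : Fin n, 4 ≤ x'.val ∧ ((g : Equiv.Perm (Fin n)) x').val < 4 := by
      by_contra hno
      push_neg at hno
      have := hinv g⁻¹ (fun y hy => by
        by_contra hh
        have h := hno (((g⁻¹ : ↥(alternatingGroup (Fin n))) : Equiv.Perm (Fin n)) y) (by omega)
        simp at h
        omega) ((g : Equiv.Perm (Fin n)) x)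
      simp at this
      omega
    have hsupp : σ.support ⊆ (Finset.univ.filter fun y : Fin n => y.val < 4).erase ((g : Equiv.Perm (Fin n)) x') := by
      intro y hy
      rw [Equiv.Perm.mem_support] at hy
      refine Finset.mem_erase.2 ⟨fun e => hy ?_, Finset.mem_filter.2 ⟨Finset.mem_univ _, ?_⟩⟩
      · subst e
        rw [hσ, ← hmk]
        show (↑(g * m * g⁻¹) : Equiv.Perm (Fin n)) _ = _
        rw [hconj, (memK m).1 hm x' hx']
      · by_contra hh
        exact hy ((memK _).1 hk1 y (by omega))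
    have hc3 : σ.support.card ≤ 3 := by
      refine (Finset.card_le_card hsupp).trans ?_
      have hmem' : (g : Equiv.Perm (Fin n)) x' ∈ Finset.univ.filter fun y : Fin n => y.val < 4 :=
        Finset.mem_filter.2 ⟨Finset.mem_univ _, hx'4⟩
      rw [Finset.card_erase_of_mem hmem']
      have h4' : (Finset.univ.filter fun y : Fin n => y.val < 4).card ≤ (Finset.univ : Finset (Fin 4)).card := by
        refine Finset.card_le_card_of_injOn (fun y => ⟨y.val % 4, Nat.mod_lt _ (by omega)⟩) (fun y _ => Finset.mem_univ _) ?_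
        intro y hy z hz h
        simp only [Finset.coe_filter, Finset.mem_univ, true_and, Set.mem_setOf_eq] at hy hz
        simp only [Fin.ext_iff] at h
        exact Fin.ext (by omega)
      rw [Finset.card_univ, Fintype.card_fin] at h4'
      omega
    obtain ⟨r, hr⟩ := Equiv.Perm.cycleType_prime_order (σ := σ) (by rw [ho]; exact Nat.prime_two)
    have hsum := σ.sum_cycleType
    have hsign := σ.sign_of_cycleType
    rw [hr, ho] at hsum hsign
    rw [Multiset.sum_replicate, smul_eq_mul] at hsum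
    have hr0 : r = 0 := by omega
    subst hr0
    rw [Equiv.Perm.mem_alternatingGroup.1 hmv] at hsign
    exact absurd hsign (by decide)
  · -- conjugates never commute
    intro g _ hcomm
    rw [Subgroup.commutator_eq_bot_iff_le_centralizer, Subgroup.le_centralizer_iff] at hcomm
    obtain ⟨x, hx, hgx⟩ : ∃ x : Fin n, 4 ≤ x.val ∧ 4 ≤ ((g : Equiv.Perm (Fin n)) x).val := by
      by_contra hno
      push_neg at hno
      have h := Finset.card_le_card_of_injOn (s := (Finset.univ : Finset {x : Fin n // 4 ≤ x.val}))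
        (t := (Finset.univ : Finset (Fin 4))) (fun w => ⟨((g : Equiv.Perm (Fin n)) w.1).val, hno w.1 w.2⟩)
        (fun w _ => Finset.mem_univ _) (fun w _ z _ h => Subtype.ext ((g : Equiv.Perm (Fin n)).injective (Fin.ext (congrArg Fin.val h :))))
      rw [Finset.card_univ, Finset.card_univ, Fintype.card_fin, ← Nat.card_eq_fintype_card, hScard] at h
      omega
    obtain ⟨y, z, hy, hz, hyx, -, hzx, -, hyz⟩ := hpick x x
    obtain ⟨c, hc, hcx, -⟩ := hcyc x y z hx hy hz hyx.symm hzx.symm hyz
    have h := (memK _).1 (hcomm (Subgroup.mem_map_of_mem _ hc)) _ hgx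
    change (↑(g * c * g⁻¹) : Equiv.Perm (Fin n)) _ = _ at h
    rw [hconj, hcx] at h
    exact hyx ((g : Equiv.Perm (Fin n)).injective h)
  · -- normalizers agree
    refine le_antisymm ?_ fun g hg => (hnorm g (hnormK g hg)).1
    intro g hg
    rw [Subgroup.mem_normalizer_iff]
    intro k
    have hmem : ∀ (u : ↥(alternatingGroup (Fin n))), u ∈ Subgroup.normalizer (L : Set ↥(alternatingGroup (Fin n))) →
        ∀ k, k ∈ Subgroup.centralizer (L : Set ↥(alternatingGroup (Fin n))) → u * k * u⁻¹ ∈ Subgroup.centralizer (L : Set ↥(alternatingGroup (Fin n))) := by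
      intro u hu k hk
      rw [Subgroup.mem_centralizer_iff]
      intro l hl
      have h := Subgroup.mem_centralizer_iff.1 hk (u⁻¹ * l * u) (by
        have := (Subgroup.mem_normalizer_iff.1 (inv_mem hu) l).1 hl
        rwa [inv_inv] at this)
      calc l * (u * k * u⁻¹) = u * ((u⁻¹ * l * u) * k) * u⁻¹ := by group
        _ = u * (k * (u⁻¹ * l * u)) * u⁻¹ := by rw [h]
        _ = u * k * u⁻¹ * l := by group
    refine ⟨hmem g hg k, fun h => ?_⟩
    have h' := hmem g⁻¹ (inv_mem hg) _ h
    simpa [mul_assoc] using h'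

end Cfsg.Agent.S1323
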