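import Cfsg.Statements.S1328
import Cfsg.Agent.Lib.Components.BalanceCriterion
-- import your own Cfsg.Agent.* helpers here

set_option autoImplicit false
open Cfsg
open scoped commutatorElement Pointwise

namespace Cfsg.Agent.S1328

/-- Let G be finite, H ≤ G with O(H) = 1, t an involution of G normalizing H, and Y a nontrivial subgroup of O(C_H(t)). Then some component E of H is normalized by t and by Y and centralized by neither t nor Y. -/
theorem result {G : Type*} [Group G] [Finite G] (H : Subgroup G) (hO : Cfsg.oddCore ↥H = ⊥) (t : G) (ht : orderOf t = 2) (htH : t ∈ Subgroup.normalizer (H : Set G)) (Y : Subgroup G) (hY1 : Y ≠ ⊥) (hY : Y ≤ (Cfsg.oddCore ↥(H ⊓ Subgroup.centralizer ({t} : Set G))).map (H ⊓ Subgroup.centralizer ({t} : Set G)).subtype) : ∃ E : Subgroup ↥H, Cfsg.IsComponent E ∧ (E.map H.subtype).map (MulAut.conj t).toMonoidHom = E.map H.subtype ∧ Y ≤ Subgroup.normalizer ((E.map H.subtype : Subgroup G) : Set G) ∧ ¬ (t ∈ Subgroup.centralizer ((E.map H.subtype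 : Subgroup G) : Set G)) ∧ ¬ (Y ≤ Subgroup.centralizer ((E.map H.subtype : Subgroup G) : Set G)) := by
  classical
  haveI : Fact (Nat.Prime 2) := ⟨Nat.prime_two⟩
  set X := H ⊔ Subgroup.zpowers t with hX
  have hHX : H ≤ X := le_sup_left
  have htX : t ∈ X := Subgroup.mem_sup_right (Subgroup.mem_zpowers t)
  have htp : IsPGroup 2 ↥(Subgroup.zpowers t) :=
    IsPGroup.of_card (n := 1) (by rw [Nat.card_zpowers, ht, pow_one])
  have hXN : X ≤ Subgroup.normalizer (H : Set G) :=
    sup_le Subgroup.le_normalizer (Subgroup.zpowers_le.mpr htH)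
  haveI hHn : (H.subgroupOf X).Normal := Subgroup.normal_subgroupOf_of_le_normalizer hXN
  set q := QuotientGroup.mk' (H.subgroupOf X) with hq
  have hsurj : ∀ g : ↥X, ∃ k : ℤ, q g = q ⟨t, htX⟩ ^ k := by
    intro g
    have hg : (g : G) ∈ (((H : Subgroup G) : Set G) * (Subgroup.zpowers t : Set G)) := by
      rw [← Subgroup.coe_mul_of_right_le_normalizer_left H (Subgroup.zpowers t)
        (Subgroup.zpowers_le.mpr htH)]
      exact g.2
    obtain ⟨a, ha, b, hb, hab⟩ := Set.mem_mul.mp hg
    obtain ⟨k, hk⟩ := Subgroup.mem_zpowers_iff.mp hb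
    refine ⟨k, ?_⟩
    have e : g = ⟨a, hHX ha⟩ * (⟨t, htX⟩ : ↥X) ^ k := Subtype.ext (by simp [hk, hab])
    conv_lhs => rw [e]
    rw [map_mul, map_zpow,
      show q ⟨a, hHX ha⟩ = 1 from (QuotientGroup.eq_one_iff (⟨a, hHX ha⟩ : ↥X)).mpr ha, one_mul]
  have hOX : Cfsg.pPrimeCore 2 ↥X = ⊥ := by
    have hle : Cfsg.pPrimeCore 2 ↥X ≤ H.subgroupOf X := by
      intro g hg
      rw [← QuotientGroup.eq_one_iff]
      have h2 : q g ^ 2 = 1 := by
        obtain ⟨k, hk⟩ := hsurj g
        show q g ^ 2 = 1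
        rw [hk, ← zpow_natCast, ← zpow_mul, mul_comm, zpow_mul, zpow_natCast, ← map_pow,
          show (⟨t, htX⟩ : ↥X) ^ 2 = 1 from Subtype.ext (by simpa [ht] using pow_orderOf_eq_one t),
          map_one, one_zpow]
      have hodd : Odd (orderOf g) := by
        have h := orderOf_dvd_natCard (⟨g, hg⟩ : ↥(Cfsg.pPrimeCore 2 ↥X))
        rw [Subgroup.orderOf_mk] at h
        exact (CfsgLib.Base.odd_card_oddCore ↥X).of_dvd_nat h
      have h3 : orderOf (q g) = 1 := Nat.eq_one_of_dvd_coprimes (Nat.coprime_two_left.mpr hodd)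
        (orderOf_dvd_of_pow_eq_one h2) (orderOf_map_dvd q g)
      exact orderOf_eq_one_iff.mp h3
    have h1 := CfsgLib.Base.map_pPrimeCore_eq_inf (p := 2) (H.subgroupOf X)
    rw [inf_of_le_left hle] at h1
    rw [← h1, show Cfsg.pPrimeCore 2 ↥(H.subgroupOf X) = ⊥ from ?_, Subgroup.map_bot]
    apply Subgroup.map_injective (f := (Subgroup.subgroupOfEquivOfLe hHX).toMonoidHom)
      (Subgroup.subgroupOfEquivOfLe hHX).injective
    rw [CfsgLib.Base.map_pPrimeCore_mulEquiv, Subgroup.map_bot]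
    exact hO
  set tX : ↥X := ⟨t, htX⟩ with htX'
  have htXo : orderOf tX = 2 := by rw [htX', Subgroup.orderOf_mk, ht]
  set Y₀ := Y.subgroupOf X with hY₀
  set C := Subgroup.centralizer ({t} : Set G)
  have hYHC : Y ≤ H ⊓ C := hY.trans (Subgroup.map_subtype_le _)
  have hYX : Y ≤ X := hYHC.trans (inf_le_left.trans hHX)
  have hYc : Y₀ ≤ Cfsg.centralizerPPrimeCore 2 tX := by
    set O₀ := (Cfsg.oddCore ↥(H ⊓ C)).map (H ⊓ C).subtype with hO₀
    refine le_trans (Subgroup.comap_mono (f := X.subtype) hY) ?_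
    refine CfsgLib.Base.le_map_pPrimeCore ?_ ?_ ?_
    · intro g hg
      exact Subgroup.mem_centralizer_singleton_iff.mpr
        (Subtype.ext (Subgroup.mem_centralizer_singleton_iff.mp
          (Subgroup.map_subtype_le _ hg : (g : G) ∈ H ⊓ C).2))
    · refine le_trans ?_ (Subgroup.le_normalizer_comap X.subtype)
      intro g hg
      refine CfsgLib.Base.normalizer_le_normalizer_map_subtype _ _ ?_
      have hgC : (g : G) ∈ C := Subgroup.mem_centralizer_singleton_iff.mpr
        (congrArg Subtype.val (Subgroup.mem_centralizer_singleton_iff.mp hg))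
      exact Subgroup.inf_normalizer_le_normalizer_inf
        ⟨hXN g.2, Subgroup.le_normalizer hgC⟩
    · show (Nat.card ↥(O₀.subgroupOf X)).Coprime 2
      rw [CfsgLib.Base.card_subgroupOf ((Subgroup.map_subtype_le _).trans
        ((inf_le_left : H ⊓ C ≤ H).trans hHX))]
      exact CfsgLib.Base.coprime_card_map_pPrimeCore _
  have hgood : ∃ E : Subgroup ↥X, Cfsg.IsComponent E ∧ ⁅E, Subgroup.zpowers tX⁆ = E ∧
      ¬ Y₀ ≤ Subgroup.centralizer (E : Set ↥X) := by
    by_contra hcon
    push Not at hcon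
    apply hY1
    have hR := (CfsgLib.Components.centralizerPPrimeCore_le_normalizer_zpowers (p := 2) tX).trans
      (CfsgLib.Components.map_pPrimeCore_normalizer_le_centralizer_pCore (p := 2)
        (IsPGroup.of_card (n := 1) (by rw [Nat.card_zpowers, htXo, pow_one])))
    have hE : Y₀ ≤ Subgroup.centralizer (Cfsg.layer ↥X : Set ↥X) := by
      rw [Subgroup.le_centralizer_iff]
      refine CfsgLib.Components.layer_le_iff.mpr fun E hE => Subgroup.le_centralizer_iff.mp ?_
      by_cases he : ⁅E, Subgroup.zpowers tX⁆ = E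
      · exact hcon E hE he
      · exact hYc.trans (Subgroup.le_centralizer_iff.mp
          (Subgroup.commutator_eq_bot_iff_le_centralizer.mp
            (CfsgLib.Components.component_commutator_centralizerPPrimeCore hOX htXo hE he)))
    have hF : Y₀ ≤ Cfsg.pCore 2 ↥X := by
      rw [← CfsgLib.Components.fitting_eq_pCore_of_pPrimeCore_eq_bot hOX]
      refine le_trans ?_ CfsgLib.Components.centralizer_fstar_le_fitting
      rw [Subgroup.le_centralizer_iff]
      refine sup_le (Subgroup.le_centralizer_iff.mp hE) ?_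
      rw [CfsgLib.Components.fitting_eq_pCore_of_pPrimeCore_eq_bot hOX]
      exact Subgroup.le_centralizer_iff.mp (hYc.trans hR)
    have hbot : Y₀ ≤ Cfsg.pCore 2 ↥X ⊓ Cfsg.centralizerPPrimeCore 2 tX := le_inf hF hYc
    rw [CfsgLib.Base.inf_eq_bot_of_isPGroup_of_coprime (K := Cfsg.centralizerPPrimeCore 2 tX)
      (CfsgLib.Base.isPGroup_pCore 2 ↥X) (CfsgLib.Base.coprime_card_map_pPrimeCore _),
      le_bot_iff] at hbot
    have := congrArg (Subgroup.map X.subtype) hbot
    rwa [Subgroup.map_subgroupOf_eq_of_le hYX, Subgroup.map_bot] at this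
  obtain ⟨E, hE, hEt, hEY⟩ := hgood
  have hEH : E ≤ H.subgroupOf X := by
    rcases CfsgLib.Components.component_le_or_commutator_eq_bot hE hHn.isSubnormal with h | h
    · exact h
    · intro g hg
      rw [← QuotientGroup.eq_one_iff]
      have hab : E.map q ≤ Subgroup.centralizer (E.map q : Set (↥X ⧸ H.subgroupOf X)) := by
        rintro _ ⟨a, -, rfl⟩
        refine Subgroup.mem_centralizer_iff.mpr ?_
        rintro _ ⟨b, -, rfl⟩
        obtain ⟨i, hi⟩ := hsurj a
        obtain ⟨j, hj⟩ := hsurj b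
        rw [hi, hj, ← zpow_add, ← zpow_add, add_comm]
      rw [← Subgroup.commutator_eq_bot_iff_le_centralizer, ← Subgroup.map_commutator,
        CfsgLib.Components.component_commutator_self hE] at hab
      exact (Subgroup.mem_bot).mp (hab ▸ ⟨g, hg, rfl⟩)
  set E₀ := E.map X.subtype with hE₀
  have hE₀H : E₀ ≤ H := by
    rintro _ ⟨g, hg, rfl⟩
    exact hEH hg
  have hEeq : (E₀.subgroupOf H).map H.subtype = E₀ := Subgroup.map_subgroupOf_eq_of_le hE₀H
  refine ⟨E₀.subgroupOf H, ?_, ?_, ?_, ?_, ?_⟩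
  · have h1 := CfsgLib.Components.isComponent_map_equiv (Subgroup.subgroupOfEquivOfLe hHX)
      (CfsgLib.Components.isComponent_subgroupOf hEH hE)
    have e : (E.subgroupOf (H.subgroupOf X)).map (Subgroup.subgroupOfEquivOfLe hHX).toMonoidHom =
        E₀.subgroupOf H := by
      ext g
      constructor
      · rintro ⟨a, ha, rfl⟩
        exact ⟨a.1, ha, rfl⟩
      · rintro ⟨a, ha, hag⟩
        exact ⟨⟨a, show (a : G) ∈ H from (show (a : G) = (g : G) from hag) ▸ g.2⟩, ha, Subtype.ext hag⟩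
    rwa [e] at h1
  · rw [hEeq]
    have htN : tX ∈ Subgroup.normalizer (E : Set ↥X) := by
      have key : ∀ g ∈ Subgroup.zpowers tX, ∀ l ∈ E, g * l * g⁻¹ ∈ E := fun g hg l hl => by
        have h1 : ⁅l, g⁆ ∈ E := hEt.le (Subgroup.commutator_mem_commutator hl hg)
        have e : g * l * g⁻¹ = ⁅l, g⁆⁻¹ * l := by group
        rw [e]
        exact mul_mem (inv_mem h1) hl
      refine Subgroup.mem_normalizer_iff.mpr fun l => ⟨key _ (Subgroup.mem_zpowers tX) l, fun hl => ?_⟩
      simpa [mul_assoc] using key _ (inv_mem (Subgroup.mem_zpowers tX)) _ hl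
    conv_rhs => rw [hE₀, ← CfsgLib.Base.map_conj_eq_self_iff.mpr htN]
    rw [hE₀, Subgroup.map_map, Subgroup.map_map]
    congr 1
  · rw [hEeq]
    intro y hy
    have hyN : (⟨y, hYX hy⟩ : ↥X) ∈ Subgroup.normalizer (E : Set ↥X) :=
      CfsgLib.Components.mem_normalizer_component_of_pPrimeCore hOX
        (IsPGroup.of_card (n := 1) (by rw [Nat.card_zpowers, htXo, pow_one])) hE
        (CfsgLib.Components.centralizerPPrimeCore_le_normalizer_zpowers tX (hYc hy))
    exact Subgroup.le_normalizer_map X.subtype ⟨_, hyN, rfl⟩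
  · rw [hEeq]
    intro hc
    apply CfsgLib.Components.component_ne_bot hE
    rw [← hEt, Subgroup.commutator_eq_bot_iff_le_centralizer, Subgroup.le_centralizer_iff,
      Subgroup.zpowers_le]
    exact Subgroup.mem_centralizer_iff.mpr fun a ha =>
      Subtype.ext (Subgroup.mem_centralizer_iff.mp hc a ⟨a, ha, rfl⟩)
  · rw [hEeq]
    intro hc
    apply hEY
    intro y hy
    exact Subgroup.mem_centralizer_iff.mpr fun a ha =>
      Subtype.ext (Subgroup.mem_centralizer_iff.mp (hc hy) a ⟨a, ha, rfl⟩)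

end Cfsg.Agent.S1328
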