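import Cfsg.Statements.S1335
import Cfsg.Agent.Lib.Base.Rank
import Cfsg.Agent.Lib.PGroups.Basic
-- import your own Cfsg.Agent.* helpers here

set_option autoImplicit false
open Cfsg

namespace Cfsg.Agent.S1335

/-- Let H be a subgroup of the finite group G, p a prime, k ≥ 1, P a Sylow p-subgroup of H of p-rank at least k, and suppose N_G(X) ≤ H for every subgroup X ≤ P of p-rank at least k. Then P is a Sylow p-subgroup of G. -/
theorem result {G : Type*} [Group G] [Finite G] {p : ℕ} [Fact p.Prime] (k : ℕ) (hk : 1 ≤ k) (H : Subgroup G) (P : Sylow p ↥H) (hP : ¬ Cfsg.PRankLE p (k - 1) ↥(P : Subgroup ↥H)) (hΓ : (∀ X : Subgroup G, X ≤ (P : Subgroup ↥H).map H.subtype → ¬ Cfsg.PRankLE p (k - 1) ↥X → Subgroup.normalizer (X : Set G) ≤ H)) : ∃ Q : Sylow p G, (Q : Subgroup G) = (P : Subgroup ↥H).map H.subtype := by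
  set V := (P : Subgroup ↥H).map H.subtype with hV
  have hVp : IsPGroup p V := P.isPGroup'.map _
  obtain ⟨Q, hQ⟩ := hVp.exists_le_sylow
  refine ⟨Q, le_antisymm ?_ hQ⟩
  have hN : Subgroup.normalizer (V : Set G) ≤ H := hΓ V le_rfl (fun h =>
    hP ((CfsgLib.Base.pRankLE_congr (Subgroup.equivMapOfInjective _ H.subtype H.subtype_injective)).2 h))
  by_contra hne
  have hlt : V.subgroupOf Q < ⊤ :=
    lt_top_iff_ne_top.mpr fun h => hne (Subgroup.subgroupOf_eq_top.mp h)
  obtain ⟨y, hy, hyV⟩ := SetLike.exists_of_lt (CfsgLib.PGroups.lt_normalizer Q.isPGroup' hlt)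
  have hy' : (y : G) ∈ Subgroup.normalizer (V : Set G) := by
    have := Subgroup.le_normalizer_map (Q : Subgroup G).subtype
      (Subgroup.mem_map_of_mem (Q : Subgroup G).subtype hy)
    rwa [Subgroup.map_subgroupOf_eq_of_le hQ] at this
  have hle : (P : Subgroup ↥H) ≤ (Q : Subgroup G).subgroupOf H := fun x hx => hQ ⟨x, hx, rfl⟩
  have heq := P.is_maximal' (Q.isPGroup'.comap_of_injective _ H.subtype_injective) hle
  apply hyV
  refine Subgroup.mem_subgroupOf.mpr ⟨⟨y, hN hy'⟩, ?_, rfl⟩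
  rw [← heq]
  exact y.2

end Cfsg.Agent.S1335
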