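import Cfsg.Statements.S1336
import Cfsg.Agent.Lib.Base.Transport
import Cfsg.Agent.Lib.PGroups.Basic
-- import your own Cfsg.Agent.* helpers here

set_option autoImplicit false
open Cfsg

namespace Cfsg.Agent.S1336

/-- Let G be finite and p prime. Then G has a proper subgroup H with p ∣ |H| and p ∤ |H ∩ gHg⁻¹| for every g ∉ H (a strongly p-embedded subgroup) if and only if G is not 1-connected for p. -/
theorem result {G : Type*} [Group G] [Finite G] (p : ℕ) [Fact p.Prime] : (∃ H : Subgroup G, H ≠ ⊤ ∧ p ∣ Nat.card ↥H ∧ ∀ g : G, g ∉ H → ¬ p ∣ Nat.card ↥(H ⊓ H.map (MulAut.conj g).toMonoidHom)) ↔ ¬ Cfsg.IsKConnected p 1 G := by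
  classical
  have hp : p.Prime := Fact.out
  set R := fun A B : Subgroup G => Cfsg.IsElementaryAbelian p A ∧ p ^ 1 ≤ Nat.card ↥A ∧
    Cfsg.IsElementaryAbelian p B ∧ p ^ 1 ≤ Nat.card ↥B ∧ ∀ a ∈ A, ∀ b ∈ B, a * b = b * a with hR
  set V := fun A : Subgroup G => Cfsg.IsElementaryAbelian p A ∧ p ^ 1 ≤ Nat.card ↥A with hVdef
  have hsymm : ∀ {A B : Subgroup G}, Relation.ReflTransGen R A B → Relation.ReflTransGen R B A := by
    intro A B h
    induction h with
    | refl => exact .refl
    | tail _ h ih =>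
      exact .head ⟨h.2.2.1, h.2.2.2.1, h.1, h.2.1, fun a ha b hb => (h.2.2.2.2 b hb a ha).symm⟩ ih
  have hEx : ∀ A : Subgroup G, V A → ∃ x ∈ A, orderOf x = p := by
    intro A hA
    obtain ⟨x, hx, hx1⟩ := (Subgroup.bot_or_exists_ne_one A).resolve_left fun h => by
      have := hA.2
      rw [h, pow_one, Subgroup.card_bot] at this
      exact absurd this (not_le.mpr hp.one_lt)
    exact ⟨x, hx, orderOf_eq_prime (hA.1.2 x hx) hx1⟩
  have hZ : ∀ x : G, orderOf x = p → V (Subgroup.zpowers x) := by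
    intro x hx
    refine ⟨⟨inferInstance, fun a ha => ?_⟩, by rw [pow_one, Nat.card_zpowers, hx]⟩
    obtain ⟨n, rfl⟩ := Subgroup.mem_zpowers_iff.mp ha
    rw [← zpow_natCast, ← zpow_mul, mul_comm, zpow_mul, zpow_natCast, ← hx, pow_orderOf_eq_one, one_zpow]
  constructor
  · rintro ⟨H, hH, hpH, hsep⟩ hconn
    have hpg : ∀ g : G, g ∉ H → ∀ x : G, orderOf x = p → x ∈ H → g⁻¹ * x * g ∈ H → False := by
      intro g hg x hx hxH hxg
      refine hsep g hg ?_
      rw [← hx]
      exact Subgroup.orderOf_dvd_natCard _ (Subgroup.mem_inf.mpr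
        ⟨hxH, ⟨g⁻¹ * x * g, hxg, by simp [mul_assoc]⟩⟩)
    obtain ⟨x₀, hx₀⟩ := exists_prime_orderOf_dvd_card' p hpH
    have hx₀' : orderOf (x₀ : G) = p := by rw [Subgroup.orderOf_coe, hx₀]
    obtain ⟨g, -, hg⟩ := SetLike.exists_of_lt hH.lt_top
    have key : ∀ A B : Subgroup G, Relation.ReflTransGen R A B → A ≤ H → B ≤ H := by
      intro A B h hA
      induction h with
      | refl => exact hA
      | tail _ h ih =>
        intro c hc
        by_contra hcH
        obtain ⟨x, hx, hxp⟩ := hEx _ ⟨h.1, h.2.1⟩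
        refine hpg c hcH x hxp (ih hx) ?_
        rw [mul_assoc, h.2.2.2.2 x hx c hc, inv_mul_cancel_left]
        exact ih hx
    have h1 := key _ _ (hconn (Subgroup.zpowers (x₀ : G))
      ((Subgroup.zpowers (x₀ : G)).map (MulAut.conj g⁻¹).toMonoidHom) (hZ _ hx₀').1 (hZ _ hx₀').2
      (by rw [MonoidHom.map_zpowers]; exact (hZ _ (by
        show orderOf ((MulAut.conj g⁻¹) (x₀ : G)) = p
        rw [MulEquiv.orderOf_eq, hx₀'])).1)
      (by rw [CfsgLib.Base.card_map_conj]; exact (hZ _ hx₀').2))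
      (Subgroup.zpowers_le.mpr x₀.2)
    refine hpg g hg x₀ hx₀' x₀.2 (h1 ⟨x₀, Subgroup.mem_zpowers _, ?_⟩)
    simp [mul_assoc]
  · intro hnc
    unfold Cfsg.IsKConnected at hnc
    push Not at hnc
    obtain ⟨E₀, E₁, hE₀, hE₀c, hE₁, hE₁c, hdis⟩ := hnc
    let c := fun (g : G) (A : Subgroup G) => A.map (MulAut.conj g).toMonoidHom
    have hcc : ∀ g h A, c g (c h A) = c (g * h) A := by
      intro g h A
      show (A.map _).map _ = A.map _
      rw [Subgroup.map_map]
      congr 1
      ext x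
      simp [mul_assoc]
    have hc1 : ∀ A, c 1 A = A := fun A =>
      CfsgLib.Base.map_conj_eq_self_iff.mpr (one_mem _)
    have hmap : ∀ (g : G) {A B}, Relation.ReflTransGen R A B → Relation.ReflTransGen R (c g A) (c g B) := by
      intro g A B h
      induction h with
      | refl => exact .refl
      | tail _ h ih =>
        have hA : ∀ A, V A → V (c g A) := fun A hA => by
          refine ⟨⟨?_, ?_⟩, by rw [CfsgLib.Base.card_map_conj]; exact hA.2⟩
          · haveI := hA.1.1
            exact Subgroup.map_isMulCommutative A _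
          · rintro _ ⟨a, ha, rfl⟩
            rw [← map_pow, hA.1.2 a ha, map_one]
        refine ih.tail ⟨(hA _ ⟨h.1, h.2.1⟩).1, (hA _ ⟨h.1, h.2.1⟩).2, (hA _ ⟨h.2.2.1, h.2.2.2.1⟩).1,
          (hA _ ⟨h.2.2.1, h.2.2.2.1⟩).2, ?_⟩
        rintro _ ⟨a, ha, rfl⟩ _ ⟨b, hb, rfl⟩
        rw [← map_mul, ← map_mul, h.2.2.2.2 a ha b hb]
    let H : Subgroup G :=
      { carrier := {g | Relation.ReflTransGen R E₀ (c g E₀)}
        one_mem' := by
          show Relation.ReflTransGen R E₀ (c 1 E₀)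
          rw [hc1]
        mul_mem' := fun {a b} ha hb => by
          have := hmap a hb
          rw [hcc] at this
          exact Relation.ReflTransGen.trans ha this
        inv_mem' := fun {a} ha => by
          have := hsymm (hmap a⁻¹ ha)
          rwa [hcc, inv_mul_cancel, hc1] at this }
    have hH : ∀ g, g ∈ H ↔ Relation.ReflTransGen R E₀ (c g E₀) := fun g => Iff.rfl
    obtain ⟨P, hP⟩ := (IsPGroup.of_bot (p := p) (G := G)).exists_le_sylow
    have hpG : p ∣ Nat.card G := by
      obtain ⟨x, -, hx⟩ := hEx E₀ ⟨hE₀, hE₀c⟩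
      exact hx ▸ orderOf_dvd_natCard x
    -- a central element of order `p` of a Sylow subgroup containing `E₀`
    have hE₀p : IsPGroup p E₀ := fun a => ⟨1, by
      ext; simpa using hE₀.2 a a.2⟩
    obtain ⟨S, hS⟩ := hE₀p.exists_le_sylow
    haveI : Nontrivial ↥(S : Subgroup G) := by
      obtain ⟨x, hx, hxp⟩ := hEx E₀ ⟨hE₀, hE₀c⟩
      exact ⟨⟨x, hS hx⟩, 1, fun h => by
        rw [show x = 1 from congrArg Subtype.val h, orderOf_one] at hxp
        exact hp.one_lt.ne hxp⟩
    haveI := S.isPGroup'.center_nontrivial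
    obtain ⟨z, hz⟩ := exists_prime_orderOf_dvd_card' p
      (show p ∣ Nat.card ↥(Subgroup.center ↥(S : Subgroup G)) from by
        obtain ⟨n, hn⟩ := IsPGroup.iff_card.mp (S.isPGroup'.to_subgroup (Subgroup.center _))
        rw [hn]
        refine dvd_pow_self p fun h0 => ?_
        rw [h0, pow_zero] at hn
        exact (Finite.one_lt_card (α := ↥(Subgroup.center ↥(S : Subgroup G)))).ne' hn)
    set z' : G := ((z : ↥(S : Subgroup G)) : G) with hz'
    have hzo : orderOf z' = p := by rw [hz', Subgroup.orderOf_coe, Subgroup.orderOf_coe, hz]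
    have hzS : ∀ s ∈ (S : Subgroup G), z' * s = s * z' := fun s hs => by
      have := Subgroup.mem_center_iff.mp z.2 ⟨s, hs⟩
      exact (congrArg Subtype.val this).symm
    have hedge : ∀ {A B : Subgroup G}, V A → V B → (∀ a ∈ A, ∀ b ∈ B, a * b = b * a) →
        Relation.ReflTransGen R A B :=
      fun hA hB h => Relation.ReflTransGen.single ⟨hA.1, hA.2, hB.1, hB.2, h⟩
    have hzc : ∀ A : Subgroup G, V A → A ≤ (S : Subgroup G) →
        Relation.ReflTransGen R A (Subgroup.zpowers z') := by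
      intro A hA hAS
      refine hedge hA (hZ _ hzo) fun a ha b hb => ?_
      obtain ⟨n, rfl⟩ := Subgroup.mem_zpowers_iff.mp hb
      exact ((Commute.symm (hzS a (hAS ha) : Commute z' a)).zpow_right n).eq
    have hSH : (S : Subgroup G) ≤ H := by
      intro s hs
      rw [hH]
      refine (hzc E₀ ⟨hE₀, hE₀c⟩ hS).trans ?_
      have h1 := hmap s (hsymm (hzc E₀ ⟨hE₀, hE₀c⟩ hS))
      have h2 : c s (Subgroup.zpowers z') = Subgroup.zpowers z' := by
        show (Subgroup.zpowers z').map _ = _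
        rw [MonoidHom.map_zpowers]
        congr 1
        show s * z' * s⁻¹ = z'
        rw [← hzS s hs, mul_inv_cancel_right]
      rwa [h2] at h1
    have hord : ∀ x : G, orderOf x = p → x ∈ H → Relation.ReflTransGen R E₀ (Subgroup.zpowers x) := by
      intro x hx hxH
      let T : Sylow p H := S.subtype hSH
      have hxp : IsPGroup p (Subgroup.zpowers (⟨x, hxH⟩ : H)) := IsPGroup.of_card (n := 1) (by
        rw [Nat.card_zpowers, ← Subgroup.orderOf_coe, pow_one, hx])
      obtain ⟨T', hT'⟩ := hxp.exists_le_sylow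
      obtain ⟨h, hh⟩ := MulAction.exists_smul_eq H T' T
      have hxS : (h : G) * x * (h : G)⁻¹ ∈ (S : Subgroup G) := by
        have : h * ⟨x, hxH⟩ * h⁻¹ ∈ (T : Subgroup H) := by
          rw [← hh]
          exact ⟨⟨x, hxH⟩, hT' (Subgroup.mem_zpowers _), rfl⟩
        simpa [T, Subgroup.mem_subgroupOf] using this
      have hxo : orderOf ((h : G) * x * (h : G)⁻¹) = p := by
        rw [← hx]; exact MulEquiv.orderOf_eq (MulAut.conj (h : G)) x
      have h1 := hmap (h : G)⁻¹ ((hzc _ (hZ _ hxo) (Subgroup.zpowers_le.mpr hxS)).trans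
        (hsymm (hzc E₀ ⟨hE₀, hE₀c⟩ hS)))
      have h2 : c (h : G)⁻¹ (Subgroup.zpowers ((h : G) * x * (h : G)⁻¹)) = Subgroup.zpowers x := by
        show (Subgroup.zpowers _).map _ = _
        rw [MonoidHom.map_zpowers]
        congr 1
        simp [mul_assoc]
      rw [h2] at h1
      exact ((hH _).mp (inv_mem h.2)).trans (hsymm h1)
    refine ⟨H, ?_, ?_, fun g hg hdvd => ?_⟩
    · intro htop
      obtain ⟨x, hx, hxp⟩ := hEx E₁ ⟨hE₁, hE₁c⟩
      refine hdis ((hord x hxp (htop ▸ Subgroup.mem_top x)).trans (hedge (hZ _ hxp) ⟨hE₁, hE₁c⟩ ?_))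
      intro a ha b hb
      haveI := hE₁.1
      exact Subtype.ext_iff.mp (IsMulCommutative.is_comm.comm (⟨a, Subgroup.zpowers_le.mpr hx ha⟩ : E₁) ⟨b, hb⟩)
    · obtain ⟨x, hx, hxp⟩ := hEx E₀ ⟨hE₀, hE₀c⟩
      exact hxp ▸ Subgroup.orderOf_dvd_natCard H (hSH (hS hx))
    · obtain ⟨⟨x, hx1, y, hy, hyx⟩, hxo⟩ := exists_prime_orderOf_dvd_card' p hdvd
      rw [← Subgroup.orderOf_coe] at hxo
      have hyo : orderOf y = p := by
        rw [← hxo]
        show orderOf y = orderOf x
        rw [← hyx]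
        exact (MulEquiv.orderOf_eq (MulAut.conj g) y).symm
      refine hg ((hH g).mpr ?_)
      have h1 := hord x hxo hx1
      have h2 := hmap g (hord y hyo hy)
      have h3 : c g (Subgroup.zpowers y) = Subgroup.zpowers x := by
        show (Subgroup.zpowers y).map _ = _
        rw [MonoidHom.map_zpowers]
        exact congrArg _ hyx
      rw [h3] at h2
      exact h1.trans (hsymm h2)

end Cfsg.Agent.S1336
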