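import Cfsg.Statements.S1338
import Cfsg.Agent.Lib.PGroups.NormalRankFour
-- import your own Cfsg.Agent.* helpers here

set_option autoImplicit false
open Cfsg

namespace Cfsg.Agent.S1338

open Subgroup

private theorem card_le_map_mul_ker {M : Type*} [Group M] [Finite M] (f : M →* M) (H : Subgroup M) :
    Nat.card H ≤ Nat.card (H.map f) * Nat.card f.ker := by
  have h1 := relIndex_mul_relIndex ⊥ (f.ker ⊓ H) H bot_le inf_le_right
  rw [relIndex_bot_left, relIndex_bot_left, inf_relIndex_right, Subgroup.relIndex_ker] at h1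
  rw [← h1, mul_comm]
  exact Nat.mul_le_mul_left _ (Nat.le_of_dvd Nat.card_pos (card_dvd_of_le inf_le_left))

/-- An element of order three fixes a subgroup of order nine of an abelian group of exponent three
and order eighty-one. -/
private theorem nine_le_fixed {M : Type*} [CommGroup M] [Finite M] (hM : Nat.card M = 81)
    (he : ∀ x : M, x ^ 3 = 1) (c : M →* M) (hc : ∀ x, c (c (c x)) = x) :
    9 ≤ Nat.card (c / MonoidHom.id M).ker := by
  set f := c / MonoidHom.id M with hf
  have h3 : (((⊤ : Subgroup M).map f).map f).map f = ⊥ := by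
    rw [eq_bot_iff]
    rintro _ ⟨_, ⟨_, ⟨x, -, rfl⟩, rfl⟩, rfl⟩
    rw [Subgroup.mem_bot]
    have e1 : f (f (f x)) = c (c (c x)) * (c x) ^ 3 * ((c (c x)) ^ 3)⁻¹ * x⁻¹ := by
      simp only [hf, MonoidHom.div_apply, MonoidHom.id_apply, map_div]
      apply Additive.ofMul.injective
      simp only [ofMul_div, ofMul_mul, ofMul_inv, ofMul_pow]
      abel
    rw [e1, hc, he, he, inv_one, mul_one, mul_one, mul_inv_cancel]
  by_contra hlt
  have hk : Nat.card f.ker ≤ 8 := by omega
  have hd : Nat.card f.ker ∣ 3 ^ 4 := by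
    have := Subgroup.card_subgroup_dvd_card f.ker
    rwa [hM] at this
  have hk3 : Nat.card f.ker ≤ 3 := by
    obtain ⟨i, -, hi⟩ := (Nat.dvd_prime_pow Nat.prime_three).1 hd
    rcases i with _ | _ | i
    · omega
    · omega
    · rw [hi, pow_succ, pow_succ] at hk
      have : 0 < 3 ^ i := pow_pos (by omega) i
      omega
  have a1 := card_le_map_mul_ker f ⊤
  have a2 := card_le_map_mul_ker f ((⊤ : Subgroup M).map f)
  have a3 := card_le_map_mul_ker f (((⊤ : Subgroup M).map f).map f)
  rw [h3, Subgroup.card_bot, one_mul] at a3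
  rw [Subgroup.card_top, hM] at a1
  nlinarith


/-- A finite 3-group of 3-rank at least 4 is 2-connected for the prime 3: its commuting graph on elementary abelian subgroups of order ≥ 9 is connected. -/
theorem result {P : Type*} [Group P] [Finite P] (hP : IsPGroup 3 P) (hrk : ¬ Cfsg.PRankLE 3 3 P) : Cfsg.IsKConnected 3 2 P := by
  haveI : Fact (Nat.Prime 3) := ⟨Nat.prime_three⟩
  obtain ⟨A0, hA0, hA0e, hA0c⟩ : ∃ A : Subgroup P, IsMulCommutative A ∧ (∀ a ∈ A, a ^ 3 = 1) ∧
      3 ^ 3 < Nat.card A := by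
    unfold Cfsg.PRankLE at hrk
    push Not at hrk
    exact hrk
  obtain ⟨E₁, hE₁, hE₁c⟩ : ∃ E₁ : Subgroup P, E₁ ≤ A0 ∧ Nat.card E₁ = 3 ^ 4 := by
    obtain ⟨m, hm⟩ := IsPGroup.iff_card.1 (hP.to_subgroup A0)
    have : 4 ≤ m := by
      by_contra h
      have := Nat.pow_le_pow_right (show 0 < 3 by omega) (show m ≤ 3 by omega)
      omega
    obtain ⟨K, hK⟩ := Sylow.exists_subgroup_card_pow_prime 3 (G := A0) (n := 4)
      (hm ▸ pow_dvd_pow 3 this)
    exact ⟨K.map A0.subtype, map_subtype_le K, by rw [card_map_of_injective A0.subtype_injective, hK]⟩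
  have hE₁e : Cfsg.IsElementaryAbelian 3 E₁ := CfsgLib.Base.isElementaryAbelian_iff.2
    ⟨fun x hx y hy => congrArg Subtype.val (hA0.is_comm.comm ⟨x, hE₁ hx⟩ ⟨y, hE₁ hy⟩),
      fun x hx => hA0e x (hE₁ hx)⟩
  obtain ⟨E, hEn, hEe, hEc⟩ := CfsgLib.PGroups.NormalRankFour.main (Nat.card P) P rfl (by omega) hP E₁ hE₁e hE₁c
  haveI := hEn
  haveI : Nontrivial P := by
    by_contra h
    rw [not_nontrivial_iff_subsingleton] at h
    haveI := h
    have := Nat.card_of_subsingleton (1 : E)
    omega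
  obtain ⟨z, hz, hz3⟩ : ∃ z ∈ center P, orderOf z = 3 := by
    haveI := hP.center_nontrivial
    obtain ⟨m, hm⟩ := IsPGroup.iff_card.1 (hP.to_subgroup (center P))
    obtain ⟨z, hz⟩ := exists_prime_orderOf_dvd_card' (G := center P) 3 (by
      rw [hm]
      refine dvd_pow_self 3 fun h => ?_
      rw [h, pow_zero] at hm
      exact (Finite.one_lt_card_iff_nontrivial.2 inferInstance).ne' hm)
    exact ⟨z, z.2, by rw [Subgroup.orderOf_coe]; exact hz⟩
  have hE9 : 3 ^ 2 ≤ Nat.card E := by omega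
  have key : ∀ X : Subgroup P, Cfsg.IsElementaryAbelian 3 X → 3 ^ 2 ≤ Nat.card X →
      Relation.ReflTransGen (fun A B : Subgroup P => Cfsg.IsElementaryAbelian 3 A ∧ 3 ^ 2 ≤ Nat.card A ∧
        Cfsg.IsElementaryAbelian 3 B ∧ 3 ^ 2 ≤ Nat.card B ∧ ∀ a ∈ A, ∀ b ∈ B, a * b = b * a) X E ∧
      Relation.ReflTransGen (fun A B : Subgroup P => Cfsg.IsElementaryAbelian 3 A ∧ 3 ^ 2 ≤ Nat.card A ∧
        Cfsg.IsElementaryAbelian 3 B ∧ 3 ^ 2 ≤ Nat.card B ∧ ∀ a ∈ A, ∀ b ∈ B, a * b = b * a) E X := by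
    intro X hX hX9
    have hX' := CfsgLib.Base.isElementaryAbelian_iff.1 hX
    have hzc : Nat.card (zpowers z) = 3 := by rw [Nat.card_zpowers, hz3]
    obtain ⟨a, ha, haz⟩ : ∃ a ∈ X, a ∉ zpowers z := by
      by_contra h
      push Not at h
      have := card_le_of_le (show X ≤ zpowers z from h)
      omega
    have hcz : ∀ g, Commute z g := fun g => (Subgroup.mem_center_iff.1 hz g).symm
    set B := zpowers a ⊔ zpowers z
    have hBgen : B = closure {a, z} := by
      rw [show ({a, z} : Set P) = {a} ∪ {z} from rfl, Subgroup.closure_union, ← zpowers_eq_closure, ← zpowers_eq_closure]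
    have hBcent : ∀ g, Commute g a → ∀ b ∈ B, Commute g b := by
      intro g hg b hb
      have hle : B ≤ centralizer ({g} : Set P) := sup_le
        (zpowers_le.2 (mem_centralizer_singleton_iff.2 hg.symm.eq))
        (zpowers_le.2 (mem_centralizer_singleton_iff.2 (hcz g).eq))
      exact (mem_centralizer_singleton_iff.1 (hle hb)).symm
    have haB : a ∈ B := mem_sup_left (mem_zpowers a)
    have hBcomm : ∀ x ∈ B, ∀ y ∈ B, Commute x y := fun x hx =>
      hBcent x ((hBcent a (Commute.refl a) x hx).symm)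
    have hBe : Cfsg.IsElementaryAbelian 3 B := by
      refine CfsgLib.Base.isElementaryAbelian_iff.2 ⟨fun x hx y hy => (hBcomm x hx y hy).eq, fun x hx => ?_⟩
      rw [hBgen] at hx
      induction hx using closure_induction with
      | mem x hx =>
        rcases hx with rfl | rfl
        · exact hX'.2 _ ha
        · rw [← hz3]; exact pow_orderOf_eq_one _
      | one => exact one_pow _
      | mul x y hx hy h1 h2 =>
        rw [← hBgen] at hx hy
        rw [(hBcomm x hx y hy).mul_pow, h1, h2, one_mul]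
      | inv x _ h => rw [inv_pow, h, inv_one]
    have hB9 : 3 ^ 2 ≤ Nat.card B := by
      have hlt : zpowers z < B := lt_of_le_of_ne le_sup_right fun h => haz (h ▸ haB)
      obtain ⟨m, hm⟩ := IsPGroup.iff_card.1 (hP.to_subgroup B)
      have h2 : 3 < Nat.card B := hzc ▸ lt_of_le_of_ne (card_le_of_le hlt.le)
        fun h => hlt.ne (eq_of_le_of_card_ge hlt.le h.ge)
      rw [hm] at h2 ⊢
      refine Nat.pow_le_pow_right (by omega) ?_
      by_contra h
      have := Nat.pow_le_pow_right (show 0 < 3 by omega) (show m ≤ 1 by omega)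
      omega
    have hE' := CfsgLib.Base.isElementaryAbelian_iff.1 hEe
    set C := E ⊓ centralizer ({a} : Set P)
    have hCe : Cfsg.IsElementaryAbelian 3 C := CfsgLib.Base.isElementaryAbelian_iff.2
      ⟨fun x hx y hy => hE'.1 x hx.1 y hy.1, fun x hx => hE'.2 x hx.1⟩
    have hC9 : 3 ^ 2 ≤ Nat.card C := by
      letI : CommGroup E :=
        { (inferInstance : Group E) with mul_comm := fun x y => Subtype.ext (hE'.1 x x.2 y y.2) }
      let c : E →* E :=
        { toFun := fun e => ⟨a * e * a⁻¹, hEn.conj_mem e e.2 a⟩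
          map_one' := Subtype.ext (by simp)
          map_mul' := fun x y => Subtype.ext (show a * (x * y : P) * a⁻¹ = a * x * a⁻¹ * (a * y * a⁻¹) by group) }
      have ha3 : a ^ 3 = 1 := hX'.2 a ha
      have h9 := nine_le_fixed (M := E) hEc (fun x => Subtype.ext (hE'.2 x x.2)) c fun x => Subtype.ext (by
        show a * (a * (a * x * a⁻¹) * a⁻¹) * a⁻¹ = x
        calc _ = (a * a * a) * x * (a * a * a)⁻¹ := by group
          _ = x := by rw [← pow_three', ha3]; simp)
      refine le_trans h9 ?_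
      rw [← card_map_of_injective E.subtype_injective]
      refine card_le_of_le ?_
      rintro _ ⟨e, he, rfl⟩
      refine ⟨e.2, mem_centralizer_singleton_iff.2 ?_⟩
      have h1 : c e / e = 1 := he
      have h2 : a * e * a⁻¹ = (e : P) := congrArg Subtype.val (div_eq_one.1 h1)
      exact (mul_inv_eq_iff_eq_mul.1 h2).symm
    have hCB : ∀ x ∈ C, ∀ y ∈ B, x * y = y * x := fun x hx y hy =>
      (hBcent x (mem_centralizer_singleton_iff.1 hx.2) y hy).eq
    have hXB : ∀ x ∈ X, ∀ y ∈ B, x * y = y * x := fun x hx y hy =>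
      (hBcent x (hX'.1 x hx a ha) y hy).eq
    exact ⟨((Relation.ReflTransGen.single ⟨hX, hX9, hBe, hB9, hXB⟩).tail
        ⟨hBe, hB9, hCe, hC9, fun y hy x hx => (hCB x hx y hy).symm⟩).tail
        ⟨hCe, hC9, hEe, hE9, fun x hx y hy => hE'.1 x hx.1 y hy⟩,
      ((Relation.ReflTransGen.single ⟨hEe, hE9, hCe, hC9, fun y hy x hx => hE'.1 y hy x hx.1⟩).tail
        ⟨hCe, hC9, hBe, hB9, hCB⟩).tail
        ⟨hBe, hB9, hX, hX9, fun y hy x hx => (hXB x hx y hy).symm⟩⟩
  intro X Y hX hXc hY hYc
  exact (key X hX hXc).1.trans (key Y hY hYc).2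

end Cfsg.Agent.S1338
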