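import Cfsg.Statements.S1339
import Mathlib
import Cfsg.Agent.Lib.Components.LocalLayer
import Cfsg.Agent.Lib.Base.Cores

set_option autoImplicit false
open Cfsg

namespace Cfsg.Agent.S1339

/-- Let F be a field with 2 elements, n ≥ 3, and t ∈ SL(n, F) a transvection (t = 1 + E_{ij}, i ≠ j). Then the generalized Fitting subgroup of C(t) is O_2(C(t)). -/
theorem result {F : Type*} [Field F] [Fintype F] [DecidableEq F] (hF : Fintype.card F = 2) (n : ℕ) (hn : 3 ≤ n) (i j : Fin n) (hij : i ≠ j) (t : Matrix.SpecialLinearGroup (Fin n) F) (ht : (t : Matrix (Fin n) (Fin n) F) = Matrix.transvection i j 1) : Cfsg.generalizedFittingSubgroup ↥(Subgroup.centralizer ({t} : Set (Matrix.SpecialLinearGroup (Fin n) F))) = Cfsg.pCore 2 ↥(Subgroup.centralizer ({t} : Set (Matrix.SpecialLinearGroup (Fin n) F))) := by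
  classical
  haveI : Fact (Nat.Prime 2) := ⟨Nat.prime_two⟩
  rw [CfsgLib.Components.fstar_eq_pCore_iff]
  have h2 : ∀ a : F, a = 0 ∨ a = 1 := by
    intro a
    by_contra hne
    push_neg at hne
    have h := Finset.card_le_univ ({0, 1, a} : Finset F)
    rw [hF, Finset.card_eq_three.2 ⟨0, 1, a, zero_ne_one, hne.1.symm, hne.2.symm, rfl⟩] at h
    omega
  haveI : CharP F 2 := by
    have h11 : (1 : F) + 1 = 0 := (h2 (1 + 1)).resolve_right fun h => one_ne_zero (α := F) (by linear_combination h)
    exact CharTwo.of_one_ne_zero_of_two_eq_zero one_ne_zero (by rw [← one_add_one_eq_two]; exact h11)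
  set C := Subgroup.centralizer ({t} : Set (Matrix.SpecialLinearGroup (Fin n) F)) with hC
  let M : ↥C → Matrix (Fin n) (Fin n) F := fun g => ((g : Matrix.SpecialLinearGroup (Fin n) F) : Matrix (Fin n) (Fin n) F)
  have hmul : ∀ a b : ↥C, M (a * b) = M a * M b := fun a b => rfl
  have hcomm : ∀ g : ↥C, Matrix.transvection i j (1 : F) * M g = M g * Matrix.transvection i j 1 := fun g => by
    rw [← ht]
    exact congrArg Subtype.val (Subgroup.mem_centralizer_iff.1 g.2 t rfl)
  have hcol : ∀ (g : ↥C) (k : Fin n), k ≠ i → M g k i = 0 := fun g k hk => by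
    have h := congrFun (congrFun (hcomm g) k) j
    rw [Matrix.transvection_mul_apply_of_ne _ _ _ _ hk, Matrix.mul_transvection_apply_same] at h
    linear_combination -h
  have hrow : ∀ (g : ↥C) (l : Fin n), l ≠ j → M g j l = 0 := fun g l hl => by
    have h := congrFun (congrFun (hcomm g) i) l
    rw [Matrix.transvection_mul_apply_same, Matrix.mul_transvection_apply_of_ne _ _ _ _ hl] at h
    linear_combination h
  have hii : ∀ g : ↥C, M g i i = 1 := fun g => by
    refine (h2 _).resolve_left fun h0 => ?_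
    have hd : (M g).det = 1 := (g : Matrix.SpecialLinearGroup (Fin n) F).2
    rw [Matrix.det_eq_zero_of_column_eq_zero i] at hd
    · exact zero_ne_one hd
    intro k
    rcases eq_or_ne k i with rfl | hk
    · exact h0
    · exact hcol g k hk
  have hjj : ∀ g : ↥C, M g j j = 1 := fun g => by
    have h := congrFun (congrFun (hcomm g) i) j
    rw [Matrix.transvection_mul_apply_same, Matrix.mul_transvection_apply_same] at h
    linear_combination h + hii g
  -- the middle block
  let m : ↥C → Matrix {k : Fin n // k ≠ i ∧ k ≠ j} {k : Fin n // k ≠ i ∧ k ≠ j} F :=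
    fun g => Matrix.of fun k l => M g k l
  have hm1 : m 1 = 1 := by
    ext k l
    show (1 : Matrix (Fin n) (Fin n) F) (k : Fin n) (l : Fin n) = _
    simp [Matrix.one_apply, Subtype.ext_iff]
  have hm : ∀ a b, m (a * b) = m a * m b := fun a b => by
    ext k l
    show M (a * b) k l = ∑ x : {k : Fin n // k ≠ i ∧ k ≠ j}, M a k x * M b x l
    rw [hmul, Matrix.mul_apply]
    rw [← Finset.sum_subtype (Finset.univ.filter fun x : Fin n => x ≠ i ∧ x ≠ j) (fun x => by simp)
      (fun x => M a k x * M b x l)]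
    refine (Finset.sum_filter_of_ne fun x _ hx => ⟨?_, ?_⟩).symm
    · rintro rfl; exact hx (by rw [hcol a k k.2.1, zero_mul])
    · rintro rfl; exact hx (by rw [hrow b l l.2.2, mul_zero])
  let φ : ↥C →* Matrix {k : Fin n // k ≠ i ∧ k ≠ j} {k : Fin n // k ≠ i ∧ k ≠ j} F :=
    { toFun := m, map_one' := hm1, map_mul' := hm }
  have hker : ∀ g : ↥C, g ∈ φ.ker ↔
      ∀ k l : Fin n, k ≠ i → k ≠ j → l ≠ i → l ≠ j → M g k l = (1 : Matrix (Fin n) (Fin n) F) k l := by
    intro g
    constructor
    · intro hg k l h1 h1' h3 h3'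
      have h := congrFun (congrFun (show m g = 1 from hg) ⟨k, h1, h1'⟩) ⟨l, h3, h3'⟩
      simpa [Matrix.one_apply, m] using h
    · intro hg
      rw [MonoidHom.mem_ker]
      ext k l
      show M g k l = _
      rw [hg k l k.2.1 k.2.2 l.2.1 l.2.2]
      simp [Matrix.one_apply, Subtype.ext_iff]
  have hp : IsPGroup 2 ↥φ.ker := by
    rintro ⟨g, hg⟩
    refine ⟨2, Subtype.ext ?_⟩
    show g ^ (2 ^ 2) = 1
    set D := M g - 1 with hD
    have hD0 : ∀ k l : Fin n, (l = i ∨ k = j) → D k l = 0 := by
      intro k l h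
      rw [hD, Matrix.sub_apply, Matrix.one_apply]
      rcases h with rfl | rfl
      · split_ifs with hkl
        · rw [hkl, hii, sub_self]
        · rw [hcol g k hkl, sub_zero]
      · split_ifs with hkl
        · rw [← hkl, hjj, sub_self]
        · rw [hrow g l (Ne.symm hkl), sub_zero]
    have hDm : ∀ k l : Fin n, k ≠ i → l ≠ j → D k l = 0 := by
      intro k l hk hl
      by_cases hkj : k = j
      · exact hD0 k l (Or.inr hkj)
      by_cases hli : l = i
      · exact hD0 k l (Or.inl hli)
      rw [hD, Matrix.sub_apply, (hker g).1 hg k l hk hkj hli hl, sub_self]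
    have hDD : ∀ k l : Fin n, ¬(k = i ∧ l = j) → (D * D) k l = 0 := by
      intro k l h
      rw [Matrix.mul_apply]
      refine Finset.sum_eq_zero fun x _ => ?_
      by_cases hxi : x = i
      · rw [hD0 k x (Or.inl hxi), zero_mul]
      by_cases hxj : x = j
      · rw [hD0 x l (Or.inr hxj), mul_zero]
      by_cases hk : k = i
      · have hl : l ≠ j := fun e => h ⟨hk, e⟩
        rw [hDm x l hxi hl, mul_zero]
      · rw [hDm k x hk hxj, zero_mul]
    have hD4 : (D * D) * (D * D) = 0 := by
      ext k l
      rw [Matrix.mul_apply]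
      refine Finset.sum_eq_zero fun x _ => ?_
      by_cases hxj : x = j
      · rw [hDD x l (fun e => hij (e.1.symm.trans hxj)), mul_zero]
      · rw [hDD k x (fun e => hxj e.2), zero_mul]
    have h4 : M g ^ 4 = 1 := by
      have hg' : M g = 1 + D := by rw [hD]; abel
      haveI : Nonempty (Fin n) := ⟨i⟩
      haveI : CharP (Matrix (Fin n) (Fin n) F) 2 := Matrix.charP 2
      rw [hg', show (4 : ℕ) = 2 ^ 2 from rfl, add_pow_char_pow_of_commute (p := 2) (n := 2) (Commute.one_left D), one_pow,
        show (2 : ℕ) ^ 2 = 4 from rfl, show D ^ 4 = (D * D) * (D * D) by noncomm_ring, hD4, add_zero]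
    refine Subtype.ext (Subtype.ext ?_)
    rw [show (2 : ℕ) ^ 2 = 4 from rfl]
    simpa [M, pow_succ, mul_assoc] using h4
  have hle : φ.ker ≤ Cfsg.pCore 2 ↥C := CfsgLib.Base.le_pCore hp
  refine le_trans (Subgroup.centralizer_le (SetLike.coe_subset_coe.2 hle)) (le_trans ?_ hle)
  intro g hg
  rw [hker]
  intro k l hki hkj hli hlj
  let T : Matrix.SpecialLinearGroup (Fin n) F :=
    ⟨Matrix.transvection i k 1, Matrix.det_transvection_of_ne i k hki.symm 1⟩
  have hTC : T ∈ C := by
    rw [hC, Subgroup.mem_centralizer_iff]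
    intro w hw
    rw [Set.mem_singleton_iff.mp hw]
    refine Subtype.ext ?_
    show (t : Matrix (Fin n) (Fin n) F) * Matrix.transvection i k 1 = Matrix.transvection i k 1 * (t : Matrix (Fin n) (Fin n) F)
    rw [ht]
    simp [Matrix.transvection, mul_add, add_mul, Matrix.single_mul_single_of_ne, hij.symm, hki]
    abel
  have hTker : (⟨T, hTC⟩ : ↥C) ∈ φ.ker := (hker _).2 fun a b ha _ _ _ => by
    show Matrix.transvection i k (1 : F) a b = _
    simp [Matrix.transvection, Matrix.single_apply, Ne.symm ha]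
  have h := Subgroup.mem_centralizer_iff.1 hg _ hTker
  have h' := congrFun (congrFun (congrArg M h) i) l
  rw [hmul, hmul] at h'
  change (Matrix.transvection i k (1 : F) * M g) i l = (M g * Matrix.transvection i k (1 : F)) i l at h'
  rw [Matrix.transvection_mul_apply_same] at h'
  rcases eq_or_ne l k with rfl | hlk
  · rw [Matrix.mul_transvection_apply_same, hii] at h'
    rw [Matrix.one_apply_eq]
    linear_combination h'
  · rw [Matrix.mul_transvection_apply_of_ne _ _ _ _ hlk] at h'
    rw [Matrix.one_apply_ne hlk.symm]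
    linear_combination h'

end Cfsg.Agent.S1339
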