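import Cfsg.Statements.S1358
import Cfsg.Agent.Lib.FT.BG15.PType
import Cfsg.Agent.Lib.FT.BG15.Discharge
-- import your own Cfsg.Agent.* helpers here

set_option autoImplicit false
open Cfsg

namespace Cfsg.Agent.S1358

/-- Let G be a minimal simple group of odd order and M a maximal subgroup with standard factorisation M = K U M_σ. Then for every prime p, every Sylow p-subgroup of U is abelian and has no elementary abelian subgroup of order p ^ 3. -/
theorem result {G : Type*} [Group G] [Finite G] (hG : Cfsg.IsMinSimpleOddOrder G)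
    (M : Subgroup G) (hM : IsCoatom M) (K U : Subgroup G) (hKU : Cfsg.IsSigmaDecomposition M K U) :
    ∀ (p : ℕ), p.Prime → ∀ P : Sylow p U, IsMulCommutative (P : Subgroup U) ∧ Cfsg.PRankLE p 2 (P : Subgroup U) := by
  intro p hp P
  haveI := Fact.mk hp
  obtain ⟨h1, h2⟩ := CfsgLib.FT.BG15.U_sylow CfsgLib.FT.BG15.upstream hG hM hKU (Subgroup.map_subtype_le (P : Subgroup U)) (P.isPGroup'.map _)
  refine ⟨?_, CfsgLib.Base.pRankLE_of_injective ((P : Subgroup U).equivMapOfInjective U.subtype U.subtype_injective).toMonoidHom (MulEquiv.injective _) h2⟩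
  exact ⟨⟨fun a b => ((P : Subgroup U).equivMapOfInjective U.subtype U.subtype_injective).injective (by rw [map_mul, map_mul]; exact h1.is_comm.comm _ _)⟩⟩

end Cfsg.Agent.S1358
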