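import Cfsg.Statements.S1390
import Cfsg.Agent.Lib.FT.BG16.Discharge
-- import your own Cfsg.Agent.* helpers here

set_option autoImplicit false
open Cfsg

namespace Cfsg.Agent.S1390

/-- Let G be a minimal simple group of odd order, M a maximal subgroup and H = M_F; suppose M is of Type I and U is a complement to H in M, or M is of Type II and U is a complement to H in M'. Then every Sylow subgroup of U is abelian with no elementary abelian subgroup of order p ^ 3; for every nonempty set X of non-identity elements of U centralizing a non-identity element of H, C_G(X) ≤ M and M is the unique maximal subgroup containing C_G(X); and A(M) with A₁(M) removed is a TI-subset of G. -/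
theorem result {G : Type*} [Group G] [Finite G] (hG : Cfsg.IsMinSimpleOddOrder G)
    (M : Subgroup G) (hM : IsCoatom M) (U : Subgroup G)
    (hU : (Cfsg.IsOfTypeI M ∧ Cfsg.IsComplIn (Cfsg.fittingHallOf M) U M) ∨ (Cfsg.IsOfTypeII M ∧ Cfsg.IsComplIn (Cfsg.fittingHallOf M) U ⁅M, M⁆)) :
    (∀ (p : ℕ), p.Prime → ∀ P : Sylow p U, IsMulCommutative (P : Subgroup U) ∧ Cfsg.PRankLE p 2 (P : Subgroup U)) ∧
      (∀ X : Set G, X ⊆ (U : Set G) \ {1} → X.Nonempty → Cfsg.fittingHallOf M ⊓ Subgroup.centralizer X ≠ ⊥ →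
        Subgroup.centralizer X ≤ M ∧ ∀ L : Subgroup G, IsCoatom L → Subgroup.centralizer X ≤ L → L = M) ∧
      Cfsg.IsTISubset (Cfsg.typeA M \ Cfsg.typeA1 M) := by
  obtain ⟨K, V, hD⟩ := CfsgLib.FT.BG15.exists_decomposition CfsgLib.FT.BG15.upstream hG hM
  -- the two notions of Type I agree here
  have hagree : Cfsg.IsOfTypeI M ↔ CfsgLib.FT.IsOfTypeI M := by
    rcases hU with ⟨hI, -⟩ | ⟨hII, -⟩
    · refine iff_of_true hI ((CfsgLib.FT.BG16.isOfTypeI_iff CfsgLib.FT.BG15.upstream hG hM hD).2 ?_)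
      have hK : K = ⊥ := by
        by_contra hK1
        obtain ⟨U₀, hP⟩ := CfsgLib.FT.BG16.exists_isTypePWith CfsgLib.FT.BG15.upstream hG hM hD hK1
        exact CfsgLib.FT.BG16.not_typeF_of_typeP hP hI.1
      exact ⟨hK, fun e => CfsgLib.FT.BG15.K_ne_bot_of_U_bot CfsgLib.FT.BG15.upstream hG hM hD e hK⟩
    · obtain ⟨W₁, U₁, W₂, hP, -⟩ := hII
      exact iff_of_false (fun h => CfsgLib.FT.BG16.not_typeF_of_typeP hP h.1)
        (fun h => CfsgLib.FT.BG16.not_typeF_of_typeP hP h.1)
  have hA : Cfsg.typeA M = CfsgLib.FT.typeA M := by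
    unfold Cfsg.typeA CfsgLib.FT.typeA
    by_cases h : Cfsg.IsOfTypeI M
    · rw [if_pos h, if_pos (hagree.1 h)]
    · rw [if_neg h, if_neg (fun h' => h (hagree.2 h'))]
  rw [hA]
  exact CfsgLib.FT.BG16.compl_facts CfsgLib.FT.BG15.upstream hG hM
    (hU.imp (fun h => ⟨hagree.1 h.1, h.2⟩) id)

end Cfsg.Agent.S1390
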