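import Cfsg.Statements.S1398
import Cfsg.Agent.Lib.OddOrder.UniqueRank

set_option autoImplicit false
open Cfsg

namespace Cfsg.Agent.S1398

/-- Let G be a minimal simple group of odd order, M a maximal subgroup, p a prime, and B a noncyclic elementary abelian p-subgroup of M. If C_G(b) ≤ M for every non-identity b ∈ B, or if every subgroup of G of order coprime to p normalized by B is contained in M, then M is the only maximal subgroup of G containing B. -/
theorem result {G : Type*} [Group G] [Finite G] (hG : Cfsg.IsMinSimpleOddOrder G)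
    (M : Subgroup G) (hM : IsCoatom M) (p : ℕ) [Fact p.Prime] (B : Subgroup G) (hBM : B ≤ M)
    (hBe : Cfsg.IsElementaryAbelian p B) (hBnc : ¬ IsCyclic B)
    (h : (∀ b ∈ B, b ≠ 1 → Subgroup.centralizer ({b} : Set G) ≤ M) ∨
      ∀ Y ∈ Cfsg.invSubgroups ⊤ B (Cfsg.primesNotDvd p), Y ≤ M) :
    Cfsg.InUniqueMaximal B := by
  have hp : p.Prime := Fact.out
  have hBp := CfsgLib.Base.isPGroup_of_isElementaryAbelian hBe
  have hBne : B ≠ ⊥ := fun h0 => hBnc (h0 ▸ inferInstance)
  obtain ⟨n, hn⟩ := IsPGroup.iff_card.mp hBp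
  have hpG : p ∣ Nat.card G := by
    rcases n with _ | n
    · exact absurd (Subgroup.card_eq_one.1 (by simpa using hn)) hBne
    · exact (dvd_pow_self p n.succ_ne_zero).trans (hn ▸ B.card_subgroup_dvd_card)
  refine CfsgLib.OddOrder.inUniqueMaximal_iff.2 ⟨M, hM, hBM, ?_⟩
  rcases h with h | h
  · exact CfsgLib.OddOrder.unique_of_centralizer_le hG hpG hM hBM hBp hBe.1 hBnc h
  · refine CfsgLib.OddOrder.unique_of_invariant_le hG hpG hM hBM hBp hBne fun Y hY hBY =>
      h Y ⟨le_top, fun r hr hd => ?_, hBY⟩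
    refine ⟨hr, fun hrp => hr.ne_one ?_⟩
    exact Nat.eq_one_of_dvd_coprimes hY hd hrp

end Cfsg.Agent.S1398
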