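import Cfsg.Statements.S1400
import Cfsg.Agent.Lib.OddOrder.UniqueRank

set_option autoImplicit false
open Cfsg

namespace Cfsg.Agent.S1400

/-- Let G be a minimal simple group of odd order, p a prime, A an abelian p-subgroup containing an elementary abelian subgroup of order p ^ 3 and lying in exactly one maximal subgroup, and B a noncyclic p-subgroup whose centralizer contains an elementary abelian subgroup of order p ^ 3. Then B lies in exactly one maximal subgroup of G. -/
theorem result {G : Type*} [Group G] [Finite G] (hG : Cfsg.IsMinSimpleOddOrder G)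
    (p : ℕ) [Fact p.Prime] (A B : Subgroup G) (hAp : IsPGroup p A) (hAc : IsMulCommutative A) (hA3 : ¬ Cfsg.PRankLE p 2 ↥A)
    (hAU : Cfsg.InUniqueMaximal A) (hBp : IsPGroup p B) (hBnc : ¬ IsCyclic B) (hB3 : ¬ Cfsg.PRankLE p 2 ↥(Subgroup.centralizer (B : Set G))) :
    Cfsg.InUniqueMaximal B := by
  have hp : p.Prime := Fact.out
  have hp13 : p < p ^ 3 := by
    have h : p ^ 1 < p ^ 3 := Nat.pow_lt_pow_right hp.one_lt (by omega)
    rwa [pow_one] at h
  obtain ⟨E, hEA, hE, hE3⟩ := CfsgLib.OddOrder.exists_elementary_pow_le hA3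
  have hEnc : ¬ IsCyclic E := CfsgLib.OddOrder.not_isCyclic_of_lt_card hE (hp13.trans_le hE3)
  have hEU := CfsgLib.OddOrder.inUniqueMaximal_of_commute hG hAU hE hEnc
    (hEA.trans (Subgroup.le_centralizer_iff_isMulCommutative.2 hAc))
  obtain ⟨E', hE'B, hE', hE'3⟩ := CfsgLib.OddOrder.exists_elementary_pow_le hB3
  have hE'U := CfsgLib.OddOrder.inUniqueMaximal_of_rank_three hG hE hE3 hEU hE' hE'3
  have hpG : p ∣ Nat.card G := by
    obtain ⟨n, hn⟩ := CfsgLib.Base.exists_card_eq_pow_of_isElementaryAbelian hE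
    rcases n with _ | n
    · rw [hn, pow_zero] at hE3
      exact absurd hE3 (not_le.2 (lt_of_le_of_lt hp.one_lt.le hp13))
    · exact (dvd_pow_self p n.succ_ne_zero).trans (hn ▸ E.card_subgroup_dvd_card)
  obtain ⟨D, hDB, hD, -, hD2⟩ :=
    CfsgLib.OddOrder.exists_elementary_sq (CfsgLib.OddOrder.minSimple_ne_two hG hpG) hBp hBnc
  exact CfsgLib.OddOrder.inUniqueMaximal_of_le_centralizer hG hE'U
    (Subgroup.le_centralizer_iff.1 hE'B)
    (CfsgLib.OddOrder.not_pRankLE_of_le_card hDB hD hD2.ge)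

end Cfsg.Agent.S1400
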