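import Cfsg.Statements.S1441
import Cfsg.Agent.Lib.OddOrder.ActionBasics

set_option autoImplicit false
open Cfsg
open scoped commutatorElement

namespace Cfsg.Agent.S1441

/-- Let G be a finite group, H a solvable subgroup and A a subgroup normalizing H. Suppose there is a chain H = H₀ ≥ H₁ ≥ ⋯ ≥ H_n = 1 of subgroups normal in H and normalized by A such that A acts trivially on each factor H_{i-1}/H_i (that is, [H_{i-1}, A] ≤ H_i). Then every prime dividing the index of C_A(H) in A divides the order of H. -/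
theorem result {G : Type*} [Group G] [Finite G] (H A : Subgroup G) (hH : Group.IsSolvable H) (hA : (A ≤ Subgroup.normalizer (H : Set G)))
    (n : ℕ) (c : Fin (n + 1) → Subgroup G) (hc0 : c 0 = H) (hcn : c (Fin.last n) = ⊥) (hanti : Antitone c)
    (hcN : ∀ i, H ≤ Subgroup.normalizer ((c i : Subgroup G) : Set G)) (hcA : ∀ i, A ≤ Subgroup.normalizer ((c i : Subgroup G) : Set G))
    (htriv : ∀ i : Fin n, ⁅c i.castSucc, A⁆ ≤ c i.succ) :
    ∀ p : ℕ, p.Prime → p ∣ (A ⊓ Subgroup.centralizer (H : Set G)).relIndex A → p ∣ Nat.card H := by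
  intro p hp hdvd
  by_contra hpH
  haveI : Fact p.Prime := ⟨hp⟩
  -- every p-element of A centralizes H
  have hfix : ∀ a ∈ A, IsPGroup p (Subgroup.zpowers a) → ∀ i : Fin (n + 1), ∀ h ∈ c i, Commute a h := by
    intro a ha hap i
    induction i using Fin.reverseInduction with
    | last =>
      intro h hh
      rw [hcn, Subgroup.mem_bot] at hh
      subst hh; exact Commute.one_right a
    | cast i ih =>
      intro h hh
      have hd : a * h * a⁻¹ * h⁻¹ ∈ c i.succ := by
        have h1 : ⁅h, a⁆ ∈ c i.succ := htriv i (Subgroup.commutator_mem_commutator hh ha)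
        have h2 := (c i.succ).inv_mem h1
        rwa [commutatorElement_inv, commutatorElement_def] at h2
      apply CfsgLib.OddOrder.commute_of_conj_eq_mul (d := a * h * a⁻¹ * h⁻¹) (ih _ hd) (by group)
      have hdH : a * h * a⁻¹ * h⁻¹ ∈ H := hc0 ▸ hanti (Fin.zero_le _) hd
      have h3 : orderOf (a * h * a⁻¹ * h⁻¹) ∣ Nat.card H := Subgroup.orderOf_dvd_natCard H hdH
      obtain ⟨k, hk⟩ := (IsPGroup.iff_card).mp hap
      rw [Nat.card_zpowers] at hk
      rw [hk]
      exact Nat.Coprime.pow_left _ (Nat.Coprime.coprime_dvd_right h3 ((hp.coprime_iff_not_dvd).mpr hpH))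
  -- a Sylow p-subgroup of A lies in the centralizer
  obtain ⟨P⟩ : Nonempty (Sylow p A) := inferInstance
  have hP : (P : Subgroup A) ≤ (A ⊓ Subgroup.centralizer (H : Set G)).subgroupOf A := by
    intro x hx
    rw [Subgroup.mem_subgroupOf, Subgroup.mem_inf]
    refine ⟨x.2, Subgroup.mem_centralizer_iff.mpr fun h hh => ?_⟩
    have hxp : IsPGroup p (Subgroup.zpowers (x : G)) := by
      have h1 : IsPGroup p (Subgroup.zpowers x) := P.2.to_le (by rwa [Subgroup.zpowers_le])
      have h2 := h1.map A.subtype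
      rwa [MonoidHom.map_zpowers] at h2
    exact ((hfix x x.2 hxp 0 h (hc0.symm ▸ hh)).eq).symm
  exact P.not_dvd_index (dvd_trans hdvd (Subgroup.index_dvd_of_le hP))

end Cfsg.Agent.S1441
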