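import Cfsg.Statements.S1442
import Cfsg.Agent.Lib.OddOrder.ActionBasics

set_option autoImplicit false
open Cfsg

namespace Cfsg.Agent.S1442

/-- Let G be a finite group, H a nilpotent subgroup and A a subgroup normalizing H with the orders of A and H coprime. Put C = H ∩ C_G(A). If H ∩ C_G(C) ≤ C then A centralizes H. -/
theorem result {G : Type*} [Group G] [Finite G] (H A : Subgroup G) (hH : Group.IsNilpotent H) (hA : (A ≤ Subgroup.normalizer (H : Set G))) (hcop : (Nat.card A).Coprime (Nat.card H))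
    (hC : H ⊓ Subgroup.centralizer (((H ⊓ Subgroup.centralizer (A : Set G)) : Subgroup G) : Set G) ≤ (H ⊓ Subgroup.centralizer (A : Set G))) :
    A ≤ Subgroup.centralizer (H : Set G) := by
  classical
  set C : Subgroup G := H ⊓ Subgroup.centralizer (A : Set G) with hCdef
  by_contra hne
  have hlt : C < H := by
    refine lt_of_le_of_ne inf_le_left fun heq => hne fun a ha => ?_
    refine Subgroup.mem_centralizer_iff.mpr fun h hh => ?_
    have hh' : h ∈ C := heq.symm ▸ hh
    exact ((Subgroup.mem_centralizer_iff.mp hh'.2) a ha).symm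
  have hsub : C.subgroupOf H < ⊤ := by
    rw [lt_top_iff_ne_top, ne_eq, Subgroup.subgroupOf_eq_top]
    exact not_le_of_gt hlt
  haveI := hH
  have hgrow := Group.normalizerCondition_of_isNilpotent (G := H) (C.subgroupOf H) hsub
  obtain ⟨d, hdN, hdC⟩ := SetLike.exists_of_lt hgrow
  rw [Subgroup.mem_subgroupOf] at hdC
  have hconj : ∀ c ∈ C, (d : G) * c * (d : G)⁻¹ ∈ C := by
    intro c hc
    have h1 := (Subgroup.mem_normalizer_iff.mp hdN ⟨c, hc.1⟩).mp (by exact hc)
    simpa [Subgroup.mem_subgroupOf] using h1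
  apply hdC
  refine ⟨d.2, Subgroup.mem_centralizer_iff.mpr fun a ha => ?_⟩
  have hcomm : ∀ c ∈ C, Commute a c := fun c hc => (Subgroup.mem_centralizer_iff.mp hc.2) a ha
  have hadH : a * d * a⁻¹ ∈ H := ((Subgroup.mem_normalizer_iff.mp (hA ha)) d).mp d.2
  set e : G := (d : G)⁻¹ * (a * d * a⁻¹) with he
  have heH : e ∈ H := H.mul_mem (H.inv_mem d.2) hadH
  have heC : e ∈ C := by
    refine hC ⟨heH, Subgroup.mem_centralizer_iff.mpr fun c hc => ?_⟩
    have h1 : a * c = c * a := (hcomm c hc).eq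
    have h2 : a * ((d : G) * c * (d : G)⁻¹) = ((d : G) * c * (d : G)⁻¹) * a := (hcomm _ (hconj c hc)).eq
    have h3 : a⁻¹ * c = c * a⁻¹ := ((hcomm c hc).inv_left).eq
    calc c * e = (d : G)⁻¹ * (((d : G) * c * (d : G)⁻¹) * a) * d * a⁻¹ := by rw [he]; group
      _ = (d : G)⁻¹ * (a * ((d : G) * c * (d : G)⁻¹)) * d * a⁻¹ := by rw [h2]
      _ = (d : G)⁻¹ * a * d * (c * a⁻¹) := by group
      _ = e * c := by rw [← h3, he]; group
  have hinv : Commute a (d : G)⁻¹ := by
    apply CfsgLib.OddOrder.commute_of_conj_eq_mul (d := e⁻¹)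
    · exact (hcomm e heC).inv_right
    · rw [he]; group
    · rw [orderOf_inv]
      exact (hcop.coprime_dvd_left (Subgroup.orderOf_dvd_natCard A ha)).coprime_dvd_right
        (Subgroup.orderOf_dvd_natCard H heH)
  exact (by simpa using hinv.inv_right : Commute a (d : G)).eq

end Cfsg.Agent.S1442
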