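import Cfsg.Statements.S1443
import Cfsg.Agent.Lib.OddOrder.OmegaFixed

set_option autoImplicit false
open Cfsg

namespace Cfsg.Agent.S1443

/-- Let G be a finite group, p an odd prime, H a p-subgroup, E an elementary abelian subgroup of H, and A a subgroup of order coprime to p normalizing H. If A centralizes every element of order p in H ∩ C_G(E), then A centralizes H. -/
theorem result {G : Type*} [Group G] [Finite G] (p : ℕ) [Fact p.Prime] (hp : p ≠ 2) (H E A : Subgroup G) (hH : IsPGroup p H) (hE : E ≤ H) (hEe : Cfsg.IsElementaryAbelian p E)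
    (hA : (A ≤ Subgroup.normalizer (H : Set G))) (hcop : (Nat.card A).Coprime p)
    (hfix : ∀ x ∈ (H ⊓ Subgroup.centralizer (E : Set G)), orderOf x = p → A ≤ Subgroup.centralizer ({x} : Set G)) :
    A ≤ Subgroup.centralizer (H : Set G) := by
  have hE' : E ≤ H ⊓ Subgroup.centralizer (E : Set G) :=
    le_inf hE (Subgroup.le_centralizer_iff_isMulCommutative.mpr hEe.1)
  set C := H ⊓ Subgroup.centralizer (E : Set G) with hCdef
  have hAfix : ∀ x ∈ C, x ^ p = 1 → ∀ a ∈ A, Commute a x := by
    intro x hx hxp a ha
    rcases eq_or_ne x 1 with rfl | hx1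
    · exact Commute.one_right a
    · have h1 := Subgroup.mem_centralizer_singleton_iff.mp
        (hfix x hx (orderOf_eq_prime hxp hx1) ha)
      exact h1
  have hAE : A ≤ Subgroup.centralizer (E : Set G) := fun a ha =>
    Subgroup.mem_centralizer_iff.mpr fun e he =>
      ((hAfix e (hE' he) (hEe.2 e he) a ha).symm).eq
  have hAC : A ≤ Subgroup.normalizer (C : Set G) := by
    intro a ha
    refine (Subgroup.inf_normalizer_le_normalizer_inf) ⟨hA ha, ?_⟩
    exact Subgroup.le_normalizer (hAE ha)
  have h1 : A ≤ Subgroup.centralizer (C : Set G) :=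
    CfsgLib.OddOrder.le_centralizer_of_fix_order_prime hp C A (hH.to_le inf_le_left) hcop hAC hAfix
  have hEn : E ≤ Subgroup.normalizer (A : Set G) :=
    (Subgroup.le_centralizer_iff.mp hAE).trans (Subgroup.centralizer_le_normalizer _)
  exact CfsgLib.OddOrder.le_centralizer_of_fixed hp H E A hH (hH.to_le hE) hcop
    (hE.trans Subgroup.le_normalizer) hA hEn (Subgroup.le_centralizer_iff.mp h1)

end Cfsg.Agent.S1443
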