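import Cfsg.Statements.S1447
import Cfsg.Agent.Lib.OddOrder.MetacyclicAction

set_option autoImplicit false
open Cfsg

namespace Cfsg.Agent.S1447

/-- Let G be a finite group, p an odd prime, R a metacyclic p-subgroup and A a subgroup of order coprime to p normalizing R. Then [R, A] is abelian; R is generated by [R, A] and R ∩ C_G(A), which meet trivially; and if R is non-abelian and A does not centralize R, then [R, A] and R ∩ C_G(A) are nontrivial cyclic groups and [R, R] ≤ [R, A]. -/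
theorem result {G : Type*} [Group G] [Finite G] (p : ℕ) [Fact p.Prime] (hp : p ≠ 2) (R A : Subgroup G) (hR : IsPGroup p R) (hRm : Cfsg.IsMetacyclic R)
    (hA : (A ≤ Subgroup.normalizer (R : Set G))) (hcop : (Nat.card A).Coprime p) :
    IsMulCommutative ↥⁅R, A⁆ ∧ ⁅R, A⁆ ⊔ (R ⊓ Subgroup.centralizer (A : Set G)) = R ∧ ⁅R, A⁆ ⊓ (R ⊓ Subgroup.centralizer (A : Set G)) = ⊥ ∧
      (¬ IsMulCommutative R → ¬ A ≤ Subgroup.centralizer (R : Set G) →
        ⁅R, A⁆ ≠ ⊥ ∧ IsCyclic ↥⁅R, A⁆ ∧ (R ⊓ Subgroup.centralizer (A : Set G)) ≠ ⊥ ∧ IsCyclic ↥(R ⊓ Subgroup.centralizer (A : Set G)) ∧ ⁅R, R⁆ ≤ ⁅R, A⁆) := by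
  obtain ⟨n, hn⟩ := IsPGroup.iff_card.mp hR
  have hcopR : (Nat.card A).Coprime (Nat.card R) := hn ▸ hcop.pow_right n
  have hnil : Group.IsNilpotent R := hR.isNilpotent
  have hsol : Group.IsSolvable R := inferInstance
  have hTR := CfsgLib.Coprime.commutator_le_of_le_normalizer hA
  have hsup := CfsgLib.Coprime.commutator_sup_centralizer hA hcopR (Or.inr hsol)
  by_cases hab : IsMulCommutative R
  · have hT : IsMulCommutative ↥⁅R, A⁆ := CfsgLib.Base.isMulCommutative_subgroup_iff.2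
      fun a ha b hb => CfsgLib.Base.isMulCommutative_subgroup_iff.1 hab a (hTR ha) b (hTR hb)
    refine ⟨hT, hsup, ?_, fun h => absurd hab h⟩
    rw [inf_comm]
    exact CfsgLib.Coprime.centralizer_inf_commutator_eq_bot hA hcopR
  by_cases htriv : A ≤ Subgroup.centralizer (R : Set G)
  · have hT : ⁅R, A⁆ = ⊥ := Subgroup.commutator_eq_bot_iff_le_centralizer.2
      (Subgroup.le_centralizer_iff.1 htriv)
    refine ⟨?_, hsup, by rw [hT, bot_inf_eq], fun _ h => absurd htriv h⟩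
    rw [hT]
    exact CfsgLib.Base.isMulCommutative_subgroup_iff.2 fun a ha b hb => by
      rw [Subgroup.mem_bot.1 ha, Subgroup.mem_bot.1 hb]
  obtain ⟨h1, h2, h3, h4, h5, h6⟩ :=
    CfsgLib.OddOrder.metacyclic_action hp R A hR hRm hA hcop hab htriv
  exact ⟨by infer_instance, hsup, h6, fun _ _ => ⟨h1, h2, h3, h4, h5⟩⟩

end Cfsg.Agent.S1447
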