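import Cfsg.Statements.S1457
import Cfsg.Agent.Lib.OddOrder.AbelianGenerated

set_option autoImplicit false
open Cfsg

namespace Cfsg.Agent.S1457

/-- Let G be a solvable group of odd order, p a prime, S a Sylow p-subgroup of G and A an abelian subgroup of S normal in S. Then A ≤ O_{p',p}(G). -/
theorem result {G : Type*} [Group G] [Finite G] [Group.IsSolvable G] (hodd : Odd (Nat.card G)) (p : ℕ) [Fact p.Prime] (S : Sylow p G) (A : Subgroup G) (hA : A ≤ (S : Subgroup G)) (hAc : IsMulCommutative A)
    (hAn : (S : Subgroup G) ≤ Subgroup.normalizer (A : Set G)) :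
    A ≤ Cfsg.pPrimePCore p G := by
  rcases eq_or_ne p 2 with rfl | hp
  · obtain ⟨k, hk⟩ := IsPGroup.iff_card.1 S.2
    have hd := Subgroup.card_subgroup_dvd_card (S : Subgroup G)
    rw [hk] at hd
    rcases k with _ | k
    · rw [pow_zero] at hk
      have hbot : (S : Subgroup G) = ⊥ := Subgroup.card_eq_one.1 hk
      rw [hbot] at hA
      exact hA.trans bot_le
    · exfalso
      obtain ⟨j, hj⟩ := hodd
      have := (dvd_pow_self 2 k.succ_ne_zero).trans hd
      omega
  set π := QuotientGroup.mk' (Cfsg.pPrimeCore p G) with hπ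
  have hsurj : Function.Surjective π := QuotientGroup.mk'_surjective _
  rw [Cfsg.pPrimePCore, ← Subgroup.map_le_iff_le_comap]
  set T := Cfsg.pCore p (G ⧸ Cfsg.pPrimeCore p G) with hT
  have hTS : T ≤ (S : Subgroup G).map π := by
    have h := CfsgLib.Base.pCore_le_sylow (S.mapSurjective hsurj)
    rwa [Sylow.coe_mapSurjective] at h
  have hno : ¬ CfsgLib.OddOrder.InvolvesSL2 p (G ⧸ Cfsg.pPrimeCore p G) := fun h =>
    CfsgLib.OddOrder.InvolvesSL2.not_of_odd hp hodd (h.of_surjective π hsurj)
  have hcA : IsMulCommutative (A.map π) := inferInstance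
  have hnA : T ≤ Subgroup.normalizer ((A.map π : Subgroup _) : Set (G ⧸ Cfsg.pPrimeCore p G)) :=
    hTS.trans ((Subgroup.map_mono hAn).trans (Subgroup.le_normalizer_map π))
  have h := CfsgLib.OddOrder.sSup_le_pCore hp hno CfsgLib.PLocal.isPSolvable_of_isSolvable
    (CfsgLib.Base.pPrimeCore_quotient_pPrimeCore p G) T (CfsgLib.Base.isPGroup_pCore p _)
    inf_le_left {A.map π} (fun B hB => by
      rw [Set.mem_singleton_iff] at hB; subst hB; exact ⟨hcA, hnA⟩)
  rwa [sSup_singleton] at h

end Cfsg.Agent.S1457
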