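import Cfsg.Statements.S1458
import Cfsg.Agent.Lib.OddOrder.ThompsonCentre

set_option autoImplicit false
open Cfsg

namespace Cfsg.Agent.S1458

/-- Let G be a solvable group of odd order, p a prime and S a Sylow p-subgroup of G. Then the subgroup generated by the centre of the Thompson subgroup of S and O_{p'}(G) is normal in G. -/
theorem result {G : Type*} [Group G] [Finite G] [Group.IsSolvable G] (hodd : Odd (Nat.card G)) (p : ℕ) [Fact p.Prime] (S : Sylow p G) :
    (Cfsg.centerThompsonOf p (S : Subgroup G) ⊔ Cfsg.pPrimeCore p G).Normal := by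
  rcases eq_or_ne p 2 with rfl | hp
  · obtain ⟨k, hk⟩ := IsPGroup.iff_card.1 S.2
    have hd := Subgroup.card_subgroup_dvd_card (S : Subgroup G)
    rw [hk] at hd
    rcases k with _ | k
    · rw [pow_zero] at hk
      have hbot : (S : Subgroup G) = ⊥ := Subgroup.card_eq_one.1 hk
      have hW : Cfsg.centerThompsonOf 2 (S : Subgroup G) = ⊥ :=
        le_bot_iff.1 ((inf_le_left.trans (CfsgLib.PLocal.thompsonSubgroupOf_le 2 _)).trans hbot.le)
      rw [hW, bot_sup_eq]
      infer_instance
    · exfalso
      obtain ⟨j, hj⟩ := hodd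
      have := (dvd_pow_self 2 k.succ_ne_zero).trans hd
      omega
  set N := Cfsg.pPrimeCore p G
  set π := QuotientGroup.mk' N
  have hsurj : Function.Surjective π := QuotientGroup.mk'_surjective N
  have hinj : Function.Injective (π.comp (S : Subgroup G).subtype) := by
    rw [← MonoidHom.ker_eq_bot_iff, eq_bot_iff]
    intro x hx
    have h : x.1 ∈ (S : Subgroup G) ⊓ N := ⟨x.2, (QuotientGroup.eq_one_iff _).1 hx⟩
    rw [CfsgLib.Base.inf_eq_bot_of_isPGroup_of_coprime S.2
      (CfsgLib.Base.pPrimeCore_coprime p G)] at h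
    exact Subgroup.mem_bot.2 (Subtype.ext (Subgroup.mem_bot.1 h))
  have htop : (⊤ : Subgroup (S : Subgroup G)).map (S : Subgroup G).subtype = (S : Subgroup G) := by
    rw [← MonoidHom.range_eq_map, Subgroup.range_subtype]
  have hmap : (Cfsg.centerThompsonOf p (S : Subgroup G)).map π =
      Cfsg.centerThompsonOf p ((S : Subgroup G).map π) := by
    conv_lhs => rw [← htop, ← CfsgLib.OddOrder.map_centerThompsonOf (S : Subgroup G).subtype_injective]
    rw [Subgroup.map_map, CfsgLib.OddOrder.map_centerThompsonOf hinj, ← Subgroup.map_map, htop]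
  have hn := CfsgLib.OddOrder.centerThompsonOf_normal hp _ (G ⧸ N) le_rfl
    (fun h => CfsgLib.OddOrder.InvolvesSL2.not_of_odd hp hodd (h.of_surjective π hsurj))
    CfsgLib.PLocal.isPSolvable_of_isSolvable
    (CfsgLib.Base.pPrimeCore_quotient_pPrimeCore p G) (S.mapSurjective hsurj)
  rw [Sylow.coe_mapSurjective, ← hmap] at hn
  have h : ((Cfsg.centerThompsonOf p (S : Subgroup G)).map π).comap π =
      Cfsg.centerThompsonOf p (S : Subgroup G) ⊔ N := by
    rw [Subgroup.comap_map_eq, QuotientGroup.ker_mk']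
  rw [← h]
  infer_instance

end Cfsg.Agent.S1458
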