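import Cfsg.Statements.S1460
import Cfsg.Agent.Lib.OddOrder.CoprimeFusion

set_option autoImplicit false
open Cfsg

namespace Cfsg.Agent.S1460

/-- Let G be a finite solvable group, K a normal subgroup and U a subgroup with G = KU, and H ≤ U a subgroup whose order is coprime to that of K. Then H ∩ G' = H ∩ U'; N_G(H) is generated by K ∩ C_G(H) and U ∩ N_G(H); and if gHg⁻¹ ≤ U for some g ∈ G then g = u c with u ∈ U and c ∈ K ∩ C_G(H). -/
theorem result {G : Type*} [Group G] [Finite G] [Group.IsSolvable G] (K U H : Subgroup G) [K.Normal] (hKU : K ⊔ U = ⊤) (hH : H ≤ U) (hcop : (Nat.card H).Coprime (Nat.card K)) :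
    H ⊓ commutator G = H ⊓ ⁅U, U⁆ ∧
      Subgroup.normalizer (H : Set G) = (K ⊓ Subgroup.centralizer (H : Set G)) ⊔ (U ⊓ Subgroup.normalizer (H : Set G)) ∧
      ∀ g : G, H.map (MulAut.conj g).toMonoidHom ≤ U → ∃ u ∈ U, ∃ c ∈ K ⊓ Subgroup.centralizer (H : Set G), g = u * c := by
  have hfac := fun g hg => CfsgLib.OddOrder.exists_mul_of_conj_le (g := g) hKU hH hcop hg
  refine ⟨le_antisymm ?_ ?_, le_antisymm ?_ ?_, hfac⟩
  · intro x hx
    refine ⟨hx.1, ?_⟩
    have hG' : commutator G ≤ K ⊔ ⁅U, U⁆ := by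
      have h1 : (commutator G).map (QuotientGroup.mk' K) ≤ (⁅U, U⁆ : Subgroup G).map (QuotientGroup.mk' K) := by
        rw [commutator_def, Subgroup.map_commutator, Subgroup.map_commutator]
        have h2 : (⊤ : Subgroup G).map (QuotientGroup.mk' K) = U.map (QuotientGroup.mk' K) := by
          rw [← hKU, Subgroup.map_sup, QuotientGroup.map_mk'_self, bot_sup_eq]
        rw [h2]
      exact CfsgLib.Coprime.le_sup_of_map_mk'_le h1
    have hxm : x ∈ ⁅U, U⁆ ⊔ K := by rw [sup_comm]; exact hG' hx.2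
    obtain ⟨d, hd, k, hk, hdk⟩ := (CfsgLib.Coprime.mem_sup_iff_of_le_normalizer (H := ⁅U, U⁆) (N := K)
      Subgroup.le_normalizer_of_normal).mp hxm
    have hdU : d ∈ U := Subgroup.commutator_le_self U hd
    have hkU : k ∈ U := by
      have h3 := U.mul_mem (U.inv_mem hdU) (hH hx.1)
      rwa [← hdk, inv_mul_cancel_left] at h3
    -- in `U / U'` the image of `x` equals that of `k`
    let f := QuotientGroup.mk' (commutator U)
    have hmap : ∀ (z : G) (hz : z ∈ U), f ⟨z, hz⟩ = 1 ↔ z ∈ ⁅U, U⁆ := by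
      intro z hz
      rw [QuotientGroup.mk'_apply, QuotientGroup.eq_one_iff, ← Subgroup.map_subtype_commutator]
      exact (Subgroup.mem_map_iff_mem U.subtype_injective (x := (⟨z, hz⟩ : U))).symm
    have heq : f ⟨x, hH hx.1⟩ = f ⟨k, hkU⟩ := by
      rw [show (⟨x, hH hx.1⟩ : U) = ⟨d, hdU⟩ * ⟨k, hkU⟩ from Subtype.ext hdk.symm, map_mul,
        (hmap d hdU).mpr hd, one_mul]
    have h1 : orderOf (f ⟨x, hH hx.1⟩) ∣ Nat.card H :=
      (orderOf_map_dvd f _).trans (by rw [Subgroup.orderOf_mk]; exact Subgroup.orderOf_dvd_natCard H hx.1)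
    have h2 : orderOf (f ⟨x, hH hx.1⟩) ∣ Nat.card K := by
      rw [heq]
      exact (orderOf_map_dvd f _).trans (by rw [Subgroup.orderOf_mk]; exact Subgroup.orderOf_dvd_natCard K hk)
    exact (hmap x (hH hx.1)).mp (orderOf_eq_one_iff.mp (Nat.eq_one_of_dvd_coprimes hcop h1 h2))
  · rw [commutator_def]
    exact inf_le_inf_left _ (Subgroup.commutator_mono le_top le_top)
  · intro g hg
    have hgU : H.map (MulAut.conj g).toMonoidHom ≤ U := by
      rw [← show H.map (MulAut.conj g).toMonoidHom = H from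
        Subgroup.mem_normalizer_iff_map_conj_eq.mp hg] at hH
      exact hH
    obtain ⟨u, hu, c, hc, rfl⟩ := hfac g hgU
    have hcN : c ∈ Subgroup.normalizer (H : Set G) := Subgroup.centralizer_le_normalizer _ hc.2
    refine mul_mem (Subgroup.mem_sup_right ⟨hu, ?_⟩) (Subgroup.mem_sup_left hc)
    exact ((Subgroup.normalizer (H : Set G)).mul_mem_cancel_right hcN).mp hg
  · exact sup_le (inf_le_right.trans (Subgroup.centralizer_le_normalizer _)) inf_le_right

end Cfsg.Agent.S1460
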