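import Cfsg.Statements.S1462
import Cfsg.Agent.Lib.OddOrder.PLengthOne
import Cfsg.Agent.Lib.PLocal.Constrained
import Cfsg.Agent.Lib.OddOrder.Signalizer
import Cfsg.Agent.Lib.Base.Rank

set_option autoImplicit false
open Cfsg

namespace Cfsg.Agent.S1462

/-- Let G be a finite solvable group, p an odd prime with G = O_{p',p,p'}(G), E an elementary abelian p-subgroup contained in no larger elementary abelian p-subgroup of G, and L a subgroup of order coprime to p normalized by E. Then L ≤ O_{p'}(G). -/
theorem result {G : Type*} [Group G] [Finite G] [Group.IsSolvable G] (p : ℕ) [Fact p.Prime] (hp : p ≠ 2) (hpl : Cfsg.PLengthLE p 1 G) (E L : Subgroup G) (hE : Cfsg.IsElementaryAbelian p E)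
    (hEmax : ∀ B : Subgroup G, Cfsg.IsElementaryAbelian p B → E ≤ B → B = E) (hL : (Nat.card L).Coprime p) (hEL : E ≤ Subgroup.normalizer (L : Set G)) :
    L ≤ Cfsg.pPrimeCore p G := by
  have hEp : IsPGroup p E := CfsgLib.Base.isPGroup_of_isElementaryAbelian hE
  refine CfsgLib.OddOrder.le_pPrimeCore_of_omega hp hEp hL hEL
    (CfsgLib.PLocal.isPConstrained_iff.mp
      (CfsgLib.PLocal.isPConstrained_of_isPSolvable CfsgLib.PLocal.isPSolvable_of_isSolvable))
    (CfsgLib.OddOrder.map_le_pCore_quotient hpl hEp) fun u hu hup => ?_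
  have hzc : Subgroup.zpowers u ≤ Subgroup.centralizer (E : Set G) :=
    Subgroup.zpowers_le.mpr (Subgroup.mem_centralizer_iff.mpr fun e he => (hu e he).eq)
  have hB : Cfsg.IsElementaryAbelian p (E ⊔ Subgroup.zpowers u : Subgroup G) :=
    CfsgLib.Base.isElementaryAbelian_sup hE (CfsgLib.Base.isElementaryAbelian_zpowers hup)
      (fun e he => Subgroup.mem_centralizer_iff.mpr fun z hz => (Subgroup.mem_centralizer_iff.mp (hzc hz) e he).symm)
  rw [← hEmax _ hB le_sup_left]
  exact Subgroup.mem_sup_right (Subgroup.mem_zpowers u)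

end Cfsg.Agent.S1462
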