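import Cfsg.Statements.S1463
import Cfsg.Agent.Lib.OddOrder.DicksonConj
import Cfsg.Agent.Lib.OddOrder.PStableCriterion

set_option autoImplicit false
open scoped MatrixGroups
open Cfsg

namespace Cfsg.Agent.S1463

/-- Let F be a field of odd characteristic p and H a finite subgroup of odd order of GL(2, F) that leaves no 1-dimensional subspace of F² invariant. Then p does not divide the order of H. -/
theorem result {F : Type*} [Field F] (p : ℕ) [Fact p.Prime] [CharP F p] (hp : p ≠ 2)
    (H : Subgroup (GL (Fin 2) F)) [Finite H] (hodd : Odd (Nat.card H))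
    (hirr : ∀ v : Fin 2 → F, v ≠ 0 → ∃ g ∈ H, (g : Matrix (Fin 2) (Fin 2) F).mulVec v ∉ Submodule.span F {v}) :
    ¬ p ∣ Nat.card H := by
  intro hdvd
  obtain ⟨g, hg⟩ := exists_prime_orderOf_dvd_card' p hdvd
  have hgp : (g : GL (Fin 2) F) ^ p = 1 := by
    rw [← Subgroup.coe_pow, ← hg, pow_orderOf_eq_one, OneMemClass.coe_one]
  have hgpM : (g : GL (Fin 2) F).1 ^ p ^ 1 = 1 := by
    rw [pow_one, ← Units.val_pow_eq_pow_val, hgp, Units.val_one]
  obtain ⟨v, hv, hgv⟩ := CfsgLib.OddOrder.SL2.exists_fixed_vec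
    (CfsgLib.OddOrder.SL2.det_sub_one_eq_zero_of_pow p hgpM)
  obtain ⟨k, hk, hkv⟩ := hirr v hv
  set h : H := ⟨k, hk⟩ * g * (⟨k, hk⟩ : H)⁻¹ with hh
  have hdet : ∀ x : H, (x : GL (Fin 2) F) ^ p = 1 → (x : GL (Fin 2) F).1.det = 1 := by
    intro x hx
    have h1 : (x : GL (Fin 2) F).1.det ^ p = 1 := by
      rw [← Matrix.det_pow, ← Units.val_pow_eq_pow_val, hx, Units.val_one, Matrix.det_one]
    have h2 : ((x : GL (Fin 2) F).1.det - 1) ^ p = 0 := by
      rw [sub_pow_char, one_pow, h1, sub_self]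
    exact sub_eq_zero.1 ((pow_eq_zero_iff (Fact.out : p.Prime).ne_zero).1 h2)
  have hhp : (h : GL (Fin 2) F) ^ p = 1 := by
    simp only [hh, Subgroup.coe_mul, Subgroup.coe_inv]
    rw [conj_pow, hgp, mul_one, mul_inv_cancel]
  set K := AlgebraicClosure F
  let f : F →+* K := algebraMap F K
  haveI : CharP K p := charP_of_injective_ringHom f.injective p
  let S : Subgroup H :=
    (((Matrix.detMonoidHom : Matrix (Fin 2) (Fin 2) F →* F).comp
      (Units.coeHom _)).comp H.subtype).ker
  let ι₀ : S →* Matrix.SpecialLinearGroup (Fin 2) F :=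
    { toFun := fun x => ⟨((x : H) : GL (Fin 2) F).1, MonoidHom.mem_ker.1 x.2⟩
      map_one' := Subtype.ext rfl
      map_mul' := fun _ _ => Subtype.ext rfl }
  let ι : S →* Matrix.SpecialLinearGroup (Fin 2) K := (Matrix.SpecialLinearGroup.map f).comp ι₀
  have hinj : Function.Injective ι := by
    intro x y hxy
    apply Subtype.ext; apply Subtype.ext; apply Units.ext
    ext i j
    exact f.injective (congrFun (congrFun (congrArg Subtype.val hxy) i) j)
  have : Finite ι.range := Finite.of_surjective _ ι.rangeRestrict_surjective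
  have hg1 : g ≠ 1 := fun h1 => by
    rw [h1, orderOf_one] at hg
    exact (Fact.out : p.Prime).one_lt.ne hg
  set gs : S := ⟨g, hdet g hgp⟩
  set hs : S := ⟨h, hdet h hhp⟩
  have hfix : ∀ (M : Matrix (Fin 2) (Fin 2) F) (u : Fin 2 → F), M.mulVec u = u →
      (M.map f).mulVec (f ∘ u) = f ∘ u := by
    intro M u hu
    funext i
    rw [← RingHom.map_mulVec, hu]; rfl
  have hkg : ((h : GL (Fin 2) F).1).mulVec ((k : GL (Fin 2) F).1.mulVec v) =
      (k : GL (Fin 2) F).1.mulVec v := by
    simp only [hh, Subgroup.coe_mul, Subgroup.coe_inv, Units.val_mul]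
    rw [Matrix.mulVec_mulVec, mul_assoc, Units.inv_mul, mul_one,
      ← Matrix.mulVec_mulVec, hgv]
  obtain ⟨φ, hφ, hle⟩ := CfsgLib.OddOrder.SL2.exists_sl2_of_vectors p hp ι.range
    (g := ι gs) (h := ι hs) ⟨gs, rfl⟩ ⟨hs, rfl⟩
    (fun h1 => hg1 (congrArg Subtype.val (hinj (h1.trans (map_one ι).symm))))
    (fun h1 => by
      have h2 : h = 1 := congrArg Subtype.val (hinj (h1.trans (map_one ι).symm))
      rw [hh, mul_inv_eq_one, mul_eq_left] at h2
      exact hg1 h2)
    (hfix _ v hgv) (hfix _ _ hkg) (by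
      intro h0
      apply hkv
      set w := (k : GL (Fin 2) F).1.mulVec v with hw
      have h1 : v 0 * w 1 - v 1 * w 0 = 0 := f.injective (by
        rw [map_sub, map_mul, map_mul, map_zero]; exact h0)
      rw [Submodule.mem_span_singleton]
      by_cases hv0 : v 0 = 0
      · have hv1 : v 1 ≠ 0 := fun hv1 => hv (funext fun i => by fin_cases i <;> assumption)
        have hw0 : w 0 = 0 := (mul_eq_zero.1 (by rw [hv0] at h1; linear_combination -h1 :
          v 1 * w 0 = 0)).resolve_left hv1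
        exact ⟨w 1 / v 1, funext fun i => by fin_cases i <;> simp [hv0, hw0, hv1]⟩
      · refine ⟨w 0 / v 0, funext fun i => ?_⟩
        fin_cases i
        · simp [hv0]
        · simp only [Fin.mk_one, Pi.smul_apply, smul_eq_mul]
          field_simp
          linear_combination -h1)
  exact CfsgLib.OddOrder.InvolvesSL2.not_of_odd hp hodd
    (CfsgLib.OddOrder.involvesSL2_of_hom ι φ hφ hle).of_subgroup

end Cfsg.Agent.S1463
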