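import Cfsg.Statements.S1476
import Cfsg.Agent.Lib.CNGroups.Structure

set_option autoImplicit false
open Cfsg

namespace Cfsg.Agent.S1476

open Subgroup CfsgLib.CNGroups in
/-- Let G be a finite solvable group in which every non-identity element has nilpotent centralizer. Then either G is nilpotent; or G has a normal subgroup K with a Frobenius complement E (K E = G, K ∩ E = 1, E meets its conjugates by outside elements trivially) such that E is cyclic or E is generated by two elementwise-commuting subgroups, one cyclic of odd order and one isomorphic to a generalized quaternion group; or G is a three-step group with respect to some prime p. -/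
theorem result {G : Type*} [Group G] [Finite G] [Group.IsSolvable G] (hCN : Cfsg.IsCNGroup G) :
    Group.IsNilpotent G ∨
      (∃ K E : Subgroup G, K.Normal ∧ Subgroup.IsComplement' K E ∧ Cfsg.IsFrobeniusComplement E ∧
        (IsCyclic E ∨ ∃ C Q : Subgroup G, C ⊔ Q = E ∧ (∀ a ∈ C, ∀ b ∈ Q, a * b = b * a) ∧ IsCyclic C ∧ Odd (Nat.card C) ∧
          ∃ n : ℕ, Nonempty (↥Q ≃* QuaternionGroup (2 ^ n)))) ∨
      ∃ p : ℕ, p.Prime ∧ Cfsg.IsThreeStepGroup p G := by
  by_cases hnn : Group.IsNilpotent G
  · exact Or.inl hnn
  refine Or.inr ?_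
  rcases solvable_cases hCN with hH | h
  swap
  · exact Or.inr h
  left
  haveI : (Cfsg.fittingSubgroup G).Normal := CfsgLib.Base.fittingSubgroup_normal' G
  set N := Cfsg.fittingSubgroup G with hNdef
  haveI : Nontrivial G := by
    by_contra h
    haveI := not_nontrivial_iff_subsingleton.mp h
    exact hnn inferInstance
  have hne : N ≠ ⊥ := hH.ne_bot
  have hnt : N ≠ ⊤ := fun h => hnn (CfsgLib.Base.fittingSubgroup_eq_top_iff.mp h)
  obtain ⟨E, hE, hfpf, hEn, hF⟩ := hH.exists_complement hCN
  haveI := hEn hne
  have hEne : E ≠ ⊥ := by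
    rintro rfl
    exact hnt (isComplement'_bot_right.mp hE)
  refine ⟨N, E, inferInstance, hE, isFrobeniusComplement_of_fpf hE hne hEne hfpf, ?_⟩
  haveI := Fact.mk Nat.prime_two
  obtain ⟨Q⟩ : Nonempty (Sylow 2 E) := inferInstance
  rcases hF.isCyclic_or_quaternion hne (Q : Subgroup E) Q.isPGroup' with hQ | ⟨-, n, -, hQ⟩
  · left
    haveI : IsZGroup E := ⟨fun r hr R => by
      haveI := Fact.mk hr
      rcases hF.isCyclic_or_quaternion hne (R : Subgroup E) R.isPGroup' with h | ⟨rfl, -, -, -⟩
      · exact h
      · haveI := hQ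
        exact isCyclic_of_surjective _ (Q.equiv R).surjective⟩
    exact inferInstance
  right
  haveI : (Q : Subgroup E).Normal := Q.normal_of_normalizerCondition Group.normalizerCondition_of_isNilpotent
  obtain ⟨C, hC⟩ := Subgroup.exists_right_complement'_of_coprime (N := (Q : Subgroup E)) Q.card_coprime_index
  have hCi : Nat.card C = (Q : Subgroup E).index := hC.symm.index_eq_card.symm
  have hCodd : Odd (Nat.card C) := by
    rw [← Nat.not_even_iff_odd, even_iff_two_dvd, hCi]
    exact Q.not_dvd_index
  haveI : IsZGroup C := ⟨fun r hr R => by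
    haveI := Fact.mk hr
    have hR2 : IsPGroup r ((R : Subgroup C).map C.subtype) := R.2.map _
    rcases hF.isCyclic_or_quaternion hne _ hR2 with h | ⟨rfl, -, -, -⟩
    · haveI := h
      exact isCyclic_of_surjective _
        ((R : Subgroup C).equivMapOfInjective _ C.subtype_injective).symm.surjective
    · have hbot : (R : Subgroup C) = ⊥ := by
        refine Subgroup.eq_bot_of_card_eq _ ?_
        rw [R.card_eq_multiplicity, Nat.factorization_eq_zero_of_not_dvd, pow_zero]
        rwa [← even_iff_two_dvd, Nat.not_even_iff_odd]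
      show IsCyclic (R : Subgroup C)
      rw [hbot]
      infer_instance⟩
  haveI : IsCyclic C := inferInstance
  refine ⟨C.map E.subtype, (Q : Subgroup E).map E.subtype, ?_, ?_,
    isCyclic_of_surjective _ (C.equivMapOfInjective _ E.subtype_injective).surjective,
    by rwa [card_map_of_injective E.subtype_injective], n,
    hQ.map ((Q : Subgroup E).equivMapOfInjective _ E.subtype_injective).symm.trans⟩
  · rw [← Subgroup.map_sup, sup_comm, hC.sup_eq_top, ← MonoidHom.range_eq_map, range_subtype]
  · rintro _ ⟨a, ha, rfl⟩ _ ⟨b, hb, rfl⟩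
    refine (commute_of_coprime (hEn hne) a.2 b.2 ?_).eq
    rw [Subgroup.orderOf_coe, Subgroup.orderOf_coe]
    refine Nat.Coprime.coprime_dvd_left (orderOf_dvd_natCard _ ha)
      (Nat.Coprime.coprime_dvd_right (orderOf_dvd_natCard _ hb) ?_)
    rw [hCi]
    exact Q.card_coprime_index.symm

end Cfsg.Agent.S1476
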