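import Cfsg.Statements.S1481
import Cfsg.Agent.Lib.OddOrder.FittingTransitivity

set_option autoImplicit false
open Cfsg

namespace Cfsg.Agent.S1481

/-- Let G be a finite group and H a local subgroup (the normalizer of a nontrivial subgroup of prime-power order) not properly contained in any local subgroup; let F = F(H), suppose at least two primes divide #F, put X = H ∩ C_G(F), let M ≤ F with F ∩ C_G(M) ≤ M, and let R be a solvable subgroup normalized by M and by X. Then for every prime q not dividing #F there is exactly one maximal M-invariant q-subgroup of R, and it is a Sylow q-subgroup of the largest normal subgroup of R of order coprime to #F. -/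
theorem result {G : Type*} [Group G] [Finite G] (H : Subgroup G) (hH : Cfsg.IsLocalSubgroup H) (hHmax : ∀ L : Subgroup G, Cfsg.IsLocalSubgroup L → H ≤ L → L = H)
    (hF2 : 2 ≤ (Nat.card (Cfsg.fittingOf H)).primeFactors.card)
    (M : Subgroup G) (hM : M ≤ Cfsg.fittingOf H) (hCM : Cfsg.fittingOf H ⊓ Subgroup.centralizer (M : Set G) ≤ M)
    (R : Subgroup G) (hR : Group.IsSolvable R) (hMR : M ≤ Subgroup.normalizer (R : Set G))
    (hXR : H ⊓ Subgroup.centralizer (Cfsg.fittingOf H : Set G) ≤ Subgroup.normalizer (R : Set G))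
    (q : ℕ) [Fact q.Prime] (hq : ¬ q ∣ Nat.card (Cfsg.fittingOf H)) :
    ∃! Q : Subgroup G, Q ∈ Cfsg.maxInvSubgroups R M {q} ∧
      (∀ Q' : Subgroup G, Q' ∈ Cfsg.maxInvSubgroups R M {q} →
        Q' ≤ Cfsg.piCoreOf (Cfsg.primesNotDvd (Nat.card (Cfsg.fittingOf H))) R ∧
        ¬ q ∣ Q'.relIndex (Cfsg.piCoreOf (Cfsg.primesNotDvd (Nat.card (Cfsg.fittingOf H))) R)) := by
  set n := Nat.card (Cfsg.fittingOf H) with hn
  set D := Cfsg.piCoreOf (Cfsg.primesNotDvd n) R with hD
  have hDR : D ≤ R := CfsgLib.OddOrder.piCoreOf_le _ _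
  have hcopD : n.Coprime (Nat.card D) :=
    CfsgLib.OddOrder.coprime_primesNotDvd (CfsgLib.OddOrder.piCoreOf_primes _ _)
  have hMD : M ≤ Subgroup.normalizer (D : Set G) :=
    hMR.trans (CfsgLib.Base.normalizer_le_normalizer_map_subtype _ _)
  have hMH : M ≤ H := hM.trans (CfsgLib.OddOrder.fittingOf_le' H)
  have hcop : (Nat.card M).Coprime (Nat.card D) :=
    hcopD.coprime_dvd_left (Subgroup.card_dvd_of_le hM)
  have hsolv : Group.IsSolvable M ∨ Group.IsSolvable D :=
    Or.inr (Group.isSolvable_of_isSolvable_injective (Subgroup.inclusion_injective hDR))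
  obtain ⟨t, htm⟩ := Finset.card_pos.mp (show 0 < n.primeFactors.card by omega)
  have : Fact t.Prime := ⟨Nat.prime_of_mem_primeFactors htm⟩
  have hfix : D ⊓ Subgroup.centralizer (M : Set G) = ⊥ := by
    refine CfsgLib.OddOrder.inv_eq_bot_of_le hM hCM hR hXR (inf_le_left.trans hDR) ?_ ?_
      (hcopD.symm.coprime_dvd_left (Subgroup.card_dvd_of_le inf_le_left))
    · refine inf_le_right.trans ((Subgroup.centralizer_le ?_).trans
        (CfsgLib.OddOrder.local_normalizer_eq hHmax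
          ((CfsgLib.OddOrder.isPGroup_opOf t H).to_le inf_le_left)
          (CfsgLib.OddOrder.centerOp_ne_bot (Nat.dvd_of_mem_primeFactors htm))
          (CfsgLib.OddOrder.le_normalizer_centerOp t H)))
      exact ((CfsgLib.OddOrder.centerOp_le_centralizer_fittingOf t H).trans
        (inf_le_inf_left _ (Subgroup.centralizer_le hM))).trans hCM
    · exact CfsgLib.Coprime.le_normalizer_inf_inf hMD
        (CfsgLib.Coprime.le_normalizer_centralizer Subgroup.le_normalizer)
  obtain ⟨S, hS⟩ := CfsgLib.Coprime.exists_invariant_sylow (p := q) hMD hcop hsolv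
  set Q₀ := (S : Subgroup D).map D.subtype with hQ₀
  have hall : ∀ Q ∈ Cfsg.invSubgroups R M {q}, Q ≤ Q₀ := by
    intro Q hQ
    obtain ⟨hQR, hQq, hMQ⟩ := CfsgLib.OddOrder.mem_invSubgroups_singleton_iff.mp hQ
    have hQD : Q ≤ D :=
      CfsgLib.OddOrder.inv_le_piCoreOf hHmax hF2 hM hCM hR hMR hXR hq hQR hQq hMQ
    obtain ⟨P, hQP, hP⟩ :=
      CfsgLib.Coprime.exists_invariant_sylow_ge hMD hcop hsolv hQD hQq hMQ
    obtain ⟨c, hc, hcP⟩ := CfsgLib.Coprime.invariant_sylow_conj hMD hcop hsolv P S hP hS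
    have hc1 : c = 1 := Subtype.ext (Subgroup.mem_bot.mp (hfix ▸ ⟨c.2, hc⟩))
    rw [hc1, map_one, one_smul] at hcP
    rw [hQ₀, ← hcP]; exact hQP
  have hQ₀i : Q₀ ∈ Cfsg.invSubgroups R M {q} := CfsgLib.OddOrder.mem_invSubgroups_singleton_iff.mpr
    ⟨(Subgroup.map_subtype_le _).trans hDR, S.isPGroup'.map _, hS⟩
  have hQ₀m : Q₀ ∈ Cfsg.maxInvSubgroups R M {q} :=
    ⟨hQ₀i, fun Q hQ hle => le_antisymm (hall Q hQ) hle⟩
  have heq : ∀ Q ∈ Cfsg.maxInvSubgroups R M {q}, Q = Q₀ := fun Q hQ =>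
    (hQ.2 Q₀ hQ₀i (hall Q hQ.1)).symm
  refine ⟨Q₀, ⟨hQ₀m, fun Q hQ => ?_⟩, fun Q hQ => heq Q hQ.1⟩
  rw [heq Q hQ]
  refine ⟨Subgroup.map_subtype_le _, ?_⟩
  rw [hQ₀, Subgroup.relIndex, Subgroup.subgroupOf,
    Subgroup.comap_map_eq_self_of_injective D.subtype_injective]
  exact S.not_dvd_index

end Cfsg.Agent.S1481
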