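import Cfsg.Statements.S1483
import Cfsg.Agent.Lib.CNGroups.MinSimple

set_option autoImplicit false
open Cfsg

namespace Cfsg.Agent.S1483

open Subgroup CfsgLib.CNGroups in
/-- Let G be a minimal simple group of odd order in which every non-identity element has nilpotent centralizer. Then any two nilpotent subgroups each contained in no larger nilpotent subgroup are either conjugate or of coprime orders; and for primes p, q, r: if some elements x, y ≠ 1 of p-power and q-power order commute, and some elements y', z ≠ 1 of q-power and r-power order commute, then some elements of p-power and r-power order, both ≠ 1, commute. -/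
theorem result {G : Type*} [Group G] [Finite G] (hG : Cfsg.IsMinSimpleOddOrder G) (hCN : Cfsg.IsCNGroup G) :
    (∀ H₁ H₂ : Subgroup G, (Group.IsNilpotent ↥H₁ ∧ ∀ L : Subgroup G, Group.IsNilpotent L → H₁ ≤ L → L = H₁) → (Group.IsNilpotent ↥H₂ ∧ ∀ L : Subgroup G, Group.IsNilpotent L → H₂ ≤ L → L = H₂) → (∃ g : G, H₂ = H₁.map (MulAut.conj g).toMonoidHom) ∨ (Nat.card H₁).Coprime (Nat.card H₂)) ∧
      ∀ (p q r : ℕ), p.Prime → q.Prime → r.Prime → ∀ (x y y' z : G), x ≠ 1 → y ≠ 1 → y' ≠ 1 → z ≠ 1 →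
        IsPGroup p (Subgroup.zpowers x) → IsPGroup q (Subgroup.zpowers y) → IsPGroup q (Subgroup.zpowers y') → IsPGroup r (Subgroup.zpowers z) →
        x * y = y * x → y' * z = z * y' →
        ∃ x' z' : G, x' ≠ 1 ∧ z' ≠ 1 ∧ IsPGroup p (Subgroup.zpowers x') ∧ IsPGroup r (Subgroup.zpowers z') ∧ x' * z' = z' * x' := by
  refine ⟨fun H₁ H₂ h1 h2 => MaxNil.conj_or_coprime hG hCN h1 h2, ?_⟩
  intro p q r hp hq hr x y y' z hx hy hy' hz hxp hyq hy'q hzr hxy hyz
  haveI := Fact.mk hp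
  haveI := Fact.mk hq
  haveI := Fact.mk hr
  have hord : ∀ {s : ℕ} {w : G}, s.Prime → IsPGroup s (zpowers w) → ∃ k, orderOf w = s ^ k := by
    intro s w hs h
    haveI := Fact.mk hs
    exact mem_of_subgroup_pow h (mem_zpowers w)
  by_cases hpr : p = r
  · subst hpr
    exact ⟨x, x, hx, hx, hxp, hxp, rfl⟩
  obtain ⟨H, hH1, hH⟩ := exists_maxNil_le _ (hCN y hy)
  obtain ⟨K, hK1, hK⟩ := exists_maxNil_le _ (hCN y' hy')
  have hxH : x ∈ H := hH1 (mem_centralizer_singleton_iff.mpr hxy)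
  have hzK : z ∈ K := hK1 (mem_centralizer_singleton_iff.mpr hyz.symm)
  have hdvd : ∀ {w : G} {L : Subgroup G}, w ∈ L → w ≠ 1 → IsPGroup q (zpowers w) → q ∣ Nat.card L := by
    intro w L hw hw1 hwq
    obtain ⟨k, hk⟩ := hord hq hwq
    refine dvd_trans ?_ (orderOf_dvd_natCard L hw)
    rcases k with _ | k
    · exact absurd (orderOf_eq_one_iff.mp (by rw [hk, pow_zero])) hw1
    · rw [hk]; exact dvd_pow_self q (Nat.succ_ne_zero k)
  obtain ⟨g, hg⟩ := (hH.conj_or_coprime hG hCN hK).resolve_right fun hc =>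
    hq.ne_one (Nat.eq_one_of_dvd_coprimes hc (hdvd (hH1 (mem_centralizer_singleton_iff.mpr rfl)) hy hyq)
      (hdvd (hK1 (mem_centralizer_singleton_iff.mpr rfl)) hy' hy'q))
  have hxK : g * x * g⁻¹ ∈ K := by rw [hg]; exact ⟨x, hxH, rfl⟩
  refine ⟨g * x * g⁻¹, z, fun e => hx (conj_eq_one_iff.mp e), hz, ?_, hzr, ?_⟩
  · have h := hxp.map (MulAut.conj g).toMonoidHom
    rwa [MonoidHom.map_zpowers] at h
  obtain ⟨i, hi⟩ := hord hp hxp
  obtain ⟨j, hj⟩ := hord hr hzr
  refine (commute_of_coprime hK.1 hxK hzK ?_).eq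
  rw [← MulAut.conj_apply, MulEquiv.orderOf_eq, hi, hj]
  exact Nat.coprime_pow_primes i j hp hr hpr

end Cfsg.Agent.S1483
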