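import Cfsg.Statements.S1484
import Cfsg.Agent.Lib.CNGroups.MinSimple

set_option autoImplicit false
open Cfsg

namespace Cfsg.Agent.S1484

open Subgroup CfsgLib.CNGroups in
/-- Let G be a minimal simple group of odd order in which every non-identity element has nilpotent centralizer, and M₁, …, M_k maximal subgroups, pairwise non-conjugate, such that every maximal subgroup is conjugate to some M_i. Let H_i be the largest normal nilpotent Hall subgroup of M_i. Then the orders of the H_i are pairwise coprime, their product is the order of G, and every element of G is conjugate to an element of some H_i. -/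
theorem result {G : Type*} [Group G] [Finite G] (hG : Cfsg.IsMinSimpleOddOrder G) (hCN : Cfsg.IsCNGroup G) (k : ℕ) (Mrep : Fin k → Subgroup G) (hmax : ∀ i, IsCoatom (Mrep i))
    (hnc : ∀ i j, i ≠ j → ∀ g : G, Mrep j ≠ (Mrep i).map (MulAut.conj g).toMonoidHom) (hall : ∀ M : Subgroup G, IsCoatom M → ∃ i, ∃ g : G, M = (Mrep i).map (MulAut.conj g).toMonoidHom) :
    (∀ i j, i ≠ j → (Nat.card (Cfsg.fittingHallOf (Mrep i))).Coprime (Nat.card (Cfsg.fittingHallOf (Mrep j)))) ∧
      ∏ i, Nat.card (Cfsg.fittingHallOf (Mrep i)) = Nat.card G ∧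
      ∀ x : G, ∃ i, ∃ g : G, g * x * g⁻¹ ∈ Cfsg.fittingHallOf (Mrep i) := by
  haveI := CfsgLib.OddOrder.minSimple_isSimple hG
  set K := fun i => Cfsg.fittingHallOf (Mrep i) with hKdef
  have hKi : ∀ i, MaxNil (K i) ∧ normalizer (K i : Set G) = Mrep i ∧ K i ≠ ⊥ := by
    intro i
    obtain ⟨L, E, hL, hL1, -, hNL, -, -, -, heq⟩ := exists_kernel hG hCN (hmax i)
    simp only [hKdef]
    rw [heq]
    exact ⟨hL, hNL, hL1⟩
  have hcop : ∀ i j, i ≠ j → (Nat.card (K i)).Coprime (Nat.card (K j)) := by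
    intro i j hij
    refine ((hKi i).1.conj_or_coprime hG hCN (hKi j).1).resolve_left ?_
    rintro ⟨g, hg⟩
    refine hnc i j hij g ?_
    rw [← (hKi j).2.1, ← (hKi i).2.1, hg]
    exact (Subgroup.map_equiv_normalizer_eq (K i) (MulAut.conj g)).symm
  -- every maximal nilpotent subgroup is a conjugate
  have hcov : ∀ H : Subgroup G, MaxNil H → ∃ i, ∃ g : G, H = (K i).map (MulAut.conj g).toMonoidHom := by
    intro H hH
    obtain ⟨i, g, hg⟩ := hall _ (hH.normalizer_isCoatom hG hCN).1
    refine ⟨i, g, ?_⟩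
    have hmap : normalizer (((K i).map (MulAut.conj g).toMonoidHom : Subgroup G) : Set G) =
        normalizer (H : Set G) := by
      rw [hg, ← (hKi i).2.1]
      exact (Subgroup.map_equiv_normalizer_eq (K i) (MulAut.conj g)).symm
    -- two kernels of the same maximal subgroup
    obtain ⟨x, hx, hx1⟩ := (bot_or_exists_ne_one H).resolve_left hH.ne_bot
    have hK' : MaxNil ((K i).map (MulAut.conj g).toMonoidHom) := (hKi i).1.map _
    by_contra hne
    obtain ⟨y, hy, hy1⟩ := (bot_or_exists_ne_one _).resolve_left hK'.ne_bot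
    have hxN : x ∈ normalizer (((K i).map (MulAut.conj g).toMonoidHom : Subgroup G) : Set G) :=
      hmap ▸ le_normalizer hx
    have hyN : y ∈ normalizer (H : Set G) := hmap ▸ le_normalizer hy
    set L := (K i).map (MulAut.conj g).toMonoidHom
    have hmem : x * y * x⁻¹ * y⁻¹ ∈ H ⊓ L := ⟨by
        rw [show x * y * x⁻¹ * y⁻¹ = x * (y * x⁻¹ * y⁻¹) by group]
        exact H.mul_mem hx ((mem_normalizer_iff.mp hyN _).mp (H.inv_mem hx)),
      L.mul_mem ((mem_normalizer_iff.mp hxN y).mp hy) (L.inv_mem hy)⟩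
    by_cases hbot : x * y * x⁻¹ * y⁻¹ = 1
    · rw [mul_inv_eq_one, mul_inv_eq_iff_eq_mul] at hbot
      have hyH : y ∈ H := hH.centralizer_le_minSimple hG hCN hx hx1
        (mem_centralizer_singleton_iff.mpr hbot.symm)
      exact hne (hH.eq_of_mem hG hCN hK' hyH hy hy1)
    · exact hne (hH.eq_of_mem hG hCN hK' hmem.1 hmem.2 hbot)
  have helt : ∀ x : G, x ≠ 1 → ∃ i, ∃ g : G, g * x * g⁻¹ ∈ K i := by
    intro x hx
    obtain ⟨H, hH1, hH⟩ := exists_maxNil_le _ (hCN x hx)
    obtain ⟨i, g, hg⟩ := hcov H hH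
    have hxH : x ∈ H := hH1 (mem_centralizer_singleton_iff.mpr rfl)
    rw [hg] at hxH
    obtain ⟨y, hy, rfl⟩ := hxH
    exact ⟨i, g⁻¹, by simpa [mul_assoc] using hy⟩
  refine ⟨hcop, ?_, fun x => ?_⟩
  · refine Nat.dvd_antisymm ?_ ?_
    · exact Fintype.prod_dvd_of_isRelPrime (fun i j hij => Nat.coprime_iff_isRelPrime.mp (hcop i j hij))
        fun i => card_subgroup_dvd_card (K i)
    · refine (Nat.dvd_iff_prime_pow_dvd_dvd _ _).mpr fun p m hp hpm => ?_
      rcases m with _ | m
      · exact one_dvd _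
      haveI := Fact.mk hp
      obtain ⟨x, hx⟩ := exists_prime_orderOf_dvd_card' (G := G) p
        ((dvd_pow_self p (Nat.succ_ne_zero m)).trans hpm)
      obtain ⟨i, g, hg⟩ := helt x (fun e => by rw [e, orderOf_one] at hx; exact hp.ne_one hx.symm)
      have hd : p ∣ Nat.card (K i) := by
        refine dvd_trans ?_ (orderOf_dvd_natCard _ hg)
        rw [← MulAut.conj_apply, MulEquiv.orderOf_eq, hx]
      refine dvd_trans ?_ (Finset.dvd_prod_of_mem _ (Finset.mem_univ i))
      rw [← card_mul_index (K i)] at hpm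
      exact (Nat.Coprime.pow_left _ (hp.coprime_iff_not_dvd.mpr
        (not_dvd_index_of_dvd hCN (hKi i).1 hp hd))).dvd_of_dvd_mul_right hpm
  · by_cases hx : x = 1
    · obtain ⟨y, hy⟩ := exists_ne (1 : G)
      obtain ⟨i, -, -⟩ := helt y hy
      exact ⟨i, 1, by simp [hx]⟩
    · exact helt x hx

end Cfsg.Agent.S1484
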