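import Cfsg.Statements.S1487
import Cfsg.Agent.Lib.CharsMore.CliffordDegree

set_option autoImplicit false
open Cfsg

namespace Cfsg.Agent.S1487

/-- Let A ≤ H be normal subgroups of the finite group G and θ an irreducible character of H. Then θ takes the value θ 1 on all of A if and only if the function induced from θ to G takes its value at 1 on all of A. -/
theorem result {G : Type*} [Group G] [Fintype G] (A H : Subgroup G) [A.Normal] [H.Normal] (hAH : A ≤ H) (θ : H → ℂ) (hθ : Cfsg.IsIrrCharacter H θ) : (∀ a : H, (a : G) ∈ A → θ a = θ 1) ↔ (∀ a : G, a ∈ A → Cfsg.indFun H θ a = Cfsg.indFun H θ 1) := by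
  classical
  have hθc := CfsgLib.Chars.isCharacter_of_irr hθ
  obtain ⟨d, hd⟩ := CfsgLib.Chars.character_degree_nat hθc
  have hone : ∀ x : G, CfsgLib.CharsMore.conjFn H x θ 1 = θ 1 := fun x => congrArg θ (map_one _)
  have h1 : Cfsg.indFun H θ 1 = (Nat.card H : ℂ)⁻¹ * ∑ _x : G, θ 1 := by
    rw [← OneMemClass.coe_one H, CfsgLib.CharsMore.indFun_normal_apply]
    simp only [hone]
  constructor
  · intro h a ha
    rw [h1]
    show Cfsg.indFun H θ ((⟨a, hAH ha⟩ : H) : G) = _
    rw [CfsgLib.CharsMore.indFun_normal_apply]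
    congr 1
    refine Finset.sum_congr rfl fun x _ => ?_
    exact h (CfsgLib.CharsMore.conjBy H x ⟨a, hAH ha⟩) (‹A.Normal›.conj_mem a ha x)
  · intro h a ha
    have h2 := h a ha
    rw [h1, CfsgLib.CharsMore.indFun_normal_apply] at h2
    have h3 := congrArg Complex.re
      (mul_left_cancel₀ (inv_ne_zero (CfsgLib.Chars.card_ne_zero H)) h2)
    rw [Complex.re_sum, Complex.re_sum] at h3
    have hle : ∀ x ∈ (Finset.univ : Finset G),
        (CfsgLib.CharsMore.conjFn H x θ a).re ≤ (θ 1).re := fun x _ =>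
      (Complex.re_le_norm _).trans (CfsgLib.Chars.char_norm_le hθc _)
    have h4 := (Finset.sum_eq_sum_iff_of_le hle).1 h3 1 (Finset.mem_univ 1)
    rw [CfsgLib.CharsMore.conjFn_one] at h4
    have h5 := CfsgLib.Chars.char_norm_le hθc a
    have him : (θ a).im = 0 := by
      have h6 := Complex.sq_norm (θ a)
      rw [Complex.normSq_apply] at h6
      rw [← h4] at h5
      nlinarith [norm_nonneg (θ a), sq_nonneg (θ a).im]
    refine Complex.ext h4 ?_
    rw [him, hd, Complex.natCast_im]

end Cfsg.Agent.S1487
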