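import Cfsg.Statements.S1488
import Cfsg.Agent.Lib.Chars.Induction
import Mathlib

set_option autoImplicit false
set_option linter.style.haveILetI false
open Cfsg

namespace Cfsg.Agent.S1488

/-- Let A be a normal subgroup of the finite group G contained in the subgroup H, let θ be a function on H and θ₁ a function on the image of H in G ⧸ A whose composite with the projection is θ. Then the function induced from θ₁ to G ⧸ A, composed with the projection G → G ⧸ A, equals the function induced from θ to G. -/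
theorem result {G : Type*} [Group G] [Fintype G] (A H : Subgroup G) [A.Normal] (hAH : A ≤ H) [Fintype (G ⧸ A)] [Fintype ↥(H.map (QuotientGroup.mk' A))] (θ : H → ℂ) (θ₁ : ↥(H.map (QuotientGroup.mk' A)) → ℂ) (hθ : ∀ x : H, θ₁ ⟨QuotientGroup.mk' A x, Subgroup.mem_map_of_mem _ x.2⟩ = θ x) (g : G) : Cfsg.indFun (H.map (QuotientGroup.mk' A)) θ₁ (QuotientGroup.mk' A g) = Cfsg.indFun H θ g := by
  classical
  have hext : ∀ y : G, extendByZero (H.map (QuotientGroup.mk' A)) θ₁ ((QuotientGroup.mk' A) y) = extendByZero H θ y := by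
    intro y
    by_cases hy : y ∈ H
    · rw [CfsgLib.Chars.extendByZero_of_mem H θ hy,
        CfsgLib.Chars.extendByZero_of_mem (H.map (QuotientGroup.mk' A)) θ₁ (Subgroup.mem_map_of_mem _ hy)]
      exact hθ ⟨y, hy⟩
    · rw [CfsgLib.Chars.extendByZero_of_not_mem H θ hy,
        CfsgLib.Chars.extendByZero_of_not_mem (H.map (QuotientGroup.mk' A)) θ₁ (fun h => hy ?_)]
      obtain ⟨z, hz, e⟩ := h
      obtain ⟨w, hw, rfl⟩ := (QuotientGroup.mk'_eq_mk' A).1 e
      exact H.mul_mem hz (hAH hw)
  have hsum : ∀ F : G ⧸ A → ℂ, ∑ x : G, F ((QuotientGroup.mk' A) x) = (Nat.card A : ℂ) * ∑ q : G ⧸ A, F q := by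
    intro F
    rw [← Finset.sum_fiberwise Finset.univ (fun x : G => (QuotientGroup.mk' A) x) (fun x => F ((QuotientGroup.mk' A) x)), Finset.mul_sum]
    refine Finset.sum_congr rfl fun q _ => ?_
    rw [Finset.sum_congr rfl (fun x hx => by rw [(Finset.mem_filter.1 hx).2]), Finset.sum_const,
      nsmul_eq_mul, ← Fintype.card_subtype, ← Nat.card_eq_fintype_card]
    congr 2
    obtain ⟨x₀, rfl⟩ := QuotientGroup.mk'_surjective A q
    refine Nat.card_congr ((Equiv.mulLeft x₀⁻¹).subtypeEquiv fun x => ?_)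
    rw [Equiv.coe_mulLeft, eq_comm]
    exact QuotientGroup.eq
  have hcard : (Nat.card H : ℂ) = (Nat.card A : ℂ) * Nat.card (H.map (QuotientGroup.mk' A)) := by
    have h := hsum (fun q => if q ∈ (H.map (QuotientGroup.mk' A)) then 1 else 0)
    rw [Finset.sum_boole, Finset.sum_boole, ← Fintype.card_subtype, ← Fintype.card_subtype,
      ← Nat.card_eq_fintype_card, ← Nat.card_eq_fintype_card] at h
    rw [← h, Nat.card_congr (Equiv.subtypeEquivRight fun x => ?_)]
    constructor
    · exact fun hx => Subgroup.mem_map_of_mem _ hx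
    · rintro ⟨z, hz, e⟩
      obtain ⟨w, hw, rfl⟩ := (QuotientGroup.mk'_eq_mk' A).1 e
      exact H.mul_mem hz (hAH hw)
  have h := hsum (fun q => extendByZero (H.map (QuotientGroup.mk' A)) θ₁ (q⁻¹ * (QuotientGroup.mk' A) g * q))
  simp only [← map_inv, ← map_mul, hext] at h
  rw [CfsgLib.Chars.indFun_apply, CfsgLib.Chars.indFun_apply, h, hcard, mul_inv,
    mul_comm ((Nat.card A : ℂ)⁻¹), mul_assoc,
    inv_mul_cancel_left₀ (Nat.cast_ne_zero.2 Nat.card_pos.ne')]

end Cfsg.Agent.S1488
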