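import Cfsg.Statements.S1492
import Cfsg.Agent.Lib.CharsMore.CharAlg
import Cfsg.Agent.Lib.CharsMore.Intertwiners
import Cfsg.Agent.Lib.Chars.Irr
import Mathlib

set_option autoImplicit false
set_option linter.style.haveILetI false
open Cfsg

namespace Cfsg.Agent.S1492

/-- Let ψ be an irreducible character of the finite group G and B ≤ D ≤ C subgroups with B normal in C, every commutator of an element of D with an element of C lying in B (so D/B is central in C/B), and ψ constant equal to ψ 1 on B. Then ψ(1) ^ 2 * |C| * |D| ≤ |G| ^ 2. -/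
theorem result {G : Type*} [Group G] [Finite G] (ψ : G → ℂ) (hψ : Cfsg.IsIrrCharacter G ψ) (B C D : Subgroup G) (hBD : B ≤ D) (hDC : D ≤ C) (hBn : ∀ c ∈ C, ∀ b ∈ B, c * b * c⁻¹ ∈ B) (hcent : ∀ d ∈ D, ∀ c ∈ C, d * c * d⁻¹ * c⁻¹ ∈ B) (hker : ∀ b ∈ B, ψ b = ψ 1) : ‖ψ 1‖ ^ 2 * (Nat.card C : ℝ) * (Nat.card D : ℝ) ≤ (Nat.card G : ℝ) ^ 2 := by
  classical
  haveI := Fintype.ofFinite G
  obtain ⟨n, ρ, hρ, rfl⟩ := hψ
  have hρ1 : ρ.character 1 = n := by simp
  -- `B` acts trivially
  have hB : ∀ b ∈ B, ρ b = LinearMap.id := fun b hb =>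
    (CfsgLib.Chars.character_eq_finrank_iff ρ b).1 (by rw [hker b hb, hρ1]; simp)
  haveI : Nontrivial (Fin n → ℂ) := CfsgLib.Chars.nontrivial_of_isIrreducible ρ
  set σ : Representation ℂ C (Fin n → ℂ) := ρ.comp C.subtype with hσ
  obtain ⟨U, hU⟩ := CfsgLib.Chars.exists_irreducible_sub σ
  obtain ⟨U', hU'⟩ := CfsgLib.Chars.exists_isCompl_sub σ U
  set τ := U.toRepresentation with hτ
  haveI := hU
  set φ : C → ℂ := τ.character with hφ
  have hφi : Cfsg.IsIrrCharacter C φ := CfsgLib.Chars.isIrrCharacter_character τ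
  -- `D` acts by scalars on `U`
  have hscal : ∀ d : C, (d : G) ∈ D → ‖φ d‖ = (Module.finrank ℂ U.toSubmodule : ℝ) := by
    intro d hd
    rw [hφ, CfsgLib.Chars.norm_character_eq_iff]
    refine CfsgLib.CharsMore.schur_scalar τ (τ d) fun c => LinearMap.ext fun x => Subtype.ext ?_
    have hb : ρ ((d : G) * c) = ρ ((c : G) * d) := by
      have e : (d : G) * c = ((d : G) * c * (d : G)⁻¹ * (c : G)⁻¹) * (c * d) := by group
      rw [e, map_mul, hB _ (hcent _ hd _ c.2)]
      rfl
    have := LinearMap.congr_fun hb (x : Fin n → ℂ)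
    show σ d (σ c (x : Fin n → ℂ)) = σ c (σ d (x : Fin n → ℂ))
    simpa [hσ, map_mul] using this
  -- degree of `φ`
  set d := Module.finrank ℂ U.toSubmodule with hd
  have hφ1 : φ 1 = d := by simp [hφ, hd]
  have h1 : (d : ℝ) ^ 2 * Nat.card D ≤ Nat.card C := by
    haveI := Fintype.ofFinite C
    have hin := CfsgLib.Chars.inner_self_irr τ
    rw [CfsgLib.Chars.inner_self_eq, ← hφ, ← Complex.ofReal_one, Complex.ofReal_inj] at hin
    have hC0 : (Nat.card C : ℝ) ≠ 0 := Nat.cast_ne_zero.2 Nat.card_pos.ne'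
    rw [inv_mul_eq_one₀ hC0] at hin
    rw [hin]
    calc (d : ℝ) ^ 2 * Nat.card D
        = ∑ x ∈ Finset.univ.filter (fun x : C => (x : G) ∈ D), ‖φ x‖ ^ 2 := by
          rw [Finset.sum_congr rfl fun x hx => by rw [hscal x (Finset.mem_filter.1 hx).2],
            Finset.sum_const, nsmul_eq_mul, ← Fintype.card_subtype, ← Nat.card_eq_fintype_card,
            mul_comm]
          congr 2
          exact Nat.card_congr ⟨fun x => ⟨⟨x, hDC x.2⟩, x.2⟩, fun x => ⟨x.1.1, x.2⟩,
            fun _ => rfl, fun _ => rfl⟩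
      _ ≤ ∑ x : C, ‖φ x‖ ^ 2 := Finset.sum_le_univ_sum_of_nonneg fun x => sq_nonneg _
  -- degree of `ψ`
  have h2 : n ≤ C.index * d := by
    haveI := Fintype.ofFinite C
    have hres : (fun x : C => ρ.character x) = φ + U'.toRepresentation.character :=
      CfsgLib.Chars.char_add_of_isCompl σ U U' hU'
    have hne : classInner (fun x : C => ρ.character x) φ ≠ 0 := by
      obtain ⟨m, hm⟩ := CfsgLib.Chars.inner_char_nat
        (CfsgLib.Chars.isCharacter_character U'.toRepresentation)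
        (CfsgLib.Chars.isCharacter_of_irr hφi)
      rw [hres, CfsgLib.Chars.inner_add_left, hm, hφ, CfsgLib.Chars.inner_self_irr τ]
      exact_mod_cast (by omega : 1 + m ≠ 0)
    have hind := CfsgLib.Chars.isCharacter_indFun C (CfsgLib.Chars.isCharacter_of_irr hφi)
    have hψi : Cfsg.IsIrrCharacter G ρ.character := CfsgLib.Chars.isIrrCharacter_character ρ
    have hcon : classInner (indFun C φ) ρ.character ≠ 0 := by
      rw [CfsgLib.Chars.inner_indFun C φ (CfsgLib.Chars.isClassFunction_character ρ),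
        CfsgLib.CharsMore.conj_inner (CfsgLib.Chars.isCharacter_restrict C
          (CfsgLib.Chars.isCharacter_character ρ)) (CfsgLib.Chars.isCharacter_of_irr hφi)]
      exact hne
    have hi1 : indFun C φ 1 = ((C.index * d : ℕ) : ℂ) := by
      rw [CfsgLib.Chars.indFun_one_apply, hφ1]; push_cast; rfl
    by_contra hlt
    have he := CfsgLib.CharsMore.eq_of_constituent_degree hind hψi hcon hi1 hρ1 (by omega)
    have := congrFun he 1
    rw [hi1, hρ1] at this
    exact hlt (le_of_eq (by exact_mod_cast this.symm))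
  rw [hρ1, Complex.norm_natCast]
  have h2' : (n : ℝ) ≤ (C.index : ℝ) * d := by exact_mod_cast h2
  have hG : (Nat.card G : ℝ) = C.index * Nat.card C := by exact_mod_cast C.index_mul_card.symm
  rw [hG]
  calc (n : ℝ) ^ 2 * Nat.card C * Nat.card D
      ≤ ((C.index : ℝ) * d) ^ 2 * Nat.card C * Nat.card D := by gcongr
    _ = (C.index : ℝ) ^ 2 * Nat.card C * ((d : ℝ) ^ 2 * Nat.card D) := by ring
    _ ≤ (C.index : ℝ) ^ 2 * Nat.card C * Nat.card C := by gcongr
    _ = _ := by ring

end Cfsg.Agent.S1492
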