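import Cfsg.Statements.S1494
import Cfsg.Agent.Lib.Chars.Degree
import Mathlib

set_option autoImplicit false
set_option linter.style.haveILetI false
open Cfsg

namespace Cfsg.Agent.S1494

/-- Let χ be a generalized character of the finite group G, p a prime, x an element of order p and y an element commuting with x. Then χ(x * y) − χ(y) = (1 − ε) * ω for some algebraic integer ω, where ε = exp(2πi/p). -/
theorem result {G : Type*} [Group G] [Finite G] (χ : G → ℂ) (hχ : Cfsg.IsGeneralizedCharacter G χ) (p : ℕ) (hp : p.Prime) (x y : G) (hx : orderOf x = p) (hxy : x * y = y * x) : ∃ ω : ℂ, IsIntegral ℤ ω ∧ χ (x * y) - χ y = (1 - Complex.exp (2 * Real.pi * Complex.I / p)) * ω := by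
  classical
  haveI := Fintype.ofFinite G
  set ε := Complex.exp (2 * Real.pi * Complex.I / p)
  have hε : IsPrimitiveRoot ε p := Complex.isPrimitiveRoot_exp p hp.ne_zero
  suffices main : ∀ φ : G → ℂ, Cfsg.IsCharacter G φ →
      ∃ ω : ℂ, IsIntegral ℤ ω ∧ φ (x * y) - φ y = (1 - ε) * ω by
    obtain ⟨φ, ψ, hφ, hψ, rfl⟩ := hχ
    obtain ⟨a, ha, ea⟩ := main φ hφ
    obtain ⟨b, hb, eb⟩ := main ψ hψ
    exact ⟨a - b, ha.sub hb, by simp only [Pi.sub_apply]; linear_combination ea - eb⟩
  intro φ hφ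
  obtain ⟨n, ρ, rfl⟩ := hφ
  let A := Subgroup.closure ({x, y} : Set G)
  have hA : ∀ a b : A, a * b = b * a := by
    haveI := Subgroup.isMulCommutative_closure (k := ({x, y} : Set G)) (by
      rintro u (rfl | rfl) v (rfl | rfl)
      exacts [rfl, hxy, hxy.symm, rfl])
    exact fun a b => mul_comm' a b
  haveI := Fintype.ofFinite A
  let X : A := ⟨x, Subgroup.subset_closure (Set.mem_insert _ _)⟩
  let Y : A := ⟨y, Subgroup.subset_closure (Set.mem_insert_of_mem _ rfl)⟩
  let τ : Representation ℂ A (Fin n → ℂ) := ρ.comp A.subtype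
  obtain ⟨m, c, hc⟩ := CfsgLib.Chars.exists_sum_irr τ
  have key : ∀ θ : Cfsg.IrrCharacter A, ∃ ω : ℂ, IsIntegral ℤ ω ∧
      (θ : A → ℂ) (X * Y) - (θ : A → ℂ) Y = (1 - ε) * ω := by
    intro θ
    obtain ⟨lam, hlam⟩ := CfsgLib.Chars.exists_hom_of_degree_one
      (CfsgLib.Chars.isCharacter_of_irr θ.2) (CfsgLib.Chars.irr_abelian_degree hA θ.2)
    have hp1 : (lam X : ℂ) ^ p = 1 := by
      rw [← Units.val_pow_eq_pow_val, ← map_pow,
        show X ^ p = 1 from Subtype.ext (by simp [X, ← hx, pow_orderOf_eq_one]), map_one,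
        Units.val_one]
    haveI : NeZero p := ⟨hp.ne_zero⟩
    obtain ⟨j, -, hj⟩ := hε.eq_pow_of_pow_eq_one hp1
    refine ⟨-(∑ i ∈ Finset.range j, ε ^ i) * (lam Y : ℂ), ?_, ?_⟩
    · refine (IsIntegral.sum _ fun i _ => (hε.isIntegral hp.pos).pow i).neg.mul ?_
      have hfin : IsOfFinOrder (lam Y : ℂ) :=
        ((Units.coeHom ℂ).comp lam).isOfFinOrder (isOfFinOrder_of_finite Y)
      exact IsIntegral.of_pow hfin.orderOf_pos (by rw [pow_orderOf_eq_one]; exact isIntegral_one)
    · rw [congrFun hlam (X * Y), congrFun hlam Y, map_mul, Units.val_mul, ← hj]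
      have := geom_sum_mul_neg ε j
      linear_combination (lam Y : ℂ) * this
  choose w hw1 hw2 using key
  refine ⟨∑ i, w (c i), IsIntegral.sum _ fun i _ => hw1 _, ?_⟩
  have e1 := congrFun hc (X * Y)
  have e2 := congrFun hc Y
  simp only [Finset.sum_apply] at e1 e2
  rw [show ρ.character (x * y) = τ.character (X * Y) from rfl,
    show ρ.character y = τ.character Y from rfl, e1, e2,
    ← Finset.sum_sub_distrib, Finset.mul_sum]
  exact Finset.sum_congr rfl fun i _ => hw2 _

end Cfsg.Agent.S1494
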