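import Cfsg.Statements.S1495
import Cfsg.Agent.Lib.Chars.Integral

set_option autoImplicit false
open Cfsg

namespace Cfsg.Agent.S1495

/-- Let p be a prime, ε = exp(2πi/p), and n an integer such that n = (1 − ε) * ω for some algebraic integer ω. Then p divides n. -/
theorem result (p : ℕ) (hp : p.Prime) (n : ℤ) (ω : ℂ) (hω : IsIntegral ℤ ω) (h : (n : ℂ) = (1 - Complex.exp (2 * Real.pi * Complex.I / p)) * ω) : (p : ℤ) ∣ n := by
  have : Fact p.Prime := ⟨hp⟩
  set ε := Complex.exp (2 * Real.pi * Complex.I / p) with hεdef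
  have hε : IsPrimitiveRoot ε p := Complex.isPrimitiveRoot_exp p hp.ne_zero
  have hdiv : ∀ μ ∈ primitiveRoots p ℂ, IsIntegral ℤ ((n : ℂ) / (1 - μ)) := by
    intro μ hμ
    have hμ' := (mem_primitiveRoots hp.pos).1 hμ
    obtain ⟨j, -, hj⟩ := hμ'.eq_pow_of_pow_eq_one hε.pow_eq_one
    have hne : (1 : ℂ) - μ ≠ 0 := sub_ne_zero.2 (hμ'.ne_one hp.one_lt).symm
    have : (n : ℂ) / (1 - μ) = ω * ∑ i ∈ Finset.range j, μ ^ i := by
      rw [div_eq_iff hne, h, ← hj, mul_assoc, geom_sum_mul_neg, mul_comm]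
    rw [this]
    exact hω.mul (IsIntegral.sum _ fun i _ => (hμ'.isIntegral hp.pos).pow i)
  have hprod : ∏ μ ∈ primitiveRoots p ℂ, (1 - μ) = (p : ℂ) := by
    rw [← Polynomial.eval_one_cyclotomic_prime (R := ℂ) (p := p),
      Polynomial.cyclotomic_eq_prod_X_sub_primitiveRoots hε, Polynomial.eval_prod]
    simp
  have hcard : (primitiveRoots p ℂ).card = p - 1 := by
    rw [hε.card_primitiveRoots, Nat.totient_prime hp]
  have hint : IsIntegral ℤ ((n : ℂ) ^ (p - 1) / p) := by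
    rw [← hprod, ← hcard, ← Finset.prod_const, ← Finset.prod_div_distrib]
    exact IsIntegral.prod _ hdiv
  have hrat : ((n : ℂ) ^ (p - 1) / p) = ((((n : ℚ) ^ (p - 1) / p : ℚ)) : ℂ) := by push_cast; rfl
  rw [hrat] at hint
  obtain ⟨m, hm⟩ := CfsgLib.Chars.exists_int_of_isIntegral_rat _ hint
  rw [div_eq_iff (Nat.cast_ne_zero.2 hp.ne_zero)] at hm
  have hm' : n ^ (p - 1) = m * p := by exact_mod_cast hm
  exact (Nat.prime_iff_prime_int.1 hp).dvd_of_dvd_pow ⟨m, by rw [hm', mul_comm]⟩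

end Cfsg.Agent.S1495
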