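import Cfsg.Statements.S1497
import Mathlib

set_option autoImplicit false
open Cfsg

namespace Cfsg.Agent.S1497

/-- Let A be a nonempty subset of the finite group G not containing 1 and L a subgroup. Then A is a TI-subset whose normaliser is L if and only if the Dade hypothesis holds for A, L and the constant choice H(a) = ⊥. -/
theorem result {G : Type*} [Group G] [Finite G] (A : Set G) (hA : A.Nonempty) (h1 : (1 : G) ∉ A) (L : Subgroup G) : (Cfsg.IsTISubset A ∧ Subgroup.normalizer A = L) ↔ Cfsg.DadeHypothesis A L (fun _ => ⊥) := by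
  constructor
  · rintro ⟨hTI, rfl⟩
    have key : ∀ a ∈ A, ∀ g : G, g * a * g⁻¹ ∈ A → g ∈ Subgroup.normalizer A := by
      intro a ha g hg
      by_contra hn
      exact h1 (hTI g hn a ha hg ▸ ha)
    have hcent : ∀ a ∈ A, Subgroup.centralizer ({a} : Set G) ≤ Subgroup.normalizer A := by
      intro a ha g hg
      refine key a ha g ?_
      rwa [Subgroup.mem_centralizer_singleton_iff.1 hg, mul_inv_cancel_right]
    exact
      { one_not_mem := h1
        subset := fun a ha => key a ha a (by simpa using ha)
        conj_mem := fun x hx a ha => (Subgroup.mem_set_normalizer_iff.1 hx a).1 ha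
        fusion := fun a ha g hg => ⟨g, key a ha g hg, rfl⟩
        le_centralizer := fun _ _ => bot_le
        conj_mem_H := fun a _ c _ u hu => by
          rw [Subgroup.mem_bot] at hu ⊢
          simp [hu]
        inf_eq_bot := fun _ _ => bot_inf_eq _
        sup_eq := fun a ha => by rw [bot_sup_eq, inf_eq_right.2 (hcent a ha)]
        coprime := fun _ _ _ _ => by simp }
  · intro hD
    have key : ∀ a ∈ A, ∀ g : G, g * a * g⁻¹ ∈ A → g ∈ L := by
      intro a ha g hg
      obtain ⟨x, hx, e⟩ := hD.fusion a ha g hg
      have hc : x⁻¹ * g ∈ Subgroup.centralizer ({a} : Set G) := by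
        rw [Subgroup.mem_centralizer_singleton_iff]
        have := congrArg (fun z => x⁻¹ * z * g) e
        simpa [mul_assoc] using this.symm
      rw [← hD.sup_eq a ha, bot_sup_eq] at hc
      have := L.mul_mem hx hc.1
      rwa [mul_inv_cancel_left] at this
    have hN : Subgroup.normalizer A = L := by
      refine le_antisymm (fun g hg => ?_) (fun x hx => ?_)
      · obtain ⟨a, ha⟩ := hA
        exact key a ha g ((Subgroup.mem_set_normalizer_iff.1 hg a).1 ha)
      · rw [Subgroup.mem_set_normalizer_iff]
        refine fun a => ⟨hD.conj_mem x hx a, fun ha => ?_⟩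
        have := hD.conj_mem x⁻¹ (L.inv_mem hx) _ ha
        simpa [mul_assoc] using this
    refine ⟨fun g hg x hx hgx => ?_, hN⟩
    exact absurd (hN.symm ▸ key x hx g hgx) hg

end Cfsg.Agent.S1497
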