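import Cfsg.Statements.S1498
import Cfsg.Agent.Lib.CharsMore.DadeBasic

set_option autoImplicit false
open Cfsg

namespace Cfsg.Agent.S1498

/-- Under the Dade hypothesis for (A, L, H): for a ∈ A and x ∈ L, the subgroup attached to x * a * x⁻¹ is the conjugate of H a by x. -/
theorem result {G : Type*} [Group G] [Finite G] (A : Set G) (L : Subgroup G) (H : G → Subgroup G) (hD : Cfsg.DadeHypothesis A L H) (a : G) (ha : a ∈ A) (x : G) (hx : x ∈ L) : H (x * a * x⁻¹) = (H a).map (MulAut.conj x).toMonoidHom := by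
  have main : ∀ b ∈ A, ∀ y ∈ L, ∀ u ∈ H b, y * u * y⁻¹ ∈ H (y * b * y⁻¹) := by
    intro b hb y hy u hu
    refine CfsgLib.CharsMore.dade_mem_H hD (hD.conj_mem y hy b hb) ?_
      (hD.coprime b hb _ (hD.conj_mem y hy b hb)) ?_
    · have := Subgroup.mem_centralizer_singleton_iff.1 (hD.le_centralizer b hb hu)
      rw [Subgroup.mem_centralizer_singleton_iff]
      calc y * u * y⁻¹ * (y * b * y⁻¹) = y * (u * b) * y⁻¹ := by group
        _ = y * (b * u) * y⁻¹ := by rw [this]
        _ = y * b * y⁻¹ * (y * u * y⁻¹) := by group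
    · rw [conj_pow]
      have h1 : (⟨u, hu⟩ : H b) ^ Nat.card (H b) = 1 := pow_card_eq_one'
      have h2 : u ^ Nat.card (H b) = 1 := by
        rw [← Subgroup.coe_mk _ u hu, ← SubgroupClass.coe_pow, h1, Subgroup.coe_one]
      rw [h2, mul_one, mul_inv_cancel]
  refine le_antisymm ?_ ?_
  · intro v hv
    have h := main _ (hD.conj_mem x hx a ha) x⁻¹ (L.inv_mem hx) v hv
    simp only [inv_inv, mul_assoc, inv_mul_cancel_left, inv_mul_cancel, mul_one] at h
    exact ⟨x⁻¹ * (v * x), h, by simp [mul_assoc]⟩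
  · rintro _ ⟨u, hu, rfl⟩
    simpa using main a ha x hx u hu

end Cfsg.Agent.S1498
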