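import Cfsg.Statements.S1499
import Cfsg.Agent.Lib.CharsMore.DadeBasic

set_option autoImplicit false
open Cfsg

namespace Cfsg.Agent.S1499

/-- Under the Dade hypothesis for (A, L, H), let a, b ∈ A. If an element of the coset a·H(a) is conjugate in G to an element of b·H(b), then a and b are conjugate by an element of L. Moreover the set normaliser of the coset a·H(a) is the centraliser of a. -/
theorem result {G : Type*} [Group G] [Finite G] (A : Set G) (L : Subgroup G) (H : G → Subgroup G) (hD : Cfsg.DadeHypothesis A L H) (a b : G) (ha : a ∈ A) (hb : b ∈ A) : ((∃ u ∈ H a, ∃ v ∈ H b, ∃ g : G, g * (a * u) * g⁻¹ = b * v) → ∃ x ∈ L, x * a * x⁻¹ = b) ∧ Subgroup.normalizer ((fun u : G => a * u) '' (H a : Set G)) = Subgroup.centralizer ({a} : Set G) := by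
  refine ⟨?_, ?_⟩
  · rintro ⟨u, hu, v, hv, g, e⟩
    obtain ⟨k, hka, hkb⟩ := CfsgLib.CharsMore.dade_exists_pow hD ha hb
    have := congrArg (fun z => z ^ k) e
    simp only [conj_pow, hka u hu, hkb v hv] at this
    obtain ⟨x, hx, hxe⟩ := hD.fusion a ha g (by rw [this]; exact hb)
    exact ⟨x, hx, hxe.trans this⟩
  · have hmaps : ∀ c ∈ Subgroup.centralizer ({a} : Set G), ∀ u ∈ H a,
        c * (a * u) * c⁻¹ = a * (c * u * c⁻¹) := by
      intro c hc u hu
      have := Subgroup.mem_centralizer_singleton_iff.1 hc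
      calc c * (a * u) * c⁻¹ = c * a * (u * c⁻¹) := by group
        _ = a * c * (u * c⁻¹) := by rw [this]
        _ = a * (c * u * c⁻¹) := by group
    refine le_antisymm (fun g hg => ?_) (fun c hc => ?_)
    · rw [Subgroup.mem_set_normalizer_iff] at hg
      obtain ⟨u, hu, e⟩ := (hg a).1 ⟨1, (H a).one_mem, mul_one a⟩
      obtain ⟨k, hka, -⟩ := CfsgLib.CharsMore.dade_exists_pow hD ha ha
      have h := congrArg (fun z => z ^ k) e
      have hak : a ^ k = a := by simpa using hka 1 (H a).one_mem
      simp only [conj_pow, hka u hu, hak] at h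
      rw [Subgroup.mem_centralizer_singleton_iff]
      exact mul_inv_eq_iff_eq_mul.1 h.symm
    · rw [Subgroup.mem_set_normalizer_iff]
      intro z
      constructor
      · rintro ⟨u, hu, rfl⟩
        exact ⟨_, hD.conj_mem_H a ha c hc u hu, (hmaps c hc u hu).symm⟩
      · rintro ⟨u, hu, e⟩
        have e' : a * u = c * z * c⁻¹ := e
        refine ⟨_, hD.conj_mem_H a ha c⁻¹ (Subgroup.inv_mem _ hc) u hu, ?_⟩
        show a * (c⁻¹ * u * c⁻¹⁻¹) = z
        rw [← hmaps c⁻¹ (Subgroup.inv_mem _ hc) u hu, e']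
        group

end Cfsg.Agent.S1499
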