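import Cfsg.Statements.S1503
import Cfsg.Agent.Lib.CharsMore.CyclicTI
import Mathlib

set_option autoImplicit false
set_option linter.style.haveILetI false
open Cfsg

namespace Cfsg.Agent.S1503

/-- Let W₁, W₂ ≤ G with W = W₁ ⊔ W₂ and let χ an orthonormal family of irreducible characters of G up to sign, indexed by the linear characters ω of W, with χ_1 = 1, χ_ω = ω on W outside W₁ ∪ W₂, and the induction identity for (1 − φ)(1 − ψ). If θ is an irreducible character of G orthogonal to χ ω for every linear character ω of W, then θ vanishes at every element of W lying outside W₁ ∪ W₂. -/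
theorem result {G : Type*} [Group G] [Fintype G] (W₁ W₂ : Subgroup G) (hW : Cfsg.IsSelfNormalizingCyclic W₁ W₂) (χ : (↥(W₁ ⊔ W₂) →* ℂˣ) → (G → ℂ)) (hχ : Cfsg.IsCyclicTIFamily W₁ W₂ χ) (θ : G → ℂ) (hθ : Cfsg.IsIrrCharacter G θ) (horth : ∀ ω, Cfsg.classInner θ (χ ω) = 0) (w : ↥(W₁ ⊔ W₂)) (hw₁ : (w : G) ∉ W₁) (hw₂ : (w : G) ∉ W₂) : θ w = 0 := by
  classical
  haveI : Fintype ↥(W₁ ⊔ W₂) := Fintype.ofFinite _
  have hclθ := CfsgLib.Chars.isClassFunction_of_isCharacter (CfsgLib.Chars.isCharacter_of_irr hθ)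
  refine CfsgLib.CharsMore.eq_zero_of_inner_alphaFn (θ := fun x : ↥(W₁ ⊔ W₂) => θ x)
    (CfsgLib.CharsMore.comm_of_selfNorm hW) (W₁.subgroupOf _) (W₂.subgroupOf _)
    (CfsgLib.CharsMore.disjoint_subgroupOf hW.2.2.1) ?_ hw₁ hw₂
  intro φ ψ hφ hψ
  by_cases h1 : φ = 1 ∨ ψ = 1
  · have : CfsgLib.CharsMore.alphaFn φ ψ = 0 := by
      funext x
      rcases h1 with rfl | rfl <;> simp [CfsgLib.CharsMore.alphaFn]
    rw [this, CfsgLib.Chars.inner_zero_right]
  · push Not at h1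
    rw [← CfsgLib.Chars.inner_indFun_right (W₁ ⊔ W₂) (CfsgLib.CharsMore.alphaFn φ ψ) hclθ,
      show CfsgLib.CharsMore.alphaFn φ ψ = fun w => 1 - (φ w : ℂ) - (ψ w : ℂ) +
        (φ w : ℂ) * (ψ w : ℂ) from rfl, hχ.induced_eq φ ψ h1.1 h1.2 hφ hψ]
    have e : (fun g => 1 - χ φ g - χ ψ g + χ (φ * ψ) g) =
        χ 1 - χ φ - χ ψ + χ (φ * ψ) := by
      funext g; simp [hχ.map_one]
    rw [e, CfsgLib.Chars.inner_add_right, CfsgLib.Chars.inner_sub_right,
      CfsgLib.Chars.inner_sub_right, horth, horth, horth, horth]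
    simp

end Cfsg.Agent.S1503
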