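import Cfsg.Statements.S1504
import Cfsg.Agent.Lib.CharsMore.CyclicTI
import Mathlib

set_option autoImplicit false
set_option linter.style.haveILetI false
open Cfsg

namespace Cfsg.Agent.S1504

/-- Let W₁, W₂ be subgroups of a finite group with W₁ ⊓ W₂ = ⊥ whose elements commute, and W = W₁ ⊔ W₂. For linear characters φ, ψ of W with φ trivial on W₂ and ψ trivial on W₁, the function (1 − φ)(1 − ψ) vanishes on W₁ ∪ W₂; and the family of these functions, indexed by pairs (φ, ψ) with φ ≠ 1 ≠ ψ, is linearly independent over ℂ. -/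
theorem result {G : Type*} [Group G] [Finite G] (W₁ W₂ : Subgroup G) (hdisj : W₁ ⊓ W₂ = ⊥) (hcomm : ∀ a ∈ W₁, ∀ b ∈ W₂, a * b = b * a) : (∀ φ ψ : ↥(W₁ ⊔ W₂) →* ℂˣ, (∀ w : ↥(W₁ ⊔ W₂), (w : G) ∈ W₂ → φ w = 1) → (∀ w : ↥(W₁ ⊔ W₂), (w : G) ∈ W₁ → ψ w = 1) → ∀ w : ↥(W₁ ⊔ W₂), ((w : G) ∈ W₁ ∨ (w : G) ∈ W₂) → (1 - (φ w : ℂ) - (ψ w : ℂ) + (φ w : ℂ) * (ψ w : ℂ)) = 0) ∧ LinearIndependent ℂ (fun p : {p : (↥(W₁ ⊔ W₂) →* ℂˣ) × (↥(W₁ ⊔ W₂) →* ℂˣ) // p.1 ≠ 1 ∧ p.2 ≠ 1 ∧ (∀ w : ↥(W₁ ⊔ W₂), (w : G) ∈ W₂ → p.1 w = 1) ∧ (∀ w : ↥(W₁ ⊔ W₂), (w : G) ∈ W₁ → p.2 w = 1)} => fun w : ↥(W₁ ⊔ W₂) => 1 - (p.1.1 w : ℂ) - (p.1.2 w : ℂ) + (p.1.1 w : ℂ) * (p.1.2 w : ℂ)) := by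
  classical
  refine ⟨fun φ ψ hφ hψ w hw => CfsgLib.CharsMore.alphaFn_vanish (K₁ := W₁.subgroupOf _)
    (K₂ := W₂.subgroupOf _) hφ hψ hw, ?_⟩
  haveI : Fintype ↥(W₁ ⊔ W₂) := Fintype.ofFinite _
  rw [linearIndependent_iff']
  intro s c hsum p hp
  obtain ⟨⟨φ, ψ⟩, hφ1, hψ1, hφ, hψ⟩ := p
  have h0 := congrArg (fun f => Cfsg.classInner f (fun w => ((φ * ψ) w : ℂ))) hsum
  simp only [CfsgLib.Chars.inner_sum_left, CfsgLib.Chars.inner_smul_left,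
    CfsgLib.Chars.inner_zero_left] at h0
  have horth : ∀ a b : ↥(W₁ ⊔ W₂) →* ℂˣ, Cfsg.classInner (fun w => (a w : ℂ)) (fun w => (b w : ℂ)) =
      if a = b then 1 else 0 := by
    intro a b
    rw [CfsgLib.Chars.inner_irr_of_isIrr (CfsgLib.Chars.isIrrCharacter_linear a)
      (CfsgLib.Chars.isIrrCharacter_linear b)]
    exact if_congr ⟨fun h => MonoidHom.ext fun w => Units.ext (congrFun h w),
      fun h => by rw [h]⟩ rfl rfl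
  rw [Finset.sum_eq_single_of_mem _ hp] at h0
  · rw [show (fun w : ↥(W₁ ⊔ W₂) => 1 - (φ w : ℂ) - (ψ w : ℂ) + (φ w : ℂ) * (ψ w : ℂ)) =
        (fun w => ((1 : ↥(W₁ ⊔ W₂) →* ℂˣ) w : ℂ)) - (fun w => (φ w : ℂ)) - (fun w => (ψ w : ℂ)) +
          (fun w => ((φ * ψ) w : ℂ)) by funext w; simp,
      CfsgLib.Chars.inner_add_left, CfsgLib.Chars.inner_sub_left, CfsgLib.Chars.inner_sub_left,
      horth, horth, horth, horth, if_pos rfl, if_neg, if_neg, if_neg] at h0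
    · simpa using h0
    · exact fun h => hφ1 (mul_right_cancel (h.symm.trans (one_mul ψ).symm))
    · exact fun h => hψ1 (mul_left_cancel (h.symm.trans (mul_one φ).symm))
    · exact fun h => hφ1 ((CfsgLib.CharsMore.mul_eq_mul_factors hφ (fun w _ => rfl) hψ
        (fun w _ => rfl) (h.symm.trans (one_mul (1 : ↥(W₁ ⊔ W₂) →* ℂˣ)).symm)).1)
  · rintro ⟨⟨f, g⟩, hf1, hg1, hf, hg⟩ _ hne
    rw [show (fun w : ↥(W₁ ⊔ W₂) => 1 - (f w : ℂ) - (g w : ℂ) + (f w : ℂ) * (g w : ℂ)) =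
        (fun w => ((1 : ↥(W₁ ⊔ W₂) →* ℂˣ) w : ℂ)) - (fun w => (f w : ℂ)) - (fun w => (g w : ℂ)) +
          (fun w => ((f * g) w : ℂ)) by funext w; simp,
      CfsgLib.Chars.inner_add_left, CfsgLib.Chars.inner_sub_left, CfsgLib.Chars.inner_sub_left,
      horth, horth, horth, horth, if_neg, if_neg, if_neg, if_neg]
    · simp
    · intro h
      obtain ⟨e1, e2⟩ := CfsgLib.CharsMore.mul_eq_mul_factors hf hφ hg hψ h
      exact hne (Subtype.ext (Prod.ext e1 e2))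
    · exact fun h => hφ1 ((CfsgLib.CharsMore.mul_eq_mul_factors hφ (φ' := 1) (ψ' := g)
        (fun w _ => rfl) hψ hg (h.symm.trans (one_mul g).symm)).1)
    · exact fun h => hψ1 ((CfsgLib.CharsMore.mul_eq_mul_factors hφ (φ' := f) (ψ' := 1) hf hψ
        (fun w _ => rfl) (h.symm.trans (mul_one f).symm)).2)
    · exact fun h => hφ1 ((CfsgLib.CharsMore.mul_eq_mul_factors hφ (fun w _ => rfl) hψ
        (fun w _ => rfl) (h.symm.trans (one_mul (1 : ↥(W₁ ⊔ W₂) →* ℂˣ)).symm)).1)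

end Cfsg.Agent.S1504
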