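import Cfsg.Statements.S1507
import Cfsg.Agent.Lib.CharsMore.CyclicTIFew
import Cfsg.Agent.S1506
import Mathlib

set_option autoImplicit false
set_option linter.style.haveILetI false
open Cfsg

namespace Cfsg.Agent.S1507

open Classical in
/-- Let W₁, W₂ ≤ G form a self-normalising cyclic subgroup W = W₁ ⊔ W₂ of odd order with Nat.card W₁ < Nat.card W₂, and χ an orthonormal family of irreducible characters of G up to sign, indexed by the linear characters ω of W, with χ_1 = 1, χ_ω = ω on W outside W₁ ∪ W₂, and the induction identity for (1 − φ)(1 − ψ). Let θ be a class function of G vanishing on W outside W₁ ∪ W₂, and suppose fewer than 2 · Nat.card W₁ linear characters ω of W have ⟨θ, χ ω⟩ ≠ 0. Then one of: all ⟨θ, χ ω⟩ vanish; or there are ψ₀ and a with ⟨θ, χ ω⟩ = a when ω ψ₀⁻¹ is trivial on W₂ and 0 otherwise; or there are φ₀ and a with ⟨θ, χ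 ω⟩ = a when ω φ₀⁻¹ is trivial on W₁ and 0 otherwise. -/
theorem result {G : Type*} [Group G] [Fintype G] (W₁ W₂ : Subgroup G) (hW : Cfsg.IsSelfNormalizingCyclic W₁ W₂) (hodd : Odd (Nat.card ↥(W₁ ⊔ W₂))) (χ : (↥(W₁ ⊔ W₂) →* ℂˣ) → (G → ℂ)) (hχ : Cfsg.IsCyclicTIFamily W₁ W₂ χ) (hlt : Nat.card W₁ < Nat.card W₂) (θ : G → ℂ) (hθ : Cfsg.IsClassFunction G θ) (hθV : ∀ w : ↥(W₁ ⊔ W₂), (w : G) ∉ W₁ → (w : G) ∉ W₂ → θ w = 0) (hfew : Nat.card {ω : ↥(W₁ ⊔ W₂) →* ℂˣ // Cfsg.classInner θ (χ ω) ≠ 0} < 2 * Nat.card W₁) : (∀ ω, Cfsg.classInner θ (χ ω) = 0) ∨ (∃ (ψ₀ : ↥(W₁ ⊔ W₂) →* ℂˣ) (a : ℂ), ∀ ω, Cfsg.classInner θ (χ ω) = if (∀ w : ↥(W₁ ⊔ W₂), (w : G) ∈ W₂ → (ω * ψ₀⁻¹) w = 1) then a else 0) ∨ (∃ (φ₀ : ↥(W₁ ⊔ W₂) →* ℂˣ) (a : ℂ), ∀ ω, Cfsg.classInner θ (χ ω) = if (∀ w : ↥(W₁ ⊔ W₂), (w : G) ∈ W₁ → (ω * φ₀⁻¹) w = 1) then a else 0) := by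
  set K₁ := W₁.subgroupOf (W₁ ⊔ W₂)
  set K₂ := W₂.subgroupOf (W₁ ⊔ W₂)
  let _ : Fintype (CfsgLib.CharsMore.trivOn K₁) := Fintype.ofFinite _
  let _ : Fintype (CfsgLib.CharsMore.trivOn K₂) := Fintype.ofFinite _
  obtain ⟨hc1, hc2⟩ := CfsgLib.CharsMore.card_trivOn_sup hW
  rw [Nat.card_eq_fintype_card] at hc1 hc2
  obtain ⟨p₁, p₂, hp1, hp2, hp, hpf1, hpf2⟩ :=
    CfsgLib.CharsMore.exists_proj_sup hW.2.2.1 hW.2.2.2.1
  have hdec : ∀ ω : ↥(W₁ ⊔ W₂) →* ℂˣ,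
      ∃ (φ : CfsgLib.CharsMore.trivOn K₂) (ψ : CfsgLib.CharsMore.trivOn K₁), φ.1 * ψ.1 = ω :=
    fun ω => ⟨⟨ω.comp p₁, fun x hx => by show ω (p₁ x) = 1; rw [(hpf2 x hx).1, map_one]⟩,
      ⟨ω.comp p₂, fun x hx => by show ω (p₂ x) = 1; rw [(hpf1 x hx).2, map_one]⟩,
      MonoidHom.ext fun w => by show ω (p₁ w) * ω (p₂ w) = ω w; rw [← map_mul, hp]⟩
  let A : CfsgLib.CharsMore.trivOn K₂ → CfsgLib.CharsMore.trivOn K₁ → ℂ :=
    fun φ ψ => classInner θ (χ (φ.1 * ψ.1))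
  have hA : ∀ p p' q q', A p q + A p' q' = A p q' + A p' q := fun p p' q q' =>
    Cfsg.Agent.S1506.result W₁ W₂ hW χ hχ θ hθ hθV p.1 p'.1 q.1 q'.1
      (fun w h => ⟨p.2 w h, p'.2 w h⟩) fun w h => ⟨q.2 w h, q'.2 w h⟩
  have hcount : (Finset.univ.filter fun x : CfsgLib.CharsMore.trivOn K₂ ×
      CfsgLib.CharsMore.trivOn K₁ => A x.1 x.2 ≠ 0).card < 2 * Nat.card W₁ := by
    refine lt_of_le_of_lt ?_ hfew
    rw [← Fintype.card_subtype, ← Nat.card_eq_fintype_card]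
    refine Nat.card_le_card_of_injective (fun x => ⟨x.1.1.1 * x.1.2.1, x.2⟩) fun x y h => ?_
    obtain ⟨h1, h2⟩ := CfsgLib.CharsMore.mul_eq_mul_factors x.1.1.2 y.1.1.2 x.1.2.2 y.1.2.2
      (congrArg Subtype.val h)
    exact Subtype.ext (Prod.ext (Subtype.ext h1) (Subtype.ext h2))
  have h3 : 3 ≤ Nat.card W₁ ∧ Nat.card W₁ + 2 ≤ Nat.card W₂ := by
    obtain ⟨k, hk⟩ : Odd (Nat.card W₁) := hodd.of_dvd_nat (Subgroup.card_dvd_of_le le_sup_left)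
    obtain ⟨l, hl⟩ : Odd (Nat.card W₂) := hodd.of_dvd_nat (Subgroup.card_dvd_of_le le_sup_right)
    have h1 : 1 < Nat.card W₁ := W₁.one_lt_card_iff_ne_bot.2 hW.1
    omega
  rcases CfsgLib.CharsMore.grid_few hc1 hc2 h3.1 h3.2 A hA hcount with
    h | ⟨q₀, a, h⟩ | ⟨p₀, a, h⟩
  · left
    intro ω
    obtain ⟨φ, ψ, rfl⟩ := hdec ω
    exact h φ ψ
  · right; left
    refine ⟨q₀.1, a, fun ω => ?_⟩
    obtain ⟨φ, ψ, rfl⟩ := hdec ω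
    refine (h φ ψ).trans (if_congr ⟨fun e w hw => ?_, fun e => Subtype.ext ?_⟩ rfl rfl)
    · subst e
      simp [φ.2 w hw]
    · refine CfsgLib.CharsMore.hom_ext_sup (fun w hw => by rw [ψ.2 w hw, q₀.2 w hw]) fun w hw => ?_
      have h' := e w hw
      simp only [MonoidHom.mul_apply, MonoidHom.inv_apply, φ.2 w hw, one_mul] at h'
      exact mul_inv_eq_one.1 h'
  · right; right
    refine ⟨p₀.1, a, fun ω => ?_⟩
    obtain ⟨φ, ψ, rfl⟩ := hdec ω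
    refine (h φ ψ).trans (if_congr ⟨fun e w hw => ?_, fun e => Subtype.ext ?_⟩ rfl rfl)
    · subst e
      simp [ψ.2 w hw]
    · refine CfsgLib.CharsMore.hom_ext_sup (fun w hw => ?_) fun w hw => by rw [φ.2 w hw, p₀.2 w hw]
      have h' := e w hw
      simp only [MonoidHom.mul_apply, MonoidHom.inv_apply, ψ.2 w hw, mul_one] at h'
      exact mul_inv_eq_one.1 h'

end Cfsg.Agent.S1507
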