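import Cfsg.Statements.S1509
import Cfsg.Agent.Lib.Chars.Char
import Mathlib

set_option autoImplicit false
set_option linter.style.haveILetI false
open Cfsg

namespace Cfsg.Agent.S1509

open CfsgLib in
/-- Two signed irreducibles that are not orthogonal agree up to sign. -/
lemma signed_eq {X : Type*} [Group X] [Fintype X] {a b : X → ℂ}
    (ha : Cfsg.IsIrrCharacter X a ∨ Cfsg.IsIrrCharacter X (-a))
    (hb : Cfsg.IsIrrCharacter X b ∨ Cfsg.IsIrrCharacter X (-b)) (h : Cfsg.classInner a b ≠ 0) :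
    ∃ e : ℝ, (e = 1 ∨ e = -1) ∧ b = (e : ℂ) • a ∧ Cfsg.classInner a b = e := by
  classical
  rcases ha with ha | ha <;> rcases hb with hb | hb
  · have e := Chars.inner_irr_of_isIrr ha hb
    split_ifs at e with hab
    · exact ⟨1, Or.inl rfl, by simp [hab], by simp [e]⟩
    · exact absurd e h
  · have e := Chars.inner_irr_of_isIrr ha hb
    rw [Chars.inner_neg_right] at e
    split_ifs at e with hab
    · exact ⟨-1, Or.inr rfl, by simp [hab], by simp [neg_eq_iff_eq_neg.1 e]⟩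
    · exact absurd (neg_eq_zero.1 e) h
  · have e := Chars.inner_irr_of_isIrr ha hb
    rw [Chars.inner_neg_left] at e
    split_ifs at e with hab
    · exact ⟨-1, Or.inr rfl, by simp [← hab], by simp [neg_eq_iff_eq_neg.1 e]⟩
    · exact absurd (neg_eq_zero.1 e) h
  · have e := Chars.inner_irr_of_isIrr ha hb
    rw [Chars.inner_neg_left, Chars.inner_neg_right, neg_neg] at e
    split_ifs at e with hab
    · exact ⟨1, Or.inl rfl, by simp [neg_inj.1 hab], by simp [e]⟩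
    · exact absurd e h

open CfsgLib in
lemma key {X : Type*} [Group X] [Fintype X] (α β γ δ : X → ℂ)
    (hα : Cfsg.IsIrrCharacter X α ∨ Cfsg.IsIrrCharacter X (-α))
    (hβ : Cfsg.IsIrrCharacter X β ∨ Cfsg.IsIrrCharacter X (-β))
    (hγ : Cfsg.IsIrrCharacter X γ ∨ Cfsg.IsIrrCharacter X (-γ))
    (hδ : Cfsg.IsIrrCharacter X δ ∨ Cfsg.IsIrrCharacter X (-δ)) (u v : ℝ) (hu : u ≠ 0) (hv : v ≠ 0)
    (hab : Cfsg.classInner α β = 0) (hcd : Cfsg.classInner γ δ = 0)
    (hmix : Cfsg.classInner (α - β) ((u : ℂ) • γ - (v : ℂ) • δ) = 0) (h1 : α 1 = β 1)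
    (h2 : (u : ℂ) * γ 1 = (v : ℂ) * δ 1) (h : Cfsg.classInner α γ ≠ 0) : False := by
  obtain ⟨e, he, hγe, hie⟩ := signed_eq hα hγ h
  have he0 : (e : ℂ) ≠ 0 := by rcases he with rfl | rfl <;> norm_num
  have hbg : Cfsg.classInner β γ = 0 := by
    rw [hγe, Chars.inner_smul_right, ← Chars.inner_conj, hab, map_zero, mul_zero]
  have had : Cfsg.classInner α δ = 0 := by
    rw [hγe, Chars.inner_smul_left] at hcd
    exact (mul_eq_zero.1 hcd).resolve_left he0
  simp only [Chars.inner_sub_left, Chars.inner_sub_right, Chars.inner_smul_right,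
    Complex.conj_ofReal, hie, hbg, had, mul_zero, sub_zero, zero_sub] at hmix
  by_cases hbd : Cfsg.classInner β δ = 0
  · rw [hbd] at hmix
    exact (mul_ne_zero (Complex.ofReal_ne_zero.2 hu) he0) (by linear_combination hmix)
  · obtain ⟨f, -, hδf, hif⟩ := signed_eq hβ hδ hbd
    rw [hif] at hmix
    have hα1 : α 1 ≠ 0 := by
      rcases hα with hα | hα
      · exact Chars.irr_degree_ne_zero hα
      · exact fun h0 => Chars.irr_degree_ne_zero hα (by simp [h0])
    rw [hγe, hδf] at h2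
    simp only [Pi.smul_apply, smul_eq_mul, ← h1] at h2
    exact mul_ne_zero (mul_ne_zero (Complex.ofReal_ne_zero.2 hu) he0) hα1
      (by linear_combination (1 / 2 : ℂ) * h2 + (α 1 / 2) * hmix)

/-- Let α, β, γ, δ be functions on a finite group X each of which is an irreducible character or the negative of one, and u, v nonzero real numbers. Suppose ⟨α, β⟩ = ⟨γ, δ⟩ = 0, ⟨α − β, uγ − vδ⟩ = 0, α 1 = β 1 and u γ 1 = v δ 1. Then also ⟨α, γ⟩ = ⟨α, δ⟩ = ⟨β, γ⟩ = ⟨β, δ⟩ = 0. -/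
theorem result {X : Type*} [Group X] [Fintype X] (α β γ δ : X → ℂ) (hα : Cfsg.IsIrrCharacter X α ∨ Cfsg.IsIrrCharacter X (-α)) (hβ : Cfsg.IsIrrCharacter X β ∨ Cfsg.IsIrrCharacter X (-β)) (hγ : Cfsg.IsIrrCharacter X γ ∨ Cfsg.IsIrrCharacter X (-γ)) (hδ : Cfsg.IsIrrCharacter X δ ∨ Cfsg.IsIrrCharacter X (-δ)) (u v : ℝ) (hu : u ≠ 0) (hv : v ≠ 0) (hab : Cfsg.classInner α β = 0) (hcd : Cfsg.classInner γ δ = 0) (hmix : Cfsg.classInner (α - β) ((u : ℂ) • γ - (v : ℂ) • δ) = 0) (h1 : α 1 = β 1) (h2 : (u : ℂ) * γ 1 = (v : ℂ) * δ 1) : Cfsg.classInner α γ = 0 ∧ Cfsg.classInner α δ = 0 ∧ Cfsg.classInner β γ = 0 ∧ Cfsg.classInner β δ = 0 := by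
  exact ⟨by_contra fun h => key α β γ δ hα hβ hγ hδ u v hu hv hab hcd hmix h1 h2 h,
    by_contra fun h => key α β δ γ hα hβ hδ hγ v u hv hu hab (by
      rw [← CfsgLib.Chars.inner_conj, hcd, map_zero]) (by
      rw [← neg_sub ((u : ℂ) • γ), CfsgLib.Chars.inner_neg_right, hmix, neg_zero]) h1 h2.symm h,
    by_contra fun h => key β α γ δ hβ hα hγ hδ u v hu hv (by
      rw [← CfsgLib.Chars.inner_conj, hab, map_zero]) hcd (by
      rw [← neg_sub α β, CfsgLib.Chars.inner_neg_left, hmix, neg_zero]) h1.symm h2 h,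
    by_contra fun h => key β α δ γ hβ hα hδ hγ v u hv hu (by
      rw [← CfsgLib.Chars.inner_conj, hab, map_zero]) (by
      rw [← CfsgLib.Chars.inner_conj, hcd, map_zero]) (by
      rw [← neg_sub α β, ← neg_sub ((u : ℂ) • γ), CfsgLib.Chars.inner_neg_left,
        CfsgLib.Chars.inner_neg_right, hmix, neg_zero, neg_zero]) h1.symm h2.symm h⟩

end Cfsg.Agent.S1509
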