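import Cfsg.Statements.S1512
import Cfsg.Agent.Lib.CharsMore.CoprimeClass
import Mathlib

set_option autoImplicit false
set_option linter.style.haveILetI false
open Cfsg

namespace Cfsg.Agent.S1512

/-- Let K be a normal subgroup of the finite group L and x a non-identity element whose order is coprime to the order of K, such that K ⊓ C_L(y) = W₂ for every non-identity element y of the cyclic group generated by x. Then the number of conjugacy classes of K mapped to themselves by conjugation by x is at most Nat.card W₂. -/
theorem result {L : Type*} [Group L] [Finite L] (K W₂ : Subgroup L) [hK : K.Normal] (x : L) (hx1 : x ≠ 1) (hx : Nat.Coprime (orderOf x) (Nat.card K)) (hC : ∀ y ∈ Subgroup.zpowers x, y ≠ 1 → K ⊓ Subgroup.centralizer ({y} : Set L) = W₂) : Nat.card {C : ConjClasses K // ConjClasses.map (MulEquiv.toMonoidHom ((MulAut.conjNormal x : MulAut K))) C = C} ≤ Nat.card W₂ := by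
  classical
  have hW : ∀ k : K, (k : L) * x = x * k → (k : L) ∈ W₂ := fun k hk => by
    rw [← hC x (Subgroup.mem_zpowers x) hx1]
    exact ⟨k.2, Subgroup.mem_centralizer_singleton_iff.2 hk⟩
  choose f hf1 hf2 using fun C : {C : ConjClasses K //
      ConjClasses.map (MulEquiv.toMonoidHom ((MulAut.conjNormal x : MulAut K))) C = C} =>
    CfsgLib.CharsMore.exists_commute_in_fixed_class K x hx C.2
  refine Nat.card_le_card_of_injective (fun C => (⟨f C, hW _ (hf2 C).symm⟩ : W₂))
    fun a b h => Subtype.ext ?_
  have h' : f a = f b := Subtype.ext (congrArg Subtype.val h : _)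
  rw [← hf1 a, ← hf1 b, h']

end Cfsg.Agent.S1512
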