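import Cfsg.Statements.S1515
import Cfsg.Agent.Lib.Chars.Char
import Mathlib

set_option autoImplicit false
set_option linter.style.haveILetI false
open Cfsg

namespace Cfsg.Agent.S1515

/-- Let (S, τ, R) be a coherence system from L to G, χ ∈ S, and ψ an integer combination of S with ⟨χ, ψ⟩ = ⟨conj χ, ψ⟩ = 0. Let τ₁ be a linear isometry on the integer combinations of χ − ψ and χ − conj χ, with virtual-character values, agreeing with τ on integer multiples of χ − conj χ. Then the sum over α ∈ R χ of the squared absolute values of ⟨τ₁(χ − ψ), α⟩ is at least ⟨χ, χ⟩; and if ⟨τ₁(χ − ψ), τ₁(χ − ψ)⟩ minus that sum is at least ⟨ψ, ψ⟩, then the sum equals ⟨χ, χ⟩ and every ⟨τ₁(χ − ψ), α⟩ with α ∈ R χ is 0 or 1. -/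
theorem result {L : Type*} [Group L] [Fintype L] {G : Type*} [Group G] [Fintype G] (S : Set (L → ℂ)) (τ : (L → ℂ) → (G → ℂ)) (R : (L → ℂ) → Finset (G → ℂ)) (hS : Cfsg.IsCoherenceSystem S τ R) (χ : L → ℂ) (hχ : χ ∈ S) (ψ : L → ℂ) (hψ : ψ ∈ Cfsg.zspan S) (h1 : Cfsg.classInner χ ψ = 0) (h2 : Cfsg.classInner (Cfsg.conjFun χ) ψ = 0) (τ₁ : (L → ℂ) → (G → ℂ)) (hτ₁ : Cfsg.IsLinearIsometryOn (Cfsg.zspan {χ - ψ, χ - Cfsg.conjFun χ}) τ₁) (hagree : ∀ n : ℤ, τ₁ (n • (χ - Cfsg.conjFun χ)) = τ (n • (χ - Cfsg.conjFun χ))) : (Cfsg.classInner χ χ).re ≤ ∑ α ∈ R χ, ‖Cfsg.classInner (τ₁ (χ - ψ)) α‖ ^ 2 ∧ ((Cfsg.classInner ψ ψ).re ≤ (Cfsg.classInner (τ₁ (χ - ψ)) (τ₁ (χ - ψ))).re - ∑ α ∈ R χ, ‖Cfsg.classInner (τ₁ (χ - ψ)) α‖ ^ 2 → (∑ α ∈ R χ, ‖Cfsg.classInner (τ₁ (χ - ψ)) α‖ ^ 2 = (Cfsg.classInner χ χ).re ∧ ∀ α ∈ R χ, Cfsg.classInner (τ₁ (χ - ψ)) α = 0 ∨ Cfsg.classInner (τ₁ (χ - ψ)) α = 1)) :=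 by
  classical
  have hχ' : χ - Cfsg.conjFun χ ∈ Cfsg.zspanOn S {1}ᶜ := by
    refine ⟨Submodule.sub_mem _ (Submodule.subset_span hχ)
      (Submodule.subset_span (hS.conj_mem χ hχ)), fun x hx => ?_⟩
    obtain rfl : x = 1 := by simpa using hx
    obtain ⟨n, hn⟩ := CfsgLib.Chars.character_degree_nat (hS.isCharacter χ hχ)
    simp [Cfsg.conjFun, hn]
  have m1 : χ - ψ ∈ Cfsg.zspan {χ - ψ, χ - Cfsg.conjFun χ} :=
    Submodule.subset_span (Set.mem_insert _ _)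
  have m2 : χ - Cfsg.conjFun χ ∈ Cfsg.zspan {χ - ψ, χ - Cfsg.conjFun χ} :=
    Submodule.subset_span (Set.mem_insert_of_mem _ rfl)
  have hτ : τ₁ (χ - Cfsg.conjFun χ) = ∑ α ∈ R χ, α := by
    have := hagree 1
    rw [one_smul] at this
    rw [this, hS.sum_eq χ hχ]
  set n := Cfsg.classInner χ χ with hn
  set β := τ₁ (χ - ψ) with hβ
  have hψχ : Cfsg.classInner ψ χ = 0 := by rw [← CfsgLib.Chars.inner_conj, h1, map_zero]
  have hψc : Cfsg.classInner ψ (Cfsg.conjFun χ) = 0 := by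
    rw [← CfsgLib.Chars.inner_conj, h2, map_zero]
  have hsum : ∑ α ∈ R χ, Cfsg.classInner β α = n := by
    rw [← CfsgLib.Chars.inner_sum_right, ← hτ, hτ₁.2.2.1 _ m1 _ m2, CfsgLib.Chars.inner_sub_left,
      CfsgLib.Chars.inner_sub_right, CfsgLib.Chars.inner_sub_right, hψχ, hψc,
      hS.orthogonal χ hχ _ (hS.conj_mem χ hχ) (hS.conj_ne χ hχ).symm, hn]
    ring
  have hint : ∀ α ∈ R χ, ∃ z : ℤ, Cfsg.classInner β α = z := fun α hα => by
    obtain ⟨p, q, hp, hq, e⟩ := hτ₁.2.2.2 _ m1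
    obtain ⟨p', q', hp', hq', e'⟩ := hS.virtual χ hχ α hα
    obtain ⟨a, ha⟩ := CfsgLib.Chars.inner_char_nat hp hp'
    obtain ⟨b, hb⟩ := CfsgLib.Chars.inner_char_nat hp hq'
    obtain ⟨c, hc⟩ := CfsgLib.Chars.inner_char_nat hq hp'
    obtain ⟨d, hd⟩ := CfsgLib.Chars.inner_char_nat hq hq'
    refine ⟨(a : ℤ) - b - (c - d), ?_⟩
    rw [hβ, e, e', CfsgLib.Chars.inner_sub_left, CfsgLib.Chars.inner_sub_right,
      CfsgLib.Chars.inner_sub_right, ha, hb, hc, hd]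
    push_cast
    ring
  choose z hz using hint
  have hterm : ∀ α ∈ R χ, (Cfsg.classInner β α).re ≤ ‖Cfsg.classInner β α‖ ^ 2 := fun α hα => by
    rw [hz α hα, Complex.intCast_re, Complex.norm_intCast, sq_abs]
    exact_mod_cast Int.le_self_sq (z α hα)
  have hre : ∑ α ∈ R χ, (Cfsg.classInner β α).re = n.re := by rw [← hsum, Complex.re_sum]
  have hge : n.re ≤ ∑ α ∈ R χ, ‖Cfsg.classInner β α‖ ^ 2 := hre ▸ Finset.sum_le_sum hterm
  refine ⟨hge, fun hle => ?_⟩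
  have hββ : (Cfsg.classInner β β).re = n.re + (Cfsg.classInner ψ ψ).re := by
    rw [hβ, hτ₁.2.2.1 _ m1 _ m1, CfsgLib.Chars.inner_sub_left, CfsgLib.Chars.inner_sub_right,
      CfsgLib.Chars.inner_sub_right, hψχ, h1, hn]
    simp
  have heq : ∑ α ∈ R χ, ‖Cfsg.classInner β α‖ ^ 2 = n.re := le_antisymm (by linarith) hge
  refine ⟨heq, fun α hα => ?_⟩
  have h0 := (Finset.sum_eq_sum_iff_of_le hterm).1 (hre.trans heq.symm) α hα
  rw [hz α hα, Complex.intCast_re, Complex.norm_intCast, sq_abs] at h0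
  have h0' : z α hα = z α hα ^ 2 := by exact_mod_cast h0
  rcases mul_eq_zero.1 (show z α hα * (z α hα - 1) = 0 by linear_combination -h0') with h | h
  · exact Or.inl (by rw [hz α hα, h, Int.cast_zero])
  · exact Or.inr (by rw [hz α hα, sub_eq_zero.1 h, Int.cast_one])

end Cfsg.Agent.S1515
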