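import Cfsg.Statements.S1528
import Cfsg.Agent.Lib.CharsMore.Clifford
import Cfsg.Agent.Lib.Chars.Permutation
import Mathlib

set_option autoImplicit false
set_option linter.style.haveILetI false
open Cfsg

namespace Cfsg.Agent.S1528

/-- Let N be a normal subgroup of the finite group G such that every element of G commuting with a non-identity element of N lies in N. If χ is an irreducible character of G with χ n ≠ χ 1 for some n ∈ N, then χ is the function induced from some irreducible character of N. -/
theorem result {G : Type*} [Group G] [Fintype G] (N : Subgroup G) [N.Normal] (hC : ∀ n ∈ N, n ≠ 1 → Subgroup.centralizer ({n} : Set G) ≤ N) (χ : G → ℂ) (hχ : Cfsg.IsIrrCharacter G χ) (hker : ∃ n ∈ N, χ n ≠ χ 1) : ∃ φ : N → ℂ, Cfsg.IsIrrCharacter N φ ∧ χ = Cfsg.indFun N φ := by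
  classical
  haveI := Fintype.ofFinite N
  letI := CfsgLib.Chars.irrFintype N
  have hχc := CfsgLib.Chars.isCharacter_of_irr hχ
  have hres := CfsgLib.Chars.isCharacter_restrict N hχc
  obtain ⟨φ, hφ, hφ1⟩ : ∃ φ : Cfsg.IrrCharacter N,
      classInner (fun n : N => χ n) φ ≠ 0 ∧ φ ≠ CfsgLib.Chars.principal N := by
    by_contra hno
    push Not at hno
    obtain ⟨n, hn, hne⟩ := hker
    have hd := CfsgLib.Chars.classFun_eq_sum (CfsgLib.Chars.isClassFunction_of_isCharacter hres)
    rw [Finset.sum_eq_single (CfsgLib.Chars.principal N) (fun φ _ h => by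
      by_cases hz : classInner (fun n : N => χ n) φ = 0
      · simp [hz]
      · exact absurd (hno φ hz) h) (by simp)] at hd
    have e1 := congrFun hd ⟨n, hn⟩
    have e2 := congrFun hd 1
    simp only [Pi.smul_apply, CfsgLib.Chars.principal_apply, OneMemClass.coe_one] at e1 e2
    exact hne (e1.trans e2.symm)
  have hT : N = CfsgLib.CharsMore.inertia N (φ : N → ℂ) := by
    refine le_antisymm (CfsgLib.CharsMore.le_inertia N
      (CfsgLib.Chars.isClassFunction_irr φ)) fun g hg => ?_
    by_contra hgN
    let α : N ≃* N := MulAut.conjNormal g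
    have h := CfsgLib.Chars.card_fixed_classes_eq_card_fixed_irr α
    haveI : Subsingleton {C : ConjClasses N // ConjClasses.map α.toMonoidHom C = C} := by
      refine ⟨fun a b => Subtype.ext ?_⟩
      have key : ∀ C : {C : ConjClasses N // ConjClasses.map α.toMonoidHom C = C},
          C.1 = ConjClasses.mk 1 := by
        rintro ⟨C, hfix⟩
        obtain ⟨n, rfl⟩ := ConjClasses.mk_surjective C
        obtain ⟨m, hm⟩ := isConj_iff.1 (ConjClasses.mk_eq_mk_iff_isConj.1 hfix)
        have hm' : (m : G) * (g * n * g⁻¹) * (m : G)⁻¹ = n := by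
          have := congrArg Subtype.val hm
          simpa [α] using this
        by_contra hn1
        have hn : (n : G) ≠ 1 := fun h => hn1 (congrArg ConjClasses.mk (Subtype.ext h))
        have hmem : (m : G) * g ∈ Subgroup.centralizer ({(n : G)} : Set G) := by
          rw [Subgroup.mem_centralizer_singleton_iff]
          calc (m : G) * g * n = (m * (g * n * g⁻¹) * (m : G)⁻¹) * (m * g) := by group
            _ = n * (m * g) := by rw [hm']
        exact hgN (by simpa using N.mul_mem (N.inv_mem m.2) (hC n n.2 hn hmem))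
      rw [key a, key b]
    have h1 : Nat.card {C : ConjClasses N // ConjClasses.map α.toMonoidHom C = C} ≤ 1 :=
      Finite.card_le_one_iff_subsingleton.2 inferInstance
    rw [h] at h1
    haveI := Finite.card_le_one_iff_subsingleton.1 h1
    have hfix : (φ : N → ℂ) ∘ α = (φ : N → ℂ) := by
      funext x
      exact ((CfsgLib.CharsMore.mem_inertia N).1 hg x) ▸
        congrArg (φ : N → ℂ) (Subtype.ext (by simp [α]))
    exact hφ1 (congrArg Subtype.val (Subsingleton.elim
      (⟨φ, hfix⟩ : {χ : Cfsg.IrrCharacter N // (χ : N → ℂ) ∘ α = (χ : N → ℂ)})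
      ⟨CfsgLib.Chars.principal N, rfl⟩))
  have hirr := CfsgLib.CharsMore.isIrr_indFun_of_over N le_rfl φ.2 hT φ.2
    (by rw [CfsgLib.Chars.inner_irr_self φ]; exact one_ne_zero)
  refine ⟨φ, φ.2, ?_⟩
  by_contra hne
  apply hφ
  rw [← CfsgLib.CharsMore.conj_inner hres (CfsgLib.Chars.isCharacter_of_irr φ.2),
    ← CfsgLib.Chars.inner_indFun N (φ : N → ℂ) (CfsgLib.Chars.isClassFunction_of_isCharacter hχc),
    CfsgLib.Chars.inner_irr_of_isIrr hirr hχ, if_neg (Ne.symm hne)]

end Cfsg.Agent.S1528
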