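import Cfsg.Statements.S1529
import Cfsg.Agent.Lib.Chars.Char
import Mathlib

set_option autoImplicit false
set_option linter.style.haveILetI false
open Cfsg

namespace Cfsg.Agent.S1529

/-- Let N be a subgroup of the finite group G, S a set of irreducible characters of N with at least two members, and τ₁ a linear isometry on the integer combinations of S with virtual-character values such that τ₁ α vanishes at 1 whenever α ∈ ℤ[S] does. Then there is ε ∈ {1, −1} such that ε • τ₁ χ is an irreducible character of G for every χ ∈ S, and distinct members of S give distinct characters. -/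
theorem result {G : Type*} [Group G] [Fintype G] (N : Subgroup G) [Fintype N] (S : Set (N → ℂ)) (hirr : ∀ χ ∈ S, Cfsg.IsIrrCharacter N χ) (htwo : ∃ χ ∈ S, ∃ ψ ∈ S, χ ≠ ψ) (τ₁ : (N → ℂ) → (G → ℂ)) (hτ₁ : Cfsg.IsLinearIsometryOn (Cfsg.zspan S) τ₁) (h0 : ∀ α ∈ Cfsg.zspan S, α 1 = 0 → τ₁ α 1 = 0) : ∃ ε : ℂ, (ε = 1 ∨ ε = -1) ∧ (∀ χ ∈ S, Cfsg.IsIrrCharacter G (ε • τ₁ χ)) ∧ (∀ χ ∈ S, ∀ ψ ∈ S, τ₁ χ = τ₁ ψ → χ = ψ) := by
  classical
  have hmem : ∀ χ ∈ S, χ ∈ Cfsg.zspan S := fun χ hχ => Submodule.subset_span hχ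
  have hnorm : ∀ χ ∈ S, Cfsg.classInner (τ₁ χ) (τ₁ χ) = 1 := fun χ hχ => by
    rw [hτ₁.2.2.1 χ (hmem χ hχ) χ (hmem χ hχ)]
    exact CfsgLib.Chars.inner_irr_self ⟨χ, hirr χ hχ⟩
  have hprop : ∀ χ ∈ S, ∀ ψ ∈ S, ψ 1 * τ₁ χ 1 = χ 1 * τ₁ ψ 1 := by
    intro χ hχ ψ hψ
    obtain ⟨a, -, ha⟩ := CfsgLib.Chars.irr_degree_nat (hirr χ hχ)
    obtain ⟨b, -, hb⟩ := CfsgLib.Chars.irr_degree_nat (hirr ψ hψ)
    have m1 : (b : ℤ) • χ ∈ Cfsg.zspan S := Submodule.smul_mem _ _ (hmem χ hχ)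
    have m2 : (-(a : ℤ)) • ψ ∈ Cfsg.zspan S := Submodule.smul_mem _ _ (hmem ψ hψ)
    have h := h0 _ (Submodule.add_mem _ m1 m2) (by
      simp only [Pi.add_apply, Pi.smul_apply]
      simp only [zsmul_eq_mul, ha, hb]
      push_cast
      ring)
    rw [hτ₁.1 _ m1 _ m2, hτ₁.2.1 χ (hmem χ hχ), hτ₁.2.1 ψ (hmem ψ hψ)] at h
    simp only [Pi.add_apply, Pi.smul_apply] at h
    simp only [zsmul_eq_mul] at h
    push_cast at h
    rw [ha, hb]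
    linear_combination h
  obtain ⟨χ₀, hχ₀, -⟩ := htwo
  have hinj : ∀ χ ∈ S, ∀ ψ ∈ S, τ₁ χ = τ₁ ψ → χ = ψ := by
    intro χ hχ ψ hψ h
    by_contra hne
    have := hτ₁.2.2.1 χ (hmem χ hχ) ψ (hmem ψ hψ)
    rw [← h, hnorm χ hχ, CfsgLib.Chars.inner_irr_of_isIrr (hirr χ hχ) (hirr ψ hψ),
      if_neg hne] at this
    exact one_ne_zero this
  have hgen := hτ₁.2.2.2
  obtain ⟨a, ha0, ha⟩ := CfsgLib.Chars.irr_degree_nat (hirr χ₀ hχ₀)
  obtain ⟨ε, hε, b, hb0, hb⟩ : ∃ ε : ℂ, (ε = 1 ∨ ε = -1) ∧ ∃ b : ℕ, 0 < b ∧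
      ε * τ₁ χ₀ 1 = b := by
    rcases CfsgLib.Chars.irr_or_neg_irr_of_norm_one (hgen _ (hmem χ₀ hχ₀)) (hnorm χ₀ hχ₀)
      with h | h
    · obtain ⟨b, hb0, hb⟩ := CfsgLib.Chars.irr_degree_nat h
      exact ⟨1, Or.inl rfl, b, hb0, by rw [one_mul, hb]⟩
    · obtain ⟨b, hb0, hb⟩ := CfsgLib.Chars.irr_degree_nat h
      exact ⟨-1, Or.inr rfl, b, hb0, by rw [← hb, neg_one_mul]; rfl⟩
  refine ⟨ε, hε, fun χ hχ => ?_, hinj⟩
  obtain ⟨c, hc0, hc⟩ := CfsgLib.Chars.irr_degree_nat (hirr χ hχ)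
  have hg : Cfsg.IsGeneralizedCharacter G (ε • τ₁ χ) := by
    rcases hε with rfl | rfl
    · simpa using hgen _ (hmem χ hχ)
    · obtain ⟨p, q, hp, hq, e⟩ := hgen _ (hmem χ hχ)
      exact ⟨q, p, hq, hp, by rw [e]; simp⟩
  have hval : (ε • τ₁ χ) 1 = (((c * b : ℝ) / a : ℝ) : ℂ) := by
    have := hprop χ hχ χ₀ hχ₀
    rw [ha, hc] at this
    push_cast
    rw [eq_div_iff (Nat.cast_ne_zero.2 ha0.ne'), Pi.smul_apply, smul_eq_mul]
    linear_combination ε * this + (c : ℂ) * hb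
  refine CfsgLib.Chars.irr_of_norm_one hg ?_ ?_
  · rw [CfsgLib.Chars.inner_smul_left, CfsgLib.Chars.inner_smul_right, hnorm χ hχ]
    rcases hε with rfl | rfl <;> simp
  · rw [hval, Complex.ofReal_re]
    positivity

end Cfsg.Agent.S1529
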