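import Cfsg.Statements.S1531
import Cfsg.Agent.Lib.CharsMore.CoherenceUnion
import Cfsg.Agent.S1529
import Mathlib

set_option autoImplicit false
set_option linter.style.haveILetI false
open Cfsg

namespace Cfsg.Agent.S1531

/-- Let N be a subgroup of the finite group G, S a set of irreducible characters of N, and α a linear isometry on the integer combinations of S vanishing at 1 with values virtual characters of G vanishing at 1. Let X, Y ⊆ S be disjoint, each with at least two members, and σ, τ linear isometries on ℤ[X], ℤ[Y] into virtual characters agreeing with α on the members vanishing at 1. Then ⟨σ χ, τ η⟩ = 0 for χ ∈ X, η ∈ Y; and if for some χ₀ ∈ X, η₀ ∈ Y with degrees c = χ₀ 1, e = η₀ 1 one has α (c • η₀ − e • χ₀) = c • τ η₀ − e • σ χ₀, then (X ∪ Y, N minus 1, α) is coherent. -/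
theorem result {G : Type*} [Group G] [Fintype G] (N : Subgroup G) [Fintype N] (S X Y : Set (N → ℂ)) (hirr : ∀ ξ ∈ S, Cfsg.IsIrrCharacter N ξ) (hXS : X ⊆ S) (hYS : Y ⊆ S) (hXY : Disjoint X Y) (hX2 : ∃ a ∈ X, ∃ b ∈ X, a ≠ b) (hY2 : ∃ a ∈ Y, ∃ b ∈ Y, a ≠ b) (α : (N → ℂ) → (G → ℂ)) (hα : Cfsg.IsLinearIsometryOn (Cfsg.zspanOn S {1}ᶜ) α) (hα1 : ∀ θ ∈ Cfsg.zspanOn S {1}ᶜ, α θ 1 = 0) (σ τ : (N → ℂ) → (G → ℂ)) (hσ : Cfsg.IsLinearIsometryOn (Cfsg.zspan X) σ) (hσα : ∀ θ ∈ Cfsg.zspanOn X {1}ᶜ, σ θ = α θ) (hτ : Cfsg.IsLinearIsometryOn (Cfsg.zspan Y) τ) (hτα : ∀ θ ∈ Cfsg.zspanOn Y {1}ᶜ, τ θ = α θ) : (∀ χ ∈ X, ∀ η ∈ Y, Cfsg.classInner (σ χ) (τ η) = 0) ∧ ((∃ χ₀ ∈ X, ∃ η₀ ∈ Y, α (χ₀ 1 • η₀ - η₀ 1 • χ₀) = χ₀ 1 • τ η₀ - η₀ 1 • σ χ₀) → Cfsg.IsCoherent (X ∪ Y) {1}ᶜ α) := by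
  classical
  have hzX : ∀ θ ∈ zspanOn X {1}ᶜ, θ ∈ zspanOn S {1}ᶜ := fun θ h =>
    CfsgLib.CharsMore.zspanOn_mono hXS _ h
  have hzY : ∀ θ ∈ zspanOn Y {1}ᶜ, θ ∈ zspanOn S {1}ᶜ := fun θ h =>
    CfsgLib.CharsMore.zspanOn_mono hYS _ h
  obtain ⟨ε, hε, hσI, hσinj⟩ := Cfsg.Agent.S1529.result N X (fun χ h => hirr χ (hXS h)) hX2 σ hσ
    fun θ hθ h1 => by
      have hm : θ ∈ zspanOn X {1}ᶜ := CfsgLib.CharsMore.mem_zspanOn_one.2 ⟨hθ, h1⟩
      rw [hσα θ hm]; exact hα1 θ (hzX θ hm)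
  obtain ⟨δ, hδ, hτI, hτinj⟩ := Cfsg.Agent.S1529.result N Y (fun χ h => hirr χ (hYS h)) hY2 τ hτ
    fun θ hθ h1 => by
      have hm : θ ∈ zspanOn Y {1}ᶜ := CfsgLib.CharsMore.mem_zspanOn_one.2 ⟨hθ, h1⟩
      rw [hτα θ hm]; exact hα1 θ (hzY θ hm)
  have hεne : ε ≠ 0 := by rcases hε with rfl | rfl <;> norm_num
  have hδne : δ ≠ 0 := by rcases hδ with rfl | rfl <;> norm_num
  have horth : ∀ χ ∈ X, ∀ η ∈ Y, classInner (σ χ) (τ η) = 0 := by
    intro χ hχ η hη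
    obtain ⟨χ', hχ', hne⟩ : ∃ χ' ∈ X, χ' ≠ χ := by
      obtain ⟨a, ha, b, hb, hab⟩ := hX2
      by_cases h : a = χ
      · exact ⟨b, hb, fun e => hab (h.trans e.symm)⟩
      · exact ⟨a, ha, h⟩
    obtain ⟨η', hη', hne'⟩ : ∃ η' ∈ Y, η' ≠ η := by
      obtain ⟨a, ha, b, hb, hab⟩ := hY2
      by_cases h : a = η
      · exact ⟨b, hb, fun e => hab (h.trans e.symm)⟩
      · exact ⟨a, ha, h⟩
    obtain ⟨c, hc0, hc⟩ := CfsgLib.Chars.irr_degree_nat (hirr χ (hXS hχ))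
    obtain ⟨c', hc0', hc'⟩ := CfsgLib.Chars.irr_degree_nat (hirr χ' (hXS hχ'))
    obtain ⟨e, he0, he⟩ := CfsgLib.Chars.irr_degree_nat (hirr η (hYS hη))
    obtain ⟨e', he0', he'⟩ := CfsgLib.Chars.irr_degree_nat (hirr η' (hYS hη'))
    set MX : Submodule ℤ (N → ℂ) := Submodule.span ℤ X
    set MY : Submodule ℤ (N → ℂ) := Submodule.span ℤ Y
    have hσM : IsLinearIsometryOn (MX : Set (N → ℂ)) σ := hσ
    have hτM : IsLinearIsometryOn (MY : Set (N → ℂ)) τ := hτ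
    have m1 : (c' : ℤ) • χ ∈ MX := MX.smul_mem _ (Submodule.subset_span hχ)
    have m2 : (c : ℤ) • χ' ∈ MX := MX.smul_mem _ (Submodule.subset_span hχ')
    have m3 : (e' : ℤ) • η ∈ MY := MY.smul_mem _ (Submodule.subset_span hη)
    have m4 : (e : ℤ) • η' ∈ MY := MY.smul_mem _ (Submodule.subset_span hη')
    have hu : (c' : ℤ) • χ - (c : ℤ) • χ' ∈ zspanOn X {1}ᶜ :=
      CfsgLib.CharsMore.mem_zspanOn_one.2 ⟨MX.sub_mem m1 m2, by simp [hc, hc']; ring⟩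
    have hv : (e' : ℤ) • η - (e : ℤ) • η' ∈ zspanOn Y {1}ᶜ :=
      CfsgLib.CharsMore.mem_zspanOn_one.2 ⟨MY.sub_mem m3 m4, by simp [he, he']; ring⟩
    have hd : ∀ φ ∈ X, ∀ ψ ∈ Y, classInner φ ψ = 0 := fun φ hφ ψ hψ =>
      CfsgLib.CharsMore.irr_orth (hirr φ (hXS hφ)) (hirr ψ (hYS hψ))
        fun h => Set.disjoint_left.1 hXY hφ (h ▸ hψ)
    have key := hα.2.2.1 _ (hzX _ hu) _ (hzY _ hv)
    rw [← hσα _ hu, ← hτα _ hv, CfsgLib.CharsMore.isometry_map_sub hσM m1 m2,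
      CfsgLib.CharsMore.isometry_map_sub hτM m3 m4, hσM.2.1 χ (Submodule.subset_span hχ),
      hσM.2.1 χ' (Submodule.subset_span hχ'), hτM.2.1 η (Submodule.subset_span hη),
      hτM.2.1 η' (Submodule.subset_span hη')] at key
    simp only [CfsgLib.CharsMore.zsmul_eq_cast, CfsgLib.Chars.inner_sub_left,
      CfsgLib.Chars.inner_sub_right, CfsgLib.Chars.inner_smul_left, CfsgLib.Chars.inner_smul_right,
      hd χ hχ η hη, hd χ hχ η' hη', hd χ' hχ' η hη, hd χ' hχ' η' hη', map_intCast,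
      map_natCast, Int.cast_natCast, mul_zero, sub_zero] at key
    have hA : ∀ φ ∈ X, ∀ ψ ∈ Y, classInner (σ φ) (τ ψ) =
        ε * δ * (if ε • σ φ = δ • τ ψ then 1 else 0) := by
      intro φ hφ ψ hψ
      have h := CfsgLib.Chars.inner_irr_of_isIrr (hσI φ hφ) (hτI ψ hψ)
      rw [CfsgLib.Chars.inner_smul_left, CfsgLib.Chars.inner_smul_right] at h
      rw [← h]
      rcases hε with rfl | rfl <;> rcases hδ with rfl | rfl <;> simp
    rw [hA χ hχ η hη]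
    by_cases hAB : ε • σ χ = δ • τ η
    swap
    · rw [if_neg hAB, mul_zero]
    exfalso
    have n1 : ε • σ χ ≠ δ • τ η' := fun h =>
      hne' (hτinj η' hη' η hη (smul_right_injective _ hδne (h.symm.trans hAB)))
    have n2 : ε • σ χ' ≠ δ • τ η := fun h =>
      hne (hσinj χ' hχ' χ hχ (smul_right_injective _ hεne (h.trans hAB.symm)))
    rw [hA χ hχ η hη, hA χ hχ η' hη', hA χ' hχ' η hη, hA χ' hχ' η' hη', if_pos hAB, if_neg n1,
      if_neg n2] at key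
    by_cases h4 : ε • σ χ' = δ • τ η'
    · rw [if_pos h4] at key
      have h0 : ε * δ * (((c' * e' + c * e : ℕ) : ℂ)) = 0 := by
        push_cast; linear_combination key
      rcases mul_eq_zero.1 h0 with h | h
      · exact mul_ne_zero hεne hδne h
      · have : c' * e' + c * e = 0 := by exact_mod_cast h
        have := Nat.mul_pos hc0 he0
        omega
    · rw [if_neg h4] at key
      have h0 : ε * δ * (((c' * e' : ℕ) : ℂ)) = 0 := by
        push_cast; linear_combination key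
      rcases mul_eq_zero.1 h0 with h | h
      · exact mul_ne_zero hεne hδne h
      · exact (Nat.mul_pos hc0' he0').ne' (by exact_mod_cast h)
  refine ⟨horth, fun ⟨χ₀, hχ₀, η₀, hη₀, h⟩ => ?_⟩
  exact CfsgLib.CharsMore.coherent_union_irr
    (fun φ hφ => hφ.elim (fun h => hirr φ (hXS h)) (fun h => hirr φ (hYS h))) hXY
    (CfsgLib.CharsMore.isometry_mono
      (CfsgLib.CharsMore.zspanOn_mono (Set.union_subset hXS hYS) _) hα)
    hσ hσα hτ hτα horth hχ₀ hη₀ h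

end Cfsg.Agent.S1531
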