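import Cfsg.Statements.S1532
import Cfsg.Agent.Lib.CharsMore.FeitSibley
import Mathlib

set_option autoImplicit false
set_option linter.style.haveILetI false
open Cfsg

namespace Cfsg.Agent.S1532

/-- Let G be a finite group, p an odd prime and P a Sylow p-subgroup that is non-abelian, whose underlying set is a TI-subset of G, with P properly contained in its set normaliser N and C_G(x) ≤ P for every non-identity x ∈ P. Let Z be a nontrivial subgroup of the centre of P normalised by N. Then the set of irreducible characters χ of N with χ z ≠ χ 1 for some z ∈ Z is coherent for the map induced by induction from N to G. -/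
theorem result {G : Type*} [Group G] [Fintype G] (p : ℕ) [Fact p.Prime] (hp : p ≠ 2) (P : Sylow p G) (hna : ¬ IsMulCommutative (P : Subgroup G)) (hTI : Cfsg.IsTISubset ((P : Subgroup G) : Set G)) (hlt : (P : Subgroup G) < Subgroup.normalizer ((P : Subgroup G) : Set G)) (hC : ∀ k ∈ (P : Subgroup G), k ≠ 1 → Subgroup.centralizer ({k} : Set G) ≤ (P : Subgroup G)) [Fintype ↥(Subgroup.normalizer ((P : Subgroup G) : Set G))] (Z : Subgroup G) (hZ1 : Z ≠ ⊥) (hZP : ∀ z ∈ Z, z ∈ (P : Subgroup G) ∧ ∀ y ∈ (P : Subgroup G), z * y = y * z) (hZn : ∀ x ∈ Subgroup.normalizer ((P : Subgroup G) : Set G), ∀ z ∈ Z, x * z * x⁻¹ ∈ Z) : Cfsg.IsCoherent {χ : ↥(Subgroup.normalizer ((P : Subgroup G) : Set G)) → ℂ | Cfsg.IsIrrCharacter ↥(Subgroup.normalizer ((P : Subgroup G) : Set G)) χ ∧ ∃ z : ↥(Subgroup.normalizer ((P : Subgroup G) : Set G)), (z : G) ∈ Z ∧ χ z ≠ χ 1} {1}ᶜ (fun α => Cfsg.indFun (Subgroup.normalizer ((P : Subgroup G) : Set G)) α) := by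
  classical
  haveI : ((P : Subgroup G).subgroupOf (Subgroup.normalizer ((P : Subgroup G) : Set G))).Normal := Subgroup.normal_in_normalizer
  have hpp : p.Prime := Fact.out
  haveI : Group.IsNilpotent (P : Subgroup G) := P.2.isNilpotent
  have hHN : (P : Subgroup G) ≤ (Subgroup.normalizer ((P : Subgroup G) : Set G)) := hlt.le
  set K := (P : Subgroup G).subgroupOf (Subgroup.normalizer ((P : Subgroup G) : Set G))
  have hnilK : Group.IsNilpotent K :=
    Group.nilpotent_of_mulEquiv (Subgroup.subgroupOfEquivOfLe hHN).symm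
  haveI := hnilK
  have hC' := CfsgLib.CharsMore.centralizer_subgroupOf hHN hC
  obtain ⟨m, hm⟩ := IsPGroup.iff_card.1 P.2
  have hcard : Nat.card K = p ^ m :=
    (Nat.card_congr (Subgroup.subgroupOfEquivOfLe hHN).toEquiv).trans hm
  have hP1 : (P : Subgroup G) ≠ ⊥ := fun h => hna (by
    refine ⟨⟨fun a b => Subtype.ext ?_⟩⟩
    have ha : (a : G) = 1 := Subgroup.mem_bot.1 (h ▸ a.2)
    have hb : (b : G) = 1 := Subgroup.mem_bot.1 (h ▸ b.2)
    simp [ha, hb])
  have hodd : Odd (Nat.card (Subgroup.normalizer ((P : Subgroup G) : Set G))) := CfsgLib.CharsMore.odd_of_nonabelian_kernel hC'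
    (hcard ▸ (hpp.odd_of_ne_two hp).pow) fun h => hna (by
      refine ⟨⟨fun a b => Subtype.ext ?_⟩⟩
      have h1 := Subgroup.commutator_mem_commutator (H₁ := K) (H₂ := K)
        (show (⟨a, hHN a.2⟩ : (Subgroup.normalizer ((P : Subgroup G) : Set G))) ∈ K from a.2) (show (⟨b, hHN b.2⟩ : (Subgroup.normalizer ((P : Subgroup G) : Set G))) ∈ K from b.2)
      rw [h, Subgroup.mem_bot, commutatorElement_eq_one_iff_mul_comm] at h1
      exact congrArg (fun z : (Subgroup.normalizer ((P : Subgroup G) : Set G)) => (z : G)) h1)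
  have hcoh := CfsgLib.CharsMore.sibley_odd (N := (Subgroup.normalizer ((P : Subgroup G) : Set G))) rfl hTI hC hodd hnilK hP1
  obtain ⟨R, hS⟩ := CfsgLib.CharsMore.exists_coh_system (N := (Subgroup.normalizer ((P : Subgroup G) : Set G))) rfl hTI hC hodd inferInstance hP1
  set Z' := Z.subgroupOf (Subgroup.normalizer ((P : Subgroup G) : Set G))
  have hZK : Z' ≤ K := fun z hz => (hZP z hz).1
  haveI : Z'.Normal := ⟨fun z hz g => hZn g g.2 z hz⟩
  have hZ1' : Z' ≠ ⊥ := by
    obtain ⟨z, hz, hz1⟩ := (Subgroup.bot_or_exists_ne_one Z).resolve_left hZ1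
    intro h
    have : (⟨z, hHN (hZP z hz).1⟩ : (Subgroup.normalizer ((P : Subgroup G) : Set G))) ∈ Z' := hz
    rw [h, Subgroup.mem_bot] at this
    exact hz1 (congrArg Subtype.val this)
  have heq := CfsgLib.CharsMore.sdiff_inducedIrrAbove_eq (K := K) hZK
    fun χ h => CfsgLib.CharsMore.inducedIrrAbove_isIrr hC' χ h.1
  refine (show _ = _ from heq) ▸ CfsgLib.CharsMore.isCoherent_mono hS hcoh Set.sdiff_subset
    Set.sdiff_subset (CfsgLib.CharsMore.sdiff_inducedIrrAbove_nonempty hZK hZ1') fun φ h =>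
      ⟨CfsgLib.CharsMore.inducedIrrAbove_conj K h.1, fun h' => h.2 (by
        simpa [CfsgLib.CharsMore.conjFun_conjFun] using
          CfsgLib.CharsMore.inducedIrrAbove_conj K h')⟩

end Cfsg.Agent.S1532
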