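import Cfsg.Statements.S1546
import Mathlib

set_option autoImplicit false
open Cfsg

namespace Cfsg.Agent.S1546

/-- Let p and q be odd primes and N = (p ^ q − 1) / (p − 1) = 1 + p + ⋯ + p^(q−1). Then N is odd; if p ≡ 1 (mod q) then q ∣ N; and if p is not ≡ 1 (mod q) then N is coprime to p − 1 and every divisor of N is ≡ 1 (mod q). -/
theorem result (p q : ℕ) (hp : p.Prime) (hq : q.Prime) (hp2 : p ≠ 2) (hq2 : q ≠ 2) : Odd ((p ^ q - 1) / (p - 1)) ∧ (p % q = 1 → q ∣ (p ^ q - 1) / (p - 1)) ∧ (p % q ≠ 1 → Nat.Coprime ((p ^ q - 1) / (p - 1)) (p - 1) ∧ ∀ x : ℕ, x ∣ (p ^ q - 1) / (p - 1) → x % q = 1) := by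
  have hn : (p ^ q - 1) / (p - 1) = ∑ i ∈ Finset.range q, p ^ i :=
    (Nat.geomSum_eq hp.two_le q).symm
  rw [hn]
  set n := ∑ i ∈ Finset.range q, p ^ i with hndef
  have hmod : n ≡ q [MOD p - 1] := by
    have h1 : ∀ i, p ^ i ≡ 1 [MOD p - 1] := fun i => by
      have : p ≡ 1 [MOD p - 1] :=
        ((Nat.modEq_iff_dvd' hp.one_le).2 dvd_rfl).symm
      simpa using this.pow i
    have hsum : ∀ m, (∑ i ∈ Finset.range m, p ^ i) ≡ m [MOD p - 1] := by
      intro m
      induction m with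
      | zero => rfl
      | succ m ih => rw [Finset.sum_range_succ]; exact ih.add (h1 m)
    exact hsum q
  have hgeom : (p - 1) * n + 1 = p ^ q := by
    have := geom_sum_mul_add (p - 1) q
    rw [Nat.sub_add_cancel hp.one_le] at this
    rw [mul_comm, hndef]
    exact this
  have hodd : Odd n := by
    rw [hndef, Finset.odd_sum_iff_odd_card_odd]
    have : (Finset.range q).filter (fun i => Odd (p ^ i)) = Finset.range q :=
      Finset.filter_true_of_mem fun i _ => (hp.odd_of_ne_two hp2).pow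
    rw [this, Finset.card_range]
    exact hq.odd_of_ne_two hq2
  refine ⟨hodd, fun h1 => ?_, fun h1 => ?_⟩
  · have hqp : q ∣ p - 1 := (Nat.modEq_iff_dvd' hp.one_le).1 (by
      rw [Nat.ModEq, h1, Nat.one_mod_eq_one.2 hq.ne_one])
    exact ((hmod.of_dvd hqp).dvd_iff dvd_rfl).2 dvd_rfl
  · have hcop : Nat.Coprime n (p - 1) := by
      show Nat.gcd n (p - 1) = 1
      rw [hmod.gcd_eq]
      refine (hq.coprime_iff_not_dvd.2 fun hd => h1 ?_)
      have := ((Nat.modEq_iff_dvd' hp.one_le).2 hd).symm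
      rw [Nat.ModEq, Nat.one_mod_eq_one.2 hq.ne_one] at this
      exact this
    refine ⟨hcop, fun x hx => ?_⟩
    induction x using Nat.recOnMul with
    | zero => rw [Nat.zero_dvd] at hx; exact absurd hx (Nat.ne_of_gt hodd.pos)
    | one => exact Nat.one_mod_eq_one.2 hq.ne_one
    | prime r hr =>
      have : Fact r.Prime := ⟨hr⟩
      have hpr : ((p : ZMod r)) ^ q = 1 := by
        rw [← Nat.cast_pow, ← hgeom, Nat.cast_add, Nat.cast_mul, (ZMod.natCast_eq_zero_iff _ _).2 hx]
        simp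
      have hp1 : (p : ZMod r) ≠ 1 := fun h => by
        have : r ∣ p - 1 := by
          rw [← ZMod.natCast_eq_zero_iff, Nat.cast_sub hp.one_le, h, Nat.cast_one, sub_self]
        exact hr.not_dvd_one (hcop ▸ Nat.dvd_gcd hx this)
      have ho : orderOf (p : ZMod r) = q :=
        haveI : Fact q.Prime := ⟨hq⟩
        orderOf_eq_prime hpr hp1
      have hp0 : (p : ZMod r) ≠ 0 := fun h => by
        rw [h, zero_pow hq.ne_zero] at hpr
        exact zero_ne_one hpr
      have hd := ZMod.orderOf_dvd_card_sub_one hp0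
      rw [ho] at hd
      have := ((Nat.modEq_iff_dvd' hr.one_le).2 hd).symm
      rwa [Nat.ModEq, Nat.one_mod_eq_one.2 hq.ne_one] at this
    | mul a b iha ihb =>
      rw [Nat.mul_mod, iha (Dvd.dvd.trans (dvd_mul_right a b) hx),
        ihb (Dvd.dvd.trans (dvd_mul_left b a) hx), mul_one, Nat.one_mod_eq_one.2 hq.ne_one]

end Cfsg.Agent.S1546
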