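import Cfsg.Agent.Lib.Spor.OrbitApply
import Cfsg.Agent.Lib.Spor.Orb.TransSex
import Cfsg.Agent.Lib.Spor.Orb.SexSex
import Cfsg.Statements.S1552

set_option autoImplicit false
open scoped Pointwise
open Cfsg CfsgLib.Spor

namespace Cfsg.Agent.S1552

/-- A sextet stabiliser has four orbits on the 1771 sextets, of sizes 1, 90, 240, 1440; and the stabiliser is a maximal proper subgroup. -/
theorem result (S : Finset (Finset Cfsg.GolayPt)) (hS : S ∈ Cfsg.sextets) : ∃ X₁ ∈ Cfsg.sextets, ∃ X₂ ∈ Cfsg.sextets, ∃ X₃ ∈ Cfsg.sextets, (MulAction.orbit ↥(MulAction.stabilizer Cfsg.M24 S) X₁).ncard = 90 ∧ (MulAction.orbit ↥(MulAction.stabilizer Cfsg.M24 S) X₂).ncard = 240 ∧ (MulAction.orbit ↥(MulAction.stabilizer Cfsg.M24 S) X₃).ncard = 1440 ∧ Cfsg.sextets = {S} ∪ MulAction.orbit ↥(MulAction.stabilizer Cfsg.M24 S) X₁ ∪ MulAction.orbit ↥(MulAction.stabilizer Cfsg.M24 S) X₂ ∪ MulAction.orbit ↥(MulAction.stabilizer Cfsg.M24 S) X₃ ∧ IsCoatom (MulAction.stabilizer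 Cfsg.M24 S) := by
  obtain ⟨hmax, ys, h⟩ := sexK.exists_self transSex_ok (i0 := 0) (by decide +kernel)
    (sexK.mem_stab_iff (by decide +kernel)) (L := [sexK.parts 0])
    (show sexK.splitOK [sexK.parts 0] sexSexGens sexSexCls = true by
      rw [show [sexK.parts 0] = sexSexL by decide +kernel]; exact sexSex_ok)
    (show sexK.maxOK [sexK.parts 0] sexSexGens 0 sexSexCls sexSexUp = true by
      rw [show [sexK.parts 0] = sexSexL by decide +kernel]; exact sexSex_max)
    (show _ = [1, 90, 240, 1440] by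
      rw [show [sexK.parts 0] = sexSexL by decide +kernel]; exact sexSex_sizes) hS
  obtain ⟨u, hu, v, hv, w, hw, h1, h2, h3, h4⟩ := h.self_three
  exact ⟨u, hu, v, hv, w, hw, h1, h2, h3, h4, hmax⟩

end Cfsg.Agent.S1552
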