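import Cfsg.Agent.Lib.Spor.OrbitApply
import Cfsg.Agent.Lib.Spor.Orb.TransTrio
import Cfsg.Agent.Lib.Spor.Orb.TrioTrio
import Cfsg.Statements.S1559

set_option autoImplicit false
open scoped Pointwise
open Cfsg CfsgLib.Spor

namespace Cfsg.Agent.S1559

/-- A trio stabiliser has five orbits on the 3795 trios, of sizes 1, 42, 56, 1008, 2688; and the stabiliser is a maximal proper subgroup. -/
theorem result (T : Finset (Finset Cfsg.GolayPt)) (hT : T ∈ Cfsg.trios) : ∃ X₁ ∈ Cfsg.trios, ∃ X₂ ∈ Cfsg.trios, ∃ X₃ ∈ Cfsg.trios, ∃ X₄ ∈ Cfsg.trios, (MulAction.orbit ↥(MulAction.stabilizer Cfsg.M24 T) X₁).ncard = 42 ∧ (MulAction.orbit ↥(MulAction.stabilizer Cfsg.M24 T) X₂).ncard = 56 ∧ (MulAction.orbit ↥(MulAction.stabilizer Cfsg.M24 T) X₃).ncard = 1008 ∧ (MulAction.orbit ↥(MulAction.stabilizer Cfsg.M24 T) X₄).ncard = 2688 ∧ Cfsg.trios = {T} ∪ MulAction.orbit ↥(MulAction.stabilizer Cfsg.M24 T) X₁ ∪ MulAction.orbit ↥(MulAction.stabilizer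 Cfsg.M24 T) X₂ ∪ MulAction.orbit ↥(MulAction.stabilizer Cfsg.M24 T) X₃ ∪ MulAction.orbit ↥(MulAction.stabilizer Cfsg.M24 T) X₄ ∧ IsCoatom (MulAction.stabilizer Cfsg.M24 T) := by
  obtain ⟨hmax, ys, h⟩ := trioK.exists_self transTrio_ok (i0 := 0) (by decide +kernel)
    (trioK.mem_stab_iff (by decide +kernel)) (L := [trioK.parts 0])
    (show trioK.splitOK [trioK.parts 0] trioTrioGens trioTrioCls = true by
      rw [show [trioK.parts 0] = trioTrioL by decide +kernel]; exact trioTrio_ok)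
    (show trioK.maxOK [trioK.parts 0] trioTrioGens 0 trioTrioCls trioTrioUp = true by
      rw [show [trioK.parts 0] = trioTrioL by decide +kernel]; exact trioTrio_max)
    (show _ = [1, 42, 56, 1008, 2688] by
      rw [show [trioK.parts 0] = trioTrioL by decide +kernel]; exact trioTrio_sizes) hT
  obtain ⟨u, hu, v, hv, w, hw, r, hr, h1, h2, h3, h4, h5⟩ := h.self_four
  exact ⟨u, hu, v, hv, w, hw, r, hr, h1, h2, h3, h4, h5, hmax⟩

end Cfsg.Agent.S1559
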