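import Cfsg.Agent.Lib.Spor.OrbitCounts
import Cfsg.Agent.Lib.Spor.Orb.TransDod
import Cfsg.Statements.S1560

set_option autoImplicit false
open scoped Pointwise
open Cfsg CfsgLib.Spor

namespace Cfsg.Agent.S1560

/-- Intersection numbers of dodecads: a dodecad meets every other dodecad in 0, 4, 6 or 8 points, meeting 495 of them in 4 points, 1584 in 6 points and 495 in 8 points. -/
theorem result (d : Finset Cfsg.GolayPt) (hd : d ∈ Cfsg.dodecads) : (∀ d' ∈ Cfsg.dodecads, d' ≠ d → (d ∩ d').card = 0 ∨ (d ∩ d').card = 4 ∨ (d ∩ d').card = 6 ∨ (d ∩ d').card = 8) ∧ {d' : Finset Cfsg.GolayPt | d' ∈ Cfsg.dodecads ∧ (d ∩ d').card = 4}.ncard = 495 ∧ {d' : Finset Cfsg.GolayPt | d' ∈ Cfsg.dodecads ∧ (d ∩ d').card = 6}.ncard = 1584 ∧ {d' : Finset Cfsg.GolayPt | d' ∈ Cfsg.dodecads ∧ (d ∩ d').card = 8}.ncard = 495 := by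
  obtain ⟨⟨g, hg⟩, hgd⟩ := dodK.exists_trans transDod_ok (dodK.ix.mem 0 (by decide +kernel)) hd
  change g • dodK.ix.sem 0 = d at hgd
  subst hgd
  have hc : ∀ k, {d' : Finset GolayPt | d' ∈ dodecads ∧
      ((g • dodK.ix.sem 0) ∩ d').card = k}.ncard = (dodMeetCls k).length := fun k => by
    rw [ncard_setOf_smul hg dodK (Q := fun y => (dodK.ix.sem 0 ∩ y).card = k)
      (fun y => by rw [smul_inter_card])]
    exact ncard_dodMeet k
  have hs := dodMeet_sizes
  simp only [List.map_cons, List.map_nil, List.cons.injEq, and_true] at hs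
  refine ⟨fun d' hd' hne => ?_, (hc 4).trans hs.1, (hc 6).trans hs.2.1, (hc 8).trans hs.2.2⟩
  obtain ⟨i, hi, hie⟩ := dodK.ix.complete (g⁻¹ • d') (dodK.smul_mem _ (inv_mem hg) _ hd')
  have hv := List.all_eq_true.1 dodMeet_values i (List.mem_range.2 hi)
  have hi0 : i ≠ 0 := fun e => hne (by rw [← smul_inv_smul g d', ← hie, e])
  have hcard : ((g • dodK.ix.sem 0) ∩ d').card =
      pop (getT 24 dodTbl 0 &&& getT 24 dodTbl i) := by
    rw [← dodSem_meet i, hie, ← smul_inter_card g (dodK.ix.sem 0), smul_inv_smul]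
  rw [hcard]
  simpa [hi0] using hv

end Cfsg.Agent.S1560
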