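import Cfsg.Agent.Lib.Spor.OrbitBases
import Cfsg.Agent.Lib.Spor.OrbitCounts
import Cfsg.Agent.Lib.Spor.Orb.TransTriple
import Cfsg.Agent.Lib.Spor.Orb.TripleTriple
import Cfsg.Statements.S1562

set_option autoImplicit false
set_option maxHeartbeats 1000000
open scoped Pointwise
open Cfsg CfsgLib.Spor

namespace Cfsg.Agent.S1562

/-- Orbits of a triad stabiliser on the triads disjoint from it: the 210 triads inside a common octad with it form one orbit and the remaining 1120 another. -/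
theorem result (T : Finset Cfsg.GolayPt) (hT : T.card = 3) : {U : Finset Cfsg.GolayPt | U.card = 3 ∧ Disjoint T U ∧ (∃ o ∈ Cfsg.octads, T ∪ U ⊆ o)}.ncard = 210 ∧ {U : Finset Cfsg.GolayPt | U.card = 3 ∧ Disjoint T U ∧ ¬ (∃ o ∈ Cfsg.octads, T ∪ U ⊆ o)}.ncard = 1120 ∧ ∀ U U' : Finset Cfsg.GolayPt, U.card = 3 → U'.card = 3 → Disjoint T U → Disjoint T U' → ((∃ o ∈ Cfsg.octads, T ∪ U ⊆ o) ↔ (∃ o ∈ Cfsg.octads, T ∪ U' ⊆ o)) → ∃ g : Equiv.Perm Cfsg.GolayPt, g ∈ Cfsg.M24 ∧ g • T = T ∧ g • U = U' := by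
  have h0 : 0 < tripleK.ix.n := by decide +kernel
  obtain ⟨⟨g, hg⟩, hgT⟩ := tripleK.exists_trans transTrip_ok (tripleK.ix.mem 0 h0) hT
  change g • toSet (getT 24 tripleTbl 0) = T at hgT
  subst hgT
  let key : ℕ → List ℕ := fun i => [pop (getT 24 tripleTbl 0 &&& getT 24 tripleTbl i),
    if octCover (getT 24 tripleTbl 0 ||| getT 24 tripleTbl i) then 1 else 0]
  have hk : tripleK.keyOK tripTripL key tripTripCls = true := by decide +kernel
  have hlt : ∀ i, getT 24 tripleTbl 0 ||| getT 24 tripleTbl i < 16777216 := fun i =>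
    Nat.or_lt_two_pow (n := 24) (getT24_lt _ _) (getT24_lt _ _)
  have hD : ∀ i, Disjoint (g • toSet (getT 24 tripleTbl 0)) (g • toSet (getT 24 tripleTbl i)) ↔
      pop (getT 24 tripleTbl 0 &&& getT 24 tripleTbl i) = 0 := fun i => by
    rw [Finset.disjoint_iff_inter_eq_empty, ← Finset.smul_finset_inter, ← Finset.card_eq_zero,
      Finset.card_smul_finset, ← toSet_and, card_toSet]
  have hE : ∀ i, (∃ o ∈ octads, g • toSet (getT 24 tripleTbl 0) ∪ g • toSet (getT 24 tripleTbl i) ⊆ o) ↔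
      octCover (getT 24 tripleTbl 0 ||| getT 24 tripleTbl i) = true := fun i => by
    rw [← Finset.smul_finset_union, exists_octad_smul hg, ← toSet_or, exists_octad_superset (hlt i)]
  have hcount : ∀ (P : Prop → Prop) (k : ℕ),
      (∀ b : Bool, P (b = true) ↔ (if b then 1 else 0) = k) →
      {U : Finset GolayPt | U.card = 3 ∧ Disjoint (g • toSet (getT 24 tripleTbl 0)) U ∧
        P (∃ o ∈ octads, g • toSet (getT 24 tripleTbl 0) ∪ U ⊆ o)}.ncard =
      (classList 2024 fun i => decide (key i = [0, k])).length := fun P k hP => by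
    refine (ncard_setOf_smul hg tripleK (Q := fun U => Disjoint (g • toSet (getT 24 tripleTbl 0)) (g • U) ∧
        P (∃ o ∈ octads, g • toSet (getT 24 tripleTbl 0) ∪ g • U ⊆ o)) fun _ => Iff.rfl).trans ?_
    refine tripleK.ix.ncard_setOf (P := fun U => Disjoint (g • toSet (getT 24 tripleTbl 0)) (g • U) ∧
        P (∃ o ∈ octads, g • toSet (getT 24 tripleTbl 0) ∪ g • U ⊆ o)) fun i _ => ?_
    show _ ↔ Disjoint _ (g • toSet (getT 24 tripleTbl i)) ∧
      P (∃ o ∈ octads, _ ∪ g • toSet (getT 24 tripleTbl i) ⊆ o)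
    rw [decide_eq_true_eq, hD i, propext (hE i), hP]
    simp only [key, List.cons.injEq, and_true]
  refine ⟨?_, ?_, fun U U' hU hU' hdU hdU' hiff => ?_⟩
  · exact (hcount id 1 (fun b => by cases b <;> simp)).trans (by decide +kernel)
  · exact (hcount Not 0 (fun b => by cases b <;> simp)).trans (by decide +kernel)
  obtain ⟨i, hi, hie⟩ := tripleK.ix.complete (g⁻¹ • U) (tripleK.smul_mem _ (inv_mem hg) _ hU)
  obtain ⟨j, hj, hje⟩ := tripleK.ix.complete (g⁻¹ • U') (tripleK.smul_mem _ (inv_mem hg) _ hU')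
  have hiU : g • toSet (getT 24 tripleTbl i) = U := (congrArg (g • ·) hie).trans (smul_inv_smul g U)
  have hjU : g • toSet (getT 24 tripleTbl j) = U' := (congrArg (g • ·) hje).trans (smul_inv_smul g U')
  subst hiU hjU
  rw [hE i, hE j, Bool.eq_iff_iff.symm] at hiff
  obtain ⟨m, hm, hme⟩ := tripleK.exists_map_key tripTrip_ok hk hi hj (by
    simp only [key]; rw [(hD i).1 hdU, (hD j).1 hdU', hiff])
  refine ⟨g * m * g⁻¹, mul_mem (mul_mem hg hm.1) (inv_mem hg), ?_, ?_⟩
  · rw [mul_smul, mul_smul, inv_smul_smul]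
    refine congrArg (g • ·) ((singleton_smul_iff m _).1 ?_)
    exact hm.2 [getT 24 tripleTbl 0] (List.mem_cons_self)
  · rw [mul_smul, mul_smul, inv_smul_smul]
    exact congrArg (g • ·) hme

end Cfsg.Agent.S1562
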