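import Cfsg.Agent.Lib.Spor.OrbitApply
import Cfsg.Agent.Lib.Spor.Orb.TransPair
import Cfsg.Agent.Lib.Spor.Orb.PairPair
import Cfsg.Statements.S1563

set_option autoImplicit false
open scoped Pointwise
open Cfsg CfsgLib.Spor

namespace Cfsg.Agent.S1563

/-- The stabiliser of a pair of points (setwise) is a maximal proper subgroup of the group of the length-24 code. -/
theorem result (s : Finset Cfsg.GolayPt) (hs : s.card = 2) : IsCoatom (MulAction.stabilizer Cfsg.M24 s) := by
  have e : [pairK.parts 0] = pairPairL := by decide +kernel
  exact (pairK.exists_self transPair_ok (i0 := 0) (by decide +kernel) (L := pairPairL)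
    (e ▸ pairK.mem_stab_iff (by decide +kernel)) pairPair_ok pairPair_max pairPair_sizes hs).1

end Cfsg.Agent.S1563
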