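import Cfsg.Agent.Lib.Spor.OrbitCounts
import Cfsg.Agent.Lib.Spor.Orb.TransTriple
import Cfsg.Agent.Lib.Spor.Orb.TripleTriple
import Cfsg.Statements.S1564

set_option autoImplicit false
open scoped Pointwise
open Cfsg CfsgLib.Spor

namespace Cfsg.Agent.S1564

/-- The stabiliser of a set of three points (setwise) is a maximal proper subgroup of the group of the length-24 code. -/
theorem result (s : Finset Cfsg.GolayPt) (hs : s.card = 3) : IsCoatom (MulAction.stabilizer Cfsg.M24 s) := by
  have e : [tripleK.parts 0, tripOcts] = tripTripL := by decide +kernel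
  exact (tripleK.exists_self transTrip_ok (i0 := 0) (by decide +kernel) (L := tripTripL)
    (e ▸ mem_triple_stab_iff) tripTrip_ok tripTrip_max tripTrip_sizes hs).1

end Cfsg.Agent.S1564
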