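import Cfsg.Agent.Lib.Spor.OrbitApply
import Cfsg.Agent.Lib.Spor.Orb.TransOct
import Cfsg.Agent.Lib.Spor.Orb.OctOct
import Cfsg.Statements.S1565

set_option autoImplicit false
open scoped Pointwise
open Cfsg CfsgLib.Spor

namespace Cfsg.Agent.S1565

/-- The stabiliser of an octad is a maximal proper subgroup of the group of the length-24 code. -/
theorem result (o : Finset Cfsg.GolayPt) (ho : o ∈ Cfsg.octads) : IsCoatom (MulAction.stabilizer Cfsg.M24 o) := by
  have e : [octK.parts 0] = octOctL := by decide +kernel
  exact (octK.exists_self transOct_ok (i0 := 0) (by decide +kernel) (L := octOctL)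
    (e ▸ octK.mem_stab_iff (by decide +kernel)) octOct_ok octOct_max octOct_sizes ho).1

end Cfsg.Agent.S1565
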