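import Cfsg.Agent.Lib.Spor.OrbitApply
import Cfsg.Agent.Lib.Spor.Orb.TransDuum
import Cfsg.Agent.Lib.Spor.Orb.DuumDuum
import Cfsg.Statements.S1566

set_option autoImplicit false
open scoped Pointwise
open Cfsg CfsgLib.Spor

namespace Cfsg.Agent.S1566

/-- The setwise stabiliser of a dodecad together with its complement is a maximal proper subgroup of the group of the length-24 code. -/
theorem result (d : Finset Cfsg.GolayPt) (hd : d ∈ Cfsg.dodecads) : IsCoatom (MulAction.stabilizer Cfsg.M24 ({d, dᶜ} : Finset (Finset Cfsg.GolayPt))) := by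
  have e : [duumK.parts 0] = duumDuumL := by decide +kernel
  exact (duumK.exists_self transDuum_ok (i0 := 0) (by decide +kernel) (L := duumDuumL)
    (e ▸ duumK.mem_stab_iff (by decide +kernel)) duumDuum_ok duumDuum_max duumDuum_sizes (show _ ∈ duums from ⟨d, hd, rfl⟩)).1

end Cfsg.Agent.S1566
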