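import Cfsg.Statements.S1573
import Cfsg.Agent.Lib.Spor.Co0CensusParts
import Cfsg.Agent.Lib.Spor.Co0Config
import Cfsg.Agent.Lib.Spor.ShortPairs

set_option autoImplicit false
set_option Elab.async false
set_option maxRecDepth 100000
set_option maxHeartbeats 0
open Cfsg CfsgLib.Spor

namespace Cfsg.Agent.S1573

/-- Census of minimal vectors by inner product with a fixed minimal vector: 4600 have customary inner product −2, 47104 have −1, and 93150 are orthogonal. -/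
theorem result (v : Cfsg.GolayPt → ℤ) (hv : v ∈ Cfsg.leechLattice) (hvn : Cfsg.sqNorm v = 32) : {w : Cfsg.GolayPt → ℤ | w ∈ Cfsg.leechLattice ∧ Cfsg.sqNorm w = 32 ∧ Cfsg.dotInt v w = -16}.ncard = 4600 ∧ {w : Cfsg.GolayPt → ℤ | w ∈ Cfsg.leechLattice ∧ Cfsg.sqNorm w = 32 ∧ Cfsg.dotInt v w = -8}.ncard = 47104 ∧ {w : Cfsg.GolayPt → ℤ | w ∈ Cfsg.leechLattice ∧ Cfsg.sqNorm w = 32 ∧ Cfsg.dotInt v w = 0}.ncard = 93150 := by
  obtain ⟨g, hg⟩ := CfsgLib.Spor.exists_map (n := 32) (by norm_num) ⟨v, hv⟩ ShortPairs.v0 hvn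
    (by decide +kernel)
  have key : ∀ d : ℤ, ∀ n : ℕ, Census.count [([(4, 8388609)], d)] = n →
      lOf (ShortPairs.v0 : Cfsg.GolayPt → ℤ) = lOf (Census.clsVec [(4, 8388609)]) →
      {w : Cfsg.GolayPt → ℤ | w ∈ Cfsg.leechLattice ∧ Cfsg.sqNorm w = 32 ∧
        Cfsg.dotInt v w = d}.ncard = n := by
    intro d n hn hl
    have e : Subtype.val '' Config.cfgSet [((⟨v, hv⟩ : ↥Cfsg.leechLattice), d)] =
        {w : Cfsg.GolayPt → ℤ | w ∈ Cfsg.leechLattice ∧ Cfsg.sqNorm w = 32 ∧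
          Cfsg.dotInt v w = d} := by
      ext w
      constructor
      · rintro ⟨x, hx, rfl⟩
        exact ⟨x.2, Config.mem_cfgSet_one.1 hx⟩
      · rintro ⟨hw, h⟩
        exact ⟨⟨w, hw⟩, Config.mem_cfgSet_one.2 h, rfl⟩
    rw [← e, Set.ncard_image_of_injective _ Subtype.val_injective, ← Config.ncard_cfgSet_smul g,
      ← hn, ← Census.ncard_censusSet]
    simp only [List.map_cons, List.map_nil, hg]
    rw [Config.cfgSet_eq_censusSet (C := [([(4, 8388609)], d)]) (by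
      simp only [List.map_cons, List.map_nil, hl])]
  have hl : lOf (ShortPairs.v0 : Cfsg.GolayPt → ℤ) = lOf (Census.clsVec [(4, 8388609)]) := by
    decide +kernel
  refine ⟨key _ _ (by
    rw [Census.count_of_parts (a := 88) (B := [0, 0, 0, 0, 0, 800, 928, 736])
      (D := [256, 256, 256, 256, 256, 256, 256, 256]) (by decide +kernel) ?_ ?_]
    · rfl
    · refine ⟨?_, ?_, ?_, ?_, ?_, ?_, ?_, ?_, Census.Parts.nil ?_⟩ <;>
        decide +kernel
    · refine ⟨?_, ?_, ?_, ?_, ?_, ?_, ?_, ?_, Census.Parts.nil ?_⟩ <;>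
        decide +kernel) hl,
    key _ _ (by
    rw [Census.count_of_parts (a := 0) (B := [2560, 2304, 1984, 2112, 1856, 3328, 4288, 4096])
      (D := [3072, 3072, 3072, 3072, 3072, 3072, 3072, 3072]) (by decide +kernel) ?_ ?_]
    · rfl
    · refine ⟨?_, ?_, ?_, ?_, ?_, ?_, ?_, ?_, Census.Parts.nil ?_⟩ <;>
        decide +kernel
    · refine ⟨?_, ?_, ?_, ?_, ?_, ?_, ?_, ?_, Census.Parts.nil ?_⟩ <;>
        decide +kernel) hl,
    key _ _ (by
    rw [Census.count_of_parts (a := 926) (B := [7168, 7680, 8320, 8064, 8576, 4032, 1856, 1472])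
      (D := [5632, 5632, 5632, 5632, 5632, 5632, 5632, 5632]) (by decide +kernel) ?_ ?_]
    · rfl
    · refine ⟨?_, ?_, ?_, ?_, ?_, ?_, ?_, ?_, Census.Parts.nil ?_⟩ <;>
        decide +kernel
    · refine ⟨?_, ?_, ?_, ?_, ?_, ?_, ?_, ?_, Census.Parts.nil ?_⟩ <;>
        decide +kernel) hl⟩

end Cfsg.Agent.S1573
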