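import Cfsg.Statements.S1577
import Cfsg.Agent.Lib.Spor.UnitarySix.Main
import Cfsg.Agent.Lib.Spor.Co0Split

set_option autoImplicit false
open Cfsg

namespace Cfsg.Agent.S1577

/-- The joint stabiliser of two minimal vectors of customary inner product −2 is isomorphic to PSU(6, 2). -/
theorem result (v w : ↥Cfsg.leechLattice) (hv : Cfsg.sqNorm (v : Cfsg.GolayPt → ℤ) = 32) (hw : Cfsg.sqNorm (w : Cfsg.GolayPt → ℤ) = 32) (hd : Cfsg.dotInt (v : Cfsg.GolayPt → ℤ) (w : Cfsg.GolayPt → ℤ) = -16) (F : Type) [Field F] [Fintype F] (hF : Fintype.card F = 4) : Nonempty (↥(MulAction.stabilizer ↥Cfsg.Co0 v ⊓ MulAction.stabilizer ↥Cfsg.Co0 w) ≃* Cfsg.PSU 6 F 2) := by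
  obtain ⟨g, h1, h2⟩ := CfsgLib.Spor.ShortPairs.exists_pair_map (Or.inr (Or.inr rfl)) hv CfsgLib.Spor.McLConfig.norm_v0 hw
    CfsgLib.Spor.UnitarySix.w0_check.2.1 hd CfsgLib.Spor.UnitarySix.w0_check.2.2 (w' := CfsgLib.Spor.UnitarySix.w0)
  obtain ⟨e⟩ := CfsgLib.Spor.UnitarySix.pairK_equiv (F := F)
    (by rw [Nat.card_eq_fintype_card, hF]; norm_num)
  have hm : (MulAction.stabilizer ↥Cfsg.Co0 v ⊓ MulAction.stabilizer ↥Cfsg.Co0 w).map
      (MulAut.conj g).toMonoidHom = CfsgLib.Spor.UnitarySix.pairK := by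
    ext k
    rw [Subgroup.mem_map_equiv]
    simp only [Subgroup.mem_inf, CfsgLib.Spor.UnitarySix.pairK,
      CfsgLib.Spor.Config.mem_stabilizer_conj h1, CfsgLib.Spor.Config.mem_stabilizer_conj h2,
      MulAut.conj_symm_apply]
    simp [mul_assoc]
  exact ⟨((MulAut.conj g).subgroupMap _).trans ((MulEquiv.subgroupCongr hm).trans e)⟩

end Cfsg.Agent.S1577
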