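import Cfsg.Statements.S1578
import Cfsg.Agent.Lib.Spor.Co0CensusParts
import Cfsg.Agent.Lib.Spor.Co0Split

set_option autoImplicit false
set_option Elab.async false
open Cfsg CfsgLib.Spor

namespace Cfsg.Agent.S1578

/-- A lattice vector of customary norm 6 is the sum of an unordered pair of minimal vectors in exactly 276 ways (552 ordered summands). -/
theorem result (u : ↥Cfsg.leechLattice) (hu : Cfsg.sqNorm (u : Cfsg.GolayPt → ℤ) = 48) : {v : ↥Cfsg.leechLattice | Cfsg.sqNorm (v : Cfsg.GolayPt → ℤ) = 32 ∧ Cfsg.sqNorm ((u - v) : Cfsg.GolayPt → ℤ) = 32}.ncard = 552 := by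
  obtain ⟨g, hg⟩ := CfsgLib.Spor.exists_map (n := 48) (by norm_num) u Cfsg.Spor.leechV hu
    (by decide +kernel)
  have hset : {v : ↥Cfsg.leechLattice | Cfsg.sqNorm (v : Cfsg.GolayPt → ℤ) = 32 ∧
      Cfsg.sqNorm ((u - v) : Cfsg.GolayPt → ℤ) = 32} = Config.cfgSet [(u, 24)] := by
    ext x
    rw [Config.mem_cfgSet_one]
    exact and_congr_right fun hx => Config.split_iff hu hx
  rw [hset, ← Config.ncard_cfgSet_smul g]
  simp only [List.map_cons, List.map_nil, hg]
  rw [Config.cfgSet_eq_censusSet (C := [([(-1, 8388607), (-5, 8388608)], 24)]) (by decide +kernel),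
    Census.ncard_censusSet]
  rw [Census.count_of_parts (a := 23) (B := [0, 0, 0, 0, 0, 70, 96, 87])
    (D := [5, 16, 16, 40, 16, 40, 40, 103]) (by decide +kernel) ?_ ?_]
  · rfl
  · refine ⟨?_, ?_, ?_, ?_, ?_, ?_, ?_, ?_, Census.Parts.nil ?_⟩ <;>
      decide +kernel
  · refine ⟨?_, ?_, ?_, ?_, ?_, ?_, ?_, ?_, Census.Parts.nil ?_⟩ <;>
      decide +kernel

end Cfsg.Agent.S1578
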