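import Cfsg.Statements.S1580
import Cfsg.Agent.Lib.Spor.Co0Split
import Cfsg.Agent.Lib.Spor.McLConfig

set_option autoImplicit false
open Cfsg CfsgLib.Spor

namespace Cfsg.Agent.S1580

/-- The McLaughlin configuration: for u of customary norm 6 and v minimal with u − v minimal, there are 275 further such summands x of customary inner product 2 with v, permuted transitively by the stabiliser of u and v. -/
theorem result (u v : ↥Cfsg.leechLattice) (hu : Cfsg.sqNorm (u : Cfsg.GolayPt → ℤ) = 48) (hv : Cfsg.sqNorm (v : Cfsg.GolayPt → ℤ) = 32 ∧ Cfsg.sqNorm ((u - v) : Cfsg.GolayPt → ℤ) = 32) : {x : ↥Cfsg.leechLattice | Cfsg.sqNorm (x : Cfsg.GolayPt → ℤ) = 32 ∧ Cfsg.sqNorm ((u - x) : Cfsg.GolayPt → ℤ) = 32 ∧ Cfsg.dotInt (v : Cfsg.GolayPt → ℤ) (x : Cfsg.GolayPt → ℤ) = 16}.ncard = 275 ∧ ∀ x ∈ {x : ↥Cfsg.leechLattice | Cfsg.sqNorm (x : Cfsg.GolayPt → ℤ) = 32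 ∧ Cfsg.sqNorm ((u - x) : Cfsg.GolayPt → ℤ) = 32 ∧ Cfsg.dotInt (v : Cfsg.GolayPt → ℤ) (x : Cfsg.GolayPt → ℤ) = 16}, ∀ x' ∈ {x : ↥Cfsg.leechLattice | Cfsg.sqNorm (x : Cfsg.GolayPt → ℤ) = 32 ∧ Cfsg.sqNorm ((u - x) : Cfsg.GolayPt → ℤ) = 32 ∧ Cfsg.dotInt (v : Cfsg.GolayPt → ℤ) (x : Cfsg.GolayPt → ℤ) = 16}, ∃ g : ↥Cfsg.Co0, g • u = u ∧ g • v = v ∧ g • x = x' := by
  obtain ⟨hw, hd⟩ := Config.split_other hu hv
  rw [Config.splitSet_eq hu]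
  obtain ⟨g, h1, h2⟩ := McLConfig.exists_std hv.1 hw hd
  refine ⟨?_, fun x hx x' hx' => ?_⟩
  · rw [← Config.ncard_cfgSet_smul g, List.map_cons, List.map_cons, List.map_nil, h1, h2,
      McLConfig.ncard_275]
  · obtain ⟨a, a1, a2, a3⟩ := McLConfig.exists_std_275 hv.1 hw hd hx
    obtain ⟨b, b1, b2, b3⟩ := McLConfig.exists_std_275 hv.1 hw hd hx'
    exact ⟨b⁻¹ * a, Config.fix_of_split (Config.smul_eq_of_eq a1 b1) (Config.smul_eq_of_eq a2 b2),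
      Config.smul_eq_of_eq a1 b1, Config.smul_eq_of_eq a3 b3⟩

end Cfsg.Agent.S1580
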