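import Cfsg.Statements.S1581
import Cfsg.Agent.Lib.Spor.Co0Split
import Cfsg.Agent.Lib.Spor.McLConfig

set_option autoImplicit false
open Cfsg CfsgLib.Spor

namespace Cfsg.Agent.S1581

/-- The McLaughlin group acts with rank 3 and subdegrees 1, 112, 162 on its 275 points: the point stabiliser has two orbits on the remaining points, distinguished by customary inner product 1 or 2 with the fixed point. -/
theorem result (u v x : ↥Cfsg.leechLattice) (hu : Cfsg.sqNorm (u : Cfsg.GolayPt → ℤ) = 48) (hv : Cfsg.sqNorm (v : Cfsg.GolayPt → ℤ) = 32 ∧ Cfsg.sqNorm ((u - v) : Cfsg.GolayPt → ℤ) = 32) (hx : x ∈ {x : ↥Cfsg.leechLattice | Cfsg.sqNorm (x : Cfsg.GolayPt → ℤ) = 32 ∧ Cfsg.sqNorm ((u - x) : Cfsg.GolayPt → ℤ) = 32 ∧ Cfsg.dotInt (v : Cfsg.GolayPt → ℤ) (x : Cfsg.GolayPt → ℤ) = 16}) : {y : ↥Cfsg.leechLattice | y ∈ {x : ↥Cfsg.leechLattice | Cfsg.sqNorm (x : Cfsg.GolayPt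 → ℤ) = 32 ∧ Cfsg.sqNorm ((u - x) : Cfsg.GolayPt → ℤ) = 32 ∧ Cfsg.dotInt (v : Cfsg.GolayPt → ℤ) (x : Cfsg.GolayPt → ℤ) = 16} ∧ Cfsg.dotInt (x : Cfsg.GolayPt → ℤ) (y : Cfsg.GolayPt → ℤ) = 8}.ncard = 112 ∧ {y : ↥Cfsg.leechLattice | y ∈ {x : ↥Cfsg.leechLattice | Cfsg.sqNorm (x : Cfsg.GolayPt → ℤ) = 32 ∧ Cfsg.sqNorm ((u - x) : Cfsg.GolayPt → ℤ) = 32 ∧ Cfsg.dotInt (v : Cfsg.GolayPt → ℤ) (x : Cfsg.GolayPt → ℤ) = 16} ∧ y ≠ x ∧ Cfsg.dotInt (x : Cfsg.GolayPt → ℤ) (y : Cfsg.GolayPt → ℤ) = 16}.ncard = 162 ∧ ∀ y ∈ {x : ↥Cfsg.leechLattice | Cfsg.sqNorm (x : Cfsg.GolayPt → ℤ) = 32 ∧ Cfsg.sqNorm ((u - x) : Cfsg.GolayPt → ℤ) = 32 ∧ Cfsg.dotInt (v : Cfsg.GolayPt → ℤ) (x : Cfsg.GolayPt → ℤ) = 16}, ∀ y' ∈ {x : ↥Cfsg.leechLattice | Cfsg.sqNorm (x : Cfsg.GolayPt → ℤ) = 32 ∧ Cfsg.sqNorm ((u - x) : Cfsg.GolayPt → ℤ) = 32 ∧ Cfsg.dotInt (v : Cfsg.GolayPt → ℤ) (x : Cfsg.GolayPt →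 ℤ) = 16}, y ≠ x → y' ≠ x → Cfsg.dotInt (x : Cfsg.GolayPt → ℤ) (y : Cfsg.GolayPt → ℤ) = Cfsg.dotInt (x : Cfsg.GolayPt → ℤ) (y' : Cfsg.GolayPt → ℤ) → ∃ g : ↥Cfsg.Co0, g • u = u ∧ g • v = v ∧ g • x = x ∧ g • y = y' := by
  obtain ⟨hw, hd⟩ := Config.split_other hu hv
  rw [Config.splitSet_eq hu] at hx ⊢
  obtain ⟨g, h1, h2, h3⟩ := McLConfig.exists_std_275 hv.1 hw hd hx
  have hc : ∀ i, (Config.cfgSet [(v, 16), (u - v, 8), (x, ![16, 8] i)]).ncard = ![162, 112] i :=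
    fun i => by
      rw [← Config.ncard_cfgSet_smul g, List.map_cons, List.map_cons, List.map_cons, List.map_nil,
        h1, h2, h3, (McLConfig.classes_275.1 i).2]
  have hcl : ∀ d : ℤ, {y | y ∈ Config.cfgSet [(v, 16), (u - v, 8)] ∧
      Cfsg.dotInt (x : Cfsg.GolayPt → ℤ) (y : Cfsg.GolayPt → ℤ) = d} =
      Config.cfgSet [(v, 16), (u - v, 8), (x, d)] := fun d => Config.classSet_eq _ x d
  refine ⟨?_, ?_, fun y hy y' hy' hne hne' he => ?_⟩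
  · rw [hcl]; exact hc 1
  · have e := hc 0
    rw [← hcl] at e
    refine Eq.trans (congrArg Set.ncard (Set.ext fun y => ?_)) e
    refine and_congr_right fun _ => ⟨And.right, fun h => ⟨?_, h⟩⟩
    rintro rfl
    rw [Config.dot_self, hx.1] at h
    norm_num at h
  · have hmap := Config.smul_mem_cfgSet (g := g) hy
    have hmap' := Config.smul_mem_cfgSet (g := g) hy'
    simp only [List.map_cons, List.map_nil, h1, h2] at hmap hmap'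
    obtain hp | ⟨i, hi⟩ := McLConfig.classes_275.2 _ hmap
    · exact absurd ((MulAction.injective g) (hp.trans h3.symm)) hne
    rw [← h3, Config.dot_smul] at hi
    have hy1 : y ∈ Config.cfgSet [(v, 16), (u - v, 8), (x, ![16, 8] i)] := hcl _ ▸ ⟨hy, hi⟩
    have hy2 : y' ∈ Config.cfgSet [(v, 16), (u - v, 8), (x, ![16, 8] i)] :=
      hcl _ ▸ ⟨hy', he ▸ hi⟩
    have hK : ∀ k ∈ McLConfig.stab275, ∀ q ∈ [(ShortPairs.v0, (16 : ℤ)), (McLConfig.ce, 8),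
        (McLConfig.p275, ![16, 8] i)], k • q.1 = q.1 := by
      intro k hk q hq
      simp only [List.mem_cons, List.not_mem_nil, or_false] at hq
      rcases hq with rfl | rfl | rfl <;> [exact hk.1.1; exact hk.1.2; exact hk.2]
    obtain ⟨k, hk, hky⟩ := Config.exists_map_of_orbit (McLConfig.classes_275.1 i).1
      hK (g := g) (by simp only [List.map_cons, List.map_nil, h1, h2, h3]) hy1 hy2
    have e1 := hk (v, 16) (by simp)
    have e2 := hk (u - v, 8) (by simp)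
    exact ⟨k, Config.fix_of_split e1 e2, e1, hk (x, ![16, 8] i) (by simp), hky⟩

end Cfsg.Agent.S1581
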