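import Cfsg.Statements.S1582
import Cfsg.Agent.Lib.Spor.McLUnitary.Main
import Cfsg.Agent.Lib.Spor.Co0Split

set_option autoImplicit false
open Cfsg CfsgLib.Spor

namespace Cfsg.Agent.S1582

/-- The point stabiliser in the rank-3 action of the McLaughlin group on 275 points is isomorphic to PSU(4, 3). -/
theorem result (u v x : ↥Cfsg.leechLattice) (hu : Cfsg.sqNorm (u : Cfsg.GolayPt → ℤ) = 48) (hv : Cfsg.sqNorm (v : Cfsg.GolayPt → ℤ) = 32 ∧ Cfsg.sqNorm ((u - v) : Cfsg.GolayPt → ℤ) = 32) (hx : x ∈ {x : ↥Cfsg.leechLattice | Cfsg.sqNorm (x : Cfsg.GolayPt → ℤ) = 32 ∧ Cfsg.sqNorm ((u - x) : Cfsg.GolayPt → ℤ) = 32 ∧ Cfsg.dotInt (v : Cfsg.GolayPt → ℤ) (x : Cfsg.GolayPt → ℤ) = 16}) (F : Type) [Field F] [Fintype F] (hF : Fintype.card F = 9) : Nonempty (↥(MulAction.stabilizer ↥Cfsg.Co0 u ⊓ MulAction.stabilizer ↥Cfsg.Co0 v ⊓ MulAction.stabilizer ↥Cfsg.Co0 x) ≃* Cfsg.PSU 4 F 3) := by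
  obtain ⟨hw, hd⟩ := Config.split_other hu hv
  rw [Config.splitSet_eq hu] at hx
  obtain ⟨g, h1, h2, h3⟩ := McLConfig.exists_std_275 hv.1 hw hd hx
  obtain ⟨e⟩ := McLUnitary.stab275_equiv hF
  have hs : MulAction.stabilizer ↥Cfsg.Co0 u ⊓ MulAction.stabilizer ↥Cfsg.Co0 v =
      MulAction.stabilizer ↥Cfsg.Co0 v ⊓ MulAction.stabilizer ↥Cfsg.Co0 (u - v) := by
    ext k
    simp only [Subgroup.mem_inf, MulAction.mem_stabilizer_iff]
    refine ⟨fun h => ⟨h.2, ?_⟩, fun h => ⟨Config.fix_of_split h.1 h.2, h.1⟩⟩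
    have e1 : k • (v + (u - v)) = k • u := by rw [add_sub_cancel]
    rw [coe_smul_add, h.1, h.2] at e1
    exact eq_sub_of_add_eq' e1
  have hm : (MulAction.stabilizer ↥Cfsg.Co0 u ⊓ MulAction.stabilizer ↥Cfsg.Co0 v ⊓
      MulAction.stabilizer ↥Cfsg.Co0 x).map (MulAut.conj g).toMonoidHom =
      McLConfig.stab275 := by
    rw [hs]
    ext k
    rw [Subgroup.mem_map_equiv]
    simp only [Subgroup.mem_inf, Config.mem_stabilizer_conj h1, Config.mem_stabilizer_conj h2,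
      Config.mem_stabilizer_conj h3, MulAut.conj_symm_apply]
    simp [mul_assoc]
  exact ⟨((MulAut.conj g).subgroupMap _).trans ((MulEquiv.subgroupCongr hm).trans e)⟩

end Cfsg.Agent.S1582
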