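import Cfsg.Statements.S1583
import Cfsg.Agent.Lib.Spor.HSConfig

set_option autoImplicit false
open Cfsg CfsgLib.Spor

namespace Cfsg.Agent.S1583

/-- The Higman–Sims configuration: for two vectors of customary norm 6 with inner product −4, exactly 100 minimal vectors have customary inner products 3 and −3 with them, and the joint stabiliser permutes these transitively. -/
theorem result (v w : ↥Cfsg.leechLattice) (hv : Cfsg.sqNorm (v : Cfsg.GolayPt → ℤ) = 48) (hw : Cfsg.sqNorm (w : Cfsg.GolayPt → ℤ) = 48) (hvw : Cfsg.dotInt (v : Cfsg.GolayPt → ℤ) (w : Cfsg.GolayPt → ℤ) = -32) : {x : ↥Cfsg.leechLattice | Cfsg.sqNorm (x : Cfsg.GolayPt → ℤ) = 32 ∧ Cfsg.dotInt (v : Cfsg.GolayPt → ℤ) (x : Cfsg.GolayPt → ℤ) = 24 ∧ Cfsg.dotInt (w : Cfsg.GolayPt → ℤ) (x : Cfsg.GolayPt → ℤ) = -24}.ncard = 100 ∧ ∀ x ∈ {x : ↥Cfsg.leechLattice | Cfsg.sqNorm (x :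 Cfsg.GolayPt → ℤ) = 32 ∧ Cfsg.dotInt (v : Cfsg.GolayPt → ℤ) (x : Cfsg.GolayPt → ℤ) = 24 ∧ Cfsg.dotInt (w : Cfsg.GolayPt → ℤ) (x : Cfsg.GolayPt → ℤ) = -24}, ∀ x' ∈ {x : ↥Cfsg.leechLattice | Cfsg.sqNorm (x : Cfsg.GolayPt → ℤ) = 32 ∧ Cfsg.dotInt (v : Cfsg.GolayPt → ℤ) (x : Cfsg.GolayPt → ℤ) = 24 ∧ Cfsg.dotInt (w : Cfsg.GolayPt → ℤ) (x : Cfsg.GolayPt → ℤ) = -24}, ∃ g : ↥Cfsg.Co0, g • v = v ∧ g • w = w ∧ g • x = x' := by
  have hset : {x : ↥Cfsg.leechLattice | Cfsg.sqNorm (x : Cfsg.GolayPt → ℤ) = 32 ∧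
      Cfsg.dotInt (v : Cfsg.GolayPt → ℤ) (x : Cfsg.GolayPt → ℤ) = 24 ∧
      Cfsg.dotInt (w : Cfsg.GolayPt → ℤ) (x : Cfsg.GolayPt → ℤ) = -24} =
      Config.cfgSet [(v, 24), (w, -24)] := Set.ext fun x => Config.mem_cfgSet_two.symm
  rw [hset]
  refine ⟨?_, fun x hx x' hx' => ?_⟩
  · obtain ⟨g, h1, h2⟩ := HSConfig.exists_std_pair hv hw hvw
    rw [← Config.ncard_cfgSet_smul g]
    simp only [List.map_cons, List.map_nil, h1, h2]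
    exact HSConfig.ncard_100
  · obtain ⟨a, a1, a2, a3⟩ := HSConfig.exists_std_100 hv hw hvw hx
    obtain ⟨b, b1, b2, b3⟩ := HSConfig.exists_std_100 hv hw hvw hx'
    exact ⟨b⁻¹ * a, Config.smul_eq_of_eq a1 b1, Config.smul_eq_of_eq a2 b2,
      Config.smul_eq_of_eq a3 b3⟩

end Cfsg.Agent.S1583
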