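import Cfsg.Statements.S1584
import Cfsg.Agent.Lib.Spor.HSConfig

set_option autoImplicit false
open Cfsg CfsgLib.Spor

namespace Cfsg.Agent.S1584

/-- The Higman–Sims group acts with rank 3 and subdegrees 1, 22, 77 on its 100 points, the orbits of a point stabiliser being distinguished by customary inner product 1 with the fixed point. -/
theorem result (v w x : ↥Cfsg.leechLattice) (hv : Cfsg.sqNorm (v : Cfsg.GolayPt → ℤ) = 48) (hw : Cfsg.sqNorm (w : Cfsg.GolayPt → ℤ) = 48) (hvw : Cfsg.dotInt (v : Cfsg.GolayPt → ℤ) (w : Cfsg.GolayPt → ℤ) = -32) (hx : x ∈ {x : ↥Cfsg.leechLattice | Cfsg.sqNorm (x : Cfsg.GolayPt → ℤ) = 32 ∧ Cfsg.dotInt (v : Cfsg.GolayPt → ℤ) (x : Cfsg.GolayPt → ℤ) = 24 ∧ Cfsg.dotInt (w : Cfsg.GolayPt → ℤ) (x : Cfsg.GolayPt → ℤ) = -24}) : {y : ↥Cfsg.leechLattice | y ∈ {x : ↥Cfsg.leechLattice | Cfsg.sqNorm (x : Cfsg.GolayPt → ℤ) = 32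 ∧ Cfsg.dotInt (v : Cfsg.GolayPt → ℤ) (x : Cfsg.GolayPt → ℤ) = 24 ∧ Cfsg.dotInt (w : Cfsg.GolayPt → ℤ) (x : Cfsg.GolayPt → ℤ) = -24} ∧ Cfsg.dotInt (x : Cfsg.GolayPt → ℤ) (y : Cfsg.GolayPt → ℤ) = 8}.ncard = 22 ∧ {y : ↥Cfsg.leechLattice | y ∈ {x : ↥Cfsg.leechLattice | Cfsg.sqNorm (x : Cfsg.GolayPt → ℤ) = 32 ∧ Cfsg.dotInt (v : Cfsg.GolayPt → ℤ) (x : Cfsg.GolayPt → ℤ) = 24 ∧ Cfsg.dotInt (w : Cfsg.GolayPt → ℤ) (x : Cfsg.GolayPt → ℤ) = -24} ∧ y ≠ x ∧ Cfsg.dotInt (x : Cfsg.GolayPt → ℤ) (y : Cfsg.GolayPt → ℤ) ≠ 8}.ncard = 77 ∧ ∀ y ∈ {x : ↥Cfsg.leechLattice | Cfsg.sqNorm (x : Cfsg.GolayPt → ℤ) = 32 ∧ Cfsg.dotInt (v : Cfsg.GolayPt → ℤ) (x : Cfsg.GolayPt → ℤ) = 24 ∧ Cfsg.dotInt (w : Cfsg.GolayPt → ℤ) (x : Cfsg.GolayPt → ℤ) = -24}, ∀ y' ∈ {x : ↥Cfsg.leechLattice | Cfsg.sqNorm (x : Cfsg.GolayPt → ℤ) = 32 ∧ Cfsg.dotInt (v : Cfsg.GolayPt → ℤ) (x : Cfsg.GolayPt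 → ℤ) = 24 ∧ Cfsg.dotInt (w : Cfsg.GolayPt → ℤ) (x : Cfsg.GolayPt → ℤ) = -24}, y ≠ x → y' ≠ x → (Cfsg.dotInt (x : Cfsg.GolayPt → ℤ) (y : Cfsg.GolayPt → ℤ) = 8 ↔ Cfsg.dotInt (x : Cfsg.GolayPt → ℤ) (y' : Cfsg.GolayPt → ℤ) = 8) → ∃ g : ↥Cfsg.Co0, g • v = v ∧ g • w = w ∧ g • x = x ∧ g • y = y' := by
  have hset : {x : ↥Cfsg.leechLattice | Cfsg.sqNorm (x : Cfsg.GolayPt → ℤ) = 32 ∧
      Cfsg.dotInt (v : Cfsg.GolayPt → ℤ) (x : Cfsg.GolayPt → ℤ) = 24 ∧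
      Cfsg.dotInt (w : Cfsg.GolayPt → ℤ) (x : Cfsg.GolayPt → ℤ) = -24} =
      Config.cfgSet [(v, 24), (w, -24)] := Set.ext fun x => Config.mem_cfgSet_two.symm
  rw [hset] at hx ⊢
  obtain ⟨g, h1, h2, h3⟩ := HSConfig.exists_std_100 hv hw hvw hx
  have hc : ∀ i, (Config.cfgSet [(v, 24), (w, -24), (x, ![16, 8] i)]).ncard = ![77, 22] i :=
    fun i => by
      rw [← Config.ncard_cfgSet_smul g]
      simp only [List.map_cons, List.map_nil, h1, h2, h3]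
      exact (HSConfig.classes_100.1 i).2
  have hcl : ∀ d : ℤ, {y | y ∈ Config.cfgSet [(v, 24), (w, -24)] ∧
      Cfsg.dotInt (x : Cfsg.GolayPt → ℤ) (y : Cfsg.GolayPt → ℤ) = d} =
      Config.cfgSet [(v, 24), (w, -24), (x, d)] := fun d => Config.classSet_eq _ x d
  have hcov : ∀ y ∈ Config.cfgSet [(v, 24), (w, -24)], y ≠ x →
      ∃ i : Fin 2, Cfsg.dotInt (x : Cfsg.GolayPt → ℤ) (y : Cfsg.GolayPt → ℤ) = ![16, 8] i := by
    intro y hy hne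
    have hy' := Config.smul_mem_cfgSet (g := g) hy
    simp only [List.map_cons, List.map_nil, h1, h2] at hy'
    rcases HSConfig.classes_100.2 _ hy' with e | ⟨i, hi⟩
    · exact absurd (MulAction.injective g (e.trans h3.symm)) hne
    · rw [← h3, Config.dot_smul] at hi
      exact ⟨i, hi⟩
  refine ⟨?_, ?_, fun y hy y' hy' hne hne' he => ?_⟩
  · rw [hcl]; exact hc 1
  · have e := hc 0
    rw [← hcl] at e
    refine Eq.trans (congrArg Set.ncard (Set.ext fun y => ?_)) e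
    refine and_congr_right fun hy => ⟨fun h => ?_, fun h => ⟨?_, ?_⟩⟩
    · obtain ⟨i, hi⟩ := hcov y hy h.1
      fin_cases i
      · exact hi
      · exact absurd hi h.2
    · rintro rfl
      rw [Config.dot_self, hx.1] at h
      norm_num at h
    · rw [h]; norm_num
  · obtain ⟨i, hi⟩ := hcov y hy hne
    obtain ⟨i', hi'⟩ := hcov y' hy' hne'
    have hii : i = i' := by
      fin_cases i <;> fin_cases i' <;> first | rfl | (exfalso; norm_num [hi, hi'] at he)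
    subst hii
    have hy1 : y ∈ Config.cfgSet [(v, 24), (w, -24), (x, ![16, 8] i)] := hcl _ ▸ ⟨hy, hi⟩
    have hy2 : y' ∈ Config.cfgSet [(v, 24), (w, -24), (x, ![16, 8] i)] := hcl _ ▸ ⟨hy', hi'⟩
    have hK : ∀ k ∈ HSConfig.stab100, ∀ q ∈ [(HSConfig.bigV, (24 : ℤ)), (HSConfig.bigW, -24),
        (HSConfig.p100, ![16, 8] i)], k • q.1 = q.1 := by
      intro k hk q hq
      simp only [List.mem_cons, List.not_mem_nil, or_false] at hq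
      rcases hq with rfl | rfl | rfl <;> [exact hk.1.1; exact hk.1.2; exact hk.2]
    obtain ⟨k, hk, hky⟩ := Config.exists_map_of_orbit (HSConfig.classes_100.1 i).1
      hK (g := g) (by simp only [List.map_cons, List.map_nil, h1, h2, h3]) hy1 hy2
    exact ⟨k, hk (v, 24) (by simp), hk (w, -24) (by simp), hk (x, ![16, 8] i) (by simp), hky⟩

end Cfsg.Agent.S1584
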