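import Cfsg.Statements.S1585
import Cfsg.Agent.Lib.Spor.HSConfig

set_option autoImplicit false
open Cfsg CfsgLib.Spor

namespace Cfsg.Agent.S1585

/-- Two vectors of customary norm 6 with inner product −4 are exchanged by some automorphism of the lattice. -/
theorem result (v w : ↥Cfsg.leechLattice) (hv : Cfsg.sqNorm (v : Cfsg.GolayPt → ℤ) = 48) (hw : Cfsg.sqNorm (w : Cfsg.GolayPt → ℤ) = 48) (hvw : Cfsg.dotInt (v : Cfsg.GolayPt → ℤ) (w : Cfsg.GolayPt → ℤ) = -32) : ∃ g : ↥Cfsg.Co0, g • v = w ∧ g • w = v := by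
  have hmem := HSConfig.neg_add_mem hv hw hvw
  have hmem' : -(v + w) ∈ Config.cfgSet [(w, -16)] := by
    rw [add_comm v w]
    exact HSConfig.neg_add_mem hw hv (by rw [Config.dot_comm, hvw])
  obtain ⟨a, a1, a2⟩ := HSConfig.exists_std hv hmem
  obtain ⟨b, b1, b2⟩ := HSConfig.exists_std hw hmem'
  have g1 : (b⁻¹ * a) • v = w := Config.smul_eq_of_eq a1 b1
  have g2 : (b⁻¹ * a) • -(v + w) = -(v + w) := Config.smul_eq_of_eq a2 b2
  refine ⟨b⁻¹ * a, g1, ?_⟩
  have hneg : ∀ z : ↥Cfsg.leechLattice, (b⁻¹ * a) • (-z) = -((b⁻¹ * a) • z) := fun z =>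
    eq_neg_of_add_eq_zero_left (by
      rw [← coe_smul_add, neg_add_cancel]; exact map_zero (co0Hom (b⁻¹ * a)))
  rw [hneg, coe_smul_add, g1, neg_inj, add_comm v w] at g2
  exact add_left_cancel g2

end Cfsg.Agent.S1585
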