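import Cfsg.Statements.S1589
import Cfsg.Agent.Lib.Spor.SubgroupMain

set_option autoImplicit false
open scoped Pointwise
open Cfsg

namespace Cfsg.Agent.S1589

open CfsgLib.Spor CfsgLib.Spor.Subgp

theorem natCard_eq {H : Subgroup ↥Cfsg.M24} {i n : ℕ} (hi : H.index = i)
    (h : 244823040 = n * i) (hpos : 0 < i) : Nat.card (H.map M24.subtype) = n := by
  rw [natCard_map_subtype]
  exact natCard_of_index natCard_M24 hi h hpos

theorem exists_sylS {H : Subgroup ↥Cfsg.M24} (hd : 1024 ∣ Nat.card (H.map M24.subtype)) :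
    ∃ a ∈ M24, conjG a (H.map M24.subtype) ≤ M24 ∧ sylS ≤ conjG a (H.map M24.subtype) := by
  haveI : Fact (Nat.Prime 2) := ⟨Nat.prime_two⟩
  obtain ⟨a, ha, h⟩ := exists_conj_le (p := 2) (n := 10) (Subgroup.map_subtype_le H) sylS_le
    (by rw [natCard_sylS]; norm_num) (by simpa using hd)
    (by rw [CfsgLib.Spor.natCard_M24]; norm_num)
  exact ⟨a, ha, conjG_le ha (Subgroup.map_subtype_le H), h⟩

/-- The subgroups of index 759, 276, 1771 and 253. -/
theorem result : (∀ H : Subgroup ↥Cfsg.M24, H.index = 759 → ∃ o ∈ Cfsg.octads, H = MulAction.stabilizer Cfsg.M24 o) ∧ (∀ H : Subgroup ↥Cfsg.M24, H.index = 276 → ∃ s : Finset Cfsg.GolayPt, s.card = 2 ∧ H = MulAction.stabilizer Cfsg.M24 s) ∧ (∀ H : Subgroup ↥Cfsg.M24, H.index = 1771 → ∃ S ∈ Cfsg.sextets, H = MulAction.stabilizer Cfsg.M24 S) ∧ ∀ H : Subgroup ↥Cfsg.M24, H.index ≠ 253 := by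
  refine ⟨fun H hH => ?_, fun H hH => ?_, fun H hH => ?_, fun H hH => ?_⟩
  · have hc := natCard_eq (n := 322560) hH (by norm_num) (by norm_num)
    obtain ⟨a, ha, hle, hS⟩ := exists_sylS (H := H) (by rw [hc]; norm_num)
    have := (cases_big hle hS).1 (by rw [natCard_conjG, hc])
    exact ⟨_, smul_octad_mem (inv_mem ha) mOct_mem, eq_stabilizer_of_conj ha this⟩
  · have hc := natCard_eq (n := 887040) hH (by norm_num) (by norm_num)
    haveI : Fact (Nat.Prime 11) := ⟨by norm_num⟩
    obtain ⟨A, hA, hr, ho⟩ := exists_elem (a := elevA) (p := 11) (by norm_num) (by simp)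
    obtain ⟨a, ha, h⟩ := exists_conj_le (p := 11) (n := 1) (Subgroup.map_subtype_le H)
      (Subgroup.zpowers_le.2 hA.1 : Subgroup.zpowers A ≤ M24)
      (by rw [Nat.card_zpowers, ho, pow_one]) (by rw [hc]; norm_num)
      (by rw [CfsgLib.Spor.natCard_M24]; norm_num)
    have := case_887040 (conjG_le ha (Subgroup.map_subtype_le H))
      (h (Subgroup.mem_zpowers A)) hr hA (by rw [natCard_conjG, hc])
    exact ⟨_, by rw [Finset.card_smul_finset, card_toSet]; decide +kernel,
      eq_stabilizer_of_conj ha this⟩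
  · have hc := natCard_eq (n := 138240) hH (by norm_num) (by norm_num)
    obtain ⟨a, ha, hle, hS⟩ := exists_sylS (H := H) (by rw [hc]; norm_num)
    have := (cases_big hle hS).2.1 (by rw [natCard_conjG, hc])
    exact ⟨_, smul_mem_sextets (inv_mem ha) sexU_mem, eq_stabilizer_of_conj ha this⟩
  · have hc := natCard_eq (n := 967680) hH (by norm_num) (by norm_num)
    obtain ⟨a, ha, hle, hS⟩ := exists_sylS (H := H) (by rw [hc]; norm_num)
    exact (cases_big hle hS).2.2 (by rw [natCard_conjG, hc])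

end Cfsg.Agent.S1589
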