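import Cfsg.Agent.Lib.Spor.OrbitBases
import Cfsg.Agent.Lib.Spor.Orb.DodPt
import Cfsg.Agent.Lib.Spor.Orb.DodPt1
import Cfsg.Agent.Lib.Spor.Orb.DodPt2
import Cfsg.Agent.Lib.Spor.Orb.DodPt3
import Cfsg.Agent.Lib.Spor.Orb.TransDod
import Cfsg.Statements.S1600

set_option autoImplicit false
open scoped Pointwise
open Cfsg CfsgLib.Spor

namespace Cfsg.Agent.S1600

/-- The pointwise stabiliser of three points of a dodecad inside the dodecad stabiliser (order 72) is transitive on the complementary dodecad. -/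
theorem result (d : Finset Cfsg.GolayPt) (hd : d ∈ Cfsg.dodecads) (p q r : Cfsg.GolayPt) (hp : p ∈ d) (hq : q ∈ d) (hr : r ∈ d) (hpq : p ≠ q) (hpr : p ≠ r) (hqr : q ≠ r) : Nat.card ↥(MulAction.stabilizer Cfsg.M24 d ⊓ MulAction.stabilizer Cfsg.M24 p ⊓ MulAction.stabilizer Cfsg.M24 q ⊓ MulAction.stabilizer Cfsg.M24 r) = 72 ∧ ∀ x ∉ d, ∀ y ∉ d, ∃ g ∈ (MulAction.stabilizer Cfsg.M24 d ⊓ MulAction.stabilizer Cfsg.M24 p ⊓ MulAction.stabilizer Cfsg.M24 q ⊓ MulAction.stabilizer Cfsg.M24 r), ((g : ↥Cfsg.M24) : Equiv.Perm Cfsg.GolayPt) x = y := by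
  obtain ⟨⟨g0, hg0⟩, hd0⟩ := dodK.exists_trans transDod_ok (dodK.ix.mem 0 (by decide +kernel)) hd
  change g0 • toSet (getT 24 dodTbl 0) = d at hd0
  have step : ∀ {ms gens : List ℕ} {cls : List (ℕ × List (ℕ × ℕ × ℕ))} {g : Equiv.Perm GolayPt},
      ptK.splitOK (singles ms) gens cls = true → g ∈ M24 → ∀ (i : ℕ) (z : GolayPt), i < 24 →
      meetsAt g ms {z} = (ms.map fun a => pop (a &&& 2 ^ i)) →
      ∃ g' ∈ M24, (∀ a ∈ ms, g' • toSet a = g • toSet a) ∧ g' • toSet (2 ^ i) = {z} := by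
    intro ms gens cls g h hg i z hi e
    obtain ⟨g', h1, h2, h3, -⟩ := ptK.exists_base_step (mk := fun x => {x}) ptK_fam h hg hi
      (ptK_mask i hi) (Set.mem_univ z) e
    exact ⟨g', h1, h2, h3⟩
  have hne : ∀ {a b : GolayPt}, a ≠ b → ((({a} : Finset GolayPt) ∩ {b}).card = 0) := fun hab =>
    (card_pt_inter_zero _ _).2 (by simpa using hab)
  have hin : ∀ {z : GolayPt}, z ∈ d → (d ∩ {z}).card = 1 := fun hz => by
    rw [Finset.inter_singleton_of_mem hz, Finset.card_singleton]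
  obtain ⟨g1, hg1, f1, hp1⟩ := step (ms := [getT 24 dodTbl 0]) (gens := dodPtGens) (cls := dodPtCls)
    (by rw [show singles [getT 24 dodTbl 0] = dodPtL by decide +kernel]; exact dodPt_ok) hg0 0 p
    (by norm_num) (by simp only [meetsAt, List.map_cons, List.map_nil, hd0, hin hp]; decide +kernel)
  have hd1 : g1 • toSet (getT 24 dodTbl 0) = d := (f1 _ (by simp)).trans hd0
  obtain ⟨g2, hg2, f2, hq2⟩ := step (ms := [getT 24 dodTbl 0, 2 ^ 0]) (gens := dodPt1Gens) (cls := dodPt1Cls)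
    (by rw [show singles [getT 24 dodTbl 0, 2 ^ 0] = dodPt1L by decide +kernel]; exact dodPt1_ok) hg1 2 q
    (by norm_num) (by
      simp only [meetsAt, List.map_cons, List.map_nil, hd1, hp1, hin hq, hne hpq]; decide +kernel)
  have hd2 : g2 • toSet (getT 24 dodTbl 0) = d := (f2 _ (by simp)).trans hd1
  have hp2 : g2 • toSet (2 ^ 0) = {p} := (f2 _ (by simp)).trans hp1
  obtain ⟨g3, hg3, f3, hr3⟩ := step (ms := [getT 24 dodTbl 0, 2 ^ 0, 2 ^ 2]) (gens := dodPt2Gens) (cls := dodPt2Cls)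
    (by rw [show singles [getT 24 dodTbl 0, 2 ^ 0, 2 ^ 2] = dodPt2L by decide +kernel]; exact dodPt2_ok) hg2 3 r
    (by norm_num) (by
      simp only [meetsAt, List.map_cons, List.map_nil, hd2, hp2, hq2, hin hr, hne hpr, hne hqr]
      decide +kernel)
  have hd3 : g3 • toSet (getT 24 dodTbl 0) = d := (f3 _ (by simp)).trans hd2
  have hp3 : g3 • toSet (2 ^ 0) = {p} := (f3 _ (by simp)).trans hp2
  have hq3 : g3 • toSet (2 ^ 2) = {q} := (f3 _ (by simp)).trans hq2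
  set H₁ := MulAction.stabilizer ↥M24 d ⊓ MulAction.stabilizer ↥M24 p with hH1
  set H₂ := H₁ ⊓ MulAction.stabilizer ↥M24 q with hH2
  set H₃ := H₂ ⊓ MulAction.stabilizer ↥M24 r
  have hpt : ∀ (m : ↥M24) (z : GolayPt),
      (m : Equiv.Perm GolayPt) • ({z} : Finset GolayPt) = {z} ↔ m ∈ MulAction.stabilizer ↥M24 z :=
    fun m z => smul_pt_eq_iff _ z
  have m1 : ∀ m : ↥M24, m ∈ H₁ ↔ ∀ a ∈ [getT 24 dodTbl 0, 2 ^ 0],
      (m : Equiv.Perm GolayPt) • (g1 • toSet a) = g1 • toSet a := fun m => by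
    simp only [List.forall_mem_cons, List.not_mem_nil, IsEmpty.forall_iff, implies_true, and_true,
      hd1, hp1, hpt, hH1, Subgroup.mem_inf]
    exact Iff.rfl
  have m2 : ∀ m : ↥M24, m ∈ H₂ ↔ ∀ a ∈ [getT 24 dodTbl 0, 2 ^ 0, 2 ^ 2],
      (m : Equiv.Perm GolayPt) • (g2 • toSet a) = g2 • toSet a := fun m => by
    simp only [List.forall_mem_cons, List.not_mem_nil, IsEmpty.forall_iff, implies_true, and_true,
      hd2, hp2, hq2, hpt, hH2, hH1, Subgroup.mem_inf, and_assoc]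
    exact Iff.rfl
  have m3 : ∀ m : ↥M24, m ∈ H₃ ↔ ∀ a ∈ [getT 24 dodTbl 0, 2 ^ 0, 2 ^ 2, 2 ^ 3],
      (m : Equiv.Perm GolayPt) • (g3 • toSet a) = g3 • toSet a := fun m => by
    simp only [List.forall_mem_cons, List.not_mem_nil, IsEmpty.forall_iff, implies_true, and_true,
      hd3, hp3, hq3, hr3, hpt, H₃, hH2, hH1, Subgroup.mem_inf, and_assoc]
    exact Iff.rfl
  have c1 : Nat.card H₁ = 7920 := natCard_stab_dodecad_point hd hp
  have o2 : (MulAction.orbit H₁ q).ncard = 11 := by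
    rw [ptK.orbit_eq_meets (mk := fun x => {x}) ptK_fam (ms := [getT 24 dodTbl 0, 2 ^ 0])
      (by rw [show singles [getT 24 dodTbl 0, 2 ^ 0] = dodPt1L by decide +kernel]; exact dodPt1_ok)
      hg1 m1 (Set.mem_univ q), ptK.ncard_meets (mk := fun x => {x}) ptK_fam ptK_mask _ _ hg1]
    simp only [meetsAt, List.map_cons, List.map_nil, hd1, hp1, hin hq, hne hpq]
    decide +kernel
  have o3 : (MulAction.orbit H₂ r).ncard = 10 := by
    rw [ptK.orbit_eq_meets (mk := fun x => {x}) ptK_fam (ms := [getT 24 dodTbl 0, 2 ^ 0, 2 ^ 2])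
      (by rw [show singles [getT 24 dodTbl 0, 2 ^ 0, 2 ^ 2] = dodPt2L by decide +kernel]; exact dodPt2_ok)
      hg2 m2 (Set.mem_univ r), ptK.ncard_meets (mk := fun x => {x}) ptK_fam ptK_mask _ _ hg2]
    simp only [meetsAt, List.map_cons, List.map_nil, hd2, hp2, hq2, hin hr, hne hpr, hne hqr]
    decide +kernel
  refine ⟨?_, fun x hx y hy => ?_⟩
  · have e2 := natCard_inf_stabilizer H₁ q
    rw [o2, c1, ← hH2] at e2
    have e3 := natCard_inf_stabilizer H₂ r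
    rw [o3] at e3
    show Nat.card H₃ = 72
    have e3' : Nat.card H₃ * 10 = Nat.card H₂ := e3
    omega
  · have hout : ∀ z, z ∉ d → z ≠ p ∧ z ≠ q ∧ z ≠ r := fun z hz =>
      ⟨fun h => hz (h ▸ hp), fun h => hz (h ▸ hq), fun h => hz (h ▸ hr)⟩
    obtain ⟨m, hm, hmf, hme⟩ := ptK.exists_map_meets (mk := fun x => {x}) ptK_fam
      (ms := [getT 24 dodTbl 0, 2 ^ 0, 2 ^ 2, 2 ^ 3]) (gens := dodPt3Gens) (cls := dodPt3Cls)
      (by rw [show singles [getT 24 dodTbl 0, 2 ^ 0, 2 ^ 2, 2 ^ 3] = dodPt3L by decide +kernel]; exact dodPt3_ok)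
      hg3 (Set.mem_univ x) (Set.mem_univ y) (by
        obtain ⟨x1, x2, x3⟩ := hout x hx
        obtain ⟨y1, y2, y3⟩ := hout y hy
        simp only [meetsAt, List.map_cons, List.map_nil, hd3, hp3, hq3, hr3, hne x1.symm, hne x2.symm,
          hne x3.symm, hne y1.symm, hne y2.symm, hne y3.symm]
        rw [Finset.inter_singleton_of_notMem hx, Finset.inter_singleton_of_notMem hy])
    exact ⟨⟨m, hm⟩, (m3 _).2 hmf, hme⟩

end Cfsg.Agent.S1600
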