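import Cfsg.Statements.S1601
import Cfsg.Agent.Lib.Spor.DodecadPSL
-- import your own Cfsg.Agent.* helpers here

set_option autoImplicit false
open scoped Pointwise
open Cfsg

namespace Cfsg.Agent.S1601

/-- In the 3-transitive action of the smallest Mathieu group on the complementary dodecad, a point stabiliser is isomorphic to PSL(2, 11). -/
theorem result (d : Finset Cfsg.GolayPt) (hd : d ∈ Cfsg.dodecads) (p q : Cfsg.GolayPt) (hp : p ∈ d) (hq : q ∉ d) : Nonempty (↥(MulAction.stabilizer Cfsg.M24 d ⊓ MulAction.stabilizer Cfsg.M24 p ⊓ MulAction.stabilizer Cfsg.M24 q) ≃* Matrix.ProjectiveSpecialLinearGroup (Fin 2) (ZMod 11)) := by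
  classical
  obtain ⟨q', hq', hne⟩ : ∃ q' : Cfsg.GolayPt, q' ∉ d ∧ q ≠ q' := by
    by_contra h
    push Not at h
    have hsub : (dᶜ : Finset Cfsg.GolayPt) ⊆ {q} := fun x hx =>
      Finset.mem_singleton.2 (h x (Finset.mem_compl.1 hx)).symm
    have h1 := Finset.card_le_card hsub
    rw [Finset.card_compl, CfsgLib.Spor.card_dodecad hd, CfsgLib.Spor.card_golayPt,
      Finset.card_singleton] at h1
    omega
  obtain ⟨g, h1, h2, h3, -⟩ := CfsgLib.Spor.exists_base hd hp hq hq' hne
  obtain ⟨e⟩ := CfsgLib.Spor.eleven_iso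
  exact ⟨(CfsgLib.Spor.dodPtStabEquiv h1 h2 h3).symm.trans e⟩

end Cfsg.Agent.S1601
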