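import Cfsg.Agent.Lib.Spor.OrbitBases
import Cfsg.Agent.Lib.Spor.Orb.Pt2Oct
import Cfsg.Agent.Lib.Spor.Orb.Oct2Oct
import Cfsg.Statements.S1604

set_option autoImplicit false
open scoped Pointwise
open Cfsg CfsgLib.Spor

namespace Cfsg.Agent.S1604

/-- A hexad stabiliser in the two-point stabiliser has orbits of sizes 1, 16, 60 on the 77 hexads: the 16 hexads disjoint from it and the 60 meeting it in two points. -/
theorem result (p q : Cfsg.GolayPt) (hpq : p ≠ q) (o o' o'' : Finset Cfsg.GolayPt) (ho : o ∈ Cfsg.octads) (ho' : o' ∈ Cfsg.octads) (ho'' : o'' ∈ Cfsg.octads) (hp : p ∈ o ∧ p ∈ o' ∧ p ∈ o'') (hq : q ∈ o ∧ q ∈ o' ∧ q ∈ o'') (h : (o ∩ o').card = (o ∩ o'').card) : {x : Finset Cfsg.GolayPt | x ∈ Cfsg.octads ∧ p ∈ x ∧ q ∈ x ∧ (o ∩ x).card = 2}.ncard = 16 ∧ {x : Finset Cfsg.GolayPt | x ∈ Cfsg.octads ∧ p ∈ x ∧ q ∈ x ∧ (o ∩ x).card = 4}.ncard = 60 ∧ ∃ g : Equiv.Perm Cfsg.GolayPt, g ∈ Cfsg.M24 ∧ g p = p ∧ g q = q ∧ g •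 o = o ∧ g • o' = o'' := by
  obtain ⟨g, hg, hgp, hgq⟩ := exists_base_two hpq
  obtain ⟨g', hg', hfix, hb, -⟩ := octK.exists_base_step (mk := fun x => x) octK_fam (ms := [1, 2])
    (show octK.splitOK (singles [1, 2]) pt2OctGens pt2OctCls = true from pt2Oct_ok) hg
    (i := 0) (by decide +kernel) (b := getT 24 octTbl 0) rfl ho (by
      simp only [meetsAt, List.map_cons, List.map_nil, hgp, hgq]
      rw [(card_pt_inter_one p o).2 hp.1, (card_pt_inter_one q o).2 hq.1]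
      decide +kernel)
  have hp' : g' • toSet 1 = {p} := (hfix 1 (by simp)).trans hgp
  have hq' : g' • toSet 2 = {q} := (hfix 2 (by simp)).trans hgq
  have hsplit : octK.splitOK (singles [1, 2, getT 24 octTbl 0]) oct2OctGens oct2OctCls = true := by
    rw [show singles [1, 2, getT 24 octTbl 0] = oct2OctL by decide +kernel]; exact oct2Oct_ok
  have hM : ∀ x, meetsAt g' [1, 2, getT 24 octTbl 0] x =
      [(({p} : Finset GolayPt) ∩ x).card, (({q} : Finset GolayPt) ∩ x).card, (o ∩ x).card] := fun x => by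
    simp only [meetsAt, List.map_cons, List.map_nil, hp', hq', hb]
  have hc : ∀ k, {x : Finset GolayPt | x ∈ octads ∧ p ∈ x ∧ q ∈ x ∧ (o ∩ x).card = k}.ncard =
      (meetCls 759 (getT 24 octTbl) [1, 2, getT 24 octTbl 0] [1, 1, k]).length := fun k => by
    refine Eq.trans ?_ (octK.ncard_meets (mk := fun x => x) octK_fam octK_mask _ [1, 1, k] hg')
    refine congrArg Set.ncard ?_
    ext x
    simp only [Set.mem_ofPred_eq, List.cons.injEq, and_true, and_assoc, hM, card_pt_inter_one]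
  refine ⟨(hc 2).trans (by decide +kernel), (hc 4).trans (by decide +kernel), ?_⟩
  obtain ⟨m, hm, hmf, hme⟩ := octK.exists_map_meets (mk := fun x => x) octK_fam hsplit hg' ho' ho'' (by
    simp [hM, card_pt_inter, hp.2.1, hp.2.2, hq.2.1, hq.2.2, h])
  refine ⟨m, hm, (smul_pt_eq_iff m p).1 ?_, (smul_pt_eq_iff m q).1 ?_, ?_, hme⟩
  · rw [← hp']; exact hmf 1 (by simp)
  · rw [← hq']; exact hmf 2 (by simp)
  · rw [← hb]; exact hmf _ (by simp)

end Cfsg.Agent.S1604
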