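import Cfsg.Agent.Lib.Spor.OrbitBases
import Cfsg.Agent.Lib.Spor.Orb.Pt2Oct
import Cfsg.Agent.Lib.Spor.Orb.Hept22
import Cfsg.Statements.S1605

set_option autoImplicit false
open scoped Pointwise
open Cfsg CfsgLib.Spor

namespace Cfsg.Agent.S1605

/-- The two-point stabiliser acts on the 176 octads through the first point avoiding the second with rank 3 and subdegrees 1, 70, 105 (intersections 8, 2, 4). -/
theorem result (p q : Cfsg.GolayPt) (hpq : p ≠ q) : {x : Finset Cfsg.GolayPt | (x ∈ Cfsg.octads ∧ p ∈ x ∧ q ∉ x)}.ncard = 176 ∧ (∀ o o' : Finset Cfsg.GolayPt, (o ∈ Cfsg.octads ∧ p ∈ o ∧ q ∉ o) → (o' ∈ Cfsg.octads ∧ p ∈ o' ∧ q ∉ o') → ∃ g : Equiv.Perm Cfsg.GolayPt, g ∈ Cfsg.M24 ∧ g p = p ∧ g q = q ∧ g • o = o') ∧ ∀ o : Finset Cfsg.GolayPt, (o ∈ Cfsg.octads ∧ p ∈ o ∧ q ∉ o) → {x : Finset Cfsg.GolayPt | (x ∈ Cfsg.octads ∧ p ∈ x ∧ q ∉ x) ∧ (o ∩ x).card = 2}.ncard = 70 ∧ {x : Finset Cfsg.GolayPt | (x ∈ Cfsg.octads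 ∧ p ∈ x ∧ q ∉ x) ∧ (o ∩ x).card = 4}.ncard = 105 ∧ ∀ o' o'' : Finset Cfsg.GolayPt, (o' ∈ Cfsg.octads ∧ p ∈ o' ∧ q ∉ o') → (o'' ∈ Cfsg.octads ∧ p ∈ o'' ∧ q ∉ o'') → (o ∩ o').card = (o ∩ o'').card → ∃ g : Equiv.Perm Cfsg.GolayPt, g ∈ Cfsg.M24 ∧ g p = p ∧ g q = q ∧ g • o = o ∧ g • o' = o'' := by
  obtain ⟨g, hg, hgp, hgq⟩ := exists_base_two hpq
  have h2 : octK.splitOK (singles [1, 2]) pt2OctGens pt2OctCls = true := pt2Oct_ok
  have hM2 : ∀ x, meetsAt g [1, 2] x =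
      [(({p} : Finset GolayPt) ∩ x).card, (({q} : Finset GolayPt) ∩ x).card] := fun x => by
    simp only [meetsAt, List.map_cons, List.map_nil, hgp, hgq]
  refine ⟨?_, fun o o' ho ho' => ?_, fun o ho => ?_⟩
  · refine Eq.trans ?_ ((octK.ncard_meets (mk := fun x => x) octK_fam octK_mask [1, 2] [1, 0] hg).trans
      (show (meetCls 759 (getT 24 octTbl) [1, 2] [1, 0]).length = 176 by decide +kernel))
    refine congrArg Set.ncard ?_
    ext x
    simp only [Set.mem_ofPred_eq, List.cons.injEq, and_true, and_assoc, hM2, card_pt_inter_one, card_pt_inter_zero]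
  · obtain ⟨m, hm, hmf, hme⟩ := octK.exists_map_meets (mk := fun x => x) octK_fam h2 hg ho.1 ho'.1 (by
      simp [hM2, card_pt_inter, ho.2.1, ho.2.2, ho'.2.1, ho'.2.2])
    refine ⟨m, hm, (smul_pt_eq_iff m p).1 ?_, (smul_pt_eq_iff m q).1 ?_, hme⟩
    · rw [← hgp]; exact hmf 1 (by simp)
    · rw [← hgq]; exact hmf 2 (by simp)
  obtain ⟨g', hg', hfix, hb, -⟩ := octK.exists_base_step (mk := fun x => x) octK_fam (ms := [1, 2])
    h2 hg (i := 2) (by decide +kernel) (b := getT 24 octTbl 2) rfl ho.1 (by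
      simp only [hM2, List.map_cons, List.map_nil]
      rw [(card_pt_inter_one p o).2 ho.2.1, (card_pt_inter_zero q o).2 ho.2.2]
      decide +kernel)
  have hp' : g' • toSet 1 = {p} := (hfix 1 (by simp)).trans hgp
  have hq' : g' • toSet 2 = {q} := (hfix 2 (by simp)).trans hgq
  have hsplit : octK.splitOK (singles [1, 2, getT 24 octTbl 2]) hept22Gens hept22Cls = true := by
    rw [show singles [1, 2, getT 24 octTbl 2] = hept22L by decide +kernel]; exact hept22_ok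
  have hM : ∀ x, meetsAt g' [1, 2, getT 24 octTbl 2] x =
      [(({p} : Finset GolayPt) ∩ x).card, (({q} : Finset GolayPt) ∩ x).card, (o ∩ x).card] := fun x => by
    simp only [meetsAt, List.map_cons, List.map_nil, hp', hq', hb]
  have hc : ∀ k, {x : Finset GolayPt | (x ∈ octads ∧ p ∈ x ∧ q ∉ x) ∧ (o ∩ x).card = k}.ncard =
      (meetCls 759 (getT 24 octTbl) [1, 2, getT 24 octTbl 2] [1, 0, k]).length := fun k => by
    refine Eq.trans ?_ (octK.ncard_meets (mk := fun x => x) octK_fam octK_mask _ [1, 0, k] hg')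
    refine congrArg Set.ncard ?_
    ext x
    simp only [Set.mem_ofPred_eq, List.cons.injEq, and_true, and_assoc, hM, card_pt_inter_one, card_pt_inter_zero]
  refine ⟨(hc 2).trans (by decide +kernel), (hc 4).trans (by decide +kernel), fun o' o'' h' h'' h => ?_⟩
  obtain ⟨m, hm, hmf, hme⟩ := octK.exists_map_meets (mk := fun x => x) octK_fam hsplit hg' h'.1 h''.1 (by
    simp [hM, card_pt_inter, h'.2.1, h'.2.2, h''.2.1, h''.2.2, h])
  refine ⟨m, hm, (smul_pt_eq_iff m p).1 ?_, (smul_pt_eq_iff m q).1 ?_, ?_, hme⟩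
  · rw [← hp']; exact hmf 1 (by simp)
  · rw [← hq']; exact hmf 2 (by simp)
  · rw [← hb]; exact hmf _ (by simp)

end Cfsg.Agent.S1605
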