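import Cfsg.Statements.S1606
import Cfsg.Agent.Lib.Spor.SubgroupSylow

set_option autoImplicit false
open scoped Pointwise
open Cfsg

namespace Cfsg.Agent.S1606

open CfsgLib.Spor CfsgLib.Spor.Subgp

/-- Subgroups of index 56 or 210 do not exist in the stabiliser of two points. -/
theorem result (p q : Cfsg.GolayPt) (hpq : p ≠ q) (H : Subgroup ↥(MulAction.stabilizer Cfsg.M24 p ⊓ MulAction.stabilizer Cfsg.M24 q)) : H.index ≠ 56 ∧ H.index ≠ 210 := by
  haveI := CfsgLib.Spor.isMultiplyPretransitive_le_five (k := 2) (by norm_num)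
  let x : Fin 2 ↪ GolayPt := ⟨![p, q], fun i j h => by
    fin_cases i <;> fin_cases j <;> simp_all [Ne.symm hpq]⟩
  let y : Fin 2 ↪ GolayPt := ⟨![pt 23, pt 0], by decide +kernel⟩
  obtain ⟨g, hg⟩ := MulAction.exists_smul_eq M24 x y
  have hgp : (g : Equiv.Perm GolayPt) p = pt 23 := DFunLike.congr_fun hg 0
  have hgq : (g : Equiv.Perm GolayPt) q = pt 0 := DFunLike.congr_fun hg 1
  set f := M24.subtype.comp (Subgroup.subtype
    (MulAction.stabilizer Cfsg.M24 p ⊓ MulAction.stabilizer Cfsg.M24 q)) with hf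
  have hfi : Function.Injective f := Subtype.val_injective.comp Subtype.val_injective
  set K := conjG (g : Equiv.Perm GolayPt) (H.map f) with hK
  have hc : Nat.card K = Nat.card H := by
    rw [hK, natCard_conjG]
    exact (Nat.card_congr (H.equivMapOfInjective f hfi).toEquiv).symm
  have hle : K ≤ stabG [] [23, 0] := by
    intro σ hσ
    obtain ⟨⟨⟨τ, hτ⟩, hτp, hτq⟩, -, e⟩ := Subgroup.mem_map.1 (mem_conjG.1 hσ)
    change τ = _ at e
    have h1 : τ p = p := hτp
    have h2 : τ q = q := hτq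
    have hσ' : σ = g * τ * (g : Equiv.Perm GolayPt)⁻¹ := by rw [e]; group
    have hfix : ∀ r s, (g : Equiv.Perm GolayPt) r = s → τ r = r → σ s = s := by
      intro r s hrs hr
      rw [hσ', ← hrs]
      simp [hr]
    refine mem_stabG.2 ⟨hσ' ▸ M24.mul_mem (M24.mul_mem g.2 hτ) (M24.inv_mem g.2), by simp, ?_⟩
    simp only [List.mem_cons, List.not_mem_nil, or_false]
    rintro b (rfl | rfl)
    · exact hfix p _ hgp h1
    · exact hfix q _ hgq h2
  have hM := CfsgLib.Spor.natCard_stab_two hpq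
  have hcount := H.card_mul_index
  rw [hM, ← hc] at hcount
  refine ⟨fun hi => no_order_7920 hle ?_, fun hi => no_order_2112 hle ?_⟩ <;>
    (rw [hi] at hcount; omega)

end Cfsg.Agent.S1606
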