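import Cfsg.Agent.Lib.Spor.OrbitBases
import Cfsg.Agent.Lib.Spor.Orb.Pt1Oct
import Cfsg.Agent.Lib.Spor.Orb.Hept23
import Cfsg.Statements.S1607

set_option autoImplicit false
open scoped Pointwise
open Cfsg CfsgLib.Spor

namespace Cfsg.Agent.S1607

/-- The point stabiliser acts on the 253 heptads of its S(4, 7, 23) with rank 3 and subdegrees 1, 112, 140 (intersections 8, 2, 4). -/
theorem result (x : Cfsg.GolayPt) (o : Finset Cfsg.GolayPt) (ho : o ∈ Cfsg.octads) (hx : x ∈ o) : {o' : Finset Cfsg.GolayPt | o' ∈ Cfsg.octads ∧ x ∈ o' ∧ (o ∩ o').card = 2}.ncard = 112 ∧ {o' : Finset Cfsg.GolayPt | o' ∈ Cfsg.octads ∧ x ∈ o' ∧ (o ∩ o').card = 4}.ncard = 140 ∧ ∀ o' o'' : Finset Cfsg.GolayPt, o' ∈ Cfsg.octads → o'' ∈ Cfsg.octads → x ∈ o' → x ∈ o'' → (o ∩ o').card = (o ∩ o'').card → ∃ g : Equiv.Perm Cfsg.GolayPt, g ∈ Cfsg.M24 ∧ g x = x ∧ g • o = o ∧ g • o' = o'' := by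
  obtain ⟨g, hg, hgx⟩ := exists_base_pt x
  obtain ⟨g', hg', hfix, hb, -⟩ := octK.exists_base_step (mk := fun x => x) octK_fam (ms := [1])
    (show octK.splitOK (singles [1]) pt1OctGens pt1OctCls = true from pt1Oct_ok) hg
    (i := 0) (by decide +kernel) (b := getT 24 octTbl 0) rfl ho (by
      simp only [meetsAt, List.map_cons, List.map_nil, hgx]
      rw [(card_pt_inter_one x o).2 hx]
      decide +kernel)
  have hx' : g' • toSet 1 = {x} := (hfix 1 (by simp)).trans hgx
  have hsplit : octK.splitOK (singles [1, getT 24 octTbl 0]) hept23Gens hept23Cls = true := by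
    rw [show singles [1, getT 24 octTbl 0] = hept23L by decide +kernel]; exact hept23_ok
  have hM : ∀ y, meetsAt g' [1, getT 24 octTbl 0] y =
      [(({x} : Finset GolayPt) ∩ y).card, (o ∩ y).card] := fun y => by
    simp only [meetsAt, List.map_cons, List.map_nil, hx', hb]
  have hc : ∀ k, {y : Finset GolayPt | y ∈ octads ∧ x ∈ y ∧ (o ∩ y).card = k}.ncard =
      (meetCls 759 (getT 24 octTbl) [1, getT 24 octTbl 0] [1, k]).length := fun k => by
    refine Eq.trans ?_ (octK.ncard_meets (mk := fun x => x) octK_fam octK_mask _ [1, k] hg')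
    refine congrArg Set.ncard ?_
    ext y
    simp only [Set.mem_ofPred_eq, List.cons.injEq, and_true, and_assoc, hM, card_pt_inter_one]
  refine ⟨(hc 2).trans (by decide +kernel), (hc 4).trans (by decide +kernel), fun o' o'' h1 h2 h3 h4 h => ?_⟩
  obtain ⟨m, hm, hmf, hme⟩ := octK.exists_map_meets (mk := fun x => x) octK_fam hsplit hg' h1 h2 (by
    simp [hM, card_pt_inter, h3, h4, h])
  refine ⟨m, hm, (smul_pt_eq_iff m x).1 ?_, ?_, hme⟩
  · rw [← hx']; exact hmf 1 (by simp)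
  · rw [← hb]; exact hmf _ (by simp)

end Cfsg.Agent.S1607
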