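import Cfsg.Agent.Lib.Spor.OrbitBases
import Cfsg.Agent.Lib.Spor.Orb.Pt1Oct
import Cfsg.Agent.Lib.Spor.Orb.Oct23
import Cfsg.Statements.S1608

set_option autoImplicit false
open scoped Pointwise
open Cfsg CfsgLib.Spor

namespace Cfsg.Agent.S1608

/-- The point stabiliser acts on the 506 octads avoiding the point with rank 4 and subdegrees 1, 15, 210, 280, the suborbits being given by intersection size with the fixed octad. -/
theorem result (x : Cfsg.GolayPt) (o : Finset Cfsg.GolayPt) (ho : o ∈ Cfsg.octads) (hx : x ∉ o) : {o' : Finset Cfsg.GolayPt | o' ∈ Cfsg.octads ∧ x ∉ o' ∧ (o ∩ o').card = 0}.ncard = 15 ∧ {o' : Finset Cfsg.GolayPt | o' ∈ Cfsg.octads ∧ x ∉ o' ∧ (o ∩ o').card = 4}.ncard = 210 ∧ {o' : Finset Cfsg.GolayPt | o' ∈ Cfsg.octads ∧ x ∉ o' ∧ (o ∩ o').card = 2}.ncard = 280 ∧ ∀ o' o'' : Finset Cfsg.GolayPt, o' ∈ Cfsg.octads → o'' ∈ Cfsg.octads → x ∉ o' → x ∉ o'' → (o ∩ o').card = (o ∩ o'').card → ∃ g : Equiv.Perm Cfsg.GolayPt, g ∈ Cfsg.M24 ∧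 g x = x ∧ g • o = o ∧ g • o' = o'' := by
  obtain ⟨g, hg, hgx⟩ := exists_base_pt x
  obtain ⟨g', hg', hfix, hb, -⟩ := octK.exists_base_step (mk := fun x => x) octK_fam (ms := [1])
    (show octK.splitOK (singles [1]) pt1OctGens pt1OctCls = true from pt1Oct_ok) hg
    (i := 1) (by decide +kernel) (b := getT 24 octTbl 1) rfl ho (by
      simp only [meetsAt, List.map_cons, List.map_nil, hgx]
      rw [(card_pt_inter_zero x o).2 hx]
      decide +kernel)
  have hx' : g' • toSet 1 = {x} := (hfix 1 (by simp)).trans hgx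
  have hsplit : octK.splitOK (singles [1, getT 24 octTbl 1]) oct23Gens oct23Cls = true := by
    rw [show singles [1, getT 24 octTbl 1] = oct23L by decide +kernel]; exact oct23_ok
  have hM : ∀ y, meetsAt g' [1, getT 24 octTbl 1] y =
      [(({x} : Finset GolayPt) ∩ y).card, (o ∩ y).card] := fun y => by
    simp only [meetsAt, List.map_cons, List.map_nil, hx', hb]
  have hc : ∀ k, {y : Finset GolayPt | y ∈ octads ∧ x ∉ y ∧ (o ∩ y).card = k}.ncard =
      (meetCls 759 (getT 24 octTbl) [1, getT 24 octTbl 1] [0, k]).length := fun k => by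
    refine Eq.trans ?_ (octK.ncard_meets (mk := fun x => x) octK_fam octK_mask _ [0, k] hg')
    refine congrArg Set.ncard ?_
    ext y
    simp only [Set.mem_ofPred_eq, List.cons.injEq, and_true, and_assoc, hM, card_pt_inter_zero]
  refine ⟨(hc 0).trans (by decide +kernel), (hc 4).trans (by decide +kernel), (hc 2).trans (by decide +kernel), fun o' o'' h1 h2 h3 h4 h => ?_⟩
  obtain ⟨m, hm, hmf, hme⟩ := octK.exists_map_meets (mk := fun x => x) octK_fam hsplit hg' h1 h2 (by
    simp [hM, card_pt_inter, h3, h4, h])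
  refine ⟨m, hm, (smul_pt_eq_iff m x).1 ?_, ?_, hme⟩
  · rw [← hx']; exact hmf 1 (by simp)
  · rw [← hb]; exact hmf _ (by simp)

end Cfsg.Agent.S1608
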