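import Cfsg.Statements.S1609
import Cfsg.Agent.Lib.Spor.SubgroupMain

set_option autoImplicit false
open scoped Pointwise
open Cfsg

namespace Cfsg.Agent.S1609

open CfsgLib.Spor CfsgLib.Spor.Subgp

theorem back {x : GolayPt} {H : Subgroup ↥(MulAction.stabilizer Cfsg.M24 x)}
    {a : Equiv.Perm GolayPt} (ha : a ∈ M24) (hax : a x = pt 0) {s : Finset GolayPt}
    (h : conjG a ((H.map (MulAction.stabilizer Cfsg.M24 x).subtype).map M24.subtype) =
      setStab s ⊓ ptStab (pt 0)) :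
    H = (MulAction.stabilizer Cfsg.M24 (a⁻¹ • s)).subgroupOf (MulAction.stabilizer Cfsg.M24 x) := by
  ext g
  obtain ⟨⟨τ, hτ⟩, hgx⟩ := g
  have hτx : τ x = x := hgx
  have h1 : (⟨⟨τ, hτ⟩, hgx⟩ : MulAction.stabilizer Cfsg.M24 x) ∈ H ↔
      a * τ * a⁻¹ ∈ setStab s ⊓ ptStab (pt 0) := by
    rw [← h, mem_conjG, show a⁻¹ * (a * τ * a⁻¹) * a = τ by group]
    constructor
    · exact fun hg => ⟨⟨τ, hτ⟩, ⟨_, hg, rfl⟩, rfl⟩
    · rintro ⟨_, ⟨g', hg', rfl⟩, e⟩
      have hg'' : g' = ⟨⟨τ, hτ⟩, hgx⟩ := Subtype.ext (Subtype.ext e)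
      exact hg'' ▸ hg'
  rw [h1, Subgroup.mem_subgroupOf]
  constructor
  · intro h2
    have h3 : (a * τ * a⁻¹) • s = s := h2.1.2
    rw [mul_smul, mul_smul] at h3
    show τ • a⁻¹ • s = a⁻¹ • s
    exact eq_inv_smul_iff.2 h3
  · intro h2
    have h3 : τ • a⁻¹ • s = a⁻¹ • s := h2
    refine Subgroup.mem_inf.2 ⟨Subgroup.mem_inf.2 ⟨mul_mem (mul_mem ha hτ) (inv_mem ha), ?_⟩, ?_⟩
    · show (a * τ * a⁻¹) • s = s
      rw [mul_smul, mul_smul, h3, smul_inv_smul]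
    · show (a * τ * a⁻¹) (pt 0) = pt 0
      rw [← hax]
      simp [hτx]

/-- Subgroups of index 253 of the point stabiliser are duad and heptad stabilisers. -/
theorem result (x : Cfsg.GolayPt) (H : Subgroup ↥(MulAction.stabilizer Cfsg.M24 x)) (hH : H.index = 253) : (∃ s : Finset Cfsg.GolayPt, s.card = 2 ∧ x ∉ s ∧ H = (MulAction.stabilizer Cfsg.M24 s).subgroupOf (MulAction.stabilizer Cfsg.M24 x)) ∨ ∃ o ∈ Cfsg.octads, x ∈ o ∧ H = (MulAction.stabilizer Cfsg.M24 o).subgroupOf (MulAction.stabilizer Cfsg.M24 x) := by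
  haveI := CfsgLib.Spor.isPretransitive_M24
  haveI : Fact (Nat.Prime 2) := ⟨Nat.prime_two⟩
  obtain ⟨g, hg⟩ := MulAction.exists_smul_eq M24 x (pt 0)
  have hgx : (g : Equiv.Perm GolayPt) x = pt 0 := hg
  set H' := (H.map (MulAction.stabilizer Cfsg.M24 x).subtype).map M24.subtype with hH'
  have hc : Nat.card H' = 40320 := by
    have h1 := H.card_mul_index
    rw [natCard_stab_point, hH] at h1
    rw [hH', natCard_map_subtype,
      ← Nat.card_congr (H.equivMapOfInjective _ Subtype.val_injective).toEquiv]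
    omega
  have hle : conjG (g : Equiv.Perm GolayPt) H' ≤ M24 ⊓ ptStab (pt 0) := by
    intro σ hσ
    obtain ⟨τ, hτ, e⟩ := Subgroup.mem_map.1 (mem_conjG.1 hσ)
    obtain ⟨τ', -, rfl⟩ := Subgroup.mem_map.1 hτ
    have hτx : ((τ' : M24) : Equiv.Perm GolayPt) x = x := τ'.2
    have hσ' : σ = g * ((τ' : M24) : Equiv.Perm GolayPt) * (g : Equiv.Perm GolayPt)⁻¹ := by
      rw [show ((τ' : M24) : Equiv.Perm GolayPt) =
        (g : Equiv.Perm GolayPt)⁻¹ * σ * g from e]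
      group
    refine Subgroup.mem_inf.2 ⟨hσ' ▸ mul_mem (mul_mem g.2 (τ' : M24).2) (inv_mem g.2), ?_⟩
    show σ (pt 0) = pt 0
    rw [hσ', ← hgx]
    simp [hτx]
  obtain ⟨b, hb, hP⟩ := exists_conj_le (p := 2) (n := 7) hle
    (sylP_le.trans (inf_le_inf_right _ sylS_le)) natCard_sylP
    (by rw [natCard_conjG, hc]; norm_num) (by rw [natCard_point_zero]; norm_num)
  set a := b * (g : Equiv.Perm GolayPt) with ha
  have hle' : conjG a H' ≤ M24 ⊓ ptStab (pt 0) := by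
    rw [ha, ← conjG_mul]; exact conjG_le hb hle
  rw [conjG_mul] at hP
  have hbM : a ∈ M24 := mul_mem hb.1 g.2
  have hax : a x = pt 0 := by
    rw [ha, Equiv.Perm.mul_apply, hgx]; exact hb.2
  have hinv : ∀ s : Finset GolayPt, x ∈ a⁻¹ • s ↔ pt 0 ∈ s := fun s => by
    rw [Finset.mem_inv_smul_finset_iff, Equiv.Perm.smul_def, hax]
  rcases cases_40320 hle' hP (by rw [natCard_conjG, hc]) with h | h
  · exact Or.inr ⟨a⁻¹ • toSet mOct, smul_octad_mem (inv_mem hbM) mOct_mem,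
      (hinv _).2 (by decide +kernel), back hbM hax h⟩
  · exact Or.inl ⟨a⁻¹ • toSet mTwo, by rw [Finset.card_smul_finset, card_toSet]; decide +kernel,
      fun h0 => absurd ((hinv _).1 h0) (by decide +kernel), back hbM hax h⟩

end Cfsg.Agent.S1609
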