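import Cfsg.Statements.S1614
import Cfsg.Agent.Lib.ThreeTransp.SolvLocal.Model
import Mathlib.FieldTheory.Finite.GaloisField


set_option autoImplicit false
set_option linter.style.haveILetI false
open Cfsg

namespace Cfsg.Agent.S1614

/-- If the commuting transpositions of one transposition generate a solvable group, a Fischer 3-transposition group is S5, S6, PSU(4, 2) or PSU(5, 2). -/
theorem result {G : Type*} [Group G] [Finite G] (hsol : ∀ N : Subgroup G, N.Normal → Group.IsSolvable ↥N → N = ⊥) (hperf : ⁅commutator G, commutator G⁆ = commutator G) {D : Set G} (hD : Cfsg.IsThreeTranspositionClass D) (x : G) (hx : x ∈ D) (hs : Group.IsSolvable ↥(Subgroup.closure {y : G | y ∈ D ∧ y ≠ x ∧ Commute x y})) : Nonempty (G ≃* Equiv.Perm (Fin 5)) ∨ Nonempty (G ≃* Equiv.Perm (Fin 6)) ∨ ∃ (F : Type) (_ : Field F) (_ : Fintype F), Fintype.card F = 4 ∧ (Nonempty (G ≃* Cfsg.PSU 4 F 2) ∨ Nonempty (G ≃* Cfsg.PSU 5 F 2)) := by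
    classical
    by_cases hodd : oddCore ↥(Subgroup.closure {y : G | y ∈ D ∧ y ≠ x ∧ Commute x y}) ≤
        Subgroup.center ↥(Subgroup.closure {y : G | y ∈ D ∧ y ≠ x ∧ Commute x y})
    swap
    · exact Or.inl (CfsgLib.ThreeTransp.LocalThree.sym5_of_core hsol hperf hD hx hodd)
    have hH := CfsgLib.ThreeTransp.SolvLocal.hyp_of_fischer hsol hperf hD hx hs hodd
    haveI : Nontrivial G := ⟨x, 1, fun e => by simpa [e] using hD.1.1 x hx⟩
    have hsq : ∀ d ∈ D, d * d = 1 := fun d hd => CfsgLib.ThreeTransp.ts_mul_self hD.1 hd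
    letI : Fintype (GaloisField 2 2) := Fintype.ofFinite _
    have hF : Nat.card (GaloisField 2 2) = 4 := GaloisField.card 2 2 two_ne_zero
    obtain ⟨σ, hσ⟩ := CfsgLib.Classical.Unitary.exists_uFrob (q := 2) (hF.trans (by norm_num))
    have hcard : Fintype.card (GaloisField 2 2) = 4 := by rw [← Nat.card_eq_fintype_card]; exact hF
    obtain ⟨⟨k4, -⟩, k5, -⟩ := CfsgLib.ThreeTransp.SolvLocal.su_numbers hF hσ
    rcases CfsgLib.ThreeTransp.SolvLocal.cases_of_hyp hH with ⟨h6, -⟩ | ⟨⟨f, hf, hk, ht, h7⟩, -⟩ | ⟨⟨f, hf, hk, ht⟩, -⟩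
    · exact Or.inr (Or.inl h6)
    · refine Or.inr (Or.inr ⟨GaloisField 2 2, inferInstance, inferInstance, hcard, Or.inl ?_⟩)
      obtain ⟨g, hg, hgk, hgt, hg7⟩ := CfsgLib.ThreeTransp.SolvLocal.model_three hF hσ
      obtain ⟨hS, -, ⟨e⟩⟩ := CfsgLib.ThreeTransp.SolvLocal.su_simple (n := 4) hF (Or.inl rfl)
      haveI := hS
      have hb := CfsgLib.ThreeTransp.SolvLocal.bound_three (fun a => (f a, g a))
        (fun a => Prod.ext (hsq _ (hf a)) (hg a))
        (fun w hw => Prod.ext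
          (((map_list_prod (MonoidHom.fst G (Cfsg.SU 4 (GaloisField 2 2) 2)) _).trans (by rw [List.map_map]; rfl)).trans (hk w hw))
          (((map_list_prod (MonoidHom.snd G (Cfsg.SU 4 (GaloisField 2 2) 2)) _).trans (by rw [List.map_map]; rfl)).trans (hgk w hw)))
        (Prod.ext h7 hg7)
      obtain ⟨e'⟩ := CfsgLib.ThreeTransp.SolvLocal.iso_of_pair ht hgt (by rw [k4]; exact hb)
      exact ⟨e'.trans e.symm⟩
    · refine Or.inr (Or.inr ⟨GaloisField 2 2, inferInstance, inferInstance, hcard, Or.inr ?_⟩)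
      obtain ⟨g, hg, hgk, hgt⟩ := CfsgLib.ThreeTransp.SolvLocal.model_nine hF hσ
      obtain ⟨hS, -, ⟨e⟩⟩ := CfsgLib.ThreeTransp.SolvLocal.su_simple (n := 5) hF (Or.inr rfl)
      haveI := hS
      have hb := CfsgLib.ThreeTransp.SolvLocal.bound_nine (fun a => (f a, g a))
        (fun a => Prod.ext (hsq _ (hf a)) (hg a))
        (fun w hw => Prod.ext
          (((map_list_prod (MonoidHom.fst G (Cfsg.SU 5 (GaloisField 2 2) 2)) _).trans (by rw [List.map_map]; rfl)).trans (hk w hw))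
          (((map_list_prod (MonoidHom.snd G (Cfsg.SU 5 (GaloisField 2 2) 2)) _).trans (by rw [List.map_map]; rfl)).trans (hgk w hw)))
      obtain ⟨e'⟩ := CfsgLib.ThreeTransp.SolvLocal.iso_of_pair ht hgt (by rw [k5]; exact hb)
      exact ⟨e'.trans e.symm⟩

end Cfsg.Agent.S1614
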