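import Cfsg.Statements.S1628
import Cfsg.Agent.Lib.LocalEven.RuRootless

set_option autoImplicit false
open Cfsg

namespace Cfsg.Agent.S1628

open CfsgLib.LocalEven.RuRootless

/-- The Conway–Wales lattice as stored is even with no vectors of true norm 2: stored norms are multiples of 8, never equal to 8, and the minimum over nonzero vectors is 16. -/
theorem result : (∀ x ∈ Cfsg.Spor.ruLattice, (8 : ℤ) ∣ Cfsg.Spor.ruNorm x) ∧ (∀ x ∈ Cfsg.Spor.ruLattice, Cfsg.Spor.ruNorm x ≠ 8) ∧ (∀ x ∈ Cfsg.Spor.ruLattice, x ≠ 0 → 16 ≤ Cfsg.Spor.ruNorm x) ∧ ∃ x ∈ Cfsg.Spor.ruLattice, Cfsg.Spor.ruNorm x = 16 := by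
  have hd : ∀ x ∈ Spor.ruLattice, (8 : ℤ) ∣ Spor.ruNorm x := fun x hx => by
    rw [ruNorm_eq]; exact norm_dvd (mem_lat_of_mem hx)
  have h8 : ∀ x ∈ Spor.ruLattice, Spor.ruNorm x ≠ 8 := fun x hx => by
    rw [ruNorm_eq]; exact sum_ne_eight (mem_lat_of_mem hx)
  refine ⟨hd, h8, fun x hx h0 => ?_, ?_⟩
  · have hne : Spor.ruNorm x ≠ 0 := by
      rw [ruNorm_eq]
      intro h
      refine h0 (funext fun p => ?_)
      have hz := (Finset.sum_eq_zero_iff_of_nonneg fun j _ => mul_self_nonneg (flat x j)).1 h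
      obtain ⟨n, t⟩ := p
      have h1 := mul_self_eq_zero.1 (hz ⟨8 * n + 2 * t, by omega⟩ (Finset.mem_univ _))
      have h2 := mul_self_eq_zero.1 (hz ⟨8 * n + 2 * t + 1, by omega⟩ (Finset.mem_univ _))
      simp only [flat] at h1 h2
      rw [if_pos (by omega)] at h1
      rw [if_neg (by omega)] at h2
      have e1 : (8 * (n : ℕ) + 2 * (t : ℕ)) / 8 = n := by omega
      have e2 : (8 * (n : ℕ) + 2 * (t : ℕ)) % 8 / 2 = t := by omega
      have e3 : (8 * (n : ℕ) + 2 * (t : ℕ) + 1) / 8 = n := by omega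
      have e4 : (8 * (n : ℕ) + 2 * (t : ℕ) + 1) % 8 / 2 = t := by omega
      simp only [e1, e2, e3, e4, Fin.eta] at h1 h2
      exact Zsqrtd.ext h1 h2
    have h1 := hd x hx
    have h2 := h8 x hx
    have h3 : 0 ≤ Spor.ruNorm x := by
      rw [ruNorm_eq]; exact Finset.sum_nonneg fun j _ => mul_self_nonneg _
    omega
  · refine ⟨Spor.ruTable.getD 0 0, ?_, by decide +kernel⟩
    rw [Spor.ruLattice, AddSubgroup.mem_sInf]
    exact fun L hL => hL.1 _ (by decide +kernel)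

end Cfsg.Agent.S1628
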