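import Cfsg.Statements.S1631
import Cfsg.Agent.Lib.ThreeTransp.TranspModels

set_option autoImplicit false
open scoped MatrixGroups
open Cfsg

open CfsgLib.ThreeTransp

namespace Cfsg.Agent.S1631

/-- The unitary transvections of SU(n, 2), n ≥ 4, form a generating conjugacy class of 3-transpositions. -/
theorem result (F : Type) [Field F] [Fintype F] [DecidableEq F] (hF : Fintype.card F = 4) (n : ℕ) (hn : 4 ≤ n) : Cfsg.IsThreeTranspositionClass {g : ↥(Cfsg.SU n F 2) | (((g : Matrix.SpecialLinearGroup (Fin n) F) : Matrix (Fin n) (Fin n) F) - 1).rank = 1} := by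
  have hF4 : Nat.card F = 4 := by rw [Nat.card_eq_fintype_card, hF]
  obtain ⟨σ, hσ⟩ := CfsgLib.Classical.Unitary.exists_uFrob (F := F) (q := 2) (by rw [hF4]; rfl)
  exact CfsgLib.ThreeTransp.Models.su_class hF4 hσ hn

end Cfsg.Agent.S1631
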