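import Cfsg.Statements.S1632
import Mathlib
import Cfsg.Agent.Lib.Lattice.ThetaForm

set_option autoImplicit false
open Matrix
set_option linter.style.haveILetI false
open Cfsg

namespace Cfsg.Agent.S1632
open UpperHalfPlane ModularForm CfsgLib.Lattice
open scoped MatrixGroups ArithmeticFunction.sigma

/-- The level one form `7/12 E₄³ + 5/12 E₆²` of weight `12`. -/
noncomputable def eis : ModularForm 𝒮ℒ ((12 : ℕ) : ℤ) :=
  (7 / 12 : ℂ) • ModularForm.mcast (b := ((12 : ℕ) : ℤ)) (by norm_num)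
      ((ModularForm.E (show 3 ≤ 4 by norm_num)).pow 3)
    + (5 / 12 : ℂ) • ModularForm.mcast (b := ((12 : ℕ) : ℤ)) (by norm_num)
      ((ModularForm.E (show 3 ≤ 6 by norm_num)).pow 2)

theorem eis_coeff (m : ℕ) : (qExpansion 1 eis).coeff m =
    (7 / 12 : ℂ) * ((qExpansion 1 (ModularForm.E (show 3 ≤ 4 by norm_num))) ^ 3).coeff m
    + (5 / 12 : ℂ) * ((qExpansion 1 (ModularForm.E (show 3 ≤ 6 by norm_num))) ^ 2).coeff m := by
  have h1 := one_mem_strictPeriods_SL
  rw [eis, FunLike.coe_add, ModularForm.qExpansion_add one_pos h1, map_add, FunLike.coe_smul,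
    FunLike.coe_smul, ModularForm.qExpansion_smul one_pos h1, ModularForm.qExpansion_smul one_pos h1,
    ModularForm.qExpansion_mcast, ModularForm.qExpansion_mcast, ModularForm.qExpansion_pow one_pos h1,
    ModularForm.qExpansion_pow one_pos h1, PowerSeries.coeff_smul, PowerSeries.coeff_smul]
  rfl

theorem e4_coeff : ∀ m ≤ 4, (qExpansion 1 (ModularForm.E (show 3 ≤ 4 by norm_num))).coeff m
    = [(1 : ℂ), 240, 2160, 6720, 17520].getD m 0 := by
  intro m hm
  rw [EisensteinSeries.E_qExpansion_coeff _ ⟨2, rfl⟩, show bernoulli 4 = -1 / 30 by decide +kernel]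
  interval_cases m
  · simp
  · rw [show σ (4 - 1) 1 = 1 by decide +kernel]; norm_num
  · rw [show σ (4 - 1) 2 = 9 by decide +kernel]; norm_num
  · rw [show σ (4 - 1) 3 = 28 by decide +kernel]; norm_num
  · rw [show σ (4 - 1) 4 = 73 by decide +kernel]; norm_num

theorem e6_coeff : ∀ m ≤ 4, (qExpansion 1 (ModularForm.E (show 3 ≤ 6 by norm_num))).coeff m
    = [(1 : ℂ), -504, -16632, -122976, -532728].getD m 0 := by
  intro m hm
  rw [EisensteinSeries.E_qExpansion_coeff _ ⟨3, rfl⟩, show bernoulli 6 = 1 / 42 by decide +kernel]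
  interval_cases m
  · simp
  · rw [show σ (6 - 1) 1 = 1 by decide +kernel]; norm_num
  · rw [show σ (6 - 1) 2 = 33 by decide +kernel]; norm_num
  · rw [show σ (6 - 1) 3 = 244 by decide +kernel]; norm_num
  · rw [show σ (6 - 1) 4 = 1057 by decide +kernel]; norm_num

theorem eis_values : ∀ m ≤ 4,
    (qExpansion 1 eis).coeff m = [(1 : ℂ), 0, 196560, 16773120, 398034000].getD m 0 := by
  intro m hm
  rw [eis_coeff]
  interval_cases m <;>
    simp only [pow_succ, pow_zero, one_mul, PowerSeries.coeff_mul,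
      Finset.Nat.sum_antidiagonal_eq_sum_range_succ_mk, Finset.sum_range_succ,
      Finset.sum_range_zero, zero_add, Nat.reduceSub, Nat.succ_eq_add_one, Nat.sub_zero,
      Nat.reduceAdd] <;>
    norm_num [e4_coeff, e6_coeff, -PowerSeries.coeff_zero_eq_constantCoeff]


/-- An even unimodular lattice of rank 24 without roots has 196560, 16773120 and 398034000 vectors of norms 4, 6 and 8. -/
theorem result (B : Matrix (Fin 24) (Fin 24) ℤ) (hsymm : B.IsSymm) (hpos : ∀ x : Fin 24 → ℤ, x ≠ 0 → 0 < x ⬝ᵥ (B *ᵥ x)) (heven : ∀ x : Fin 24 → ℤ, (2 : ℤ) ∣ x ⬝ᵥ (B *ᵥ x)) (hdet : B.det = 1) (h2 : ∀ x : Fin 24 → ℤ, x ⬝ᵥ (B *ᵥ x) ≠ 2) : {x : Fin 24 → ℤ | x ⬝ᵥ (B *ᵥ x) = 4}.ncard = 196560 ∧ {x : Fin 24 → ℤ | x ⬝ᵥ (B *ᵥ x) = 6}.ncard = 16773120 ∧ {x : Fin 24 → ℤ | x ⬝ᵥ (B *ᵥ x) = 8}.ncard = 398034000 := by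
  have h : EvenUnimodular B := ⟨hsymm, hpos, heven, hdet⟩
  set F := thetaForm h (k := 12) (by norm_num) (by norm_num)
  have hF : F - eis = 0 := by
    apply ModularForm.sturm_bound_levelOne
    apply lt_of_lt_of_le (b := ((2 : ℕ) : ℕ∞)) (Nat.cast_lt.2 (by decide))
    refine PowerSeries.nat_le_order _ _ fun i hi => ?_
    rw [FunLike.coe_sub, ModularForm.qExpansion_sub one_pos one_mem_strictPeriods_SL, map_sub,
      thetaForm_coeff, eis_values i (by omega)]
    interval_cases i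
    · simp [normCount_zero h]
    · have : normCount B 1 = 0 := by simp [normCount, h2]
      simp [this]
  have key : ∀ m ≤ 4, (normCount B m : ℂ) = [(1 : ℂ), 0, 196560, 16773120, 398034000].getD m 0 := by
    intro m hm
    rw [← eis_values m hm, ← thetaForm_coeff h (k := 12) (by norm_num) (by norm_num), ← sub_eq_zero.1 hF]
  have k2 := key 2 (by norm_num)
  have k3 := key 3 (by norm_num)
  have k4 := key 4 (by norm_num)
  norm_num at k2 k3 k4
  exact ⟨by exact_mod_cast k2, by exact_mod_cast k3, by exact_mod_cast k4⟩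


end Cfsg.Agent.S1632
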