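import Cfsg.Statements.S1633
import Cfsg.Agent.Lib.Spor.HSUnitary.Main
import Cfsg.Agent.Lib.Spor.Co0Split

set_option autoImplicit false
open Cfsg CfsgLib.Spor

namespace Cfsg.Agent.S1633

/-- The Higman–Sims group acts transitively on 352 vectors, a set closed under x ↦ −w − x, with vector stabiliser isomorphic to PSU(3, 5). -/
theorem result (v w : ↥Cfsg.leechLattice) (hv : Cfsg.sqNorm (v : Cfsg.GolayPt → ℤ) = 48) (hw : Cfsg.sqNorm (w : Cfsg.GolayPt → ℤ) = 48) (hvw : Cfsg.dotInt (v : Cfsg.GolayPt → ℤ) (w : Cfsg.GolayPt → ℤ) = -32) (F : Type) [Field F] [Fintype F] (hF : Fintype.card F = 25) : {x : ↥Cfsg.leechLattice | Cfsg.sqNorm (x : Cfsg.GolayPt → ℤ) = 32 ∧ Cfsg.dotInt (v : Cfsg.GolayPt → ℤ) (x : Cfsg.GolayPt → ℤ) = 16 ∧ Cfsg.dotInt (w : Cfsg.GolayPt → ℤ) (x : Cfsg.GolayPt → ℤ) = -24}.ncard = 352 ∧ (∀ x ∈ {x : ↥Cfsg.leechLattice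 | Cfsg.sqNorm (x : Cfsg.GolayPt → ℤ) = 32 ∧ Cfsg.dotInt (v : Cfsg.GolayPt → ℤ) (x : Cfsg.GolayPt → ℤ) = 16 ∧ Cfsg.dotInt (w : Cfsg.GolayPt → ℤ) (x : Cfsg.GolayPt → ℤ) = -24}, -w - x ∈ {x : ↥Cfsg.leechLattice | Cfsg.sqNorm (x : Cfsg.GolayPt → ℤ) = 32 ∧ Cfsg.dotInt (v : Cfsg.GolayPt → ℤ) (x : Cfsg.GolayPt → ℤ) = 16 ∧ Cfsg.dotInt (w : Cfsg.GolayPt → ℤ) (x : Cfsg.GolayPt → ℤ) = -24}) ∧ (∀ x ∈ {x : ↥Cfsg.leechLattice | Cfsg.sqNorm (x : Cfsg.GolayPt → ℤ) = 32 ∧ Cfsg.dotInt (v : Cfsg.GolayPt → ℤ) (x : Cfsg.GolayPt → ℤ) = 16 ∧ Cfsg.dotInt (w : Cfsg.GolayPt → ℤ) (x : Cfsg.GolayPt → ℤ) = -24}, ∀ x' ∈ {x : ↥Cfsg.leechLattice | Cfsg.sqNorm (x : Cfsg.GolayPt → ℤ) = 32 ∧ Cfsg.dotInt (v : Cfsg.GolayPt → ℤ) (x : Cfsg.GolayPt → ℤ) = 16 ∧ Cfsg.dotInt (w : Cfsg.GolayPt → ℤ) (x : Cfsg.GolayPt → ℤ) = -24}, ∃ g : ↥Cfsg.Co0, g • v = v ∧ g • w =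 w ∧ g • x = x') ∧ ∀ x ∈ {x : ↥Cfsg.leechLattice | Cfsg.sqNorm (x : Cfsg.GolayPt → ℤ) = 32 ∧ Cfsg.dotInt (v : Cfsg.GolayPt → ℤ) (x : Cfsg.GolayPt → ℤ) = 16 ∧ Cfsg.dotInt (w : Cfsg.GolayPt → ℤ) (x : Cfsg.GolayPt → ℤ) = -24}, Nonempty (↥(MulAction.stabilizer ↥Cfsg.Co0 v ⊓ MulAction.stabilizer ↥Cfsg.Co0 w ⊓ MulAction.stabilizer ↥Cfsg.Co0 x) ≃* Cfsg.PSU 3 F 5) := by
  have hset : {x : ↥Cfsg.leechLattice | Cfsg.sqNorm (x : Cfsg.GolayPt → ℤ) = 32 ∧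
      Cfsg.dotInt (v : Cfsg.GolayPt → ℤ) (x : Cfsg.GolayPt → ℤ) = 16 ∧
      Cfsg.dotInt (w : Cfsg.GolayPt → ℤ) (x : Cfsg.GolayPt → ℤ) = -24} =
      Config.cfgSet [(v, 16), (w, -24)] := Set.ext fun x => Config.mem_cfgSet_two.symm
  rw [hset]
  refine ⟨?_, fun x hx => ?_, fun x hx x' hx' => ?_, fun x hx => ?_⟩
  · obtain ⟨g, h1, h2⟩ := HSConfig.exists_std_pair hv hw hvw
    rw [← Config.ncard_cfgSet_smul g, List.map_cons, List.map_cons, List.map_nil, h1, h2,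
      HSUnitary.ncard_352]
  · obtain ⟨hn, h1, h2⟩ := Config.mem_cfgSet_two.1 hx
    have e : ((-w - x : ↥Cfsg.leechLattice) : Cfsg.GolayPt → ℤ) =
        -(w : Cfsg.GolayPt → ℤ) - (x : Cfsg.GolayPt → ℤ) := rfl
    have hneg : ∀ a b : Cfsg.GolayPt → ℤ, Cfsg.dotInt (-a) b = -Cfsg.dotInt a b := fun a b => by
      simp [Cfsg.dotInt]
    have hnn : Cfsg.sqNorm (-(w : Cfsg.GolayPt → ℤ)) = 48 := by
      rw [← hw]; simp [Cfsg.sqNorm]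
    refine Config.mem_cfgSet_two.2 ⟨?_, ?_, ?_⟩ <;> rw [e]
    · rw [Config.sqNorm_sub, hnn, hn, hneg, h2]; norm_num
    · rw [Config.dot_comm, Config.dot_sub_left, hneg,
        Config.dot_comm (x : Cfsg.GolayPt → ℤ), h1,
        Config.dot_comm (w : Cfsg.GolayPt → ℤ), hvw]
      norm_num
    · rw [Config.dot_comm, Config.dot_sub_left, hneg,
        Config.dot_comm (x : Cfsg.GolayPt → ℤ), h2, Config.dot_self, hw]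
      norm_num
  · obtain ⟨a, a1, a2, a3⟩ := HSUnitary.exists_std_352 hv hw hvw hx
    obtain ⟨b, b1, b2, b3⟩ := HSUnitary.exists_std_352 hv hw hvw hx'
    exact ⟨b⁻¹ * a, Config.smul_eq_of_eq a1 b1, Config.smul_eq_of_eq a2 b2,
      Config.smul_eq_of_eq a3 b3⟩
  · obtain ⟨g, h1, h2, h3⟩ := HSUnitary.exists_std_352 hv hw hvw hx
    obtain ⟨e⟩ := HSUnitary.stab352_equiv hF
    have hm : (MulAction.stabilizer ↥Cfsg.Co0 v ⊓ MulAction.stabilizer ↥Cfsg.Co0 w ⊓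
        MulAction.stabilizer ↥Cfsg.Co0 x).map (MulAut.conj g).toMonoidHom =
        HSUnitary.stab352 := by
      ext k
      rw [Subgroup.mem_map_equiv]
      simp only [Subgroup.mem_inf, Config.mem_stabilizer_conj h1, Config.mem_stabilizer_conj h2,
        Config.mem_stabilizer_conj h3, MulAut.conj_symm_apply]
      simp [mul_assoc]
    exact ⟨((MulAut.conj g).subgroupMap _).trans ((MulEquiv.subgroupCongr hm).trans e)⟩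

end Cfsg.Agent.S1633
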