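import Cfsg.Statements.S1634
import Cfsg.Agent.Lib.Spor.Co0Split
import Cfsg.Agent.Lib.Spor.McLConfig

set_option autoImplicit false
open Cfsg CfsgLib.Spor

namespace Cfsg.Agent.S1634

/-- The McLaughlin group acts on 2025 points (minimal vectors orthogonal to v with customary inner product 2 with w) transitively with rank 4 and subdegrees 1, 330, 462, 1232. -/
theorem result (v w : ↥Cfsg.leechLattice) (hv : Cfsg.sqNorm (v : Cfsg.GolayPt → ℤ) = 32) (hw : Cfsg.sqNorm (w : Cfsg.GolayPt → ℤ) = 32) (hvw : Cfsg.dotInt (v : Cfsg.GolayPt → ℤ) (w : Cfsg.GolayPt → ℤ) = -8) : {x : ↥Cfsg.leechLattice | Cfsg.sqNorm (x : Cfsg.GolayPt → ℤ) = 32 ∧ Cfsg.dotInt (v : Cfsg.GolayPt → ℤ) (x : Cfsg.GolayPt → ℤ) = 0 ∧ Cfsg.dotInt (w : Cfsg.GolayPt → ℤ) (x : Cfsg.GolayPt → ℤ) = 16}.ncard = 2025 ∧ (∀ x ∈ {x : ↥Cfsg.leechLattice | Cfsg.sqNorm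 (x : Cfsg.GolayPt → ℤ) = 32 ∧ Cfsg.dotInt (v : Cfsg.GolayPt → ℤ) (x : Cfsg.GolayPt → ℤ) = 0 ∧ Cfsg.dotInt (w : Cfsg.GolayPt → ℤ) (x : Cfsg.GolayPt → ℤ) = 16}, ∀ x' ∈ {x : ↥Cfsg.leechLattice | Cfsg.sqNorm (x : Cfsg.GolayPt → ℤ) = 32 ∧ Cfsg.dotInt (v : Cfsg.GolayPt → ℤ) (x : Cfsg.GolayPt → ℤ) = 0 ∧ Cfsg.dotInt (w : Cfsg.GolayPt → ℤ) (x : Cfsg.GolayPt → ℤ) = 16}, ∃ g : ↥Cfsg.Co0, g • v = v ∧ g • w = w ∧ g • x = x') ∧ ∀ x ∈ {x : ↥Cfsg.leechLattice | Cfsg.sqNorm (x : Cfsg.GolayPt → ℤ) = 32 ∧ Cfsg.dotInt (v : Cfsg.GolayPt → ℤ) (x : Cfsg.GolayPt → ℤ) = 0 ∧ Cfsg.dotInt (w : Cfsg.GolayPt → ℤ) (x : Cfsg.GolayPt → ℤ) = 16}, ∃ y₁ ∈ {x : ↥Cfsg.leechLattice | Cfsg.sqNorm (x : Cfsg.GolayPt → ℤ) = 32 ∧ Cfsg.dotInt (v : Cfsg.GolayPt → ℤ) (x : Cfsg.GolayPt → ℤ) = 0 ∧ Cfsg.dotInt (w : Cfsg.GolayPt → ℤ) (x : Cfsg.GolayPt → ℤ) =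 16}, ∃ y₂ ∈ {x : ↥Cfsg.leechLattice | Cfsg.sqNorm (x : Cfsg.GolayPt → ℤ) = 32 ∧ Cfsg.dotInt (v : Cfsg.GolayPt → ℤ) (x : Cfsg.GolayPt → ℤ) = 0 ∧ Cfsg.dotInt (w : Cfsg.GolayPt → ℤ) (x : Cfsg.GolayPt → ℤ) = 16}, ∃ y₃ ∈ {x : ↥Cfsg.leechLattice | Cfsg.sqNorm (x : Cfsg.GolayPt → ℤ) = 32 ∧ Cfsg.dotInt (v : Cfsg.GolayPt → ℤ) (x : Cfsg.GolayPt → ℤ) = 0 ∧ Cfsg.dotInt (w : Cfsg.GolayPt → ℤ) (x : Cfsg.GolayPt → ℤ) = 16}, (MulAction.orbit ↥(MulAction.stabilizer ↥Cfsg.Co0 v ⊓ MulAction.stabilizer ↥Cfsg.Co0 w ⊓ MulAction.stabilizer ↥Cfsg.Co0 x) y₁).ncard = 330 ∧ (MulAction.orbit ↥(MulAction.stabilizer ↥Cfsg.Co0 v ⊓ MulAction.stabilizer ↥Cfsg.Co0 w ⊓ MulAction.stabilizer ↥Cfsg.Co0 x) y₂).ncard = 462 ∧ (MulAction.orbit ↥(MulAction.stabilizer ↥Cfsg.Co0 v ⊓ MulAction.stabilizer ↥Cfsg.Co0 w ⊓ MulAction.stabilizer ↥Cfsg.Co0 x) y₃).ncard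 = 1232 := by
  have hset : {x : ↥Cfsg.leechLattice | Cfsg.sqNorm (x : Cfsg.GolayPt → ℤ) = 32 ∧
      Cfsg.dotInt (v : Cfsg.GolayPt → ℤ) (x : Cfsg.GolayPt → ℤ) = 0 ∧
      Cfsg.dotInt (w : Cfsg.GolayPt → ℤ) (x : Cfsg.GolayPt → ℤ) = 16} =
      Config.cfgSet [(v, 0), (w, 16)] := Set.ext fun x => Config.mem_cfgSet_two.symm
  rw [hset]
  refine ⟨?_, fun x hx x' hx' => ?_, fun x hx => ?_⟩
  · obtain ⟨g, h1, h2⟩ := McLConfig.exists_std hv hw hvw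
    rw [← Config.ncard_cfgSet_smul g, List.map_cons, List.map_cons, List.map_nil, h1, h2,
      McLConfig.ncard_2025]
  · obtain ⟨a, a1, a2, a3⟩ := McLConfig.exists_std_2025 hv hw hvw hx
    obtain ⟨b, b1, b2, b3⟩ := McLConfig.exists_std_2025 hv hw hvw hx'
    exact ⟨b⁻¹ * a, Config.smul_eq_of_eq a1 b1, Config.smul_eq_of_eq a2 b2,
      Config.smul_eq_of_eq a3 b3⟩
  · obtain ⟨g, h1, h2, h3⟩ := McLConfig.exists_std_2025 hv hw hvw hx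
    have key : ∀ i, g⁻¹ • McLConfig.q2025 i ∈ Config.cfgSet [(v, 0), (w, 16)] ∧
        (MulAction.orbit ↥(MulAction.stabilizer ↥Cfsg.Co0 v ⊓ MulAction.stabilizer ↥Cfsg.Co0 w ⊓
          MulAction.stabilizer ↥Cfsg.Co0 x) (g⁻¹ • McLConfig.q2025 i)).ncard =
          ![462, 330, 1232] i := fun i => by
      have hq := (McLConfig.classes_2025.1 i).1 ▸ MulAction.mem_orbit_self (M := McLConfig.stab2025)
        (McLConfig.q2025 i)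
      refine ⟨Config.mem_cfgSet_smul (g := g) ?_, ?_⟩
      · simp only [List.map_cons, List.map_nil, smul_inv_smul, h1, h2]
        exact Config.mem_cfgSet_two.2 ⟨hq.1, hq.2 (ShortPairs.v0, 0) (by simp),
          hq.2 (McLConfig.ce, 16) (by simp)⟩
      · rw [Config.ncard_orbit_conj (L := McLConfig.stab2025) g (fun k => ?_), smul_inv_smul,
          (McLConfig.classes_2025.1 i).1, (McLConfig.classes_2025.1 i).2]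
        simp only [Subgroup.mem_inf, ← Config.mem_stabilizer_conj h1, ← Config.mem_stabilizer_conj h2,
          ← Config.mem_stabilizer_conj h3]
    exact ⟨_, (key 1).1, _, (key 0).1, _, (key 2).1, (key 1).2, (key 0).2, (key 2).2⟩

end Cfsg.Agent.S1634
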