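import Cfsg.Agent.Lib.Spor.OrbitBases
import Cfsg.Agent.Lib.Spor.Orb.Pt2Pair
import Cfsg.Agent.Lib.Spor.Orb.Duad22
import Cfsg.Statements.S1638

set_option autoImplicit false
open scoped Pointwise
open Cfsg CfsgLib.Spor

namespace Cfsg.Agent.S1638

/-- Fix two points p ≠ q and a pair s of two further points. Among the pairs avoiding p, q and disjoint from s, exactly 30 lie in an octad together with p, q and s and exactly 160 do not; and any two pairs other than s that meet s in equally many points and agree on that octad property are carried to one another by an element of the group of the length-24 code fixing p, q and s. -/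
theorem result (p q : Cfsg.GolayPt) (hpq : p ≠ q) (s : Finset Cfsg.GolayPt) (hs : (s.card = 2 ∧ p ∉ s ∧ q ∉ s)) : {t : Finset Cfsg.GolayPt | (t.card = 2 ∧ p ∉ t ∧ q ∉ t) ∧ Disjoint s t ∧ (∃ o ∈ Cfsg.octads, p ∈ o ∧ q ∈ o ∧ s ∪ t ⊆ o)}.ncard = 30 ∧ {t : Finset Cfsg.GolayPt | (t.card = 2 ∧ p ∉ t ∧ q ∉ t) ∧ Disjoint s t ∧ ¬ (∃ o ∈ Cfsg.octads, p ∈ o ∧ q ∈ o ∧ s ∪ t ⊆ o)}.ncard = 160 ∧ ∀ t t' : Finset Cfsg.GolayPt, (t.card = 2 ∧ p ∉ t ∧ q ∉ t) → (t'.card = 2 ∧ p ∉ t' ∧ q ∉ t') → t ≠ s → t' ≠ s → (s ∩ t).card = (s ∩ t').card → ((∃ o ∈ Cfsg.octads, p ∈ o ∧ q ∈ o ∧ s ∪ t ⊆ o) ↔ (∃ o ∈ Cfsg.octads, p ∈ o ∧ q ∈ o ∧ s ∪ t' ⊆ o)) → ∃ g : Equiv.Perm Cfsg.GolayPt, g ∈ Cfsg.M24 ∧ g p = p ∧ g q = q ∧ g • s = s ∧ g • t = t' := by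
  obtain ⟨hs2, hps, hqs⟩ := hs
  obtain ⟨g0, hg0, hgp, hgq⟩ := exists_base_two hpq
  obtain ⟨g, hg, hfix, hb, -⟩ := pairK.exists_base_step (mk := fun x => x) (fun _ => rfl) (ms := [1, 2])
    (show pairK.splitOK (singles [1, 2]) pt2PairGens pt2PairCls = true from pt2Pair_ok) hg0
    (i := 5) (by decide +kernel) (b := 12) (show toSet (getT 24 pairTbl 5) = toSet 12 by decide +kernel)
    (show s ∈ {s : Finset GolayPt | s.card = 2} from hs2) (by
      simp only [meetsAt, List.map_cons, List.map_nil, hgp, hgq]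
      rw [(card_pt_inter_zero p s).2 hps, (card_pt_inter_zero q s).2 hqs]
      decide +kernel)
  have hp' : g • toSet 1 = {p} := (hfix 1 (by simp)).trans hgp
  have hq' : g • toSet 2 = {q} := (hfix 2 (by simp)).trans hgq
  subst hb
  let key : ℕ → List ℕ := fun i => [pop (1 &&& getT 24 pairTbl i), pop (2 &&& getT 24 pairTbl i),
    pop (12 &&& getT 24 pairTbl i), if octCover (15 ||| getT 24 pairTbl i) then 1 else 0]
  have hk : pairK.keyOK duad22L key duad22Cls = true := by decide +kernel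
  have hlt : ∀ i, 15 ||| getT 24 pairTbl i < 16777216 := fun i =>
    Nat.or_lt_two_pow (n := 24) (by norm_num) (getT24_lt _ _)
  have hA : ∀ a i, ((g • toSet a) ∩ (g • toSet (getT 24 pairTbl i))).card =
      pop (a &&& getT 24 pairTbl i) := fun a i => by
    rw [← Finset.smul_finset_inter, Finset.card_smul_finset, ← toSet_and, card_toSet]
  have hP : ∀ i, p ∉ g • toSet (getT 24 pairTbl i) ↔ pop (1 &&& getT 24 pairTbl i) = 0 := fun i => by
    rw [← card_pt_inter_zero, ← hp', hA]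
  have hQ : ∀ i, q ∉ g • toSet (getT 24 pairTbl i) ↔ pop (2 &&& getT 24 pairTbl i) = 0 := fun i => by
    rw [← card_pt_inter_zero, ← hq', hA]
  have hD : ∀ i, Disjoint (g • toSet 12) (g • toSet (getT 24 pairTbl i)) ↔
      pop (12 &&& getT 24 pairTbl i) = 0 := fun i => by
    rw [← hA, Finset.disjoint_iff_inter_eq_empty, ← Finset.card_eq_zero]
  have hE : ∀ i, (∃ o ∈ octads, p ∈ o ∧ q ∈ o ∧ g • toSet 12 ∪ g • toSet (getT 24 pairTbl i) ⊆ o) ↔
      octCover (15 ||| getT 24 pairTbl i) = true := fun i => by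
    rw [← exists_octad_superset (hlt i), ← exists_octad_smul hg, toSet_or,
      show toSet 15 = toSet 1 ∪ toSet 2 ∪ toSet 12 by decide +kernel]
    simp only [Finset.smul_finset_union, hp', hq', Finset.union_subset_iff,
      Finset.singleton_subset_iff, and_assoc]
  have hcount : ∀ (P : Prop → Prop) (k : ℕ),
      (∀ b : Bool, P (b = true) ↔ (if b then 1 else 0) = k) →
      {t : Finset GolayPt | (t.card = 2 ∧ p ∉ t ∧ q ∉ t) ∧ Disjoint (g • toSet 12) t ∧
        P (∃ o ∈ octads, p ∈ o ∧ q ∈ o ∧ g • toSet 12 ∪ t ⊆ o)}.ncard =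
      (classList 276 fun i => decide (key i = [0, 0, 0, k])).length := fun P k hPk => by
    let Q : Finset GolayPt → Prop := fun t => (p ∉ t ∧ q ∉ t) ∧ Disjoint (g • toSet 12) t ∧
        P (∃ o ∈ octads, p ∈ o ∧ q ∈ o ∧ g • toSet 12 ∪ t ⊆ o)
    refine Eq.trans (congrArg Set.ncard ?_) ((ncard_setOf_smul hg pairK (P := Q)
      (Q := fun t => Q (g • t)) fun _ => Iff.rfl).trans
        (pairK.ix.ncard_setOf (P := fun t => Q (g • t)) fun i _ => ?_))
    · ext t; simp [Q, and_assoc]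
    show _ ↔ (p ∉ g • toSet (getT 24 pairTbl i) ∧ q ∉ g • toSet (getT 24 pairTbl i)) ∧
      Disjoint _ (g • toSet (getT 24 pairTbl i)) ∧
      P (∃ o ∈ octads, p ∈ o ∧ q ∈ o ∧ _ ∪ g • toSet (getT 24 pairTbl i) ⊆ o)
    rw [decide_eq_true_eq, hP i, hQ i, hD i, propext (hE i), hPk]
    simp only [key, List.cons.injEq, and_true, and_assoc]
  refine ⟨?_, ?_, fun t t' ht ht' _ _ hcard hiff => ?_⟩
  · exact (hcount id 1 (fun b => by cases b <;> simp)).trans (by decide +kernel)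
  · exact (hcount Not 0 (fun b => by cases b <;> simp)).trans (by decide +kernel)
  obtain ⟨i, hi, hie⟩ := pairK.ix.complete (g⁻¹ • t) (pairK.smul_mem _ (inv_mem hg) _ ht.1)
  obtain ⟨j, hj, hje⟩ := pairK.ix.complete (g⁻¹ • t') (pairK.smul_mem _ (inv_mem hg) _ ht'.1)
  have hit : g • toSet (getT 24 pairTbl i) = t := (congrArg (g • ·) hie).trans (smul_inv_smul g t)
  have hjt : g • toSet (getT 24 pairTbl j) = t' := (congrArg (g • ·) hje).trans (smul_inv_smul g t')
  subst hit hjt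
  rw [hE i, hE j, Bool.eq_iff_iff.symm] at hiff
  rw [hA, hA] at hcard
  obtain ⟨m, hm, hme⟩ := pairK.exists_map_key duad22_ok hk hi hj (by
    simp only [key]; rw [(hP i).1 ht.2.1, (hP j).1 ht'.2.1, (hQ i).1 ht.2.2, (hQ j).1 ht'.2.2, hcard, hiff])
  have hf : ∀ a, [a] ∈ duad22L → (g * m * g⁻¹) • (g • toSet a) = g • toSet a := fun a ha => by
    rw [mul_smul, mul_smul, inv_smul_smul]
    exact congrArg (g • ·) ((singleton_smul_iff m _).1 (hm.2 [a] ha))
  refine ⟨g * m * g⁻¹, mul_mem (mul_mem hg hm.1) (inv_mem hg), (smul_pt_eq_iff _ p).1 ?_,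
    (smul_pt_eq_iff _ q).1 ?_, hf 12 (by decide +kernel), ?_⟩
  · rw [← hp']; exact hf 1 (by decide +kernel)
  · rw [← hq']; exact hf 2 (by decide +kernel)
  · rw [mul_smul, mul_smul, inv_smul_smul]
    exact congrArg (g • ·) hme

end Cfsg.Agent.S1638
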