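import Cfsg.Agent.Lib.Spor.OrbitBases
import Cfsg.Agent.Lib.Spor.Orb.Pt1Dod
import Cfsg.Agent.Lib.Spor.Orb.Dod23
import Cfsg.Statements.S1639

set_option autoImplicit false
open scoped Pointwise
open Cfsg CfsgLib.Spor

namespace Cfsg.Agent.S1639

/-- The point stabiliser acts on the 1288 dodecads through the point with rank 4 and subdegrees 1, 165, 330, 792, distinguished by intersection 4, 8, 6 with the fixed dodecad. -/
theorem result (x : Cfsg.GolayPt) (d : Finset Cfsg.GolayPt) (hd : d ∈ Cfsg.dodecads) (hx : x ∈ d) : {d' : Finset Cfsg.GolayPt | d' ∈ Cfsg.dodecads ∧ x ∈ d' ∧ (d ∩ d').card = 4}.ncard = 165 ∧ {d' : Finset Cfsg.GolayPt | d' ∈ Cfsg.dodecads ∧ x ∈ d' ∧ (d ∩ d').card = 8}.ncard = 330 ∧ {d' : Finset Cfsg.GolayPt | d' ∈ Cfsg.dodecads ∧ x ∈ d' ∧ (d ∩ d').card = 6}.ncard = 792 ∧ ∀ d' d'' : Finset Cfsg.GolayPt, d' ∈ Cfsg.dodecads → d'' ∈ Cfsg.dodecads → x ∈ d' → x ∈ d'' → (d ∩ d').card = (d ∩ d'').card → ∃ g : Equiv.Perm Cfsg.GolayPt,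 g ∈ Cfsg.M24 ∧ g x = x ∧ g • d = d ∧ g • d' = d'' := by
  obtain ⟨g, hg, hgx⟩ := exists_base_pt x
  obtain ⟨g', hg', hfix, hb, -⟩ := dodK.exists_base_step (mk := fun x => x) dodK_fam (ms := [1])
    (show dodK.splitOK (singles [1]) pt1DodGens pt1DodCls = true from pt1Dod_ok) hg
    (i := 0) (by decide +kernel) (b := getT 24 dodTbl 0) rfl hd (by
      simp only [meetsAt, List.map_cons, List.map_nil, hgx]
      rw [(card_pt_inter_one x d).2 hx]
      decide +kernel)
  have hx' : g' • toSet 1 = {x} := (hfix 1 (by simp)).trans hgx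
  have hsplit : dodK.splitOK (singles [1, getT 24 dodTbl 0]) dod23Gens dod23Cls = true := by
    rw [show singles [1, getT 24 dodTbl 0] = dod23L by decide +kernel]; exact dod23_ok
  have hM : ∀ y, meetsAt g' [1, getT 24 dodTbl 0] y =
      [(({x} : Finset GolayPt) ∩ y).card, (d ∩ y).card] := fun y => by
    simp only [meetsAt, List.map_cons, List.map_nil, hx', hb]
  have hc : ∀ k, {y : Finset GolayPt | y ∈ dodecads ∧ x ∈ y ∧ (d ∩ y).card = k}.ncard =
      (meetCls 2576 (getT 24 dodTbl) [1, getT 24 dodTbl 0] [1, k]).length := fun k => by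
    refine Eq.trans ?_ (dodK.ncard_meets (mk := fun x => x) dodK_fam dodK_mask _ [1, k] hg')
    refine congrArg Set.ncard ?_
    ext y
    simp only [Set.mem_ofPred_eq, List.cons.injEq, and_true, and_assoc, hM, card_pt_inter_one]
  refine ⟨(hc 4).trans (by decide +kernel), (hc 8).trans (by decide +kernel), (hc 6).trans (by decide +kernel), fun d' d'' h1 h2 h3 h4 h => ?_⟩
  obtain ⟨m, hm, hmf, hme⟩ := dodK.exists_map_meets (mk := fun x => x) dodK_fam hsplit hg' h1 h2 (by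
    simp [hM, card_pt_inter, h3, h4, h])
  refine ⟨m, hm, (smul_pt_eq_iff m x).1 ?_, ?_, hme⟩
  · rw [← hx']; exact hmf 1 (by simp)
  · rw [← hb]; exact hmf _ (by simp)

end Cfsg.Agent.S1639
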