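import Cfsg.Statements.S1640
import Cfsg.Agent.Lib.Spor.HSConfig

set_option autoImplicit false
open Cfsg CfsgLib.Spor

namespace Cfsg.Agent.S1640

/-- The stabiliser of a vector of customary norm 6 is transitive on the 11178 minimal vectors of customary inner product −2 with it. -/
theorem result (u : ↥Cfsg.leechLattice) (hu : Cfsg.sqNorm (u : Cfsg.GolayPt → ℤ) = 48) : {x : ↥Cfsg.leechLattice | Cfsg.sqNorm (x : Cfsg.GolayPt → ℤ) = 32 ∧ Cfsg.dotInt (u : Cfsg.GolayPt → ℤ) (x : Cfsg.GolayPt → ℤ) = -16}.ncard = 11178 ∧ ∀ x ∈ {x : ↥Cfsg.leechLattice | Cfsg.sqNorm (x : Cfsg.GolayPt → ℤ) = 32 ∧ Cfsg.dotInt (u : Cfsg.GolayPt → ℤ) (x : Cfsg.GolayPt → ℤ) = -16}, ∀ x' ∈ {x : ↥Cfsg.leechLattice | Cfsg.sqNorm (x : Cfsg.GolayPt → ℤ) = 32 ∧ Cfsg.dotInt (u : Cfsg.GolayPt → ℤ) (x : Cfsg.GolayPt → ℤ) = -16}, ∃ g : ↥Cfsg.Co0, g • u = u ∧ g • x = x' := by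
  have hset : {x : ↥Cfsg.leechLattice | Cfsg.sqNorm (x : Cfsg.GolayPt → ℤ) = 32 ∧
      Cfsg.dotInt (u : Cfsg.GolayPt → ℤ) (x : Cfsg.GolayPt → ℤ) = -16} =
      Config.cfgSet [(u, -16)] := Set.ext fun x => Config.mem_cfgSet_one.symm
  rw [hset]
  refine ⟨?_, fun x hx x' hx' => ?_⟩
  · obtain ⟨g, hg⟩ := CfsgLib.Spor.exists_map (n := 48) (by norm_num) u HSConfig.bigV hu
      HSConfig.norm_V
    rw [← Config.ncard_cfgSet_smul g]
    simp only [List.map_cons, List.map_nil, hg]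
    exact HSConfig.ncard_11178
  · obtain ⟨a, a1, a2⟩ := HSConfig.exists_std hu hx
    obtain ⟨b, b1, b2⟩ := HSConfig.exists_std hu hx'
    exact ⟨b⁻¹ * a, Config.smul_eq_of_eq a1 b1, Config.smul_eq_of_eq a2 b2⟩

end Cfsg.Agent.S1640
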