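import Cfsg.Statements.S1641
import Cfsg.Agent.Lib.Spor.HSConfig

set_option autoImplicit false
open Cfsg CfsgLib.Spor

namespace Cfsg.Agent.S1641

/-- The third Conway group acts on the 11178 cosets of the Higman–Sims group with rank 5 and subdegrees 1, 352, 1100, 4125, 5600. -/
theorem result (u x : ↥Cfsg.leechLattice) (hu : Cfsg.sqNorm (u : Cfsg.GolayPt → ℤ) = 48) (hx : x ∈ {x : ↥Cfsg.leechLattice | Cfsg.sqNorm (x : Cfsg.GolayPt → ℤ) = 32 ∧ Cfsg.dotInt (u : Cfsg.GolayPt → ℤ) (x : Cfsg.GolayPt → ℤ) = -16}) : ∃ y₁ ∈ {x : ↥Cfsg.leechLattice | Cfsg.sqNorm (x : Cfsg.GolayPt → ℤ) = 32 ∧ Cfsg.dotInt (u : Cfsg.GolayPt → ℤ) (x : Cfsg.GolayPt → ℤ) = -16}, ∃ y₂ ∈ {x : ↥Cfsg.leechLattice | Cfsg.sqNorm (x : Cfsg.GolayPt → ℤ) = 32 ∧ Cfsg.dotInt (u : Cfsg.GolayPt → ℤ) (x : Cfsg.GolayPt → ℤ) = -16}, ∃ y₃ ∈ {x : ↥Cfsg.leechLattice | Cfsg.sqNorm (x : Cfsg.GolayPt → ℤ) = 32 ∧ Cfsg.dotInt (u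 : Cfsg.GolayPt → ℤ) (x : Cfsg.GolayPt → ℤ) = -16}, ∃ y₄ ∈ {x : ↥Cfsg.leechLattice | Cfsg.sqNorm (x : Cfsg.GolayPt → ℤ) = 32 ∧ Cfsg.dotInt (u : Cfsg.GolayPt → ℤ) (x : Cfsg.GolayPt → ℤ) = -16}, (MulAction.orbit ↥(MulAction.stabilizer ↥Cfsg.Co0 u ⊓ MulAction.stabilizer ↥Cfsg.Co0 x) y₁).ncard = 352 ∧ (MulAction.orbit ↥(MulAction.stabilizer ↥Cfsg.Co0 u ⊓ MulAction.stabilizer ↥Cfsg.Co0 x) y₂).ncard = 1100 ∧ (MulAction.orbit ↥(MulAction.stabilizer ↥Cfsg.Co0 u ⊓ MulAction.stabilizer ↥Cfsg.Co0 x) y₃).ncard = 4125 ∧ (MulAction.orbit ↥(MulAction.stabilizer ↥Cfsg.Co0 u ⊓ MulAction.stabilizer ↥Cfsg.Co0 x) y₄).ncard = 5600 ∧ {x : ↥Cfsg.leechLattice | Cfsg.sqNorm (x : Cfsg.GolayPt → ℤ) = 32 ∧ Cfsg.dotInt (u : Cfsg.GolayPt → ℤ) (x : Cfsg.GolayPt → ℤ) = -16} = {x} ∪ MulAction.orbit ↥(MulAction.stabilizer ↥Cfsg.Co0 u ⊓ MulAction.stabilizer ↥Cfsg.Co0 x) y₁ ∪ MulAction.orbit ↥(MulAction.stabilizer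 ↥Cfsg.Co0 u ⊓ MulAction.stabilizer ↥Cfsg.Co0 x) y₂ ∪ MulAction.orbit ↥(MulAction.stabilizer ↥Cfsg.Co0 u ⊓ MulAction.stabilizer ↥Cfsg.Co0 x) y₃ ∪ MulAction.orbit ↥(MulAction.stabilizer ↥Cfsg.Co0 u ⊓ MulAction.stabilizer ↥Cfsg.Co0 x) y₄ := by
  have hset : {x : ↥Cfsg.leechLattice | Cfsg.sqNorm (x : Cfsg.GolayPt → ℤ) = 32 ∧
      Cfsg.dotInt (u : Cfsg.GolayPt → ℤ) (x : Cfsg.GolayPt → ℤ) = -16} =
      Config.cfgSet [(u, -16)] := Set.ext fun x => Config.mem_cfgSet_one.symm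
  rw [hset] at hx ⊢
  obtain ⟨g, h1, h2⟩ := HSConfig.exists_std hu hx
  have horb : ∀ i, MulAction.orbit
      ↥(MulAction.stabilizer ↥Cfsg.Co0 u ⊓ MulAction.stabilizer ↥Cfsg.Co0 x)
        (g⁻¹ • HSConfig.q11178 i) =
      Config.cfgSet [(u, -16), (x, ![16, -8, 0, 8] i)] := fun i => by
    have e : MulAction.orbit HSConfig.stabVx (HSConfig.q11178 i) = (fun y => g • y) ''
        MulAction.orbit ↥(MulAction.stabilizer ↥Cfsg.Co0 u ⊓ MulAction.stabilizer ↥Cfsg.Co0 x)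
          (g⁻¹ • HSConfig.q11178 i) := by
      ext z
      constructor
      · rintro ⟨⟨l, hl⟩, rfl⟩
        refine ⟨(g⁻¹ * l * g) • g⁻¹ • HSConfig.q11178 i, ⟨⟨g⁻¹ * l * g, ?_⟩, rfl⟩, ?_⟩
        · simp only [Subgroup.mem_inf, Config.mem_stabilizer_conj h1,
            Config.mem_stabilizer_conj h2] at hl ⊢
          simpa [mul_assoc] using hl
        · show g • (g⁻¹ * l * g) • g⁻¹ • HSConfig.q11178 i = l • HSConfig.q11178 i
          simp [smul_smul, mul_assoc]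
      · rintro ⟨_, ⟨⟨k, hk⟩, rfl⟩, rfl⟩
        refine ⟨⟨g * k * g⁻¹, ?_⟩, ?_⟩
        · simp only [Subgroup.mem_inf, Config.mem_stabilizer_conj h1,
            Config.mem_stabilizer_conj h2] at hk ⊢
          exact hk
        · show (g * k * g⁻¹) • HSConfig.q11178 i = g • k • g⁻¹ • HSConfig.q11178 i
          simp [smul_smul, mul_assoc]
    refine (Set.image_eq_image (MulAction.injective g)).1 ?_
    rw [← e, (HSConfig.classes_11178.1 i).1, Config.image_cfgSet]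
    simp only [List.map_cons, List.map_nil, h1, h2]
  have hmem : ∀ i, g⁻¹ • HSConfig.q11178 i ∈ Config.cfgSet [(u, -16)] := fun i =>
    ((Config.classSet_eq [(u, -16)] x _).symm ▸ (horb i ▸ MulAction.mem_orbit_self _) :
      g⁻¹ • HSConfig.q11178 i ∈ {z | z ∈ Config.cfgSet [(u, -16)] ∧ _}).1
  have hnum : ∀ i, (MulAction.orbit
      ↥(MulAction.stabilizer ↥Cfsg.Co0 u ⊓ MulAction.stabilizer ↥Cfsg.Co0 x)
        (g⁻¹ • HSConfig.q11178 i)).ncard = ![1100, 352, 4125, 5600] i := fun i => by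
    rw [horb i, ← Config.ncard_cfgSet_smul g]
    simp only [List.map_cons, List.map_nil, h1, h2]
    exact (HSConfig.classes_11178.1 i).2
  refine ⟨_, hmem 1, _, hmem 0, _, hmem 2, _, hmem 3, hnum 1, hnum 0, hnum 2, hnum 3, ?_⟩
  rw [horb 0, horb 1, horb 2, horb 3]
  ext z
  constructor
  · intro hz
    have hz' := Config.smul_mem_cfgSet (g := g) hz
    simp only [List.map_cons, List.map_nil, h1] at hz'
    rcases HSConfig.classes_11178.2 _ hz' with e | ⟨i, hi⟩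
    · left; left; left; left
      exact MulAction.injective g (e.trans h2.symm)
    · rw [← h2, Config.dot_smul] at hi
      have hzi : z ∈ Config.cfgSet [(u, -16), (x, ![16, -8, 0, 8] i)] :=
        Config.classSet_eq [(u, -16)] x _ ▸ ⟨hz, hi⟩
      simp only [Set.mem_union]
      fin_cases i
      · left; left; right; exact hzi
      · left; left; left; right; exact hzi
      · left; right; exact hzi
      · right; exact hzi
  · have hs : ∀ d, z ∈ Config.cfgSet [(u, -16), (x, d)] → z ∈ Config.cfgSet [(u, -16)] :=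
      fun d h => (Config.mem_cfgSet_append (us := [(u, -16)]).1 h).1
    rintro ((((rfl | h) | h) | h) | h)
    · exact hx
    all_goals exact hs _ h

end Cfsg.Agent.S1641
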