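import Cfsg.Statements.S1642
import Cfsg.Agent.Lib.Spor.HSConfig

set_option autoImplicit false
open Cfsg CfsgLib.Spor

namespace Cfsg.Agent.S1642

/-- Some involution of the Higman–Sims group acts without fixed points on its 100 points. -/
theorem result (v w : ↥Cfsg.leechLattice) (hv : Cfsg.sqNorm (v : Cfsg.GolayPt → ℤ) = 48) (hw : Cfsg.sqNorm (w : Cfsg.GolayPt → ℤ) = 48) (hvw : Cfsg.dotInt (v : Cfsg.GolayPt → ℤ) (w : Cfsg.GolayPt → ℤ) = -32) : ∃ g : ↥Cfsg.Co0, g • v = v ∧ g • w = w ∧ orderOf g = 2 ∧ ∀ x ∈ {x : ↥Cfsg.leechLattice | Cfsg.sqNorm (x : Cfsg.GolayPt → ℤ) = 32 ∧ Cfsg.dotInt (v : Cfsg.GolayPt → ℤ) (x : Cfsg.GolayPt → ℤ) = 24 ∧ Cfsg.dotInt (w : Cfsg.GolayPt → ℤ) (x : Cfsg.GolayPt → ℤ) = -24}, g • x ≠ x := by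
  obtain ⟨g, h1, h2⟩ := HSConfig.exists_std_pair hv hw hvw
  obtain ⟨t, ⟨t1, t2⟩, ho, hfree⟩ := HSConfig.exists_invo
  refine ⟨g⁻¹ * t * g, ?_, ?_, ?_, fun x hx h => ?_⟩
  · rw [mul_smul, mul_smul, h1, MulAction.mem_stabilizer_iff.1 t1, ← h1, inv_smul_smul]
  · rw [mul_smul, mul_smul, h2, MulAction.mem_stabilizer_iff.1 t2, ← h2, inv_smul_smul]
  · have e : g⁻¹ * t * g = MulAut.conj g⁻¹ t := by simp
    rw [e, MulEquiv.orderOf_eq, ho]
  · have hmem := Config.smul_mem_cfgSet (g := g) (Config.mem_cfgSet_two.2 hx :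
      x ∈ Config.cfgSet [(v, 24), (w, -24)])
    simp only [List.map_cons, List.map_nil, h1, h2] at hmem
    refine hfree _ hmem ?_
    rw [mul_smul, mul_smul, inv_smul_eq_iff] at h
    exact h

end Cfsg.Agent.S1642
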