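import Cfsg.Statements.S1643
import Cfsg.Agent.Lib.Spor.LineGroupMax

set_option autoImplicit false
open scoped Pointwise
open Cfsg

namespace Cfsg.Agent.S1643

/-- PSL(2, 23) = ⟨t ↦ t+1, t ↦ u t (u square), t ↦ −1/t⟩ is maximal of order 6072 in the group of the length-24 code, and its point stabiliser 23:11 (order 253) is maximal in the Mathieu group of degree 23. -/
theorem result : (Subgroup.closure ({Equiv.optionCongr (Equiv.addRight (1 : ZMod 23)), Cfsg.projInv} ∪ {g : Equiv.Perm Cfsg.GolayPt | ∃ u : (ZMod 23)ˣ, IsSquare u ∧ g = Equiv.optionCongr (Units.mulLeft u)}) ≤ Cfsg.M24 ∧ Nat.card ↥(Subgroup.closure ({Equiv.optionCongr (Equiv.addRight (1 : ZMod 23)), Cfsg.projInv} ∪ {g : Equiv.Perm Cfsg.GolayPt | ∃ u : (ZMod 23)ˣ, IsSquare u ∧ g = Equiv.optionCongr (Units.mulLeft u)})) = 6072 ∧ IsCoatom ((Subgroup.closure ({Equiv.optionCongr (Equiv.addRight (1 : ZMod 23)), Cfsg.projInv} ∪ {g : Equiv.Perm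 Cfsg.GolayPt | ∃ u : (ZMod 23)ˣ, IsSquare u ∧ g = Equiv.optionCongr (Units.mulLeft u)})).subgroupOf Cfsg.M24)) ∧ (Subgroup.closure ({Equiv.optionCongr (Equiv.addRight (1 : ZMod 23))} ∪ {g : Equiv.Perm Cfsg.GolayPt | ∃ u : (ZMod 23)ˣ, IsSquare u ∧ g = Equiv.optionCongr (Units.mulLeft u)}) ≤ Cfsg.M24 ⊓ MulAction.stabilizer (Equiv.Perm Cfsg.GolayPt) (none : Cfsg.GolayPt) ∧ Nat.card ↥(Subgroup.closure ({Equiv.optionCongr (Equiv.addRight (1 : ZMod 23))} ∪ {g : Equiv.Perm Cfsg.GolayPt | ∃ u : (ZMod 23)ˣ, IsSquare u ∧ g = Equiv.optionCongr (Units.mulLeft u)})) = 253 ∧ IsCoatom (((Subgroup.closure ({Equiv.optionCongr (Equiv.addRight (1 : ZMod 23))} ∪ {g : Equiv.Perm Cfsg.GolayPt | ∃ u : (ZMod 23)ˣ, IsSquare u ∧ g = Equiv.optionCongr (Units.mulLeft u)})).subgroupOf Cfsg.M24).subgroupOf (MulAction.stabilizer Cfsg.M24 (none : Cfsg.GolayPt)))) := by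
  have hcard : Nat.card (Subgroup.closure CfsgLib.Spor.LineMax.affGens) = 253 := by
    rw [CfsgLib.Spor.LineMax.affine_eq]; exact CfsgLib.Spor.LineMax.card_affine
  have hle : Subgroup.closure CfsgLib.Spor.LineMax.affGens ≤
      Cfsg.M24 ⊓ MulAction.stabilizer (Equiv.Perm Cfsg.GolayPt) (none : Cfsg.GolayPt) := by
    rw [CfsgLib.Spor.LineMax.affine_eq]; exact CfsgLib.Spor.LineMax.affine_le
  refine ⟨⟨CfsgLib.Spor.LineMax.line_le, CfsgLib.Spor.LineMax.card_line, ?_, ?_⟩,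
    hle, hcard, ?_, ?_⟩
  · intro h
    have h1 := Subgroup.card_le_of_le (Subgroup.subgroupOf_eq_top.1 h)
    rw [CfsgLib.Spor.natCard_M24] at h1
    exact absurd (h1.trans (le_of_eq CfsgLib.Spor.LineMax.card_line)) (by norm_num)
  · intro X hX
    have h1 : Subgroup.closure CfsgLib.Spor.LineMax.lineGens ≤ X.map Cfsg.M24.subtype := fun g hg =>
      ⟨⟨g, CfsgLib.Spor.LineMax.line_le hg⟩, hX.le hg, rfl⟩
    rcases CfsgLib.Spor.LineMax.line_max h1 (Subgroup.map_subtype_le X) with e | e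
    · refine absurd ?_ hX.ne
      refine le_antisymm hX.le fun g hg => ?_
      exact Subgroup.mem_subgroupOf.2 (e.le ⟨g, hg, rfl⟩)
    · exact eq_top_iff.2 fun g _ => (Subgroup.mem_map_iff_mem Cfsg.M24.subtype_injective).1
        (e.ge g.2)
  · intro h
    have h1 : CfsgLib.Spor.LineMax.stab0 ≤ Subgroup.closure CfsgLib.Spor.LineMax.affGens :=
      fun g hg => by
        have h2 : (⟨⟨g, hg.1⟩, hg.2⟩ : MulAction.stabilizer Cfsg.M24 (none : Cfsg.GolayPt)) ∈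
            (⊤ : Subgroup _) := Subgroup.mem_top _
        rw [← h] at h2
        exact h2
    have h2 := Subgroup.card_le_of_le h1
    rw [CfsgLib.Spor.LineMax.card_stab0] at h2
    omega
  · intro X hX
    set K := (X.map (MulAction.stabilizer Cfsg.M24 (none : Cfsg.GolayPt)).subtype).map
      Cfsg.M24.subtype with hK
    have h1 : CfsgLib.Spor.LineMax.affine ≤ K := fun g hg =>
      ⟨⟨g, (CfsgLib.Spor.LineMax.affine_le hg).1⟩,
        ⟨⟨⟨g, (CfsgLib.Spor.LineMax.affine_le hg).1⟩, (CfsgLib.Spor.LineMax.affine_le hg).2⟩,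
          hX.le (CfsgLib.Spor.LineMax.affine_eq.ge hg), rfl⟩, rfl⟩
    have h2 : K ≤ CfsgLib.Spor.LineMax.stab0 := by
      rintro _ ⟨g, ⟨k, -, rfl⟩, rfl⟩
      exact ⟨k.1.2, k.2⟩
    rcases CfsgLib.Spor.LineMax.stab0_max h1 h2 with e | e
    · refine absurd (le_antisymm hX.le fun g hg => ?_) hX.ne
      exact CfsgLib.Spor.LineMax.affine_eq.symm.le (e.le ⟨_, ⟨g, hg, rfl⟩, rfl⟩)
    · refine eq_top_iff.2 fun g _ => ?_
      obtain ⟨u, ⟨v, hv, rfl⟩, hu⟩ := e.ge (⟨g.1.2, g.2⟩ :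
        (g.1 : Equiv.Perm Cfsg.GolayPt) ∈ CfsgLib.Spor.LineMax.stab0)
      rwa [show g = v from Subtype.ext (Subtype.ext hu.symm)]

end Cfsg.Agent.S1643
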