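import Cfsg.Statements.S1663
import Cfsg.Agent.Lib.M22Order.Finish
import Cfsg.Agent.Lib.M22Order.Seven
import Cfsg.Agent.Lib.M22Order.Eleven
import Cfsg.Agent.Lib.M22Order.BlockTable
import Cfsg.Agent.Lib.M22Order.Five
import Cfsg.Agent.Lib.M22Order.Degrees
import Cfsg.Agent.Lib.M22Order.Alt
import Cfsg.Agent.Lib.M22Order.Invol
import Cfsg.Agent.Lib.M22Order.Three
import Cfsg.Agent.Lib.M22Order.Orders

set_option autoImplicit false
open Cfsg

namespace Cfsg.Agent.S1663

/-- The Mathieu group of degree 22 is determined by its order: a finite simple group of order 443520 is isomorphic to the concrete M₂₂ (a two-point stabiliser in the group of the length-24 Golay code). -/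
theorem result {G : Type*} [Group G] [Finite G] (hG : Cfsg.IsM22 G) : Cfsg.Spor.IsoM22 G :=
  CfsgLib.M22Order.unique_of CfsgLib.M22Order.eleven CfsgLib.M22Order.BlockTable.table
    CfsgLib.M22Order.seven CfsgLib.M22Order.five CfsgLib.M22Order.degrees CfsgLib.M22Order.alt
    CfsgLib.M22Order.invol CfsgLib.M22Order.three CfsgLib.M22Order.orders G hG.1 hG.2

end Cfsg.Agent.S1663
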