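import Cfsg.Statements.S1664
import Cfsg.Agent.Lib.M23Order.Finish
import Cfsg.Agent.Lib.M23Order.TwentyThree
import Cfsg.Agent.Lib.M23Order.ElevenArith
import Cfsg.Agent.Lib.M23Order.ElevenFinish
import Cfsg.Agent.Lib.M23Order.Tables
import Cfsg.Agent.Lib.M23Order.FiveBlock
import Cfsg.Agent.Lib.M23Order.Joint
import Cfsg.Agent.Lib.M23Order.Central
import Cfsg.Agent.Lib.M23Order.Degrees
import Cfsg.Agent.Lib.M23Order.Invol
import Cfsg.Agent.Lib.M23Order.Seven
import Cfsg.Agent.Lib.M23Order.FiveProof
import Cfsg.Agent.Lib.M23Order.Three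
import Cfsg.Agent.Lib.M23Order.Orders

set_option autoImplicit false
open Cfsg

namespace Cfsg.Agent.S1664

/-- The Mathieu group of degree 23 is determined by its order: a finite simple group of order 10200960 is isomorphic to the concrete M₂₃ (a point stabiliser in the group of the length-24 Golay code). -/
theorem result {G : Type*} [Group G] [Finite G] (hG : Cfsg.IsM23 G) : Cfsg.Spor.IsoM23 G :=
  CfsgLib.M23Order.iso_of CfsgLib.M23Order.twentyThree
    (CfsgLib.M23Order.eleven_of_arith CfsgLib.M23Order.ElevenArith.arithFive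
      CfsgLib.M23Order.ElevenArith.arithTwo CfsgLib.M23Order.ElevenArith.arithTen)
    CfsgLib.M23Order.table CfsgLib.M23Order.fiveBlock CfsgLib.M23Order.joint CfsgLib.M23Order.central
    CfsgLib.M23Order.degrees CfsgLib.M23Order.invol CfsgLib.M23Order.seven CfsgLib.M23Order.five
    CfsgLib.M23Order.three CfsgLib.M23Order.orders G hG.1 hG.2

end Cfsg.Agent.S1664
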