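import Cfsg.Statements.S1679
import Cfsg.Agent.Lib.Spor.Suz.G2Four
-- import your own Cfsg.Agent.* helpers here

set_option autoImplicit false
open Cfsg

namespace Cfsg.Agent.S1679

/-- In the presented sporadic Suzuki group (generators a, …, g), the subgroup generated by the images of a, …, f is isomorphic to the adjoint Chevalley group of type G₂ over a field with four elements. -/
theorem result : ∃ (K : Type) (_ : Field K) (_ : Fintype K), Fintype.card K = 4 ∧ Nonempty ((((Subgroup.closure ({Cfsg.Spor.Suz.a, Cfsg.Spor.Suz.b, Cfsg.Spor.Suz.c, Cfsg.Spor.Suz.d, Cfsg.Spor.Suz.e, Cfsg.Spor.Suz.f} : Set (FreeGroup Cfsg.Spor.Suz.Gen))).map (PresentedGroup.mk (Cfsg.Spor.coxRelators Cfsg.Spor.Suz.edges ∪ {r | r ∈ Cfsg.Spor.Suz.extra})))) ≃* Cfsg.Lie.chevG2.group K) := by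
  have e : (Subgroup.closure ({Cfsg.Spor.Suz.a, Cfsg.Spor.Suz.b, Cfsg.Spor.Suz.c, Cfsg.Spor.Suz.d, Cfsg.Spor.Suz.e, Cfsg.Spor.Suz.f} : Set (FreeGroup Cfsg.Spor.Suz.Gen))).map (PresentedGroup.mk (Cfsg.Spor.coxRelators Cfsg.Spor.Suz.edges ∪ {r | r ∈ Cfsg.Spor.Suz.extra})) = CfsgLib.Spor.Suz.H := by
    rw [CfsgLib.PresCert.map_closure_eq (([Cfsg.Spor.Suz.Gen.a, Cfsg.Spor.Suz.Gen.b, Cfsg.Spor.Suz.Gen.c, Cfsg.Spor.Suz.Gen.d, Cfsg.Spor.Suz.Gen.e, Cfsg.Spor.Suz.Gen.f] : List Cfsg.Spor.Suz.Gen).map fun x => [x]) _ ?_,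
      CfsgLib.PresCert.wordsGroup_singletons]
    · rfl
    · ext r
      simp [Cfsg.Spor.Suz.a, Cfsg.Spor.Suz.b, Cfsg.Spor.Suz.c, Cfsg.Spor.Suz.d, Cfsg.Spor.Suz.e, Cfsg.Spor.Suz.f, eq_comm]
  obtain ⟨K, i₁, i₂, hK, ⟨φ⟩⟩ := CfsgLib.Spor.Suz.G2Four.exists_equiv
  exact ⟨K, i₁, i₂, hK, ⟨(MulEquiv.subgroupCongr e).trans φ⟩⟩

end Cfsg.Agent.S1679
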