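import Cfsg.Statements.S1700
import Cfsg.Agent.Lib.Spor.Th.Facts
import Cfsg.Agent.Lib.Spor.ThRep.Card
-- import your own Cfsg.Agent.* helpers here

set_option autoImplicit false
open Cfsg

namespace Cfsg.Agent.S1700

/-- The presented Thompson sporadic group is simple of the expected order (that is, it is a simple group of the order of the Thompson sporadic group). -/
theorem result : Cfsg.IsTh Cfsg.Spor.Th := by
  exact CfsgLib.Spor.Th.isTh_of inferInstance (by intro _; exact CfsgLib.Spor.ThRep.th_card_dvd)

end Cfsg.Agent.S1700
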