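import Cfsg.Statements.S1753
import Mathlib

set_option autoImplicit false
universe u
open Cfsg
open scoped Pointwise commutatorElement

namespace Cfsg.Agent.S1753

/-- Let K be any property of groups. (1) If G is a minimal counterexample relative to K — a finite non-abelian simple group not satisfying K such that every finite non-abelian simple group of smaller order satisfies K — then every proper subgroup of G is a K-group (all its non-abelian simple sections satisfy K), since such sections have smaller order than G. (2) Consequently (induction on the order), if every finite non-abelian simple group all of whose proper subgroups are K-groups satisfies K, then every finite non-abelian simple group satisfies K. -/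
theorem result (K : ∀ (X : Type u) [Group X], Prop) :
    (∀ (G : Type u) [Group G], Cfsg.IsMinCounterexampleWith K G → Cfsg.IsKProperWith K G) ∧
      ((∀ (X : Type u) [Group X] [Finite X], IsSimpleGroup X → ¬ IsMulCommutative X → Cfsg.IsKProperWith K X → K X) →
        ∀ (G : Type u) [Group G] [Finite G], IsSimpleGroup G → ¬ IsMulCommutative G → K G) := by
  have hsec : ∀ (G : Type u) [Group G] [Finite G],
      (∀ (X : Type u) [Group X] [Finite X], IsSimpleGroup X → ¬ IsMulCommutative X → Nat.card X < Nat.card G → K X) →
        Cfsg.IsKProperWith K G := by
    intro G _ _ hsmall H hH S N hN hs hna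
    refine hsmall _ hs hna ?_
    have h1 : Nat.card (↥S ⧸ N) ≤ Nat.card ↥S :=
      Nat.card_le_card_of_surjective _ (QuotientGroup.mk'_surjective N)
    have h2 : Nat.card ↥S ≤ Nat.card ↥H := Nat.card_le_card_of_injective _ S.subtype_injective
    have h3 : Nat.card ↥H < Nat.card G := by
      refine lt_of_le_of_ne (Nat.card_le_card_of_injective _ H.subtype_injective) fun h => hH ?_
      exact Subgroup.eq_top_of_card_eq H h
    omega
  refine ⟨fun G _ hmin => ?_, fun hyp G _ _ hs hna => ?_⟩
  · haveI : Finite G := hmin.1
    exact hsec G hmin.2.2.2.2
  · suffices ∀ n, ∀ (X : Type u) [Group X] [Finite X], Nat.card X = n → IsSimpleGroup X → ¬ IsMulCommutative X → K X from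
      this _ G rfl hs hna
    intro n
    induction n using Nat.strong_induction_on with
    | _ n ih =>
      intro X _ _ hX hsX hnaX
      exact hyp X hsX hnaX (hsec X fun Y _ _ hsY hnaY hlt => ih _ (hX ▸ hlt) Y rfl hsY hnaY)

end Cfsg.Agent.S1753
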