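import Cfsg.Statements.S1754
import Mathlib
import Cfsg.Agent.Lib.Components.Basic

set_option autoImplicit false
open Cfsg
open scoped Pointwise commutatorElement

namespace Cfsg.Agent.S1754

/-- Let A be a standard subgroup of the finite group G (A quasisimple, C_G(A) tightly embedded of even order, A commuting elementwise with no other conjugate of itself, and N_G(A) = N_G(C_G(A))), and let t be an involution of G centralizing A. Then the centralizer of t lies in the normalizer of A; in particular A, viewed inside C_G(t), is a component of C_G(t). -/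
theorem result {G : Type*} [Group G] [Finite G]
    (A : Subgroup G) (hA : Cfsg.IsStandardSubgroup A) (t : G) (ht : orderOf t = 2) (htA : t ∈ Subgroup.centralizer (A : Set G)) :
    Subgroup.centralizer ({t} : Set G) ≤ Subgroup.normalizer (A : Set G) ∧
      Cfsg.IsComponent (A.subgroupOf (Subgroup.centralizer ({t} : Set G))) := by
  obtain ⟨hq, ⟨heven, hti⟩, -, hnorm⟩ := hA
  have hN : Subgroup.centralizer ({t} : Set G) ≤ Subgroup.normalizer (A : Set G) := by
    intro g hg
    rw [hnorm]
    by_contra hgn
    set B := Subgroup.centralizer (A : Set G)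
    have hodd := hti g hgn
    have hmem : t ∈ B ⊓ B.map (MulAut.conj g).toMonoidHom := by
      refine ⟨htA, t, htA, ?_⟩
      simp only [MulEquiv.coe_toMonoidHom, MulAut.conj_apply]
      rw [← (Subgroup.mem_centralizer_iff.1 hg t rfl), mul_inv_cancel_right]
    have h2 : orderOf (⟨t, hmem⟩ : ↥(B ⊓ B.map (MulAut.conj g).toMonoidHom)) ∣ Nat.card ↥(B ⊓ B.map (MulAut.conj g).toMonoidHom) :=
      orderOf_dvd_natCard _
    rw [Subgroup.orderOf_mk, ht] at h2
    exact (Nat.not_even_iff_odd.2 hodd) (even_iff_two_dvd.2 h2)
  have hle : A ≤ Subgroup.centralizer ({t} : Set G) := by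
    intro a ha
    rw [Subgroup.mem_centralizer_iff]
    rintro _ rfl
    exact (Subgroup.mem_centralizer_iff.1 htA a ha).symm
  refine ⟨hN, ?_, CfsgLib.Components.isQuasisimple_of_mulEquiv (Subgroup.subgroupOfEquivOfLe hle).symm hq⟩
  have : (A.subgroupOf (Subgroup.centralizer ({t} : Set G))).Normal := by
    refine ⟨fun a ha c => ?_⟩
    exact (Subgroup.mem_normalizer_iff.1 (hN c.2) a).1 ha
  exact Subgroup.Normal.isSubnormal this

end Cfsg.Agent.S1754
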