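import Cfsg.Statements.S1755
import Mathlib
import Cfsg.Agent.Lib.Components.FStar

set_option autoImplicit false
open Cfsg
open scoped Pointwise commutatorElement

namespace Cfsg.Agent.S1755

/-- Let G be a finite group and let z be an involution of G such that Q, the generalized Fitting subgroup of the centralizer C of z, is a 2-group of symplectic type (every characteristic abelian subgroup of Q is cyclic). Let B be a characteristic abelian subgroup of Q, viewed as a subgroup of G. Then for every g in G, the conjugate of B by g either equals B or meets B trivially. -/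
theorem result {G : Type*} [Group G] [Finite G] (z : G) (hz : orderOf z = 2) (hQ : Cfsg.IsOfSymplecticType ↥(Cfsg.generalizedFittingSubgroup ↥(Subgroup.centralizer ({z} : Set G))))
    (B : Subgroup ↥(Cfsg.generalizedFittingSubgroup ↥(Subgroup.centralizer ({z} : Set G)))) (hBc : B.Characteristic) (hBa : IsMulCommutative ↥B) (g : G) :
    ((B.map (Cfsg.generalizedFittingSubgroup ↥(Subgroup.centralizer ({z} : Set G))).subtype).map (Subgroup.centralizer ({z} : Set G)).subtype).map (MulAut.conj g).toMonoidHom =
        (B.map (Cfsg.generalizedFittingSubgroup ↥(Subgroup.centralizer ({z} : Set G))).subtype).map (Subgroup.centralizer ({z} : Set G)).subtype ∨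
      ((B.map (Cfsg.generalizedFittingSubgroup ↥(Subgroup.centralizer ({z} : Set G))).subtype).map (Subgroup.centralizer ({z} : Set G)).subtype).map (MulAut.conj g).toMonoidHom ⊓
        (B.map (Cfsg.generalizedFittingSubgroup ↥(Subgroup.centralizer ({z} : Set G))).subtype).map (Subgroup.centralizer ({z} : Set G)).subtype = ⊥ := by
  classical
  revert B
  set C := Subgroup.centralizer ({z} : Set G) with hC
  set F := Cfsg.generalizedFittingSubgroup ↥C with hF
  haveI : F.Normal := by rw [hF]; infer_instance
  intro B hBc hBa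
  haveI := hBc
  set B2 := B.map F.subtype with hB2
  haveI : B2.Normal := by rw [hB2]; infer_instance
  set B1 := B2.map C.subtype with hB1
  refine or_iff_not_imp_right.2 fun hne => ?_
  have hnorm : ∀ c ∈ C, B1.map (MulAut.conj c).toMonoidHom = B1 := by
    intro c hc
    have h1 : ∀ c ∈ C, ∀ x ∈ B1, c * x * c⁻¹ ∈ B1 := by
      rintro c hc _ ⟨y, hy, rfl⟩
      exact ⟨⟨c, hc⟩ * y * ⟨c, hc⟩⁻¹, Subgroup.Normal.conj_mem ‹B2.Normal› y hy _, rfl⟩
    refine le_antisymm ?_ fun x hx => ?_
    · rintro _ ⟨x, hx, rfl⟩; exact h1 c hc x hx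
    · refine ⟨c⁻¹ * x * c, ?_, by simp [mul_assoc]⟩
      simpa using h1 c⁻¹ (inv_mem hc) x hx
  refine hnorm g ?_
  -- involutions of a cyclic group
  have huniq : ∀ {K : Type _} [Group K] [Finite K], IsCyclic K → ∀ a b : K, orderOf a = 2 → orderOf b = 2 → a = b := by
    intro K _ _ hK a b ha hb
    haveI := hK
    letI := Fintype.ofFinite K
    by_contra hab
    have hle := IsCyclic.card_pow_eq_one_le (α := K) (n := 2) two_pos
    have hsub : ({1, a, b} : Finset K) ⊆ Finset.univ.filter fun x => x ^ 2 = 1 := by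
      intro x hx
      simp only [Finset.mem_insert, Finset.mem_singleton] at hx
      rcases hx with rfl | rfl | rfl
      · simp
      · simpa [← ha] using pow_orderOf_eq_one _
      · simpa [← hb] using pow_orderOf_eq_one _
    have h3 : ({1, a, b} : Finset K).card = 3 := by
      rw [Finset.card_eq_three]
      refine ⟨1, a, b, ?_, ?_, hab, rfl⟩
      · intro h; rw [← h, orderOf_one] at ha; omega
      · intro h; rw [← h, orderOf_one] at hb; omega
    have := Finset.card_le_card hsub
    omega
  have hzc : (⟨z, Subgroup.mem_centralizer_singleton_iff.2 rfl⟩ : C) ∈ Subgroup.center C := by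
    rw [Subgroup.mem_center_iff]
    exact fun c => Subtype.ext (Subgroup.mem_centralizer_singleton_iff.1 c.2)
  set z' : C := ⟨z, Subgroup.mem_centralizer_singleton_iff.2 rfl⟩ with hz'
  have hzF : z' ∈ F := CfsgLib.Components.fitting_le_fstar (CfsgLib.Base.center_le_fittingSubgroup _ hzc)
  -- the only involution of `B` is `z`
  have hinv : ∀ x ∈ B1, orderOf x = 2 → x = z := by
    rintro _ ⟨x1, ⟨x2, hx2, rfl⟩, rfl⟩ ho
    have ho2 : orderOf x2 = 2 := by
      rw [← orderOf_injective F.subtype Subtype.coe_injective, ← orderOf_injective C.subtype Subtype.coe_injective]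
      exact ho
    have hcyc : IsCyclic B := hQ.2 B hBc hBa
    have hxz : x2 ∈ Subgroup.center F := by
      rw [Subgroup.mem_center_iff]
      intro q
      have hm : q * x2 * q⁻¹ ∈ B := by
        haveI := hBc
        exact Subgroup.Normal.conj_mem inferInstance x2 hx2 q
      have := huniq hcyc ⟨q * x2 * q⁻¹, hm⟩ ⟨x2, hx2⟩ (by
        rw [← Subgroup.orderOf_coe, ← ho2]
        exact orderOf_injective (MulAut.conj q).toMonoidHom (MulAut.conj q).injective x2)
        (by rw [← Subgroup.orderOf_coe]; exact ho2)
      have := congrArg Subtype.val this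
      change q * x2 * q⁻¹ = x2 at this
      rwa [mul_inv_eq_iff_eq_mul] at this
    have hz2 : (⟨z', hzF⟩ : F) ∈ Subgroup.center F := by
      rw [Subgroup.mem_center_iff]
      exact fun q => Subtype.ext (Subgroup.mem_center_iff.1 hzc q)
    have hcZ : IsCyclic (Subgroup.center F) := hQ.2 _ inferInstance inferInstance
    have := huniq hcZ ⟨x2, hxz⟩ ⟨_, hz2⟩ (by rw [← Subgroup.orderOf_coe]; exact ho2)
      (by rw [← Subgroup.orderOf_coe, ← Subgroup.orderOf_coe, ← Subgroup.orderOf_coe]; exact hz)
    exact congrArg (fun w : Subgroup.center F => (((w : F) : C) : G)) this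
  -- a nontrivial element of the intersection gives an involution
  obtain ⟨x, hx, hx1⟩ : ∃ x ∈ B1.map (MulAut.conj g).toMonoidHom ⊓ B1, x ≠ 1 := by
    by_contra hcon
    push Not at hcon
    exact hne ((Subgroup.eq_bot_iff_forall _).2 hcon)
  have h2 : 2 ∣ orderOf x := by
    obtain ⟨⟨x1, ⟨x2, hx2, rfl⟩, rfl⟩⟩ := (⟨hx.2⟩ : Nonempty (x ∈ B1))
    obtain ⟨k, hk⟩ := (IsPGroup.iff_orderOf.1 hQ.1) x2
    have e : orderOf (C.subtype (F.subtype x2)) = 2 ^ k := by
      rw [orderOf_injective C.subtype Subtype.coe_injective, orderOf_injective F.subtype Subtype.coe_injective, hk]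
    rw [e]
    rcases k with _ | k
    · exact absurd (orderOf_eq_one_iff.1 (by simpa using e)) hx1
    · exact dvd_pow_self 2 (by omega)
  set y := x ^ (orderOf x / 2) with hy
  have hoy : orderOf y = 2 := by
    rw [hy, orderOf_pow_orderOf_div (orderOf_ne_zero_iff.2 (isOfFinOrder_of_finite x)) h2]
  obtain ⟨hy1, hy2⟩ := (Subgroup.pow_mem _ hx _ : y ∈ _ ⊓ B1)
  obtain ⟨y0, hy0, hy0e⟩ := hy1
  change g * y0 * g⁻¹ = y at hy0e
  have hy0z : y0 = z := hinv y0 hy0 (by
    rw [← orderOf_injective (MulAut.conj g).toMonoidHom (MulAut.conj g).injective y0]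
    change orderOf (g * y0 * g⁻¹) = 2
    rw [hy0e, hoy])
  rw [hy0z, hinv y hy2 hoy] at hy0e
  rw [hC, Subgroup.mem_centralizer_singleton_iff]
  rwa [mul_inv_eq_iff_eq_mul] at hy0e

end Cfsg.Agent.S1755
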