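import Cfsg.Statements.S1756
import Mathlib
import Cfsg.Agent.Lib.PGroups.Extraspecial

set_option autoImplicit false
open Cfsg
open scoped Pointwise commutatorElement

namespace Cfsg.Agent.S1756

/-- Let Q be an extraspecial 2-subgroup of the finite group G (special with centre of order 2) and t an involution of G normalizing Q such that the centralizer of t in Q has index at most 2 in Q. Then t lies in the product of Q with the centralizer of Q. -/
theorem result {G : Type*} [Group G] [Finite G] (Q : Subgroup G)
    (hQ : Cfsg.IsExtraspecial 2 ↥Q) (t : G) (ht : orderOf t = 2) (htN : t ∈ Subgroup.normalizer (Q : Set G))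
    (hi : (Subgroup.centralizer ({t} : Set G) ⊓ Q).relIndex Q ≤ 2) :
    t ∈ Q ⊔ Subgroup.centralizer (Q : Set G) := by
  classical
  have ht2 : t * t = 1 := by rw [← pow_two, ← ht, pow_orderOf_eq_one]
  have htinv : t⁻¹ = t := inv_eq_of_mul_eq_one_right ht2
  have htQ : ∀ q : Q, t * (q : G) * t⁻¹ ∈ Q := fun q => (Subgroup.mem_normalizer_iff.1 htN q).1 q.2
  let φ : Q ≃* Q :=
    { toFun := fun q => ⟨t * (q : G) * t⁻¹, htQ q⟩
      invFun := fun q => ⟨t * (q : G) * t⁻¹, htQ q⟩
      left_inv := fun q => Subtype.ext (by
        show t * (t * (q : G) * t⁻¹) * t⁻¹ = q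
        rw [htinv, show t * (t * (q : G) * t) * t = (t * t) * q * (t * t) by group, ht2]; simp)
      right_inv := fun q => Subtype.ext (by
        show t * (t * (q : G) * t⁻¹) * t⁻¹ = q
        rw [htinv, show t * (t * (q : G) * t) * t = (t * t) * q * (t * t) by group, ht2]; simp)
      map_mul' := fun a b => Subtype.ext (by
        show t * ((a : G) * b) * t⁻¹ = t * a * t⁻¹ * (t * b * t⁻¹)
        group) }
  have hφφ : ∀ q, φ (φ q) = q := fun q => φ.left_inv q
  set H : Subgroup Q := (Subgroup.centralizer ({t} : Set G) ⊓ Q).subgroupOf Q with hH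
  have hmem : ∀ q : Q, q ∈ H ↔ φ q = q := by
    intro q
    constructor
    · intro hq
      have h1 := (Subgroup.mem_subgroupOf.1 hq).1
      replace h1 := Subgroup.mem_centralizer_singleton_iff.1 h1
      exact Subtype.ext (show t * (q : G) * t⁻¹ = q by rw [← h1]; group)
    · intro hq
      refine Subgroup.mem_subgroupOf.2 ⟨Subgroup.mem_centralizer_singleton_iff.2 ?_, q.2⟩
      have := congrArg Subtype.val hq
      change t * (q : G) * t⁻¹ = q at this
      rw [mul_inv_eq_iff_eq_mul] at this
      exact this.symm
  have hi' : H.index ≤ 2 := hi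
  obtain h1 | h2 : H.index = 1 ∨ H.index = 2 := by
    have : H.index ≠ 0 := Subgroup.FiniteIndex.index_ne_zero
    omega
  · refine Subgroup.mem_sup_right fun q hq => ?_
    have h3 := (hmem ⟨q, hq⟩).1 (by rw [Subgroup.index_eq_one.1 h1]; trivial)
    have := congrArg Subtype.val h3
    change t * q * t⁻¹ = q at this
    rw [mul_inv_eq_iff_eq_mul] at this
    exact this.symm
  · have hZ2 : Nat.card (Subgroup.center Q) = 2 := hQ.2
    have hZ : ∀ a b : Q, a ∈ Subgroup.center Q → b ∈ Subgroup.center Q → a ≠ 1 → b ≠ 1 → a = b := by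
      intro a b ha hb ha1 hb1
      obtain ⟨x, hx, hu⟩ := (Nat.card_eq_two_iff' (1 : Subgroup.center Q)).1 hZ2
      have ea := hu ⟨a, ha⟩ (fun e => ha1 (congrArg Subtype.val e))
      have eb := hu ⟨b, hb⟩ (fun e => hb1 (congrArg Subtype.val e))
      exact congrArg Subtype.val (ea.trans eb.symm)
    have hZH : Subgroup.center Q ≤ H := by
      intro z hz
      rw [hmem]
      rcases eq_or_ne z 1 with rfl | hz1
      · exact map_one φ
      · refine hZ _ _ ?_ hz (by simpa using hz1) hz1
        rw [Subgroup.mem_center_iff] at hz ⊢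
        intro g
        have := congrArg φ (hz (φ g))
        rw [map_mul, map_mul, hφφ] at this
        exact this
    obtain ⟨q, hq⟩ : ∃ q : Q, q ∉ H := by
      by_contra hcon
      push Not at hcon
      rw [(Subgroup.eq_top_iff' H).2 hcon, Subgroup.index_top] at h2
      omega
    set w := q⁻¹ * φ q with hw
    have hφq : φ q = q * w := by rw [hw]; group
    have hwH : w ∈ H := by
      rw [hw, Subgroup.mul_mem_iff_of_index_two h2, inv_mem_iff]
      refine ⟨fun h => absurd h hq, fun h => absurd ?_ hq⟩
      have := (hmem _).1 h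
      rw [hφφ] at this
      rwa [this]
    have hφw : φ w = w := (hmem w).1 hwH
    haveI hN : H.Normal := CfsgLib.PGroups.Extraspecial.normal_of_center_le hQ hZH
    have hcomm : ∀ h ∈ H, h * w = w * h := by
      intro h hh
      set k := q * h * q⁻¹ with hk
      have hkH : k ∈ H := hN.conj_mem h hh q
      have e : q⁻¹ * k * q = h := by rw [hk]; group
      have := congrArg φ e
      rw [map_mul, map_mul, map_inv, (hmem k).1 hkH, (hmem h).1 hh, hφq] at this
      calc h * w = (q⁻¹ * k * q) * w := by rw [e]
        _ = w * ((q * w)⁻¹ * k * (q * w)) := by group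
        _ = w * h := by rw [this]
    have hww : w * w = 1 := by
      have h := congrArg φ hφq
      rw [hφφ, map_mul, hφw, hφq] at h
      have : q * 1 = q * (w * w) := by rw [mul_one, ← mul_assoc]; exact h
      exact (mul_left_cancel this).symm
    have hwZ : w ∈ Subgroup.center Q := by
      have hq2 : q ^ 2 ∈ H := hZH (CfsgLib.PGroups.Extraspecial.pow_mem_center hQ q)
      have h := (hmem _).1 hq2
      rw [map_pow, hφq, pow_two, pow_two] at h
      have h' : w * q * w = q := by
        have : q * (w * q * w) = q * q := by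
          calc q * (w * q * w) = q * w * (q * w) := by group
            _ = _ := h
        exact mul_left_cancel this
      have hwinv : w⁻¹ = w := inv_eq_of_mul_eq_one_right hww
      have hwq : w * q = q * w := by
        calc w * q = w * q * (w * w) := by rw [hww, mul_one]
          _ = (w * q * w) * w := by group
          _ = q * w := by rw [h']
      rw [Subgroup.mem_center_iff]
      intro g
      by_cases hg : g ∈ H
      · exact hcomm g hg
      · have hqg : q⁻¹ * g ∈ H := by
          rw [Subgroup.mul_mem_iff_of_index_two h2, inv_mem_iff]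
          exact ⟨fun h => absurd h hq, fun h => absurd h hg⟩
        have := hcomm _ hqg
        calc g * w = q * ((q⁻¹ * g) * w) := by group
          _ = q * (w * (q⁻¹ * g)) := by rw [this]
          _ = (q * w) * (q⁻¹ * g) := by group
          _ = (w * q) * (q⁻¹ * g) := by rw [hwq]
          _ = _ := by group
    have hfin : ∀ u : Q, u ∈ Subgroup.centralizer (H : Set Q) → u * q * u⁻¹ = q * w →
        t ∈ Q ⊔ Subgroup.centralizer (Q : Set G) := by
      intro u hu huq
      have hall : ∀ x : Q, φ x = u * x * u⁻¹ := by
        intro x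
        have hH' : ∀ h ∈ H, φ h = u * h * u⁻¹ := by
          intro h hh
          rw [(hmem h).1 hh, ← hu h hh]; group
        by_cases hx : x ∈ H
        · exact hH' x hx
        · have hqx : q⁻¹ * x ∈ H := by
            rw [Subgroup.mul_mem_iff_of_index_two h2, inv_mem_iff]
            exact ⟨fun h => absurd h hq, fun h => absurd h hx⟩
          calc φ x = φ (q * (q⁻¹ * x)) := by rw [mul_inv_cancel_left]
            _ = (u * q * u⁻¹) * (u * (q⁻¹ * x) * u⁻¹) := by rw [map_mul, hH' _ hqx, huq, hφq]
            _ = _ := by group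
      have hc : (u : G)⁻¹ * t ∈ Subgroup.centralizer (Q : Set G) := by
        intro x hx
        have := congrArg Subtype.val (hall ⟨x, hx⟩)
        change t * x * t⁻¹ = (u : G) * x * (u : G)⁻¹ at this
        calc x * ((u : G)⁻¹ * t) = (u : G)⁻¹ * ((u : G) * x * (u : G)⁻¹) * t := by group
          _ = (u : G)⁻¹ * (t * x * t⁻¹) * t := by rw [this]
          _ = _ := by group
      have := Subgroup.mul_mem_sup u.2 hc
      simpa using this
    rcases eq_or_ne w 1 with hw1 | hw1
    · exact hfin 1 (one_mem _) (by simp [hw1])
    obtain ⟨u, hu, huZ⟩ : ∃ u ∈ Subgroup.centralizer (H : Set Q), u ∉ Subgroup.center Q := by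
      by_contra hcon
      push Not at hcon
      have h3 := CfsgLib.PGroups.Extraspecial.card_mul_card_centralizer hQ hZH
      have h4 : Nat.card (Subgroup.centralizer (H : Set Q)) ≤ 2 := hZ2 ▸ Subgroup.card_le_of_le hcon
      have h5 := H.index_mul_card
      rw [h2] at h5
      have h6 : 0 < Nat.card H := Nat.card_pos
      nlinarith
    refine hfin u hu ?_
    set c := ⁅q⁻¹, u⁆ with hc
    have hcZ : c ∈ Subgroup.center Q := CfsgLib.PGroups.Extraspecial.commutator_mem_center hQ _ _
    have hc1 : c ≠ 1 := by
      intro hc1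
      apply huZ
      rw [Subgroup.mem_center_iff]
      have hqu : q * u = u * q := by
        have h : q⁻¹ * u * q * u⁻¹ = 1 := by rw [← hc1, hc, commutatorElement_def, inv_inv]
        calc q * u = q * ((q⁻¹ * u * q * u⁻¹)) * u := by rw [h]; group
          _ = _ := by group
      intro g
      by_cases hg : g ∈ H
      · exact hu g hg
      · have hqg : q⁻¹ * g ∈ H := by
          rw [Subgroup.mul_mem_iff_of_index_two h2, inv_mem_iff]
          exact ⟨fun h => absurd h hq, fun h => absurd h hg⟩
        have := hu _ hqg
        calc g * u = q * ((q⁻¹ * g) * u) := by group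
          _ = q * (u * (q⁻¹ * g)) := by rw [this]
          _ = (q * u) * (q⁻¹ * g) := by group
          _ = (u * q) * (q⁻¹ * g) := by rw [hqu]
          _ = _ := by group
    have : c = w := hZ c w hcZ hwZ hc1 hw1
    rw [← this, hc, commutatorElement_def]; group

end Cfsg.Agent.S1756
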