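import Cfsg.Statements.S1757
import Mathlib

set_option autoImplicit false
open Cfsg
open scoped Pointwise commutatorElement

namespace Cfsg.Agent.S1757

/-- Let p be a prime and A, B p-subgroups of the finite group G, each of which meets every conjugate of itself other than itself trivially. Suppose the order of A is at most that of B, A and B intersect trivially, and B normalizes A. Then A and B commute elementwise. -/
theorem result {G : Type*} [Group G] [Finite G] (p : ℕ) [Fact p.Prime] (A B : Subgroup G)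
    (hA : IsPGroup p ↥A) (hB : IsPGroup p ↥B)
    (hAti : ∀ g : G, A.map (MulAut.conj g).toMonoidHom = A ∨ A.map (MulAut.conj g).toMonoidHom ⊓ A = ⊥)
    (hBti : ∀ g : G, B.map (MulAut.conj g).toMonoidHom = B ∨ B.map (MulAut.conj g).toMonoidHom ⊓ B = ⊥)
    (hle : Nat.card ↥A ≤ Nat.card ↥B) (hAB : A ⊓ B = ⊥) (hN : B ≤ Subgroup.normalizer (A : Set G)) : ⁅A, B⁆ = ⊥ := by
  by_cases hB' : ∀ g ∈ A, B.map (MulAut.conj g).toMonoidHom = B
  · rw [eq_bot_iff, Subgroup.commutator_le]
    intro a ha b hb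
    have h1 : ⁅a, b⁆ ∈ B := by
      have : a * b * a⁻¹ ∈ B := by
        have := Subgroup.mem_map_of_mem (MulAut.conj a).toMonoidHom hb
        rw [hB' a ha] at this
        simpa using this
      rw [commutatorElement_def]
      exact B.mul_mem this (B.inv_mem hb)
    have h2 : ⁅a, b⁆ ∈ A := by
      have : b * a⁻¹ * b⁻¹ ∈ A := (Subgroup.mem_normalizer_iff.1 (hN hb) a⁻¹).1 (A.inv_mem ha)
      rw [commutatorElement_def]
      have : a * (b * a⁻¹ * b⁻¹) ∈ A := A.mul_mem ha this
      simpa [mul_assoc] using this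
    rw [← hAB]; exact ⟨h2, h1⟩
  · exfalso
    push Not at hB'
    obtain ⟨g, hg, hne⟩ := hB'
    set C := B.map (MulAut.conj g).toMonoidHom with hC
    have hdis : C ⊓ B = ⊥ := (hBti g).resolve_left hne
    have hmem : C ≤ A ⊔ B := by
      rintro _ ⟨b, hb, rfl⟩
      simp only [MulEquiv.coe_toMonoidHom, MulAut.conj_apply]
      exact mul_mem (mul_mem (Subgroup.mem_sup_left hg) (Subgroup.mem_sup_right hb)) (inv_mem (Subgroup.mem_sup_left hg))
    have hcardC : Nat.card C = Nat.card B :=
      (Nat.card_congr (B.equivMapOfInjective _ (MulAut.conj g).injective).toEquiv).symm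
    let φ : ↥B × ↥C → ↥(A ⊔ B) := fun x => ⟨(x.1 : G) * x.2, mul_mem (Subgroup.mem_sup_right x.1.2) (hmem x.2.2)⟩
    have hφ : Function.Injective φ := by
      rintro ⟨b, c⟩ ⟨b', c'⟩ h
      have h' : (b : G) * c = b' * c' := congrArg Subtype.val h
      have : (b' : G)⁻¹ * b ∈ C ⊓ B := by
        refine ⟨?_, B.mul_mem (B.inv_mem b'.2) b.2⟩
        have : (b' : G)⁻¹ * b = c' * (c : G)⁻¹ := by
          rw [eq_mul_inv_iff_mul_eq, mul_assoc, h', inv_mul_cancel_left]
        rw [this]
        exact C.mul_mem c'.2 (C.inv_mem c.2)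
      rw [hdis, Subgroup.mem_bot, inv_mul_eq_one] at this
      obtain rfl : b = b' := Subtype.ext this.symm
      exact Prod.ext rfl (Subtype.ext (mul_left_cancel h'))
    have hle2 : Nat.card ↥(A ⊔ B) ≤ Nat.card B * Nat.card B := by
      have : Nat.card ↥(A ⊔ B) ≤ Nat.card (↥A × ↥B) := by
        refine Nat.card_le_card_of_surjective
          (fun x : ↥A × ↥B => (⟨(x.1 : G) * x.2, mul_mem (Subgroup.mem_sup_left x.1.2) (Subgroup.mem_sup_right x.2.2)⟩ : ↥(A ⊔ B))) ?_
        rintro ⟨x, hx⟩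
        have hx' : x ∈ (A : Set G) * (B : Set G) := by
          rw [← Subgroup.coe_mul_of_right_le_normalizer_left A B hN]; exact hx
        obtain ⟨a, ha, b, hb, rfl⟩ := Set.mem_mul.1 hx'
        exact ⟨(⟨a, ha⟩, ⟨b, hb⟩), rfl⟩
      rw [Nat.card_prod] at this
      exact this.trans (Nat.mul_le_mul_right _ hle)
    have hbij : Function.Bijective φ := by
      refine (Nat.bijective_iff_injective_and_card φ).2 ⟨hφ, le_antisymm (Nat.card_le_card_of_injective φ hφ) ?_⟩
      rw [Nat.card_prod, hcardC]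
      exact hle2
    obtain ⟨⟨b, c⟩, h⟩ := hbij.2 ⟨g⁻¹, inv_mem (Subgroup.mem_sup_left hg)⟩
    obtain ⟨b', hb', hc⟩ := c.2
    have h' : (b : G) * c = g⁻¹ := congrArg Subtype.val h
    simp only [MulEquiv.coe_toMonoidHom, MulAut.conj_apply] at hc
    rw [← hc] at h'
    have hgB : g ∈ B := by
      have h1 : g = (b : G)⁻¹ * b'⁻¹ := by
        calc g = (b : G)⁻¹ * ((b : G) * (g * b' * g⁻¹)) * g * b'⁻¹ := by group
        _ = _ := by rw [h']; group
      rw [h1]
      exact B.mul_mem (B.inv_mem b.2) (B.inv_mem hb')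
    have hA' : g ∈ A ⊓ B := ⟨hg, hgB⟩
    rw [hAB, Subgroup.mem_bot] at hA'
    apply hne
    rw [hC, hA']
    ext x
    simp

end Cfsg.Agent.S1757
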