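import Cfsg.Statements.S1774
import Cfsg.Agent.Lib.Techniques.SymplecticNeighbour

set_option autoImplicit false
open Cfsg

namespace Cfsg.Agent.S1774

/-- Let G be a finite group and let z be an involution of G such that Q, the generalized Fitting subgroup of the centralizer C of z, is a 2-group of symplectic type (every characteristic abelian subgroup of Q is cyclic); suppose every element of Q has order dividing 4. Let g ∈ G with z' = g z g⁻¹ ≠ z and z' ∈ Q. Then z lies in the conjugate g Q g⁻¹, and the subgroup X generated by Q and g Q g⁻¹ induces every automorphism of the four-group generated by z and z': for any two distinct non-identity elements u, v of that four-group there is x ∈ X with x z x⁻¹ = u and x z' x⁻¹ = v. -/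
theorem result {G : Type*} [Group G] [Finite G] (z : G) (hz : orderOf z = 2) (hQ : Cfsg.IsOfSymplecticType ↥(Cfsg.generalizedFittingSubgroup ↥(Subgroup.centralizer ({z} : Set G))))
    (h4 : ∀ q ∈ (Cfsg.generalizedFittingSubgroup ↥(Subgroup.centralizer ({z} : Set G))).map (Subgroup.centralizer ({z} : Set G)).subtype, q ^ 4 = 1) (g : G) (hne : g * z * g⁻¹ ≠ z) (hin : g * z * g⁻¹ ∈ (Cfsg.generalizedFittingSubgroup ↥(Subgroup.centralizer ({z} : Set G))).map (Subgroup.centralizer ({z} : Set G)).subtype) :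
    z ∈ ((Cfsg.generalizedFittingSubgroup ↥(Subgroup.centralizer ({z} : Set G))).map (Subgroup.centralizer ({z} : Set G)).subtype).map (MulAut.conj g).toMonoidHom ∧
      ∀ u ∈ Subgroup.closure ({z, g * z * g⁻¹} : Set G), ∀ v ∈ Subgroup.closure ({z, g * z * g⁻¹} : Set G),
        u ≠ 1 → v ≠ 1 → u ≠ v →
          ∃ x ∈ (Cfsg.generalizedFittingSubgroup ↥(Subgroup.centralizer ({z} : Set G))).map (Subgroup.centralizer ({z} : Set G)).subtype ⊔ ((Cfsg.generalizedFittingSubgroup ↥(Subgroup.centralizer ({z} : Set G))).map (Subgroup.centralizer ({z} : Set G)).subtype).map (MulAut.conj g).toMonoidHom, x * z * x⁻¹ = u ∧ x * (g * z * g⁻¹) * x⁻¹ = v := by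
  have A := CfsgLib.Techniques.SymplecticNeighbour.setting_fstar hz hQ h4
  set C := Subgroup.centralizer ({z} : Set G) with hC
  set Q := (Cfsg.generalizedFittingSubgroup ↥C).map C.subtype with hQdef
  have B := A.conj g
  set x := g * z * g⁻¹ with hxdef
  set Q' := Q.map (MulAut.conj g).toMonoidHom with hQ'
  have hzx : z * x = x * z := (A.comm x hin).symm
  have hzz : ∀ t, z * (z * t) = t := fun t => by rw [← mul_assoc, A.invol, one_mul]
  obtain ⟨q, hq, hqx⟩ := A.moves hin B.invol B.ne_one hne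
  have h2 : (∀ c, c * z = z * c → ∃ k : ℕ, c ^ 2 ^ k = 1) → z ∈ Q' := by
    intro h
    haveI : Fact (Nat.Prime 2) := ⟨Nat.prime_two⟩
    have hp : IsPGroup 2 C := fun c => by
      obtain ⟨k, hk⟩ := h c (Subgroup.mem_centralizer_singleton_iff.1 c.2)
      exact ⟨k, Subtype.ext hk⟩
    have htop : Cfsg.generalizedFittingSubgroup ↥C = ⊤ := by
      refine eq_top_iff.2 (le_trans ?_ CfsgLib.Components.fitting_le_fstar)
      haveI := (hp.to_subgroup (⊤ : Subgroup C)).isNilpotent
      exact le_sSup ⟨inferInstance, this⟩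
    have hw : g⁻¹ * z * g ∈ C := by
      rw [hC, Subgroup.mem_centralizer_singleton_iff]
      have := congrArg (fun t => g⁻¹ * t * g) hzx
      simpa [hxdef, mul_assoc] using this
    refine ⟨g⁻¹ * z * g, ⟨⟨_, hw⟩, ?_, rfl⟩, by simp [mul_assoc]⟩
    rw [SetLike.mem_coe, htop]
    trivial
  obtain ⟨y, hy, hyz⟩ :=
    CfsgLib.Techniques.SymplecticNeighbour.exists_move A B hin hne h2
  have hqz : q * z * q⁻¹ = z := mul_inv_eq_iff_eq_mul.2 (A.comm q hq)
  have hyx : y * x * y⁻¹ = x := mul_inv_eq_iff_eq_mul.2 (B.comm y hy)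
  set w := q * y * q with hwdef
  have hwz : w * z * w⁻¹ = x := by
    calc w * z * w⁻¹ = q * (y * (q * z * q⁻¹) * y⁻¹) * q⁻¹ := by rw [hwdef]; group
      _ = x := by rw [hqz, hyz, ← conj_mul, hqz, hqx, hzz]
  have hwx : w * x * w⁻¹ = z := by
    calc w * x * w⁻¹ = q * (y * (q * x * q⁻¹) * y⁻¹) * q⁻¹ := by rw [hwdef]; group
      _ = z := by rw [hqx, show y * (z * x) * y⁻¹ = y * z * y⁻¹ * (y * x * y⁻¹) by group, hyz,
        hyx, mul_assoc z x x, B.invol, mul_one, hqz]
  have hwQ : w ∈ Q ⊔ Q' :=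
    mul_mem (mul_mem (Subgroup.mem_sup_left hq) (Subgroup.mem_sup_right hy))
      (Subgroup.mem_sup_left hq)
  refine ⟨⟨(g⁻¹ * w) * x * (g⁻¹ * w)⁻¹, A.norm _ ?_ x hin, ?_⟩, ?_⟩
  · apply mul_inv_eq_iff_eq_mul.1
    calc g⁻¹ * w * z * (g⁻¹ * w)⁻¹ = g⁻¹ * (w * z * w⁻¹) * g := by group
      _ = z := by rw [hwz, hxdef]; group
  · show g * ((g⁻¹ * w) * x * (g⁻¹ * w)⁻¹) * g⁻¹ = z
    rw [← hwx]; group
  have hV : ∀ u ∈ Subgroup.closure ({z, x} : Set G), u = 1 ∨ u = z ∨ u = x ∨ u = z * x := by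
    intro u hu
    have hxx : ∀ t, x * (x * t) = t := fun t => by rw [← mul_assoc, B.invol, one_mul]
    induction hu using Subgroup.closure_induction with
    | mem u hu => rcases hu with hu | hu <;> rw [hu] <;> simp
    | one => simp
    | mul u v _ _ hu hv =>
      rcases hu with hu | hu | hu | hu <;> rcases hv with hv | hv | hv | hv <;> rw [hu, hv] <;>
        simp [mul_assoc, A.invol, B.invol, hzz, hxx, ← hzx] <;>
        simp [← mul_assoc x z, ← hzx, mul_assoc, A.invol, B.invol, hzz, hxx]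
    | inv u _ hu =>
      have hzi := inv_eq_of_mul_eq_one_right A.invol
      have hxi := inv_eq_of_mul_eq_one_right B.invol
      rcases hu with hu | hu | hu | hu <;> rw [hu] <;> simp [hzi, hxi, hzx]
  intro u hu v hv hu1 hv1 huv
  have hcomp : ∀ {a b t : G}, a * (b * t * b⁻¹) * a⁻¹ = a * b * t * (a * b)⁻¹ := by
    intros; group
  have hone : ∀ t : G, 1 * t * 1⁻¹ = t := fun t => by simp
  rcases hV u hu with h | h | h | h <;> rcases hV v hv with k | k | k | k
  all_goals rw [h, k]
  all_goals first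
    | exact absurd h hu1
    | exact absurd k hv1
    | exact absurd (h.trans k.symm) huv
    | exact ⟨1, one_mem _, hone _, hone _⟩
    | exact ⟨w, hwQ, hwz, hwx⟩
    | exact ⟨q, Subgroup.mem_sup_left hq, hqz, hqx⟩
    | exact ⟨y, Subgroup.mem_sup_right hy, hyz, hyx⟩
    | exact ⟨w * q, mul_mem hwQ (Subgroup.mem_sup_left hq),
        by rw [← hcomp, hqz, hwz], by rw [← hcomp, hqx, ← conj_mul, hwz, hwx, hzx]⟩
    | exact ⟨q * w, mul_mem (Subgroup.mem_sup_left hq) hwQ,
        by rw [← hcomp, hwz, hqx], by rw [← hcomp, hwx, hqz]⟩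

end Cfsg.Agent.S1774
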