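import Cfsg.Statements.S1775
import Cfsg.Agent.Lib.Techniques.PCompTransfer
import Cfsg.Agent.Lib.Components.LocalBalance
import Cfsg.Agent.Lib.Components.Signalizer
import Cfsg.Agent.Lib.FT.OddOrderTheorem

/-!
`2`-components of `L_{2'}(C(x)) ∩ C(y)` give components of the centralizer of `x` modulo the odd core.
-/

set_option autoImplicit false
set_option maxHeartbeats 1000000
set_option linter.style.haveILetI false
open Cfsg

namespace Cfsg.Agent.S1775

/-- Let G be a finite group whose generalized Fitting subgroup is a non-abelian simple group and in which every proper section (every quotient H/N of a proper subgroup H, or of G by a nontrivial normal subgroup) has the B-property. Let x, y be commuting involutions, let D be the intersection of the 2-layer of C_G(x) with C_G(y), and let J be a 2-component of D. Write Q for the quotient of C_G(y) by its largest normal odd-order subgroup. Then (i) the image of J in Q is a component of the centralizer in Q of the image of x; and (ii) for every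 J-invariant subgroup E of odd order of C_G(x) ∩ C_G(y), the commutator subgroup [J, E] lies in the largest normal odd-order subgroup of C_G(y). -/
theorem result {G : Type*} [Group G] [Finite G]
    (hF : IsSimpleGroup ↥(Cfsg.generalizedFittingSubgroup G)) (hF' : ¬ IsMulCommutative ↥(Cfsg.generalizedFittingSubgroup G))
    (hsec : ∀ (H : Subgroup G) (N : Subgroup ↥H) [N.Normal], (H ≠ ⊤ ∨ N ≠ ⊥) → Cfsg.HasBProperty (↥H ⧸ N))
    (x y : G) (hx : orderOf x = 2) (hy : orderOf y = 2) (hxy : x * y = y * x)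
    (J : Subgroup ↥((Cfsg.pLayer 2 ↥(Subgroup.centralizer ({x} : Set G))).map (Subgroup.centralizer ({x} : Set G)).subtype ⊓ Subgroup.centralizer ({y} : Set G)))
    (hJ : Cfsg.IsPComponent 2 J) :
    Cfsg.IsComponent
        ((((J.map (Subgroup.subtype _)).subgroupOf (Subgroup.centralizer ({y} : Set G))).map (QuotientGroup.mk' (Cfsg.oddCore ↥(Subgroup.centralizer ({y} : Set G))))).subgroupOf
          (Subgroup.centralizer ({(QuotientGroup.mk' (Cfsg.oddCore ↥(Subgroup.centralizer ({y} : Set G))) ⟨x, Subgroup.mem_centralizer_singleton_iff.mpr hxy⟩ : ↥(Subgroup.centralizer ({y} : Set G)) ⧸ Cfsg.oddCore ↥(Subgroup.centralizer ({y} : Set G)))} : Set _))) ∧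
      ∀ E : Subgroup G, E ≤ Subgroup.centralizer ({x} : Set G) ⊓ Subgroup.centralizer ({y} : Set G) → Odd (Nat.card ↥E) →
        (∀ j ∈ J.map (Subgroup.subtype _), ∀ e ∈ E, j * e * j⁻¹ ∈ E) →
          ⁅J.map (Subgroup.subtype _), E⁆ ≤ (Cfsg.oddCore ↥(Subgroup.centralizer ({y} : Set G))).map (Subgroup.centralizer ({y} : Set G)).subtype := by
  open CfsgLib.BpLayer CfsgLib.Components CfsgLib.Base Subgroup in
  open scoped commutatorElement in
  haveI : Fact (Nat.Prime 2) := ⟨Nat.prime_two⟩
  have hgen : ∀ (D : Subgroup G) (K : Subgroup ↥D), IsPComponent 2 K → IsPComponentOf 2 (K.map D.subtype) D :=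
    fun D K hK => ⟨map_subtype_le _, by rwa [subgroupOf, comap_map_eq_self_of_injective D.subtype_injective]⟩
  have hJD := hgen _ J hJ
  set J' := J.map (Subgroup.subtype _) with hJ'
  clear_value J'
  set Cx := centralizer ({x} : Set G) with hCx
  set Cy := centralizer ({y} : Set G) with hCy
  set L := (pLayer 2 ↥Cx).map Cx.subtype with hL
  set W := Cx ⊓ Cy with hW
  have hLCx : L ≤ Cx := map_subtype_le _
  have hDW : L ⊓ Cy ≤ W := inf_le_inf_right _ hLCx
  -- `J` is a component of `W`
  haveI hlayn : (pLayer 2 ↥Cx).Characteristic := characteristic_iff_map_eq.2 fun e => pLayer_map_equiv e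
  have hLn : Cx ≤ normalizer (L : Set G) := le_normalizer.trans (normalizer_le_normalizer_map_subtype Cx _)
  have hDn : W ≤ normalizer ((L ⊓ Cy : Subgroup G) : Set G) :=
    (le_inf (inf_le_left.trans hLn) (inf_le_right.trans le_normalizer)).trans inf_normalizer_le_normalizer_inf
  have hJW : IsPComponentOf 2 J' W :=
    isPComponentOf_up hJD hDW ((normal_subgroupOf_iff_le_normalizer hDW).2 hDn).isSubnormal
  -- the quotient
  set π := QuotientGroup.mk' (oddCore ↥Cy) with hπ
  set yc : ↥Cy := ⟨x, mem_centralizer_singleton_iff.mpr hxy⟩ with hyc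
  set Cb := centralizer ({π yc} : Set (↥Cy ⧸ oddCore ↥Cy)) with hCb
  let ι : ↥W →* ↥Cy := inclusion inf_le_right
  have hmem : ∀ w : ↥W, π (ι w) ∈ Cb := fun w => mem_centralizer_singleton_iff.2 (by
    rw [← map_mul, ← map_mul]
    exact congrArg π (Subtype.ext (mem_centralizer_singleton_iff.1 w.2.1)))
  let f : ↥W →* ↥Cb := (π.comp ι).codRestrict Cb hmem
  have hodd : (Nat.card ↥(oddCore ↥Cy)).Coprime 2 := pPrimeCore_coprime 2 _
  have hyc2 : yc ^ 2 = 1 := Subtype.ext (by
    show x ^ 2 = 1
    rw [← hx]; exact pow_orderOf_eq_one x)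
  have hfsurj : Function.Surjective f := by
    rintro ⟨q, hq⟩
    obtain ⟨g, rfl⟩ := QuotientGroup.mk'_surjective (oddCore ↥Cy) q
    obtain ⟨c, hc, hcg⟩ := exists_centralizer_lift hodd hyc2 (g := g) (mem_centralizer_singleton_iff.1 hq)
    exact ⟨⟨c, mem_centralizer_singleton_iff.2 (congrArg Subtype.val hc), c.2⟩, Subtype.ext hcg⟩
  have hmapeq : ∀ S : Subgroup G, S ≤ W →
      ((S.subgroupOf W).map f).map Cb.subtype = (S.subgroupOf Cy).map π := by
    intro S hS
    rw [Subgroup.map_map]
    ext q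
    constructor
    · rintro ⟨w, hw, rfl⟩; exact ⟨ι w, hw, rfl⟩
    · rintro ⟨c, hc, rfl⟩; exact ⟨⟨c, hS hc⟩, hc, rfl⟩
  have hJdvd : 2 ∣ Nat.card J' := by
    rw [← Nat.card_congr (subgroupOfEquivOfLe hJW.1).toEquiv]
    exact dvd_card_pComponent hJW.2
  have hJne : (J'.subgroupOf W).map f ≠ ⊥ := by
    intro h
    have h2 := hmapeq J' hJW.1
    rw [h, Subgroup.map_bot, eq_comm, map_mk'_eq_bot_iff] at h2
    have h3 := hodd.coprime_dvd_left (card_dvd_of_le h2)
    rw [Nat.card_congr (subgroupOfEquivOfLe (hJW.1.trans inf_le_right)).toEquiv] at h3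
    exact Nat.prime_two.coprime_iff_not_dvd.1 h3.symm hJdvd
  have hJb := (map_eq_bot_or_isPComponent hJW.2 f (by
    rw [MonoidHom.range_eq_top.2 hfsurj]; exact Subgroup.IsSubnormal.top)).resolve_left hJne
  -- the image is quasisimple
  have hyne : oddCore ↥Cy ≠ ⊥ ∨ Cy ≠ ⊤ := by
    refine Or.inr fun h => ?_
    haveI := hF
    set F := generalizedFittingSubgroup G
    have hyZ : y ∈ center G := mem_center_iff.2 fun g =>
      mem_centralizer_singleton_iff.1 (show g ∈ Cy from h ▸ mem_top g)
    have hyF : y ∈ F := fitting_le_fstar (center_le_fittingSubgroup G hyZ)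
    have hyc : (⟨y, hyF⟩ : ↥F) ∈ center ↥F :=
      mem_center_iff.2 fun g => Subtype.ext (mem_center_iff.1 hyZ g)
    rcases (inferInstance : (center ↥F).Normal).eq_bot_or_eq_top with hc | hc
    · rw [hc, mem_bot] at hyc
      have : y = 1 := congrArg Subtype.val hyc
      rw [this, orderOf_one] at hy
      exact absurd hy (by norm_num)
    · exact hF' ⟨⟨fun a b => mem_center_iff.1 (hc ▸ mem_top b) a⟩⟩
  have hB := hsec Cy (oddCore ↥Cy) (hyne.elim Or.inr Or.inl)
  have hxb : orderOf (π yc) = 2 := by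
    refine orderOf_eq_prime (by rw [← map_pow, hyc2, map_one]) fun h => ?_
    have h' : yc ∈ oddCore ↥Cy := (QuotientGroup.eq_one_iff yc).1 h
    have h3 := hodd.coprime_dvd_left (Subgroup.orderOf_dvd_natCard _ h')
    rw [← Subgroup.orderOf_coe, show (yc : G) = x from rfl, hx] at h3
    exact absurd h3 (by decide)
  have hq : IsQuasisimple ↥((J'.subgroupOf W).map f) := by
    refine (pComponent_isQuasisimple_iff hJb).2 (eq_bot_iff.2 ?_)
    refine le_trans (commutator_mono (pComponent_le_pLayer hJb) (map_pPrimeCore_le_of_isSubnormal hJb.1)) ?_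
    have h := hB (π yc) hxb
    rw [show oddCore (↥Cy ⧸ oddCore ↥Cy) = ⊥ from pPrimeCore_quotient_pPrimeCore 2 ↥Cy, le_bot_iff,
      map_eq_bot_iff_of_injective _ (Subgroup.subtype_injective _)] at h
    exact h.le
  have hcomp : IsComponent ((J'.subgroupOf W).map f) := ⟨hJb.1, hq⟩
  refine ⟨?_, fun E hE hEodd hinv => ?_⟩
  · show IsComponent (((J'.subgroupOf Cy).map π).subgroupOf Cb)
    rw [← hmapeq J' hJW.1, subgroupOf, comap_map_eq_self_of_injective Cb.subtype_injective]
    exact hcomp
  have hEW : E ≤ W := le_inf (hE.trans inf_le_left) (hE.trans inf_le_right)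
  have hEcard : Nat.card ↥(E.subgroupOf W) = Nat.card ↥E := Nat.card_congr (subgroupOfEquivOfLe hEW).toEquiv
  have hEdvd : Nat.card ↥((E.subgroupOf W).map f) ∣ Nat.card ↥(E.subgroupOf W) := Subgroup.card_map_dvd _ f
  set Eb := (E.subgroupOf W).map f with hEb
  have hsolv : Group.IsSolvable ↥Eb := CfsgLib.FT.isSolvable_of_odd (hEodd.of_dvd_nat (hEdvd.trans hEcard.dvd))
  have hJE : J' ≤ normalizer (E : Set G) := by
    rw [← CfsgLib.Signalizer.conj_invariant_iff]
    exact fun j hj e he => hinv j hj e he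
  have hn : (J'.subgroupOf W).map f ≤ normalizer (Eb : Set ↥Cb) :=
    (map_mono ((comap_mono hJE).trans (le_normalizer_comap _))).trans (le_normalizer_map _)
  have h := component_commutator_eq_bot_of_normalizes hcomp hsolv hn
  rw [hEb, ← map_commutator] at h
  intro g hg
  have hle : ⁅J', E⁆ ≤ W := commutator_le.2 fun a ha b hb =>
    mul_mem (mul_mem (mul_mem (hJW.1 ha) (hEW hb)) (inv_mem (hJW.1 ha))) (inv_mem (hEW hb))
  have h2 : (⁅J', E⁆.subgroupOf W).map f = ⊥ := by
    rw [eq_bot_iff, ← h]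
    refine map_mono ?_
    intro w hw
    have h3 : (⁅J'.subgroupOf W, E.subgroupOf W⁆).map W.subtype = ⁅J', E⁆ := by
      rw [map_commutator, map_subgroupOf_eq_of_le hJW.1, map_subgroupOf_eq_of_le hEW]
    obtain ⟨v, hv, hvw⟩ := h3.ge (show (w : G) ∈ ⁅J', E⁆ from hw)
    rwa [← show v = w from Subtype.ext hvw]
  have h4 := congrArg (Subgroup.map Cb.subtype) h2
  rw [hmapeq _ hle, Subgroup.map_bot, map_mk'_eq_bot_iff] at h4
  exact ⟨⟨g, (hle hg).2⟩, h4 (show (⟨g, (hle hg).2⟩ : ↥Cy) ∈ ⁅J', E⁆.subgroupOf Cy from hg), rfl⟩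

end Cfsg.Agent.S1775
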