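import Cfsg.Statements.S1780
import Mathlib

set_option autoImplicit false
open Cfsg
open scoped Pointwise commutatorElement

namespace Cfsg.Agent.S1780

/-- Let A be a finite abelian 2-group and t an automorphism of A whose order is a power of 2. If every element of A fixed by t² is fixed by t, then t fixes every element of A. -/
theorem result {A : Type*} [CommGroup A] [Finite A]
    (hA : IsPGroup 2 A) (t : MulAut A) (ht : ∃ k : ℕ, orderOf t = 2 ^ k) (hC : ∀ a : A, t (t a) = a → t a = a) :
    ∀ a : A, t a = a := by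
  classical
  obtain ⟨k, hk⟩ := ht
  set F : Subgroup A := (MulEquiv.toMonoidHom t).eqLocus (MonoidHom.id A) with hF
  have memF : ∀ a : A, a ∈ F ↔ t a = a := fun a => Iff.rfl
  by_contra hne
  push Not at hne
  have hFtop : F ≠ ⊤ := by
    intro h
    obtain ⟨a, ha⟩ := hne
    exact ha ((memF a).1 (h ▸ Subgroup.mem_top a))
  have hFF : ∀ s ∈ Subgroup.zpowers t, F ≤ F.comap (MulEquiv.toMonoidHom s) := by
    rintro s ⟨n, rfl⟩ a ha
    have : t ∈ MulAction.stabilizer (MulAut A) a := (memF a).1 ha
    have hn : (t ^ n) • a = a := zpow_mem this n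
    show (t ^ n) a ∈ F
    rw [show (t ^ n) a = a from hn]
    exact ha
  letI : MulAction ↥(Subgroup.zpowers t) (A ⧸ F) :=
    { smul := fun s => QuotientGroup.map F F (MulEquiv.toMonoidHom (s : MulAut A)) (hFF s s.2)
      one_smul := fun q => QuotientGroup.induction_on q fun a => rfl
      mul_smul := fun s u q => QuotientGroup.induction_on q fun a => rfl }
  have hp : IsPGroup 2 ↥(Subgroup.zpowers t) := IsPGroup.of_card (n := k) (by rw [Nat.card_zpowers, hk])
  have hq : 2 ∣ Nat.card (A ⧸ F) := by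
    obtain ⟨n, hn⟩ := IsPGroup.iff_card.1 (hA.to_quotient F)
    rcases n with _ | n
    · exfalso
      apply hFtop
      rw [← Subgroup.index_eq_one, Subgroup.index_eq_card, hn, pow_zero]
    · rw [hn]; exact dvd_pow_self 2 (Nat.succ_ne_zero n)
  have h1 : (QuotientGroup.mk (1 : A) : A ⧸ F) ∈ MulAction.fixedPoints ↥(Subgroup.zpowers t) (A ⧸ F) :=
    fun s => map_one (QuotientGroup.map F F (MulEquiv.toMonoidHom (s : MulAut A)) (hFF s s.2))
  obtain ⟨q, hqfix, hqne⟩ := hp.exists_fixed_point_of_prime_dvd_card_of_fixed_point (A ⧸ F) hq h1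
  obtain ⟨a, rfl⟩ := QuotientGroup.mk_surjective q
  have haF : a ∉ F := fun h => hqne (by rw [QuotientGroup.eq]; simpa using h)
  have hfa : a⁻¹ * t a ∈ F := by
    have := hqfix ⟨t, Subgroup.mem_zpowers t⟩
    exact QuotientGroup.eq.1 this.symm
  set f := a⁻¹ * t a with hf
  have hta : t a = a * f := by rw [hf, mul_inv_cancel_left]
  have htf : t f = f := (memF f).1 hfa
  have htt : ∀ n : ℕ, t (t (a ^ n)) = a ^ n * (f ^ n) ^ 2 := by
    intro n
    rw [map_pow, map_pow, hta, map_mul, hta, htf, mul_assoc, mul_pow a, mul_pow f, pow_two]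
  obtain ⟨m, hm⟩ := IsPGroup.iff_orderOf.1 hA f
  rcases m with _ | m
  · rw [pow_zero, orderOf_eq_one_iff] at hm
    exact haF ((memF a).2 (by rw [hta, hm, mul_one]))
  · have h := hC (a ^ 2 ^ m) (by
      rw [htt, ← pow_mul, ← pow_succ, ← hm, pow_orderOf_eq_one, mul_one])
    rw [map_pow, hta, mul_pow, mul_eq_left] at h
    have := orderOf_dvd_of_pow_eq_one h
    rw [hm, Nat.pow_dvd_pow_iff_le_right (by norm_num)] at this
    omega

end Cfsg.Agent.S1780
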