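import Cfsg.Statements.S1781
import Mathlib
import Cfsg.Agent.S1757
import Cfsg.Agent.S1780
import Cfsg.Agent.Lib.Base.Transport

set_option autoImplicit false
open Cfsg
open scoped Pointwise commutatorElement

namespace Cfsg.Agent.S1781

/-- Let A be an abelian 2-subgroup of the finite group G such that every conjugate of A equals A or meets A trivially, and let g ∈ G with g A g⁻¹ ≠ A. Then either the subgroup of those elements of A that normalize g A g⁻¹ is an elementary abelian 2-group, or A and g A g⁻¹ commute elementwise. -/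
theorem result {G : Type*} [Group G] [Finite G] (A : Subgroup G)
    (hA2 : IsPGroup 2 ↥A) (hAa : IsMulCommutative ↥A)
    (hti : ∀ h : G, A.map (MulAut.conj h).toMonoidHom = A ∨ A.map (MulAut.conj h).toMonoidHom ⊓ A = ⊥)
    (g : G) (hg : A.map (MulAut.conj g).toMonoidHom ≠ A) :
    Cfsg.IsElementaryAbelian 2 (A ⊓ Subgroup.normalizer ((A.map (MulAut.conj g).toMonoidHom : Subgroup G) : Set G)) ∨
      ⁅A, A.map (MulAut.conj g).toMonoidHom⁆ = ⊥ := by
  classical
  set C := A.map (MulAut.conj g).toMonoidHom with hC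
  have hAC : A ⊓ C = ⊥ := by
    rw [inf_comm]; exact (hti g).resolve_left hg
  by_cases hel : Cfsg.IsElementaryAbelian 2 (A ⊓ Subgroup.normalizer (C : Set G))
  · exact Or.inl hel
  right
  have hBc : IsMulCommutative ↥(A ⊓ Subgroup.normalizer (C : Set G)) :=
    ⟨⟨fun x y => Subtype.ext (congrArg (Subtype.val : ↥A → G) (hAa.is_comm.comm ⟨(x : G), x.2.1⟩ ⟨(y : G), y.2.1⟩))⟩⟩
  obtain ⟨b, hb, hb2⟩ : ∃ b ∈ A ⊓ Subgroup.normalizer (C : Set G), b ^ 2 ≠ 1 := by
    by_contra h
    push Not at h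
    exact hel ⟨hBc, h⟩
  have hcomm : ∀ {u v : G}, u ∈ A → v ∈ A → u * v = v * u := fun hu hv =>
    congrArg Subtype.val (hAa.is_comm.comm ⟨_, hu⟩ ⟨_, hv⟩)
  -- an element of `C` centralizing a non-trivial element of `A ∩ N(C)` normalizes `A`
  have hnorm : ∀ u ∈ A, u ≠ 1 → ∀ x : G, x * u = u * x → x ∈ Subgroup.normalizer (A : Set G) := by
    intro u hu hu1 x hxu
    rcases hti x with h | h
    · exact CfsgLib.Base.map_conj_eq_self_iff.1 h
    · refine absurd ?_ hu1
      rw [← Subgroup.mem_bot, ← h]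
      exact ⟨⟨u, hu, by simp [hxu]⟩, hu⟩
  -- elements of `C` normalizing `A` centralize `A ∩ N(C)`
  have hcent : ∀ x ∈ C, x ∈ Subgroup.normalizer (A : Set G) → x * b = b * x := by
    intro x hx hxA
    have h1 : x * b * x⁻¹ * b⁻¹ ∈ A :=
      A.mul_mem ((Subgroup.mem_normalizer_iff.1 hxA b).1 hb.1) (A.inv_mem hb.1)
    have h2 : x * b * x⁻¹ * b⁻¹ ∈ C := by
      rw [mul_assoc, mul_assoc, ← mul_assoc b]
      exact C.mul_mem hx ((Subgroup.mem_normalizer_iff.1 hb.2 x⁻¹).1 (C.inv_mem hx))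
    have : x * b * x⁻¹ * b⁻¹ ∈ A ⊓ C := ⟨h1, h2⟩
    rw [hAC, Subgroup.mem_bot] at this
    calc x * b = x * b * x⁻¹ * b⁻¹ * (b * x) := by group
    _ = b * x := by rw [this, one_mul]
  have hCabel : IsMulCommutative ↥C := Subgroup.map_isMulCommutative A _
  letI : CommGroup ↥C := { (inferInstance : Group ↥C) with mul_comm := hCabel.is_comm.comm }
  set c : MulAut ↥C := C.normalizerMonoidHom ⟨b, hb.2⟩ with hc
  have hc' : ∀ x : ↥C, ((c x : ↥C) : G) = b * x * b⁻¹ := fun x => rfl
  have hall : ∀ x : ↥C, c x = x := by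
    refine Cfsg.Agent.S1780.result (hA2.map _) c ?_ ?_
    · obtain ⟨k, hk⟩ := hA2 ⟨b, hb.1⟩
      have hk' : b ^ 2 ^ k = 1 := congrArg Subtype.val hk
      have : c ^ 2 ^ k = 1 := by
        rw [hc, ← map_pow]
        have : (⟨b, hb.2⟩ : ↥(Subgroup.normalizer (C : Set G))) ^ 2 ^ k = 1 := Subtype.ext hk'
        rw [this, map_one]
      obtain ⟨j, _, hj⟩ := (Nat.dvd_prime_pow Nat.prime_two).1 (orderOf_dvd_of_pow_eq_one this)
      exact ⟨j, hj⟩
    · intro x hx
      have h' := congrArg Subtype.val hx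
      rw [hc', hc'] at h'
      have hcomm2 : (x : G) * b ^ 2 = b ^ 2 * x := by
        calc (x : G) * b ^ 2 = b * (b * x * b⁻¹) * b⁻¹ * b ^ 2 := by rw [h']
        _ = b ^ 2 * x := by simp [pow_two, mul_assoc]
      have hxb := hcent x x.2 (hnorm (b ^ 2) (A.pow_mem hb.1 2) hb2 x hcomm2)
      apply Subtype.ext
      rw [hc', ← hxb, mul_inv_cancel_right]
  have hb1 : b ≠ 1 := fun h => hb2 (by rw [h, one_pow])
  have hCN : C ≤ Subgroup.normalizer (A : Set G) := by
    intro x hx
    refine hnorm b hb.1 hb1 x ?_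
    have h' := congrArg Subtype.val (hall ⟨x, hx⟩)
    rw [hc'] at h'
    simp only at h'
    calc x * b = b * x * b⁻¹ * b := by rw [h']
    _ = b * x := by group
  refine Cfsg.Agent.S1757.result 2 A C hA2 (hA2.map _) hti ?_ ?_ hAC hCN
  · intro x
    rw [hC, Subgroup.map_map]
    have hcomp : ((MulAut.conj x).toMonoidHom.comp (MulAut.conj g).toMonoidHom) = (MulAut.conj (x * g)).toMonoidHom := by
      ext y; simp [mul_assoc]
    rw [hcomp]
    rcases hti (g⁻¹ * x * g) with h | h
    · left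
      have : (MulAut.conj (x * g)).toMonoidHom = (MulAut.conj g).toMonoidHom.comp (MulAut.conj (g⁻¹ * x * g)).toMonoidHom := by
        ext y; simp [mul_assoc]
      rw [this, ← Subgroup.map_map, h]
    · right
      have : (MulAut.conj (x * g)).toMonoidHom = (MulAut.conj g).toMonoidHom.comp (MulAut.conj (g⁻¹ * x * g)).toMonoidHom := by
        ext y; simp [mul_assoc]
      rw [this, ← Subgroup.map_map, ← Subgroup.map_inf _ _ _ (MulAut.conj g).injective, h, Subgroup.map_bot]
  · rw [hC, Subgroup.card_map_of_injective (MulAut.conj g).injective]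

end Cfsg.Agent.S1781
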