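import Cfsg.Statements.S1782
import Mathlib
import Cfsg.Agent.Lib.PGroups.Basic

set_option autoImplicit false
open Cfsg
open scoped Pointwise commutatorElement

namespace Cfsg.Agent.S1782

/-- Let S be a finite 2-group and Δ a set of subgroups of S closed under conjugation by S, all of the same order, each with nontrivial Frattini subgroup, and such that two distinct members of Δ meet trivially. Then any two distinct members of Δ commute elementwise. -/
theorem result {S : Type*} [Group S] [Finite S] (hS : IsPGroup 2 S)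
    (Δ : Set (Subgroup S)) (hinv : ∀ s : S, ∀ R ∈ Δ, R.map (MulAut.conj s).toMonoidHom ∈ Δ)
    (hΦ : ∀ R ∈ Δ, frattini ↥R ≠ ⊥) (hord : ∀ R ∈ Δ, ∀ T ∈ Δ, Nat.card ↥R = Nat.card ↥T)
    (hti : ∀ R ∈ Δ, ∀ T ∈ Δ, R = T ∨ R ⊓ T = ⊥) :
    ∀ R ∈ Δ, ∀ T ∈ Δ, R ≠ T → ⁅R, T⁆ = ⊥ := by
  classical
  haveI : Fact (Nat.Prime 2) := ⟨Nat.prime_two⟩
  let cj : S → Subgroup S → Subgroup S := fun s R => R.map (MulAut.conj s).toMonoidHom
  have hmem : ∀ (s : S) (R : Subgroup S) (a : S), a ∈ R → s * a * s⁻¹ ∈ cj s R := fun s R a ha => ⟨a, ha, by simp⟩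
  have hfix : ∀ (s : S) (R : Subgroup S), s ∈ Subgroup.normalizer (R : Set S) ↔ cj s R = R :=
    fun s R => Subgroup.mem_normalizer_iff_map_conj_eq
  suffices main : ∀ n : ℕ, ∀ M : Subgroup S, Nat.card ↥M ≤ n → ∀ R ∈ Δ, ∀ T ∈ Δ, R ≤ M → T ≤ M → R ≠ T →
      ∀ a ∈ R, ∀ b ∈ T, b * a = a * b by
    intro R hR T hT hne
    rw [Subgroup.commutator_eq_bot_iff_le_centralizer]
    exact fun a ha => Subgroup.mem_centralizer_iff.mpr fun b hb =>
      main _ ⊤ le_rfl R hR T hT le_top le_top hne a ha b hb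
  intro n
  induction n using Nat.strong_induction_on with
  | _ n ih =>
  intro M hM R hR T hT hRM hTM hne
  set X := R ⊔ T with hX
  have hXn : Nat.card ↥X ≤ n := (Subgroup.card_le_of_le (sup_le hRM hTM)).trans hM
  -- conjugates inside `X` of either of the two commute with it
  have selfcomm : ∀ U ∈ Δ, ∀ V ∈ Δ, U ≠ V → U ⊔ V = X → ∀ s ∈ X, cj s U ≠ U →
      ∀ a ∈ cj s U, ∀ b ∈ U, b * a = a * b := by
    intro U hU V hV hUV hsup s hs hsU
    have hUX : U ≤ X := hsup ▸ le_sup_left
    have hU1 : U.subgroupOf X ≠ ⊤ := by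
      intro h
      have h1 : V ≤ U := (hsup ▸ le_sup_right : V ≤ X).trans (Subgroup.subgroupOf_eq_top.mp h)
      exact hUV (Subgroup.eq_of_le_of_card_ge h1 (le_of_eq (hord U hU V hV))).symm
    obtain ⟨K, hK, hUK⟩ := (eq_top_or_exists_le_coatom (U.subgroupOf X)).resolve_left hU1
    haveI := CfsgLib.PGroups.normal_of_isCoatom (hS.to_subgroup X) hK
    set K' := K.map X.subtype with hK'
    have hcard : Nat.card ↥K' < Nat.card ↥X := by
      rw [hK', Subgroup.card_map_of_injective (Subgroup.subtype_injective X)]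
      by_contra hle
      exact hK.1 (Subgroup.eq_top_of_card_eq _ (le_antisymm (Subgroup.card_le_card_group K) (not_lt.mp hle)))
    have hUK' : U ≤ K' := fun u hu => ⟨⟨u, hUX hu⟩, hUK hu, rfl⟩
    have hsK' : cj s U ≤ K' := by
      rintro _ ⟨u, hu, rfl⟩
      exact ⟨_, Subgroup.Normal.conj_mem inferInstance _ (hUK (show (⟨u, hUX hu⟩ : ↥X) ∈ U.subgroupOf X from hu)) ⟨s, hs⟩, by simp⟩
    exact ih (Nat.card ↥K') (lt_of_lt_of_le hcard hXn) K' le_rfl (cj s U) (hinv s U hU) U hU hsK' hUK' hsU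
  have tight : ∀ U ∈ Δ, ∀ V ∈ Δ, U ≠ V → ∀ x : S, x ∈ U → x ∈ V → x = 1 := fun U hU V hV h x hxU hxV => by
    have := Subgroup.mem_inf.mpr ⟨hxU, hxV⟩
    rwa [(hti U hU V hV).resolve_left h, Subgroup.mem_bot] at this
  -- no element of one member moves the other
  have nomove : ∀ U ∈ Δ, ∀ V ∈ Δ, U ≠ V → U ⊔ V = X → ∀ t ∈ V, t ∈ Subgroup.normalizer (U : Set S) := by
    intro U hU V hV hUV hsup t₀ ht₀
    by_contra ht₀N
    -- a mover whose square is not one
    obtain ⟨t, ht, htN, htN2⟩ : ∃ t ∈ V, t ∉ Subgroup.normalizer (U : Set S) ∧ t * t ∈ Subgroup.normalizer (U : Set S) := by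
      obtain ⟨k, hk⟩ := hS t₀
      have hex : ∃ j, t₀ ^ 2 ^ j ∈ Subgroup.normalizer (U : Set S) := ⟨k, hk ▸ one_mem _⟩
      obtain ⟨j, hj⟩ : ∃ j, Nat.find hex = j + 1 := by
        refine ⟨Nat.find hex - 1, ?_⟩
        have : Nat.find hex ≠ 0 := fun h => ht₀N (by simpa [h] using Nat.find_spec hex)
        omega
      refine ⟨t₀ ^ 2 ^ j, V.pow_mem ht₀ _, Nat.find_min hex (by omega), ?_⟩
      have h2 := Nat.find_spec hex
      rwa [hj, pow_succ, pow_mul, pow_two] at h2
    have hVX : V ≤ X := hsup ▸ le_sup_right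
    have hUX : U ≤ X := hsup ▸ le_sup_left
    have htU : cj t U ≠ U := fun h => htN ((hfix t U).mpr h)
    have hUt : ∀ a ∈ cj t U, ∀ b ∈ U, b * a = a * b := selfcomm U hU V hV hUV hsup t (hVX ht) htU
    have hUtN : ∀ a ∈ cj t U, a ∈ Subgroup.normalizer (U : Set S) := fun a ha =>
      Subgroup.centralizer_le_normalizer _ (Subgroup.mem_centralizer_iff.mpr fun b hb => hUt a ha b hb)
    by_cases hUV' : U ≤ Subgroup.normalizer (V : Set S)
    · let f : ↥U → ↥V := fun r => ⟨(r : S) * t * (r : S)⁻¹ * t⁻¹,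
        V.mul_mem ((Subgroup.mem_normalizer_iff.mp (hUV' r.2) t).mp ht) (V.inv_mem ht)⟩
      have hinj : Function.Injective f := by
        intro a b hab
        have he : (a : S) * t * (a : S)⁻¹ * t⁻¹ = (b : S) * t * (b : S)⁻¹ * t⁻¹ := congrArg Subtype.val hab
        have h1 : (b : S)⁻¹ * (a : S) = t * ((b : S)⁻¹ * (a : S)) * t⁻¹ := by
          calc (b : S)⁻¹ * (a : S) = (b : S)⁻¹ * ((a : S) * t * (a : S)⁻¹ * t⁻¹) * (t * (a : S) * t⁻¹) := by group
            _ = (b : S)⁻¹ * ((b : S) * t * (b : S)⁻¹ * t⁻¹) * (t * (a : S) * t⁻¹) := by rw [he]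
            _ = _ := by group
        have hmemU := U.mul_mem (U.inv_mem b.2) a.2
        have := tight (cj t U) (hinv t U hU) U hU htU _ (h1 ▸ hmem t U _ hmemU) hmemU
        exact Subtype.ext (inv_mul_eq_one.mp this).symm
      obtain ⟨r, hr⟩ := (hinj.bijective_of_nat_card_le (le_of_eq (hord V hV U hU))).2 ⟨t, ht⟩
      have he : t = (r : S) * (t * (r : S)⁻¹ * t⁻¹) := by
        have h := congrArg Subtype.val hr
        calc t = (r : S) * t * (r : S)⁻¹ * t⁻¹ := h.symm
          _ = _ := by group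
      exact htN (he ▸ mul_mem (Subgroup.le_normalizer r.2) (hUtN _ (hmem t U _ (U.inv_mem r.2))))
    · have hsq : ∀ r ∈ U, r ∉ Subgroup.normalizer (V : Set S) → r * r = 1 := by
        intro r hr hrN
        have hrV : cj r V ≠ V := fun h => hrN ((hfix r V).mpr h)
        have hVr : ∀ a ∈ cj r V, ∀ b ∈ V, b * a = a * b :=
          selfcomm V hV U hU hUV.symm (sup_comm U V ▸ hsup) r (hUX hr) hrV
        set c := r * t * r⁻¹ * t⁻¹ with hc
        have hct : t * c * t⁻¹ = c := by
          have h1 := hVr _ (hmem r V t ht) t ht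
          calc t * c * t⁻¹ = (t * (r * t * r⁻¹)) * t⁻¹ * t⁻¹ := by rw [hc]; group
            _ = ((r * t * r⁻¹) * t) * t⁻¹ * t⁻¹ := by rw [h1]
            _ = c := by rw [hc]; group
        -- compare the two expressions for `t c t⁻¹`
        set a := t * r⁻¹ * t⁻¹ with ha
        have haU : a ∈ cj t U := hmem t U _ (U.inv_mem hr)
        have hb : t * t * r⁻¹ * (t * t)⁻¹ ∈ U := (Subgroup.mem_normalizer_iff.mp htN2 _).mp (U.inv_mem hr)
        have h2 : a⁻¹ * (t * t * r⁻¹ * (t * t)⁻¹) = r * a := by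
          calc a⁻¹ * (t * t * r⁻¹ * (t * t)⁻¹) = t * c * t⁻¹ := by rw [ha, hc]; group
            _ = c := hct
            _ = r * a := by rw [ha, hc]; group
        have h3 : r⁻¹ * (t * t * r⁻¹ * (t * t)⁻¹) = a * a := by
          have hra := hUt a haU r⁻¹ (U.inv_mem hr)
          calc r⁻¹ * (t * t * r⁻¹ * (t * t)⁻¹) = (r⁻¹ * a) * (a⁻¹ * (t * t * r⁻¹ * (t * t)⁻¹)) := by group
            _ = (a * r⁻¹) * (r * a) := by rw [hra, h2]
            _ = a * a := by group
        have h4 : a * a = 1 := tight (cj t U) (hinv t U hU) U hU htU _ ((cj t U).mul_mem haU haU)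
          (h3 ▸ U.mul_mem (U.inv_mem hr) hb)
        calc r * r = (t⁻¹ * (a * a) * t)⁻¹ := by rw [ha, ← pow_two]; group
          _ = 1 := by rw [h4]; group
      obtain ⟨r, hr, hrN⟩ := SetLike.not_le_iff_exists.mp hUV'
      obtain ⟨x, hxU, hx4, hx2⟩ : ∃ x ∈ U, x ^ 4 = 1 ∧ x * x ≠ 1 := by
        by_contra hcon
        push Not at hcon
        apply hΦ U hU
        have hall : ∀ x ∈ U, x * x = 1 := by
          intro x hx
          obtain ⟨k, hk⟩ := hS x
          induction k generalizing x with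
          | zero => rw [pow_zero, pow_one] at hk; simp [hk]
          | succ k ihk =>
            have h := ihk (x * x) (U.mul_mem hx hx) (by rw [← pow_two, ← pow_mul, ← pow_succ']; exact hk)
            exact hcon x hx (by rw [show (4 : ℕ) = 2 + 2 from rfl, pow_add, pow_two]; exact h)
        rw [CfsgLib.PGroups.frattini_eq_derivedPow (hS.to_subgroup U)]
        refine eq_bot_iff.mpr (sup_le ?_ ((Subgroup.closure_le _).mpr ?_))
        · refine Subgroup.commutator_le.mpr fun a _ b _ => ?_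
          rw [Subgroup.mem_bot]
          refine commutatorElement_eq_one_iff_mul_comm.mpr (Subtype.ext ?_)
          have h1 := hall a a.2; have h2 := hall b b.2; have h3 := hall _ (U.mul_mem a.2 b.2)
          calc (a : S) * b = (a : S) * b * 1 := (mul_one _).symm
            _ = (a : S) * b * (((a : S) * b) * ((a : S) * b))⁻¹ := by rw [h3, inv_one]
            _ = (b : S)⁻¹ * (a : S)⁻¹ := by group
            _ = (b : S) * a := by rw [inv_eq_of_mul_eq_one_right h1, inv_eq_of_mul_eq_one_right h2]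
        · rintro _ ⟨a, rfl⟩
          exact Subgroup.mem_bot.mpr (Subtype.ext (by simpa [pow_two] using hall a a.2))
      have hxN : x ∈ Subgroup.normalizer (V : Set S) := by
        by_contra h; exact hx2 (hsq x hxU h)
      have hrxN : r * x ∉ Subgroup.normalizer (V : Set S) := fun h => hrN (by simpa using mul_mem h (inv_mem hxN))
      have hrr := hsq r hr hrN
      have hrx := hsq _ (U.mul_mem hr hxU) hrxN
      have hinvx : r * x * r⁻¹ = x⁻¹ := by
        rw [inv_eq_of_mul_eq_one_right hrr]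
        calc r * x * r = (r * x) * (r * x) * x⁻¹ := by group
          _ = x⁻¹ := by rw [hrx, one_mul]
      set z := x * (t * x⁻¹ * t⁻¹) with hz
      have hzV : z ∈ V := by
        rw [show z = (x * t * x⁻¹) * t⁻¹ by rw [hz]; group]
        exact V.mul_mem ((Subgroup.mem_normalizer_iff.mp hxN t).mp ht) (V.inv_mem ht)
      set a := t * x⁻¹ * t⁻¹ with ha
      have haU : a ∈ cj t U := hmem t U _ (U.inv_mem hxU)
      have hxa := hUt a haU x hxU
      have hra := hUt a haU r hr
      have hzr : r * z * r⁻¹ = x⁻¹ * a := by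
        calc r * z * r⁻¹ = (r * x * r⁻¹) * ((r * a) * r⁻¹) := by rw [hz]; group
          _ = x⁻¹ * a := by rw [hinvx, hra]; group
      have hx3 : x⁻¹ * x⁻¹ = x * x := by
        calc x⁻¹ * x⁻¹ = x⁻¹ * x⁻¹ * x ^ 4 := by rw [hx4, mul_one]
          _ = x * x := by rw [← pow_two x]; group
      have hzz : (r * z * r⁻¹) * (r * z * r⁻¹) = z * z := by
        rw [hzr, hz]
        have hxa' : Commute x a := hxa
        calc x⁻¹ * a * (x⁻¹ * a) = x⁻¹ * (a * x⁻¹) * a := by group
          _ = x⁻¹ * x⁻¹ * (a * a) := by rw [← hxa'.inv_left.eq]; group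
          _ = x * x * (a * a) := by rw [hx3]
          _ = x * (x * a) * a := by group
          _ = x * (a * x) * a := by rw [← hxa]
          _ = x * a * (x * a) := by group
      have hrV : cj r V ≠ V := fun h => hrN ((hfix r V).mpr h)
      have h5 : z * z = 1 := tight (cj r V) (hinv r V hV) V hV hrV _
        (hzz ▸ (cj r V).mul_mem (hmem r V z hzV) (hmem r V z hzV)) (V.mul_mem hzV hzV)
      have h6 : x * x = (a * a)⁻¹ := by
        refine eq_inv_of_mul_eq_one_left ?_
        rw [← h5, hz]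
        calc x * x * (a * a) = x * (x * a) * a := by group
          _ = x * (a * x) * a := by rw [← hxa]
          _ = x * a * (x * a) := by group
      exact hx2 (tight (cj t U) (hinv t U hU) U hU htU _ (h6 ▸ (cj t U).inv_mem ((cj t U).mul_mem haU haU))
        (U.mul_mem hxU hxU))
  intro a ha b hb
  have h1 := nomove R hR T hT hne rfl b hb
  have h2 := nomove T hT R hR hne.symm (sup_comm T R) a ha
  have h3 : b * a * b⁻¹ * a⁻¹ = 1 := tight R hR T hT hne _
    (R.mul_mem ((Subgroup.mem_normalizer_iff.mp h1 a).mp ha) (R.inv_mem ha))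
    (by rw [show b * a * b⁻¹ * a⁻¹ = b * (a * b⁻¹ * a⁻¹) by group]
        exact T.mul_mem hb ((Subgroup.mem_normalizer_iff.mp h2 _).mp (T.inv_mem hb)))
  rwa [mul_inv_eq_one, mul_inv_eq_iff_eq_mul] at h3

end Cfsg.Agent.S1782
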