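import Cfsg.Statements.S1783
import Cfsg.Agent.Lib.Techniques.TIAbelian
import Cfsg.Agent.Lib.Components.FStar
import Cfsg.Agent.Lib.Base.Cores

set_option autoImplicit false
open Cfsg

namespace Cfsg.Agent.S1783

/-- Let X be a finite group whose generalized Fitting subgroup equals its largest normal 2-subgroup Q, and let A be an abelian 2-subgroup of X such that every conjugate of A equals A or meets A trivially. Let B be the subgroup generated by the squares of the elements of A. Then B lies in Q, and if B is not an elementary abelian 2-group then the normal closure of B in X is commutative. -/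
theorem result {X : Type*} [Group X] [Finite X]
    (hX : Cfsg.generalizedFittingSubgroup X = Cfsg.pCore 2 X) (A : Subgroup X) (hA2 : IsPGroup 2 ↥A) (hAa : IsMulCommutative ↥A)
    (hti : ∀ h : X, A.map (MulAut.conj h).toMonoidHom = A ∨ A.map (MulAut.conj h).toMonoidHom ⊓ A = ⊥) :
    Subgroup.closure ((fun a : X => a ^ 2) '' (A : Set X)) ≤ Cfsg.pCore 2 X ∧
      (¬ Cfsg.IsElementaryAbelian 2 (Subgroup.closure ((fun a : X => a ^ 2) '' (A : Set X))) →
        IsMulCommutative ↥(Subgroup.normalClosure ((fun a : X => a ^ 2) '' (A : Set X)))) := by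
  haveI : (Cfsg.pCore 2 X).Normal := inferInstance
  obtain ⟨H, S⟩ := CfsgLib.Techniques.TIAbelian.exists_setting
    (CfsgLib.Base.isPGroup_pCore 2 X)
    (fun c hc => hX ▸ CfsgLib.Components.centralizer_fstar_le
      (Subgroup.mem_centralizer_iff.2 (by rw [hX]; exact hc)))
    (fun N hN hp => by haveI := hN; exact CfsgLib.Base.le_pCore hp) hA2 hAa hti
  haveI := S.stab_normal
  have hQ : S.stab ≤ Cfsg.pCore 2 X := CfsgLib.Base.le_pCore S.stab_isPGroup
  refine ⟨(Subgroup.closure_le _).2 ?_, fun hB => ?_⟩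
  · rintro _ ⟨a, ha, rfl⟩
    exact hQ (by simpa [pow_two] using S.sq_mem_stab ha)
  obtain ⟨a₀, ha₀, ha4⟩ : ∃ a ∈ A, a * a * (a * a) ≠ 1 := by
    by_contra hno
    push Not at hno
    have hBA : Subgroup.closure ((fun a : X => a ^ 2) '' (A : Set X)) ≤ A :=
      (Subgroup.closure_le _).2 (by rintro _ ⟨a, ha, rfl⟩; exact pow_mem ha 2)
    refine hB ⟨⟨⟨fun p q => Subtype.ext (S.acomm _ (hBA p.2) _ (hBA q.2))⟩⟩, fun b hb => ?_⟩
    induction hb using Subgroup.closure_induction with
    | mem b hb =>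
      obtain ⟨a, ha, rfl⟩ := hb
      simpa [pow_two] using hno a ha
    | one => simp
    | mul p q hp hq ihp ihq =>
      rw [(show Commute p q from S.acomm _ (hBA hp) _ (hBA hq)).mul_pow, ihp, ihq, one_mul]
    | inv p hp ihp => rw [inv_pow, ihp, inv_one]
  rw [Subgroup.normalClosure]
  refine Subgroup.isMulCommutative_closure ?_
  intro p hp q hq
  obtain ⟨_, ⟨c, hc, rfl⟩, h1⟩ := Group.mem_conjugatesOfSet_iff.1 hp
  obtain ⟨_, ⟨a, ha, rfl⟩, h2⟩ := Group.mem_conjugatesOfSet_iff.1 hq
  obtain ⟨g, rfl⟩ := isConj_iff.1 h1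
  obtain ⟨k, rfl⟩ := isConj_iff.1 h2
  have h := congrArg (fun t => k * t * k⁻¹) (S.sq_conj_comm ha₀ ha4 (k⁻¹ * g) hc ha)
  simpa [pow_two, mul_assoc] using h

end Cfsg.Agent.S1783
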