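import Cfsg.Statements.S1784
import Mathlib
import Cfsg.Agent.Lib.PGroups.Extraspecial
import Cfsg.Agent.Lib.Components.FStar

set_option autoImplicit false
open Cfsg
open scoped Pointwise commutatorElement

namespace Cfsg.Agent.S1784

/-- Let G be a finite group and let z be an involution of G such that Q, the generalized Fitting subgroup of the centralizer C of z, is a 2-group of symplectic type (every characteristic abelian subgroup of Q is cyclic); suppose Q is extraspecial, and view Q inside G. Let α be an involution of C that is not in Q, and let Q₀ be the subgroup of those q ∈ Q whose commutator with α lies in the subgroup generated by z. Then (a) the subgroup generated by the commutators α q α⁻¹ q⁻¹, q ∈ Q, equals the centre of Q₀; and (b) if Q₀ is not contained in the product of the centralizer of α in Q with the subgroup generated by z, then some element of Q conjugates α to α z. -/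
theorem result {G : Type*} [Group G] [Finite G] (z : G) (hz : orderOf z = 2) (hQ : Cfsg.IsOfSymplecticType ↥(Cfsg.generalizedFittingSubgroup ↥(Subgroup.centralizer ({z} : Set G)))) (hE : Cfsg.IsExtraspecial 2 ↥(Cfsg.generalizedFittingSubgroup ↥(Subgroup.centralizer ({z} : Set G))))
    (α : G) (hα : orderOf α = 2) (hαC : α ∈ Subgroup.centralizer ({z} : Set G)) (hαQ : α ∉ (Cfsg.generalizedFittingSubgroup ↥(Subgroup.centralizer ({z} : Set G))).map (Subgroup.centralizer ({z} : Set G)).subtype)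
    (Q₀ : Subgroup G) (hQ₀ : ∀ q : G, q ∈ Q₀ ↔ (q ∈ (Cfsg.generalizedFittingSubgroup ↥(Subgroup.centralizer ({z} : Set G))).map (Subgroup.centralizer ({z} : Set G)).subtype ∧ α * q * α⁻¹ * q⁻¹ ∈ Subgroup.zpowers z)) :
    Subgroup.closure ((fun q : G => α * q * α⁻¹ * q⁻¹) '' ((Cfsg.generalizedFittingSubgroup ↥(Subgroup.centralizer ({z} : Set G))).map (Subgroup.centralizer ({z} : Set G)).subtype : Set G)) = (Subgroup.center ↥Q₀).map Q₀.subtype ∧
      (¬ Q₀ ≤ ((Cfsg.generalizedFittingSubgroup ↥(Subgroup.centralizer ({z} : Set G))).map (Subgroup.centralizer ({z} : Set G)).subtype ⊓ Subgroup.centralizer ({α} : Set G)) ⊔ Subgroup.zpowers z →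
        ∃ q ∈ (Cfsg.generalizedFittingSubgroup ↥(Subgroup.centralizer ({z} : Set G))).map (Subgroup.centralizer ({z} : Set G)).subtype, q * α * q⁻¹ = α * z) := by
  classical
  set C := Subgroup.centralizer ({z} : Set G) with hC
  set F : Subgroup ↥C := Cfsg.generalizedFittingSubgroup ↥C with hF
  haveI hFc : F.Characteristic := CfsgLib.Components.fstar_characteristic
  haveI hFn : F.Normal := inferInstance
  haveI : Fact (Nat.Prime 2) := ⟨Nat.prime_two⟩
  have hzC : z ∈ C := Subgroup.mem_centralizer_singleton_iff.mpr rfl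
  have hzF : (⟨z, hzC⟩ : C) ∈ F := CfsgLib.Components.centralizer_fstar_le
    (Subgroup.mem_centralizer_iff.mpr fun y _ => Subtype.ext
      (Subgroup.mem_centralizer_singleton_iff.mp y.2))
  set zF : F := ⟨⟨z, hzC⟩, hzF⟩ with hzFdef
  have hzFc : zF ∈ Subgroup.center F := Subgroup.mem_center_iff.mpr fun y =>
    Subtype.ext (Subtype.ext (Subgroup.mem_centralizer_singleton_iff.mp (y : C).2))
  have hz1 : zF ≠ 1 := fun h => by
    have h' : z = 1 := congrArg (fun u : F => ((u : C) : G)) h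
    rw [h', orderOf_one] at hz; omega
  have hcen : ∀ x : F, x ∈ Subgroup.center F → x = 1 ∨ x = zF := by
    intro x hx
    by_contra hh
    push Not at hh
    have : Nat.card ({1, x, zF} : Set F) ≤ 2 := hE.2 ▸ Nat.card_mono (Set.toFinite _) (by
      rintro y (rfl | rfl | rfl)
      exacts [one_mem _, hx, hzFc])
    rw [Nat.card_coe_set_eq, Set.ncard_insert_of_notMem (by simp [hh.1.symm, hz1.symm])
      (Set.toFinite _), Set.ncard_pair hh.2] at this
    omega
  set a : C := ⟨α, hαC⟩ with ha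
  have haa : a * a = 1 := Subtype.ext (by
    show α * α = 1
    rw [← pow_two, ← hα, pow_orderOf_eq_one])
  let σ : F → F := fun q => ⟨a * q * a⁻¹, hFn.conj_mem q q.2 a⟩
  have hσ : ∀ q, ((σ q : F) : C) = a * q * a⁻¹ := fun q => rfl
  have σmul : ∀ q r, σ (q * r) = σ q * σ r := fun q r => Subtype.ext (by simp [hσ, mul_assoc])
  have σinv : ∀ q, σ q⁻¹ = (σ q)⁻¹ := fun q => Subtype.ext (by simp [hσ, mul_assoc])
  have σσ : ∀ q, σ (σ q) = q := fun q => Subtype.ext (by
    rw [hσ, hσ, show a * (a * (q : C) * a⁻¹) * a⁻¹ = (a * a) * q * (a * a)⁻¹ by group, haa]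
    group)
  have σone : σ 1 = 1 := Subtype.ext (by simp [hσ])
  have σz : σ zF = zF := Subtype.ext (Subtype.ext (by
    show α * z * α⁻¹ = z
    rw [Subgroup.mem_centralizer_singleton_iff.mp hαC, mul_inv_cancel_right]))
  have σcen : ∀ x, x ∈ Subgroup.center F → σ x = x := fun x hx => by
    rcases hcen x hx with rfl | rfl
    exacts [σone, σz]
  let K : F → F → F := fun q r => ⁅q, r⁆
  have hK : ∀ q r, K q r ∈ Subgroup.center F := CfsgLib.PGroups.Extraspecial.commutator_mem_center hE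
  have Kl : ∀ q q' r, K (q * q') r = K q r * K q' r := fun q q' r => by
    show ⁅q * q', r⁆ = ⁅q, r⁆ * ⁅q', r⁆
    have h := Subgroup.mem_center_iff.mp (hK q' r) q
    calc ⁅q * q', r⁆ = q * ⁅q', r⁆ * q⁻¹ * ⁅q, r⁆ := by simp only [commutatorElement_def]; group
      _ = ⁅q', r⁆ * ⁅q, r⁆ := by rw [show q * ⁅q', r⁆ = ⁅q', r⁆ * q from h]; group
      _ = _ := Subgroup.mem_center_iff.mp (hK q r) _
  have Kr : ∀ q r r', K q (r * r') = K q r * K q r' := fun q r r' => by
    show ⁅q, r * r'⁆ = ⁅q, r⁆ * ⁅q, r'⁆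
    have h := Subgroup.mem_center_iff.mp (hK q r') r
    calc ⁅q, r * r'⁆ = ⁅q, r⁆ * (r * ⁅q, r'⁆ * r⁻¹) := by simp only [commutatorElement_def]; group
      _ = _ := by rw [show r * ⁅q, r'⁆ = ⁅q, r'⁆ * r from h]; group
  have Kone : ∀ q, K 1 q = 1 := fun q => commutatorElement_one_left q
  have Kσ : ∀ q r, K (σ q) r = K q (σ r) := fun q r => by
    have h : σ (K q (σ r)) = K (σ q) r := by
      show σ ⁅q, σ r⁆ = ⁅σ q, r⁆
      simp only [commutatorElement_def, σmul, σinv, σσ]
    rw [← h, σcen _ (hK q (σ r))]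
  let c : F → F := fun q => σ q * q⁻¹
  have key : ∀ q r, K (c q) r = K q (c r) := fun q r => by
    have h1 : K (c q) r * K q r = K (σ q) r := by rw [← Kl]; simp [c]
    have h2 : K q (c r) * K q r = K q (σ r) := by rw [← Kr]; simp [c]
    exact mul_right_cancel (h1.trans ((Kσ q r).trans h2.symm))
  have hKiff : ∀ x y : F, K x y = 1 ↔ x * y = y * x := fun x y => commutatorElement_eq_one_iff_mul_comm
  set L : Subgroup F := Subgroup.closure (Set.range c) with hL
  have hmemC : ∀ r : F, r ∈ Subgroup.centralizer (L : Set F) ↔ c r ∈ Subgroup.center F := by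
    intro r
    rw [hL, Subgroup.centralizer_closure, Subgroup.mem_centralizer_iff, Subgroup.mem_center_iff]
    constructor
    · intro h q
      refine (hKiff q (c r)).mp ?_
      rw [← key]
      exact (hKiff _ _).mpr (h _ ⟨q, rfl⟩)
    · rintro h _ ⟨q, rfl⟩
      refine (hKiff _ _).mp ?_
      rw [key]
      exact (hKiff _ _).mpr (h q)
  have hcL : ∀ q, c q ∈ L := fun q => Subgroup.subset_closure ⟨q, rfl⟩
  have hne : ∃ q, c q ≠ 1 := by
    by_contra hh
    push Not at hh
    refine hαQ ⟨a, ?_, rfl⟩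
    refine CfsgLib.Components.centralizer_fstar_le (Subgroup.mem_centralizer_iff.mpr fun y hy => ?_)
    have h := congrArg (fun u : F => (u : C)) (mul_inv_eq_one.mp (hh ⟨y, hy⟩))
    simp only [hσ] at h
    exact (mul_inv_eq_iff_eq_mul.mp h).symm
  have hzL : zF ∈ L := by
    obtain ⟨q, hq⟩ := hne
    by_cases hc : c q ∈ Subgroup.center F
    · exact ((hcen _ hc).resolve_left hq) ▸ hcL q
    obtain ⟨r, hr⟩ : ∃ r, K (c q) r ≠ 1 := by
      by_contra hh
      push Not at hh
      exact hc (Subgroup.mem_center_iff.mpr fun r => ((hKiff _ _).mp (hh r)).symm)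
    have h2 : K q (c r) = zF := (hcen _ (hK _ _)).resolve_left (key q r ▸ hr)
    have h3 : q * c r * q⁻¹ = (c q)⁻¹ * c (q * r) := by simp only [c, σmul]; group
    rw [← h2]
    show q * c r * q⁻¹ * (c r)⁻¹ ∈ L
    exact L.mul_mem (h3 ▸ L.mul_mem (L.inv_mem (hcL q)) (hcL _)) (L.inv_mem (hcL r))
  have hZL : Subgroup.center F ≤ L := fun x hx => by
    rcases hcen x hx with rfl | rfl
    exacts [L.one_mem, hzL]
  have hLab : L ≤ Subgroup.centralizer (L : Set F) := by
    rw [hL, Subgroup.closure_le]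
    rintro _ ⟨q, rfl⟩
    rw [SetLike.mem_coe, ← hL, hmemC]
    have : c (c q) = (q * (σ q)⁻¹) ^ 2 := by simp only [c, σmul, σinv, σσ, pow_two]; group
    rw [this]
    exact CfsgLib.PGroups.Extraspecial.pow_mem_center hE _
  have hLcc : ∀ x ∈ Subgroup.centralizer (L : Set F),
      x ∈ Subgroup.centralizer (Subgroup.centralizer (L : Set F) : Set F) → x ∈ L := fun x _ hx =>
    (CfsgLib.PGroups.Extraspecial.centralizer_centralizer hE hZL) ▸ hx
  let φ : F →* G := C.subtype.comp F.subtype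
  have hφ : Function.Injective φ := C.subtype_injective.comp F.subtype_injective
  have hφc : ∀ q, φ (c q) = α * φ q * α⁻¹ * (φ q)⁻¹ := fun q => rfl
  have hmap : F.map C.subtype = φ.range := by
    ext x
    exact ⟨fun ⟨y, hy, e⟩ => ⟨⟨y, hy⟩, e⟩, fun ⟨y, e⟩ => ⟨y, y.2, e⟩⟩
  have hQ0 : ∀ q : F, φ q ∈ Q₀ ↔ q ∈ Subgroup.centralizer (L : Set F) := by
    intro q
    rw [hQ₀, hmemC]
    refine ⟨fun h => ?_, fun h => ⟨hmap ▸ ⟨q, rfl⟩, ?_⟩⟩
    · obtain ⟨n, hn⟩ := h.2
      have : φ (zF ^ n) = φ (c q) := by rw [map_zpow, hφc]; exact hn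
      rw [← hφ this]
      exact Subgroup.zpow_mem _ hzFc n
    · rw [← hφc]
      rcases hcen _ h with h | h <;> rw [h]
      · rw [map_one]; exact one_mem _
      · exact Subgroup.mem_zpowers z
  have hQ0' : ∀ x ∈ Q₀, ∃ q : F, φ q = x := fun x hx => by
    have := ((hQ₀ x).mp hx).1
    rw [hmap] at this
    exact this
  have himg : Subgroup.closure ((fun q : G => α * q * α⁻¹ * q⁻¹) '' (F.map C.subtype : Set G)) =
      L.map φ := by
    rw [hL, MonoidHom.map_closure, hmap, MonoidHom.coe_range]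
    congr 1
    rw [← Set.range_comp, ← Set.range_comp]
    exact congrArg Set.range (funext fun q => (hφc q).symm)
  refine ⟨?_, fun hnot => ?_⟩
  · rw [himg]
    ext x
    constructor
    · rintro ⟨q, hq, rfl⟩
      refine ⟨⟨φ q, (hQ0 q).mpr (hLab hq)⟩, Subgroup.mem_center_iff.mpr ?_, rfl⟩
      rintro ⟨y, hy⟩
      obtain ⟨r, rfl⟩ := hQ0' y hy
      refine Subtype.ext ?_
      show φ r * φ q = φ q * φ r
      rw [← map_mul, ← map_mul, Subgroup.mem_centralizer_iff.mp ((hQ0 r).mp hy) q hq]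
    · rintro ⟨⟨y, hy⟩, hyc, rfl⟩
      obtain ⟨q, rfl⟩ := hQ0' y hy
      refine ⟨q, hLcc q ((hQ0 q).mp hy) (Subgroup.mem_centralizer_iff.mpr fun r hr => hφ ?_), rfl⟩
      have := congrArg Subtype.val (Subgroup.mem_center_iff.mp hyc ⟨φ r, (hQ0 r).mpr hr⟩)
      rw [map_mul, map_mul]
      exact this
  · obtain ⟨x, hx, hx'⟩ := SetLike.not_le_iff_exists.mp hnot
    obtain ⟨q, rfl⟩ := hQ0' x hx
    have hαα : α⁻¹ = α := inv_eq_of_mul_eq_one_right (by rw [← pow_two, ← hα, pow_orderOf_eq_one])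
    rcases hcen _ ((hmemC q).mp ((hQ0 q).mp hx)) with h | h
    · refine absurd (Subgroup.mem_sup_left (Subgroup.mem_inf.mpr ⟨(hmap ▸ ⟨q, rfl⟩ : φ q ∈ F.map C.subtype),
        Subgroup.mem_centralizer_singleton_iff.mpr ?_⟩)) hx'
      have := hφc q
      rw [h, map_one] at this
      exact (mul_inv_eq_iff_eq_mul.mp (mul_inv_eq_one.mp this.symm)).symm
    · refine ⟨φ q, (hmap ▸ ⟨q, rfl⟩ : φ q ∈ F.map C.subtype), ?_⟩
      have e : φ (c q) = z := by rw [h]; rfl
      rw [hφc] at e
      have h1 : φ q * α * (φ q)⁻¹ = z⁻¹ * α := by rw [← e]; group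
      have hzz : z⁻¹ = z := inv_eq_of_mul_eq_one_right (by rw [← pow_two, ← hz, pow_orderOf_eq_one])
      rw [h1, hzz]
      exact (Subgroup.mem_centralizer_singleton_iff.mp hαC).symm

end Cfsg.Agent.S1784
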