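import Cfsg.Statements.S1785
import Mathlib
import Cfsg.Agent.Lib.Base.Rank

set_option autoImplicit false
open Cfsg
open scoped Pointwise commutatorElement

namespace Cfsg.Agent.S1785

/-- Let X be a finite 2-group having a normal elementary abelian subgroup of order at least 32. Then (a) for any two elementary abelian subgroups A, B of X of order 8 there is a chain A = A₁, A₂, …, Aₙ = B of elementary abelian subgroups of order 8 in which consecutive members commute elementwise; and (b) every elementary abelian subgroup of X of order 4 is contained in an elementary abelian subgroup of order 8. -/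
theorem result {X : Type*} [Group X] [Finite X]
    (hX : IsPGroup 2 X) (E : Subgroup X) [E.Normal] (hE : Cfsg.IsElementaryAbelian 2 E) (hE32 : 32 ≤ Nat.card ↥E) :
    (∀ A B : Subgroup X, Cfsg.IsElementaryAbelian 2 A → Nat.card ↥A = 8 → Cfsg.IsElementaryAbelian 2 B → Nat.card ↥B = 8 →
        Relation.ReflTransGen
          (fun C D : Subgroup X => Cfsg.IsElementaryAbelian 2 C ∧ Nat.card ↥C = 8 ∧ Cfsg.IsElementaryAbelian 2 D ∧ Nat.card ↥D = 8 ∧ ⁅C, D⁆ = ⊥)
          A B) ∧
      (∀ V : Subgroup X, Cfsg.IsElementaryAbelian 2 V → Nat.card ↥V = 4 →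
        ∃ A : Subgroup X, V ≤ A ∧ Cfsg.IsElementaryAbelian 2 A ∧ Nat.card ↥A = 8) := by
  classical
  obtain ⟨hEc, hE2⟩ := CfsgLib.Base.isElementaryAbelian_iff.mp hE
  -- centralizer of an involution in an invariant subgroup of `E`
  have hsq : ∀ (M : Subgroup X) (a : X), M ≤ E → a * a = 1 → (∀ m ∈ M, a * m * a⁻¹ ∈ M) →
      Nat.card M ≤ Nat.card (M ⊓ Subgroup.centralizer {a} : Subgroup X) ^ 2 := by
    intro M a hM ha hMa
    have hai : a⁻¹ = a := inv_eq_of_mul_eq_one_right ha
    let f : M →* M :=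
      { toFun := fun m => ⟨m.1 * (a * m.1 * a⁻¹), M.mul_mem m.2 (hMa _ m.2)⟩
        map_one' := Subtype.ext (by simp)
        map_mul' := fun m n => Subtype.ext (by
          have h1 : (n : X) * (a * m.1 * a⁻¹) = a * m.1 * a⁻¹ * n :=
            hEc _ (hM n.2) _ (hM (hMa _ m.2))
          show (m : X) * n * (a * (m * n) * a⁻¹) = m * (a * m * a⁻¹) * (n * (a * n * a⁻¹))
          calc (m : X) * n * (a * (m * n) * a⁻¹) = m * (n * (a * m * a⁻¹)) * (a * n * a⁻¹) := by
                group
            _ = _ := by rw [h1]; group) }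
    have hker : f.ker = (M ⊓ Subgroup.centralizer {a}).subgroupOf M := by
      ext m
      rw [MonoidHom.mem_ker, Subgroup.mem_subgroupOf, Subgroup.mem_inf,
        Subgroup.mem_centralizer_singleton_iff]
      have hm2 : (m : X) * m = 1 := by rw [← pow_two]; exact hE2 _ (hM m.2)
      constructor
      · intro h
        refine ⟨m.2, ?_⟩
        have h' : (m : X) * (a * m * a⁻¹) = 1 := congrArg Subtype.val h
        have h'' : a * (m : X) * a⁻¹ = m := by
          rw [← inv_eq_of_mul_eq_one_right h', inv_eq_of_mul_eq_one_right hm2]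
        calc (m : X) * a = a * m * a⁻¹ * a := by rw [h'']
          _ = a * m := by group
      · intro h
        refine Subtype.ext ?_
        show (m : X) * (a * m * a⁻¹) = 1
        rw [← h.2]
        simpa [mul_assoc] using hm2
    have hrange : f.range ≤ (M ⊓ Subgroup.centralizer {a}).subgroupOf M := by
      rintro _ ⟨m, rfl⟩
      rw [Subgroup.mem_subgroupOf, Subgroup.mem_inf, Subgroup.mem_centralizer_singleton_iff]
      refine ⟨(f m).2, ?_⟩
      show (m : X) * (a * m * a⁻¹) * a = a * (m * (a * m * a⁻¹))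
      rw [hai]
      calc (m : X) * (a * m * a) * a = (m * (a * m)) * (a * a) := by group
        _ = m * (a * m * a) * a := by rw [ha, mul_one]; simp [mul_assoc, ha]
        _ = a * m * a * m * a := by rw [hEc _ (hM m.2) _ (hM (by simpa [hai] using hMa _ m.2))]
        _ = a * (m * (a * m * a)) := by
          rw [hEc _ (hM m.2) _ (hM (by simpa [hai] using hMa _ m.2))]
          have h1 : (a * m * a) * (m : X) = m * (a * m * a) :=
            (hEc _ (hM m.2) _ (hM (by simpa [hai] using hMa _ m.2))).symm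
          calc a * m * a * m * a = a * (m * (a * m * a)) := by group
            _ = a * (a * m * a * m) := by rw [h1]
    have h1 := Subgroup.card_le_of_le hrange
    rw [← Subgroup.index_ker, Nat.card_congr (Subgroup.subgroupOfEquivOfLe inf_le_left).toEquiv]
      at h1
    calc Nat.card M = Nat.card f.ker * f.ker.index := (Subgroup.card_mul_index _).symm
      _ ≤ Nat.card f.ker * Nat.card (M ⊓ Subgroup.centralizer {a} : Subgroup X) :=
          Nat.mul_le_mul_left _ h1
      _ = _ := by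
        rw [hker, Nat.card_congr (Subgroup.subgroupOfEquivOfLe inf_le_left).toEquiv, pow_two]
  have hpow : ∀ M : Subgroup X, ∃ k, Nat.card M = 2 ^ k :=
    fun M => IsPGroup.iff_card.mp (hX.to_subgroup M)
  have hup : ∀ (M : Subgroup X) (k : ℕ), 2 ^ k < Nat.card M ^ 1 → 2 ^ (k + 1) ≤ Nat.card M := by
    intro M k h
    obtain ⟨j, hj⟩ := hpow M
    rw [pow_one, hj] at h
    rw [hj]
    exact Nat.pow_le_pow_right Nat.two_pos ((Nat.pow_lt_pow_iff_right (by norm_num)).mp h)
  have hnum : ∀ n c k : ℕ, (2 ^ k) ^ 2 < n → n ≤ c ^ 2 → 2 ^ k < c := fun n c k h h' =>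
    (Nat.pow_lt_pow_iff_left two_ne_zero).mp (h.trans_le h')
  have n1 : ∀ a : X, a * a = 1 → 8 ≤ Nat.card (E ⊓ Subgroup.centralizer {a} : Subgroup X) := by
    intro a ha
    have h := hsq E a le_rfl ha (fun m hm => (inferInstance : E.Normal).conj_mem m hm a)
    refine hup _ 2 ?_
    exact lt_of_lt_of_eq (hnum _ _ 2 (Nat.lt_of_lt_of_le (by norm_num) hE32) h) (pow_one _).symm
  have hinv : ∀ (M : Subgroup X) (a b : X), a * b = b * a → (∀ m ∈ M, b * m * b⁻¹ ∈ M) →
      ∀ m ∈ M ⊓ Subgroup.centralizer {a}, b * m * b⁻¹ ∈ M ⊓ Subgroup.centralizer {a} := by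
    rintro M a b hab hM m ⟨hm, hma⟩
    refine ⟨hM m hm, Subgroup.mem_centralizer_singleton_iff.mpr ?_⟩
    have hma' := Subgroup.mem_centralizer_singleton_iff.mp hma
    have hb : b⁻¹ * a = a * b⁻¹ := ((Commute.symm hab).inv_left).eq
    calc b * m * b⁻¹ * a = b * (m * a) * b⁻¹ := by rw [mul_assoc, hb]; group
      _ = (b * a) * (m * b⁻¹) := by rw [hma']; group
      _ = (a * b) * (m * b⁻¹) := by rw [hab]
      _ = a * (b * m * b⁻¹) := by group
  have n2 : ∀ a b : X, a * a = 1 → b * b = 1 → a * b = b * a →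
      4 ≤ Nat.card (E ⊓ Subgroup.centralizer {a} ⊓ Subgroup.centralizer {b} : Subgroup X) := by
    intro a b ha hb hab
    have h := hsq (E ⊓ Subgroup.centralizer {a}) b inf_le_left hb
      (hinv E a b hab fun m hm => (inferInstance : E.Normal).conj_mem m hm b)
    refine hup _ 1 ?_
    have := n1 a ha; exact lt_of_lt_of_eq (hnum _ _ 1 (Nat.lt_of_lt_of_le (by norm_num) this) h) (pow_one _).symm
  have n3 : ∀ a b c : X, a * a = 1 → b * b = 1 → c * c = 1 → a * b = b * a → a * c = c * a →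
      b * c = c * b → 2 ≤ Nat.card (E ⊓ Subgroup.centralizer {a} ⊓ Subgroup.centralizer {b} ⊓
        Subgroup.centralizer {c} : Subgroup X) := by
    intro a b c ha hb hc hab hac hbc
    have h := hsq (E ⊓ Subgroup.centralizer {a} ⊓ Subgroup.centralizer {b}) c
      (inf_le_left.trans inf_le_left) hc
      (hinv _ b c hbc (hinv E a c hac fun m hm => (inferInstance : E.Normal).conj_mem m hm c))
    refine hup _ 0 ?_
    have := n2 a b ha hb hab; exact lt_of_lt_of_eq (hnum _ _ 0 (Nat.lt_of_lt_of_le (by norm_num) this) h) (pow_one _).symm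
  have hzc : ∀ (x : X) (T : Subgroup X), x ∈ Subgroup.centralizer (T : Set X) ↔
      T ≤ Subgroup.centralizer {x} := by
    intro x T
    constructor
    · intro h t ht
      rw [Subgroup.mem_centralizer_singleton_iff]
      exact Subgroup.mem_centralizer_iff.mp h t ht
    · intro h
      rw [Subgroup.mem_centralizer_iff]
      exact fun t ht => Subgroup.mem_centralizer_singleton_iff.mp (h ht)
  -- an order 8 subgroup between given bounds
  have hsub : ∀ (W T : Subgroup X) (k : ℕ), W ≤ T → Nat.card W = 2 ^ k → k ≤ 3 →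
      8 ≤ Nat.card T → ∃ B : Subgroup X, W ≤ B ∧ B ≤ T ∧ Nat.card B = 8 := by
    intro W T k hWT hW hk hT
    obtain ⟨j, hj⟩ := hpow T
    have h3 : 3 ≤ j := (Nat.pow_le_pow_iff_right (by norm_num : 1 < 2)).mp (hj ▸ hT : 2 ^ 3 ≤ 2 ^ j)
    obtain ⟨B, hB, hWB⟩ := Sylow.exists_subgroup_card_pow_prime_le 2 (G := T) (n := k) (m := 3)
      (hj ▸ pow_dvd_pow 2 h3) (W.subgroupOf T)
      ((Nat.card_congr (Subgroup.subgroupOfEquivOfLe hWT).toEquiv).trans hW) hk
    refine ⟨B.map T.subtype, fun w hw => ⟨⟨w, hWT hw⟩, hWB hw, rfl⟩, Subgroup.map_subtype_le _, ?_⟩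
    rw [← Nat.card_congr (B.equivMapOfInjective _ T.subtype_injective).toEquiv, hB]
    norm_num
  have hgrow : ∀ (A H : Subgroup X) (a : X), Cfsg.IsElementaryAbelian 2 A → H ≤ A → a ∈ A → a ∉ H →
      2 * Nat.card H ≤ Nat.card (H ⊔ Subgroup.zpowers a : Subgroup X) := by
    intro A H a _ _ _ haH
    have hlt : H < H ⊔ Subgroup.zpowers a := lt_of_le_not_ge le_sup_left fun h =>
      haH (h (Subgroup.mem_sup_right (Subgroup.mem_zpowers a)))
    obtain ⟨i, hi⟩ := hpow H
    obtain ⟨j, hj⟩ := hpow (H ⊔ Subgroup.zpowers a)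
    have : Nat.card H < Nat.card (H ⊔ Subgroup.zpowers a : Subgroup X) :=
      lt_of_le_of_ne (Subgroup.card_le_of_le hlt.le) fun h =>
        hlt.ne (Subgroup.eq_of_le_of_card_ge hlt.le h.ge)
    rw [hi, hj] at this ⊢
    rw [← pow_succ']
    exact Nat.pow_le_pow_right Nat.two_pos ((Nat.pow_lt_pow_iff_right (by norm_num)).mp this)
  let R := fun C D : Subgroup X => Cfsg.IsElementaryAbelian 2 C ∧ Nat.card ↥C = 8 ∧
    Cfsg.IsElementaryAbelian 2 D ∧ Nat.card ↥D = 8 ∧ ⁅C, D⁆ = ⊥
  -- the step towards `E`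
  have step : ∀ A : Subgroup X, Cfsg.IsElementaryAbelian 2 A → Nat.card A = 8 →
      ∀ W : Subgroup X, W ≤ E → W ≤ Subgroup.centralizer (A : Set X) → ∀ k, k ≤ 3 →
        2 ^ k ≤ Nat.card W → ∃ B : Subgroup X, R A B ∧ R B A ∧ 2 ^ k ≤ Nat.card (B ⊓ E : Subgroup X) := by
    intro A hA hA8 W hWE hWA k hk hW
    have hT : Cfsg.IsElementaryAbelian 2 (W ⊔ A) :=
      CfsgLib.Base.isElementaryAbelian_sup (CfsgLib.Base.isElementaryAbelian_le hWE hE) hA hWA
    obtain ⟨j, hj⟩ := hpow W
    obtain ⟨W₀, hW₀, -⟩ := Sylow.exists_subgroup_card_pow_prime_le 2 (G := W) (n := 0) (m := k)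
      (hj ▸ pow_dvd_pow 2 ((Nat.pow_le_pow_iff_right (by norm_num : 1 < 2)).mp (hj ▸ hW)))
      ⊥ (by simp) (Nat.zero_le k)
    have hW₀c : Nat.card (W₀.map W.subtype) = 2 ^ k := by
      rw [← Nat.card_congr (W₀.equivMapOfInjective _ W.subtype_injective).toEquiv, hW₀]
    obtain ⟨B, hWB, hBT, hB8⟩ := hsub (W₀.map W.subtype) (W ⊔ A) k
      ((Subgroup.map_subtype_le _).trans le_sup_left) hW₀c hk
      (hA8 ▸ Subgroup.card_le_of_le le_sup_right)
    have hBe := CfsgLib.Base.isElementaryAbelian_le hBT hT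
    have hAB : ⁅A, B⁆ = ⊥ := by
      rw [Subgroup.commutator_eq_bot_iff_le_centralizer]
      intro a ha
      rw [Subgroup.mem_centralizer_iff]
      exact fun b hb => (CfsgLib.Base.isElementaryAbelian_iff.mp hT).1 b (hBT hb) a
        (Subgroup.mem_sup_right ha)
    refine ⟨B, ⟨hA, hA8, hBe, hB8, hAB⟩, ⟨hBe, hB8, hA, hA8, ?_⟩, ?_⟩
    · rw [Subgroup.commutator_comm]; exact hAB
    · rw [← hW₀c]
      exact Subgroup.card_le_of_le (le_inf hWB ((Subgroup.map_subtype_le _).trans hWE))
  have hmul : ∀ A : Subgroup X, Cfsg.IsElementaryAbelian 2 A → ∀ a ∈ A, a * a = 1 :=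
    fun A hA a ha => by rw [← pow_two]; exact (CfsgLib.Base.isElementaryAbelian_iff.mp hA).2 a ha
  have hcom : ∀ A : Subgroup X, Cfsg.IsElementaryAbelian 2 A → ∀ a ∈ A, ∀ b ∈ A, a * b = b * a :=
    fun A hA => (CfsgLib.Base.isElementaryAbelian_iff.mp hA).1
  -- every subgroup reaches `E`
  have reach : ∀ A : Subgroup X, Cfsg.IsElementaryAbelian 2 A → Nat.card A = 8 →
      ∃ B : Subgroup X, B ≤ E ∧ Cfsg.IsElementaryAbelian 2 B ∧ Nat.card B = 8 ∧
        Relation.ReflTransGen R A B ∧ Relation.ReflTransGen R B A := by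
    have case4 : ∀ A : Subgroup X, Cfsg.IsElementaryAbelian 2 A → Nat.card A = 8 →
        4 ≤ Nat.card (A ⊓ E : Subgroup X) → ∃ B : Subgroup X, B ≤ E ∧
          Cfsg.IsElementaryAbelian 2 B ∧ Nat.card B = 8 ∧
          Relation.ReflTransGen R A B ∧ Relation.ReflTransGen R B A := by
      intro A hA hA8 h4
      by_cases hAE : A ≤ E
      · exact ⟨A, hAE, hA, hA8, .refl, .refl⟩
      obtain ⟨c, hcA, hcE⟩ := SetLike.not_le_iff_exists.mp hAE
      have hgen : A ≤ (A ⊓ E) ⊔ Subgroup.zpowers c := by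
        have h := hgrow A (A ⊓ E) c hA inf_le_left hcA (fun h => hcE h.2)
        refine (Subgroup.eq_of_le_of_card_ge
          (sup_le inf_le_left (Subgroup.zpowers_le.mpr hcA)) ?_).ge
        omega
      have hW : E ⊓ Subgroup.centralizer {c} ≤ Subgroup.centralizer (A : Set X) := by
        intro e he
        rw [hzc]
        refine hgen.trans (sup_le (fun d hd => ?_) (Subgroup.zpowers_le.mpr ?_))
        · exact Subgroup.mem_centralizer_singleton_iff.mpr (hEc d hd.2 e he.1)
        · exact Subgroup.mem_centralizer_singleton_iff.mpr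
            (Subgroup.mem_centralizer_singleton_iff.mp he.2).symm
      obtain ⟨B, h1, h2, h3⟩ := step A hA hA8 _ inf_le_left hW 3 le_rfl (n1 c (hmul A hA c hcA))
      refine ⟨B, inf_eq_left.mp (Subgroup.eq_of_le_of_card_ge inf_le_left ?_), h1.2.2.1, h1.2.2.2.1,
        .single h1, .single h2⟩
      rw [h1.2.2.2.1]; exact h3
    have case2 : ∀ A : Subgroup X, Cfsg.IsElementaryAbelian 2 A → Nat.card A = 8 →
        2 ≤ Nat.card (A ⊓ E : Subgroup X) → ∃ B : Subgroup X, B ≤ E ∧
          Cfsg.IsElementaryAbelian 2 B ∧ Nat.card B = 8 ∧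
          Relation.ReflTransGen R A B ∧ Relation.ReflTransGen R B A := by
      intro A hA hA8 h2
      by_cases h4 : 4 ≤ Nat.card (A ⊓ E : Subgroup X)
      · exact case4 A hA hA8 h4
      obtain ⟨a, haA, haE⟩ : ∃ a ∈ A, a ∉ A ⊓ E := SetLike.not_le_iff_exists.mp fun h => h4 (by
        have := Subgroup.card_le_of_le h; omega)
      have hD1 := hgrow A (A ⊓ E) a hA inf_le_left haA haE
      set D₁ := (A ⊓ E) ⊔ Subgroup.zpowers a with hD₁
      have hD₁A : D₁ ≤ A := sup_le inf_le_left (Subgroup.zpowers_le.mpr haA)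
      have hWW : ∃ W : Subgroup X, W ≤ E ∧ W ≤ Subgroup.centralizer (A : Set X) ∧ 4 ≤ Nat.card W := by
        by_cases hle : A ≤ D₁
        · refine ⟨E ⊓ Subgroup.centralizer {a}, inf_le_left, fun e he => ?_,
            le_trans (by norm_num) (n1 a (hmul A hA a haA))⟩
          rw [hzc]
          refine hle.trans (sup_le (fun d hd => ?_) (Subgroup.zpowers_le.mpr ?_))
          · exact Subgroup.mem_centralizer_singleton_iff.mpr (hEc d hd.2 e he.1)
          · exact Subgroup.mem_centralizer_singleton_iff.mpr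
              (Subgroup.mem_centralizer_singleton_iff.mp he.2).symm
        obtain ⟨c, hcA, hc⟩ := SetLike.not_le_iff_exists.mp hle
        have hD2 := hgrow A D₁ c hA hD₁A hcA hc
        have hgen : A ≤ D₁ ⊔ Subgroup.zpowers c := (Subgroup.eq_of_le_of_card_ge
          (sup_le hD₁A (Subgroup.zpowers_le.mpr hcA)) (by omega)).ge
        refine ⟨_, inf_le_left.trans inf_le_left, fun e he => ?_,
          n2 a c (hmul A hA a haA) (hmul A hA c hcA) (hcom A hA a haA c hcA)⟩
        rw [hzc]
        refine hgen.trans (sup_le (sup_le (fun d hd => ?_) (Subgroup.zpowers_le.mpr ?_))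
          (Subgroup.zpowers_le.mpr ?_))
        · exact Subgroup.mem_centralizer_singleton_iff.mpr (hEc d hd.2 e he.1.1)
        · exact Subgroup.mem_centralizer_singleton_iff.mpr
            (Subgroup.mem_centralizer_singleton_iff.mp he.1.2).symm
        · exact Subgroup.mem_centralizer_singleton_iff.mpr
            (Subgroup.mem_centralizer_singleton_iff.mp he.2).symm
      obtain ⟨W, hWE, hWA, hW4⟩ := hWW
      obtain ⟨B, h1, h2', h3⟩ := step A hA hA8 W hWE hWA 2 (by norm_num) hW4
      obtain ⟨B', hB1, hB2, hB3, hB4, hB5⟩ := case4 B h1.2.2.1 h1.2.2.2.1 h3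
      exact ⟨B', hB1, hB2, hB3, hB4.head h1, hB5.tail h2'⟩
    intro A hA hA8
    obtain ⟨a, haA, ha1⟩ : ∃ a ∈ A, a ∉ (⊥ : Subgroup X) := SetLike.not_le_iff_exists.mp fun h => by
      have := Subgroup.card_le_of_le h; rw [Subgroup.card_bot] at this; omega
    have hD1 := hgrow A ⊥ a hA bot_le haA ha1
    set D₁ := (⊥ : Subgroup X) ⊔ Subgroup.zpowers a with hD₁
    have hD₁A : D₁ ≤ A := sup_le bot_le (Subgroup.zpowers_le.mpr haA)
    have hz2 : ∀ x ∈ A, Nat.card (Subgroup.zpowers x) ≤ 2 := fun x hx => by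
      rw [Nat.card_zpowers]
      exact Nat.le_of_dvd Nat.two_pos (orderOf_dvd_of_pow_eq_one (by rw [pow_two]; exact hmul A hA x hx))
    obtain ⟨b, hbA, hb⟩ : ∃ b ∈ A, b ∉ D₁ := SetLike.not_le_iff_exists.mp fun h => by
      have := Subgroup.card_le_of_le h
      rw [hD₁, bot_sup_eq] at this
      have := hz2 a haA
      omega
    have hD2 := hgrow A D₁ b hA hD₁A hbA hb
    rw [Subgroup.card_bot] at hD1
    set D₂ := D₁ ⊔ Subgroup.zpowers b with hD₂
    have hD₂A : D₂ ≤ A := sup_le hD₁A (Subgroup.zpowers_le.mpr hbA)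
    have hW : ∃ W : Subgroup X, W ≤ E ∧ W ≤ Subgroup.centralizer (A : Set X) ∧ 2 ≤ Nat.card W := by
      have hcm : ∀ x e : X, e ∈ Subgroup.centralizer ({x} : Set X) →
          x ∈ Subgroup.centralizer ({e} : Set X) := fun x e he =>
        Subgroup.mem_centralizer_singleton_iff.mpr
          (Subgroup.mem_centralizer_singleton_iff.mp he).symm
      by_cases hle : A ≤ D₂
      · refine ⟨E ⊓ Subgroup.centralizer {a} ⊓ Subgroup.centralizer {b},
          inf_le_left.trans inf_le_left, fun e he => ?_,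
          le_trans (by norm_num) (n2 a b (hmul A hA a haA) (hmul A hA b hbA) (hcom A hA a haA b hbA))⟩
        rw [hzc]
        exact hle.trans (sup_le (sup_le bot_le (Subgroup.zpowers_le.mpr (hcm _ _ he.1.2)))
          (Subgroup.zpowers_le.mpr (hcm _ _ he.2)))
      obtain ⟨c, hcA, hc⟩ := SetLike.not_le_iff_exists.mp hle
      have hD3 := hgrow A D₂ c hA hD₂A hcA hc
      have hgen : A ≤ D₂ ⊔ Subgroup.zpowers c := (Subgroup.eq_of_le_of_card_ge
        (sup_le hD₂A (Subgroup.zpowers_le.mpr hcA)) (by omega)).ge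
      refine ⟨_, (inf_le_left.trans inf_le_left).trans inf_le_left, fun e he => ?_,
        n3 a b c (hmul A hA a haA) (hmul A hA b hbA) (hmul A hA c hcA) (hcom A hA a haA b hbA)
          (hcom A hA a haA c hcA) (hcom A hA b hbA c hcA)⟩
      rw [hzc]
      exact hgen.trans (sup_le (sup_le (sup_le bot_le (Subgroup.zpowers_le.mpr (hcm _ _ he.1.1.2)))
          (Subgroup.zpowers_le.mpr (hcm _ _ he.1.2))) (Subgroup.zpowers_le.mpr (hcm _ _ he.2)))
    obtain ⟨W, hWE, hWA, hW2⟩ := hW
    obtain ⟨B, h1, h2', h3⟩ := step A hA hA8 W hWE hWA 1 (by norm_num) hW2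
    obtain ⟨B', hB1, hB2, hB3, hB4, hB5⟩ := case2 B h1.2.2.1 h1.2.2.2.1 h3
    exact ⟨B', hB1, hB2, hB3, hB4.head h1, hB5.tail h2'⟩
  refine ⟨fun A B hA hA8 hB hB8 => ?_, fun V hV hV4 => ?_⟩
  · obtain ⟨A', hA'E, hA', hA'8, hAA', -⟩ := reach A hA hA8
    obtain ⟨B', hB'E, hB', hB'8, -, hB'B⟩ := reach B hB hB8
    refine hAA'.trans (Relation.ReflTransGen.head ⟨hA', hA'8, hB', hB'8, ?_⟩ hB'B)
    rw [Subgroup.commutator_eq_bot_iff_le_centralizer]
    exact fun a ha => Subgroup.mem_centralizer_iff.mpr fun b hb => hEc b (hB'E hb) a (hA'E ha)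
  · let W : Subgroup X := E ⊓ Subgroup.centralizer (V : Set X)
    have hT : Cfsg.IsElementaryAbelian 2 (W ⊔ V) := CfsgLib.Base.isElementaryAbelian_sup
      (CfsgLib.Base.isElementaryAbelian_le inf_le_left hE) hV inf_le_right
    have h4 : 4 ≤ Nat.card W := by
      obtain ⟨a, haV, ha1⟩ : ∃ a ∈ V, a ∉ (⊥ : Subgroup X) := SetLike.not_le_iff_exists.mp fun h => by
        have := Subgroup.card_le_of_le h; rw [Subgroup.card_bot] at this; omega
      have hD1 := hgrow V ⊥ a hV bot_le haV ha1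
      rw [Subgroup.card_bot, bot_sup_eq] at hD1
      by_cases hle : V ≤ Subgroup.zpowers a
      · refine le_trans (le_trans (by norm_num) (n1 a (hmul V hV a haV))) (Subgroup.card_le_of_le
          (inf_le_inf_left E fun e he => ?_))
        rw [hzc]
        exact hle.trans (Subgroup.zpowers_le.mpr (Subgroup.mem_centralizer_singleton_iff.mpr
          (Subgroup.mem_centralizer_singleton_iff.mp he).symm))
      obtain ⟨b, hbV, hb⟩ := SetLike.not_le_iff_exists.mp hle
      have hD2 := hgrow V (Subgroup.zpowers a) b hV (Subgroup.zpowers_le.mpr haV) hbV hb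
      have hgen : V ≤ Subgroup.zpowers a ⊔ Subgroup.zpowers b := (Subgroup.eq_of_le_of_card_ge
        (sup_le (Subgroup.zpowers_le.mpr haV) (Subgroup.zpowers_le.mpr hbV)) (by omega)).ge
      refine le_trans (n2 a b (hmul V hV a haV) (hmul V hV b hbV) (hcom V hV a haV b hbV))
        (Subgroup.card_le_of_le fun e he => ⟨he.1.1, (hzc e V).mpr ?_⟩)
      exact hgen.trans (sup_le
        (Subgroup.zpowers_le.mpr (Subgroup.mem_centralizer_singleton_iff.mpr
          (Subgroup.mem_centralizer_singleton_iff.mp he.1.2).symm))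
        (Subgroup.zpowers_le.mpr (Subgroup.mem_centralizer_singleton_iff.mpr
          (Subgroup.mem_centralizer_singleton_iff.mp he.2).symm)))
    have h8 : 8 ≤ Nat.card (W ⊔ V : Subgroup X) := by
      refine hup _ 2 ?_
      rw [pow_one]
      refine lt_of_le_of_ne (by have := Subgroup.card_le_of_le (le_sup_right : V ≤ W ⊔ V); omega) ?_
      intro h
      have hV' : V = W ⊔ V := Subgroup.eq_of_le_of_card_ge le_sup_right (by omega)
      have hWV : W = V := Subgroup.eq_of_le_of_card_ge (hV' ▸ le_sup_left) (by omega)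
      have hEW : E ≤ W := fun e he => ⟨he, (hzc e V).mpr fun v hv =>
        Subgroup.mem_centralizer_singleton_iff.mpr (hEc v (hWV.ge hv).1 e he)⟩
      have := Subgroup.card_le_of_le hEW
      rw [hWV] at this
      omega
    obtain ⟨A, hVA, hAT, hA8⟩ := hsub V (W ⊔ V) 2 le_sup_right hV4 (by norm_num) h8
    exact ⟨A, hVA, CfsgLib.Base.isElementaryAbelian_le hAT hT, hA8⟩

end Cfsg.Agent.S1785
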