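import Cfsg.Statements.S1850
import Mathlib
import Cfsg.Agent.Lib.Components.LocalLayer
import Cfsg.Agent.Lib.PGroups.Basic

set_option autoImplicit false
open Cfsg
open scoped Pointwise commutatorElement

namespace Cfsg.Agent.S1850

/-- Let G be a non-abelian finite simple QTKE-group and T a Sylow 2-subgroup of G. If U is a nontrivial 2-subgroup of G with U ∩ Z(T) ≠ 1, then F*(N_G(U)) = O₂(N_G(U)). -/
theorem result {G : Type*} [Group G] [Finite G] [IsSimpleGroup G]
    (hG : ¬ IsMulCommutative G) (hQ : Cfsg.IsQTKE G) (T : Sylow 2 G) (U : Subgroup G)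
    (hU : IsPGroup 2 ↥U) (hZ : U ⊓ ((T : Subgroup G) ⊓ Subgroup.centralizer ((T : Subgroup G) : Set G)) ≠ ⊥) :
    Subgroup.normalizer (U : Set G) ∈ Cfsg.calHe G := by
  classical
  haveI : Fact (Nat.Prime 2) := ⟨Nat.prime_two⟩
  obtain ⟨⟨u₀, hu₀⟩, hu₀1⟩ := (Subgroup.ne_bot_iff_exists_ne_one).mp hZ
  obtain ⟨hu₀U, hu₀T, hu₀C⟩ := hu₀
  have hu₀ne : u₀ ≠ 1 := fun h => hu₀1 (Subtype.ext h)
  -- an involution among the powers
  obtain ⟨k, hk⟩ := IsPGroup.iff_orderOf.mp hU ⟨u₀, hu₀U⟩
  rw [← Subgroup.orderOf_coe] at hk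
  change orderOf u₀ = 2 ^ k at hk
  obtain ⟨j, rfl⟩ : ∃ j, k = j + 1 := by
    refine ⟨k - 1, ?_⟩
    rcases k with _ | k
    · exact absurd (orderOf_eq_one_iff.mp (by simpa using hk)) hu₀ne
    · simp
  set u := u₀ ^ 2 ^ j with hu
  have hu2 : orderOf u = 2 := by
    rw [hu, orderOf_pow_of_dvd (by positivity) (hk ▸ pow_dvd_pow 2 (Nat.le_succ j)), hk, pow_succ,
      Nat.mul_div_cancel_left _ (by positivity)]
  set C := Subgroup.centralizer ({u} : Set G) with hC
  have huU : u ∈ U := U.pow_mem hu₀U _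
  have huC : u ∈ C := Subgroup.mem_centralizer_singleton_iff.mpr rfl
  have hTC : (T : Subgroup G) ≤ C := fun t ht => by
    rw [Subgroup.mem_centralizer_singleton_iff, hu]
    exact (Commute.pow_right (Subgroup.mem_centralizer_iff.mp hu₀C t ht) _).eq
  have hZu : IsPGroup 2 ↥(Subgroup.zpowers u) := IsPGroup.of_card (n := 1) (by rw [Nat.card_zpowers, hu2, pow_one])
  have huu : u * u = 1 := by
    have := pow_orderOf_eq_one u
    rwa [hu2, pow_two] at this
  have hNC : Subgroup.normalizer ((Subgroup.zpowers u : Subgroup G) : Set G) = C := by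
    refine le_antisymm (fun g hg => ?_) ?_
    · have h := (Subgroup.mem_normalizer_iff.mp hg u).mp (Subgroup.mem_zpowers u)
      obtain ⟨i, hi⟩ := Subgroup.mem_zpowers_iff.mp h
      rw [Subgroup.mem_centralizer_singleton_iff]
      rcases Int.even_or_odd i with ⟨r, hr⟩ | ⟨r, hr⟩
      · exfalso
        rw [hr, zpow_add, ← Commute.mul_zpow (Commute.refl u), huu, one_zpow, eq_comm, conj_eq_one_iff] at hi
        rw [hi, orderOf_one] at hu2
        omega
      · rw [hr, zpow_add, two_mul, zpow_add, ← Commute.mul_zpow (Commute.refl u), huu, one_zpow, one_mul, zpow_one,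
          eq_comm, mul_inv_eq_iff_eq_mul] at hi
        exact hi
    · intro g hg
      refine Subgroup.centralizer_le_normalizer _ (Subgroup.mem_centralizer_iff.mpr fun b hb => ?_)
      obtain ⟨i, rfl⟩ := Subgroup.mem_zpowers_iff.mp hb
      exact (Commute.zpow_left (Subgroup.mem_centralizer_singleton_iff.mp hg).symm i).eq
  have hchar : Cfsg.IsOfCharacteristicTwo ↥C :=
    hQ.2.2 C ⟨Subgroup.zpowers u, hZu,
      fun h => by
        have h1 := Subgroup.mem_zpowers u
        rw [h, Subgroup.mem_bot] at h1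
        rw [h1, orderOf_one] at hu2
        omega,
      hNC.symm⟩ ⟨T, hTC⟩
  set U₁ := U ⊓ C with hU1
  have hU1p : IsPGroup 2 ↥U₁ := hU.to_le inf_le_left
  have hCU1 : Subgroup.centralizer (U₁ : Set G) ≤ C := fun g hg =>
    Subgroup.mem_centralizer_singleton_iff.mpr (Subgroup.mem_centralizer_iff.mp hg u (Subgroup.mem_inf.mpr ⟨huU, huC⟩)).symm
  -- the local subgroup of `U ⊓ C(u)`
  have step1 : Cfsg.generalizedFittingSubgroup ↥(Subgroup.normalizer (U₁ : Set G)) =
      Cfsg.pCore 2 ↥(Subgroup.normalizer (U₁ : Set G)) := by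
    refine CfsgLib.Components.fstar_normalizer_eq_pCore hU1p (CfsgLib.Base.isPGroup_map_pCore 2 C)
      ((inf_le_right : U₁ ≤ C).trans (CfsgLib.Base.le_normalizer_map_pCore C))
      (hCU1.trans (CfsgLib.Base.le_normalizer_map_pCore C)) fun q hqT hq => ⟨⟨q, hCU1 hqT⟩, hchar ?_, rfl⟩
    exact Subgroup.mem_centralizer_iff.mpr fun x hx =>
      Subtype.ext (Subgroup.mem_centralizer_iff.mp hq x ⟨x, hx, rfl⟩)
  set N₁ := Subgroup.normalizer (U₁ : Set G) with hN1
  have hCUN : Subgroup.centralizer (U : Set G) ≤ N₁ :=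
    (Subgroup.centralizer_le (SetLike.coe_subset_coe.mpr inf_le_left)).trans (Subgroup.centralizer_le_normalizer _)
  -- iterate along the normalizer chain
  suffices main : ∀ V : Subgroup G, U₁ ≤ V → V ≤ U →
      Cfsg.generalizedFittingSubgroup ↥(Subgroup.normalizer (V : Set G)) =
        Cfsg.pCore 2 ↥(Subgroup.normalizer (V : Set G)) from main U inf_le_left le_rfl
  intro V
  induction V using WellFoundedLT.induction with
  | _ V ih =>
  intro h1V hVU
  rcases eq_or_lt_of_le h1V with rfl | hlt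
  · exact step1
  obtain ⟨M, hM, hM1⟩ := (eq_top_or_exists_le_coatom (U₁.subgroupOf V)).resolve_left
    (fun h => hlt.ne (le_antisymm h1V (Subgroup.subgroupOf_eq_top.mp h)))
  haveI := CfsgLib.PGroups.normal_of_isCoatom (hU.to_le hVU) hM
  set W := M.map V.subtype with hW
  have hWV : W < V := by
    refine lt_of_le_of_ne (Subgroup.map_subtype_le _) fun h => hM.1 ?_
    apply Subgroup.map_injective V.subtype_injective
    rw [← MonoidHom.range_eq_map, Subgroup.range_subtype]
    exact h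
  have h1W : U₁ ≤ W := fun x hx => ⟨⟨x, h1V hx⟩, hM1 (show (⟨x, h1V hx⟩ : ↥V) ∈ U₁.subgroupOf V from hx), rfl⟩
  have hrec := ih W hWV h1W (hWV.le.trans hVU)
  set NW := Subgroup.normalizer (W : Set G) with hNW
  have hVW : V ≤ NW := by
    intro v hv
    rw [hNW, Subgroup.mem_normalizer_iff_map_conj_eq]
    refine Subgroup.eq_of_le_of_card_ge ?_ (le_of_eq (Subgroup.card_map_of_injective (MulEquiv.injective _)).symm)
    rintro _ ⟨_, ⟨m, hm, rfl⟩, rfl⟩
    exact ⟨_, (inferInstance : M.Normal).conj_mem m hm ⟨v, hv⟩, by simp⟩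
  have hCV : Subgroup.centralizer (V : Set G) ≤ NW :=
    (Subgroup.centralizer_le (SetLike.coe_subset_coe.mpr hWV.le)).trans (Subgroup.centralizer_le_normalizer _)
  refine CfsgLib.Components.fstar_normalizer_eq_pCore (hU.to_le hVU) (CfsgLib.Base.isPGroup_map_pCore 2 NW)
    (hVW.trans (CfsgLib.Base.le_normalizer_map_pCore NW))
    (hCV.trans (CfsgLib.Base.le_normalizer_map_pCore NW))
    fun q hqT hq => ⟨⟨q, hCV hqT⟩, CfsgLib.Components.fstar_eq_pCore_iff.mp hrec ?_, rfl⟩
  exact Subgroup.mem_centralizer_iff.mpr fun x hx =>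
    Subtype.ext (Subgroup.mem_centralizer_iff.mp hq x ⟨x, hx, rfl⟩)

end Cfsg.Agent.S1850
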