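import Cfsg.Statements.S1851
import Cfsg.Agent.Lib.Techniques.FaithfulMembers

/-!
Upward closure of the faithful members of `ℒ(G,T)`.
-/

set_option autoImplicit false
open Cfsg

namespace Cfsg.Agent.S1851

/-- Let G be a non-abelian finite simple QTKE-group and T a Sylow 2-subgroup of G, and let L be a member of ℒ_f(G, T) (a member of ℒ(G, T) that lies in 𝒳 — L ≠ 1, L = O²(L), F*(L) = O₂(L) — and acts nontrivially on Ω₁(Z(O₂(L)))). Then (1) every member K of ℒ(G, T) containing L is again in ℒ_f(G, T) (a sharper form of (1) also compares the modules [Ω₁(Z(R)), L] and [Ω₁(Z(R')), K] for suitable 2-subgroups R, R'; that comparison is not included); and (2) if L is maximal under inclusion among the members of ℒ_f(G, T), then L is a maximal member of ℒ(G, T), hence a member of ℒ_f*(G, T). -/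
theorem result {G : Type*} [Group G] [Finite G] [IsSimpleGroup G]
    (hG : ¬ IsMulCommutative G) (hQ : Cfsg.IsQTKE G) (T : Sylow 2 G) (L : Subgroup G)
    (hL : L ∈ Cfsg.calLf (T : Subgroup G)) :
    (∀ K ∈ Cfsg.calL (T : Subgroup G), L ≤ K → K ∈ Cfsg.calLf (T : Subgroup G)) ∧
    ((∀ K ∈ Cfsg.calLf (T : Subgroup G), L ≤ K → K = L) → L ∈ Cfsg.calLfMax (T : Subgroup G)) := by
  haveI : Fact (Nat.Prime 2) := ⟨Nat.prime_two⟩
  obtain ⟨hLL, hLX, hLV⟩ := hL
  have main : ∀ K ∈ Cfsg.calL (T : Subgroup G), L ≤ K → K ∈ Cfsg.calLf (T : Subgroup G) := by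
    intro K hKL hLK
    obtain ⟨⟨hKne, hKperf, hKsn, hKmin⟩, hKS, hcore⟩ := hKL
    have hperf : ∀ (M H : Subgroup G), M ≤ H → ⁅M.subgroupOf H, M.subgroupOf H⁆ = M.subgroupOf H →
        ⁅M, M⁆ = M := by
      intro M H hM h
      have := congrArg (Subgroup.map H.subtype) h
      rwa [Subgroup.map_commutator, Subgroup.map_subgroupOf_eq_of_le hM] at this
    have hKp : ⁅K, K⁆ = K := hperf K _ le_sup_left hKperf
    set H := K ⊔ (T : Subgroup G) with hH
    set Q := Cfsg.pCoreTwoOf H with hQdef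
    have hQne : Q ≠ ⊥ := fun h => hcore ((Subgroup.map_eq_bot_iff_of_injective _ H.subtype_injective).1 h)
    have hQp : IsPGroup 2 ↥Q := CfsgLib.LocalEven.isPGroup_pCoreOf H
    have hHN : H ≤ Subgroup.normalizer (Q : Set G) := CfsgLib.LocalEven.le_normalizer_pCoreOf 2 H
    have hTH : (T : Subgroup G) ≤ H := le_sup_right
    set M := Subgroup.normalizer (Q : Set G) with hM
    have hMchar := (CfsgLib.LocalEven.charP_iff (p := 2) M).1 (hQ.2.2 M ⟨Q, hQp, hQne, rfl⟩ ⟨T, hTH.trans hHN⟩)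
    have hMT : Cfsg.pCoreOf 2 M ≤ (T : Subgroup G) := by
      have h := CfsgLib.LocalEven.pCore_le_sylow (p := 2) (T.subtype (hTH.trans hHN))
      refine le_trans (Subgroup.map_mono h) ?_
      rw [Sylow.coe_subtype, Subgroup.map_subgroupOf_eq_of_le (hTH.trans hHN)]
    have hchar : H ⊓ Subgroup.centralizer (Q : Set G) ≤ Q := by
      have hle : Cfsg.pCoreOf 2 M ≤ Q :=
        CfsgLib.LocalEven.le_pCoreOf (hMT.trans hTH) (hHN.trans (CfsgLib.LocalEven.le_normalizer_pCoreOf 2 M))
          (CfsgLib.LocalEven.isPGroup_pCoreOf M)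
      exact (le_inf (inf_le_left.trans hHN) (inf_le_right.trans (Subgroup.centralizer_le hle))).trans
        (hMchar.trans hle)
    have hX : K ∈ Cfsg.calX G := by
      refine ⟨fun h => hKne (by rw [h, Subgroup.bot_subgroupOf]), ?_, ?_⟩
      · refine le_antisymm ((Subgroup.closure_le _).2 fun _ hx => hx.1) ?_
        refine CfsgLib.Components.le_of_perfect_of_pPrime_elements (p := 2) hKp fun q hq hco => ?_
        exact Subgroup.subset_closure ⟨hq, Nat.coprime_two_right.1 hco⟩
      · show Cfsg.generalizedFittingSubgroup ↥K = Cfsg.pCore 2 ↥K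
        rw [CfsgLib.Components.fstar_eq_pCore_iff]
        exact CfsgLib.LocalEven.charP_equiv (Subgroup.subgroupOfEquivOfLe (le_sup_left : K ≤ H))
          (CfsgLib.LocalEven.charP_subnormal ((CfsgLib.LocalEven.charP_iff H).2 hchar) hKsn)
    refine ⟨⟨⟨hKne, hKperf, hKsn, hKmin⟩, hKS, hcore⟩, hX, fun hV => ?_⟩
    -- `L` would centralize its own module
    apply hLV
    unfold Cfsg.moduleV at hV ⊢
    rw [Subgroup.commutator_eq_bot_iff_le_centralizer] at hV ⊢
    have hTLK : (L ⊔ (T : Subgroup G)) ≤ H := sup_le (hLK.trans le_sup_left) le_sup_right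
    obtain ⟨⟨-, hLperf, hLsn, -⟩, -, -⟩ := hLL
    refine CfsgLib.Techniques.FaithfulMembers.centralizes_down (le_sup_left : L ≤ L ⊔ (T : Subgroup G)) hLsn
      (hperf L _ le_sup_left hLperf) ?_
    have h1 := CfsgLib.Techniques.FaithfulMembers.centralizes_up (le_sup_left : K ≤ H) hKsn hKp hV
    refine le_trans (CfsgLib.Techniques.FaithfulMembers.omegaZ_mono hTLK ?_ hchar)
      (h1.trans (Subgroup.centralizer_le hLK))
    refine le_trans ?_ (le_sup_right : (T : Subgroup G) ≤ L ⊔ (T : Subgroup G))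
    have h := CfsgLib.LocalEven.pCore_le_sylow (p := 2) (T.subtype hTH)
    refine le_trans (Subgroup.map_mono h) ?_
    rw [Sylow.coe_subtype, Subgroup.map_subgroupOf_eq_of_le hTH]
  refine ⟨main, fun hmax => ⟨⟨hLL, fun K hK hLK => hmax K (main K hK hLK) hLK⟩, hLX, hLV⟩⟩

end Cfsg.Agent.S1851
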