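import Cfsg.Statements.S1892
import Mathlib
import Cfsg.Agent.Lib.PLocal.PSolvable
import Cfsg.Agent.Lib.Base.Cores

set_option autoImplicit false
open Cfsg
open scoped Pointwise commutatorElement

namespace Cfsg.Agent.S1892

/-- Let S be a finite p-solvable group with no nontrivial normal subgroup of order prime to p, A a p-subgroup of S, and Q a nontrivial A-invariant subgroup of order prime to p with [A, Q] = Q. Then the commutator [O_p(S), A, Q] is nontrivial. -/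
theorem result {S : Type*} [Group S] [Finite S] {p : ℕ} [Fact p.Prime]
    (hS : Cfsg.IsPSolvable p S) (hred : Cfsg.pPrimeCore p S = ⊥)
    (A Q : Subgroup S) (hA : IsPGroup p A) (hQ : ¬ p ∣ Nat.card Q) (hQ1 : Q ≠ ⊥)
    (hinv : ∀ a ∈ A, ∀ x ∈ Q, a * x * a⁻¹ ∈ Q) (hAQ : ⁅A, Q⁆ = Q) :
    ⁅⁅Cfsg.pCore p S, A⁆, Q⁆ ≠ ⊥ := by
  classical
  intro h0
  set V := Cfsg.pCore p S with hV
  set W := ⁅V, A⁆ with hW
  haveI hVn : V.Normal := inferInstance
  have hWV : W ≤ V := Subgroup.commutator_le_left V A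
  have hWc : ∀ q ∈ Q, ∀ w ∈ W, q * w = w * q := fun q hq w hw => by
    have := Subgroup.commutator_eq_bot_iff_le_centralizer.mp h0 hw
    exact Subgroup.mem_centralizer_iff.mp this q hq
  have hWA : ∀ a ∈ A, ∀ w ∈ W, a * w * a⁻¹ ∈ W := fun a ha w hw =>
    (Subgroup.mem_normalizer_iff.mp (Subgroup.normalizer_commutator_ge_right V A ha) w).mp hw
  have hAV : ∀ a ∈ A, ∀ v ∈ V, a * v * a⁻¹ * v⁻¹ ∈ W := fun a ha v hv => by
    have h1 : ⁅v, a⁆⁻¹ ∈ W := W.inv_mem (Subgroup.commutator_mem_commutator hv ha)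
    rw [commutatorElement_inv, commutatorElement_def] at h1
    exact h1
  let K : Subgroup S :=
    { carrier := {g | (∀ w ∈ W, g * w = w * g) ∧ ∀ v ∈ V, g * v * g⁻¹ * v⁻¹ ∈ W}
      one_mem' := ⟨fun w _ => by simp, fun v _ => by simp⟩
      mul_mem' := by
        rintro g h ⟨hg1, hg2⟩ ⟨hh1, hh2⟩
        refine ⟨fun w hw => by rw [mul_assoc, hh1 w hw, ← mul_assoc, hg1 w hw, mul_assoc], fun v hv => ?_⟩
        have e : g * h * v * (g * h)⁻¹ * v⁻¹
            = (g * (h * v * h⁻¹ * v⁻¹)) * g⁻¹ * (g * v * g⁻¹ * v⁻¹) := by group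
        rw [e, hg1 _ (hh2 v hv), mul_inv_cancel_right]
        exact W.mul_mem (hh2 v hv) (hg2 v hv)
      inv_mem' := by
        rintro g ⟨hg1, hg2⟩
        refine ⟨fun w hw => ?_, fun v hv => ?_⟩
        · have := hg1 w hw
          calc g⁻¹ * w = g⁻¹ * (w * g) * g⁻¹ := by group
            _ = g⁻¹ * (g * w) * g⁻¹ := by rw [this]
            _ = w * g⁻¹ := by group
        · have hv' : g⁻¹ * v * g ∈ V := by simpa using hVn.conj_mem v hv g⁻¹
          have h1 := hg2 _ hv'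
          have e : g⁻¹ * v * g⁻¹⁻¹ * v⁻¹ = (g * (g⁻¹ * v * g) * g⁻¹ * (g⁻¹ * v * g)⁻¹)⁻¹ := by group
          rw [e]; exact W.inv_mem h1 }
  have hQK : Q ≤ K := by
    rw [← hAQ, Subgroup.commutator_le]
    intro a ha q hq
    have haq : ⁅a, q⁆ ∈ Q := hAQ ▸ Subgroup.commutator_mem_commutator ha hq
    refine ⟨fun w hw => hWc _ haq w hw, fun v hv => ?_⟩
    set v1 := q⁻¹ * v * q with hv1d
    have hv1 : v1 ∈ V := by simpa [hv1d] using hVn.conj_mem v hv q⁻¹
    have hw1 : a⁻¹ * v1 * a⁻¹⁻¹ * v1⁻¹ ∈ W := hAV _ (A.inv_mem ha) v1 hv1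
    set w1 := a⁻¹ * v1 * a⁻¹⁻¹ * v1⁻¹ with hw1d
    have e1 : q * w1 * q⁻¹ = w1 := by rw [hWc q hq w1 hw1, mul_inv_cancel_right]
    have e2 : ⁅a, q⁆ * v * ⁅a, q⁆⁻¹ * v⁻¹ = (a * (q * w1 * q⁻¹) * a⁻¹) * (a * v * a⁻¹ * v⁻¹) := by
      simp only [hw1d, hv1d, commutatorElement_def]; group
    rw [e2, e1]
    exact W.mul_mem (hWA a ha w1 hw1) (hAV a ha v hv)
  have hQV : Q ≤ Subgroup.centralizer (V : Set S) := by
    intro q hq
    refine Subgroup.mem_centralizer_iff.mpr fun v hv => ?_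
    obtain ⟨h1, h2⟩ := hQK hq
    set w := q * v * q⁻¹ * v⁻¹ with hwd
    have hw : w ∈ W := h2 v hv
    have hn : ∀ n : ℕ, q ^ n * v * (q ^ n)⁻¹ = w ^ n * v := by
      intro n
      induction n with
      | zero => simp
      | succ n ih =>
        have e : q ^ (n + 1) * v * (q ^ (n + 1))⁻¹ = (q * (w ^ n)) * q⁻¹ * (q * v * q⁻¹) := by
          calc q ^ (n + 1) * v * (q ^ (n + 1))⁻¹ = q * (q ^ n * v * (q ^ n)⁻¹) * q⁻¹ := by
                rw [pow_succ']; group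
            _ = q * (w ^ n * v) * q⁻¹ := by rw [ih]
            _ = _ := by group
        rw [e, h1 _ (W.pow_mem hw n), mul_inv_cancel_right, pow_succ, mul_assoc (w ^ n) w v, hwd]
        group
    have h3 := hn (orderOf q)
    rw [pow_orderOf_eq_one, one_mul, inv_one, mul_one] at h3
    have h4 : w ^ orderOf q = 1 := right_eq_mul.mp h3
    obtain ⟨k, hk⟩ := (CfsgLib.Base.isPGroup_pCore p S) ⟨w, hWV hw⟩
    have hk' : w ^ p ^ k = 1 := congrArg Subtype.val hk
    have hcop : (orderOf q).Coprime (p ^ k) := by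
      refine Nat.Coprime.pow_right k ?_
      refine ((Nat.Prime.coprime_iff_not_dvd Fact.out).mpr fun hd => hQ (hd.trans ?_)).symm
      exact Subgroup.orderOf_dvd_natCard Q hq
    have h5 : w = 1 := by
      have := Nat.eq_one_of_dvd_coprimes hcop (orderOf_dvd_of_pow_eq_one h4) (orderOf_dvd_of_pow_eq_one hk')
      exact orderOf_eq_one_iff.mp this
    rw [hwd, mul_inv_eq_one, mul_inv_eq_iff_eq_mul] at h5
    exact h5.symm
  have hQp : IsPGroup p Q :=
    (CfsgLib.Base.isPGroup_pCore p S).to_le (hQV.trans (CfsgLib.PLocal.centralizer_pCore_le hS hred))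
  obtain ⟨n, hn⟩ := IsPGroup.iff_card.mp hQp
  rcases n with _ | n
  · exact hQ1 (Subgroup.card_eq_one.mp (by simpa using hn))
  · exact hQ (hn ▸ dvd_pow_self p (Nat.succ_ne_zero n))

end Cfsg.Agent.S1892
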