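import Cfsg.Statements.S1894
import Mathlib
import Cfsg.Agent.Lib.PGroups.MaxAbelian

set_option autoImplicit false
open Cfsg
open scoped Pointwise commutatorElement

namespace Cfsg.Agent.S1894

/-- Let P be a finite p-group, A a normal subgroup of P and B an abelian subgroup of A that is normal in P. Then some subgroup C of A containing B is normal in P and is self-centralizing and normal in A (C ∈ SCN(A)). -/
theorem result {P : Type*} [Group P] [Finite P] {p : ℕ} [Fact p.Prime] (hP : IsPGroup p P)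
    (A : Subgroup P) [A.Normal] (B : Subgroup P) [B.Normal] (hBA : B ≤ A) (hB : IsMulCommutative B) :
    ∃ C : Subgroup P, C.Normal ∧ B ≤ C ∧ Cfsg.IsSCN A C := by

  obtain ⟨C, hC⟩ := Set.Finite.exists_maximal
    (s := {C : Subgroup P | C.Normal ∧ IsMulCommutative C ∧ B ≤ C ∧ C ≤ A}) (Set.toFinite _)
    ⟨B, inferInstance, hB, le_rfl, hBA⟩
  obtain ⟨hn, hab, hBC, hCA⟩ := hC.1
  haveI := hn
  refine ⟨C, hn, hBC, hCA, Subgroup.le_normalizer_of_normal, le_antisymm ?_
    (le_inf hCA ((CfsgLib.PGroups.isMulCommutative_iff_le_centralizer C).mp hab))⟩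
  by_contra hnot
  have hlt : C < A ⊓ Subgroup.centralizer (C : Set P) :=
    lt_of_le_not_ge (le_inf hCA ((CfsgLib.PGroups.isMulCommutative_iff_le_centralizer C).mp hab)) hnot
  obtain ⟨K, hK, hCK, hKD, hrel, -⟩ := CfsgLib.PGroups.exists_normal_index_prime hP hlt
  obtain ⟨x, hxK, hxC⟩ : ∃ x ∈ K, x ∉ C := by
    refine SetLike.not_le_iff_exists.mp fun h => ?_
    rw [Subgroup.relIndex_eq_one.mpr h] at hrel
    exact (Fact.out : p.Prime).ne_one hrel.symm
  have hsup : C ⊔ Subgroup.zpowers x = K := by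
    refine le_antisymm (sup_le hCK (Subgroup.zpowers_le.mpr hxK)) ?_
    have h1 := Subgroup.relIndex_mul_relIndex C (C ⊔ Subgroup.zpowers x) K le_sup_left
      (sup_le hCK (Subgroup.zpowers_le.mpr hxK))
    rw [hrel] at h1
    rcases Nat.prime_mul_iff.mp (h1 ▸ (Fact.out : p.Prime)) with ⟨_, h⟩ | ⟨_, h⟩
    · exact Subgroup.relIndex_eq_one.mp h
    · exact absurd (Subgroup.relIndex_eq_one.mp h (le_sup_right (a := C) (Subgroup.mem_zpowers x))) hxC
  have hKab : IsMulCommutative K :=
    hsup ▸ CfsgLib.PGroups.isMulCommutative_sup_zpowers hab (hKD hxK).2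
  exact hxC (hC.2 ⟨hK, hKab, hBC.trans hCK, hKD.trans inf_le_left⟩ hCK hxK)

end Cfsg.Agent.S1894
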