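import Cfsg.Statements.S1897
import Cfsg.Agent.Lib.Techniques.PSUThreeSeven
import Cfsg.Agent.S0998
import Cfsg.Agent.Lib.Small.AEight.Basic
import Cfsg.Agent.Lib.Classical.Order
import Cfsg.Agent.Lib.Classical.PermModels

set_option autoImplicit false
open Cfsg

namespace Cfsg.Agent.S1897

/-- The projective special unitary group PSU₃(3) (realised over the field with 9 elements) has a subgroup isomorphic to PSL₂(7). -/
theorem result {F : Type*} [Field F] [Fintype F] (hF : Fintype.card F = 9)
    {K : Type*} [Field K] [Fintype K] (hK : Fintype.card K = 7) :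
    ∃ H : Subgroup (Cfsg.PSU 3 F 3), Nonempty (H ≃* Matrix.ProjectiveSpecialLinearGroup (Fin 2) K) := by
  obtain ⟨H, hcard, hns⟩ := CfsgLib.Techniques.PSUThreeSeven.exists_subgroup hF
  haveI : IsSimpleGroup H := CfsgLib.Small.AEight.simple_of_card_168 hcard hns
  have hcyc : ¬ IsCyclic H := fun h => hns (Group.isSolvable_of_comm fun a b => by
    letI := h.commGroup; exact mul_comm a b)
  refine ⟨H, ?_⟩
  rcases Cfsg.Agent.S0998.result hcyc 7 2 3 3 (by norm_num) (by norm_num) (by norm_num) (by norm_num)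
      (by norm_num) (by norm_num) (by rw [hcard]; norm_num) with
    ⟨F', fF, iF, hc, ⟨e⟩⟩ | ⟨F', fF, iF, hc, ⟨e⟩⟩
  · exfalso
    have h := (Nat.card_congr e.toEquiv).symm.trans hcard
    rw [CfsgLib.Classical.card_PSL_two, Nat.card_eq_fintype_card, hc] at h
    norm_num at h
  · obtain ⟨e'⟩ := CfsgLib.Classical.nonempty_PSL_congr (ι := Fin 2)
      (FiniteField.ringEquivOfCardEq (K := F') (K' := K) (hc.trans hK.symm))
    exact ⟨e.trans e'⟩

end Cfsg.Agent.S1897
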