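import Cfsg.Statements.S1898
import Mathlib

set_option autoImplicit false
open Cfsg
open scoped Pointwise commutatorElement

namespace Cfsg.Agent.S1898

/-- Let X be a finite 2-group whose derived subgroup is elementary abelian and central. Then the subgroup generated by the elements of order dividing 4 has exponent dividing 4, and every automorphism of X fixing each element of order dividing 4 has 2-power order. -/
theorem result {X : Type*} [Group X] [Finite X] (hX : IsPGroup 2 X)
    (hel : Cfsg.IsElementaryAbelian 2 (commutator X)) (hcen : commutator X ≤ Subgroup.center X) :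
    (∀ x ∈ Subgroup.closure {g : X | g ^ 4 = 1}, x ^ 4 = 1) ∧
      ∀ φ : MulAut X, (∀ g : X, g ^ 4 = 1 → φ g = g) → ∃ k : ℕ, φ ^ (2 ^ k) = 1 := by
  have hsq : ∀ c : X, c ∈ commutator X → c ^ 2 = 1 := hel.2
  have hmemc : ∀ a b : X, ⁅a, b⁆ ∈ commutator X := fun a b =>
    Subgroup.commutator_mem_commutator (Subgroup.mem_top a) (Subgroup.mem_top b)
  have hcomm : ∀ a b c : X, c * ⁅a, b⁆ = ⁅a, b⁆ * c := fun a b c => Subgroup.mem_center_iff.1 (hcen (hmemc a b)) c
  -- squares are central
  have hsqc : ∀ a b : X, a ^ 2 * b = b * a ^ 2 := by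
    intro a b
    have h : a * b = ⁅a, b⁆ * (b * a) := by rw [commutatorElement_def]; group
    calc a ^ 2 * b = a * (a * b) := by rw [pow_two, mul_assoc]
    _ = ⁅a, b⁆ * (a * b) * a := by rw [h, ← mul_assoc, hcomm a b a, ← h]; simp [mul_assoc]
    _ = ⁅a, b⁆ ^ 2 * (b * a ^ 2) := by rw [h]; simp [pow_two, mul_assoc]
    _ = b * a ^ 2 := by rw [hsq _ (hmemc a b), one_mul]
  have hmul : ∀ a b : X, (a * b) ^ 2 = ⁅b, a⁆ * (a ^ 2 * b ^ 2) := by
    intro a b
    calc (a * b) ^ 2 = a * (⁅b, a⁆ * (a * b)) * b := by rw [pow_two, commutatorElement_def]; group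
    _ = ⁅b, a⁆ * (a ^ 2 * b ^ 2) := by rw [← mul_assoc a, hcomm b a a]; simp [pow_two, mul_assoc]
  constructor
  · intro x hx
    induction hx using Subgroup.closure_induction with
    | mem y hy => exact hy
    | one => exact one_pow 4
    | inv y _ hy => rw [inv_pow, hy, inv_one]
    | mul y z _ _ hy hz =>
      have h4 : ∀ w : X, w ^ 4 = (w ^ 2) ^ 2 := fun w => by rw [← pow_mul]
      rw [h4] at hy hz ⊢
      rw [hmul, Commute.mul_pow (show Commute ⁅z, y⁆ (y ^ 2 * z ^ 2) from (hcomm z y _).symm) 2,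
        hsq _ (hmemc z y), one_mul, Commute.mul_pow (show Commute (y ^ 2) (z ^ 2) from hsqc y (z ^ 2)), hy, hz, one_mul]
  · intro φ hφ
    obtain ⟨a, m, hm, hord⟩ : ∃ a m, ¬ 2 ∣ m ∧ orderOf φ = 2 ^ a * m :=
      ⟨_, _, Nat.not_dvd_ordCompl Nat.prime_two (orderOf_pos φ).ne', (Nat.ordProj_mul_ordCompl_eq_self _ 2).symm⟩
    refine ⟨a, ?_⟩
    set ψ := φ ^ 2 ^ a with hψ
    have hψm : ψ ^ m = 1 := by rw [hψ, ← pow_mul, ← hord, pow_orderOf_eq_one]
    have hψfix : ∀ g : X, g ^ 4 = 1 → ψ g = g := by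
      intro g hg
      have : φ ∈ MulAction.stabilizer (MulAut X) g := hφ g hg
      exact pow_mem this _
    suffices hk : ∀ k : ℕ, ∀ x : X, x ^ 2 ^ k = 1 → ψ x = x by
      apply MulEquiv.ext
      intro x
      obtain ⟨k, hk'⟩ := hX x
      exact hk k x hk'
    intro k
    induction k with
    | zero => intro x hx; rw [pow_zero, pow_one] at hx; rw [hx, map_one]
    | succ k ih =>
      intro x hx
      have hx2 : ψ (x ^ 2) = x ^ 2 := ih _ (by rw [← pow_mul, ← pow_succ']; exact hx)
      set y := x⁻¹ * ψ x with hy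
      have hxy : ψ x = x * y := by rw [hy, mul_inv_cancel_left]
      have h2 : x ^ 2 = ⁅y, x⁆ * (x ^ 2 * y ^ 2) := by
        conv_lhs => rw [← hx2, map_pow, hxy, hmul]
      have hy2 : ⁅y, x⁆ * y ^ 2 = 1 := by
        apply mul_left_cancel (a := x ^ 2)
        rw [← mul_assoc, hcomm y x (x ^ 2), mul_assoc, ← h2, mul_one]
      have hy4 : y ^ 4 = 1 := by
        rw [show y ^ 4 = (y ^ 2) ^ 2 by rw [← pow_mul], eq_inv_of_mul_eq_one_right hy2, inv_pow,
          hsq _ (hmemc y x), inv_one]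
      have hyf := hψfix y hy4
      have hpow : ∀ j : ℕ, (ψ ^ j) x = x * y ^ j := by
        intro j
        induction j with
        | zero => simp
        | succ j ihj => rw [pow_succ', MulAut.mul_apply, ihj, map_mul, map_pow, hyf, hxy, mul_assoc, ← pow_succ']
      have hym : y ^ m = 1 := by
        have := hpow m
        rwa [hψm, MulAut.one_apply, left_eq_mul] at this
      have hcop : Nat.Coprime m 4 := by
        rw [show (4 : ℕ) = 2 ^ 2 by rfl]
        exact Nat.Coprime.pow_right 2 ((Nat.Prime.coprime_iff_not_dvd Nat.prime_two).2 hm).symm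
      have : y ^ Nat.gcd m 4 = 1 := pow_gcd_eq_one.2 ⟨hym, hy4⟩
      rw [hcop, pow_one] at this
      rw [hxy, this, mul_one]

end Cfsg.Agent.S1898
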