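import Cfsg.Statements.S1899
import Mathlib

set_option autoImplicit false
open Cfsg
open scoped Pointwise commutatorElement

namespace Cfsg.Agent.S1899

/-- Let a dihedral group of order 2n, n odd and n > 1, act on a finite abelian 2-group A through automorphisms d and t with d^n = 1, t² = 1 and t d t⁻¹ = d⁻¹, and suppose that d fixes only the identity. Then A is the internal direct product of C_A(t) and its image under d. -/
theorem result {A : Type*} [CommGroup A] [Finite A] (hA : IsPGroup 2 A)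
    {n : ℕ} (hn : Odd n) (hn1 : 1 < n) (d t : MulAut A) (hd : d ^ n = 1) (ht : t ^ 2 = 1) (hdt : t * d * t⁻¹ = d⁻¹)
    (hfix : ∀ a : A, d a = a → a = 1) :
    (MulEquiv.toMonoidHom t).eqLocus (MonoidHom.id A) ⊓ ((MulEquiv.toMonoidHom t).eqLocus (MonoidHom.id A)).map d.toMonoidHom = ⊥ ∧
      (MulEquiv.toMonoidHom t).eqLocus (MonoidHom.id A) ⊔ ((MulEquiv.toMonoidHom t).eqLocus (MonoidHom.id A)).map d.toMonoidHom = ⊤ := by
  set F : Subgroup A := (MulEquiv.toMonoidHom t).eqLocus (MonoidHom.id A) with hF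
  have memF : ∀ a : A, a ∈ F ↔ t a = a := fun a => Iff.rfl
  have tt : ∀ a : A, t (t a) = a := fun a => by
    have := congrArg (fun e : MulAut A => e a) ht
    simpa [pow_two] using this
  have htd : ∀ a : A, t (d a) = d⁻¹ (t a) := fun a => by
    have := congrArg (fun e : MulAut A => e (t a)) hdt
    simpa using this
  -- fixed points of `d ^ 2` are trivial
  have hfix2 : ∀ a : A, d (d a) = a → a = 1 := by
    intro a ha
    refine hfix a ?_
    obtain ⟨m, hm⟩ := hn
    have h2 : ∀ j : ℕ, (d ^ (2 * j)) a = a := by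
      intro j
      induction j with
      | zero => rfl
      | succ j ih => rw [show 2 * (j + 1) = 2 * j + 2 by ring, pow_add, MulAut.mul_apply, pow_two, MulAut.mul_apply, ha, ih]
    have h3 : (d ^ n) a = a := by rw [hd]; rfl
    rw [hm, pow_succ, MulAut.mul_apply] at h3
    calc d a = d ((d ^ (2 * m)) a) := by rw [h2]
    _ = (d ^ (2 * m)) (d a) := by rw [← MulAut.mul_apply, ← pow_succ', pow_succ, MulAut.mul_apply]
    _ = a := h3
  let δ : A →* A := MonoidHom.mk' (fun y => d y * (d⁻¹ y)⁻¹) (fun a b => by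
    simp [map_mul, mul_inv, mul_comm, mul_left_comm, mul_assoc])
  have hδ : Function.Bijective δ := by
    rw [← Finite.injective_iff_bijective]
    intro a b h
    have h' : d (a * b⁻¹) = d⁻¹ (a * b⁻¹) := by
      have : δ (a * b⁻¹) = 1 := by rw [map_mul, map_inv, h, mul_inv_cancel]
      exact mul_inv_eq_one.1 this
    have : a * b⁻¹ = 1 := hfix2 _ (by rw [h']; simp)
    exact mul_inv_eq_one.1 this
  have hδt : ∀ y : A, δ (t y) = (t (δ y))⁻¹ := by
    intro y
    show d (t y) * (d⁻¹ (t y))⁻¹ = (t (d y * (d⁻¹ y)⁻¹))⁻¹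
    have htd' : t (d⁻¹ y) = d (t y) := by
      have := congrArg d (htd (d⁻¹ y))
      simpa using this.symm
    rw [map_mul, map_inv, htd, htd', mul_inv, inv_inv, mul_comm]
  constructor
  · rw [eq_bot_iff]
    rintro a ⟨ha, b, hb, rfl⟩
    have ha' : t (d b) = d b := ha
    rw [htd, (memF b).1 hb] at ha'
    have : b = 1 := hfix2 b (by rw [← ha']; simp)
    simp [this]
  · rw [eq_top_iff]
    rintro a -
    obtain ⟨y, hy⟩ := hδ.2 (a * (t a)⁻¹)
    have hty : t y = y := hδ.1 (by
      rw [hδt, hy, map_mul, map_inv, tt, mul_inv, inv_inv, mul_comm])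
    have hy' : d y * (d⁻¹ y)⁻¹ = a * (t a)⁻¹ := hy
    have hx : t (a * (d y)⁻¹) = a * (d y)⁻¹ := by
      rw [map_mul, map_inv, htd, hty, mul_inv_eq_iff_eq_mul, mul_assoc, eq_comm]
      have : a * ((d y)⁻¹ * d⁻¹ y) = a * (d y * (d⁻¹ y)⁻¹)⁻¹ := by rw [mul_inv, inv_inv]
      rw [this, hy', mul_inv, inv_inv, mul_inv_cancel_left]
    have : a = a * (d y)⁻¹ * d y := by group
    rw [this]
    exact mul_mem (Subgroup.mem_sup_left ((memF _).2 hx)) (Subgroup.mem_sup_right ⟨y, (memF y).2 hty, rfl⟩)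

end Cfsg.Agent.S1899
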