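import Cfsg.Statements.S1900
import Mathlib
import Cfsg.Agent.Lib.Coprime.Action
import Cfsg.Agent.Lib.Coprime.Action2

set_option autoImplicit false
open Cfsg
open scoped Pointwise commutatorElement

namespace Cfsg.Agent.S1900

/-- Let S = PQ be a finite group with P a normal Sylow p-subgroup and Q elementary abelian of order q², q a prime different from p. If exactly two subgroups X₁, X₂ of order q in Q have a nontrivial centralizer in P, then P is the internal direct product of C_P(X₁) and C_P(X₂): they commute elementwise, meet trivially and generate P. -/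
theorem result {S : Type*} [Group S] [Finite S] {p q : ℕ} [Fact p.Prime] [Fact q.Prime] (hpq : p ≠ q)
    (P : Sylow p S) [(P : Subgroup S).Normal] (Q : Subgroup S) (hQ : Cfsg.IsElementaryAbelian q Q) (hQc : Nat.card Q = q ^ 2)
    (hS : (P : Subgroup S) ⊔ Q = ⊤)
    (X₁ X₂ : Subgroup S) (h₁ : X₁ ≤ Q) (h₂ : X₂ ≤ Q) (h₁₂ : X₁ ≠ X₂) (hc₁ : Nat.card X₁ = q) (hc₂ : Nat.card X₂ = q)
    (hf₁ : (P : Subgroup S) ⊓ Subgroup.centralizer (X₁ : Set S) ≠ ⊥)
    (hf₂ : (P : Subgroup S) ⊓ Subgroup.centralizer (X₂ : Set S) ≠ ⊥)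
    (honly : ∀ X : Subgroup S, X ≤ Q → Nat.card X = q →
      (P : Subgroup S) ⊓ Subgroup.centralizer (X : Set S) ≠ ⊥ → X = X₁ ∨ X = X₂) :
    ⁅(P : Subgroup S) ⊓ Subgroup.centralizer (X₁ : Set S), (P : Subgroup S) ⊓ Subgroup.centralizer (X₂ : Set S)⁆ = ⊥ ∧
      ((P : Subgroup S) ⊓ Subgroup.centralizer (X₁ : Set S)) ⊓ ((P : Subgroup S) ⊓ Subgroup.centralizer (X₂ : Set S)) = ⊥ ∧
      ((P : Subgroup S) ⊓ Subgroup.centralizer (X₁ : Set S)) ⊔ ((P : Subgroup S) ⊓ Subgroup.centralizer (X₂ : Set S)) = P := by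
  classical
  set C₁ := (P : Subgroup S) ⊓ Subgroup.centralizer (X₁ : Set S) with hC1
  set C₂ := (P : Subgroup S) ⊓ Subgroup.centralizer (X₂ : Set S) with hC2
  haveI : IsMulCommutative ↥Q := hQ.1
  have hQab : ∀ a ∈ Q, ∀ b ∈ Q, a * b = b * a := fun a ha b hb =>
    congrArg Subtype.val (mul_comm' (⟨a, ha⟩ : ↥Q) ⟨b, hb⟩)
  have hq : q.Prime := Fact.out
  obtain ⟨n, hn⟩ := IsPGroup.iff_card.mp P.isPGroup'
  have hcop : ∀ H : Subgroup S, H ≤ (P : Subgroup S) → (Nat.card ↥Q).Coprime (Nat.card ↥H) := fun H hH => by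
    refine Nat.Coprime.coprime_dvd_right (Subgroup.card_dvd_of_le hH) ?_
    rw [hQc, hn]
    exact Nat.Coprime.pow 2 n ((Nat.coprime_primes hq Fact.out).mpr (Ne.symm hpq))
  have hnc : ¬ IsCyclic ↥Q := by
    intro hc
    have h1 := IsCyclic.exponent_eq_card (α := ↥Q)
    have h2 : Monoid.exponent ↥Q ∣ q := Monoid.exponent_dvd_of_forall_pow_eq_one fun x => Subtype.ext (by
      simpa using hQ.2 x x.2)
    rw [h1, hQc] at h2
    have := Nat.le_of_dvd hq.pos h2
    nlinarith [hq.two_le]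
  -- every line other than the two given ones has no fixed points
  have hgen : ∀ K : Subgroup S, K.Normal → K ≤ (P : Subgroup S) → K ≤ (K ⊓ C₁) ⊔ (K ⊓ C₂) := by
    intro K hK hKP
    haveI := hK
    refine CfsgLib.Coprime.le_of_centralizer_le_of_not_isCyclic hnc Subgroup.le_normalizer_of_normal
      (hcop K hKP) fun a ha ha1 => ?_
    set X := Subgroup.zpowers a with hX
    have hXc : Nat.card ↥X = q := by
      rw [Nat.card_zpowers]
      exact orderOf_eq_prime (hQ.2 a ha) ha1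
    have hsub : K ⊓ Subgroup.centralizer {a} ≤ K ⊓ ((P : Subgroup S) ⊓ Subgroup.centralizer (X : Set S)) := by
      refine le_inf inf_le_left (le_inf (inf_le_left.trans hKP) (inf_le_right.trans ?_))
      intro k hk
      refine Subgroup.mem_centralizer_iff.mpr fun b hb => ?_
      obtain ⟨i, rfl⟩ := Subgroup.mem_zpowers_iff.mp hb
      exact (Commute.zpow_left (Subgroup.mem_centralizer_singleton_iff.mp hk).symm i).eq
    refine hsub.trans ?_
    by_cases hfix : (P : Subgroup S) ⊓ Subgroup.centralizer (X : Set S) = ⊥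
    · rw [hfix, inf_bot_eq]; exact bot_le
    · rcases honly X (Subgroup.zpowers_le.mpr ha) hXc hfix with h | h
      · rw [h]; exact le_sup_left
      · rw [h]; exact le_sup_right
  have hPgen : C₁ ⊔ C₂ = (P : Subgroup S) :=
    le_antisymm (sup_le inf_le_left inf_le_left)
      ((hgen _ inferInstance le_rfl).trans (sup_le_sup inf_le_right inf_le_right))
  -- no common fixed points
  have hQfix : (P : Subgroup S) ⊓ Subgroup.centralizer (Q : Set S) = ⊥ := by
    by_contra hne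
    have hall : ∀ a ∈ Q, a ≠ 1 → Subgroup.zpowers a = X₁ ∨ Subgroup.zpowers a = X₂ := by
      intro a ha ha1
      refine honly _ (Subgroup.zpowers_le.mpr ha) ?_ fun hb => hne (le_bot_iff.mp (le_trans ?_ hb.le))
      · rw [Nat.card_zpowers]; exact orderOf_eq_prime (hQ.2 a ha) ha1
      · exact inf_le_inf_left _ (Subgroup.centralizer_le (SetLike.coe_subset_coe.mpr (Subgroup.zpowers_le.mpr ha)))
    have hsub : (Q : Set S) ⊆ (X₁ : Set S) ∪ (X₂ : Set S) := fun a ha => by
      rcases eq_or_ne a 1 with rfl | ha1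
      · exact Or.inl X₁.one_mem
      · rcases hall a ha ha1 with h | h
        · exact Or.inl (h ▸ Subgroup.mem_zpowers a)
        · exact Or.inr (h ▸ Subgroup.mem_zpowers a)
    have hle := (Set.ncard_le_ncard hsub (Set.toFinite _)).trans (Set.ncard_union_le _ _)
    rw [← Nat.card_coe_set_eq, ← Nat.card_coe_set_eq, ← Nat.card_coe_set_eq] at hle
    change Nat.card ↥Q ≤ Nat.card ↥X₁ + Nat.card ↥X₂ at hle
    rw [hQc, hc₁, hc₂] at hle
    have h3 : q = 2 := by nlinarith [hq.two_le]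
    -- for `q = 2` count exactly: the identity is common to both
    have hle' : Nat.card ↥Q ≤ 3 := by
      have h4 : (Q : Set S) ⊆ insert 1 (((X₁ : Set S) \ {1}) ∪ ((X₂ : Set S) \ {1})) := by
        intro a ha
        rcases eq_or_ne a 1 with h | h
        · exact Or.inl h
        · rcases hsub ha with h' | h'
          · exact Or.inr (Or.inl ⟨h', h⟩)
          · exact Or.inr (Or.inr ⟨h', h⟩)
      have h5 := (Set.ncard_le_ncard h4 (Set.toFinite _)).trans (Set.ncard_insert_le _ _)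
      have h6 := Set.ncard_union_le ((X₁ : Set S) \ {1}) ((X₂ : Set S) \ {1})
      have e : ∀ H : Subgroup S, (H : Set S).ncard = Nat.card ↥H := fun H => (Nat.card_coe_set_eq _).symm
      rw [Set.ncard_diff_singleton_of_mem (show (1 : S) ∈ (X₁ : Set S) from X₁.one_mem),
        Set.ncard_diff_singleton_of_mem (show (1 : S) ∈ (X₂ : Set S) from X₂.one_mem), e, e, hc₁, hc₂] at h6
      rw [e] at h5
      omega
    rw [hQc, h3] at hle'
    omega
  have hQsup : X₁ ⊔ X₂ = Q := by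
    refine Subgroup.eq_of_le_of_card_ge (sup_le h₁ h₂) ?_
    by_contra hlt
    obtain ⟨j, hjle, hj⟩ := (Nat.dvd_prime_pow hq).mp (hQc ▸ Subgroup.card_dvd_of_le (sup_le h₁ h₂))
    have hj1 : j ≤ 1 := by
      by_contra h
      exact hlt (le_of_eq (by rw [hj, hQc, show j = 2 by omega]))
    have hle : Nat.card ↥(X₁ ⊔ X₂) ≤ q := by
      rw [hj]; exact (Nat.pow_le_pow_right hq.pos hj1).trans (pow_one q).le
    exact h₁₂ ((Subgroup.eq_of_le_of_card_ge le_sup_left (hle.trans hc₁.ge)).trans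
      (Subgroup.eq_of_le_of_card_ge le_sup_right (hle.trans hc₂.ge)).symm)
  have hC12 : C₁ ⊓ C₂ = ⊥ := by
    rw [eq_bot_iff, ← hQfix]
    intro c hc
    refine Subgroup.mem_inf.mpr ⟨hc.1.1, ?_⟩
    have h : X₁ ⊔ X₂ ≤ Subgroup.centralizer ({c} : Set S) := sup_le
      (fun b hb => Subgroup.mem_centralizer_singleton_iff.mpr (Subgroup.mem_centralizer_iff.mp hc.1.2 b hb))
      (fun b hb => Subgroup.mem_centralizer_singleton_iff.mpr (Subgroup.mem_centralizer_iff.mp hc.2.2 b hb))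
    exact Subgroup.mem_centralizer_iff.mpr fun b hb => Subgroup.mem_centralizer_singleton_iff.mp (h (hQsup.symm ▸ hb))
  haveI : Group.IsNilpotent ↥(P : Subgroup S) := P.isPGroup'.isNilpotent
  let Z : ℕ → Subgroup S := fun i =>
    (Subgroup.upperCentralSeries ↥(P : Subgroup S) i).map (P : Subgroup S).subtype
  have hZn : ∀ i, (Z i).Normal := fun i => inferInstance
  have hZP : ∀ i, Z i ≤ (P : Subgroup S) := fun i => Subgroup.map_subtype_le _
  have step : ∀ i, (∀ a ∈ C₁, ∀ b ∈ C₂, a * b * a⁻¹ * b⁻¹ ∈ Z (i + 1)) →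
      ∀ a ∈ C₁, ∀ b ∈ C₂, a * b * a⁻¹ * b⁻¹ ∈ Z i := by
    intro i hi
    haveI := hZn i
    set f := QuotientGroup.mk' (Z i) with hf
    have hcentral : ∀ z ∈ Z (i + 1), ∀ r ∈ (P : Subgroup S), Commute (f z) (f r) := by
      rintro _ ⟨z, hz, rfl⟩ r hr
      have h := Subgroup.mem_upperCentralSeries_succ_iff.mp hz ⟨r, hr⟩
      rw [commute_iff_eq, ← mul_inv_eq_iff_eq_mul, ← mul_inv_eq_one]
      simp only [← map_inv, ← map_mul]
      refine (QuotientGroup.eq_one_iff _).mpr ⟨_, h, ?_⟩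
      simp [commutatorElement_def]
    -- commutators land in the image of either factor
    have side : ∀ A B X : Subgroup S, A ≤ (P : Subgroup S) → B = (P : Subgroup S) ⊓ Subgroup.centralizer
          ((if X = X₁ then X₂ else X₁ : Subgroup S) : Set S) →
        A ≤ Subgroup.centralizer (X : Set S) → X ≤ Q → Nat.card ↥X = q →
        B ⊓ Subgroup.centralizer (X : Set S) = ⊥ →
        (∀ a ∈ A, ∀ b ∈ B, a * b * a⁻¹ * b⁻¹ ∈ Z (i + 1)) →
        (Z (i + 1) ≤ (Z (i + 1) ⊓ A) ⊔ (Z (i + 1) ⊓ B)) →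
        ∀ a ∈ A, ∀ b ∈ B, ∃ k ∈ Z (i + 1) ⊓ B, f (a * b * a⁻¹ * b⁻¹) = f k := by
      intro A B X hAP hB hAX hXQ hXc hfpf hcomm hsplit a ha b hb
      have hBP : B ≤ (P : Subgroup S) := hB ▸ inf_le_left
      obtain ⟨x, hxX, hx1⟩ := (Subgroup.bot_or_exists_ne_one X).resolve_left
        (fun h => by rw [h, Subgroup.card_bot] at hXc; exact hq.one_lt.ne hXc)
      have hXgen : Subgroup.zpowers x = X := Subgroup.eq_of_le_of_card_ge (Subgroup.zpowers_le.mpr hxX) (by
        rw [Nat.card_zpowers, orderOf_eq_prime (hQ.2 x (hXQ hxX)) hx1, hXc])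
      have hxB : ∀ c ∈ B, x * c * x⁻¹ ∈ B := by
        intro c hc
        rw [hB] at hc ⊢
        refine Subgroup.mem_inf.mpr ⟨(inferInstance : (P : Subgroup S).Normal).conj_mem c hc.1 x, ?_⟩
        refine Subgroup.mem_centralizer_iff.mpr fun y hy => ?_
        have hyQ : y ∈ Q := by
          by_cases h : X = X₁
          · rw [if_pos h] at hy; exact h₂ hy
          · rw [if_neg h] at hy; exact h₁ hy
        have hyx := hQab y hyQ x (hXQ hxX)
        have hyc := Subgroup.mem_centralizer_iff.mp hc.2 y hy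
        calc y * (x * c * x⁻¹) = (y * x) * c * x⁻¹ := by group
          _ = x * (y * c) * x⁻¹ := by rw [hyx]; group
          _ = x * c * (y * x⁻¹) := by rw [hyc]; group
          _ = x * c * x⁻¹ * y := by
              rw [show y * x⁻¹ = x⁻¹ * (x * y) * x⁻¹ by group, ← hyx]; group
      let d : ↥B → ↥B := fun c => ⟨(c : S)⁻¹ * (x * (c : S) * x⁻¹), B.mul_mem (B.inv_mem c.2) (hxB c c.2)⟩
      have hinj : Function.Injective d := by
        intro c c' h
        have h' : (c : S)⁻¹ * (x * (c : S) * x⁻¹) = (c' : S)⁻¹ * (x * (c' : S) * x⁻¹) := congrArg Subtype.val h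
        have hmem : (c' : S) * (c : S)⁻¹ ∈ B ⊓ Subgroup.centralizer (X : Set S) := by
          refine Subgroup.mem_inf.mpr ⟨B.mul_mem c'.2 (B.inv_mem c.2), ?_⟩
          rw [← hXgen, Subgroup.zpowers_eq_closure, Subgroup.centralizer_closure, Subgroup.mem_centralizer_singleton_iff]
          calc (c' : S) * (c : S)⁻¹ * x = (c' : S) * ((c : S)⁻¹ * (x * (c : S) * x⁻¹)) * x * (c : S)⁻¹ := by group
            _ = (c' : S) * ((c' : S)⁻¹ * (x * (c' : S) * x⁻¹)) * x * (c : S)⁻¹ := by rw [h']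
            _ = x * ((c' : S) * (c : S)⁻¹) := by group
        rw [hfpf, Subgroup.mem_bot, mul_inv_eq_one] at hmem
        exact Subtype.ext hmem.symm
      obtain ⟨⟨c, hc⟩, hdc⟩ := (Finite.injective_iff_surjective.mp hinj) ⟨b, hb⟩
      have hbe : c⁻¹ * (x * c * x⁻¹) = b := congrArg Subtype.val hdc
      set K := fun y : S => a * y * a⁻¹ * y⁻¹ with hK
      have hKZ : ∀ y ∈ B, K y ∈ Z (i + 1) := fun y hy => hcomm a ha y hy
      have hmul : ∀ y ∈ B, ∀ y' ∈ B, f (K (y * y')) = f (K y) * f (K y') := by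
        intro y hy y' hy'
        have h1 := (hcentral _ (hKZ y' hy') y (hBP hy)).eq
        rw [show K (y * y') = K y * (y * K y' * y⁻¹) by simp only [hK]; group]
        simp only [map_mul, map_inv]
        rw [← h1, mul_inv_cancel_right]
      have hxa : x * a * x⁻¹ = a := by
        rw [Subgroup.mem_centralizer_iff.mp (hAX ha) x hxX, mul_inv_cancel_right]
      have hKx : K (x * c * x⁻¹) = x * K c * x⁻¹ := by
        simp only [hK]
        calc a * (x * c * x⁻¹) * a⁻¹ * (x * c * x⁻¹)⁻¹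
            = (x * a * x⁻¹) * (x * c * x⁻¹) * (x * a * x⁻¹)⁻¹ * (x * c * x⁻¹)⁻¹ := by rw [hxa]
          _ = _ := by group
      obtain ⟨u, hu, v, hv, huv⟩ : ∃ u ∈ Z (i + 1) ⊓ A, ∃ v ∈ Z (i + 1) ⊓ B, f (K c) = f (u * v) := by
        have hn : Z (i + 1) ⊓ A ≤ Subgroup.centralizer (X : Set S) := inf_le_right.trans hAX
        have h := hsplit (hKZ c hc)
        have h' : f (K c) ∈ (Z (i + 1) ⊓ A).map f ⊔ (Z (i + 1) ⊓ B).map f := by
          rw [← Subgroup.map_sup]; exact Subgroup.mem_map_of_mem f h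
        have hnm : (Z (i + 1) ⊓ A).map f ≤ Subgroup.normalizer ((((Z (i + 1) ⊓ B).map f) : Subgroup (S ⧸ Z i)) : Set _) := by
          refine le_trans ?_ (Subgroup.centralizer_le_normalizer _)
          rintro _ ⟨u, hu, rfl⟩
          refine Subgroup.mem_centralizer_iff.mpr ?_
          rintro _ ⟨v, hv, rfl⟩
          exact (hcentral u hu.1 v (hBP hv.2)).eq.symm
        rw [← SetLike.mem_coe, Subgroup.coe_mul_of_left_le_normalizer_right _ _ hnm] at h'
        obtain ⟨_, ⟨u, hu, rfl⟩, _, ⟨v, hv, rfl⟩, he⟩ := Set.mem_mul.mp h'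
        exact ⟨u, hu, v, hv, he.symm.trans (map_mul f u v).symm⟩
      have hxu : x * u * x⁻¹ = u := by
        rw [Subgroup.mem_centralizer_iff.mp (hAX hu.2) x hxX, mul_inv_cancel_right]
      refine ⟨v⁻¹ * (x * v * x⁻¹), Subgroup.mem_inf.mpr ⟨(Z (i + 1)).mul_mem ((Z (i + 1)).inv_mem hv.1)
        ((hZn (i + 1)).conj_mem v hv.1 x), B.mul_mem (B.inv_mem hv.2) (hxB v hv.2)⟩, ?_⟩
      change f (K b) = _
      rw [← hbe, hmul _ (B.inv_mem hc) _ (hxB c hc), hKx]
      have hinv : f (K c⁻¹) = (f (K c))⁻¹ := by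
        refine eq_inv_of_mul_eq_one_left ?_
        rw [← hmul _ (B.inv_mem hc) _ hc, inv_mul_cancel,
          show K 1 = 1 by simp only [hK]; group, map_one]
      rw [hinv, map_mul f (x * K c) x⁻¹, map_mul f x, huv, ← map_inv, ← map_mul, ← map_mul, ← map_mul]
      congr 1
      calc (u * v)⁻¹ * (x * (u * v) * x⁻¹) = v⁻¹ * u⁻¹ * ((x * u * x⁻¹) * (x * v * x⁻¹)) := by group
        _ = v⁻¹ * (x * v * x⁻¹) := by rw [hxu]; group
    intro a ha b hb
    have hfpf1 : C₂ ⊓ Subgroup.centralizer (X₁ : Set S) = ⊥ := le_bot_iff.mp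
      ((le_inf (le_inf (inf_le_left.trans inf_le_left) inf_le_right) inf_le_left).trans hC12.le)
    have hfpf2 : C₁ ⊓ Subgroup.centralizer (X₂ : Set S) = ⊥ := le_bot_iff.mp
      ((le_inf inf_le_left (le_inf (inf_le_left.trans inf_le_left) inf_le_right)).trans hC12.le)
    have hsp := hgen _ (hZn (i + 1)) (hZP (i + 1))
    obtain ⟨k₂, hk₂, he₂⟩ := side C₁ C₂ X₁ inf_le_left (by rw [if_pos rfl]) inf_le_right h₁ hc₁ hfpf1 hi hsp a ha b hb
    obtain ⟨k₁, hk₁, he₁⟩ := side C₂ C₁ X₂ inf_le_left (by rw [if_neg h₁₂.symm]) inf_le_right h₂ hc₂ hfpf2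
      (fun u hu v hv => by
        rw [show u * v * u⁻¹ * v⁻¹ = (v * u * v⁻¹ * u⁻¹)⁻¹ by group]
        exact (Z (i + 1)).inv_mem (hi v hv u hu)) (hsp.trans (sup_comm _ _).le) b hb a ha
    have hinv' : f (b * a * b⁻¹ * a⁻¹) = (f (a * b * a⁻¹ * b⁻¹))⁻¹ := by rw [← map_inv]; congr 1; group
    rw [hinv', inv_eq_iff_eq_inv, ← map_inv] at he₁
    have heq : f k₁⁻¹ = f k₂ := he₁.symm.trans he₂
    -- the common value is fixed by `Q`, hence trivial
    have hk₂P : k₂ ∈ (P : Subgroup S) := hk₂.2.1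
    have hfixQ : Q ≤ (Subgroup.centralizer ({f k₂} : Set _)).comap f := by
      rw [← hQsup]
      refine sup_le (fun y hy => ?_) (fun y hy => ?_) <;>
        rw [Subgroup.mem_comap, Subgroup.mem_centralizer_singleton_iff]
      · rw [← heq, ← map_mul, ← map_mul]
        congr 1
        exact Subgroup.mem_centralizer_iff.mp (C₁.inv_mem hk₁.2).2 y hy
      · rw [← map_mul, ← map_mul]
        congr 1
        exact Subgroup.mem_centralizer_iff.mp hk₂.2.2 y hy
    obtain ⟨c, hc, hc'⟩ := CfsgLib.Coprime.exists_centralizing_in_coset (A := Q) (N := Z i) (k := k₂)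
      Subgroup.le_normalizer_of_normal (hcop _ (hZP i))
      (Or.inl (Group.isSolvable_of_comm fun u v => mul_comm' u v)) (fun y hy => by
        have h := Subgroup.mem_centralizer_singleton_iff.mp (Subgroup.mem_comap.mp (hfixQ hy))
        refine (QuotientGroup.eq_one_iff _).mp ?_
        change f (k₂⁻¹ * (y * k₂ * y⁻¹)) = 1
        rw [map_mul, map_mul, map_mul, h, map_inv, map_inv]; group)
    have hc1 : c = 1 := by
      have hcP : c ∈ (P : Subgroup S) := by
        simpa using (P : Subgroup S).mul_mem hk₂P (hZP i hc')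
      have := Subgroup.mem_inf.mpr ⟨hcP, hc⟩
      rwa [hQfix, Subgroup.mem_bot] at this
    rw [hc1, mul_one] at hc'
    refine (QuotientGroup.eq_one_iff _).mp ?_
    change f (a * b * a⁻¹ * b⁻¹) = 1
    rw [he₂]
    exact (QuotientGroup.eq_one_iff _).mpr ((Z i).inv_mem_iff.mp hc')
  obtain ⟨N, hN⟩ := Group.IsNilpotent.nilpotent (G := ↥(P : Subgroup S))
  have hdown : ∀ j, j ≤ N → ∀ a ∈ C₁, ∀ b ∈ C₂, a * b * a⁻¹ * b⁻¹ ∈ Z (N - j) := by
    intro j
    induction j with
    | zero =>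
      intro _ a ha b hb
      refine ⟨⟨a * b * a⁻¹ * b⁻¹, (P : Subgroup S).mul_mem ((P : Subgroup S).mul_mem ((P : Subgroup S).mul_mem ha.1 hb.1)
        ((P : Subgroup S).inv_mem ha.1)) ((P : Subgroup S).inv_mem hb.1)⟩, ?_, rfl⟩
      rw [Nat.sub_zero, hN]; exact Subgroup.mem_top _
    | succ j ih =>
      intro hj
      refine step _ ?_
      rw [show N - (j + 1) + 1 = N - j by omega]
      exact ih (by omega)
  refine ⟨?_, hC12, hPgen⟩
  rw [Subgroup.commutator_eq_bot_iff_le_centralizer]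
  intro a ha
  refine Subgroup.mem_centralizer_iff.mpr fun b hb => ?_
  have h := hdown N le_rfl a ha b hb
  simp only [Nat.sub_self, Z, Subgroup.upperCentralSeries_zero, Subgroup.map_bot, Subgroup.mem_bot] at h
  rw [mul_inv_eq_one, mul_inv_eq_iff_eq_mul] at h
  exact h.symm

end Cfsg.Agent.S1900
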