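import Cfsg.Statements.S1901
import Mathlib
import Cfsg.Agent.Lib.PLocal.PSolvable
import Cfsg.Agent.Lib.PLocal.Constrained
import Cfsg.Agent.Lib.Base.Cores

set_option autoImplicit false
open Cfsg
open scoped Pointwise commutatorElement

namespace Cfsg.Agent.S1901

/-- Let G be a finite p-solvable group and Q a subgroup of order prime to p such that p divides the index of C_G(Q) in N_G(Q). Then Q normalizes no Sylow p-subgroup of G. -/
theorem result {G : Type*} [Group G] [Finite G] {p : ℕ} [Fact p.Prime]
    (hG : Cfsg.IsPSolvable p G) (Q : Subgroup G) (hQ : ¬ p ∣ Nat.card Q)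
    (hA : p ∣ (Subgroup.centralizer (Q : Set G)).relIndex (Subgroup.normalizer (Q : Set G)))
    (P : Sylow p G) : ¬ Q ≤ Subgroup.normalizer ((P : Subgroup G) : Set G) := by
  classical
  intro hQP
  set N := Subgroup.normalizer (Q : Set G) with hNd
  set C := Subgroup.centralizer (Q : Set G) with hCd
  obtain ⟨a, haN, haC, k, hak⟩ : ∃ a, a ∈ N ∧ a ∉ C ∧ ∃ k : ℕ, a ^ p ^ k = 1 := by
    by_contra hcon
    push Not at hcon
    obtain ⟨T⟩ := (inferInstance : Nonempty (Sylow p ↥N))
    have hT : (T : Subgroup ↥N) ≤ C.subgroupOf N := by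
      intro t ht
      by_contra hnot
      obtain ⟨k, hk⟩ := T.isPGroup' ⟨t, ht⟩
      exact hcon t t.2 (fun h => hnot (Subgroup.mem_subgroupOf.mpr h)) k
        (congrArg (fun z : ↥(T : Subgroup ↥N) => ((z : ↥N) : G)) hk)
    exact T.not_dvd_index (hA.trans (Subgroup.index_dvd_of_le hT))
  obtain ⟨m, H, hH0, hH1, hmono, hnorm, hstep⟩ := hG
  have key : ∀ i : Fin (m + 1), ∀ q ∈ Q, a * q * a⁻¹ * q⁻¹ ∈ H i := by
    intro i
    induction i using Fin.reverseInduction with
    | last => intro q _; rw [hH1]; exact Subgroup.mem_top _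
    | cast i ih =>
      haveI := hnorm i.castSucc
      haveI := hnorm i.succ
      set f := QuotientGroup.mk' (H i.castSucc) with hf
      set K := (H i.succ).map f with hK
      haveI : K.Normal := (hnorm i.succ).map f (QuotientGroup.mk'_surjective _)
      have hcardK : Nat.card ↥K = (H i.castSucc).relIndex (H i.succ) :=
        CfsgLib.PLocal.card_map_mk'_eq_relIndex _ _
      intro q hq
      suffices h : f (a * q * a⁻¹ * q⁻¹) = 1 from (QuotientGroup.eq_one_iff _).mp h
      let c : G → G ⧸ H i.castSucc := fun x => f (a * x * a⁻¹ * x⁻¹)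
      have hcK : ∀ x ∈ Q, c x ∈ K := fun x hx => Subgroup.mem_map_of_mem f (ih x hx)
      have hcQ : ∀ x ∈ Q, c x ∈ Q.map f := fun x hx => Subgroup.mem_map_of_mem f
        (Q.mul_mem ((Subgroup.mem_normalizer_iff.mp haN x).mp hx) (Q.inv_mem hx))
      have hQcop : (Nat.card ↥(Q.map f)).Coprime p :=
        (((Nat.Prime.coprime_iff_not_dvd Fact.out).mpr hQ).symm).coprime_dvd_left
          (Subgroup.card_map_dvd Q f)
      rcases hstep i with ⟨e, he⟩ | he
      · have hKp : IsPGroup p K := IsPGroup.of_card (hcardK.trans he)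
        have := Subgroup.mem_inf.mpr ⟨hcK q hq, hcQ q hq⟩
        rw [CfsgLib.Base.inf_eq_bot_of_isPGroup_of_coprime hKp hQcop, Subgroup.mem_bot] at this
        exact this
      · set Pb := (P : Subgroup G).map f with hPb
        set C0 := Subgroup.closure {y | ∃ x ∈ Q, y = c x} with hC0
        have hC0Q : C0 ≤ Q.map f ⊓ K := by
          rw [hC0, Subgroup.closure_le]
          rintro _ ⟨x, hx, rfl⟩
          exact Subgroup.mem_inf.mpr ⟨hcQ x hx, hcK x hx⟩
        have hPC0 : Pb ≤ Subgroup.centralizer (C0 : Set _) := by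
          rw [← Subgroup.commutator_eq_bot_iff_le_centralizer, eq_bot_iff]
          have h1 : ⁅Pb, C0⁆ ≤ Pb ⊓ K := by
            rw [Subgroup.commutator_le]
            intro y hy z hz
            obtain ⟨hzQ, hzK⟩ := Subgroup.mem_inf.mp (hC0Q hz)
            refine Subgroup.mem_inf.mpr ⟨?_, ?_⟩
            · obtain ⟨x, hx, rfl⟩ := hzQ
              obtain ⟨y', hy', rfl⟩ := hy
              rw [← map_commutatorElement]
              refine Subgroup.mem_map_of_mem f ?_
              rw [commutatorElement_def]
              have hm : x * y'⁻¹ * x⁻¹ ∈ (P : Subgroup G) :=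
                (Subgroup.mem_normalizer_iff.mp (hQP hx) _).mp ((P : Subgroup G).inv_mem hy')
              rw [show y' * x * y'⁻¹ * x⁻¹ = y' * (x * y'⁻¹ * x⁻¹) by group]
              exact (P : Subgroup G).mul_mem hy' hm
            · rw [commutatorElement_def]
              exact K.mul_mem (Subgroup.Normal.conj_mem inferInstance z hzK y) (K.inv_mem hzK)
          refine h1.trans (le_of_eq (CfsgLib.Base.inf_eq_bot_of_isPGroup_of_coprime (P.isPGroup'.map f) ?_))
          rwa [hcardK]
        have hfa : f a ∈ Subgroup.normalizer (C0 : Set _) := by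
          have h1 : C0.map (MulAut.conj (f a)).toMonoidHom ≤ C0 := by
            rw [hC0, MonoidHom.map_closure, Subgroup.closure_le]
            rintro _ ⟨_, ⟨x, hx, rfl⟩, rfl⟩
            refine Subgroup.subset_closure ⟨a * x * a⁻¹, (Subgroup.mem_normalizer_iff.mp haN x).mp hx, ?_⟩
            simp only [c, MulEquiv.coe_toMonoidHom, MulAut.conj_apply, ← map_inv, ← map_mul]
            congr 1; group
          rw [Subgroup.mem_normalizer_iff_map_conj_eq]
          exact Subgroup.eq_of_le_of_card_ge h1
            (le_of_eq (Subgroup.card_map_of_injective (MulEquiv.injective _)).symm)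
        set Cc := Subgroup.centralizer (C0 : Set (G ⧸ H i.castSucc)) with hCc
        have hfaC : f a ∈ Cc := by
          set Nb := Subgroup.normalizer (C0 : Set (G ⧸ H i.castSucc)) with hNb
          haveI : (Cc.subgroupOf Nb).Normal :=
            Subgroup.normal_subgroupOf_of_le_normalizer (CfsgLib.PLocal.normalizer_le_centralizer_normalizer C0)
          let g : ↥Nb := ⟨f a, hfa⟩
          have h1 : (QuotientGroup.mk' (Cc.subgroupOf Nb) g) ^ p ^ k = 1 := by
            rw [← map_pow, show g ^ p ^ k = 1 from Subtype.ext (by simp [g, ← map_pow, hak]), map_one]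
          have h2 : ¬ p ∣ Nat.card (↥Nb ⧸ Cc.subgroupOf Nb) := by
            rw [← Subgroup.index_eq_card]
            intro hd
            refine P.not_dvd_index (hd.trans (Dvd.dvd.trans ?_ (Subgroup.index_map_dvd _ (QuotientGroup.mk'_surjective (H i.castSucc)))))
            refine Dvd.dvd.trans ?_ (Subgroup.index_dvd_of_le hPC0)
            exact Subgroup.relIndex_dvd_index_of_le (Subgroup.centralizer_le_normalizer _)
          have h3 : QuotientGroup.mk' (Cc.subgroupOf Nb) g = 1 := by
            refine orderOf_eq_one_iff.mp (Nat.eq_one_of_dvd_coprimes ?_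
              (orderOf_dvd_of_pow_eq_one h1) (orderOf_dvd_natCard _))
            exact ((Nat.Prime.coprime_iff_not_dvd Fact.out).mpr h2).pow_left k
          exact Subgroup.mem_subgroupOf.mp ((QuotientGroup.eq_one_iff g).mp h3)
        have hcomm : f a * c q = c q * f a :=
          ((Subgroup.mem_centralizer_iff.mp hfaC) (c q) (Subgroup.subset_closure ⟨q, hq, rfl⟩)).symm
        have hn : ∀ n : ℕ, (f a) ^ n * f q * ((f a) ^ n)⁻¹ = (c q) ^ n * f q := by
          intro n
          induction n with
          | zero => simp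
          | succ n ihn =>
            calc (f a) ^ (n + 1) * f q * ((f a) ^ (n + 1))⁻¹
                = f a * ((f a) ^ n * f q * ((f a) ^ n)⁻¹) * (f a)⁻¹ := by rw [pow_succ']; group
              _ = f a * (c q) ^ n * f q * (f a)⁻¹ := by rw [ihn]; group
              _ = (c q) ^ n * (f a * f q * (f a)⁻¹) := by
                  rw [(Commute.pow_right hcomm n).eq]; group
              _ = (c q) ^ (n + 1) * f q := by
                  rw [pow_succ, mul_assoc ((c q) ^ n) (c q)]
                  simp only [c, map_mul, map_inv, inv_mul_cancel_right]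
        have h4 := hn (p ^ k)
        rw [← map_pow, hak, map_one, inv_one, one_mul, mul_one] at h4
        have h5 : (c q) ^ p ^ k = 1 := right_eq_mul.mp h4
        refine orderOf_eq_one_iff.mp (Nat.eq_one_of_dvd_coprimes (hQcop.symm.pow_left k)
          (orderOf_dvd_of_pow_eq_one h5) (Subgroup.orderOf_dvd_natCard _ (hcQ q hq)))
  refine haC (Subgroup.mem_centralizer_iff.mpr fun q hq => ?_)
  have h := key 0 q hq
  rw [hH0, Subgroup.mem_bot, mul_inv_eq_one, mul_inv_eq_iff_eq_mul] at h
  exact h.symm

end Cfsg.Agent.S1901
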