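import Cfsg.Statements.S1903
import Cfsg.Agent.Lib.Techniques.Order320Structure
import Cfsg.Agent.Lib.Techniques.PSUThreeFourCentralizer
import Cfsg.Agent.Lib.PGroups.Basic

set_option autoImplicit false
open Cfsg

namespace Cfsg.Agent.S1903

/-- A finite group of order 320 whose derived subgroup has order 64 and has centre a Klein four-group is isomorphic to the centralizer of an involution in PSU₃(4). -/
theorem result {G : Type*} [Group G] [Finite G] (hG : Nat.card G = 320) (hD : Nat.card (commutator G) = 64)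
    (hZ : IsKleinFour (Subgroup.center (commutator G)))
    {F : Type*} [Field F] [Fintype F] (hF : Fintype.card F = 16) :
    ∃ t : Cfsg.PSU 3 F 4, orderOf t = 2 ∧ Nonempty (G ≃* Subgroup.centralizer ({t} : Set (Cfsg.PSU 3 F 4))) := by
  classical
  haveI : Finite G := Nat.finite_of_card_ne_zero (by rw [hG]; norm_num)
  haveI : Fact (Nat.Prime 5) := ⟨by norm_num⟩
  haveI : Fact (Nat.Prime 2) := ⟨Nat.prime_two⟩
  obtain ⟨t, ht, hle, q', p', R', ho', n1, n2, n3⟩ :=
    CfsgLib.Techniques.U34.exists_centralizer hF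
  refine ⟨t, ht, ?_⟩
  obtain ⟨q, hq⟩ := exists_prime_orderOf_dvd_card' (G := G) 5 (by rw [hG]; norm_num)
  obtain ⟨p, R, hgen, hA, -⟩ := CfsgLib.Techniques.Order320.exists_gens hG hD hZ hq
  obtain ⟨f, hfq, hfp⟩ := CfsgLib.Techniques.Order320.exists_hom R R' hgen hG
  have hE : ∀ i, f (CfsgLib.Techniques.Order320.E p (CfsgLib.Techniques.Order320.cj q p i)) =
      CfsgLib.Techniques.Order320.E p' (CfsgLib.Techniques.Order320.cj q' p' i) := fun i => by
    simp [CfsgLib.Techniques.Order320.E, CfsgLib.Techniques.Order320.cj, hfq, hfp]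
  have hAinj : ∀ x ∈ R.A, f x = 1 → x = 1 := by
    intro x hx hfx
    rcases R.mem_A hx with h | h | h | h <;> rw [h] at hfx ⊢
    · rw [hE] at hfx; exact absurd hfx n1
    · rw [hE] at hfx; exact absurd hfx n2
    · rw [map_mul, hE, hE] at hfx
      exact absurd ((eq_inv_of_mul_eq_one_left hfx).trans (inv_eq_of_mul_eq_one_right R'.i2)) n3
  have hKP : f.ker ⊓ commutator G = ⊥ := by
    by_contra hne
    have hp2 := CfsgLib.Techniques.Order320.isPGroup_comm hG hD hZ
    have hne' : (f.ker.subgroupOf (commutator G)) ≠ ⊥ := fun h => hne (by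
      rw [Subgroup.subgroupOf_eq_bot] at h
      exact h.eq_bot)
    refine CfsgLib.PGroups.inf_center_ne_bot hp2 hne' ((Subgroup.eq_bot_iff_forall _).2 fun x hx => ?_)
    have hxA : (x : G) ∈ R.A := by
      rw [hA]
      exact ⟨x, hx.2, rfl⟩
    exact Subtype.ext (hAinj _ hxA (MonoidHom.mem_ker.1 hx.1))
  have hidx : f.ker.index * Nat.card f.ker = 320 := by
    rw [mul_comm, Subgroup.card_mul_index, hG]
  have hker5 : Nat.card f.ker ∣ 5 := by
    have hinj : Function.Injective ((QuotientGroup.mk' (commutator G)).comp f.ker.subtype) := by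
      rw [← MonoidHom.ker_eq_bot_iff, eq_bot_iff]
      intro x hx
      have h1 : (x : G) ∈ f.ker ⊓ commutator G :=
        Subgroup.mem_inf.2 ⟨x.2, (QuotientGroup.eq_one_iff _).1 hx⟩
      rw [hKP, Subgroup.mem_bot] at h1
      exact Subgroup.mem_bot.2 (Subtype.ext h1)
    have hq5 : Nat.card (G ⧸ commutator G) = 5 := by
      have h := Subgroup.card_eq_card_quotient_mul_card_subgroup (commutator G)
      rw [hG, hD] at h
      omega
    exact hq5 ▸ Subgroup.card_dvd_of_injective _ hinj
  have hker : Nat.card f.ker = 1 := by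
    refine ((Nat.dvd_prime (by norm_num)).1 hker5).resolve_right fun h5 => ?_
    have h : orderOf q' ∣ Nat.card f.range := by
      rw [← Subgroup.orderOf_mk q' (hfq ▸ ⟨q, rfl⟩ : q' ∈ f.range)]
      exact orderOf_dvd_natCard _
    rw [ho', ← Subgroup.index_ker] at h
    rw [h5] at hidx
    omega
  have hinj : Function.Injective f := by
    rw [← MonoidHom.ker_eq_bot_iff]
    exact Subgroup.eq_bot_of_card_eq _ hker
  exact ⟨MulEquiv.ofBijective f ((Nat.bijective_iff_injective_and_card f).2
    ⟨hinj, le_antisymm (Nat.card_le_card_of_injective f hinj) (hle.trans hG.ge)⟩)⟩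

end Cfsg.Agent.S1903
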