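import Cfsg.Statements.S1905
import Mathlib
import Cfsg.Agent.Lib.RankOne.Invol

set_option autoImplicit false
open Cfsg
open scoped Pointwise commutatorElement

namespace Cfsg.Agent.S1905

/-- Let M be a subgroup of even order of a finite group S such that M contains the centralizer in S of each of its involutions and the normal core of M in S has odd order. Then all involutions of S are conjugate. If moreover N_S(X) ≤ M for a Sylow 2-subgroup X of M and I is an involution in the centre of X, then all involutions of M are conjugate in M and M = M₀ C_M(I) for some subgroup M₀ of M of odd order. -/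
theorem result {S : Type*} [Group S] [Finite S] (M : Subgroup S) (hM : Even (Nat.card M))
    (hC : ∀ i ∈ M, orderOf i = 2 → Subgroup.centralizer ({i} : Set S) ≤ M) (hcore : Odd (Nat.card M.normalCore)) :
    (∀ x y : S, orderOf x = 2 → orderOf y = 2 → IsConj x y) ∧
      ∀ (X : Sylow 2 M) (I : M), I ∈ (Subgroup.center ↥(X : Subgroup ↥M)).map (X : Subgroup ↥M).subtype → orderOf I = 2 →
        Subgroup.normalizer (((X : Subgroup M).map M.subtype : Subgroup S) : Set S) ≤ M →
        (∀ x y : M, orderOf x = 2 → orderOf y = 2 → IsConj x y) ∧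
          ∃ M₀ : Subgroup M, Odd (Nat.card M₀) ∧
            ∀ m : M, ∃ a ∈ M₀, ∃ c ∈ Subgroup.centralizer ({I} : Set M), m = a * c := by
  classical
  have hsq : ∀ x : S, orderOf x = 2 → x * x = 1 := fun x hx => by
    rw [← pow_two, ← hx]; exact pow_orderOf_eq_one x
  have hord : ∀ x : S, x * x = 1 → x ≠ 1 → orderOf x = 2 := fun x hx hx1 =>
    orderOf_eq_prime (by rw [pow_two]; exact hx) hx1
  have hMc : ∀ i ∈ M, orderOf i = 2 → ∀ x : S, x * i = i * x → x ∈ M := fun i hi hi2 x hx =>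
    hC i hi hi2 (Subgroup.mem_centralizer_singleton_iff.mpr hx)
  -- an involution of `M` and one outside `M` have a product of odd order
  have key : ∀ k j : S, k ∈ M → orderOf k = 2 → j ∉ M → orderOf j = 2 → Odd (orderOf (k * j)) := by
    intro k j hk hk2 hj hj2
    by_contra hodd
    obtain ⟨m, hm⟩ := Nat.not_odd_iff_even.mp hodd
    set x := k * j with hx
    have hpos : 0 < orderOf x := orderOf_pos x
    have hc1 : x ^ m ≠ 1 := pow_ne_one_of_lt_orderOf (by omega) (by omega)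
    have hcc : x ^ m * x ^ m = 1 := by rw [← pow_add, ← hm, pow_orderOf_eq_one]
    have hcinv : (x ^ m)⁻¹ = x ^ m := inv_eq_of_mul_eq_one_right hcc
    have hkc : k * x ^ m = x ^ m * k := by
      have h1 : k * x * k⁻¹ = x⁻¹ := by
        rw [hx, mul_inv_rev, inv_eq_of_mul_eq_one_right (hsq j hj2),
          inv_eq_of_mul_eq_one_right (hsq k hk2), ← mul_assoc, hsq k hk2, one_mul]
      have h2 : k * x ^ m * k⁻¹ = x ^ m := by rw [← conj_pow, h1, inv_pow, hcinv]
      calc k * x ^ m = k * x ^ m * k⁻¹ * k := by group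
        _ = x ^ m * k := by rw [h2]
    have hjc : j * x ^ m = x ^ m * j := by
      have h3 : j = k⁻¹ * x := by rw [hx]; group
      have h4 : x * x ^ m = x ^ m * x := by rw [← pow_succ', ← pow_succ]
      have h5 : k⁻¹ * x ^ m = x ^ m * k⁻¹ := (Commute.inv_left hkc).eq
      calc j * x ^ m = k⁻¹ * (x * x ^ m) := by rw [h3]; group
        _ = k⁻¹ * x ^ m * x := by rw [h4]; group
        _ = x ^ m * j := by rw [h5, h3]; group
    exact hj (hMc _ (hMc k hk hk2 _ hkc.symm) (hord _ hcc hc1) j hjc)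
  have hout : ∃ j : S, orderOf j = 2 ∧ j ∉ M := by
    obtain ⟨⟨i, hi⟩, hi2⟩ := exists_prime_orderOf_dvd_card' (G := M) 2 hM.two_dvd
    have hi2' : orderOf i = 2 := by rw [← hi2, Subgroup.orderOf_mk]
    by_contra hcon
    push Not at hcon
    have hiC : i ∈ M.normalCore := fun g => hcon _ (by
      refine hord _ ?_ fun h => ?_
      · calc g * i * g⁻¹ * (g * i * g⁻¹) = g * (i * i) * g⁻¹ := by group
          _ = 1 := by rw [hsq i hi2']; group
      · rw [conj_eq_one_iff] at h; rw [h, orderOf_one] at hi2'; omega)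
    have h2 : 2 ∣ Nat.card M.normalCore :=
      hi2' ▸ (Subgroup.orderOf_mk _ hiC ▸ orderOf_dvd_natCard (⟨i, hiC⟩ : M.normalCore))
    exact Nat.not_even_iff_odd.mpr hcore (even_iff_two_dvd.mpr h2)
  obtain ⟨j₀, hj₀2, hj₀⟩ := hout
  have hcin : ∀ k ∈ M, orderOf k = 2 → ∀ j : S, j ∉ M → orderOf j = 2 → IsConj k j :=
    fun k hk hk2 j hj hj2 => isConj_iff.mpr
      (CfsgLib.RankOne.isConj_of_odd (hsq k hk2) (hsq j hj2) (key k j hk hk2 hj hj2))
  obtain ⟨⟨i₀, hi₀⟩, hi₀2⟩ := exists_prime_orderOf_dvd_card' (G := M) 2 hM.two_dvd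
  rw [Subgroup.orderOf_mk] at hi₀2
  have conj1 : ∀ x y : S, orderOf x = 2 → orderOf y = 2 → IsConj x y := by
    intro x y hx hy
    by_cases hxM : x ∈ M <;> by_cases hyM : y ∈ M
    · exact (hcin x hxM hx j₀ hj₀ hj₀2).trans (hcin y hyM hy j₀ hj₀ hj₀2).symm
    · exact hcin x hxM hx y hyM hy
    · exact (hcin y hyM hy x hxM hx).symm
    · exact (hcin i₀ hi₀ hi₀2 x hxM hx).symm.trans (hcin i₀ hi₀ hi₀2 y hyM hy)
  refine ⟨conj1, fun X I _ hI2 hNX => ?_⟩
  -- `M` meets its other conjugates in subgroups of odd order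
  have disj : ∀ g : S, ∀ d ∈ M, g⁻¹ * d * g ∈ M → orderOf d = 2 → g ∈ M := by
    intro g d hd hdg hd2
    obtain ⟨X₁, hX₁⟩ := ((IsPGroup.of_card (G := Subgroup.zpowers (⟨d, hd⟩ : M)) (n := 1)
      (by rw [Nat.card_zpowers, Subgroup.orderOf_mk, hd2, pow_one])).exists_le_sylow)
    have hX₁2 : 2 ∣ Nat.card (X₁ : Subgroup M) := by
      refine dvd_trans ?_ (Subgroup.card_dvd_of_le hX₁)
      rw [Nat.card_zpowers, Subgroup.orderOf_mk, hd2]
    haveI : Nontrivial (X₁ : Subgroup M) :=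
      Finite.one_lt_card_iff_nontrivial.mp (Nat.le_of_dvd Nat.card_pos hX₁2)
    haveI := X₁.isPGroup'.center_nontrivial
    obtain ⟨⟨⟨⟨z, hzM⟩, hzX⟩, hzc⟩, hz2⟩ := exists_prime_orderOf_dvd_card'
      (G := Subgroup.center (X₁ : Subgroup M)) 2 (by
        obtain ⟨n, hn⟩ := IsPGroup.iff_card.mp (X₁.isPGroup'.to_subgroup (Subgroup.center _))
        rcases n with _ | n
        · exact absurd hn (Finite.one_lt_card.ne')
        · rw [hn]; exact dvd_pow_self 2 n.succ_ne_zero)
    rw [Subgroup.orderOf_mk, Subgroup.orderOf_mk, Subgroup.orderOf_mk] at hz2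
    have hzc' : ∀ w : M, w ∈ (X₁ : Subgroup M) → (w : S) * z = z * w := fun w hw =>
      congrArg (fun u : (X₁ : Subgroup M) => ((u : M) : S))
        (Subgroup.mem_center_iff.mp hzc ⟨w, hw⟩)
    have hzd : d * z = z * d := hzc' ⟨d, hd⟩ (hX₁ (Subgroup.mem_zpowers _))
    have hin : ∀ w : S, w * d = d * w → g⁻¹ * w * g ∈ M := by
      intro w hw
      refine hMc _ hdg (hord _ ?_ ?_) _ ?_
      · calc g⁻¹ * d * g * (g⁻¹ * d * g) = g⁻¹ * (d * d) * g := by group
          _ = 1 := by rw [hsq d hd2]; group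
      · intro h
        have : d = 1 := by
          calc d = g * (g⁻¹ * d * g) * g⁻¹ := by group
            _ = 1 := by rw [h]; group
        rw [this, orderOf_one] at hd2; omega
      · calc g⁻¹ * w * g * (g⁻¹ * d * g) = g⁻¹ * (w * d) * g := by group
          _ = g⁻¹ * (d * w) * g := by rw [hw]
          _ = g⁻¹ * d * g * (g⁻¹ * w * g) := by group
    have hzg : g⁻¹ * z * g ∈ M := hin z hzd.symm
    have hXg : ∀ w : M, w ∈ (X₁ : Subgroup M) → g⁻¹ * (w : S) * g ∈ M := by
      intro w hw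
      refine hMc _ hzg (hord _ ?_ ?_) _ ?_
      · calc g⁻¹ * z * g * (g⁻¹ * z * g) = g⁻¹ * (z * z) * g := by group
          _ = 1 := by rw [hsq z hz2]; group
      · intro h
        have : z = 1 := by
          calc z = g * (g⁻¹ * z * g) * g⁻¹ := by group
            _ = 1 := by rw [h]; group
        rw [this, orderOf_one] at hz2; omega
      · calc g⁻¹ * w * g * (g⁻¹ * z * g) = g⁻¹ * (w * z) * g := by group
          _ = g⁻¹ * (z * w) * g := by rw [hzc' w hw]
          _ = g⁻¹ * z * g * (g⁻¹ * w * g) := by group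
    let f : (X₁ : Subgroup M) →* M :=
      { toFun := fun w => ⟨g⁻¹ * ((w : M) : S) * g, hXg w w.2⟩
        map_one' := Subtype.ext (by simp)
        map_mul' := fun u v => Subtype.ext (by
          show g⁻¹ * (((u : M) : S) * ((v : M) : S)) * g = _
          simp [mul_assoc]) }
    have hf : Function.Injective f := fun u v h => Subtype.ext (Subtype.ext
      (mul_left_cancel (mul_right_cancel (congrArg Subtype.val h))))
    have hcard : Nat.card f.range = 2 ^ (Nat.card M).factorization 2 := by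
      rw [Nat.card_congr (MonoidHom.ofInjective hf).toEquiv.symm]
      exact X₁.card_eq_multiplicity
    let X₂ : Sylow 2 M := Sylow.ofCard f.range hcard
    -- both Sylow subgroups are conjugate to `X`
    obtain ⟨a, ha⟩ := MulAction.exists_smul_eq M X X₁
    obtain ⟨b, hb⟩ := MulAction.exists_smul_eq M X₂ X
    have hN : (b : S) * g⁻¹ * a ∈
        Subgroup.normalizer (((X : Subgroup M).map M.subtype : Subgroup S) : Set S) := by
      refine Subgroup.mem_normalizer_fintype ?_
      rintro _ ⟨x, hx, rfl⟩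
      have hx1 : a * x * a⁻¹ ∈ (X₁ : Subgroup M) := by
        rw [← ha]
        exact Subgroup.smul_mem_pointwise_smul x (MulAut.conj a) _ hx
      have hx2 : b * f ⟨_, hx1⟩ * b⁻¹ ∈ (X : Subgroup M) := by
        rw [← hb]
        exact Subgroup.smul_mem_pointwise_smul _ (MulAut.conj b) _
          (show f ⟨_, hx1⟩ ∈ (X₂ : Subgroup M) from ⟨_, rfl⟩)
      refine ⟨_, hx2, ?_⟩
      show (b : S) * (g⁻¹ * ((a : S) * x * (a : S)⁻¹) * g) * (b : S)⁻¹ = _
      simp [mul_assoc, mul_inv_rev]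
    have h1 := hNX hN
    have h2 : g⁻¹ ∈ M := (M.mul_mem_cancel_left b.2).mp ((M.mul_mem_cancel_right a.2).mp h1)
    simpa using M.inv_mem h2
  have hsq' : ∀ x : M, orderOf x = 2 → orderOf (x : S) = 2 := fun x hx => by
    rw [Subgroup.orderOf_coe]; exact hx
  refine ⟨fun x y hx hy => ?_, ?_⟩
  · obtain ⟨c, hc⟩ := isConj_iff.mp (conj1 x y (hsq' x hx) (hsq' y hy))
    have hcM : c ∈ M := disj c (y : S) y.2 (by
      have : c⁻¹ * (y : S) * c = x := by rw [← hc]; group
      rw [this]; exact x.2) (hsq' y hy)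
    exact isConj_iff.mpr ⟨⟨c, hcM⟩, Subtype.ext hc⟩
  have hu : ∀ u : S, orderOf u = 2 → u⁻¹ = u := fun u h => inv_eq_of_mul_eq_one_right (hsq u h)
  -- a conjugate of an involution of `M` by an involution outside `M` is outside `M`
  have houtc : ∀ u j : S, orderOf u = 2 → u ∉ M → j ∈ M → orderOf j = 2 →
      u * j * u ∉ M ∧ orderOf (u * j * u) = 2 := by
    intro u j hu2 huM hj hj2
    refine ⟨fun h => huM (disj u j hj (by rw [hu u hu2]; exact h) hj2), ?_⟩
    rw [← hj2]
    conv_lhs => arg 1; rw [show u * j * u = u * j * u⁻¹ by rw [hu u hu2]]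
    exact orderOf_injective (MulAut.conj u).toMonoidHom (MulAut.conj u).injective j
  -- an element centralizing `I` and inverted by an involution outside `M` is trivial
  have inv1 : ∀ u k : S, orderOf u = 2 → u ∉ M → k ∈ M → k * (I : S) = I * k →
      u * k * u = k⁻¹ → k = 1 := by
    intro u k hu2 huM hk hkI huk
    have hI2' := hsq' I hI2
    have hkodd : ∀ e : S, e ∈ Subgroup.zpowers k → e * e = 1 → e = 1 := by
      rintro e ⟨n, rfl⟩ he
      by_contra hne
      refine huM (disj u (k ^ n) (M.zpow_mem hk n) ?_ (hord _ he hne))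
      show u⁻¹ * k ^ n * u ∈ M
      have h2 : u⁻¹ * k * u = k⁻¹ := by rw [hu u hu2]; exact huk
      have h1 : u⁻¹ * k ^ n * u = (u⁻¹ * k * u) ^ n := by
        have := conj_zpow (a := u⁻¹) (b := k) (i := n)
        rw [inv_inv] at this; exact this.symm
      rw [h1, h2]
      exact M.zpow_mem (M.inv_mem hk) n
    set N := Subgroup.normalizer ((Subgroup.zpowers k : Subgroup S) : Set S) with hN
    have huN : u ∈ N := by
      refine Subgroup.mem_normalizer_fintype ?_
      intro e he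
      obtain ⟨n, rfl⟩ := he
      show u * k ^ n * u⁻¹ ∈ Subgroup.zpowers k
      rw [← conj_zpow, hu u hu2, huk]
      exact Subgroup.zpow_mem _ (Subgroup.inv_mem _ (Subgroup.mem_zpowers k)) n
    have hIN : (I : S) ∈ N := by
      refine Subgroup.mem_normalizer_fintype ?_
      intro e he
      obtain ⟨n, rfl⟩ := he
      show (I : S) * k ^ n * (I : S)⁻¹ ∈ Subgroup.zpowers k
      rw [← conj_zpow, hu _ hI2', ← hkI, mul_assoc, hsq _ hI2', mul_one]
      exact Subgroup.zpow_mem _ (Subgroup.mem_zpowers k) n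
    have ho : orderOf ((⟨I, hIN⟩ : N) * ⟨u, huN⟩) = orderOf ((I : S) * u) :=
      (Subgroup.orderOf_coe _).symm
    obtain ⟨⟨h, hh⟩, hhu⟩ := CfsgLib.RankOne.isConj_of_odd (M := N) (s := ⟨I, hIN⟩) (u := ⟨u, huN⟩)
      (Subtype.ext (hsq _ hI2')) (Subtype.ext (hsq u hu2))
      (ho ▸ key I u I.2 hI2' huM hu2)
    have hhu' : h * (I : S) * h⁻¹ = u := congrArg Subtype.val hhu
    obtain ⟨n, hn⟩ := (Subgroup.mem_normalizer_iff'.mp hh (h⁻¹ * k)).mpr (by
      show h * (h⁻¹ * k) ∈ Subgroup.zpowers k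
      simp)
    have hn' : k = h * k ^ n * h⁻¹ := by
      show k = h * k ^ n * h⁻¹
      rw [show k ^ n = h⁻¹ * k * h from hn]; group
    have hku : u * k * u = k := by
      have hIn : (I : S) * k ^ n = k ^ n * I := (Commute.zpow_right (Commute.symm hkI) n).eq
      calc u * k * u = h * (I : S) * h⁻¹ * (h * k ^ n * h⁻¹) * (h * I * h⁻¹) := by rw [hhu', ← hn']
        _ = h * ((I : S) * k ^ n) * I * h⁻¹ := by group
        _ = h * k ^ n * ((I : S) * I) * h⁻¹ := by rw [hIn]; group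
        _ = k := by rw [hsq _ hI2', mul_one, ← hn']
    refine hkodd k (Subgroup.mem_zpowers k) ?_
    rw [huk] at hku
    nth_rw 1 [← hku]
    exact inv_mul_cancel k
  let T := {u : S // orderOf u = 2 ∧ u ∉ M}
  let F : T → T := fun u => ⟨u.1 * I * u.1,
    (houtc u.1 I u.2.1 u.2.2 I.2 (hsq' I hI2)).2, (houtc u.1 I u.2.1 u.2.2 I.2 (hsq' I hI2)).1⟩
  have hF : Function.Injective F := by
    rintro ⟨u, hu2, huM⟩ ⟨v, hv2, hvM⟩ huv
    have h : u * (I : S) * u = v * I * v := congrArg Subtype.val huv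
    have huu := hsq u hu2
    have hvv := hsq v hv2
    set k := v * u with hk
    have hkI : k * (I : S) = I * k := by
      calc v * u * (I : S) = v * (u * I * u) * u := by simp [mul_assoc, huu]
        _ = v * (v * I * v) * u := by rw [h]
        _ = I * (v * u) := by simp [← mul_assoc, hvv]
    have hk1 : k = 1 := inv1 v k hv2 hvM (hMc I I.2 (hsq' I hI2) k hkI) hkI (by
      rw [hk, mul_inv_rev, hu u hu2, hu v hv2, ← mul_assoc, hvv, one_mul])
    refine Subtype.ext ?_
    show u = v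
    rw [← hu v hv2, eq_comm, inv_eq_iff_mul_eq_one]
    exact hk1
  have hFs : Function.Surjective F := Finite.injective_iff_surjective.mp hF
  refine ⟨(M ⊓ M.map (MulAut.conj j₀).toMonoidHom).subgroupOf M, ?_, fun m => ?_⟩
  · rw [Nat.card_congr (Subgroup.subgroupOfEquivOfLe inf_le_left).toEquiv]
    by_contra hev
    obtain ⟨e, he⟩ := exists_prime_orderOf_dvd_card'
      (G := ↥(M ⊓ M.map (MulAut.conj j₀).toMonoidHom)) 2 (Nat.not_odd_iff_even.mp hev).two_dvd
    rw [← Subgroup.orderOf_coe] at he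
    obtain ⟨d, hdM, y, hy, hyd⟩ := e
    refine hj₀ (disj j₀ d hdM ?_ he)
    rw [← hyd]
    show j₀⁻¹ * (j₀ * y * j₀⁻¹) * j₀ ∈ M
    have : j₀⁻¹ * (j₀ * y * j₀⁻¹) * j₀ = y := by group
    rw [this]; exact hy
  set j : S := (m : S) * I * (m : S)⁻¹ with hjdef
  have hjM : j ∈ M := M.mul_mem (M.mul_mem m.2 I.2) (M.inv_mem m.2)
  have hj2 : orderOf j = 2 := by
    rw [← hsq' I hI2]
    exact orderOf_injective (MulAut.conj (m : S)).toMonoidHom (MulAut.conj (m : S)).injective _
  obtain ⟨⟨v, hv2, hvM⟩, hv⟩ := hFs ⟨j₀ * j * j₀, (houtc j₀ j hj₀2 hj₀ hjM hj2).2,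
    (houtc j₀ j hj₀2 hj₀ hjM hj2).1⟩
  have hv' : v * (I : S) * v = j₀ * j * j₀ := congrArg Subtype.val hv
  have huu := hsq j₀ hj₀2
  have hvv := hsq v hv2
  set k := j₀ * v with hk
  have hkj : k⁻¹ * j * k = I := by
    rw [hk, mul_inv_rev, hu j₀ hj₀2, hu v hv2]
    calc v * j₀ * j * (j₀ * v) = v * (j₀ * j * j₀) * v := by group
      _ = v * (v * I * v) * v := by rw [hv']
      _ = I := by simp [← mul_assoc, hvv]; simp [mul_assoc, hvv]
  have hkM : k ∈ M := disj k j hjM (hkj ▸ I.2) hj2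
  refine ⟨⟨k, hkM⟩, ⟨hkM, k⁻¹, M.inv_mem hkM, ?_⟩, ⟨k, hkM⟩⁻¹ * m,
    Subgroup.mem_centralizer_singleton_iff.mpr (Subtype.ext ?_), by rw [mul_inv_cancel_left]⟩
  · show j₀ * k⁻¹ * j₀⁻¹ = k
    rw [hu j₀ hj₀2, hk, mul_inv_rev, hu j₀ hj₀2, hu v hv2]
    simp [mul_assoc, huu]
  · show k⁻¹ * (m : S) * I = I * (k⁻¹ * m)
    calc k⁻¹ * (m : S) * I = k⁻¹ * j * k * (k⁻¹ * m) := by rw [hjdef]; group
      _ = I * (k⁻¹ * m) := by rw [hkj]

end Cfsg.Agent.S1905
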