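import Cfsg.Statements.S1906
import Cfsg.Agent.Lib.PGroups.Basic
import Cfsg.Agent.Lib.Techniques.CentralTransfer

/-!
A Sylow 2-subgroup inside `GL(3, q)` containing all sign matrices is monomial with a fixed coordinate
unless it is diagonal; the corner entry then transfers.
-/

set_option autoImplicit false
set_option linter.style.haveILetI false
open Cfsg

namespace Cfsg.Agent.S1906

open Matrix
open scoped commutatorElement

variable {F : Type*} [Field F]

/-- common eigenvectors -/
def EigSet (S : Set (Matrix (Fin 3) (Fin 3) F)) : Set (Fin 3 → F) :=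
  {v | ∀ a ∈ S, ∃ c : F, a *ᵥ v = c • v}

theorem span_eigSet (h2 : (2 : F) ≠ 0) (S : Finset (Matrix (Fin 3) (Fin 3) F))
    (hsq : ∀ a ∈ S, a * a = 1) (hcomm : ∀ a ∈ S, ∀ b ∈ S, a * b = b * a) :
    Submodule.span F (EigSet (S : Set (Matrix (Fin 3) (Fin 3) F))) = ⊤ := by
  classical
  induction S using Finset.induction_on with
  | empty =>
    refine top_unique fun v _ => Submodule.subset_span ?_
    intro a ha
    simp at ha
  | @insert a S ha ih =>
    have ih' := ih (fun b hb => hsq b (Finset.mem_insert_of_mem hb))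
      (fun b hb d hd => hcomm b (Finset.mem_insert_of_mem hb) d (Finset.mem_insert_of_mem hd))
    refine top_unique ?_
    rw [← ih', Submodule.span_le]
    intro v hv
    have haa : a *ᵥ (a *ᵥ v) = v := by
      rw [mulVec_mulVec, hsq a (Finset.mem_insert_self _ _), one_mulVec]
    have key : ∀ ε : F, ε * ε = 1 →
        v + ε • (a *ᵥ v) ∈ Submodule.span F (EigSet ((insert a S : Finset _) : Set (Matrix (Fin 3) (Fin 3) F))) := by
      intro ε hε
      refine Submodule.subset_span fun b hb => ?_
      rcases Finset.mem_insert.1 (Finset.mem_coe.1 hb) with rfl | hbS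
      · exact ⟨ε, by rw [mulVec_add, mulVec_smul, haa, smul_add, smul_smul, hε, one_smul, add_comm]⟩
      · obtain ⟨c, hc⟩ := hv b hbS
        refine ⟨c, ?_⟩
        have : b *ᵥ (a *ᵥ v) = c • (a *ᵥ v) := by
          rw [mulVec_mulVec, hcomm b hb a (Finset.mem_insert_self _ _), ← mulVec_mulVec, hc, mulVec_smul]
        rw [mulVec_add, mulVec_smul, hc, this, smul_add, smul_comm]
    have e : v = (2 : F)⁻¹ • ((v + (1 : F) • (a *ᵥ v)) + (v + (-1 : F) • (a *ᵥ v))) := by
      rw [one_smul, neg_one_smul, show v + a *ᵥ v + (v + -(a *ᵥ v)) = (2 : F) • v by rw [two_smul]; abel,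
        smul_smul, inv_mul_cancel₀ h2, one_smul]
    rw [SetLike.mem_coe, e]
    exact Submodule.smul_mem _ _ (add_mem (key 1 (by ring)) (key (-1) (by ring)))

theorem exists_diagonalizer [Finite F] (h2 : (2 : F) ≠ 0) (S : Set (Matrix (Fin 3) (Fin 3) F))
    (hsq : ∀ a ∈ S, a * a = 1) (hcomm : ∀ a ∈ S, ∀ b ∈ S, a * b = b * a) :
    ∃ P : GL (Fin 3) F, ∀ a ∈ S, ∃ d : Fin 3 → F,
      ((P⁻¹ : GL (Fin 3) F) : Matrix (Fin 3) (Fin 3) F) * a * (P : Matrix (Fin 3) (Fin 3) F) = diagonal d := by
  classical
  have hfin : S.Finite := Set.toFinite S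
  have hspan := span_eigSet h2 hfin.toFinset (fun a ha => hsq a (hfin.mem_toFinset.1 ha))
    (fun a ha b hb => hcomm a (hfin.mem_toFinset.1 ha) b (hfin.mem_toFinset.1 hb))
  rw [hfin.coe_toFinset] at hspan
  obtain ⟨t, ht, hts, hli⟩ := exists_linearIndependent F (EigSet S)
  rw [hspan] at hts
  let B₀ := Module.Basis.mk hli (by rw [Subtype.range_coe_subtype, Set.setOf_mem_eq, hts])
  haveI : Finite t := Set.toFinite t
  haveI := Fintype.ofFinite t
  have hcard : Fintype.card t = 3 := by
    rw [← Module.finrank_eq_card_basis B₀, Module.finrank_fintype_fun_eq_card, Fintype.card_fin]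
  let e : Fin 3 ≃ t := (Fintype.equivFinOfCardEq hcard).symm
  let P₀ : Matrix (Fin 3) (Fin 3) F := Matrix.of fun i j => ((e j : t) : Fin 3 → F) i
  have hunit : IsUnit P₀ := by
    rw [← Matrix.linearIndependent_cols_iff_isUnit]
    exact hli.comp e e.injective
  refine ⟨hunit.unit, fun a ha => ?_⟩
  have hev : ∀ j, ∃ c : F, a *ᵥ ((e j : t) : Fin 3 → F) = c • ((e j : t) : Fin 3 → F) := fun j => ht (e j).2 a ha
  choose d hd using hev
  refine ⟨d, ?_⟩
  have h : a * P₀ = P₀ * diagonal d := by
    ext i j
    have := congrFun (hd j) i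
    simp only [mulVec, dotProduct, Pi.smul_apply, smul_eq_mul] at this
    rw [mul_diagonal, Matrix.mul_apply]
    simp only [P₀, of_apply]
    rw [this, mul_comm]
  rw [mul_assoc]
  show (↑(hunit.unit⁻¹) : Matrix (Fin 3) (Fin 3) F) * (a * P₀) = diagonal d
  rw [h, ← mul_assoc, IsUnit.val_inv_mul, one_mul]

/-- the sign matrix -/
def sd (s : Fin 3 → Bool) : Matrix (Fin 3) (Fin 3) F := diagonal fun i => if s i then 1 else -1

theorem sd_injective (hneg : (-1 : F) ≠ 1) : Function.Injective (sd (F := F)) := by
  intro s t h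
  funext i
  have := congrFun (congrFun h i) i
  simp only [sd, diagonal_apply_eq] at this
  cases hs : s i <;> cases ht : t i <;> simp [hs, ht] at this ⊢
  · exact hneg this
  · exact hneg this.symm

theorem sd_sq (s : Fin 3 → Bool) : sd s * sd s = (1 : Matrix (Fin 3) (Fin 3) F) := by
  rw [sd, diagonal_mul_diagonal, ← diagonal_one]
  congr 1
  funext i
  cases s i <;> simp

theorem sd_mul (s t : Fin 3 → Bool) :
    sd s * sd t = (sd (fun i => s i == t i) : Matrix (Fin 3) (Fin 3) F) := by
  rw [sd, sd, sd, diagonal_mul_diagonal]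
  congr 1
  funext i
  cases s i <;> cases t i <;> simp

theorem eq_zero_of_commute (hneg : (-1 : F) ≠ 1) {M : Matrix (Fin 3) (Fin 3) F} {s : Fin 3 → Bool}
    (h : M * sd s = sd s * M) {a b : Fin 3} (hab : s a ≠ s b) : M a b = 0 := by
  have := congrFun (congrFun h a) b
  simp only [sd, mul_diagonal, diagonal_mul] at this
  by_contra h0
  cases ha : s a <;> cases hb : s b <;> simp [ha, hb] at hab this
  · exact hneg ((mul_left_injective₀ h0 (show (-1 : F) * M a b = 1 * M a b by first | linear_combination this | linear_combination -this)))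
  · exact hneg ((mul_left_injective₀ h0 (show (-1 : F) * M a b = 1 * M a b by first | linear_combination this | linear_combination -this)))

theorem sign_prod (hneg : (-1 : F) ≠ 1) (s : Fin 3 → Bool) (h : (sd s : Matrix (Fin 3) (Fin 3) F).det = 1) :
    s = (fun _ => true) ∨ ∃ j, s = fun i => decide (i = j) := by
  have hs : s = ![s 0, s 1, s 2] := by funext i; fin_cases i <;> rfl
  rw [sd, det_diagonal, Fin.prod_univ_three] at h
  rw [hs]
  cases h0 : s 0 <;> cases h1 : s 1 <;> cases h2 : s 2 <;> simp [h0, h1, h2] at h <;>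
    first
      | (exact absurd h hneg)
      | (left; funext i; fin_cases i <;> rfl)
      | (right; refine ⟨0, funext fun i => ?_⟩; fin_cases i <;> rfl)
      | (right; refine ⟨1, funext fun i => ?_⟩; fin_cases i <;> rfl)
      | (right; refine ⟨2, funext fun i => ?_⟩; fin_cases i <;> rfl)

theorem bool_cases : ∀ (j : Fin 3) (s : Fin 3 → Bool),
    (∀ i, s i = true) ∨ (∀ i, s i = false) ∨ (∀ i, s i = decide (i = j)) ∨ (∀ i, s i = !decide (i = j)) ∨
      ∀ a b, a ≠ b → decide (a = j) ≠ decide (b = j) ∨ s a ≠ s b := by decide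


/-- Let G be a finite group with no subgroup of index 2 whose Sylow 2-subgroup X embeds in GL₃(F) for a finite field F of odd order. If X contains an elementary abelian subgroup of order 8, then X is abelian. -/
theorem result {G : Type*} [Group G] [Finite G] (hG : ∀ H : Subgroup G, H.index ≠ 2) (X : Sylow 2 G)
    {F : Type*} [Field F] [Fintype F] (hF : Odd (Fintype.card F))
    (f : ↥(X : Subgroup G) →* GL (Fin 3) F) (hf : Function.Injective f)
    (E : Subgroup G) (hE : E ≤ (X : Subgroup G)) (hEa : Cfsg.IsElementaryAbelian 2 E) (hE8 : Nat.card E = 8) :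
    IsMulCommutative (X : Subgroup G) := by
  classical
  by_contra hnab
  have h2 : (2 : F) ≠ 0 := fun h => by
    have h' : ringChar F = 2 := by
      haveI : CharP F 2 := CharTwo.of_one_ne_zero_of_two_eq_zero one_ne_zero h
      exact ringChar.eq F 2
    have := FiniteField.even_card_iff_char_two.1 h'
    rw [Nat.odd_iff] at hF; omega
  have hneg : (-1 : F) ≠ 1 := fun h => h2 (by linear_combination -h)
  -- E as matrices
  let ι : ↥E →* ↥(X : Subgroup G) := Subgroup.inclusion hE
  let S : Set (Matrix (Fin 3) (Fin 3) F) := Set.range fun e : ↥E => (f (ι e) : Matrix (Fin 3) (Fin 3) F)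
  have hEsq : ∀ e : ↥E, e * e = 1 := fun e => Subtype.ext (by
    show (e : G) * e = 1
    rw [← pow_two]; exact hEa.2 _ e.2)
  have hEcomm : ∀ a b : ↥E, a * b = b * a := fun a b => hEa.1.is_comm.comm a b
  obtain ⟨P, hP⟩ := exists_diagonalizer h2 S
    (by
      rintro _ ⟨e, rfl⟩
      show (f (ι e) : Matrix (Fin 3) (Fin 3) F) * _ = 1
      rw [← Units.val_mul, ← map_mul, ← map_mul, hEsq, map_one, map_one, Units.val_one])
    (by
      rintro _ ⟨a, rfl⟩ _ ⟨b, rfl⟩
      show (f (ι a) : Matrix (Fin 3) (Fin 3) F) * _ = (f (ι b) : Matrix (Fin 3) (Fin 3) F) * _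
      rw [← Units.val_mul, ← Units.val_mul, ← map_mul, ← map_mul, ← map_mul, ← map_mul, hEcomm])
  let f' : ↥(X : Subgroup G) →* GL (Fin 3) F := (MulAut.conj P⁻¹).toMonoidHom.comp f
  have hf' : Function.Injective f' := fun a b h => hf ((MulAut.conj P⁻¹).injective h)
  let M : ↥(X : Subgroup G) → Matrix (Fin 3) (Fin 3) F := fun x => (f' x : Matrix (Fin 3) (Fin 3) F)
  have hMinj : Function.Injective M := fun a b h => hf' (Units.ext h)
  have hMmul : ∀ a b, M (a * b) = M a * M b := fun a b => by simp only [M, map_mul, Units.val_mul]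
  have hMone : M 1 = 1 := by simp only [M, map_one, Units.val_one]
  have hMdet : ∀ x, x ∈ commutator ↥(X : Subgroup G) → (M x).det = 1 := fun x hx => by
    have h := Abelianization.commutator_subset_ker (Matrix.GeneralLinearGroup.det.comp f') hx
    rw [MonoidHom.mem_ker, Units.ext_iff] at h
    simpa [M] using h
  -- all sign matrices lie in the image of E
  have hsign : ∀ x : ↥(X : Subgroup G), x * x = 1 → (∀ a b, a ≠ b → M x a b = 0) → ∃ s, M x = sd s := by
    intro x hx hd
    refine ⟨fun i => decide (M x i i = 1), ?_⟩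
    have hdiag : M x = diagonal fun i => M x i i := by
      ext a b
      by_cases hab : a = b
      · subst hab; simp
      · rw [diagonal_apply_ne _ hab, hd a b hab]
    have hsq := hMmul x x
    rw [hx, hMone, hdiag, diagonal_mul_diagonal, ← diagonal_one] at hsq
    have hii : ∀ i, M x i i = 1 ∨ M x i i = -1 := fun i =>
      mul_self_eq_one_iff.1 (congrFun (diagonal_injective hsq) i).symm
    conv_lhs => rw [hdiag]
    rw [sd]
    congr 1
    funext i
    rcases hii i with h | h <;> simp [h, hneg]
  have hEdiag : ∀ e : ↥E, ∃ s, M (ι e) = sd s := by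
    intro e
    obtain ⟨d, hd⟩ := hP _ ⟨e, rfl⟩
    have hm : M (ι e) = diagonal d := by
      rw [← hd]; simp [M, f', MulAut.conj_apply]
    refine hsign _ (by rw [← map_mul, hEsq, map_one]) fun a b hab => ?_
    rw [hm, diagonal_apply_ne _ hab]
  choose ψ hψ using hEdiag
  have hψinj : Function.Injective ψ := fun a b h =>
    Subgroup.inclusion_injective hE (hMinj (by rw [hψ, hψ, h]))
  have hψsurj : Function.Surjective ψ := by
    haveI : Fintype ↥E := Fintype.ofFinite _
    refine (Fintype.bijective_iff_injective_and_card ψ).2 ⟨hψinj, ?_⟩ |>.2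
    rw [← Nat.card_eq_fintype_card, hE8]; rfl
  have hsd : ∀ s, ∃ x : ↥(X : Subgroup G), M x = sd s ∧ ∃ e : ↥E, ι e = x := fun s => by
    obtain ⟨e, he⟩ := hψsurj s
    exact ⟨ι e, by rw [hψ, he], e, rfl⟩
  have hcentral : ∀ x : ↥(X : Subgroup G), x * x = 1 → (∀ y, y * x = x * y) → ∃ s, M x = sd s := by
    intro x hx hc
    refine hsign x hx fun a b hab => ?_
    obtain ⟨w, hw, -⟩ := hsd fun i => decide (i = a)
    refine eq_zero_of_commute hneg (s := fun i => decide (i = a)) ?_ ?_
    · rw [← hw, ← hMmul, ← hMmul, hc]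
    · simp [Ne.symm hab]
  -- a central involution c in the derived group
  have hne : commutator ↥(X : Subgroup G) ≠ ⊥ := by
    intro h
    refine hnab ⟨⟨fun a b => ?_⟩⟩
    have hab : ⁅a, b⁆ ∈ commutator ↥(X : Subgroup G) := by
      rw [commutator_def]; exact Subgroup.commutator_mem_commutator (Subgroup.mem_top a) (Subgroup.mem_top b)
    rw [h, Subgroup.mem_bot] at hab
    exact commutatorElement_eq_one_iff_mul_comm.1 hab
  have hNZ := CfsgLib.PGroups.inf_center_ne_bot X.isPGroup' hne
  set NZ : Subgroup ↥(X : Subgroup G) := commutator ↥(X : Subgroup G) ⊓ Subgroup.center _ with hNZdef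
  obtain ⟨c, hcN, hc2, hc1⟩ : ∃ c : ↥(X : Subgroup G), c ∈ NZ ∧ c * c = 1 ∧ c ≠ 1 := by
    haveI := (Subgroup.nontrivial_iff_ne_bot NZ).2 hNZ
    obtain ⟨k, hk, hkc⟩ := (X.isPGroup'.to_subgroup NZ).nontrivial_iff_card.1 inferInstance
    obtain ⟨c, hc⟩ := exists_prime_orderOf_dvd_card' (G := ↥NZ) 2 (hkc ▸ dvd_pow_self 2 hk.ne')
    refine ⟨c, c.2, ?_, fun h => ?_⟩
    · have := pow_orderOf_eq_one c
      rw [hc, pow_two] at this
      exact congrArg Subtype.val this
    · rw [orderOf_eq_one_iff.2 (Subtype.ext h : c = 1)] at hc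
      omega
  have hcZ : ∀ y, y * c = c * y := Subgroup.mem_center_iff.1 hcN.2
  obtain ⟨sc, hsc⟩ := hcentral c hc2 hcZ
  have hdetc := hMdet c hcN.1
  rw [hsc] at hdetc
  obtain ⟨j, rfl⟩ : ∃ j, sc = fun i => decide (i = j) := by
    refine (sign_prod hneg sc hdetc).resolve_left fun h => hc1 (hMinj ?_)
    rw [hsc, h, hMone, sd]; simp
  have hblock : ∀ y a b, decide (a = j) ≠ decide (b = j) → M y a b = 0 := fun y a b hab =>
    eq_zero_of_commute hneg (s := fun i => decide (i = j)) (by rw [← hsc, ← hMmul, ← hMmul, hcZ]) hab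
  -- classification of central involutions
  have hclass : ∀ x : ↥(X : Subgroup G), x * x = 1 → (∀ y, y * x = x * y) →
      M x = sd (fun _ => true) ∨ M x = sd (fun _ => false) ∨ x = c ∨ M x = sd (fun i => !decide (i = j)) := by
    intro x hx hxc
    obtain ⟨s, hs⟩ := hcentral x hx hxc
    rcases bool_cases j s with h | h | h | h | h
    · left; rw [hs, funext h]
    · right; left; rw [hs, funext h]
    · right; right; left; exact hMinj (by rw [hs, hsc, funext h])
    · right; right; right; rw [hs, funext h]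
    · exfalso
      refine hnab ⟨⟨fun a b => hMinj ?_⟩⟩
      have hd : ∀ y, M y = diagonal fun i => M y i i := fun y => by
        ext p q
        by_cases hpq : p = q
        · subst hpq; simp
        · rw [diagonal_apply_ne _ hpq]
          rcases h p q hpq with h' | h'
          · exact hblock y p q h'
          · exact eq_zero_of_commute hneg (s := s) (by rw [← hs, ← hMmul, ← hMmul, hxc]) h'
      rw [hMmul, hMmul, hd a, hd b, diagonal_mul_diagonal, diagonal_mul_diagonal]
      congr 1; funext i; exact mul_comm _ _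
  obtain ⟨z, hz, -⟩ := hsd fun _ => false
  obtain ⟨u, hu, -⟩ := hsd fun i => !decide (i = j)
  have hu2 : u * u = 1 := hMinj (by rw [hMmul, hu, sd_sq, hMone])
  have hzZ : ∀ y, y * z = z * y := fun y => hMinj (by
    rw [hMmul, hMmul, hz, sd]; ext a b; simp [mul_diagonal, diagonal_mul])
  have hczu : c * z = u := hMinj (by rw [hMmul, hsc, hz, hu, sd_mul]; congr 1; funext i; simp)
  have hcuz : c * u = z := by rw [← hczu, ← mul_assoc, hc2, one_mul]
  have huZ : ∀ y, y * u = u * y := fun y => by
    rw [← hczu, ← mul_assoc, hcZ, mul_assoc, hzZ, mul_assoc]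
  have huz : u ≠ z := fun h => hc1 (by
    have : c * z = z := hczu.trans h
    simpa using this)
  -- the character
  let χ₀ : ↥(X : Subgroup G) →* F :=
    { toFun := fun x => M x j j
      map_one' := by rw [hMone, one_apply_eq]
      map_mul' := fun a b => by
        rw [hMmul, Matrix.mul_apply, Finset.sum_eq_single j]
        · intro k _ hk
          rw [hblock a j k (by simp [hk]), zero_mul]
        · intro h; exact absurd (Finset.mem_univ j) h }
  let χ : ↥(X : Subgroup G) →* Fˣ := χ₀.toHomUnits
  have hχu : (χ u : F) = -1 := by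
    show M u j j = -1
    rw [hu, sd, diagonal_apply_eq]; simp
  obtain ⟨H, hH⟩ := CfsgLib.Techniques.CentralTransfer.exists_index_two X χ u hu2 huZ
    (fun h => hneg (by rw [← hχu, h, Units.val_one]))
    (fun a ha => by
      rcases mul_self_eq_one_iff.1 (show (a : F) * a = 1 by rw [← Units.val_mul, ha, Units.val_one]) with h | h
      · exact Or.inl (Units.ext h)
      · exact Or.inr (Units.ext (h.trans hχu.symm)))
    (fun g hg w hw => by
      suffices hwu : w = u by rw [hwu]
      have hmem : ∀ y : ↥(X : Subgroup G), g⁻¹ * (y : G) * g ∈ (X : Subgroup G) := fun y => by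
        have := (Subgroup.mem_normalizer_iff.1 (inv_mem hg) y).1 y.2
        rwa [inv_inv] at this
      let σ : ↥(X : Subgroup G) →* ↥(X : Subgroup G) :=
        { toFun := fun y => ⟨g⁻¹ * (y : G) * g, hmem y⟩
          map_one' := Subtype.ext (by show g⁻¹ * (1 : G) * g = 1; group)
          map_mul' := fun a b => Subtype.ext (by show g⁻¹ * ((a : G) * b) * g = g⁻¹ * a * g * (g⁻¹ * b * g); group) }
      have hσinj : Function.Injective σ := fun a b h => Subtype.ext
        (mul_left_cancel (mul_right_cancel (congrArg Subtype.val h : g⁻¹ * (a : G) * g = g⁻¹ * b * g)))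
      have hσsurj : Function.Surjective σ := Finite.surjective_of_injective hσinj
      have hcen : ∀ v, (∀ y, y * v = v * y) → ∀ y, y * σ v = σ v * y := fun v hv y => by
        obtain ⟨y, rfl⟩ := hσsurj y
        rw [← map_mul, ← map_mul, hv]
      have hσne : ∀ v, v ≠ 1 → M (σ v) ≠ sd (fun _ => true) := fun v hv h =>
        hv (hσinj ((hMinj (by rw [h, hMone, sd]; simp)).trans (map_one σ).symm))
      have hσc : σ c = c := by
        have hmemc : σ c ∈ commutator ↥(X : Subgroup G) :=
          Subgroup.characteristic_iff_map_le.1 inferInstance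
            (MulEquiv.ofBijective σ ⟨hσinj, hσsurj⟩) (Subgroup.mem_map_of_mem _ hcN.1)
        have hd := hMdet _ hmemc
        rcases hclass (σ c) (by rw [← map_mul, hc2, map_one]) (hcen c hcZ) with h | h | h | h
        · exact absurd h (hσne c hc1)
        · rw [h, sd, det_diagonal, Fin.prod_univ_three] at hd
          exact absurd (by simpa using hd) hneg
        · exact h
        · rw [h] at hd
          rcases sign_prod hneg _ hd with h' | ⟨k, hk⟩
          · simpa using congrFun h' j
          · exfalso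
            have : ∀ j k : Fin 3, (fun i => !decide (i = j)) ≠ fun i => decide (i = k) := by decide
            exact this j k hk
      have hw' : w = σ u := Subtype.ext hw
      subst hw'
      rcases hclass (σ u) (by rw [← map_mul, hu2, map_one]) (hcen u huZ) with h | h | h | h
      · refine absurd h (hσne u fun h1 => ?_)
        rw [h1, Units.ext_iff.1 (map_one χ)] at hχu
        exact hneg hχu.symm
      · exfalso
        have hsw1 : σ u = z := hMinj (h.trans hz.symm)
        have hsw2 : σ z = u := by rw [← hcuz, map_mul, hσc, hsw1, hczu]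
        -- iterate to a 2-element of the normalizer
        have iter : ∀ k : ℕ, (g ^ (2 * k + 1))⁻¹ * (u : G) * g ^ (2 * k + 1) = z ∧
            (g ^ (2 * k + 1))⁻¹ * (z : G) * g ^ (2 * k + 1) = u := by
          have e1 : g⁻¹ * (u : G) * g = z := congrArg Subtype.val hsw1
          have e2 : g⁻¹ * (z : G) * g = u := congrArg Subtype.val hsw2
          intro k
          induction k with
          | zero => simpa using ⟨e1, e2⟩
          | succ k ih =>
            have key : ∀ v : G, (g ^ (2 * (k + 1) + 1))⁻¹ * v * g ^ (2 * (k + 1) + 1) =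
                g⁻¹ * (g⁻¹ * ((g ^ (2 * k + 1))⁻¹ * v * g ^ (2 * k + 1)) * g) * g := fun v => by
              rw [show 2 * (k + 1) + 1 = 2 * k + 1 + 1 + 1 by ring, pow_succ, pow_succ]; group
            exact ⟨by rw [key, ih.1, e2, e1], by rw [key, ih.2, e1, e2]⟩
        obtain ⟨a, b, hb, hab⟩ := Nat.exists_eq_pow_mul_and_not_dvd (orderOf_pos g).ne' 2 (by norm_num)
        obtain ⟨k, rfl⟩ : ∃ k, b = 2 * k + 1 := ⟨b / 2, by omega⟩
        have hp : IsPGroup 2 (Subgroup.zpowers (g ^ (2 * k + 1))) := by
          rintro ⟨x, hx⟩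
          obtain ⟨m, rfl⟩ := Subgroup.mem_zpowers_iff.1 hx
          refine ⟨a, Subtype.ext ?_⟩
          show ((g ^ (2 * k + 1)) ^ m) ^ 2 ^ a = 1
          have h1 : (g ^ (2 * k + 1)) ^ 2 ^ a = 1 := by
            rw [← pow_mul, mul_comm, ← hab, pow_orderOf_eq_one]
          rw [← zpow_natCast, ← _root_.zpow_mul, mul_comm m, _root_.zpow_mul, zpow_natCast, h1, _root_.one_zpow]
        have hgX : g ^ (2 * k + 1) ∈ (X : Subgroup G) := by
          have hmemn : g ^ (2 * k + 1) ∈ Subgroup.zpowers (g ^ (2 * k + 1)) ⊓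
              Subgroup.normalizer ((X : Subgroup G) : Set G) := ⟨Subgroup.mem_zpowers _, pow_mem hg _⟩
          exact ((hp.inf_normalizer_sylow X).le hmemn).2
        refine huz (Subtype.ext ?_)
        rw [← (iter k).1, show (g ^ (2 * k + 1))⁻¹ * (u : G) * g ^ (2 * k + 1) =
          (g ^ (2 * k + 1))⁻¹ * ((u : G) * g ^ (2 * k + 1)) by group,
          ← show g ^ (2 * k + 1) * (u : G) = u * g ^ (2 * k + 1) from congrArg Subtype.val (huZ ⟨_, hgX⟩),
          inv_mul_cancel_left]
      · exfalso
        have : u = c := hσinj (h.trans hσc.symm)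
        rw [← hczu] at this
        have hz1 : z = 1 := mul_eq_left.mp this
        have h' := sd_injective hneg (hz.symm.trans ((congrArg M hz1).trans (hMone.trans (by rw [sd]; simp : (1 : Matrix (Fin 3) (Fin 3) F) = sd fun _ => true))))
        simpa using congrFun h' j
      · exact hMinj (h.trans hu.symm))
  exact hG H hH

end Cfsg.Agent.S1906
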