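import Cfsg.Statements.S1907
import Mathlib
import Cfsg.Agent.Lib.PLocal.Constrained
import Cfsg.Agent.Lib.PLocal.Frattini
import Cfsg.Agent.Lib.PLocal.PSolvable
import Cfsg.Agent.Lib.Base.Cores

set_option autoImplicit false
open Cfsg
open scoped Pointwise commutatorElement

namespace Cfsg.Agent.S1907

/-- Let P be a Sylow p-subgroup of a finite group G, H = P ∩ O_{p',p}(G), N = N_G(H) and D = O_{p'}(G). (a) If y is an element of p-power order of N and d ∈ D with d⁻¹ y d ∈ N, then d = d₁ d₂ with d₁ ∈ C_D(y) and d₂ ∈ C_D(H). (b) Two elements of P that are conjugate in G are conjugate in N. -/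
theorem result {G : Type*} [Group G] [Finite G] {p : ℕ} [Fact p.Prime] (P : Sylow p G) :
    (∀ y ∈ Subgroup.normalizer (((P : Subgroup G) ⊓ Cfsg.pPrimePCore p G : Subgroup G) : Set G), (∃ k : ℕ, orderOf y = p ^ k) →
      ∀ d ∈ Cfsg.pPrimeCore p G, d⁻¹ * y * d ∈ Subgroup.normalizer (((P : Subgroup G) ⊓ Cfsg.pPrimePCore p G : Subgroup G) : Set G) →
        ∃ d₁ ∈ Cfsg.pPrimeCore p G ⊓ Subgroup.centralizer ({y} : Set G),
          ∃ d₂ ∈ Cfsg.pPrimeCore p G ⊓ Subgroup.centralizer (((P : Subgroup G) ⊓ Cfsg.pPrimePCore p G : Subgroup G) : Set G), d = d₁ * d₂) ∧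
    ∀ x y : G, x ∈ (P : Subgroup G) → y ∈ (P : Subgroup G) → IsConj x y →
      ∃ n ∈ Subgroup.normalizer (((P : Subgroup G) ⊓ Cfsg.pPrimePCore p G : Subgroup G) : Set G), n * x * n⁻¹ = y := by
  classical
  set R := Cfsg.pPrimePCore p G with hR
  set O := Cfsg.pPrimeCore p G with hO
  set H := (P : Subgroup G) ⊓ R with hH
  set N := Subgroup.normalizer (H : Set G) with hN
  haveI := CfsgLib.PLocal.pPrimePCore_normal p G
  have hOcop : (Nat.card ↥O).Coprime p := CfsgLib.Base.pPrimeCore_coprime p G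
  have part1 : ∀ y ∈ N, (∃ k : ℕ, orderOf y = p ^ k) → ∀ d ∈ O, d⁻¹ * y * d ∈ N →
      ∃ d₁ ∈ O ⊓ Subgroup.centralizer ({y} : Set G), ∃ d₂ ∈ O ⊓ Subgroup.centralizer (H : Set G), d = d₁ * d₂ := by
    intro y hy hyp d hd hd'
    obtain ⟨k, hk⟩ := hyp
    set M := O ⊓ Subgroup.centralizer (H : Set G) with hM
    set y' := d⁻¹ * y * d with hy'
    set o := y⁻¹ * y' with ho
    have hoO : o ∈ O := by
      rw [show o = (y⁻¹ * d⁻¹ * y⁻¹⁻¹) * d by simp only [ho, hy']; group]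
      exact O.mul_mem (Subgroup.Normal.conj_mem inferInstance _ (O.inv_mem hd) _) hd
    have hoN : o ∈ N := N.mul_mem (N.inv_mem hy) hd'
    have hoM : o ∈ M := by
      refine Subgroup.mem_inf.mpr ⟨hoO, Subgroup.mem_centralizer_iff.mpr fun h hh => ?_⟩
      have h1 : o * h * o⁻¹ * h⁻¹ ∈ (P : Subgroup G) ⊓ O := by
        refine Subgroup.mem_inf.mpr ⟨(P : Subgroup G).mul_mem
          (((Subgroup.mem_normalizer_iff.mp hoN h).mp hh).1) ((P : Subgroup G).inv_mem hh.1), ?_⟩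
        rw [show o * h * o⁻¹ * h⁻¹ = o * (h * o⁻¹ * h⁻¹) by group]
        exact O.mul_mem hoO (Subgroup.Normal.conj_mem inferInstance _ (O.inv_mem hoO) h)
      rw [CfsgLib.Base.inf_eq_bot_of_isPGroup_of_coprime P.isPGroup' hOcop, Subgroup.mem_bot,
        mul_inv_eq_one, mul_inv_eq_iff_eq_mul] at h1
      exact h1.symm
    have hMy : ∀ {z : G}, z ∈ N → z ∈ Subgroup.normalizer (M : Set G) := fun {z} hz =>
      CfsgLib.PLocal.normalizer_inf_le O (Subgroup.centralizer (H : Set G))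
        (Subgroup.mem_inf.mpr ⟨Subgroup.le_normalizer_of_normal (K := ⊤) (Subgroup.mem_top z),
          CfsgLib.PLocal.normalizer_le_centralizer_normalizer H hz⟩)
    set T := M ⊔ Subgroup.zpowers y with hT
    have hTn : T ≤ Subgroup.normalizer (M : Set G) :=
      sup_le Subgroup.le_normalizer (Subgroup.zpowers_le.mpr (hMy hy))
    have hy'T : y' ∈ T := by
      rw [show y' = y * o by simp only [ho]; group]
      exact T.mul_mem (Subgroup.mem_sup_right (Subgroup.mem_zpowers y)) (Subgroup.mem_sup_left hoM)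
    have hy'k : orderOf y' = p ^ k := by
      rw [← hk, hy']
      exact orderOf_injective (MulAut.conj d⁻¹).toMonoidHom (MulEquiv.injective _) y |>.symm ▸ by simp
    have hcard : Nat.card ↥T ∣ Nat.card ↥M * p ^ k := by
      haveI : (M.subgroupOf T).Normal := Subgroup.normal_subgroupOf_of_le_normalizer hTn
      have h := CfsgLib.Base.card_sup_dvd ((Subgroup.zpowers y).subgroupOf T) (M.subgroupOf T)
      have htop : (Subgroup.zpowers y).subgroupOf T ⊔ M.subgroupOf T = ⊤ := by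
        rw [← Subgroup.subgroupOf_sup le_sup_right le_sup_left, sup_comm, Subgroup.subgroupOf_eq_top]
      rw [htop, Subgroup.card_top, CfsgLib.Base.card_subgroupOf le_sup_right,
        CfsgLib.Base.card_subgroupOf le_sup_left, Nat.card_zpowers, hk, mul_comm] at h
      exact h
    have hMp : (Nat.card ↥M).Coprime p := hOcop.coprime_dvd_left (Subgroup.card_dvd_of_le inf_le_left)
    have hidx : ∀ z : G, orderOf z = p ^ k → Subgroup.zpowers z ≤ T → ¬ p ∣ (Subgroup.zpowers z).relIndex T := by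
      intro z hz hzT hdvd
      have h1 : Nat.card ↥(Subgroup.zpowers z) * (Subgroup.zpowers z).relIndex T = Nat.card ↥T := by
        simpa [Subgroup.relIndex_bot_left] using Subgroup.relIndex_mul_relIndex ⊥ _ T bot_le hzT
      rw [Nat.card_zpowers, hz] at h1
      have h2 : (Subgroup.zpowers z).relIndex T ∣ Nat.card ↥M := by
        rw [← h1, mul_comm (Nat.card ↥M)] at hcard
        exact Nat.dvd_of_mul_dvd_mul_left (pow_pos (Fact.out : p.Prime).pos k) hcard
      exact ((Nat.Prime.coprime_iff_not_dvd Fact.out).mp hMp.symm) (hdvd.trans h2)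
    have hzp : ∀ z : G, orderOf z = p ^ k → IsPGroup p ↥(Subgroup.zpowers z) := fun z hz =>
      IsPGroup.of_card (n := k) (by rw [Nat.card_zpowers, hz])
    have hleT : Subgroup.zpowers y ≤ T := le_sup_right
    have hleT' : Subgroup.zpowers y' ≤ T := Subgroup.zpowers_le.mpr hy'T
    obtain ⟨t, ht, htc⟩ := CfsgLib.PLocal.exists_map_conj_eq_of_sylow_in (P := Subgroup.zpowers y)
      (Q := Subgroup.zpowers y') hleT hleT' (hzp y hk) (hzp y' hy'k) (hidx y hk hleT) (hidx y' hy'k hleT')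
    rw [← SetLike.mem_coe, hT, Subgroup.coe_mul_of_right_le_normalizer_left _ _ (Subgroup.zpowers_le.mpr (hMy hy))] at ht
    obtain ⟨u, hu, v, hv, rfl⟩ := Set.mem_mul.mp ht
    obtain ⟨l, rfl⟩ := Subgroup.mem_zpowers_iff.mp hv
    have h1 : (u * y ^ l) * y * (u * y ^ l)⁻¹ = u * y * u⁻¹ := by group
    have h2 : u * y * u⁻¹ ∈ Subgroup.zpowers y' :=
      htc ▸ Subgroup.mem_map.mpr ⟨y, Subgroup.mem_zpowers y, by rw [MulEquiv.coe_toMonoidHom, MulAut.conj_apply, h1]⟩
    have h3 : (u * y * u⁻¹) * y'⁻¹ ∈ Subgroup.zpowers y' ⊓ M := by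
      refine Subgroup.mem_inf.mpr ⟨Subgroup.mul_mem _ h2 (Subgroup.inv_mem _ (Subgroup.mem_zpowers y')), ?_⟩
      rw [show u * y * u⁻¹ * y'⁻¹ = u * (y * (u⁻¹ * o⁻¹) * y⁻¹) by simp only [ho]; group]
      exact M.mul_mem hu ((Subgroup.mem_normalizer_iff.mp (hMy hy) _).mp (M.mul_mem (M.inv_mem hu) (M.inv_mem hoM)))
    rw [CfsgLib.Base.inf_eq_bot_of_isPGroup_of_coprime (hzp y' hy'k) hMp, Subgroup.mem_bot, mul_inv_eq_one] at h3
    refine ⟨d * u, Subgroup.mem_inf.mpr ⟨O.mul_mem hd hu.1, ?_⟩, u⁻¹, M.inv_mem hu, by group⟩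
    rw [Subgroup.mem_centralizer_singleton_iff]
    calc d * u * y = d * (u * y * u⁻¹) * u := by group
      _ = d * (d⁻¹ * y * d) * u := by rw [h3]
      _ = y * (d * u) := by group
  refine ⟨part1, fun x y hx hy hxy => ?_⟩
  obtain ⟨g, hg⟩ := isConj_iff.mp hxy
  have hPN : (P : Subgroup G) ≤ N :=
    (le_inf Subgroup.le_normalizer Subgroup.le_normalizer_of_normal).trans
      (CfsgLib.PLocal.normalizer_inf_le (P : Subgroup G) R)
  have hsup : O ⊔ H = R := by
    obtain ⟨k, hk⟩ := CfsgLib.Base.pCore_eq_pow_card p (G ⧸ O)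
    refine CfsgLib.PLocal.eq_sup_sylow_inf P (CfsgLib.Base.pPrimeCore_le_pPrimePCore p G) (k := k) ?_
    rw [← CfsgLib.PLocal.card_map_mk'_eq_relIndex, hR, CfsgLib.PLocal.map_pPrimePCore, hk]
  obtain ⟨r, hr, n, hn, rfl⟩ := CfsgLib.PLocal.exists_mul_normalizer P R g
  rw [← hsup, Subgroup.mem_sup_of_normal_left] at hr
  obtain ⟨d, hd, h, hh, rfl⟩ := hr
  set n' := h * n with hn'
  have hn'N : n' ∈ N := N.mul_mem (Subgroup.le_normalizer hh) hn
  have hx' : d⁻¹ * y * d = n' * x * n'⁻¹ := by rw [← hg, hn']; group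
  have hyk : ∃ k : ℕ, orderOf y = p ^ k := by
    obtain ⟨k, hk⟩ := IsPGroup.iff_orderOf.mp P.isPGroup' ⟨y, hy⟩
    exact ⟨k, by rw [← hk, ← Subgroup.orderOf_coe]⟩
  obtain ⟨d1, hd1, d2, hd2, hdd⟩ := part1 y (hPN hy) hyk d hd
    (by rw [hx']; exact N.mul_mem (N.mul_mem hn'N (hPN hx)) (N.inv_mem hn'N))
  refine ⟨d2 * n', N.mul_mem (Subgroup.centralizer_le_normalizer _ hd2.2) hn'N, ?_⟩
  have hc : d1 * y = y * d1 := Subgroup.mem_centralizer_singleton_iff.mp hd1.2
  calc d2 * n' * x * (d2 * n')⁻¹ = d2 * (n' * x * n'⁻¹) * d2⁻¹ := by group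
    _ = d2 * (d⁻¹ * y * d) * d2⁻¹ := by rw [hx']
    _ = d1⁻¹ * (y * d1) := by rw [hdd]; group
    _ = y := by rw [← hc]; group

end Cfsg.Agent.S1907
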