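import Cfsg.Statements.S1910
import Mathlib
import Cfsg.Agent.Lib.PGroups.Basic
import Cfsg.Agent.Lib.PLocal.Frattini
import Cfsg.Agent.Lib.Base.Cores

set_option autoImplicit false
open Cfsg
open scoped Pointwise commutatorElement

namespace Cfsg.Agent.S1910

/-- Let Q be a tightly embedded subgroup of a finite group G, g an element outside N_G(Q), T a nontrivial Sylow 2-subgroup of Q^g ∩ N_G(Q), and S a Sylow 2-subgroup of QT containing T. Then T ∩ Q = 1, and N_S(T) is the direct product of T and N_S(T) ∩ Q, with N_S(T) ∩ Q isomorphic to T. -/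
theorem result {G : Type*} [Group G] [Finite G] (Q : Subgroup G) (hQ : Cfsg.IsTightlyEmbedded Q)
    (g : G) (hg : g ∉ Subgroup.normalizer (Q : Set G))
    (T : Subgroup G) (hT1 : T ≠ ⊥) (hT : T ≤ Q.map (MulAut.conj g).toMonoidHom ⊓ Subgroup.normalizer (Q : Set G))
    (hTsyl : IsPGroup 2 T ∧ ¬ 2 ∣ T.relIndex (Q.map (MulAut.conj g).toMonoidHom ⊓ Subgroup.normalizer (Q : Set G)))
    (S : Subgroup G) (hTS : T ≤ S) (hS : S ≤ Q ⊔ T) (hSsyl : IsPGroup 2 S ∧ ¬ 2 ∣ S.relIndex (Q ⊔ T)) :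
    T ⊓ Q = ⊥ ∧
      T ⊓ (S ⊓ Subgroup.normalizer (T : Set G) ⊓ Q) = ⊥ ∧
      ⁅T, S ⊓ Subgroup.normalizer (T : Set G) ⊓ Q⁆ = ⊥ ∧
      T ⊔ (S ⊓ Subgroup.normalizer (T : Set G) ⊓ Q) = S ⊓ Subgroup.normalizer (T : Set G) ∧
      Nonempty (↥(S ⊓ Subgroup.normalizer (T : Set G) ⊓ Q) ≃* T) := by
  classical
  haveI : Fact (Nat.Prime 2) := ⟨Nat.prime_two⟩
  set R := Q.map (MulAut.conj g).toMonoidHom with hR
  have two_odd : ∀ {A D : Subgroup G}, IsPGroup 2 ↥A → Odd (Nat.card ↥D) → A ≤ D → A = ⊥ := by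
    intro A D hA hD hle
    have h := CfsgLib.Base.inf_eq_bot_of_isPGroup_of_coprime hA (Nat.coprime_two_right.mpr hD)
    rwa [inf_eq_left.mpr hle] at h
  have hR' : ∀ x : G, x ∉ Subgroup.normalizer (R : Set G) →
      Odd (Nat.card ↥(R ⊓ R.map (MulAut.conj x).toMonoidHom)) := by
    intro x hx
    have hy : g⁻¹ * x * g ∉ Subgroup.normalizer (Q : Set G) := by
      intro h
      refine hx (Subgroup.mem_normalizer_iff_map_conj_eq.mpr ?_)
      change R.map (MulAut.conj x).toMonoidHom = R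
      have h' : Q.map (MulAut.conj (g⁻¹ * x * g)).toMonoidHom = Q := Subgroup.mem_normalizer_iff_map_conj_eq.mp h
      rw [hR]
      conv_rhs => rw [← h']
      rw [Subgroup.map_map, Subgroup.map_map]
      congr 1; ext z; simp [mul_assoc]
    have h := hQ.2 _ hy
    rw [← Subgroup.card_map_of_injective (f := (MulAut.conj g).toMonoidHom) (MulEquiv.injective _),
      Subgroup.map_inf _ _ _ (MulEquiv.injective _), ← hR] at h
    rwa [show R.map (MulAut.conj x).toMonoidHom =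
        (Q.map (MulAut.conj (g⁻¹ * x * g)).toMonoidHom).map (MulAut.conj g).toMonoidHom by
      rw [hR, Subgroup.map_map, Subgroup.map_map]; congr 1; ext z; simp [mul_assoc]]
  have hQR : Odd (Nat.card ↥(Q ⊓ R)) := hQ.2 g hg
  let e : ↥Q ≃* ↥R := Subgroup.equivMapOfInjective Q (MulAut.conj g).toMonoidHom (MulEquiv.injective _)
  have split : ∀ {A T S : Subgroup G}, T ≤ Subgroup.normalizer (A : Set G) → T ≤ S → S ≤ A ⊔ T →
      ∀ s ∈ S, ∃ a ∈ S ⊓ A, ∃ t ∈ T, s = a * t := by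
    intro A T S hTn hTS hS s hs
    have h : s ∈ (↑(A ⊔ T) : Set G) := hS hs
    rw [Subgroup.coe_mul_of_right_le_normalizer_left A T hTn] at h
    obtain ⟨a, ha, t, ht, rfl⟩ := Set.mem_mul.mp h
    exact ⟨a, Subgroup.mem_inf.mpr ⟨by simpa using S.mul_mem hs (S.inv_mem (hTS ht)), ha⟩, t, ht, rfl⟩
  have basic : ∀ {A B T S : Subgroup G}, IsPGroup 2 ↥T → T ≤ B ⊓ Subgroup.normalizer (A : Set G) →
      Odd (Nat.card ↥(A ⊓ B)) → T ≤ S → S ≤ A ⊔ T →
      (∀ t ∈ T, ∀ u ∈ S ⊓ Subgroup.normalizer (T : Set G) ⊓ A, t * u = u * t) ∧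
      T ⊔ (S ⊓ Subgroup.normalizer (T : Set G) ⊓ A) = S ⊓ Subgroup.normalizer (T : Set G) := by
    intro A B T S hTp hT hAB hTS hS
    have hTA : T ⊓ A = ⊥ := two_odd (hTp.to_le inf_le_left) hAB
      (le_inf inf_le_right (inf_le_left.trans (hT.trans inf_le_left)))
    refine ⟨fun t ht u hu => ?_, le_antisymm (sup_le (le_inf hTS Subgroup.le_normalizer) inf_le_left) ?_⟩
    · obtain ⟨⟨-, huN⟩, huA⟩ := hu
      have h1 : t * u * t⁻¹ * u⁻¹ ∈ T ⊓ A := by
        refine Subgroup.mem_inf.mpr ⟨?_, A.mul_mem ((Subgroup.mem_normalizer_iff.mp (hT ht).2 u).mp huA) (A.inv_mem huA)⟩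
        rw [show t * u * t⁻¹ * u⁻¹ = t * (u * t⁻¹ * u⁻¹) by group]
        exact T.mul_mem ht ((Subgroup.mem_normalizer_iff.mp huN _).mp (T.inv_mem ht))
      rw [hTA, Subgroup.mem_bot, mul_inv_eq_one, mul_inv_eq_iff_eq_mul] at h1
      exact h1
    · intro s hs
      obtain ⟨a, ha, t, ht, rfl⟩ := split (hT.trans inf_le_right) hTS hS s hs.1
      refine Subgroup.mul_mem _ (Subgroup.mem_sup_right (Subgroup.mem_inf.mpr ⟨Subgroup.mem_inf.mpr ⟨ha.1, ?_⟩, ha.2⟩))
        (Subgroup.mem_sup_left ht)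
      simpa using mul_mem hs.2 ((Subgroup.normalizer (T : Set G)).inv_mem (Subgroup.le_normalizer ht))
  have embed : ∀ {A B T S : Subgroup G}, (↥B ≃* ↥A) →
      (∀ x : G, x ∉ Subgroup.normalizer (B : Set G) → Odd (Nat.card ↥(B ⊓ B.map (MulAut.conj x).toMonoidHom))) →
      Odd (Nat.card ↥(A ⊓ B)) → IsPGroup 2 ↥T → T ≠ ⊥ → T ≤ B ⊓ Subgroup.normalizer (A : Set G) →
      T ≤ S → S ≤ A ⊔ T → IsPGroup 2 ↥S → ¬ 2 ∣ S.relIndex (A ⊔ T) →
      ∃ f : ↥T →* ↥(S ⊓ Subgroup.normalizer (T : Set G) ⊓ A), Function.Injective f := by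
    intro A B T S eBA hB hAB hTp hT1 hT hTS hS hSp hSi
    obtain ⟨hcomm, hsup⟩ := basic hTp hT hAB hTS hS
    set U := S ⊓ Subgroup.normalizer (T : Set G) ⊓ A with hU
    set N := S ⊓ Subgroup.normalizer (T : Set G) with hN
    have hTB : T ≤ B := hT.trans inf_le_left
    by_cases hNS : N = S
    · have hAn : A ⊔ T ≤ Subgroup.normalizer (A : Set G) := sup_le Subgroup.le_normalizer (hT.trans inf_le_right)
      haveI := Subgroup.normal_subgroupOf_of_le_normalizer hAn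
      have h := CfsgLib.PLocal.not_dvd_relIndex_sylow_inf
        ((hSp.of_equiv (Subgroup.subgroupOfEquivOfLe hS).symm).toSylow hSi) (A.subgroupOf (A ⊔ T))
      change ¬ 2 ∣ (S.subgroupOf (A ⊔ T) ⊓ A.subgroupOf (A ⊔ T)).relIndex (A.subgroupOf (A ⊔ T)) at h
      rw [show S.subgroupOf (A ⊔ T) ⊓ A.subgroupOf (A ⊔ T) = (S ⊓ A).subgroupOf (A ⊔ T) from
          (Subgroup.comap_inf S A (A ⊔ T).subtype).symm, Subgroup.relIndex_subgroupOf le_sup_left] at h
      have hUS : U = S ⊓ A := by rw [hU, hNS]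
      let P : Sylow 2 ↥A := ((hSp.to_le inf_le_left).of_equiv
        (Subgroup.subgroupOfEquivOfLe (inf_le_right : S ⊓ A ≤ A)).symm).toSylow h
      let j : ↥T →* ↥A := eBA.toMonoidHom.comp (Subgroup.inclusion hTB)
      have hj : Function.Injective j := eBA.injective.comp (Subgroup.inclusion_injective hTB)
      have hrange : IsPGroup 2 ↥j.range := hTp.of_surjective j.rangeRestrict j.rangeRestrict_surjective
      obtain ⟨P', hP'⟩ := hrange.exists_le_sylow
      let e1 : ↥(P : Subgroup ↥A) ≃* ↥(S ⊓ A) := Subgroup.subgroupOfEquivOfLe inf_le_right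
      let e2 : ↥(S ⊓ A) ≃* ↥U := MulEquiv.subgroupCongr hUS.symm
      let e3 : ↥(P' : Subgroup ↥A) ≃* ↥U := (P'.equiv P).trans (e1.trans e2)
      exact ⟨e3.toMonoidHom.comp ((Subgroup.inclusion hP').comp j.rangeRestrict),
        e3.injective.comp ((Subgroup.inclusion_injective hP').comp
          (fun a b hab => hj (congrArg Subtype.val hab)))⟩
    · have hlt : N.subgroupOf S < ⊤ := lt_top_iff_ne_top.mpr fun h =>
        hNS (le_antisymm inf_le_left (Subgroup.subgroupOf_eq_top.mp h))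
      obtain ⟨⟨s, hsS⟩, hs, hsN⟩ := SetLike.exists_of_lt (CfsgLib.PGroups.lt_normalizer hSp hlt)
      have hsN' : s ∉ N := fun h => hsN (Subgroup.mem_subgroupOf.mpr h)
      have hTs : ∀ t ∈ T, s * t * s⁻¹ ∈ N := fun t ht => Subgroup.mem_subgroupOf.mp
        ((Subgroup.mem_normalizer_iff.mp hs ⟨t, hTS ht⟩).mp
          (Subgroup.mem_subgroupOf.mpr (Subgroup.mem_inf.mpr ⟨hTS ht, Subgroup.le_normalizer ht⟩)))
      have hNdec : ∀ n ∈ N, ∃ u : ↥U, ∃ t ∈ T, n = (u : G) * t := by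
        intro n hn
        obtain ⟨a, ha, t, ht, rfl⟩ := split (hT.trans inf_le_right) hTS hS n hn.1
        refine ⟨⟨a, Subgroup.mem_inf.mpr ⟨Subgroup.mem_inf.mpr ⟨ha.1, ?_⟩, ha.2⟩⟩, t, ht, rfl⟩
        simpa using mul_mem hn.2 ((Subgroup.normalizer (T : Set G)).inv_mem (Subgroup.le_normalizer ht))
      have hTA : ∀ x : G, x ∈ T → x ∈ A → x = 1 := fun x hxT hxA => by
        have hb : T ⊓ A = ⊥ := two_odd (hTp.to_le inf_le_left) hAB (le_inf inf_le_right (inf_le_left.trans hTB))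
        have := Subgroup.mem_inf.mpr ⟨hxT, hxA⟩
        rwa [hb, Subgroup.mem_bot] at this
      have huniq : ∀ (u u' : ↥U) (t t' : G), t ∈ T → t' ∈ T → (u : G) * t = (u' : G) * t' → u = u' := by
        intro u u' t t' ht ht' he
        have h1 : (u' : G)⁻¹ * (u : G) = t' * t⁻¹ := by
          calc (u' : G)⁻¹ * (u : G) = (u' : G)⁻¹ * ((u : G) * t) * t⁻¹ := by group
            _ = t' * t⁻¹ := by rw [he]; group
        have := hTA _ (T.mul_mem ht' (T.inv_mem ht)) (h1 ▸ A.mul_mem (A.inv_mem u'.2.2) u.2.2)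
        rw [← h1, inv_mul_eq_one] at this
        exact (Subtype.ext this).symm
      choose F tt htt hF using fun t : ↥T => hNdec (s * (t : G) * s⁻¹) (hTs t t.2)
      have hmul : ∀ a b : ↥T, F (a * b) = F a * F b := by
        intro a b
        refine huniq _ _ (tt (a * b)) (tt a * tt b) (htt _) (T.mul_mem (htt a) (htt b)) ?_
        rw [← hF (a * b), Subgroup.coe_mul, Subgroup.coe_mul]
        calc s * ((a : G) * b) * s⁻¹ = (s * (a : G) * s⁻¹) * (s * (b : G) * s⁻¹) := by group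
          _ = (F a : G) * (tt a * (F b : G)) * tt b := by rw [hF a, hF b]; group
          _ = (F a : G) * ((F b : G) * tt a) * tt b := by rw [hcomm _ (htt a) _ (F b).2]
          _ = _ := by group
      refine ⟨MonoidHom.mk' F hmul, (injective_iff_map_eq_one _).mpr fun a ha => ?_⟩
      change F a = 1 at ha
      have haT : s * (a : G) * s⁻¹ ∈ T := by rw [hF a, ha, Subgroup.coe_one, one_mul]; exact htt a
      have hsB : s ∉ Subgroup.normalizer (B : Set G) := by
        intro hsB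
        refine hsN' (Subgroup.mem_inf.mpr ⟨hsS, Subgroup.mem_normalizer_iff_map_conj_eq.mpr ?_⟩)
        refine Subgroup.eq_of_le_of_card_ge ?_ (le_of_eq (Subgroup.card_map_of_injective (MulEquiv.injective _)).symm)
        rintro _ ⟨t, ht, rfl⟩
        obtain ⟨u, t', ht', he⟩ := hNdec _ (hTs t ht)
        change s * t * s⁻¹ ∈ T
        rw [he]
        have huB : (u : G) ∈ B := by
          have h2 := B.mul_mem ((Subgroup.mem_normalizer_iff.mp hsB t).mp (hTB ht)) (B.inv_mem (hTB ht'))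
          rwa [he, mul_inv_cancel_right] at h2
        have hUB : U ⊓ B = ⊥ := two_odd (hSp.to_le (inf_le_left.trans (inf_le_left.trans inf_le_left))) hAB
          (le_inf (inf_le_left.trans inf_le_right) inf_le_right)
        have := Subgroup.mem_inf.mpr ⟨u.2, huB⟩
        rw [hUB, Subgroup.mem_bot] at this
        rw [this, one_mul]; exact ht'
      have hbot : T ⊓ T.map (MulAut.conj s).toMonoidHom = ⊥ := two_odd (hTp.to_le inf_le_left) (hB s hsB)
        (inf_le_inf hTB (Subgroup.map_mono hTB))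
      have := Subgroup.mem_inf.mpr ⟨haT, (Subgroup.mem_map_of_mem (MulAut.conj s).toMonoidHom a.2 : s * (a : G) * s⁻¹ ∈ T.map (MulAut.conj s).toMonoidHom)⟩
      rw [hbot, Subgroup.mem_bot, mul_inv_eq_one, mul_eq_left] at this
      exact Subtype.ext this
  have hTN : T ≤ R ⊓ Subgroup.normalizer (Q : Set G) := hT
  obtain ⟨hcomm, hsup⟩ := basic hTsyl.1 hTN hQR hTS hS
  have hTQ : T ⊓ Q = ⊥ := two_odd (hTsyl.1.to_le inf_le_left) hQR (le_inf inf_le_right (inf_le_left.trans (hTN.trans inf_le_left)))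
  set U := S ⊓ Subgroup.normalizer (T : Set G) ⊓ Q with hU
  refine ⟨hTQ, ?_, ?_, hsup, ?_⟩
  · exact eq_bot_iff.mpr ((inf_le_inf_left T inf_le_right).trans hTQ.le)
  · exact Subgroup.commutator_eq_bot_iff_le_centralizer.mpr fun t ht =>
      Subgroup.mem_centralizer_iff.mpr fun u hu => (hcomm t ht u hu).symm
  obtain ⟨f, hf⟩ := embed e.symm hR' hQR hTsyl.1 hT1 hTN hTS hS hSsyl.1 hSsyl.2
  -- the reverse inequality
  have hUQ : U ≤ Q ⊓ Subgroup.normalizer (R : Set G) := by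
    intro u hu
    refine Subgroup.mem_inf.mpr ⟨hu.2, ?_⟩
    by_contra hun
    refine hT1 (two_odd hTsyl.1 (hR' u hun) (le_inf (hTN.trans inf_le_left) fun t ht => ?_))
    refine ⟨t, (hTN ht).1, ?_⟩
    change u * t * u⁻¹ = t
    rw [← hcomm t ht u hu, mul_inv_cancel_right]
  have hTpos : 1 < Nat.card ↥T := T.one_lt_card_iff_ne_bot.mpr hT1
  have hle1 : Nat.card ↥T ≤ Nat.card ↥U := Nat.card_le_card_of_injective f hf
  set X := Q ⊓ Subgroup.normalizer (R : Set G) with hX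
  obtain ⟨W, hW⟩ := IsPGroup.exists_le_sylow (G := ↥X) (P := U.subgroupOf X)
    ((hSsyl.1.to_le (inf_le_left.trans inf_le_left)).of_equiv (Subgroup.subgroupOfEquivOfLe hUQ).symm)
  set U' := (W : Subgroup ↥X).map X.subtype with hU'
  have hUU' : U ≤ U' := by
    rw [← Subgroup.map_subgroupOf_eq_of_le hUQ]; exact Subgroup.map_mono hW
  have hle2 : Nat.card ↥U ≤ Nat.card ↥U' := Subgroup.card_le_of_le hUU'
  have hU'p : IsPGroup 2 ↥U' := W.isPGroup'.map _
  have hU'X : U' ≤ Q ⊓ Subgroup.normalizer (R : Set G) := Subgroup.map_subtype_le _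
  have hU'1 : U' ≠ ⊥ := U'.one_lt_card_iff_ne_bot.mp (by omega)
  obtain ⟨S', hS'⟩ := IsPGroup.exists_le_sylow (G := ↥(R ⊔ U')) (P := U'.subgroupOf (R ⊔ U'))
    (hU'p.of_equiv (Subgroup.subgroupOfEquivOfLe le_sup_right).symm)
  set S'' := (S' : Subgroup ↥(R ⊔ U')).map (R ⊔ U').subtype with hS''
  have hU'S : U' ≤ S'' := by
    rw [← Subgroup.map_subgroupOf_eq_of_le (le_sup_right : U' ≤ R ⊔ U')]; exact Subgroup.map_mono hS'
  have hS''i : ¬ 2 ∣ S''.relIndex (R ⊔ U') := by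
    rw [hS'', Subgroup.relIndex, Subgroup.subgroupOf, Subgroup.comap_map_eq_self_of_injective (R ⊔ U').subtype_injective]
    exact S'.not_dvd_index
  set Z := R ⊓ Subgroup.normalizer (Q : Set G) with hZ
  set U'' := S'' ⊓ Subgroup.normalizer (U' : Set G) ⊓ R with hU''
  obtain ⟨f', hf'⟩ := embed e hQ.2 (by rwa [inf_comm]) hU'p hU'1 hU'X hU'S (Subgroup.map_subtype_le _)
    (S'.isPGroup'.map _) hS''i
  have hU''p : IsPGroup 2 ↥U'' := (S'.isPGroup'.map _).to_le (inf_le_left.trans inf_le_left)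
  obtain ⟨hcomm', -⟩ := basic (A := R) (B := Q) hU'p hU'X (by rwa [inf_comm]) hU'S (Subgroup.map_subtype_le _)
  have hU''Z : U'' ≤ Z := by
    intro u hu
    refine Subgroup.mem_inf.mpr ⟨hu.2, ?_⟩
    by_contra hun
    refine hU'1 (two_odd hU'p (hQ.2 u hun) (le_inf (hU'X.trans inf_le_left) fun t ht => ?_))
    refine ⟨t, (hU'X ht).1, ?_⟩
    change u * t * u⁻¹ = t
    rw [← hcomm' t ht u hu, mul_inv_cancel_right]
  let PT : Sylow 2 ↥Z := (hTsyl.1.of_equiv (Subgroup.subgroupOfEquivOfLe hTN).symm).toSylow hTsyl.2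
  obtain ⟨P2, hP2⟩ := IsPGroup.exists_le_sylow (G := ↥Z) (P := U''.subgroupOf Z)
    (hU''p.of_equiv (Subgroup.subgroupOfEquivOfLe hU''Z).symm)
  have hle3 : Nat.card ↥U'' ≤ Nat.card ↥T := by
    calc Nat.card ↥U'' = Nat.card ↥(U''.subgroupOf Z) := (CfsgLib.Base.card_subgroupOf hU''Z).symm
      _ ≤ Nat.card ↥(P2 : Subgroup ↥Z) := Subgroup.card_le_of_le hP2
      _ = Nat.card ↥(PT : Subgroup ↥Z) := Nat.card_congr (P2.equiv PT).toEquiv
      _ = Nat.card ↥T := CfsgLib.Base.card_subgroupOf hTN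
  have hle4 : Nat.card ↥U' ≤ Nat.card ↥U'' := Nat.card_le_card_of_injective f' hf'
  exact ⟨(MulEquiv.ofBijective f (hf.bijective_of_nat_card_le (hle2.trans (hle4.trans hle3)))).symm⟩

end Cfsg.Agent.S1910
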