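import Cfsg.Statements.S1914
import Cfsg.Agent.Lib.Involutions.CyclicFourFixed.Main
import Cfsg.Agent.Lib.Components.Basic

set_option autoImplicit false
open Cfsg

namespace Cfsg.Agent.S1914

/-- Let A be a semisimple subgroup (a central product of quasisimple groups, A = E(A)) of a finite group and t an involution normalizing A such that the Sylow 2-subgroups of C_A(t) are cyclic of order 4. Then A has 2-rank exactly 1. -/
theorem result {G : Type*} [Group G] [Finite G] (A : Subgroup G) (hA : Cfsg.layer ↥A = ⊤)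
    (t : G) (ht : orderOf t = 2) (htA : t ∈ Subgroup.normalizer (A : Set G))
    (hC : ∀ R : Sylow 2 ↥(A ⊓ Subgroup.centralizer ({t} : Set G)), IsCyclic R ∧ Nat.card R = 4) :
    Cfsg.PRankLE 2 1 A ∧ ¬ Cfsg.PRankLE 2 0 A := by
  haveI : Fact (Nat.Prime 2) := ⟨Nat.prime_two⟩
  have hperf : ⁅A, A⁆ = A := by
    have h := CfsgLib.Components.layer_commutator_self (G := ↥A)
    rw [hA] at h
    have h2 := congrArg (Subgroup.map A.subtype) h
    rwa [Subgroup.map_commutator, ← MonoidHom.range_eq_map, Subgroup.range_subtype] at h2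
  constructor
  · intro E hE hsq
    by_contra hcard
    rw [pow_one, not_le] at hcard
    haveI := hE
    haveI : Fintype ↥E := Fintype.ofFinite _
    rw [Nat.card_eq_fintype_card, Fintype.two_lt_card_iff] at hcard
    obtain ⟨a, b, d, hab, had, hbd⟩ := hcard
    -- two distinct nontrivial elements
    obtain ⟨x, y, hxy, hx, hy⟩ : ∃ x y : ↥E, x ≠ y ∧ x ≠ 1 ∧ y ≠ 1 := by
      by_cases ha1 : a = 1
      · exact ⟨b, d, hbd, fun h => hab (ha1.trans h.symm), fun h => had (ha1.trans h.symm)⟩
      · by_cases hb1 : b = 1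
        · exact ⟨a, d, had, ha1, fun h => hbd (hb1.trans h.symm)⟩
        · exact ⟨a, b, hab, ha1, hb1⟩
    have hsq' : ∀ v : ↥E, ((v : ↥A) : G) * ((v : ↥A) : G) = 1 := fun v => by
      have := congrArg Subtype.val (hsq (v : ↥A) v.2)
      rwa [pow_two] at this
    refine hxy (Subtype.ext (Subtype.ext (CfsgLib.SemiCyc4.eq_of_commuting hperf ht htA hC
      (x : ↥A).2 (y : ↥A).2 ?_ (hsq' x) (hsq' y) ?_ ?_)))
    · exact congrArg (fun v : ↥E => ((v : ↥A) : G)) (mul_comm' x y)
    · exact fun h => hx (Subtype.ext (Subtype.ext h))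
    · exact fun h => hy (Subtype.ext (Subtype.ext h))
  · intro h
    obtain ⟨R⟩ : Nonempty (Sylow 2 ↥(A ⊓ Subgroup.centralizer ({t} : Set G))) := inferInstance
    obtain ⟨x, hx⟩ := exists_prime_orderOf_dvd_card' (G := ↥(A ⊓ Subgroup.centralizer ({t} : Set G))) 2
      ((show 2 ∣ Nat.card R by rw [(hC R).2]; norm_num).trans (Subgroup.card_subgroup_dvd_card _))
    set a : ↥A := ⟨(x : G), x.2.1⟩ with ha
    have hao : orderOf a = 2 := by rw [ha, Subgroup.orderOf_mk, Subgroup.orderOf_coe]; exact hx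
    haveI : IsMulCommutative ↥(Subgroup.zpowers a) := inferInstance
    have h1 := h (Subgroup.zpowers a) inferInstance (fun v hv => by
      obtain ⟨i, rfl⟩ := Subgroup.mem_zpowers_iff.1 hv
      rw [← zpow_natCast, ← zpow_mul, mul_comm, zpow_mul, zpow_natCast, ← hao, pow_orderOf_eq_one,
        one_zpow])
    rw [Nat.card_zpowers, hao] at h1
    norm_num at h1

end Cfsg.Agent.S1914
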