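import Cfsg.Statements.S1915
import Cfsg.Agent.Lib.Techniques.FourGammaMain

set_option autoImplicit false
open Cfsg

set_option linter.style.haveILetI false

namespace Cfsg.Agent.S1915

/-- Let A be a semisimple subgroup (A = E(A)) of a finite group and U a Klein four-group normalizing A. If the subgroup of A generated by the normalizers N_A(V) of the nontrivial subgroups V of U has 2-rank exactly 1, then A has 2-rank exactly 1. -/
theorem result {G : Type*} [Group G] [Finite G] (A : Subgroup G) (hA : Cfsg.layer ↥A = ⊤)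
    (U : Subgroup G) (hU : IsKleinFour U) (hUA : U ≤ Subgroup.normalizer (A : Set G))
    (hΓ : Cfsg.PRankLE 2 1 ↥(⨆ V : {V : Subgroup G // V ≤ U ∧ V ≠ ⊥}, A ⊓ Subgroup.normalizer ((V : Subgroup G) : Set G)) ∧
      ¬ Cfsg.PRankLE 2 0 ↥(⨆ V : {V : Subgroup G // V ≤ U ∧ V ≠ ⊥}, A ⊓ Subgroup.normalizer ((V : Subgroup G) : Set G))) :
    Cfsg.PRankLE 2 1 A ∧ ¬ Cfsg.PRankLE 2 0 A := by
  classical
  let φ : U →* MulAut A := A.normalizerMonoidHom.comp (Subgroup.inclusion hUA)
  have hφ : ∀ (u : U) (a : A), ((φ u a : A) : G) = (u : G) * (a : G) * (u : G)⁻¹ := fun u a => rfl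
  have hperf : ∀ M : Subgroup ↥A, M.Normal → M.index ≠ 2 := by
    intro M hM h2
    have h1 : ⁅(⊤ : Subgroup ↥A), ⊤⁆ ≤ M := by
      rw [Subgroup.commutator_le]
      intro g _ h _
      rw [commutatorElement_def]
      simp only [Subgroup.mul_mem_iff_of_index_two h2, inv_mem_iff]
      tauto
    have h3 : Cfsg.layer ↥A = ⊤ := hA
    have h4 := CfsgLib.Components.layer_commutator_self (G := ↥A)
    rw [h3] at h4
    rw [h4, top_le_iff] at h1
    rw [h1, Subgroup.index_top] at h2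
    omega
  set Γ := ⨆ V : {V : Subgroup G // V ≤ U ∧ V ≠ ⊥}, A ⊓ Subgroup.normalizer ((V : Subgroup G) : Set G) with hΓdef
  refine ⟨?_, fun h0 => hΓ.2 ?_⟩
  · by_contra h1
    obtain ⟨a, b, ha, hb, ha1, hb1, hne, hab⟩ := CfsgLib.FourGamma.exists_four h1
    haveI := hU
    refine CfsgLib.FourGamma.no_four φ hU.card_four (fun u => ?_) hperf ?_ ha hb ha1 hb1 hne hab
    · rw [← pow_two, ← hU.exponent_two, Monoid.pow_exponent_eq_one]
    intro u hu a b ha hb ha1 hb1 hne hab hua hub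
    have hne0 : Subgroup.zpowers (u : G) ≠ ⊥ := fun h => hu (Subtype.ext (Subgroup.zpowers_eq_bot.1 h))
    have hmem : ∀ c : A, φ u c = c → (c : G) ∈ Γ := by
      intro c hc
      refine le_iSup (fun V : {V : Subgroup G // V ≤ U ∧ V ≠ ⊥} => A ⊓ Subgroup.normalizer ((V : Subgroup G) : Set G))
        ⟨Subgroup.zpowers (u : G), Subgroup.zpowers_le.2 u.2, hne0⟩ ⟨c.2, ?_⟩
      have h1 : (u : G) * c * (u : G)⁻¹ = c := by rw [← hφ, hc]
      have h2 : Commute (c : G) (u : G) := (mul_inv_eq_iff_eq_mul.1 h1).symm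
      refine Subgroup.mem_normalizer_fintype fun w hw => ?_
      obtain ⟨i, rfl⟩ := Subgroup.mem_zpowers_iff.1 hw
      rw [(h2.zpow_right i).eq, mul_inv_cancel_right]
      exact zpow_mem (Subgroup.mem_zpowers _) i
    exact CfsgLib.FourGamma.not_rankLE_one (H := ↥Γ) (a := ⟨a, hmem a hua⟩) (b := ⟨b, hmem b hub⟩)
      (Subtype.ext (congrArg (fun w : ↥A => (w : G)) ha :)) (Subtype.ext (congrArg (fun w : ↥A => (w : G)) hb :))
      (fun h => ha1 (Subtype.ext (congrArg (fun w : ↥Γ => (w : G)) h :)))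
      (fun h => hb1 (Subtype.ext (congrArg (fun w : ↥Γ => (w : G)) h :)))
      (fun h => hne (Subtype.ext (congrArg (fun w : ↥Γ => (w : G)) h :)))
      (Subtype.ext (congrArg (fun w : ↥A => (w : G)) hab :)) hΓ.1
  · have hle : Γ ≤ A := iSup_le fun V => inf_le_left
    intro E hE hsq
    have hinj := Subgroup.inclusion_injective hle
    rw [← Subgroup.card_map_of_injective hinj]
    refine h0 _ ⟨⟨?_⟩⟩ ?_
    · rintro ⟨_, c, hc, rfl⟩ ⟨_, d, hd, rfl⟩
      refine Subtype.ext ?_
      show Subgroup.inclusion hle c * Subgroup.inclusion hle d = Subgroup.inclusion hle d * Subgroup.inclusion hle c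
      have hcd : c * d = d * c := congrArg Subtype.val (hE.is_comm.comm ⟨c, hc⟩ ⟨d, hd⟩)
      rw [← map_mul, ← map_mul, hcd]
    · rintro _ ⟨c, hc, rfl⟩
      rw [← map_pow, hsq c hc, map_one]

end Cfsg.Agent.S1915
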