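import Cfsg.Statements.S1921
import Mathlib
import Cfsg.Agent.Lib.Components.Basic

set_option autoImplicit false
open Cfsg
open scoped Pointwise commutatorElement

namespace Cfsg.Agent.S1921

/-- Let a be an involution of a finite group H and L a component of H with a L a⁻¹ ≠ L; put M = ⟨L, aLa⁻¹⟩ and let J be the subgroup generated by the elements x · a x a⁻¹ with x ∈ L (the diagonal). Then every element of M outside J·Z(M) generates M together with J. -/
theorem result {H : Type*} [Group H] [Finite H] (a : H) (ha : orderOf a = 2) (L : Subgroup H) (hL : Cfsg.IsComponent L)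
    (hLa : L.map (MulAut.conj a).toMonoidHom ≠ L) (x : H) (hxM : x ∈ L ⊔ L.map (MulAut.conj a).toMonoidHom)
    (hxJ : x ∉ Subgroup.closure {y : H | ∃ l ∈ L, y = l * (a * l * a⁻¹)} ⊔
      ((L ⊔ L.map (MulAut.conj a).toMonoidHom) ⊓ Subgroup.centralizer ((L ⊔ L.map (MulAut.conj a).toMonoidHom : Subgroup H) : Set H))) :
    Subgroup.closure {y : H | ∃ l ∈ L, y = l * (a * l * a⁻¹)} ⊔ Subgroup.zpowers x = L ⊔ L.map (MulAut.conj a).toMonoidHom := by
  classical
  have haa : a * a = 1 := by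
    have := pow_orderOf_eq_one a
    rwa [ha, pow_two] at this
  have hai : a⁻¹ = a := inv_eq_of_mul_eq_one_right haa
  set L' := L.map (MulAut.conj a).toMonoidHom with hL'
  have hL'c : Cfsg.IsComponent L' := CfsgLib.Components.isComponent_conj hL a
  have hcomm : ∀ l ∈ L, ∀ m ∈ L', m * l = l * m := fun l hl m hm =>
    Subgroup.mem_centralizer_iff.mp (Subgroup.commutator_eq_bot_iff_le_centralizer.mp
      (CfsgLib.Components.components_commute hL hL'c (Ne.symm hLa)) hl) m hm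
  set J := Subgroup.closure {y : H | ∃ l ∈ L, y = l * (a * l * a⁻¹)} with hJ
  set M := L ⊔ L' with hM
  have hmemL' : ∀ l ∈ L, a * l * a⁻¹ ∈ L' := fun l hl => ⟨l, hl, by simp⟩
  have hJgen : ∀ l ∈ L, l * (a * l * a⁻¹) ∈ J := fun l hl => Subgroup.subset_closure ⟨l, hl, rfl⟩
  set Y := J ⊔ Subgroup.zpowers x with hY
  refine le_antisymm (sup_le ?_ (Subgroup.zpowers_le.mpr hxM)) ?_
  · rw [hJ, Subgroup.closure_le]
    rintro _ ⟨l, hl, rfl⟩
    exact Subgroup.mul_mem_sup hl (hmemL' l hl)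
  have hL'n : L ≤ Subgroup.normalizer (L' : Set H) := fun l hl =>
    Subgroup.centralizer_le_normalizer _ (Subgroup.mem_centralizer_iff.mpr fun m hm => hcomm l hl m hm)
  have hx' : x ∈ (↑(L ⊔ L') : Set H) := hxM
  rw [Subgroup.coe_mul_of_left_le_normalizer_right L L' hL'n] at hx'
  obtain ⟨l, hl, l', hl', rfl⟩ := Set.mem_mul.mp hx'
  obtain ⟨m, hm, hm'⟩ := hl'
  simp only [MulEquiv.coe_toMonoidHom, MulAut.conj_apply] at hm'
  set u := l * m⁻¹ with hu
  have huL : u ∈ L := L.mul_mem hl (L.inv_mem hm)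
  have hue : u = (l * l') * (m * (a * m * a⁻¹))⁻¹ := by
    rw [hm', hu]
    have h1 := hcomm m hm l' (hm' ▸ hmemL' m hm)
    calc l * m⁻¹ = l * l' * (m * l')⁻¹ := by group
      _ = _ := rfl
  have huY : u ∈ Y := by
    rw [hue]
    exact Y.mul_mem (Subgroup.mem_sup_right (Subgroup.mem_zpowers _))
      (Y.inv_mem (Subgroup.mem_sup_left (hJgen m hm)))
  haveI : (Y.subgroupOf L).Normal := by
    refine ⟨fun v hv k => ?_⟩
    have hk := hJgen k k.2
    have h1 := Y.mul_mem (Y.mul_mem (Subgroup.mem_sup_left hk) (Subgroup.mem_subgroupOf.mp hv))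
      (Y.inv_mem (Subgroup.mem_sup_left hk))
    have h2 := hcomm v v.2 _ (hmemL' k k.2)
    rw [Subgroup.mem_subgroupOf]
    have e : ((k * v * k⁻¹ : ↥L) : H) = (k : H) * (a * (k : H) * a⁻¹) * (v : H) * ((k : H) * (a * (k : H) * a⁻¹))⁻¹ := by
      calc ((k * v * k⁻¹ : ↥L) : H) = (k : H) * ((v : H) * (a * (k : H) * a⁻¹)) * (a * (k : H) * a⁻¹)⁻¹ * (k : H)⁻¹ := by
            simp only [Subgroup.coe_mul, Subgroup.coe_inv]; group
        _ = (k : H) * ((a * (k : H) * a⁻¹) * (v : H)) * (a * (k : H) * a⁻¹)⁻¹ * (k : H)⁻¹ := by rw [h2]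
        _ = _ := by group
    rw [e]; exact h1
  rcases CfsgLib.Components.quasisimple_normal_eq_top_or_le_center hL.2 (Y.subgroupOf L) with htop | hc
  · have hLY : L ≤ Y := Subgroup.subgroupOf_eq_top.mp htop
    refine sup_le hLY ?_
    rintro _ ⟨k, hk, rfl⟩
    simp only [MulEquiv.coe_toMonoidHom, MulAut.conj_apply]
    rw [show a * k * a⁻¹ = k⁻¹ * (k * (a * k * a⁻¹)) by group]
    exact Y.mul_mem (Y.inv_mem (hLY hk)) (Subgroup.mem_sup_left (hJgen k hk))
  · exfalso
    apply hxJ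
    have hcu := Subgroup.mem_center_iff.mp (hc (Subgroup.mem_subgroupOf.mpr huY : (⟨u, huL⟩ : ↥L) ∈ Y.subgroupOf L))
    have huM : M ≤ Subgroup.centralizer ({u} : Set H) := sup_le
      (fun k hk => Subgroup.mem_centralizer_singleton_iff.mpr (congrArg Subtype.val (hcu ⟨k, hk⟩)))
      (fun k hk => Subgroup.mem_centralizer_singleton_iff.mpr (hcomm u huL k hk))
    have hzu : u ∈ M ⊓ Subgroup.centralizer (M : Set H) := Subgroup.mem_inf.mpr ⟨Subgroup.mem_sup_left huL,
      Subgroup.mem_centralizer_iff.mpr fun k hk => Subgroup.mem_centralizer_singleton_iff.mp (huM hk)⟩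
    rw [show l * l' = u * (m * (a * m * a⁻¹)) by rw [hue, inv_mul_cancel_right]]
    exact Subgroup.mul_mem _ (Subgroup.mem_sup_right hzu) (Subgroup.mem_sup_left (hJgen m hm))

end Cfsg.Agent.S1921
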