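import Cfsg.Statements.S1922
import Mathlib

set_option autoImplicit false
open Cfsg
open scoped Pointwise commutatorElement

namespace Cfsg.Agent.S1922

/-- Let z be an involution of a finite group G and H a proper subgroup such that z lies in gHg⁻¹ exactly when g ∈ H. Then the following are equivalent: (1) for every conjugate t ≠ z of z commuting with z, the product zt lies in gHg⁻¹ exactly when g ∈ H; (2) z lies in the centre of some Sylow 2-subgroup of G, and for every conjugate t ≠ z of z commuting with z, the centralizer of zt is contained in H. -/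
theorem result {G : Type*} [Group G] [Finite G] (z : G) (hz : orderOf z = 2) (H : Subgroup G) (hH : H ≠ ⊤)
    (h0 : ∀ g : G, z ∈ H.map (MulAut.conj g).toMonoidHom ↔ g ∈ H) :
    (∀ t : G, IsConj z t → t ≠ z → t * z = z * t → ∀ g : G, z * t ∈ H.map (MulAut.conj g).toMonoidHom ↔ g ∈ H) ↔
      ((∃ P : Sylow 2 G, z ∈ (Subgroup.center ↥(P : Subgroup G)).map (P : Subgroup G).subtype) ∧
        ∀ t : G, IsConj z t → t ≠ z → t * z = z * t → Subgroup.centralizer ({z * t} : Set G) ≤ H) := by
  classical
  haveI : Fintype G := Fintype.ofFinite G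
  have mH : ∀ x g : G, x ∈ H.map (MulAut.conj g).toMonoidHom ↔ g⁻¹ * x * g ∈ H := by
    intro x g
    constructor
    · rintro ⟨y, hy, rfl⟩; simpa [mul_assoc] using hy
    · intro h; exact ⟨_, h, by simp [mul_assoc]⟩
  have h0' : ∀ g : G, g * z * g⁻¹ ∈ H ↔ g ∈ H := fun g => by
    have h := h0 g⁻¹
    rw [mH, inv_inv, Subgroup.inv_mem_iff] at h
    exact h
  have hzH : z ∈ H := by simpa using (h0' 1).mpr H.one_mem
  have hzz : z * z = 1 := by
    have := pow_orderOf_eq_one z
    rwa [hz, pow_two] at this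
  have hC : Subgroup.centralizer ({z} : Set G) ≤ H := fun g hg => (h0' g).mp (by
    rw [Subgroup.mem_centralizer_singleton_iff.mp hg, mul_inv_cancel_right]; exact hzH)
  have oddinv : ∀ {α : Type _} [DecidableEq α] (s : Finset α) (f : α → α) (x0 : α), x0 ∈ s → f x0 = x0 →
      (∀ x ∈ s, f x ∈ s) → (∀ x ∈ s, f (f x) = x) → (∀ x ∈ s, f x = x → x = x0) → Odd s.card := by
    intro α _ s f x0 hx0 hfix hmem hinv huniq
    have hzero : ∑ _x ∈ s.erase x0, (1 : ZMod 2) = 0 := by
      refine Finset.sum_involution (fun x _ => f x) (fun _ _ => by decide) ?_ ?_ ?_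
      · intro x hx _ he
        exact (Finset.mem_erase.mp hx).1 (huniq x (Finset.mem_erase.mp hx).2 he)
      · intro x hx
        refine Finset.mem_erase.mpr ⟨fun he => (Finset.mem_erase.mp hx).1 ?_, hmem x (Finset.mem_erase.mp hx).2⟩
        rw [← hinv x (Finset.mem_erase.mp hx).2, he, hfix]
      · intro x hx
        exact hinv x (Finset.mem_erase.mp hx).2
    rw [Finset.sum_const, nsmul_one, ZMod.natCast_eq_zero_iff_even] at hzero
    rw [← Finset.card_erase_add_one hx0]
    exact hzero.add_one
  constructor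
  · intro hyp
    have hyp' : ∀ t : G, IsConj z t → t ≠ z → t * z = z * t → ∀ g : G, g * (z * t) * g⁻¹ ∈ H → g ∈ H := by
      intro t h1 h2 h3 g hg
      have h := (hyp t h1 h2 h3 g⁻¹).mp ((mH _ _).mpr (by simpa using hg))
      simpa using h
    have hCzt : ∀ t : G, IsConj z t → t ≠ z → t * z = z * t → Subgroup.centralizer ({z * t} : Set G) ≤ H := by
      intro t h1 h2 h3 g hg
      refine hyp' t h1 h2 h3 g ?_
      rw [Subgroup.mem_centralizer_singleton_iff.mp hg, mul_inv_cancel_right]
      have h := (hyp t h1 h2 h3 1).mpr H.one_mem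
      simpa using (mH _ _).mp h
    refine ⟨?_, hCzt⟩
    have hodd : ∀ k : G, k ∉ H → Odd (orderOf (z * (k * z * k⁻¹))) := by
      intro k hk
      by_contra hne
      rw [Nat.not_odd_iff_even] at hne
      obtain ⟨m, hm⟩ := hne
      set z2 := k * z * k⁻¹ with hz2
      have hz2z2 : z2 * z2 = 1 := by
        rw [hz2]
        calc k * z * k⁻¹ * (k * z * k⁻¹) = k * (z * z) * k⁻¹ := by group
          _ = 1 := by rw [hzz]; group
      have hzi : z⁻¹ = z := inv_eq_of_mul_eq_one_right hzz
      have hz2i : z2⁻¹ = z2 := inv_eq_of_mul_eq_one_right hz2z2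
      set r := z * z2 with hr
      have hzr : ∀ i : ℕ, z * r ^ i * z = (r ^ i)⁻¹ := by
        intro i
        induction i with
        | zero => simp [hzz]
        | succ i ihi =>
          calc z * r ^ (i + 1) * z = (z * r * z) * (z * r ^ i * z) := by
                rw [pow_succ' r i]
                calc z * (r * r ^ i) * z = z * r * 1 * r ^ i * z := by group
                  _ = z * r * (z * z) * r ^ i * z := by rw [hzz]
                  _ = _ := by group
            _ = r⁻¹ * (r ^ i)⁻¹ := by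
                rw [ihi]; congr 1
                rw [hr, mul_inv_rev, hzi, hz2i, ← mul_assoc, hzz, one_mul]
            _ = (r ^ (i + 1))⁻¹ := by rw [pow_succ r i]; exact (mul_inv_rev _ _).symm
      have hconj : ∀ i : ℕ, (r ^ i)⁻¹ * z * r ^ i = z * r ^ (2 * i) := by
        intro i
        calc (r ^ i)⁻¹ * z * r ^ i = (z * r ^ i * z) * z * r ^ i := by rw [hzr]
          _ = z * r ^ i * (z * z) * r ^ i := by group
          _ = z * r ^ (2 * i) := by rw [hzz, two_mul, pow_add]; group
      have hw1 : r ^ m ≠ 1 := by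
        intro h
        have h4 : orderOf r ∣ m := orderOf_dvd_of_pow_eq_one h
        have h5 : 0 < orderOf r := orderOf_pos r
        have h6 : m = 0 ∨ orderOf r ≤ m := (Nat.eq_zero_or_pos m).imp id fun hp => Nat.le_of_dvd hp h4
        omega
      have hwinv : (r ^ m)⁻¹ = r ^ m := inv_eq_of_mul_eq_one_right (by rw [← pow_add, ← hm, pow_orderOf_eq_one])
      set t := z * r ^ m with ht
      have htc : IsConj z t := by
        rcases Nat.even_or_odd m with ⟨i, hi⟩ | ⟨i, hi⟩
        · refine isConj_iff.mpr ⟨(r ^ i)⁻¹, ?_⟩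
          rw [inv_inv, hconj, ht, hi, two_mul]
        · refine isConj_iff.mpr ⟨(r ^ i)⁻¹ * k, ?_⟩
          calc (r ^ i)⁻¹ * k * z * ((r ^ i)⁻¹ * k)⁻¹ = (r ^ i)⁻¹ * ((z * z) * z2) * r ^ i := by
                rw [hzz, one_mul, hz2]; group
            _ = ((r ^ i)⁻¹ * z * r ^ i) * ((r ^ i)⁻¹ * (z * z2) * r ^ i) := by group
            _ = t := by
                rw [hconj, ← hr, show (r ^ i)⁻¹ * r * r ^ i = r by group, ht, hi, pow_succ, mul_assoc]
      have htne : t ≠ z := fun h => hw1 (mul_left_cancel (h.trans (mul_one z).symm))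
      have hzw : z * r ^ m * z = r ^ m := by rw [hzr, hwinv]
      have htz : t * z = z * t := by rw [ht, hzw, ← mul_assoc, hzz, one_mul]
      have hztw : z * t = r ^ m := by rw [ht, ← mul_assoc, hzz, one_mul]
      apply hk
      have hz2C : z2 ∈ Subgroup.centralizer ({z * t} : Set G) := by
        rw [Subgroup.mem_centralizer_singleton_iff, hztw, show z2 = z * r by rw [hr, ← mul_assoc, hzz, one_mul]]
        have hzw' : z * r ^ m = r ^ m * z := by
          calc z * r ^ m = z * r ^ m * (z * z) := by rw [hzz, mul_one]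
            _ = (z * r ^ m * z) * z := by group
            _ = r ^ m * z := by rw [hzw]
        calc z * r * r ^ m = z * r ^ m * r := by rw [mul_assoc, ← pow_succ', pow_succ, mul_assoc]
          _ = r ^ m * (z * r) := by rw [hzw', mul_assoc]
      exact (h0' k).mp (hCzt t htc htne htz hz2C)
    -- the conjugacy class and its two fibrations over the cosets
    let cls : Finset G := Finset.univ.image fun k => k * z * k⁻¹
    let ZH : Finset G := cls.filter fun x => x ∈ H
    let Sw : G ⧸ H → Finset G := fun c => (cls.filter fun s => s ∉ H).filter fun s => (s : G ⧸ H) = c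
    have hclsinv : ∀ s ∈ cls, s * s = 1 := by
      intro s hs
      obtain ⟨k, -, rfl⟩ := Finset.mem_image.mp hs
      calc k * z * k⁻¹ * (k * z * k⁻¹) = k * (z * z) * k⁻¹ := by group
        _ = 1 := by rw [hzz]; group
    have hge : ∀ c : G ⧸ H, c ≠ ((1 : G) : G ⧸ H) → ZH.card ≤ (Sw c).card := by
      intro c hc
      obtain ⟨g, rfl⟩ := QuotientGroup.mk_surjective c
      have hg : g ∉ H := fun h => hc (QuotientGroup.eq.mpr (by simpa using h))
      have key : ∀ x ∈ ZH, ∃ s ∈ Sw (g : G ⧸ H), s * z * s = g * x * g⁻¹ := by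
        intro x hx
        obtain ⟨hxc, hxH⟩ := Finset.mem_filter.mp hx
        obtain ⟨h, -, rfl⟩ := Finset.mem_image.mp hxc
        have hh : h ∈ H := (h0' h).mp hxH
        set k := g * h with hk
        have hkH : k ∉ H := fun hc' => hg (by simpa [hk] using H.mul_mem hc' (H.inv_mem hh))
        obtain ⟨m, hm⟩ := hodd k hkH
        set z2 := k * z * k⁻¹ with hz2
        set r := z * z2 with hr
        set l := (m + 1) * (m + 1) with hl
        set s := (r ^ l)⁻¹ * z * r ^ l with hs
        have hscls : s ∈ cls := Finset.mem_image.mpr ⟨(r ^ l)⁻¹, Finset.mem_univ _, by rw [hs, inv_inv]⟩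
        have hzr : ∀ i : ℕ, z * r ^ i * z = (r ^ i)⁻¹ := by
          have hzi : z⁻¹ = z := inv_eq_of_mul_eq_one_right hzz
          have hz2i : z2⁻¹ = z2 := inv_eq_of_mul_eq_one_right
            (hclsinv z2 (Finset.mem_image.mpr ⟨k, Finset.mem_univ _, rfl⟩))
          intro i
          induction i with
          | zero => simp [hzz]
          | succ i ihi =>
            calc z * r ^ (i + 1) * z = (z * r * z) * (z * r ^ i * z) := by
                  rw [pow_succ' r i]
                  calc z * (r * r ^ i) * z = z * r * 1 * r ^ i * z := by group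
                    _ = z * r * (z * z) * r ^ i * z := by rw [hzz]
                    _ = _ := by group
              _ = r⁻¹ * (r ^ i)⁻¹ := by
                  rw [ihi]; congr 1
                  rw [hr, mul_inv_rev, hzi, hz2i, ← mul_assoc, hzz, one_mul]
              _ = (r ^ (i + 1))⁻¹ := by rw [pow_succ r i]; exact (mul_inv_rev _ _).symm
        have hsr : s = z * r ^ (2 * l) := by
          calc s = (z * r ^ l * z) * z * r ^ l := by rw [hs, hzr]
            _ = z * r ^ l * (z * z) * r ^ l := by group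
            _ = z * r ^ (2 * l) := by rw [hzz, two_mul, pow_add]; group
        have hszs : s * z * s = z2 := by
          calc s * z * s = z * r ^ (2 * l) * (z * z) * r ^ (2 * l) := by rw [hsr]; group
            _ = z * r ^ (4 * l) := by rw [hzz, mul_one, mul_assoc, ← pow_add]; congr 2; omega
            _ = z * r := by
              rw [show 4 * l = orderOf r * (2 * m + 3) + 1 by rw [hm, hl]; ring, pow_succ, pow_mul,
                pow_orderOf_eq_one, one_pow, one_mul]
            _ = z2 := by rw [hr, ← mul_assoc, hzz, one_mul]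
        have hks : k⁻¹ * s ∈ H := hC (Subgroup.mem_centralizer_singleton_iff.mpr (by
          calc k⁻¹ * s * z = k⁻¹ * (s * z * s) * s⁻¹ := by group
            _ = z * (k⁻¹ * s⁻¹) := by rw [hszs, hz2]; group
            _ = z * (k⁻¹ * s) := by rw [inv_eq_of_mul_eq_one_right (hclsinv s hscls)]))
        have hgs : g⁻¹ * s ∈ H := by
          have := H.mul_mem hh hks
          rwa [show g⁻¹ * s = h * (k⁻¹ * s) by rw [hk]; group]
        refine ⟨s, Finset.mem_filter.mpr ⟨Finset.mem_filter.mpr ⟨hscls, fun hsH => hg ?_⟩, ?_⟩, ?_⟩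
        · simpa using H.inv_mem (H.mul_mem hgs (H.inv_mem hsH))
        · exact (QuotientGroup.eq.mpr hgs).symm
        · rw [hszs, hz2, hk]; group
      choose F hF hFe using key
      refine Finset.card_le_card_of_injOn (fun x => if hx : x ∈ ZH then F x hx else 1) ?_ ?_
      · intro x hx
        simp only [Finset.mem_coe] at hx ⊢
        simpa [hx] using hF x hx
      · intro x hx y hy hxy
        simp only [Finset.mem_coe] at hx hy
        simp only [hx, hy, dif_pos] at hxy
        have h1 := hFe x hx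
        rw [hxy, hFe y hy] at h1
        exact (mul_left_cancel (mul_right_cancel h1)).symm
    -- the fibration by fixed points
    haveI : Fintype (G ⧸ H) := Fintype.ofFinite _
    have hfix : ∀ k : G, ∀ k' : G, k * z * k⁻¹ = k' * z * k'⁻¹ → (k : G ⧸ H) = (k' : G ⧸ H) := by
      intro k k' he
      refine QuotientGroup.eq.mpr ((h0' _).mp ?_)
      rw [show k⁻¹ * k' * z * (k⁻¹ * k')⁻¹ = k⁻¹ * (k' * z * k'⁻¹) * k by group, ← he]
      simpa [mul_assoc] using hzH
    let pt : G → G ⧸ H := fun x => if hx : ∃ k, k * z * k⁻¹ = x then ((Classical.choose hx : G) : G ⧸ H) else ((1 : G) : G ⧸ H)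
    have hpt : ∀ k : G, pt (k * z * k⁻¹) = (k : G ⧸ H) := fun k => by
      have hx : ∃ k', k' * z * k'⁻¹ = k * z * k⁻¹ := ⟨k, rfl⟩
      simp only [pt, dif_pos hx]
      exact hfix _ _ (Classical.choose_spec hx)
    have hfib : ∀ c : G ⧸ H, (cls.filter fun x => pt x = c).card = ZH.card := by
      intro c
      obtain ⟨g, rfl⟩ := QuotientGroup.mk_surjective c
      refine Finset.card_bij' (fun x _ => g⁻¹ * x * g) (fun y _ => g * y * g⁻¹) ?_ ?_ ?_ ?_
      · intro x hx
        obtain ⟨hxc, hxp⟩ := Finset.mem_filter.mp hx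
        obtain ⟨k, -, rfl⟩ := Finset.mem_image.mp hxc
        rw [hpt] at hxp
        refine Finset.mem_filter.mpr ⟨Finset.mem_image.mpr ⟨g⁻¹ * k, Finset.mem_univ _, by group⟩, ?_⟩
        rw [show g⁻¹ * (k * z * k⁻¹) * g = (g⁻¹ * k) * z * (g⁻¹ * k)⁻¹ by group]
        exact (h0' _).mpr (QuotientGroup.eq.mp hxp.symm)
      · intro y hy
        obtain ⟨hyc, hyH⟩ := Finset.mem_filter.mp hy
        obtain ⟨k, -, rfl⟩ := Finset.mem_image.mp hyc
        refine Finset.mem_filter.mpr ⟨Finset.mem_image.mpr ⟨g * k, Finset.mem_univ _, by group⟩, ?_⟩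
        rw [show g * (k * z * k⁻¹) * g⁻¹ = (g * k) * z * (g * k)⁻¹ by group, hpt]
        exact QuotientGroup.eq.mpr (by simpa using (h0' k).mp hyH)
      · intro x _; group
      · intro y _; group
    have hcls : cls.card = Fintype.card (G ⧸ H) * ZH.card := by
      rw [Finset.card_eq_sum_card_fiberwise (f := pt) (t := Finset.univ) (fun x _ => Finset.mem_univ _),
        Finset.sum_congr rfl (fun c _ => hfib c), Finset.sum_const, Finset.card_univ, smul_eq_mul]
    -- an odd fibre
    obtain ⟨g, hg⟩ : ∃ g, g ∉ H := by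
      by_contra h
      push Not at h
      exact hH (eq_top_iff.mpr fun x _ => h x)
    have hsum : ∑ c ∈ Finset.univ.erase ((1 : G) : G ⧸ H), (Sw c).card
        = (cls.filter fun s => s ∉ H).card := by
      refine (Finset.card_eq_sum_card_fiberwise (f := fun s : G => (s : G ⧸ H)) ?_).symm
      intro s hs
      refine Finset.mem_erase.mpr ⟨fun h => (Finset.mem_filter.mp hs).2 ?_, Finset.mem_univ _⟩
      simpa using QuotientGroup.eq.mp h
    have hsplit := Finset.card_filter_add_card_filter_not (s := cls) (fun s => s ∈ H)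
    have hEq : ∀ c : G ⧸ H, c ≠ ((1 : G) : G ⧸ H) → ZH.card = (Sw c).card := by
      intro c hc
      refine ((Finset.sum_eq_sum_iff_of_le (f := fun _ => ZH.card) (g := fun c => (Sw c).card)
        (fun i hi => hge i (Finset.mem_erase.mp hi).1)).mp ?_) c (Finset.mem_erase.mpr ⟨hc, Finset.mem_univ _⟩)
      rw [hsum, Finset.sum_const, Finset.card_erase_of_mem (Finset.mem_univ _), Finset.card_univ, smul_eq_mul,
        Nat.sub_mul, one_mul, ← hcls]
      change cls.card - (cls.filter fun x => x ∈ H).card = _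
      omega
    have hne1 : ((g : G) : G ⧸ H) ≠ ((1 : G) : G ⧸ H) := fun h => hg (by simpa using QuotientGroup.eq.mp h)
    have hzZH : z ∈ ZH := Finset.mem_filter.mpr ⟨Finset.mem_image.mpr ⟨1, Finset.mem_univ _, by group⟩, hzH⟩
    obtain ⟨s0, hs0⟩ : (Sw (g : G ⧸ H)).Nonempty := by
      rw [← Finset.card_pos, ← hEq _ hne1]
      exact Finset.card_pos.mpr ⟨z, hzZH⟩
    have ha : Odd ZH.card := by
      rw [hEq _ hne1]
      obtain ⟨hs0', hs0g⟩ := Finset.mem_filter.mp hs0
      obtain ⟨hs0c, hs0H⟩ := Finset.mem_filter.mp hs0'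
      refine oddinv _ (fun s => s0 * s * s0) s0 hs0 ?_ ?_ ?_ ?_
      · rw [hclsinv s0 hs0c, one_mul]
      · intro s hs
        obtain ⟨hs', hsg⟩ := Finset.mem_filter.mp hs
        obtain ⟨hsc, hsH⟩ := Finset.mem_filter.mp hs'
        have hss0 : s * s0 ∈ H := by
          have := QuotientGroup.eq.mp (hsg.trans hs0g.symm)
          rwa [inv_eq_of_mul_eq_one_right (hclsinv s hsc)] at this
        refine Finset.mem_filter.mpr ⟨Finset.mem_filter.mpr ⟨?_, ?_⟩, ?_⟩
        · obtain ⟨k, -, rfl⟩ := Finset.mem_image.mp hsc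
          refine Finset.mem_image.mpr ⟨s0 * k, Finset.mem_univ _, ?_⟩
          rw [mul_inv_rev, inv_eq_of_mul_eq_one_right (hclsinv s0 hs0c)]; group
        · intro hmem
          refine hs0H ?_
          rw [mul_assoc] at hmem
          have h1 := H.mul_mem hmem (H.inv_mem hss0)
          rwa [mul_inv_cancel_right] at h1
        · rw [← hs0g, mul_assoc]
          refine QuotientGroup.eq.mpr ?_
          have h1 : (s0 * (s * s0))⁻¹ * s0 = (s * s0)⁻¹ := by group
          rw [h1]; exact H.inv_mem hss0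
      · intro s _
        calc s0 * (s0 * s * s0) * s0 = (s0 * s0) * s * (s0 * s0) := by group
          _ = s := by rw [hclsinv s0 hs0c, one_mul, mul_one]
      · intro s hs he
        obtain ⟨hs', hsg⟩ := Finset.mem_filter.mp hs
        obtain ⟨hsc, hsH⟩ := Finset.mem_filter.mp hs'
        by_contra hne
        obtain ⟨c, -, rfl⟩ := Finset.mem_image.mp hsc
        set t := c⁻¹ * s0 * c with ht
        have htc : IsConj z t := by
          obtain ⟨k, -, hk⟩ := Finset.mem_image.mp hs0c
          exact isConj_iff.mpr ⟨c⁻¹ * k, by rw [ht, ← hk]; group⟩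
        have htne : t ≠ z := fun h => hne (by rw [← h, ht]; group)
        have hcomm : s0 * (c * z * c⁻¹) = (c * z * c⁻¹) * s0 := by
          calc s0 * (c * z * c⁻¹) = s0 * (c * z * c⁻¹) * (s0 * s0) := by rw [hclsinv s0 hs0c, mul_one]
            _ = (s0 * (c * z * c⁻¹) * s0) * s0 := by group
            _ = _ := by rw [he]
        have htz : t * z = z * t := by
          calc t * z = c⁻¹ * (s0 * (c * z * c⁻¹)) * c := by rw [ht]; group
            _ = c⁻¹ * ((c * z * c⁻¹) * s0) * c := by rw [hcomm]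
            _ = z * t := by rw [ht]; group
        refine hsH ((h0' c).mpr (hyp' t htc htne htz c ?_))
        rw [show c * (z * t) * c⁻¹ = (c * z * c⁻¹) * s0 by rw [ht]; group]
        have := QuotientGroup.eq.mp (hsg.trans hs0g.symm)
        rwa [inv_eq_of_mul_eq_one_right (hclsinv _ hsc)] at this
    have hn : Odd (Fintype.card (G ⧸ H)) := by
      rw [← Finset.card_univ]
      refine oddinv _ (fun c => z • c) ((1 : G) : G ⧸ H) (Finset.mem_univ _) ?_ (fun _ _ => Finset.mem_univ _) ?_ ?_
      · exact QuotientGroup.eq.mpr (by simpa using hzH)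
      · intro c _; rw [smul_smul, hzz, one_smul]
      · intro c _ hc
        obtain ⟨k, rfl⟩ := QuotientGroup.mk_surjective c
        have h1 : (z * k)⁻¹ * k ∈ H := QuotientGroup.eq.mp hc
        refine QuotientGroup.eq.mpr ?_
        rw [mul_one]
        refine (h0' _).mp ?_
        rw [inv_inv, show k⁻¹ * z * k = ((z * k)⁻¹ * k)⁻¹ by group]
        exact H.inv_mem h1
    have hidx : (Subgroup.centralizer ({z} : Set G)).index = cls.card := by
      rw [Subgroup.index_eq_card]
      refine (Nat.card_eq_of_bijective (fun c : G ⧸ Subgroup.centralizer ({z} : Set G) =>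
        (⟨c.out * z * c.out⁻¹, Finset.mem_image.mpr ⟨c.out, Finset.mem_univ _, rfl⟩⟩ : ↥cls)) ⟨?_, ?_⟩).trans ?_
      · intro c d h
        have h' : c.out * z * c.out⁻¹ = d.out * z * d.out⁻¹ := congrArg Subtype.val h
        rw [← c.out_eq', ← d.out_eq']
        refine QuotientGroup.eq.mpr (Subgroup.mem_centralizer_singleton_iff.mpr ?_)
        calc c.out⁻¹ * d.out * z = c.out⁻¹ * (d.out * z * d.out⁻¹) * d.out := by group
          _ = z * (c.out⁻¹ * d.out) := by rw [← h']; group
      · rintro ⟨x, hx⟩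
        obtain ⟨k, -, rfl⟩ := Finset.mem_image.mp hx
        obtain ⟨⟨e, he⟩, hd⟩ := QuotientGroup.mk_out_eq_mul (Subgroup.centralizer ({z} : Set G)) k
        refine ⟨(k : G ⧸ Subgroup.centralizer ({z} : Set G)), Subtype.ext ?_⟩
        have he' := Subgroup.mem_centralizer_singleton_iff.mp he
        simp only [hd]
        calc k * e * z * (k * e)⁻¹ = k * (e * z) * e⁻¹ * k⁻¹ := by group
          _ = k * z * k⁻¹ := by rw [he']; group
      · rw [Nat.card_eq_fintype_card, Fintype.card_coe]
    haveI : Fact (Nat.Prime 2) := ⟨Nat.prime_two⟩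
    obtain ⟨P₀⟩ := (inferInstance : Nonempty (Sylow 2 ↥(Subgroup.centralizer ({z} : Set G))))
    set C := Subgroup.centralizer ({z} : Set G) with hCdef
    set Q := (P₀ : Subgroup ↥C).map C.subtype with hQdef
    have hQp : IsPGroup 2 ↥Q := P₀.isPGroup'.map _
    have hQi : ¬ 2 ∣ Q.index := by
      rw [hQdef, Subgroup.index_map_subtype]
      intro hd
      rcases Nat.prime_two.dvd_mul.mp hd with h | h
      · exact P₀.not_dvd_index h
      · rw [hidx, hcls] at h
        exact (hn.mul ha).not_two_dvd_nat h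
    refine ⟨hQp.toSylow hQi, ?_⟩
    have hzC : z ∈ C := Subgroup.mem_centralizer_singleton_iff.mpr rfl
    have hzQ : z ∈ Q := by
      let zc : ↥C := ⟨z, hzC⟩
      haveI : (Subgroup.zpowers zc).Normal := by
        refine ⟨fun x hx y => ?_⟩
        obtain ⟨i, rfl⟩ := Subgroup.mem_zpowers_iff.mp hx
        have hc : Commute y zc := Subtype.ext (Subgroup.mem_centralizer_singleton_iff.mp y.2)
        rw [(hc.zpow_right i).eq, mul_inv_cancel_right]
        exact Subgroup.mem_zpowers_iff.mpr ⟨i, rfl⟩
      have hzp : IsPGroup 2 ↥(Subgroup.zpowers zc) :=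
        IsPGroup.of_card (n := 1) (by rw [Nat.card_zpowers, Subgroup.orderOf_mk, hz, pow_one])
      exact ⟨zc, (P₀.is_maximal' (P₀.isPGroup'.to_sup_of_normal_right hzp) le_sup_left) ▸
        Subgroup.mem_sup_right (Subgroup.mem_zpowers zc), rfl⟩
    refine ⟨⟨z, hzQ⟩, Subgroup.mem_center_iff.mpr fun y => Subtype.ext ?_, rfl⟩
    obtain ⟨y', -, hy'⟩ := y.2
    have := Subgroup.mem_centralizer_singleton_iff.mp y'.2
    change (y : G) * z = z * (y : G)
    rw [← hy']; exact this
  · rintro ⟨⟨P, hzP⟩, hCzt⟩ t htc htne htz g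
    obtain ⟨⟨w, hw⟩, hwc, hwz⟩ := hzP
    simp only [Subgroup.coe_subtype] at hwz
    subst hwz
    have htH : t ∈ H := hC (Subgroup.mem_centralizer_singleton_iff.mpr htz)
    rw [mH]
    refine ⟨fun hmem => ?_, fun hg => H.mul_mem (H.mul_mem (H.inv_mem hg) (H.mul_mem hzH htH)) hg⟩
    by_contra hg
    haveI : Fact (Nat.Prime 2) := ⟨Nat.prime_two⟩
    set v := g⁻¹ * (w * t) * g with hv
    have hPH : (P : Subgroup G) ≤ H := fun y hy => hC (Subgroup.mem_centralizer_singleton_iff.mpr
      (congrArg Subtype.val (Subgroup.mem_center_iff.mp hwc ⟨y, hy⟩)))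
    have hvv : v * v = 1 := by
      obtain ⟨k, hk⟩ := isConj_iff.mp htc
      have htt : t * t = 1 := by
        rw [← hk]
        calc k * w * k⁻¹ * (k * w * k⁻¹) = k * (w * w) * k⁻¹ := by group
          _ = 1 := by rw [hzz]; group
      calc v * v = g⁻¹ * (w * (t * w) * t) * g := by rw [hv]; group
        _ = g⁻¹ * ((w * w) * (t * t)) * g := by rw [htz]; group
        _ = 1 := by rw [hzz, htt]; group
    have hvP : IsPGroup 2 ↥(Subgroup.zpowers (⟨v, hmem⟩ : ↥H)) := by
      obtain ⟨k, -, hk⟩ := (Nat.dvd_prime_pow Nat.prime_two (m := 1)).mp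
        (orderOf_dvd_of_pow_eq_one (show (⟨v, hmem⟩ : ↥H) ^ (2 ^ 1) = 1 from Subtype.ext (by simp [pow_two, hvv])))
      exact IsPGroup.of_card (n := k) (by rw [Nat.card_zpowers, hk])
    obtain ⟨T, hT⟩ := hvP.exists_le_sylow
    obtain ⟨x, hx⟩ := MulAction.exists_smul_eq ↥H (P.subtype hPH) T
    have hvT : (⟨v, hmem⟩ : ↥H) ∈ (T : Subgroup ↥H) := hT (Subgroup.mem_zpowers _)
    rw [← hx, Sylow.coe_subgroup_smul, ← Subgroup.inv_mem_iff] at hvT
    rw [Subgroup.mem_pointwise_smul_iff_inv_smul_mem] at hvT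
    have hvT' : (x : G)⁻¹ * v⁻¹ * (x : G) ∈ (P : Subgroup G) := by
      simpa [MulAut.smul_def, Subgroup.mem_subgroupOf, mul_assoc] using hvT
    have hcz : v * ((x : G) * w * (x : G)⁻¹) = ((x : G) * w * (x : G)⁻¹) * v := by
      have h1 : (x : G)⁻¹ * v⁻¹ * (x : G) * w = w * ((x : G)⁻¹ * v⁻¹ * (x : G)) :=
        congrArg Subtype.val (Subgroup.mem_center_iff.mp hwc ⟨_, hvT'⟩)
      rw [inv_eq_of_mul_eq_one_right hvv] at h1
      calc v * ((x : G) * w * (x : G)⁻¹) = (x : G) * ((x : G)⁻¹ * v * (x : G) * w) * (x : G)⁻¹ := by group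
        _ = (x : G) * (w * ((x : G)⁻¹ * v * (x : G))) * (x : G)⁻¹ := by rw [h1]
        _ = _ := by group
    have h2 : g * ((x : G) * w * (x : G)⁻¹) * g⁻¹ ∈ H := hCzt t htc htne htz
      (Subgroup.mem_centralizer_singleton_iff.mpr (by
        calc g * ((x : G) * w * (x : G)⁻¹) * g⁻¹ * (w * t)
            = g * (((x : G) * w * (x : G)⁻¹) * v) * g⁻¹ := by rw [hv]; group
          _ = g * (v * ((x : G) * w * (x : G)⁻¹)) * g⁻¹ := by rw [hcz]
          _ = w * t * (g * ((x : G) * w * (x : G)⁻¹) * g⁻¹) := by rw [hv]; group))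
    have h3 : g * (x : G) ∈ H := (h0' _).mp (by simpa [mul_assoc] using h2)
    exact hg (by simpa using H.mul_mem h3 (H.inv_mem x.2))

end Cfsg.Agent.S1922
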