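import Mathlib

/-! Semiregular 2-elements on sets of size `|u| · odd` are odd permutations. -/

set_option autoImplicit false

open Subgroup

namespace CfsgLib.SemiregularSign

/-- A permutation of 2-power order whose involution power has no fixed point, on a set of size
`order * odd`, is odd. -/
theorem sign_eq_neg_one {α : Type*} [Fintype α] [DecidableEq α] {σ : Equiv.Perm α} (m : ℕ)
    (hσ : σ ^ (2 ^ (m + 1)) = 1) (hfix : ∀ a, (σ ^ (2 ^ m)) a ≠ a) {k : ℕ} (hk : Odd k)
    (hcard : Fintype.card α = 2 ^ (m + 1) * k) : Equiv.Perm.sign σ = -1 := by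
  have hall : ∀ n ∈ σ.cycleType, n = 2 ^ (m + 1) := by
    intro n hn
    have hd : n ∣ 2 ^ (m + 1) := (Equiv.Perm.dvd_of_mem_cycleType hn).trans (orderOf_dvd_of_pow_eq_one hσ)
    obtain ⟨i, hi, rfl⟩ := (Nat.dvd_prime_pow Nat.prime_two).1 hd
    by_contra hne
    have hi' : i ≤ m := by
      by_contra h
      exact hne (by rw [show i = m + 1 by omega])
    rw [Equiv.Perm.cycleType_def, Multiset.mem_map] at hn
    obtain ⟨c, hc, hcn⟩ := hn
    have hcyc : c.IsCycle := (Equiv.Perm.mem_cycleFactorsFinset_iff.1 hc).1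
    obtain ⟨x, hx⟩ := hcyc.nonempty_support
    have hce : c = σ.cycleOf x := Equiv.Perm.cycle_is_cycleOf hx hc
    have hpow : c ^ (2 ^ m) = 1 := by
      refine orderOf_dvd_iff_pow_eq_one.1 ?_
      rw [hcyc.orderOf]
      simp only [Function.comp_apply] at hcn
      rw [hcn]
      exact pow_dvd_pow 2 hi'
    refine hfix x ?_
    rw [← Equiv.Perm.cycleOf_pow_apply_self, ← hce, hpow]
    rfl
  have hsupp : σ.support = Finset.univ := Finset.eq_univ_of_forall fun a => by
    rw [Equiv.Perm.mem_support]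
    exact fun h => hfix a (Equiv.Perm.pow_apply_eq_self_of_apply_eq_self h _)
  have hsum : σ.cycleType.sum = 2 ^ (m + 1) * k := by
    rw [Equiv.Perm.sum_cycleType, hsupp, Finset.card_univ, hcard]
  have hc : Multiset.card σ.cycleType = k := by
    have h1 := hsum
    rw [Multiset.eq_replicate_card.2 hall, Multiset.sum_replicate, smul_eq_mul, mul_comm] at h1
    exact Nat.eq_of_mul_eq_mul_left (by positivity) h1
  rw [Equiv.Perm.sign_of_cycleType, hsum, hc]
  refine Odd.neg_one_pow ?_
  refine Even.add_odd ?_ hk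
  exact (Even.pow_of_ne_zero even_two m.succ_ne_zero).mul_right k

/-- If the involution in `⟨u⟩` has no conjugate in `T` and `[G : T] = |u| · odd`, the element `u`
acts as an odd permutation on the cosets of `T`. -/
theorem sign_cosets {G : Type*} [Group G] [Finite G] (T : Subgroup G) (u : G) (m : ℕ)
    (hu : u ^ (2 ^ (m + 1)) = 1) (hno : ∀ g : G, g * u ^ (2 ^ m) * g⁻¹ ∉ T)
    {k : ℕ} (hk : Odd k) (hidx : T.index = 2 ^ (m + 1) * k) :
    letI := Fintype.ofFinite (G ⧸ T); letI := Classical.decEq (G ⧸ T)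
    Equiv.Perm.sign (MulAction.toPermHom G (G ⧸ T) u) = -1 := by
  letI := Fintype.ofFinite (G ⧸ T)
  letI := Classical.decEq (G ⧸ T)
  refine sign_eq_neg_one m ?_ ?_ hk ?_
  · rw [← map_pow, hu, map_one]
  · intro a h
    rw [← map_pow] at h
    obtain ⟨g, rfl⟩ := QuotientGroup.mk_surjective a
    change ((u ^ (2 ^ m) * g : G) : G ⧸ T) = (g : G ⧸ T) at h
    rw [eq_comm, QuotientGroup.eq, ← mul_assoc] at h
    refine hno g⁻¹ ?_
    rwa [inv_inv]
  · rw [← Nat.card_eq_fintype_card, ← Subgroup.index, hidx]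

end CfsgLib.SemiregularSign
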