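import Cfsg.Statements.S1924
import Mathlib
import Cfsg.Agent.S1924Core
import Cfsg.Agent.Lib.Transfer.NormalPComplement
import Cfsg.Agent.Lib.Transfer.ThompsonTransfer
import Cfsg.Agent.Lib.PLocal.Constrained

set_option autoImplicit false
open Cfsg
open scoped Pointwise commutatorElement

namespace Cfsg.Agent.S1924

/-- A consequence of Thompson's transfer lemma. Let G be a finite group, L a subgroup with O²(L) = L, T a Sylow 2-subgroup of L and S a Sylow 2-subgroup of G containing T. Suppose D ≤ S is a dihedral subgroup of order at least 4 (the four-group counts) with D ∩ T = 1 and S = TD as a set of products (so |S| = |T|·|D|), and C ≤ D is cyclic of index 2 in D. If no involution of D outside C is G-conjugate to an involution of the subgroup generated by T and C, and the involution of C is not G-conjugate to any involution of T, then G has a normal subgroup K, containing every Sylow 2-subgroup of L as a Sylow 2-subgroup, with G = KD. -/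
theorem result {G : Type*} [Group G] [Finite G] (L T S D C : Subgroup G) (hL : Cfsg.pResidual 2 ↥L = ⊤)
    (hTL : T ≤ L) (hT2 : IsPGroup 2 T) (hTsyl : ¬ 2 ∣ T.relIndex L)
    (hS2 : IsPGroup 2 S) (hSsyl : ¬ 2 ∣ S.index) (hTS : T ≤ S)
    (hDS : D ≤ S) (hDih : ∃ n : ℕ, 2 ≤ n ∧ Nonempty (↥D ≃* DihedralGroup n)) (hDT : D ⊓ T = ⊥) (hTD : T ⊔ D = S) (hTDc : Nat.card T * Nat.card D = Nat.card S)
    (hCD : C ≤ D) (hC : IsCyclic ↥C) (hCi : C.relIndex D = 2)
    (h1 : ∀ x ∈ D, x ∉ C → orderOf x = 2 → ∀ g : G, g * x * g⁻¹ ∈ T ⊔ C → False)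
    (h2 : ∀ c ∈ C, orderOf c = 2 → ∀ g : G, g * c * g⁻¹ ∈ T → False) :
    ∃ K : Subgroup G, K.Normal ∧ K ⊔ D = ⊤ ∧
      ∀ T' : Subgroup G, T' ≤ L → IsPGroup 2 T' → ¬ 2 ∣ T'.relIndex L → T' ≤ K ∧ ¬ 2 ∣ T'.relIndex K := by
  classical
  haveI : Fact (Nat.Prime 2) := ⟨Nat.prime_two⟩
  set K : Subgroup G := Cfsg.pResidual 2 G with hKdef
  haveI hKn : K.Normal := CfsgLib.Transfer.pResidual_normal
  have hLK : L ≤ K := by
    have h := CfsgLib.Transfer.map_pResidual_le (p := 2) L.subtype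
    rwa [hL, ← MonoidHom.range_eq_map, L.range_subtype] at h
  have hodd : ∀ (X : Type _) (_ : Group X) (ψ : X →* ℤˣ) (x : X), (orderOf x).Coprime 2 → ψ x = 1 := by
    intro X _ ψ x hx
    have h1 : orderOf (ψ x) ∣ 2 := orderOf_dvd_of_pow_eq_one (Int.units_pow_two _)
    exact orderOf_eq_one_iff.1 (Nat.eq_one_of_dvd_coprimes hx (orderOf_map_dvd ψ x) h1)
  let P : Sylow 2 G := hS2.toSylow hSsyl
  -- the elements of `D` outside `C` are involutions
  obtain ⟨n, hn, ⟨e⟩⟩ := hDih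
  have hrefl : ∀ d ∈ D, d ∉ C → orderOf d = 2 := by
    intro d hd hdC
    haveI : NeZero n := ⟨by omega⟩
    set C' : Subgroup (DihedralGroup n) := (C.subgroupOf D).map e.toMonoidHom with hC'
    have hCc : Nat.card C * 2 = Nat.card D := by
      rw [← hCi, ← Subgroup.relIndex_bot_left C, Subgroup.relIndex_mul_relIndex ⊥ C D bot_le hCD,
        Subgroup.relIndex_bot_left]
    have hDc : Nat.card D = 2 * n := by rw [Nat.card_congr e.toEquiv, DihedralGroup.nat_card]
    have hCn : Nat.card C = n := by omega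
    obtain ⟨⟨c, hc⟩, hgen⟩ := IsCyclic.exists_generator (α := C)
    have hco : orderOf c = n := by
      rw [← hCn, ← orderOf_eq_card_of_forall_mem_zpowers hgen, Subgroup.orderOf_mk]
    have hdc : ∀ j : ℤ, d ≠ c ^ j := fun j h => hdC (h ▸ C.zpow_mem hc j)
    rcases he : e ⟨d, hd⟩ with i | i
    swap
    · rw [← Subgroup.orderOf_mk d hd, ← e.orderOf_eq, he, DihedralGroup.orderOf_sr]
    -- a rotation lies in `C` unless `n = 2`
    by_cases hn2 : n = 2
    · subst hn2
      have hd1 : d ≠ 1 := fun h => hdC (h ▸ C.one_mem)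
      refine orderOf_eq_prime ?_ hd1
      have h1 : orderOf (e ⟨d, hd⟩) ∣ 2 := by
        rw [he, DihedralGroup.orderOf_r]; exact Nat.div_dvd_of_dvd (Nat.gcd_dvd_left _ _)
      rw [e.orderOf_eq, Subgroup.orderOf_mk] at h1
      exact orderOf_dvd_iff_pow_eq_one.1 h1
    exfalso
    rcases hec : e ⟨c, hCD hc⟩ with j | j
    swap
    · have h1 := e.orderOf_eq ⟨c, hCD hc⟩
      rw [hec, DihedralGroup.orderOf_sr, Subgroup.orderOf_mk, hco] at h1
      omega
    -- `j` generates `ZMod n`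
    have hjo : addOrderOf j = n := by
      have h1 := e.orderOf_eq ⟨c, hCD hc⟩
      rw [hec, DihedralGroup.orderOf_r, Subgroup.orderOf_mk, hco] at h1
      rw [← ZMod.natCast_zmod_val j, ZMod.addOrderOf_coe _ (by omega)]
      exact h1
    have htop : i ∈ AddSubgroup.zmultiples j := by
      have : AddSubgroup.zmultiples j = ⊤ := by
        refine AddSubgroup.eq_top_of_card_eq _ ?_
        rw [Nat.card_zmultiples, hjo, Nat.card_zmod]
      rw [this]; exact AddSubgroup.mem_top i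
    obtain ⟨z, hz⟩ := htop
    refine hdc z ?_
    have : (⟨d, hd⟩ : D) = (⟨c, hCD hc⟩ : D) ^ z := e.injective (by
      rw [map_zpow, he, hec, DihedralGroup.r_zpow]
      exact congrArg DihedralGroup.r (by rw [← hz]; show z • j = j * (z : ZMod n); rw [zsmul_eq_mul, mul_comm]))
    exact congrArg Subtype.val this
  -- `T C` has index 2 in `S`
  have hTC : T ⊔ C ≤ S := sup_le hTS (hCD.trans hDS)
  obtain ⟨x₀, hx₀D, hx₀C⟩ : ∃ x ∈ D, x ∉ C := SetLike.not_le_iff_exists.1 fun h => by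
    rw [Subgroup.relIndex_eq_one.2 h] at hCi; omega
  have hx₀ : x₀ ∉ T ⊔ C := fun h => h1 x₀ hx₀D hx₀C (hrefl x₀ hx₀D hx₀C) 1 (by simpa using h)
  have hCi2 : (T ⊔ C).relIndex S = 2 := by
    have hcard : Nat.card T * Nat.card C ≤ Nat.card (T ⊔ C : Subgroup G) := by
      rw [← Nat.card_prod]
      refine Nat.card_le_card_of_injective
        (fun tc : T × C => (⟨tc.1 * tc.2, Subgroup.mul_mem_sup tc.1.2 tc.2.2⟩ : (T ⊔ C : Subgroup G))) ?_
      rintro ⟨t, c⟩ ⟨t', c'⟩ h
      have h' : (t : G) * c = t' * c' := congrArg Subtype.val h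
      have hmem : (t' : G)⁻¹ * t = c' * (c : G)⁻¹ := by
        calc (t' : G)⁻¹ * t = (t' : G)⁻¹ * (t * c) * (c : G)⁻¹ := by group
          _ = c' * (c : G)⁻¹ := by rw [h']; group
      have h0 : (t' : G)⁻¹ * t ∈ D ⊓ T :=
        ⟨hmem ▸ D.mul_mem (hCD c'.2) (D.inv_mem (hCD c.2)), T.mul_mem (T.inv_mem t'.2) t.2⟩
      rw [hDT, Subgroup.mem_bot, inv_mul_eq_one] at h0
      rw [h0] at h'
      exact Prod.ext (Subtype.ext h0.symm) (Subtype.ext (mul_left_cancel h'))
    have hCc : Nat.card C * 2 = Nat.card D := by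
      rw [← hCi, ← Subgroup.relIndex_bot_left C, Subgroup.relIndex_mul_relIndex ⊥ C D bot_le hCD,
        Subgroup.relIndex_bot_left]
    have hmul : Nat.card (T ⊔ C : Subgroup G) * (T ⊔ C).relIndex S = Nat.card S := by
      rw [← Subgroup.relIndex_bot_left (T ⊔ C), Subgroup.relIndex_mul_relIndex ⊥ _ S bot_le hTC,
        Subgroup.relIndex_bot_left]
    have hne1 : (T ⊔ C).relIndex S ≠ 1 := fun h => hx₀ (Subgroup.relIndex_eq_one.1 h (hDS hx₀D))
    have hne0 : (T ⊔ C).relIndex S ≠ 0 := fun h => by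
      rw [h, mul_zero] at hmul; exact (Nat.card_pos (α := S)).ne hmul
    refine le_antisymm ?_ (by omega)
    have : Nat.card (T ⊔ C : Subgroup G) * (T ⊔ C).relIndex S ≤ Nat.card (T ⊔ C : Subgroup G) * 2 := by
      rw [hmul, ← hTDc, ← hCc, ← mul_assoc]
      exact Nat.mul_le_mul_right 2 hcard
    exact Nat.le_of_mul_le_mul_left this Nat.card_pos
  -- the elements of `D ∩ K` lie in `C`
  have hDK : ∀ d ∈ D, d ∈ K → d ∈ C := by
    intro d hd hdK
    by_contra hdC
    obtain ⟨M, hMn, hMi, hdM⟩ := CfsgLib.Transfer.exists_index_two_of_not_conj_mem P hTC hCi2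
      (hrefl d hd hdC) (fun g hg => h1 d hd hdC (hrefl d hd hdC) g hg)
    haveI := hMn
    exact hdM (CfsgLib.Transfer.pResidual_le ⟨1, by simpa using hMi⟩ hdK)
  -- `S ∩ K = T`
  have hTK : T ≤ K := hTL.trans hLK
  have hmem : ∀ s ∈ S, ∃ t ∈ T, ∃ d ∈ D, s = t * d := by
    intro s hs
    let f : T × D → S := fun td => ⟨td.1 * td.2, S.mul_mem (hTS td.1.2) (hDS td.2.2)⟩
    have hf : Function.Bijective f := (Nat.bijective_iff_injective_and_card f).2 ⟨by
      rintro ⟨t, c⟩ ⟨t', c'⟩ h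
      have h' : (t : G) * c = t' * c' := congrArg Subtype.val h
      have hmem : (t' : G)⁻¹ * t = c' * (c : G)⁻¹ := by
        calc (t' : G)⁻¹ * t = (t' : G)⁻¹ * (t * c) * (c : G)⁻¹ := by group
          _ = c' * (c : G)⁻¹ := by rw [h']; group
      have h0 : (t' : G)⁻¹ * t ∈ D ⊓ T :=
        ⟨hmem ▸ D.mul_mem c'.2 (D.inv_mem c.2), T.mul_mem (T.inv_mem t'.2) t.2⟩
      rw [hDT, Subgroup.mem_bot, inv_mul_eq_one] at h0
      rw [h0] at h'
      exact Prod.ext (Subtype.ext h0.symm) (Subtype.ext (mul_left_cancel h')),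
      by rw [Nat.card_prod, hTDc]⟩
    obtain ⟨⟨t, d⟩, h⟩ := hf.2 ⟨s, hs⟩
    exact ⟨t, t.2, d, d.2, (congrArg Subtype.val h).symm⟩
  have hSK : S ⊓ K ≤ T := by
    set E : Subgroup G := D ⊓ K with hE
    have hEC : E ≤ C := fun d hd => hDK d hd.1 hd.2
    by_cases hE1 : E = ⊥
    · intro s hs
      obtain ⟨t, ht, d, hd, rfl⟩ := hmem s hs.1
      have : d ∈ E := ⟨hd, (K.mul_mem_cancel_left (hTK ht)).1 hs.2⟩
      rw [hE1, Subgroup.mem_bot] at this
      rw [this, mul_one]; exact ht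
    exfalso
    haveI : IsCyclic E := Subgroup.isCyclic_of_le hEC
    obtain ⟨⟨u, huE⟩, hgen⟩ := IsCyclic.exists_generator (α := E)
    obtain ⟨a, ha⟩ := IsPGroup.iff_card.1 (hS2.to_le ((hEC.trans hCD).trans hDS))
    have huo : orderOf u = 2 ^ a := by
      rw [← ha, ← orderOf_eq_card_of_forall_mem_zpowers hgen, Subgroup.orderOf_mk]
    rcases a with _ | m
    · rw [pow_zero] at ha
      exact hE1 (Subgroup.eq_bot_of_card_eq E ha)
    have hinv : orderOf (u ^ 2 ^ m) = 2 := by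
      rw [orderOf_pow, huo, Nat.gcd_eq_right (pow_dvd_pow 2 (Nat.le_succ m)), pow_succ,
        Nat.mul_div_cancel_left _ (by positivity)]
    have hSKc : Nat.card (S ⊓ K : Subgroup G) = Nat.card T * 2 ^ (m + 1) := by
      rw [← ha, ← Nat.card_prod]
      refine (Nat.card_congr (Equiv.ofBijective (fun te : T × E => (⟨te.1 * te.2,
        ⟨S.mul_mem (hTS te.1.2) (hDS te.2.2.1), K.mul_mem (hTK te.1.2) te.2.2.2⟩⟩ : (S ⊓ K : Subgroup G)))
        ⟨?_, ?_⟩)).symm
      · rintro ⟨t, c⟩ ⟨t', c'⟩ h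
        have h' : (t : G) * c = t' * c' := congrArg Subtype.val h
        have hmem : (t' : G)⁻¹ * t = c' * (c : G)⁻¹ := by
          calc (t' : G)⁻¹ * t = (t' : G)⁻¹ * (t * c) * (c : G)⁻¹ := by group
            _ = c' * (c : G)⁻¹ := by rw [h']; group
        have h0 : (t' : G)⁻¹ * t ∈ D ⊓ T :=
          ⟨hmem ▸ D.mul_mem c'.2.1 (D.inv_mem c.2.1), T.mul_mem (T.inv_mem t'.2) t.2⟩
        rw [hDT, Subgroup.mem_bot, inv_mul_eq_one] at h0
        rw [h0] at h'
        exact Prod.ext (Subtype.ext h0.symm) (Subtype.ext (mul_left_cancel h'))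
      · rintro ⟨s, hs, hsK⟩
        obtain ⟨t, ht, d, hd, rfl⟩ := hmem s hs
        exact ⟨⟨⟨t, ht⟩, ⟨d, hd, (K.mul_mem_cancel_left (hTK ht)).1 hsK⟩⟩, rfl⟩
    have hodd' : Odd ((S ⊓ K : Subgroup G).relIndex K) := by
      rw [← Nat.not_even_iff_odd, even_iff_two_dvd]
      have h := CfsgLib.Transfer.not_dvd_index_subgroupOf_of_normal P K
      change ¬ 2 ∣ (S.subgroupOf K).index at h
      rwa [← Subgroup.inf_subgroupOf_right] at h
    have hidx : (T.subgroupOf K).index = 2 ^ (m + 1) * (S ⊓ K : Subgroup G).relIndex K := by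
      have h0 := Subgroup.relIndex_mul_relIndex T (S ⊓ K) K (le_inf hTS hTK) inf_le_right
      have h3 : Nat.card T * T.relIndex (S ⊓ K) = Nat.card T * 2 ^ (m + 1) := by
        rw [← hSKc, ← Subgroup.relIndex_bot_left T,
          Subgroup.relIndex_mul_relIndex ⊥ T _ bot_le (le_inf hTS hTK), Subgroup.relIndex_bot_left]
      rw [Nat.eq_of_mul_eq_mul_left Nat.card_pos h3] at h0
      exact h0.symm
    letI := Fintype.ofFinite (K ⧸ T.subgroupOf K)
    letI := Classical.decEq (K ⧸ T.subgroupOf K)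
    have hsign := CfsgLib.SemiregularSign.sign_cosets (T.subgroupOf K) (⟨u, huE.2⟩ : K) m
      (Subtype.ext (by rw [SubgroupClass.coe_pow, ← huo, pow_orderOf_eq_one]; rfl))
      (fun g hg => h2 (u ^ 2 ^ m) (C.pow_mem (hEC huE) _) hinv g (by simpa [Subgroup.mem_subgroupOf] using hg))
      hodd' hidx
    set ψ : K →* ℤˣ := (Equiv.Perm.sign).comp (MulAction.toPermHom K (K ⧸ T.subgroupOf K)) with hψ
    have hker : (⊤ : Subgroup K) ≤ ψ.ker := by
      have h : K ≤ ψ.ker.map K.subtype := by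
        refine hKdef.le.trans ((Subgroup.closure_le _).2 ?_)
        intro g hg
        have hgK : g ∈ K := CfsgLib.Transfer.mem_pResidual_of_coprime hg
        exact ⟨⟨g, hgK⟩, hodd K inferInstance ψ ⟨g, hgK⟩ (by rwa [Subgroup.orderOf_mk]), rfl⟩
      intro g _
      obtain ⟨w, hw, hwg⟩ := h g.2
      exact Subtype.ext hwg ▸ hw
    have h0 : ψ ⟨u, huE.2⟩ = 1 := hker (Subgroup.mem_top _)
    rw [hψ, MonoidHom.comp_apply] at h0
    exact absurd (hsign.symm.trans h0) (by decide)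
  refine ⟨K, hKn, ?_, fun T' hT'L hT'2 hT'syl => ⟨hT'L.trans hLK, ?_⟩⟩
  · have h := CfsgLib.Transfer.sup_pResidual_eq_top P
    rw [eq_top_iff, ← h]
    refine sup_le ?_ le_sup_left
    show S ≤ K ⊔ D
    rw [← hTD]
    exact sup_le_sup_right hTK D
  · have hle : T'.relIndex K = T.relIndex K := by
      have hTT' : T'.relIndex L = T.relIndex L := by
        have a1 : ∀ (U : Subgroup G), U ≤ L → Nat.card U * U.relIndex L = Nat.card L := fun U hU => by
          rw [← Subgroup.relIndex_bot_left U, Subgroup.relIndex_mul_relIndex ⊥ U L bot_le hU,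
            Subgroup.relIndex_bot_left]
        obtain ⟨m, -, hm⟩ := CfsgLib.PLocal.exists_map_conj_eq_of_sylow_in hT'L hTL hT'2 hT2 hT'syl hTsyl
        have hc : Nat.card T' = Nat.card T := by
          rw [← hm, Subgroup.card_map_of_injective (MulAut.conj m).injective]
        have e1 := a1 T' hT'L
        rw [hc, ← a1 T hTL] at e1
        exact Nat.eq_of_mul_eq_mul_left Nat.card_pos e1
      rw [← Subgroup.relIndex_mul_relIndex T' L K hT'L hLK, hTT',
        Subgroup.relIndex_mul_relIndex T L K hTL hLK]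
    rw [hle, le_antisymm (le_inf hTS hTK) hSK]
    show ¬ 2 ∣ ((S ⊓ K).subgroupOf K).index
    rw [Subgroup.inf_subgroupOf_right]
    exact CfsgLib.Transfer.not_dvd_index_subgroupOf_of_normal P K

end Cfsg.Agent.S1924
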