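import Cfsg.Statements.S1939
import Mathlib
import Cfsg.Agent.Lib.Transfer.Fusion

set_option autoImplicit false
open Cfsg
open scoped Pointwise commutatorElement

namespace Cfsg.Agent.S1939

/-- Let S be a Sylow p-subgroup of the finite group G and a an element of S that is the only G-conjugate of a lying in S. Then every power of a has the same property: for every n, the only G-conjugate of a^n lying in S is a^n. -/
theorem result {G : Type*} [Group G] [Finite G] {p : ℕ} [Fact p.Prime] (S : Sylow p G) (a : G)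
    (haS : a ∈ (S : Subgroup G)) (hwc : ∀ g : G, g * a * g⁻¹ ∈ (S : Subgroup G) → g * a * g⁻¹ = a) (n : ℕ) :
    ∀ g : G, g * a ^ n * g⁻¹ ∈ (S : Subgroup G) → g * a ^ n * g⁻¹ = a ^ n := by
  intro g hg
  set z := a ^ n with hz
  set z' := g * z * g⁻¹ with hz'
  have hacen : ∀ s ∈ (S : Subgroup G), s * a = a * s := by
    intro s hs
    have h := hwc s (mul_mem (mul_mem hs haS) (inv_mem hs))
    calc s * a = s * a * s⁻¹ * s := by group
    _ = a * s := by rw [h]
  have haz' : a * z' = z' * a := (hacen z' hg).symm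
  -- `R`, a conjugate of `S`, is a Sylow subgroup of the centralizer of `z'`
  set C := Subgroup.centralizer ({z'} : Set G) with hC
  set R : Subgroup G := ((g • S : Sylow p G) : Subgroup G) with hR
  have hmemR : ∀ x : G, x ∈ R ↔ g⁻¹ * x * g ∈ (S : Subgroup G) := fun x =>
    CfsgLib.Transfer.mem_smul_sylow_iff
  have hRC : R ≤ C := by
    intro x hx
    rw [hC, Subgroup.mem_centralizer_iff]
    rintro _ rfl
    have h := Commute.pow_right (show Commute (g⁻¹ * x * g) a from hacen _ ((hmemR x).1 hx)) n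
    have h' : (g⁻¹ * x * g) * z = z * (g⁻¹ * x * g) := h
    rw [hz']
    calc g * z * g⁻¹ * x = g * (z * (g⁻¹ * x * g)) * g⁻¹ := by group
    _ = g * ((g⁻¹ * x * g) * z) * g⁻¹ := by rw [h']
    _ = x * (g * z * g⁻¹) := by group
  have hRp : IsPGroup p R := (g • S).isPGroup'
  have hRidx : ¬ p ∣ R.relIndex C := fun h =>
    (g • S).not_dvd_index (h.trans (Subgroup.relIndex_dvd_index_of_le hRC))
  have haC : Subgroup.zpowers a ≤ C := by
    rw [Subgroup.zpowers_le, hC, Subgroup.mem_centralizer_iff]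
    rintro _ rfl
    exact haz'.symm
  have hap : IsPGroup p (Subgroup.zpowers a) := S.isPGroup'.to_le (by rwa [Subgroup.zpowers_le])
  obtain ⟨c, hcC, hc⟩ := CfsgLib.Transfer.exists_conj_le_of_isPGroup hRp hRC hRidx hap haC
  have h1 := (hmemR _).1 (hc a (Subgroup.mem_zpowers a))
  have h2 := hwc (g⁻¹ * c⁻¹) (by simpa [mul_assoc] using h1)
  have h3 : g⁻¹ * c⁻¹ * z * (g⁻¹ * c⁻¹)⁻¹ = z := by
    rw [hz, ← conj_pow, h2]
  have h4 : z' * c = c * z' := (Subgroup.mem_centralizer_iff.1 hcC z' rfl)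
  calc z' = c * z' * c⁻¹ := by rw [← h4, mul_inv_cancel_right]
  _ = c * (g * (g⁻¹ * c⁻¹ * z * (g⁻¹ * c⁻¹)⁻¹) * g⁻¹) * c⁻¹ := by rw [h3, hz']
  _ = z := by group

end Cfsg.Agent.S1939
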