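import Cfsg.Statements.S1940
import Mathlib
import Cfsg.Agent.Lib.Techniques.Averaging

set_option autoImplicit false
open Cfsg
open scoped Pointwise commutatorElement

namespace Cfsg.Agent.S1940

/-- Let the finite group L act by automorphisms on the finite abelian group M, and let N be an L-invariant subgroup of M such that M/N is a p-group on which L acts trivially (every l • m lies in the coset mN). If every element of M is a product of an element of N and an element fixed by a Sylow p-subgroup T of L, then every element of M is a product of an element of N and an element fixed by all of L. -/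
theorem result {L : Type*} [Group L] [Finite L] {M : Type*} [CommGroup M] [Finite M] [MulDistribMulAction L M]
    {p : ℕ} [Fact p.Prime] (N : Subgroup M) (hN : ∀ (l : L) (m : M), m ∈ N → l • m ∈ N)
    (hquot : IsPGroup p (M ⧸ N)) (htriv : ∀ (l : L) (m : M), (l • m) * m⁻¹ ∈ N) (T : Sylow p L)
    (hT : ∀ m : M, ∃ n ∈ N, ∃ c : M, (∀ t ∈ (T : Subgroup L), t • c = c) ∧ m = n * c) :
    ∀ m : M, ∃ n ∈ N, ∃ c : M, (∀ l : L, l • c = c) ∧ m = n * c := by
  intro m
  obtain ⟨n, hn, c, hc, rfl⟩ := hT m
  let c' : FixedPoints.subgroup ↥(T : Subgroup L) M := ⟨c, fun t => hc t t.2⟩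
  set k := (T : Subgroup L).index with hk
  have hkp : Nat.Coprime k (orderOf (QuotientGroup.mk c : M ⧸ N)) := by
    obtain ⟨j, hj⟩ := IsPGroup.iff_orderOf.1 hquot (QuotientGroup.mk c : M ⧸ N)
    rw [hj]
    exact Nat.Coprime.pow_right _ ((Nat.Prime.coprime_iff_not_dvd Fact.out).2 T.not_dvd_index).symm
  obtain ⟨i, hi⟩ := exists_pow_eq_self_of_coprime hkp
  have hav := CfsgLib.Techniques.avg_congr (T : Subgroup L) c' (N := N) htriv
  set a := CfsgLib.Techniques.avg (T : Subgroup L) c'
  refine ⟨n * c * (a ^ i)⁻¹, ?_, a ^ i, fun l => ?_, by rw [inv_mul_cancel_right]⟩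
  · rw [mul_assoc]
    refine N.mul_mem hn ?_
    rw [← QuotientGroup.eq_one_iff]
    rw [QuotientGroup.mk_mul, QuotientGroup.mk_inv, QuotientGroup.mk_pow, mul_inv_eq_one]
    have : (QuotientGroup.mk a : M ⧸ N) = QuotientGroup.mk (c ^ k) := by
      have h := (QuotientGroup.eq_one_iff (N := N) _).2 hav
      rw [QuotientGroup.mk_mul, QuotientGroup.mk_inv, mul_inv_eq_one] at h
      exact h
    rw [this, QuotientGroup.mk_pow, hi]
  · rw [smul_pow', CfsgLib.Techniques.smul_avg]

end Cfsg.Agent.S1940
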