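import Cfsg.Statements.S1941
import Mathlib
import Cfsg.Agent.Lib.Components.FStar
import Cfsg.Agent.Lib.Components.PConstrained

set_option autoImplicit false
open Cfsg
open scoped Pointwise commutatorElement

namespace Cfsg.Agent.S1941

/-- Let G be a finite group with no nontrivial normal subgroup of order prime to p, T a Sylow p-subgroup of G and E(G) the layer of G (the subgroup generated by its components). An automorphism of G of p-power order that fixes T and E(G) elementwise is inner. -/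
theorem result {G : Type*} [Group G] [Finite G] {p : ℕ} [Fact p.Prime] (hcore : Cfsg.pPrimeCore p G = ⊥)
    (T : Sylow p G) (α : MulAut G) (hα : ∃ j : ℕ, orderOf α = p ^ j) (hfixT : ∀ x ∈ (T : Subgroup G), α x = x)
    (hfixE : ∀ x ∈ Cfsg.layer G, α x = x) : ∃ g : G, ∀ x : G, α x = g * x * g⁻¹ := by
  classical
  set F := Cfsg.fittingSubgroup G with hF
  haveI hFn : F.Normal := CfsgLib.Base.fittingSubgroup_normal' G
  set A := F ⊓ Subgroup.centralizer (F : Set G) with hA
  letI : CommGroup ↥A := { (inferInstance : Group ↥A) with mul_comm := fun a b => Subtype.ext (Subgroup.mem_centralizer_iff.mp (Subgroup.mem_inf.mp b.2).2 a (Subgroup.mem_inf.mp a.2).1) }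
  haveI hAn : A.Normal := inferInstance
  have hFp : F = Cfsg.pCore p G := CfsgLib.Components.fitting_eq_pCore_of_pPrimeCore_eq_bot hcore
  have hfixF : ∀ f ∈ F, α f = f := fun f hf => hfixT f (CfsgLib.Base.pCore_le_sylow T (hFp ▸ hf))
  let z : G → G := fun g => g⁻¹ * α g
  have hz : ∀ g, z g ∈ A := by
    intro g
    have key : ∀ N : Subgroup G, N.Normal → (∀ f ∈ N, α f = f) → z g ∈ Subgroup.centralizer (N : Set G) := by
      intro N hN hfix
      refine Subgroup.mem_centralizer_iff.mpr fun f hf => ?_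
      have h1 : α g * f * (α g)⁻¹ = g * f * g⁻¹ := by
        have := hfix _ (hN.conj_mem f hf g)
        rwa [map_mul, map_mul, map_inv, hfix f hf] at this
      calc f * z g = g⁻¹ * (g * f * g⁻¹) * α g := by simp only [z]; group
        _ = g⁻¹ * (α g * f * (α g)⁻¹) * α g := by rw [h1]
        _ = z g * f := by simp only [z]; group
    have hE := key (Cfsg.layer G) CfsgLib.Components.layer_normal hfixE
    have hFz := key F hFn hfixF
    have h : z g ∈ Subgroup.centralizer (Cfsg.generalizedFittingSubgroup G : Set G) := by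
      have hle : Cfsg.generalizedFittingSubgroup G ≤ Subgroup.centralizer ({z g} : Set G) :=
        sup_le (fun x hx => Subgroup.mem_centralizer_singleton_iff.mpr (Subgroup.mem_centralizer_iff.mp hE x hx))
          (fun x hx => Subgroup.mem_centralizer_singleton_iff.mpr (Subgroup.mem_centralizer_iff.mp hFz x hx))
      exact Subgroup.mem_centralizer_iff.mpr fun x hx => Subgroup.mem_centralizer_singleton_iff.mp (hle hx)
    rw [CfsgLib.Components.centralizer_fstar_eq] at h
    exact h
  have hcoc : ∀ g h : G, z (g * h) = h⁻¹ * z g * h * z h := fun g h => by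
    simp only [z, map_mul]; group
  have hzT : ∀ t ∈ (T : Subgroup G), z t = 1 := fun t ht => by simp [z, hfixT t ht]
  let w : G ⧸ (T : Subgroup G) → ↥A := Quotient.lift (fun g => (⟨z g⁻¹, hz _⟩ : ↥A)) (fun a b hab => by
    have h : a⁻¹ * b ∈ (T : Subgroup G) := QuotientGroup.leftRel_apply.mp hab
    apply Subtype.ext
    change z a⁻¹ = z b⁻¹
    rw [show a⁻¹ = (a⁻¹ * b) * b⁻¹ by group, hcoc, hzT _ h, mul_one, inv_mul_cancel, one_mul])
  haveI : Fintype (G ⧸ (T : Subgroup G)) := Fintype.ofFinite _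
  set a : ↥A := ∏ c, w c with ha
  set m := Fintype.card (G ⧸ (T : Subgroup G)) with hm
  have hcopr : (Nat.card ↥A).Coprime m := by
    obtain ⟨k, hk⟩ := IsPGroup.iff_card.mp (((CfsgLib.Base.isPGroup_pCore p G)).to_le ((inf_le_left : A ≤ F).trans hFp.le))
    rw [hk, hm, ← Nat.card_eq_fintype_card, ← Subgroup.index_eq_card]
    exact (((Fact.out : p.Prime).coprime_iff_not_dvd).mpr T.not_dvd_index).pow_left k
  set b : ↥A := (powCoprime hcopr).symm a with hb
  have hbm : b ^ m = a := by
    rw [hb]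
    exact (powCoprime hcopr).apply_symm_apply a
  refine ⟨(b : G)⁻¹, fun h => ?_⟩
  let cj : ↥A →* ↥A := MonoidHom.mk' (fun x => ⟨h⁻¹ * (x : G) * h, by simpa using hAn.conj_mem _ x.2 h⁻¹⟩)
    (fun x y => Subtype.ext (by simp only [Subgroup.coe_mul]; group))
  have hw : ∀ c : G ⧸ (T : Subgroup G), w (h⁻¹ • c) = cj (w c) * ⟨z h, hz h⟩ := by
    intro c
    obtain ⟨g, rfl⟩ := QuotientGroup.mk_surjective c
    apply Subtype.ext
    change z (h⁻¹ * g)⁻¹ = h⁻¹ * z g⁻¹ * h * z h
    rw [mul_inv_rev, inv_inv, hcoc]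
  have hprod : a = cj a * (⟨z h, hz h⟩ : ↥A) ^ m := by
    calc a = ∏ c, w (h⁻¹ • c) := (Equiv.prod_comp (MulAction.toPerm (h⁻¹ : G)) w).symm
      _ = ∏ c, (cj (w c) * ⟨z h, hz h⟩) := Finset.prod_congr rfl fun c _ => hw c
      _ = cj a * (⟨z h, hz h⟩ : ↥A) ^ m := by
          rw [Finset.prod_mul_distrib, ha, map_prod, Finset.prod_const, Finset.card_univ]
  have hb' : b = cj b * ⟨z h, hz h⟩ := by
    refine (powCoprime hcopr).injective ?_
    change b ^ m = (cj b * ⟨z h, hz h⟩) ^ m
    rw [mul_pow, hbm, ← map_pow cj b m, hbm]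
    exact hprod
  have h1 : (b : G) = h⁻¹ * (b : G) * h * z h := congrArg Subtype.val hb'
  calc α h = h * z h := by simp [z]
    _ = (b : G)⁻¹ * h * (h⁻¹ * (b : G) * h * z h) := by group
    _ = (b : G)⁻¹ * h * ((b : G)⁻¹)⁻¹ := by rw [← h1, inv_inv]

end Cfsg.Agent.S1941
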