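import Cfsg.Statements.S1944
import Mathlib
import Cfsg.Agent.Lib.Techniques.Averaging
import Cfsg.Agent.Lib.LocalEven.PReduced2
import Cfsg.Agent.Lib.Base.Cores

set_option autoImplicit false
open Cfsg
open scoped Pointwise commutatorElement

namespace Cfsg.Agent.S1944

/-- Let S be a Sylow p-subgroup of the finite group G and suppose that the centre Z(S) lies in O_{p',p}(G). The elements of S each of which is its only G-conjugate in S form a subgroup W of Z(S); W is then a direct factor of Z(S): there is a subgroup K of Z(S) with W ∩ K = 1 and WK = Z(S). -/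
theorem result {G : Type*} [Group G] [Finite G] {p : ℕ} [Fact p.Prime] (S : Sylow p G)
    (hZ : ((S : Subgroup G) ⊓ Subgroup.centralizer ((S : Subgroup G) : Set G)) ≤ Cfsg.pPrimePCore p G) :
    ∃ W K : Subgroup G, (∀ x : G, x ∈ W ↔ (x ∈ (S : Subgroup G) ∧ ∀ g : G, g * x * g⁻¹ ∈ (S : Subgroup G) → g * x * g⁻¹ = x)) ∧
      K ≤ ((S : Subgroup G) ⊓ Subgroup.centralizer ((S : Subgroup G) : Set G)) ∧ W ⊓ K = ⊥ ∧ W ⊔ K = ((S : Subgroup G) ⊓ Subgroup.centralizer ((S : Subgroup G) : Set G)) := by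
  classical
  have hp : p.Prime := Fact.out
  set O := Cfsg.pPrimeCore p G with hO
  set M := Cfsg.pPrimePCore p G with hM
  haveI : M.Normal := by rw [hM]; unfold Cfsg.pPrimePCore; infer_instance
  set H : Subgroup G := (S : Subgroup G) ⊓ M with hH
  set N := Subgroup.normalizer (H : Set G) with hN
  set Z := (S : Subgroup G) ⊓ Subgroup.centralizer ((S : Subgroup G) : Set G) with hZdef
  have hOM : O ≤ M := CfsgLib.Base.pPrimeCore_le_pPrimePCore p G
  have hSN : (S : Subgroup G) ≤ N := by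
    intro s hs
    rw [hN, Subgroup.mem_normalizer_iff]
    intro x
    simp only [hH, SetLike.mem_coe, Subgroup.mem_inf]
    constructor
    · exact fun hx => ⟨mul_mem (mul_mem hs hx.1) (inv_mem hs), Subgroup.Normal.conj_mem ‹_› x hx.2 s⟩
    · intro hx
      have h1 := mul_mem (mul_mem (inv_mem hs) hx.1) hs
      have h2 := Subgroup.Normal.conj_mem ‹M.Normal› _ hx.2 s⁻¹
      simp [mul_assoc] at h1 h2
      exact ⟨h1, h2⟩
  have hMsup : M ≤ (S : Subgroup G) ⊔ O := by
    have h1 := Subgroup.comap_mono (f := QuotientGroup.mk' O) (CfsgLib.Base.pCore_le_sylow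
      (Sylow.mapSurjective (QuotientGroup.mk'_surjective O) S))
    rw [Sylow.coe_mapSurjective, Subgroup.comap_map_eq, QuotientGroup.ker_mk'] at h1
    exact h1
  have hfac : ∀ g : G, ∃ o ∈ O, ∃ n ∈ N, g = o * n := by
    intro g
    obtain ⟨a, ha, c, hc, rfl⟩ := CfsgLib.LocalEven.exists_frattini_factor S (N := ⊤) (C := M) le_top le_top
      (by rw [Subgroup.normalizer_eq_top]) (Subgroup.mem_top g)
    have hc' := hMsup hc
    rw [Subgroup.mem_sup_of_normal_right] at hc'
    obtain ⟨s, hs, o, ho, rfl⟩ := hc'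
    refine ⟨(a * s) * o * (a * s)⁻¹, Subgroup.Normal.conj_mem inferInstance o ho _, a * s,
      mul_mem ha.2 (hSN hs), by group⟩
  have hZH : Z ≤ H := fun x hx => ⟨hx.1, hZ hx⟩
  set W := Z ⊓ Subgroup.centralizer (N : Set G) with hWdef
  have hW : ∀ x : G, x ∈ W ↔ (x ∈ (S : Subgroup G) ∧
      ∀ g : G, g * x * g⁻¹ ∈ (S : Subgroup G) → g * x * g⁻¹ = x) := by
    intro x
    constructor
    · rintro ⟨hxZ, hxN⟩
      refine ⟨hxZ.1, fun g hg => ?_⟩
      obtain ⟨o, ho, n, hn, rfl⟩ := hfac g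
      have hnx : n * x * n⁻¹ = x := by rw [hxN n hn]; group
      have e : o * n * x * (o * n)⁻¹ = o * x * o⁻¹ := by
        calc o * n * x * (o * n)⁻¹ = o * (n * x * n⁻¹) * o⁻¹ := by group
          _ = _ := by rw [hnx]
      rw [e] at hg ⊢
      have h1 : x⁻¹ * (o * x * o⁻¹) ∈ O := by
        have h2 := Subgroup.Normal.conj_mem (inferInstance : O.Normal) o ho x⁻¹
        have := mul_mem h2 (inv_mem ho)
        simpa [mul_assoc] using this
      have h2 : x⁻¹ * (o * x * o⁻¹) ∈ (S : Subgroup G) ⊓ O := ⟨(S : Subgroup G).mul_mem ((S : Subgroup G).inv_mem hxZ.1) hg, h1⟩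
      rw [CfsgLib.Base.inf_eq_bot_of_isPGroup_of_coprime S.isPGroup'
        (CfsgLib.Base.pPrimeCore_coprime p G), Subgroup.mem_bot] at h2
      exact (inv_mul_eq_one.1 h2).symm
    · rintro ⟨hxS, hx⟩
      have hxZ : x ∈ Z := ⟨hxS, fun s hs => by
        have := hx s (mul_mem (mul_mem hs hxS) (inv_mem hs))
        rwa [mul_inv_eq_iff_eq_mul] at this⟩
      refine ⟨hxZ, fun n hn => ?_⟩
      have h1 : n * x * n⁻¹ ∈ H := (Subgroup.mem_normalizer_iff.1 hn x).1 (hZH hxZ)
      have := hx n h1.1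
      rwa [mul_inv_eq_iff_eq_mul] at this
  set A := H ⊓ Subgroup.centralizer (H : Set G) with hA
  let iA : CommGroup A := { (inferInstance : Group A) with
    mul_comm := fun a b => Subtype.ext ((b.2.2 a.1 a.2.1)) }
  have hAN : ∀ n ∈ N, ∀ a ∈ A, n * a * n⁻¹ ∈ A := by
    rintro n hn a ⟨ha, hac⟩
    refine ⟨(Subgroup.mem_normalizer_iff.1 hn a).1 ha, fun h hh => ?_⟩
    have h1 : n⁻¹ * h * n ∈ H := by
      have := (Subgroup.mem_normalizer_iff.1 (inv_mem hn) h).1 hh
      simpa using this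
    have h2 := hac _ h1
    calc h * (n * a * n⁻¹) = n * ((n⁻¹ * h * n) * a) * n⁻¹ := by group
      _ = n * (a * (n⁻¹ * h * n)) * n⁻¹ := by rw [h2]
      _ = _ := by group
  let iM : MulDistribMulAction N A :=
    { smul := fun n a => ⟨(n : G) * a * (n : G)⁻¹, hAN n n.2 a a.2⟩
      one_smul := fun a => Subtype.ext (by
        show ((1 : N) : G) * a * ((1 : N) : G)⁻¹ = _
        simp)
      mul_smul := fun m n a => Subtype.ext (by
        show ((m * n : N) : G) * a * ((m * n : N) : G)⁻¹ = (m : G) * ((n : G) * a * (n : G)⁻¹) * (m : G)⁻¹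
        push_cast; group)
      smul_one := fun n => Subtype.ext (by
        show (n : G) * ((1 : A) : G) * (n : G)⁻¹ = _
        simp)
      smul_mul := fun n a b => Subtype.ext (by
        show (n : G) * ((a * b : A) : G) * (n : G)⁻¹ = (n : G) * a * (n : G)⁻¹ * ((n : G) * b * (n : G)⁻¹)
        push_cast; group) }
  have hsm : ∀ (n : N) (a : A), ((n • a : A) : G) = (n : G) * a * (n : G)⁻¹ := fun _ _ => rfl
  set T := (S : Subgroup G).subgroupOf N with hT
  have hm : (Nat.card A).Coprime T.index := by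
    have hpA : IsPGroup p A := S.isPGroup'.to_le (fun x hx => hx.1.1)
    obtain ⟨k, hk⟩ := hpA.exists_card_eq
    rw [hk]
    refine Nat.Coprime.pow_left _ ((Nat.Prime.coprime_iff_not_dvd hp).2 ?_)
    exact fun hd => S.not_dvd_index (hd.trans (Subgroup.relIndex_dvd_index_of_le hSN))
  set F := FixedPoints.subgroup ↥T A with hF
  have hZA : Z ≤ A := fun x hx => ⟨hZH hx, fun h hh => hx.2 h hh.1⟩
  have hZF : ∀ x : A, x ∈ F ↔ (x : G) ∈ Z := by
    intro x
    constructor
    · intro hx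
      refine ⟨x.2.1.1, fun s hs => ?_⟩
      have := congrArg Subtype.val (hx (⟨⟨s, hSN hs⟩, Subgroup.mem_subgroupOf.2 hs⟩ : T))
      change s * (x : G) * s⁻¹ = x at this
      rwa [mul_inv_eq_iff_eq_mul] at this
    · rintro hx ⟨n, hn⟩
      refine Subtype.ext ?_
      change (n : G) * x * (n : G)⁻¹ = x
      rw [hx.2 n (Subgroup.mem_subgroupOf.1 hn)]; group
  refine ⟨W, ((MonoidHom.ker (CfsgLib.Techniques.avg (L := N) (M := A) T)).map F.subtype).map A.subtype, hW, ?_, ?_, ?_⟩
  · rintro _ ⟨_, ⟨c, -, rfl⟩, rfl⟩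
    exact (hZF _).1 c.2
  · rw [eq_bot_iff]
    rintro _ ⟨hw, _, ⟨c, hc, rfl⟩, rfl⟩
    have hfix : ∀ l : N, l • (c : A) = c := fun l => Subtype.ext (by
      rw [hsm]
      have := hw.2 l l.2
      change (l : G) * ((c : A) : G) = ((c : A) : G) * l at this
      rw [this]; group)
    have h1 : (c : A) ^ T.index = 1 := by
      rw [← CfsgLib.Techniques.avg_eq_pow T c hfix]; exact hc
    have h2 : (c : A) = 1 := (powCoprime hm).injective (by simpa using h1)
    simp [h2]
  · refine le_antisymm (sup_le inf_le_left ?_) ?_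
    · rintro _ ⟨_, ⟨c, -, rfl⟩, rfl⟩
      exact (hZF _).1 c.2
    intro x hx
    set c : F := ⟨⟨x, hZA hx⟩, (hZF ⟨x, hZA hx⟩).2 hx⟩ with hc
    set b : A := (powCoprime hm).symm ((CfsgLib.Techniques.avg (L := N) (M := A) T) c) with hb
    have hbm : b ^ T.index = (CfsgLib.Techniques.avg (L := N) (M := A) T) c := (powCoprime hm).apply_symm_apply ((CfsgLib.Techniques.avg (L := N) (M := A) T) c)
    have hbfix : ∀ l : N, l • b = b := by
      intro l
      refine (powCoprime hm).injective ?_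
      show (l • b) ^ T.index = b ^ T.index
      rw [← smul_pow', hbm]
      exact CfsgLib.Techniques.smul_avg T c l
    set b' : F := ⟨b, fun t => hbfix t⟩ with hb'
    have hbW : (b : G) ∈ W := ⟨(hZF b).1 b'.2, fun n hn => by
      have := congrArg Subtype.val (hbfix ⟨n, hn⟩)
      rw [hsm] at this
      rwa [mul_inv_eq_iff_eq_mul] at this⟩
    have hk : b'⁻¹ * c ∈ MonoidHom.ker (CfsgLib.Techniques.avg (L := N) (M := A) T) := by
      rw [MonoidHom.mem_ker, map_mul, map_inv, CfsgLib.Techniques.avg_eq_pow T b' hbfix]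
      show (b ^ T.index)⁻¹ * (CfsgLib.Techniques.avg (L := N) (M := A) T) c = 1
      rw [hbm, inv_mul_cancel]
    have e : x = (b : G) * (((b'⁻¹ * c : F) : A) : G) := by
      simp [hb', hc]
    rw [e]
    exact Subgroup.mul_mem_sup hbW ⟨_, ⟨_, hk, rfl⟩, rfl⟩

end Cfsg.Agent.S1944
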