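import Cfsg.Statements.S1945
import Cfsg.Agent.S1944
import Cfsg.Agent.Lib.LocalEven.WeakClosure
import Cfsg.Agent.Lib.Base.MinimalNormal
import Cfsg.Agent.Lib.Fusion.FunctorZJ

set_option autoImplicit false
open Cfsg

namespace Cfsg.Agent.S1945

/-- Let S be a Sylow p-subgroup of the finite group G, and assume that p is odd or that G is solvable. The elements of S each of which is its only G-conjugate in S form a subgroup W of Z(S); W is then a direct factor of Z(S): there is a subgroup K of Z(S) with W ∩ K = 1 and WK = Z(S). (For p = 2 and G not solvable this can fail.) -/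
theorem result {G : Type*} [Group G] [Finite G] {p : ℕ} [Fact p.Prime] (S : Sylow p G) (h : p ≠ 2 ∨ Group.IsSolvable G) :
    ∃ W K : Subgroup G, (∀ x : G, x ∈ W ↔ (x ∈ (S : Subgroup G) ∧ ∀ g : G, g * x * g⁻¹ ∈ (S : Subgroup G) → g * x * g⁻¹ = x)) ∧
      K ≤ ((S : Subgroup G) ⊓ Subgroup.centralizer ((S : Subgroup G) : Set G)) ∧ W ⊓ K = ⊥ ∧ W ⊔ K = ((S : Subgroup G) ⊓ Subgroup.centralizer ((S : Subgroup G) : Set G)) := by
  by_cases hp : p = 2
  · have hsol : Group.IsSolvable G := h.resolve_left (fun h' => h' hp)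
    refine Cfsg.Agent.S1944.result S fun x hx => ?_
    have hc := CfsgLib.Base.centralizer_pCore_le_of_isSolvable (p := p)
      (CfsgLib.Base.pPrimeCore_quotient_pPrimeCore p G)
    refine Subgroup.mem_comap.2 (hc fun y hy => ?_)
    have hy' := CfsgLib.Base.pCore_le_sylow
      (Sylow.mapSurjective (QuotientGroup.mk'_surjective (Cfsg.pPrimeCore p G)) S) hy
    rw [Sylow.coe_mapSurjective] at hy'
    obtain ⟨s, hs, rfl⟩ := hy'
    rw [← map_mul, ← map_mul, hx.2 s hs]
  · set P : Subgroup G := (S : Subgroup G) with hP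
    set J := CfsgLib.LocalEven.jAb P with hJ
    set N := Subgroup.normalizer (J : Set G) with hN
    set Z := P ⊓ Subgroup.centralizer (P : Set G) with hZdef
    have hJP : J ≤ P := by
      rw [hJ, ← CfsgLib.LocalEven.thompsonSubgroupAOf_eq_jAb]; exact Subgroup.map_subtype_le _
    have hPN : P ≤ N := by
      rw [hN, hJ, ← CfsgLib.LocalEven.thompsonSubgroupAOf_eq_jAb]
      intro s hs
      have hinj : Function.Injective (MulAut.conj s).toMonoidHom := (MulAut.conj s).injective
      have e : P.map (MulAut.conj s).toMonoidHom = P :=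
        Subgroup.mem_normalizer_iff_map_conj_eq.1 (Subgroup.le_normalizer hs)
      rw [Subgroup.mem_normalizer_iff_map_conj_eq]
      exact (CfsgLib.Fusion.map_jAOf hinj P).trans (by rw [e])
    have hZJ : Z ≤ J := fun x hx => CfsgLib.LocalEven.mem_jAb_of_le_centralizer hx.1 fun y hy =>
      Subgroup.mem_centralizer_singleton_iff.2 (hx.2 y hy)
    set T := S.subtype hPN with hT
    have hTP : (T : Subgroup N).map N.subtype = P := by
      rw [hT, Sylow.coe_subtype, Subgroup.map_subgroupOf_eq_of_le hPN]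
    have hJcore : J.subgroupOf N ≤ Cfsg.pPrimePCore p N := by
      haveI : (J.subgroupOf N).Normal :=
        (Subgroup.normal_subgroupOf_iff_le_normalizer Subgroup.le_normalizer).2 le_rfl
      intro x hx
      refine Subgroup.mem_comap.2 (CfsgLib.Base.le_pCore (N := (J.subgroupOf N).map
        (QuotientGroup.mk' (Cfsg.pPrimeCore p N))) ?_ (Subgroup.mem_map_of_mem _ hx))
      exact ((S.isPGroup'.to_le hJP).comap_subtype).map _
    obtain ⟨W, K, hW, hK, hWK, hWK'⟩ := Cfsg.Agent.S1944.result T fun x hx => hJcore (by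
      refine Subgroup.mem_subgroupOf.2 (hZJ ⟨Subgroup.mem_subgroupOf.1 hx.1, fun y hy => ?_⟩)
      exact congrArg Subtype.val (hx.2 ⟨y, hPN hy⟩ hy))
    have hinj := N.subtype_injective
    have hmapZ : ((T : Subgroup N) ⊓ Subgroup.centralizer ((T : Subgroup N) : Set N)).map N.subtype
        = Z := by
      ext x
      constructor
      · rintro ⟨y, hy, rfl⟩
        exact ⟨hy.1, fun s hs => congrArg Subtype.val (hy.2 ⟨s, hPN hs⟩ hs)⟩
      · rintro ⟨hx, hxc⟩
        exact ⟨⟨x, hPN hx⟩, ⟨hx, fun s hs => Subtype.ext (hxc s hs)⟩, rfl⟩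
    refine ⟨W.map N.subtype, K.map N.subtype, fun x => ⟨?_, ?_⟩, hmapZ ▸ Subgroup.map_mono hK, ?_, ?_⟩
    · rintro ⟨w, hw, rfl⟩
      obtain ⟨hwP, hwc⟩ := (hW w).1 hw
      refine ⟨hwP, CfsgLib.LocalEven.weaklyClosed_of_jAb S hwP (fun n hn => ?_) (Or.inl hp)⟩
      rw [Subgroup.mem_centralizer_singleton_iff]
      have hwZ : (w : G) ∈ Z := by
        rw [← hmapZ]
        exact ⟨w, hWK' ▸ Subgroup.mem_sup_left hw, rfl⟩
      have h1 : n * (w : G) * n⁻¹ ∈ P :=
        hJP ((Subgroup.mem_normalizer_iff.1 hn _).1 (hZJ hwZ))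
      have h2 := congrArg Subtype.val (hwc ⟨n, hn⟩ h1)
      change n * (w : G) * n⁻¹ = w at h2
      rw [mul_inv_eq_iff_eq_mul] at h2
      exact h2
    · rintro ⟨hx, hxc⟩
      refine ⟨⟨x, hPN hx⟩, (hW _).2 ⟨hx, fun g hg => Subtype.ext (hxc g hg)⟩, rfl⟩
    · rw [← Subgroup.map_inf _ _ _ hinj, hWK, Subgroup.map_bot]
    · rw [← Subgroup.map_sup, hWK', hmapZ]

end Cfsg.Agent.S1945
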