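import Cfsg.Statements.S1946
import Mathlib
import Cfsg.Agent.Lib.Transfer.Alperin
import Cfsg.Agent.Lib.OddOrder.OmegaFixed
import Cfsg.Agent.Lib.PGroups.Basic
import Cfsg.Agent.Lib.Base.Cores

set_option autoImplicit false
open Cfsg
open scoped Pointwise commutatorElement

namespace Cfsg.Agent.S1946

/-- Let P be a Sylow p-subgroup of the finite group G. Then G has a normal p-complement if and only if P controls the fusion of its elements of order dividing p (dividing 4 when p = 2): whenever such an element a of P has a G-conjugate g a g⁻¹ in P, that conjugate is already x a x⁻¹ for some x in P. -/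
theorem result {G : Type*} [Group G] [Finite G] {p : ℕ} [Fact p.Prime] (P : Sylow p G) :
    Cfsg.HasNormalPComplement p G ↔
      ∀ a ∈ (P : Subgroup G), (a ^ p = 1 ∨ (p = 2 ∧ a ^ 4 = 1)) → ∀ g : G, g * a * g⁻¹ ∈ (P : Subgroup G) →
        ∃ x ∈ (P : Subgroup G), g * a * g⁻¹ = x * a * x⁻¹ := by
  classical
  constructor
  · intro h a ha _ g hg
    have hn := CfsgLib.Transfer.pResidual_normal (G := G) (p := p)
    have hmem : g ∈ (P : Subgroup G) ⊔ Cfsg.pResidual p G := by
      rw [CfsgLib.Transfer.sup_pResidual_eq_top P]; exact Subgroup.mem_top g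
    rw [Subgroup.mem_sup_of_normal_right] at hmem
    obtain ⟨x, hx, n, hn', rfl⟩ := hmem
    refine ⟨x, hx, ?_⟩
    have h1 : n * a * n⁻¹ ∈ (P : Subgroup G) := by
      rw [show n * a * n⁻¹ = x⁻¹ * (x * n * a * (x * n)⁻¹) * x by group]
      exact (P : Subgroup G).mul_mem ((P : Subgroup G).mul_mem ((P : Subgroup G).inv_mem hx) hg) hx
    have h2 : n * a * n⁻¹ * a⁻¹ ∈ (P : Subgroup G) ⊓ Cfsg.pResidual p G := by
      refine Subgroup.mem_inf.mpr ⟨(P : Subgroup G).mul_mem h1 ((P : Subgroup G).inv_mem ha), ?_⟩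
      rw [show n * a * n⁻¹ * a⁻¹ = n * (a * n⁻¹ * a⁻¹) by group]
      exact (Cfsg.pResidual p G).mul_mem hn' (hn.conj_mem _ ((Cfsg.pResidual p G).inv_mem hn') a)
    rw [(CfsgLib.Transfer.hasNormalPComplement_iff_inf_eq_bot P).mp h, Subgroup.mem_bot, mul_inv_eq_one] at h2
    calc x * n * a * (x * n)⁻¹ = x * (n * a * n⁻¹) * x⁻¹ := by group
      _ = x * a * x⁻¹ := by rw [h2]
  intro hfus
  rw [CfsgLib.Transfer.hasNormalPComplement_iff_forall_centralizing P]
  intro Q hQ g hg hcop
  -- coprime trick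
  have fix1 : ∀ a : G, ∀ c : G, g * a * g⁻¹ = a * c → g * c * g⁻¹ = c → (∃ k : ℕ, c ^ p ^ k = 1) →
      g * a * g⁻¹ = a := by
    intro a c hac hc hk
    obtain ⟨k, hk⟩ := hk
    have hn : ∀ m : ℕ, g ^ m * a * (g ^ m)⁻¹ = a * c ^ m := by
      intro m
      induction m with
      | zero => simp
      | succ m ih =>
        have hgc : g * c ^ m * g⁻¹ = c ^ m := by rw [← conj_pow, hc]
        calc g ^ (m + 1) * a * (g ^ (m + 1))⁻¹ = g * (g ^ m * a * (g ^ m)⁻¹) * g⁻¹ := by
              rw [pow_succ']; group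
          _ = (g * a * g⁻¹) * (g * c ^ m * g⁻¹) := by rw [ih]; group
          _ = a * c ^ (m + 1) := by rw [hac, hgc, pow_succ', mul_assoc]
    have h1 := hn (orderOf g)
    rw [pow_orderOf_eq_one, one_mul, inv_one, mul_one, left_eq_mul] at h1
    have h2 : c = 1 := orderOf_eq_one_iff.mp (Nat.eq_one_of_dvd_coprimes (hcop.pow_right k)
      (orderOf_dvd_of_pow_eq_one h1) (orderOf_dvd_of_pow_eq_one hk))
    rw [hac, h2, mul_one]
  -- fixing the small elements forces centralising
  have fixall : ∀ T : Subgroup G, IsPGroup p ↥T → (∀ t ∈ T, g * t * g⁻¹ ∈ T) →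
      (∀ x ∈ T, (x ^ p = 1 ∨ (p = 2 ∧ x ^ 4 = 1)) → g * x * g⁻¹ = x) → ∀ x ∈ T, g * x * g⁻¹ = x := by
    intro T hT hinv hsmall
    have hgT : g ∈ Subgroup.normalizer (T : Set G) := by
      rw [Subgroup.mem_normalizer_iff_map_conj_eq]
      refine Subgroup.eq_of_le_of_card_ge ?_ (le_of_eq (Subgroup.card_map_of_injective (MulEquiv.injective _)).symm)
      rintro _ ⟨t, ht, rfl⟩
      exact hinv t ht
    by_cases hp2 : p = 2
    swap
    · intro x hx
      have hQc : (Nat.card ↥(Subgroup.zpowers g)).Coprime p := by rwa [Nat.card_zpowers]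
      have h := CfsgLib.OddOrder.le_centralizer_of_fix_order_prime hp2 T (Subgroup.zpowers g) hT hQc
        (Subgroup.zpowers_le.mpr hgT) (fun y hy hyp q hq => by
          obtain ⟨m, rfl⟩ := Subgroup.mem_zpowers_iff.mp hq
          exact Commute.zpow_left (mul_inv_eq_iff_eq_mul.mp (hsmall y hy (Or.inl hyp))) m)
      have h' := Subgroup.mem_centralizer_iff.mp (h (Subgroup.mem_zpowers g)) x hx
      rw [← h', mul_inv_cancel_right]
    clear hgT
    suffices main : ∀ n : ℕ, ∀ U : Subgroup G, Nat.card ↥U ≤ n → U ≤ T → (∀ t ∈ U, g * t * g⁻¹ ∈ U) →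
        ∀ x ∈ U, g * x * g⁻¹ = x from fun x hx => main _ T le_rfl le_rfl hinv x hx
    intro n
    induction n using Nat.strong_induction_on with
    | _ n ih =>
    intro U hUn hUT hUinv
    rcases eq_or_ne U ⊥ with rfl | hU1
    · intro x hx; rw [Subgroup.mem_bot.mp hx]; group
    subst hp2
    have hUp : IsPGroup 2 ↥U := hT.to_le hUT
    haveI : Nontrivial ↥U := (Subgroup.nontrivial_iff_ne_bot U).mpr hU1
    set F := (frattini ↥U).map U.subtype with hF
    have hFU : F ≤ U := Subgroup.map_subtype_le _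
    have hFlt : Nat.card ↥F < Nat.card ↥U := by
      rw [hF, Subgroup.card_map_of_injective (Subgroup.subtype_injective U)]
      by_contra hle
      exact CfsgLib.PGroups.frattini_ne_top (G := ↥U)
        (Subgroup.eq_top_of_card_eq _ (le_antisymm (Subgroup.card_le_card_group _) (not_lt.mp hle)))
    have hgU : g ∈ Subgroup.normalizer (U : Set G) := by
      rw [Subgroup.mem_normalizer_iff_map_conj_eq]
      refine Subgroup.eq_of_le_of_card_ge ?_ (le_of_eq (Subgroup.card_map_of_injective (MulEquiv.injective _)).symm)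
      rintro _ ⟨t, ht, rfl⟩
      exact hUinv t ht
    have hFinv : ∀ t ∈ F, g * t * g⁻¹ ∈ F := fun t ht =>
      (Subgroup.mem_normalizer_iff.mp (CfsgLib.Base.normalizer_le_normalizer_map_subtype U (frattini ↥U) hgU) t).mp ht
    have hFfix : ∀ t ∈ F, g * t * g⁻¹ = t := ih _ (by omega) F le_rfl (hFU.trans hUT) hFinv
    have hsq : ∀ x ∈ U, x * x ∈ F := fun x hx =>
      ⟨⟨x, hx⟩ ^ 2, CfsgLib.PGroups.pow_mem_frattini hUp _, by simp [pow_two]⟩
    have hcm : ∀ x ∈ U, ∀ y ∈ U, x * y * x⁻¹ * y⁻¹ ∈ F := fun x hx y hy =>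
      ⟨⁅(⟨x, hx⟩ : ↥U), ⟨y, hy⟩⁆, CfsgLib.PGroups.commutator_le_frattini hUp
        (Subgroup.commutator_mem_commutator (Subgroup.mem_top _) (Subgroup.mem_top _)), by simp [commutatorElement_def]⟩
    have hFn : ∀ t ∈ U, ∀ f ∈ F, t * f * t⁻¹ ∈ F := fun t ht f hf =>
      (Subgroup.mem_normalizer_iff.mp
        (CfsgLib.Base.normalizer_le_normalizer_map_subtype U (frattini ↥U) (Subgroup.le_normalizer ht)) f).mp hf
    -- commutators with `g` centralise `F`
    have hcF : ∀ t ∈ U, ∀ f ∈ F, (t⁻¹ * (g * t * g⁻¹)) * f = f * (t⁻¹ * (g * t * g⁻¹)) := by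
      intro t ht f hf
      have h1 := hFfix _ (hFn t ht f hf)
      have h2 := hFfix f hf
      have h3 : (g * t * g⁻¹) * f * (g * t * g⁻¹)⁻¹ = t * f * t⁻¹ := by
        calc (g * t * g⁻¹) * f * (g * t * g⁻¹)⁻¹ = (g * t * g⁻¹) * (g * f * g⁻¹) * (g * t * g⁻¹)⁻¹ := by rw [h2]
          _ = g * (t * f * t⁻¹) * g⁻¹ := by group
          _ = t * f * t⁻¹ := h1
      calc (t⁻¹ * (g * t * g⁻¹)) * f = t⁻¹ * ((g * t * g⁻¹) * f * (g * t * g⁻¹)⁻¹) * (g * t * g⁻¹) := by group
        _ = t⁻¹ * (t * f * t⁻¹) * (g * t * g⁻¹) := by rw [h3]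
        _ = _ := by group
    have hpk : ∀ c ∈ U, ∃ k : ℕ, c ^ 2 ^ k = 1 := fun c hc => by
      obtain ⟨k, hk⟩ := hUp ⟨c, hc⟩
      exact ⟨k, congrArg Subtype.val hk⟩
    intro x hx
    set c := x⁻¹ * (g * x * g⁻¹) with hc
    have hcU : c ∈ U := U.mul_mem (U.inv_mem hx) (hUinv x hx)
    set e := g * c * g⁻¹ with he
    have heU : e ∈ U := hUinv c hcU
    have hcc : ∀ f ∈ F, Commute c f := fun f hf => hcF x hx f hf
    have hec : ∀ f ∈ F, Commute e f := by
      intro f hf
      have h1 := hFfix f hf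
      calc e * f = e * (g * f * g⁻¹) := by rw [h1]
        _ = g * (c * f) * g⁻¹ := by rw [he]; group
        _ = g * (f * c) * g⁻¹ := by rw [(hcc f hf).eq]
        _ = (g * f * g⁻¹) * e := by rw [he]; group
        _ = f * e := by rw [h1]
    set k := c * e * c⁻¹ * e⁻¹ with hk
    have hkF : k ∈ F := hcm c hcU e heU
    have he2 : e * e = c * c := by
      calc e * e = g * (c * c) * g⁻¹ := by rw [he]; group
        _ = c * c := hFfix _ (hsq c hcU)
    have hce : c * e = k * (e * c) := by rw [hk]; group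
    have hk2 : k * k = 1 := by
      have h1 : c * (c * e) = c * c * e := (mul_assoc c c e).symm
      have h2 : c * c * e = e * (c * c) := (hec _ (hsq c hcU)).eq.symm
      have h3 : c * (c * e) = k * k * (e * (c * c)) := by
        calc c * (c * e) = (c * k) * (e * c) := by rw [hce]; group
          _ = k * c * (e * c) := by rw [(hcc k hkF).eq]
          _ = k * (c * e) * c := by group
          _ = k * k * (e * (c * c)) := by rw [hce]; group
      rw [h1, h2, eq_comm, mul_eq_right] at h3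
      exact h3
    set d := c⁻¹ * e with hd
    have hd4 : d ^ 4 = 1 := by
      have hd2 : d * d = k⁻¹ := by
        have h5 : c⁻¹ * e = e * c * (c * c)⁻¹ * k := by
          calc c⁻¹ * e = (c * c)⁻¹ * (c * e) := by group
            _ = (c * c)⁻¹ * (k * (e * c)) := by rw [hce]
            _ = (k * (e * c)) * (c * c)⁻¹ := by
                refine (Commute.inv_left ?_).eq
                exact Commute.mul_right ((hcc k hkF).mul_left (hcc k hkF))
                  (Commute.mul_right ((hec _ (hsq c hcU)).symm) ((Commute.refl c).mul_left (Commute.refl c)))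
            _ = e * c * (c * c)⁻¹ * k := by
                exact (((hec k hkF).mul_left (hcc k hkF)).mul_left ((hcc k hkF).mul_left (hcc k hkF)).inv_left).symm.eq.trans rfl |> fun h => by rw [← h]; group
        calc d * d = c⁻¹ * e * (c⁻¹ * e) := by rw [hd]
          _ = c⁻¹ * e * (e * c * (c * c)⁻¹ * k) := by conv_lhs => arg 2; rw [h5]
          _ = c⁻¹ * (e * e) * (c * (c * c)⁻¹) * k := by group
          _ = k := by rw [he2]; group
          _ = k⁻¹ := (inv_eq_of_mul_eq_one_right hk2).symm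
      calc d ^ 4 = (d * d) * (d * d) := by simp only [pow_succ, pow_zero, one_mul, mul_assoc]
        _ = (k * k)⁻¹ := by rw [hd2]; exact (mul_inv_rev k k).symm
        _ = 1 := by rw [hk2, inv_one]
    have hdU : d ∈ U := U.mul_mem (U.inv_mem hcU) heU
    have hdfix := hsmall d (hUT hdU) (Or.inr ⟨rfl, hd4⟩)
    have hcfix : g * c * g⁻¹ = c := fix1 c d (by rw [hd, mul_inv_cancel_left]) hdfix (hpk d hdU)
    exact fix1 x c (by rw [hc, mul_inv_cancel_left]) hcfix (hpk c hcU)
  haveI : Group.IsNilpotent ↥(P : Subgroup G) := P.isPGroup'.isNilpotent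
  let Z : ℕ → Subgroup G := fun i => (Subgroup.upperCentralSeries ↥(P : Subgroup G) i).map (P : Subgroup G).subtype
  have hsm : ∀ i : ℕ, ∀ a ∈ Q, a ∈ Z i → (a ^ p = 1 ∨ (p = 2 ∧ a ^ 4 = 1)) → g * a * g⁻¹ = a := by
    intro i
    induction i with
    | zero =>
      intro a _ ha _
      simp only [Z, Subgroup.upperCentralSeries_zero, Subgroup.map_bot, Subgroup.mem_bot] at ha
      rw [ha]; group
    | succ i ih =>
      intro a haQ ha hsa
      have hgz : ∀ m : ℕ, (g ^ m * a * (g ^ m)⁻¹) * a⁻¹ ∈ Z i ∧ (g ^ m * a * (g ^ m)⁻¹) * a⁻¹ ∈ Q := by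
        intro m
        have hgm : g ^ m * a * (g ^ m)⁻¹ ∈ Q := (Subgroup.mem_normalizer_iff.mp (pow_mem hg m) a).mp haQ
        refine ⟨?_, Q.mul_mem hgm (Q.inv_mem haQ)⟩
        obtain ⟨x, hx, he⟩ := hfus a (hQ haQ) hsa (g ^ m) (hQ hgm)
        obtain ⟨a', ha', rfl⟩ := ha
        have h := (Subgroup.mem_upperCentralSeries_succ_iff.mp ha') ⟨x, hx⟩
        refine ⟨_, (Subgroup.upperCentralSeries ↥(P : Subgroup G) i).inv_mem h, ?_⟩
        rw [he]
        simp [commutatorElement_def, mul_assoc]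
      set D := Subgroup.closure {y | ∃ m : ℕ, y = (g ^ m * a * (g ^ m)⁻¹) * a⁻¹} with hD
      have hDQ : D ≤ Q ⊓ Z i := by
        rw [hD, Subgroup.closure_le]
        rintro _ ⟨m, rfl⟩
        exact Subgroup.mem_inf.mpr ⟨(hgz m).2, (hgz m).1⟩
      have hDinv : ∀ t ∈ D, g * t * g⁻¹ ∈ D := by
        have : D.map (MulAut.conj g).toMonoidHom ≤ D := by
          rw [hD, MonoidHom.map_closure, Subgroup.closure_le]
          rintro _ ⟨_, ⟨m, rfl⟩, rfl⟩
          have e : (MulAut.conj g).toMonoidHom (g ^ m * a * (g ^ m)⁻¹ * a⁻¹) =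
              (g ^ (m + 1) * a * (g ^ (m + 1))⁻¹ * a⁻¹) * (g ^ 1 * a * (g ^ 1)⁻¹ * a⁻¹)⁻¹ := by
            simp only [MulEquiv.coe_toMonoidHom, MulAut.conj_apply, pow_succ', pow_one]; group
          rw [SetLike.mem_coe, e]
          exact Subgroup.mul_mem _ (Subgroup.subset_closure ⟨m + 1, rfl⟩)
            (Subgroup.inv_mem _ (Subgroup.subset_closure ⟨1, rfl⟩))
        exact fun t ht => this ⟨t, ht, rfl⟩
      have hDfix := fixall D (P.isPGroup'.to_le ((hDQ.trans inf_le_left).trans hQ)) hDinv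
        (fun y hy hys => ih y (hDQ hy).1 (hDQ hy).2 hys)
      set c := a⁻¹ * (g * a * g⁻¹) with hc
      have hgc : g * c * g⁻¹ = c := by
        have h1 : (g * a * g⁻¹) * a⁻¹ ∈ D := Subgroup.subset_closure ⟨1, by rw [pow_one]⟩
        have h2 := hDfix _ h1
        -- `c` is the conjugate of this element by `a⁻¹`
        obtain ⟨k, hk⟩ := P.isPGroup' ⟨_, ((hDQ.trans inf_le_left).trans hQ) h1⟩
        have h3 : g * a * g⁻¹ = a := by
          set u := (g * a * g⁻¹) * a⁻¹ with hu
          have hn : ∀ m : ℕ, g ^ m * a * (g ^ m)⁻¹ = u ^ m * a := by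
            intro m
            induction m with
            | zero => simp
            | succ m ihm =>
              have hgu : g * u ^ m * g⁻¹ = u ^ m := by rw [← conj_pow, h2]
              calc g ^ (m + 1) * a * (g ^ (m + 1))⁻¹ = g * (g ^ m * a * (g ^ m)⁻¹) * g⁻¹ := by
                    rw [pow_succ']; group
                _ = (g * u ^ m * g⁻¹) * (g * a * g⁻¹) := by rw [ihm]; group
                _ = u ^ m * (u * a) := by rw [hgu, hu]; group
                _ = u ^ (m + 1) * a := by rw [pow_succ]; exact (mul_assoc _ _ _).symm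
          have h4 := hn (orderOf g)
          rw [pow_orderOf_eq_one, one_mul, inv_one, mul_one, right_eq_mul] at h4
          have h5 : u = 1 := orderOf_eq_one_iff.mp (Nat.eq_one_of_dvd_coprimes (hcop.pow_right k)
            (orderOf_dvd_of_pow_eq_one h4) (orderOf_dvd_of_pow_eq_one (congrArg Subtype.val hk)))
          exact mul_inv_eq_one.mp h5
        rw [hc, h3]; group
      obtain ⟨k, hk⟩ := P.isPGroup' ⟨c, (P : Subgroup G).mul_mem ((P : Subgroup G).inv_mem (hQ haQ))
        (hQ ((Subgroup.mem_normalizer_iff.mp hg a).mp haQ))⟩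
      exact fix1 a c (by rw [hc, mul_inv_cancel_left]) hgc ⟨k, congrArg Subtype.val hk⟩
  obtain ⟨n, hn⟩ := Group.IsNilpotent.nilpotent (G := ↥(P : Subgroup G))
  have hfix := fixall Q (P.isPGroup'.to_le hQ) (fun t ht => (Subgroup.mem_normalizer_iff.mp hg t).mp ht)
    (fun x hx hs => hsm n x hx ⟨⟨x, hQ hx⟩, by rw [hn]; exact Subgroup.mem_top _, rfl⟩ hs)
  exact Subgroup.mem_centralizer_iff.mpr fun x hx => (mul_inv_eq_iff_eq_mul.mp (hfix x hx)).symm

end Cfsg.Agent.S1946
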