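import Cfsg.Statements.S1947
import Cfsg.Agent.Lib.Transfer.Alperin
import Cfsg.Agent.Lib.CoprimeSmall.SmallOrder

set_option autoImplicit false
open Cfsg
open scoped commutatorElement

namespace Cfsg.Agent.S1947

/-- A p-element of the hypercentre commutes with every p'-element. -/
theorem commute_of_mem_upperCentralSeries.{u} {p : ℕ} [hp : Fact p.Prime] (n : ℕ) :
    ∀ {G : Type u} [Group G] (a x : G), a ∈ Subgroup.upperCentralSeries G n →
      (∃ j, a ^ p ^ j = 1) → (∃ k, k ≠ 0 ∧ ¬ p ∣ k ∧ x ^ k = 1) → Commute x a := by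
  induction n with
  | zero =>
    intro G _ a x ha _ _
    rw [Subgroup.upperCentralSeries_zero, Subgroup.mem_bot] at ha
    rw [ha]
    exact Commute.one_right x
  | succ n ih =>
    intro G _ a x ha hj hk
    obtain ⟨j, hj⟩ := hj
    obtain ⟨k, hk0, hkp, hk⟩ := hk
    rw [← Subgroup.comap_upperCentralSeries_quotient_center, Subgroup.mem_comap] at ha
    have h := ih (QuotientGroup.mk' (Subgroup.center G) a) (QuotientGroup.mk' (Subgroup.center G) x) ha
      ⟨j, by rw [← map_pow, hj, map_one]⟩ ⟨k, hk0, hkp, by rw [← map_pow, hk, map_one]⟩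
    have hc : ⁅x, a⁆ ∈ Subgroup.center G := by
      rw [← QuotientGroup.eq_one_iff, ← QuotientGroup.mk'_apply, map_commutatorElement,
        commutatorElement_eq_one_iff_commute]
      exact h
    have h1 : ⁅x, a⁆ ^ p ^ j = 1 := by
      rw [← CfsgLib.PGroups.commutator_pow_right_of_central hc, hj, commutatorElement_one_right]
    have h2 : ⁅x, a⁆ ^ k = 1 := by
      rw [← CfsgLib.PGroups.commutator_pow_left_of_central hc, hk, commutatorElement_one_left]
    rw [← commutatorElement_eq_one_iff_commute, ← orderOf_eq_one_iff]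
    exact Nat.eq_one_of_dvd_coprimes
      ((Nat.Coprime.pow_left j (hp.out.coprime_iff_not_dvd.mpr hkp)))
      (orderOf_dvd_of_pow_eq_one h1) (orderOf_dvd_of_pow_eq_one h2)

/-- Let G be a finite group and p a prime. If every element of G of order dividing p (dividing 4 when p = 2) lies in some fixed term Z_n(G) of the upper central series, then G has a normal p-complement. -/
theorem result {G : Type*} [Group G] [Finite G] {p : ℕ} [Fact p.Prime] (n : ℕ)
    (h : ∀ a : G, (a ^ p = 1 ∨ (p = 2 ∧ a ^ 4 = 1)) → a ∈ Subgroup.upperCentralSeries G n) : Cfsg.HasNormalPComplement p G := by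
  classical
  obtain ⟨P⟩ : Nonempty (Sylow p G) := inferInstance
  rw [CfsgLib.Transfer.hasNormalPComplement_iff_forall_centralizing P]
  intro Q hQ g hg hcop
  have hgp : ¬ p ∣ orderOf g := CfsgLib.Transfer.coprime_orderOf_iff.mp hcop
  have hQp : IsPGroup p Q := P.2.to_le hQ
  rw [Subgroup.mem_centralizer_iff]
  refine fun a ha => ((CfsgLib.CoprimeSmall.commute_of_small_order hgp Q hQp hg
    (fun b hb hb' => ?_) a ha).eq).symm
  obtain ⟨j, hj⟩ := hQp ⟨b, hb⟩
  exact commute_of_mem_upperCentralSeries n b g (h b hb') ⟨j, congrArg Subtype.val hj⟩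
    ⟨orderOf g, (orderOf_pos g).ne', hgp, pow_orderOf_eq_one g⟩

end Cfsg.Agent.S1947
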