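import Cfsg.Statements.S1948
import Mathlib
import Cfsg.Agent.Lib.PLocal.Constrained
import Cfsg.Agent.Lib.PLocal.PSolvable
import Cfsg.Agent.Lib.PLocal.Frattini
import Cfsg.Agent.Lib.Base.Cores

set_option autoImplicit false
open Cfsg
open scoped Pointwise commutatorElement

namespace Cfsg.Agent.S1948

/-- Let S be a Sylow p-subgroup of the finite group G. Then G = N_G(S)·O_{p'}(G) if and only if G is p-constrained and N_G(S) controls fusion in S, in the sense that whenever a subgroup Q of S has a conjugate g Q g⁻¹ inside S, the element g is a product n c with n normalizing S and c centralizing Q. -/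
theorem result {G : Type*} [Group G] [Finite G] {p : ℕ} [Fact p.Prime] (S : Sylow p G) :
    Subgroup.normalizer ((S : Subgroup G) : Set G) ⊔ Cfsg.pPrimeCore p G = ⊤ ↔
      (Cfsg.IsPConstrained p G ∧
        ∀ Q : Subgroup G, Q ≤ (S : Subgroup G) → ∀ g : G, Q.map (MulAut.conj g).toMonoidHom ≤ (S : Subgroup G) →
          ∃ n ∈ Subgroup.normalizer ((S : Subgroup G) : Set G), ∃ c ∈ Subgroup.centralizer (Q : Set G), g = n * c) := by
  classical
  set O := Cfsg.pPrimeCore p G with hOdef
  set N := Subgroup.normalizer ((S : Subgroup G) : Set G) with hN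
  constructor
  · intro h
    refine ⟨?_, ?_⟩
    · -- the image of `S` is normal in the quotient, so the quotient is p-solvable
      rw [CfsgLib.PLocal.isPConstrained_quotient_pPrimeCore]
      refine CfsgLib.PLocal.isPConstrained_of_isPSolvable ?_
      set f := QuotientGroup.mk' O with hf
      haveI : ((S : Subgroup G).map f).Normal := by
        refine Subgroup.normalizer_eq_top_iff.mp ?_
        rw [← CfsgLib.PLocal.map_normalizer_mk' O (CfsgLib.Base.pPrimeCore_coprime p G) S.isPGroup']
        rw [eq_top_iff]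
        intro y _
        obtain ⟨x, rfl⟩ := QuotientGroup.mk'_surjective O y
        have hx : x ∈ N ⊔ O := by rw [h]; exact Subgroup.mem_top x
        rw [Subgroup.mem_sup_of_normal_right] at hx
        obtain ⟨n, hn, o, ho, rfl⟩ := hx
        exact ⟨n, hn, by simp [hf, (QuotientGroup.eq_one_iff o).mpr ho]⟩
      refine CfsgLib.PLocal.isPSolvable_of_normal ((S : Subgroup G).map f)
        (CfsgLib.PLocal.isPSolvable_of_isPGroup (S.isPGroup'.map f))
        (CfsgLib.PLocal.isPSolvable_of_coprime ?_)
      have h1 : ((S : Subgroup G).map f).index ∣ (S : Subgroup G).index :=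
        Subgroup.index_map_dvd _ (QuotientGroup.mk'_surjective O)
      rw [← Subgroup.index_eq_card]
      exact ((Nat.Prime.coprime_iff_not_dvd Fact.out).mpr
        fun hd => S.not_dvd_index (hd.trans h1)).symm
    · intro Q hQ g hg
      have hx : g ∈ N ⊔ O := by rw [h]; exact Subgroup.mem_top g
      rw [Subgroup.mem_sup_of_normal_right] at hx
      obtain ⟨n, hn, o, ho, rfl⟩ := hx
      refine ⟨n, hn, o, Subgroup.mem_centralizer_iff.mpr fun q hq => ?_, rfl⟩
      have h1 : o * q * o⁻¹ ∈ (S : Subgroup G) := by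
        have h2 : n * o * q * (n * o)⁻¹ ∈ (S : Subgroup G) :=
          hg (Subgroup.mem_map.mpr ⟨q, hq, rfl⟩)
        have h3 := (Subgroup.mem_normalizer_iff.mp hn (o * q * o⁻¹))
        refine h3.mpr ?_
        convert h2 using 1
        group
      have h4 : o * q * o⁻¹ * q⁻¹ ∈ (S : Subgroup G) ⊓ O := by
        refine Subgroup.mem_inf.mpr ⟨(S : Subgroup G).mul_mem h1 ((S : Subgroup G).inv_mem (hQ hq)), ?_⟩
        have : o * q * o⁻¹ * q⁻¹ = o * (q * o⁻¹ * q⁻¹) := by group
        rw [this]
        exact O.mul_mem ho (Subgroup.Normal.conj_mem inferInstance _ (O.inv_mem ho) q)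
      rw [CfsgLib.Base.inf_eq_bot_of_isPGroup_of_coprime S.isPGroup'
        (CfsgLib.Base.pPrimeCore_coprime p G), Subgroup.mem_bot, mul_inv_eq_one, mul_inv_eq_iff_eq_mul] at h4
      exact h4.symm
  · rintro ⟨hc, hfus⟩
    haveI := CfsgLib.PLocal.pPrimePCore_normal p G
    set R := Cfsg.pPrimePCore p G with hR
    set Q₀ := (S : Subgroup G) ⊓ R with hQ₀
    have hOR : O ≤ R := CfsgLib.Base.pPrimeCore_le_pPrimePCore p G
    have hRsup : O ⊔ Q₀ = R := by
      obtain ⟨k, hk⟩ := CfsgLib.Base.pCore_eq_pow_card p (G ⧸ O)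
      refine CfsgLib.PLocal.eq_sup_sylow_inf S hOR (k := k) ?_
      rw [← CfsgLib.PLocal.card_map_mk'_eq_relIndex, hR, CfsgLib.PLocal.map_pPrimePCore, hk]
    have hQP : IsPGroup p (Q₀.subgroupOf R) :=
      (S.isPGroup'.to_le inf_le_left).of_equiv (Subgroup.subgroupOfEquivOfLe inf_le_right).symm
    have hnd : ¬ p ∣ (Q₀.subgroupOf R).index := CfsgLib.PLocal.not_dvd_relIndex_sylow_inf S R
    have hcent : Subgroup.centralizer (Q₀ : Set G) ≤ R := by
      have := hc (hQP.toSylow hnd)
      rwa [IsPGroup.toSylow_coe, Subgroup.map_subgroupOf_eq_of_le inf_le_right] at this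
    have hQN : R ≤ N ⊔ O := by
      rw [← hRsup]
      exact sup_le le_sup_right
        ((inf_le_left.trans Subgroup.le_normalizer).trans le_sup_left)
    rw [eq_top_iff]
    intro g _
    obtain ⟨d, hd, n, hn, rfl⟩ := CfsgLib.PLocal.exists_mul_normalizer S R g
    have hmap : Q₀.map (MulAut.conj n).toMonoidHom ≤ (S : Subgroup G) := by
      rintro _ ⟨q, hq, rfl⟩
      exact ((Subgroup.mem_normalizer_iff.mp hn q).mp hq).1
    obtain ⟨m, hm, c, hcc, rfl⟩ := hfus Q₀ inf_le_left n hmap
    exact Subgroup.mul_mem _ (hQN hd)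
      (Subgroup.mul_mem _ (Subgroup.mem_sup_left hm) (hQN (hcent hcc)))

end Cfsg.Agent.S1948
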