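import Cfsg.Statements.S1951
import Mathlib
import Cfsg.Agent.Lib.CharApps.PairPSolvable

set_option autoImplicit false
open Cfsg
open scoped Pointwise commutatorElement

namespace Cfsg.Agent.S1951

/-- Let p be a prime and P a nontrivial elementary abelian Sylow p-subgroup of a finite nonabelian simple group G whose nonidentity elements are all conjugate in G. Suppose that two elements of P are conjugate in G only if they are conjugate in N_G(P), that the centralizer of every element of order p of P has a normal p-complement, and that every two elements of order p of G generate a p-solvable subgroup. Then p = 2. -/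
theorem result {G : Type*} [Group G] [Finite G] [IsSimpleGroup G] (hG : ¬ IsMulCommutative G) {p : ℕ} [Fact p.Prime] (P : Sylow p G)
    (hP1 : (P : Subgroup G) ≠ ⊥) (hPe : Cfsg.IsElementaryAbelian p (P : Subgroup G))
    (hconj : ∀ x ∈ (P : Subgroup G), ∀ y ∈ (P : Subgroup G), x ≠ 1 → y ≠ 1 → ∃ g : G, g * x * g⁻¹ = y)
    (ha : ∀ x ∈ (P : Subgroup G), ∀ y ∈ (P : Subgroup G), (∃ g : G, g * x * g⁻¹ = y) →
      ∃ n ∈ Subgroup.normalizer ((P : Subgroup G) : Set G), n * x * n⁻¹ = y)
    (hb : ∀ x ∈ (P : Subgroup G), orderOf x = p → Cfsg.HasNormalPComplement p ↥(Subgroup.centralizer ({x} : Set G)))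
    (hc : ∀ x y : G, orderOf x = p → orderOf y = p → Cfsg.IsPSolvable p ↥(Subgroup.closure ({x, y} : Set G))) :
    p = 2 := by
  classical
  haveI := Fintype.ofFinite G
  have hab : ∀ a ∈ (P : Subgroup G), ∀ b ∈ (P : Subgroup G), a * b = b * a := fun a ha b hb => by
    have h := hPe.1.is_comm.comm (⟨a, ha⟩ : (P : Subgroup G)) ⟨b, hb⟩
    exact congrArg Subtype.val h
  have hfree : ∀ g ∈ Subgroup.normalizer ((P : Subgroup G) : Set G), ∀ x ∈ (P : Subgroup G), x ≠ 1 →
      g * x * g⁻¹ = x → g ∈ Subgroup.centralizer ((P : Subgroup G) : Set G) := by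
    intro g hg x hx hx1 hfix
    obtain ⟨S, K, hKn, hK⟩ := hb x hx (orderOf_eq_prime (hPe.2 x hx) hx1)
    have hPC : (P : Subgroup G) ≤ Subgroup.centralizer ({x} : Set G) := fun a ha =>
      Subgroup.mem_centralizer_singleton_iff.2 (hab a ha x hx)
    have hgC : g ∈ Subgroup.centralizer ({x} : Set G) :=
      Subgroup.mem_centralizer_singleton_iff.2 (mul_inv_eq_iff_eq_mul.1 hfix)
    let T : Sylow p (Subgroup.centralizer ({x} : Set G)) := P.subtype hPC
    have hT : ∀ c : Subgroup.centralizer ({x} : Set G), c ∈ (T : Subgroup _) ↔ (c : G) ∈ (P : Subgroup G) :=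
      fun c => by rw [P.coe_subtype hPC, Subgroup.mem_subgroupOf]
    have hc : K.IsComplement' (T : Subgroup (Subgroup.centralizer ({x} : Set G))) := by
      haveI := hKn
      rw [CfsgLib.Transfer.eq_pResidual_of_isComplement' S hK]
      exact CfsgLib.Transfer.isComplement'_pResidual ⟨S, K, hKn, hK⟩ T
    intro a ha
    obtain ⟨⟨⟨k, hk⟩, ⟨t, ht⟩⟩, hkt⟩ := hc.2 (⟨g, hgC⟩ : Subgroup.centralizer ({x} : Set G))
    have hkt' : (k : G) * (t : G) = g := congrArg Subtype.val hkt
    have htP := (hT t).1 ht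
    have hgt : ∀ b ∈ (P : Subgroup G), g * b * g⁻¹ = (k : G) * b * (k : G)⁻¹ := fun b hb => by
      rw [← hkt', mul_assoc (k : G) t b, hab t htP b hb]
      group
    have hcomm : (k : G) * a * (k : G)⁻¹ * a⁻¹ = 1 := by
      let c : Subgroup.centralizer ({x} : Set G) := k * ⟨a, hPC ha⟩ * k⁻¹ * ⟨a, hPC ha⟩⁻¹
      have hcK : c ∈ K := by
        have h2 := hKn.conj_mem _ (K.inv_mem hk) (⟨a, hPC ha⟩ : Subgroup.centralizer ({x} : Set G))
        have h3 := K.mul_mem hk h2
        simp only [c, mul_assoc] at h3 ⊢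
        exact h3
      have hcT : c ∈ (T : Subgroup _) := by
        refine (hT c).2 ?_
        show (k : G) * a * (k : G)⁻¹ * a⁻¹ ∈ (P : Subgroup G)
        rw [← hgt a ha]
        exact mul_mem ((Subgroup.mem_normalizer_iff.1 hg a).1 ha) (inv_mem ha)
      exact congrArg Subtype.val (Subgroup.disjoint_def.1 hc.disjoint hcK hcT)
    rw [← hgt a ha, mul_inv_eq_one, mul_inv_eq_iff_eq_mul] at hcomm
    exact hcomm.symm
  by_contra hp
  exact CfsgLib.CharApps.PairPSolvable.one_class_false P hp hab hfree hP1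
    (fun u v hu hv => isConj_iff.2 (hconj u u.2 v v.2 (fun h => hu (Subtype.ext h))
      fun h => hv (Subtype.ext h))) hc

end Cfsg.Agent.S1951
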