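import Cfsg.Statements.S1952
import Mathlib

set_option autoImplicit false
open Cfsg
open scoped Pointwise commutatorElement

namespace Cfsg.Agent.S1952

/-- A functional whose orbit under an automorphism of order `p` separates a whole free orbit. -/
theorem exists_functional {p : ℕ} [Fact p.Prime] {V : Type*} [AddCommGroup V] [Module (ZMod p) V]
    (T₀ : V →+ V) (hT₀ : ∀ v, T₀^[p] v = v) (x' : V)
    (hsum : ∑ i ∈ Finset.range p, T₀^[i] x' ≠ 0) :
    ∃ φ : V →+ ZMod p, Function.Surjective φ ∧ ∀ K : AddSubgroup V, Finite V →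
      (∀ v, (∀ i : ℕ, φ (T₀^[i] v) = 0) ↔ v ∈ K) → p ^ p ≤ K.index := by
  classical
  have hp := (Fact.out : p.Prime)
  let T : Module.End (ZMod p) V := T₀.toZModLinearMap p
  have hT : ∀ (i : ℕ) (v : V), (T ^ i) v = T₀^[i] v := fun i v => by
    rw [Module.End.pow_apply]; rfl
  have hTp : T ^ p = 1 := LinearMap.ext fun v => by rw [hT, hT₀]; rfl
  set D : Module.End (ZMod p) V := T - 1 with hD
  -- polynomial identities
  open Polynomial in
  have hpoly : ((X : (ZMod p)[X]) - 1) ^ (p - 1) = ∑ i ∈ Finset.range p, X ^ i := by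
    have hne : (X : (ZMod p)[X]) - 1 ≠ 0 := by
      rw [← C_1]; exact X_sub_C_ne_zero 1
    apply mul_right_cancel₀ hne
    rw [geom_sum_mul, ← pow_succ, Nat.sub_add_cancel hp.one_lt.le, sub_pow_char, one_pow]
  have hDN : D ^ (p - 1) = ∑ i ∈ Finset.range p, T ^ i := by
    simpa [map_pow, map_sum, hD] using congrArg (Polynomial.aeval T) hpoly
  have hDp : D ^ p = 0 := by
    have h : D ^ p = D ^ (p - 1) * D := by rw [← pow_succ, Nat.sub_add_cancel hp.one_lt.le]
    rw [h, hDN, hD, geom_sum_mul, hTp, sub_self]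
  have hN : (D ^ (p - 1)) x' ≠ 0 := by
    rw [hDN, LinearMap.sum_apply]
    simpa only [hT] using hsum
  obtain ⟨φ, hφ⟩ : ∃ φ : Module.Dual (ZMod p) (V), φ ((D ^ (p - 1)) x') ≠ 0 := by
    by_contra h
    push Not at h
    exact hN ((Module.forall_dual_apply_eq_zero_iff (ZMod p) _).mp h)
  set K : Submodule (ZMod p) (V) := ⨅ i : ℕ, LinearMap.ker (φ.comp (T ^ i)) with hK
  have hKT : ∀ v ∈ K, T v ∈ K := by
    intro v hv
    simp only [hK, Submodule.mem_iInf, LinearMap.mem_ker] at hv ⊢
    intro i
    have := hv (i + 1)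
    rw [pow_succ] at this
    exact this
  have hKD : ∀ (n : ℕ), ∀ v ∈ K, (D ^ n) v ∈ K := by
    intro n
    induction n with
    | zero => exact fun v hv => by simpa using hv
    | succ n ih =>
      intro v hv
      rw [pow_succ, Module.End.mul_apply]
      exact ih _ (K.sub_mem (hKT v hv) hv)
  have hNK : (D ^ (p - 1)) x' ∉ K := fun h => hφ (by
    have := (Submodule.mem_iInf _).mp h 0
    simpa using this)
  let Φ : (Fin p → ZMod p) →ₗ[ZMod p] V ⧸ K :=
    ∑ j : Fin p, (LinearMap.proj j).smulRight (K.mkQ ((D ^ (j : ℕ)) x'))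
  have hΦ : Function.Injective Φ := by
    rw [injective_iff_map_eq_zero]
    intro c hc
    have hmem : ∑ j : Fin p, c j • (D ^ (j : ℕ)) x' ∈ K := by
      rw [← Submodule.Quotient.mk_eq_zero, ← Submodule.mkQ_apply, map_sum]
      simpa [Φ, LinearMap.sum_apply] using hc
    funext j
    obtain ⟨j, hj⟩ := j
    induction j using Nat.strong_induction_on with
    | _ j ih =>
      have h := hKD (p - 1 - j) _ hmem
      rw [map_sum, Finset.sum_eq_single (⟨j, hj⟩ : Fin p)] at h
      · rw [map_smul, ← Module.End.mul_apply, ← pow_add, show p - 1 - j + j = p - 1 by omega] at h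
        by_contra hne
        exact hNK ((Submodule.smul_mem_iff K hne).mp h)
      · intro b _ hb
        rcases Nat.lt_or_gt_of_ne (fun he => hb (Fin.ext he) : (b : ℕ) ≠ j) with hlt | hgt
        · rw [show c b = 0 from ih b hlt b.2, zero_smul, map_zero]
        · rw [map_smul, ← Module.End.mul_apply, ← pow_add,
            show p - 1 - j + b = p + ((b : ℕ) - j - 1) by omega, pow_add, hDp, zero_mul]
          simp
      · intro h'; exact absurd (Finset.mem_univ _) h'
  have hsurj : Function.Surjective φ := LinearMap.surjective (fun h => hφ (by rw [h]; rfl))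
  refine ⟨φ.toAddMonoidHom, hsurj, fun K' _ hK' => ?_⟩
  have hKK : K' = K.toAddSubgroup := by
    ext v
    rw [← hK' v]
    simp [hK, hT]
  rw [hKK, AddSubgroup.index_eq_card]
  haveI : Finite (V ⧸ K) := inferInstanceAs (Finite (V ⧸ K.toAddSubgroup))
  have hle := Nat.card_le_card_of_injective Φ hΦ
  simp only [Nat.card_fun, Nat.card_zmod, Nat.card_fin] at hle
  exact hle

/-- Let P be a finite p-group with a normal elementary abelian subgroup A of index p, and let x ∈ A and y ∈ P with y outside A. If the product of the p conjugates y^(-i) x y^i (i = 0, …, p−1) is not the identity, then the wreath product Z_p ≀ Z_p, realised as a Sylow p-subgroup of the symmetric group of degree p², is a homomorphic image of P. -/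
theorem result {P : Type*} [Group P] [Finite P] {p : ℕ} [Fact p.Prime] (hP : IsPGroup p P) (A : Subgroup P) [A.Normal]
    (hA : Cfsg.IsElementaryAbelian p A) (hidx : A.index = p) (x y : P) (hx : x ∈ A) (hy : y ∉ A)
    (hprod : ((List.range p).map (fun i => (y ^ i)⁻¹ * x * y ^ i)).prod ≠ 1) :
    ∃ (Q : Sylow p (Equiv.Perm (Fin (p ^ 2)))) (f : P →* ↥(Q : Subgroup (Equiv.Perm (Fin (p ^ 2))))), Function.Surjective f := by
  classical
  have hp := (Fact.out : p.Prime)
  haveI : IsMulCommutative ↥A := hA.1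
  open scoped IsMulCommutative in
  letI : CommGroup ↥A := inferInstance
  have hsmul : ∀ a : Additive ↥A, p • a = 0 := fun a => by
    have h : (Additive.toMul a) ^ p = 1 := Subtype.ext (by simpa using hA.2 _ (Additive.toMul a).2)
    exact Additive.toMul.injective (by simpa using h)
  let Tm : ↥A →* ↥A := MonoidHom.mk' (fun a => ⟨y⁻¹ * (a : P) * y, by
      simpa using (inferInstance : A.Normal).conj_mem _ a.2 y⁻¹⟩)
    (fun a b => Subtype.ext (by simp only [Subgroup.coe_mul]; group))
  let T₀ : Additive ↥A →+ Additive ↥A := MonoidHom.toAdditive Tm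
  have hT : ∀ (i : ℕ) (a : ↥A),
      ((Additive.toMul (T₀^[i] (Additive.ofMul a)) : ↥A) : P) = (y ^ i)⁻¹ * (a : P) * y ^ i := by
    intro i a
    induction i with
    | zero => simp
    | succ i ih =>
      rw [Function.iterate_succ_apply']
      change y⁻¹ * ((Additive.toMul (T₀^[i] (Additive.ofMul a)) : ↥A) : P) * y = _
      rw [ih, pow_succ]; group
  have hyp : y ^ p ∈ A := by
    rw [← hidx]
    exact Subgroup.pow_index_mem A y
  have hTp : ∀ v, T₀^[p] v = v := by
    intro v
    obtain ⟨a, rfl⟩ := Additive.ofMul.surjective v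
    apply Additive.toMul.injective
    apply Subtype.ext
    rw [hT]
    have := congrArg Subtype.val (mul_comm' (⟨y ^ p, hyp⟩ : ↥A) a)
    simp only [Subgroup.coe_mul] at this
    simp only [toMul_ofMul]
    rw [mul_assoc, ← this, inv_mul_cancel_left]
  have hsum : ∑ i ∈ Finset.range p, T₀^[i] (Additive.ofMul ⟨x, hx⟩) ≠ 0 := by
    intro h0
    apply hprod
    have h1 : ∀ n : ℕ, ((Additive.toMul (∑ i ∈ Finset.range n, T₀^[i] (Additive.ofMul ⟨x, hx⟩)) : ↥A) : P) =
        ((List.range n).map (fun i => (y ^ i)⁻¹ * x * y ^ i)).prod := by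
      intro n
      induction n with
      | zero => simp
      | succ n ih =>
        rw [Finset.sum_range_succ, List.range_succ, List.map_append, List.prod_append, toMul_add,
          Subgroup.coe_mul, ih, hT]
        simp
    rw [← h1 p, h0]
    simp
  obtain ⟨φ, hφs, hφK⟩ := @exists_functional p _ (Additive ↥A) _ (AddCommGroup.zmodModule hsmul) T₀ hTp _ hsum
  let Kadd : AddSubgroup (Additive ↥A) := ⨅ i : ℕ, φ.ker.comap (⟨⟨fun v => T₀^[i] v, iterate_map_zero T₀ i⟩, iterate_map_add T₀ i⟩ : Additive ↥A →+ Additive ↥A)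
  let K₁ : Subgroup ↥A := AddSubgroup.toSubgroup' φ.ker
  let K₀ : Subgroup ↥A := AddSubgroup.toSubgroup' Kadd
  set B : Subgroup P := K₁.map A.subtype with hB
  have hK₀ : Nat.card (↥A ⧸ K₀) ≥ p ^ p := by
    rw [← Subgroup.index_eq_card]
    exact hφK Kadd inferInstance (fun v => by simp [Kadd])
  have hB2 : B.index = p ^ 2 := by
    have h1 : K₁.index = p := by
      change φ.ker.index = p
      rw [AddSubgroup.index_ker, AddMonoidHom.range_eq_top.mpr hφs, AddSubgroup.card_top, Nat.card_zmod]
    rw [hB, Subgroup.index_map_subtype, h1, hidx, pow_two]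
  set C := B.normalCore with hC
  have hCA : C ≤ A := (Subgroup.normalCore_le B).trans (Subgroup.map_subtype_le _)
  have hCK : C.subgroupOf A ≤ K₀ := by
    intro a ha
    change Additive.ofMul a ∈ Kadd
    simp only [Kadd, AddSubgroup.mem_iInf, AddSubgroup.mem_comap, AddMonoidHom.mem_ker]
    intro i
    have h := ha ((y ^ i)⁻¹)
    obtain ⟨b, hb, hbe⟩ := Subgroup.mem_map.mp h
    have hbe' : Additive.ofMul b = T₀^[i] (Additive.ofMul a) := by
      apply Additive.toMul.injective
      apply Subtype.ext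
      rw [hT]
      simpa using hbe
    change φ (T₀^[i] (Additive.ofMul a)) = 0
    rw [← hbe']
    exact hb
  have hbig : p ^ (p + 1) ≤ C.index := by
    rw [← Subgroup.relIndex_mul_index hCA, hidx, pow_succ]
    refine Nat.mul_le_mul_right p (hK₀.trans ?_)
    rw [← Subgroup.index_eq_card]
    exact Nat.le_of_dvd (Nat.pos_of_ne_zero Subgroup.index_ne_zero_of_finite) (Subgroup.index_dvd_of_le hCK)
  let e : P ⧸ B ≃ Fin (p ^ 2) := Finite.equivFinOfCardEq (by rw [← Subgroup.index_eq_card, hB2])
  let g : P →* Equiv.Perm (Fin (p ^ 2)) := e.permCongrHom.toMonoidHom.comp (MulAction.toPermHom P (P ⧸ B))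
  have hg : g.ker = C := by
    rw [hC, Subgroup.normalCore_eq_ker]
    exact MonoidHom.ker_mulEquiv_comp (MulAction.toPermHom P (P ⧸ B)) e.permCongrHom
  obtain ⟨Q, hQ⟩ := (hP.of_surjective g.rangeRestrict g.rangeRestrict_surjective).exists_le_sylow
  have hQc : Nat.card ↥(Q : Subgroup (Equiv.Perm (Fin (p ^ 2)))) = p ^ (p + 1) := by
    rw [Sylow.card_eq_multiplicity, Nat.card_perm, Nat.card_fin, Nat.factorization_def _ hp]
    congr 1
    rw [pow_two, padicValNat_factorial_mul]
    have h := padicValNat_factorial_mul (p := p) 1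
    rw [mul_one, Nat.factorial_one] at h
    simp only [padicValNat.one, zero_add] at h
    rw [h, add_comm]
  have hrange : g.range = (Q : Subgroup (Equiv.Perm (Fin (p ^ 2)))) := by
    refine Subgroup.eq_of_le_of_card_ge hQ ?_
    rw [hQc, ← Subgroup.index_ker, hg]
    exact hbig
  exact ⟨Q, g.codRestrict (Q : Subgroup _) (fun z => hQ ⟨z, rfl⟩),
    fun z => by
      obtain ⟨w, hw⟩ : (z : Equiv.Perm (Fin (p ^ 2))) ∈ g.range := by rw [hrange]; exact z.2
      exact ⟨w, Subtype.ext hw⟩⟩

end Cfsg.Agent.S1952
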