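import Cfsg.Statements.S1954
import Mathlib
import Cfsg.Agent.Lib.PLocal.Constrained
import Cfsg.Agent.Lib.PLocal.Frattini
import Cfsg.Agent.Lib.PGroups.Basic

set_option autoImplicit false
open Cfsg
open scoped Pointwise commutatorElement

namespace Cfsg.Agent.S1954

/-- Let N be a normal subgroup of the finite group G, P a Sylow p-subgroup of G, and V a subgroup of P ∩ N normal in P ∩ N such that N_N(V) controls strong fusion in P ∩ N with respect to N (whenever a subgroup A of P ∩ N has n A n⁻¹ ≤ P ∩ N for some n in N, then n = h c with h in N_N(V) and c in C_N(A)). Let W be the subgroup generated by the conjugates of V under N_G(P ∩ N). Then N_G(W) controls strong fusion in P with respect to G. -/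
theorem result {G : Type*} [Group G] [Finite G] {p : ℕ} [Fact p.Prime] (N : Subgroup G) [N.Normal] (P : Sylow p G) (V : Subgroup G)
    (hV : V ≤ (P : Subgroup G) ⊓ N) (hVn : ∀ x ∈ (P : Subgroup G) ⊓ N, V.map (MulAut.conj x).toMonoidHom = V)
    (hctrl : ∀ A : Subgroup G, A ≤ (P : Subgroup G) ⊓ N → ∀ n ∈ N, A.map (MulAut.conj n).toMonoidHom ≤ (P : Subgroup G) ⊓ N →
      ∃ h ∈ N ⊓ Subgroup.normalizer (V : Set G), ∃ c ∈ N ⊓ Subgroup.centralizer (A : Set G), n = h * c)
    (W : Subgroup G) (hW : W = Subgroup.closure (⋃ x ∈ Subgroup.normalizer (((P : Subgroup G) ⊓ N : Subgroup G) : Set G),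
      ((V.map (MulAut.conj x).toMonoidHom : Subgroup G) : Set G))) :
    ∀ A : Subgroup G, A ≤ (P : Subgroup G) → ∀ g : G, A.map (MulAut.conj g).toMonoidHom ≤ (P : Subgroup G) →
        ∃ h ∈ Subgroup.normalizer (W : Set G), ∃ c ∈ Subgroup.centralizer (A : Set G), g = h * c := by
  classical
  have nmap : ∀ {K : Subgroup G} {k : G}, k ∈ Subgroup.normalizer (K : Set G) → K.map (MulAut.conj k).toMonoidHom = K :=
    fun {K k} hk => Subgroup.mem_normalizer_iff_map_conj_eq.mp hk
  have ofmap : ∀ {K : Subgroup G} {k : G}, K.map (MulAut.conj k).toMonoidHom = K → k ∈ Subgroup.normalizer (K : Set G) :=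
    fun {K k} hk => Subgroup.mem_normalizer_iff_map_conj_eq.mpr hk
  set Q := (P : Subgroup G) ⊓ N with hQ
  have hVQ : ∀ x ∈ Subgroup.normalizer (Q : Set G), V.map (MulAut.conj x).toMonoidHom ≤ Q := by
    rintro x hx _ ⟨v, hv, rfl⟩
    exact (Subgroup.mem_normalizer_iff.mp hx v).mp (hV hv)
  have hWQ : W ≤ Q := by
    rw [hW, Subgroup.closure_le]
    simp only [Set.iUnion_subset_iff]
    exact fun x hx => hVQ x hx
  have mcm : ∀ (x y : G) (K : Subgroup G), (K.map (MulAut.conj x).toMonoidHom).map (MulAut.conj y).toMonoidHom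
      = K.map (MulAut.conj (y * x)).toMonoidHom := fun x y K => by
    rw [Subgroup.map_map]; congr 1; ext z; simp [mul_assoc]
  -- control for each conjugate of V
  have hctrlx : ∀ x ∈ Subgroup.normalizer (Q : Set G), ∀ A : Subgroup G, A ≤ Q → ∀ n ∈ N,
      A.map (MulAut.conj n).toMonoidHom ≤ Q →
      ∃ h ∈ N, h ∈ Subgroup.normalizer ((V.map (MulAut.conj x).toMonoidHom : Subgroup G) : Set G) ∧
        ∃ c ∈ Subgroup.centralizer (A : Set G), n = h * c := by
    intro x hx A hA n hn hAn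
    have hx' := inv_mem hx
    have hA' : A.map (MulAut.conj x⁻¹).toMonoidHom ≤ Q := by
      rintro _ ⟨a, ha, rfl⟩; exact (Subgroup.mem_normalizer_iff.mp hx' a).mp (hA ha)
    have hn' : x⁻¹ * n * x ∈ N := by simpa using Subgroup.Normal.conj_mem inferInstance n hn x⁻¹
    have hAn' : (A.map (MulAut.conj x⁻¹).toMonoidHom).map (MulAut.conj (x⁻¹ * n * x)).toMonoidHom ≤ Q := by
      rw [mcm, show x⁻¹ * n * x * x⁻¹ = x⁻¹ * n by group, ← mcm]
      rintro _ ⟨a, ha, rfl⟩; exact (Subgroup.mem_normalizer_iff.mp hx' a).mp (hAn ha)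
    obtain ⟨h, hh, c, hc, he⟩ := hctrl _ hA' _ hn' hAn'
    refine ⟨x * h * x⁻¹, Subgroup.Normal.conj_mem inferInstance h hh.1 x, ?_, x * c * x⁻¹, ?_, ?_⟩
    · apply ofmap
      rw [mcm]
      rw [show x * h * x⁻¹ * x = x * h by group, ← mcm]
      congr 1
      exact nmap hh.2
    · refine Subgroup.mem_centralizer_iff.mpr fun a ha => ?_
      have h1 := Subgroup.mem_centralizer_iff.mp hc.2 (x⁻¹ * a * x) ⟨a, ha, by simp⟩
      calc a * (x * c * x⁻¹) = x * ((x⁻¹ * a * x) * c) * x⁻¹ := by group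
        _ = x * (c * (x⁻¹ * a * x)) * x⁻¹ := by rw [h1]
        _ = _ := by group
    · calc n = x * (x⁻¹ * n * x) * x⁻¹ := by group
        _ = x * (h * c) * x⁻¹ := by rw [he]
        _ = _ := by group
  -- control for W inside N
  have hall : ∀ S : Finset G, (∀ x ∈ S, x ∈ Subgroup.normalizer (Q : Set G)) →
      ∀ A : Subgroup G, A ≤ Q → ∀ n ∈ N, A.map (MulAut.conj n).toMonoidHom ≤ Q →
      ∃ h ∈ N, (∀ x ∈ S, h ∈ Subgroup.normalizer ((V.map (MulAut.conj x).toMonoidHom : Subgroup G) : Set G)) ∧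
        ∃ c ∈ Subgroup.centralizer (A : Set G), n = h * c := by
    intro S
    induction S using Finset.induction with
    | empty => intro _ A _ n hn _; exact ⟨n, hn, by simp, 1, Subgroup.one_mem _, by simp⟩
    | @insert x s hxs ih =>
      intro hS A hA n hn hAn
      obtain ⟨h, hh, hhs, c, hc, rfl⟩ := ih (fun y hy => hS y (Finset.mem_insert_of_mem hy)) A hA n hn hAn
      set B := A ⊔ ⨆ y ∈ s, V.map (MulAut.conj y).toMonoidHom with hB
      have hBQ : B ≤ Q := sup_le hA (iSup₂_le fun y hy => hVQ y (hS y (Finset.mem_insert_of_mem hy)))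
      have hBh : B.map (MulAut.conj h).toMonoidHom ≤ Q := by
        rw [hB, Subgroup.map_sup]
        refine sup_le ?_ ?_
        · rintro _ ⟨a, ha, rfl⟩
          refine hAn ⟨a, ha, ?_⟩
          simp only [MulEquiv.coe_toMonoidHom, MulAut.conj_apply]
          calc h * c * a * (h * c)⁻¹ = h * (c * a) * c⁻¹ * h⁻¹ := by group
            _ = h * (a * c) * c⁻¹ * h⁻¹ := by rw [(Subgroup.mem_centralizer_iff.mp hc a ha).symm]
            _ = h * a * h⁻¹ := by group
        · simp only [Subgroup.map_iSup]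
          refine iSup₂_le fun y hy => ?_
          rw [nmap (hhs y hy)]
          exact hVQ y (hS y (Finset.mem_insert_of_mem hy))
      obtain ⟨h', hh', hhx, c', hc', rfl⟩ := hctrlx x (hS x (Finset.mem_insert_self x s)) B hBQ h hh hBh
      refine ⟨h', hh', fun y hy => ?_, c' * c, ?_, by rw [mul_assoc]⟩
      · rcases Finset.mem_insert.mp hy with rfl | hy
        · exact hhx
        · have h1 : c' ∈ Subgroup.normalizer ((V.map (MulAut.conj y).toMonoidHom : Subgroup G) : Set G) :=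
            Subgroup.centralizer_le_normalizer _ (Subgroup.centralizer_le (SetLike.coe_subset_coe.mpr
              (le_sup_of_le_right (le_iSup₂_of_le (f := fun z (_ : z ∈ s) => V.map (MulAut.conj z).toMonoidHom) y hy le_rfl))) hc')
          simpa using mul_mem (hhs y hy) (inv_mem h1)
      · exact Subgroup.mul_mem _ (Subgroup.centralizer_le (SetLike.coe_subset_coe.mpr le_sup_left) hc') hc
  have hctrlW : ∀ A : Subgroup G, A ≤ Q → ∀ n ∈ N, A.map (MulAut.conj n).toMonoidHom ≤ Q →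
      ∃ h ∈ N ⊓ Subgroup.normalizer (W : Set G), ∃ c ∈ Subgroup.centralizer (A : Set G), n = h * c := by
    intro A hA n hn hAn
    haveI : Fintype G := Fintype.ofFinite G
    obtain ⟨h, hh, hhs, c, hc, he⟩ := hall (Finset.univ.filter fun x => x ∈ Subgroup.normalizer (Q : Set G))
      (fun x hx => (Finset.mem_filter.mp hx).2) A hA n hn hAn
    refine ⟨h, Subgroup.mem_inf.mpr ⟨hh, ?_⟩, c, hc, he⟩
    apply ofmap
    refine Subgroup.eq_of_le_of_card_ge ?_ (le_of_eq (Subgroup.card_map_of_injective (MulEquiv.injective _)).symm)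
    rw [hW, MonoidHom.map_closure, Subgroup.closure_le]
    rintro _ ⟨w, hw, rfl⟩
    simp only [Set.mem_iUnion] at hw
    obtain ⟨x, hx, hw⟩ := hw
    have h2 := (Subgroup.mem_normalizer_iff.mp (hhs x (Finset.mem_filter.mpr ⟨Finset.mem_univ _, hx⟩)) w).mp hw
    exact Subgroup.subset_closure (Set.mem_biUnion hx h2)
  have hQW : Subgroup.normalizer (Q : Set G) ≤ Subgroup.normalizer (W : Set G) := by
    intro g hg
    apply ofmap
    refine Subgroup.eq_of_le_of_card_ge ?_ (le_of_eq (Subgroup.card_map_of_injective (MulEquiv.injective _)).symm)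
    rw [hW, MonoidHom.map_closure, Subgroup.closure_le]
    rintro _ ⟨w, hw, rfl⟩
    simp only [Set.mem_iUnion] at hw
    obtain ⟨x, hx, v, hv, rfl⟩ := hw
    refine Subgroup.subset_closure (Set.mem_biUnion (mul_mem hg hx) ⟨v, hv, ?_⟩)
    simp [mul_assoc]
  have hPQ : (P : Subgroup G) ≤ Subgroup.normalizer (Q : Set G) :=
    (le_inf Subgroup.le_normalizer Subgroup.le_normalizer_of_normal).trans
      (CfsgLib.PLocal.normalizer_inf_le (P : Subgroup G) N)
  -- W is strongly closed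
  have hsc : ∀ w ∈ W, ∀ g : G, g * w * g⁻¹ ∈ (P : Subgroup G) → g * w * g⁻¹ ∈ W := by
    intro w hw g hg
    obtain ⟨d, hd, m, hm, rfl⟩ := CfsgLib.PLocal.exists_mul_normalizer P N g
    have hw' : m * w * m⁻¹ ∈ W := (Subgroup.mem_normalizer_iff.mp (hQW hm) w).mp hw
    have hgQ : d * m * w * (d * m)⁻¹ ∈ Q := Subgroup.mem_inf.mpr
      ⟨hg, Subgroup.Normal.conj_mem inferInstance w (Subgroup.mem_inf.mp (hWQ hw)).2 _⟩
    obtain ⟨h, hh, c, hc, rfl⟩ := hctrlW (Subgroup.zpowers (m * w * m⁻¹))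
      (Subgroup.zpowers_le.mpr (hWQ hw')) d hd (by
        rw [MonoidHom.map_zpowers, Subgroup.zpowers_le]
        simpa [mul_assoc] using hgQ)
    have hcw : m * w * m⁻¹ * c = c * (m * w * m⁻¹) :=
      Subgroup.mem_centralizer_iff.mp hc _ (Subgroup.mem_zpowers _)
    have : h * c * m * w * (h * c * m)⁻¹ = h * (m * w * m⁻¹) * h⁻¹ := by
      calc h * c * m * w * (h * c * m)⁻¹ = h * (c * (m * w * m⁻¹)) * c⁻¹ * h⁻¹ := by group
        _ = h * (m * w * m⁻¹ * c) * c⁻¹ * h⁻¹ := by rw [hcw]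
        _ = _ := by group
    rw [this]
    exact (Subgroup.mem_normalizer_iff.mp hh.2 _).mp hw'
  let Good : Subgroup G → G → Prop := fun A g =>
    ∃ h ∈ Subgroup.normalizer (W : Set G), ∃ c ∈ Subgroup.centralizer (A : Set G), g = h * c
  have good_comp : ∀ (A : Subgroup G) (g₁ g₂ : G), Good A g₁ →
      Good (A.map (MulAut.conj g₁).toMonoidHom) g₂ → Good A (g₂ * g₁) := by
    rintro A g₁ g₂ ⟨h₁, hh₁, c₁, hc₁, rfl⟩ ⟨h₂, hh₂, c₂, hc₂, rfl⟩
    refine ⟨h₂ * h₁, mul_mem hh₂ hh₁, h₁⁻¹ * c₂ * h₁ * c₁, Subgroup.mul_mem _ ?_ hc₁, by group⟩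
    refine Subgroup.mem_centralizer_iff.mpr fun a ha => ?_
    have h3 : h₁ * a * h₁⁻¹ ∈ A.map (MulAut.conj (h₁ * c₁)).toMonoidHom := by
      refine ⟨a, ha, ?_⟩
      simp only [MulEquiv.coe_toMonoidHom, MulAut.conj_apply]
      calc h₁ * c₁ * a * (h₁ * c₁)⁻¹ = h₁ * (c₁ * a) * c₁⁻¹ * h₁⁻¹ := by group
        _ = h₁ * (a * c₁) * c₁⁻¹ * h₁⁻¹ := by rw [(Subgroup.mem_centralizer_iff.mp hc₁ a ha).symm]
        _ = _ := by group
    have h4 := Subgroup.mem_centralizer_iff.mp hc₂ _ h3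
    calc a * (h₁⁻¹ * c₂ * h₁) = h₁⁻¹ * ((h₁ * a * h₁⁻¹) * c₂) * h₁ := by group
      _ = h₁⁻¹ * (c₂ * (h₁ * a * h₁⁻¹)) * h₁ := by rw [h4]
      _ = _ := by group
  have good_inv : ∀ (A : Subgroup G) (g : G), Good A g → Good (A.map (MulAut.conj g).toMonoidHom) g⁻¹ := by
    rintro A g ⟨h, hh, c, hc, rfl⟩
    refine ⟨h⁻¹, inv_mem hh, h * c⁻¹ * h⁻¹, Subgroup.mem_centralizer_iff.mpr ?_, by group⟩
    rintro _ ⟨a, ha, rfl⟩
    have h5 := Subgroup.mem_centralizer_iff.mp hc a ha
    simp only [MulEquiv.coe_toMonoidHom, MulAut.conj_apply]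
    calc h * c * a * (h * c)⁻¹ * (h * c⁻¹ * h⁻¹) = h * (c * a) * c⁻¹ * c⁻¹ * h⁻¹ := by group
      _ = h * (a * c) * c⁻¹ * c⁻¹ * h⁻¹ := by rw [h5]
      _ = h * c⁻¹ * (c * a) * c⁻¹ * h⁻¹ := by group
      _ = _ := by group
  suffices main : ∀ n : ℕ, ∀ A : Subgroup G, A ≤ (P : Subgroup G) → Nat.card ↥(P : Subgroup G) - Nat.card ↥A ≤ n →
      ∀ g : G, A.map (MulAut.conj g).toMonoidHom ≤ (P : Subgroup G) → Good A g from
    fun A hA g hg => main _ A hA le_rfl g hg
  intro n
  induction n using Nat.strong_induction_on with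
  | _ n ih =>
  have big : ∀ (A : Subgroup G), A ≤ (P : Subgroup G) → Nat.card ↥(P : Subgroup G) - Nat.card ↥A ≤ n →
      ∀ (B : Subgroup G), A < B → B ≤ (P : Subgroup G) → ∀ g : G,
        B.map (MulAut.conj g).toMonoidHom ≤ (P : Subgroup G) → Good A g := by
    intro A hA hn B hAB hB g hg
    have h1 : Nat.card ↥A < Nat.card ↥B := by
      by_contra hle
      exact hAB.ne (Subgroup.eq_of_le_of_card_ge hAB.le (not_lt.mp hle))
    have h2 : Nat.card ↥B ≤ Nat.card ↥(P : Subgroup G) := Subgroup.card_le_of_le hB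
    obtain ⟨h, hh, c, hc, he⟩ := ih (Nat.card ↥(P : Subgroup G) - Nat.card ↥B) (by omega) B hB le_rfl g hg
    exact ⟨h, hh, c, Subgroup.centralizer_le hAB.le hc, he⟩
  intro A hA hn g hg
  by_cases hWA : W ≤ A
  · refine ⟨g, ?_, 1, Subgroup.one_mem _, by group⟩
    apply ofmap
    refine Subgroup.eq_of_le_of_card_ge ?_ (le_of_eq (Subgroup.card_map_of_injective (MulEquiv.injective _)).symm)
    rintro _ ⟨w, hw, rfl⟩
    exact hsc w hw g (hg ⟨w, hWA hw, rfl⟩)
  have hlift : ∀ B : Subgroup G, B ≤ (P : Subgroup G) → ¬ W ≤ B →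
      ∃ w ∈ W, w ∈ Subgroup.normalizer (B : Set G) ∧ w ∉ B := by
    intro B hB hWB
    set R := B ⊔ W with hR
    have hRP : R ≤ (P : Subgroup G) := sup_le hB (hWQ.trans inf_le_left)
    have hlt : B.subgroupOf R < ⊤ := lt_top_iff_ne_top.mpr fun h =>
      hWB ((le_sup_right : W ≤ R).trans (Subgroup.subgroupOf_eq_top.mp h))
    obtain ⟨r, hr, hrB⟩ := SetLike.exists_of_lt (CfsgLib.PGroups.lt_normalizer (P.isPGroup'.to_le hRP) hlt)
    have hrN : (r : G) ∈ Subgroup.normalizer (B : Set G) := by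
      apply ofmap
      refine Subgroup.eq_of_le_of_card_ge ?_ (le_of_eq (Subgroup.card_map_of_injective (MulEquiv.injective _)).symm)
      rintro _ ⟨b, hb, rfl⟩
      exact Subgroup.mem_subgroupOf.mp
        ((Subgroup.mem_normalizer_iff.mp hr ⟨b, (le_sup_left : B ≤ R) hb⟩).mp (Subgroup.mem_subgroupOf.mpr hb))
    have hBW : B ≤ Subgroup.normalizer (W : Set G) := hB.trans (hPQ.trans hQW)
    have hr' : (r : G) ∈ (↑(B ⊔ W) : Set G) := r.2
    rw [Subgroup.coe_mul_of_left_le_normalizer_right B W hBW] at hr'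
    obtain ⟨b, hb, w, hw, hbw⟩ := Set.mem_mul.mp hr'
    refine ⟨w, hw, ?_, fun h => hrB (Subgroup.mem_subgroupOf.mpr (hbw ▸ B.mul_mem hb h))⟩
    rw [show w = b⁻¹ * (r : G) by rw [← hbw]; group]
    exact mul_mem (inv_mem (Subgroup.le_normalizer hb)) hrN
  -- the main step at a fully normalised subgroup
  have core : ∀ B : Subgroup G, B ≤ (P : Subgroup G) → Nat.card ↥(P : Subgroup G) - Nat.card ↥B ≤ n →
      ¬ W ≤ B → ¬ p ∣ ((P : Subgroup G) ⊓ Subgroup.normalizer (B : Set G)).relIndex (Subgroup.normalizer (B : Set G)) →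
      ∀ z ∈ Subgroup.normalizer (B : Set G), Good B z := by
    intro B hB hBn hWB hfull z hz
    set M := Subgroup.normalizer (B : Set G) with hM
    set B₀ := B ⊓ N with hB₀
    set C₀ := N ⊓ Subgroup.centralizer (B₀ : Set G) with hC₀
    set W₁ := W ⊓ Subgroup.normalizer (B₀ : Set G) with hW₁
    set X := W₁ ⊔ C₀ with hX
    set L := N ⊓ M with hL
    set Y := L ⊓ X with hY
    set Q₁ := Q ⊓ M with hQ₁
    set Q₂ := Q₁ ⊓ X with hQ₂
    have hB₀Q : B₀ ≤ Q := inf_le_inf_right N hB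
    have hMB₀ : M ≤ Subgroup.normalizer (B₀ : Set G) :=
      (le_inf le_rfl Subgroup.le_normalizer_of_normal).trans (CfsgLib.PLocal.normalizer_inf_le B N)
    have hNC₀ : Subgroup.normalizer (B₀ : Set G) ≤ Subgroup.normalizer (C₀ : Set G) :=
      (le_inf Subgroup.le_normalizer_of_normal (CfsgLib.PLocal.normalizer_le_centralizer_normalizer B₀)).trans
        (CfsgLib.PLocal.normalizer_inf_le N (Subgroup.centralizer (B₀ : Set G)))
    have hWN₁ : W₁ ≤ Subgroup.normalizer (C₀ : Set G) := inf_le_right.trans hNC₀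
    have hLn : L ≤ Subgroup.normalizer (X : Set G) := by
      intro l hl
      obtain ⟨hlN, hlM⟩ := Subgroup.mem_inf.mp hl
      have hmap : B₀.map (MulAut.conj l).toMonoidHom ≤ Q := by
        rw [nmap (hMB₀ hlM)]; exact hB₀Q
      obtain ⟨h, hh, c, hc, rfl⟩ := hctrlW B₀ hB₀Q l hlN hmap
      have hcN : c ∈ N := by simpa using N.mul_mem (N.inv_mem hh.1) hlN
      have hcX : c ∈ Subgroup.normalizer (X : Set G) :=
        Subgroup.le_normalizer (Subgroup.mem_sup_right (Subgroup.mem_inf.mpr ⟨hcN, hc⟩))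
      have hhB₀ : h ∈ Subgroup.normalizer (B₀ : Set G) := by
        simpa using mul_mem (hMB₀ hlM) (inv_mem (Subgroup.centralizer_le_normalizer _ hc))
      have hhW₁ : h ∈ Subgroup.normalizer (W₁ : Set G) := CfsgLib.PLocal.normalizer_inf_le W _
        (Subgroup.mem_inf.mpr ⟨hh.2, Subgroup.le_normalizer hhB₀⟩)
      refine mul_mem ?_ hcX
      apply ofmap
      rw [hX, Subgroup.map_sup,
        nmap hhW₁, nmap (hNC₀ hhB₀)]
    have hLM : M ≤ Subgroup.normalizer (L : Set G) :=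
      (le_inf Subgroup.le_normalizer_of_normal Subgroup.le_normalizer).trans (CfsgLib.PLocal.normalizer_inf_le N M)
    have hYn : L ≤ Subgroup.normalizer (Y : Set G) :=
      (le_inf Subgroup.le_normalizer hLn).trans (CfsgLib.PLocal.normalizer_inf_le L X)
    have hQ₁L : Q₁ ≤ L := le_inf (inf_le_left.trans inf_le_right) inf_le_right
    -- Sylow subgroups of normal subgroups
    have sylInf : ∀ {Msup D S : Subgroup G}, S ≤ Msup → D ≤ Msup → Msup ≤ Subgroup.normalizer (D : Set G) →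
        IsPGroup p S → ¬ p ∣ S.relIndex Msup → ¬ p ∣ (S ⊓ D).relIndex D := by
      intro Ms D S hS hD hDn hSp hSi
      haveI := Subgroup.normal_subgroupOf_of_le_normalizer hDn
      have h := CfsgLib.PLocal.not_dvd_relIndex_sylow_inf
        ((hSp.of_equiv (Subgroup.subgroupOfEquivOfLe hS).symm).toSylow hSi) (D.subgroupOf Ms)
      change ¬ p ∣ (S.subgroupOf Ms ⊓ D.subgroupOf Ms).relIndex (D.subgroupOf Ms) at h
      rwa [show S.subgroupOf Ms ⊓ D.subgroupOf Ms = (S ⊓ D).subgroupOf Ms from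
          (Subgroup.comap_inf S D Ms.subtype).symm, Subgroup.relIndex_subgroupOf hD] at h
    have hPM : IsPGroup p ↥((P : Subgroup G) ⊓ M) := P.isPGroup'.to_le inf_le_left
    have hQ₁p : IsPGroup p ↥Q₁ := P.isPGroup'.to_le (inf_le_left.trans inf_le_left)
    have hQ₁syl : ¬ p ∣ Q₁.relIndex L := by
      have := sylInf (S := (P : Subgroup G) ⊓ M) (D := L) inf_le_right inf_le_right hLM hPM hfull
      rwa [show (P : Subgroup G) ⊓ M ⊓ L = Q₁ from
        le_antisymm (le_inf (le_inf (inf_le_left.trans inf_le_left) (inf_le_right.trans inf_le_left))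
          (inf_le_left.trans inf_le_right))
          (le_inf (le_inf (inf_le_left.trans inf_le_left) inf_le_right) hQ₁L)] at this
    have hQ₂syl : ¬ p ∣ Q₂.relIndex Y := by
      have := sylInf (S := Q₁) (D := Y) hQ₁L inf_le_left hYn hQ₁p hQ₁syl
      rwa [show Q₁ ⊓ Y = Q₂ from le_antisymm (le_inf inf_le_left (inf_le_right.trans inf_le_right))
        (le_inf inf_le_left (le_inf (inf_le_left.trans hQ₁L) inf_le_right))] at this
    set CB := Subgroup.centralizer (B : Set G) with hCB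
    set Cy := Y ⊓ CB with hCy
    have hYM : Y ≤ M := inf_le_left.trans inf_le_right
    have hCyn : Y ≤ Subgroup.normalizer (Cy : Set G) :=
      (le_inf Subgroup.le_normalizer (hYM.trans (CfsgLib.PLocal.normalizer_le_centralizer_normalizer B))).trans
        (CfsgLib.PLocal.normalizer_inf_le Y CB)
    -- every element of Y has a p-power in C(B)
    have hYpow : ∀ y ∈ Y, ∃ k : ℕ, y ^ p ^ k ∈ CB := by
      intro y hy
      obtain ⟨hyL, hyX⟩ := Subgroup.mem_inf.mp hy
      obtain ⟨hyN, hyM⟩ := Subgroup.mem_inf.mp hyL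
      have hyX' : y ∈ (↑(W₁ ⊔ C₀) : Set G) := hyX
      rw [Subgroup.coe_mul_of_left_le_normalizer_right W₁ C₀ hWN₁] at hyX'
      obtain ⟨w, hw, c, hc, hwc⟩ := Set.mem_mul.mp hyX'
      obtain ⟨i, hi⟩ := (P.isPGroup'.to_le (inf_le_left.trans (hWQ.trans inf_le_left) : W₁ ≤ (P : Subgroup G))) ⟨w, hw⟩
      have hi' : w ^ p ^ i = 1 := congrArg Subtype.val hi
      have hmod : ∀ m : ℕ, (w ^ m)⁻¹ * y ^ m ∈ C₀ := by
        intro m
        induction m with
        | zero => simp
        | succ m ihm =>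
          rw [show (w ^ (m + 1))⁻¹ * y ^ (m + 1) = (w⁻¹ * ((w ^ m)⁻¹ * y ^ m) * w⁻¹⁻¹) * c by
            rw [pow_succ, pow_succ, ← hwc]; group]
          exact C₀.mul_mem ((Subgroup.mem_normalizer_iff.mp (inv_mem (hWN₁ hw)) _).mp ihm) hc
      set v := y ^ p ^ i with hv
      have hvC : v ∈ C₀ := by
        have h := hmod (p ^ i)
        rwa [hi', inv_one, one_mul] at h
      obtain ⟨j, hj⟩ := IsPGroup.iff_card.mp (P.isPGroup'.to_le (inf_le_left.trans hB : B₀ ≤ (P : Subgroup G)))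
      refine ⟨i + j, ?_⟩
      rw [pow_add, pow_mul, ← hv, hCB, Subgroup.mem_centralizer_iff]
      intro a ha
      have hvM : v ∈ M := M.pow_mem hyM _
      have he₀ : v * a * v⁻¹ * a⁻¹ ∈ B₀ := by
        refine Subgroup.mem_inf.mpr ⟨B.mul_mem ((Subgroup.mem_normalizer_iff.mp hvM a).mp ha) (B.inv_mem ha), ?_⟩
        rw [show v * a * v⁻¹ * a⁻¹ = v * (a * v⁻¹ * a⁻¹) by group]
        exact N.mul_mem hvC.1 (Subgroup.Normal.conj_mem inferInstance _ (N.inv_mem hvC.1) a)
      set e := v * a * v⁻¹ * a⁻¹ with he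
      have hce : v * e = e * v := (Subgroup.mem_centralizer_iff.mp hvC.2 e he₀).symm
      have hpowm : ∀ m : ℕ, v ^ m * a * (v ^ m)⁻¹ = e ^ m * a := by
        intro m
        induction m with
        | zero => simp
        | succ m ihm =>
          calc v ^ (m + 1) * a * (v ^ (m + 1))⁻¹ = v * (v ^ m * a * (v ^ m)⁻¹) * v⁻¹ := by
                rw [pow_succ']; group
            _ = (v * e ^ m) * a * v⁻¹ := by rw [ihm]; group
            _ = e ^ m * (v * a * v⁻¹) := by rw [(Commute.pow_right hce m).eq]; group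
            _ = e ^ (m + 1) * a := by rw [pow_succ, mul_assoc (e ^ m) e]; simp [he]
      have h6 := hpowm (p ^ j)
      have hej : e ^ p ^ j = 1 := by
        have := pow_card_eq_one' (x := (⟨e, he₀⟩ : ↥B₀))
        rw [hj] at this
        exact congrArg Subtype.val this
      rw [hej, one_mul, mul_inv_eq_iff_eq_mul] at h6
      exact h6.symm
    have hYeq : Cy ⊔ Q₂ = Y := by
      have hle : Cy ⊔ Q₂ ≤ Y := sup_le inf_le_left (le_inf (inf_le_left.trans hQ₁L) inf_le_right)
      refine le_antisymm hle ?_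
      haveI := Subgroup.normal_subgroupOf_of_le_normalizer hCyn
      have hq : IsPGroup p (↥Y ⧸ Cy.subgroupOf Y) := by
        intro x
        obtain ⟨⟨y, hy⟩, rfl⟩ := QuotientGroup.mk'_surjective _ x
        obtain ⟨k, hk⟩ := hYpow y hy
        refine ⟨k, ?_⟩
        rw [← map_pow]
        exact (QuotientGroup.eq_one_iff _).mpr (Subgroup.mem_subgroupOf.mpr
          (Subgroup.mem_inf.mpr ⟨Y.pow_mem hy _, by simpa using hk⟩))
      obtain ⟨k, hk⟩ := IsPGroup.iff_card.mp hq
      have h1 : (Cy ⊔ Q₂).relIndex Y ∣ p ^ k := by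
        refine (Subgroup.relIndex_dvd_of_le_left Y le_sup_left).trans (dvd_of_eq ?_)
        rw [← hk, ← Subgroup.index_eq_card]; rfl
      have h2 := Subgroup.relIndex_dvd_of_le_left Y (le_sup_right : Q₂ ≤ Cy ⊔ Q₂)
      obtain ⟨j, -, hj⟩ := (Nat.dvd_prime_pow Fact.out).1 h1
      rcases Nat.eq_zero_or_pos j with rfl | hjpos
      · exact Subgroup.relIndex_eq_one.mp (by simpa using hj)
      · exact absurd ((dvd_pow_self p hjpos.ne').trans (hj ▸ h2)) hQ₂syl
    obtain ⟨w₀, hw₀W, hw₀M, hw₀B⟩ := hlift B hB hWB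
    have hw₁ : w₀ ∈ Q₂ := Subgroup.mem_inf.mpr ⟨Subgroup.mem_inf.mpr ⟨hWQ hw₀W, hw₀M⟩,
      Subgroup.mem_sup_left (Subgroup.mem_inf.mpr ⟨hw₀W, hMB₀ hw₀M⟩)⟩
    -- elements normalising a bigger overgroup
    have good_big : ∀ T : Subgroup G, T ≤ (P : Subgroup G) → w₀ ∈ T → ∀ m ∈ M,
        m ∈ Subgroup.normalizer (T : Set G) → Good B m := by
      intro T hT hw m hmM hmT
      refine big B hB hBn (B ⊔ T) (lt_of_le_of_ne le_sup_left fun h => hw₀B ?_) (sup_le hB hT) m ?_
      · rw [h]; exact Subgroup.mem_sup_right hw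
      · rw [Subgroup.map_sup, nmap hmM,
          nmap hmT]
        exact sup_le hB hT
    have good_mul : ∀ a b : G, Good B b → b ∈ M → Good B a → Good B (a * b) := fun a b hb hbM ha =>
      good_comp B b a hb (by rwa [nmap hbM])
    have hQ₂P : Q₂ ≤ (P : Subgroup G) := inf_le_left.trans (inf_le_left.trans inf_le_left)
    -- every element of L is good
    have hLgood : ∀ l ∈ L, Good B l := by
      intro l hl
      haveI := Subgroup.normal_subgroupOf_of_le_normalizer hYn
      have hsylQ : IsPGroup p ↥(Q₁.subgroupOf L) := hQ₁p.of_equiv (Subgroup.subgroupOfEquivOfLe hQ₁L).symm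
      obtain ⟨d, hd, m, hm, hlm⟩ := CfsgLib.PLocal.exists_mul_normalizer (hsylQ.toSylow hQ₁syl)
        (Y.subgroupOf L) ⟨l, hl⟩
      have hmQ₂ : (m : G) ∈ Subgroup.normalizer (Q₂ : Set G) := by
        apply ofmap
        refine Subgroup.eq_of_le_of_card_ge ?_ (le_of_eq (Subgroup.card_map_of_injective (MulEquiv.injective _)).symm)
        rintro _ ⟨a, ha, rfl⟩
        have haL : a ∈ L := hQ₁L ha.1
        have := (Subgroup.mem_normalizer_iff.mp hm ⟨a, haL⟩).mp
          ⟨ha.1, Subgroup.mem_inf.mpr ⟨haL, ha.2⟩⟩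
        exact Subgroup.mem_inf.mpr ⟨this.1, this.2.2⟩
      have hmM : (m : G) ∈ M := m.2.2
      have hdY : (d : G) ∈ (↑(Cy ⊔ Q₂) : Set G) := by rw [hYeq]; exact hd
      rw [Subgroup.coe_mul_of_right_le_normalizer_left Cy Q₂
        (((le_inf (inf_le_left.trans hQ₁L) inf_le_right) : Q₂ ≤ Y).trans hCyn)] at hdY
      obtain ⟨c, hc, q, hq, hcq⟩ := Set.mem_mul.mp hdY
      have hle : l = c * (q * (m : G)) := by
        have := congrArg Subtype.val hlm
        simp only [Subgroup.coe_mul] at this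
        rw [this, ← hcq, mul_assoc]
      rw [hle]
      have hqM : q ∈ M := hq.1.2
      refine good_mul _ _ ?_ (M.mul_mem hqM hmM) ⟨1, Subgroup.one_mem _, c, hc.2, by group⟩
      exact good_mul _ _ (good_big Q₂ hQ₂P hw₁ _ hmM hmQ₂) hmM
        (good_big Q₂ hQ₂P hw₁ q hqM (Subgroup.le_normalizer hq))
    haveI := Subgroup.normal_subgroupOf_of_le_normalizer hLM
    obtain ⟨d, hd, m, hm, hzm⟩ := CfsgLib.PLocal.exists_mul_normalizer
      ((hPM.of_equiv (Subgroup.subgroupOfEquivOfLe (inf_le_right : (P : Subgroup G) ⊓ M ≤ M)).symm).toSylow hfull)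
      (L.subgroupOf M) ⟨z, hz⟩
    have hmQ₁ : (m : G) ∈ Subgroup.normalizer (Q₁ : Set G) := by
      apply ofmap
      refine Subgroup.eq_of_le_of_card_ge ?_ (le_of_eq (Subgroup.card_map_of_injective (MulEquiv.injective _)).symm)
      rintro _ ⟨a, ha, rfl⟩
      have haM : a ∈ M := ha.2
      have := (Subgroup.mem_normalizer_iff.mp hm ⟨a, haM⟩).mp
        ⟨Subgroup.mem_inf.mpr ⟨ha.1.1, haM⟩, Subgroup.mem_inf.mpr ⟨ha.1.2, haM⟩⟩
      exact Subgroup.mem_inf.mpr ⟨Subgroup.mem_inf.mpr ⟨this.1.1, this.2.1⟩, this.2.2⟩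
    have hze : z = (d : G) * (m : G) := congrArg Subtype.val hzm
    rw [hze]
    exact good_mul _ _ (good_big Q₁ (inf_le_left.trans inf_le_left) hw₁.1 _ m.2 hmQ₁) m.2 (hLgood _ hd)
  -- reduction to the fully normalised conjugate
  set M := Subgroup.normalizer (A : Set G) with hM
  set NPA := (P : Subgroup G) ⊓ M with hNPA
  obtain ⟨S, hS⟩ := IsPGroup.exists_le_sylow (G := ↥M)
    (P := NPA.subgroupOf M) ((P.isPGroup'.to_le inf_le_left).of_equiv (Subgroup.subgroupOfEquivOfLe inf_le_right).symm)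
  have hSp : IsPGroup p ↥((S : Subgroup ↥M).map M.subtype) := S.isPGroup'.map _
  obtain ⟨T, hT⟩ := IsPGroup.exists_le_sylow hSp
  obtain ⟨x, hx⟩ := MulAction.exists_smul_eq G T P
  have hxS : ((S : Subgroup ↥M).map M.subtype).map (MulAut.conj x).toMonoidHom ≤ (P : Subgroup G) := by
    refine (Subgroup.map_mono hT).trans (le_of_eq ?_)
    rw [← hx]; rfl
  set B := A.map (MulAut.conj x).toMonoidHom with hBdef
  have hAS : NPA ≤ (S : Subgroup ↥M).map M.subtype := by
    rw [← Subgroup.map_subgroupOf_eq_of_le (show NPA ≤ M from inf_le_right)]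
    exact Subgroup.map_mono hS
  have hxN : NPA.map (MulAut.conj x).toMonoidHom ≤ (P : Subgroup G) := (Subgroup.map_mono hAS).trans hxS
  obtain ⟨w, hwW, hwM, hwA⟩ := hlift A hA hWA
  have hltA : A < NPA := lt_of_le_of_ne (le_inf hA Subgroup.le_normalizer)
    fun h => hwA (h ▸ Subgroup.mem_inf.mpr ⟨(hWQ hwW).1, hwM⟩)
  have hBP : B ≤ (P : Subgroup G) := (Subgroup.map_mono hltA.le).trans hxN
  have hcardB : Nat.card ↥B = Nat.card ↥A := Subgroup.card_map_of_injective (MulEquiv.injective _)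
  have hMB : M.map (MulAut.conj x).toMonoidHom = Subgroup.normalizer (B : Set G) :=
    Subgroup.map_equiv_normalizer_eq A (MulAut.conj x)
  have hfull : ¬ p ∣ ((P : Subgroup G) ⊓ Subgroup.normalizer (B : Set G)).relIndex (Subgroup.normalizer (B : Set G)) := by
    intro hd
    have h1 : ((S : Subgroup ↥M).map M.subtype).map (MulAut.conj x).toMonoidHom ≤
        (P : Subgroup G) ⊓ Subgroup.normalizer (B : Set G) :=
      le_inf hxS (hMB ▸ Subgroup.map_mono (Subgroup.map_subtype_le _))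
    have h2 := hd.trans (Subgroup.relIndex_dvd_of_le_left _ h1)
    rw [← hMB, Subgroup.relIndex_map_map_of_injective _ _ (MulEquiv.injective _), Subgroup.relIndex,
      Subgroup.subgroupOf, Subgroup.comap_map_eq_self_of_injective M.subtype_injective] at h2
    exact S.not_dvd_index h2
  have goodx : Good A x := big A hA hn NPA hltA inf_le_left x hxN
  have hWB : ¬ W ≤ B := by
    intro h
    apply hWA
    intro u hu
    have hmapW : W.map (MulAut.conj x⁻¹).toMonoidHom ≤ W := by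
      rintro _ ⟨v, hv, rfl⟩
      refine hsc v hv x⁻¹ ?_
      obtain ⟨a, ha, hav⟩ := h hv
      have : x⁻¹ * v * x⁻¹⁻¹ = a := by rw [← hav]; simp [mul_assoc]
      rw [this]; exact hA ha
    have := Subgroup.eq_of_le_of_card_ge hmapW (le_of_eq (Subgroup.card_map_of_injective (MulEquiv.injective _)).symm)
    rw [← this] at hu
    obtain ⟨v, hv, rfl⟩ := hu
    obtain ⟨a, ha, hav⟩ := h hv
    rw [← hav]; simpa [mul_assoc] using ha
  set A' := A.map (MulAut.conj g).toMonoidHom with hA'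
  have hcardA' : Nat.card ↥A' = Nat.card ↥A := Subgroup.card_map_of_injective (MulEquiv.injective _)
  have hWA' : ¬ W ≤ A' := by
    intro h
    apply hWA
    intro u hu
    have hmapW : W.map (MulAut.conj g⁻¹).toMonoidHom ≤ W := by
      rintro _ ⟨v, hv, rfl⟩
      refine hsc v hv g⁻¹ ?_
      obtain ⟨a, ha, hav⟩ := h hv
      have : g⁻¹ * v * g⁻¹⁻¹ = a := by rw [← hav]; simp [mul_assoc]
      rw [this]; exact hA ha
    have := Subgroup.eq_of_le_of_card_ge hmapW (le_of_eq (Subgroup.card_map_of_injective (MulEquiv.injective _)).symm)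
    rw [← this] at hu
    obtain ⟨v, hv, rfl⟩ := hu
    obtain ⟨a, ha, hav⟩ := h hv
    rw [← hav]; simpa [mul_assoc] using ha
  set M' := Subgroup.normalizer (A' : Set G) with hM'
  set NPA' := (P : Subgroup G) ⊓ M' with hNPA'
  obtain ⟨w', hwW', hwM', hwA'⟩ := hlift A' hg hWA'
  have hltA' : A' < NPA' := lt_of_le_of_ne (le_inf hg Subgroup.le_normalizer)
    fun h => hwA' (h ▸ Subgroup.mem_inf.mpr ⟨(hWQ hwW').1, hwM'⟩)
  set u := x * g⁻¹ with hu
  have hA'u : A'.map (MulAut.conj u).toMonoidHom = B := by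
    rw [hA', mcm, hu, inv_mul_cancel_right]
  set MB := Subgroup.normalizer (B : Set G) with hMBdef
  have himg : NPA'.map (MulAut.conj u).toMonoidHom ≤ MB := by
    refine (Subgroup.map_mono inf_le_right).trans (le_of_eq ?_)
    rw [hM', Subgroup.map_equiv_normalizer_eq A' (MulAut.conj u), hMBdef, ← hA'u]
  have hPB : IsPGroup p ↥(((P : Subgroup G) ⊓ MB).subgroupOf MB) :=
    (P.isPGroup'.to_le inf_le_left).of_equiv (Subgroup.subgroupOfEquivOfLe inf_le_right).symm
  obtain ⟨T', hT'⟩ := IsPGroup.exists_le_sylow (G := ↥MB) (P := (NPA'.map (MulAut.conj u).toMonoidHom).subgroupOf MB)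
    (((P.isPGroup'.to_le inf_le_left).map _).of_equiv (Subgroup.subgroupOfEquivOfLe himg).symm)
  obtain ⟨z, hz⟩ := MulAction.exists_smul_eq (↥MB) T' (hPB.toSylow hfull)
  have hy : NPA'.map (MulAut.conj ((z : G) * u)).toMonoidHom ≤ (P : Subgroup G) := by
    rw [← mcm]
    rintro _ ⟨a, ha, rfl⟩
    have h1 : (MulAut.conj z).toMonoidHom ⟨a, himg ha⟩ ∈ (T' : Subgroup ↥MB).map (MulAut.conj z).toMonoidHom :=
      Subgroup.mem_map_of_mem _ (hT' (Subgroup.mem_subgroupOf.mpr ha))
    have h2 : (T' : Subgroup ↥MB).map (MulAut.conj z).toMonoidHom = ((P : Subgroup G) ⊓ MB).subgroupOf MB := by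
      have h3 := congrArg (fun U : Sylow p ↥MB => (U : Subgroup ↥MB)) hz
      exact h3
    rw [h2] at h1
    exact (Subgroup.mem_inf.mp (Subgroup.mem_subgroupOf.mp h1)).1
  have goody : Good A' ((z : G) * u) :=
    big A' hg (by rw [hcardA']; exact hn) NPA' hltA' inf_le_left _ hy
  have hA'y : A'.map (MulAut.conj ((z : G) * u)).toMonoidHom = B := by
    rw [← mcm, hA'u]; exact nmap z.2
  have goodyinv : Good B ((z : G) * u)⁻¹ := hA'y ▸ good_inv A' _ goody
  have goodz : Good B (z : G) := core B hBP (by rw [hcardB]; exact hn) hWB hfull z z.2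
  have key := good_comp A x _ goodx
    (good_comp B z _ goodz (by rw [nmap z.2]; exact goodyinv))
  have he : ((z : G) * u)⁻¹ * (z : G) * x = g := by rw [hu]; group
  rwa [he] at key

end Cfsg.Agent.S1954
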