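import Cfsg.Statements.S1957
import Cfsg.Agent.Lib.LocalEven.CharP
import Cfsg.Agent.Lib.Components.Signalizer
import Cfsg.Agent.Lib.Transfer.Alperin
import Cfsg.Agent.Lib.PGroups.Basic

/-!
A normal four-group of a Sylow 2-subgroup lies in the 2-core of the centralizer of each of its involutions,
so it centralizes the odd-order subgroups it normalizes.
-/

set_option autoImplicit false
set_option linter.style.haveILetI false
open Cfsg

namespace Cfsg.Agent.S1957

/-- Let `G` be a finite non-abelian simple group in which every local subgroup is solvable and which is of characteristic 2 type. Let `P` be a Sylow 2-subgroup of `G` and `U` a normal subgroup of `P` that is a four-group, with `U` central in `P` if the centre of `P` is not cyclic. Then `U` centralizes every subgroup of odd order of `G` that it normalizes. -/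
theorem result {G : Type*} [Group G] [Finite G]
    [IsSimpleGroup G] (hna : ¬ IsMulCommutative G) (hN : Cfsg.IsNGroup G) (h2 : Cfsg.IsCharacteristicTwoType G)
    (P : Sylow 2 G) (U : Subgroup G) (hUP : U ≤ (P : Subgroup G)) (hUn : (P : Subgroup G) ≤ Subgroup.normalizer (U : Set G))
    (hU4 : IsKleinFour ↥U)
    (hUZ : ¬ IsCyclic ↥((P : Subgroup G) ⊓ Subgroup.centralizer ((P : Subgroup G) : Set G)) →
      U ≤ Subgroup.centralizer ((P : Subgroup G) : Set G))
    (K : Subgroup G) (hK : Odd (Nat.card K)) (hUK : U ≤ Subgroup.normalizer (K : Set G)) :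
    U ≤ Subgroup.centralizer (K : Set G) := by
  open Subgroup CfsgLib.LocalEven in
  haveI : Fact (Nat.Prime 2) := ⟨Nat.prime_two⟩
  have hsq : ∀ a ∈ U, a * a = 1 := fun a ha => by
    have h := IsKleinFour.mul_self (⟨a, ha⟩ : ↥U)
    exact congrArg Subtype.val h
  haveI : IsMulCommutative ↥U := ⟨⟨fun a b => mul_comm_of_exponent_two hU4.exponent_two a b⟩⟩
  have hcomm : ∀ a ∈ U, ∀ b ∈ U, a * b = b * a := fun a ha b hb =>
    congrArg Subtype.val ((inferInstance : IsMulCommutative ↥U).is_comm.comm (⟨a, ha⟩ : ↥U) ⟨b, hb⟩)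
  have hinv : ∀ a ∈ U, a⁻¹ = a := fun a ha => inv_eq_of_mul_eq_one_right (hsq a ha)
  have hfour : ∀ u ∈ U, ∀ v ∈ U, u ≠ 1 → v ≠ 1 → v ≠ u → ∀ w ∈ U, w = 1 ∨ w = u ∨ w = v ∨ w = u * v := by
    classical
    haveI := Fintype.ofFinite ↥U
    intro u hu v hv hu1 hv1 hvu w hw
    by_contra hcon
    push Not at hcon
    obtain ⟨w1, wu, wv, wuv⟩ := hcon
    have h1 : u * v ≠ 1 := fun h => hvu (by rw [eq_inv_of_mul_eq_one_right h, hinv u hu])
    have h2 : u * v ≠ u := fun h => hv1 (mul_eq_left.1 h)
    have h3 : u * v ≠ v := fun h => hu1 (mul_eq_right.1 h)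
    have hs : ({⟨1, one_mem _⟩, ⟨u, hu⟩, ⟨v, hv⟩, ⟨u * v, mul_mem hu hv⟩, ⟨w, hw⟩} : Finset ↥U).card = 5 := by
      simp [Subtype.ext_iff, hu1.symm, hv1.symm, hvu.symm, h1.symm, h2.symm, h3.symm, w1.symm, wu.symm,
        wv.symm, wuv.symm]
    have h4 : Fintype.card ↥U = 4 := by rw [← Nat.card_eq_fintype_card]; exact hU4.card_four
    have := Finset.card_le_univ ({⟨1, one_mem _⟩, ⟨u, hu⟩, ⟨v, hv⟩, ⟨u * v, mul_mem hu hv⟩, ⟨w, hw⟩} : Finset ↥U)
    omega
  have hord : ∀ u ∈ U, u ≠ 1 → orderOf u = 2 := fun u hu h1 => by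
    refine orderOf_eq_prime ?_ h1
    rw [pow_two, hsq u hu]
  -- the key step
  have key : ∀ u ∈ U, u ≠ 1 →
      Cfsg.pCoreOf 2 (normalizer (zpowers u : Set G)) ≤ normalizer (U : Set G) →
      K ⊓ centralizer ({u} : Set G) ≤ centralizer (U : Set G) := by
    intro u hu hu1 hOU
    set N := normalizer (zpowers u : Set G) with hN'
    set O := Cfsg.pCoreOf 2 N with hO
    have hcard : Nat.card (zpowers u) = 2 := by rw [Nat.card_zpowers, hord u hu hu1]
    have hmem : ∀ x, x ∈ zpowers u → x = 1 ∨ x = u := by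
      intro x hx
      obtain ⟨k, rfl⟩ := mem_zpowers_iff.1 hx
      rw [← zpow_mod_orderOf, hord u hu hu1]
      rcases Int.emod_two_eq_zero_or_one k with h | h <;> simp [h]
    have hfixu : ∀ n ∈ N, n * u * n⁻¹ = u := by
      intro n hn
      rcases hmem _ ((mem_normalizer_iff.1 hn u).1 (mem_zpowers u)) with h | h
      · exact absurd (conj_eq_one_iff.1 h) hu1
      · exact h
    have hCN : centralizer ({u} : Set G) ≤ N := by
      rw [hN', ← centralizer_closure ({u} : Set G), ← zpowers_eq_closure]
      exact centralizer_le_normalizer _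
    have hUN : U ≤ N := fun a ha => hCN (mem_centralizer_singleton_iff.2 (hcomm a ha u hu))
    have hchar := (charP_iff (p := 2) N).1 (h2.2 (zpowers u)
      (IsPGroup.of_card (n := 1) (by rw [hcard, pow_one]))
      (fun h => hu1 (by rw [zpowers_eq_bot] at h; exact h)))
    have hOn : N ≤ normalizer (O : Set G) := le_normalizer_pCoreOf 2 N
    let S : Subgroup G :=
      { carrier := {c | c ∈ N ∧ ∀ q ∈ O, c * q * c⁻¹ * q⁻¹ ∈ zpowers u}
        mul_mem' := by
          rintro a b ⟨ha, ha'⟩ ⟨hb, hb'⟩
          refine ⟨mul_mem ha hb, fun q hq => ?_⟩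
          rcases hmem _ (hb' q hq) with h | h
          · rw [show a * b * q * (a * b)⁻¹ * q⁻¹ = a * (b * q * b⁻¹ * q⁻¹) * a⁻¹ * (a * q * a⁻¹ * q⁻¹) by group,
              h, mul_one, mul_inv_cancel, one_mul]
            exact ha' q hq
          · rw [show a * b * q * (a * b)⁻¹ * q⁻¹ = a * (b * q * b⁻¹ * q⁻¹) * a⁻¹ * (a * q * a⁻¹ * q⁻¹) by group,
              h, hfixu a ha]
            exact mul_mem (mem_zpowers u) (ha' q hq)
        one_mem' := ⟨one_mem _, fun q _ => by simp⟩
        inv_mem' := by
          rintro a ⟨ha, ha'⟩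
          refine ⟨inv_mem ha, fun q hq => ?_⟩
          rw [show a⁻¹ * q * a⁻¹⁻¹ * q⁻¹ = a⁻¹ * (a * q * a⁻¹ * q⁻¹)⁻¹ * a by group]
          rcases hmem _ (inv_mem (ha' q hq)) with h | h
          · rw [h, mul_one, inv_mul_cancel]; exact one_mem _
          · rw [h]
            have := hfixu a⁻¹ (inv_mem ha)
            rw [inv_inv] at this
            rw [this]; exact mem_zpowers u }
    have hSn : N ≤ normalizer (S : Set G) := by
      rw [← CfsgLib.Signalizer.conj_invariant_iff]
      rintro n hn c ⟨hc, hc'⟩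
      refine ⟨mul_mem (mul_mem hn hc) (inv_mem hn), fun q hq => ?_⟩
      rw [show n * c * n⁻¹ * q * (n * c * n⁻¹)⁻¹ * q⁻¹ =
        n * (c * (n⁻¹ * q * n) * c⁻¹ * (n⁻¹ * q * n)⁻¹) * n⁻¹ by group]
      have hq' : n⁻¹ * q * n ∈ O := by
        have := (mem_normalizer_iff.1 (hOn (inv_mem hn)) q).1 hq
        rwa [inv_inv] at this
      rcases hmem _ (hc' _ hq') with h | h
      · rw [h, mul_one, mul_inv_cancel]; exact one_mem _
      · rw [h, hfixu n hn]; exact mem_zpowers u
    have hSsq : ∀ c ∈ S, ∃ k : ℕ, c ^ 2 ^ k ∈ O := by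
      rintro c ⟨hc, hc'⟩
      refine ⟨1, hchar ⟨pow_mem hc _, mem_centralizer_iff.2 fun q hq => ?_⟩⟩
      rw [pow_one, pow_two]
      have h := hc' q hq
      set e := c * q * c⁻¹ * q⁻¹ with he
      have h1 : c * q = e * q * c := by rw [he]; group
      have h2' : c * e = e * c := by
        rcases hmem _ h with h' | h'
        · rw [h', mul_one, one_mul]
        · rw [h']; calc c * u = c * u * c⁻¹ * c := by group
            _ = u * c := by rw [hfixu c hc]
      have h3 : e * e = 1 := by
        rcases hmem _ h with h' | h'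
        · rw [h', mul_one]
        · rw [h', hsq u hu]
      symm
      calc c * c * q = c * (c * q) := by group
        _ = (c * e) * q * c := by rw [h1]; group
        _ = e * (c * q) * c := by rw [h2']; group
        _ = (e * e) * q * (c * c) := by rw [h1]; group
        _ = q * (c * c) := by rw [h3, one_mul]
    have hSO : S ≤ O := le_pCoreOf (fun c hc => hc.1) hSn
      (isPGroup_of_pow_mem (isPGroup_pCoreOf N) hSsq)
    have hUO : U ≤ O := by
      intro v hv
      refine hSO ⟨hUN hv, fun q hq => ?_⟩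
      have hw : v * q * v⁻¹ * q⁻¹ ∈ U := by
        rw [show v * q * v⁻¹ * q⁻¹ = v * (q * v⁻¹ * q⁻¹) by group]
        exact mul_mem hv ((mem_normalizer_iff.1 (hOU hq) _).1 (inv_mem hv))
      by_cases hv1 : v = 1
      · simp [hv1]
      by_cases hvu : v = u
      · subst hvu
        rw [show v * q * v⁻¹ * q⁻¹ = v * (q * v * q⁻¹)⁻¹ by group, hfixu q (pCoreOf_le 2 N hq), mul_inv_cancel]
        exact one_mem _
      have him : q * v * q⁻¹ ∈ U := (mem_normalizer_iff.1 (hOU hq) v).1 hv
      rcases hfour u hu v hv hu1 hv1 hvu _ him with h | h | h | h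
      · exact absurd (conj_eq_one_iff.1 h) hv1
      · refine absurd ?_ hvu
        have hq' := hfixu q (pCoreOf_le 2 N hq)
        exact mul_left_cancel (mul_right_cancel (h.trans hq'.symm))
      · rw [show v * q * v⁻¹ * q⁻¹ = v * (q * v * q⁻¹)⁻¹ by group, h, mul_inv_cancel]
        exact one_mem _
      · rw [show v * q * v⁻¹ * q⁻¹ = v * (q * v * q⁻¹)⁻¹ by group, h, mul_inv_rev, mul_inv_cancel_left, hinv u hu]
        exact mem_zpowers u
    rintro l ⟨hlK, hlu⟩
    refine mem_centralizer_iff.2 fun v hv => ?_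
    have h1 : l * v * l⁻¹ * v⁻¹ ∈ K := by
      rw [show l * v * l⁻¹ * v⁻¹ = l * (v * l⁻¹ * v⁻¹) by group]
      exact mul_mem hlK ((mem_normalizer_iff.1 (hUK hv) _).1 (inv_mem hlK))
    have h2' : l * v * l⁻¹ * v⁻¹ ∈ O :=
      mul_mem ((mem_normalizer_iff.1 (hOn (hCN hlu)) v).1 (hUO hv)) (inv_mem (hUO hv))
    obtain ⟨k, hk⟩ := isPGroup_pCoreOf (p := 2) N ⟨_, h2'⟩
    have h3 : l * v * l⁻¹ * v⁻¹ = 1 := by
      rw [← orderOf_eq_one_iff]
      exact Nat.eq_one_of_dvd_coprimes ((Nat.coprime_two_left.2 hK).pow_left k)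
        (orderOf_dvd_of_pow_eq_one (congrArg Subtype.val hk)) (orderOf_dvd_natCard K h1)
    calc v * l = (l * v * l⁻¹ * v⁻¹) * (v * l) := by rw [h3, one_mul]
      _ = l * v := by group
  -- `O_2` of a 2-local normalizes `U`
  have hcore : ∀ (N : Subgroup G) (R : Subgroup G) (S : Sylow 2 ↥N),
      (S : Subgroup ↥N).map N.subtype ≤ R → Cfsg.pCoreOf 2 N ≤ R := fun N R S h =>
    (map_mono (pCore_le_sylow S)).trans h
  set P₀ := (P : Subgroup G) ⊓ centralizer (U : Set G) with hP₀
  have hUP₀ : U ≤ P₀ := le_inf hUP fun a ha => mem_centralizer_iff.2 fun b hb => hcomm b hb a ha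
  -- a central involution in `U`
  haveI : (U.subgroupOf (P : Subgroup G)).Normal := (normal_subgroupOf_iff_le_normalizer hUP).2 hUn
  obtain ⟨z, hzU, hz1, hzC⟩ : ∃ z, z ∈ U ∧ z ≠ 1 ∧ ∀ g ∈ (P : Subgroup G), g * z = z * g := by
    have hne : U.subgroupOf (P : Subgroup G) ≠ ⊥ := by
      intro h
      rw [subgroupOf_eq_bot] at h
      have hUb : U = ⊥ := le_bot_iff.1 (h le_rfl hUP)
      have h4 := hU4.card_four
      rw [hUb, Subgroup.card_bot] at h4
      exact absurd h4 (by norm_num)
    obtain ⟨⟨w, hwU, hwC⟩, hw1⟩ := ne_bot_iff_exists_ne_one.1 (CfsgLib.PGroups.inf_center_ne_bot P.isPGroup' hne)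
    exact ⟨(w : G), hwU, fun h => hw1 (Subtype.ext (Subtype.ext h)),
      fun g hg => congrArg Subtype.val (mem_center_iff.1 hwC ⟨g, hg⟩)⟩
  have main : ∀ u ∈ U, u ≠ 1 → Cfsg.pCoreOf 2 (normalizer (zpowers u : Set G)) ≤ normalizer (U : Set G) := by
    intro u hu hu1
    set N := normalizer (zpowers u : Set G) with hN'
    by_cases hcen : ∀ g ∈ (P : Subgroup G), g * u = u * g
    · have hPN : (P : Subgroup G) ≤ N := by
        intro g hg
        rw [hN']
        refine centralizer_le_normalizer _ ?_
        rw [zpowers_eq_closure, centralizer_closure]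
        exact mem_centralizer_singleton_iff.2 (hcen g hg)
      refine hcore N _ (P.subtype hPN) ?_
      rw [Sylow.coe_subtype, map_subgroupOf_eq_of_le hPN]
      exact hUn
    -- now the centre of `P` is cyclic
    have hcyc : IsCyclic ↥((P : Subgroup G) ⊓ centralizer ((P : Subgroup G) : Set G)) := by
      by_contra h
      exact hcen fun g hg => mem_centralizer_iff.1 (hUZ h hu) g hg
    have huz : u ≠ z := fun h => hcen (h ▸ hzC)
    have hfix : ∀ x, x ∈ (P : Subgroup G) → (∀ g ∈ (P : Subgroup G), g * x = x * g) → x * x = 1 → x = 1 ∨ x = z := by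
      classical
      intro x hxP hxC hx2
      by_contra hcon
      push Not at hcon
      haveI := hcyc
      haveI := Fintype.ofFinite ↥((P : Subgroup G) ⊓ centralizer ((P : Subgroup G) : Set G))
      have h := IsCyclic.card_pow_eq_one_le (α := ↥((P : Subgroup G) ⊓ centralizer ((P : Subgroup G) : Set G))) (n := 2) (by norm_num)
      have hs : ({1, ⟨z, hUP hzU, mem_centralizer_iff.2 hzC⟩, ⟨x, hxP, mem_centralizer_iff.2 hxC⟩} :
          Finset ↥((P : Subgroup G) ⊓ centralizer ((P : Subgroup G) : Set G))) ⊆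
          Finset.univ.filter (fun a => a ^ 2 = 1) := by
        intro a ha
        simp only [Finset.mem_insert, Finset.mem_singleton] at ha
        refine Finset.mem_filter.2 ⟨Finset.mem_univ _, ?_⟩
        rcases ha with rfl | rfl | rfl
        · exact one_pow 2
        · exact Subtype.ext (by rw [pow_two]; exact hsq z hzU)
        · exact Subtype.ext (by rw [pow_two]; exact hx2)
      have h3 := (Finset.card_le_card hs).trans h
      simp [Subtype.ext_iff, hz1.symm, hcon.1.symm, hcon.2.symm] at h3
    have hgen : ∀ g ∈ (P : Subgroup G), g * u * g⁻¹ = u ∨ g * u * g⁻¹ = z * u := by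
      intro g hg
      have him := (mem_normalizer_iff.1 (hUn hg) u).1 hu
      rcases hfour z hzU u hu hz1 hu1 huz _ him with h | h | h | h
      · exact absurd (conj_eq_one_iff.1 h) hu1
      · refine absurd ?_ huz
        refine mul_left_cancel (a := g) (mul_right_cancel (b := g⁻¹) (h.trans ?_))
        rw [hzC g hg, mul_inv_cancel_right]
      · exact Or.inl h
      · exact Or.inr h
    have hP₀mem : ∀ g ∈ (P : Subgroup G), g * u * g⁻¹ = u → g ∈ P₀ := by
      intro g hg h
      refine ⟨hg, mem_centralizer_iff.2 fun a ha => ?_⟩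
      have hgu : g * u = u * g := by rw [← mul_inv_eq_iff_eq_mul]; exact h
      rcases hfour z hzU u hu hz1 hu1 huz a ha with rfl | rfl | rfl | rfl
      · simp
      · exact (hzC g hg).symm
      · exact hgu.symm
      · rw [mul_assoc, ← hgu, ← mul_assoc, ← hzC g hg, mul_assoc]
    obtain ⟨g, hg, hgu⟩ : ∃ g ∈ (P : Subgroup G), g * u * g⁻¹ = z * u := by
      by_contra hcon
      push Not at hcon
      exact hcen fun g hg => by
        rw [← mul_inv_eq_iff_eq_mul]
        exact (hgen g hg).resolve_right (hcon g hg)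
    have hcoset : ∀ x ∈ (P : Subgroup G), x ∈ P₀ ∨ g⁻¹ * x ∈ P₀ := by
      intro x hx
      rcases hgen x hx with h | h
      · exact Or.inl (hP₀mem x hx h)
      · refine Or.inr (hP₀mem _ (mul_mem (inv_mem hg) hx) ?_)
        calc g⁻¹ * x * u * (g⁻¹ * x)⁻¹ = g⁻¹ * (x * u * x⁻¹) * g := by group
          _ = g⁻¹ * (g * u * g⁻¹) * g := by rw [h, hgu]
          _ = u := by group
    -- a Sylow subgroup of `N` above `P₀`
    have hP₀N : P₀ ≤ N := by
      intro x hx
      rw [hN']
      refine centralizer_le_normalizer _ ?_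
      rw [zpowers_eq_closure, centralizer_closure]
      exact mem_centralizer_singleton_iff.2 (mem_centralizer_iff.1 hx.2 u hu).symm
    have hP₀p : IsPGroup 2 ↥P₀ := P.isPGroup'.to_le inf_le_left
    obtain ⟨T, hT⟩ := (hP₀p.comap_subtype (K := N)).exists_le_sylow
    set TG := (T : Subgroup ↥N).map N.subtype with hTG
    refine hcore N _ T ?_
    have hP₀T : P₀ ≤ TG := (map_subgroupOf_eq_of_le hP₀N).ge.trans (map_mono hT)
    have hTp : IsPGroup 2 ↥TG := T.isPGroup'.map _
    rcases eq_or_lt_of_le hP₀T with h | h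
    · exact h.ge.trans (inf_le_right.trans (centralizer_le_normalizer _))
    -- `P₀` has index two in `TG`
    have hTn : TG ≤ normalizer (P₀ : Set G) := by
      have hlt := CfsgLib.Transfer.lt_inf_normalizer hTp h
      set M := TG ⊓ normalizer (P₀ : Set G)
      have hP2 : Nat.card (P : Subgroup G) ≤ 2 * Nat.card P₀ := by
        have hidx : P₀.relIndex (P : Subgroup G) ≤ 2 := by
          rw [relIndex]
          let f : Fin 2 → ↥(P : Subgroup G) ⧸ P₀.subgroupOf (P : Subgroup G) :=
            ![QuotientGroup.mk 1, QuotientGroup.mk ⟨g, hg⟩]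
          have hf : Function.Surjective f := by
            intro q
            obtain ⟨x, rfl⟩ := QuotientGroup.mk_surjective q
            rcases hcoset x x.2 with h' | h'
            · exact ⟨0, QuotientGroup.eq.2 (by rw [mem_subgroupOf]; simpa using h')⟩
            · exact ⟨1, QuotientGroup.eq.2 (by rw [mem_subgroupOf]; simpa using h')⟩
          have := Nat.card_le_card_of_surjective f hf
          rwa [Nat.card_fin] at this
        rw [← CfsgLib.Signalizer.card_mul_relIndex (inf_le_left : P₀ ≤ (P : Subgroup G)), mul_comm 2]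
        exact Nat.mul_le_mul_left _ hidx
      obtain ⟨Q, hQ⟩ := hTp.exists_le_sylow
      have hTc : Nat.card TG ≤ 2 * Nat.card P₀ := by
        refine le_trans (Nat.le_of_dvd Nat.card_pos (card_dvd_of_le hQ)) ?_
        rw [Sylow.card_eq_multiplicity Q, ← Sylow.card_eq_multiplicity P]
        exact hP2
      have hM2 : 2 * Nat.card P₀ ≤ Nat.card M := by
        rw [← CfsgLib.Signalizer.card_mul_relIndex hlt.le, mul_comm 2]
        refine Nat.mul_le_mul_left _ ?_
        have h0 : P₀.relIndex M ≠ 0 := index_ne_zero_of_finite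
        have h1 : P₀.relIndex M ≠ 1 := fun e => hlt.not_ge (relIndex_eq_one.1 e)
        omega
      exact (eq_of_le_of_card_ge (inf_le_left : M ≤ TG) (hTc.trans hM2)).ge.trans inf_le_right
    -- `U` is the set of involutions in the centre of `P₀`
    have hgP₀ : g ∈ normalizer (P₀ : Set G) :=
      inf_normalizer_le_normalizer_inf ⟨le_normalizer hg, normalizer_le_normalizer_centralizer _ (hUn hg)⟩
    have hgg : g * g ∈ P₀ := by
      refine hP₀mem _ (mul_mem hg hg) ?_
      calc g * g * u * (g * g)⁻¹ = g * (g * u * g⁻¹) * g⁻¹ := by group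
        _ = g * (z * u) * g⁻¹ := by rw [hgu]
        _ = (g * z * g⁻¹) * (g * u * g⁻¹) := by group
        _ = u := by
          rw [show g * z * g⁻¹ = z from by rw [hzC g hg, mul_inv_cancel_right], hgu, ← mul_assoc,
            hsq z hzU, one_mul]
    have hZ : ∀ x ∈ P₀, (∀ y ∈ P₀, y * x = x * y) → x * x = 1 → x ∈ U := by
      have step : ∀ x ∈ P₀, (∀ y ∈ P₀, y * x = x * y) → x * x = 1 → g * x * g⁻¹ = x → x ∈ U := by
        intro x hx hxc hx2 hxg
        have hgx : g * x = x * g := by rw [← mul_inv_eq_iff_eq_mul]; exact hxg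
        rcases hfix x hx.1 (fun y hy => by
          rcases hcoset y hy with h' | h'
          · exact hxc y h'
          · calc y * x = g * ((g⁻¹ * y) * x) := by group
              _ = g * x * (g⁻¹ * y) := by rw [hxc _ h']; group
              _ = x * y := by rw [hgx]; group) hx2 with h' | h'
        · rw [h']; exact one_mem _
        · rw [h']; exact hzU
      intro x hx hxc hx2
      set x' := g * x * g⁻¹ with hx'
      have hx'P : x' ∈ P₀ := (mem_normalizer_iff.1 hgP₀ x).1 hx
      have hx'c : ∀ y ∈ P₀, y * x' = x' * y := by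
        intro y hy
        have hy' : g⁻¹ * y * g ∈ P₀ := by
          have := (mem_normalizer_iff.1 (inv_mem hgP₀) y).1 hy
          rwa [inv_inv] at this
        calc y * x' = g * ((g⁻¹ * y * g) * x) * g⁻¹ := by rw [hx']; group
          _ = g * (x * (g⁻¹ * y * g)) * g⁻¹ := by rw [hxc _ hy']
          _ = x' * y := by rw [hx']; group
      have hxx : g * x' * g⁻¹ = x := by
        calc g * x' * g⁻¹ = (g * g) * x * (g * g)⁻¹ := by rw [hx']; group
          _ = x := by rw [hxc _ hgg, mul_inv_cancel_right]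
      have hw2 : (x * x') * (x * x') = 1 := by
        have h' : x' * x' = 1 := by rw [hx', conj_mul, hx2]; group
        calc (x * x') * (x * x') = x * (x' * x) * x' := by group
          _ = x * (x * x') * x' := by rw [hxc x' hx'P]
          _ = (x * x) * (x' * x') := by group
          _ = 1 := by rw [hx2, h', one_mul]
      have hw : x * x' ∈ U := by
        refine step _ (mul_mem hx hx'P) (fun y hy => ((show Commute y x from hxc y hy).mul_right (hx'c y hy)).eq) hw2 ?_
        calc g * (x * x') * g⁻¹ = x' * (g * x' * g⁻¹) := by rw [hx']; group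
          _ = x * x' := by rw [hxx, hxc x' hx'P]
      -- correct by `u`
      have hwz : x * x' = 1 ∨ x * x' = z := by
        refine hfix _ (mul_mem hx hx'P).1 (fun y hy => ?_) hw2
        rcases hcoset y hy with h' | h'
        · exact ((show Commute y x from hxc y h').mul_right (hx'c y h')).eq
        · have hc : g * (x * x') = x * x' * g := by
            calc g * (x * x') = x' * (g * x' * g⁻¹) * g := by rw [hx']; group
              _ = x * x' * g := by rw [hxx, hxc x' hx'P]
          calc y * (x * x') = g * ((g⁻¹ * y) * x) * x' := by group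
            _ = g * x * ((g⁻¹ * y) * x') := by rw [hxc _ h']; group
            _ = g * (x * x') * (g⁻¹ * y) := by rw [hx'c _ h']; group
            _ = x * x' * y := by rw [hc]; group
      have hxinv : x⁻¹ = x := inv_eq_of_mul_eq_one_right hx2
      rcases hwz with h' | h'
      · refine step x hx hxc hx2 ?_
        show x' = x
        rw [eq_inv_of_mul_eq_one_right h', hxinv]
      · have huc : ∀ y ∈ P₀, y * u = u * y := fun y hy => (mem_centralizer_iff.1 hy.2 u hu).symm
        have hy : x * u ∈ U := by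
          refine step _ (mul_mem hx (hUP₀ hu)) (fun y hy => by rw [← mul_assoc, hxc y hy, mul_assoc, huc y hy, mul_assoc]) ?_ ?_
          · calc x * u * (x * u) = x * (u * x) * u := by group
              _ = x * (x * u) * u := by rw [hxc u (hUP₀ hu)]
              _ = (x * x) * (u * u) := by group
              _ = 1 := by rw [hx2, hsq u hu, one_mul]
          · calc g * (x * u) * g⁻¹ = x' * (g * u * g⁻¹) := by rw [hx']; group
              _ = (x⁻¹ * z) * (z * u) := by rw [hgu, ← h']; group
              _ = x⁻¹ * (z * z) * u := by group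
              _ = x * u := by rw [hsq z hzU, hxinv, mul_one]
        have := mul_mem hy (inv_mem hu)
        rwa [mul_inv_cancel_right] at this
    rw [← CfsgLib.Signalizer.conj_invariant_iff]
    intro t ht a ha
    have hn := hTn ht
    refine hZ _ ((mem_normalizer_iff.1 hn a).1 (hUP₀ ha)) (fun y hy => ?_) (by rw [conj_mul, hsq a ha]; group)
    have hy' : t⁻¹ * y * t ∈ P₀ := by
      have := (mem_normalizer_iff.1 (inv_mem hn) y).1 hy
      rwa [inv_inv] at this
    calc y * (t * a * t⁻¹) = t * ((t⁻¹ * y * t) * a) * t⁻¹ := by group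
      _ = t * (a * (t⁻¹ * y * t)) * t⁻¹ := by rw [mem_centralizer_iff.1 hy'.2 a ha]
      _ = t * a * t⁻¹ * y := by group
  have hel : Cfsg.IsElementaryAbelian 2 U := ⟨inferInstance, fun a ha => by rw [pow_two, hsq a ha]⟩
  have hgenK : K ≤ centralizer (U : Set G) := by
    refine CfsgLib.Signalizer.le_of_hyperplanes hel (fun h => ?_) hUK hK.not_two_dvd_nat fun B hB hBi => ?_
    · have h4 := hU4.card_four
      rw [h, Subgroup.card_bot] at h4
      exact absurd h4 (by norm_num)
    have hBne : B ≠ ⊥ := by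
      intro h
      have h4 := CfsgLib.Signalizer.card_mul_relIndex hB
      have h5 : Nat.card ↥U = 4 := hU4.card_four
      rw [hBi, h5, h, Subgroup.card_bot] at h4
      exact absurd h4 (by norm_num)
    obtain ⟨⟨u, huB⟩, hu1⟩ := ne_bot_iff_exists_ne_one.1 hBne
    have hu1' : u ≠ 1 := fun h => hu1 (Subtype.ext h)
    exact le_trans (inf_le_inf_left _ (centralizer_le (Set.singleton_subset_iff.2 huB)))
      (key u (hB huB) hu1' (main u (hB huB) hu1'))
  exact le_centralizer_iff.1 hgenK

end Cfsg.Agent.S1957
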