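import Cfsg.Statements.S1958
import Mathlib
import Cfsg.Agent.Lib.PLocal.Constrained
import Cfsg.Agent.Lib.PLocal.PSolvable
import Cfsg.Agent.Lib.Base.Cores

set_option autoImplicit false
open Cfsg
open scoped Pointwise commutatorElement

namespace Cfsg.Agent.S1958

/-- Let `G` be a finite group, `p` a prime, and `x, y` commuting elements of order `p` whose centralizers `C_G(x)` and `C_G(y)` are both solvable. Then `O_{p'}(C_G(x)) ∩ C_G(y) = O_{p'}(C_G(y)) ∩ C_G(x)` (balance). -/
theorem result {G : Type*} [Group G] [Finite G]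
    (p : ℕ) [Fact p.Prime] (x y : G) (hx : orderOf x = p) (hy : orderOf y = p) (hxy : x * y = y * x)
    (hCx : Group.IsSolvable ↥(Subgroup.centralizer ({x} : Set G))) (hCy : Group.IsSolvable ↥(Subgroup.centralizer ({y} : Set G))) :
    Cfsg.centralizerPPrimeCore p x ⊓ Subgroup.centralizer {y} = Cfsg.centralizerPPrimeCore p y ⊓ Subgroup.centralizer {x} := by
  classical
  suffices key : ∀ a b : G, orderOf a = p → a * b = b * a →
      Group.IsSolvable ↥(Subgroup.centralizer ({b} : Set G)) →
      Cfsg.centralizerPPrimeCore p a ⊓ Subgroup.centralizer {b} ≤ Cfsg.centralizerPPrimeCore p b by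
    refine le_antisymm (le_inf (key x y hx hxy hCy) ?_) (le_inf (key y x hy hxy.symm hCx) ?_)
    · exact inf_le_left.trans (Subgroup.map_subtype_le _)
    · exact inf_le_left.trans (Subgroup.map_subtype_le _)
  intro a b ha hab hb
  set H := Subgroup.centralizer ({b} : Set G) with hH
  set C := Subgroup.centralizer ({a} : Set G) with hC
  haveI := hb
  have haH : a ∈ H := Subgroup.mem_centralizer_singleton_iff.mpr hab
  set W : Subgroup G := Cfsg.centralizerPPrimeCore p a ⊓ H with hW
  have hWH : W ≤ H := inf_le_right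
  have hWC : W ≤ C := inf_le_left.trans (Subgroup.map_subtype_le _)
  let P : Subgroup ↥H := Subgroup.zpowers (⟨a, haH⟩ : ↥H)
  have hP : IsPGroup p P := by
    refine IsPGroup.of_card (n := 1) ?_
    rw [Nat.card_zpowers, Subgroup.orderOf_mk, ha, pow_one]
  set N := Subgroup.normalizer (P : Set ↥H) with hN
  have hW'N : W.subgroupOf H ≤ N := by
    intro w hw
    refine Subgroup.mem_normalizer_iff.mpr fun h => ?_
    have hc : w * (⟨a, haH⟩ : ↥H) = ⟨a, haH⟩ * w :=
      Subtype.ext (Subgroup.mem_centralizer_singleton_iff.mp (hWC (Subgroup.mem_subgroupOf.mp hw)))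
    constructor
    · intro hh
      obtain ⟨k, rfl⟩ := Subgroup.mem_zpowers_iff.mp hh
      have hc' : Commute w ((⟨a, haH⟩ : ↥H) ^ k) := Commute.zpow_right hc k
      rw [hc'.eq, mul_inv_cancel_right]
      exact Subgroup.mem_zpowers_iff.mpr ⟨k, rfl⟩
    · intro hh
      obtain ⟨k, hk⟩ := Subgroup.mem_zpowers_iff.mp hh
      have hc' : Commute w ((⟨a, haH⟩ : ↥H) ^ k) := Commute.zpow_right hc k
      have : h = (⟨a, haH⟩ : ↥H) ^ k := by
        have h1 : h = w⁻¹ * (w * h * w⁻¹) * w := by group
        rw [h1, ← hk, mul_assoc, ← hc'.eq, inv_mul_cancel_left]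
      rw [this]; exact Subgroup.mem_zpowers_iff.mpr ⟨k, rfl⟩
  have hnorm : N ≤ Subgroup.normalizer ((W.subgroupOf H : Subgroup ↥H) : Set ↥H) := by
    intro n hn
    have hnC : (n : G) ∈ Subgroup.normalizer (C : Set G) := by
      refine Subgroup.mem_normalizer_iff.mpr fun c => ?_
      have h1 := (Subgroup.mem_normalizer_iff.mp hn ⟨a, haH⟩).mp (Subgroup.mem_zpowers _)
      obtain ⟨k, hk⟩ := Subgroup.mem_zpowers_iff.mp h1
      have h2 := (Subgroup.mem_normalizer_iff.mp (N.inv_mem hn) ⟨a, haH⟩).mp (Subgroup.mem_zpowers _)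
      obtain ⟨l, hl⟩ := Subgroup.mem_zpowers_iff.mp h2
      have hk' : a ^ k = (n : G) * a * (n : G)⁻¹ := by simpa using congrArg Subtype.val hk
      have hl' : a ^ l = (n : G)⁻¹ * a * (n : G) := by simpa using congrArg Subtype.val hl
      simp only [hC, Subgroup.mem_centralizer_singleton_iff]
      constructor
      · intro hc
        have h3 : Commute c (a ^ l) := Commute.zpow_right hc l
        rw [hl'] at h3
        calc (n : G) * c * (n : G)⁻¹ * a
            = (n : G) * (c * ((n : G)⁻¹ * a * (n : G))) * (n : G)⁻¹ := by group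
          _ = (n : G) * (((n : G)⁻¹ * a * (n : G)) * c) * (n : G)⁻¹ := by rw [h3.eq]
          _ = a * ((n : G) * c * (n : G)⁻¹) := by group
      · intro hc
        have h3 : Commute ((n : G) * c * (n : G)⁻¹) (a ^ k) := Commute.zpow_right hc k
        rw [hk'] at h3
        calc c * a = (n : G)⁻¹ * (((n : G) * c * (n : G)⁻¹) * ((n : G) * a * (n : G)⁻¹)) * (n : G) := by group
          _ = (n : G)⁻¹ * (((n : G) * a * (n : G)⁻¹) * ((n : G) * c * (n : G)⁻¹)) * (n : G) := by rw [h3.eq]
          _ = a * c := by group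
    have h4 := CfsgLib.Base.normalizer_le_normalizer_map_subtype C (Cfsg.pPrimeCore p ↥C) hnC
    refine Subgroup.mem_normalizer_iff.mpr fun h => ?_
    simp only [Subgroup.mem_subgroupOf, hW, Subgroup.mem_inf, SetLike.coe_mem, and_true]
    exact Subgroup.mem_normalizer_iff.mp h4 h
  have hcop : (Nat.card ↥(W.subgroupOf H)).Coprime p := by
    rw [Nat.card_congr (Subgroup.subgroupOfEquivOfLe hWH).toEquiv]
    refine Nat.Coprime.coprime_dvd_left (Subgroup.card_dvd_of_le inf_le_left) ?_
    exact CfsgLib.Base.coprime_card_map_pPrimeCore C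
  have h5 := CfsgLib.Base.le_map_pPrimeCore hW'N hnorm hcop
  rw [CfsgLib.PLocal.map_pPrimeCore_normalizer
    (CfsgLib.PLocal.isPConstrained_of_isPSolvable CfsgLib.PLocal.isPSolvable_of_isSolvable) hP] at h5
  calc W = (W.subgroupOf H).map H.subtype := (Subgroup.map_subgroupOf_eq_of_le hWH).symm
    _ ≤ _ := Subgroup.map_mono (h5.trans inf_le_left)

end Cfsg.Agent.S1958
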