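import Cfsg.Statements.S1966
import Mathlib
import Cfsg.Agent.Lib.Techniques.ConjFamily
import Cfsg.Agent.Lib.Techniques.Control
import Cfsg.Agent.Lib.Techniques.Residual
import Cfsg.Agent.Lib.Base.Cores

set_option autoImplicit false
open Cfsg
open scoped Pointwise commutatorElement

namespace Cfsg.Agent.S1966

/-- Let p be a prime, G a finite group with Sylow p-subgroup S and 𝓕 a conjugation family for S in G. Then the members of 𝓕 containing O_p(G) still form a conjugation family for S in G. -/
theorem result {G : Type*} [Group G] [Finite G] {p : ℕ} [Fact p.Prime] (S : Sylow p G) (𝓕 : Set (Subgroup G)) (h : Cfsg.IsConjugationFamily 𝓕 (S : Subgroup G)) : Cfsg.IsConjugationFamily {T : Subgroup G | T ∈ 𝓕 ∧ Cfsg.pCore p G ≤ T} (S : Subgroup G) := by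
  refine ⟨fun T hT => h.1 T hT.1, fun A g hne hA hAg => ?_⟩
  set O := Cfsg.pCore p G with hO
  have hOS : O ≤ (S : Subgroup G) := CfsgLib.Base.pCore_le_sylow S
  have himg : ∀ x : G, (fun a => x⁻¹ * a * x) '' (O : Set G) = O := by
    intro x
    ext a
    constructor
    · rintro ⟨b, hb, rfl⟩
      simpa using (inferInstance : O.Normal).conj_mem b hb x⁻¹
    · intro ha
      exact ⟨x * a * x⁻¹, (inferInstance : O.Normal).conj_mem a ha x, by group⟩
  obtain ⟨n, T, x, hp, hT, hx, h0, hst⟩ := h.2 (A ∪ O) g (hne.mono Set.subset_union_left)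
    (Set.union_subset hA hOS) (by rw [Set.image_union, himg]; exact Set.union_subset hAg hOS)
  refine ⟨n, T, x, hp, fun i => ⟨hT i, ?_⟩, hx,
    fun hn => Set.subset_union_left.trans (h0 hn),
    fun i hi => (Set.image_mono Set.subset_union_left).trans (hst i hi)⟩
  rcases i with ⟨i, hi⟩
  cases i with
  | zero => exact fun y hy => h0 hi (Or.inr hy)
  | succ j =>
    intro y hy
    refine hst ⟨j, by omega⟩ hi ?_
    rw [Set.image_union, himg]
    exact Or.inr hy

end Cfsg.Agent.S1966
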