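import Cfsg.Statements.S1967
import Mathlib
import Cfsg.Agent.Lib.Techniques.ConjFamily
import Cfsg.Agent.Lib.Techniques.Control
import Cfsg.Agent.Lib.Techniques.Residual
import Cfsg.Agent.Lib.Base.Cores

set_option autoImplicit false
open Cfsg
open scoped Pointwise commutatorElement

namespace Cfsg.Agent.S1967

/-- Let p be a prime, G a finite group with Sylow p-subgroup S and W a conjugacy functor for p on G. Then W controls strong fusion in G if and only if, whenever T ≤ S and g ∈ G satisfy gTg⁻¹ ≤ S, one can write g = n c with n ∈ N_G(W(S)) and c ∈ C_G(T). -/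
theorem result {G : Type*} [Group G] [Finite G] {p : ℕ} [Fact p.Prime] (S : Sylow p G) (W : Subgroup G → Subgroup G) (hW : Cfsg.IsConjugacyFunctor p W) : Cfsg.ControlsStrongFusionIn p W ⊤ ↔ ∀ (T : Subgroup G) (g : G), T ≤ (S : Subgroup G) → T.map (MulAut.conj g).toMonoidHom ≤ (S : Subgroup G) → ∃ n ∈ Subgroup.normalizer ((W (S : Subgroup G) : Subgroup G) : Set G), ∃ c ∈ Subgroup.centralizer (T : Set G), g = n * c := by
  have hS := CfsgLib.Techniques.sylIn_top S
  constructor
  · intro h T g hT hg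
    obtain ⟨n, hn, hna⟩ := CfsgLib.Techniques.fusionAt_of_controls hW hS h (T : Set G) g
      (Subgroup.mem_top g) hT (by rintro _ ⟨a, ha, rfl⟩; exact hg ⟨a, ha, rfl⟩)
    refine ⟨n, hn.2, n⁻¹ * g, fun t ht => ?_, by group⟩
    have e := hna t ht
    calc t * (n⁻¹ * g) = n⁻¹ * (n * t * n⁻¹) * g := by group
      _ = n⁻¹ * (g * t * g⁻¹) * g := by rw [e]
      _ = _ := by group
  · intro h
    refine CfsgLib.Techniques.controls_of_fusionAt hS fun A g _ hA hgA => ?_
    obtain ⟨n, hn, c, hc, rfl⟩ := h (Subgroup.closure A) g ((Subgroup.closure_le _).2 hA) (by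
      rw [Subgroup.map_le_iff_le_comap, Subgroup.closure_le]
      intro a ha
      exact hgA ⟨a, ha, rfl⟩)
    refine ⟨n, ⟨Subgroup.mem_top n, hn⟩, fun a ha => ?_⟩
    have e := hc a (Subgroup.subset_closure ha)
    calc n * a * n⁻¹ = n * (a * c) * c⁻¹ * n⁻¹ := by group
      _ = n * (c * a) * c⁻¹ * n⁻¹ := by rw [e]
      _ = _ := by group

end Cfsg.Agent.S1967
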