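import Cfsg.Statements.S1968
import Mathlib
import Cfsg.Agent.Lib.Techniques.ConjFamily

set_option autoImplicit false
open Cfsg
open scoped Pointwise commutatorElement

namespace Cfsg.Agent.S1968

/-- Let p be a prime, G a finite group with Sylow p-subgroup S and W a conjugacy functor for p on G with Z(P) ≤ W(P) for every p-subgroup P. Let A be a subgroup of Z(S) normalized by N_G(W(S)) that is not weakly closed in S with respect to G. Then there is a subgroup T of S, well placed in S with respect to W, such that: A ≤ T; N_G(W(N_S(T))) normalizes A; N_S(T) is a Sylow p-subgroup of N_G(T); A ≤ Z(N_S(T)); and A is not weakly closed in N_S(T) with respect to N_G(T), that is, some N_G(T)-conjugate of A other than A lies in N_S(T). -/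
theorem result {G : Type*} [Group G] [Finite G] {p : ℕ} [Fact p.Prime] (S : Sylow p G) (W : Subgroup G → Subgroup G) (hW : Cfsg.IsConjugacyFunctor p W) (hWZ : ∀ P : Subgroup G, IsPGroup p ↥P → P ⊓ Subgroup.centralizer (P : Set G) ≤ W P) (A : Subgroup G) (hAZ : A ≤ (S : Subgroup G) ⊓ Subgroup.centralizer ((S : Subgroup G) : Set G)) (hAN : Subgroup.normalizer ((W (S : Subgroup G) : Subgroup G) : Set G) ≤ Subgroup.normalizer ((A : Subgroup G) : Set G)) (hnwc : ¬ Cfsg.IsWeaklyClosed A (S : Subgroup G)) : ∃ T : Subgroup G, Cfsg.IsWellPlaced p W (S : Subgroup G) T ∧ A ≤ T ∧ Subgroup.normalizer ((W ((S : Subgroup G) ⊓ Subgroup.normalizer ((T : Subgroup G) : Set G)) : Subgroup G) : Set G) ≤ Subgroup.normalizer ((A : Subgroup G) : Set G) ∧ ¬ p ∣ ((S : Subgroup G) ⊓ Subgroup.normalizer ((T : Subgroup G) : Set G)).relIndex (Subgroup.normalizer ((T : Subgroup G) : Set G)) ∧ A ≤ Subgroup.centralizer (((S : Subgroup G) ⊓ Subgroup.normalizer ((T : Subgroup G) : Set G) : Subgroup G) : Set G)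 ∧ ∃ g ∈ Subgroup.normalizer ((T : Subgroup G) : Set G), A.map (MulAut.conj g).toMonoidHom ≤ (S : Subgroup G) ⊓ Subgroup.normalizer ((T : Subgroup G) : Set G) ∧ A.map (MulAut.conj g).toMonoidHom ≠ A := by
  classical
  have hS := CfsgLib.Techniques.sylIn_top S
  have hp := hS.isPGroup
  -- some well-placed subgroup containing `A` has a normalizer moving `A`
  have hmove : ∀ (𝓕 : Set (Subgroup G)) (X : Set G) (g : G), CfsgLib.Techniques.RChain 𝓕 X g →
      CfsgLib.Techniques.rc g '' X ≠ X →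
      ∃ U ∈ 𝓕, X ⊆ U ∧ ∃ x ∈ Subgroup.normalizer (U : Set G), CfsgLib.Techniques.rc x '' X ≠ X := by
    intro 𝓕 X g h
    induction h with
    | refl X => exact fun hne => absurd (CfsgLib.Techniques.image_rc_one X) hne
    | @step X x g U hU hX hx _ ih =>
      intro hne
      by_cases he : CfsgLib.Techniques.rc x '' X = X
      · rw [CfsgLib.Techniques.image_rc_mul, he] at hne
        obtain ⟨V, hV, hXV, y, hy, hy2⟩ := ih (by rwa [he])
        rw [he] at hXV hy2
        exact ⟨V, hV, hXV, y, hy, hy2⟩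
      · exact ⟨U, hU, hX, x, hx, he⟩
  have hAS : A ≤ (S : Subgroup G) := hAZ.trans inf_le_left
  have hAc : ∀ a ∈ A, ∀ s ∈ (S : Subgroup G), s * a = a * s := fun a ha s hs => (hAZ ha).2 s hs
  set Φ : Subgroup G → Prop := fun U => IsWellPlaced p W (S : Subgroup G) U ∧ A ≤ U ∧
    ∃ g ∈ Subgroup.normalizer (U : Set G), CfsgLib.Techniques.cj g A ≠ A with hΦ
  have hex : ∃ U, Φ U := by
    simp only [Cfsg.IsWeaklyClosed, hAS, true_and, not_forall] at hnwc
    obtain ⟨g, hg, hne⟩ := hnwc
    obtain ⟨-, hfam⟩ := CfsgLib.Techniques.isConjugationFamily_iff.1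
      (CfsgLib.Techniques.isConjugationFamily_wellPlaced hS hW)
    have himg : ∀ y : G, CfsgLib.Techniques.rc y '' (A : Set G) = (CfsgLib.Techniques.cj y⁻¹ A : Set G) := by
      intro y
      ext a
      constructor
      · rintro ⟨b, hb, rfl⟩
        exact ⟨b, hb, by simp [CfsgLib.Techniques.rc, mul_assoc]⟩
      · rintro ⟨b, hb, rfl⟩
        exact ⟨b, hb, by simp [CfsgLib.Techniques.rc, mul_assoc]⟩
    have hch := hfam (A : Set G) g⁻¹ ⟨1, A.one_mem⟩ hAS (by rw [himg, inv_inv]; exact hg)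
    obtain ⟨U, hU, hAU, x, hx, hx2⟩ := hmove _ _ _ hch (by
      rw [himg, inv_inv]; exact fun e => hne (SetLike.coe_injective e))
    refine ⟨U, hU, hAU, x⁻¹, inv_mem hx, fun e => hx2 ?_⟩
    rw [himg, e]
  obtain ⟨T, hT, hmax⟩ := Finset.exists_max_image (Set.toFinite {U | Φ U}).toFinset
    (fun U => Nat.card ((S : Subgroup G) ⊓ Subgroup.normalizer (U : Set G) : Subgroup G))
    (by obtain ⟨U, hU⟩ := hex; exact ⟨U, by simpa using hU⟩)
  simp only [Set.Finite.mem_toFinset, Set.mem_setOf_eq] at hT hmax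
  obtain ⟨hwp, hAT, g, hg, hgA⟩ := hT
  set R := (S : Subgroup G) ⊓ Subgroup.normalizer (T : Set G) with hR
  have hRp : IsPGroup p R := hp.to_le inf_le_left
  have hTR : T ≤ R := CfsgLib.Techniques.le_inf_normalizer_self hwp.1
  have hAR : A ≤ R := hAT.trans hTR
  have hAZR : A ≤ Subgroup.centralizer (R : Set G) := fun a ha r hr => hAc a ha r hr.1
  refine ⟨T, hwp, hAT, ?_, hwp.2 0, hAZR, g, hg, ?_, hgA⟩
  · intro x hx
    by_contra hxA
    have hnext := CfsgLib.Techniques.IsWellPlaced.next hp hW hwp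
    have hΦ1 : Φ (W R) := ⟨hnext, (le_inf hAR hAZR).trans (hWZ R hRp), x, hx, fun e =>
      hxA (CfsgLib.Techniques.mem_normalizer_iff_cj.2 e)⟩
    have hle := hmax _ hΦ1
    have hRle : R ≤ (S : Subgroup G) ⊓ Subgroup.normalizer (W R : Set G) :=
      le_inf inf_le_left (CfsgLib.Techniques.le_normalizer_functor hW hRp)
    rcases eq_or_lt_of_le (inf_le_left : R ≤ (S : Subgroup G)) with he | hlt
    · rw [show W R = W (S : Subgroup G) from congrArg W he] at hx
      exact hxA (hAN hx)
    · have h1 := CfsgLib.Techniques.lt_inf_normalizer' (p := p) hp hlt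
      have h2 : (S : Subgroup G) ⊓ Subgroup.normalizer (R : Set G) ≤
          (S : Subgroup G) ⊓ Subgroup.normalizer (W R : Set G) :=
        inf_le_inf_left _ (CfsgLib.Techniques.normalizer_le_normalizer_functor hW hRp)
      exact absurd ((CfsgLib.Techniques.card_lt_of_lt h1).trans_le (Subgroup.card_le_of_le h2)) (not_lt.2 hle)
  · refine le_trans ?_ hTR
    rw [← CfsgLib.Techniques.mem_normalizer_iff_cj.1 hg]
    exact CfsgLib.Techniques.cj_mono hAT

end Cfsg.Agent.S1968
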