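import Cfsg.Statements.S1969
import Mathlib
import Cfsg.Agent.Lib.Techniques.Invariance

set_option autoImplicit false
universe u
open Cfsg
open scoped Pointwise commutatorElement

namespace Cfsg.Agent.S1969

/-- Let p be a prime, G a finite group and W an isomorphism-invariant p-group functor (W assigns to every group Q a subgroup W(Q), nontrivial whenever Q is a nontrivial finite p-group, and every isomorphism from a finite p-group Q onto a group R carries W(Q) onto W(R)). Suppose that W(S*) is normal in G* whenever G* = K/R is a section of G with C_{G*}(O_p(G*)) ≤ O_p(G*) and S* is a Sylow p-subgroup of G*. Then W controls strong fusion in every section of G: for every section K/R and every Sylow p-subgroup T of K/R, the subgroup W(T) controls strong fusion in K/R. -/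
theorem result {G : Type u} [Group G] [Finite G] {p : ℕ} [Fact p.Prime] (W : ∀ (Q : Type u) [Group Q], Subgroup Q) (hW : Cfsg.IsCharPFunctor.{u} p W) (hloc : ∀ (K R : Subgroup G) [hR : (R.subgroupOf K).Normal], Subgroup.centralizer ((Cfsg.pCore p (↥K ⧸ R.subgroupOf K) : Subgroup (↥K ⧸ R.subgroupOf K)) : Set (↥K ⧸ R.subgroupOf K)) ≤ Cfsg.pCore p (↥K ⧸ R.subgroupOf K) → ∀ T : Sylow p (↥K ⧸ R.subgroupOf K), (Cfsg.inducedFunctor (G := (↥K ⧸ R.subgroupOf K)) W ((T : Subgroup (↥K ⧸ R.subgroupOf K)))).Normal) : ∀ (K R : Subgroup G) [hR : (R.subgroupOf K).Normal], ∀ T : Sylow p (↥K ⧸ R.subgroupOf K), Cfsg.ControlsStrongFusion p (Cfsg.inducedFunctor (G := (↥K ⧸ R.subgroupOf K)) W ((T : Subgroup (↥K ⧸ R.subgroupOf K)))) := by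
  intro K R hR T
  have h𝓦 : ∀ V ∈ ({W} : Set (∀ (Q : Type u) [Group Q], Subgroup Q)), Cfsg.IsCharPFunctor.{u} p V :=
    fun V hV => by rw [Set.mem_singleton_iff] at hV; subst hV; exact hW
  have hsec : CfsgLib.Techniques.SectionsSatisfy G
      (fun X _ => CfsgLib.Techniques.Constrained p X →
        Cfsg.FamilyControlsStrongFusionIn p (CfsgLib.Techniques.indFam X {W}) ⊤) := by
    refine CfsgLib.Techniques.sectionsSatisfy_of_quotients ?_ fun K' R' hR' hc => ?_
    · intro Y Z _ _ _ _ e h hc
      exact CfsgLib.Techniques.familyFusion_congr h𝓦 e (h (CfsgLib.Techniques.constrained_congr e hc))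
    · obtain ⟨T'⟩ := (inferInstance : Nonempty (Sylow p (↥K' ⧸ R'.subgroupOf K')))
      exact CfsgLib.Techniques.familyFusion_of_normal (CfsgLib.Techniques.sylIn_top T') (hloc K' R' hc T')
  have hctl := CfsgLib.Techniques.familyFusion_of_sections h𝓦 (↥K ⧸ R.subgroupOf K)
    (((hsec.subgroup K).quotient (R.subgroupOf K)).imp fun Y _ _ h _ _ hc => h hc)
  rw [CfsgLib.Techniques.indFam, Set.image_singleton,
    CfsgLib.Techniques.familyControlsFusion_singleton] at hctl
  have hat := CfsgLib.Techniques.fusionAt_of_controls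
    (CfsgLib.Techniques.isConjugacyFunctor_induced hW) (CfsgLib.Techniques.sylIn_top T) hctl
  refine ⟨T, CfsgLib.Techniques.inducedFunctor_le W _, fun A hA => ⟨hA, fun g hg => ?_⟩⟩
  obtain ⟨x, hx, hxa⟩ := hat A g (Subgroup.mem_top g) hA hg
  exact ⟨x, hx.2, fun a ha => (hxa a ha).symm⟩

end Cfsg.Agent.S1969
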