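import Cfsg.Statements.S1970
import Mathlib
import Cfsg.Agent.Lib.Techniques.Invariance

set_option autoImplicit false
universe u
open Cfsg
open scoped Pointwise commutatorElement

namespace Cfsg.Agent.S1970

/-- Let p be a prime, G a finite group and W an isomorphism-invariant p-group functor (W assigns to every group Q a subgroup W(Q), nontrivial whenever Q is a nontrivial finite p-group, and every isomorphism from a finite p-group Q onto a group R carries W(Q) onto W(R)). Suppose that for every section G* = K/R of G with C_{G*}(O_p(G*)) ≤ O_p(G*) and every Sylow p-subgroup S* of G*, one has O_p(G*) ∩ (G*)' = O_p(G*) ∩ (N_{G*}(W(S*)))'. Then W controls transfer in every section G* of G: S* ∩ (G*)' = S* ∩ (N_{G*}(W(S*)))' for a Sylow p-subgroup S* of G*. -/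
theorem result {G : Type u} [Group G] [Finite G] {p : ℕ} [Fact p.Prime] (W : ∀ (Q : Type u) [Group Q], Subgroup Q) (hW : Cfsg.IsCharPFunctor.{u} p W) (hloc : ∀ (K R : Subgroup G) [hR : (R.subgroupOf K).Normal], Subgroup.centralizer ((Cfsg.pCore p (↥K ⧸ R.subgroupOf K) : Subgroup (↥K ⧸ R.subgroupOf K)) : Set (↥K ⧸ R.subgroupOf K)) ≤ Cfsg.pCore p (↥K ⧸ R.subgroupOf K) → ∀ T : Sylow p (↥K ⧸ R.subgroupOf K), Cfsg.pCore p (↥K ⧸ R.subgroupOf K) ⊓ commutator (↥K ⧸ R.subgroupOf K) = Cfsg.pCore p (↥K ⧸ R.subgroupOf K) ⊓ ⁅Subgroup.normalizer ((Cfsg.inducedFunctor (G := (↥K ⧸ R.subgroupOf K)) W ((T : Subgroup (↥K ⧸ R.subgroupOf K))) : Subgroup (↥K ⧸ R.subgroupOf K)) : Set (↥K ⧸ R.subgroupOf K)), Subgroup.normalizer ((Cfsg.inducedFunctor (G := (↥K ⧸ R.subgroupOf K)) W ((T : Subgroup (↥K ⧸ R.subgroupOf K))) : Subgroup (↥K ⧸ R.subgroupOf K)) : Set (↥K ⧸ R.subgroupOf K))⁆) : ∀ (K R : Subgroup G) [hR : (R.subgroupOf K).Normal], Cfsg.ControlsTransferIn p (Cfsg.inducedFunctor (G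 := (↥K ⧸ R.subgroupOf K)) W) ⊤ := by
  intro K R hR
  have h𝓦 : ∀ V ∈ ({W} : Set (∀ (Q : Type u) [Group Q], Subgroup Q)), Cfsg.IsCharPFunctor.{u} p V :=
    fun V hV => by rw [Set.mem_singleton_iff] at hV; subst hV; exact hW
  have hsec : CfsgLib.Techniques.SectionsSatisfy G
      (fun X _ => CfsgLib.Techniques.Constrained p X → ∀ T : Sylow p X,
        Cfsg.pCore p X ⊓ ⁅(⊤ : Subgroup X), (⊤ : Subgroup X)⁆ = Cfsg.pCore p X ⊓
          ⁅Subgroup.normalizer ((Cfsg.inducedFunctor (G := X) W (T : Subgroup X) : Subgroup X) : Set X),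
            Subgroup.normalizer ((Cfsg.inducedFunctor (G := X) W (T : Subgroup X) : Subgroup X) : Set X)⁆) := by
    refine CfsgLib.Techniques.sectionsSatisfy_of_quotients ?_ fun K' R' hR' hc T => ?_
    · intro Y Z _ _ _ _ e h hc T
      obtain ⟨T', hT'⟩ := CfsgLib.Techniques.exists_map_sylow_eq e T
      have := congrArg (Subgroup.map e.toMonoidHom) (h (CfsgLib.Techniques.constrained_congr e hc) T')
      rw [Subgroup.map_inf _ _ _ e.injective, Subgroup.map_inf _ _ _ e.injective, Subgroup.map_commutator,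
        Subgroup.map_commutator, CfsgLib.Base.map_pCore_mulEquiv, Subgroup.map_top_of_surjective _ e.surjective,
        CfsgLib.Techniques.normalizer_map_mulEquiv,
        ← CfsgLib.Techniques.inducedFunctor_map_of_injective hW T'.isPGroup' (f := e.toMonoidHom) e.injective, hT'] at this
      exact this
    · have := hloc K' R' hc T
      rwa [commutator_def] at this
  have hctl := CfsgLib.Techniques.familyTransfer_of_sections h𝓦 (↥K ⧸ R.subgroupOf K)
    (((hsec.subgroup K).quotient (R.subgroupOf K)).imp fun Y _ _ h hK hQ hc => ?_)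
  · rwa [CfsgLib.Techniques.indFam, Set.image_singleton,
      CfsgLib.Techniques.familyControlsTransfer_singleton] at hctl
  obtain ⟨S⟩ := (inferInstance : Nonempty (Sylow p Y))
  have hS := CfsgLib.Techniques.sylIn_top S
  by_cases hSP : (S : Subgroup Y) ≤ Cfsg.pCore p Y
  · have hSeq : (S : Subgroup Y) = Cfsg.pCore p Y := le_antisymm hSP (CfsgLib.Base.pCore_le_sylow S)
    refine ⟨S, le_top, hS.isPGroup, hS.not_dvd, le_antisymm ?_ (CfsgLib.Techniques.transferTarget_le _ _)⟩
    refine le_iSup₂_of_le (Cfsg.inducedFunctor W) ⟨W, rfl, rfl⟩ ?_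
    have htop : Subgroup.normalizer ((Cfsg.inducedFunctor (G := Y) W (S : Subgroup Y) : Subgroup Y) : Set Y) = ⊤ := by
      refine top_le_iff.1 (le_trans ?_ (CfsgLib.Techniques.normalizer_le_normalizer_functor
        (CfsgLib.Techniques.isConjugacyFunctor_induced hW) hS.isPGroup))
      rw [hSeq, Subgroup.normalizer_eq_top]
    rw [htop, top_inf_eq]
  have hP0 : Cfsg.pCore p Y ≠ ⊥ := by
    intro h0
    have hc' : Subgroup.centralizer ((Cfsg.pCore p Y : Subgroup Y) : Set Y) ≤ Cfsg.pCore p Y := hc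
    rw [h0] at hc' hSP
    exact hSP fun x _ => hc' fun y hy => by
      rw [SetLike.mem_coe, Subgroup.mem_bot] at hy
      simp [hy]
  refine CfsgLib.Techniques.familyTransfer_of_pCore_inf h𝓦 hK (hQ _ hP0) hS hSP ?_
  rw [h hc S]
  refine le_iSup₂_of_le (Cfsg.inducedFunctor W) ⟨W, rfl, rfl⟩ ?_
  exact inf_le_inf (CfsgLib.Base.pCore_le_sylow S)
    (Subgroup.commutator_mono (le_inf le_top le_rfl) (le_inf le_top le_rfl))

end Cfsg.Agent.S1970
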