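import Cfsg.Statements.S1981
import Mathlib
import Cfsg.Agent.Lib.KInf.Basic

set_option autoImplicit false
open Cfsg
open scoped Pointwise commutatorElement

namespace Cfsg.Agent.S1981

/-- Let P be a finite p-group generated by its abelian normal subgroups. Then both K-infinity subgroups of P equal P. -/
theorem result {P : Type*} [Group P] [Finite P] {p : ℕ} [Fact p.Prime] (hP : IsPGroup p P) (hgen : ⨆ A ∈ {A : Subgroup P | A.Normal ∧ IsMulCommutative ↥A}, A = ⊤) : Cfsg.kInfLower P = ⊤ ∧ Cfsg.kInfUpper P = ⊤ := by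
  have hle : ∀ Q : Subgroup P, sSup (Cfsg.kLowerStarFamily Q) = ⊤ ∧ sSup (Cfsg.kUpperStarFamily Q) = ⊤ := by
    intro Q
    rw [← top_le_iff, ← top_le_iff, ← hgen]
    exact ⟨iSup₂_le fun A hA => le_sSup (haveI := hA.1; ((CfsgLib.KInf.normalAbelian_mem hA.2).2 Q).1),
      iSup₂_le fun A hA => le_sSup (haveI := hA.1; ((CfsgLib.KInf.normalAbelian_mem hA.2).2 Q).2)⟩
  refine ⟨top_le_iff.1 ((hle _).1.ge.trans (le_iSup (Cfsg.kSeqEven P) 0)), ?_⟩
  refine iInf_eq_top.2 fun n => ?_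
  cases n with
  | zero => rfl
  | succ n => exact (hle _).2

end Cfsg.Agent.S1981
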