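import Cfsg.Statements.S1985
import Mathlib
import Cfsg.Agent.Lib.KInf.Local
import Cfsg.Agent.S1973

set_option autoImplicit false
universe u
open Cfsg
open scoped Pointwise commutatorElement

namespace Cfsg.Agent.S1985

/-- Let p be an odd prime and G a finite group. Then the lower K-infinity subgroup controls weak closure of elements in G: the lower K-infinity subgroup of every p-subgroup P of G contains Z(P), and for some (equivalently, every) Sylow p-subgroup S of G, with K the lower K-infinity subgroup of S, every element of S commuting with all of N_G(K) is weakly closed in S with respect to G (every G-conjugate of it lying in S equals it). -/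
theorem result {G : Type u} [Group G] [Finite G] {p : ℕ} [Fact p.Prime] (hp : p ≠ 2) : Cfsg.ControlsWeakClosureOfElementsIn p (Cfsg.inducedFunctor (G := G) Cfsg.kInfLower) ⊤ := by
  refine Cfsg.Agent.S1973.result _
    (CfsgLib.Techniques.isConjugacyFunctor_induced (CfsgLib.KInf.isCharPFunctor_kInfLower p))
    CfsgLib.KInf.center_le_kInfLower_induced (fun H T hTH hTp hTd hn => ?_) ⊤
  obtain ⟨g, hg, hgP, hq⟩ := CfsgLib.KInf.exists_quadratic_local H T hTH hTp hTd hn
  refine ⟨g, hg, hgP, fun U V hUV hU => ?_⟩
  have h2 : 2 ≤ p - 1 := by have := (Fact.out : p.Prime).two_le; omega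
  obtain ⟨k, hk⟩ := Nat.exists_eq_add_of_le h2
  have h3 : ∀ k, Cfsg.iterCommutator (U.map H.subtype) (Subgroup.zpowers g) (2 + k) = ⊥ := by
    intro k
    induction k with
    | zero => exact le_bot_iff.1 ((Subgroup.commutator_mono (Subgroup.commutator_mono hU le_rfl) le_rfl).trans hq.le)
    | succ k ih =>
      show ⁅Cfsg.iterCommutator (U.map H.subtype) (Subgroup.zpowers g) (2 + k), Subgroup.zpowers g⁆ = ⊥
      rw [ih, Subgroup.commutator_bot_left]
  rw [hk, h3]
  exact bot_le

end Cfsg.Agent.S1985
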