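import Cfsg.Statements.S1988
import Mathlib
import Cfsg.Agent.Lib.KInf.ComplementThms

set_option autoImplicit false
universe u
open Cfsg
open scoped Pointwise commutatorElement

namespace Cfsg.Agent.S1988

/-- Let p be an odd prime, G a finite group with Sylow p-subgroup S and K the lower K-infinity subgroup of S. If N_G(K) has a normal p-complement, or if N_G(K)/C_G(K) is a p-group (every element of N_G(K) of order prime to p centralizes K), then G has a normal p-complement. -/
theorem result {G : Type u} [Group G] [Finite G] {p : ℕ} [Fact p.Prime] (hp : p ≠ 2) (S : Sylow p G) (h : Cfsg.HasNormalPComplement p ↥(Subgroup.normalizer ((Cfsg.inducedFunctor Cfsg.kInfLower (S : Subgroup G) : Subgroup G) : Set G)) ∨ ∀ g ∈ Subgroup.normalizer ((Cfsg.inducedFunctor Cfsg.kInfLower (S : Subgroup G) : Subgroup G) : Set G), (orderOf g).Coprime p → g ∈ Subgroup.centralizer ((Cfsg.inducedFunctor Cfsg.kInfLower (S : Subgroup G) : Subgroup G) : Set G)) : Cfsg.HasNormalPComplement p G := by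
  refine CfsgLib.KInf.hasNormalPComplement_kInf hp S (h.elim id fun h => ?_)
  have hW := CfsgLib.KInf.isCharPFunctor_kInfLower.{u} p
  refine CfsgLib.KInf.npc_normalizer_of_centralizing S
    (CfsgLib.Techniques.le_normalizer_functor (CfsgLib.Techniques.isConjugacyFunctor_induced hW) S.isPGroup') ?_ h
  rintro x ⟨hxS, hxC⟩
  refine ⟨⟨x, hxS⟩, (CfsgLib.KInf.centralizer_kInf_le S.isPGroup').1 fun y hy => Subtype.ext ?_, rfl⟩
  exact hxC (y : G) ⟨y, hy, rfl⟩

end Cfsg.Agent.S1988
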