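import Cfsg.Statements.S1990
import Mathlib
import Cfsg.Agent.Lib.KInf.StableComplement

set_option autoImplicit false
universe u
open Cfsg
open scoped Pointwise commutatorElement

namespace Cfsg.Agent.S1990

/-- Let p be an odd prime, G a finite group with Sylow p-subgroup S, and W an isomorphism-invariant p-group functor (W assigns to every group Q a subgroup W(Q), nontrivial whenever Q is a nontrivial finite p-group, and every isomorphism from a finite p-group Q onto a group R carries W(Q) onto W(R)). Suppose N_G(W(S)) has a normal p-complement, and W(T) controls strong fusion in every section G* = K/R of G all of whose sections are p-stable in the normalizer form, for every Sylow p-subgroup T of G*. Then G has a normal p-complement. -/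
theorem result {G : Type u} [Group G] [Finite G] {p : ℕ} [Fact p.Prime] (hp : p ≠ 2) (W : ∀ (Q : Type u) [Group Q], Subgroup Q) (hW : Cfsg.IsCharPFunctor.{u} p W) (S : Sylow p G) (hN : Cfsg.HasNormalPComplement p ↥(Subgroup.normalizer ((Cfsg.inducedFunctor (G := G) W (S : Subgroup G) : Subgroup G) : Set G))) (hctl : ∀ (K R : Subgroup G) [hR : (R.subgroupOf K).Normal], (∀ (K' R' : Subgroup (↥K ⧸ R.subgroupOf K)) [hR' : (R'.subgroupOf K').Normal], Cfsg.IsNormalizerPStable p (↥K' ⧸ R'.subgroupOf K')) → ∀ T : Sylow p (↥K ⧸ R.subgroupOf K), Cfsg.ControlsStrongFusion p (Cfsg.inducedFunctor (G := (↥K ⧸ R.subgroupOf K)) W (T : Subgroup (↥K ⧸ R.subgroupOf K)))) : Cfsg.HasNormalPComplement p G := by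
  refine CfsgLib.KInf.hasNormalPComplement_of_stable_fusion hW hp S hN ?_
  refine CfsgLib.Techniques.sectionsSatisfy_of_quotients ?_ fun K R hR hst T => ?_
  · intro Y Z _ _ _ _ e h hst T
    obtain ⟨T', hT'⟩ := CfsgLib.Techniques.exists_map_sylow_eq e T
    rw [← hT', CfsgLib.Techniques.inducedFunctor_map_of_injective hW T'.isPGroup' (f := e.toMonoidHom) e.injective]
    refine CfsgLib.KInf.controlsStrongFusion_map e (h ?_ T')
    exact hst.of_surjective (K := ⊤) (e.symm.toMonoidHom.comp (⊤ : Subgroup Z).subtype)
      (e.symm.surjective.comp fun z => ⟨⟨z, Subgroup.mem_top z⟩, rfl⟩)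
  · exact hctl K R (fun K' R' hR' => CfsgLib.Techniques.quotient_of_sectionsSatisfy hst K' R') T

end Cfsg.Agent.S1990
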