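import Cfsg.Statements.S1992
import Mathlib
import Cfsg.Agent.S1991
import Cfsg.Agent.Lib.Chars.Burnside
import Cfsg.Agent.Lib.Techniques.IndexP

set_option autoImplicit false
open Cfsg
open scoped Pointwise commutatorElement

namespace Cfsg.Agent.S1992

/-- Let G be a finite group in which, for every prime q dividing the order of G, every Sylow q-subgroup is its own normalizer. Then the order of G is a power of a single prime (G is a q-group for some prime q; for G trivial any prime works). -/
theorem result {G : Type*} [Group G] [Finite G] (h : ∀ q : ℕ, q.Prime → q ∣ Nat.card G → ∀ Q : Sylow q G, Subgroup.normalizer ((Q : Subgroup G) : Set G) = Q) : ∃ q : ℕ, q.Prime ∧ IsPGroup q G := by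
  rcases Nat.lt_or_ge 1 (Nat.card G) with hG | hG
  swap
  · refine ⟨2, Nat.prime_two, IsPGroup.of_card (n := 0) ?_⟩
    have h0 : 0 < Nat.card G := Nat.card_pos
    simp only [pow_zero]; omega
  obtain ⟨r, hr, N, hNn, hNi⟩ : ∃ r : ℕ, r.Prime ∧ ∃ N : Subgroup G, N.Normal ∧ N.index = r := by
    by_cases h5 : ∃ r, r.Prime ∧ r ∣ Nat.card G ∧ 5 ≤ r
    · obtain ⟨r, hr, hrd, hr5⟩ := h5
      haveI : Fact r.Prime := ⟨hr⟩
      obtain ⟨S⟩ := (inferInstance : Nonempty (Sylow r G))
      refine ⟨r, hr, Cfsg.Agent.S1991.result hr5 S (fun h0 => ?_) fun g hg hgc => ?_⟩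
      · have h1 := Sylow.card_eq_multiplicity S
        rw [h0, Subgroup.card_bot] at h1
        have h2 : 0 < (Nat.card G).factorization r := hr.factorization_pos_of_dvd Nat.card_pos.ne' hrd
        exact absurd h1 (Nat.one_lt_pow h2.ne' hr.one_lt).ne
      · rw [h r hr hrd S] at hg
        obtain ⟨k, hk⟩ := IsPGroup.iff_orderOf.1 S.isPGroup' ⟨g, hg⟩
        rw [Subgroup.orderOf_mk] at hk
        have h1 : g = 1 := orderOf_eq_one_iff.1
          (Nat.eq_one_of_dvd_coprimes (Nat.Coprime.pow_left k hgc.symm) (hk ▸ dvd_refl _) (dvd_refl _))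
        rw [h1]
        exact one_mem _
    · push Not at h5
      haveI : Group.IsSolvable G := by
        refine CfsgLib.Chars.isSolvable_of_primeFactors_pair 2 3 fun r hr hd => ?_
        have h1 := h5 r hr hd
        have h2 := hr.two_le
        interval_cases r
        · exact Or.inl rfl
        · exact Or.inr rfl
        · exact absurd hr (by norm_num)
      haveI : Nontrivial G := Finite.one_lt_card_iff_nontrivial.1 hG
      have hA : Nat.card (Abelianization G) ≠ 1 := fun h0 => (IsSolvable.commutator_lt_top_of_nontrivial G).ne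
        (Subgroup.index_eq_one.1 h0)
      obtain ⟨r, hr, hrd⟩ := Nat.exists_prime_and_dvd hA
      haveI : Fact r.Prime := ⟨hr⟩
      obtain ⟨S⟩ := (inferInstance : Nonempty (Sylow r G))
      refine ⟨r, hr, CfsgLib.Techniques.exists_index_eq_of_not_le_commutator S fun hle => ?_⟩
      exact S.not_dvd_index ((hrd.trans (dvd_of_eq rfl)).trans (Subgroup.index_dvd_of_le hle))
  refine ⟨r, hr, ?_⟩
  haveI : Fact r.Prime := ⟨hr⟩
  rw [IsPGroup.iff_card]
  refine ⟨(Nat.card G).primeFactorsList.length, Nat.eq_prime_pow_of_unique_prime_dvd Nat.card_pos.ne' fun {q} hq hqd => ?_⟩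
  by_contra hne
  haveI : Fact q.Prime := ⟨hq⟩
  obtain ⟨Q⟩ := (inferInstance : Nonempty (Sylow q G))
  have hQN : (Q : Subgroup G) ≤ N := by
    intro x hx
    obtain ⟨k, hk⟩ := IsPGroup.iff_orderOf.1 Q.isPGroup' ⟨x, hx⟩
    rw [Subgroup.orderOf_mk] at hk
    have h1 : orderOf (QuotientGroup.mk' N x) ∣ r := by
      have h2 : orderOf (QuotientGroup.mk' N x) ∣ Nat.card (G ⧸ N) := orderOf_dvd_natCard _
      rwa [← Subgroup.index_eq_card, hNi] at h2
    have h3 : orderOf (QuotientGroup.mk' N x) = 1 :=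
      Nat.eq_one_of_dvd_coprimes (Nat.Coprime.pow_left k ((Nat.coprime_primes hq hr).2 hne))
        (hk ▸ orderOf_map_dvd (QuotientGroup.mk' N) x) h1
    exact (QuotientGroup.eq_one_iff x).1 (orderOf_eq_one_iff.1 h3)
  have htop : N = ⊤ := by
    rw [eq_top_iff]
    intro g _
    obtain ⟨a, ha, c, hc, rfl⟩ := (CfsgLib.Techniques.sylIn_top Q).frattini (N := N) le_top
      (by rw [Subgroup.normalizer_eq_top]) (Subgroup.mem_top g)
    refine mul_mem hc ?_
    have h1 := ha.2
    rw [inf_eq_left.2 hQN, h q hq hqd Q] at h1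
    exact hQN h1
  rw [htop, Subgroup.index_top] at hNi
  exact hr.ne_one hNi.symm

end Cfsg.Agent.S1992
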