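import Cfsg.Statements.S1998
import Mathlib
import Cfsg.Agent.Lib.Techniques.MinimalFailure

set_option autoImplicit false
universe u
open Cfsg
open scoped Pointwise commutatorElement

namespace Cfsg.Agent.S1998

/-- Let p be a prime, G a finite group with Sylow p-subgroup S, and 𝓦 a nonempty set of isomorphism-invariant p-group functors (W assigns to every group Q a subgroup W(Q), nontrivial whenever Q is a nontrivial finite p-group, and every isomorphism from a finite p-group Q onto a group R carries W(Q) onto W(R)). Suppose the induced conjugacy functors control transfer in every section of G other than G itself, but not in G. Let T be the subgroup generated by the S ∩ (N_G(W(S)))', W ∈ 𝓦, and M = N_G(T ∩ O_p(G)). Then: C_G(O_p(G)) ≤ O_p(G); M is a proper subgroup of G containing every proper subgroup of G that contains S (the unique maximal subgroup over S); [O_p(G), M] ≤ O_p(G) ∩ M' ≤ O_p(G) ∩ T; and every element u of S outside O_p(G) satisfies [X,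 u, …, u] ≰ Y with p − 1 entries u, for some chief factor X/Y of G with X ≤ O_p(G). -/
theorem result {G : Type u} [Group G] [Finite G] {p : ℕ} [Fact p.Prime] (S : Sylow p G) (𝓦 : Set (∀ (Q : Type u) [Group Q], Subgroup Q)) (h𝓦 : ∀ W ∈ 𝓦, Cfsg.IsCharPFunctor.{u} p W) (hne : 𝓦.Nonempty) (hsec : ∀ (K R : Subgroup G) [hR : (R.subgroupOf K).Normal], (K = ⊤ → R ≠ ⊥) → Cfsg.FamilyControlsTransferIn p ((fun W => Cfsg.inducedFunctor (G := (↥K ⧸ R.subgroupOf K)) W) '' 𝓦) ⊤) (hG : ¬ Cfsg.FamilyControlsTransferIn p ((fun W => Cfsg.inducedFunctor (G := G) W) '' 𝓦) ⊤) (T M : Subgroup G) (hT : T = (⨆ W ∈ 𝓦, (S : Subgroup G) ⊓ ⁅Subgroup.normalizer ((Cfsg.inducedFunctor (G := G) W (S : Subgroup G) : Subgroup G) : Set G), Subgroup.normalizer ((Cfsg.inducedFunctor (G := G) W (S : Subgroup G) : Subgroup G) : Set G)⁆)) (hM : M = Subgroup.normalizer ((T ⊓ Cfsg.pCore p G : Subgroup G) : Set G)) : Subgroup.centralizer ((Cfsg.pCore p G : Subgroup G) : Set G) ≤ Cfsg.pCore p G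 ∧ (M ≠ ⊤ ∧ ∀ H : Subgroup G, (S : Subgroup G) ≤ H → H ≠ ⊤ → H ≤ M) ∧ (⁅Cfsg.pCore p G, M⁆ ≤ Cfsg.pCore p G ⊓ ⁅M, M⁆ ∧ Cfsg.pCore p G ⊓ ⁅M, M⁆ ≤ Cfsg.pCore p G ⊓ T) ∧ ∀ u : G, u ∈ (S : Subgroup G) → u ∉ Cfsg.pCore p G → ∃ U V : Subgroup G, Cfsg.IsChiefFactor U V ∧ U ≤ Cfsg.pCore p G ∧ ¬ Cfsg.iterCommutator U (Subgroup.zpowers u) (p - 1) ≤ V := by
  have hK : ∀ K : Subgroup G, K ≠ ⊤ → Cfsg.FamilyControlsTransferIn p (CfsgLib.Techniques.indFam G 𝓦) K := by
    intro K hK
    haveI : ((⊥ : Subgroup G).subgroupOf K).Normal := by rw [Subgroup.bot_subgroupOf]; infer_instance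
    exact CfsgLib.Techniques.familyTransfer_subgroup h𝓦 (CfsgLib.Techniques.familyTransfer_congr h𝓦
      ((QuotientGroup.quotientMulEquivOfEq (Subgroup.bot_subgroupOf K)).trans QuotientGroup.quotientBot)
      (hsec K ⊥ fun h => absurd h hK))
  have hQ : ∀ (N : Subgroup G) [N.Normal], N ≠ ⊥ →
      Cfsg.FamilyControlsTransferIn p (CfsgLib.Techniques.indFam (G ⧸ N) 𝓦) ⊤ := by
    intro N _ hN
    let f : (⊤ : Subgroup G) →* G ⧸ N := (QuotientGroup.mk' N).comp (⊤ : Subgroup G).subtype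
    have hf : Function.Surjective f := (QuotientGroup.mk'_surjective N).comp fun g => ⟨⟨g, Subgroup.mem_top g⟩, rfl⟩
    have hker : f.ker = N.subgroupOf ⊤ := by
      ext x
      rw [MonoidHom.mem_ker, Subgroup.mem_subgroupOf]
      exact QuotientGroup.eq_one_iff _
    haveI : (N.subgroupOf ⊤).Normal := hker ▸ inferInstance
    exact CfsgLib.Techniques.familyTransfer_congr h𝓦
      ((QuotientGroup.quotientMulEquivOfEq hker.symm).trans (QuotientGroup.quotientKerEquivOfSurjective f hf))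
      (hsec ⊤ N fun _ => hN)
  obtain ⟨h1, h2, h3, h4⟩ := CfsgLib.Techniques.minimal_failure h𝓦 hne hK hQ hG (CfsgLib.Techniques.sylIn_top S)
  have hTX : T = CfsgLib.Techniques.transferTarget (S : Subgroup G) (CfsgLib.Techniques.indFam G 𝓦) := by
    rw [hT, CfsgLib.Techniques.transferTarget, CfsgLib.Techniques.indFam, iSup_image]
    refine iSup_congr fun W => iSup_congr fun _ => ?_
    simp only [top_inf_eq]
  rw [← hTX] at h2 h3
  subst hM
  exact ⟨h1, h2, h3 _ rfl, h4⟩

end Cfsg.Agent.S1998
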