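import Cfsg.Statements.S2002
import Mathlib
import Cfsg.Agent.Lib.Techniques.CentralControl

set_option autoImplicit false
open Cfsg
open scoped Pointwise commutatorElement

namespace Cfsg.Agent.S2002

/-- Let p be a prime dividing the order of the finite group G, P a Sylow p-subgroup, W a conjugacy functor for p on G with Z(H) ≤ W(H) for every nontrivial p-subgroup H, and V a central functor (a conjugacy functor with V(H) ≤ Z(H), and V(H) ≤ V(K) whenever Z(H) ≤ Z(K)). Say that W with V controls strong fusion in a subgroup L when some Sylow p-subgroup Q of L has the property: whenever X ⊆ Q and a ∈ L with a⁻¹Xa ⊆ Q, then a = c b with c ∈ C_L(X) and b = b₁ ⋯ bₙ a product of elements each in N_L(W(Q)) or in C_L(V(Q)) such that every partial conjugate (b₁ ⋯ bₖ)⁻¹ X (b₁ ⋯ bₖ) lies in Q. If W with V controls strong fusion in N_G(H) for every subgroup H with Z(P) ≤ H ≤ P, then W with V controls strong fusion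 in G. -/
theorem result {G : Type*} [Group G] [Finite G] {p : ℕ} [Fact p.Prime] (hdiv : p ∣ Nat.card G) (P : Sylow p G) (W V : Subgroup G → Subgroup G) (hW : Cfsg.IsConjugacyFunctor p W) (hV : Cfsg.IsConjugacyFunctor p V) (hWZ : ∀ H : Subgroup G, IsPGroup p ↥H → H ⊓ Subgroup.centralizer ((H : Subgroup G) : Set G) ≤ W H) (hVZ : ∀ H : Subgroup G, IsPGroup p ↥H → V H ≤ H ⊓ Subgroup.centralizer ((H : Subgroup G) : Set G)) (hVmono : ∀ H K : Subgroup G, IsPGroup p ↥H → IsPGroup p ↥K → H ≠ ⊥ → K ≠ ⊥ → H ⊓ Subgroup.centralizer ((H : Subgroup G) : Set G) ≤ K ⊓ Subgroup.centralizer ((K : Subgroup G) : Set G) → V H ≤ V K) (hloc : ∀ H : Subgroup G, (P : Subgroup G) ⊓ Subgroup.centralizer (((P : Subgroup G) : Subgroup G) : Set G) ≤ H → H ≤ (P : Subgroup G) → ∃ Q : Subgroup G, Q ≤ Subgroup.normalizer ((H : Subgroup G) : Set G) ∧ IsPGroup p ↥Q ∧ ¬ p ∣ (Q).relIndex (Subgroup.normalizer ((H : Subgroup G) : Set G)) ∧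 ∀ (X : Set G) (a : G), X ⊆ Q → a ∈ Subgroup.normalizer ((H : Subgroup G) : Set G) → (fun x => a⁻¹ * x * a) '' X ⊆ Q → ∃ c ∈ Subgroup.normalizer ((H : Subgroup G) : Set G) ⊓ Subgroup.centralizer X, ∃ (n : ℕ) (b : Fin n → G), (∀ i, b i ∈ Subgroup.normalizer ((H : Subgroup G) : Set G) ⊓ Subgroup.normalizer ((W Q : Subgroup G) : Set G) ∨ b i ∈ Subgroup.normalizer ((H : Subgroup G) : Set G) ⊓ Subgroup.centralizer ((V Q : Subgroup G) : Set G)) ∧ a = c * (List.ofFn b).prod ∧ ∀ k : ℕ, k ≤ n → (fun x => (((List.ofFn b).take k).prod)⁻¹ * x * ((List.ofFn b).take k).prod) '' ((fun x => c⁻¹ * x * c) '' X) ⊆ Q) : ∃ Q : Subgroup G, IsPGroup p ↥Q ∧ ¬ p ∣ Q.index ∧ ∀ (X : Set G) (a : G), X ⊆ Q → (fun x => a⁻¹ * x * a) '' X ⊆ Q → ∃ c ∈ Subgroup.centralizer X, ∃ (n : ℕ) (b : Fin n → G), (∀ i, b i ∈ ⊤ ⊓ Subgroup.normalizer ((W Q : Subgroup G) : Set G) ∨ b i ∈ ⊤ ⊓ Subgroup.centralizer ((V Q : Subgroup G) : Set G)) ∧ a =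 c * (List.ofFn b).prod ∧ ∀ k : ℕ, k ≤ n → (fun x => (((List.ofFn b).take k).prod)⁻¹ * x * ((List.ofFn b).take k).prod) '' ((fun x => c⁻¹ * x * c) '' X) ⊆ Q := by
  have hS := CfsgLib.Techniques.sylIn_top P
  have key := CfsgLib.Techniques.cFusionAt_of_local (W := W) (V := V) hS hW hV
    (fun {T} hT => hWZ T hT)
    (fun {T} hT h => CfsgLib.Techniques.functor_mono_ctr P.isPGroup' hV hVmono hT h)
    (fun H h1 h2 => by
      obtain ⟨Q, hQ1, hQ2, hQ3, hQ4⟩ := hloc H h1 h2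
      refine ⟨Q, ⟨hQ1, hQ2, hQ3⟩, fun X y hX hy hyX => ?_⟩
      obtain ⟨c, hc, n, b, hb, ha, hpre⟩ := hQ4 X y⁻¹ hX (inv_mem hy)
        (by rintro _ ⟨x, hx, rfl⟩; simpa [CfsgLib.Techniques.lc] using hyX ⟨x, hx, rfl⟩)
      have := CfsgLib.Techniques.link_of_list
        (𝓝 := CfsgLib.Techniques.centralSteps W V Q (Subgroup.normalizer (H : Set G))) hX hc.2
        (fun i => (hb i).elim (fun h => ⟨_, Or.inl rfl, h⟩) (fun h => ⟨_, Or.inr rfl, h⟩)) ha hpre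
      rwa [inv_inv] at this)
  refine ⟨P, P.isPGroup', P.not_dvd_index, fun X a hX haX => ?_⟩
  obtain ⟨n, b, hb, hpre, hlast⟩ := CfsgLib.Techniques.list_of_link (key X a⁻¹ hX (Subgroup.mem_top _)
    (by rintro _ ⟨x, hx, rfl⟩; simpa [CfsgLib.Techniques.lc] using haX ⟨x, hx, rfl⟩))
  have hc : a * ((List.ofFn b).prod)⁻¹ ∈ Subgroup.centralizer X := by
    rw [Subgroup.mem_centralizer_iff]
    intro x hx
    have h : a⁻¹ * x * a = ((List.ofFn b).prod)⁻¹ * x * (List.ofFn b).prod := by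
      simpa [CfsgLib.Techniques.lc] using hlast x hx
    calc x * (a * ((List.ofFn b).prod)⁻¹) = a * (a⁻¹ * x * a) * ((List.ofFn b).prod)⁻¹ := by group
      _ = a * ((List.ofFn b).prod)⁻¹ * x := by rw [h]; group
  refine ⟨_, hc, n, b, fun i => ?_, by group, ?_⟩
  · obtain ⟨N, hN | hN, hbN⟩ := hb i
    · exact Or.inl (hN ▸ hbN)
    · exact Or.inr (Set.mem_singleton_iff.1 hN ▸ hbN)
  · rintro k hk _ ⟨_, ⟨x, hx, rfl⟩, rfl⟩
    have h := Subgroup.mem_centralizer_iff.1 hc x hx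
    have e : (a * ((List.ofFn b).prod)⁻¹)⁻¹ * x * (a * ((List.ofFn b).prod)⁻¹) = x := by
      rw [mul_assoc, h, inv_mul_cancel_left]
    show _⁻¹ * ((a * ((List.ofFn b).prod)⁻¹)⁻¹ * x * (a * ((List.ofFn b).prod)⁻¹)) * _ ∈ (P : Subgroup G)
    rw [e]
    exact hpre k hk x hx

end Cfsg.Agent.S2002
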