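import Cfsg.Statements.S2005
import Mathlib
import Cfsg.Agent.Lib.KInf.ComplementThms

set_option autoImplicit false
universe u
open Cfsg
open scoped Pointwise commutatorElement

namespace Cfsg.Agent.S2005

/-- Thompson's normal p-complement criterion in functor form. Let p be a prime, G a finite group with Sylow p-subgroup S, and W an isomorphism-invariant p-group functor (W assigns to every group Q a subgroup W(Q), nontrivial whenever Q is a nontrivial finite p-group, and every isomorphism from a finite p-group Q onto a group R carries W(Q) onto W(R)). Suppose N_G(W(S)) has a normal p-complement, and that W(S*) is normal in G* whenever G* = K/R is a section of G with C_{G*}(O_p(G*)) ≤ O_p(G*) such that G*/O_p(G*) has a normal p-complement, and S* is a Sylow p-subgroup of G* that is a maximal subgroup of G*. Then G has a normal p-complement. -/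
theorem result {G : Type u} [Group G] [Finite G] {p : ℕ} [Fact p.Prime] (W : ∀ (Q : Type u) [Group Q], Subgroup Q) (hW : Cfsg.IsCharPFunctor.{u} p W) (S : Sylow p G) (hN : Cfsg.HasNormalPComplement p ↥(Subgroup.normalizer ((Cfsg.inducedFunctor (G := G) W (S : Subgroup G) : Subgroup G) : Set G))) (hloc : ∀ (K R : Subgroup G) [hR : (R.subgroupOf K).Normal], Subgroup.centralizer ((Cfsg.pCore p (↥K ⧸ R.subgroupOf K) : Subgroup (↥K ⧸ R.subgroupOf K)) : Set (↥K ⧸ R.subgroupOf K)) ≤ Cfsg.pCore p (↥K ⧸ R.subgroupOf K) → Cfsg.HasNormalPComplement p ((↥K ⧸ R.subgroupOf K) ⧸ Cfsg.pCore p (↥K ⧸ R.subgroupOf K)) → ∀ T : Sylow p (↥K ⧸ R.subgroupOf K), IsCoatom (T : Subgroup (↥K ⧸ R.subgroupOf K)) → (Cfsg.inducedFunctor (G := (↥K ⧸ R.subgroupOf K)) W ((T : Subgroup (↥K ⧸ R.subgroupOf K)))).Normal) : Cfsg.HasNormalPComplement p G := by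
  refine CfsgLib.KInf.hasNormalPComplement_of_functor hW
    (Pr := fun X _ => CfsgLib.Techniques.Constrained p X → Cfsg.HasNormalPComplement p (X ⧸ Cfsg.pCore p X) →
      ∀ T : Sylow p X, IsCoatom (T : Subgroup X) → (Cfsg.inducedFunctor (G := X) W (T : Subgroup X)).Normal)
    (fun X _ _ P hm hs => hs.self hm.centralizer_le (CfsgLib.KInf.quotient_pCore_complement hm) P
      (CfsgLib.KInf.isCoatom_sylow hm)) S ?_ hN
  refine CfsgLib.Techniques.sectionsSatisfy_of_quotients ?_ fun K R hR => hloc K R
  intro Y Z _ _ _ _ e h hc hq T hT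
  obtain ⟨T', hT'⟩ := CfsgLib.Techniques.exists_map_sylow_eq e T
  rw [← hT', CfsgLib.Techniques.map_inducedFunctor_normal_iff hW e T'.isPGroup']
  refine h (CfsgLib.Techniques.constrained_congr e hc) (CfsgLib.KInf.npc_quotient_congr e.symm hq) T' ⟨?_, ?_⟩
  · intro h1
    refine hT.1 (hT'.symm.trans ?_)
    rw [h1, Subgroup.map_top_of_surjective _ e.surjective]
  · intro U hU
    have h2 : (T : Subgroup Z) < U.map e.toMonoidHom :=
      hT' ▸ (Subgroup.map_lt_map_iff_of_injective e.injective).2 hU
    refine Subgroup.map_injective (f := e.toMonoidHom) e.injective ?_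
    rw [hT.2 _ h2, Subgroup.map_top_of_surjective _ e.surjective]

end Cfsg.Agent.S2005
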