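import Cfsg.Statements.S2006
import Mathlib
import Cfsg.Agent.Lib.KInf.ComplementThms

set_option autoImplicit false
universe u
open Cfsg
open scoped Pointwise commutatorElement

namespace Cfsg.Agent.S2006

/-- Let p be a prime, G a finite group with Sylow p-subgroup S, and W an isomorphism-invariant p-group functor (W assigns to every group Q a subgroup W(Q), nontrivial whenever Q is a nontrivial finite p-group, and every isomorphism from a finite p-group Q onto a group R carries W(Q) onto W(R)). Suppose N_G(W(S)) has a normal p-complement, and that whenever G* = K/R is a section of G with C_{G*}(O_p(G*)) ≤ O_p(G*) and S* is a Sylow p-subgroup of G* with W(S*) not normal in G*, there are an element g of S* outside O_p(G*) and a chief factor X/Y of G* with X ≤ O_p(G*) such that [X, g, …, g] ≤ Y with p − 1 entries g but [X, g] ≰ Y. Then G has a normal p-complement. -/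
theorem result {G : Type u} [Group G] [Finite G] {p : ℕ} [Fact p.Prime] (W : ∀ (Q : Type u) [Group Q], Subgroup Q) (hW : Cfsg.IsCharPFunctor.{u} p W) (S : Sylow p G) (hN : Cfsg.HasNormalPComplement p ↥(Subgroup.normalizer ((Cfsg.inducedFunctor (G := G) W (S : Subgroup G) : Subgroup G) : Set G))) (hloc : ∀ (K R : Subgroup G) [hR : (R.subgroupOf K).Normal], Subgroup.centralizer ((Cfsg.pCore p (↥K ⧸ R.subgroupOf K) : Subgroup (↥K ⧸ R.subgroupOf K)) : Set (↥K ⧸ R.subgroupOf K)) ≤ Cfsg.pCore p (↥K ⧸ R.subgroupOf K) → ∀ T : Sylow p (↥K ⧸ R.subgroupOf K), ¬ (Cfsg.inducedFunctor (G := (↥K ⧸ R.subgroupOf K)) W ((T : Subgroup (↥K ⧸ R.subgroupOf K)))).Normal → ∃ g : (↥K ⧸ R.subgroupOf K), g ∈ (T : Subgroup (↥K ⧸ R.subgroupOf K)) ∧ g ∉ Cfsg.pCore p (↥K ⧸ R.subgroupOf K) ∧ ∃ U V : Subgroup (↥K ⧸ R.subgroupOf K), Cfsg.IsChiefFactor U V ∧ U ≤ Cfsg.pCore p (↥K ⧸ R.subgroupOf K) ∧ Cfsg.iterCommutator U (Subgroup.zpowers g) (p - 1) ≤ V ∧ ¬ ⁅U, Subgroup.zpowers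 g⁆ ≤ V) : Cfsg.HasNormalPComplement p G := by
  refine CfsgLib.KInf.hasNormalPComplement_of_functor hW
    (Pr := fun X _ => CfsgLib.Techniques.Constrained p X → ∀ T : Sylow p X,
      ¬ (Cfsg.inducedFunctor (G := X) W (T : Subgroup X)).Normal → ∃ g : X, g ∈ (T : Subgroup X) ∧
        g ∉ Cfsg.pCore p X ∧ ∃ U V : Subgroup X, Cfsg.IsChiefFactor U V ∧ U ≤ Cfsg.pCore p X ∧
          Cfsg.iterCommutator U (Subgroup.zpowers g) (p - 1) ≤ V ∧ ¬ ⁅U, Subgroup.zpowers g⁆ ≤ V)
    (fun X _ _ P hm hs => ?_) S ?_ hN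
  · by_contra hn
    obtain ⟨g, hg, hgP, U, V, hUV, hU, hit, hne⟩ := hs.self hm.centralizer_le P hn
    exact CfsgLib.KInf.no_norm_zero hm hg hgP hUV hU hit hne
  refine CfsgLib.Techniques.sectionsSatisfy_of_quotients ?_ fun K R hR => hloc K R
  intro Y Z _ _ _ _ e h hc T hn
  obtain ⟨T', hT'⟩ := CfsgLib.Techniques.exists_map_sylow_eq e T
  rw [← hT', CfsgLib.Techniques.map_inducedFunctor_normal_iff hW e T'.isPGroup'] at hn
  obtain ⟨g, hg, hgP, U, V, hUV, hU, hit, hne⟩ := h (CfsgLib.Techniques.constrained_congr e hc) T' hn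
  have hUV' := CfsgLib.Techniques.chiefFactor_comap e.symm hUV
  have hc1 : ∀ A : Subgroup Y, A.comap e.symm.toMonoidHom = A.map e.toMonoidHom :=
    fun A => (Subgroup.map_equiv_eq_comap_symm e A).symm
  rw [hc1, hc1] at hUV'
  refine ⟨e g, hT' ▸ ⟨g, hg, rfl⟩, ?_, _, _, hUV', ?_, ?_, ?_⟩
  · rw [← CfsgLib.Base.map_pCore_mulEquiv e]
    rintro ⟨g', hg', he⟩
    exact hgP (e.injective he ▸ hg')
  · rw [← CfsgLib.Base.map_pCore_mulEquiv e]
    exact Subgroup.map_mono hU
  · have h3 := Subgroup.map_mono (f := e.toMonoidHom) hit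
    rw [CfsgLib.Techniques.map_iterCommutator, MonoidHom.map_zpowers] at h3
    exact h3
  · intro h3
    refine hne ((Subgroup.map_le_map_iff_of_injective (f := e.toMonoidHom) e.injective).1 ?_)
    rw [Subgroup.map_commutator, MonoidHom.map_zpowers]
    exact h3

end Cfsg.Agent.S2006
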