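import Cfsg.Statements.S2008
import Mathlib
import Cfsg.Agent.Lib.Techniques.Inverting

set_option autoImplicit false
open Cfsg
open scoped Pointwise commutatorElement

namespace Cfsg.Agent.S2008

/-- Let H be a finite group and z an involution such that every proper normal subgroup of H meets the centralizer of z trivially, and suppose z lies in a Klein four-subgroup E of H all three of whose involutions are conjugate to z in H. Then H has no non-trivial abelian normal subgroup. -/
theorem result {H : Type*} [Group H] [Finite H] (z : H) (hz : orderOf z = 2) (hN : ∀ N : Subgroup H, N.Normal → N ≠ ⊤ → N ⊓ Subgroup.centralizer ({z} : Set H) = ⊥) (E : Subgroup H) (hE : IsKleinFour ↥E) (hzE : z ∈ E) (hc : ∀ e ∈ E, e ≠ 1 → IsConj z e) (N : Subgroup H) [N.Normal] (hab : IsMulCommutative ↥N) : N = ⊥ := by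
  by_cases hNt : N = ⊤
  · exfalso
    have hcomm : ∀ a b : H, a * b = b * a := fun a b =>
      congrArg Subtype.val (hab.is_comm.comm ⟨a, hNt ▸ Subgroup.mem_top a⟩ ⟨b, hNt ▸ Subgroup.mem_top b⟩)
    haveI := hE
    have h1 : ∀ e ∈ E, e = 1 ∨ e = z := by
      intro e he
      by_cases h : e = 1
      · exact Or.inl h
      · obtain ⟨c, hc'⟩ := isConj_iff.1 (hc e he h)
        right
        rw [← hc', hcomm c z, mul_inv_cancel_right]
    have : Nat.card E ≤ 2 := by
      have h2 : Nat.card E ≤ Nat.card ↥({1, z} : Set H) :=
        Nat.card_le_card_of_injective (fun e : ↥E => (⟨(e : H), h1 e e.2⟩ : ↥({1, z} : Set H)))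
          fun a b h => Subtype.ext (Subtype.mk.inj h)
      rw [Nat.card_coe_set_eq] at h2
      exact h2.trans ((Set.ncard_insert_le _ _).trans (by rw [Set.ncard_singleton]))
    rw [IsKleinFour.card_four] at this
    omega
  · exact CfsgLib.Techniques.eq_bot_of_klein_inverting hE fun e he h1 =>
      CfsgLib.Techniques.inf_centralizer_eq_bot_of_isConj (hc e he h1) (hN N inferInstance hNt)

end Cfsg.Agent.S2008
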