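import Cfsg.Statements.S2009
import Mathlib
import Cfsg.Agent.S2008

set_option autoImplicit false
open Cfsg
open scoped Pointwise commutatorElement

namespace Cfsg.Agent.S2009

/-- Let H be a finite group and z an involution such that every proper normal subgroup of H meets the centralizer of z trivially, and suppose z lies in a Klein four-subgroup E of H all three of whose involutions are conjugate to z in H. Then H is simple. -/
theorem result {H : Type*} [Group H] [Finite H] (z : H) (hz : orderOf z = 2) (hN : ∀ N : Subgroup H, N.Normal → N ≠ ⊤ → N ⊓ Subgroup.centralizer ({z} : Set H) = ⊥) (E : Subgroup H) (hE : IsKleinFour ↥E) (hzE : z ∈ E) (hc : ∀ e ∈ E, e ≠ 1 → IsConj z e) : IsSimpleGroup H := by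
  haveI : Nontrivial H := by
    refine ⟨z, 1, fun h => ?_⟩
    rw [h, orderOf_one] at hz
    omega
  refine ⟨fun N hNn => ?_⟩
  by_cases hNt : N = ⊤
  · exact Or.inr hNt
  left
  haveI := hNn
  refine Cfsg.Agent.S2008.result z hz hN E hE hzE hc N ⟨⟨fun a b => ?_⟩⟩
  have hinv : ∀ n ∈ N, z * n * z⁻¹ = n⁻¹ := fun n hn =>
    CfsgLib.Techniques.inverts_of_inf_centralizer_eq_bot (by rw [← hz, pow_orderOf_eq_one]) (hN N hNn hNt) hn
  apply Subtype.ext
  have h := hinv _ (N.mul_mem (N.inv_mem b.2) (N.inv_mem a.2))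
  rw [mul_inv_rev, inv_inv, inv_inv] at h
  show (a : H) * b = b * a
  calc (a : H) * b = z * ((b : H)⁻¹ * (a : H)⁻¹) * z⁻¹ := h.symm
  _ = (z * (b : H)⁻¹ * z⁻¹) * (z * (a : H)⁻¹ * z⁻¹) := by group
  _ = b * a := by rw [hinv _ (N.inv_mem b.2), hinv _ (N.inv_mem a.2), inv_inv, inv_inv]

end Cfsg.Agent.S2009
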