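import Cfsg.Statements.S2011
import Cfsg.Agent.Lib.Fusion.Group
import Cfsg.Agent.Lib.Transfer.NormalPComplement
import Cfsg.Agent.Lib.Base.Cores
import Cfsg.Agent.Lib.Coprime.Basic
import Cfsg.Agent.Lib.Coprime.Action

set_option autoImplicit false
open Cfsg

namespace Cfsg.Agent.S2011

/-- Let G be a finite group with Sylow p-subgroup P and Q ≤ P. Then Q is centric in the fusion system of G on P (C_P(R) ≤ R for every G-conjugate R of Q lying in P) if and only if C_G(Q) is the internal direct product of Z(Q) = Q ∩ C_G(Q) and the largest normal subgroup of C_G(Q) of order prime to p. -/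
theorem result {G : Type*} [Group G] [Finite G] (p : ℕ) [Fact p.Prime] (P : Sylow p G) (Q : Subgroup G) (hQ : Q ≤ P) : (Cfsg.groupFusionSystem (P : Subgroup G)).IsCentric Q ↔ Cfsg.IsInternalDirectProduct (Q ⊓ Subgroup.centralizer (Q : Set G)) ((Cfsg.pPrimeCore p ↥(Subgroup.centralizer (Q : Set G))).map (Subgroup.centralizer (Q : Set G)).subtype) (Subgroup.centralizer (Q : Set G)) := by
  classical
  set C := Subgroup.centralizer (Q : Set G) with hCdef
  set O := (Cfsg.pPrimeCore p C).map C.subtype with hOdef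
  have hOle : O ≤ C := Subgroup.map_subtype_le _
  have hOcop : ∀ o ∈ O, (orderOf o).Coprime p := by
    rintro _ ⟨o', ho', rfl⟩
    rw [Subgroup.coe_subtype, Subgroup.orderOf_coe]
    exact (CfsgLib.Base.pPrimeCore_coprime p C).coprime_dvd_left
      (Subgroup.orderOf_dvd_natCard _ ho')
  have hQp : IsPGroup p Q := P.2.to_le hQ
  have hpe : ∀ t : G, (∃ j, t ^ p ^ j = 1) → ∀ o ∈ O, o ^ orderOf t = 1 → o = 1 := by
    rintro t ⟨j, hj⟩ o ho h1
    rw [← orderOf_eq_one_iff]
    refine Nat.eq_one_of_dvd_coprimes ((hOcop o ho).pow_right j) dvd_rfl ?_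
    exact (orderOf_dvd_of_pow_eq_one h1).trans (orderOf_dvd_of_pow_eq_one hj)
  have hinf : Q ⊓ C ⊓ O = ⊥ := by
    refine le_antisymm (fun o ho => ?_) bot_le
    obtain ⟨j, hj⟩ := hQp ⟨o, ho.1.1⟩
    exact Subgroup.mem_bot.mpr (hpe o ⟨j, congrArg Subtype.val hj⟩ o ho.2 (pow_orderOf_eq_one o))
  have hcomm : ∀ a ∈ Q ⊓ C, ∀ b ∈ O, a * b = b * a :=
    fun a ha b hb => Subgroup.mem_centralizer_iff.mp (hOle hb) a ha.1
  constructor
  · rintro ⟨-, hcent⟩
    refine ⟨inf_le_right, hOle, hcomm, hinf, le_antisymm (sup_le inf_le_right hOle) ?_⟩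
    -- every p-subgroup centralising `Q` lies in `Q`
    have key : ∀ T : Subgroup G, IsPGroup p T → T ≤ C → T ≤ Q := by
      intro T hT hTC
      have hM : IsPGroup p (Q ⊔ T : Subgroup G) := by
        refine IsPGroup.to_sup_of_normal_left' hQp hT (hTC.trans ?_)
        exact CfsgLib.Fusion.centralizer_le_normalizer Q
      obtain ⟨g, hg⟩ := CfsgLib.Fusion.exists_conj_le_sylow P hM
      set R := CfsgLib.Fusion.img Q (CfsgLib.Fusion.cj g) with hR
      have hQR : R ≤ (P : Subgroup G) := (CfsgLib.Fusion.img_mono _ le_sup_left).trans hg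
      have h := hcent R (CfsgLib.Fusion.isConj_group_iff.mpr ⟨hQ, hQR, g, rfl⟩)
      intro t ht
      have ht' : CfsgLib.Fusion.cj g t ∈ R :=
        h ⟨hg (CfsgLib.Fusion.mem_img_of_mem _ (Subgroup.mem_sup_right ht)),
          CfsgLib.Fusion.cj_mem_centralizer_img (hTC ht)⟩
      obtain ⟨q, hq, hqt⟩ : ∃ q ∈ Q, CfsgLib.Fusion.cj g q = CfsgLib.Fusion.cj g t := by
        rw [hR, CfsgLib.Fusion.img_cj, Subgroup.mem_map] at ht'
        exact ht'
      have : q = t := by simpa [CfsgLib.Fusion.cj] using hqt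
      exact this ▸ hq
    let S : Sylow p C := default
    have hS : (S : Subgroup C) ≤ Subgroup.center C := by
      intro s hs
      rw [Subgroup.mem_center_iff]
      intro y
      have hsQ : (s : G) ∈ Q := key _ (S.2.map C.subtype) (Subgroup.map_subtype_le _)
        ⟨s, hs, rfl⟩
      exact Subtype.ext (Subgroup.mem_centralizer_iff.mp y.2 _ hsQ).symm
    have hnc : Cfsg.HasNormalPComplement p C :=
      CfsgLib.Transfer.hasNormalPComplement_of_normalizer_le_centralizer S fun n _ =>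
        Subgroup.mem_centralizer_iff.mpr fun s hs => (Subgroup.mem_center_iff.mp (hS hs) n).symm
    have hcompl := CfsgLib.Transfer.isComplement'_pResidual hnc S
    have hN : Cfsg.pResidual p C ≤ Cfsg.pPrimeCore p C := by
      have := CfsgLib.Transfer.pResidual_normal (G := C) (p := p)
      exact CfsgLib.Base.le_pPrimeCore_of_not_dvd
        (CfsgLib.Transfer.hasNormalPComplement_iff_pResidual.mp hnc)
    intro c hc
    obtain ⟨⟨⟨u, hu⟩, ⟨v, hv⟩⟩, huv⟩ := hcompl.2 ⟨c, hc⟩
    have : (u : G) * (v : G) = c := congrArg Subtype.val huv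
    rw [← this]
    refine mul_mem (Subgroup.mem_sup_right ⟨u, hN hu, rfl⟩) (Subgroup.mem_sup_left ⟨?_, v.2⟩)
    exact key _ (S.2.map C.subtype) (Subgroup.map_subtype_le _) ⟨v, hv, rfl⟩
  · rintro ⟨-, -, -, -, hsup⟩
    refine ⟨hQ, fun R hR y hy => ?_⟩
    obtain ⟨-, -, g, rfl⟩ := CfsgLib.Fusion.isConj_group_iff.mp hR
    rw [CfsgLib.Fusion.img_cj, Subgroup.mem_map]
    refine ⟨g⁻¹ * y * g, ?_, by simp [mul_assoc]⟩
    have ht : g⁻¹ * y * g ∈ C := by
      rw [hCdef, Subgroup.mem_centralizer_iff]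
      intro q hq
      have h2 := Subgroup.mem_centralizer_iff.mp hy.2 (g * q * g⁻¹) (by
        rw [SetLike.mem_coe, CfsgLib.Fusion.img_cj, Subgroup.mem_map]
        exact ⟨q, hq, rfl⟩)
      calc q * (g⁻¹ * y * g) = g⁻¹ * (g * q * g⁻¹ * y) * g := by group
        _ = g⁻¹ * (y * (g * q * g⁻¹)) * g := by rw [h2]
        _ = g⁻¹ * y * g * q := by group
    set t := g⁻¹ * y * g with htdef
    have hnorm : O ≤ Subgroup.normalizer ((Q ⊓ C : Subgroup G) : Set G) :=
      CfsgLib.Coprime.le_normalizer_inf_inf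
        (hOle.trans (CfsgLib.Fusion.centralizer_le_normalizer Q)) (hOle.trans Subgroup.le_normalizer)
    rw [← hsup, sup_comm] at ht
    obtain ⟨o, ho, z, hz, hoz⟩ := (CfsgLib.Coprime.mem_sup_iff_of_le_normalizer hnorm).mp ht
    obtain ⟨j, hj⟩ := P.2 ⟨y, hy.1⟩
    have hj' : y ^ p ^ j = 1 := congrArg Subtype.val hj
    have htj : t ^ p ^ j = 1 := by
      rw [htdef, show g⁻¹ * y * g = g⁻¹ * y * g⁻¹⁻¹ by rw [inv_inv], conj_pow, hj']
      group
    have ho1 : o = 1 := by
      refine hpe t ⟨j, htj⟩ o ho (Subgroup.mem_bot.mp (hinf ▸ ⟨?_, pow_mem ho _⟩))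
      have h1 := pow_orderOf_eq_one t
      conv_lhs at h1 => arg 1; rw [← hoz]
      rw [(Commute.symm (hcomm z hz o ho)).mul_pow, mul_eq_one_iff_eq_inv] at h1
      rw [h1]
      exact (Q ⊓ C).inv_mem ((Q ⊓ C).pow_mem hz _)
    rw [← hoz, ho1, one_mul]
    exact hz.1

end Cfsg.Agent.S2011
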