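import Cfsg.Statements.S2012
import Mathlib
import Cfsg.Agent.Lib.Techniques.AlperinPElements

set_option autoImplicit false
open Cfsg
open scoped Pointwise commutatorElement

namespace Cfsg.Agent.S2012

/-- Alperin's fusion Theorem with the factors taken to be p-elements: let P be a Sylow p-subgroup of a finite group G, A a subset of P and g an element with g⁻¹Ag ⊆ P. Then g = x_1 ⋯ x_n where, for each i, Q_i is a Sylow p-subgroup with P ∩ Q_i a tame intersection (the normalizers in P and in Q_i of P ∩ Q_i are Sylow in N_G(P ∩ Q_i)), x_i normalizes P ∩ Q_i, x_i has p-power order unless Q_i = P, A ⊆ P ∩ Q_1, and (x_1 ⋯ x_i)⁻¹ A (x_1 ⋯ x_i) lies in P ∩ Q_{i+1} for i < n. -/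
theorem result {G : Type*} [Group G] [Finite G] {p : ℕ} [Fact p.Prime] (P : Sylow p G) (A : Set G) (g : G) (hA : A ⊆ (P : Set G)) (hAg : (fun a => g⁻¹ * a * g) '' A ⊆ (P : Set G)) : ∃ (n : ℕ) (Q : Fin n → Sylow p G) (x : Fin n → G), (List.ofFn x).prod = g ∧ (∀ i : Fin n, x i ∈ Subgroup.normalizer ((((P : Subgroup G) ⊓ (Q i : Subgroup G)) : Subgroup G) : Set G) ∧ ¬ p ∣ ((P : Subgroup G) ⊓ Subgroup.normalizer ((((P : Subgroup G) ⊓ (Q i : Subgroup G)) : Subgroup G) : Set G)).relIndex (Subgroup.normalizer ((((P : Subgroup G) ⊓ (Q i : Subgroup G)) : Subgroup G) : Set G)) ∧ ¬ p ∣ ((Q i : Subgroup G) ⊓ Subgroup.normalizer ((((P : Subgroup G) ⊓ (Q i : Subgroup G)) : Subgroup G) : Set G)).relIndex (Subgroup.normalizer ((((P : Subgroup G) ⊓ (Q i : Subgroup G)) : Subgroup G) : Set G)) ∧ ((Q i : Subgroup G) = (P : Subgroup G) ∨ ∃ k : ℕ, orderOf (x i) = p ^ k)) ∧ (∀ h : 0 < n, A ⊆ (((P : Subgroup G) ⊓ (Q ⟨0, h⟩ : Subgroup G) : Subgroup G) : Set G)) ∧ ∀ i : Fin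 n, ∀ h : i.val + 1 < n, (fun a => (((List.ofFn x).take (i.val + 1)).prod)⁻¹ * a * ((List.ofFn x).take (i.val + 1)).prod) '' A ⊆ (((P : Subgroup G) ⊓ (Q ⟨i.val + 1, h⟩ : Subgroup G) : Subgroup G) : Set G) := by
  have hC := CfsgLib.Techniques.pChain P (g := g) hA (fun a ha => hAg ⟨a, ha, rfl⟩)
  clear hA hAg
  induction hC with
  | nil A => exact ⟨0, Fin.elim0, Fin.elim0, by simp, fun i => i.elim0, fun h => absurd h (by omega),
      fun i => i.elim0⟩
  | @cons A g Q x hxN hP hQ hp hA _ ih =>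
    obtain ⟨n, Qs, xs, hprod, hstep, h0, hnext⟩ := ih
    refine ⟨n + 1, Fin.cons Q Qs, Fin.cons x xs, ?_, ?_, fun _ => by simpa using hA, ?_⟩
    · rw [List.ofFn_succ, List.prod_cons]; simp [hprod]
    · intro i
      refine Fin.cases ?_ (fun j => ?_) i
      · simpa using ⟨hxN, hP, hQ, hp⟩
      · simpa using hstep j
    · intro i
      refine Fin.cases ?_ (fun j => ?_) i
      · intro h
        have hn : 0 < n := by simp at h; omega
        have e : (⟨(0 : Fin (n + 1)).val + 1, h⟩ : Fin (n + 1)) = Fin.succ ⟨0, hn⟩ :=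
          Fin.ext (by simp)
        rw [e, Fin.cons_succ]
        rintro _ ⟨a, ha, rfl⟩
        have := h0 hn ⟨a, ha, rfl⟩
        simpa [List.ofFn_succ] using this
      · intro h
        have hn : j.val + 1 < n := by simp at h; omega
        have e : (⟨(j.succ).val + 1, h⟩ : Fin (n + 1)) = Fin.succ ⟨j.val + 1, hn⟩ :=
          Fin.ext (by simp)
        rw [e]
        rintro _ ⟨a, ha, rfl⟩
        have := hnext j hn ⟨x⁻¹ * a * x, ⟨a, ha, rfl⟩, rfl⟩
        simp only [List.ofFn_succ, Fin.cons_zero, Fin.cons_succ, Fin.val_succ, List.take_succ_cons,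
          List.prod_cons]
        convert this using 1
        group

end Cfsg.Agent.S2012
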