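import Cfsg.Statements.S2014
import Mathlib
import Cfsg.Agent.Lib.Techniques.ConjFamily
import Cfsg.Agent.Lib.Techniques.Control
import Cfsg.Agent.Lib.Techniques.Residual
import Cfsg.Agent.Lib.Base.Cores

set_option autoImplicit false
open Cfsg
open scoped Pointwise commutatorElement

namespace Cfsg.Agent.S2014

/-- Let P be a Sylow p-subgroup of a finite group G and A, C ≤ P subgroups conjugate in G, with C extremal: N_P(C) is a Sylow p-subgroup of N_G(C). Then there is g with gAg⁻¹ = C and g N_P(A) g⁻¹ ≤ N_P(C); moreover, given any h with hAh⁻¹ = C, g can be chosen so that h g⁻¹ lies in O^p(N_G(C)), the subgroup of N_G(C) generated by its elements of order prime to p. -/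
theorem result {G : Type*} [Group G] [Finite G] (p : ℕ) [Fact p.Prime] (P : Sylow p G) (A C : Subgroup G) (hA : A ≤ P) (hC : C ≤ P) (hext : ¬ p ∣ ((P : Subgroup G) ⊓ Subgroup.normalizer ((C : Subgroup G) : Set G)).relIndex (Subgroup.normalizer ((C : Subgroup G) : Set G))) (h : G) (hh : A.map (MulAut.conj h).toMonoidHom = C) : ∃ g : G, A.map (MulAut.conj g).toMonoidHom = C ∧ ((P : Subgroup G) ⊓ Subgroup.normalizer ((A : Subgroup G) : Set G)).map (MulAut.conj g).toMonoidHom ≤ (P : Subgroup G) ⊓ Subgroup.normalizer ((C : Subgroup G) : Set G) ∧ h * g⁻¹ ∈ (Cfsg.pResidual p ↥(Subgroup.normalizer ((C : Subgroup G) : Set G))).map (Subgroup.normalizer ((C : Subgroup G) : Set G)).subtype := by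
  set N := Subgroup.normalizer ((C : Subgroup G) : Set G) with hN
  set R := (P : Subgroup G) ⊓ N with hR
  have hS := CfsgLib.Techniques.sylIn_top P
  have hext' : CfsgLib.Techniques.SylIn p R N := ⟨inf_le_right, P.isPGroup'.to_le inf_le_left, hext⟩
  set V := ((P : Subgroup G) ⊓ Subgroup.normalizer ((A : Subgroup G) : Set G)).map (MulAut.conj h).toMonoidHom with hV
  have hVN : V ≤ N := by
    rw [hV, hN, ← hh]
    exact (Subgroup.map_mono inf_le_right).trans (Subgroup.le_normalizer_map _)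
  have hVp : IsPGroup p V := (P.isPGroup'.to_le inf_le_left).map _
  obtain ⟨k, hk, hkV⟩ := hext'.exists_conj hVp hVN
  -- the residual together with the Sylow subgroup is everything
  haveI : (Cfsg.pResidual p ↥N).Normal := CfsgLib.Transfer.pResidual_normal
  set O := Cfsg.pResidual p ↥N with hO
  have hsup : O ⊔ R.subgroupOf N = ⊤ := by
    exact CfsgLib.Techniques.pResidual_sup_eq_top hext'.not_dvd
  have hkmem : (⟨k, hk⟩ : N) ∈ R.subgroupOf N ⊔ O := by rw [sup_comm, hsup]; trivial
  rw [Subgroup.mem_sup_of_normal_right] at hkmem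
  obtain ⟨r, hr, o, ho, hro⟩ := hkmem
  have hro' : k = (r : G) * (o : G) := by
    have := congrArg Subtype.val hro
    exact this.symm
  have hoC : CfsgLib.Techniques.cj (o : G) C = C := CfsgLib.Techniques.mem_normalizer_iff_cj.1 o.2
  have hmove : ∀ x ∈ V, (o : G) * x * (o : G)⁻¹ ∈ R := by
    intro x hx
    have h1 : k * x * k⁻¹ ∈ R := CfsgLib.Techniques.cj_le_iff.1 hkV x hx
    have h2 := R.mul_mem (R.mul_mem (R.inv_mem (Subgroup.mem_subgroupOf.1 hr)) h1) (Subgroup.mem_subgroupOf.1 hr)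
    have e : (r : G)⁻¹ * (k * x * k⁻¹) * r = (o : G) * x * (o : G)⁻¹ := by rw [hro']; group
    rwa [e] at h2
  refine ⟨(o : G) * h, ?_, ?_, ?_⟩
  · show CfsgLib.Techniques.cj ((o : G) * h) A = C
    rw [CfsgLib.Techniques.cj_mul]
    show CfsgLib.Techniques.cj (o : G) (A.map (MulAut.conj h).toMonoidHom) = C
    rw [hh, hoC]
  · rintro _ ⟨x, hx, rfl⟩
    have := hmove _ ⟨x, hx, rfl⟩
    simpa [mul_assoc] using this
  · have e : h * ((o : G) * h)⁻¹ = ((o⁻¹ : N) : G) := by simp
    rw [e]
    exact ⟨o⁻¹, inv_mem ho, rfl⟩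

end Cfsg.Agent.S2014
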