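import Cfsg.Statements.S2015
import Mathlib
import Cfsg.Agent.Lib.KInf.Control

set_option autoImplicit false
universe u
open Cfsg
open scoped Pointwise commutatorElement

namespace Cfsg.Agent.S2015

/-- For p ≥ 5, every finite p-group P has a characteristic subgroup K containing Z(P), depending only on P, whose normalizer controls transfer wherever P is a Sylow subgroup: for every finite group G and every embedding ι of P onto a Sylow p-subgroup of G, the intersection of ι(P) with the derived subgroup of G equals its intersection with the derived subgroup of N_G(ι(K)). -/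
theorem result (p : ℕ) [Fact p.Prime] (hp : 5 ≤ p) (P : Type u) [Group P] [Finite P] (hP : IsPGroup p P) : ∃ K : Subgroup P, K.Characteristic ∧ Subgroup.center P ≤ K ∧ ∀ (G : Type u) [Group G] [Finite G] (ι : P →* G), Function.Injective ι → (∃ T : Sylow p G, (T : Subgroup G) = ι.range) → ι.range ⊓ commutator G = ι.range ⊓ (commutator ↥(Subgroup.normalizer ((K.map ι : Subgroup G) : Set G))).map (Subgroup.normalizer ((K.map ι : Subgroup G) : Set G)).subtype := by
  refine ⟨Cfsg.kInfLower.{u} P, (CfsgLib.KInf.characteristic_kInf P).1, (CfsgLib.KInf.center_le_kInf hP).1,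
    fun G _ _ ι hι hT => ?_⟩
  obtain ⟨T, hT⟩ := hT
  have h := CfsgLib.KInf.transfer_eq_of_controls
    (CfsgLib.Techniques.isConjugacyFunctor_induced (CfsgLib.KInf.isCharPFunctor_kInfLower p))
    (CfsgLib.KInf.kInfLower_controlsTransfer hp) T
  have hK : Cfsg.inducedFunctor Cfsg.kInfLower.{u} (T : Subgroup G) = (Cfsg.kInfLower.{u} P).map ι := by
    rw [hT]
    show (Cfsg.kInfLower.{u} ι.range).map ι.range.subtype = _
    rw [← (CfsgLib.KInf.map_kInf_equiv (MonoidHom.ofInjective hι)).1, Subgroup.map_map]
    rfl
  rw [hK, hT] at h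
  rw [h, Subgroup.map_subtype_commutator]

end Cfsg.Agent.S2015
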