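import Cfsg.Statements.S2029
import Cfsg.Agent.Lib.KlingerMason.Step2

set_option autoImplicit false
open Cfsg

namespace Cfsg.Agent.S2029

/-- Let p be an odd prime and G a finite group that is both of local characteristic p (p divides its order and every p-local subgroup N satisfies C_N(O_p(N)) ≤ O_p(N)) and of characteristic 2 type (even order and every 2-local subgroup M satisfies C_M(O_2(M)) ≤ O_2(M)). Then every 2-local subgroup of G has p-rank at most 2. -/
theorem result {G : Type*} [Group G] [Finite G] (p : ℕ) [Fact p.Prime] (hp : p ≠ 2) (hGp : Cfsg.IsOfLocalCharacteristic p G) (hG2 : Cfsg.IsCharacteristicTwoType G) : Cfsg.TwoLocalPRankLE p 2 G := by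
  classical
  rintro N ⟨T, hT, hT1, rfl⟩ A hA hAp
  by_contra hlt
  rw [not_le] at hlt
  have hpp : p.Prime := Fact.out
  set E := A.map (Subgroup.normalizer (T : Set G)).subtype with hE
  have hEc : Nat.card E = Nat.card A :=
    (Nat.card_congr (A.equivMapOfInjective _ (Subgroup.subtype_injective _)).toEquiv).symm
  have hEe : CfsgLib.KlingerMason.Elem p E := by
    refine ⟨?_, ?_⟩
    · rintro _ ⟨x, hx, rfl⟩ _ ⟨y, hy, rfl⟩
      exact congrArg Subtype.val (congrArg Subtype.val (hA.is_comm.comm ⟨x, hx⟩ ⟨y, hy⟩))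
    · rintro _ ⟨x, hx, rfl⟩
      exact congrArg Subtype.val (hAp x hx)
  -- the largest rank
  let Q : ℕ → Prop := fun k => ∃ F X : Subgroup G, CfsgLib.KlingerMason.Elem p F ∧ IsPGroup 2 X ∧
    X ≠ ⊥ ∧ F ≤ Subgroup.normalizer (X : Set G) ∧ Nat.card F = p ^ k
  obtain ⟨i, hi⟩ := IsPGroup.iff_card.1 hEe.isPGroup
  have hi3 : 3 ≤ i := by
    by_contra h
    have : p ^ i ≤ p ^ 2 := Nat.pow_le_pow_right hpp.pos (by omega)
    omega
  have hQi : Q i := ⟨E, T, hEe, hT, hT1, Subgroup.map_subtype_le _, hi⟩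
  have hQle : ∀ k, Q k → k ≤ Nat.card G := by
    rintro k ⟨F, X, -, -, -, -, hF⟩
    exact ((Nat.lt_pow_self hpp.one_lt).le.trans hF.ge).trans
      (Nat.le_of_dvd Nat.card_pos F.card_subgroup_dvd_card)
  set n := Nat.findGreatest Q (Nat.card G) with hn
  have hQn : Q n := Nat.findGreatest_spec (hQle i hQi) hQi
  have hin : i ≤ n := Nat.le_findGreatest (hQle i hQi) hQi
  obtain ⟨F, X, hF, hX, hX1, hFX, hFc⟩ := hQn
  have H : CfsgLib.KlingerMason.Hyp p n G :=
    { prime := hpp
      ne_two := hp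
      lc := hGp
      c2 := hG2
      three_le := hi3.trans hin
      bound := fun F' X' hF' hX' hX'1 hle => by
        obtain ⟨k, hk⟩ := IsPGroup.iff_card.1 hF'.isPGroup
        rw [hk]
        refine Nat.pow_le_pow_right hpp.pos ?_
        have hQk : Q k := ⟨F', X', hF', hX', hX'1, hle, hk⟩
        exact Nat.le_findGreatest (hQle k hQk) hQk }
  obtain ⟨z, A₁, P⟩ := CfsgLib.KlingerMason.exists_pair H hF hFc hX hX1 hFX
  obtain ⟨z, a, A₂, T'⟩ := CfsgLib.KlingerMason.exists_maxTriple H P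
  obtain ⟨D, hD⟩ := CfsgLib.KlingerMason.exists_good H T'
  obtain rfl := CfsgLib.KlingerMason.p_eq_three H T' hD
  exact CfsgLib.KlingerMason.no_maxTriple H T'

end Cfsg.Agent.S2029
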