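import Cfsg.Statements.S2035
import Cfsg.Agent.Lib.KnownB.Mult.M12.Certs
import Cfsg.Agent.Lib.KnownB.Mult.Stab

set_option autoImplicit false
open Cfsg

namespace Cfsg.Agent.S2035

/-- The Schur multiplier of the Mathieu group M₁₂ (the stabiliser of a dodecad in the automorphism group of the length-24 binary code) is cyclic of order 2; here the Schur multiplier is described through stem extensions, as in the definitions: surjective homomorphisms onto the group from a finite group, whose kernel is central in that finite group and contained in that finite group's commutator subgroup. -/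
theorem result : Cfsg.HasCyclicSchurMultiplier ↥Cfsg.Spor.M12 2 := by
  rw [← CfsgLib.MathieuOut.stabG_M12]
  have hcov : Cfsg.HasCyclicSchurMultiplier ↥CfsgLib.KnownB.Mult.M12.cover 1 := by
    refine CfsgLib.KnownB.Mult.hasTrivialMultiplier_of_primeCond fun p _ => ?_
    by_cases h2 : p = 2
    · subst h2
      exact CfsgLib.KnownB.Mult.Cert.primeCond CfsgLib.KnownB.Mult.M12.cert2_valid (m := 1485)
        (CfsgLib.KnownB.Mult.M12.natCard_cover.trans
          (by norm_num [CfsgLib.KnownB.Mult.M12.cert2])) (by norm_num)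
    by_cases h3 : p = 3
    · subst h3
      exact CfsgLib.KnownB.Mult.Cert.primeCond CfsgLib.KnownB.Mult.M12.cert3_valid (m := 7040)
        (CfsgLib.KnownB.Mult.M12.natCard_cover.trans
          (by norm_num [CfsgLib.KnownB.Mult.M12.cert3])) (by norm_num)
    refine CfsgLib.KnownB.Mult.primeCond_of_cyclic default
      (CfsgLib.KnownB.Mult.isCyclic_sylow (p := p) ?_ default)
    intro hd
    rw [CfsgLib.KnownB.Mult.M12.natCard_cover] at hd
    exact CfsgLib.KnownB.Mult.not_sq_dvd_of_check 7 3 55 8 (by decide +kernel) (by norm_num)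
      (by norm_num) Fact.out h2 h3 ((show (190080 : ℕ) = 2 ^ 7 * 3 ^ 3 * 55 from by norm_num) ▸ hd)
  obtain ⟨hs, hk⟩ := CfsgLib.KnownB.Mult.M12.isStem_coverMap
  obtain ⟨e⟩ := CfsgLib.Schur.mult_equiv_ker_of_trivial _ hs hcov
  have : Fact (Nat.Prime 2) := ⟨by norm_num⟩
  exact CfsgLib.Schur.hasSchurMultiplier_iff.2 ⟨(mulEquivOfPrimeCardEq (p := 2)
    (by simp [Nat.card_zmod]) hk).trans e.symm⟩

end Cfsg.Agent.S2035
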