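import Cfsg.Statements.S2041
import Cfsg.Agent.Lib.KnownB.Mult.J3.P2
import Cfsg.Agent.Lib.KnownB.Mult.J3.P3
import Cfsg.Agent.Lib.KnownB.Mult.Stab
import Cfsg.Agent.Lib.LocalEven.J3OrderSimple
import Cfsg.Agent.Lib.Schur.Lift
-- import your own Cfsg.Agent.* helpers here

set_option autoImplicit false
open Cfsg

namespace Cfsg.Agent.S2041

/-- For any field with 4 elements and any element ω of it with ω² + ω + 1 = 0: the Schur multiplier of the Janko group J₃ (the group generated by explicit 9 × 9 matrices over that field built from ω, taken modulo its centre) is cyclic of order 3; here the Schur multiplier is described through stem extensions, as in the definitions: surjective homomorphisms onto the group from a finite group, whose kernel is central in that finite group and contained in that finite group's commutator subgroup. -/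
theorem result {F : Type*} [Field F] [Fintype F] (hF : Fintype.card F = 4) (ω : F) (hω : ω ^ 2 + ω + 1 = 0) : Cfsg.HasCyclicSchurMultiplier (Cfsg.Spor.J3 F ω) 3 := by
  have h : CfsgLib.LocalEven.J3Lines.Four F ω := ⟨hF, hω⟩
  have hN := CfsgLib.LocalEven.J3Lines.card_threeJ3 h
  haveI : Finite (Cfsg.Spor.threeJ3 F ω) := Nat.finite_of_card_ne_zero (by rw [hN]; norm_num)
  have hcov : Cfsg.HasCyclicSchurMultiplier ↥(Cfsg.Spor.threeJ3 F ω) 1 := by
    refine CfsgLib.KnownB.Mult.hasTrivialMultiplier_of_primeCond fun p _ => ?_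
    by_cases h2 : p = 2
    · subst h2
      exact CfsgLib.KnownB.Mult.J3.P2.primeCond h (m := 1177335) (hN.trans (by norm_num)) (by norm_num)
    by_cases h3 : p = 3
    · subst h3
      exact CfsgLib.KnownB.Mult.J3.P3.primeCond h (m := 206720) (hN.trans (by norm_num)) (by norm_num)
    refine CfsgLib.KnownB.Mult.primeCond_of_cyclic default
      (CfsgLib.KnownB.Mult.isCyclic_sylow (p := p) ?_ default)
    intro hd
    rw [hN] at hd
    exact CfsgLib.KnownB.Mult.not_sq_dvd_of_check 7 6 1615 41 (by decide +kernel) (by norm_num)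
      (by norm_num) Fact.out h2 h3 ((show (150698880 : ℕ) = 2 ^ 7 * 3 ^ 6 * 1615 from by norm_num) ▸ hd)
  have : Fact (Nat.Prime 3) := ⟨by norm_num⟩
  let σ := QuotientGroup.mk' (Subgroup.center ↥(Cfsg.Spor.threeJ3 F ω))
  have hk : σ.ker = Subgroup.center ↥(Cfsg.Spor.threeJ3 F ω) := QuotientGroup.ker_mk' _
  have hs : Cfsg.IsStemExtension σ := ⟨QuotientGroup.mk'_surjective _, hk.le,
    (CfsgLib.LocalEven.J3Lines.perfect h).symm ▸ le_top⟩
  obtain ⟨e⟩ := CfsgLib.Schur.mult_equiv_ker_of_trivial σ hs hcov
  refine CfsgLib.Schur.hasSchurMultiplier_iff.2 ⟨(mulEquivOfPrimeCardEq (p := 3)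
    (by simp [Nat.card_zmod]) (by rw [hk, CfsgLib.LocalEven.J3Lines.card_center h])).trans e.symm⟩

end Cfsg.Agent.S2041
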