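import Cfsg.Statements.S2043
import Cfsg.Agent.Lib.KnownB.Mult.Co0P2
import Cfsg.Agent.Lib.KnownB.Mult.Co0P3
import Cfsg.Agent.Lib.KnownB.Mult.Co0P5
import Cfsg.Agent.Lib.KnownB.Mult.Co0P7


set_option autoImplicit false
open Cfsg

namespace Cfsg.Agent.S2043

/-- The Schur multiplier of the Conway group Co₁ (the automorphism group of the rank-24 lattice modulo its centre) is cyclic of order 2; here the Schur multiplier is described through stem extensions, as in the definitions: surjective homomorphisms onto the group from a finite group, whose kernel is central in that finite group and contained in that finite group's commutator subgroup. -/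
theorem result : Cfsg.HasCyclicSchurMultiplier Cfsg.Spor.Co1 2 := by
  haveI : Fact (Nat.Prime 2) := ⟨by norm_num⟩
  have hcov : Cfsg.HasCyclicSchurMultiplier ↥Cfsg.Co0 1 := by
    refine CfsgLib.KnownB.Mult.hasTrivialMultiplier_of_primeCond fun p _ => ?_
    by_cases h2 : p = 2
    · subst h2
      exact CfsgLib.KnownB.Mult.Co0P2.primeCond_cert (m := 1982582476875)
        (CfsgLib.Spor.natCard_Co0.trans (by norm_num)) (by norm_num)
    by_cases h3 : p = 3
    · subst h3
      exact CfsgLib.KnownB.Mult.Co0P3.primeCond_cert (m := 422473891840000)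
        (CfsgLib.Spor.natCard_Co0.trans (by norm_num)) (by norm_num)
    by_cases h5 : p = 5
    · subst h5
      exact CfsgLib.KnownB.Mult.Co0P5.primeCond_cert (m := 13304885780938752)
        (CfsgLib.Spor.natCard_Co0.trans (by norm_num)) (by norm_num)
    by_cases h7 : p = 7
    · subst h7
      exact CfsgLib.KnownB.Mult.Co0P7.primeCond_cert (m := 169705175777280000)
        (CfsgLib.Spor.natCard_Co0.trans (by norm_num)) (by norm_num)
    refine CfsgLib.KnownB.Mult.primeCond_of_cyclic default
      (CfsgLib.KnownB.Mult.isCyclic_sylow (p := p) ?_ default)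
    intro hd
    rw [CfsgLib.Spor.natCard_Co0] at hd
    exact CfsgLib.KnownB.Mult.not_sq_dvd_co0 Fact.out h2 h3 h5 h7 hd
  obtain ⟨hs, hk⟩ := CfsgLib.KnownB.Mult.isStem_toCo1
  obtain ⟨e⟩ := CfsgLib.Schur.mult_equiv_ker_of_trivial _ hs hcov
  exact CfsgLib.Schur.hasSchurMultiplier_iff.2 ⟨(mulEquivOfPrimeCardEq (p := 2)
    (by simp [Nat.card_zmod]) hk).trans e.symm⟩

end Cfsg.Agent.S2043
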