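import Cfsg.Statements.S2045
import Cfsg.Agent.Lib.KnownB.Mult.Co3P2
import Cfsg.Agent.Lib.KnownB.Mult.Co3P3
import Cfsg.Agent.Lib.KnownB.Mult.Co3P5
import Cfsg.Agent.Lib.KnownB.Mult.Primes

set_option autoImplicit false
open Cfsg

namespace Cfsg.Agent.S2045

/-- The Schur multiplier of the Conway group Co₃ (the stabiliser of a vector of the second shortest length in the rank-24 lattice) is trivial; here the Schur multiplier is described through stem extensions, as in the definitions: surjective homomorphisms onto the group from a finite group, whose kernel is central in that finite group and contained in that finite group's commutator subgroup. -/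
theorem result : Cfsg.HasCyclicSchurMultiplier ↥Cfsg.Spor.Co3 1 := by
  refine CfsgLib.KnownB.Mult.hasTrivialMultiplier_of_primeCond fun p _ => ?_
  by_cases h2 : p = 2
  · subst h2
    exact CfsgLib.KnownB.Mult.Co3P2.primeCond_cert (m := 484147125)
      (CfsgLib.KnownB.Mult.natCard_Co3.trans (by norm_num)) (by norm_num)
  by_cases h3 : p = 3
  · subst h3
    exact CfsgLib.KnownB.Mult.Co3P3.primeCond_cert (m := 226688000)
      (CfsgLib.KnownB.Mult.natCard_Co3.trans (by norm_num)) (by norm_num)
  by_cases h5 : p = 5
  · subst h5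
    exact CfsgLib.KnownB.Mult.Co3P5.primeCond_cert (m := 3966133248)
      (CfsgLib.KnownB.Mult.natCard_Co3.trans (by norm_num)) (by norm_num)
  refine CfsgLib.KnownB.Mult.primeCond_of_cyclic default
    (CfsgLib.KnownB.Mult.isCyclic_sylow (p := p) ?_ default)
  intro hd
  rw [CfsgLib.KnownB.Mult.natCard_Co3] at hd
  exact CfsgLib.KnownB.Mult.not_sq_dvd_of_small 10 7 3 Fact.out h2 h3 h5
    ((show (495766656000 : ℕ) = 2 ^ 10 * 3 ^ 7 * 5 ^ 3 * (7 * 11 * 23) from by norm_num) ▸ hd)

end Cfsg.Agent.S2045
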