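import Cfsg.Statements.S2049
import Cfsg.Agent.Lib.KnownB.Mult.He.P2
import Cfsg.Agent.Lib.KnownB.Mult.He.P3
import Cfsg.Agent.Lib.KnownB.Mult.He.P5
import Cfsg.Agent.Lib.KnownB.Mult.He.P7
import Cfsg.Agent.Lib.KnownB.Mult.Stab

set_option autoImplicit false
open Cfsg

namespace Cfsg.Agent.S2049

/-- The Schur multiplier of the Held group (the finitely presented group of the definitions) is trivial; here the Schur multiplier is described through stem extensions, as in the definitions: surjective homomorphisms onto the group from a finite group, whose kernel is central in that finite group and contained in that finite group's commutator subgroup. -/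
theorem result : Cfsg.HasCyclicSchurMultiplier Cfsg.Spor.He 1 := by
  have hN := CfsgLib.KnownB.Mult.He.natCard
  have : Finite Cfsg.Spor.He := Nat.finite_of_card_ne_zero (by rw [hN]; norm_num)
  refine CfsgLib.KnownB.Mult.hasTrivialMultiplier_of_primeCond fun p _ => ?_
  by_cases h2 : p = 2
  · subst h2
    exact CfsgLib.KnownB.Mult.Cert.primeCond CfsgLib.KnownB.Mult.He.cert2_valid (m := 3935925)
      (hN.trans (by norm_num [CfsgLib.KnownB.Mult.He.cert2])) (by norm_num)
  by_cases h3 : p = 3
  · subst h3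
    exact CfsgLib.KnownB.Mult.Cert.primeCond CfsgLib.KnownB.Mult.He.cert3_valid (m := 149273600)
      (hN.trans (by norm_num [CfsgLib.KnownB.Mult.He.cert3])) (by norm_num)
  by_cases h5 : p = 5
  · subst h5
    exact CfsgLib.KnownB.Mult.Cert.primeCond CfsgLib.KnownB.Mult.He.cert5_valid (m := 161215488)
      (hN.trans (by norm_num [CfsgLib.KnownB.Mult.He.cert5])) (by norm_num)
  by_cases h7 : p = 7
  · subst h7
    exact CfsgLib.KnownB.Mult.Cert.primeCond CfsgLib.KnownB.Mult.He.cert7_valid (m := 11750400)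
      (hN.trans (by norm_num [CfsgLib.KnownB.Mult.He.cert7])) (by norm_num)
  refine CfsgLib.KnownB.Mult.primeCond_of_cyclic default
    (CfsgLib.KnownB.Mult.isCyclic_sylow (p := p) ?_ default)
  intro hd
  rw [hN] at hd
  have hp : p.Prime := Fact.out
  have hc : ∀ q : ℕ, q.Prime → p ≠ q → ∀ k, Nat.Coprime (p ^ 2) (q ^ k) := fun q hq hne k =>
    Nat.Coprime.pow _ _ ((Nat.coprime_primes hp hq).2 hne)
  rw [show (4030387200 : ℕ) = 2 ^ 10 * (3 ^ 3 * (5 ^ 2 * (7 ^ 3 * 17))) from by norm_num] at hd
  have h17 : p ^ 2 ∣ 17 :=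
    (hc 7 (by norm_num) h7 3).dvd_of_dvd_mul_left ((hc 5 (by norm_num) h5 2).dvd_of_dvd_mul_left
      ((hc 3 (by norm_num) h3 3).dvd_of_dvd_mul_left ((hc 2 Nat.prime_two h2 10).dvd_of_dvd_mul_left hd)))
  have he := (Nat.prime_dvd_prime_iff_eq hp (by norm_num)).1 ((dvd_pow_self p two_ne_zero).trans h17)
  rw [he] at h17
  norm_num at h17

end Cfsg.Agent.S2049
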