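import Cfsg.Statements.S2050
import Cfsg.Agent.Lib.KnownB.LyMult.Check.All
import Cfsg.Agent.Lib.KnownB.LyMult.KMult
import Cfsg.Agent.Lib.KnownB.LyG25.Iso
import Cfsg.Agent.Lib.Spor.Ly.Order
-- import your own Cfsg.Agent.* helpers here

set_option autoImplicit false
open Cfsg

namespace Cfsg.Agent.S2050

/-- The Schur multiplier of the Lyons group (the finitely presented group of the definitions) is trivial; here the Schur multiplier is described through stem extensions, as in the definitions: surjective homomorphisms onto the group from a finite group, whose kernel is central in that finite group and contained in that finite group's commutator subgroup. -/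
theorem result : Cfsg.HasCyclicSchurMultiplier Cfsg.Spor.Ly 1 := by
  obtain ⟨e⟩ := CfsgLib.KnownB.LyG25.nonempty_equiv
  haveI : Fact (Nat.Prime 5) := CfsgLib.KnownB.LyG25.five_prime
  haveI : Finite CfsgLib.Spor.Ly.GrpK := CfsgLib.Spor.Ly.gk_finite
  haveI : Finite Cfsg.Spor.Ly :=
    Nat.finite_of_card_ne_zero (by rw [CfsgLib.Spor.Ly.gly_card]; norm_num)
  obtain ⟨hK, hmK⟩ := CfsgLib.KnownB.LyMult.g25_facts (ZMod.card 5) e
  exact CfsgLib.KnownB.LyMult.trivial_multiplier' [0, 2, 4, 1] CfsgLib.Spor.Ly.permsK rfl hK hmK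
    CfsgLib.Spor.Ly.k_faithful.1 CfsgLib.Spor.Ly.psiK CfsgLib.Spor.Ly.psiK_injective
    (CfsgLib.Spor.Ly.psiK_gen 0) (CfsgLib.Spor.Ly.psiK_gen 1) (CfsgLib.Spor.Ly.psiK_gen 2)
    (CfsgLib.Spor.Ly.psiK_gen 3) CfsgLib.KnownB.LyMult.gk_id CfsgLib.KnownB.LyMult.gk_same
    CfsgLib.KnownB.LyMult.gk_setup CfsgLib.KnownB.LyMult.gk_facts

end Cfsg.Agent.S2050
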