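import Cfsg.Statements.S2057
import Cfsg.Agent.Lib.Spor.Th.Mult.Main
import Cfsg.Agent.Lib.Spor.Th.Facts
import Cfsg.Agent.Lib.Spor.ThRep.Card
-- import your own Cfsg.Agent.* helpers here

set_option autoImplicit false
open Cfsg

namespace Cfsg.Agent.S2057

/-- The Schur multiplier of the Thompson group (the finitely presented group of the definitions) is trivial; here the Schur multiplier is described through stem extensions, as in the definitions: surjective homomorphisms onto the group from a finite group, whose kernel is central in that finite group and contained in that finite group's commutator subgroup. -/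
theorem result : Cfsg.HasCyclicSchurMultiplier Cfsg.Spor.Th 1 := by
  have F := CfsgLib.Spor.Th.thFacts_of inferInstance
    (by intro _; exact CfsgLib.Spor.ThRep.th_card_dvd)
  have := F.finite
  exact CfsgLib.Spor.Th.Mult.multiplier_trivial
    (CfsgLib.ThCent.centralizer_eq F (CfsgLib.Spor.Th.orbitBound F))

end Cfsg.Agent.S2057
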