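import Cfsg.Agent.Lib.J1Group.OutTrivial
import Cfsg.Statements.S2065

set_option autoImplicit false

namespace Cfsg.Agent.S2065

theorem result : Nat.card (Cfsg.Out ↥Cfsg.Spor.J1) = 1 := by
  have h : Cfsg.Inn ↥Cfsg.Spor.J1 = ⊤ :=
    eq_top_iff.2 fun φ _ => CfsgLib.J1Group.mulAut_mem_inn φ
  have hone : (Cfsg.Inn ↥Cfsg.Spor.J1).index = 1 := by rw [h, Subgroup.index_top]
  exact hone

end Cfsg.Agent.S2065
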