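import Cfsg.Statements.S2068
import Cfsg.Agent.Lib.Spor.J4Out.Kit
import Cfsg.Agent.Lib.Spor.J4Lower.Main
import Cfsg.Agent.Lib.Spor.J4.Finite

set_option autoImplicit false
open Cfsg

namespace Cfsg.Agent.S2068

/-- The outer automorphism group of the Janko group J₄ (the finitely presented group of the definitions) is trivial: every automorphism is inner. -/
theorem result : Nat.card (Cfsg.Out Cfsg.Spor.J4) = 1 := by
  have hfin : Finite Cfsg.Spor.J4 := CfsgLib.Spor.J4.finite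
  obtain ⟨hG, hinj⟩ := CfsgLib.Spor.J4Lower.natCard_and_injective CfsgLib.Spor.J4.natCard_le
  have hx : CfsgLib.Spor.J4Rep.wval [0] = CfsgLib.Spor.J4.Index.gx := by
    simp [CfsgLib.Spor.J4Rep.wval, CfsgLib.Spor.J4Rep.wordF, CfsgLib.Spor.J4Rep.letF,
      CfsgLib.Spor.J4.Index.gx]
  have hy : CfsgLib.Spor.J4Rep.wval [1] = CfsgLib.Spor.J4.Index.gy := by
    simp [CfsgLib.Spor.J4Rep.wval, CfsgLib.Spor.J4Rep.wordF, CfsgLib.Spor.J4Rep.letF,
      CfsgLib.Spor.J4.Index.gy]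
  have hH : CfsgLib.Spor.J4.Index.subH = Subgroup.closure
      ({CfsgLib.Spor.J4Rep.wval [0], CfsgLib.Spor.J4Rep.wval [1], CfsgLib.Spor.J4Out.ef} :
        Set Cfsg.Spor.J4) := by
    rw [← CfsgLib.Spor.J4Out.printed_eq hinj]
    exact CfsgLib.Spor.J4.subH_eq_map
  have hidx : CfsgLib.Spor.J4.Index.subH.index = 173067389 := by
    have h1 := CfsgLib.Spor.J4.Index.subH.card_mul_index
    have h2 := CfsgLib.Spor.J4.Order.cardLE_subH.2
    have h3 := CfsgLib.Spor.J4.Index.index_le.1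
    rw [hG] at h1
    refine le_antisymm h3 ?_
    by_contra h4
    push Not at h4
    have := Nat.mul_le_mul h2 (Nat.le_sub_one_of_lt h4)
    rw [h1] at this
    norm_num at this
  refine CfsgLib.Spor.J4Out.outer_card (M := Cfsg.M24) (ρ := CfsgLib.Spor.J4Out.rho)
    (p := CfsgLib.Spor.J4.M24Iso.ga) (q := CfsgLib.Spor.J4.M24Iso.gb) hinj hG
    CfsgLib.Spor.natCard_M24 CfsgLib.Spor.J4.M24Iso.gen_top
    (fun a h => CfsgLib.Spor.J4Out.m24_cent_23 h) (fun a h => CfsgLib.Spor.J4Out.m24_cent_11 h)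
    (CfsgLib.Spor.J4.M24Iso.toHom_ga _) (CfsgLib.Spor.J4.M24Iso.toHom_gb _) hH hidx
    CfsgLib.Spor.J4.pts (fun g => ?_) (fun i => ?_)
  · obtain ⟨i, m, hm, rfl⟩ := CfsgLib.Spor.J4.pts_cover g
    rw [← hx, ← hy, ← CfsgLib.Spor.J4Out.range_rho] at hm
    obtain ⟨n, rfl⟩ := hm
    exact ⟨i, n, rfl⟩
  · refine le_trans ?_ ((CfsgLib.Spor.J4.orbit_le i).trans (le_of_eq ?_))
    · refine Nat.card_le_card_of_injective (fun g => ⟨g.1, ?_⟩) ?_
      · obtain ⟨m, hm⟩ := g.2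
        refine ⟨⟨CfsgLib.Spor.J4Out.rho m, ?_⟩, hm⟩
        rw [← hx, ← hy, ← CfsgLib.Spor.J4Out.range_rho]
        exact ⟨m, rfl⟩
      · intro a b e
        exact Subtype.ext (congrArg (fun z => z.1) e)
    · have hall : ∀ i, CfsgLib.Spor.J4.orbitBound i = CfsgLib.Spor.J4Out.nodeSize i := by
        decide +kernel
      exact hall i

end Cfsg.Agent.S2068
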