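import Cfsg.Statements.S2071
import Cfsg.Agent.Lib.Spor.ConwayOutCo3
-- import your own Cfsg.Agent.* helpers here

set_option autoImplicit false
open Cfsg

namespace Cfsg.Agent.S2071

/-- The outer automorphism group of the Conway group Co₃ (the stabiliser of a vector of the second shortest length in the rank-24 lattice) is trivial: every automorphism is inner. -/
theorem result : Nat.card (Cfsg.Out ↥Cfsg.Spor.Co3) = 1 := by
  have e : ↥Cfsg.Spor.Co3 ≃* ↥(MulAction.stabilizer Cfsg.Co0 Cfsg.Spor.leechV) :=
    { toFun := fun g => ⟨⟨g.1, g.2.1⟩, g.2.2⟩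
      invFun := fun g => ⟨g.1.1, g.1.2, g.2⟩
      left_inv := fun _ => rfl
      right_inv := fun _ => rfl
      map_mul' := fun _ _ => rfl }
  rw [CfsgLib.Spor.ConwayOut.outCongr e]
  exact CfsgLib.Spor.ConwayOut.natCard_out_co3

end Cfsg.Agent.S2071
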