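import Cfsg.Statements.S2076
import Cfsg.Agent.Lib.Spor.LyOut.FinalKit
import Cfsg.Agent.Lib.Spor.Ly.ExactKit
import Cfsg.Agent.Lib.Spor.Ly.Model.Card

set_option autoImplicit false
open Cfsg

namespace Cfsg.Agent.S2076

/-- The outer automorphism group of the Lyons group (the finitely presented group of the definitions) is trivial: every automorphism is inner. -/
theorem result : Nat.card (Cfsg.Out Cfsg.Spor.Ly) = 1 := by
  obtain ⟨hfinK, -⟩ := CfsgLib.Spor.Ly.gk_bound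
  obtain ⟨hfin, -⟩ := CfsgLib.Spor.Ly.gly_bound
  exact CfsgLib.Spor.LyOut.natCard_out_of_kit CfsgLib.Spor.Ly.modelGK
    (CfsgLib.Spor.Ly.kit_of_dvd CfsgLib.Spor.Ly.ly_card_dvd)
    (CfsgLib.Spor.Ly.exact_of_dvd CfsgLib.Spor.Ly.ly_card_dvd).1

end Cfsg.Agent.S2076
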