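import Cfsg.Statements.S2096
import Cfsg.Agent.Lib.Pres.DPlus.Multiplier

set_option autoImplicit false
open Cfsg

namespace Cfsg.Agent.S2096

/-- Schur multipliers of the even-dimensional orthogonal groups of plus type and odd rank: for odd l ≥ 5 and a field F with q elements, the Schur multiplier of PΩ⁺_2l(F) (for the form Σ xᵢyᵢ) is cyclic of order gcd(4, q^l − 1); here the Schur multiplier is described through stem extensions, as in the definitions. -/
theorem result {F : Type*} [Field F] [Fintype F] {q : ℕ} (hF : Fintype.card F = q) (l : ℕ) (hl : 5 ≤ l) (hodd : Odd l) : Cfsg.HasCyclicSchurMultiplier (Cfsg.POmega F (Cfsg.quadFormPlus l F)) (Nat.gcd 4 (q ^ l - 1)) := by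
  classical
  have hqodd : (2 : F) ≠ 0 → Odd q := fun h2 => by
    rw [← hF, Nat.odd_iff]
    rcases Nat.mod_two_eq_zero_or_one (Fintype.card F) with h | h
    · refine absurd ?_ h2
      have hr : ringChar F = 2 := FiniteField.even_card_iff_char_two.2 h
      haveI : CharP F 2 := hr ▸ ringChar.charP F
      simpa using CharP.cast_eq_zero F 2
    · exact h
  have heven : (2 : F) = 0 → ¬ Odd q := fun h2 ho =>
    CfsgLib.Geometry.two_ne_zero_of_odd_card hF ho h2
  refine CfsgLib.Pres.DPlus.multiplier_plus (by omega) (fun h => absurd h (by omega)) ?_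
  simp only [Nat.card_congr Multiplicative.toAdd, Nat.card_zmod]
  refine ⟨fun h2 => ?_, fun h2 hn => ?_, fun h2 hs => ⟨?_, fun he => absurd ‹Odd l› (Nat.not_odd_iff_even.2 he),
    fun _ => inferInstance⟩⟩
  · have hq : q % 2 = 0 := Nat.not_odd_iff.1 (heven h2)
    have hp : 2 ∣ q ^ l := dvd_pow (Nat.dvd_of_mod_eq_zero hq) (by omega)
    have hpos : 0 < q ^ l := pow_pos (hF ▸ Fintype.card_pos) _
    rw [Nat.gcd_rec]
    have : (q ^ l - 1) % 4 = 1 ∨ (q ^ l - 1) % 4 = 3 := by omega
    rcases this with e | e <;> rw [e] <;> rfl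
  · rw [CfsgLib.Geometry.isSquare_neg_one_pow_iff hF (hqodd h2)] at hn
    have hp : q ^ l % 2 = 1 := Nat.odd_iff.1 ((hqodd h2).pow)
    rw [Nat.gcd_rec]
    have : (q ^ l - 1) % 4 = 2 := by omega
    rw [this]
    rfl
  · rw [CfsgLib.Geometry.isSquare_neg_one_pow_iff hF (hqodd h2)] at hs
    rw [Nat.gcd_rec]
    have : (q ^ l - 1) % 4 = 0 := by omega
    rw [this]
    rfl

end Cfsg.Agent.S2096
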