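import Cfsg.Statements.S2097
import Cfsg.Agent.Lib.Pres.DPlus.Multiplier

set_option autoImplicit false
open Cfsg

namespace Cfsg.Agent.S2097

/-- Schur multipliers of the even-dimensional orthogonal groups of plus type and even rank: for even l ≥ 4 and a field F with q elements, (l, q) ≠ (4, 2), the Schur multiplier of PΩ⁺_2l(F) (for the form Σ xᵢyᵢ) is the product of two cyclic groups of order gcd(2, q^l − 1) (so trivial for q even and a four-group for q odd; here the Schur multiplier is described through stem extensions, as in the definitions). -/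
theorem result {F : Type*} [Field F] [Fintype F] {q : ℕ} (hF : Fintype.card F = q) (l : ℕ) (hl : 4 ≤ l) (heven : Even l) (hexc : ¬ (l = 4 ∧ q = 2)) : Cfsg.HasSchurMultiplier (Cfsg.POmega F (Cfsg.quadFormPlus l F)) (Multiplicative (ZMod (Nat.gcd 2 (q ^ l - 1)) × ZMod (Nat.gcd 2 (q ^ l - 1)))) := by
  classical
  have heven' := heven
  have hodd : (2 : F) ≠ 0 → Odd q := fun h2 => by
    rw [← hF, Nat.odd_iff]
    rcases Nat.mod_two_eq_zero_or_one (Fintype.card F) with h | h
    · refine absurd ?_ h2
      have hr : ringChar F = 2 := FiniteField.even_card_iff_char_two.2 h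
      haveI : CharP F 2 := hr ▸ ringChar.charP F
      simpa using CharP.cast_eq_zero F 2
    · exact h
  have hqeven : (2 : F) = 0 → ¬ Odd q := fun h2 ho =>
    CfsgLib.Geometry.two_ne_zero_of_odd_card hF ho h2
  refine CfsgLib.Pres.DPlus.multiplier_plus (by omega) (fun h hq => hexc ⟨h, by
    rw [← hF, ← Nat.card_eq_fintype_card]; exact hq⟩) ?_
  simp only [Nat.card_congr Multiplicative.toAdd, Nat.card_prod, Nat.card_zmod]
  have hsq : IsSquare ((-1 : F) ^ l) := by rw [heven'.neg_one_pow]; exact IsSquare.one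
  refine ⟨fun h2 => ?_, fun h2 hn => absurd hsq hn, fun h2 _ => ⟨?_, fun _ x => ?_,
    fun ho => absurd heven' (Nat.not_even_iff_odd.2 ho)⟩⟩
  · have hq : q % 2 = 0 := Nat.not_odd_iff.1 (hqeven h2)
    have hp : 2 ∣ q ^ l := dvd_pow (Nat.dvd_of_mod_eq_zero hq) (by omega)
    have hpos : 0 < q ^ l := pow_pos (hF ▸ Fintype.card_pos) _
    rw [Nat.gcd_rec]
    have : (q ^ l - 1) % 2 = 1 := by omega
    rw [this]
    rfl
  · have hp : q ^ l % 2 = 1 := Nat.odd_iff.1 ((hodd h2).pow)
    rw [Nat.gcd_rec]
    have : (q ^ l - 1) % 2 = 0 := by omega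
    rw [this]
    rfl
  · have hg : Nat.gcd 2 (q ^ l - 1) = 2 := by
      have hp : q ^ l % 2 = 1 := Nat.odd_iff.1 ((hodd h2).pow)
      rw [Nat.gcd_rec]
      have : (q ^ l - 1) % 2 = 0 := by omega
      rw [this]
      rfl
    revert x
    rw [hg]
    decide

end Cfsg.Agent.S2097
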