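import Cfsg.Statements.S2099
import Cfsg.Agent.Lib.Schur.MinusMultiplier
import Cfsg.Agent.Lib.Schur.EvenMinus
import Cfsg.Agent.Lib.Schur.Lift
import Cfsg.Agent.Lib.KnownB.O8mMult.Main
import Cfsg.Agent.Lib.Geometry.SmallOrth

set_option autoImplicit false
open Cfsg

namespace Cfsg.Agent.S2099

universe u

/-- Over two elements in dimension eight. -/
theorem eight_two {F : Type u} [Field F] [Fintype F] (hF : Fintype.card F = 2) (a b : F)
    (hab : ∀ z₁ z₂ : F, z₁ ^ 2 + a * z₁ * z₂ + b * z₂ ^ 2 = 0 → z₁ = 0 ∧ z₂ = 0) :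
    Cfsg.HasCyclicSchurMultiplier (Cfsg.POmega F (Cfsg.quadFormMinus 3 F a b)) 1 := by
  classical
  let eF : F ≃+* ZMod 2 := (ZMod.ringEquivOfPrime F Nat.prime_two hF).symm
  have key : ∀ x y : ZMod 2, (∀ z₁ z₂ : ZMod 2, z₁ ^ 2 + x * z₁ * z₂ + y * z₂ ^ 2 = 0 → z₁ = 0 ∧ z₂ = 0) →
      x = 1 ∧ y = 1 := by decide
  obtain ⟨ha, hb⟩ := key (eF a) (eF b) fun z₁ z₂ h => by
    have h' := congrArg eF.symm h
    simp only [map_add, map_mul, map_pow, RingEquiv.symm_apply_apply, map_zero] at h'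
    obtain ⟨h1, h2⟩ := hab _ _ h'
    exact ⟨eF.symm.injective (h1.trans (map_zero _).symm),
      eF.symm.injective (h2.trans (map_zero _).symm)⟩
  obtain ⟨f, -⟩ := CfsgLib.Geometry.SmallOrth.isometry_congr eF (Cfsg.quadFormMinus 3 F a b)
    (Cfsg.quadFormMinus 3 (ZMod 2) 1 1) fun v => by
      simp [Cfsg.quadFormMinus, Function.comp_apply, ha, hb]
  have hmap : (Cfsg.Omega F (Cfsg.quadFormMinus 3 F a b)).map f.toMonoidHom =
      Cfsg.Omega (ZMod 2) (Cfsg.quadFormMinus 3 (ZMod 2) 1 1) := by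
    rw [show Cfsg.Omega F (Cfsg.quadFormMinus 3 F a b) = ⁅⊤, ⊤⁆ from rfl, Subgroup.map_commutator,
      Subgroup.map_top_of_surjective _ f.surjective]
    rfl
  let g := (f.subgroupMap _).trans (MulEquiv.subgroupCongr hmap)
  let q : Cfsg.POmega (ZMod 2) (Cfsg.quadFormMinus 3 (ZMod 2) 1 1) ≃*
      Cfsg.POmega F (Cfsg.quadFormMinus 3 F a b) :=
    (QuotientGroup.congr _ _ g (by
      ext x
      show x ∈ Subgroup.map g.toMonoidHom _ ↔ _
      rw [Subgroup.mem_map_equiv, Subgroup.mem_center_iff, Subgroup.mem_center_iff]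
      constructor
      · intro h y
        have := congrArg g (h (g.symm y))
        simpa using this
      · intro h y
        apply g.injective
        simpa using h (g y))).symm
  have hker : q.toMonoidHom.ker = ⊥ := (MonoidHom.ker_eq_bot_iff _).2 q.injective
  have hs : Cfsg.IsStemExtension q.toMonoidHom := ⟨q.surjective, hker ▸ bot_le, hker ▸ bot_le⟩
  obtain ⟨e⟩ := CfsgLib.Schur.mult_equiv_ker_of_trivial q.toMonoidHom hs
    CfsgLib.KnownB.O8mMult.trivial_multiplier
  have : Subsingleton q.toMonoidHom.ker := by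
    rw [hker]
    exact inferInstance
  have : Subsingleton (Multiplicative (ZMod 1)) := inferInstanceAs (Subsingleton (ZMod 1))
  let φ : Multiplicative (ZMod 1) ≃* q.toMonoidHom.ker :=
    { toFun := fun _ => 1
      invFun := fun _ => 1
      left_inv := fun _ => Subsingleton.elim _ _
      right_inv := fun _ => Subsingleton.elim _ _
      map_mul' := fun _ _ => (one_mul 1).symm }
  exact CfsgLib.Schur.hasSchurMultiplier_iff.2 ⟨φ.trans e.symm⟩

/-- Schur multipliers of the even-dimensional orthogonal groups of minus type: for l ≥ 4 and a field F with q elements, the Schur multiplier of PΩ⁻_2l(F) (for the form Σ_{i<l−1} xᵢyᵢ + z₁² + a z₁z₂ + b z₂² with the binary part anisotropic) is cyclic of order gcd(4, q^l + 1); here the Schur multiplier is described through stem extensions, as in the definitions. -/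
theorem result {F : Type*} [Field F] [Fintype F] {q : ℕ} (hF : Fintype.card F = q) (l : ℕ) (hl : 4 ≤ l) (a b : F) (hab : ∀ z₁ z₂ : F, z₁ ^ 2 + a * z₁ * z₂ + b * z₂ ^ 2 = 0 → z₁ = 0 ∧ z₂ = 0) : Cfsg.HasCyclicSchurMultiplier (Cfsg.POmega F (Cfsg.quadFormMinus (l - 1) F a b)) (Nat.gcd 4 (q ^ l + 1)) := by
  classical
  subst hF
  obtain ⟨m, rfl⟩ : ∃ m, l = m + 1 := ⟨l - 1, by omega⟩
  change Cfsg.HasCyclicSchurMultiplier (Cfsg.POmega F (Cfsg.quadFormMinus m F a b)) _
  by_cases h2 : (2 : F) = 0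
  · have hchar : CharP F 2 := CharTwo.of_one_ne_zero_of_two_eq_zero (one_ne_zero (α := F)) h2
    have heven := FiniteField.even_card_of_char_two (F := F) (ringChar.eq F 2)
    have hgcd : Nat.gcd 4 (Fintype.card F ^ (m + 1) + 1) = 1 := by
      have h0 : Fintype.card F ^ (m + 1) % 2 = 0 := by
        rw [pow_succ, Nat.mul_mod, heven, mul_zero, Nat.zero_mod]
      have hco : Nat.Coprime 2 (Fintype.card F ^ (m + 1) + 1) :=
        Nat.prime_two.coprime_iff_not_dvd.2 (by omega)
      exact Nat.Coprime.pow_left 2 hco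
    rw [hgcd]
    by_cases hexc : m = 3 ∧ Fintype.card F = 2
    · obtain ⟨rfl, hq⟩ := hexc
      exact eight_two hq a b hab
    · exact CfsgLib.Schur.EvenMinus.multiplier_minus_even h2 hab (by omega) hexc
  · exact CfsgLib.Schur.MinusMultiplier.multiplier_minus (by omega) h2 hab

end Cfsg.Agent.S2099
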