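import Cfsg.Statements.S2100
import Cfsg.Agent.Lib.Steinberg.Multiplier


set_option autoImplicit false
open Cfsg

namespace Cfsg.Agent.S2100

/-- Schur multipliers of the Chevalley groups of type G₂: over a field with q ≥ 5 elements the Schur multiplier of G₂(q) is trivial (here the Schur multiplier is described through stem extensions, as in the definitions); the cases q = 3 and q = 4 are exceptional and q = 2 gives a non-simple group. -/
theorem result {F : Type*} [Field F] [Fintype F] (hF : 5 ≤ Fintype.card F) : Cfsg.HasCyclicSchurMultiplier ↥(Cfsg.Lie.chevG2.group F) 1 := by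
    have hK5 : ∃ s : Finset F, 4 < s.card := ⟨Finset.univ, by rw [Finset.card_univ]; omega⟩
    exact CfsgLib.Steinberg.multiplier_group CfsgLib.Chev.stdG2 CfsgLib.Steinberg.splitG2
      (fun X _ q hq hc => CfsgLib.Steinberg.exists_splitting (by simp) hK5 q hq hc)
      (CfsgLib.Steinberg.perfect_cover (by simp) fun _ => CfsgLib.Steinberg.exists_third hK5) (Or.inl rfl)
      (CfsgLib.Steinberg.card_center_bot CfsgLib.Chev.stdG2 CfsgLib.Steinberg.splitG2
        ((by decide : (![1, 1] : Fin 2 → ℕ) = fun _ => 1) ▸ CfsgLib.Chev.smithG2))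

end Cfsg.Agent.S2100
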