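import Cfsg.Statements.S2103
import Cfsg.Agent.Lib.Steinberg.SmallTypes


set_option autoImplicit false
open Cfsg

namespace Cfsg.Agent.S2103

/-- Schur multipliers of the Chevalley groups of type F₄: over a finite field with more than 2 elements the Schur multiplier of F₄(q) is trivial (here the Schur multiplier is described through stem extensions, as in the definitions); q = 2 is exceptional. -/
theorem result {F : Type*} [Field F] [Fintype F] (hF : 3 ≤ Fintype.card F) : Cfsg.HasCyclicSchurMultiplier ↥(Cfsg.Lie.chevF4.group F) 1 := by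
    have hperf : commutator (Cfsg.Lie.chevF4.SteinbergCover F) = ⊤ :=
      CfsgLib.Steinberg.perfect_cover (by simp) fun h => by
        simp only [List.mem_cons, List.not_mem_nil, or_false] at h
        rcases h with h | h <;> exact absurd (congrArg Cfsg.Lie.ChevalleyDatum.rank h) (by decide)
    have hs : CfsgLib.Steinberg.Splits (Cfsg.Lie.chevF4.SteinbergCover F) := by
      rcases eq_or_ne (Fintype.card F) 3 with h3 | h3
      · exact CfsgLib.Steinberg.splits_three CfsgLib.Steinberg.threeF4 h3 hperf
      rcases eq_or_ne (Fintype.card F) 4 with h4 | h4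
      · exact CfsgLib.Steinberg.splits_four CfsgLib.Steinberg.fourF4 h4 hperf
      exact fun X _ q hq hc => CfsgLib.Steinberg.exists_splitting (by simp)
        ⟨Finset.univ, by rw [Finset.card_univ]; omega⟩ q hq hc
    exact CfsgLib.Steinberg.multiplier_group CfsgLib.Chev.stdF4 CfsgLib.Steinberg.splitF4 hs hperf (Or.inl rfl)
      (CfsgLib.Steinberg.card_center_bot CfsgLib.Chev.stdF4 CfsgLib.Steinberg.splitF4
        ((by decide : (![1, 1, 1, 1] : Fin 4 → ℕ) = fun _ => 1) ▸ CfsgLib.Chev.smithF4))

end Cfsg.Agent.S2103
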