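import Cfsg.Statements.S2106
import Cfsg.Agent.Lib.Steinberg.EGroups


set_option autoImplicit false
open Cfsg

namespace Cfsg.Agent.S2106

/-- Schur multipliers of the (adjoint, simple) Chevalley groups of type E₇: over a field with q elements the Schur multiplier is cyclic of order gcd(2, q − 1) (here the Schur multiplier is described through stem extensions, as in the definitions). -/
theorem result {F : Type*} [Field F] [Fintype F] {q : ℕ} (hF : Fintype.card F = q) : Cfsg.HasCyclicSchurMultiplier ↥(Cfsg.Lie.chevE7.group F) (Nat.gcd 2 (q - 1)) := by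
    have hperf : commutator (Cfsg.Lie.chevE7.SteinbergCover F) = ⊤ :=
      CfsgLib.Steinberg.perfect_cover (by simp) fun h => by
        simp only [List.mem_cons, List.not_mem_nil, or_false] at h
        rcases h with h | h <;> exact absurd (congrArg Cfsg.Lie.ChevalleyDatum.rank h) (by decide)
    have hs : CfsgLib.Steinberg.Splits (Cfsg.Lie.chevE7.SteinbergCover F) :=
      CfsgLib.Steinberg.splits_e (by simp) CfsgLib.Chev.stdE7 CfsgLib.Steinberg.splitE7
        CfsgLib.Steinberg.twoE7 CfsgLib.Steinberg.threeE7 CfsgLib.Steinberg.fourE7 hperf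
    have he8 : Function.Injective (CfsgLib.Chev.tor Cfsg.Lie.chevE8 CfsgLib.Chev.auxE8 :
        (Fin Cfsg.Lie.chevE8.rank → Fˣ) →* GL Cfsg.Lie.chevE8.Idx F) :=
      CfsgLib.Steinberg.tor_injective CfsgLib.Chev.stdE8.good
        ((by decide : (![1, 1, 1, 1, 1, 1, 1, 1] : Fin 8 → ℕ) = fun _ => 1) ▸ CfsgLib.Chev.smithE8)
    refine CfsgLib.Steinberg.multiplier_group CfsgLib.Chev.stdE7 CfsgLib.Steinberg.splitE7 hs hperf
      (((Nat.dvd_prime Nat.prime_two).1 (Nat.gcd_dvd_left _ _)).imp_right fun e => by rw [e]; exact Nat.prime_two) ?_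
    rw [CfsgLib.Steinberg.card_center CfsgLib.Chev.stdE7 CfsgLib.Steinberg.splitE7 CfsgLib.Chev.stdE8
      CfsgLib.Steinberg.emb78 he8 CfsgLib.Chev.smithE7, hF]
    show (∏ i : Fin 7, Nat.gcd ((![1, 1, 1, 1, 1, 1, 2] : Fin 7 → ℕ) i) (q - 1)) = _
    simp [Fin.prod_univ_succ]

end Cfsg.Agent.S2106
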