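import Cfsg.Statements.S2107
import Cfsg.Agent.Lib.Steinberg.EGroups


set_option autoImplicit false
open Cfsg

namespace Cfsg.Agent.S2107

/-- Schur multipliers of the Chevalley groups of type E₈: over every finite field the Schur multiplier of E₈(q) is trivial (here the Schur multiplier is described through stem extensions, as in the definitions). -/
theorem result {F : Type*} [Field F] [Fintype F] : Cfsg.HasCyclicSchurMultiplier ↥(Cfsg.Lie.chevE8.group F) 1 := by
    have hperf : commutator (Cfsg.Lie.chevE8.SteinbergCover F) = ⊤ :=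
      CfsgLib.Steinberg.perfect_cover (by simp) fun h => by
        simp only [List.mem_cons, List.not_mem_nil, or_false] at h
        rcases h with h | h <;> exact absurd (congrArg Cfsg.Lie.ChevalleyDatum.rank h) (by decide)
    have hs : CfsgLib.Steinberg.Splits (Cfsg.Lie.chevE8.SteinbergCover F) :=
      CfsgLib.Steinberg.splits_e (by simp) CfsgLib.Chev.stdE8 CfsgLib.Steinberg.splitE8
        CfsgLib.Steinberg.twoE8 CfsgLib.Steinberg.threeE8 CfsgLib.Steinberg.fourE8 hperf
    exact CfsgLib.Steinberg.multiplier_group CfsgLib.Chev.stdE8 CfsgLib.Steinberg.splitE8 hs hperf (Or.inl rfl)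
      (CfsgLib.Steinberg.card_center_bot CfsgLib.Chev.stdE8 CfsgLib.Steinberg.splitE8
        ((by decide : (![1, 1, 1, 1, 1, 1, 1, 1] : Fin 8 → ℕ) = fun _ => 1) ▸ CfsgLib.Chev.smithE8))

end Cfsg.Agent.S2107
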