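import Cfsg.Statements.S2110
import Cfsg.Agent.Lib.Chev.D43Mult.Two
import Cfsg.Agent.Lib.Chev.D43Mult.Reduce

set_option autoImplicit false
open Cfsg

namespace Cfsg.Agent.S2110

/-- Schur multipliers of the triality-twisted groups ³D₄: for every prime power q, with the group realised over the field with q³ elements, the Schur multiplier of ³D₄(q) is trivial (here the Schur multiplier is described through stem extensions, as in the definitions). -/
theorem result {K : Type*} [Field K] [Fintype K] {q : ℕ} (hq : IsPrimePow q) (hK : Fintype.card K = q ^ 3) : Cfsg.HasCyclicSchurMultiplier ↥(Cfsg.Lie.twistedD4 K q) 1 := by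
  obtain ⟨σ, hσ⟩ := CfsgLib.Chev.exists_powHom hq three_ne_zero hK
  rw [CfsgLib.Chev.D43.twisted_eq_fix hσ hK]
  haveI : Finite (GL Cfsg.Lie.chevD4.Idx K) := CfsgLib.Chev.finite_GL
  refine CfsgLib.Schur.hasCyclicSchurMultiplier_one_of_forall fun Γ _ _ π hs =>
    CfsgLib.Chev.D43Mult.stem_trivial hσ hK π hs ?_
  rcases (hq.two_le).lt_or_eq with h | h
  · exact CfsgLib.Chev.D43Mult.p_part_big hσ hK h hs.2.1 hs.1
  · subst h
    exact CfsgLib.Chev.D43Mult.p_part_two hσ hK hs.2.1 hs.1

end Cfsg.Agent.S2110
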