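import Cfsg.Statements.S2114
import Cfsg.Agent.Lib.Chev.F42Mult.Reduce

set_option autoImplicit false
open Cfsg

namespace Cfsg.Agent.S2114

/-- Schur multipliers of the large Ree groups: for q = 2^(2m+1) with m ≥ 1 the Schur multiplier of ²F₄(q) is trivial (here the Schur multiplier is described through stem extensions, as in the definitions). -/
theorem result {K : Type*} [Field K] [Fintype K] {m : ℕ} (hm : 1 ≤ m) (hK : Fintype.card K = 2 ^ (2 * m + 1)) : Cfsg.HasCyclicSchurMultiplier ↥(Cfsg.Lie.twistedF4 K (2 ^ m)) 1 := by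
  obtain ⟨_, σ, hσ, hi⟩ := CfsgLib.Chev.F42.exists_sigma hK
  rw [CfsgLib.Chev.F42.twisted_eq_fix hσ hi]
  haveI : Finite (GL Cfsg.Lie.chevF4.Idx K) := CfsgLib.Chev.finite_GL
  exact CfsgLib.Schur.hasCyclicSchurMultiplier_one_of_forall fun Γ _ _ π hs =>
    CfsgLib.Chev.F42Mult.stem_trivial hm hK hσ hi π hs

end Cfsg.Agent.S2114
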