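import Cfsg.Statements.S2115
import Cfsg.Agent.Lib.KnownB.Tits.P2
import Cfsg.Agent.Lib.KnownB.Tits.P3
import Cfsg.Agent.Lib.KnownB.Tits.P5
-- import your own Cfsg.Agent.* helpers here

set_option autoImplicit false
open Cfsg

namespace Cfsg.Agent.S2115

/-- The Tits group, the commutator subgroup of ²F₄(2), has trivial Schur multiplier (here the Schur multiplier is described through stem extensions, as in the definitions). -/
theorem result : Cfsg.HasCyclicSchurMultiplier Cfsg.Lie.TitsGroup 1 := by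
  have hN : Nat.card Cfsg.Lie.TitsGroup = 2 ^ 11 * 3 ^ 3 * 5 ^ 2 * 13 :=
    CfsgLib.Chev.Tits2.tits_facts.2.2.2
  refine CfsgLib.KnownB.Mult.hasTrivialMultiplier_of_primeCond fun p _ => ?_
  by_cases h2 : p = 2
  · subst h2
    exact CfsgLib.KnownB.Tits.P2.primeCond (m := 8775) (hN.trans (by norm_num)) (by norm_num)
  by_cases h3 : p = 3
  · subst h3
    exact CfsgLib.KnownB.Tits.P3.primeCond (m := 665600) (hN.trans (by norm_num)) (by norm_num)
  by_cases h5 : p = 5
  · subst h5
    exact CfsgLib.KnownB.Tits.P5.primeCond (m := 718848) (hN.trans (by norm_num)) (by norm_num)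
  refine CfsgLib.KnownB.Mult.primeCond_of_cyclic default
    (CfsgLib.KnownB.Mult.isCyclic_sylow (p := p) ?_ default)
  intro hd
  rw [hN] at hd
  have hp : p.Prime := Fact.out
  have cop : ∀ q, q.Prime → p ≠ q → ∀ k, Nat.Coprime (p ^ 2) (q ^ k) := fun q hq hne k =>
    Nat.Coprime.pow _ _ ((Nat.coprime_primes hp hq).2 hne)
  have h13 : p ^ 2 ∣ 13 := (cop 5 (by norm_num) h5 2).dvd_of_dvd_mul_left
    ((cop 3 (by norm_num) h3 3).dvd_of_dvd_mul_left
      ((cop 2 (by norm_num) h2 11).dvd_of_dvd_mul_left (by norm_num at hd ⊢; exact hd)))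
  rcases (Nat.dvd_prime (by norm_num)).1 h13 with h | h
  · have := hp.two_le; nlinarith
  · have := hp.two_le
    have : p ≤ 3 := by nlinarith
    interval_cases p <;> omega

end Cfsg.Agent.S2115
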