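import Cfsg.Agent.Lib.J1Group.InvolCent
import Cfsg.Statements.S2131

set_option autoImplicit false

namespace Cfsg.Agent.S2131

open CfsgLib.J1Group in
theorem result : ∃ t : ↥Cfsg.Spor.J1, orderOf t = 2 ∧ Nonempty (↥(Subgroup.centralizer ({t} : Set ↥Cfsg.Spor.J1)) ≃* Multiplicative (ZMod 2) × ↥(alternatingGroup (Fin 5))) :=
  ⟨rep 1, (orderOf_rep 1).trans (by decide +kernel), centralizer_rep_one_iso⟩

end Cfsg.Agent.S2131
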