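import Cfsg.Statements.S2136
import Cfsg.Agent.Lib.Spor.Co2Invol.Core
import Cfsg.Agent.Lib.PLocal.QdOverApps

set_option autoImplicit false
open Cfsg

namespace Cfsg.Agent.S2136

/-- The Conway group Co₂ (the stabiliser of a minimal vector of the rank-24 lattice) has an involution whose centraliser C has largest normal 2-subgroup extraspecial of order 2^9 with quotient C / O₂(C) isomorphic to the symplectic group Sp(6, 2) (shape 2^{1+8}Sp(6, 2)). -/
theorem result : ∃ t : ↥Cfsg.Spor.Co2, orderOf t = 2 ∧ Cfsg.IsExtraspecial 2 (Cfsg.pCore 2 ↥(Subgroup.centralizer ({t} : Set ↥Cfsg.Spor.Co2))) ∧ Nat.card (Cfsg.pCore 2 ↥(Subgroup.centralizer ({t} : Set ↥Cfsg.Spor.Co2))) = 2 ^ 9 ∧ Nonempty (↥(Subgroup.centralizer ({t} : Set ↥Cfsg.Spor.Co2)) ⧸ Cfsg.pCore 2 ↥(Subgroup.centralizer ({t} : Set ↥Cfsg.Spor.Co2)) ≃* Matrix.symplecticGroup (Fin 3) (ZMod 2)) := by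
  have hu : Cfsg.Spor.leechU = CfsgLib.Spor.ShortPairs.v0 := Subtype.ext (CfsgLib.Spor.lOf_inj (by decide +kernel))
  let t : ↥Spor.Co2 := ⟨(CfsgLib.Spor.Co2Invol.tEl : Cfsg.Co0).1,
    ⟨(CfsgLib.Spor.Co2Invol.tEl).2, by
      show _ • _ = _
      rw [hu]
      exact CfsgLib.Spor.Co2Invol.tEl_v0⟩⟩
  have hmem : ∀ x : ↥(Subgroup.centralizer ({t} : Set ↥Spor.Co2)),
      (⟨x.1.1, x.1.2.1⟩ : Cfsg.Co0) ∈ CfsgLib.Spor.Co2Invol.ct := fun x => by
    refine CfsgLib.Spor.Co2Invol.mem_ct.2 ⟨?_, ?_⟩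
    · have h := MulAction.mem_stabilizer_iff.1 x.1.2.2
      rw [hu] at h
      exact h
    · have h := Subgroup.mem_centralizer_iff.1 x.2 t (Set.mem_singleton t)
      exact Subtype.ext (congrArg (fun k : ↥Spor.Co2 => k.1) h)
  let e : ↥(Subgroup.centralizer ({t} : Set ↥Spor.Co2)) ≃* ↥CfsgLib.Spor.Co2Invol.ct :=
    { toFun := fun x => ⟨⟨x.1.1, x.1.2.1⟩, hmem x⟩
      invFun := fun g => ⟨⟨g.1.1, ⟨g.1.2, by
          show _ • _ = _
          rw [hu]
          exact (CfsgLib.Spor.Co2Invol.mem_ct.1 g.2).1⟩⟩, by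
          rw [Subgroup.mem_centralizer_iff]
          rintro _ rfl
          exact Subtype.ext (congrArg (fun k : Cfsg.Co0 => k.1)
            (CfsgLib.Spor.Co2Invol.mem_ct.1 g.2).2)⟩
      left_inv := fun x => rfl
      right_inv := fun g => rfl
      map_mul' := fun x y => rfl }
  have hmap := CfsgLib.Base.map_pCore_mulEquiv (p := 2) e
  rw [CfsgLib.Spor.Co2Invol.pCore_eq_ker] at hmap
  let ec := ((pCore 2 _).equivMapOfInjective e.toMonoidHom e.injective).trans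
    (MulEquiv.subgroupCongr hmap)
  refine ⟨t, ?_, CfsgLib.PLocal.Affine.extraspecial_of_equiv ec.symm
    CfsgLib.Spor.Co2Invol.isExtraspecial_ker, ?_, ⟨?_⟩⟩
  · refine orderOf_eq_prime ?_ ?_
    · refine Subtype.ext (Equiv.ext fun v => ?_)
      show CfsgLib.Spor.Co2Invol.tEl • (CfsgLib.Spor.Co2Invol.tEl • v) = v
      refine Subtype.ext (funext fun p => ?_)
      rw [CfsgLib.Spor.Co2Invol.tEl_apply, CfsgLib.Spor.Co2Invol.tEl_apply]
      cases CfsgLib.Spor.Co2Invol.inO p <;> simp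
    · intro h
      have h' : CfsgLib.Spor.Co2Invol.tEl = (1 : Cfsg.Co0) :=
        Subtype.ext (congrArg (fun k : ↥Spor.Co2 => k.1) h)
      exact (by decide +kernel : CfsgLib.Spor.lOf ((CfsgLib.ThreeTransp.CoReduce.bigE
          (CfsgLib.Spor.pt 4) : Cfsg.leechLattice) : Cfsg.GolayPt → ℤ) ≠
        CfsgLib.Spor.lOf ((CfsgLib.Spor.Co2Invol.tEl • CfsgLib.ThreeTransp.CoReduce.bigE
          (CfsgLib.Spor.pt 4) : Cfsg.leechLattice) : Cfsg.GolayPt → ℤ)) (by rw [h', one_smul])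
  · rw [Nat.card_congr ec.toEquiv, CfsgLib.Spor.Co2Invol.natCard_ker]
    norm_num
  · exact (QuotientGroup.congr _ _ e hmap).trans
      (QuotientGroup.quotientKerEquivOfSurjective CfsgLib.Spor.Co2Invol.phi
        CfsgLib.Spor.Co2Invol.phi_surjective)

end Cfsg.Agent.S2136
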