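import Cfsg.Statements.S2142
import Cfsg.Agent.Lib.MinIdx.SpTwoMain
import Cfsg.Agent.Lib.MinIdx.SpTwoForm
-- import your own Cfsg.Agent.* helpers here

set_option autoImplicit false
open Cfsg

namespace Cfsg.Agent.S2142

/-- Minimal index of a proper subgroup of the symplectic groups over the field with 2 elements: for m ≥ 3, every proper subgroup of Sp_2m(2) has index at least 2^(m−1)(2^m − 1), and that index is attained. -/
theorem result {F : Type*} [Field F] [Fintype F] (hF : Fintype.card F = 2) (m : ℕ) (hm : 3 ≤ m) : (∀ H : Subgroup (Cfsg.PSp m F), H ≠ ⊤ → 2 ^ (m - 1) * (2 ^ m - 1) ≤ H.index) ∧ (∃ H : Subgroup (Cfsg.PSp m F), H.index = 2 ^ (m - 1) * (2 ^ m - 1)) := by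
  classical
  have hcard : Nat.card F = 2 := by rw [Nat.card_eq_fintype_card, hF]
  obtain ⟨n, rfl⟩ : ∃ n, m = n + 1 := ⟨m - 1, by omega⟩
  rw [Nat.add_sub_cancel]
  let π := QuotientGroup.mk' (Subgroup.center (Matrix.symplecticGroup (Fin (n + 1)) F))
  have hπ : Function.Surjective π := QuotientGroup.mk'_surjective _
  refine ⟨fun H hH => ?_, ?_⟩
  · have hne : H.comap π ≠ ⊤ := fun h => hH (Subgroup.comap_injective hπ (h.trans (Subgroup.comap_top π).symm))
    have h1 := CfsgLib.MinIdx.SpF2.sp_two_bound hcard n (by omega) (H.comap π) hne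
    rwa [Subgroup.index_comap_of_surjective H hπ] at h1
  · have hu : CfsgLib.MinIdx.SpF2.q0
        (Pi.single (Sum.inl 0) 1 + Pi.single (Sum.inr 0) 1 : Fin (n + 1) ⊕ Fin (n + 1) → F) = 1 := by
      simp [CfsgLib.MinIdx.SpF2.q0, Fin.sum_univ_succ]
    refine ⟨(CfsgLib.MinIdx.SpF2.formS
      (Pi.single (Sum.inl 0) 1 + Pi.single (Sum.inr 0) 1 : Fin (n + 1) ⊕ Fin (n + 1) → F)).map π, ?_⟩
    rw [Subgroup.index_map_eq _ hπ (by
      rw [QuotientGroup.ker_mk', CfsgLib.MinIdx.SpF2.center_eq_bot hcard]; exact bot_le),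
      CfsgLib.MinIdx.SpF2.index_formS hcard, hu, CfsgLib.MinIdx.SpF2.card_q0 hcard]

end Cfsg.Agent.S2142
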