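import Cfsg.Statements.S2143
import Cfsg.Agent.Lib.MinIdx.OrthBound
-- import your own Cfsg.Agent.* helpers here

set_option autoImplicit false
open Cfsg

namespace Cfsg.Agent.S2143

/-- Minimal index of a proper subgroup of the odd-dimensional orthogonal groups: for m ≥ 3 and a field F with q elements, q odd and q ≥ 5, every proper subgroup of PΩ_(2m+1)(F) (for the form x₀² + Σ xᵢyᵢ) has index at least (q^(2m) − 1)/(q − 1), and that index is attained. -/
theorem result {F : Type*} [Field F] [Fintype F] {q : ℕ} (hF : Fintype.card F = q) (hodd : Odd q) (h5 : 5 ≤ q) (m : ℕ) (hm : 3 ≤ m) : (∀ H : Subgroup (Cfsg.POmega F (Cfsg.quadFormOdd m F)), H ≠ ⊤ → (q ^ (2 * m) - 1) / (q - 1) ≤ H.index) ∧ (∃ H : Subgroup (Cfsg.POmega F (Cfsg.quadFormOdd m F)), H.index = (q ^ (2 * m) - 1) / (q - 1)) := by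
  have hc : Nat.card F = q := by rw [Nat.card_eq_fintype_card, hF]
  subst hc
  have h2 : (2 : F) ≠ 0 := CfsgLib.Classical.two_ne_zero_of_odd_card hodd
  have hn : 5 ≤ Fintype.card (Unit ⊕ (Fin m ⊕ Fin m)) := by simp; omega
  have hnd := CfsgLib.Geometry.nondegenerate_odd (F := F) h2 m
  rw [← CfsgLib.Geometry.coe_matQuad_odd]
  refine ⟨fun H hH => ?_, ?_⟩
  · have h1 := CfsgLib.MinIdx.Orth.index_bound_pOmega hnd hn
      (CfsgLib.MinIdx.Orth.bound_odd hodd h5 m (by omega)) H hH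
    exact (Nat.div_le_div_right h1).trans_eq (Nat.mul_div_cancel _ (by omega))
  · obtain ⟨H, hH⟩ := CfsgLib.MinIdx.Orth.exists_index_pOmega hnd hn
    refine ⟨H, ?_⟩
    rw [← CfsgLib.MinIdx.Orth.sing_odd (F := F) m, ← hH]
    exact (Nat.mul_div_cancel _ (by omega)).symm


end Cfsg.Agent.S2143
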