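import Cfsg.Statements.S2144
import Cfsg.Agent.Lib.MinIdx.OrthThreeMain
-- import your own Cfsg.Agent.* helpers here

set_option autoImplicit false
open Cfsg

namespace Cfsg.Agent.S2144

/-- Minimal index of a proper subgroup of the odd-dimensional orthogonal groups over the field with 3 elements: for m ≥ 3, every proper subgroup of PΩ_(2m+1)(3) (for the form x₀² + Σ xᵢyᵢ) has index at least 3^m(3^m − 1)/2, and that index is attained. -/
theorem result {F : Type*} [Field F] [Fintype F] (hF : Fintype.card F = 3) (m : ℕ) (hm : 3 ≤ m) : (∀ H : Subgroup (Cfsg.POmega F (Cfsg.quadFormOdd m F)), H ≠ ⊤ → 3 ^ m * (3 ^ m - 1) / 2 ≤ H.index) ∧ (∃ H : Subgroup (Cfsg.POmega F (Cfsg.quadFormOdd m F)), H.index = 3 ^ m * (3 ^ m - 1) / 2) := by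
  classical
  have hc : Nat.card F = 3 := by rw [Nat.card_eq_fintype_card, hF]
  have h2 : (2 : F) ≠ 0 := CfsgLib.Classical.two_ne_zero_of_odd_card (by rw [hc]; decide)
  have hn : 5 ≤ Fintype.card (Unit ⊕ (Fin m ⊕ Fin m)) := by simp; omega
  have hnd := CfsgLib.Geometry.nondegenerate_odd (F := F) h2 m
  rw [← CfsgLib.Geometry.coe_matQuad_odd]
  refine ⟨fun H hH => ?_, ?_⟩
  · have h1 := CfsgLib.MinIdx.Orth.index_bound_pOmega hnd hn
      (CfsgLib.MinIdx.Orth.bound_odd_three hc m hm) H hH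
    rw [hc] at h1
    exact Nat.div_le_of_le_mul (h1.trans_eq (mul_comm _ _))
  · obtain ⟨k, rfl⟩ : ∃ k, m = k + 1 := ⟨m - 1, by omega⟩
    have hz : CfsgLib.Geometry.matQuad (CfsgLib.Geometry.oddMat (k + 1) F)
        (Pi.single (.inr (.inl 0)) 1 + Pi.single (.inr (.inr 0)) (-1)) = -1 := by
      simp [CfsgLib.Geometry.coe_matQuad_odd, Cfsg.quadFormOdd, Pi.single_apply, Fin.sum_univ_succ]
    obtain ⟨H, hH⟩ := CfsgLib.MinIdx.Orth.exists_index_three hnd hn hc (neg_ne_zero.2 one_ne_zero) hz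
    refine ⟨H, ?_⟩
    have h3 := (CfsgLib.MinIdx.Orth.value_odd (F := F) hc (k + 1)).2.2
    rw [← hH] at h3
    have e : 3 ^ (2 * (k + 1)) = 3 ^ (k + 1) * 3 ^ (k + 1) := by rw [← pow_add, two_mul]
    rw [e] at h3
    rw [Nat.mul_sub, mul_one]
    omega

end Cfsg.Agent.S2144
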