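import Cfsg.Statements.S2145
import Cfsg.Agent.Lib.MinIdx.OrthBound
-- import your own Cfsg.Agent.* helpers here

set_option autoImplicit false
open Cfsg

namespace Cfsg.Agent.S2145

/-- Minimal index of a proper subgroup of the even-dimensional orthogonal groups of plus type: for m ≥ 4 and a field F with q ≥ 4 elements, every proper subgroup of PΩ⁺_2m(F) (for the form Σ xᵢyᵢ) has index at least (q^m − 1)(q^(m−1) + 1)/(q − 1), and that index is attained (the singular points). -/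
theorem result {F : Type*} [Field F] [Fintype F] {q : ℕ} (hF : Fintype.card F = q) (hq : 4 ≤ q) (m : ℕ) (hm : 4 ≤ m) : (∀ H : Subgroup (Cfsg.POmega F (Cfsg.quadFormPlus m F)), H ≠ ⊤ → (q ^ m - 1) * (q ^ (m - 1) + 1) / (q - 1) ≤ H.index) ∧ (∃ H : Subgroup (Cfsg.POmega F (Cfsg.quadFormPlus m F)), H.index = (q ^ m - 1) * (q ^ (m - 1) + 1) / (q - 1)) := by
  have hc : Nat.card F = q := by rw [Nat.card_eq_fintype_card, hF]
  subst hc
  obtain ⟨k, rfl⟩ : ∃ k, m = k + 1 := ⟨m - 1, by omega⟩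
  have hn : 5 ≤ Fintype.card (Fin (k + 1) ⊕ Fin (k + 1)) := by simp; omega
  have hnd := CfsgLib.Geometry.nondegenerate_plus (F := F) (k + 1)
  rw [← CfsgLib.Geometry.coe_matQuad_plus, Nat.add_sub_cancel]
  refine ⟨fun H hH => ?_, ?_⟩
  · have h1 := CfsgLib.MinIdx.Orth.index_bound_pOmega hnd hn
      (CfsgLib.MinIdx.Orth.bound_plus hq k (by omega)) H hH
    exact (Nat.div_le_div_right h1).trans_eq (Nat.mul_div_cancel _ (by omega))
  · obtain ⟨H, hH⟩ := CfsgLib.MinIdx.Orth.exists_index_pOmega hnd hn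
    refine ⟨H, ?_⟩
    rw [← CfsgLib.MinIdx.Orth.sing_plus (F := F) k, ← hH]
    exact (Nat.mul_div_cancel _ (by omega)).symm


end Cfsg.Agent.S2145
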