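import Cfsg.Statements.S2146
import Cfsg.Agent.Lib.MinIdx.OrthTwoAttain
-- import your own Cfsg.Agent.* helpers here

set_option autoImplicit false
open Cfsg

namespace Cfsg.Agent.S2146

/-- Minimal index of a proper subgroup of the even-dimensional orthogonal groups of plus type over the field with 2 elements: for m ≥ 4, every proper subgroup of Ω⁺_2m(2) (for the form Σ xᵢyᵢ) has index at least 2^(m−1)(2^m − 1), and that index is attained. -/
theorem result {F : Type*} [Field F] [Fintype F] (hF : Fintype.card F = 2) (m : ℕ) (hm : 4 ≤ m) : (∀ H : Subgroup (Cfsg.POmega F (Cfsg.quadFormPlus m F)), H ≠ ⊤ → 2 ^ (m - 1) * (2 ^ m - 1) ≤ H.index) ∧ (∃ H : Subgroup (Cfsg.POmega F (Cfsg.quadFormPlus m F)), H.index = 2 ^ (m - 1) * (2 ^ m - 1)) := by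
  have hc : Nat.card F = 2 := by rw [Nat.card_eq_fintype_card, hF]
  obtain ⟨k, rfl⟩ : ∃ k, m = k + 1 := ⟨m - 1, by omega⟩
  have hn : 5 ≤ Fintype.card (Fin (k + 1) ⊕ Fin (k + 1)) := by simp; omega
  have hnd := CfsgLib.Geometry.nondegenerate_plus (F := F) (k + 1)
  rw [← CfsgLib.Geometry.coe_matQuad_plus, Nat.add_sub_cancel]
  refine ⟨fun H hH => ?_, ?_⟩
  · have h1 := CfsgLib.MinIdx.Orth.index_bound_pOmega hnd hn
      (CfsgLib.MinIdx.Orth.plus_two_bound hc k (by omega)) H hH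
    rwa [hc, show 2 - 1 = 1 from rfl, mul_one] at h1
  · have hz : CfsgLib.Geometry.matQuad (CfsgLib.Geometry.plusMat (k + 1) F)
        (Pi.single (Sum.inl 0) 1 + Pi.single (Sum.inr 0) 1) = 1 := by
      simp [CfsgLib.Geometry.coe_matQuad_plus, Cfsg.quadFormPlus, Pi.single_apply, Fin.sum_univ_succ]
    obtain ⟨H, hH⟩ := CfsgLib.MinIdx.Orth.exists_index_two hnd hn hc hz
    refine ⟨H, hH.trans ?_⟩
    have h2 := CfsgLib.MinIdx.Orth.card_nonsing
      (Q := CfsgLib.Geometry.matQuad (CfsgLib.Geometry.plusMat (k + 1) F)) hc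
    rw [CfsgLib.MinIdx.Orth.sing_plus, hc, Module.finrank_fintype_fun_eq_card, Fintype.card_sum, Fintype.card_fin] at h2
    zify [Nat.one_le_two_pow (n := k + 1)] at h2 ⊢
    rw [show (2 : ℤ) ^ (k + 1 + (k + 1)) = 4 * (2 ^ k * 2 ^ k) by ring, pow_succ'] at h2
    rw [pow_succ']
    linear_combination h2

end Cfsg.Agent.S2146
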