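import Cfsg.Statements.S2148
import Cfsg.Agent.Lib.MinIdx.U3.Main
import Cfsg.Agent.Lib.MinIdx.UnMain
import Cfsg.Agent.Lib.MinIdx.UnThree
-- import your own Cfsg.Agent.* helpers here

set_option autoImplicit false
open Cfsg

namespace Cfsg.Agent.S2148

/-- Minimal index of a proper subgroup of the three-dimensional unitary groups: for a field F with q² elements, q ≥ 3 and q ≠ 5, every proper subgroup of PSU₃(q) has index at least q³ + 1, and that index is attained. -/
theorem result {F : Type*} [Field F] [Fintype F] (q : ℕ) (hF : Fintype.card F = q ^ 2) (hq : 3 ≤ q) (h5 : q ≠ 5) : (∀ H : Subgroup (Cfsg.PSU 3 F q), H ≠ ⊤ → q ^ 3 + 1 ≤ H.index) ∧ (∃ H : Subgroup (Cfsg.PSU 3 F q), H.index = q ^ 3 + 1) := by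
  classical
  have hcard : Nat.card F = q ^ 2 := by rw [Nat.card_eq_fintype_card, hF]
  obtain ⟨σ, h⟩ := CfsgLib.Classical.Unitary.exists_uFrob hcard
  let π := QuotientGroup.mk' (Subgroup.center (Cfsg.SU 3 F q))
  have hπ : Function.Surjective π := QuotientGroup.mk'_surjective _
  refine ⟨fun H hH => ?_, ?_⟩
  · have hne : H.comap π ≠ ⊤ := fun h' => hH (Subgroup.comap_injective hπ (h'.trans (Subgroup.comap_top π).symm))
    have h1 := CfsgLib.MinIdx.U3.index_bound hcard h hq h5 (H.comap π) hne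
    rwa [Subgroup.index_comap_of_surjective H hπ] at h1
  · obtain ⟨x, hx0, hxx⟩ := CfsgLib.MinIdx.Un.exists_iso_vector (m := 3) h (by omega)
    refine ⟨(CfsgLib.MinIdx.Un.lineStab (q := q) x).map π, ?_⟩
    rw [Subgroup.index_map_eq _ hπ (by
      rw [QuotientGroup.ker_mk']; exact CfsgLib.MinIdx.Un.center_le_lineStab hcard (by omega) hx0)]
    refine Nat.eq_of_mul_eq_mul_right (Nat.sub_pos_of_lt (Nat.one_lt_pow two_ne_zero (by omega : 1 < q))) ?_
    rw [CfsgLib.MinIdx.Un.index_lineStab hcard h (m := 1) le_rfl hx0 hxx, CfsgLib.MinIdx.Un.iso_three hcard h]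

end Cfsg.Agent.S2148
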