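import Cfsg.Statements.S2150
import Cfsg.Agent.Lib.MinIdx.Un4Main
-- import your own Cfsg.Agent.* helpers here

set_option autoImplicit false
open Cfsg

namespace Cfsg.Agent.S2150

/-- Minimal index of a proper subgroup of the four-dimensional unitary groups: for a field F with q² elements, every proper subgroup of PSU₄(q) has index at least (q + 1)(q³ + 1), and that index is attained. -/
theorem result {F : Type*} [Field F] [Fintype F] (q : ℕ) (hF : Fintype.card F = q ^ 2) (hq : 2 ≤ q) : (∀ H : Subgroup (Cfsg.PSU 4 F q), H ≠ ⊤ → (q + 1) * (q ^ 3 + 1) ≤ H.index) ∧ (∃ H : Subgroup (Cfsg.PSU 4 F q), H.index = (q + 1) * (q ^ 3 + 1)) := by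
  classical
  have hcard : Nat.card F = q ^ 2 := by rw [Nat.card_eq_fintype_card, hF]
  obtain ⟨σ, h⟩ := CfsgLib.Classical.Unitary.exists_uFrob hcard
  let π := QuotientGroup.mk' (Subgroup.center (Cfsg.SU (2 + 2) F q))
  have hπ : Function.Surjective π := QuotientGroup.mk'_surjective _
  refine ⟨fun H hH => ?_, ?_⟩
  · have hne : H.comap π ≠ ⊤ := fun h' => hH (Subgroup.comap_injective hπ (h'.trans (Subgroup.comap_top π).symm))
    have h1 := CfsgLib.MinIdx.Un.su4_bound hcard h (H.comap π) hne
    rwa [Subgroup.index_comap_of_surjective H hπ] at h1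
  · obtain ⟨L, hL, hLi, hLc⟩ := CfsgLib.MinIdx.Un.exists_line_stab hcard h
    refine ⟨L.map π, ?_⟩
    rw [Subgroup.index_map_eq _ hπ (by rw [QuotientGroup.ker_mk']; exact hLc)]
    exact le_antisymm hLi (CfsgLib.MinIdx.Un.su4_bound hcard h L hL)

end Cfsg.Agent.S2150
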