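import Cfsg.Statements.S2151
import Cfsg.Agent.Lib.MinIdx.UnOdd
-- import your own Cfsg.Agent.* helpers here

set_option autoImplicit false
open Cfsg

namespace Cfsg.Agent.S2151

/-- Minimal index of a proper subgroup of the unitary groups of odd dimension n ≥ 5: for a field F with q² elements, every proper subgroup of PSU_n(q) has index at least (q^n + 1)(q^(n−1) − 1)/(q² − 1), and that index is attained. -/
theorem result {F : Type*} [Field F] [Fintype F] (q : ℕ) (hF : Fintype.card F = q ^ 2) (hq : 2 ≤ q) (n : ℕ) (hn : 5 ≤ n) (hodd : Odd n) : (∀ H : Subgroup (Cfsg.PSU n F q), H ≠ ⊤ → (q ^ n + 1) * (q ^ (n - 1) - 1) / (q ^ 2 - 1) ≤ H.index) ∧ (∃ H : Subgroup (Cfsg.PSU n F q), H.index = (q ^ n + 1) * (q ^ (n - 1) - 1) / (q ^ 2 - 1)) := by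
  classical
  have hcard : Nat.card F = q ^ 2 := by rw [Nat.card_eq_fintype_card, hF]
  obtain ⟨σ, h⟩ := CfsgLib.Classical.Unitary.exists_uFrob hcard
  obtain ⟨j, rfl⟩ : ∃ j, n = 2 * j + 3 + 2 := by
    obtain ⟨r, hr⟩ := hodd
    exact ⟨r - 2, by omega⟩
  have hiso : (q ^ (2 * j + 3 + 2) + 1) * (q ^ (2 * j + 3 + 2 - 1) - 1) =
      CfsgLib.MinIdx.Un.iso σ (2 * j + 3 + 2) := by
    rw [show 2 * j + 3 + 2 - 1 = 2 * j + 4 by omega]
    zify [Nat.one_le_pow (2 * j + 4) q (by omega)]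
    refine mul_left_cancel₀ (show (q : ℤ) ≠ 0 by positivity) ?_
    rw [CfsgLib.MinIdx.Un.iso_odd hcard h (m := 2 * j + 3 + 2) hodd]
    ring
  rw [hiso]
  have hd : 0 < q ^ 2 - 1 := Nat.sub_pos_of_lt (Nat.one_lt_pow (by norm_num) (by omega))
  let π := QuotientGroup.mk' (Subgroup.center (Cfsg.SU (2 * j + 3 + 2) F q))
  have hπ : Function.Surjective π := QuotientGroup.mk'_surjective _
  refine ⟨fun H hH => ?_, ?_⟩
  · have hne : H.comap π ≠ ⊤ := fun h' => hH (Subgroup.comap_injective hπ (h'.trans (Subgroup.comap_top π).symm))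
    have h1 := CfsgLib.MinIdx.Un.su_odd_bound hcard h j (H.comap π) hne
    rw [Subgroup.index_comap_of_surjective H hπ] at h1
    calc _ / (q ^ 2 - 1) ≤ H.index * (q ^ 2 - 1) / (q ^ 2 - 1) := Nat.div_le_div_right h1
      _ = H.index := Nat.mul_div_cancel _ hd
  · obtain ⟨x, hx0, hxx⟩ := CfsgLib.MinIdx.Un.exists_iso_vector (m := 2 * j + 3 + 2) h (by omega)
    refine ⟨(CfsgLib.MinIdx.Un.lineStab (q := q) x).map π, ?_⟩
    rw [Subgroup.index_map_eq _ hπ (by
      rw [QuotientGroup.ker_mk']; exact CfsgLib.MinIdx.Un.center_le_lineStab hcard (by omega) hx0),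
      ← CfsgLib.MinIdx.Un.index_lineStab hcard h (m := 2 * j + 3) (by omega) hx0 hxx, Nat.mul_div_cancel _ hd]

end Cfsg.Agent.S2151
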