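import Cfsg.Statements.S2153
import Cfsg.Agent.Lib.MinIdx.UnTwoMain
-- import your own Cfsg.Agent.* helpers here

set_option autoImplicit false
open Cfsg

namespace Cfsg.Agent.S2153

/-- Minimal index of a proper subgroup of the unitary groups PSU_n(2) with n divisible by 6, realised over the field with 4 elements: every proper subgroup has index at least 2^(n−1)(2^n − 1)/3, and that index is attained. -/
theorem result {F : Type*} [Field F] [Fintype F] (hF : Fintype.card F = 4) (n : ℕ) (hn : 6 ∣ n) (hpos : 6 ≤ n) : (∀ H : Subgroup (Cfsg.PSU n F 2), H ≠ ⊤ → 2 ^ (n - 1) * (2 ^ n - 1) / 3 ≤ H.index) ∧ (∃ H : Subgroup (Cfsg.PSU n F 2), H.index = 2 ^ (n - 1) * (2 ^ n - 1) / 3) := by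
  classical
  have hcard : Nat.card F = 2 ^ 2 := by rw [Nat.card_eq_fintype_card, hF]; norm_num
  obtain ⟨σ, h⟩ := CfsgLib.Classical.Unitary.exists_uFrob hcard
  obtain ⟨j, rfl⟩ : ∃ j, n = 2 * j + 2 + 2 + 2 := by
    obtain ⟨r, hr⟩ := hn
    exact ⟨3 * r - 3, by omega⟩
  have hu : 2 ^ (2 * j + 2 + 2 + 2 - 1) * (2 ^ (2 * j + 2 + 2 + 2) - 1) =
      CfsgLib.MinIdx.Un.units σ (2 * j + 2 + 2 + 2) := by
    rw [CfsgLib.MinIdx.Un.units_nat hcard h (k := 2 * j + 2 + 2) ⟨j + 2, by omega⟩,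
      show 2 * j + 2 + 2 + 2 - 1 = 2 * j + 2 + 2 + 1 by omega]
  rw [hu]
  let π := QuotientGroup.mk' (Subgroup.center (Cfsg.SU (2 * j + 2 + 2 + 2) F 2))
  have hπ : Function.Surjective π := QuotientGroup.mk'_surjective _
  refine ⟨fun H hH => ?_, ?_⟩
  · have hne : H.comap π ≠ ⊤ := fun h' => hH (Subgroup.comap_injective hπ (h'.trans (Subgroup.comap_top π).symm))
    have h1 := CfsgLib.MinIdx.Un.two_bound hcard h j (H.comap π) hne
    rw [Subgroup.index_comap_of_surjective H hπ] at h1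
    omega
  · let v : Fin (2 * j + 2 + 2 + 2) → F := Pi.single 0 1
    have hv : CfsgLib.Classical.Unitary.uh σ v v = 1 := CfsgLib.Classical.Unitary.uh_single_self h _
    have hv0 : v ≠ 0 := fun h0 => by simpa [v] using congrFun h0 0
    refine ⟨(CfsgLib.MinIdx.Un.lineStab (q := 2) v).map π, ?_⟩
    rw [Subgroup.index_map_eq _ hπ (by
      rw [QuotientGroup.ker_mk']; exact CfsgLib.MinIdx.Un.center_le_lineStab hcard (by omega) hv0),
      ← CfsgLib.MinIdx.Un.index_lineStab_unit hcard h hv, Nat.mul_div_cancel _ (by norm_num)]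


end Cfsg.Agent.S2153
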