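import Cfsg.Statements.S2162
import Cfsg.Agent.Lib.LinearGroups.SquareZero

set_option autoImplicit false
open Cfsg

namespace Cfsg.Agent.S2162

/-- Conjugacy of involutions in the special linear group over a finite field of characteristic two, in dimension at least 3: two elements of order 2 of SL_n(F) are conjugate in SL_n(F) exactly when the matrices a − 1 and b − 1 have the same rank (the rank of a − 1 is the dimension of the commutator space [V, a]). -/
theorem result {F : Type*} [Field F] [Fintype F] [CharP F 2] {n : ℕ} (hn : 3 ≤ n) (a b : Matrix.SpecialLinearGroup (Fin n) F) (ha : orderOf a = 2) (hb : orderOf b = 2) :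
    IsConj a b ↔ ((a : Matrix (Fin n) (Fin n) F) - 1).rank = ((b : Matrix (Fin n) (Fin n) F) - 1).rank := by
  classical
  constructor
  · intro h
    obtain ⟨c, rfl⟩ := isConj_iff.1 h
    rw [show ((c * a * c⁻¹ : Matrix.SpecialLinearGroup (Fin n) F) : Matrix (Fin n) (Fin n) F) - 1 =
        (c : Matrix (Fin n) (Fin n) F) * ((a : Matrix (Fin n) (Fin n) F) - 1) *
          ((c⁻¹ : Matrix.SpecialLinearGroup (Fin n) F) : Matrix (Fin n) (Fin n) F) by
      rw [mul_sub, sub_mul, mul_one, ← Matrix.SpecialLinearGroup.coe_mul c c⁻¹, mul_inv_cancel,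
        Matrix.SpecialLinearGroup.coe_mul, Matrix.SpecialLinearGroup.coe_mul,
        Matrix.SpecialLinearGroup.coe_one]]
    rw [Matrix.rank_mul_eq_left_of_isUnit_det _ _ (by rw [Matrix.SpecialLinearGroup.det_coe]; exact isUnit_one),
      Matrix.rank_mul_eq_right_of_isUnit_det _ _ (by rw [Matrix.SpecialLinearGroup.det_coe]; exact isUnit_one)]
  · intro hr
    have hsz : ∀ x : Matrix.SpecialLinearGroup (Fin n) F, orderOf x = 2 →
        Matrix.toLin' ((x : Matrix (Fin n) (Fin n) F) - 1) ∘ₗ
          Matrix.toLin' ((x : Matrix (Fin n) (Fin n) F) - 1) = 0 := by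
      intro x hx
      have h2 : x * x = 1 := by rw [← pow_two, ← hx]; exact pow_orderOf_eq_one x
      have h2' : (x : Matrix (Fin n) (Fin n) F) * (x : Matrix (Fin n) (Fin n) F) = 1 := by
        rw [← Matrix.SpecialLinearGroup.coe_mul, h2, Matrix.SpecialLinearGroup.coe_one]
      rw [← Matrix.toLin'_mul, sub_mul, mul_sub, h2', one_mul, mul_one]
      have h2F : (2 : F) = 0 := CharTwo.two_eq_zero
      rw [show (1 : Matrix (Fin n) (Fin n) F) - (x : Matrix (Fin n) (Fin n) F) -
          ((x : Matrix (Fin n) (Fin n) F) - 1) = (2 : F) • (1 - (x : Matrix (Fin n) (Fin n) F)) by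
        rw [two_smul]; abel, h2F, zero_smul, map_zero]
    have ha0 : Module.finrank F (LinearMap.range (Matrix.toLin' ((a : Matrix (Fin n) (Fin n) F) - 1))) ≠ 0 := by
      intro h0
      rw [Submodule.finrank_eq_zero, LinearMap.range_eq_bot,
        LinearEquiv.map_eq_zero_iff, sub_eq_zero] at h0
      have : a = 1 := Subtype.ext h0
      rw [this, orderOf_one] at ha
      exact absurd ha (by norm_num)
    rw [Matrix.rank, Matrix.rank, ← Matrix.toLin'_apply', ← Matrix.toLin'_apply'] at hr
    obtain ⟨g, hg, hgN⟩ := CfsgLib.LinearGroups.exists_similar_det_one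
      (fun c => isSquare_of_charTwo' c) _ _ (hsz a ha) (hsz b hb) hr ha0
    obtain ⟨c, hc⟩ : ∃ c : Matrix.SpecialLinearGroup (Fin n) F,
        (c : Matrix (Fin n) (Fin n) F) = LinearMap.toMatrix' (g : (Fin n → F) →ₗ[F] (Fin n → F)) :=
      ⟨⟨_, by rw [LinearMap.det_toMatrix', hg]⟩, rfl⟩
    refine isConj_iff.2 ⟨c, ?_⟩
    rw [mul_inv_eq_iff_eq_mul]
    apply Subtype.ext
    apply Matrix.toLin'.injective
    rw [Matrix.SpecialLinearGroup.coe_mul, Matrix.SpecialLinearGroup.coe_mul, Matrix.toLin'_mul,
      Matrix.toLin'_mul, hc, Matrix.toLin'_toMatrix']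
    refine LinearMap.ext fun v => ?_
    have h := hgN v
    simp only [map_sub, Matrix.toLin'_one, LinearMap.sub_apply, LinearMap.id_coe, id_eq] at h
    simpa using h

end Cfsg.Agent.S2162
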