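import Cfsg.Statements.S2163


set_option autoImplicit false
open Cfsg

namespace Cfsg.Agent.S2163

/-- Over a finite field of characteristic two and for n ≥ 3: for every ℓ with 1 ≤ ℓ and 2ℓ ≤ n, the matrix j_ℓ that is the identity plus the entries 1 in positions (n − ℓ + i, i) for i < ℓ (an identity block of size ℓ in the lower left corner) lies in SL_n(F), has order 2, and j_ℓ − 1 has rank ℓ. Together with the conjugacy criterion by rank, these matrices represent the conjugacy classes of involutions of SL_n(F). -/
theorem result {F : Type*} [Field F] [Fintype F] [CharP F 2] {n : ℕ} (hn : 3 ≤ n) (ℓ : ℕ) (h1 : 1 ≤ ℓ) (h2 : 2 * ℓ ≤ n) :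
    ∃ a : Matrix.SpecialLinearGroup (Fin n) F, (a : Matrix (Fin n) (Fin n) F) = 1 + Matrix.of (fun i j : Fin n => if j.val < ℓ ∧ i.val = j.val + (n - ℓ) then (1 : F) else 0) ∧ orderOf a = 2 ∧ ((a : Matrix (Fin n) (Fin n) F) - 1).rank = ℓ := by
  classical
  let E : Matrix (Fin n) (Fin n) F :=
    Matrix.of (fun i j : Fin n => if j.val < ℓ ∧ i.val = j.val + (n - ℓ) then (1 : F) else 0)
  have hlow : ∀ i j : Fin n, i ≤ j → E i j = 0 := by
    intro i j hij
    exact if_neg fun h => by have : i.val ≤ j.val := hij; omega
  have hEE : E * E = 0 := by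
    ext i j
    rw [Matrix.mul_apply, Matrix.zero_apply]
    refine Finset.sum_eq_zero fun k _ => ?_
    simp only [E, Matrix.of_apply]
    split_ifs with h h' <;> simp
    omega
  have hdet : (1 + E).det = 1 := by
    rw [Matrix.det_of_isLowerTriangular]
    · exact Finset.prod_eq_one fun i _ => by simp [hlow i i le_rfl]
    · intro i j (hij : i < j)
      simp [hlow i j hij.le, hij.ne]
  let a : Matrix.SpecialLinearGroup (Fin n) F := ⟨1 + E, hdet⟩
  have hrank : E.rank = ℓ := by
    apply le_antisymm
    · have hmul : E = (Matrix.of fun (i : Fin n) (k : Fin ℓ) => if i.val = k.val + (n - ℓ) then (1 : F) else 0) *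
          (Matrix.of fun (k : Fin ℓ) (j : Fin n) => if j.val = k.val then (1 : F) else 0) := by
        ext i j
        simp only [E, Matrix.mul_apply, Matrix.of_apply, mul_ite, mul_one, mul_zero]
        by_cases hj : j.val < ℓ
        · rw [Finset.sum_eq_single (⟨j.val, hj⟩ : Fin ℓ)
            (fun b _ hb => if_neg fun e => hb (Fin.ext e.symm)) (by simp)]
          simp [hj]
        · rw [if_neg fun h => hj h.1, Finset.sum_eq_zero fun b _ => if_neg (by have := b.2; omega)]
      rw [hmul]
      exact (Matrix.rank_mul_le_left _ _).trans ((Matrix.rank_le_card_width _).trans (by simp))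
    · have hsub : E.submatrix (fun k : Fin ℓ => (⟨k.val + (n - ℓ), by omega⟩ : Fin n))
          (fun k : Fin ℓ => (⟨k.val, by omega⟩ : Fin n)) = 1 := by
        ext i j
        simp [E, Matrix.one_apply, Fin.ext_iff]
      have := Matrix.rank_submatrix_le E (fun k : Fin ℓ => (⟨k.val + (n - ℓ), by omega⟩ : Fin n))
        (fun k : Fin ℓ => (⟨k.val, by omega⟩ : Fin n))
      rw [hsub, Matrix.rank_one, Fintype.card_fin] at this
      exact this
  refine ⟨a, rfl, ?_, ?_⟩
  · apply orderOf_eq_prime
    · apply Subtype.ext
      rw [sq, Matrix.SpecialLinearGroup.coe_mul, Matrix.SpecialLinearGroup.coe_one]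
      show (1 + E) * (1 + E) = 1
      rw [add_mul, mul_add, mul_add, hEE]
      simp
      ext i j
      simp [add_assoc, CharTwo.add_self_eq_zero]
    · intro h
      have h' : 1 + E = 1 := congrArg Subtype.val h
      have : E = 0 := by simpa using h'
      rw [this, Matrix.rank_zero] at hrank
      omega
  · show (1 + E - 1).rank = ℓ
    rw [add_sub_cancel_left, hrank]

end Cfsg.Agent.S2163
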