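import Cfsg.Statements.S2166
import Cfsg.Agent.Lib.InvolTwo.SpMatrix

set_option autoImplicit false
open Cfsg

namespace Cfsg.Agent.S2166

/-- Conjugacy of involutions in the symplectic group Sp_{2m}(F), F a finite field of characteristic two, m ≥ 2 (Sp taken as the matrices A with A J Aᵀ = J, acting on column vectors, with the alternating form f(u, v) = u ⬝ (J v)). For an involution t write V(t) for the set of vectors v with f(v, t v) = 0 (a subspace). Two involutions a, b are conjugate in Sp_{2m}(F) exactly when a − 1 and b − 1 have the same rank and, in case that rank is even, V(a) and V(b) have the same number of elements. -/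
theorem result {F : Type*} [Field F] [Fintype F] [CharP F 2] {m : ℕ} (hm : 2 ≤ m) (a b : ↥(Matrix.symplecticGroup (Fin m) F)) (ha : orderOf a = 2) (hb : orderOf b = 2) :
    IsConj a b ↔ ((((a : ↥(Matrix.symplecticGroup (Fin m) F)) : Matrix (Fin m ⊕ Fin m) (Fin m ⊕ Fin m) F) - 1).rank = (((b : ↥(Matrix.symplecticGroup (Fin m) F)) : Matrix (Fin m ⊕ Fin m) (Fin m ⊕ Fin m) F) - 1).rank ∧
      (Even (((a : ↥(Matrix.symplecticGroup (Fin m) F)) : Matrix (Fin m ⊕ Fin m) (Fin m ⊕ Fin m) F) - 1).rank → Nat.card {v : Fin m ⊕ Fin m → F // Cfsg.sympForm m F v (Matrix.mulVec ((a : ↥(Matrix.symplecticGroup (Fin m) F)) : Matrix (Fin m ⊕ Fin m) (Fin m ⊕ Fin m) F) v) = 0} = Nat.card {v : Fin m ⊕ Fin m → F // Cfsg.sympForm m F v (Matrix.mulVec ((b : ↥(Matrix.symplecticGroup (Fin m) F)) : Matrix (Fin m ⊕ Fin m) (Fin m ⊕ Fin m) F) v) = 0})) := by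
  refine ⟨fun h => ?_, fun ⟨hr, hc⟩ => ?_⟩
  · obtain ⟨h1, h2, -⟩ := CfsgLib.InvolTwo.SpMatrix.conj_invariants h
    exact ⟨h1, fun _ => h2⟩
  · have hA := CfsgLib.InvolTwo.sq_eq_one_of_orderOf ha
    have hB := CfsgLib.InvolTwo.sq_eq_one_of_orderOf hb
    have key : ∀ {x y : ↥(Matrix.symplecticGroup (Fin m) F)},
        CfsgLib.InvolTwo.SpMatrix.IsAltType x →
        Nat.card {v : Fin m ⊕ Fin m → F // Cfsg.sympForm m F v (Matrix.mulVec (x : Matrix _ _ F) v) = 0} =
        Nat.card {v : Fin m ⊕ Fin m → F // Cfsg.sympForm m F v (Matrix.mulVec (y : Matrix _ _ F) v) = 0} →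
        CfsgLib.InvolTwo.SpMatrix.IsAltType y := by
      intro x y hx hxy v
      rw [Nat.card_congr (Equiv.subtypeUnivEquiv hx)] at hxy
      classical
      by_contra hv
      have : Nat.card {v : Fin m ⊕ Fin m → F //
          Cfsg.sympForm m F v (Matrix.mulVec (y : Matrix _ _ F) v) = 0} < Nat.card (Fin m ⊕ Fin m → F) := by
        rw [Nat.card_eq_fintype_card, Nat.card_eq_fintype_card]
        exact Fintype.card_subtype_lt hv
      omega
    refine CfsgLib.InvolTwo.SpMatrix.conj_of_type hA hB hr ⟨fun h => ?_, fun h => ?_⟩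
    · exact key h (hc (CfsgLib.InvolTwo.SpMatrix.even_rank hA h))
    · exact key h (hc (hr ▸ CfsgLib.InvolTwo.SpMatrix.even_rank hB h)).symm

end Cfsg.Agent.S2166
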