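import Cfsg.Statements.S2167
import Cfsg.Agent.Lib.KnownA.AltRank

set_option autoImplicit false
open Cfsg

namespace Cfsg.Agent.S2167

/-- For an involution t of the symplectic group Sp_{2m}(F), m ≥ 2, F a finite field of characteristic two (matrices A with A J Aᵀ = J acting on column vectors, alternating form f(u, v) = u ⬝ (J v)): the set V(t) of vectors v with f(v, t v) = 0 has either q^{2m} or q^{2m−1} elements, q the order of F (it is a subspace of codimension at most 1), and if it is the whole space then t − 1 has even rank. -/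
theorem result {F : Type*} [Field F] [Fintype F] [CharP F 2] {m : ℕ} (hm : 2 ≤ m) (a : ↥(Matrix.symplecticGroup (Fin m) F)) (ha : orderOf a = 2) :
    (Nat.card {v : Fin m ⊕ Fin m → F // Cfsg.sympForm m F v (Matrix.mulVec ((a : ↥(Matrix.symplecticGroup (Fin m) F)) : Matrix (Fin m ⊕ Fin m) (Fin m ⊕ Fin m) F) v) = 0} = Fintype.card F ^ (2 * m) ∨ Nat.card {v : Fin m ⊕ Fin m → F // Cfsg.sympForm m F v (Matrix.mulVec ((a : ↥(Matrix.symplecticGroup (Fin m) F)) : Matrix (Fin m ⊕ Fin m) (Fin m ⊕ Fin m) F) v) = 0} * Fintype.card F = Fintype.card F ^ (2 * m)) ∧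
    ((∀ v : Fin m ⊕ Fin m → F, Cfsg.sympForm m F v (Matrix.mulVec ((a : ↥(Matrix.symplecticGroup (Fin m) F)) : Matrix (Fin m ⊕ Fin m) (Fin m ⊕ Fin m) F) v) = 0) → Even (((a : ↥(Matrix.symplecticGroup (Fin m) F)) : Matrix (Fin m ⊕ Fin m) (Fin m ⊕ Fin m) F) - 1).rank) := by
  classical
  set A : Matrix (Fin m ⊕ Fin m) (Fin m ⊕ Fin m) F :=
    ((a : ↥(Matrix.symplecticGroup (Fin m) F)) : Matrix (Fin m ⊕ Fin m) (Fin m ⊕ Fin m) F)
  have hAA : A * A = 1 := by
    have := pow_orderOf_eq_one a
    rw [ha, sq] at this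
    exact congrArg Subtype.val this
  have hAJ : A.transpose * Matrix.J (Fin m) F * A = Matrix.J (Fin m) F :=
    SymplecticGroup.mem_iff'.1 a.2
  have hJT : (Matrix.J (Fin m) F).transpose = Matrix.J (Fin m) F := by
    rw [Matrix.J_transpose]; ext i j; simp [CharTwo.neg_eq]
  have hsymm : ∀ u v, Cfsg.sympForm m F u v = Cfsg.sympForm m F v u := by
    intro u v
    rw [Cfsg.sympForm, Cfsg.sympForm, Matrix.dotProduct_mulVec, ← Matrix.mulVec_transpose, hJT,
      dotProduct_comm]
  have hinv : ∀ u v, Cfsg.sympForm m F (A.mulVec u) (A.mulVec v) = Cfsg.sympForm m F u v := by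
    intro u v
    rw [Cfsg.sympForm, Cfsg.sympForm, Matrix.mulVec_mulVec, ← Matrix.vecMul_transpose,
      Matrix.dotProduct_mulVec, Matrix.vecMul_vecMul, ← Matrix.mul_assoc, hAJ,
      ← Matrix.dotProduct_mulVec]
  have hadd : ∀ u v w, Cfsg.sympForm m F (u + v) w = Cfsg.sympForm m F u w + Cfsg.sympForm m F v w :=
    fun u v w => add_dotProduct _ _ _
  have hadd' : ∀ u v w, Cfsg.sympForm m F u (v + w) = Cfsg.sympForm m F u v + Cfsg.sympForm m F u w :=
    fun u v w => by rw [Cfsg.sympForm, Matrix.mulVec_add, dotProduct_add]; rfl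
  have hsmul : ∀ (c : F) v, Cfsg.sympForm m F (c • v) (A.mulVec (c • v)) =
      c ^ 2 * Cfsg.sympForm m F v (A.mulVec v) := by
    intro c v
    simp [Cfsg.sympForm, Matrix.mulVec_smul, sq, mul_assoc]
  let φ : (Fin m ⊕ Fin m → F) →+ F := AddMonoidHom.mk' (fun v => Cfsg.sympForm m F v (A.mulVec v))
    (fun u v => by
      have hcross : Cfsg.sympForm m F v (A.mulVec u) = Cfsg.sympForm m F u (A.mulVec v) := by
        rw [← hinv v, Matrix.mulVec_mulVec, hAA, Matrix.one_mulVec, hsymm]
      rw [Matrix.mulVec_add, hadd, hadd', hadd', hcross]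
      linear_combination Cfsg.sympForm m F u (A.mulVec v) * (CharTwo.two_eq_zero (R := F)))
  have hcard : Nat.card (Fin m ⊕ Fin m → F) = Fintype.card F ^ (2 * m) := by
    rw [Nat.card_eq_fintype_card, Fintype.card_fun, Fintype.card_sum, Fintype.card_fin, two_mul]
  refine ⟨?_, fun h0 => ?_⟩
  · by_cases hzero : ∀ v, φ v = 0
    · left
      rw [← hcard]
      exact Nat.card_congr (Equiv.subtypeUnivEquiv hzero)
    · right
      push Not at hzero
      obtain ⟨v, hv⟩ := hzero
      have hsur : Function.Surjective φ := fun r => by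
        obtain ⟨c, hc⟩ := FiniteField.isSquare_of_char_two (ringChar.eq F 2) (r / φ v)
        refine ⟨c • v, ?_⟩
        show Cfsg.sympForm m F (c • v) (A.mulVec (c • v)) = r
        rw [hsmul, sq, ← hc]
        exact div_mul_cancel₀ r hv
      have h := AddSubgroup.card_eq_card_quotient_mul_card_addSubgroup φ.ker
      rw [Nat.card_congr (QuotientAddGroup.quotientKerEquivOfSurjective φ hsur).toEquiv,
        Nat.card_eq_fintype_card (α := F), hcard] at h
      rw [mul_comm]
      exact h.symm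
  · have hJu : IsUnit (Matrix.J (Fin m) F).det := Matrix.isUnit_det_J _ _
    have hM : ∀ v : Fin m ⊕ Fin m → F,
        v ⬝ᵥ (((A - 1).transpose * Matrix.J (Fin m) F).mulVec v) = 0 := by
      intro v
      rw [← Matrix.mulVec_mulVec, Matrix.dotProduct_mulVec, Matrix.vecMul_transpose, Matrix.sub_mulVec,
        Matrix.one_mulVec, sub_dotProduct]
      have hvv : Cfsg.sympForm m F v v = 0 := by
        simp [Cfsg.sympForm, Matrix.J, Matrix.fromBlocks_mulVec, dotProduct, Fintype.sum_sum_type,
          Matrix.neg_mulVec, mul_comm]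
      show Cfsg.sympForm m F (A.mulVec v) v - Cfsg.sympForm m F v v = 0
      rw [hsymm, h0, hvv, sub_zero]
    have := CfsgLib.KnownA.even_rank_of_alternating _ hM
    rwa [Matrix.rank_mul_eq_left_of_isUnit_det _ _ hJu, Matrix.rank_transpose] at this

end Cfsg.Agent.S2167
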