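import Cfsg.Statements.S2177
import Cfsg.Agent.Lib.Chev.G2InvolMain

set_option autoImplicit false
open Cfsg

namespace Cfsg.Agent.S2177

/-- Conjugacy classes of involutions in the Chevalley group of type G₂ over a finite field F of characteristic two with at least four elements (the matrix group generated by the root elements x_r(t)). In this problem's root numbering for type G₂ (the Chevalley data module; p₁ = a short, p₂ = b long; roots indexed by coefficient vectors in increasing order) let 11 be the highest root 3a + 2b (long) and 9 the short root 2a + b; consider x_{3a+2b}(1) and x_{2a+b}(1). Then: each invertible matrix equal to one of these two products lies in the group and has order 2; every element of order 2 of the group is conjugate in the group to one of them; and no two of them are conjugate in the group (so, the two matrices being distinct, the group has exactly two conjugacy classes of involutions).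 -/
theorem result {F : Type*} [Field F] [Fintype F] [CharP F 2] (hF : 4 ≤ Fintype.card F) :
    (∀ y : GL Cfsg.Lie.chevG2.Idx F, ((y : GL Cfsg.Lie.chevG2.Idx F) : Matrix Cfsg.Lie.chevG2.Idx Cfsg.Lie.chevG2.Idx F) ∈ [Cfsg.Lie.chevG2.x F 11 1, Cfsg.Lie.chevG2.x F 9 1] → y ∈ Cfsg.Lie.chevG2.group F ∧ orderOf y = 2) ∧
    (∀ g ∈ Cfsg.Lie.chevG2.group F, orderOf g = 2 → ∃ y ∈ Cfsg.Lie.chevG2.group F, ((y : GL Cfsg.Lie.chevG2.Idx F) : Matrix Cfsg.Lie.chevG2.Idx Cfsg.Lie.chevG2.Idx F) ∈ [Cfsg.Lie.chevG2.x F 11 1, Cfsg.Lie.chevG2.x F 9 1] ∧ ∃ h ∈ Cfsg.Lie.chevG2.group F, h * g * h⁻¹ = y) ∧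
    (∀ y₁ ∈ Cfsg.Lie.chevG2.group F, ∀ y₂ ∈ Cfsg.Lie.chevG2.group F, ((y₁ : GL Cfsg.Lie.chevG2.Idx F) : Matrix Cfsg.Lie.chevG2.Idx Cfsg.Lie.chevG2.Idx F) ∈ [Cfsg.Lie.chevG2.x F 11 1, Cfsg.Lie.chevG2.x F 9 1] → ((y₂ : GL Cfsg.Lie.chevG2.Idx F) : Matrix Cfsg.Lie.chevG2.Idx Cfsg.Lie.chevG2.Idx F) ∈ [Cfsg.Lie.chevG2.x F 11 1, Cfsg.Lie.chevG2.x F 9 1] →
      (∃ h ∈ Cfsg.Lie.chevG2.group F, h * y₁ * h⁻¹ = y₂) → ((y₁ : GL Cfsg.Lie.chevG2.Idx F) : Matrix Cfsg.Lie.chevG2.Idx Cfsg.Lie.chevG2.Idx F) = ((y₂ : GL Cfsg.Lie.chevG2.Idx F) : Matrix Cfsg.Lie.chevG2.Idx Cfsg.Lie.chevG2.Idx F)) := by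
  have g := CfsgLib.Chev.stdG2.good
  have hmem : ∀ y : GL Cfsg.Lie.chevG2.Idx F, (y : Matrix Cfsg.Lie.chevG2.Idx Cfsg.Lie.chevG2.Idx F) ∈
      [Cfsg.Lie.chevG2.x F 11 1, Cfsg.Lie.chevG2.x F 9 1] →
      y = CfsgLib.Chev.G2Invol.X 11 1 ∨ y = CfsgLib.Chev.G2Invol.X 9 1 := by
    intro y hy
    simp only [List.mem_cons, List.not_mem_nil, or_false] at hy
    exact hy.imp (CfsgLib.Chev.eq_xG_iff g).1 (CfsgLib.Chev.eq_xG_iff g).1
  refine ⟨?_, ?_, ?_⟩
  · intro y hy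
    have key : ∀ r : ℕ, r < Cfsg.Lie.chevG2.nroots → y = CfsgLib.Chev.G2Invol.X r 1 →
        y ∈ Cfsg.Lie.chevG2.group F ∧ orderOf y = 2 := by
      rintro r hr rfl
      refine ⟨CfsgLib.Chev.xG_mem_group g r 1, orderOf_eq_prime ?_ ?_⟩
      · rw [pow_two, CfsgLib.Chev.G2Invol.mm, CharTwo.add_self_eq_zero, CfsgLib.Chev.G2Invol.X_zero]
      · intro h
        exact one_ne_zero (CfsgLib.KnownB.ChevField.xG_inj (F := F) CfsgLib.Chev.stdG2 hr
          (h.trans (CfsgLib.Chev.G2Invol.X_zero r).symm))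
    rcases hmem y hy with h | h
    · exact key 11 (by decide) h
    · exact key 9 (by decide) h
  · intro x hx h2
    rcases CfsgLib.Chev.G2Invol.exists_class hx h2 with h | h
    · exact ⟨_, CfsgLib.Chev.xG_mem_group g 11 1, by simp, h⟩
    · exact ⟨_, CfsgLib.Chev.xG_mem_group g 9 1, by simp, h⟩
  · intro y₁ _ y₂ _ h1 h2 hc
    rcases hmem y₁ h1 with rfl | rfl <;> rcases hmem y₂ h2 with rfl | rfl
    · rfl
    · exact absurd hc CfsgLib.Chev.G2Invol.not_cj
    · obtain ⟨k, hk, e⟩ := hc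
      exact absurd (⟨k⁻¹, inv_mem hk, by rw [← e]; group⟩ :
        CfsgLib.Chev.G2Invol.Cj _ _) CfsgLib.Chev.G2Invol.not_cj
    · rfl

end Cfsg.Agent.S2177
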