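import Cfsg.Statements.S2181
import Cfsg.Agent.Lib.Chev.SLInvol.Classes
import Cfsg.Agent.Lib.Chev.SLInvol.E7Table
import Cfsg.Agent.Lib.Chev.SLInvol.E7Rank

set_option autoImplicit false
open Cfsg

namespace Cfsg.Agent.S2181

/-- The Chevalley group of type E₇ over a finite field of characteristic two (the matrix group generated by the root elements) has exactly five conjugacy classes of elements of order 2. -/
theorem result {F : Type*} [Field F] [Fintype F] [CharP F 2] :
    (ConjClasses.mk '' {g : ↥(Cfsg.Lie.chevE7.group F) | orderOf g = 2}).ncard = 5 := by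
  have hR : CfsgLib.Chev.SLInv.Ranked F CfsgLib.Chev.SLInv.E7.checked.std.good CfsgLib.Chev.SLInv.E7.data [0, 34, 52, 62, 53, 63] := by
    intro k hk
    match k, hk with
    | 0, _ => simp [CfsgLib.Chev.SLInv.E7.data, CfsgLib.Chev.SLInv.P, Matrix.rank_zero]
    | 1, _ => exact CfsgLib.Chev.SLInv.rank_of_cert CfsgLib.Chev.SLInv.E7.checked.std CfsgLib.Chev.SLInv.E7.cert1_ok
    | 2, _ => exact CfsgLib.Chev.SLInv.rank_of_cert CfsgLib.Chev.SLInv.E7.checked.std CfsgLib.Chev.SLInv.E7.cert2_ok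
    | 3, _ => exact CfsgLib.Chev.SLInv.rank_of_cert CfsgLib.Chev.SLInv.E7.checked.std CfsgLib.Chev.SLInv.E7.cert3_ok
    | 4, _ => exact CfsgLib.Chev.SLInv.rank_of_cert CfsgLib.Chev.SLInv.E7.checked.std CfsgLib.Chev.SLInv.E7.cert4_ok
    | 5, _ => exact CfsgLib.Chev.SLInv.rank_of_cert CfsgLib.Chev.SLInv.E7.checked.std CfsgLib.Chev.SLInv.E7.cert5_ok
    | k + 6, hk => exact absurd hk (by simp [CfsgLib.Chev.SLInv.E7.data])
  exact CfsgLib.Chev.SLInv.class_count CfsgLib.Chev.SLInv.E7.checked hR (by decide) rfl (by decide)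

end Cfsg.Agent.S2181
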