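import Cfsg.Statements.S2183
import Cfsg.Agent.Lib.Chev.D43Invol.Main

set_option autoImplicit false
open Cfsg

namespace Cfsg.Agent.S2183

/-- The twisted group ³D₄(q), q even, realised inside the Chevalley group of type D₄ over the field K with q³ elements, has exactly two conjugacy classes of elements of order 2. -/
theorem result {K : Type*} [Field K] [Fintype K] [CharP K 2] (q : ℕ) (hK : Fintype.card K = q ^ 3) :
    (ConjClasses.mk '' {g : ↥(Cfsg.Lie.twistedD4 K q) | orderOf g = 2}).ncard = 2 := by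
  have h2 : 2 ≤ q := CfsgLib.Chev.D43.two_le hK
  obtain ⟨n, -, hn⟩ := FiniteField.card K 2
  obtain ⟨b, hb, hqb⟩ := (Nat.dvd_prime_pow Nat.prime_two).1 (hn ▸ hK ▸ dvd_pow_self q three_ne_zero)
  have hq : IsPrimePow q := ⟨2, b, Nat.prime_two.prime, Nat.pos_of_ne_zero (by rintro rfl; simp [hqb] at h2), hqb.symm⟩
  obtain ⟨σ, hσ⟩ := CfsgLib.Chev.exists_powHom hq three_ne_zero hK
  rw [CfsgLib.Chev.D43.twisted_eq_fix hσ hK]
  exact CfsgLib.Chev.D43Invol.class_count hσ hK

end Cfsg.Agent.S2183
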