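import Cfsg.Statements.S2216
import Cfsg.Agent.Lib.Spor.NineClasses.Main

set_option autoImplicit false
open Cfsg

namespace Cfsg.Agent.S2216

/-- A non-abelian finite simple group with exactly nine conjugacy classes is isomorphic to PSL(2, 8), PSL(2, 13) or the alternating group of degree 7. -/
theorem result {G : Type*} [Group G] [Finite G] [IsSimpleGroup G] (hG : ¬ IsMulCommutative G)
    (h : Nat.card (ConjClasses G) = 9) :
    (∃ (F : Type) (_ : Field F) (_ : Fintype F), Fintype.card F = 8 ∧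
        Nonempty (G ≃* Matrix.ProjectiveSpecialLinearGroup (Fin 2) F)) ∨
      Nonempty (G ≃* Matrix.ProjectiveSpecialLinearGroup (Fin 2) (ZMod 13)) ∨
      Nonempty (G ≃* ↥(alternatingGroup (Fin 7))) := by
  haveI : Fact (Nat.Prime 13) := ⟨by norm_num⟩
  haveI : Fact (Nat.Prime 2) := ⟨Nat.prime_two⟩
  have hsmall : (Nat.card G = 60 ∨ Nat.card G = 168 ∨ Nat.card G = 360) → False := fun hc => by
    have := CfsgLib.Spor.NineClasses.card_classes_le_seven (G := G) hc
    omega
  by_cases hw : ∃ w : G, CfsgLib.Spor.NineClasses.cord w ≤ 4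
  · obtain ⟨w, hw⟩ := hw
    rcases Cfsg.Agent.S3280.result (CfsgLib.Small.not_isCyclic_of_not_comm hG) w hw with
      ⟨⟨e⟩⟩ | ⟨⟨e⟩⟩ | he | ⟨F, hF₁, hF₂, hF, ⟨e⟩⟩
    · refine (hsmall (Or.inl ?_)).elim
      rw [Nat.card_congr e.toEquiv, nat_card_alternatingGroup, Nat.card_fin]
      norm_num [Nat.factorial]
    · refine (hsmall (Or.inr (Or.inr ?_))).elim
      rw [Nat.card_congr e.toEquiv, nat_card_alternatingGroup, Nat.card_fin]
      norm_num [Nat.factorial]
    · exact Or.inr (Or.inr he)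
    · refine (hsmall (Or.inr (Or.inl ?_))).elim
      rw [Nat.card_congr e.toEquiv, CfsgLib.Recog.TwoR.Cons.card_psl_seven hF]
  push Not at hw
  rcases CfsgLib.Spor.NineClasses.card_cases hG h hw with hc | hc | hc
  · letI instF : Fintype (GaloisField 2 3) := Fintype.ofFinite _
    have hF : Fintype.card (GaloisField 2 3) = 8 := by
      rw [Fintype.card_eq_nat_card, GaloisField.card 2 3 (by norm_num)]
      rfl
    exact Or.inl ⟨GaloisField 2 3, inferInstance, instF, hF,
      Cfsg.Agent.S1011.result hc hF⟩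
  · exact Or.inr (Or.inl (Cfsg.Agent.S0498.result 13 (Or.inr rfl) (by rw [hc]; norm_num) (ZMod.card 13)))
  · exact Or.inr (Or.inr (Cfsg.Agent.S0984.result hc))

end Cfsg.Agent.S2216
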