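import Cfsg.Statements.S2219
import Cfsg.Agent.S1011
import Cfsg.Agent.S1020
import Cfsg.Agent.Lib.CharsMore.NinePrimes.Reduction

set_option autoImplicit false
open Cfsg CfsgLib CfsgLib.CharsMore

namespace Cfsg.Agent.S2219

/-- Let G be a non-abelian finite simple group of order 9·2ᵃ·qᵇ for a prime q other than 2 and 3, having at least three conjugacy classes of nonidentity 3-elements (elements of order 3 or 9). Then G is isomorphic to PSL(2,8) or to PSL(2,17). -/
theorem result {G : Type*} [Group G] [Finite G] [IsSimpleGroup G] (hG : ¬ IsMulCommutative G)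
    (q a b : ℕ) (hq : q.Prime) (hq2 : q ≠ 2) (hq3 : q ≠ 3) (hcard : Nat.card G = 9 * 2 ^ a * q ^ b)
    (h3 : 3 ≤ Nat.card {C : ConjClasses G // ∃ g ∈ C.carrier, g ≠ 1 ∧ orderOf g ∣ 9}) :
    (∃ (F : Type) (_ : Field F) (_ : Fintype F), Fintype.card F = 8 ∧
        Nonempty (G ≃* Matrix.ProjectiveSpecialLinearGroup (Fin 2) F)) ∨
      Nonempty (G ≃* Matrix.ProjectiveSpecialLinearGroup (Fin 2) (ZMod 17)) := by
  haveI := Fact.mk Nat.prime_three
  haveI := Fintype.ofFinite G
  obtain ⟨R⟩ := (inferInstance : Nonempty (Sylow 3 G))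
  have hR : Nat.card (R : Subgroup G) = 3 ^ 2 := by
    rw [R.card_eq_multiplicity, hcard, Nat.factorization_mul (by positivity) (pow_ne_zero _ hq.ne_zero),
      Nat.factorization_mul (by norm_num) (by positivity), Nat.prime_two.factorization_pow,
      hq.factorization_pow, show (9 : ℕ) = 3 ^ 2 from rfl, Nat.prime_three.factorization_pow]
    simp [hq3]
  have hab : ∀ x ∈ (R : Subgroup G), ∀ y ∈ (R : Subgroup G), x * y = y * x := fun x hx y hy =>
    congrArg Subtype.val (IsPGroup.commutative_of_card_eq_prime_sq hR ⟨x, hx⟩ ⟨y, hy⟩)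
  rcases NinePrimes.inverted_or_fourGroup hab hG hR h3 with H | ⟨u, v, gu, gv, H⟩
  · rcases NinePrimes.card_of_inverted hG hq hq2 hq3 hcard H with h | h
    · haveI := Fintype.ofFinite (GaloisField 2 3)
      refine Or.inl ⟨GaloisField 2 3, inferInstance, inferInstance, ?_, ?_⟩
      · rw [← Nat.card_eq_fintype_card, GaloisField.card 2 3 (by norm_num)]
        norm_num
      · exact Cfsg.Agent.S1011.result h (by
          rw [← Nat.card_eq_fintype_card, GaloisField.card 2 3 (by norm_num)]
          norm_num)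
    · haveI := Fact.mk (show Nat.Prime 17 by norm_num)
      exact Or.inr (Cfsg.Agent.S1020.result h (by simp [ZMod.card]))
  · exact (NinePrimes.four_group_false hG hq hq2 hq3 hcard H).elim

end Cfsg.Agent.S2219
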