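import Cfsg.Statements.S2222
import Cfsg.Agent.Lib.KnownA.SylowAlt

set_option autoImplicit false
open Cfsg

namespace Cfsg.Agent.S2222

/-- In the alternating group of degree n ≥ 5 every subgroup H of odd index is pronormal: for every element g, the subgroups H and gHg⁻¹ are conjugate by an element of the subgroup they generate. -/
theorem result (n : ℕ) (hn : 5 ≤ n)
    (H : Subgroup (alternatingGroup (Fin n))) (hH : Odd H.index) : Cfsg.IsPronormal H := by
  classical
  have : Fact (Nat.Prime 2) := ⟨Nat.prime_two⟩
  intro g
  let f : (alternatingGroup (Fin n)) →* (alternatingGroup (Fin n)) := (MulAut.conj g).toMonoidHom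
  let K := H ⊔ H.map f
  -- a Sylow 2-subgroup S inside H
  obtain ⟨T⟩ : Nonempty (Sylow 2 H) := inferInstance
  have hTS : ∀ U : Subgroup (alternatingGroup (Fin n)), IsPGroup 2 U →
      (T : Subgroup H).map H.subtype ≤ U → U = (T : Subgroup H).map H.subtype := by
    intro U hU hle
    obtain ⟨a, ha⟩ := IsPGroup.iff_card.mp hU
    refine (Subgroup.eq_of_le_of_card_ge hle ?_).symm
    rw [Subgroup.card_map_of_injective (Subgroup.subtype_injective _), T.card_eq_multiplicity, ha]
    refine Nat.pow_le_pow_right two_pos ?_
    have hdvd : 2 ^ a ∣ Nat.card H * H.index := by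
      rw [H.card_mul_index, ← ha]; exact Subgroup.card_subgroup_dvd_card U
    have hco : Nat.Coprime (2 ^ a) H.index :=
      (Nat.coprime_two_left.mpr hH).pow_left _
    exact (Nat.Prime.pow_dvd_iff_le_factorization Nat.prime_two Nat.card_pos.ne').mp
      (hco.dvd_of_dvd_mul_right hdvd)
  let S : Sylow 2 (alternatingGroup (Fin n)) :=
    { toSubgroup := (T : Subgroup H).map H.subtype
      isPGroup' := T.isPGroup'.map _
      is_maximal' := fun hU hle => hTS _ hU hle }
  have hSH : (S : Subgroup (alternatingGroup (Fin n))) ≤ H := Subgroup.map_subtype_le _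
  -- Sylow theorem inside K
  have key : ∃ k ∈ K, k * g ∈ Subgroup.normalizer ((S : Subgroup (alternatingGroup (Fin n))) : Set (alternatingGroup (Fin n))) := by
    have h1 : (S : Subgroup (alternatingGroup (Fin n))) ≤ K := hSH.trans le_sup_left
    have h2 : (g • S : Sylow 2 (alternatingGroup (Fin n))) ≤ K := by
      rw [Sylow.coe_subgroup_smul]
      exact le_trans (Subgroup.map_mono hSH) le_sup_right
    obtain ⟨k, hk⟩ := MulAction.exists_smul_eq K ((g • S).subtype h2) (S.subtype h1)
    refine ⟨k, k.2, ?_⟩
    apply Sylow.smul_eq_iff_mem_normalizer.mp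
    rw [mul_smul]
    rw [Sylow.smul_subtype] at hk
    exact Sylow.subtype_injective hk
  obtain ⟨k, hk, hkg⟩ := key
  have hmap : ∀ a b : alternatingGroup (Fin n), H.map (MulAut.conj (a * b)).toMonoidHom =
      (H.map (MulAut.conj b).toMonoidHom).map (MulAut.conj a).toMonoidHom := by
    intro a b
    rw [Subgroup.map_map, map_mul]; rfl
  have hfix : ∀ a ∈ H, H.map (MulAut.conj a).toMonoidHom = H := by
    intro a ha
    apply le_antisymm
    · rintro _ ⟨b, hb, rfl⟩
      exact mul_mem (mul_mem ha hb) (inv_mem ha)
    · intro b hb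
      exact ⟨a⁻¹ * b * a, mul_mem (mul_mem (inv_mem ha) hb) ha, by simp [mul_assoc]⟩
  -- if `k * g` fixes `H`, conjugation by `k⁻¹` does the work
  have done : H.map (MulAut.conj (k * g)).toMonoidHom = H →
      ∃ x ∈ H ⊔ H.map (MulAut.conj g).toMonoidHom,
        H.map (MulAut.conj g).toMonoidHom = H.map (MulAut.conj x).toMonoidHom := by
    intro h
    refine ⟨k⁻¹, inv_mem hk, ?_⟩
    conv_lhs => rw [← inv_mul_cancel_left k g, hmap, h]
  by_cases hn6 : 6 ≤ n
  · apply done
    rw [CfsgLib.KnownA.SylowAlt.normalizer_sylow_alt n hn6 S] at hkg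
    exact hfix _ (hSH hkg)
  · obtain rfl : n = 5 := by omega
    have hcard : Nat.card H * H.index = 60 := by
      rw [H.card_mul_index, nat_card_alternatingGroup, Nat.card_fin]; decide
    have hidx : H.index ∈ Nat.divisors 60 := by
      rw [Nat.mem_divisors]; exact ⟨Dvd.intro_left _ hcard, by norm_num⟩
    rw [Nat.odd_iff] at hH
    have hcases : H.index = 1 ∨ H.index = 3 ∨ H.index = 5 ∨ H.index = 15 := by
      have hd : ∀ d ∈ Nat.divisors 60, d % 2 = 1 → d = 1 ∨ d = 3 ∨ d = 5 ∨ d = 15 := by decide
      exact hd _ hidx hH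
    by_cases h15 : H.index = 15
    · apply done
      have hHS : (S : Subgroup (alternatingGroup (Fin 5))) = H := by
        refine (S.is_maximal' ?_ hSH).symm
        refine IsPGroup.of_card (n := 2) ?_
        rw [h15] at hcard; omega
      apply le_antisymm
      · rintro _ ⟨b, hb, rfl⟩
        rw [← hHS] at hb ⊢
        exact (Subgroup.mem_normalizer_iff.mp hkg b).mp hb
      · intro b hb
        rw [← hHS] at hb ⊢
        refine ⟨(k * g)⁻¹ * b * (k * g), ?_, by simp [mul_assoc]⟩
        exact (Subgroup.mem_normalizer_iff.mp hkg _).mpr (by simpa [mul_assoc] using hb)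
    · by_cases hK : K ≤ H
      · refine ⟨1, one_mem _, ?_⟩
        rw [hfix 1 (one_mem _)]
        refine Subgroup.eq_of_le_of_card_ge (le_trans le_sup_right hK) ?_
        rw [Subgroup.card_map_of_injective (MulAut.conj g).injective]
      · have htop : K = ⊤ := by
          have hdvd : K.index ∣ H.index := Subgroup.index_dvd_of_le le_sup_left
          have hne : K.index ≠ H.index := by
            intro h
            apply hK
            have h1 := Subgroup.relIndex_mul_index (le_sup_left : H ≤ K)
            have h2 : K.index ≠ 0 := Subgroup.index_ne_zero_of_finite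
            have h3 : H.relIndex K = 1 := by
              apply Nat.eq_of_mul_eq_mul_right (Nat.pos_of_ne_zero h2)
              rw [h1, one_mul, h]
            exact Subgroup.relIndex_eq_one.mp h3
          rw [← Subgroup.index_eq_one]
          rcases hcases with h | h | h | h
          · rw [h] at hdvd; exact Nat.dvd_one.mp hdvd
          · rw [h] at hdvd hne
            exact ((Nat.dvd_prime Nat.prime_three).mp hdvd).resolve_right hne
          · rw [h] at hdvd hne
            exact ((Nat.dvd_prime (by norm_num)).mp hdvd).resolve_right hne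
          · exact absurd h h15
        refine ⟨g, ?_, rfl⟩
        show g ∈ K
        rw [htop]; exact Subgroup.mem_top g

end Cfsg.Agent.S2222
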