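import Cfsg.Statements.S2231
import Cfsg.Agent.Lib.Classical.Order


set_option autoImplicit false
open Cfsg

namespace Cfsg.Agent.S2231

set_option maxHeartbeats 2000000

/-- Let p be an odd prime and K a finite field of characteristic p. Then Qd(p) (the natural semidirect product of an elementary abelian group of order p² by SL₂(p)) is not involved in the projective special linear group PSL₂(K). -/
theorem result {p : ℕ} [Fact p.Prime] (hp : p ≠ 2) {K : Type*} [Field K] [Fintype K] [CharP K p] : ¬ Cfsg.Involves ↥(Cfsg.qd p) (Matrix.ProjectiveSpecialLinearGroup (Fin 2) K) := by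
  classical
  have hp' : p.Prime := Fact.out
  have : NeZero p := ⟨hp'.ne_zero⟩
  let SL := Matrix.SpecialLinearGroup (Fin 2) K
  let PSL := Matrix.ProjectiveSpecialLinearGroup (Fin 2) K
  let π : SL →* PSL := QuotientGroup.mk' _
  let U : Multiplicative K →* SL :=
    { toFun := fun b => ⟨!![1, b.toAdd; 0, 1], by simp [Matrix.det_fin_two]⟩
      map_one' := Subtype.ext (by simp [Matrix.one_fin_two])
      map_mul' := fun a b => Subtype.ext (by
        show !![1, (a * b).toAdd; 0, 1] = !![1, a.toAdd; 0, 1] * !![1, b.toAdd; 0, 1]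
        rw [Matrix.mul_fin_two]; simp [add_comm]) }
  have hU : Function.Injective U := fun a b h => by
    have := congrArg (fun M : SL => (M : Matrix (Fin 2) (Fin 2) K) 0 1) h
    exact this
  obtain ⟨e, -, he⟩ := FiniteField.card K p
  have hUcard : Nat.card U.range = Fintype.card K := by
    rw [Nat.card_congr (MonoidHom.ofInjective hU).symm.toEquiv, Nat.card_eq_fintype_card,
      Fintype.card_multiplicative]
  have hUindex : ¬ p ∣ U.range.index := by
    intro hdvd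
    have h1 := Subgroup.card_mul_index U.range
    rw [hUcard, CfsgLib.Classical.card_SL_two, Nat.card_eq_fintype_card] at h1
    have h2 : U.range.index = Fintype.card K ^ 2 - 1 :=
      Nat.eq_of_mul_eq_mul_left Fintype.card_pos h1
    rw [h2] at hdvd
    have h3 : p ∣ Fintype.card K ^ 2 := dvd_pow (he ▸ dvd_pow_self p e.pos.ne') two_ne_zero
    have h4 := Nat.dvd_sub h3 hdvd
    rw [Nat.sub_sub_self (Nat.one_le_pow _ _ Fintype.card_pos)] at h4
    exact hp'.not_dvd_one h4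
  have hUp : IsPGroup p U.range := IsPGroup.of_card (n := (e : ℕ)) (by rw [hUcard, he])
  let P₀ : Sylow p SL := hUp.toSylow hUindex
  let P₁ : Sylow p PSL := P₀.mapSurjective (QuotientGroup.mk'_surjective _)
  have habel : ∀ S : Subgroup PSL, IsPGroup p S → ∀ x ∈ S, ∀ y ∈ S, x * y = y * x := by
    intro S hS x hx y hy
    obtain ⟨Q, hQ⟩ := hS.exists_le_sylow
    obtain ⟨g, hg⟩ := MulAction.exists_smul_eq PSL P₁ Q
    have hmem : ∀ z ∈ S, ∃ b, g⁻¹ * z * g = π (U b) := by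
      intro z hz
      have h := hQ hz
      rw [← hg, Sylow.coe_subgroup_smul, Subgroup.mem_pointwise_smul_iff_inv_smul_mem] at h
      obtain ⟨w, ⟨b, rfl⟩, hw⟩ := h
      exact ⟨b, by rw [hw]; simp [MulAut.smul_def]⟩
    obtain ⟨a, ha⟩ := hmem x hx
    obtain ⟨b, hb⟩ := hmem y hy
    have hc : (g⁻¹ * x * g) * (g⁻¹ * y * g) = (g⁻¹ * y * g) * (g⁻¹ * x * g) := by
      rw [ha, hb, ← map_mul, ← map_mul, ← map_mul, ← map_mul, mul_comm]
    calc x * y = g * ((g⁻¹ * x * g) * (g⁻¹ * y * g)) * g⁻¹ := by group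
      _ = g * ((g⁻¹ * y * g) * (g⁻¹ * x * g)) * g⁻¹ := by rw [hc]
      _ = y * x := by group
  rintro ⟨H, R, hn, ⟨iso⟩⟩
  let f : H →* ↥(Cfsg.qd p) := iso.toMonoidHom.comp (QuotientGroup.mk' (R.subgroupOf H))
  have hf : Function.Surjective f := iso.surjective.comp (QuotientGroup.mk'_surjective _)
  -- a non-abelian `p`-subgroup of `qd p`
  let H₃ : Submonoid (Matrix.SpecialLinearGroup (Fin 3) (ZMod p)) :=
    { carrier := {M | (M : Matrix (Fin 3) (Fin 3) (ZMod p)) 1 0 = 0 ∧ (M : Matrix (Fin 3) (Fin 3) (ZMod p)) 2 0 = 0 ∧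
        (M : Matrix (Fin 3) (Fin 3) (ZMod p)) 2 1 = 0 ∧ ∀ i, (M : Matrix (Fin 3) (Fin 3) (ZMod p)) i i = 1}
      one_mem' := by simp
      mul_mem' := fun {A B} ha hb => by
        obtain ⟨a1, a2, a3, a4⟩ := ha
        obtain ⟨b1, b2, b3, b4⟩ := hb
        refine ⟨?_, ?_, ?_, fun i => ?_⟩
        all_goals simp only [Matrix.SpecialLinearGroup.coe_mul, Matrix.mul_apply, Fin.sum_univ_three]
        · simp [a1, b1, b2]
        · simp [a2, a3, b1, b2]
        · simp [a2, a3, b3]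
        · fin_cases i <;> simp [a1, a2, a3, a4, b1, b2, b3, b4] }
  have hpow : ∀ M ∈ H₃, M ^ p = 1 := by
    rintro M ⟨a1, a2, a3, a4⟩
    apply Subtype.ext
    rw [Matrix.SpecialLinearGroup.coe_pow, Matrix.SpecialLinearGroup.coe_one]
    set N := (M : Matrix (Fin 3) (Fin 3) (ZMod p)) - 1 with hN
    have hN3 : N ^ 3 = 0 := by
      ext i j
      fin_cases i <;> fin_cases j <;>
        simp [pow_succ, Matrix.mul_apply, Fin.sum_univ_three, hN, Matrix.one_apply, a1, a2, a3, a4]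
    have hNp : N ^ p = 0 := pow_eq_zero_of_le (by have := hp'.two_le; omega) hN3
    rw [show (M : Matrix (Fin 3) (Fin 3) (ZMod p)) = 1 + N by simp [hN],
      add_pow_char_of_commute p (Commute.one_left N), hNp, one_pow, add_zero]
  let S₃ : Subgroup (Matrix.SpecialLinearGroup (Fin 3) (ZMod p)) :=
    { H₃ with
      inv_mem' := fun {M} hM => by
        rw [show M⁻¹ = M ^ (p - 1) from inv_eq_of_mul_eq_one_right (by
          rw [← pow_succ', Nat.sub_add_cancel hp'.one_le, hpow M hM])]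
        exact H₃.pow_mem hM _ }
  have hle : S₃ ≤ Cfsg.qd p := fun M hM => Subgroup.subset_closure ⟨hM.2.1, hM.2.2.1, hM.2.2.2 2⟩
  have hS : IsPGroup p (S₃.subgroupOf (Cfsg.qd p)) := fun M => ⟨1, by
    apply Subtype.ext; apply Subtype.ext
    rw [pow_one]
    exact hpow _ M.2⟩
  let x : ↥(Cfsg.qd p) := ⟨⟨!![1, 1, 0; 0, 1, 0; 0, 0, 1], by simp [Matrix.det_fin_three]⟩,
    Subgroup.subset_closure ⟨rfl, rfl, rfl⟩⟩
  let y : ↥(Cfsg.qd p) := ⟨⟨!![1, 0, 0; 0, 1, 1; 0, 0, 1], by simp [Matrix.det_fin_three]⟩,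
    Subgroup.subset_closure ⟨rfl, rfl, rfl⟩⟩
  have hx : x ∈ S₃.subgroupOf (Cfsg.qd p) := ⟨rfl, rfl, rfl, fun i => by fin_cases i <;> rfl⟩
  have hy : y ∈ S₃.subgroupOf (Cfsg.qd p) := ⟨rfl, rfl, rfl, fun i => by fin_cases i <;> rfl⟩
  let Tpre := (S₃.subgroupOf (Cfsg.qd p)).comap f
  let g : Tpre →* ↥(S₃.subgroupOf (Cfsg.qd p)) := f.subgroupComap _
  have hg : Function.Surjective g := MonoidHom.subgroupComap_surjective_of_surjective _ _ hf
  let T : Sylow p Tpre := default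
  have htop : ((T.mapSurjective hg) : Subgroup ↥(S₃.subgroupOf (Cfsg.qd p))) = ⊤ :=
    ((T.mapSurjective hg).is_maximal' (IsPGroup.to_subgroup hS ⊤ |>.of_equiv (MulEquiv.refl _)) le_top).symm
  have hpre : ∀ s : ↥(S₃.subgroupOf (Cfsg.qd p)), ∃ t : ↥Tpre, t ∈ (T : Subgroup Tpre) ∧ g t = s := fun s => by
    have h : s ∈ ((T.mapSurjective hg) : Subgroup _) := htop ▸ Subgroup.mem_top s
    exact h
  obtain ⟨tx, htx, hgx⟩ := hpre ⟨x, hx⟩
  obtain ⟨ty, hty, hgy⟩ := hpre ⟨y, hy⟩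
  have hcomm : tx * ty = ty * tx := by
    apply Subtype.ext; apply Subtype.ext
    exact habel (((T : Subgroup Tpre).map Tpre.subtype).map H.subtype) ((T.2.map _).map _)
      _ ⟨_, ⟨tx, htx, rfl⟩, rfl⟩ _ ⟨_, ⟨ty, hty, rfl⟩, rfl⟩
  have h := congrArg (fun t => ((t : ↥(Cfsg.qd p)) : Matrix.SpecialLinearGroup (Fin 3) (ZMod p))) (congrArg Subtype.val (congrArg g hcomm))
  rw [map_mul, map_mul, hgx, hgy] at h
  have h' := congrArg (fun M : Matrix.SpecialLinearGroup (Fin 3) (ZMod p) => (M : Matrix (Fin 3) (Fin 3) (ZMod p)) 0 2) h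
  change (!![(1 : ZMod p), 1, 0; 0, 1, 0; 0, 0, 1] * !![(1 : ZMod p), 0, 0; 0, 1, 1; 0, 0, 1]) 0 2 =
    (!![(1 : ZMod p), 0, 0; 0, 1, 1; 0, 0, 1] * !![(1 : ZMod p), 1, 0; 0, 1, 0; 0, 0, 1]) 0 2 at h'
  simp [Matrix.mul_apply, Fin.sum_univ_three] at h' 

end Cfsg.Agent.S2231
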