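import Cfsg.Statements.S2238
import Cfsg.Agent.Lib.KnownA.Suzuki.RowsTorus

set_option autoImplicit false
open Cfsg

namespace Cfsg.Agent.S2238

/-- The partition of the Suzuki group: with q = 2^(2m+1), m ≥ 1, r = 2^m and the Suzuki group realised as the stabiliser in SL₄ of the Suzuki–Tits ovoid, every non-identity element lies in exactly one subgroup that is either a Sylow 2-subgroup or a cyclic subgroup of order q − 1, q + 2r + 1 or q − 2r + 1. -/
theorem result {F : Type*} [Field F] [Fintype F] {m : ℕ} (hm : 1 ≤ m) (hF : Fintype.card F = 2 ^ (2 * m + 1)) (g : ↥(Cfsg.Sz F m)) (hg : g ≠ 1) :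
    ∃! U : Subgroup ↥(Cfsg.Sz F m), ((∃ P : Sylow 2 ↥(Cfsg.Sz F m), U = (P : Subgroup ↥(Cfsg.Sz F m))) ∨
      (IsCyclic ↥U ∧ Nat.card ↥U ∈ ({2 ^ (2 * m + 1) - 1, 2 ^ (2 * m + 1) + 2 ^ (m + 1) + 1, 2 ^ (2 * m + 1) - 2 ^ (m + 1) + 1} : Set ℕ))) ∧ g ∈ U := by
  have H := CfsgLib.KnownA.Suzuki.titsField_of_card hF
  let f := CfsgLib.KnownA.Suzuki.iso hm hF
  have hP : ∀ U, (∃ P : Sylow 2 (Cfsg.Lie.Sz F (2 ^ (m + 1))), U = (P : Subgroup _)) ↔
      ∃ P : Sylow 2 (Cfsg.Sz F m), U.map f.toMonoidHom = (P : Subgroup _) := by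
    haveI := Fact.mk Nat.prime_two
    intro U
    constructor
    · rintro ⟨P, rfl⟩
      exact ⟨P.mapSurjective (f := f.toMonoidHom) f.surjective, rfl⟩
    · rintro ⟨P, hP⟩
      obtain ⟨Q, hQ⟩ := CfsgLib.KnownA.Suzuki.exists_sylow_map f P
      exact ⟨Q, Subgroup.map_injective f.injective (hP.trans hQ.symm)⟩
  refine CfsgLib.KnownA.Suzuki.existsUnique_transfer f (fun U => ?_)
    (CfsgLib.KnownA.Suzuki.existsUnique_component H hm hF rfl (g := f.symm g) (by simpa using hg))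
  refine and_congr (or_congr (hP U) (and_congr (f.subgroupMap U).isCyclic ?_)) ?_
  · rw [CfsgLib.KnownA.Suzuki.natCard_map f U]
  · exact ⟨fun h => ⟨_, h, f.apply_symm_apply g⟩, fun ⟨x, hx, h⟩ => by rw [← h]; simpa using hx⟩

end Cfsg.Agent.S2238
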