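import Cfsg.Statements.S2241
import Cfsg.Agent.Lib.KnownA.Suzuki.RowsTorus

set_option autoImplicit false
open Cfsg

namespace Cfsg.Agent.S2241

/-- Real 2-elements of the Suzuki group: with q = 2^(2m+1), m ≥ 1, and the group realised as the stabiliser in SL₄ of the Suzuki–Tits ovoid, a non-identity element of a Sylow 2-subgroup is conjugate to its inverse if and only if it is an involution; in particular no element of order 4 is conjugate to its inverse. -/
theorem result {F : Type*} [Field F] [Fintype F] {m : ℕ} (hm : 1 ≤ m) (hF : Fintype.card F = 2 ^ (2 * m + 1)) (P : Sylow 2 ↥(Cfsg.Sz F m)) (g : ↥(Cfsg.Sz F m)) (hg : g ∈ (P : Subgroup ↥(Cfsg.Sz F m))) (h1 : g ≠ 1) :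
    IsConj g g⁻¹ ↔ orderOf g = 2 := by
  have H := CfsgLib.KnownA.Suzuki.titsField_of_card hF
  let f := CfsgLib.KnownA.Suzuki.iso hm hF
  haveI := Fact.mk Nat.prime_two
  obtain ⟨Q, hQ⟩ := CfsgLib.KnownA.Suzuki.exists_sylow_map f P
  rw [← hQ] at hg
  obtain ⟨g, hg', rfl⟩ := hg
  change IsConj (f g) (f g)⁻¹ ↔ orderOf (f g) = 2
  rw [← map_inv, MulEquiv.orderOf_eq f g,
    ← CfsgLib.KnownA.Suzuki.isConj_inv_iff H hF Q hg' (fun h => h1 (by simp [h]))]
  exact ⟨fun h => by simpa using f.symm.toMonoidHom.map_isConj h, fun h => f.toMonoidHom.map_isConj h⟩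

end Cfsg.Agent.S2241
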