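import Cfsg.Statements.S2247
import Cfsg.Agent.Lib.KnownA.Suzuki.RowsTorus
import Cfsg.Agent.Lib.KnownA.Suzuki.Generate
import Cfsg.Agent.Lib.KnownA.Suzuki.Subfield

set_option autoImplicit false
open Cfsg

namespace Cfsg.Agent.S2247

/-- In the Suzuki group with q = 2^(2m+1), m ≥ 1 (realised as the stabiliser in SL₄ of the Suzuki–Tits ovoid), the normalizer of a Sylow 2-subgroup P is a maximal subgroup and is the only maximal subgroup containing P. -/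
theorem result {F : Type*} [Field F] [Fintype F] {m : ℕ} (hm : 1 ≤ m) (hF : Fintype.card F = 2 ^ (2 * m + 1)) (P : Sylow 2 ↥(Cfsg.Sz F m)) :
    IsCoatom (Subgroup.normalizer ((P : Subgroup ↥(Cfsg.Sz F m)) : Set ↥(Cfsg.Sz F m))) ∧
    ∀ M : Subgroup ↥(Cfsg.Sz F m), IsCoatom M → (P : Subgroup ↥(Cfsg.Sz F m)) ≤ M → M = Subgroup.normalizer ((P : Subgroup ↥(Cfsg.Sz F m)) : Set ↥(Cfsg.Sz F m)) := by
  have H := CfsgLib.KnownA.Suzuki.titsField_of_card hF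
  let f := CfsgLib.KnownA.Suzuki.iso hm hF
  haveI := Fact.mk Nat.prime_two
  obtain ⟨Q, hQ⟩ := CfsgLib.KnownA.Suzuki.exists_sylow_map f P
  obtain ⟨k, hk⟩ := MulAction.exists_smul_eq (Cfsg.Lie.Sz F (2 ^ (m + 1)))
    (CfsgLib.KnownA.Suzuki.uniSylow H hF) Q
  let ψ := (MulAut.conj k).trans f
  have hP : (P : Subgroup (Cfsg.Sz F m)) = (CfsgLib.KnownA.Suzuki.uni H).map ψ.toMonoidHom := by
    rw [← hQ, ← hk]
    exact Subgroup.map_map _ _ _
  have hN : Subgroup.normalizer ((P : Subgroup (Cfsg.Sz F m)) : Set (Cfsg.Sz F m)) =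
      (CfsgLib.KnownA.Suzuki.borel H).map ψ.toMonoidHom := by
    rw [hP, ← Subgroup.map_equiv_normalizer_eq, CfsgLib.KnownA.Suzuki.normalizer_uni]
  have hc : ∀ M : Subgroup (Cfsg.Lie.Sz F (2 ^ (m + 1))),
      IsCoatom (M.map ψ.toMonoidHom) ↔ IsCoatom M := fun M =>
    OrderIso.isCoatom_iff ψ.mapSubgroup M
  refine ⟨?_, fun M hM hPM => ?_⟩
  · rw [hN, hc]
    exact CfsgLib.KnownA.Suzuki.isCoatom_borel H
  · obtain ⟨M, rfl⟩ := ψ.mapSubgroup.surjective M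
    rw [hP] at hPM
    have h1 := CfsgLib.KnownA.Suzuki.eq_borel_of_isCoatom H (CfsgLib.KnownA.Suzuki.four_le hm hF)
      ((hc M).1 hM) ((Subgroup.map_le_map_iff_of_injective ψ.injective).1 hPM)
    rw [hN, ← h1]
    rfl

end Cfsg.Agent.S2247
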