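import Cfsg.Statements.S2251
import Cfsg.Agent.Lib.KnownA.Suzuki.Subgroups
import Cfsg.Agent.Lib.KnownA.Suzuki.RowsTorus

set_option autoImplicit false
open Cfsg

namespace Cfsg.Agent.S2251

/-- The subgroups of the Suzuki group: with q = 2^(2m+1), m ≥ 1, r = 2^m and the group realised as the stabiliser in SL₄ of the Suzuki–Tits ovoid, every proper subgroup is contained in the normalizer of a Sylow 2-subgroup, or in the normalizer of a cyclic subgroup of order q − 1, q + 2r + 1 or q − 2r + 1, or in a subgroup isomorphic to a smaller Suzuki group Sz(s) with s = 2^(2k+1) ≥ 8 and 2k+1 a proper divisor of 2m+1. -/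
theorem result {F : Type*} [Field F] [Fintype F] {m : ℕ} (hm : 1 ≤ m) (hF : Fintype.card F = 2 ^ (2 * m + 1)) (M : Subgroup ↥(Cfsg.Sz F m)) (hM : M ≠ ⊤) :
    (∃ P : Sylow 2 ↥(Cfsg.Sz F m), M ≤ Subgroup.normalizer ((P : Subgroup ↥(Cfsg.Sz F m)) : Set ↥(Cfsg.Sz F m))) ∨
    (∃ U : Subgroup ↥(Cfsg.Sz F m), IsCyclic ↥U ∧ Nat.card ↥U ∈ ({2 ^ (2 * m + 1) - 1, 2 ^ (2 * m + 1) + 2 ^ (m + 1) + 1, 2 ^ (2 * m + 1) - 2 ^ (m + 1) + 1} : Set ℕ) ∧
      M ≤ Subgroup.normalizer (U : Set ↥(Cfsg.Sz F m))) ∨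
    (∃ (K : Type) (_ : Field K) (_ : Fintype K) (k : ℕ), 1 ≤ k ∧ k < m ∧ Fintype.card K = 2 ^ (2 * k + 1) ∧ 2 * k + 1 ∣ 2 * m + 1 ∧
      ∃ S : Subgroup ↥(Cfsg.Sz F m), Nonempty (↥S ≃* ↥(Cfsg.Sz K k)) ∧ M ≤ S) := by
  haveI := Fact.mk Nat.prime_two
  have H := CfsgLib.KnownA.Suzuki.titsField_of_card hF
  let f := CfsgLib.KnownA.Suzuki.iso hm hF
  have hle : ∀ X : Subgroup (Cfsg.Lie.Sz F (2 ^ (m + 1))), M.map f.symm.toMonoidHom ≤ X →
      M ≤ X.map f.toMonoidHom := fun X hX => by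
    rw [← CfsgLib.KnownA.Suzuki.map_symm_map f M]
    exact Subgroup.map_mono hX
  rcases CfsgLib.KnownA.Suzuki.subgroup_classification H hm hF rfl (M.map f.symm.toMonoidHom)
      (fun h => hM (by
        rw [← CfsgLib.KnownA.Suzuki.map_symm_map f M, h, Subgroup.map_top_of_surjective _ f.surjective]))
    with ⟨P, hP⟩ | ⟨U, hc, hcard, hU⟩ | ⟨k, h1, h2, h3, K, iK, iK', hK, Sg, ⟨g⟩, hS⟩
  · refine Or.inl ⟨P.mapSurjective (f := f.toMonoidHom) f.surjective, ?_⟩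
    have := hle _ hP
    rw [Subgroup.map_equiv_normalizer_eq] at this
    exact this
  · refine Or.inr (Or.inl ⟨U.map f.toMonoidHom, CfsgLib.KnownA.Suzuki.isCyclic_map f U, ?_, ?_⟩)
    · rw [CfsgLib.KnownA.Suzuki.natCard_map f U]
      exact hcard
    · have := hle _ hU
      rw [Subgroup.map_equiv_normalizer_eq] at this
      exact this
  · letI := iK
    letI := iK'
    exact Or.inr (Or.inr ⟨K, iK, iK', k, h1, h2, hK, h3, Sg.map f.toMonoidHom,
      ⟨(Subgroup.equivMapOfInjective Sg f.toMonoidHom f.injective).symm.trans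
        (g.symm.trans (CfsgLib.KnownA.Suzuki.iso h1 hK))⟩, hle _ hS⟩)

end Cfsg.Agent.S2251
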