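import Cfsg.Statements.S2255
import Cfsg.Agent.Lib.KnownA.NilpotentPerm.Extremal

set_option autoImplicit false
open Cfsg

namespace Cfsg.Agent.S2255

/-- Let n be a natural number not congruent to 3 modulo 4, with n ∉ {5, 6, 9}. Then every nilpotent subgroup of the alternating group on n letters has order at most the order of a Sylow 2-subgroup of the alternating group (so the nilpotent subgroups of largest order are exactly the Sylow 2-subgroups). -/
theorem result  (n : ℕ) (hn : n % 4 ≠ 3)
    (h5 : n ≠ 5) (h6 : n ≠ 6) (h9 : n ≠ 9)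
    (N : Subgroup (alternatingGroup (Fin n))) (hN : Group.IsNilpotent N)
    (P : Sylow 2 (alternatingGroup (Fin n))) :
    Nat.card N ≤ Nat.card P := by
  by_cases h2 : IsPGroup 2 N
  · obtain ⟨Q, hQ⟩ := h2.exists_le_sylow
    exact (Subgroup.card_le_of_le hQ).trans_eq (Q.card_eq_multiplicity.trans P.card_eq_multiplicity.symm)
  by_cases hn2 : n < 2
  · haveI : Subsingleton (Fin n) := Fin.subsingleton_iff_le_one.2 (by omega)
    exact absurd (IsPGroup.of_card (p := 2) (n := 0) (by simp)) h2
  have h := (CfsgLib.KnownA.NilpotentPerm.alt_bound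
    (CfsgLib.Base.isNilpotent_map (alternatingGroup (Fin n)).subtype hN)
    (by rintro _ ⟨x, -, rfl⟩; exact Equiv.Perm.mem_alternatingGroup.1 x.2)
    (fun h => h2 (h.of_equiv (N.equivMapOfInjective _ (Subgroup.subtype_injective _)).symm))).2.1
    (by rwa [Nat.card_fin]) (by rwa [Nat.card_fin]) (by rwa [Nat.card_fin]) (by rwa [Nat.card_fin])
  rw [Subgroup.card_map_of_injective (Subgroup.subtype_injective _), Nat.card_fin,
    ← CfsgLib.KnownA.NilpotentPerm.card_sylow_alt (by omega) P] at h
  omega

end Cfsg.Agent.S2255
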