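import Cfsg.Statements.S2257
import Cfsg.Agent.Lib.PSL2.SolubilizerEven

set_option autoImplicit false
open Cfsg

namespace Cfsg.Agent.S2257

/-- Let G = PSL_2(F) with F a field of order q = 2^p, p prime, and for x ∈ G call the solubilizer of x the set of y ∈ G such that x and y generate a solvable subgroup. Then the solubilizer of an involution has 3q(q − 1) elements; that of a non-identity element of order dividing q − 1 has 2q(q − 1) elements; and that of a non-identity element of order dividing q + 1 has 2(q + 1) elements. -/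
theorem result (p : ℕ) (hp : p.Prime) {F : Type*} [Field F] [Fintype F]
    (hF : Fintype.card F = 2 ^ p) (x : Matrix.ProjectiveSpecialLinearGroup (Fin 2) F) :
    (orderOf x = 2 → Nat.card {y : Matrix.ProjectiveSpecialLinearGroup (Fin 2) F // Group.IsSolvable ↥(Subgroup.closure ({x, y} : Set (Matrix.ProjectiveSpecialLinearGroup (Fin 2) F)))} = 3 * 2 ^ p * (2 ^ p - 1)) ∧
    (x ≠ 1 → orderOf x ∣ 2 ^ p - 1 → Nat.card {y : Matrix.ProjectiveSpecialLinearGroup (Fin 2) F // Group.IsSolvable ↥(Subgroup.closure ({x, y} : Set (Matrix.ProjectiveSpecialLinearGroup (Fin 2) F)))} = 2 * 2 ^ p * (2 ^ p - 1)) ∧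
    (x ≠ 1 → orderOf x ∣ 2 ^ p + 1 → Nat.card {y : Matrix.ProjectiveSpecialLinearGroup (Fin 2) F // Group.IsSolvable ↥(Subgroup.closure ({x, y} : Set (Matrix.ProjectiveSpecialLinearGroup (Fin 2) F)))} = 2 * (2 ^ p + 1)) := by
  classical
  have hq : Nat.card F = 2 ^ p := by rw [Nat.card_eq_fintype_card, hF]
  haveI : Fact (Nat.Prime 2) := ⟨Nat.prime_two⟩
  haveI : CharP F 2 := charP_of_card_eq_prime_pow (f := p) hF
  have he : Even (Nat.card F) := by rw [hq]; exact Nat.even_pow.2 ⟨even_two, hp.ne_zero⟩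
  set φ := Matrix.ProjectiveSpecialLinearGroup.toPGL (n := Fin 2) (R := F) with hφ
  have hbij : Function.Bijective φ :=
    ⟨Matrix.ProjectiveSpecialLinearGroup.toPGL_injective,
      MonoidHom.range_eq_top.1 (CfsgLib.PSL2.pslRange_eq_top_of_even he)⟩
  let e := MulEquiv.ofBijective φ hbij
  have hcard : Nat.card {y : Matrix.ProjectiveSpecialLinearGroup (Fin 2) F //
      Group.IsSolvable ↥(Subgroup.closure ({x, y} : Set (Matrix.ProjectiveSpecialLinearGroup (Fin 2) F)))} =
      (CfsgLib.PSL2.SolubilizerEven.Sol (φ x)).ncard := by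
    rw [← Nat.card_coe_set_eq]
    refine Nat.card_congr (e.toEquiv.subtypeEquiv fun y => ?_)
    show _ ↔ Group.IsSolvable (Subgroup.closure ({φ x, φ y} : Set (Matrix.ProjGenLinGroup (Fin 2) F)))
    rw [← Set.image_pair, ← MonoidHom.map_closure]
    let ε := (Subgroup.closure ({x, y} : Set (Matrix.ProjectiveSpecialLinearGroup (Fin 2) F))).equivMapOfInjective φ hbij.1
    exact ⟨fun h => Group.isSolvable_of_surjective (f := ε.toMonoidHom) ε.surjective,
      fun h => Group.isSolvable_of_surjective (f := ε.symm.toMonoidHom) ε.symm.surjective⟩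
  have hx1 : φ x ≠ 1 ↔ x ≠ 1 := (map_ne_one_iff φ hbij.1)
  have ho : orderOf (φ x) = orderOf x := orderOf_injective φ hbij.1 x
  have hsq : x ≠ 1 → ∀ m : ℕ, Odd m → orderOf x ∣ m → φ x ^ 2 ≠ 1 := by
    intro h1 m hm hd h2
    have h3 := orderOf_dvd_of_pow_eq_one h2
    rw [ho] at h3
    rcases (Nat.dvd_prime Nat.prime_two).1 h3 with h4 | h4
    · exact h1 (orderOf_eq_one_iff.1 h4)
    · rw [h4] at hd
      exact hm.not_two_dvd_nat hd
  refine ⟨fun h => ?_, fun h1 h => ?_, fun h1 h => ?_⟩ <;> rw [hcard]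
  · rw [CfsgLib.PSL2.SolubilizerEven.sol_invol_card (hx1.2 fun e1 => by rw [e1, orderOf_one] at h; omega)
      (orderOf_dvd_iff_pow_eq_one.1 (by rw [ho, h])), hq]
  · rw [CfsgLib.PSL2.SolubilizerEven.sol_split_card
      (hsq h1 _ (Nat.Even.sub_odd (Nat.one_le_two_pow) (Nat.even_pow.2 ⟨even_two, hp.ne_zero⟩) odd_one) h)
      (by rw [ho, hq]; exact h), hq]
  · rw [CfsgLib.PSL2.SolubilizerEven.sol_nonsplit_card
      (hsq h1 _ ((Nat.even_pow.2 ⟨even_two, hp.ne_zero⟩).add_one) h)
      (by rw [ho, hq]; exact h), hq]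

end Cfsg.Agent.S2257
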