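import Cfsg.Statements.S2258
import Cfsg.Agent.Lib.PSL2.SolubilizerThree

set_option autoImplicit false
open Cfsg

namespace Cfsg.Agent.S2258

/-- Let G = PSL_2(F) with F a field of order q = 3^p, p an odd prime, and for x ∈ G call the solubilizer of x the set of y ∈ G such that x and y generate a solvable subgroup. Then the solubilizer of an involution has q(q + 1) elements; that of an element of order 3 has q(q + 5)/2 elements; that of an element of order neither 1 nor 2 dividing q − 1 has q(q − 1) elements; and that of an element of order neither 1 nor 2 dividing q + 1 has q + 1 elements. -/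
theorem result (p : ℕ) (hp : p.Prime) (hodd : Odd p) {F : Type*} [Field F] [Fintype F]
    (hF : Fintype.card F = 3 ^ p) (x : Matrix.ProjectiveSpecialLinearGroup (Fin 2) F) :
    (orderOf x = 2 → Nat.card {y : Matrix.ProjectiveSpecialLinearGroup (Fin 2) F // Group.IsSolvable ↥(Subgroup.closure ({x, y} : Set (Matrix.ProjectiveSpecialLinearGroup (Fin 2) F)))} = 3 ^ p * (3 ^ p + 1)) ∧
    (orderOf x = 3 → 2 * Nat.card {y : Matrix.ProjectiveSpecialLinearGroup (Fin 2) F // Group.IsSolvable ↥(Subgroup.closure ({x, y} : Set (Matrix.ProjectiveSpecialLinearGroup (Fin 2) F)))} = 3 ^ p * (3 ^ p + 5)) ∧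
    (x ≠ 1 → orderOf x ≠ 2 → orderOf x ∣ 3 ^ p - 1 → Nat.card {y : Matrix.ProjectiveSpecialLinearGroup (Fin 2) F // Group.IsSolvable ↥(Subgroup.closure ({x, y} : Set (Matrix.ProjectiveSpecialLinearGroup (Fin 2) F)))} = 3 ^ p * (3 ^ p - 1)) ∧
    (x ≠ 1 → orderOf x ≠ 2 → orderOf x ∣ 3 ^ p + 1 → Nat.card {y : Matrix.ProjectiveSpecialLinearGroup (Fin 2) F // Group.IsSolvable ↥(Subgroup.closure ({x, y} : Set (Matrix.ProjectiveSpecialLinearGroup (Fin 2) F)))} = 3 ^ p + 1) := by
  classical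
  haveI : Fact (Nat.Prime 3) := ⟨Nat.prime_three⟩
  haveI : CharP F 3 := charP_of_card_eq_prime_pow (f := p) hF
  have hq : Nat.card F = 3 ^ p := by rw [Nat.card_eq_fintype_card, hF]
  have h8 : Nat.card F % 8 = 3 := by
    obtain ⟨k, hk⟩ := hodd
    rw [hq, hk, pow_succ, pow_mul, Nat.mul_mod, Nat.pow_mod]
    norm_num
  have hgt : 3 < Nat.card F := by
    rw [hq]
    calc 3 = 3 ^ 1 := (pow_one 3).symm
      _ < 3 ^ p := Nat.pow_lt_pow_right (by norm_num) hp.one_lt
  have hK : ∀ K : Subfield F, Nat.card K = 3 ∨ Nat.card K = Nat.card F := by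
    intro K
    have e := Module.natCard_eq_pow_finrank (K := K) (V := F)
    rw [hq] at e ⊢
    obtain ⟨m, -, hm⟩ := (Nat.dvd_prime_pow Nat.prime_three).1 (show Nat.card K ∣ 3 ^ p by
      rw [e]; exact dvd_pow_self _ (Module.finrank_pos (R := K) (M := F)).ne')
    rw [hm, ← pow_mul] at e
    have hd : m ∣ p := ⟨_, Nat.pow_right_injective (le_refl 2 |>.trans (by norm_num)) e⟩
    rcases (Nat.dvd_prime hp).1 hd with h | h
    · left; rw [hm, h, pow_one]
    · right; rw [hm, h]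
  set φ := Matrix.ProjectiveSpecialLinearGroup.toPGL (n := Fin 2) (R := F) with hφ
  have hinj : Function.Injective φ := Matrix.ProjectiveSpecialLinearGroup.toPGL_injective
  have hcard : Nat.card {y : Matrix.ProjectiveSpecialLinearGroup (Fin 2) F //
      Group.IsSolvable ↥(Subgroup.closure ({x, y} : Set (Matrix.ProjectiveSpecialLinearGroup (Fin 2) F)))} =
      (CfsgLib.PSL2.SolubilizerThree.SolL (φ x)).ncard := by
    have key : ∀ y, Group.IsSolvable ↥(Subgroup.closure ({x, y} : Set (Matrix.ProjectiveSpecialLinearGroup (Fin 2) F))) ↔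
        Group.IsSolvable (Subgroup.closure ({φ x, φ y} : Set (Matrix.ProjGenLinGroup (Fin 2) F))) := by
      intro y
      rw [← Set.image_pair, ← MonoidHom.map_closure]
      let ε := (Subgroup.closure ({x, y} : Set (Matrix.ProjectiveSpecialLinearGroup (Fin 2) F))).equivMapOfInjective φ hinj
      exact ⟨fun h => @Group.isSolvable_of_surjective _ _ _ _ ε.toMonoidHom ε.surjective h,
        fun h => @Group.isSolvable_of_surjective _ _ _ _ ε.symm.toMonoidHom ε.symm.surjective h⟩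
    rw [← Nat.card_coe_set_eq]
    refine Nat.card_congr (Equiv.ofBijective (fun y => ⟨φ y.1, ⟨y.1, rfl⟩, (key y.1).1 y.2⟩) ⟨fun a b h => ?_, ?_⟩)
    · exact Subtype.ext (hinj (congrArg Subtype.val h))
    · rintro ⟨z, ⟨y, hy⟩, hz⟩
      subst hy
      exact ⟨⟨y, (key y).2 hz⟩, rfl⟩
  have hxL : φ x ∈ CfsgLib.PSL2.pslRange F := ⟨x, rfl⟩
  have ho : orderOf (φ x) = orderOf x := orderOf_injective φ hinj x
  have hx1 : orderOf x ≠ 1 → φ x ≠ 1 := fun h e => h (by rw [← ho, e, orderOf_one])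
  have hpow : ∀ k, orderOf x = k → φ x ^ k = 1 := fun k h => by rw [← h, ← ho]; exact pow_orderOf_eq_one _
  have hsq : x ≠ 1 → orderOf x ≠ 2 → φ x ^ 2 ≠ 1 := fun h1 h2 e => by
    have h3 := orderOf_dvd_of_pow_eq_one e
    rw [ho] at h3
    rcases (Nat.dvd_prime Nat.prime_two).1 h3 with h4 | h4
    · exact h1 (orderOf_eq_one_iff.1 h4)
    · exact h2 h4
  have hcube : x ≠ 1 → ∀ m, orderOf x ∣ m → ¬ 3 ∣ m → φ x ^ 3 ≠ 1 := fun h1 m hm hn e => by
    have h3 := orderOf_dvd_of_pow_eq_one e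
    rw [ho] at h3
    rcases (Nat.dvd_prime Nat.prime_three).1 h3 with h4 | h4
    · exact h1 (orderOf_eq_one_iff.1 h4)
    · exact hn (h4 ▸ hm)
  have h3q : 3 ∣ 3 ^ p := dvd_pow_self 3 hp.ne_zero
  refine ⟨fun h => ?_, fun h => ?_, fun h1 h2 h => ?_, fun h1 h2 h => ?_⟩ <;> rw [hcard]
  · rw [CfsgLib.PSL2.SolubilizerThree.invol_card h8 hgt hK hxL (hx1 (by omega)) (hpow 2 h), hq]
  · rw [CfsgLib.PSL2.SolubilizerThree.three_card h8 hgt hK hxL (hx1 (by omega)) (hpow 3 h), hq]
  · rw [(CfsgLib.PSL2.SolubilizerThree.semisimple h8 hgt hK hxL (hsq h1 h2)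
      (hcube h1 _ h (by omega))).1 (by rw [ho, hq]; exact h), hq]
  · rw [(CfsgLib.PSL2.SolubilizerThree.semisimple h8 hgt hK hxL (hsq h1 h2)
      (hcube h1 _ h (by omega))).2 (by rw [ho, hq]; exact h), hq]

end Cfsg.Agent.S2258
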