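import Cfsg.Statements.S2261


set_option autoImplicit false
open Cfsg

namespace Cfsg.Agent.S2261

/-- Let F be a finite field with q elements and d ≥ 1. Then every element of PGL_d(F) = GL_d(F)/Z has order at most (q^d − 1)/(q − 1), and some element (the image of a Singer cycle) has exactly this order. -/
theorem result {F : Type*} [Field F] [Fintype F] (d : ℕ) (hd : 1 ≤ d) :
    (∀ g : (GL (Fin d) F ⧸ Subgroup.center (GL (Fin d) F)), (Fintype.card F - 1) * orderOf g ≤ Fintype.card F ^ d - 1) ∧
    (∃ g : (GL (Fin d) F ⧸ Subgroup.center (GL (Fin d) F)), (Fintype.card F - 1) * orderOf g = Fintype.card F ^ d - 1) := by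
  classical
  set q := Fintype.card F
  set Z := Subgroup.center (GL (Fin d) F)
  have hq : 1 < q := Fintype.one_lt_card
  haveI : NeZero d := ⟨by omega⟩
  have hZ : Nat.card Z = q - 1 := by
    have hinj : Function.Injective (Matrix.GeneralLinearGroup.scalar (Fin d) : Fˣ →* GL (Fin d) F) := by
      intro a b h
      apply Units.ext
      have := congrArg (fun g : GL (Fin d) F => (g : Matrix (Fin d) (Fin d) F) 0 0) h
      simpa using this
    show Nat.card (Subgroup.center (GL (Fin d) F)) = q - 1
    rw [Matrix.GeneralLinearGroup.center_eq_range_scalar,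
      Nat.card_congr (MonoidHom.ofInjective hinj).symm.toEquiv, Nat.card_units,
      Nat.card_eq_fintype_card]
  have hpre : ∀ x : GL (Fin d) F,
      Nat.card ((Subgroup.zpowers (x : GL (Fin d) F ⧸ Z)).comap (QuotientGroup.mk' Z)) =
        orderOf (x : GL (Fin d) F ⧸ Z) * (q - 1) := by
    intro x
    rw [Subgroup.card_eq_card_quotient_mul_card_subgroup
      (Z.subgroupOf ((Subgroup.zpowers (x : GL (Fin d) F ⧸ Z)).comap (QuotientGroup.mk' Z)))]
    have hle : Z ≤ (Subgroup.zpowers (x : GL (Fin d) F ⧸ Z)).comap (QuotientGroup.mk' Z) := by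
      intro z hz
      rw [Subgroup.mem_comap, QuotientGroup.mk'_apply, (QuotientGroup.eq_one_iff z).2 hz]
      exact one_mem _
    rw [Nat.card_congr (Subgroup.subgroupOfEquivOfLe hle).toEquiv, hZ]
    congr 1
    rw [← Subgroup.index_eq_card]
    show Z.relIndex _ = _
    conv_lhs => arg 1; rw [← QuotientGroup.ker_mk' Z]
    rw [← MonoidHom.comap_bot, Subgroup.relIndex_comap,
      Subgroup.map_comap_eq_self_of_surjective (QuotientGroup.mk'_surjective Z),
      Subgroup.relIndex_bot_left, Nat.card_zpowers]
  have upper : ∀ x : GL (Fin d) F, (q - 1) * orderOf (x : GL (Fin d) F ⧸ Z) ≤ q ^ d - 1 := by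
    intro x
    let Φ : (Fin d → F) → Matrix (Fin d) (Fin d) F := fun c => ∑ i, c i • (x : Matrix (Fin d) (Fin d) F) ^ (i : ℕ)
    have hmem : ∀ y ∈ (Subgroup.zpowers (x : GL (Fin d) F ⧸ Z)).comap (QuotientGroup.mk' Z),
        ∃ c, c ≠ 0 ∧ Φ c = (y : Matrix (Fin d) (Fin d) F) := by
      intro y hy
      rw [Subgroup.mem_comap, QuotientGroup.mk'_apply, mem_zpowers_iff_mem_range_orderOf] at hy
      obtain ⟨k, -, hk⟩ := Finset.mem_image.1 hy
      replace hk : ((x ^ k : GL (Fin d) F) : GL (Fin d) F ⧸ Z) = (y : GL (Fin d) F ⧸ Z) := hk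
      rw [QuotientGroup.eq] at hk
      have hk' : (x ^ k)⁻¹ * y ∈ Subgroup.center (GL (Fin d) F) := hk
      rw [Matrix.GeneralLinearGroup.center_eq_range_scalar] at hk'
      obtain ⟨a, ha⟩ := hk'
      have hy' : (y : Matrix (Fin d) (Fin d) F) = (a : F) • (x : Matrix (Fin d) (Fin d) F) ^ k := by
        have : y = x ^ k * Matrix.GeneralLinearGroup.scalar (Fin d) a := by
          rw [ha, mul_inv_cancel_left]
        rw [this, Units.val_mul, Units.val_pow_eq_pow_val]
        show _ * Matrix.scalar (Fin d) (a : F) = _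
        rw [Matrix.scalar_apply, ← Matrix.smul_one_eq_diagonal, mul_smul_comm, mul_one]
      set r := (Polynomial.X ^ k %ₘ (x : Matrix (Fin d) (Fin d) F).charpoly : Polynomial F)
      have hr : r.natDegree < d := by
        have hdeg := Matrix.charpoly_natDegree_eq_dim (x : Matrix (Fin d) (Fin d) F)
        rw [Fintype.card_fin] at hdeg
        exact lt_of_lt_of_eq (Polynomial.natDegree_modByMonic_lt (Polynomial.X ^ k : Polynomial F)
          (Matrix.charpoly_monic (x : Matrix (Fin d) (Fin d) F))
          (fun h => by rw [h, Polynomial.natDegree_one] at hdeg; omega)) hdeg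
      refine ⟨fun i => (a : F) * r.coeff i, fun h0 => ?_, ?_⟩
      · have h00 : (y : Matrix (Fin d) (Fin d) F) = 0 := by
          rw [hy', Matrix.pow_eq_aeval_mod_charpoly, Polynomial.aeval_eq_sum_range' hr,
            Finset.sum_range, Finset.smul_sum]
          refine Finset.sum_eq_zero fun i _ => ?_
          rw [smul_smul, show (a : F) * r.coeff i = 0 from congrFun h0 i, zero_smul]
        exact y.ne_zero h00
      · rw [hy', Matrix.pow_eq_aeval_mod_charpoly, Polynomial.aeval_eq_sum_range' hr,
          Finset.sum_range, Finset.smul_sum]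
        exact Finset.sum_congr rfl fun i _ => by rw [smul_smul]
    choose c hc0 hc using hmem
    rw [mul_comm, ← hpre]
    have hle := Nat.card_le_card_of_injective
      (fun y : ↥((Subgroup.zpowers (x : GL (Fin d) F ⧸ Z)).comap (QuotientGroup.mk' Z)) =>
        (⟨c y y.2, hc0 y y.2⟩ : {v : Fin d → F // v ≠ 0}))
      (fun y z h => by
        apply Subtype.ext; apply Units.ext
        have h' : c y y.2 = c z z.2 := congrArg Subtype.val h
        rw [← hc y y.2, ← hc z z.2, h'])
    refine hle.trans (le_of_eq ?_)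
    rw [Nat.card_eq_fintype_card, Fintype.card_subtype_compl, Fintype.card_subtype_eq,
      Fintype.card_fun, Fintype.card_fin]
  refine ⟨fun g => ?_, ?_⟩
  · induction g using QuotientGroup.induction_on with
    | H x => exact upper x
  · have hp : Fact (ringChar F).Prime := ⟨CharP.char_is_prime F (ringChar F)⟩
    let K := FiniteField.Extension F (ringChar F) d
    haveI : Fintype K := Fintype.ofFinite K
    let b : Module.Basis (Fin d) F K :=
      Module.finBasisOfFinrankEq F K (FiniteField.finrank_extension F (ringChar F) d)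
    let L : Kˣ →* GL (Fin d) F := Units.map (Algebra.leftMulMatrix b : K →* Matrix (Fin d) (Fin d) F)
    have hL : Function.Injective L := Units.map_injective (Algebra.leftMulMatrix_injective b)
    obtain ⟨u, hu⟩ := IsCyclic.exists_generator (α := Kˣ)
    refine ⟨((L u : GL (Fin d) F) : GL (Fin d) F ⧸ Z), le_antisymm (upper _) ?_⟩
    have hcard : Nat.card Kˣ = q ^ d - 1 := by
      rw [Nat.card_units, FiniteField.natCard_extension, Nat.card_eq_fintype_card]
    rw [mul_comm, ← hpre, ← hcard]
    refine Nat.card_le_card_of_injective (fun w => ⟨L w, ?_⟩) (fun a c h => hL (congrArg Subtype.val h))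
    obtain ⟨k, rfl⟩ := hu w
    rw [Subgroup.mem_comap, map_zpow, map_zpow]
    exact zpow_mem (Subgroup.mem_zpowers _) _

end Cfsg.Agent.S2261
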