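import Cfsg.Statements.S2262
import Cfsg.Agent.Lib.KnownB.MaxAutOrder.Main

set_option autoImplicit false
open Cfsg

namespace Cfsg.Agent.S2262

/-- Let F be a finite field with q elements and d ≥ 2, with q ≥ 4 when d = 2, and (d, q) ∉ {(2, 4), (3, 2)}. Then every automorphism of the simple group PSL_d(F) has order at most (q^d − 1)/(q − 1) as an element of the automorphism group, and some automorphism has exactly this order. -/
theorem result {F : Type*} [Field F] [Fintype F] (d : ℕ) (hd : 2 ≤ d)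
    (h2 : d = 2 → 4 ≤ Fintype.card F) (h24 : ¬ (d = 2 ∧ Fintype.card F = 4)) (h32 : ¬ (d = 3 ∧ Fintype.card F = 2)) :
    (∀ φ : MulAut (Matrix.ProjectiveSpecialLinearGroup (Fin d) F),
      (Fintype.card F - 1) * orderOf φ ≤ Fintype.card F ^ d - 1) ∧
    (∃ φ : MulAut (Matrix.ProjectiveSpecialLinearGroup (Fin d) F),
      (Fintype.card F - 1) * orderOf φ = Fintype.card F ^ d - 1) := by
  rw [Fintype.card_eq_nat_card] at *
  refine ⟨fun φ => CfsgLib.KnownB.MaxAutOrder.aut_bound hd h24 h32 φ, ?_⟩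
  obtain ⟨φ, hφ⟩ := CfsgLib.KnownB.MaxAutOrder.exists_singer (F := F) hd
  exact ⟨φ, le_antisymm (CfsgLib.KnownB.MaxAutOrder.aut_bound hd h24 h32 φ) hφ⟩

end Cfsg.Agent.S2262
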