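import Cfsg.Statements.S2263
import Cfsg.Agent.Lib.KnownB.PGUOrders.Shape
import Cfsg.Agent.Lib.KnownB.PGUOrders.Tori
-- import your own Cfsg.Agent.* helpers here

set_option autoImplicit false
open Cfsg

namespace Cfsg.Agent.S2263

open CfsgLib.KnownB.PGUOrders

theorem pow_grow {q : ℕ} (hq : 3 ≤ q) : ∀ P, 2 ≤ P → (q + 1) * P + 1 ≤ q ^ P := by
  intro P hP
  induction P, hP using Nat.le_induction with
  | base => rw [pow_two]; nlinarith
  | succ P hP ih => rw [pow_succ]; nlinarith [Nat.mul_le_mul ih hq]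

theorem pow_grow_two : ∀ P, 3 ≤ P → 3 * P ≤ 2 ^ P + 1 := by
  intro P hP
  induction P, hP using Nat.le_induction with
  | base => norm_num
  | succ P hP ih => rw [pow_succ]; omega

theorem lin_le {q : ℕ} (hq : 3 ≤ q) : ∀ d, 3 ≤ d → q * (d - 1) + 1 ≤ q ^ (d - 1) := by
  intro d hd
  have h := pow_grow hq (d - 1) (by omega)
  have : q * (d - 1) ≤ (q + 1) * (d - 1) := Nat.mul_le_mul_right _ (Nat.le_succ q)
  omega

/-- All four bounds from the shape of an order `v * p ^ s`. -/
theorem bounds {p f d q v s : ℕ} (hp : p.Prime) (hf : 1 ≤ f) (hq : q = p ^ f) (hd : 3 ≤ d)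
    (h32 : ¬ (d = 3 ∧ q = 2))
    (hsh : (∃ a, 0 < a ∧ a ≤ d ∧ v ≤ q ^ (a - 1) ∧ (2 ≤ a → v < q ^ (a - 1)) ∧
        (0 < s → a * (p ^ (s - 1) + 1) ≤ d)) ∨
      ∃ S, 2 ≤ S ∧ S ≤ d ∧ Small q S v ∧ (0 < s → S + p ^ (s - 1) ≤ d)) :
    (Odd d → 2 ≤ f → v * p ^ s ≤ q ^ (d - 1) - 1) ∧
    (Odd d → f = 1 → v * p ^ s ≤ (p ^ (d - 2) + 1) * p) ∧
    (Even d → 2 < q → v * p ^ s ≤ q ^ (d - 1) + 1) ∧
    (Even d → q = 2 → v * p ^ s ≤ 4 * (2 ^ (d - 3) + 1)) := by
  have hp2 := hp.two_le
  have hpq : p ≤ q := hq ▸ Nat.le_self_pow (by omega) p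
  have hf1 : f = 1 → q = p := fun e => by rw [hq, e, pow_one]
  have hf2 : 2 ≤ f → p * p ≤ q := fun e => by
    rw [hq, ← pow_two]; exact Nat.pow_le_pow_right hp.pos e
  have hD : q ^ (d - 1) = q ^ (d - 2) * q := by rw [← pow_succ]; congr 1; omega
  have hD3 : q = 2 → 4 * (2 ^ (d - 3) + 1) = q ^ (d - 1) + 4 := fun e => by
    rw [e, show (2 : ℕ) ^ (d - 1) = 2 ^ (d - 3) * 2 ^ 2 by rw [← pow_add]; congr 1; omega]; ring
  have hstd : (3 ≤ q → v * p ^ s + 1 ≤ q ^ (d - 1)) → v * p ^ s ≤ q ^ (d - 1) + 2 →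
      (Odd d → 2 ≤ f → v * p ^ s ≤ q ^ (d - 1) - 1) ∧
      (Odd d → f = 1 → v * p ^ s ≤ (p ^ (d - 2) + 1) * p) ∧
      (Even d → 2 < q → v * p ^ s ≤ q ^ (d - 1) + 1) ∧
      (Even d → q = 2 → v * p ^ s ≤ 4 * (2 ^ (d - 3) + 1)) := by
    intro h3 h2
    refine ⟨fun _ e => ?_, fun _ e => ?_, fun _ e => ?_, fun _ e => ?_⟩
    · have := h3 (by nlinarith [hf2 e]); omega
    · rw [show (p ^ (d - 2) + 1) * p = q ^ (d - 1) + q by rw [hD, hf1 e]; ring]; omega
    · have := h3 e; omega
    · rw [hD3 e]; omega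
  rcases hsh with ⟨a, ha, had, hv, hvlt, hs⟩ | ⟨S, hS2, hSd, hsm, hs⟩
  · rcases Nat.eq_zero_or_pos s with rfl | hspos
    · rw [pow_zero, mul_one] at hstd ⊢
      have h1 : v + 1 ≤ q ^ (d - 1) := by
        rcases Nat.lt_or_ge a 2 with ha2 | ha2
        · rw [show a = 1 by omega] at hv
          have : q ≤ q ^ (d - 1) := Nat.le_self_pow (by omega) q
          simp at hv; omega
        · exact (hvlt ha2).trans_le (Nat.pow_le_pow_right (by omega) (by omega))
      exact hstd (fun _ => h1) (by omega)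
    · obtain ⟨t, rfl⟩ : ∃ t, s = t + 1 := ⟨s - 1, by omega⟩
      have hroom := hs hspos
      rw [Nat.add_sub_cancel] at hroom
      set P := p ^ t with hP
      have hP1 : 1 ≤ P := Nat.one_le_pow _ _ hp.pos
      rw [pow_succ, ← hP] at hstd ⊢
      rcases Nat.lt_or_ge a 2 with ha2 | ha2
      · rw [show a = 1 by omega] at hv hroom
        rw [one_mul] at hroom
        simp at hv
        have hk : v * (P * p) ≤ q * (d - 1) :=
          calc v * (P * p) ≤ 1 * (P * p) := Nat.mul_le_mul_right _ hv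
            _ = p * P := by ring
            _ ≤ q * (d - 1) := Nat.mul_le_mul hpq (by omega)
        refine hstd (fun h3 => ?_) ?_
        · have := lin_le h3 d hd; omega
        · rcases Nat.lt_or_ge q 3 with h3 | h3
          · have hq2 : q = 2 := by omega
            rw [hq2] at hk ⊢
            have : d - 1 < 2 ^ (d - 1) := Nat.lt_two_pow_self
            have : (2 : ℕ) ^ (d - 1) = 2 * 2 ^ (d - 2) := by rw [← pow_succ']; congr 1; omega
            have : d - 2 < 2 ^ (d - 2) := Nat.lt_two_pow_self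
            omega
          · have := lin_le h3 d hd; omega
      · have hexp : a - 1 + P + 1 ≤ d - 1 := by nlinarith [show a - 1 + 1 = a by omega, show d - 1 + 1 = d by omega]
        have hPq : P * p ≤ q ^ P := by
          rw [mul_comm, ← Nat.sub_add_cancel hP1, pow_succ']
          exact Nat.mul_le_mul hpq (by
            have := Nat.lt_pow_self (n := P - 1) (show 1 < q by omega); omega)
        have h1 : v * (P * p) + 1 ≤ q ^ (d - 1) := by
          refine Nat.succ_le_of_lt ?_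
          calc v * (P * p) < q ^ (a - 1) * (P * p) :=
                Nat.mul_lt_mul_of_pos_right (hvlt ha2) (Nat.mul_pos hP1 hp.pos)
            _ ≤ q ^ (a - 1) * q ^ P := Nat.mul_le_mul_left _ hPq
            _ ≤ q ^ (d - 1) := by rw [← pow_add]; exact Nat.pow_le_pow_right (by omega) (by omega)
        exact hstd (fun _ => h1) (by omega)
  · rcases Nat.eq_zero_or_pos s with rfl | hspos
    · rw [pow_zero, mul_one] at hstd ⊢
      have hle : v ≤ q ^ (d - 1) + 1 :=
        hsm.le.trans (Nat.add_le_add_right (Nat.pow_le_pow_right (by omega) (by omega)) 1)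
      have hodd : Odd d → v + 1 ≤ q ^ (d - 1) := by
        intro ho
        rcases hSd.eq_or_lt with rfl | hlt
        · exact hsm.2 ho
        · have h1 := hsm.le.trans (Nat.add_le_add_right
            (Nat.pow_le_pow_right (show 0 < q by omega) (show S - 1 ≤ d - 2 by omega)) 1)
          have h2 : q ^ (d - 2) * 2 ≤ q ^ (d - 1) := hD ▸ Nat.mul_le_mul_left _ (by omega)
          have h3 : q ≤ q ^ (d - 2) := Nat.le_self_pow (by omega) q
          omega
      refine ⟨fun ho _ => ?_, fun ho e => ?_, fun _ _ => hle, fun _ e => ?_⟩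
      · have := hodd ho; omega
      · have := hodd ho; rw [add_mul, one_mul, ← hf1 e, ← hD]; omega
      · rw [hD3 e]; omega
    · obtain ⟨t, rfl⟩ : ∃ t, s = t + 1 := ⟨s - 1, by omega⟩
      have hroom := hs hspos
      rw [Nat.add_sub_cancel] at hroom
      set P := p ^ t with hP
      have hP1 : 1 ≤ P := Nat.one_le_pow _ _ hp.pos
      rw [pow_succ, ← hP] at hstd ⊢
      rcases hP1.eq_or_lt with hPone | hP2
      · rw [← hPone] at hroom
        rw [← hPone, one_mul] at hstd ⊢
        have hle : v ≤ q ^ (d - 2) + 1 := hsm.le.trans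
          (Nat.add_le_add_right (Nat.pow_le_pow_right (by omega) (by omega)) 1)
        have hvp : v * p ≤ (q ^ (d - 2) + 1) * p := Nat.mul_le_mul_right _ hle
        have heven : Even d → v * p ≤ q ^ (d - 1) + 1 := by
          intro he
          rcases (show S ≤ d - 1 by omega).eq_or_lt with rfl | hlt
          · have h1 := hsm.2 (Nat.Even.sub_odd (by omega) he odd_one)
            rw [show d - 1 - 1 = d - 2 by omega] at h1
            calc v * p ≤ q ^ (d - 2) * q := Nat.mul_le_mul (by omega) hpq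
              _ ≤ q ^ (d - 1) + 1 := by rw [← hD]; omega
          · have h1 : v ≤ q ^ (d - 3) + 1 := hsm.le.trans
              (Nat.add_le_add_right (Nat.pow_le_pow_right (by omega) (by omega)) 1)
            have h2 : v * p ≤ (q ^ (d - 3) + 1) * q := Nat.mul_le_mul h1 hpq
            rw [add_mul, one_mul, ← pow_succ, show d - 3 + 1 = d - 2 by omega] at h2
            have h3 : q ^ (d - 2) * 2 ≤ q ^ (d - 1) := hD ▸ Nat.mul_le_mul_left _ (by omega)
            have h4 : q ≤ q ^ (d - 2) := Nat.le_self_pow (by omega) q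
            omega
        refine ⟨fun _ e => ?_, fun _ e => ?_, fun he _ => heven he, fun he e => ?_⟩
        · have h1 := hf2 e
          have h2 : q ≤ q ^ (d - 2) := Nat.le_self_pow (by omega) q
          have h3 : q ^ (d - 2) * (p * p) ≤ q ^ (d - 1) := hD ▸ Nat.mul_le_mul_left _ h1
          have h4 : (q ^ (d - 2) + 1) * p + 1 ≤ q ^ (d - 2) * (p * p) := by
            nlinarith [Nat.mul_le_mul_left (q ^ (d - 2) * p) hp2, Nat.mul_le_mul_right p (h1.trans h2)]
          omega
        · calc v * p ≤ (q ^ (d - 2) + 1) * p := hvp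
            _ = (p ^ (d - 2) + 1) * p := by rw [hf1 e]
        · rw [hD3 e]; have := heven he; omega
      · have hv : v ≤ q ^ (d - 1 - P) + 1 := hsm.le.trans
          (Nat.add_le_add_right (Nat.pow_le_pow_right (by omega) (by omega)) 1)
        have hsplit : q ^ (d - 1) = q ^ (d - 1 - P) * q ^ P := by rw [← pow_add]; congr 1; omega
        have hX : q ≤ q ^ (d - 1 - P) := Nat.le_self_pow (by omega) q
        rcases Nat.lt_or_ge q 3 with hq3 | hq3
        · have hq2 : q = 2 := by omega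
          have hp' : p = 2 := le_antisymm (by omega) hp2
          subst hp'
          have hf' : f = 1 := by
            by_contra hne
            have := hf2 (by omega); omega
          rcases (show 2 ≤ P from hP2).eq_or_lt with hP' | hP3
          · rw [← hP'] at hroom hv hsplit ⊢
            rw [hq2] at hv hsm
            refine ⟨fun _ e => absurd e (by omega), fun ho _ => ?_, fun _ e => absurd e (by omega), fun _ _ => ?_⟩
            · have hd1 : (2 : ℕ) ^ (d - 2) = 2 * 2 ^ (d - 3) := by rw [← pow_succ']; congr 1; omega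
              rcases (show S ≤ d - 2 by omega).eq_or_lt with rfl | hlt
              · have h1 := hsm.2 (Nat.Odd.sub_even (by omega) ho even_two)
                rw [show d - 2 - 1 = d - 3 by omega] at h1
                omega
              · have h1 : v ≤ 2 ^ (d - 4) + 1 := hsm.le.trans
                  (Nat.add_le_add_right (Nat.pow_le_pow_right (by omega) (by omega)) 1)
                have hd2 : (2 : ℕ) ^ (d - 3) = 2 * 2 ^ (d - 4) := by rw [← pow_succ']; congr 1; omega
                have hd3 : 1 ≤ (2 : ℕ) ^ (d - 4) := Nat.one_le_pow _ _ two_pos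
                omega
            · rw [show d - 1 - 2 = d - 3 by omega] at hv
              omega
          · refine hstd (fun h => absurd h (by omega)) ?_
            have h1 := pow_grow_two P hP3
            rw [hsplit, hq2]
            rw [hq2] at hv hX
            generalize (2 : ℕ) ^ (d - 1 - P) = X at hv hX ⊢
            generalize (2 : ℕ) ^ P = Y at h1 ⊢
            nlinarith [Nat.mul_le_mul_right (P * 2) hv, Nat.mul_le_mul_left X h1, Nat.mul_le_mul_right P hX]
        · have h1 := pow_grow hq3 P hP2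
          have h2 : v * (P * p) + 1 ≤ q ^ (d - 1) := by
            rw [hsplit]
            have h3 : v * (P * p) ≤ (q ^ (d - 1 - P) + 1) * (P * q) :=
              Nat.mul_le_mul hv (Nat.mul_le_mul_left _ hpq)
            generalize q ^ (d - 1 - P) = X at hX h3 ⊢
            generalize q ^ P = Y at h1 ⊢
            nlinarith [Nat.mul_le_mul_left X h1, Nat.mul_le_mul_right P hX]
          exact hstd (fun _ => h2) (by omega)

/-- Let q = p^f with p prime and f ≥ 1, F a field with q² elements, d ≥ 3 with (d, q) ≠ (3, 2), and PGU_d(q) the general unitary group of the standard Hermitian form modulo its centre. Then the largest order of an element of PGU_d(q) is: q^(d−1) − 1 if d is odd and f ≥ 2; (p^(d−2) + 1)p if d is odd and f = 1; q^(d−1) + 1 if d is even and q > 2; 4(2^(d−3) + 1) if d is even and q = 2. -/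
theorem result {F : Type*} [Field F] [Fintype F] (p f d : ℕ) (hp : p.Prime) (hf : 1 ≤ f) (q : ℕ) (hq : q = p ^ f)
    (hF : Fintype.card F = q ^ 2) (hd : 3 ≤ d) (h32 : ¬ (d = 3 ∧ q = 2)) :
    (Odd d → 2 ≤ f → (∀ g : (↥(Cfsg.GU d F q) ⧸ Subgroup.center ↥(Cfsg.GU d F q)), orderOf g ≤ q ^ (d - 1) - 1) ∧ ∃ g : (↥(Cfsg.GU d F q) ⧸ Subgroup.center ↥(Cfsg.GU d F q)), orderOf g = q ^ (d - 1) - 1) ∧
    (Odd d → f = 1 → (∀ g : (↥(Cfsg.GU d F q) ⧸ Subgroup.center ↥(Cfsg.GU d F q)), orderOf g ≤ (p ^ (d - 2) + 1) * p) ∧ ∃ g : (↥(Cfsg.GU d F q) ⧸ Subgroup.center ↥(Cfsg.GU d F q)), orderOf g = (p ^ (d - 2) + 1) * p) ∧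
    (Even d → 2 < q → (∀ g : (↥(Cfsg.GU d F q) ⧸ Subgroup.center ↥(Cfsg.GU d F q)), orderOf g ≤ q ^ (d - 1) + 1) ∧ ∃ g : (↥(Cfsg.GU d F q) ⧸ Subgroup.center ↥(Cfsg.GU d F q)), orderOf g = q ^ (d - 1) + 1) ∧
    (Even d → q = 2 → (∀ g : (↥(Cfsg.GU d F q) ⧸ Subgroup.center ↥(Cfsg.GU d F q)), orderOf g ≤ 4 * (2 ^ (d - 3) + 1)) ∧ ∃ g : (↥(Cfsg.GU d F q) ⧸ Subgroup.center ↥(Cfsg.GU d F q)), orderOf g = 4 * (2 ^ (d - 3) + 1)) := by
  classical
  haveI := Fact.mk hp
  obtain ⟨p', hp'⟩ := CharP.exists F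
  haveI := Fact.mk (CharP.char_is_prime F p')
  obtain ⟨k, hk⟩ := CfsgLib.KnownB.PSUOrders.exists_prime_pow hF p'
  have hpp : p = p' := by
    have h1 : p ∣ p' ^ k := hk ▸ hq ▸ dvd_pow_self p (by omega)
    exact (Nat.prime_dvd_prime_iff_eq hp Fact.out).1 (hp.dvd_of_dvd_pow h1)
  subst hpp
  obtain ⟨σ, h⟩ := CfsgLib.Classical.Unitary.exists_uFrob (q := q) (F := F) (by rw [Nat.card_eq_fintype_card, hF])
  have hq2 : 2 ≤ q := hq ▸ hp.two_le.trans (Nat.le_self_pow (by omega) p)
  have hup : ∀ x : (↥(Cfsg.GU d F q) ⧸ Subgroup.center ↥(Cfsg.GU d F q)),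
      (Odd d → 2 ≤ f → orderOf x ≤ q ^ (d - 1) - 1) ∧ (Odd d → f = 1 → orderOf x ≤ (p ^ (d - 2) + 1) * p) ∧
      (Even d → 2 < q → orderOf x ≤ q ^ (d - 1) + 1) ∧ (Even d → q = 2 → orderOf x ≤ 4 * (2 ^ (d - 3) + 1)) := by
    intro x
    obtain ⟨g, rfl⟩ := QuotientGroup.mk_surjective x
    obtain ⟨v, s, hv, ⟨c, hc⟩, hsh⟩ := exists_shape p hF h hq2 (by omega)
      ((CfsgLib.Geometry.UnSplit.mem_GU_iff_mul h).1 g.2)
    have hle : orderOf (QuotientGroup.mk g : ↥(Cfsg.GU d F q) ⧸ Subgroup.center ↥(Cfsg.GU d F q)) ≤ v * p ^ s :=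
      Nat.le_of_dvd (Nat.mul_pos hv (pow_pos hp.pos s)) (orderOf_dvd_of_pow_eq_one (mk_pow_of_scalar hc))
    obtain ⟨b1, b2, b3, b4⟩ := bounds hp hf hq hd h32 hsh
    exact ⟨fun a b => hle.trans (b1 a b), fun a b => hle.trans (b2 a b), fun a b => hle.trans (b3 a b),
      fun a b => hle.trans (b4 a b)⟩
  refine ⟨fun ho e => ⟨fun x => (hup x).1 ho e, ?_⟩, fun ho e => ⟨fun x => (hup x).2.1 ho e, ?_⟩,
    fun he e => ⟨fun x => (hup x).2.2.1 he e, ?_⟩, fun he e => ⟨fun x => (hup x).2.2.2 he e, ?_⟩⟩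
  · obtain ⟨x, hx⟩ := exists_large p hF h (n := d) (a := d - 1) (b := 1) (by omega) one_pos (by omega)
    rw [if_pos (Nat.Odd.sub_odd ho odd_one), Nat.clog_of_right_le_one le_rfl, pow_zero, mul_one] at hx
    exact ⟨x, le_antisymm ((hup x).1 ho e) (Nat.le_of_dvd (orderOf_pos x) hx)⟩
  · obtain ⟨x, hx⟩ := exists_large p hF h (n := d) (a := d - 2) (b := 2) (by omega) two_pos (by omega)
    have hqp : q = p := by rw [hq, e, pow_one]
    rw [if_neg (Nat.not_even_iff_odd.2 (Nat.Odd.sub_even (by omega) ho even_two)),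
      Nat.clog_eq_one le_rfl hp.two_le, pow_one] at hx
    refine ⟨x, le_antisymm ((hup x).2.1 ho e) ?_⟩
    have h1 := Nat.le_of_dvd (orderOf_pos x) hx
    rwa [show q ^ (d - 2) = p ^ (d - 2) by rw [hqp]] at h1
  · obtain ⟨x, hx⟩ := exists_large p hF h (n := d) (a := d - 1) (b := 1) (by omega) one_pos (by omega)
    rw [if_neg (Nat.not_even_iff_odd.2 (Nat.Even.sub_odd (by omega) he odd_one)),
      Nat.clog_of_right_le_one le_rfl, pow_zero, mul_one] at hx
    exact ⟨x, le_antisymm ((hup x).2.2.1 he e) (Nat.le_of_dvd (orderOf_pos x) hx)⟩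
  · have hd4 : 4 ≤ d := by obtain ⟨i, rfl⟩ := he; omega
    obtain ⟨x, hx⟩ := exists_large p hF h (n := d) (a := d - 3) (b := 3) (by omega) (by norm_num) (by omega)
    have hp2 : p = 2 := le_antisymm (by rw [← e, hq]; exact Nat.le_self_pow (by omega) p) hp.two_le
    subst hp2
    rw [if_neg (Nat.not_even_iff_odd.2 (Nat.Even.sub_odd (by omega) he (by decide))),
      show Nat.clog 2 3 = 2 from le_antisymm ((Nat.clog_le_iff_le_pow (by norm_num)).2 (by norm_num))
        (Nat.succ_le_of_lt (lt_of_not_ge fun hle => by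
          have := (Nat.clog_le_iff_le_pow (show 1 < 2 by norm_num)).1 hle; norm_num at this))] at hx
    refine ⟨x, le_antisymm ((hup x).2.2.2 he e) ?_⟩
    have h1 := Nat.le_of_dvd (orderOf_pos x) hx
    rw [show q ^ (d - 3) = 2 ^ (d - 3) by rw [e]] at h1
    linarith

end Cfsg.Agent.S2263
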