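import Cfsg.Statements.S2264
import Cfsg.Agent.Lib.KnownB.IsometryOrderBound
import Cfsg.Agent.Lib.Classical.SympSimple

set_option autoImplicit false
open Cfsg

namespace Cfsg.Agent.S2264

/-- Let F be a finite field with q elements and m ≥ 2. Then every element g of PSp_2m(F) satisfies (q − 1)·|g| ≤ q^(m+1), i.e. has order at most q^(m+1)/(q − 1). -/
theorem result {F : Type*} [Field F] [Fintype F] (m : ℕ) (hm : 2 ≤ m) (g : Cfsg.PSp m F) :
    (Fintype.card F - 1) * orderOf g ≤ Fintype.card F ^ (m + 1) := by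
  haveI : Nonempty (Fin m) := ⟨⟨0, by omega⟩⟩
  refine CfsgLib.KnownB.IsometryOrder.orderOf_quotient_center_le
    (Matrix.symplecticGroup (Fin m) F).subtype Subtype.val_injective
    ((Matrix.isUnit_iff_isUnit_det _).2 (Matrix.isUnit_det_J (Fin m) F))
    (fun g => SymplecticGroup.mem_iff'.1 g.2) hm ?_ ?_ ?_ g
  · rw [Fintype.card_sum, Fintype.card_fin]; omega
  · intro _; rw [Fintype.card_sum, Fintype.card_fin]; omega
  · left; rw [Fintype.card_sum, Fintype.card_fin]; omega

end Cfsg.Agent.S2264
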