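import Cfsg.Statements.S2265
import Cfsg.Agent.Lib.KnownB.IsometryOrderBound
import Cfsg.Agent.Lib.Geometry.POmegaStd

set_option autoImplicit false
open Cfsg Matrix

namespace Cfsg.Agent.S2265

open CfsgLib.Geometry in
theorem bound {F : Type*} [Field F] [Fintype F] {ι : Type} [Fintype ι] [DecidableEq ι] (M : Matrix ι ι F)
    (hdet : (M + Mᵀ).det ≠ 0) {Q : (ι → F) → F} (hQ : ⇑(matQuad M) = Q) {m : ℕ} (hm : 2 ≤ m)
    (hN : Fintype.card ι ≤ 2 * m + 1) (hN2 : (2 : F) = 0 → Fintype.card ι ≤ 2 * m)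
    (hsmall : Fintype.card ι ≤ 2 * m ∨ 3 ≤ m) (g : Cfsg.POmega F Q) :
    (Fintype.card F - 1) * orderOf g ≤ Fintype.card F ^ (m + 1) := by
  subst hQ
  let φ : Cfsg.Omega F ⇑(matQuad M) →* Matrix ι ι F :=
    (Units.coeHom (Matrix ι ι F)).comp ((Cfsg.isometryGroup F ⇑(matQuad M)).subtype.comp
      (Cfsg.Omega F ⇑(matQuad M)).subtype)
  refine CfsgLib.KnownB.IsometryOrder.orderOf_quotient_center_le φ
    (fun x y h => Subtype.ext (Subtype.ext (Units.ext h)))
    ((Matrix.isUnit_iff_isUnit_det _).2 (isUnit_iff_ne_zero.2 hdet)) (fun x => ?_) hm hN hN2 hsmall g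
  refine Matrix.toBilin'.injective (LinearMap.ext₂ fun u v => ?_)
  have hmem : ∀ w, matQuad M (φ x *ᵥ w) = matQuad M w := fun w =>
    (x : Cfsg.isometryGroup F ⇑(matQuad M)).2 w w
  rw [Matrix.toBilin'_apply', Matrix.toBilin'_apply', ← mulVec_mulVec, ← mulVec_mulVec, dotProduct_mulVec u,
    vecMul_transpose, ← polar_matQuad, ← polar_matQuad]
  simp only [QuadraticMap.polar, ← Matrix.mulVec_add]
  exact congrArg₂ (· - ·) (congrArg₂ (· - ·) (hmem _) (hmem _)) (hmem _)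

/-- Let F be a finite field with q elements. Every element g of PΩ_(2m+1)(F) (m ≥ 3, q odd), of PΩ⁺_2m(F) (m ≥ 4), or of PΩ⁻_2m(F) (m ≥ 4, the form having an anisotropic binary part) satisfies (q − 1)·|g| ≤ q^(m+1), i.e. has order at most q^(m+1)/(q − 1). -/
theorem result {F : Type*} [Field F] [Fintype F] (m : ℕ) :
    (3 ≤ m → Odd (Fintype.card F) → ∀ g : Cfsg.POmega F (Cfsg.quadFormOdd m F),
      (Fintype.card F - 1) * orderOf g ≤ Fintype.card F ^ (m + 1)) ∧
    (4 ≤ m → ∀ g : Cfsg.POmega F (Cfsg.quadFormPlus m F),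
      (Fintype.card F - 1) * orderOf g ≤ Fintype.card F ^ (m + 1)) ∧
    (4 ≤ m → ∀ a b : F, (∀ z₁ z₂ : F, z₁ ^ 2 + a * z₁ * z₂ + b * z₂ ^ 2 = 0 → z₁ = 0 ∧ z₂ = 0) →
      ∀ g : Cfsg.POmega F (Cfsg.quadFormMinus (m - 1) F a b),
      (Fintype.card F - 1) * orderOf g ≤ Fintype.card F ^ (m + 1)) := by
  refine ⟨fun hm ho g => ?_, fun hm g => ?_, fun hm a b hab g => ?_⟩
  · have h2 : (2 : F) ≠ 0 := fun h0 => by
      obtain ⟨p, hp⟩ := CharP.exists F
      haveI := Fact.mk (CharP.char_is_prime F p)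
      obtain rfl : p = 2 := (Nat.prime_dvd_prime_iff_eq Fact.out Nat.prime_two).1
        ((CharP.cast_eq_zero_iff F p 2).1 (by exact_mod_cast h0))
      obtain ⟨e, -, he⟩ := FiniteField.card F 2
      rw [he] at ho
      exact absurd ho (Nat.not_odd_iff_even.2 (Even.pow_of_ne_zero even_two e.ne_zero))
    have hdet : (CfsgLib.Geometry.oddMat m F + (CfsgLib.Geometry.oddMat m F)ᵀ).det ≠ 0 := by
      rw [CfsgLib.Geometry.det_odd_gram]; simp [h2]
    exact bound (CfsgLib.Geometry.oddMat m F) hdet (CfsgLib.Geometry.coe_matQuad_odd m) (by omega)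
      (by simp [Fintype.card_sum]; omega) (fun h => absurd h h2) (Or.inr hm) g
  · have hdet : (CfsgLib.Geometry.plusMat m F + (CfsgLib.Geometry.plusMat m F)ᵀ).det ≠ 0 := by
      rw [CfsgLib.Geometry.det_plus_gram]; simp
    exact bound (CfsgLib.Geometry.plusMat m F) hdet (CfsgLib.Geometry.coe_matQuad_plus m) (by omega)
      (by simp [Fintype.card_sum]; omega) (fun _ => by simp [Fintype.card_sum]; omega)
      (Or.inl (by simp [Fintype.card_sum]; omega)) g
  · have hdet : (CfsgLib.Geometry.minusMat (m - 1) F a b + (CfsgLib.Geometry.minusMat (m - 1) F a b)ᵀ).det ≠ 0 := by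
      rw [CfsgLib.Geometry.det_minus_gram]
      refine mul_ne_zero (pow_ne_zero _ (neg_ne_zero.2 one_ne_zero)) fun h0 => ?_
      exact (CfsgLib.Geometry.binAniso_discr hab).1 h0
    exact bound (CfsgLib.Geometry.minusMat (m - 1) F a b) hdet (CfsgLib.Geometry.coe_matQuad_minus (m - 1) a b)
      (by omega) (by simp [Fintype.card_sum]; omega) (fun _ => by simp [Fintype.card_sum]; omega)
      (Or.inl (by simp [Fintype.card_sum]; omega)) g

end Cfsg.Agent.S2265
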