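import Cfsg.Statements.S2268


set_option autoImplicit false
open Cfsg

namespace Cfsg.Agent.S2268

/-- Let G be a finite group with an abelian Sylow p-subgroup P and let Q ≤ P. Then N_G(Q) = (N_G(Q) ∩ N_G(P))·C_G(Q), so that N_G(Q)/C_G(Q) is a homomorphic image of the subgroup (N_G(Q) ∩ N_G(P))/C_G(P) of N_G(P)/C_G(P); in particular the order of N_G(Q)/C_G(Q) divides the order of N_G(P)/C_G(P). -/
theorem result {G : Type*} [Group G] [Finite G] {p : ℕ} [Fact p.Prime]
    (P : Sylow p G) (hP : IsMulCommutative (P : Subgroup G)) (Q : Subgroup G) (hQ : Q ≤ (P : Subgroup G)) :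
    Subgroup.normalizer (Q : Set G) =
      (Subgroup.normalizer (Q : Set G) ⊓ Subgroup.normalizer ((P : Subgroup G) : Set G)) ⊔ Subgroup.centralizer (Q : Set G) ∧
    ((Subgroup.centralizer (Q : Set G)).subgroupOf (Subgroup.normalizer (Q : Set G))).index ∣ ((Subgroup.centralizer ((P : Subgroup G) : Set G)).subgroupOf (Subgroup.normalizer ((P : Subgroup G) : Set G))).index := by
  have hPC : (P : Subgroup G) ≤ Subgroup.centralizer (Q : Set G) := fun x hx =>
    Subgroup.mem_centralizer_iff.2 fun q hq =>
      congrArg Subtype.val (hP.is_comm.comm ⟨q, hQ hq⟩ ⟨x, hx⟩)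
  have hCP : Subgroup.centralizer ((P : Subgroup G) : Set G) ≤ Subgroup.centralizer (Q : Set G) :=
    Subgroup.centralizer_le hQ
  have hCN : Subgroup.centralizer (Q : Set G) ≤ Subgroup.normalizer (Q : Set G) :=
    Subgroup.centralizer_le_normalizer _
  have hnorm : ((Subgroup.centralizer (Q : Set G)).subgroupOf (Subgroup.normalizer (Q : Set G))).Normal :=
    inferInstance
  have key : Subgroup.normalizer (Q : Set G) =
      (Subgroup.normalizer (Q : Set G) ⊓ Subgroup.normalizer ((P : Subgroup G) : Set G)) ⊔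
        Subgroup.centralizer (Q : Set G) := by
    refine le_antisymm (fun g hg => ?_) (sup_le inf_le_left hCN)
    have hle : ((g • P : Sylow p G) : Subgroup G) ≤ Subgroup.centralizer (Q : Set G) := by
      intro x hx
      rw [Sylow.coe_subgroup_smul, Subgroup.mem_pointwise_smul_iff_inv_smul_mem] at hx
      have hx' : g⁻¹ * x * g ∈ Subgroup.centralizer (Q : Set G) := by
        simpa [MulAut.smul_def] using hPC hx
      have := hnorm.conj_mem ⟨g⁻¹ * x * g, hCN hx'⟩ hx' ⟨g, hg⟩
      simpa [Subgroup.mem_subgroupOf, mul_assoc] using this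
    obtain ⟨c, hc⟩ := MulAction.exists_smul_eq ↥(Subgroup.centralizer (Q : Set G))
      ((g • P).subtype hle) (P.subtype hPC)
    rw [Sylow.smul_subtype] at hc
    have hc' := Sylow.subtype_injective hc
    have hcg : (c : G) * g ∈ Subgroup.normalizer ((P : Subgroup G) : Set G) := by
      exact Sylow.smul_eq_iff_mem_normalizer.1 ((mul_smul (c : G) g P).trans hc')
    have hmem : (c : G) * g ∈ Subgroup.normalizer (Q : Set G) ⊓
        Subgroup.normalizer ((P : Subgroup G) : Set G) :=
      ⟨mul_mem (hCN c.2) hg, hcg⟩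
    have : g = (c : G)⁻¹ * ((c : G) * g) := by group
    rw [this]
    exact mul_mem (Subgroup.mem_sup_right (inv_mem c.2)) (Subgroup.mem_sup_left hmem)
  refine ⟨key, ?_⟩
  set N := Subgroup.normalizer (Q : Set G)
  set C := Subgroup.centralizer (Q : Set G)
  set NP := Subgroup.normalizer ((P : Subgroup G) : Set G)
  set CP := Subgroup.centralizer ((P : Subgroup G) : Set G)
  set K := N ⊓ NP
  show C.relIndex N ∣ CP.relIndex NP
  have h1 : C.relIndex N = C.relIndex K := by
    have hsup : K.subgroupOf N ⊔ C.subgroupOf N = ⊤ := by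
      rw [← Subgroup.subgroupOf_sup inf_le_left hCN, ← show N = K ⊔ C from key, Subgroup.subgroupOf_self]
    have h := Subgroup.relIndex_sup_right (H := K.subgroupOf N) (C.subgroupOf N)
    rw [hsup, Subgroup.relIndex_top_right, Subgroup.relIndex_subgroupOf inf_le_left] at h
    exact h
  have h2 : C.relIndex K ∣ CP.relIndex K := Subgroup.relIndex_dvd_of_le_left K hCP
  have h3 : CP.relIndex K ∣ CP.relIndex NP := by
    have hn : (CP.subgroupOf NP).Normal := inferInstance
    have := Subgroup.relIndex_dvd_index_of_normal (CP.subgroupOf NP) (K.subgroupOf NP)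
    rwa [Subgroup.relIndex_subgroupOf inf_le_right] at this
  rw [h1]
  exact h2.trans h3

end Cfsg.Agent.S2268
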