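import Cfsg.Statements.S2269
import Cfsg.Agent.Lib.KnownA.AltAbelian

set_option autoImplicit false
open Cfsg

namespace Cfsg.Agent.S2269

/-- Let n ≥ 5 and let P be an abelian Sylow p-subgroup of the alternating group A_n. Then N(P)/C(P) (taken in A_n) has even order, or P is cyclic, except when n = 5 and p = 2, where P is a four-group and N(P)/C(P) has order 3. -/
theorem result (n : ℕ) (hn : 5 ≤ n) {p : ℕ} [Fact p.Prime]
    (P : Sylow p (alternatingGroup (Fin n))) (hP : IsMulCommutative (P : Subgroup (alternatingGroup (Fin n)))) :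
    (¬ (n = 5 ∧ p = 2) → 2 ∣ ((Subgroup.centralizer ((P : Subgroup (alternatingGroup (Fin n))) : Set (alternatingGroup (Fin n)))).subgroupOf (Subgroup.normalizer ((P : Subgroup (alternatingGroup (Fin n))) : Set (alternatingGroup (Fin n))))).index ∨ IsCyclic (P : Subgroup (alternatingGroup (Fin n)))) ∧
    ((n = 5 ∧ p = 2) → ((Subgroup.centralizer ((P : Subgroup (alternatingGroup (Fin n))) : Set (alternatingGroup (Fin n)))).subgroupOf (Subgroup.normalizer ((P : Subgroup (alternatingGroup (Fin n))) : Set (alternatingGroup (Fin n))))).index = 3 ∧ IsKleinFour (P : Subgroup (alternatingGroup (Fin n)))) := by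
  classical
  have hp : p.Prime := Fact.out
  have hcard2 : 2 * Nat.card (alternatingGroup (Fin n)) = n.factorial := by
    have : Nontrivial (Fin n) := Fin.nontrivial_iff_two_le.2 (by omega)
    rw [Nat.card_eq_fintype_card, two_mul_card_alternatingGroup, Fintype.card_perm, Fintype.card_fin]
  set A : Subgroup (Equiv.Perm (Fin n)) :=
    (P : Subgroup (alternatingGroup (Fin n))).map (alternatingGroup (Fin n)).subtype with hA
  have hcomm : ∀ g ∈ A, ∀ h ∈ A, g * h = h * g := by
    rintro _ ⟨g, hg, rfl⟩ _ ⟨h, hh, rfl⟩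
    rw [← map_mul, ← map_mul]
    exact congrArg _ (congrArg Subtype.val (hP.is_comm.comm ⟨g, hg⟩ ⟨h, hh⟩))
  have hcardA : Nat.card A = Nat.card P :=
    (Nat.card_congr ((P : Subgroup (alternatingGroup (Fin n))).equivMapOfInjective _
      (alternatingGroup (Fin n)).subtype_injective).toEquiv).symm
  refine ⟨fun hne5 => ?_, fun h5 => ?_⟩
  · by_cases hp2 : p = 2
    · subst hp2
      exfalso
      have h6 : 6 ≤ n := by
        rcases Nat.lt_or_ge n 6 with h | h
        · exact absurd ⟨by omega, rfl⟩ hne5
        · exact h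
      let z : Equiv.Perm (Fin 4) := Equiv.swap 0 2 * Equiv.swap 1 3
      let D : Subgroup (Equiv.Perm (Fin 4)) := Subgroup.centralizer {z}
      have hD8 : ∀ g : Equiv.Perm (Fin 4), g * z = z * g → g ^ 8 = 1 := by decide +kernel
      have hDp : IsPGroup 2 D := fun g => ⟨3, Subtype.ext (hD8 _
        (Subgroup.mem_centralizer_iff.1 g.2 z rfl).symm)⟩
      let sg : ℤˣ →* Equiv.Perm (Fin 2) :=
        (MulEquiv.ofBijective (Equiv.Perm.sign : Equiv.Perm (Fin 2) →* ℤˣ) (by decide)).symm.toMonoidHom
      let ψ : Equiv.Perm (Fin 4) →* Equiv.Perm (Fin n) :=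
        (Equiv.Perm.viaEmbeddingHom (finSumFinEquiv.toEmbedding.trans (Fin.castLEEmb h6))).comp
          ((Equiv.Perm.sumCongrHom (Fin 4) (Fin 2)).comp
            ((MonoidHom.id _).prod (sg.comp Equiv.Perm.sign)))
      have hsign : ∀ g, Equiv.Perm.sign (ψ g) = 1 := by
        intro g
        show Equiv.Perm.sign (Equiv.Perm.viaEmbedding _ _) = 1
        rw [CfsgLib.KnownA.sign_viaEmbedding_eq]
        show Equiv.Perm.sign (Equiv.Perm.sumCongr g (sg (Equiv.Perm.sign g))) = 1
        rw [Equiv.Perm.sign_sumCongr]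
        have : Equiv.Perm.sign (sg (Equiv.Perm.sign g)) = Equiv.Perm.sign g :=
          (MulEquiv.ofBijective (Equiv.Perm.sign : Equiv.Perm (Fin 2) →* ℤˣ) (by decide)).apply_symm_apply _
        rw [this, Int.units_mul_self]
      let ψ' : Equiv.Perm (Fin 4) →* alternatingGroup (Fin n) :=
        ψ.codRestrict _ (fun g => Equiv.Perm.mem_alternatingGroup.2 (hsign g))
      obtain ⟨Q, hQ⟩ := (hDp.map ψ').exists_le_sylow
      obtain ⟨g, hg⟩ := MulAction.exists_smul_eq (alternatingGroup (Fin n)) P Q
      let a : Equiv.Perm (Fin 4) := Equiv.swap 0 1 * Equiv.swap 1 2 * Equiv.swap 2 3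
      let b : Equiv.Perm (Fin 4) := Equiv.swap 0 2
      have hmemD : ∀ w : Equiv.Perm (Fin 4), w * z = z * w → w ∈ D := fun w hw => by
        rw [Subgroup.mem_centralizer_iff]
        rintro _ rfl
        exact hw.symm
      have hc : ∀ w ∈ D, g⁻¹ * ψ' w * g ∈ (P : Subgroup (alternatingGroup (Fin n))) := by
        intro w hw
        have h := hQ ⟨w, hw, rfl⟩
        rw [← hg, Sylow.coe_subgroup_smul, Subgroup.mem_pointwise_smul_iff_inv_smul_mem] at h
        simpa [MulAut.smul_def] using h
      have h := congrArg Subtype.val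
        (hP.is_comm.comm ⟨_, hc a (hmemD a (by decide +kernel))⟩ ⟨_, hc b (hmemD b (by decide +kernel))⟩)
      have h' : ψ' (a * b) = ψ' (b * a) := by
        have h2 : g⁻¹ * ψ' a * g * (g⁻¹ * ψ' b * g) = g⁻¹ * ψ' b * g * (g⁻¹ * ψ' a * g) := h
        rw [ψ'.map_mul a b, ψ'.map_mul b a]
        calc ψ' a * ψ' b = g * (g⁻¹ * ψ' a * g * (g⁻¹ * ψ' b * g)) * g⁻¹ := by group
          _ = g * (g⁻¹ * ψ' b * g * (g⁻¹ * ψ' a * g)) * g⁻¹ := by rw [h2]
          _ = ψ' b * ψ' a := by group
      have h3 := Equiv.Perm.viaEmbeddingHom_injective _ (congrArg Subtype.val h')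
      have h4 : a * b = b * a := congrArg Prod.fst (Equiv.Perm.sumCongrHom_injective h3)
      exact absurd h4 (by decide +kernel)
    · rcases Classical.em (∃ g ∈ A, ∃ x, g x ≠ x) with ⟨g₀, hg₀, x₀, hx₀⟩ | htriv
      swap
      · push Not at htriv
        right
        have : ∀ g : (P : Subgroup (alternatingGroup (Fin n))), g = 1 := fun g =>
          Subtype.ext (Subtype.ext (Equiv.ext fun x => htriv _ ⟨g, g.2, rfl⟩ x))
        have : Subsingleton (P : Subgroup (alternatingGroup (Fin n))) := ⟨fun a b => by rw [this a, this b]⟩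
        exact isCyclic_of_subsingleton
      let S : Set (Fin n) := {y | ∃ h ∈ A, h x₀ = y}
      have hS : ∀ g ∈ A, ∀ x, g x ∈ S ↔ x ∈ S := by
        intro g hg x
        constructor
        · rintro ⟨h, hh, he⟩
          exact ⟨g⁻¹ * h, A.mul_mem (A.inv_mem hg) hh, by rw [Equiv.Perm.mul_apply, he]; simp⟩
        · rintro ⟨h, hh, he⟩
          exact ⟨g * h, A.mul_mem hg hh, by rw [Equiv.Perm.mul_apply, he]⟩
      have hT : ∀ g ∈ A, ∀ x, g x ∈ Sᶜ ↔ x ∈ Sᶜ := fun g hg x => not_congr (hS g hg x)
      have hneS : ∃ g ∈ A, ∃ x ∈ S, g x ≠ x := ⟨g₀, hg₀, x₀, ⟨1, A.one_mem, rfl⟩, hx₀⟩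
      obtain ⟨s, hs1, hs2, hs3, hs4⟩ := CfsgLib.KnownA.exists_inverter A hcomm S (fun g hg x hx => (hS g hg x).2 hx)
      obtain ⟨t, ht1, ht2, ht3, ht4⟩ := CfsgLib.KnownA.exists_inverter A hcomm Sᶜ (fun g hg x hx => (hT g hg x).2 hx)
      rcases Int.units_eq_one_or (Equiv.Perm.sign s) with hsign | hsign
      · exact Or.inl (CfsgLib.KnownA.automizer_even_of_inverter hp2 P A rfl hcomm S hS hneS s hs1 hs2 hs3 hs4 hsign)
      by_cases hneT : ∃ g ∈ A, ∃ x ∈ Sᶜ, g x ≠ x
      · rcases Int.units_eq_one_or (Equiv.Perm.sign t) with tsign | tsign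
        · exact Or.inl (CfsgLib.KnownA.automizer_even_of_inverter hp2 P A rfl hcomm Sᶜ hT hneT t ht1 ht2 ht3 ht4 tsign)
        have hstS : ∀ x ∈ S, (s * t) x = s x := fun x hx => by
          rw [Equiv.Perm.mul_apply, ht3 x (fun e => e hx)]
        have hstT : ∀ x, x ∉ S → (s * t) x = t x := fun x hx => by
          rw [Equiv.Perm.mul_apply, hs3 _ (ht2 x hx)]
        refine Or.inl (CfsgLib.KnownA.automizer_even_of_inverter hp2 P A rfl hcomm Set.univ (fun _ _ _ => Iff.rfl)
          ⟨g₀, hg₀, x₀, trivial, hx₀⟩ (s * t) ?_ (fun _ _ => trivial) (fun x hx => absurd trivial hx) ?_ ?_)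
        · ext x : 1
          show (s * t) ((s * t) x) = x
          by_cases hx : x ∈ S
          · rw [hstS x hx, hstS _ (hs2 x hx)]; exact Equiv.congr_fun hs1 x
          · rw [hstT x hx, hstT _ (ht2 x hx)]; exact Equiv.congr_fun ht1 x
        · intro g hg x _
          by_cases hx : x ∈ S
          · rw [hstS _ ((hS g hg x).2 hx), hstS x hx, hs4 g hg x hx]
          · rw [hstT _ ((hT g hg x).2 hx), hstT x hx, ht4 g hg x hx]
        · rw [map_mul, hsign, tsign]; rfl
      · right
        push Not at hneT
        have hinj : Function.Injective (fun g : A => (g : Equiv.Perm (Fin n)) x₀) := by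
          intro g h hgh
          apply Subtype.ext
          ext x : 1
          by_cases hx : x ∈ S
          · obtain ⟨k, hk, rfl⟩ := hx
            calc (g : Equiv.Perm (Fin n)) (k x₀) = k ((g : Equiv.Perm (Fin n)) x₀) :=
                  Equiv.congr_fun (hcomm _ g.2 _ hk) x₀
              _ = k ((h : Equiv.Perm (Fin n)) x₀) := by rw [show (g : Equiv.Perm (Fin n)) x₀ = (h : Equiv.Perm (Fin n)) x₀ from hgh]
              _ = (h : Equiv.Perm (Fin n)) (k x₀) := (Equiv.congr_fun (hcomm _ h.2 _ hk) x₀).symm
          · rw [hneT g g.2 x hx, hneT h h.2 x hx]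
        have hle := Nat.card_le_card_of_injective _ hinj
        rw [hcardA, Nat.card_fin, P.card_eq_multiplicity] at hle
        set k := (Nat.card (alternatingGroup (Fin n))).factorization p with hk
        have hval : (n.factorial).factorization p = k := by
          rw [← hcard2, Nat.factorization_mul two_ne_zero Nat.card_pos.ne', Finsupp.add_apply,
            Nat.prime_two.factorization, Finsupp.single_eq_of_ne hp2, zero_add]
        have hk1 : n / p ≤ k := by
          rw [← hval, Nat.factorization_def _ hp, padicValNat_factorial (b := Nat.log p n + 2) (by omega)]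
          refine le_trans (le_of_eq ?_) (Finset.single_le_sum (f := fun i => n / p ^ i) (fun i _ => Nat.zero_le _)
            (Finset.mem_Ico.2 ⟨le_rfl, by omega⟩ : 1 ∈ Finset.Ico 1 (Nat.log p n + 2)))
          rw [pow_one]
        have hk2 : k ≤ 1 := by
          by_contra hk2
          obtain ⟨j, hj⟩ : ∃ j, k = j + 2 := ⟨k - 2, by omega⟩
          rw [hj, pow_succ] at hle
          have h1 : p ^ (j + 1) ≤ n / p := (Nat.le_div_iff_mul_le hp.pos).2 hle
          have h2 : ∀ i, i + 2 < 3 ^ (i + 1) := fun i => by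
            induction i with
            | zero => norm_num
            | succ i ih => rw [pow_succ]; omega
          have h3 : 3 ^ (j + 1) ≤ p ^ (j + 1) :=
            Nat.pow_le_pow_left (by have := hp.two_le; omega) _
          have := h2 j
          omega
        have hPc : Nat.card P = p ^ k := P.card_eq_multiplicity
        interval_cases k
        · have : Subsingleton (P : Subgroup (alternatingGroup (Fin n))) :=
            (Nat.card_eq_one_iff_unique.1 (by simpa using hPc)).1
          exact isCyclic_of_subsingleton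
        · exact isCyclic_of_prime_card (p := p) (by simpa using hPc)
  · obtain ⟨rfl, rfl⟩ := h5
    have h60 : Nat.card (alternatingGroup (Fin 5)) = 60 := by
      have : (Nat.factorial 5) = 120 := by decide
      omega
    have hP4 : Nat.card P = 4 := by
      rw [P.card_eq_multiplicity, h60, show (60 : ℕ) = 2 ^ 2 * 15 by norm_num,
        Nat.factorization_mul (by norm_num) (by norm_num), Finsupp.add_apply,
        Nat.Prime.factorization_pow Nat.prime_two, Finsupp.single_eq_same,
        Nat.factorization_eq_zero_of_not_dvd (by norm_num)]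
      rfl
    have h4 : ∀ g : alternatingGroup (Fin 5), g ^ 4 = 1 → g ^ 2 = 1 := by decide +kernel
    have hexp : ∀ g : (P : Subgroup (alternatingGroup (Fin 5))), g ^ 2 = 1 := fun g => by
      have h := pow_card_eq_one' (x := g)
      rw [hP4] at h
      exact Subtype.ext (by rw [SubmonoidClass.coe_pow]; exact h4 _ (by rw [← SubmonoidClass.coe_pow, h]; rfl))
    have hexp2 : Monoid.exponent (P : Subgroup (alternatingGroup (Fin 5))) = 2 := by
      rcases (Nat.dvd_prime Nat.prime_two).1 (Monoid.exponent_dvd_of_forall_pow_eq_one hexp) with h | h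
      · have := Monoid.exp_eq_one_iff.1 h
        rw [Nat.card_unique] at hP4
        omega
      · exact h
    refine ⟨?_, ⟨hP4, hexp2⟩⟩
    set N := Subgroup.normalizer ((P : Subgroup (alternatingGroup (Fin 5))) : Set (alternatingGroup (Fin 5)))
    set C := Subgroup.centralizer ((P : Subgroup (alternatingGroup (Fin 5))) : Set (alternatingGroup (Fin 5)))
    have hPC : (P : Subgroup (alternatingGroup (Fin 5))) ≤ C := fun x hx =>
      Subgroup.mem_centralizer_iff.2 fun q hq => congrArg Subtype.val (hP.is_comm.comm ⟨q, hq⟩ ⟨x, hx⟩)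
    have h15 : (C.subgroupOf N).index ∣ 15 := by
      show C.relIndex N ∣ 15
      refine (Subgroup.relIndex_dvd_of_le_left N hPC).trans ?_
      have h := (Subgroup.relIndex_mul_index (Subgroup.le_normalizer (H := (P : Subgroup (alternatingGroup (Fin 5))))))
      have h' := Subgroup.card_mul_index (P : Subgroup (alternatingGroup (Fin 5)))
      rw [h60, hP4] at h'
      exact Dvd.intro _ (h.trans (by omega))
    have h24 : (C.subgroupOf N).index ∣ 24 := by
      have hker : ((P : Subgroup (alternatingGroup (Fin 5))).normalizerMonoidHom).ker = C.subgroupOf N :=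
        Subgroup.normalizerMonoidHom_ker _
      rw [← hker, Subgroup.index_ker]
      refine (Subgroup.card_subgroup_dvd_card _).trans ?_
      have hinj : Function.Injective (MulAut.toPerm (P : Subgroup (alternatingGroup (Fin 5)))) := fun a b h =>
        MulEquiv.ext fun x => Equiv.congr_fun h x
      refine (Subgroup.card_dvd_of_injective _ hinj).trans ?_
      rw [Nat.card_perm, hP4]; rfl
    have hne1 : (C.subgroupOf N).index ≠ 1 := by
      intro h1
      rw [Subgroup.index_eq_one, Subgroup.subgroupOf_eq_top] at h1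
      have hco := MonoidHom.ker_transferSylow_isComplement' P h1
      have hmul := hco.card_mul_card
      rw [h60, hP4] at hmul
      rcases (MonoidHom.normal_ker (MonoidHom.transferSylow P h1)).eq_bot_or_eq_top with h | h <;>
        rw [h] at hmul
      · simp at hmul
      · rw [Subgroup.card_top, h60] at hmul; omega
    have h3 : (C.subgroupOf N).index ∣ 3 := Nat.dvd_gcd h15 h24
    rcases (Nat.dvd_prime Nat.prime_three).1 h3 with h | h
    · exact absurd h hne1
    · exact h

end Cfsg.Agent.S2269
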