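import Cfsg.Statements.S2270
import Cfsg.Agent.Lib.KnownA.OrbitInv

set_option autoImplicit false
open Cfsg

namespace Cfsg.Agent.S2270

/-- Let n ≥ 3, p an odd prime, and P an abelian Sylow p-subgroup of the symmetric group S_n (with p dividing n!, so that P ≠ 1). Then N(P)/C(P) has even order. -/
theorem result (n : ℕ) (hn : 3 ≤ n) {p : ℕ} [Fact p.Prime] (hp : p ≠ 2) (hpn : p ≤ n)
    (P : Sylow p (Equiv.Perm (Fin n))) (hP : IsMulCommutative (P : Subgroup (Equiv.Perm (Fin n)))) :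
    2 ∣ ((Subgroup.centralizer ((P : Subgroup (Equiv.Perm (Fin n))) : Set (Equiv.Perm (Fin n)))).subgroupOf (Subgroup.normalizer ((P : Subgroup (Equiv.Perm (Fin n))) : Set (Equiv.Perm (Fin n))))).index := by
  have hcomm : ∀ g ∈ (P : Subgroup (Equiv.Perm (Fin n))), ∀ h ∈ (P : Subgroup (Equiv.Perm (Fin n))),
      g * h = h * g := fun g hg h hh => congrArg Subtype.val (hP.is_comm.comm ⟨g, hg⟩ ⟨h, hh⟩)
  obtain ⟨σ, hσ, -, -, hinv⟩ := CfsgLib.KnownA.exists_inverter
    (P : Subgroup (Equiv.Perm (Fin n))) hcomm Set.univ (fun _ _ _ _ => Set.mem_univ _)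
  have hconj : ∀ g ∈ (P : Subgroup (Equiv.Perm (Fin n))), σ * g * σ⁻¹ = g⁻¹ := fun g hg => by
    rw [mul_inv_eq_iff_eq_mul]
    exact Equiv.ext fun x => hinv g hg x (Set.mem_univ x)
  have hN : σ ∈ Subgroup.normalizer ((P : Subgroup (Equiv.Perm (Fin n))) : Set (Equiv.Perm (Fin n))) := by
    rw [Subgroup.mem_normalizer_iff]
    intro g
    refine ⟨fun hg => by rw [hconj g hg]; exact inv_mem hg, fun hg => ?_⟩
    have h := hconj _ hg
    have hs : σ⁻¹ = σ := inv_eq_of_mul_eq_one_right hσ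
    have : g = (σ * g * σ⁻¹)⁻¹ := by
      rw [← h, hs, ← mul_assoc, ← mul_assoc, hσ, one_mul, mul_assoc, hσ, mul_one]
    rw [this]; exact inv_mem hg
  refine CfsgLib.KnownA.two_dvd_index _ (⟨σ, hN⟩ : ↥(Subgroup.normalizer _)) ?_ ?_
  · intro hC
    rw [Subgroup.mem_subgroupOf] at hC
    have hpcard : p ∣ Nat.card (Equiv.Perm (Fin n)) := by
      rw [Nat.card_eq_fintype_card, Fintype.card_perm, Fintype.card_fin]
      exact Nat.dvd_factorial (Fact.out : p.Prime).pos hpn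
    obtain ⟨x, hx⟩ := exists_prime_orderOf_dvd_card' p (P.dvd_card_of_dvd_card hpcard)
    have hx2 : (x : Equiv.Perm (Fin n))⁻¹ = x := by
      rw [← hconj x x.2, ← Subgroup.mem_centralizer_iff.1 hC x x.2, mul_inv_cancel_right]
    have h2 : x ^ 2 = 1 := Subtype.ext (by
      rw [SubmonoidClass.coe_pow, sq]; nth_rewrite 1 [← hx2]; simp)
    have h3 := orderOf_dvd_of_pow_eq_one h2
    rw [hx] at h3
    exact hp ((Nat.prime_dvd_prime_iff_eq Fact.out Nat.prime_two).1 h3)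
  · rw [Subgroup.mem_subgroupOf, Subgroup.coe_mul, hσ]
    exact one_mem _

end Cfsg.Agent.S2270
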