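import Cfsg.Statements.S2272
-- import your own Cfsg.Agent.* helpers here

set_option autoImplicit false
open Cfsg

namespace Cfsg.Agent.S2272

open Matrix

variable {F : Type*} [Field F] {d : ℕ}

lemma exists_linearFunctional {k : ℕ} {v : Fin k → (Fin d → F)} (hv : LinearIndependent F v)
    (c : Fin k → F) : ∃ φ : Fin d → F, ∀ i, φ ⬝ᵥ v i = c i := by
  obtain ⟨L, hL⟩ := LinearMap.exists_leftInverse_of_injective (Fintype.linearCombination F v)
    (LinearMap.ker_eq_bot.2 hv.fintypeLinearCombination_injective)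
  let f : (Fin d → F) →ₗ[F] F := (Fintype.linearCombination F c).comp L
  refine ⟨fun j => f (Pi.single j 1), fun i => ?_⟩
  have h1 : L (v i) = Pi.single i 1 := by
    have := LinearMap.congr_fun hL (Pi.single i 1)
    simpa using this
  have h2 : f (v i) = c i := by simp [f, h1]
  rw [← h2]
  conv_rhs => rw [pi_eq_sum_univ' (v i)]
  rw [map_sum]
  simp [dotProduct, map_smul, mul_comm]

lemma exists_noneigen (hd : 2 ≤ d) (M : Matrix (Fin d) (Fin d) F)
    (hM : ∀ r : F, Matrix.scalar (Fin d) r ≠ M) :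
    ∃ u : Fin d → F, LinearIndependent F ![u, M *ᵥ u] := by
  by_contra hcon
  push Not at hcon
  have key : ∀ u : Fin d → F, u ≠ 0 → ∃ r : F, r • u = M *ᵥ u := by
    intro u hu
    have := hcon u
    rw [LinearIndependent.pair_iff' hu] at this
    push Not at this
    exact this
  have hdiag : ∀ i j, i ≠ j → M j i = 0 := by
    intro i j hij
    obtain ⟨r, hr⟩ := key (Pi.single i 1) (by simp)
    have := congr_fun hr j
    simpa [hij.symm, Matrix.mulVec_single] using this.symm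
  apply hM (M ⟨0, by omega⟩ ⟨0, by omega⟩)
  ext i j
  by_cases hij : i = j
  · subst hij
    simp only [Matrix.scalar_apply, Matrix.diagonal_apply_eq]
    by_cases hi : i = ⟨0, by omega⟩
    · rw [hi]
    · set o : Fin d := ⟨0, by omega⟩
      obtain ⟨r, hr⟩ := key (Pi.single i 1 + Pi.single o 1) (by
        intro h
        have := congr_fun h o
        simp [Ne.symm hi] at this)
      have h1 := congr_fun hr i
      have h2 := congr_fun hr o
      simp [Matrix.mulVec_add, Matrix.mulVec_single, hi, Ne.symm hi, hdiag o i (Ne.symm hi),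
        hdiag i o hi] at h1 h2
      rw [← h1, ← h2]
  · simp [Matrix.scalar_apply, hij, hdiag j i (Ne.symm hij)]

lemma exists_SL_map (hd : 3 ≤ d) {x y : Fin 2 → (Fin d → F)} (hx : LinearIndependent F x)
    (hy : LinearIndependent F y) :
    ∃ g : Matrix.SpecialLinearGroup (Fin d) F, ∀ i, (g : Matrix (Fin d) (Fin d) F) *ᵥ x i = y i := by
  classical
  obtain ⟨e, he⟩ := Submodule.exists_linearEquiv_restrict_eq
    ((Module.Basis.span hx).equiv (Module.Basis.span hy) (Equiv.refl (Fin 2)))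
  have hg : ∀ i, LinearMap.toMatrix' (e : (Fin d → F) →ₗ[F] (Fin d → F)) *ᵥ x i = y i := by
    intro i
    rw [LinearMap.toMatrix'_mulVec]
    have h := he ⟨x i, Submodule.subset_span (Set.mem_range_self i)⟩
    rw [LinearEquiv.coe_coe, ← h]
    have hbx : (Module.Basis.span hx) i = ⟨x i, Submodule.subset_span (Set.mem_range_self i)⟩ :=
      Module.Basis.span_apply hx i
    rw [← hbx, Module.Basis.equiv_apply, Equiv.refl_apply, Module.Basis.span_apply]
  set G := LinearMap.toMatrix' (e : (Fin d → F) →ₗ[F] (Fin d → F)) with hG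
  have hGdet : G.det ≠ 0 := by
    rw [hG, LinearMap.det_toMatrix']
    exact e.isUnit_det'.ne_zero
  obtain ⟨z, hz⟩ : ∃ z : Fin d → F, z ∉ Submodule.span F (Set.range y) := by
    by_contra hcon
    push Not at hcon
    have h1 : Submodule.span F (Set.range y) = ⊤ := Submodule.eq_top_iff'.2 hcon
    have h2 := finrank_range_le_card (R := F) y
    rw [Set.finrank, h1, finrank_top, Module.finrank_fin_fun] at h2
    simp at h2
    omega
  have htri : LinearIndependent F (Fin.cons z y : Fin 3 → (Fin d → F)) :=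
    linearIndependent_finCons.2 ⟨hy, hz⟩
  obtain ⟨f, hf⟩ := exists_linearFunctional htri (Fin.cons 1 0)
  set s : F := (G.det)⁻¹ - 1 with hs
  have hD : ((1 + vecMulVec (s • z) f) * G).det = 1 := by
    have h0 := hf 0
    simp at h0
    rw [det_mul, vecMulVec_eq Unit, det_one_add_replicateCol_mul_replicateRow, dotProduct_smul, h0,
      smul_eq_mul, mul_one, hs, add_sub_cancel, inv_mul_cancel₀ hGdet]
  refine ⟨⟨_, hD⟩, fun i => ?_⟩
  show ((1 + vecMulVec (s • z) f) * G) *ᵥ x i = y i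
  have h0 := hf i.succ
  simp at h0
  rw [← mulVec_mulVec, hg i, add_mulVec, one_mulVec, vecMulVec_mulVec, h0]
  simp

lemma coe_conj_transvection (u φ : Fin d → F) (hφ : φ ⬝ᵥ u = 0) :
    ∃ h : Matrix.SpecialLinearGroup (Fin d) F,
      (h : Matrix (Fin d) (Fin d) F) = 1 + vecMulVec u φ ∧
      ((h⁻¹ : Matrix.SpecialLinearGroup (Fin d) F) : Matrix (Fin d) (Fin d) F) = 1 - vecMulVec u φ := by
  have hdet : (1 + vecMulVec u φ).det = 1 := by
    rw [vecMulVec_eq Unit, det_one_add_replicateCol_mul_replicateRow, hφ, add_zero]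
  let h : Matrix.SpecialLinearGroup (Fin d) F := ⟨1 + vecMulVec u φ, hdet⟩
  refine ⟨h, rfl, ?_⟩
  have hNN : vecMulVec u φ * vecMulVec u φ = 0 := by
    rw [vecMulVec_mul_vecMulVec, hφ, zero_smul, vecMulVec_zero]
  have h1 : (h : Matrix (Fin d) (Fin d) F) * (1 - vecMulVec u φ) = 1 := by
    show (1 + vecMulVec u φ) * (1 - vecMulVec u φ) = 1
    rw [mul_sub, mul_one, add_mul, one_mul, hNN]
    abel
  have h2 : ((h⁻¹ : Matrix.SpecialLinearGroup (Fin d) F) : Matrix (Fin d) (Fin d) F) *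
      (h : Matrix (Fin d) (Fin d) F) = 1 := by
    rw [← Matrix.SpecialLinearGroup.coe_mul, inv_mul_cancel, Matrix.SpecialLinearGroup.coe_one]
  exact left_inv_eq_right_inv h2 h1

lemma trace_formula (A B : Matrix (Fin d) (Fin d) F) (u φ : Fin d → F) :
    Matrix.trace (A * ((1 + vecMulVec u φ) * B * (1 - vecMulVec u φ))) =
      Matrix.trace (A * B) + φ ⬝ᵥ ((B * A) *ᵥ u) - φ ⬝ᵥ ((A * B) *ᵥ u)
        - (φ ⬝ᵥ (A *ᵥ u)) * (φ ⬝ᵥ (B *ᵥ u)) := by
  have t1 : ∀ M : Matrix (Fin d) (Fin d) F, Matrix.trace (M * vecMulVec u φ) = φ ⬝ᵥ (M *ᵥ u) := by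
    intro M
    rw [mul_vecMulVec, trace_vecMulVec, dotProduct_comm]
  have e : A * ((1 + vecMulVec u φ) * B * (1 - vecMulVec u φ)) =
      A * B + A * (vecMulVec u φ * B) - A * B * vecMulVec u φ
        - A * vecMulVec u φ * (B * vecMulVec u φ) := by noncomm_ring
  rw [e, trace_sub, trace_sub, trace_add, t1]
  have e2 : Matrix.trace (A * (vecMulVec u φ * B)) = φ ⬝ᵥ ((B * A) *ᵥ u) := by
    rw [← mul_assoc, Matrix.trace_mul_comm, ← mul_assoc, t1]
  have e3 : Matrix.trace (A * vecMulVec u φ * (B * vecMulVec u φ)) =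
      (φ ⬝ᵥ (A *ᵥ u)) * (φ ⬝ᵥ (B *ᵥ u)) := by
    rw [mul_vecMulVec, mul_vecMulVec, vecMulVec_mul_vecMulVec, trace_vecMulVec, dotProduct_smul,
      smul_eq_mul, dotProduct_comm (A *ᵥ u) φ]
    ring
  rw [e2, e3]

/-- Some SL-conjugate of `B` makes the trace of the product take every value. -/
lemma exists_trace_eq (hd : 3 ≤ d) (A B : Matrix.SpecialLinearGroup (Fin d) F)
    (hA : A ∉ Subgroup.center (Matrix.SpecialLinearGroup (Fin d) F))
    (hB : B ∉ Subgroup.center (Matrix.SpecialLinearGroup (Fin d) F)) (c : F) :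
    ∃ h : Matrix.SpecialLinearGroup (Fin d) F,
      Matrix.trace ((A : Matrix (Fin d) (Fin d) F) * ((h * B * h⁻¹ : Matrix.SpecialLinearGroup (Fin d) F) :
        Matrix (Fin d) (Fin d) F)) = c := by
  have ns : ∀ M : Matrix.SpecialLinearGroup (Fin d) F,
      M ∉ Subgroup.center (Matrix.SpecialLinearGroup (Fin d) F) →
      ∀ r : F, Matrix.scalar (Fin d) r ≠ (M : Matrix (Fin d) (Fin d) F) := by
    intro M hM r hr
    refine hM (Matrix.SpecialLinearGroup.mem_center_iff.2 ⟨r, ?_, hr⟩)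
    have := congr_arg Matrix.det hr
    simpa using this
  obtain ⟨u, hu⟩ := exists_noneigen (by omega) _ (ns A hA)
  obtain ⟨u', hu'⟩ := exists_noneigen (by omega) _ (ns B hB)
  obtain ⟨z, hz⟩ : ∃ z : Fin d → F, z ∉ Submodule.span F (Set.range ![u, (A : Matrix (Fin d) (Fin d) F) *ᵥ u]) := by
    by_contra hcon
    push Not at hcon
    have h1 : Submodule.span F (Set.range ![u, (A : Matrix (Fin d) (Fin d) F) *ᵥ u]) = ⊤ :=
      Submodule.eq_top_iff'.2 hcon
    have h2 := finrank_range_le_card (R := F) ![u, (A : Matrix (Fin d) (Fin d) F) *ᵥ u]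
    rw [Set.finrank, h1, finrank_top, Module.finrank_fin_fun] at h2
    simp at h2
    omega
  have htri : LinearIndependent F (Fin.cons z ![u, (A : Matrix (Fin d) (Fin d) F) *ᵥ u] : Fin 3 → (Fin d → F)) :=
    linearIndependent_finCons.2 ⟨hu, hz⟩
  have huz : LinearIndependent F ![u, z] := by
    have := htri.comp ![1, 0] (by decide)
    convert this using 1
    funext i
    fin_cases i <;> rfl
  obtain ⟨g0, hg0⟩ := exists_SL_map hd hu' huz
  set B0 := g0 * B * g0⁻¹ with hB0
  have hB0u : (B0 : Matrix (Fin d) (Fin d) F) *ᵥ u = z := by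
    have h0 : (g0 : Matrix (Fin d) (Fin d) F) *ᵥ u' = u := hg0 0
    have h1 : (g0 : Matrix (Fin d) (Fin d) F) *ᵥ ((B : Matrix (Fin d) (Fin d) F) *ᵥ u') = z := hg0 1
    rw [← h0, mulVec_mulVec, ← Matrix.SpecialLinearGroup.coe_mul, hB0, inv_mul_cancel_right,
      Matrix.SpecialLinearGroup.coe_mul, ← mulVec_mulVec, h1]
  obtain ⟨φ1, hφ1⟩ := exists_linearFunctional htri ![0, 0, 1]
  obtain ⟨φ2, hφ2⟩ := exists_linearFunctional htri ![1, 0, 0]
  set w : Fin d → F := ((B0 : Matrix (Fin d) (Fin d) F) * (A : Matrix (Fin d) (Fin d) F)) *ᵥ u -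
    ((A : Matrix (Fin d) (Fin d) F) * (B0 : Matrix (Fin d) (Fin d) F)) *ᵥ u with hw
  set a := φ1 ⬝ᵥ w
  set b := φ2 ⬝ᵥ w
  set τ := Matrix.trace ((A : Matrix (Fin d) (Fin d) F) * (B0 : Matrix (Fin d) (Fin d) F))
  set α := b + 1
  set β := τ + a * α - c
  let φ := α • φ1 + β • φ2
  have hz0 : φ ⬝ᵥ z = β := by
    have h1 := hφ1 0
    have h2 := hφ2 0
    simp at h1 h2
    simp [φ, h1, h2]
  have hu0 : φ ⬝ᵥ u = 0 := by
    have h1 := hφ1 1
    have h2 := hφ2 1
    simp at h1 h2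
    simp [φ, h1, h2]
  have hAu0 : φ ⬝ᵥ ((A : Matrix (Fin d) (Fin d) F) *ᵥ u) = α := by
    have h1 := hφ1 2
    have h2 := hφ2 2
    simp at h1 h2
    simp [φ, h1, h2]
  obtain ⟨h, hh, hhi⟩ := coe_conj_transvection u φ hu0
  refine ⟨h * g0, ?_⟩
  have : h * g0 * B * (h * g0)⁻¹ = h * B0 * h⁻¹ := by rw [hB0]; group
  rw [this, Matrix.SpecialLinearGroup.coe_mul, Matrix.SpecialLinearGroup.coe_mul, hh, hhi,
    trace_formula, hB0u, hz0, hAu0, add_sub_assoc, ← dotProduct_sub, ← hw]
  simp only [φ, add_dotProduct, smul_dotProduct, smul_eq_mul]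
  show τ + (α * a + β * b) - α * β = c
  simp only [α, β]
  ring

/-- Let F be a finite field and d ≥ 3, and let a, b be non-identity elements of PSL_d(F). Then the product of the conjugacy classes of a and b is not a single conjugacy class: there are conjugates a′ of a and b′ of b such that a′b′ is not conjugate to ab. -/
theorem result {F : Type*} [Field F] [Fintype F] (d : ℕ) (hd : 3 ≤ d)
    (a b : Matrix.ProjectiveSpecialLinearGroup (Fin d) F) (ha : a ≠ 1) (hb : b ≠ 1) :
    ∃ g h : Matrix.ProjectiveSpecialLinearGroup (Fin d) F, ¬ IsConj (a * b) (g * a * g⁻¹ * (h * b * h⁻¹)) := by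
  by_contra hcon
  push Not at hcon
  obtain ⟨A, rfl⟩ := QuotientGroup.mk_surjective a
  obtain ⟨B, rfl⟩ := QuotientGroup.mk_surjective b
  rw [Ne, QuotientGroup.eq_one_iff] at ha hb
  obtain ⟨H0, h0⟩ := exists_trace_eq hd A B ha hb 0
  obtain ⟨H1, h1⟩ := exists_trace_eq hd A B ha hb 1
  have key : ∀ H : Matrix.SpecialLinearGroup (Fin d) F, ∃ r : F, r ≠ 0 ∧
      Matrix.trace ((A : Matrix (Fin d) (Fin d) F) * ((H * B * H⁻¹ : Matrix.SpecialLinearGroup (Fin d) F) :
        Matrix (Fin d) (Fin d) F)) = r * Matrix.trace ((A * B : Matrix.SpecialLinearGroup (Fin d) F) :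
        Matrix (Fin d) (Fin d) F) := by
    intro H
    have h := hcon 1 (H : Matrix.ProjectiveSpecialLinearGroup (Fin d) F)
    simp only [one_mul, inv_one, mul_one] at h
    obtain ⟨c, hc⟩ := isConj_iff.1 h
    obtain ⟨C, rfl⟩ := QuotientGroup.mk_surjective c
    simp only [← QuotientGroup.mk_mul, ← QuotientGroup.mk_inv] at hc
    have hz := QuotientGroup.eq.1 hc
    obtain ⟨r, hr, hrs⟩ := Matrix.SpecialLinearGroup.mem_center_iff.1 hz
    refine ⟨r, ?_, ?_⟩
    · intro hr0
      rw [hr0, zero_pow (by simp; omega)] at hr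
      exact zero_ne_one hr
    have e : A * (H * B * H⁻¹) = C * (A * B) * C⁻¹ *
        ((C * (A * B) * C⁻¹)⁻¹ * (A * (H * B * H⁻¹))) := by group
    have e' := congr_arg (fun M : Matrix.SpecialLinearGroup (Fin d) F => (M : Matrix (Fin d) (Fin d) F)) e
    simp only [Matrix.SpecialLinearGroup.coe_mul] at e' hrs ⊢
    rw [e', ← hrs, Matrix.scalar_apply, ← Matrix.smul_one_eq_diagonal, Matrix.mul_smul, mul_one,
      Matrix.trace_smul, smul_eq_mul, Matrix.trace_mul_cycle, ← Matrix.SpecialLinearGroup.coe_mul C⁻¹,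
      inv_mul_cancel, Matrix.SpecialLinearGroup.coe_one, one_mul]
  obtain ⟨r0, hr0, k0⟩ := key H0
  obtain ⟨r1, hr1, k1⟩ := key H1
  rw [h0] at k0
  rw [h1] at k1
  have := mul_eq_zero.1 k0.symm
  rw [this.resolve_left hr0, mul_zero] at k1
  exact one_ne_zero k1

end Cfsg.Agent.S2272
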