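import Cfsg.Statements.S2276
import Cfsg.Agent.Lib.PermFreePair.Models
import Cfsg.Agent.Lib.PermFreePair.SmallThree
import Cfsg.Agent.Lib.PermFreePair.Transfer
-- import your own Cfsg.Agent.* helpers here

set_option autoImplicit false
open Cfsg

namespace Cfsg.Agent.S2276

open Equiv Equiv.Perm CfsgLib.PermFreePair

theorem cycleType_addRight_one {q : ℕ} [NeZero q] (hq : 2 ≤ q) :
    (Equiv.addRight (1 : Fin q)).cycleType = {q} := by
  obtain ⟨k, rfl⟩ : ∃ k, q = k + 2 := ⟨q - 2, by omega⟩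
  have e : Equiv.addRight (1 : Fin (k + 2)) = finRotate (k + 2) := by
    refine Equiv.ext fun x => ?_
    rw [finRotate_succ_apply, Equiv.coe_addRight]
  rw [e, cycleType_finRotate]

/-- A multiset of numbers, linearly ordered by divisibility, fills any common multiple. -/
theorem exists_sum_eq {p : ℕ} (M : Multiset ℕ) : ∀ Q : ℕ,
    (∀ a ∈ M, (∃ j, a = p ^ j) ∧ a ∣ Q) → 2 ≤ p → Q ≤ M.sum → ∃ S ≤ M, S.sum = Q := by
  induction hM : Multiset.card M using Nat.strong_induction_on generalizing M with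
  | _ n ih =>
    intro Q hdvd hp hQ
    rcases Nat.eq_zero_or_pos Q with rfl | hQpos
    · exact ⟨0, Multiset.zero_le _, rfl⟩
    have hne : M.toFinset.Nonempty := by
      rw [Multiset.toFinset_nonempty]
      rintro rfl
      simp at hQ
      omega
    obtain ⟨a, ha, hmax⟩ := M.toFinset.exists_max_image id hne
    rw [Multiset.mem_toFinset] at ha
    obtain ⟨⟨j, rfl⟩, hdQ⟩ := hdvd a ha
    have hle : p ^ j ≤ Q := Nat.le_of_dvd hQpos hdQ
    obtain ⟨S, hS, hSsum⟩ := ih (Multiset.card (M.erase (p ^ j)))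
      (hM ▸ Multiset.card_erase_lt_of_mem ha) (M.erase (p ^ j)) rfl (Q - p ^ j)
      (fun a ha' => by
        have hmem := Multiset.mem_of_mem_erase ha'
        obtain ⟨⟨i, rfl⟩, hdi⟩ := hdvd a hmem
        refine ⟨⟨i, rfl⟩, Nat.dvd_sub hdi (pow_dvd_pow p ?_)⟩
        have := hmax (p ^ i) (Multiset.mem_toFinset.2 hmem)
        exact (Nat.pow_le_pow_iff_right (by omega)).1 this) hp (by
      have : M.sum = p ^ j + (M.erase (p ^ j)).sum := by
        rw [← Multiset.sum_cons, Multiset.cons_erase ha]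
      omega)
    refine ⟨p ^ j ::ₘ S, ?_, by rw [Multiset.sum_cons, hSsum]; omega⟩
    rw [← Multiset.cons_erase ha]
    exact Multiset.cons_le_cons _ hS

theorem sum_lt_of_nodup {p : ℕ} (hp : 3 ≤ p) : ∀ (m : ℕ), 1 ≤ m → ∀ M : Multiset ℕ, M.Nodup →
    (∀ a ∈ M, ∃ j, 1 ≤ j ∧ j < m ∧ a = p ^ j) → M.sum + 2 ≤ p ^ m := by
  intro m
  induction m with
  | zero => omega
  | succ m ih =>
    intro _ M hM h
    rcases Nat.eq_zero_or_pos m with rfl | hm
    · have : M = 0 := Multiset.eq_zero_of_forall_notMem fun a ha => by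
        obtain ⟨j, h1, h2, -⟩ := h a ha
        omega
      subst this
      simp
      omega
    have hpm : 1 ≤ p ^ m := Nat.one_le_pow _ _ (by omega)
    have hsucc : 3 * p ^ m ≤ p ^ (m + 1) := by rw [pow_succ']; exact Nat.mul_le_mul_right _ hp
    by_cases hmem : p ^ m ∈ M
    · have := ih hm (M.erase (p ^ m)) (hM.erase _) (fun a ha => by
        obtain ⟨hne, hmem'⟩ := (hM.mem_erase_iff).1 ha
        obtain ⟨j, h1, h2, rfl⟩ := h a hmem'
        exact ⟨j, h1, lt_of_le_of_ne (by omega) (fun e => hne (by rw [e])), rfl⟩)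
      have e : M.sum = p ^ m + (M.erase (p ^ m)).sum := by
        rw [← Multiset.sum_cons, Multiset.cons_erase hmem]
      omega
    · have := ih hm M hM (fun a ha => by
        obtain ⟨j, h1, h2, rfl⟩ := h a ha
        exact ⟨j, h1, lt_of_le_of_ne (by omega) (fun e => hmem (e ▸ ha)), rfl⟩)
      omega

theorem cycleType_pow_prime {n p k : ℕ} (hp : p.Prime) {u : Perm (Fin n)} (hu : orderOf u = p ^ k) :
    ∀ a ∈ u.cycleType, ∃ j, 1 ≤ j ∧ a = p ^ j := by
  intro a ha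
  obtain ⟨j, -, rfl⟩ := (Nat.dvd_prime_pow hp).1 (hu ▸ dvd_of_mem_cycleType ha)
  have := two_le_of_mem_cycleType ha
  exact ⟨j, Nat.pos_of_ne_zero (by rintro rfl; simp at this), rfl⟩

theorem exists_max_cycle {n : ℕ} {u : Perm (Fin n)} (hu : u ≠ 1) :
    ∃ a ∈ u.cycleType, ∀ b ∈ u.cycleType, b ≤ a := by
  have hne : u.cycleType.toFinset.Nonempty := by
    rw [Multiset.toFinset_nonempty]
    simpa [cycleType_eq_zero] using hu
  obtain ⟨a, ha, h⟩ := u.cycleType.toFinset.exists_max_image id hne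
  exact ⟨a, Multiset.mem_toFinset.1 ha, fun b hb => h b (Multiset.mem_toFinset.2 hb)⟩

theorem singleton_le_parts {n : ℕ} {u : Perm (Fin n)} {a : ℕ} (ha : a ∈ u.cycleType) :
    ({a} : Multiset ℕ) ≤ parts u :=
  Multiset.singleton_le.2 (Multiset.mem_add.2 (Or.inl ha))

theorem le_degree_of_mem {n : ℕ} {u : Perm (Fin n)} {a : ℕ} (ha : a ∈ u.cycleType) : a ≤ n := by
  have := u.sum_cycleType_le
  rw [Fintype.card_fin] at this
  exact (Multiset.le_sum_of_mem ha).trans this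

theorem parity_case {n p : ℕ} (hp : p.Prime) (hp3 : 3 ≤ p) {u w : Perm (Fin n)} {q i : ℕ}
    (hq : q = p ^ i) (hq5 : 5 ≤ q) (hu : q ∈ u.cycleType) (hw : q ∈ w.cycleType) (ε : ℤˣ) :
    ∃ g : Perm (Fin n), sign g = ε ∧ Good p u (g * w * g⁻¹) := by
  haveI : NeZero q := NeZero.of_pos (by omega)
  have hf : ({q} : Multiset ℕ).filter (fun x => 2 ≤ x) = {q} := by
    rw [Multiset.filter_singleton, if_pos (by omega)]
  refine (exists_conj_of_model (le_degree_of_mem hu) u w {q} {q} (singleton_le_parts hu) (singleton_le_parts hw)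
    (by simp) (by simp) (a := Equiv.addRight (1 : Fin q)) (b := (Equiv.addRight (1 : Fin q))⁻¹)
    ?_ ?_).2 (exists_partner_cycle hp hp3 hq hq5) ε
  · rw [hf, cycleType_addRight_one (by omega)]
  · rw [hf, cycleType_inv, cycleType_addRight_one (by omega)]

theorem three_case {n : ℕ} (hn : 5 ≤ n) {u w : Perm (Fin n)} (hu : u ≠ 1) (hw : w ≠ 1)
    (hu3 : ∀ a ∈ u.cycleType, a = 3) (hw3 : ∀ a ∈ w.cycleType, a = 3) :
    ∃ g : Perm (Fin n), Good 3 u (g * w * g⁻¹) := by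
  have key : ∀ x : Perm (Fin n), x ≠ 1 → (∀ a ∈ x.cycleType, a = 3) →
      ∃ k f, 1 ≤ k ∧ 3 * k + f = n ∧ parts x = Multiset.replicate k 3 + Multiset.replicate f 1 := by
    intro x hx h3
    have h := Multiset.eq_replicate_card.2 h3
    refine ⟨_, n - x.cycleType.sum, ?_, ?_, by rw [parts, ← h]⟩
    · exact Multiset.card_pos.2 (by simpa [cycleType_eq_zero] using hx)
    · have := x.sum_cycleType_le
      rw [Fintype.card_fin] at this
      have e : x.cycleType.sum = 3 * Multiset.card x.cycleType := by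
        conv_lhs => rw [h]
        simp [mul_comm]
      omega
  obtain ⟨k, f, hk, hkf, hpu⟩ := key u hu hu3
  obtain ⟨l, g, hl, hlg, hpw⟩ := key w hw hw3
  by_cases hfg : 2 ≤ f ∧ 2 ≤ g
  · obtain ⟨a, b, ha, hb, hab⟩ := good_five
    have hsub : ∀ k f : ℕ, 1 ≤ k → 2 ≤ f → ({3, 1, 1} : Multiset ℕ) ≤
        Multiset.replicate k 3 + Multiset.replicate f 1 := fun k f hk hf =>
      add_le_add (Multiset.replicate_le_replicate _ |>.2 hk)
        (Multiset.replicate_le_replicate _ |>.2 hf)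
    exact (exists_conj_of_model hn u w {3, 1, 1} {3, 1, 1} (hpu ▸ hsub k f hk hfg.1)
      (hpw ▸ hsub l g hl hfg.2) rfl rfl (a := a) (b := b) (by rw [ha]; rfl) (by rw [hb]; rfl)).1 hab
  have hn6 : 6 ≤ n := by omega
  have sel : ∀ k f : ℕ, 1 ≤ k → 3 * k + f = n → ∃ S : Multiset ℕ,
      S ≤ Multiset.replicate k 3 + Multiset.replicate f 1 ∧ S.sum = 6 ∧
      (S.filter (fun x => 2 ≤ x) = {3} ∨ S.filter (fun x => 2 ≤ x) = {3, 3}) := by
    intro k f hk hkf
    by_cases h2 : 2 ≤ k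
    · exact ⟨{3, 3}, le_trans (Multiset.replicate_le_replicate _ |>.2 h2) (Multiset.le_add_right _ _),
        rfl, Or.inr rfl⟩
    · exact ⟨{3, 1, 1, 1}, add_le_add (Multiset.replicate_le_replicate _ |>.2 hk)
        (Multiset.replicate_le_replicate _ |>.2 (show 3 ≤ f by omega)), rfl, Or.inl rfl⟩
  obtain ⟨Su, hSu, hsu, hfu⟩ := sel k f hk hkf
  obtain ⟨Sw, hSw, hsw, hfw⟩ := sel l g hl hlg
  obtain ⟨a, b, ha, hb, hab⟩ := good_six _ _ hfu hfw
  exact (exists_conj_of_model hn6 u w Su Sw (hpu ▸ hSu) (hpw ▸ hSw) hsu hsw ha hb).1 hab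

/-- Some conjugate works if the longest cycle of `u` is not shorter than those of `w`. -/
theorem main_case {n p : ℕ} (hn : 5 ≤ n) (hp : p.Prime) (hp3 : 3 ≤ p) {u w : Perm (Fin n)}
    (hu : u ≠ 1) (hw : w ≠ 1) (hu' : ∀ a ∈ u.cycleType, ∃ j, 1 ≤ j ∧ a = p ^ j)
    (hw' : ∀ a ∈ w.cycleType, ∃ j, 1 ≤ j ∧ a = p ^ j)
    {Q : ℕ} (hQ : Q ∈ u.cycleType) (hQu : ∀ a ∈ u.cycleType, a ≤ Q)
    (hQw : ∀ a ∈ w.cycleType, a ≤ Q) :
    ∃ g : Perm (Fin n), Good p u (g * w * g⁻¹) := by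
  obtain ⟨i, hi, hQeq⟩ := hu' Q hQ
  have hpow : ∀ j, 1 ≤ j → p ≤ p ^ j := fun j hj => Nat.le_self_pow (by omega) p
  by_cases hQ3 : Q ≤ 4
  · have hp' : p = 3 := by
      have := hpow i hi
      by_contra h
      have h4 : p = 4 := by omega
      subst h4
      norm_num at hp
    subst hp'
    have h3 : ∀ a, (∃ j, 1 ≤ j ∧ a = 3 ^ j) → a ≤ Q → a = 3 := by
      rintro a ⟨j, hj, rfl⟩ ha
      have : j < 2 := by
        by_contra hc
        have : (3 : ℕ) ^ 2 ≤ 3 ^ j := Nat.pow_le_pow_right (by norm_num) (by omega)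
        omega
      obtain rfl : j = 1 := by omega
      norm_num
    exact three_case hn hu hw (fun a ha => h3 a (hu' a ha) (hQu a ha))
      (fun a ha => h3 a (hw' a ha) (hQw a ha))
  obtain ⟨b, hb, hbmax⟩ := exists_max_cycle hw
  rcases eq_or_lt_of_le (hQw b hb) with rfl | hlt
  · obtain ⟨g, -, hg⟩ := parity_case hp hp3 hQeq (by omega) hQ hb 1
    exact ⟨g, hg⟩
  haveI : NeZero Q := NeZero.of_pos (by omega)
  obtain ⟨m, hm, hbeq⟩ := hw' b hb
  have hbmem : b ∈ parts w := Multiset.mem_add.2 (Or.inl hb)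
  have hparts : ∀ a ∈ parts w, (∃ j, a = p ^ j) ∧ a ≤ b := by
    intro a ha
    rcases Multiset.mem_add.1 ha with ha | ha
    · obtain ⟨j, -, hj⟩ := hw' a ha
      exact ⟨⟨j, hj⟩, hbmax a ha⟩
    · rw [Multiset.eq_of_mem_replicate ha]
      exact ⟨⟨0, by simp⟩, by have := two_le_of_mem_cycleType hb; omega⟩
  have hsum : (parts w).sum = b + ((parts w).erase b).sum := by
    rw [← Multiset.sum_cons, Multiset.cons_erase hbmem]
  have hQn := le_degree_of_mem hQ
  obtain ⟨S, hS, hSsum⟩ := exists_sum_eq (p := p) ((parts w).erase b) (Q - b) (fun a ha => by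
      obtain ⟨⟨j, rfl⟩, hle⟩ := hparts a (Multiset.mem_of_mem_erase ha)
      refine ⟨⟨j, rfl⟩, Nat.dvd_sub (hQeq ▸ pow_dvd_pow p ?_) (hbeq ▸ pow_dvd_pow p ?_)⟩
      · exact (Nat.pow_le_pow_iff_right hp.one_lt).1 (hQeq ▸ (hle.trans hlt.le))
      · exact (Nat.pow_le_pow_iff_right hp.one_lt).1 (hbeq ▸ hle))
    hp.two_le (by rw [sum_parts] at hsum; omega)
  have hl : ∀ a ∈ S.toList, ∃ j, a = p ^ j ∧ a ≤ b := by
    intro a ha
    obtain ⟨⟨j, hj⟩, hle⟩ := hparts a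
      (Multiset.mem_of_mem_erase (Multiset.mem_of_le hS (Multiset.mem_toList.1 ha)))
    exact ⟨j, hj, hle⟩
  obtain ⟨w0, hw0, hgood⟩ := exists_partner_parts (q := Q) hp hp3 hQeq hbeq
    (by have := hpow m hm; omega) hlt S.toList hl (by rw [Multiset.sum_toList]; omega)
  refine (exists_conj_of_model hQn u w {Q} (b ::ₘ S) (singleton_le_parts hQ) ?_ (by simp) ?_
    ?_ ?_).1 hgood
  · rw [← Multiset.cons_erase hbmem]
    exact Multiset.cons_le_cons _ hS
  · rw [Multiset.sum_cons, hSsum]; omega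
  · rw [Multiset.filter_singleton, if_pos (by omega), cycleType_addRight_one (by omega)]
  · rw [hw0, ← Multiset.cons_coe, Multiset.coe_toList]

theorem good_exists_conj {n p : ℕ} (hn : 5 ≤ n) (hp : p.Prime) (hp3 : 3 ≤ p) {u w : Perm (Fin n)}
    (hu : u ≠ 1) (hw : w ≠ 1) (hu' : ∀ a ∈ u.cycleType, ∃ j, 1 ≤ j ∧ a = p ^ j)
    (hw' : ∀ a ∈ w.cycleType, ∃ j, 1 ≤ j ∧ a = p ^ j) :
    ∃ g : Perm (Fin n), Good p u (g * w * g⁻¹) := by
  obtain ⟨a, ha, hamax⟩ := exists_max_cycle hu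
  obtain ⟨b, hb, hbmax⟩ := exists_max_cycle hw
  rcases le_total b a with h | h
  · exact main_case hn hp hp3 hu hw hu' hw' ha hamax (fun c hc => (hbmax c hc).trans h)
  · obtain ⟨g, hg⟩ := main_case hn hp hp3 hw hu hw' hu' hb hbmax (fun c hc => (hamax c hc).trans h)
    refine ⟨g⁻¹, ?_⟩
    have h2 := (hg.conj g⁻¹).symm
    rwa [show g⁻¹ * (g * u * g⁻¹) * g⁻¹⁻¹ = u by group] at h2

theorem exists_even {n p : ℕ} (hn : 5 ≤ n) (hp : p.Prime) (hp3 : 3 ≤ p) {u w : Perm (Fin n)}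
    (hu : u ≠ 1) (hw : w ≠ 1) (hu' : ∀ a ∈ u.cycleType, ∃ j, 1 ≤ j ∧ a = p ^ j)
    (hw' : ∀ a ∈ w.cycleType, ∃ j, 1 ≤ j ∧ a = p ^ j) :
    ∃ g : Perm (Fin n), g ∈ alternatingGroup (Fin n) ∧ Good p u (g * w * g⁻¹) := by
  obtain ⟨g, hg⟩ := good_exists_conj hn hp hp3 hu hw hu' hw'
  rcases Int.units_eq_one_or (sign g) with hs | hs
  · exact ⟨g, mem_alternatingGroup.2 hs, hg⟩
  by_cases hcw : Subgroup.centralizer ({w} : Set (Perm (Fin n))) ≤ alternatingGroup (Fin n)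
  swap
  · obtain ⟨r, hr, hr'⟩ := SetLike.not_le_iff_exists.1 hcw
    have hrc : r * w * r⁻¹ = w := by
      rw [mul_inv_eq_iff_eq_mul]
      exact (Subgroup.mem_centralizer_singleton_iff.1 hr)
    refine ⟨g * r, ?_, ?_⟩
    · rw [mem_alternatingGroup, map_mul, hs,
        (Int.units_eq_one_or (sign r)).resolve_left (fun h => hr' (mem_alternatingGroup.2 h))]
      simp
    · rwa [show g * r * w * (g * r)⁻¹ = g * (r * w * r⁻¹) * g⁻¹ by group, hrc]
  by_cases hcu : Subgroup.centralizer ({u} : Set (Perm (Fin n))) ≤ alternatingGroup (Fin n)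
  swap
  · obtain ⟨r, hr, hr'⟩ := SetLike.not_le_iff_exists.1 hcu
    have hrc : r * u * r⁻¹ = u := by
      rw [mul_inv_eq_iff_eq_mul]
      exact (Subgroup.mem_centralizer_singleton_iff.1 hr)
    refine ⟨r * g, ?_, ?_⟩
    · rw [mem_alternatingGroup, map_mul, hs,
        (Int.units_eq_one_or (sign r)).resolve_left (fun h => hr' (mem_alternatingGroup.2 h))]
      simp
    · have h := hg.conj r
      rw [hrc] at h
      rwa [show r * g * w * (r * g)⁻¹ = r * (g * w * g⁻¹) * r⁻¹ by group]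
  -- both conjugacy classes split: all cycle lengths are distinct
  have hnd : ∀ x : Perm (Fin n),
      Subgroup.centralizer ({x} : Set (Perm (Fin n))) ≤ alternatingGroup (Fin n) →
      n ≤ x.cycleType.sum + 1 ∧ x.cycleType.Nodup := by
    intro x hx
    refine ⟨?_, Multiset.nodup_iff_count_le_one.2 (count_le_one_of_centralizer_le_alternating hx)⟩
    simpa [Fintype.card_fin] using card_le_of_centralizer_le_alternating hx
  obtain ⟨hnu, hndu⟩ := hnd u hcu
  obtain ⟨hnw, hndw⟩ := hnd w hcw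
  obtain ⟨a, ha, hamax⟩ := exists_max_cycle hu
  obtain ⟨b, hb, hbmax⟩ := exists_max_cycle hw
  have hlt : ∀ (x : Perm (Fin n)) (A : ℕ), n ≤ x.cycleType.sum + 1 → x.cycleType.Nodup →
      (∀ c ∈ x.cycleType, ∃ j, 1 ≤ j ∧ c = p ^ j) → (∃ j, 1 ≤ j ∧ A = p ^ j) → A ≤ n →
      ∃ c ∈ x.cycleType, A ≤ c := by
    intro x A h1 h2 h3 hA hAn
    obtain ⟨j, hj, rfl⟩ := hA
    by_contra hc
    push_neg at hc
    have := sum_lt_of_nodup hp3 j hj x.cycleType h2 (fun c hcm => by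
      obtain ⟨i, hi, rfl⟩ := h3 c hcm
      exact ⟨i, hi, (Nat.pow_lt_pow_iff_right hp.one_lt).1 (hc _ hcm), rfl⟩)
    omega
  have hab : a = b := by
    obtain ⟨c, hc, hca⟩ := hlt w a hnw hndw hw' (hu' a ha) (le_degree_of_mem ha)
    obtain ⟨d, hd, hdb⟩ := hlt u b hnu hndu hu' (hw' b hb) (le_degree_of_mem hb)
    exact le_antisymm (hca.trans (hbmax c hc)) (hdb.trans (hamax d hd))
  subst hab
  obtain ⟨i, hi, hieq⟩ := hu' a ha
  by_cases h5 : 5 ≤ a
  · obtain ⟨g', hg', hgood⟩ := parity_case hp hp3 hieq h5 ha hb 1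
    exact ⟨g', mem_alternatingGroup.2 hg', hgood⟩
  -- all cycle lengths are 3
  exfalso
  have hsum : u.cycleType.sum ≤ 3 := by
    have hall : ∀ c ∈ u.cycleType, c = 3 := by
      intro c hc
      obtain ⟨j, hj, rfl⟩ := hu' c hc
      have h1 := Nat.le_self_pow (show j ≠ 0 by omega) p
      have h2 := hamax _ hc
      have hodd : Odd (p ^ j) := (hp.odd_of_ne_two (by omega)).pow
      obtain ⟨r, hr⟩ := hodd
      omega
    have h := Multiset.eq_replicate_card.2 hall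
    have h1 : Multiset.card u.cycleType ≤ 1 := by
      have := Multiset.nodup_iff_count_le_one.1 hndu 3
      rwa [h, Multiset.count_replicate_self] at this
    rw [h, Multiset.sum_replicate, smul_eq_mul]
    omega
  omega

/-- Let n ≥ 5, p ≥ 3 a prime, and u, w non-identity elements of p-power order in the alternating group A_n. Then there is g ∈ A_n such that u·(g w g⁻¹) does not have p-power order and ⟨u, g w g⁻¹⟩ is not solvable. -/
theorem result (n : ℕ) (hn : 5 ≤ n) (p : ℕ) (hp : p.Prime) (hp3 : 3 ≤ p) (u w : alternatingGroup (Fin n)) (hu : u ≠ 1) (hw : w ≠ 1)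
    (hu' : ∃ k : ℕ, orderOf u = p ^ k) (hw' : ∃ k : ℕ, orderOf w = p ^ k) :
    ∃ g : alternatingGroup (Fin n), (¬ ∃ k : ℕ, orderOf (u * (g * w * g⁻¹)) = p ^ k) ∧
      ¬ Group.IsSolvable ↥(Subgroup.closure ({u, g * w * g⁻¹} : Set (alternatingGroup (Fin n)))) := by
  obtain ⟨k, hk⟩ := hu'
  obtain ⟨l, hl⟩ := hw'
  rw [← Subgroup.orderOf_coe] at hk hl
  obtain ⟨g, hg, hgood⟩ := exists_even (p := p) hn hp hp3 (u := (u : Perm (Fin n))) (w := (w : Perm (Fin n)))
    (fun h => hu (Subtype.ext h)) (fun h => hw (Subtype.ext h))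
    (cycleType_pow_prime hp hk) (cycleType_pow_prime hp hl)
  refine ⟨⟨g, hg⟩, ?_, ?_⟩
  · rintro ⟨m, hm⟩
    refine hgood.1 m ?_
    rw [← hm]
    exact congrArg Subtype.val (pow_orderOf_eq_one (u * (⟨g, hg⟩ * w * (⟨g, hg⟩ : alternatingGroup (Fin n))⁻¹)))
  · exact not_solvable_of_hom (alternatingGroup (Fin n)).subtype _ _ hgood.2

end Cfsg.Agent.S2276
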