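import Cfsg.Statements.S2286
import Cfsg.Agent.Lib.Pres.SL2Short

set_option autoImplicit false
open Cfsg

namespace Cfsg.Agent.S2286

/-- For every finite field F, SL_2(F) and PSL_2(F) have presentations with 3 generators and at most 9 relations; when F has characteristic 2, PSL_2(F) has a presentation with 3 generators and at most 5 relations. -/
theorem result {F : Type*} [Field F] [Fintype F] :
    (∃ rels : Finset (FreeGroup (Fin 3)), rels.card ≤ 9 ∧ Nonempty (PresentedGroup (↑rels : Set (FreeGroup (Fin 3))) ≃* Matrix.SpecialLinearGroup (Fin 2) F)) ∧ (∃ rels : Finset (FreeGroup (Fin 3)), rels.card ≤ 9 ∧ Nonempty (PresentedGroup (↑rels : Set (FreeGroup (Fin 3))) ≃* Matrix.ProjectiveSpecialLinearGroup (Fin 2) F)) ∧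
    (CharP F 2 → ∃ rels : Finset (FreeGroup (Fin 3)), rels.card ≤ 5 ∧ Nonempty (PresentedGroup (↑rels : Set (FreeGroup (Fin 3))) ≃* Matrix.ProjectiveSpecialLinearGroup (Fin 2) F)) := by
  classical
  obtain ⟨p, hchar⟩ := CharP.exists F
  have : Fact p.Prime := ⟨CharP.char_is_prime F p⟩
  by_cases hp : p = 2
  · subst hp
    obtain ⟨f, L, hL, hP⟩ := CfsgLib.Pres.SL2Short.sl_two (F := F)
    obtain ⟨f', L', hL', hP'⟩ := CfsgLib.Pres.SL2Short.psl_five (F := F)
    exact ⟨hP.presented (le_trans hL (by norm_num)), hP'.presented (le_trans hL' (by norm_num)),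
      fun _ => hP'.presented hL'⟩
  · obtain ⟨f, L, hL, hP⟩ := CfsgLib.Pres.SL2Short.sl_odd (F := F) p hp
    obtain ⟨f', L', hL', hP'⟩ := CfsgLib.Pres.SL2Short.psl_nine (F := F) p hp
    exact ⟨hP.presented (le_trans hL (by norm_num)), hP'.presented hL',
      fun h2 => absurd (CharP.eq F hchar h2) hp⟩

end Cfsg.Agent.S2286
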