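import Cfsg.Statements.S2288
import Cfsg.Agent.Lib.Pres.SLSeven.Main
import Cfsg.Agent.Lib.Pres.Pad

set_option autoImplicit false
open Cfsg

namespace Cfsg.Agent.S2288

/-- For every finite field F and n ≥ 4: SL_n(F) has a presentation with 7 generators and at most 25 relations, and PSL_n(F) one with 7 generators and at most 26 relations; moreover SL_4(F) has one with 6 generators and at most 21 relations and SL_5(F) one with 6 generators and at most 22 relations. -/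
theorem result {F : Type*} [Field F] [Fintype F] (n : ℕ) (hn : 4 ≤ n) :
    (∃ rels : Finset (FreeGroup (Fin 7)), rels.card ≤ 25 ∧ Nonempty (PresentedGroup (↑rels : Set (FreeGroup (Fin 7))) ≃* Matrix.SpecialLinearGroup (Fin n) F)) ∧ (∃ rels : Finset (FreeGroup (Fin 7)), rels.card ≤ 26 ∧ Nonempty (PresentedGroup (↑rels : Set (FreeGroup (Fin 7))) ≃* Matrix.ProjectiveSpecialLinearGroup (Fin n) F)) ∧
    (∃ rels : Finset (FreeGroup (Fin 6)), rels.card ≤ 21 ∧ Nonempty (PresentedGroup (↑rels : Set (FreeGroup (Fin 6))) ≃* Matrix.SpecialLinearGroup (Fin 4) F)) ∧ (∃ rels : Finset (FreeGroup (Fin 6)), rels.card ≤ 22 ∧ Nonempty (PresentedGroup (↑rels : Set (FreeGroup (Fin 6))) ≃* Matrix.SpecialLinearGroup (Fin 5) F)) := by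
  classical
  obtain ⟨m, rfl⟩ : ∃ m, n = m + 4 := ⟨n - 4, by omega⟩
  obtain ⟨ι, _, f, L, hd, hc, h25, -, -⟩ := CfsgLib.Pres.SLSeven.exists_pres F m
  obtain ⟨ι₄, _, f₄, L₄, hd₄, hc₄, -, h21, -⟩ := CfsgLib.Pres.SLSeven.exists_pres F 0
  obtain ⟨ι₅, _, f₅, L₅, hd₅, hc₅, -, -, h22⟩ := CfsgLib.Pres.SLSeven.exists_pres F 1
  obtain ⟨f', L', hL', hd'⟩ := CfsgLib.Pres.SLSeven.exists_psl (show 1 ≤ m + 4 by omega) hd
  exact ⟨hd.presented_fin (by omega) h25, hd'.presented_fin (by omega) (by omega),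
    hd₄.presented_fin hc₄ (h21 rfl), hd₅.presented_fin hc₅ (h22 rfl)⟩

end Cfsg.Agent.S2288
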