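import Cfsg.Statements.S2290
import Cfsg.Agent.Lib.Pres.PSLAll
import Cfsg.Agent.Lib.Pres.TwoGenSL2
import Cfsg.Agent.S2278
import Cfsg.Agent.S2279

set_option autoImplicit false
open Cfsg

namespace Cfsg.Agent.S2290

/-- For every finite field F with q elements and n ≥ 2, with q ≥ 4 when n = 2, the simple group PSL_n(F) has a presentation with 2 generators and at most 80 relations. -/
theorem result {F : Type*} [Field F] [Fintype F] (n : ℕ) (hn : 2 ≤ n) (h2 : n = 2 → 4 ≤ Fintype.card F) :
    ∃ rels : Finset (FreeGroup (Fin 2)), rels.card ≤ 80 ∧ Nonempty (PresentedGroup (↑rels : Set (FreeGroup (Fin 2))) ≃* Matrix.ProjectiveSpecialLinearGroup (Fin n) F) := by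
  classical
  have hp := CfsgLib.Pres.hasPres_psl (F := F) hn
  obtain ⟨a, b, hab⟩ : ∃ a b : Matrix.SpecialLinearGroup (Fin n) F,
      Subgroup.closure ({a, b} : Set (Matrix.SpecialLinearGroup (Fin n) F)) = ⊤ := by
    rcases Nat.lt_or_ge n 4 with h4 | h4
    · interval_cases n
      · exact CfsgLib.Pres.TwoGenSL2.exists_pair (h2 rfl)
      · obtain ⟨u, g, -, -, h⟩ := Cfsg.Agent.S2278.result (F := F)
        exact ⟨u, g * u * g⁻¹, h⟩
    · obtain ⟨⟨u, v, -, -, h⟩, -⟩ := Cfsg.Agent.S2279.result (F := F) n h4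
      exact ⟨u, v, h⟩
  let π := QuotientGroup.mk' (Subgroup.center (Matrix.SpecialLinearGroup (Fin n) F))
  have hgen : Subgroup.closure (Set.range ![π a, π b]) = ⊤ := by
    have e : Set.range ![π a, π b] = ⇑π '' {a, b} := by
      rw [Set.image_pair]
      ext y
      simp [eq_comm, or_comm]
    rw [e, ← MonoidHom.map_closure, hab, Subgroup.map_top_of_surjective _
      (QuotientGroup.mk'_surjective _)]
  obtain ⟨rels, hcard, e, -⟩ := CfsgLib.Pres.presented hp _ hgen
  exact ⟨rels, le_trans hcard (by norm_num), ⟨e⟩⟩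

end Cfsg.Agent.S2290
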