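import Cfsg.Statements.S2291
import Cfsg.Agent.Lib.Pres.SU.Rank1.Params
import Cfsg.Agent.Lib.Pres.SU.Center
import Cfsg.Agent.Lib.Pres.SU.Chain.Pres
import Cfsg.Agent.Lib.Pres.TwoGenPres
import Cfsg.Agent.Lib.KnownA.SuTwo.Std
import Cfsg.Agent.Lib.KnownA.SuGen.TwoGen

set_option autoImplicit false
open Cfsg

namespace Cfsg.Agent.S2291

/-- Let F be a field with q² elements and n ≥ 3 with (n, q) ≠ (3, 2). Then the simple group PSU_n(q) (for the standard Hermitian form) has a presentation with 2 generators and at most 80 relations. -/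
theorem result {F : Type*} [Field F] [Fintype F] (q n : ℕ) (hF : Fintype.card F = q ^ 2) (hn : 3 ≤ n) (h32 : ¬ (n = 3 ∧ q = 2)) :
    ∃ rels : Finset (FreeGroup (Fin 2)), rels.card ≤ 80 ∧ Nonempty (PresentedGroup (↑rels : Set (FreeGroup (Fin 2))) ≃* Cfsg.PSU n F q) := by
  have hF' : Nat.card F = q ^ 2 := by rw [Nat.card_eq_fintype_card]; exact hF
  have fin : ∀ {ι : Type} (f : ι → Cfsg.SU n F q) (L : List (FreeGroup ι)),
      CfsgLib.Pres.PresData f L → L.length ≤ 77 →
      ∀ a b : Cfsg.SU n F q, Subgroup.closure {a, b} = ⊤ →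
      ∃ rels : Finset (FreeGroup (Fin 2)), rels.card ≤ 80 ∧
        Nonempty (PresentedGroup (↑rels : Set (FreeGroup (Fin 2))) ≃* Cfsg.PSU n F q) :=
    fun f L hd hL a b hab => by
      obtain ⟨L', hL', hd'⟩ := hd.two hab
      obtain ⟨v, hd''⟩ := CfsgLib.Pres.SU.exists_psu hF' (by omega) hd'
      exact hd''.presented (by simp only [List.length_cons]; omega)
  rcases eq_or_lt_of_le hn with rfl | h4
  · have hq : 3 ≤ q := by
      have := CfsgLib.Classical.two_le_q hF'
      rcases Nat.lt_or_ge q 3 with h | h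
      · exact absurd ⟨rfl, by omega⟩ h32
      · exact h
    obtain ⟨f, L, hL, hd⟩ := CfsgLib.Pres.SU.Rank1.exists_three hF' hq
    obtain ⟨u, g, -, hg⟩ := CfsgLib.KnownA.SuGen.twoSu hF' hq
    exact fin f L hd (by omega) u (g * u * g⁻¹) hg
  · obtain ⟨a, b, hab⟩ := CfsgLib.KnownA.SuTwo.two_gen hF' h4
    obtain ⟨σ, h⟩ := CfsgLib.Classical.Unitary.exists_uFrob hF'
    rcases eq_or_lt_of_le (show 4 ≤ n from h4) with rfl | h5
    · obtain ⟨f, L, hL, -, hd⟩ := CfsgLib.Pres.SU.Four.exists_four hF'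
      exact fin f L hd (by omega) a b hab
    · obtain ⟨f, L, hL, -, hd⟩ := CfsgLib.Pres.SU.Chain.exists_pres hF' h (n := n) h5
      exact fin f L hd (by omega) a b hab

end Cfsg.Agent.S2291
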