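import Cfsg.Statements.S2292
import Cfsg.Agent.Lib.Pres.SpFamilies
import Cfsg.Agent.Lib.Pres.SymAll
import Cfsg.Agent.Lib.Pres.SpTwoGen
import Cfsg.Agent.Lib.Pres.TwoGenPres

set_option autoImplicit false
open Cfsg

namespace Cfsg.Agent.S2292

/-- Let F be a finite field with q elements and m ≥ 2 with (m, q) ≠ (2, 2). Then the simple group PSp_2m(F) has a presentation with 2 generators and at most 80 relations. -/
theorem result {F : Type*} [Field F] [Fintype F] (m : ℕ) (hm : 2 ≤ m) (h22 : ¬ (m = 2 ∧ Fintype.card F = 2)) :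
    ∃ rels : Finset (FreeGroup (Fin 2)), rels.card ≤ 80 ∧ Nonempty (PresentedGroup (↑rels : Set (FreeGroup (Fin 2))) ≃* Cfsg.PSp m F) := by
  obtain ⟨a, b, hab⟩ := CfsgLib.Pres.SpTwo.two_gen (F := F) m hm h22
  have key : ∀ {ι : Type} [Fintype ι] {fP : ι → Equiv.Perm (Fin m)} {LP : List (FreeGroup ι)},
      LP.length ≤ 45 → CfsgLib.Pres.PresData fP LP →
      ∃ rels : Finset (FreeGroup (Fin 2)), rels.card ≤ 80 ∧
        Nonempty (PresentedGroup (↑rels : Set (FreeGroup (Fin 2))) ≃* Cfsg.PSp m F) := by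
    intro ι _ fP LP hr hP
    have : Nonempty (Fin m) := ⟨⟨0, by omega⟩⟩
    obtain ⟨f, L, hL, hf⟩ := CfsgLib.Pres.SpW.presData_sp (F := F)
      (show (⟨0, by omega⟩ : Fin m) ≠ ⟨1, by omega⟩ by simp) hr hP
    obtain ⟨v, hv⟩ := hf.quotient (Subgroup.center (Matrix.symplecticGroup (Fin m) F)) _
      CfsgLib.Pres.SpFam.center_sp
    obtain ⟨L', hL', h'⟩ := hv.two (a := QuotientGroup.mk' _ a) (b := QuotientGroup.mk' _ b) (by
      rw [← Set.image_pair, ← MonoidHom.map_closure, hab,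
        Subgroup.map_top_of_surjective _ (QuotientGroup.mk'_surjective _)])
    exact h'.presented (by rw [hL', List.length_cons]; omega)
  rcases Nat.lt_or_ge m 5 with h | h
  · obtain ⟨k, rfl⟩ : ∃ k, m = k + 1 := ⟨m - 1, by omega⟩
    obtain ⟨f, L, hL, hf⟩ := CfsgLib.Pres.SymSmall.presData_cox k
    exact key (hL.trans (by nlinarith)) hf
  · obtain ⟨f, L, hL, hf⟩ := CfsgLib.Pres.SymAll.presData_perm h
    exact key (by omega) hf

end Cfsg.Agent.S2292
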