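import Cfsg.Statements.S2294
import Cfsg.Agent.Lib.Pres.SU.Chain.Pres
import Cfsg.Agent.Lib.Pres.Pad
import Cfsg.Agent.Lib.Classical.UnitarySU

set_option autoImplicit false
open Cfsg

namespace Cfsg.Agent.S2294

/-- Let F be a field with q² elements and n ≥ 4, and SU_n(q), PSU_n(q) the special unitary group of the standard Hermitian form and its central quotient. Then SU_n(q) has a presentation with 6 generators and at most 39 relations and PSU_n(q) one with 6 generators and at most 40 relations; moreover SU_4(q) and SU_5(q) have presentations with 6 generators and at most 35 relations, and PSU_4(q) one with 6 generators and at most 36 relations. -/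
theorem result {F : Type*} [Field F] [Fintype F] (q : ℕ) (hF : Fintype.card F = q ^ 2) (n : ℕ) (hn : 4 ≤ n) :
    (∃ rels : Finset (FreeGroup (Fin 6)), rels.card ≤ 39 ∧ Nonempty (PresentedGroup (↑rels : Set (FreeGroup (Fin 6))) ≃* ↥(Cfsg.SU n F q))) ∧ (∃ rels : Finset (FreeGroup (Fin 6)), rels.card ≤ 40 ∧ Nonempty (PresentedGroup (↑rels : Set (FreeGroup (Fin 6))) ≃* Cfsg.PSU n F q)) ∧
    (∃ rels : Finset (FreeGroup (Fin 6)), rels.card ≤ 35 ∧ Nonempty (PresentedGroup (↑rels : Set (FreeGroup (Fin 6))) ≃* ↥(Cfsg.SU 4 F q))) ∧ (∃ rels : Finset (FreeGroup (Fin 6)), rels.card ≤ 35 ∧ Nonempty (PresentedGroup (↑rels : Set (FreeGroup (Fin 6))) ≃* ↥(Cfsg.SU 5 F q))) ∧ (∃ rels : Finset (FreeGroup (Fin 6)), rels.card ≤ 36 ∧ Nonempty (PresentedGroup (↑rels : Set (FreeGroup (Fin 6))) ≃* Cfsg.PSU 4 F q)) := by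
  have hF' : Nat.card F = q ^ 2 := by rw [Nat.card_eq_fintype_card]; exact hF
  obtain ⟨σ, h⟩ := CfsgLib.Classical.Unitary.exists_uFrob hF'
  obtain ⟨f₄, L₄, hL₄, -, hd₄⟩ := CfsgLib.Pres.SU.Four.exists_four hF'
  have center : ∀ m, 2 ≤ m → ∃ z : Cfsg.SU m F q,
      Subgroup.zpowers z = Subgroup.center (Cfsg.SU m F q) := fun m hm => by
    let j : Subgroup.center (Cfsg.SU m F q) →* F :=
      { toFun := fun g => g.1.1.1 ⟨0, by omega⟩ ⟨0, by omega⟩
        map_one' := by simp
        map_mul' := fun a b => by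
          obtain ⟨c, -, -, hc⟩ := CfsgLib.Classical.SU_center_scalar hF' hm a.2
          show (a.1.1.1 * b.1.1.1) ⟨0, by omega⟩ ⟨0, by omega⟩ = _
          rw [hc, Matrix.diagonal_mul]
          simp }
    have hj : Function.Injective j := fun a b e => by
      obtain ⟨c, -, -, hc⟩ := CfsgLib.Classical.SU_center_scalar hF' hm a.2
      obtain ⟨d, -, -, hd⟩ := CfsgLib.Classical.SU_center_scalar hF' hm b.2
      refine Subtype.ext (Subtype.ext (Subtype.ext ?_))
      have hcd : c = d := by simpa [j, hc, hd] using e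
      rw [hc, hd, hcd]
    obtain ⟨g, hg⟩ := (isCyclic_of_injective_ringHom j hj).exists_generator
    refine ⟨g.1, le_antisymm (by rw [Subgroup.zpowers_le]; exact g.2) fun x hx => ?_⟩
    obtain ⟨k, hk⟩ := hg ⟨x, hx⟩
    exact ⟨k, congrArg Subtype.val hk⟩
  have psu : ∀ {ι : Type} [Fintype ι] (m : ℕ), 2 ≤ m → ∀ (f : ι → Cfsg.SU m F q) L,
      CfsgLib.Pres.PresData f L → Fintype.card ι ≤ 6 → ∀ r, L.length + 1 + (6 - Fintype.card ι) ≤ r →
      ∃ rels : Finset (FreeGroup (Fin 6)), rels.card ≤ r ∧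
        Nonempty (PresentedGroup (↑rels : Set (FreeGroup (Fin 6))) ≃* Cfsg.PSU m F q) :=
    fun m hm f L hd hc r hr => by
      obtain ⟨z, hz⟩ := center m hm
      obtain ⟨v, hd'⟩ := hd.quotient _ z hz
      exact hd'.presented_fin hc (by simp only [List.length_cons]; omega)
  have h6 : Fintype.card (Fin 2 ⊕ Fin 4) = 6 := by simp
  have h4 : Fintype.card (Fin 4) = 4 := by simp
  have s4 := hd₄.presented_fin (k := 6) (r := 35) (by omega) (by omega)
  have p4 := psu 4 (by omega) f₄ L₄ hd₄ (by omega) 36 (by omega)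
  obtain ⟨f₅, L₅, -, hL₅, hd₅⟩ := CfsgLib.Pres.SU.Chain.exists_pres hF' h (n := 5) le_rfl
  have s5 := hd₅.presented_fin (k := 6) (r := 35) (by omega) (by have := hL₅ rfl; omega)
  refine ⟨?_, ?_, s4, s5, p4⟩
  · rcases eq_or_lt_of_le hn with rfl | hn'
    · exact hd₄.presented_fin (by omega) (by omega)
    · obtain ⟨f, L, hL, -, hd⟩ := CfsgLib.Pres.SU.Chain.exists_pres hF' h (n := n) hn'
      exact hd.presented_fin (by omega) (by omega)
  · rcases eq_or_lt_of_le hn with rfl | hn'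
    · exact psu 4 (by omega) f₄ L₄ hd₄ (by omega) 40 (by omega)
    · obtain ⟨f, L, hL, -, hd⟩ := CfsgLib.Pres.SU.Chain.exists_pres hF' h (n := n) hn'
      exact psu n (by omega) f L hd (by omega) 40 (by omega)

end Cfsg.Agent.S2294
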