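import Cfsg.Statements.S2295
import Cfsg.Agent.Lib.Pres.DPlus.Words
import Cfsg.Agent.Lib.Pres.SLSeven.Main

set_option autoImplicit false
open Cfsg

namespace Cfsg.Agent.S2295

/-- Let F be a finite field and n ≥ 4, and let Ω⁺_2n(F) be the commutator subgroup of the orthogonal group of the hyperbolic quadratic form Σ x_i y_i, with PΩ⁺_2n(F) its central quotient. Then Ω⁺_2n(F) has a presentation with 8 generators and at most 31 relations (at most 29 if n = 4 or 5), and PΩ⁺_2n(F) one with 8 generators and at most 32 relations (at most 30 if n = 4 or 5). -/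
theorem result {F : Type*} [Field F] [Fintype F] (n : ℕ) (hn : 4 ≤ n) :
    (∃ rels : Finset (FreeGroup (Fin 8)), rels.card ≤ 31 ∧ Nonempty (PresentedGroup (↑rels : Set (FreeGroup (Fin 8))) ≃* ↥(Cfsg.Omega F (Cfsg.quadFormPlus n F)))) ∧ (∃ rels : Finset (FreeGroup (Fin 8)), rels.card ≤ 32 ∧ Nonempty (PresentedGroup (↑rels : Set (FreeGroup (Fin 8))) ≃* Cfsg.POmega F (Cfsg.quadFormPlus n F))) ∧
    (n ≤ 5 → (∃ rels : Finset (FreeGroup (Fin 8)), rels.card ≤ 29 ∧ Nonempty (PresentedGroup (↑rels : Set (FreeGroup (Fin 8))) ≃* ↥(Cfsg.Omega F (Cfsg.quadFormPlus n F)))) ∧ (∃ rels : Finset (FreeGroup (Fin 8)), rels.card ≤ 30 ∧ Nonempty (PresentedGroup (↑rels : Set (FreeGroup (Fin 8))) ≃* Cfsg.POmega F (Cfsg.quadFormPlus n F)))) := by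
  classical
  obtain ⟨m, rfl⟩ : ∃ m, n = m + 4 := ⟨n - 4, by omega⟩
  obtain ⟨ι, _, f, L, hd, hcard, hL, hL4, hL5⟩ := CfsgLib.Pres.SLSeven.exists_pres F m
  obtain ⟨f', L', hlen, hd'⟩ := CfsgLib.Pres.DPlus.presData_omega hn hd
  obtain ⟨z, hz⟩ := CfsgLib.Pres.DPlus.exists_center_gen (F := F) hn
  obtain ⟨v, hv⟩ := hd'.quotient _ z hz
  rw [← CfsgLib.Geometry.coe_matQuad_plus]
  have h1 := hd'.map (CfsgLib.Geometry.omegaEquiv (CfsgLib.Pres.DPlus.QQ F (m + 4))).symm
  have h2 := hv.map (CfsgLib.Geometry.pOmegaEquiv (CfsgLib.Pres.DPlus.QQ F (m + 4))).symm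
  have hc : Fintype.card (ι ⊕ Unit) = Fintype.card ι + 1 := by simp
  refine ⟨h1.presented_fin (k := 8) (by omega) (by omega),
    h2.presented_fin (k := 8) (by omega) (by rw [List.length_cons]; omega), fun h5 => ?_⟩
  have hsmall : L.length + (6 - Fintype.card ι) ≤ 22 := by
    rcases (show m = 0 ∨ m = 1 by omega) with h | h
    · have := hL4 h; omega
    · exact hL5 h
  exact ⟨h1.presented_fin (k := 8) (by omega) (by omega),
    h2.presented_fin (k := 8) (by omega) (by rw [List.length_cons]; omega)⟩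

end Cfsg.Agent.S2295
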