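import Cfsg.Statements.S2296
import Cfsg.Agent.Lib.Pres.SpFamilies
import Cfsg.Agent.Lib.Pres.SymAll

set_option autoImplicit false
open Cfsg

namespace Cfsg.Agent.S2296

/-- Let F be a finite field. Sp_2n(F) has a presentation with 10 generators and at most 58 relations for n ≥ 4, with 9 generators and at most 57 relations for n = 4 or 5, and with 8 generators and at most 52 relations for n = 3; in each case PSp_2n(F) has a presentation with the same number of generators and at most one more relation. -/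
theorem result {F : Type*} [Field F] [Fintype F] (n : ℕ) :
    (4 ≤ n → (∃ rels : Finset (FreeGroup (Fin 10)), rels.card ≤ 58 ∧ Nonempty (PresentedGroup (↑rels : Set (FreeGroup (Fin 10))) ≃* Matrix.symplecticGroup (Fin n) F)) ∧ (∃ rels : Finset (FreeGroup (Fin 10)), rels.card ≤ 59 ∧ Nonempty (PresentedGroup (↑rels : Set (FreeGroup (Fin 10))) ≃* Cfsg.PSp n F))) ∧
    ((n = 4 ∨ n = 5) → (∃ rels : Finset (FreeGroup (Fin 9)), rels.card ≤ 57 ∧ Nonempty (PresentedGroup (↑rels : Set (FreeGroup (Fin 9))) ≃* Matrix.symplecticGroup (Fin n) F)) ∧ (∃ rels : Finset (FreeGroup (Fin 9)), rels.card ≤ 58 ∧ Nonempty (PresentedGroup (↑rels : Set (FreeGroup (Fin 9))) ≃* Cfsg.PSp n F))) ∧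
    (n = 3 → (∃ rels : Finset (FreeGroup (Fin 8)), rels.card ≤ 52 ∧ Nonempty (PresentedGroup (↑rels : Set (FreeGroup (Fin 8))) ≃* Matrix.symplecticGroup (Fin n) F)) ∧ (∃ rels : Finset (FreeGroup (Fin 8)), rels.card ≤ 53 ∧ Nonempty (PresentedGroup (↑rels : Set (FreeGroup (Fin 8))) ≃* Cfsg.PSp n F))) := by
  have key : ∀ {k b : ℕ}, (n = 4 → 7 ≤ k ∧ 41 + (k - 7) ≤ b) → (5 ≤ n → 9 ≤ k ∧ 54 + (k - 9) ≤ b) →
      4 ≤ n →
      (∃ rels : Finset (FreeGroup (Fin k)), rels.card ≤ b ∧
        Nonempty (PresentedGroup (rels : Set (FreeGroup (Fin k))) ≃* Matrix.symplecticGroup (Fin n) F)) ∧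
      (∃ rels : Finset (FreeGroup (Fin k)), rels.card ≤ b + 1 ∧
        Nonempty (PresentedGroup (rels : Set (FreeGroup (Fin k))) ≃* Cfsg.PSp n F)) := by
    intro k b h4 h5 hn
    rcases Nat.lt_or_ge n 5 with h | h
    · obtain rfl : n = 4 := by omega
      obtain ⟨hk, hb⟩ := h4 rfl
      obtain ⟨f, L, hL, hf⟩ := CfsgLib.Pres.SymSmall.presData_cox 3
      exact CfsgLib.Pres.SpFam.presented_pair (by omega) hL hf (by simp; omega) (by simp; omega)
    · obtain ⟨hk, hb⟩ := h5 h
      obtain ⟨f, L, hL, hf⟩ := CfsgLib.Pres.SymAll.presData_perm h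
      exact CfsgLib.Pres.SpFam.presented_pair (by omega) hL hf (by simp; omega) (by simp; omega)
  refine ⟨fun hn => key (by omega) (by omega) hn, fun hn => key (by omega) (by omega) (by omega),
    fun hn => ?_⟩
  subst hn
  obtain ⟨f, L, hL, hf⟩ := CfsgLib.Pres.SymSmall.presData_cox 2
  exact CfsgLib.Pres.SpFam.presented_pair (by omega) hL hf (by simp) (by simp)

end Cfsg.Agent.S2296
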