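import Cfsg.Statements.S2298
import Cfsg.Agent.Lib.CharsMore.TwoByTwo.GL
import Mathlib

set_option autoImplicit false
set_option linter.style.haveILetI false
open Cfsg

namespace Cfsg.Agent.S2298

open CfsgLib.CharsMore.TwoByTwo


/-- Over a finite field F with q elements, every irreducible complex character of GL₂ has degree 1, q − 1, q or q + 1; and when q ≥ 3 (so that these four numbers are distinct) there are exactly q − 1 irreducible characters of degree 1, exactly q − 1 of degree q, exactly (q − 1)(q − 2)/2 of degree q + 1 and exactly q(q − 1)/2 of degree q − 1. -/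
theorem result {F : Type*} [Field F] [Fintype F] :
    (∀ χ : Matrix.GeneralLinearGroup (Fin 2) F → ℂ, Cfsg.IsIrrCharacter (Matrix.GeneralLinearGroup (Fin 2) F) χ →
      χ 1 = 1 ∨ χ 1 = (Fintype.card F : ℂ) - 1 ∨ χ 1 = (Fintype.card F : ℂ) ∨ χ 1 = (Fintype.card F : ℂ) + 1) ∧
    (3 ≤ Fintype.card F →
      Nat.card {χ : Cfsg.IrrCharacter (Matrix.GeneralLinearGroup (Fin 2) F) // (χ : Matrix.GeneralLinearGroup (Fin 2) F → ℂ) 1 = 1} = Fintype.card F - 1 ∧
      Nat.card {χ : Cfsg.IrrCharacter (Matrix.GeneralLinearGroup (Fin 2) F) // (χ : Matrix.GeneralLinearGroup (Fin 2) F → ℂ) 1 = (Fintype.card F : ℂ)} = Fintype.card F - 1 ∧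
      Nat.card {χ : Cfsg.IrrCharacter (Matrix.GeneralLinearGroup (Fin 2) F) // (χ : Matrix.GeneralLinearGroup (Fin 2) F → ℂ) 1 = (Fintype.card F : ℂ) + 1} = (Fintype.card F - 1) * (Fintype.card F - 2) / 2 ∧
      Nat.card {χ : Cfsg.IrrCharacter (Matrix.GeneralLinearGroup (Fin 2) F) // (χ : Matrix.GeneralLinearGroup (Fin 2) F → ℂ) 1 = (Fintype.card F : ℂ) - 1} = Fintype.card F * (Fintype.card F - 1) / 2) := by
  classical
  let _ := CfsgLib.Chars.irrFintype (Matrix.GeneralLinearGroup (Fin 2) F)
  let _ : DecidableEq (IrrCharacter (Matrix.GeneralLinearGroup (Fin 2) F)) := Classical.decEq _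
  have hq : 1 < Fintype.card F := Fintype.one_lt_card
  have hd : ∀ (χ : IrrCharacter (Matrix.GeneralLinearGroup (Fin 2) F)) (m : ℕ),
      (χ : Matrix.GeneralLinearGroup (Fin 2) F → ℂ) 1 = (m : ℂ) ↔
        charDegree (χ : Matrix.GeneralLinearGroup (Fin 2) F → ℂ) = m := fun χ m => by
    rw [CfsgLib.CharApps.deg_eq]; exact Nat.cast_inj
  have hm1 : ((Fintype.card F - 1 : ℕ) : ℂ) = (Fintype.card F : ℂ) - 1 := by push_cast [hq.le]; rfl
  have hp1 : ((Fintype.card F + 1 : ℕ) : ℂ) = (Fintype.card F : ℂ) + 1 := by push_cast; rfl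
  constructor
  · intro χ hχ
    rcases gl_cases (⟨χ, hχ⟩ : IrrCharacter _) with h | h | h | h
    · exact Or.inl (((hd _ 1).2 (deg_dSetGL h)).trans Nat.cast_one)
    · exact Or.inr (Or.inr (Or.inl ((hd _ _).2 (deg_sSetGL h))))
    · exact Or.inr (Or.inr (Or.inr (((hd _ _).2 (deg_pSetGL h)).trans hp1)))
    · exact Or.inr (Or.inl (((hd _ _).2 (deg_cSetGL h)).trans hm1))
  · intro hq3
    have key : ∀ (S : Finset (IrrCharacter (Matrix.GeneralLinearGroup (Fin 2) F))) (m : ℕ),
        (∀ χ, χ ∈ S ↔ charDegree (χ : Matrix.GeneralLinearGroup (Fin 2) F → ℂ) = m) →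
        Nat.card {χ : IrrCharacter (Matrix.GeneralLinearGroup (Fin 2) F) //
          (χ : Matrix.GeneralLinearGroup (Fin 2) F → ℂ) 1 = (m : ℂ)} = S.card := fun S m h => by
      rw [Nat.card_eq_fintype_card]
      exact Fintype.card_of_subtype S fun χ => (h χ).trans (hd χ m).symm
    have k1 := key dSetGL 1 fun χ => ⟨deg_dSetGL, fun e => by
      rcases gl_cases χ with h | h | h | h
      · exact h
      · have := (deg_sSetGL h).symm.trans e; omega
      · have := (deg_pSetGL h).symm.trans e; omega
      · have := (deg_cSetGL h).symm.trans e; omega⟩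
    have k2 := key sSetGL (Fintype.card F) fun χ => ⟨deg_sSetGL, fun e => by
      rcases gl_cases χ with h | h | h | h
      · have := (deg_dSetGL h).symm.trans e; omega
      · exact h
      · have := (deg_pSetGL h).symm.trans e; omega
      · have := (deg_cSetGL h).symm.trans e; omega⟩
    have k3 := key pSetGL (Fintype.card F + 1) fun χ => ⟨deg_pSetGL, fun e => by
      rcases gl_cases χ with h | h | h | h
      · have := (deg_dSetGL h).symm.trans e; omega
      · have := (deg_sSetGL h).symm.trans e; omega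
      · exact h
      · have := (deg_cSetGL h).symm.trans e; omega⟩
    have k4 := key cSetGL (Fintype.card F - 1) fun χ => ⟨deg_cSetGL, fun e => by
      rcases gl_cases χ with h | h | h | h
      · have := (deg_dSetGL h).symm.trans e; omega
      · have := (deg_sSetGL h).symm.trans e; omega
      · have := (deg_pSetGL h).symm.trans e; omega
      · exact h⟩
    rw [card_dSetGL, Nat.cast_one] at k1
    rw [card_sSetGL] at k2
    rw [hp1] at k3
    rw [hm1] at k4
    refine ⟨k1, k2, k3.trans ?_, k4.trans ?_⟩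
    · have := two_mul_card_pSetGL (F := F); omega
    · have := two_mul_card_cSetGL (F := F); omega

end Cfsg.Agent.S2298
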