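import Cfsg.Statements.S2299
import Cfsg.Agent.Lib.CharsMore.TwoByTwo.SLOdd
import Mathlib

set_option autoImplicit false
set_option linter.style.haveILetI false
open Cfsg

namespace Cfsg.Agent.S2299

open CfsgLib.CharsMore.TwoByTwo


/-- Over a finite field F with q elements, q odd, every irreducible complex character of SL₂ has degree 1, q, q + 1, q − 1, (q + 1)/2 or (q − 1)/2; and when q ≥ 5 (so that these six numbers are distinct) there are exactly one irreducible character of degree 1, one of degree q, (q − 3)/2 of degree q + 1, (q − 1)/2 of degree q − 1, two of degree (q + 1)/2 and two of degree (q − 1)/2. -/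
theorem result {F : Type*} [Field F] [Fintype F] (hodd : Odd (Fintype.card F)) :
    (∀ χ : Matrix.SpecialLinearGroup (Fin 2) F → ℂ, Cfsg.IsIrrCharacter (Matrix.SpecialLinearGroup (Fin 2) F) χ →
      χ 1 = 1 ∨ χ 1 = (Fintype.card F : ℂ) ∨ χ 1 = (Fintype.card F : ℂ) + 1 ∨ χ 1 = (Fintype.card F : ℂ) - 1 ∨
        χ 1 = (((Fintype.card F + 1) / 2 : ℕ) : ℂ) ∨ χ 1 = (((Fintype.card F - 1) / 2 : ℕ) : ℂ)) ∧
    (5 ≤ Fintype.card F →
      Nat.card {χ : Cfsg.IrrCharacter (Matrix.SpecialLinearGroup (Fin 2) F) // (χ : Matrix.SpecialLinearGroup (Fin 2) F → ℂ) 1 = 1} = 1 ∧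
      Nat.card {χ : Cfsg.IrrCharacter (Matrix.SpecialLinearGroup (Fin 2) F) // (χ : Matrix.SpecialLinearGroup (Fin 2) F → ℂ) 1 = (Fintype.card F : ℂ)} = 1 ∧
      Nat.card {χ : Cfsg.IrrCharacter (Matrix.SpecialLinearGroup (Fin 2) F) // (χ : Matrix.SpecialLinearGroup (Fin 2) F → ℂ) 1 = (Fintype.card F : ℂ) + 1} = (Fintype.card F - 3) / 2 ∧
      Nat.card {χ : Cfsg.IrrCharacter (Matrix.SpecialLinearGroup (Fin 2) F) // (χ : Matrix.SpecialLinearGroup (Fin 2) F → ℂ) 1 = (Fintype.card F : ℂ) - 1} = (Fintype.card F - 1) / 2 ∧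
      Nat.card {χ : Cfsg.IrrCharacter (Matrix.SpecialLinearGroup (Fin 2) F) // (χ : Matrix.SpecialLinearGroup (Fin 2) F → ℂ) 1 = (((Fintype.card F + 1) / 2 : ℕ) : ℂ)} = 2 ∧
      Nat.card {χ : Cfsg.IrrCharacter (Matrix.SpecialLinearGroup (Fin 2) F) // (χ : Matrix.SpecialLinearGroup (Fin 2) F → ℂ) 1 = (((Fintype.card F - 1) / 2 : ℕ) : ℂ)} = 2) := by
  classical
  let _ := CfsgLib.Chars.irrFintype (Matrix.SpecialLinearGroup (Fin 2) F)
  have hq := two_lt_card_of_odd hodd
  obtain ⟨j, hj⟩ := id hodd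
  have hd : ∀ (χ : IrrCharacter (Matrix.SpecialLinearGroup (Fin 2) F)) (m : ℕ),
      (χ : Matrix.SpecialLinearGroup (Fin 2) F → ℂ) 1 = (m : ℂ) ↔
        charDegree (χ : Matrix.SpecialLinearGroup (Fin 2) F → ℂ) = m := fun χ m => by
    rw [CfsgLib.CharApps.deg_eq]; exact Nat.cast_inj
  have hm1 : ((Fintype.card F - 1 : ℕ) : ℂ) = (Fintype.card F : ℂ) - 1 := by
    push_cast [(by omega : 1 ≤ Fintype.card F)]; rfl
  have hp1 : ((Fintype.card F + 1 : ℕ) : ℂ) = (Fintype.card F : ℂ) + 1 := by push_cast; rfl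
  have hcase : ∀ χ : IrrCharacter (Matrix.SpecialLinearGroup (Fin 2) F),
      (χ = CfsgLib.Chars.principal _ ∧ charDegree (χ : Matrix.SpecialLinearGroup (Fin 2) F → ℂ) = 1) ∨
      (χ = stIrrSL ∧ charDegree (χ : Matrix.SpecialLinearGroup (Fin 2) F → ℂ) = Fintype.card F) ∨
      (χ ∈ pSetSL ∧ charDegree (χ : Matrix.SpecialLinearGroup (Fin 2) F → ℂ) = Fintype.card F + 1) ∨
      (χ ∈ cBigSL ∧ charDegree (χ : Matrix.SpecialLinearGroup (Fin 2) F → ℂ) = Fintype.card F - 1) ∨
      (χ ∈ hSetSL ∧ charDegree (χ : Matrix.SpecialLinearGroup (Fin 2) F → ℂ) = (Fintype.card F + 1) / 2) ∨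
      (χ ∈ cHalfSL ∧ charDegree (χ : Matrix.SpecialLinearGroup (Fin 2) F → ℂ) = (Fintype.card F - 1) / 2) := by
    intro χ
    rcases sl_cases_odd hodd χ with h | h | h | h | h
    · exact Or.inl ⟨h, by rw [h]; exact deg_principal⟩
    · exact Or.inr (Or.inl ⟨h, by rw [h]; exact deg_stIrrSL⟩)
    · exact Or.inr (Or.inr (Or.inl ⟨h, deg_pSetSL h⟩))
    · have := (of_mem_hSetSL hodd h).2
      exact Or.inr (Or.inr (Or.inr (Or.inr (Or.inl ⟨h, by omega⟩))))
    · by_cases hb : charDegree (χ : Matrix.SpecialLinearGroup (Fin 2) F → ℂ) = Fintype.card F - 1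
      · exact Or.inr (Or.inr (Or.inr (Or.inl ⟨by simp [cBigSL, h, hb], hb⟩)))
      · have hc : χ ∈ cHalfSL := by simp [cHalfSL, h, hb]
        have := deg_cHalfSL hodd hc
        exact Or.inr (Or.inr (Or.inr (Or.inr (Or.inr ⟨hc, by omega⟩))))
  constructor
  · intro χ hχ
    rcases hcase (⟨χ, hχ⟩ : IrrCharacter _) with h | h | h | h | h | h
    · exact Or.inl (((hd ⟨χ, hχ⟩ 1).2 h.2).trans Nat.cast_one)
    · exact Or.inr (Or.inl ((hd ⟨χ, hχ⟩ _).2 h.2))
    · exact Or.inr (Or.inr (Or.inl (((hd _ _).2 h.2).trans hp1)))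
    · exact Or.inr (Or.inr (Or.inr (Or.inl (((hd _ _).2 h.2).trans hm1))))
    · exact Or.inr (Or.inr (Or.inr (Or.inr (Or.inl ((hd ⟨χ, hχ⟩ _).2 h.2)))))
    · exact Or.inr (Or.inr (Or.inr (Or.inr (Or.inr ((hd ⟨χ, hχ⟩ _).2 h.2)))))
  · intro hq5
    have key : ∀ (S : Finset (IrrCharacter (Matrix.SpecialLinearGroup (Fin 2) F))) (m : ℕ),
        (∀ χ, χ ∈ S ↔ charDegree (χ : Matrix.SpecialLinearGroup (Fin 2) F → ℂ) = m) →
        Nat.card {χ : IrrCharacter (Matrix.SpecialLinearGroup (Fin 2) F) //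
          (χ : Matrix.SpecialLinearGroup (Fin 2) F → ℂ) 1 = (m : ℂ)} = S.card := fun S m h => by
      rw [Nat.card_eq_fintype_card]
      exact Fintype.card_of_subtype S fun χ => (h χ).trans (hd χ m).symm
    have k1 := key {CfsgLib.Chars.principal _} 1 fun χ => ⟨fun h => by rw [Finset.mem_singleton.1 h]; exact deg_principal, fun e => by
      rcases hcase χ with h | h | h | h | h | h
      · exact Finset.mem_singleton.2 h.1
      all_goals (exfalso; have := h.2; omega)⟩
    have k2 := key {stIrrSL} (Fintype.card F) fun χ => ⟨fun h => by rw [Finset.mem_singleton.1 h]; exact deg_stIrrSL, fun e => by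
      rcases hcase χ with h | h | h | h | h | h
      rotate_left
      · exact Finset.mem_singleton.2 h.1
      all_goals (exfalso; have := h.2; omega)⟩
    have k3 := key pSetSL (Fintype.card F + 1) fun χ => ⟨deg_pSetSL, fun e => by
      rcases hcase χ with h | h | h | h | h | h
      rotate_left 2
      · exact h.1
      all_goals (exfalso; have := h.2; omega)⟩
    have k4 := key cBigSL (Fintype.card F - 1) fun χ => ⟨deg_cBigSL, fun e => by
      rcases hcase χ with h | h | h | h | h | h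
      rotate_left 3
      · exact h.1
      all_goals (exfalso; have := h.2; omega)⟩
    have k5 := key hSetSL ((Fintype.card F + 1) / 2) fun χ => ⟨fun h => by
      have := (of_mem_hSetSL hodd h).2; omega, fun e => by
      rcases hcase χ with h | h | h | h | h | h
      rotate_left 4
      · exact h.1
      all_goals (exfalso; have := h.2; omega)⟩
    have k6 := key cHalfSL ((Fintype.card F - 1) / 2) fun χ => ⟨fun h => by
      have := deg_cHalfSL hodd h; omega, fun e => by
      rcases hcase χ with h | h | h | h | h | h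
      rotate_left 5
      · exact h.1
      all_goals (exfalso; have := h.2; omega)⟩
    rw [Nat.cast_one] at k1
    rw [hp1] at k3
    rw [hm1] at k4
    refine ⟨k1.trans (Finset.card_singleton _), k2.trans (Finset.card_singleton _), k3.trans ?_, k4.trans ?_,
      k5.trans (card_hSetSL hodd), k6.trans (card_cuspSL hodd).1⟩
    · have := two_mul_card_pSetSL_odd hodd; omega
    · have := (card_cuspSL hodd).2; omega

end Cfsg.Agent.S2299
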