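import Cfsg.Statements.S2300
import Cfsg.Agent.Lib.CharsMore.TwoByTwo.SL
import Mathlib

set_option autoImplicit false
set_option linter.style.haveILetI false
open Cfsg

namespace Cfsg.Agent.S2300

open CfsgLib.CharsMore.TwoByTwo


/-- Over a finite field F with q elements, q even, every irreducible complex character of SL₂ has degree 1, q − 1, q or q + 1; and when q ≥ 4 (so that these four numbers are distinct) there are exactly one irreducible character of degree 1, one of degree q, (q − 2)/2 of degree q + 1 and q/2 of degree q − 1. -/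
theorem result {F : Type*} [Field F] [Fintype F] [CharP F 2] :
    (∀ χ : Matrix.SpecialLinearGroup (Fin 2) F → ℂ, Cfsg.IsIrrCharacter (Matrix.SpecialLinearGroup (Fin 2) F) χ →
      χ 1 = 1 ∨ χ 1 = (Fintype.card F : ℂ) - 1 ∨ χ 1 = (Fintype.card F : ℂ) ∨ χ 1 = (Fintype.card F : ℂ) + 1) ∧
    (4 ≤ Fintype.card F →
      Nat.card {χ : Cfsg.IrrCharacter (Matrix.SpecialLinearGroup (Fin 2) F) // (χ : Matrix.SpecialLinearGroup (Fin 2) F → ℂ) 1 = 1} = 1 ∧
      Nat.card {χ : Cfsg.IrrCharacter (Matrix.SpecialLinearGroup (Fin 2) F) // (χ : Matrix.SpecialLinearGroup (Fin 2) F → ℂ) 1 = (Fintype.card F : ℂ)} = 1 ∧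
      Nat.card {χ : Cfsg.IrrCharacter (Matrix.SpecialLinearGroup (Fin 2) F) // (χ : Matrix.SpecialLinearGroup (Fin 2) F → ℂ) 1 = (Fintype.card F : ℂ) + 1} = (Fintype.card F - 2) / 2 ∧
      Nat.card {χ : Cfsg.IrrCharacter (Matrix.SpecialLinearGroup (Fin 2) F) // (χ : Matrix.SpecialLinearGroup (Fin 2) F → ℂ) 1 = (Fintype.card F : ℂ) - 1} = Fintype.card F / 2) := by
  classical
  let _ := CfsgLib.Chars.irrFintype (Matrix.SpecialLinearGroup (Fin 2) F)
  have hq : 1 < Fintype.card F := Fintype.one_lt_card
  have hd : ∀ (χ : IrrCharacter (Matrix.SpecialLinearGroup (Fin 2) F)) (m : ℕ),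
      (χ : Matrix.SpecialLinearGroup (Fin 2) F → ℂ) 1 = (m : ℂ) ↔
        charDegree (χ : Matrix.SpecialLinearGroup (Fin 2) F → ℂ) = m := fun χ m => by
    rw [CfsgLib.CharApps.deg_eq]; exact Nat.cast_inj
  have hm1 : ((Fintype.card F - 1 : ℕ) : ℂ) = (Fintype.card F : ℂ) - 1 := by push_cast [hq.le]; rfl
  have hp1 : ((Fintype.card F + 1 : ℕ) : ℂ) = (Fintype.card F : ℂ) + 1 := by push_cast; rfl
  constructor
  · intro χ hχ
    rcases sl_cases_even (⟨χ, hχ⟩ : IrrCharacter _) with h | h | h | h
    · exact Or.inl (((hd ⟨χ, hχ⟩ 1).2 (by rw [h]; exact deg_principal)).trans Nat.cast_one)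
    · exact Or.inr (Or.inr (Or.inl ((hd ⟨χ, hχ⟩ _).2 (by rw [h]; exact deg_stIrrSL))))
    · exact Or.inr (Or.inr (Or.inr (((hd _ _).2 (deg_pSetSL h)).trans hp1)))
    · exact Or.inr (Or.inl (((hd _ _).2 (deg_cSetSL_even h)).trans hm1))
  · intro hq4
    have key : ∀ (S : Finset (IrrCharacter (Matrix.SpecialLinearGroup (Fin 2) F))) (m : ℕ),
        (∀ χ, χ ∈ S ↔ charDegree (χ : Matrix.SpecialLinearGroup (Fin 2) F → ℂ) = m) →
        Nat.card {χ : IrrCharacter (Matrix.SpecialLinearGroup (Fin 2) F) //
          (χ : Matrix.SpecialLinearGroup (Fin 2) F → ℂ) 1 = (m : ℂ)} = S.card := fun S m h => by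
      rw [Nat.card_eq_fintype_card]
      exact Fintype.card_of_subtype S fun χ => (h χ).trans (hd χ m).symm
    have k1 := key {CfsgLib.Chars.principal _} 1 fun χ => ⟨fun h => by rw [Finset.mem_singleton.1 h]; exact deg_principal, fun e => by
      rcases sl_cases_even χ with h | h | h | h
      · exact Finset.mem_singleton.2 h
      · subst h; rw [deg_stIrrSL] at e; omega
      · have := (deg_pSetSL h).symm.trans e; omega
      · have := (deg_cSetSL_even h).symm.trans e; omega⟩
    have k2 := key {stIrrSL} (Fintype.card F) fun χ => ⟨fun h => by rw [Finset.mem_singleton.1 h]; exact deg_stIrrSL, fun e => by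
      rcases sl_cases_even χ with h | h | h | h
      · subst h; rw [deg_principal] at e; omega
      · exact Finset.mem_singleton.2 h
      · have := (deg_pSetSL h).symm.trans e; omega
      · have := (deg_cSetSL_even h).symm.trans e; omega⟩
    have k3 := key pSetSL (Fintype.card F + 1) fun χ => ⟨deg_pSetSL, fun e => by
      rcases sl_cases_even χ with h | h | h | h
      · subst h; rw [deg_principal] at e; omega
      · subst h; rw [deg_stIrrSL] at e; omega
      · exact h
      · have := (deg_cSetSL_even h).symm.trans e; omega⟩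
    have k4 := key cSetSL (Fintype.card F - 1) fun χ => ⟨deg_cSetSL_even, fun e => by
      rcases sl_cases_even χ with h | h | h | h
      · subst h; rw [deg_principal] at e; omega
      · subst h; rw [deg_stIrrSL] at e; omega
      · have := (deg_pSetSL h).symm.trans e; omega
      · exact h⟩
    rw [Nat.cast_one] at k1
    rw [hp1] at k3
    rw [hm1] at k4
    refine ⟨k1.trans (Finset.card_singleton _), k2.trans (Finset.card_singleton _), k3.trans ?_, k4.trans ?_⟩
    · have := two_mul_card_pSetSL_even (F := F); omega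
    · have := two_mul_card_cSetSL_even (F := F); omega

end Cfsg.Agent.S2300
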