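import Cfsg.Statements.S2301
import Cfsg.Agent.Lib.GLTwo.Classes

set_option autoImplicit false
open Cfsg

namespace Cfsg.Agent.S2301

/-- Over a finite field with q elements of odd characteristic p, the elements of order p of SL₂ (the non-identity unipotent elements) fall into exactly two conjugacy classes, each of size (q² − 1)/2; two upper unitriangular matrices with non-zero off-diagonal entries b and b′ are conjugate exactly when bb′ is a square. -/
theorem result {F : Type*} [Field F] [Fintype F] (p : ℕ) [Fact p.Prime] [CharP F p] (hp : p ≠ 2) :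
    Nat.card {C : ConjClasses (Matrix.SpecialLinearGroup (Fin 2) F) // ∃ g : Matrix.SpecialLinearGroup (Fin 2) F, orderOf g = p ∧ ConjClasses.mk g = C} = 2 ∧
    (∀ g : Matrix.SpecialLinearGroup (Fin 2) F, orderOf g = p → Nat.card (ConjClasses.mk g).carrier = (Fintype.card F ^ 2 - 1) / 2) ∧
    ∀ g h : Matrix.SpecialLinearGroup (Fin 2) F, (g : Matrix (Fin 2) (Fin 2) F) 0 0 = 1 → (g : Matrix (Fin 2) (Fin 2) F) 1 1 = 1 → (g : Matrix (Fin 2) (Fin 2) F) 1 0 = 0 → (g : Matrix (Fin 2) (Fin 2) F) 0 1 ≠ 0 →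
      (h : Matrix (Fin 2) (Fin 2) F) 0 0 = 1 → (h : Matrix (Fin 2) (Fin 2) F) 1 1 = 1 → (h : Matrix (Fin 2) (Fin 2) F) 1 0 = 0 → (h : Matrix (Fin 2) (Fin 2) F) 0 1 ≠ 0 →
      (IsConj g h ↔ IsSquare ((g : Matrix (Fin 2) (Fin 2) F) 0 1 * (h : Matrix (Fin 2) (Fin 2) F) 0 1)) := by
  classical
  have hF : ringChar F ≠ 2 := by rwa [ringChar.eq F p]
  have h2 : (2 : F) ≠ 0 := Ring.two_ne_zero hF
  obtain ⟨ε, hε⟩ := FiniteField.exists_nonsquare hF
  have hε0 : ε ≠ 0 := fun h => hε (h ▸ IsSquare.zero)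
  have h1 : (1 : F) * 1 = 1 := mul_one 1
  have hchar : ∀ g : Matrix.SpecialLinearGroup (Fin 2) F, orderOf g = p →
      ¬ CfsgLib.GLTwo.IsScalar2 (g : Matrix (Fin 2) (Fin 2) F) ∧
      (g : Matrix (Fin 2) (Fin 2) F).trace = 2 * 1 := by
    intro g hg
    obtain ⟨a, b, -⟩ := (CfsgLib.GLTwo.orderOf_eq_char p _ CfsgLib.GLTwo.slMat_injective g).1 hg
    exact ⟨a, by rw [mul_one]; exact b⟩
  have hord : ∀ b : F, b ≠ 0 → orderOf (CfsgLib.GLTwo.jordanSL 1 b h1) = p := fun b hb =>
    (CfsgLib.GLTwo.orderOf_eq_char p _ CfsgLib.GLTwo.slMat_injective _).2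
      ⟨CfsgLib.GLTwo.jordanSL_not_scalar 1 b h1 hb,
        (CfsgLib.GLTwo.trace_jordanSL 1 b h1).trans (mul_one 2),
        (CfsgLib.GLTwo.jordanSL 1 b h1).2⟩
  refine ⟨?_, ?_, ?_⟩
  · rw [Nat.card_eq_two_iff]
    refine ⟨⟨ConjClasses.mk (CfsgLib.GLTwo.jordanSL 1 1 h1), _, hord 1 one_ne_zero, rfl⟩,
      ⟨ConjClasses.mk (CfsgLib.GLTwo.jordanSL 1 ε h1), _, hord ε hε0, rfl⟩, ?_, ?_⟩
    · intro h
      have := ConjClasses.mk_eq_mk_iff_isConj.1 (congrArg Subtype.val h)
      rw [CfsgLib.GLTwo.jordan_isConj_iff 1 1 ε h1 one_ne_zero hε0, one_mul] at this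
      exact hε this
    · refine Set.eq_univ_of_forall ?_
      rintro ⟨C, g, hg, rfl⟩
      obtain ⟨hns, ht⟩ := hchar g hg
      obtain ⟨b, hb, hc⟩ := CfsgLib.GLTwo.exists_jordan hns h1 ht
      simp only [Set.mem_insert_iff, Set.mem_singleton_iff, Subtype.mk.injEq,
        ConjClasses.mk_eq_mk_iff_isConj]
      by_cases hsq : IsSquare b
      · left
        exact hc.trans ((CfsgLib.GLTwo.jordan_isConj_iff 1 b 1 h1 hb one_ne_zero).2 (by rwa [mul_one]))
      · right
        refine hc.trans ((CfsgLib.GLTwo.jordan_isConj_iff 1 b ε h1 hb hε0).2 ?_)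
        rw [← quadraticChar_one_iff_isSquare (mul_ne_zero hb hε0), map_mul,
          quadraticChar_neg_one_iff_not_isSquare.2 hsq,
          quadraticChar_neg_one_iff_not_isSquare.2 hε]
        norm_num
  · intro g hg
    obtain ⟨hns, ht⟩ := hchar g hg
    have hC : Nat.card (Subgroup.centralizer ({g} : Set (Matrix.SpecialLinearGroup (Fin 2) F))) =
        Nat.card F * 2 := by
      rw [CfsgLib.GLTwo.sl_card_centralizer hns]
      refine Eq.trans (Nat.card_congr (Equiv.ofBijective (β := F × Bool)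
        (fun p => (p.1.2, decide (p.1.1 + p.1.2 = 1))) ⟨?_, ?_⟩)) (by rw [Nat.card_prod]; simp)
      · rintro ⟨⟨a, b⟩, ha⟩ ⟨⟨a', b'⟩, ha'⟩ heq
        simp only [Prod.mk.injEq, decide_eq_decide] at heq
        obtain ⟨rfl, heq⟩ := heq
        rw [ht] at ha ha'
        have e1 : (a + b) ^ 2 = 1 := by linear_combination ha
        have e2 : (a' + b) ^ 2 = 1 := by linear_combination ha'
        have : a + b = a' + b := by
          rcases sq_eq_one_iff.1 e1 with u | u <;> rcases sq_eq_one_iff.1 e2 with v | v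
          · rw [u, v]
          · exact (heq.1 u).symm ▸ u
          · exact u.trans ((u.symm.trans (heq.2 v)).symm ▸ v.symm)
          · rw [u, v]
        simp [add_right_cancel this]
      · rintro ⟨b, s⟩
        refine ⟨⟨((if s then (1 : F) else -1) - b, b), ?_⟩, ?_⟩
        · rw [ht]; cases s <;> simp <;> ring
        · cases s <;> simp
          intro h; exact h2 (by linear_combination -h)
    have h := CfsgLib.GLTwo.card_carrier_mul_card_centralizer g
    rw [hC, CfsgLib.Classical.card_SL_two] at h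
    have hpos : 0 < Nat.card F := Nat.card_pos
    have : 2 * Nat.card (ConjClasses.mk g).carrier = Nat.card F ^ 2 - 1 := by
      apply Nat.eq_of_mul_eq_mul_left hpos
      linarith
    rw [← Nat.card_eq_fintype_card, ← this, Nat.mul_div_cancel_left _ (by norm_num)]
  · intro g h g00 g11 g10 g01 h00 h11 h10 h01
    have hg : g = CfsgLib.GLTwo.jordanSL 1 ((g : Matrix (Fin 2) (Fin 2) F) 0 1) h1 := by
      ext i j
      fin_cases i <;> fin_cases j <;> simp [CfsgLib.GLTwo.jordanSL, CfsgLib.GLTwo.coe_mkSL, g00, g11, g10]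
    have hh : h = CfsgLib.GLTwo.jordanSL 1 ((h : Matrix (Fin 2) (Fin 2) F) 0 1) h1 := by
      ext i j
      fin_cases i <;> fin_cases j <;> simp [CfsgLib.GLTwo.jordanSL, CfsgLib.GLTwo.coe_mkSL, h00, h11, h10]
    conv_lhs => rw [hg, hh]
    exact CfsgLib.GLTwo.jordan_isConj_iff 1 _ _ h1 g01 h01

end Cfsg.Agent.S2301
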