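import Cfsg.Statements.S2302
import Cfsg.Agent.Lib.GLTwo.Classes

set_option autoImplicit false
open Cfsg

namespace Cfsg.Agent.S2302

/-- Over a finite field with q elements of characteristic 2, the involutions of SL₂ (the non-identity unipotent elements) form a single conjugacy class, of size q² − 1. -/
theorem result {F : Type*} [Field F] [Fintype F] [CharP F 2] (g h : Matrix.SpecialLinearGroup (Fin 2) F) (hg : orderOf g = 2) (hh : orderOf h = 2) :
    IsConj g h ∧ Nat.card (ConjClasses.mk g).carrier = Fintype.card F ^ 2 - 1 := by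
  haveI : Fact (Nat.Prime 2) := ⟨Nat.prime_two⟩
  obtain ⟨g1, g2, -⟩ := (CfsgLib.GLTwo.orderOf_eq_char 2 _ CfsgLib.GLTwo.slMat_injective g).1 hg
  obtain ⟨h1, h2, -⟩ := (CfsgLib.GLTwo.orderOf_eq_char 2 _ CfsgLib.GLTwo.slMat_injective h).1 hh
  refine ⟨CfsgLib.GLTwo.sl_isConj_of_norm_surj g1 h1 (g2.trans h2.symm)
    (fun r => CfsgLib.GLTwo.norm_surj_even r), ?_⟩
  have hC : Nat.card (Subgroup.centralizer ({g} : Set (Matrix.SpecialLinearGroup (Fin 2) F))) =
      Nat.card F := by
    rw [CfsgLib.GLTwo.sl_card_centralizer g1]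
    have ht : (g : Matrix (Fin 2) (Fin 2) F).trace = 0 := g2.trans CharTwo.two_eq_zero
    simp only [ht, mul_zero, add_zero]
    refine Nat.card_congr (Equiv.ofBijective (fun p => p.1.2) ⟨?_, ?_⟩)
    · rintro ⟨⟨a, b⟩, ha⟩ ⟨⟨a', b'⟩, ha'⟩ (rfl : b = b')
      have : a ^ 2 = a' ^ 2 := by linear_combination ha - ha'
      have := CharTwo.sq_inj.1 this
      simp [this]
    · intro b
      refine ⟨⟨(1 + b, b), ?_⟩, rfl⟩
      linear_combination (b + b ^ 2) * (CharTwo.two_eq_zero (R := F))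
  have h := CfsgLib.GLTwo.card_carrier_mul_card_centralizer g
  rw [hC, CfsgLib.Classical.card_SL_two, mul_comm (Nat.card F)] at h
  rw [Nat.eq_of_mul_eq_mul_right (Nat.card_pos (α := F)) h, Nat.card_eq_fintype_card]

end Cfsg.Agent.S2302
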