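import Cfsg.Statements.S2303
import Cfsg.Agent.Lib.GLTwo.Classes

set_option autoImplicit false
open Cfsg

namespace Cfsg.Agent.S2303

/-- Over a finite field with q elements: a diagonal element of GL₂ with two distinct diagonal entries has centralizer of order (q − 1)² (so q(q + 1) conjugates), and an element of GL₂ with no eigenvector in F² has centralizer of order q² − 1 (so q(q − 1) conjugates). -/
theorem result {F : Type*} [Field F] [Fintype F] (g : Matrix.GeneralLinearGroup (Fin 2) F) :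
    ((g : Matrix (Fin 2) (Fin 2) F) 0 1 = 0 → (g : Matrix (Fin 2) (Fin 2) F) 1 0 = 0 → (g : Matrix (Fin 2) (Fin 2) F) 0 0 ≠ (g : Matrix (Fin 2) (Fin 2) F) 1 1 →
      Nat.card (Subgroup.centralizer ({g} : Set (Matrix.GeneralLinearGroup (Fin 2) F))) = (Fintype.card F - 1) ^ 2) ∧
    ((∀ (c : F) (v : Fin 2 → F), v ≠ 0 → (g : Matrix (Fin 2) (Fin 2) F).mulVec v ≠ c • v) →
      Nat.card (Subgroup.centralizer ({g} : Set (Matrix.GeneralLinearGroup (Fin 2) F))) = Fintype.card F ^ 2 - 1) := by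
  classical
  constructor
  · intro h01 h10 hne
    have hns : ¬ CfsgLib.GLTwo.IsScalar2 (g : Matrix (Fin 2) (Fin 2) F) := fun h => hne h.2.2
    rw [CfsgLib.GLTwo.gl_card_centralizer hns]
    have hQ : ∀ a b : F, a ^ 2 + a * b * (g : Matrix (Fin 2) (Fin 2) F).trace +
        b ^ 2 * (g : Matrix (Fin 2) (Fin 2) F).det =
        (a + b * (g : Matrix (Fin 2) (Fin 2) F) 0 0) * (a + b * (g : Matrix (Fin 2) (Fin 2) F) 1 1) := by
      intro a b
      rw [Matrix.trace_fin_two, Matrix.det_fin_two, h01]; ring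
    have hd := sub_ne_zero.2 hne
    refine Eq.trans (Nat.card_congr (Equiv.ofBijective (β := Fˣ × Fˣ)
      (fun p => (Units.mk0 (p.1.1 + p.1.2 * (g : Matrix (Fin 2) (Fin 2) F) 0 0)
          (left_ne_zero_of_mul (hQ p.1.1 p.1.2 ▸ p.2)),
        Units.mk0 (p.1.1 + p.1.2 * (g : Matrix (Fin 2) (Fin 2) F) 1 1)
          (right_ne_zero_of_mul (hQ p.1.1 p.1.2 ▸ p.2)))) ⟨?_, ?_⟩))
      (by rw [Nat.card_prod, Nat.card_eq_fintype_card, Fintype.card_units, sq])
    · rintro ⟨⟨a, b⟩, ha⟩ ⟨⟨a', b'⟩, ha'⟩ heq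
      simp only [Prod.mk.injEq, Units.ext_iff, Units.val_mk0] at heq
      have hb : b = b' := (mul_left_inj' hd).1 (by linear_combination heq.1 - heq.2)
      subst hb
      simp [add_right_cancel heq.1]
    · rintro ⟨u, v⟩
      obtain ⟨b, hb⟩ : ∃ b : F, b = ((u : F) - v) / ((g : Matrix (Fin 2) (Fin 2) F) 0 0 -
        (g : Matrix (Fin 2) (Fin 2) F) 1 1) := ⟨_, rfl⟩
      have e1 : (u : F) - b * (g : Matrix (Fin 2) (Fin 2) F) 0 0 +
          b * (g : Matrix (Fin 2) (Fin 2) F) 1 1 = v := by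
        rw [hb]; field_simp; ring
      refine ⟨⟨((u : F) - b * (g : Matrix (Fin 2) (Fin 2) F) 0 0, b), ?_⟩, ?_⟩
      · rw [hQ, sub_add_cancel, e1]; exact mul_ne_zero u.ne_zero v.ne_zero
      · simp [Units.ext_iff, e1]
  · intro hir
    have hns : ¬ CfsgLib.GLTwo.IsScalar2 (g : Matrix (Fin 2) (Fin 2) F) := by
      intro h
      refine hir ((g : Matrix (Fin 2) (Fin 2) F) 0 0) ![1, 0] (fun h0 => by simpa using congrFun h0 0) ?_
      rw [(CfsgLib.GLTwo.isScalar2_iff _).1 h]
      simp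
    rw [CfsgLib.GLTwo.gl_card_centralizer hns]
    refine Eq.trans (Nat.card_congr (Equiv.subtypeEquivRight (q := fun p : F × F => p ≠ 0) ?_)) ?_
    · rintro ⟨a, b⟩
      constructor
      · intro h h0; simp [Prod.ext_iff] at h0; simp [h0.1, h0.2] at h
      · intro h h0
        rw [← CfsgLib.GLTwo.det_add_smul, ← Matrix.exists_mulVec_eq_zero_iff] at h0
        obtain ⟨v, hv, hv0⟩ := h0
        rcases eq_or_ne b 0 with rfl | hb
        · rcases eq_or_ne a 0 with rfl | ha
          · exact h rfl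
          · simp [Matrix.smul_mulVec, ha, hv] at hv0
        · refine hir (-(a / b)) v hv ?_
          rw [Matrix.add_mulVec, Matrix.smul_mulVec, Matrix.smul_mulVec, Matrix.one_mulVec] at hv0
          have := congrArg (fun w => b⁻¹ • w) (eq_neg_of_add_eq_zero_right hv0)
          simp only [smul_smul, inv_mul_cancel₀ hb, one_smul, smul_neg] at this
          rw [this, neg_smul, div_eq_inv_mul]
    · rw [Nat.card_eq_fintype_card, Fintype.card_subtype_compl, Fintype.card_subtype_eq,
        Fintype.card_prod, sq]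

end Cfsg.Agent.S2303
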