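import Cfsg.Statements.S2305
import Cfsg.Agent.Lib.Involutions.PrincipalSeries

set_option autoImplicit false
open Cfsg

namespace Cfsg.Agent.S2305

/-- Over a finite field F, for multiplicative characters α, β, α′, β′ of F, the characters of GL₂ induced from the linear characters b ↦ α(b₁₁) β(b₂₂) and b ↦ α′(b₁₁) β′(b₂₂) of the upper triangular subgroup coincide exactly when {α, β} = {α′, β′} as unordered pairs. -/
theorem result {F : Type*} [Field F] [Fintype F] [DecidableEq F] (α β α' β' : MulChar F ℂ) :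
    Cfsg.indFun (Cfsg.upperTriangularGL 2 F) (fun b => α (((b : Matrix.GeneralLinearGroup (Fin 2) F) : Matrix (Fin 2) (Fin 2) F) 0 0) * β (((b : Matrix.GeneralLinearGroup (Fin 2) F) : Matrix (Fin 2) (Fin 2) F) 1 1)) = Cfsg.indFun (Cfsg.upperTriangularGL 2 F) (fun b => α' (((b : Matrix.GeneralLinearGroup (Fin 2) F) : Matrix (Fin 2) (Fin 2) F) 0 0) * β' (((b : Matrix.GeneralLinearGroup (Fin 2) F) : Matrix (Fin 2) (Fin 2) F) 1 1)) ↔
      (α = α' ∧ β = β') ∨ (α = β' ∧ β = α') := by
  classical
  constructor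
  · intro h
    by_contra hne
    push Not at hne
    have h0 := CfsgLib.Involutions.PrincipalSeries.inner_gl α β α' β'
    rw [← h, CfsgLib.Involutions.PrincipalSeries.inner_gl α β α β,
      if_neg (show ¬ (α = α' ∧ β = β') from fun e => hne.1 e.1 e.2),
      if_neg (show ¬ (α = β' ∧ β = α') from fun e => hne.2 e.1 e.2), if_pos (⟨rfl, rfl⟩ : α = α ∧ β = β)] at h0
    split_ifs at h0 <;> norm_num at h0
  · intro h
    rw [← sub_eq_zero, ← CfsgLib.Chars.inner_self_eq_zero_iff, CfsgLib.Chars.inner_sub_left,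
      CfsgLib.Chars.inner_sub_right, CfsgLib.Chars.inner_sub_right]
    simp only [CfsgLib.Involutions.PrincipalSeries.inner_gl]
    rcases h with ⟨rfl, rfl⟩ | ⟨rfl, rfl⟩
    · ring
    · by_cases hαβ : α = β
      · subst hαβ; ring
      · simp only [hαβ, Ne.symm hαβ, and_self, and_false, false_and, if_false, if_true]
        ring

end Cfsg.Agent.S2305
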