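import Cfsg.Statements.S2306
import Cfsg.Agent.Lib.Involutions.PrincipalSeries

set_option autoImplicit false
open Cfsg

namespace Cfsg.Agent.S2306

/-- Over a finite field F, for a multiplicative character α of F, the function induced to SL₂ from the linear character b ↦ α(b₁₁) of the upper triangular subgroup is an irreducible character if and only if α² ≠ 1. -/
theorem result {F : Type*} [Field F] [Fintype F] [DecidableEq F] (α : MulChar F ℂ) :
    Cfsg.IsIrrCharacter (Matrix.SpecialLinearGroup (Fin 2) F) (Cfsg.indFun ((Cfsg.upperTriangularGL 2 F).comap Matrix.SpecialLinearGroup.toGL) (fun b => α (((b : Matrix.SpecialLinearGroup (Fin 2) F) : Matrix (Fin 2) (Fin 2) F) 0 0))) ↔ α ^ 2 ≠ 1 := by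
  classical
  have hiff : α ^ 2 ≠ 1 ↔ α ≠ α⁻¹ := by
    rw [ne_eq, ne_eq, sq, mul_eq_one_iff_eq_inv]
  rw [hiff]
  constructor
  · intro h he
    have h1 := CfsgLib.Chars.inner_irr_of_isIrr h h
    rw [CfsgLib.Involutions.PrincipalSeries.inner_sl, if_pos rfl, if_pos he] at h1
    norm_num at h1
  · intro hne
    refine CfsgLib.CharApps.isIrr_of_inner_self (CfsgLib.Chars.isCharacter_indFun _ ?_) ?_
    · have h := CfsgLib.Chars.isCharacter_of_irr
        (CfsgLib.Chars.isIrrCharacter_linear (CfsgLib.Involutions.PrincipalSeries.borelCharSL α))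
      simpa only [CfsgLib.Involutions.PrincipalSeries.borelCharSL_apply] using h
    · rw [CfsgLib.Involutions.PrincipalSeries.inner_sl, if_pos rfl, if_neg hne, add_zero]

end Cfsg.Agent.S2306
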