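import Cfsg.Statements.S2307
import Cfsg.Agent.Lib.CharsMore.TwoByTwo.SLOdd
import Mathlib

set_option autoImplicit false
set_option linter.style.haveILetI false
open Cfsg

namespace Cfsg.Agent.S2307

open CfsgLib.CharsMore.TwoByTwo


/-- Over a finite field F with q elements, q odd, let α be the multiplicative character of F of order 2. The character of SL₂ induced from the linear character b ↦ α(b₁₁) of the upper triangular subgroup is the sum of two distinct irreducible characters, each of degree (q + 1)/2, which are conjugate under GL₂: some fixed element of GL₂ conjugates the one into the other. -/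
theorem result {F : Type*} [Field F] [Fintype F] [DecidableEq F] (hodd : Odd (Fintype.card F)) (α : MulChar F ℂ)
    (hα : α ^ 2 = 1) (hα1 : α ≠ 1) :
    ∃ χ₁ χ₂ : Matrix.SpecialLinearGroup (Fin 2) F → ℂ, Cfsg.IsIrrCharacter (Matrix.SpecialLinearGroup (Fin 2) F) χ₁ ∧ Cfsg.IsIrrCharacter (Matrix.SpecialLinearGroup (Fin 2) F) χ₂ ∧ χ₁ ≠ χ₂ ∧
      Cfsg.indFun ((Cfsg.upperTriangularGL 2 F).comap Matrix.SpecialLinearGroup.toGL) (fun b => α (((b : Matrix.SpecialLinearGroup (Fin 2) F) : Matrix (Fin 2) (Fin 2) F) 0 0)) = χ₁ + χ₂ ∧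
      χ₁ 1 = (((Fintype.card F + 1) / 2 : ℕ) : ℂ) ∧ χ₂ 1 = (((Fintype.card F + 1) / 2 : ℕ) : ℂ) ∧
      ∃ x : Matrix.GeneralLinearGroup (Fin 2) F, ∀ g h : Matrix.SpecialLinearGroup (Fin 2) F,
        Matrix.SpecialLinearGroup.toGL h = x * Matrix.SpecialLinearGroup.toGL g * x⁻¹ → χ₂ h = χ₁ g := by
  classical
  have hαη : α = etaC F := eq_etaC hodd hα1 (eq_inv_of_mul_eq_one_left (by rw [← sq]; exact hα))
  subst hαη
  obtain ⟨a, b, hab, he, ha, hb, hda, hdb⟩ := exists_halves hodd
  obtain ⟨ν, hν⟩ := FiniteField.exists_nonsquare (ringChar_ne_two hodd)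
  have hν0 : ν ≠ 0 := fun e => hν (by rw [e]; exact IsSquare.zero)
  have hba : (a : Matrix.SpecialLinearGroup (Fin 2) F → ℂ) ∘ dConj (Units.mk0 ν hν0) = b :=
    half_comp_dConj hodd hab he ha hda _ hν
  have hdeg : ∀ c : IrrCharacter (Matrix.SpecialLinearGroup (Fin 2) F),
      2 * charDegree (c : Matrix.SpecialLinearGroup (Fin 2) F → ℂ) = Fintype.card F + 1 →
      (c : Matrix.SpecialLinearGroup (Fin 2) F → ℂ) 1 = (((Fintype.card F + 1) / 2 : ℕ) : ℂ) := fun c hc => by
    rw [CfsgLib.CharApps.deg_eq, Nat.cast_inj]; omega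
  refine ⟨a, b, a.2, b.2, fun e => hab (Subtype.ext e), ?_, hdeg a hda, hdeg b hdb,
    (Matrix.GeneralLinearGroup.mkOfDetNeZero !![ν, 0; 0, 1] (by simp [Matrix.det_fin_two, hν0]))⁻¹, ?_⟩
  · rw [← he, piSL]
  · intro g h e
    have e' : g = dConj (Units.mk0 ν hν0) h := by
      apply toGL_injective
      have e2 := congrArg (fun y =>
        Matrix.GeneralLinearGroup.mkOfDetNeZero !![ν, 0; 0, 1] (by simp [Matrix.det_fin_two, hν0]) * y *
          (Matrix.GeneralLinearGroup.mkOfDetNeZero !![ν, 0; 0, 1] (by simp [Matrix.det_fin_two, hν0]))⁻¹) e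
      simp only [inv_inv, mul_assoc, mul_inv_cancel_left, mul_inv_cancel, mul_one] at e2
      rw [← e2, ← mul_assoc, mul_inv_eq_iff_eq_mul]
      refine Units.ext ?_
      rw [Units.val_mul, Units.val_mul, coe_toGL, coe_toGL, coe_dConj]
      ext i j
      fin_cases i <;> fin_cases j <;>
        simp [Matrix.mul_apply, Fin.sum_univ_two, Matrix.GeneralLinearGroup.mkOfDetNeZero] <;> field_simp
    rw [e', ← hba]
    rfl

end Cfsg.Agent.S2307
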