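import Cfsg.Statements.S2308
import Cfsg.Agent.Lib.GLTwo.Lines

set_option autoImplicit false
open Cfsg

namespace Cfsg.Agent.S2308

/-- Values of the permutation character of GL₂ over a finite field F with q elements on the cosets of its upper triangular subgroup (equivalently, the number of lines of F² that an element maps to themselves): q + 1 at a scalar matrix, 2 at a diagonal matrix with two different diagonal entries, 0 at an element with no eigenvector in F², and 1 at an upper triangular matrix with equal diagonal entries and non-zero upper right entry. -/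
theorem result {F : Type*} [Field F] [Fintype F] (g : Matrix.GeneralLinearGroup (Fin 2) F) :
    ((∃ a : F, (g : Matrix (Fin 2) (Fin 2) F) = a • (1 : Matrix (Fin 2) (Fin 2) F)) → Cfsg.fixedPointCharacter (Cfsg.upperTriangularGL 2 F) g = Fintype.card F + 1) ∧
    ((g : Matrix (Fin 2) (Fin 2) F) 0 1 = 0 → (g : Matrix (Fin 2) (Fin 2) F) 1 0 = 0 → (g : Matrix (Fin 2) (Fin 2) F) 0 0 ≠ (g : Matrix (Fin 2) (Fin 2) F) 1 1 →
      Cfsg.fixedPointCharacter (Cfsg.upperTriangularGL 2 F) g = 2) ∧
    ((∀ (c : F) (v : Fin 2 → F), v ≠ 0 → (g : Matrix (Fin 2) (Fin 2) F).mulVec v ≠ c • v) → Cfsg.fixedPointCharacter (Cfsg.upperTriangularGL 2 F) g = 0) ∧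
    ((g : Matrix (Fin 2) (Fin 2) F) 1 0 = 0 → (g : Matrix (Fin 2) (Fin 2) F) 0 0 = (g : Matrix (Fin 2) (Fin 2) F) 1 1 → (g : Matrix (Fin 2) (Fin 2) F) 0 1 ≠ 0 →
      Cfsg.fixedPointCharacter (Cfsg.upperTriangularGL 2 F) g = 1) := by
  classical
  rw [CfsgLib.GLTwo.fixedPointCharacter_eq]
  refine ⟨?_, ?_, ?_, ?_⟩
  · rintro ⟨a, ha⟩
    rw [Nat.card_congr (Equiv.subtypeUnivEquiv (fun o => ?_)), Nat.card_eq_fintype_card,
      Fintype.card_option]
    · simp
    · rw [ha]; simp [Matrix.smul_mulVec]; ring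
  · intro h01 h10 hne
    have key : ∀ o : Option F, (((g : Matrix (Fin 2) (Fin 2) F).mulVec (CfsgLib.GLTwo.linePoint o)) 0 *
        CfsgLib.GLTwo.linePoint o 1 = ((g : Matrix (Fin 2) (Fin 2) F).mulVec
        (CfsgLib.GLTwo.linePoint o)) 1 * CfsgLib.GLTwo.linePoint o 0) ↔ o = none ∨ o = some 0 := by
      rintro (_ | c)
      · simp [CfsgLib.GLTwo.linePoint, Matrix.mulVec, dotProduct, Fin.sum_univ_two, h01, h10]
      · simp [CfsgLib.GLTwo.linePoint, Matrix.mulVec, dotProduct, Fin.sum_univ_two, h01, h10]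
        exact fun h => absurd h hne
    rw [Nat.card_congr (Equiv.subtypeEquivRight key), Nat.card_eq_fintype_card,
      Fintype.card_subtype]
    rw [show (Finset.univ.filter fun o : Option F => o = none ∨ o = some 0) = {none, some 0} by
      ext o; simp]
    simp
  · intro hir
    rw [Nat.card_eq_zero.2 (Or.inl ⟨?_⟩)]
    · simp
    · rintro ⟨o, ho⟩
      cases o with
      | none =>
        simp [CfsgLib.GLTwo.linePoint, Matrix.mulVec, dotProduct, Fin.sum_univ_two] at ho
        refine hir ((g : Matrix (Fin 2) (Fin 2) F) 1 1) ![0, 1]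
          (fun h => by simpa using congrFun h 1) ?_
        ext i; fin_cases i <;> simp [Matrix.mulVec, dotProduct, Fin.sum_univ_two, ho]
      | some c =>
        simp [CfsgLib.GLTwo.linePoint, Matrix.mulVec, dotProduct, Fin.sum_univ_two] at ho
        refine hir ((g : Matrix (Fin 2) (Fin 2) F) 0 0 + (g : Matrix (Fin 2) (Fin 2) F) 0 1 * c) ![1, c]
          (fun h => by simpa using congrFun h 0) ?_
        ext i; fin_cases i <;> simp [Matrix.mulVec, dotProduct, Fin.sum_univ_two, ho]
  · intro h10 hd h01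
    have key : ∀ o : Option F, (((g : Matrix (Fin 2) (Fin 2) F).mulVec (CfsgLib.GLTwo.linePoint o)) 0 *
        CfsgLib.GLTwo.linePoint o 1 = ((g : Matrix (Fin 2) (Fin 2) F).mulVec
        (CfsgLib.GLTwo.linePoint o)) 1 * CfsgLib.GLTwo.linePoint o 0) ↔ o = some 0 := by
      rintro (_ | c)
      · simp [CfsgLib.GLTwo.linePoint, Matrix.mulVec, dotProduct, Fin.sum_univ_two, h01]
      · simp [CfsgLib.GLTwo.linePoint, Matrix.mulVec, dotProduct, Fin.sum_univ_two, h10, ← hd]
        exact fun h => absurd h h01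
    rw [Nat.card_congr (Equiv.subtypeEquivRight key)]
    simp

end Cfsg.Agent.S2308
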