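import Cfsg.Statements.S2309
import Cfsg.Agent.Lib.CharsMore.TwoByTwo.GL
import Mathlib

set_option autoImplicit false
set_option linter.style.haveILetI false
open Cfsg

namespace Cfsg.Agent.S2309

open CfsgLib.CharsMore.TwoByTwo


/-- Over a finite field F with q elements: every irreducible complex character of GL₂ of degree q − 1 vanishes at every diagonal matrix with two distinct entries, and every irreducible complex character of degree q + 1 vanishes at every element with no eigenvector in F². -/
theorem result {F : Type*} [Field F] [Fintype F] (χ : Matrix.GeneralLinearGroup (Fin 2) F → ℂ) (hχ : Cfsg.IsIrrCharacter (Matrix.GeneralLinearGroup (Fin 2) F) χ) (g : Matrix.GeneralLinearGroup (Fin 2) F) :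
    (χ 1 = (Fintype.card F : ℂ) - 1 → (g : Matrix (Fin 2) (Fin 2) F) 0 1 = 0 → (g : Matrix (Fin 2) (Fin 2) F) 1 0 = 0 → (g : Matrix (Fin 2) (Fin 2) F) 0 0 ≠ (g : Matrix (Fin 2) (Fin 2) F) 1 1 → χ g = 0) ∧
    (χ 1 = (Fintype.card F : ℂ) + 1 → (∀ (c : F) (v : Fin 2 → F), v ≠ 0 → (g : Matrix (Fin 2) (Fin 2) F).mulVec v ≠ c • v) → χ g = 0) := by
  classical
  let χ' : IrrCharacter (Matrix.GeneralLinearGroup (Fin 2) F) := ⟨χ, hχ⟩
  have hd : ∀ m : ℕ, χ 1 = (m : ℂ) → charDegree χ = m := fun m h => by
    have := CfsgLib.CharApps.deg_eq χ'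
    rw [show (χ' : Matrix.GeneralLinearGroup (Fin 2) F → ℂ) = χ from rfl, h] at this
    exact_mod_cast this.symm
  have hq : 1 < Fintype.card F := Fintype.one_lt_card
  refine ⟨fun h h01 h10 hne => ?_, fun h hno => ?_⟩
  · have hd' := hd (Fintype.card F - 1) (by rw [h]; push_cast [hq.le]; rfl)
    have hq3 := three_le_card_of_ne g h01 h10 hne
    rcases gl_cases χ' with hc | hc | hc | hc
    · have := (deg_dSetGL hc).symm.trans hd'; omega
    · have := (deg_sSetGL hc).symm.trans hd'; omega
    · have := (deg_pSetGL hc).symm.trans hd'; omega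
    · exact apply_diag_of_uSumGL_eq_zero hχ (uSumGL_cSetGL hc) g h01 h10 hne
  · have hd' := hd (Fintype.card F + 1) (by rw [h]; push_cast; rfl)
    rcases gl_cases χ' with hc | hc | hc | hc
    · have := (deg_dSetGL hc).symm.trans hd'; omega
    · have := (deg_sSetGL hc).symm.trans hd'; omega
    · obtain ⟨α, β, -, rfl⟩ := mem_pSetGL hc
      exact piGL_apply_elliptic α β g hno
    · have := (deg_cSetGL hc).symm.trans hd'; omega

end Cfsg.Agent.S2309
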