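import Cfsg.Statements.S2310
import Cfsg.Agent.Lib.CharsMore.TwoByTwo.GL
import Mathlib

set_option autoImplicit false
set_option linter.style.haveILetI false
open Cfsg

namespace Cfsg.Agent.S2310

open CfsgLib.CharsMore.TwoByTwo


/-- Over a finite field F with q ≥ 3 elements, let u be the upper unitriangular matrix of GL₂ with off-diagonal entry 1. An irreducible complex character χ of GL₂ takes at u the value 1 if χ has degree 1 or q + 1, the value −1 if χ has degree q − 1, and the value 0 if χ has degree q. -/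
theorem result {F : Type*} [Field F] [Fintype F] (hq : 3 ≤ Fintype.card F) (χ : Matrix.GeneralLinearGroup (Fin 2) F → ℂ) (hχ : Cfsg.IsIrrCharacter (Matrix.GeneralLinearGroup (Fin 2) F) χ)
    (u : Matrix.GeneralLinearGroup (Fin 2) F) (hu : (u : Matrix (Fin 2) (Fin 2) F) = !![1, 1; 0, 1]) :
    (χ 1 = 1 → χ u = 1) ∧ (χ 1 = (Fintype.card F : ℂ) + 1 → χ u = 1) ∧
    (χ 1 = (Fintype.card F : ℂ) - 1 → χ u = -1) ∧ (χ 1 = (Fintype.card F : ℂ) → χ u = 0) := by
  classical
  have hu' : u = uGL (1 : F) := Units.ext hu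
  subst hu'
  let χ' : IrrCharacter (Matrix.GeneralLinearGroup (Fin 2) F) := ⟨χ, hχ⟩
  have hd : ∀ m : ℕ, χ 1 = (m : ℂ) → charDegree χ = m := fun m h => by
    have := CfsgLib.CharApps.deg_eq χ'
    rw [show (χ' : Matrix.GeneralLinearGroup (Fin 2) F → ℂ) = χ from rfl, h] at this
    exact_mod_cast this.symm
  have hm1 : ((Fintype.card F - 1 : ℕ) : ℂ) = (Fintype.card F : ℂ) - 1 := by
    push_cast [(by omega : 1 ≤ Fintype.card F)]; rfl
  have hp1 : ((Fintype.card F + 1 : ℕ) : ℂ) = (Fintype.card F : ℂ) + 1 := by push_cast; rfl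
  have hne : (Fintype.card F : ℂ) - 1 ≠ 0 := sub_ne_zero.2 (by exact_mod_cast (by omega : Fintype.card F ≠ 1))
  have hs := uSumGL_split (CfsgLib.Chars.isClassFunction_irr χ')
  refine ⟨fun h => ?_, fun h => ?_, fun h => ?_, fun h => ?_⟩
  · have hd' := hd 1 (h.trans Nat.cast_one.symm)
    rcases gl_cases χ' with hc | hc | hc | hc
    · obtain ⟨α, rfl⟩ := mem_dSetGL hc
      simp [detChar_apply, coe_uGL, Matrix.det_fin_two]
    · have := (deg_sSetGL hc).symm.trans hd'; omega
    · have := (deg_pSetGL hc).symm.trans hd'; omega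
    · have := (deg_cSetGL hc).symm.trans hd'; omega
  · have hd' := hd _ (h.trans hp1.symm)
    rcases gl_cases χ' with hc | hc | hc | hc
    · have := (deg_dSetGL hc).symm.trans hd'; omega
    · have := (deg_sSetGL hc).symm.trans hd'; omega
    · obtain ⟨α, β, hab, rfl⟩ := mem_pSetGL hc
      exact piGL_apply_uGL α β
    · have := (deg_cSetGL hc).symm.trans hd'; omega
  · have hd' := hd _ (h.trans hm1.symm)
    rcases gl_cases χ' with hc | hc | hc | hc
    · have := (deg_dSetGL hc).symm.trans hd'; omega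
    · have := (deg_sSetGL hc).symm.trans hd'; omega
    · have := (deg_pSetGL hc).symm.trans hd'; omega
    · rw [uSumGL_cSetGL hc] at hs
      change 0 = χ 1 + _ * χ (uGL 1) at hs
      rw [h] at hs
      exact mul_left_cancel₀ hne (by linear_combination -hs)
  · have hd' := hd _ h
    rcases gl_cases χ' with hc | hc | hc | hc
    · have := (deg_dSetGL hc).symm.trans hd'; omega
    · obtain ⟨α, rfl⟩ := mem_sSetGL hc
      exact stGL_apply_uGL α
    · have := (deg_pSetGL hc).symm.trans hd'; omega
    · have := (deg_cSetGL hc).symm.trans hd'; omega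

end Cfsg.Agent.S2310
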