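import Cfsg.Statements.S2315
import Cfsg.Agent.Lib.LinearGroups.NilpotentCount

set_option autoImplicit false
open Cfsg

namespace Cfsg.Agent.S2315

/-- Steinberg's count of unipotent elements for the general linear group: over a finite field with q elements of characteristic p, the number of elements of GL_n of p-power order (the unipotent matrices) is q^(n(n−1)). -/
theorem result {F : Type*} [Field F] [Fintype F] (p : ℕ) [Fact p.Prime] [CharP F p] (n : ℕ) :
    Nat.card {g : Matrix.GeneralLinearGroup (Fin n) F // ∃ k : ℕ, orderOf g = p ^ k} = Fintype.card F ^ (n * (n - 1)) := by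
  classical
  have hp : p.Prime := Fact.out
  have hp0 : (p : Matrix (Fin n) (Fin n) F) = 0 := by
    rw [← Matrix.diagonal_natCast, CharP.cast_eq_zero, Matrix.diagonal_zero]
  have key : ∀ (M : Matrix (Fin n) (Fin n) F) (k : ℕ), (1 + M) ^ p ^ k = 1 + M ^ p ^ k := by
    intro M k
    obtain ⟨r, hr⟩ := (Commute.one_left M).exists_add_pow_prime_pow_eq hp k
    rw [hr, hp0, one_pow]
    simp
  have h1 : ∀ g : Matrix.GeneralLinearGroup (Fin n) F, (∃ k : ℕ, orderOf g = p ^ k) ↔
      IsNilpotent ((g : Matrix (Fin n) (Fin n) F) - 1) := by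
    intro g
    set M := (g : Matrix (Fin n) (Fin n) F) - 1 with hM
    have hg : (g : Matrix (Fin n) (Fin n) F) = 1 + M := by rw [hM]; abel
    constructor
    · rintro ⟨k, hk⟩
      have h := congrArg Units.val (pow_orderOf_eq_one g)
      rw [hk, Units.val_pow_eq_pow_val, hg, key, Units.val_one, add_eq_left] at h
      exact ⟨p ^ k, h⟩
    · rintro ⟨j, hj⟩
      have hpow : g ^ p ^ j = 1 := Units.ext (by
        rw [Units.val_pow_eq_pow_val, hg, key,
          pow_eq_zero_of_le (Nat.lt_pow_self hp.one_lt).le hj, add_zero, Units.val_one])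
      obtain ⟨i, -, hi⟩ := (Nat.dvd_prime_pow hp).1 (orderOf_dvd_of_pow_eq_one hpow)
      exact ⟨i, hi⟩
  rw [← CfsgLib.LinearGroups.card_nilMat (F := F) n]
  refine Nat.card_congr (Equiv.ofBijective
    (fun g => (⟨(g.1 : Matrix (Fin n) (Fin n) F) - 1, (h1 g.1).1 g.2⟩ :
      CfsgLib.LinearGroups.NilMat F n)) ⟨?_, ?_⟩)
  · intro g g' h
    exact Subtype.ext (Units.ext (by simpa using congrArg Subtype.val h))
  · intro N
    have hu := (IsNilpotent.isUnit_one_add N.2).unit_spec
    exact ⟨⟨(IsNilpotent.isUnit_one_add N.2).unit, (h1 _).2 (by rw [hu]; simpa using N.2)⟩,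
      Subtype.ext (by
        show ((IsNilpotent.isUnit_one_add N.2).unit : Matrix (Fin n) (Fin n) F) - 1 = N.1
        rw [hu, add_sub_cancel_left])⟩

end Cfsg.Agent.S2315
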