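import Cfsg.Statements.S2316
import Cfsg.Agent.Lib.KnownB.SympUnip.Count

set_option autoImplicit false
open Cfsg

set_option linter.style.haveILetI false

namespace Cfsg.Agent.S2316

/-- Steinberg's count of unipotent elements for the symplectic group: over a finite field with q elements of characteristic p, the number of elements of Sp_{2m} of p-power order is q^(2m²). -/
theorem result {F : Type*} [Field F] [Fintype F] (p : ℕ) [Fact p.Prime] [CharP F p] (m : ℕ) :
    Nat.card {g : ↥(Matrix.symplecticGroup (Fin m) F) // ∃ k : ℕ, orderOf g = p ^ k} = Fintype.card F ^ (2 * m ^ 2) := by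
  classical
  have hp : p.Prime := Fact.out
  set B := Matrix.toBilin' (Matrix.J (Fin m) F) with hBdef
  have hdet : (Matrix.J (Fin m) F).det ≠ 0 := (Matrix.isUnit_det_J _ _).ne_zero
  have hB : B.Nondegenerate :=
    LinearMap.BilinForm.nondegenerate_toBilin'_iff_det_ne_zero.2 hdet
  have hA : B.IsAlt := fun x => by
    rw [hBdef, Matrix.toBilin'_apply', Matrix.J, Matrix.fromBlocks_mulVec]
    simp [dotProduct, Matrix.neg_mulVec, mul_comm]
  have h := CfsgLib.KnownB.SympUnip.cnt_perp hB hA m ⊤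
    ⟨by rw [LinearMap.BilinForm.orthogonal_top_eq_bot hB, inf_bot_eq], by
      rw [finrank_top, Module.finrank_pi, Fintype.card_sum, Fintype.card_fin, two_mul]⟩
  rw [LinearMap.BilinForm.orthogonal_top_eq_bot hB] at h
  rw [← h, CfsgLib.KnownB.SympUnip.cnt]
  -- p-power order means unipotent
  have key : ∀ (M : Matrix (Fin m ⊕ Fin m) (Fin m ⊕ Fin m) F) (k : ℕ),
      (1 + M) ^ p ^ k = 1 + M ^ p ^ k := by
    intro M k
    obtain ⟨r, hr⟩ := (Commute.one_left M).exists_add_pow_prime_pow_eq hp k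
    have hp0 : (p : Matrix (Fin m ⊕ Fin m) (Fin m ⊕ Fin m) F) = 0 := by
      rw [← Matrix.diagonal_natCast, CharP.cast_eq_zero, Matrix.diagonal_zero]
    rw [hr, hp0, one_pow]
    simp
  have h1 : ∀ g : ↥(Matrix.symplecticGroup (Fin m) F), (∃ k : ℕ, orderOf g = p ^ k) ↔
      IsNilpotent ((g : Matrix (Fin m ⊕ Fin m) (Fin m ⊕ Fin m) F) - 1) := by
    intro g
    obtain ⟨M, hM⟩ : ∃ M, M = (g : Matrix (Fin m ⊕ Fin m) (Fin m ⊕ Fin m) F) - 1 := ⟨_, rfl⟩
    have hg : (g : Matrix (Fin m ⊕ Fin m) (Fin m ⊕ Fin m) F) = 1 + M := by rw [hM]; abel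
    rw [← hM]
    constructor
    · rintro ⟨k, hk⟩
      have h := congrArg Subtype.val (pow_orderOf_eq_one g)
      rw [hk, SubmonoidClass.coe_pow, hg, key, OneMemClass.coe_one, add_eq_left] at h
      exact ⟨p ^ k, h⟩
    · rintro ⟨j, hj⟩
      have hpow : g ^ p ^ j = 1 := Subtype.ext (by
        rw [SubmonoidClass.coe_pow, hg, key,
          pow_eq_zero_of_le (Nat.lt_pow_self hp.one_lt).le hj, add_zero, OneMemClass.coe_one])
      obtain ⟨i, -, hi⟩ := (Nat.dvd_prime_pow hp).1 (orderOf_dvd_of_pow_eq_one hpow)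
      exact ⟨i, hi⟩
  -- symplectic matrices are the isometries
  let e := Matrix.toLinAlgEquiv' (R := F) (n := Fin m ⊕ Fin m)
  have hiso : ∀ M : Matrix (Fin m ⊕ Fin m) (Fin m ⊕ Fin m) F,
      M ∈ Matrix.symplecticGroup (Fin m) F ↔ ∀ x y, B (e M x) (e M y) = B x y := by
    intro M
    have hc : B.comp (Matrix.toLin' M) (Matrix.toLin' M) =
        Matrix.toBilin' (M.transpose * Matrix.J (Fin m) F * M) :=
      Matrix.toBilin'_comp _ _ _
    rw [SymplecticGroup.mem_iff']
    constructor
    · intro hM x y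
      have h2 := congrArg (fun b => b x y) hc
      simp only [hM] at h2
      exact h2
    · intro hM
      apply (Matrix.toBilin' (n := Fin m ⊕ Fin m) (R₁ := F)).injective
      rw [← hc]
      exact LinearMap.ext fun x => LinearMap.ext fun y => hM x y
  have hnil : ∀ M, IsNilpotent (M - 1) ↔ IsNilpotent (e M - 1) := fun M => by
    rw [← map_one e, ← map_sub]
    exact (IsNilpotent.map_iff (f := e) e.injective).symm
  refine Nat.card_congr
    { toFun := fun g => ⟨e g.1.1, (hiso _).1 g.1.2, (hnil _).1 ((h1 g.1).1 g.2), fun x hx => by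
        rw [(Submodule.mem_bot F).1 hx, map_zero]⟩
      invFun := fun f => ⟨⟨e.symm f.1, (hiso _).2 (by simpa using f.2.1)⟩,
        (h1 _).2 ((hnil _).2 (by simpa using f.2.2.1))⟩
      left_inv := fun g => Subtype.ext (Subtype.ext (e.symm_apply_apply _))
      right_inv := fun f => Subtype.ext (e.apply_symm_apply _) }

end Cfsg.Agent.S2316
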