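import Cfsg.Statements.S2317
import Cfsg.Agent.Lib.KnownB.JordanCount

set_option autoImplicit false
open Cfsg

set_option linter.style.haveILetI false

namespace Cfsg.Agent.S2317

/-- Over a finite field of characteristic p, the conjugacy classes of GL_n consisting of elements of p-power order (the unipotent classes) are as many as the partitions of n. -/
theorem result {F : Type*} [Field F] [Fintype F] (p : ℕ) [Fact p.Prime] [CharP F p] (n : ℕ) :
    Nat.card {C : ConjClasses (Matrix.GeneralLinearGroup (Fin n) F) //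
      ∃ g : Matrix.GeneralLinearGroup (Fin n) F, (∃ k : ℕ, orderOf g = p ^ k) ∧ ConjClasses.mk g = C} =
      Fintype.card (Nat.Partition n) := by
  classical
  have hp : p.Prime := Fact.out
  rcases Nat.eq_zero_or_pos n with rfl | hn
  · haveI : Subsingleton (ConjClasses (Matrix.GeneralLinearGroup (Fin 0) F)) := ⟨fun a b => by
      obtain ⟨a, rfl⟩ := ConjClasses.mk_surjective a
      obtain ⟨b, rfl⟩ := ConjClasses.mk_surjective b
      exact congrArg _ (Units.ext (Subsingleton.elim _ _))⟩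
    haveI : Unique {C : ConjClasses (Matrix.GeneralLinearGroup (Fin 0) F) //
        ∃ g : Matrix.GeneralLinearGroup (Fin 0) F, (∃ k : ℕ, orderOf g = p ^ k) ∧ ConjClasses.mk g = C} :=
      uniqueOfSubsingleton ⟨ConjClasses.mk 1, 1, ⟨0, by rw [orderOf_one, pow_zero]⟩, rfl⟩
    rw [Nat.card_unique, Fintype.card_eq_one_iff.2 ⟨default, fun μ => Subsingleton.elim _ _⟩]
  haveI : Nonempty (Fin n) := ⟨⟨0, hn⟩⟩
  let M : Matrix.GeneralLinearGroup (Fin n) F → Matrix (Fin n) (Fin n) F := fun g => (g : Matrix (Fin n) (Fin n) F)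
  have hpow : ∀ (g : Matrix.GeneralLinearGroup (Fin n) F) (k : ℕ), (M g - 1) ^ p ^ k = 0 ↔ g ^ p ^ k = 1 := fun g k => by
    rw [sub_pow_char_pow_of_commute p k (Commute.one_right _), one_pow, sub_eq_zero, ← Units.val_pow_eq_pow_val,
      Units.val_eq_one]
  have hord : ∀ g : Matrix.GeneralLinearGroup (Fin n) F, (∃ k : ℕ, orderOf g = p ^ k) ↔ IsNilpotent (M g - 1) := by
    intro g
    constructor
    · rintro ⟨k, hk⟩
      exact ⟨p ^ k, (hpow g k).2 (hk ▸ pow_orderOf_eq_one g)⟩
    · rintro ⟨j, hj⟩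
      have h1 : g ^ p ^ j = 1 := (hpow g j).1 (pow_eq_zero_of_le (Nat.lt_pow_self hp.one_lt).le hj)
      obtain ⟨k, -, hk⟩ := (Nat.dvd_prime_pow hp).1 (orderOf_dvd_of_pow_eq_one h1)
      exact ⟨k, hk⟩
  have htype : ∀ C : {C : ConjClasses (Matrix.GeneralLinearGroup (Fin n) F) //
      ∃ g : Matrix.GeneralLinearGroup (Fin n) F, (∃ k : ℕ, orderOf g = p ^ k) ∧ ConjClasses.mk g = C},
      ∃ (μ : Nat.Partition n) (g : Matrix.GeneralLinearGroup (Fin n) F) (t : ℕ) (d : Fin t → ℕ) (e : ((k : Fin t) × Fin (d k)) ≃ Fin n),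
        ConjClasses.mk g = C.1 ∧ (∀ k, 1 ≤ d k) ∧ μ.parts = Multiset.map d (Finset.univ : Finset (Fin t)).val ∧
        IsConj (Matrix.reindex e e (Cfsg.jordanTypeMatrix d F)) (M g) ∧ IsNilpotent (M g - 1) := by
    rintro ⟨C, g, ho, hg⟩
    obtain ⟨t, d, e, hd, he⟩ := CfsgLib.KnownB.Jordan.exists_type (M g) ((hord g).1 ho)
    refine ⟨⟨Multiset.map d (Finset.univ : Finset (Fin t)).val, ?_, ?_⟩, g, t, d, e, hg, hd, rfl, he, (hord g).1 ho⟩
    · intro i hi
      obtain ⟨k, -, rfl⟩ := Multiset.mem_map.1 hi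
      exact hd k
    · have := Fintype.card_congr e
      rw [Fintype.card_sigma, Fintype.card_fin] at this
      simp only [Fintype.card_fin] at this
      exact this
  choose Ψ g t d e hC hd hparts hJ hnil using htype
  rw [← Nat.card_eq_fintype_card]
  refine Nat.card_congr (Equiv.ofBijective Ψ ⟨fun C C' h => ?_, fun μ => ?_⟩)
  · apply Subtype.ext
    rw [← hC C, ← hC C', ConjClasses.mk_eq_mk_iff_isConj]
    obtain ⟨c, hc⟩ := CfsgLib.KnownB.Jordan.isConj_of_rank (hnil C) (hnil C') fun j => (by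
      rw [CfsgLib.KnownB.Jordan.rank_pow_conj (hJ C), CfsgLib.KnownB.Jordan.rank_pow_conj (hJ C')]
      have h' := congrArg Nat.Partition.parts h
      rw [hparts, hparts] at h'
      have := congrArg (fun s : Multiset ℕ => (s.map (fun a => a - j)).sum) h'
      simp only [Multiset.map_map, Function.comp_def] at this
      exact this)
    exact isConj_iff.2 ⟨c, mul_inv_eq_iff_eq_mul.2 (Units.ext hc.eq)⟩
  · set l := μ.parts.toList with hl
    let d0 : Fin l.length → ℕ := fun k => l[k]
    have hmap : Multiset.map d0 (Finset.univ : Finset (Fin l.length)).val = μ.parts := by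
      have hz : (Finset.univ : Finset (Fin l.length)).val = ((List.finRange l.length : List (Fin l.length)) : Multiset (Fin l.length)) := rfl
      rw [hz, Multiset.map_coe]
      have : (List.finRange l.length).map d0 = l := by
        apply List.ext_getElem <;> simp [d0]
      rw [this, hl, Multiset.coe_toList]
    have hd0 : ∀ k, 1 ≤ d0 k := fun k => μ.parts_pos (Multiset.mem_toList.1 (hl ▸ List.getElem_mem k.2))
    have hcard : Fintype.card ((k : Fin l.length) × Fin (d0 k)) = Fintype.card (Fin n) := by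
      rw [Fintype.card_sigma, Fintype.card_fin]
      have h := μ.parts_sum
      rw [← hmap] at h
      simp only [Fintype.card_fin]
      exact h
    let e0 := Fintype.equivOfCardEq hcard
    obtain ⟨A, hA⟩ : ∃ A, A = Matrix.reindex e0 e0 (Cfsg.jordanTypeMatrix d0 F) := ⟨_, rfl⟩
    have hAJ : IsConj (Matrix.reindex e0 e0 (Cfsg.jordanTypeMatrix d0 F)) A := by rw [hA]
    have hrk : ∀ j, ((A - 1) ^ j).rank = ∑ k, (d0 k - j) := fun j => CfsgLib.KnownB.Jordan.rank_pow_conj hAJ j
    have hA0 : (A - 1) ^ n = 0 := by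
      have h0 : ((A - 1) ^ n).rank = 0 := by
        rw [hrk]
        refine Finset.sum_eq_zero fun k _ => Nat.sub_eq_zero_of_le ?_
        have := Finset.single_le_sum (f := fun k => Fintype.card (Fin (d0 k))) (fun k _ => Nat.zero_le _) (Finset.mem_univ k)
        rw [← Fintype.card_sigma, hcard, Fintype.card_fin, Fintype.card_fin] at this
        exact this
      have hr : LinearMap.range (Matrix.mulVecLin ((A - 1) ^ n)) = ⊥ := Submodule.finrank_eq_zero.1 h0
      exact Matrix.toLin'.injective (by rw [map_zero]; exact LinearMap.range_eq_bot.1 hr)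
    have hAu : IsUnit A := by
      have : IsNilpotent (A - 1) := ⟨n, hA0⟩
      simpa using this.isUnit_one_add
    obtain ⟨C, hC'⟩ : ∃ C : {C : ConjClasses (Matrix.GeneralLinearGroup (Fin n) F) //
      ∃ g : Matrix.GeneralLinearGroup (Fin n) F, (∃ k : ℕ, orderOf g = p ^ k) ∧ ConjClasses.mk g = C}, C.1 = ConjClasses.mk hAu.unit :=
      ⟨⟨ConjClasses.mk hAu.unit, hAu.unit, (hord _).2 ⟨n, hA0⟩, rfl⟩, rfl⟩
    refine ⟨C, Nat.Partition.ext ?_⟩
    rw [hparts C, ← hmap]
    refine CfsgLib.KnownB.Jordan.type_eq (hd C) hd0 fun j => ?_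
    rw [← CfsgLib.KnownB.Jordan.rank_pow_conj (hJ C) j]
    have hc : IsConj (g C) hAu.unit := ConjClasses.mk_eq_mk_iff_isConj.1 ((hC C).trans hC')
    have hc' : IsConj (M (g C)) A := (Units.coeHom _).map_isConj hc
    exact CfsgLib.KnownB.Jordan.rank_pow_conj (hAJ.trans hc'.symm) j

end Cfsg.Agent.S2317
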