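import Cfsg.Statements.S2319
import Mathlib
import Cfsg.Agent.Lib.Chev.HeckeCenter.BNCount
import Cfsg.Agent.Lib.Chev.WeylTypes
import Cfsg.Agent.Lib.Chev.BN

set_option autoImplicit false
set_option linter.style.haveILetI false
open Cfsg

namespace Cfsg.Agent.S2319
open CfsgLib.Chev CfsgLib.Chev.HeckeCenter

/-- the count for a Chevalley group with a checked Coxeter matrix -/
theorem count_of_cox {F : Type*} [Field F] [Fintype F] {D : Cfsg.Lie.ChevalleyDatum} {A : Aux}
    (h : Std D A) (M : CoxeterMatrix (Fin D.rank)) (hc : coxCheck D A (fun i j => M i j) = true) :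
    Nat.card {χ : Cfsg.IrrCharacter ↥(D.group F) //
      ∃ φ : ↥(D.group F) → ℂ, Cfsg.IsCharacter ↥(D.group F) φ ∧
        Cfsg.fixedPointCharacter ((D.borelSubgroup F).subgroupOf (D.group F)) =
          (χ : ↥(D.group F) → ℂ) + φ} = Nat.card (ConjClasses M.Group) := by
  classical
  haveI : Fintype ↥(D.group F) := Fintype.ofFinite _
  set P := bnPair (F := F) h with hP
  haveI : Fintype (↥(D.group F) ⧸ P.B) := Fintype.ofFinite _
  obtain ⟨φ, hsurj, hker, -⟩ := monomial_coxeter (F := F) h M hc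
  let ι : P.N →* ↥(D.monomialSubgroup F) :=
    (Subgroup.subgroupOfEquivOfLe (monomialSubgroup_le_group h.good)).toMonoidHom
  have hι : Function.Surjective (φ.comp ι) :=
    hsurj.comp (Subgroup.subgroupOfEquivOfLe (monomialSubgroup_le_group h.good)).surjective
  have hk : (φ.comp ι).ker = (P.B ⊓ P.N).subgroupOf P.N := by
    ext ⟨n, hn⟩
    rw [MonoidHom.mem_ker, MonoidHom.comp_apply, ← MonoidHom.mem_ker, hker,
      Subgroup.mem_subgroupOf, Subgroup.mem_subgroupOf, ← borel_inf_monomial h, Subgroup.mem_inf,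
      Subgroup.mem_inf]
    exact Iff.rfl
  haveI : ((P.B ⊓ P.N).subgroupOf P.N).Normal := hk ▸ MonoidHom.normal_ker _
  let e : WG P ≃* M.Group :=
    (QuotientGroup.quotientMulEquivOfEq hk.symm).trans
      (QuotientGroup.quotientKerEquivOfSurjective _ hι)
  refine (card_constituents P).trans (Nat.card_congr ?_)
  exact
    { toFun := ConjClasses.map e.toMonoidHom
      invFun := ConjClasses.map e.symm.toMonoidHom
      left_inv := fun c => by
        obtain ⟨a, rfl⟩ := ConjClasses.mk_surjective c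
        exact congrArg ConjClasses.mk (e.symm_apply_apply a)
      right_inv := fun c => by
        obtain ⟨a, rfl⟩ := ConjClasses.mk_surjective c
        exact congrArg ConjClasses.mk (e.apply_symm_apply a) }


/-- In a Chevalley group of type G₂, B₂, D₄, F₄, E₆, E₇ or E₈ over a finite field, the number of distinct irreducible constituents of the permutation character on the cosets of B = UH equals the number of conjugacy classes (equivalently, of irreducible characters) of the Weyl group, the Coxeter group of the type with nodes numbered as the fundamental roots. -/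
theorem result {F : Type*} [Field F] [Fintype F]
    (dw : Cfsg.Lie.ChevalleyDatum × (Σ n : ℕ, CoxeterMatrix (Fin n)))
    (hdw : dw ∈ [(Cfsg.Lie.chevG2, ⟨2, CoxeterMatrix.G₂⟩), (Cfsg.Lie.chevB2, ⟨2, CoxeterMatrix.B 2⟩), (Cfsg.Lie.chevD4, ⟨4, Cfsg.Lie.coxeterD4⟩), (Cfsg.Lie.chevF4, ⟨4, CoxeterMatrix.F₄⟩),
      (Cfsg.Lie.chevE6, ⟨6, CoxeterMatrix.E₆⟩), (Cfsg.Lie.chevE7, ⟨7, CoxeterMatrix.E₇⟩), (Cfsg.Lie.chevE8, ⟨8, CoxeterMatrix.E₈⟩)]) :
    Nat.card {χ : Cfsg.IrrCharacter ↥(dw.1.group F) //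
      ∃ φ : ↥(dw.1.group F) → ℂ, Cfsg.IsCharacter ↥(dw.1.group F) φ ∧
        Cfsg.fixedPointCharacter ((dw.1.borelSubgroup F).subgroupOf (dw.1.group F)) = (χ : ↥(dw.1.group F) → ℂ) + φ} =
      Nat.card (ConjClasses dw.2.2.Group) := by
  simp only [List.mem_cons, List.not_mem_nil, or_false] at hdw
  rcases hdw with rfl | rfl | rfl | rfl | rfl | rfl | rfl
  exacts [count_of_cox stdG2 CoxeterMatrix.G₂ coxG2, count_of_cox stdB2 (CoxeterMatrix.B 2) coxB2,
    count_of_cox stdD4 Cfsg.Lie.coxeterD4 coxD4, count_of_cox stdF4 CoxeterMatrix.F₄ coxF4,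
    count_of_cox stdE6 CoxeterMatrix.E₆ coxE6, count_of_cox stdE7 CoxeterMatrix.E₇ coxE7,
    count_of_cox stdE8 CoxeterMatrix.E₈ coxE8]


end Cfsg.Agent.S2319
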