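import Cfsg.Statements.S2320
import Cfsg.Agent.Lib.CharsMore.TwoByTwo.Values
import Mathlib

set_option autoImplicit false
set_option linter.style.haveILetI false
open Cfsg

namespace Cfsg.Agent.S2320

open CfsgLib.CharsMore.TwoByTwo


/-- Over a finite field F with q elements, every irreducible complex character of GL₂ of degree q takes a value of absolute value 1 at every diagonal matrix with two different diagonal entries and at every element with no eigenvector in F². -/
theorem result {F : Type*} [Field F] [Fintype F] (χ : Matrix.GeneralLinearGroup (Fin 2) F → ℂ) (hχ : Cfsg.IsIrrCharacter (Matrix.GeneralLinearGroup (Fin 2) F) χ) (hdeg : χ 1 = (Fintype.card F : ℂ)) (g : Matrix.GeneralLinearGroup (Fin 2) F) :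
    ((g : Matrix (Fin 2) (Fin 2) F) 0 1 = 0 → (g : Matrix (Fin 2) (Fin 2) F) 1 0 = 0 → (g : Matrix (Fin 2) (Fin 2) F) 0 0 ≠ (g : Matrix (Fin 2) (Fin 2) F) 1 1 → ‖χ g‖ = 1) ∧
    ((∀ (c : F) (v : Fin 2 → F), v ≠ 0 → (g : Matrix (Fin 2) (Fin 2) F).mulVec v ≠ c • v) → ‖χ g‖ = 1) := by
  classical
  have hq : 1 < Fintype.card F := Fintype.one_lt_card
  let χ' : IrrCharacter (Matrix.GeneralLinearGroup (Fin 2) F) := ⟨χ, hχ⟩
  have hd : charDegree χ = Fintype.card F := by
    have := CfsgLib.CharApps.deg_eq χ'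
    rw [show (χ' : Matrix.GeneralLinearGroup (Fin 2) F → ℂ) = χ from rfl, hdeg] at this
    exact_mod_cast this.symm
  obtain ⟨α, rfl⟩ : ∃ α, χ = stGL α := by
    rcases gl_cases χ' with h | h | h | h
    · have := (deg_dSetGL h).symm.trans hd; omega
    · exact mem_sSetGL h
    · have := (deg_pSetGL h).symm.trans hd; omega
    · have := (deg_cSetGL h).symm.trans hd; omega
  refine ⟨fun h01 h10 hne => ?_, fun hno => ?_⟩
  · rw [stGL_eq_mul, piGL_one_one_diag g h01 h10 hne, norm_mul, norm_detChar]
    norm_num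
  · rw [stGL_eq_mul, piGL_one_one_elliptic g hno, norm_mul, norm_detChar]
    norm_num

end Cfsg.Agent.S2320
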