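import Cfsg.Statements.S2322
import Cfsg.Agent.Lib.CharsMore.TwoByTwo.Values
import Mathlib

set_option autoImplicit false
set_option linter.style.haveILetI false
open Cfsg

namespace Cfsg.Agent.S2322

open CfsgLib.CharsMore.TwoByTwo


/-- Over a finite field F with q elements, q odd: every irreducible complex character of SL₂ of degree q − 1 or (q − 1)/2 vanishes at every diagonal matrix whose diagonal entry a has a² ≠ 1, and every irreducible complex character of degree q + 1 or (q + 1)/2 vanishes at every element with no eigenvector in F². -/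
theorem result {F : Type*} [Field F] [Fintype F] (hodd : Odd (Fintype.card F)) (χ : Matrix.SpecialLinearGroup (Fin 2) F → ℂ) (hχ : Cfsg.IsIrrCharacter (Matrix.SpecialLinearGroup (Fin 2) F) χ) (g : Matrix.SpecialLinearGroup (Fin 2) F) :
    ((χ 1 = (Fintype.card F : ℂ) - 1 ∨ χ 1 = (((Fintype.card F - 1) / 2 : ℕ) : ℂ)) →
      (g : Matrix (Fin 2) (Fin 2) F) 0 1 = 0 → (g : Matrix (Fin 2) (Fin 2) F) 1 0 = 0 → (g : Matrix (Fin 2) (Fin 2) F) 0 0 ^ 2 ≠ 1 → χ g = 0) ∧
    ((χ 1 = (Fintype.card F : ℂ) + 1 ∨ χ 1 = (((Fintype.card F + 1) / 2 : ℕ) : ℂ)) →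
      (∀ (c : F) (v : Fin 2 → F), v ≠ 0 → (g : Matrix (Fin 2) (Fin 2) F).mulVec v ≠ c • v) → χ g = 0) := by
  classical
  obtain ⟨j, hj⟩ := id hodd
  have hq := two_lt_card_of_odd hodd
  let χ' : IrrCharacter (Matrix.SpecialLinearGroup (Fin 2) F) := ⟨χ, hχ⟩
  have hd : ∀ m : ℕ, χ 1 = (m : ℂ) → charDegree χ = m := fun m h => deg_eq_of_val (χ := χ') h
  refine ⟨fun h h01 h10 ha => ?_, fun h hno => ?_⟩
  · have h' : charDegree χ = Fintype.card F - 1 ∨ charDegree χ = (Fintype.card F - 1) / 2 := by
      rcases h with h | h
      · exact Or.inl (hd _ (by rw [h]; push_cast [(by omega : 1 ≤ Fintype.card F)]; rfl))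
      · exact Or.inr (hd _ h)
    have hq3 : Fintype.card F ≠ 3 := card_ne_three_of_split hodd g h01 h10 ha
    refine apply_diag_of_uSumSL_eq_zero hχ ?_ g h01 h10 ha
    rcases sl_cases_odd hodd χ' with hc | hc | hc | hc | hc
    · have e : charDegree χ = 1 := by
        rw [show χ = ((CfsgLib.Chars.principal _ : IrrCharacter (Matrix.SpecialLinearGroup (Fin 2) F)) : _ → ℂ)
          from congrArg Subtype.val hc]
        exact deg_principal
      omega
    · have e : charDegree χ = Fintype.card F := by
        rw [show χ = ((stIrrSL : IrrCharacter (Matrix.SpecialLinearGroup (Fin 2) F)) : _ → ℂ)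
          from congrArg Subtype.val hc]
        exact deg_stIrrSL
      omega
    · have e : charDegree χ = Fintype.card F + 1 := deg_pSetSL hc
      omega
    · have e : 2 * charDegree χ = Fintype.card F + 1 := (of_mem_hSetSL hodd hc).2
      omega
    · exact (mem_cSetSL.1 hc).uSum (CfsgLib.Chars.isClassFunction_irr χ')
  · have h' : charDegree χ = Fintype.card F + 1 ∨ charDegree χ = (Fintype.card F + 1) / 2 := by
      rcases h with h | h
      · exact Or.inl (hd _ (by rw [h]; push_cast; rfl))
      · exact Or.inr (hd _ h)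
    rcases sl_cases_odd hodd χ' with hc | hc | hc | hc | hc
    · have e : charDegree χ = 1 := by
        rw [show χ = ((CfsgLib.Chars.principal _ : IrrCharacter (Matrix.SpecialLinearGroup (Fin 2) F)) : _ → ℂ)
          from congrArg Subtype.val hc]
        exact deg_principal
      omega
    · have e : charDegree χ = Fintype.card F := by
        rw [show χ = ((stIrrSL : IrrCharacter (Matrix.SpecialLinearGroup (Fin 2) F)) : _ → ℂ)
          from congrArg Subtype.val hc]
        exact deg_stIrrSL
      omega
    · obtain ⟨α, -, e⟩ := mem_pSetSL.1 hc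
      rw [show χ = piSL α from e]
      exact piSL_elliptic hodd α hno
    · exact half_apply_elliptic hodd hc hno
    · rcases deg_cSetSL_odd hodd hc with e | e
      · change charDegree χ = _ at e
        have h3 : Fintype.card F = 3 := by omega
        exact cBigSL_apply_elliptic_of_three hodd h3
          (show χ' ∈ cBigSL by simp [cBigSL, hc, χ', e]) hno
      · change 2 * charDegree χ = _ at e
        omega

end Cfsg.Agent.S2322
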