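import Cfsg.Statements.S2323
import Cfsg.Agent.Lib.CharsMore.TwoByTwo.Values
import Mathlib

set_option autoImplicit false
set_option linter.style.haveILetI false
open Cfsg

namespace Cfsg.Agent.S2323

open CfsgLib.CharsMore.TwoByTwo


/-- Over a finite field F with q ≥ 4 elements, let u be the upper unitriangular matrix of SL₂ with off-diagonal entry 1. An irreducible complex character of SL₂ takes at u the value 1 if its degree is q + 1 and the value −1 if its degree is q − 1. -/
theorem result {F : Type*} [Field F] [Fintype F] (hq : 4 ≤ Fintype.card F) (χ : Matrix.SpecialLinearGroup (Fin 2) F → ℂ) (hχ : Cfsg.IsIrrCharacter (Matrix.SpecialLinearGroup (Fin 2) F) χ)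
    (u : Matrix.SpecialLinearGroup (Fin 2) F) (hu : (u : Matrix (Fin 2) (Fin 2) F) = !![1, 1; 0, 1]) :
    (χ 1 = (Fintype.card F : ℂ) + 1 → χ u = 1) ∧ (χ 1 = (Fintype.card F : ℂ) - 1 → χ u = -1) := by
  classical
  have hu' : u = uSL (1 : F) := Subtype.ext hu
  subst hu'
  let χ' : IrrCharacter (Matrix.SpecialLinearGroup (Fin 2) F) := ⟨χ, hχ⟩
  have hne : (Fintype.card F : ℂ) - 1 ≠ 0 := sub_ne_zero.2 (by exact_mod_cast (by omega : Fintype.card F ≠ 1))
  refine ⟨fun h => ?_, fun h => ?_⟩
  · obtain ⟨h1, h2⟩ := apply_uSL_of_top (χ := χ') hq h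
    change uSumSL χ = χ 1 + _ * χ (uSL 1) at h1
    change uSumSL χ = _ at h2
    rw [h, h2] at h1
    exact mul_left_cancel₀ hne (by linear_combination -h1)
  · obtain ⟨h1, h2⟩ := apply_uSL_of_cusp (χ := χ') hq h
    change uSumSL χ = χ 1 + _ * χ (uSL 1) at h1
    change uSumSL χ = _ at h2
    rw [h, h2] at h1
    exact mul_left_cancel₀ hne (by linear_combination -h1)

end Cfsg.Agent.S2323
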