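import Cfsg.Statements.S2329
import Cfsg.Agent.Lib.GLTwo.Classes

set_option autoImplicit false
open Cfsg

namespace Cfsg.Agent.S2329

/-- Over a finite field of characteristic p, any two elements of order p of GL₂ are conjugate: there is a single conjugacy class of non-identity unipotent elements. -/
theorem result {F : Type*} [Field F] [Fintype F] (p : ℕ) [Fact p.Prime] [CharP F p] (g h : Matrix.GeneralLinearGroup (Fin 2) F)
    (hg : orderOf g = p) (hh : orderOf h = p) : IsConj g h := by
  have hinj : Function.Injective (Units.coeHom (Matrix (Fin 2) (Fin 2) F)) := Units.val_injective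
  obtain ⟨g1, g2, g3⟩ := (CfsgLib.GLTwo.orderOf_eq_char p _ hinj g).1 hg
  obtain ⟨h1, h2, h3⟩ := (CfsgLib.GLTwo.orderOf_eq_char p _ hinj h).1 hh
  exact CfsgLib.GLTwo.gl_isConj_of_trace_det g1 h1 (g2.trans h2.symm) (g3.trans h3.symm)

end Cfsg.Agent.S2329
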