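import Cfsg.Statements.S2332
import Cfsg.Agent.Lib.FgsC.MinDeg.Bound
import Cfsg.Agent.Lib.Chars.PermChar

set_option autoImplicit false
open Cfsg

namespace Cfsg.Agent.S2332

/-- Smallest degree of a non-linear irreducible complex representation of SL_n over a finite field with q elements, for n ≥ 3 and (n, q) not one of (3, 2), (3, 4), (4, 2), (4, 3): every irreducible complex representation of SL_n(F) of degree at least 2 has degree at least (q^n − q)/(q − 1), and there is an irreducible complex representation of exactly that degree. -/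
theorem result {F : Type*} [Field F] [Fintype F] [DecidableEq F] (n : ℕ) (hn : 3 ≤ n)
    (hex : (n, Fintype.card F) ≠ (3, 2) ∧ (n, Fintype.card F) ≠ (3, 4) ∧ (n, Fintype.card F) ≠ (4, 2) ∧ (n, Fintype.card F) ≠ (4, 3)) :
    (∀ (k : ℕ) (ρ : Representation ℂ (Matrix.SpecialLinearGroup (Fin n) F) (Fin k → ℂ)), ρ.IsIrreducible → 2 ≤ k → (Fintype.card F ^ n - Fintype.card F) / (Fintype.card F - 1) ≤ k) ∧
    (∃ ρ : Representation ℂ (Matrix.SpecialLinearGroup (Fin n) F) (Fin ((Fintype.card F ^ n - Fintype.card F) / (Fintype.card F - 1)) → ℂ), ρ.IsIrreducible) := by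
  classical
  refine ⟨fun k ρ hρ hk => ?_, ?_⟩
  · have hk' : Module.finrank ℂ (Fin k → ℂ) = k := Module.finrank_fin_fun ℂ
    have h := CfsgLib.FgsC.MinDeg.bound n hn hex (Fin k → ℂ) ρ
      (CfsgLib.FgsC.MinDeg.nontrivial_of_two_le ρ hρ (by omega))
    rw [hk'] at h
    exact h
  · let X := Projectivization F (Fin n → F)
    haveI : MulAction.IsPretransitive (Matrix.SpecialLinearGroup (Fin n) F) X :=
      MulAction.isPretransitive_of_is_two_pretransitive
    have hq : 2 ≤ Fintype.card F := Fintype.one_lt_card
    have hcard : Nat.card X = CfsgLib.FgsC.MinDeg.bnd (Fintype.card F) n + 1 := by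
      have h := Projectivization.card F (Fin n → F)
      have hm := CfsgLib.FgsC.MinDeg.bnd_mul (q := Fintype.card F) (n := n) (by omega) (by omega)
      rw [Nat.card_fun, Nat.card_fin, Nat.card_eq_fintype_card (α := F)] at h
      refine Nat.eq_of_mul_eq_mul_right (show 0 < Fintype.card F - 1 by omega) ?_
      rw [← h, add_mul, one_mul]
      omega
    have hpos : 2 ≤ Nat.card X := by
      have := CfsgLib.FgsC.MinDeg.bnd_pos (r := n) hq (by omega)
      omega
    obtain ⟨m, ρ, hρ, hχ⟩ := (CfsgLib.Chars.isIrr_fixedBy_sub_one_iff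
      (G := Matrix.SpecialLinearGroup (Fin n) F) (X := X) hpos).2 inferInstance
    have h1 := congrFun hχ 1
    rw [Representation.char_one, Module.finrank_fin_fun, MulAction.fixedBy_one_eq_univ, Nat.card_univ,
      hcard] at h1
    push_cast at h1
    have hm : m = CfsgLib.FgsC.MinDeg.bnd (Fintype.card F) n := by
      have : (m : ℂ) = CfsgLib.FgsC.MinDeg.bnd (Fintype.card F) n := by linear_combination h1
      exact_mod_cast this
    subst hm
    exact ⟨ρ, hρ⟩

end Cfsg.Agent.S2332
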