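import Cfsg.Statements.S2333
import Cfsg.Agent.Lib.KnownA.SympMinDeg.Bound
import Cfsg.Agent.Lib.KnownA.MinDegree.Nontrivial

set_option autoImplicit false
open Cfsg

namespace Cfsg.Agent.S2333

/-- For a finite field F of even order q and n ≥ 2 with (n, q) ≠ (2, 2), every irreducible complex representation of the symplectic group Sp_{2n}(F) of degree at least 2 has degree at least (q^n − 1)(q^n − q)/(2(q + 1)). -/
theorem result {F : Type*} [Field F] [Fintype F] [DecidableEq F] (n : ℕ) (hn : 2 ≤ n) (heven : Even (Fintype.card F)) (hex : (n, Fintype.card F) ≠ (2, 2)) :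
    (∀ (k : ℕ) (ρ : Representation ℂ (Matrix.symplecticGroup (Fin n) F) (Fin k → ℂ)), ρ.IsIrreducible → 2 ≤ k → (Fintype.card F ^ n - 1) * (Fintype.card F ^ n - Fintype.card F) / (2 * (Fintype.card F + 1)) ≤ k) := by
  intro k ρ hirr hk
  have : CharP F 2 := ringChar.of_eq (FiniteField.even_card_iff_char_two.mpr (Nat.even_iff.mp heven))
  obtain ⟨_, ⟨a, v, rfl⟩, x, hx⟩ := CfsgLib.KnownA.MinDegree.exists_moved_of_generator ρ hirr hk
    {g | ∃ (a : F) (v : Fin n ⊕ Fin n → F), g = CfsgLib.Classical.stv a v}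
    fun H h => CfsgLib.Classical.sp_eq_top_of_stv_mem H fun a v => h _ ⟨a, v, rfl⟩
  have hb := CfsgLib.KnownA.SympMinDeg.bound (l := Fin n) ρ n ∅ (by simp) ⊤ (fun g _ y _ => trivial)
    ⟨v, fun i hi => absurd hi (Finset.notMem_empty i), a, x, trivial, hx⟩
  rw [finrank_top, Module.finrank_fin_fun, Nat.card_eq_fintype_card] at hb
  have he := CfsgLib.KnownA.SympMinDeg.bnd_mul (Fintype.card F) Fintype.card_pos n (by omega)
  rw [← he, Nat.mul_div_cancel_left _ (by positivity)]
  exact hb

end Cfsg.Agent.S2333
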