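import Cfsg.Statements.S2336
import Cfsg.Agent.Lib.CharsMore.ScalarPerm
import Cfsg.Agent.Lib.CharsMore.SLPairs
import Mathlib

set_option autoImplicit false
set_option linter.style.haveILetI false
open Cfsg

namespace Cfsg.Agent.S2336

/-- Let F be a finite field with q elements and n ≥ 3. The permutation character of SL_n(F) on the non-zero vectors of F^n (the function sending a matrix to the number of non-zero vectors it fixes) is the sum of the principal character and q − 1 pairwise distinct irreducible complex characters. -/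
theorem result {F : Type*} [Field F] [Fintype F] [DecidableEq F] (n : ℕ) (hn : 3 ≤ n) :
    ∃ χ : Fin (Fintype.card F - 1) → (Matrix.SpecialLinearGroup (Fin n) F → ℂ),
      (∀ i, Cfsg.IsIrrCharacter (Matrix.SpecialLinearGroup (Fin n) F) (χ i)) ∧ Function.Injective χ ∧
      ∀ g : Matrix.SpecialLinearGroup (Fin n) F,
        (Nat.card {v : Fin n → F // v ≠ 0 ∧ (g : Matrix (Fin n) (Fin n) F).mulVec v = v} : ℂ) = 1 + ∑ i, χ i g := by
  classical
  let X := {v : Fin n → F // v ≠ 0}
  letI : MulAction (Matrix.SpecialLinearGroup (Fin n) F) X :=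
    { smul := fun g v => ⟨(g : Matrix (Fin n) (Fin n) F).mulVec v.1, fun h => v.2 (by
        have h2 := congrArg ((g⁻¹ : Matrix.SpecialLinearGroup (Fin n) F) : Matrix (Fin n) (Fin n) F).mulVec h
        rw [Matrix.mulVec_mulVec, Matrix.mulVec_zero, ← Matrix.SpecialLinearGroup.coe_mul, inv_mul_cancel,
          Matrix.SpecialLinearGroup.coe_one, Matrix.one_mulVec] at h2
        exact h2)⟩
      one_smul := fun v => Subtype.ext (Matrix.one_mulVec _)
      mul_smul := fun g h v => Subtype.ext (by
        show ((g * h : Matrix.SpecialLinearGroup (Fin n) F) : Matrix (Fin n) (Fin n) F).mulVec v.1 =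
          (g : Matrix (Fin n) (Fin n) F).mulVec ((h : Matrix (Fin n) (Fin n) F).mulVec v.1)
        rw [Matrix.mulVec_mulVec, Matrix.SpecialLinearGroup.coe_mul]) }
  letI : MulAction Fˣ X :=
    { smul := fun c v => ⟨(c : F) • v.1, smul_ne_zero c.ne_zero v.2⟩
      one_smul := fun v => Subtype.ext (one_smul F _)
      mul_smul := fun a b v => Subtype.ext (mul_smul (a : F) (b : F) _) }
  haveI : SMulCommClass (Matrix.SpecialLinearGroup (Fin n) F) Fˣ X :=
    ⟨fun g c v => Subtype.ext (by
      show (g : Matrix (Fin n) (Fin n) F).mulVec ((c : F) • v.1) =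
        (c : F) • (g : Matrix (Fin n) (Fin n) F).mulVec v.1
      rw [Matrix.mulVec_smul])⟩
  haveI : MulAction.IsPretransitive (Matrix.SpecialLinearGroup (Fin n) F) X := ⟨fun u v => by
    obtain ⟨g, hg⟩ := CfsgLib.CharsMore.SLPairs.exists_single hn u.1 v.1 u.2 v.2
    exact ⟨g, Subtype.ext hg⟩⟩
  haveI : Fintype X := Fintype.ofFinite X
  let e : X := ⟨Pi.single ⟨0, by omega⟩ 1, by simp⟩
  let e' : X := ⟨Pi.single ⟨1, by omega⟩ 1, by simp⟩
  have hfree : ∀ a b : Fˣ, a • e = b • e → a = b := fun a b h => by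
    have h2 : ((a : F) • e.1) ⟨0, by omega⟩ = ((b : F) • e.1) ⟨0, by omega⟩ :=
      congrFun (congrArg Subtype.val h) ⟨0, by omega⟩
    exact Units.ext (by simpa [e] using h2)
  have hnot : ∀ a : Fˣ, a • e ≠ e' := fun a h => by
    have h2 : ((a : F) • e.1) ⟨1, by omega⟩ = e'.1 ⟨1, by omega⟩ :=
      congrFun (congrArg Subtype.val h) ⟨1, by omega⟩
    simp [e, e'] at h2
  have hbig : Nat.card Fˣ < Nat.card X := by
    refine lt_of_le_of_ne (Nat.card_le_card_of_injective (fun a : Fˣ => a • e) fun a b h => hfree a b h)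
      fun h => ?_
    have hs := ((Nat.bijective_iff_injective_and_card (fun a : Fˣ => a • e)).2
      ⟨fun a b h => hfree a b h, h⟩).2 e'
    obtain ⟨a, ha⟩ := hs
    exact hnot a ha
  have horb : Nat.card (MulAction.orbitRel.Quotient
      (MulAction.stabilizer (Matrix.SpecialLinearGroup (Fin n) F) e) X) ≤ Nat.card Fˣ + 1 := by
    rw [← Finite.card_option]
    refine Nat.card_le_card_of_surjective
      (fun o : Option Fˣ => Quotient.mk'' (o.elim e' (fun a => a • e))) fun o => ?_
    obtain ⟨v, rfl⟩ := Quotient.mk''_surjective o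
    by_cases hv : ∃ a : F, a • e.1 = v.1
    · obtain ⟨a, ha⟩ := hv
      have ha0 : a ≠ 0 := fun h => v.2 (by rw [← ha, h, zero_smul])
      exact ⟨some (Units.mk0 a ha0), congrArg Quotient.mk'' (Subtype.ext ha)⟩
    · push Not at hv
      have hi : LinearIndependent F ![e.1, e'.1] := (LinearIndependent.pair_iff' e.2).2 fun a h => by
        have h2 := congrFun h ⟨1, by omega⟩
        simp [e, e'] at h2
      obtain ⟨g, hg⟩ := CfsgLib.CharsMore.SLPairs.exists_pair hn _ _
        ((LinearIndependent.pair_iff' e.2).2 hv) hi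
      refine ⟨none, Quotient.sound' ?_⟩
      rw [MulAction.orbitRel_apply, MulAction.mem_orbit_iff]
      exact ⟨⟨g, Subtype.ext (hg 0)⟩, Subtype.ext (hg 1)⟩
  obtain ⟨χ, hirr, hinj, hcard, hsum⟩ :=
    CfsgLib.CharsMore.ScalarPerm.exists_decomposition (A := Fˣ) e hfree hbig horb
  haveI : Finite (Fˣ →* ℂˣ) := Nat.finite_of_card_ne_zero (by rw [hcard]; exact Nat.card_pos.ne')
  let ε : Fin (Fintype.card F - 1) ≃ (Fˣ →* ℂˣ) := (Finite.equivFinOfCardEq (by
    rw [hcard, Nat.card_eq_fintype_card, Fintype.card_units])).symm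
  refine ⟨χ ∘ ε, fun i => hirr _, hinj.comp ε.injective, fun g => ?_⟩
  haveI := Fintype.ofFinite (Fˣ →* ℂˣ)
  have h := hsum g
  rw [finsum_eq_sum_of_fintype, ← ε.sum_comp (fun l => χ l g)] at h
  simp only [Function.comp_apply]
  rw [← h]
  norm_cast
  refine Nat.card_congr
    { toFun := fun v => ⟨⟨v.1, v.2.1⟩, Subtype.ext v.2.2⟩
      invFun := fun v => ⟨v.1.1, v.1.2, congrArg Subtype.val v.2⟩
      left_inv := fun v => rfl
      right_inv := fun v => rfl }

end Cfsg.Agent.S2336
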