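import Cfsg.Statements.S2343
import Cfsg.Agent.Lib.Chev.Twist.Fam.G2MinDeg

set_option autoImplicit false
open Cfsg

namespace Cfsg.Agent.S2343

/-- For the Ree group ²G₂(q), q = 3^(2m+1) with m ≥ 1 (realised over the field with q elements), every irreducible complex representation of degree at least 2 has degree at least q² − q + 1. -/
theorem result {K : Type*} [Field K] [Fintype K] (m : ℕ) (hm : 1 ≤ m) (hK : Fintype.card K = 3 ^ (2 * m + 1)) :
    (∀ (k : ℕ) (ρ : Representation ℂ (Cfsg.Lie.twistedG2 K (3 ^ m)) (Fin k → ℂ)), ρ.IsIrreducible → 2 ≤ k → (3 ^ (2 * m + 1)) ^ 2 - 3 ^ (2 * m + 1) + 1 ≤ k) := by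
  intro k ρ hρ hk
  obtain ⟨hc, h4, σ, hσ, hi⟩ := CfsgLib.Chev.G22.exists_sigma hK
  obtain ⟨y, hy⟩ := CfsgLib.Chev.G22.exists_outside hm hK
  have e := CfsgLib.Chev.G22.twisted_eq_fix hσ hi h4
  have hperf : commutator ↥(Cfsg.Lie.twistedG2 K (3 ^ m)) = ⊤ := by
    rw [e]; exact CfsgLib.Chev.G22.perfect hσ hi h4 hy
  have hsimp : IsSimpleGroup ↥(Cfsg.Lie.twistedG2 K (3 ^ m)) := by
    rw [e]
    exact ((CfsgLib.Chev.G22.split hi).simple (CfsgLib.Chev.G22.marked hi) CfsgLib.Chev.G22.top (by decide)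
      (CfsgLib.Chev.G22.perfect hσ hi h4 hy)).1
  rw [← hK]
  exact CfsgLib.Chev.G22.min_degree hK hi e hperf hsimp ρ hρ hk

end Cfsg.Agent.S2343
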