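import Cfsg.Statements.S2344
import Cfsg.Agent.Lib.KnownA.OrthMinDeg.Std

set_option autoImplicit false
open Cfsg CfsgLib.KnownA.OrthMinDeg

namespace Cfsg.Agent.S2344

/-- For a finite field F of odd order q > 3 and n ≥ 3, every irreducible complex representation of degree at least 2 of Ω_{2n+1}(F) (the commutator subgroup of the isometry group of the quadratic form x₀² + x₁y₁ + ⋯ + x_ny_n) has degree at least (q^{2n} − 1)/(q² − 1). -/
theorem result {F : Type*} [Field F] [Fintype F] (n : ℕ) (hn : 3 ≤ n) (hodd : Odd (Fintype.card F)) (h3 : 3 < Fintype.card F) :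
    (∀ (k : ℕ) (ρ : Representation ℂ (Cfsg.Omega F (Cfsg.quadFormOdd n F)) (Fin k → ℂ)), ρ.IsIrreducible → 2 ≤ k → (Fintype.card F ^ (2 * n) - 1) / (Fintype.card F ^ 2 - 1) ≤ k) := by
  intro k
  rw [← CfsgLib.Geometry.coe_matQuad_odd]
  intro ρ hirr hk
  have h2F : (2 : F) ≠ 0 := fun h => by
    haveI := CharTwo.of_one_ne_zero_of_two_eq_zero (one_ne_zero (α := F)) h
    have := FiniteField.even_card_iff_char_two.mp (ringChar.eq F 2)
    rw [Nat.odd_iff] at hodd
    omega
  obtain ⟨Φ, hH, hm, hK⟩ := exists_frame_odd (F := F) n h2F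
  obtain ⟨π, hmv⟩ := exists_moved_rep (CfsgLib.Geometry.nondegenerate_matQuad
      (by rw [CfsgLib.Geometry.det_odd_gram]; exact mul_ne_zero h2F (pow_ne_zero _ (by simp))))
    (by simp only [Fintype.card_sum, Fintype.card_fin, Fintype.card_unit]; omega) ρ hirr hk
  have h := Φ.bound_odd (ρ := π) (X := ⊤) (hm.symm ▸ hn) hK h3 h2F (fun g _ v _ => Submodule.mem_top)
    (hH.symm ▸ hmv)
  rw [finrank_top, Module.finrank_fin_fun, hm] at h
  set q := Fintype.card F
  refine Nat.div_le_of_le_mul (Nat.le_of_mul_le_mul_left ?_ (show 0 < q by omega))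
  have h1 : 1 ≤ q ^ (2 * n) := Nat.one_le_pow _ _ (by omega)
  have h2 : 1 ≤ q ^ 2 := Nat.one_le_pow _ _ (by omega)
  zify [h1, h2]
  ring_nf at h ⊢
  linarith

end Cfsg.Agent.S2344
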