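import Cfsg.Statements.S2345
import Cfsg.Agent.Lib.KnownA.OrthMinDeg.Std

set_option autoImplicit false
open Cfsg CfsgLib.KnownA.OrthMinDeg

namespace Cfsg.Agent.S2345

/-- For a finite field F with q > 3 elements and n ≥ 4, every irreducible complex representation of degree at least 2 of Ω⁺_{2n}(F) (the commutator subgroup of the isometry group of the hyperbolic quadratic form x₁y₁ + ⋯ + x_ny_n) has degree at least (q^n − 1)(q^{n−1} + q)/(q² − 1). -/
theorem result {F : Type*} [Field F] [Fintype F] (n : ℕ) (hn : 4 ≤ n) (h3 : 3 < Fintype.card F) :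
    (∀ (k : ℕ) (ρ : Representation ℂ (Cfsg.Omega F (Cfsg.quadFormPlus n F)) (Fin k → ℂ)), ρ.IsIrreducible → 2 ≤ k → (Fintype.card F ^ n - 1) * (Fintype.card F ^ (n - 1) + Fintype.card F) / (Fintype.card F ^ 2 - 1) ≤ k) := by
  intro k
  rw [← CfsgLib.Geometry.coe_matQuad_plus]
  intro ρ hirr hk
  obtain ⟨Φ, hH, hm, hK⟩ := exists_frame_plus (F := F) n
  obtain ⟨π, hmv⟩ := exists_moved_rep (CfsgLib.Geometry.nondegenerate_matQuad (gram_plus_ne n))
    (by simp only [Fintype.card_sum, Fintype.card_fin]; omega) ρ hirr hk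
  have h := Φ.bound_plus (ρ := π) (X := ⊤) (hm.symm ▸ hn) hK h3 (fun g _ v _ => Submodule.mem_top)
    (hH.symm ▸ hmv)
  rw [finrank_top, Module.finrank_fin_fun, hm] at h
  obtain ⟨j, rfl⟩ : ∃ j, n = j + 1 := ⟨n - 1, by omega⟩
  rw [Nat.add_sub_cancel]
  set q := Fintype.card F
  refine Nat.div_le_of_le_mul (Nat.le_of_mul_le_mul_left ?_ (show 0 < q by omega))
  have h1 : 1 ≤ q ^ (j + 1) := Nat.one_le_pow _ _ (by omega)
  have h2 : 1 ≤ q ^ 2 := Nat.one_le_pow _ _ (by omega)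
  zify [h1, h2]
  ring_nf at h ⊢
  linarith

end Cfsg.Agent.S2345
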