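import Cfsg.Statements.S2346
import Cfsg.Agent.Lib.KnownA.OrthMinDeg.Std

set_option autoImplicit false
open Cfsg CfsgLib.KnownA.OrthMinDeg

namespace Cfsg.Agent.S2346

/-- For a finite field F with q elements, n ≥ 4, and a, b ∈ F with z₁² + a z₁z₂ + b z₂² anisotropic, every irreducible complex representation of degree at least 2 of Ω⁻_{2n}(F) (the commutator subgroup of the isometry group of x₁y₁ + ⋯ + x_{n−1}y_{n−1} + z₁² + a z₁z₂ + b z₂²) has degree at least (q^n + 1)(q^{n−1} − q)/(q² − 1). -/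
theorem result {F : Type*} [Field F] [Fintype F] (n : ℕ) (hn : 4 ≤ n) (a b : F) (hab : ∀ z₁ z₂ : F, z₁ ^ 2 + a * z₁ * z₂ + b * z₂ ^ 2 = 0 → z₁ = 0 ∧ z₂ = 0) :
    (∀ (k : ℕ) (ρ : Representation ℂ (Cfsg.Omega F (Cfsg.quadFormMinus (n - 1) F a b)) (Fin k → ℂ)), ρ.IsIrreducible → 2 ≤ k → (Fintype.card F ^ n + 1) * (Fintype.card F ^ (n - 1) - Fintype.card F) / (Fintype.card F ^ 2 - 1) ≤ k) := by
  intro k
  rw [← CfsgLib.Geometry.coe_matQuad_minus]
  intro ρ hirr hk
  obtain ⟨j, rfl⟩ : ∃ j, n = j + 1 := ⟨n - 1, by omega⟩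
  simp only [Nat.add_sub_cancel] at *
  obtain ⟨Φ, hH, hm, hK, hR⟩ := exists_frame_minus (F := F) j hab
  obtain ⟨π, hmv⟩ := exists_moved_rep (CfsgLib.Geometry.nondegenerate_matQuad
      (by rw [CfsgLib.Geometry.det_minus_gram]
          exact mul_ne_zero (pow_ne_zero _ (neg_ne_zero.mpr one_ne_zero)) (CfsgLib.Geometry.binAniso_discr hab).1))
    (by simp only [Fintype.card_sum, Fintype.card_fin]; omega) ρ hirr hk
  have h := Φ.bound_minus (ρ := π) (X := ⊤) (by omega) hK hR (fun g _ v _ => Submodule.mem_top)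
    (hH.symm ▸ hmv)
  rw [finrank_top, Module.finrank_fin_fun, hm] at h
  have hq : 2 ≤ Fintype.card F := Fintype.one_lt_card
  set q := Fintype.card F
  refine Nat.div_le_of_le_mul (Nat.le_of_mul_le_mul_left ?_ (show 0 < q by omega))
  have h1 : q ≤ q ^ j := Nat.le_self_pow (by omega) q
  have h2 : 1 ≤ q ^ 2 := Nat.one_le_pow _ _ (by omega)
  zify [h1, h2]
  ring_nf at h ⊢
  linarith

end Cfsg.Agent.S2346
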