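import Cfsg.Statements.S2356
import Cfsg.Agent.Lib.LinearGroups.SU3Involutions

set_option autoImplicit false
open Cfsg

namespace Cfsg.Agent.S2356

/-- Let q be odd, F the field with q² elements, S = SU_3(F) (determinant-one isometries of the standard Hermitian form) and t an involution of S. Then: exactly q(q−1) involutions other than t commute with t; exactly q(q−2)(q²−1) involutions do not commute with t but commute with some involution commuting with t; exactly (q+1)(q²−1) involutions x do not commute with t and admit no involution commuting with both t and x; and every involution can be reached from t in at most three steps, each step going to an involution that commutes with the previous one (the commuting involution graph is connected of diameter 3). -/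
theorem result {F : Type*} [Field F] [Fintype F] {q : ℕ} (hq : Odd q)
    (hF : Fintype.card F = q ^ 2) (t : ↥(Cfsg.SU 3 F q)) (ht : t ≠ 1) (ht2 : t * t = 1) :
    Nat.card {x : ↥(Cfsg.SU 3 F q) // x ≠ 1 ∧ x * x = 1 ∧ x ≠ t ∧ Commute t x} = q * (q - 1) ∧
    Nat.card {x : ↥(Cfsg.SU 3 F q) // x ≠ 1 ∧ x * x = 1 ∧ ¬ Commute t x ∧
        ∃ y : ↥(Cfsg.SU 3 F q), y ≠ 1 ∧ y * y = 1 ∧ Commute t y ∧ Commute y x} = q * (q - 2) * (q ^ 2 - 1) ∧
    Nat.card {x : ↥(Cfsg.SU 3 F q) // x ≠ 1 ∧ x * x = 1 ∧ ¬ Commute t x ∧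
        ∀ y : ↥(Cfsg.SU 3 F q), y ≠ 1 → y * y = 1 → ¬ (Commute t y ∧ Commute y x)} = (q + 1) * (q ^ 2 - 1) ∧
    ∀ x : ↥(Cfsg.SU 3 F q), x ≠ 1 → x * x = 1 →
      ∃ y z : ↥(Cfsg.SU 3 F q), y ≠ 1 ∧ y * y = 1 ∧ z ≠ 1 ∧ z * z = 1 ∧
        Commute t y ∧ Commute y z ∧ Commute z x := by
  classical
  rw [← Nat.card_eq_fintype_card] at hF
  obtain ⟨σ, h⟩ := CfsgLib.Classical.Unitary.exists_uFrob hF
  have h2 := CfsgLib.LinearGroups.SU3Inv.two_ne_zero' hF hq
  have hq3 : 3 ≤ q := by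
    have := CfsgLib.Classical.two_le_q hF
    rcases hq with ⟨k, rfl⟩; omega
  obtain ⟨u, hu, rfl⟩ := CfsgLib.LinearGroups.SU3Inv.exists_invol hF h h2 t ht ht2
  have hA := CfsgLib.LinearGroups.SU3Inv.card_all hF h h2
  have hB := CfsgLib.LinearGroups.SU3Inv.card_commuting hF h h2 hu
  have hC := CfsgLib.LinearGroups.SU3Inv.card_far hF h h2 hu
  refine ⟨hB, ?_, hC, fun x hx hx2 => ?_⟩
  · set t := CfsgLib.LinearGroups.SU3Inv.invol h u hu with htd
    haveI := Fintype.ofFinite ↥(Cfsg.SU 3 F q)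
    rw [Nat.card_eq_fintype_card, Fintype.card_subtype] at hA hB hC ⊢
    set I := Finset.univ.filter (fun x : ↥(Cfsg.SU 3 F q) => x ≠ 1 ∧ x * x = 1) with hI
    set S2 := Finset.univ.filter (fun x : ↥(Cfsg.SU 3 F q) => x ≠ 1 ∧ x * x = 1 ∧ ¬ Commute t x ∧
      ∃ y : ↥(Cfsg.SU 3 F q), y ≠ 1 ∧ y * y = 1 ∧ Commute t y ∧ Commute y x) with hS2
    have e1 := Finset.card_filter_add_card_filter_not (s := I)
      (fun x : ↥(Cfsg.SU 3 F q) => Commute t x)
    have e2 := Finset.card_filter_add_card_filter_not (s := I.filter fun x => ¬ Commute t x)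
      (fun x : ↥(Cfsg.SU 3 F q) =>
        ∃ y : ↥(Cfsg.SU 3 F q), y ≠ 1 ∧ y * y = 1 ∧ Commute t y ∧ Commute y x)
    simp only [Finset.filter_filter] at e2
    have f1 : I.filter (fun x => Commute t x) = insert t (Finset.univ.filter
        (fun x : ↥(Cfsg.SU 3 F q) => x ≠ 1 ∧ x * x = 1 ∧ x ≠ t ∧ Commute t x)) := by
      ext x
      by_cases hx : x = t
      · subst hx; simp [hI, ht, ht2]
      · simp [hI, hx, and_assoc]
    have f2 : I.filter (fun x => ¬ Commute t x ∧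
        ∃ y : ↥(Cfsg.SU 3 F q), y ≠ 1 ∧ y * y = 1 ∧ Commute t y ∧ Commute y x) = S2 := by
      rw [hI, hS2, Finset.filter_filter]
      exact Finset.filter_congr fun x _ => ⟨fun ⟨⟨a, b⟩, c⟩ => ⟨a, b, c⟩, fun ⟨a, b, c⟩ => ⟨⟨a, b⟩, c⟩⟩
    have f3 : I.filter (fun x => ¬ Commute t x ∧
        ¬ ∃ y : ↥(Cfsg.SU 3 F q), y ≠ 1 ∧ y * y = 1 ∧ Commute t y ∧ Commute y x) =
        Finset.univ.filter (fun x : ↥(Cfsg.SU 3 F q) => x ≠ 1 ∧ x * x = 1 ∧ ¬ Commute t x ∧
          ∀ y : ↥(Cfsg.SU 3 F q), y ≠ 1 → y * y = 1 → ¬ (Commute t y ∧ Commute y x)) := by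
      rw [hI, Finset.filter_filter]
      refine Finset.filter_congr fun x _ => ?_
      constructor
      · rintro ⟨⟨a, b⟩, c, d⟩
        exact ⟨a, b, c, fun y y1 y2 hy => d ⟨y, y1, y2, hy⟩⟩
      · rintro ⟨a, b, c, d⟩
        exact ⟨⟨a, b⟩, c, fun ⟨y, y1, y2, hy⟩ => d y y1 y2 hy⟩
    rw [f1, Finset.card_insert_of_notMem (by simp), hB, hA] at e1
    rw [f2, f3, hC] at e2
    have q1 : 1 ≤ q := by omega
    have q2 : 2 ≤ q := by omega
    have q3 : 1 ≤ q ^ 2 := Nat.one_le_pow _ _ (by omega)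
    have q4 : q ≤ q ^ 2 := Nat.le_self_pow two_ne_zero q
    zify [q1, q2, q3, q4] at e1 e2 ⊢
    linear_combination e1 + e2
  · obtain ⟨w, hw, rfl⟩ := CfsgLib.LinearGroups.SU3Inv.exists_invol hF h h2 x hx hx2
    exact CfsgLib.LinearGroups.SU3Inv.connected_three hF h h2 hq3 hu hw

end Cfsg.Agent.S2356
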