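import Cfsg.Statements.S2362
import Cfsg.Agent.Lib.KnownB.SpectrumBC
import Cfsg.Agent.Lib.Recog.ZsigmondyPrime

set_option autoImplicit false
open Cfsg

namespace Cfsg.Agent.S2362

/-- Let F be a finite field of odd order and n ≥ 3. The simple orthogonal group PΩ(2n+1, F) (type B_n) and the projective symplectic group PSp(2n, F) (type C_n), which have the same order, do not have the same set of element orders. -/
theorem result {F : Type*} [Field F] [Fintype F] (hodd : Odd (Fintype.card F)) (n : ℕ) (hn : 3 ≤ n) :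
    Set.range (orderOf : Cfsg.POmega F (Cfsg.quadFormOdd n F) → ℕ) ≠ Set.range (orderOf : Cfsg.PSp n F → ℕ) := by
  classical
  obtain ⟨p, hp⟩ := CharP.exists F
  haveI := Fact.mk (CharP.char_is_prime F p)
  obtain ⟨e, -, he⟩ := FiniteField.card F p
  have h2 : (2 : F) ≠ 0 := fun h0 => by
    have hp2 : p = 2 := (Nat.prime_dvd_prime_iff_eq Fact.out Nat.prime_two).1
      ((CharP.cast_eq_zero_iff F p 2).1 (by exact_mod_cast h0))
    rw [he, hp2] at hodd
    exact absurd hodd (Nat.not_odd_iff_even.2 (Even.pow_of_ne_zero even_two e.ne_zero))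
  have hq3 : 3 ≤ Fintype.card F := by
    have := Fintype.one_lt_card (α := F)
    obtain ⟨i, hi⟩ := hodd
    omega
  set q := Fintype.card F with hq
  obtain ⟨r, hr, hord⟩ := CfsgLib.Recog.ZsigmondyPrime.exists_primitive_prime (a := q) (n := 2 * (n - 1))
    (by omega) (by omega) (fun h => by omega)
  have hord' : CfsgLib.KnownB.PrimeGraph.ordQ F r = 2 * (n - 1) := hord
  have hr2 : r ≠ 2 := by
    rintro rfl
    have h1 : ((q : ℕ) : ZMod 2) = 1 := ZMod.natCast_eq_one_iff_odd.2 hodd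
    rw [h1, orderOf_one] at hord
    omega
  have hrp : r ≠ p := by
    rintro rfl
    haveI := Fact.mk hr
    have h1 : ((q : ℕ) : ZMod r) = 0 := by
      rw [ZMod.natCast_eq_zero_iff, he]
      exact dvd_pow_self r e.ne_zero
    rw [h1, orderOf_zero] at hord
    omega
  obtain ⟨t, o, ho, hto⟩ := Nat.exists_eq_two_pow_mul_odd (n := q ^ (n - 1) + 1) (by omega)
  have hrt : r ∣ q ^ (n - 1) + 1 := by
    have h1 : r ∣ (q ^ (n - 1) + 1) * (q ^ (n - 1) - 1) := by
      rw [show (q ^ (n - 1) + 1) * (q ^ (n - 1) - 1) = q ^ (2 * (n - 1)) - 1 by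
        rw [mul_comm 2, pow_mul]; simpa using (Nat.sq_sub_sq (q ^ (n - 1)) 1).symm]
      exact (CfsgLib.KnownB.PrimeGraph.dvd_pow_sub_one_iff _).2 (hord' ▸ dvd_rfl)
    refine (hr.dvd_mul.1 h1).resolve_right fun hd => ?_
    have := Nat.le_of_dvd (by omega) (hord' ▸ (CfsgLib.KnownB.PrimeGraph.dvd_pow_sub_one_iff _).1 hd)
    omega
  intro heq
  refine CfsgLib.KnownB.SpectrumBC.not_mem_range p hodd h2 hn hr hr2 hrp hord' ho hto ?_
  rw [heq]
  exact CfsgLib.KnownB.SpectrumBC.mem_range p h2 (by omega) hr hr2 hrp (hto ▸ dvd_mul_right _ _) hrt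

end Cfsg.Agent.S2362
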