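import Cfsg.Statements.S2364
import Cfsg.Agent.Lib.KnownB.PrimeGraphLin

set_option autoImplicit false
open Cfsg

namespace Cfsg.Agent.S2364

/-- Let F be a finite field of characteristic p, n ≥ 4, and let a, b be commuting elements of PSL(n, F) with a of order p. Then every prime divisor of the order of b divides the order of SL(n − 2, F). -/
theorem result {F : Type*} [Field F] [Fintype F] (p : ℕ) [Fact p.Prime] [CharP F p] (n : ℕ) (hn : 4 ≤ n)
    (a b : Matrix.ProjectiveSpecialLinearGroup (Fin n) F) (ha : orderOf a = p) (hab : Commute a b) :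
    (orderOf b).primeFactors ⊆ (Nat.card (Matrix.SpecialLinearGroup (Fin (n - 2)) F)).primeFactors := by
  classical
  intro r hr
  obtain ⟨hr, hrb, -⟩ := Nat.mem_primeFactors.1 hr
  have hp := (Fact.out : p.Prime)
  refine Nat.mem_primeFactors.2 ⟨hr, ?_, Nat.card_pos.ne'⟩
  by_cases hrp : r = p
  · subst hrp
    rw [CfsgLib.Classical.card_SL_fin', Nat.card_eq_fintype_card]
    obtain ⟨f, -, hf⟩ := FiniteField.card F r
    refine Dvd.dvd.mul_right ?_ _
    rw [hf, ← pow_mul]
    have h2 : 0 < (n - 2) * (n - 2 - 1) / 2 := by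
      apply Nat.div_pos _ two_pos
      exact le_trans (by norm_num) (Nat.mul_le_mul (show 2 ≤ n - 2 by omega) (show 1 ≤ n - 2 - 1 by omega))
    exact dvd_pow_self r (Nat.mul_pos f.pos h2).ne'
  by_cases hk : CfsgLib.KnownB.PrimeGraph.ordQ F r ≤ 2
  · refine CfsgLib.KnownB.PrimeGraph.dvd_card_SL (j := 2) le_rfl (by omega) ?_
    refine (CfsgLib.KnownB.PrimeGraph.dvd_pow_sub_one_iff 2).2 ?_
    have h0 := CfsgLib.KnownB.PrimeGraph.ordQ_pos (F := F) p hr hrp
    interval_cases CfsgLib.KnownB.PrimeGraph.ordQ F r <;> norm_num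
  · haveI := Fact.mk hr
    have hb : orderOf (b ^ (orderOf b / r)) = r :=
      orderOf_pow_orderOf_div (orderOf_pos b).ne' hrb
    have hmem : r * p ∈ Set.range (orderOf : Matrix.ProjectiveSpecialLinearGroup (Fin n) F → ℕ) := by
      refine ⟨b ^ (orderOf b / r) * a, ?_⟩
      rw [(hab.symm.pow_left _).orderOf_mul_eq_mul_orderOf_of_coprime
        (by rw [hb, ha]; exact (Nat.coprime_primes hr hp).2 hrp), hb, ha]
    have h := CfsgLib.KnownB.PrimeGraph.ordQ_add_two_le_of_mem p hr hrp (by omega) hmem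
    exact CfsgLib.KnownB.PrimeGraph.dvd_card_SL (j := CfsgLib.KnownB.PrimeGraph.ordQ F r) (by omega) (by omega)
      ((CfsgLib.KnownB.PrimeGraph.dvd_pow_sub_one_iff _).2 dvd_rfl)

end Cfsg.Agent.S2364
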