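import Cfsg.Statements.S2365
import Cfsg.Agent.Lib.KnownB.PSUOrders.Tori
-- import your own Cfsg.Agent.* helpers here

set_option autoImplicit false
open Cfsg

namespace Cfsg.Agent.S2365

open Polynomial Matrix CfsgLib.Classical CfsgLib.Classical.Unitary CfsgLib.KnownB.PrimeGraph CfsgLib.KnownB.UnitaryEigen
  CfsgLib.KnownB.PSUOrders

/-- The order of `SU n` without division. -/
theorem card_SU_prod {F : Type*} [Field F] [Fintype F] {q n : ℕ} (hF : Fintype.card F = q ^ 2) (hn : 1 ≤ n) :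
    Nat.card (Cfsg.SU n F q) = q ^ (n * (n - 1) / 2) *
      ∏ i ∈ Finset.range (n - 1), (if Even (i + 1) then q ^ (i + 2) + 1 else q ^ (i + 2) - 1) := by
  obtain ⟨m, rfl⟩ : ∃ m, n = m + 1 := ⟨n - 1, by omega⟩
  have hK : Nat.card F = q ^ 2 := by rw [Nat.card_eq_fintype_card, hF]
  have h := card_SU_mul hK hn
  rw [card_GU hK, Finset.prod_range_succ', if_pos (by decide : Even 0), pow_one, ← mul_assoc,
    mul_comm (q + 1)] at h
  exact Nat.eq_of_mul_eq_mul_right (Nat.succ_pos q) h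

theorem dvd_card_SU {F : Type*} [Field F] [Fintype F] {q n r j : ℕ} (hF : Fintype.card F = q ^ 2)
    (h2 : 2 ≤ j) (hjn : j ≤ n) (hr : r ∣ if Odd j then q ^ j + 1 else q ^ j - 1) :
    r ∣ Nat.card (Cfsg.SU n F q) := by
  rw [card_SU_prod hF (by omega)]
  refine Dvd.dvd.mul_left (hr.trans (dvd_trans (dvd_of_eq ?_)
    (Finset.dvd_prod_of_mem _ (Finset.mem_range.2 (show j - 2 < n - 1 by omega))))) _
  rw [show j - 2 + 2 = j by omega, show j - 2 + 1 = j - 1 by omega]
  have he : Even (j - 1) ↔ Odd j := by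
    rw [Nat.even_iff, Nat.odd_iff]; omega
  simp [he]

/-- An element of order `r` in `SU m` commuting with one of order `p` leaves room for `SU (m - 2)`. -/
theorem core {F : Type*} [Field F] [Fintype F] (p : ℕ) [Fact p.Prime] [CharP F p] {m q : ℕ} (hm : 4 ≤ m)
    (hF : Fintype.card F = q ^ 2) {σ : F →+* F} (h : UFrob σ q) {r : ℕ} (hr : r.Prime) (hrp : r ≠ p)
    (hr2 : r ≠ 2) (hq2 : ¬ r ∣ q ^ 2 - 1) {A u : Cfsg.SU m F q} (hA : orderOf A = r) (hu : orderOf u = p)
    (hAu : Commute A u) : r ∣ Nat.card (Cfsg.SU (m - 2) F q) := by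
  classical
  set N : Matrix (Fin m) (Fin m) F := u.1.1 - 1 with hN
  have hN0 : N ≠ 0 := fun h0 => (Fact.out : p.Prime).ne_one (by
    rw [← hu, orderOf_eq_one_iff]; exact Subtype.ext (Subtype.ext (sub_eq_zero.1 h0)))
  haveI : Nonempty (Fin m) := ⟨⟨0, by omega⟩⟩
  have hnil : IsNilpotent N := ⟨p, by
    rw [hN, sub_pow_char_of_commute p (Commute.one_right _), one_pow, sub_eq_zero,
      ← su_pow_eq_one_iff, ← hu, pow_orderOf_eq_one]⟩
  have hc : Commute N A.1.1 :=
    (show Commute u.1.1 A.1.1 from congrArg (fun z : Cfsg.SU m F q => z.1.1) hAu.symm.eq).sub_left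
      (Commute.one_left _)
  have h1 : A.1.1 ^ (r * 1) = 1 := by
    rw [mul_one, ← su_pow_eq_one_iff, ← hA, pow_orderOf_eq_one]
  have h1' : A.1.1 ^ 1 ≠ 1 := fun e => hr.ne_one (by
    rw [← hA, orderOf_eq_one_iff, ← pow_one A, su_pow_eq_one_iff, e])
  obtain ⟨f, hf, hfm, hfA, hfd, hfn⟩ :=
    exists_factor (by rw [mul_one]; exact natCast_ne_zero p hr hrp) h1 h1'
  have hf0 : f.coeff 0 ≠ 0 :=
    coeff_zero_ne_of_dvd hfd (coeff_zero_X_pow_sub_one (by rw [mul_one]; exact hr.pos))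
  have hk := ordQ_dvd_natDegree hr hf hfd hfn
  have hk1 : 2 ≤ ordQ F r := by
    have h0 := ordQ_pos (F := F) p hr hrp
    by_contra hlt
    refine hq2 ?_
    have h1 := (dvd_pow_sub_one_iff (F := F) (r := r) 1).2 (by
      rw [show ordQ F r = 1 by omega])
    rwa [pow_one, hF] at h1
  have hkD := Nat.le_of_dvd hf.natDegree_pos hk
  obtain ⟨w, hw, hfw⟩ := exists_ker_vec hf hfA
  obtain ⟨v, hv, hv2⟩ := exists_vec hN0 hnil
  have hrk : r ∣ q ^ (2 * ordQ F r) - 1 := by
    rw [pow_mul, ← hF]; exact (dvd_pow_sub_one_iff _).2 dvd_rfl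
  by_cases hself : dualM σ f = f
  · obtain ⟨hodd, hX⟩ := self_paired h hF hf hf0 hself
    have hrD : r ∣ q ^ f.natDegree + 1 := by
      by_contra hn
      refine hfn (AdjoinRoot.mk_eq_zero.1 ?_)
      have e1 := AdjoinRoot.mk_eq_zero.2 hfd
      have e2 := AdjoinRoot.mk_eq_zero.2 hX
      rw [map_sub, map_pow, AdjoinRoot.mk_X, map_one, sub_eq_zero, mul_one] at e1
      rw [map_sub, map_pow, AdjoinRoot.mk_X, map_one, sub_eq_zero] at e2
      have e3 := pow_gcd_eq_one.2 ⟨e1, e2⟩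
      rw [(hr.coprime_iff_not_dvd.2 hn).gcd_eq_one] at e3
      rw [map_sub, map_pow, AdjoinRoot.mk_X, map_one, sub_eq_zero, e3]
    have hkodd : Odd (ordQ F r) := by
      obtain ⟨c, hc⟩ := hk
      exact (Nat.odd_mul.1 (hc ▸ hodd)).1
    have hrk' : r ∣ q ^ ordQ F r + 1 := by
      have h2 : r ∣ (q ^ ordQ F r + 1) * (q ^ ordQ F r - 1) := by
        rw [show (q ^ ordQ F r + 1) * (q ^ ordQ F r - 1) = q ^ (2 * ordQ F r) - 1 by
          rw [mul_comm 2, pow_mul]; simpa using (Nat.sq_sub_sq (q ^ ordQ F r) 1).symm]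
        exact hrk
      refine (hr.dvd_mul.1 h2).resolve_right fun hd => hr2 ?_
      have h3 : r ∣ q ^ f.natDegree - 1 := hd.trans (Nat.pow_sub_one_dvd_pow_sub_one _ hk)
      have h4 := Nat.dvd_sub hrD h3
      have hq0 : 0 < q := Nat.pos_of_ne_zero fun e => by
        rw [e] at hF; simp at hF
      have hpos := Nat.one_le_pow f.natDegree q hq0
      rw [show q ^ f.natDegree + 1 - (q ^ f.natDegree - 1) = 2 by omega] at h4
      exact (Nat.prime_dvd_prime_iff_eq hr Nat.prime_two).1 h4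
    refine dvd_card_SU hF hk1 ?_ (by rwa [if_pos hkodd])
    rcases natDegree_add_two_le hc hf hw hfw hv hv2 with h' | h' <;> omega
  · have hgi := irreducible_dualM h hf hf0
    have hgd := natDegree_dualM (σ := σ) hf0
    obtain ⟨w', hw', hgw⟩ := exists_ker_vec hgi (dualM_dvd_minpoly h (su_mul h A) hf0 hfA)
    have hco : IsCoprime f (dualM σ f) := hf.coprime_iff_not_dvd.2 fun hd =>
      hself (eq_of_monic_of_associated (revM_monic (map_coeff_zero_ne hf0)) hfm
        (hf.associated_of_dvd hgi hd).symm)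
    refine dvd_card_SU (j := 2 * ordQ F r) hF (by omega) ?_
      (by rwa [if_neg (Nat.not_odd_iff_even.2 (even_two_mul _))])
    rcases pair_le hc hf hgi hco hw hw' hfw hgw hv hv2 with h' | h' | h' <;> omega

/-- Let q be a power of the prime p, F the field with q² elements, m ≥ 4, and let a, b be commuting elements of PSU(m, q) with a of order p. Then every prime divisor of the order of b divides the order of SU(m − 2, q). -/
theorem result {F : Type*} [Field F] [Fintype F] (p : ℕ) [Fact p.Prime] [CharP F p] (m q : ℕ) (hm : 4 ≤ m) (hF : Fintype.card F = q ^ 2)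
    (a b : Cfsg.PSU m F q) (ha : orderOf a = p) (hab : Commute a b) :
    (orderOf b).primeFactors ⊆ (Nat.card ↥(Cfsg.SU (m - 2) F q)).primeFactors := by
  classical
  intro r hr
  obtain ⟨hr, hrb, -⟩ := Nat.mem_primeFactors.1 hr
  have hp := (Fact.out : p.Prime)
  refine Nat.mem_primeFactors.2 ⟨hr, ?_, Nat.card_pos.ne'⟩
  obtain ⟨k, hk⟩ := exists_prime_pow hF p
  have hk0 : k ≠ 0 := fun e => by
    have := Fintype.one_lt_card (α := F)
    rw [hk, e] at hF; simp at hF; omega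
  have hq0 : 0 < q := hk ▸ pow_pos hp.pos k
  by_cases hrp : r = p
  · rw [card_SU_prod hF (by omega)]
    refine Dvd.dvd.mul_right (hrp ▸ hk ▸ dvd_trans (dvd_pow_self p hk0) (dvd_pow_self _ ?_)) _
    have : 1 ≤ (m - 2) * (m - 2 - 1) / 2 := by
      rw [Nat.le_div_iff_mul_le two_pos]
      exact le_trans (by norm_num) (Nat.mul_le_mul (show 2 ≤ m - 2 by omega) (show 1 ≤ m - 2 - 1 by omega))
    omega
  by_cases hq2 : r ∣ q ^ 2 - 1
  · exact dvd_card_SU (j := 2) hF le_rfl (by omega) (by rwa [if_neg (by decide)])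
  have hsq : q ^ 2 - 1 = (q + 1) * (q - 1) := by simpa using Nat.sq_sub_sq q 1
  have hr2 : r ≠ 2 := by
    rintro rfl
    refine hq2 ?_
    rcases hp.eq_two_or_odd' with e | e
    · exact absurd e.symm hrp
    · rw [hsq]
      exact Dvd.dvd.mul_right ((hk ▸ e.pow : Odd q).add_odd odd_one).two_dvd _
  obtain ⟨σ, h⟩ := exists_uFrob (q := q) (F := F) (by rw [Nat.card_eq_fintype_card, hF])
  haveI := Fact.mk hr
  have hb : orderOf (b ^ (orderOf b / r)) = r := orderOf_pow_orderOf_div (orderOf_pos b).ne' hrb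
  set x := b ^ (orderOf b / r) * a with hx
  have hxo : orderOf x = r * p := by
    rw [hx, (hab.symm.pow_left _).orderOf_mul_eq_mul_orderOf_of_coprime
      (by rw [hb, ha]; exact (Nat.coprime_primes hr hp).2 hrp), hb, ha]
  obtain ⟨g, hg⟩ := QuotientGroup.mk_surjective x
  obtain ⟨c, hc1, -, hc⟩ := scalar_of_mk_pow hF (by omega) (g := g) (m := r * p)
    (by rw [hg, ← hxo, pow_orderOf_eq_one])
  have hpq : ¬ p ∣ q + 1 := fun hd => hp.ne_one (Nat.dvd_one.1
    ((Nat.dvd_add_right (hk ▸ dvd_pow_self p hk0)).1 hd))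
  have hrq : ¬ r ∣ q + 1 := fun hd => hq2 (hsq ▸ hd.mul_right _)
  have hcop : Nat.Coprime (r * p) (q + 1) :=
    Nat.Coprime.mul_left (hr.coprime_iff_not_dvd.2 hrq) (hp.coprime_iff_not_dvd.2 hpq)
  have hgo : orderOf (g ^ (q + 1)) = r * p := by
    refine Nat.dvd_antisymm (orderOf_dvd_of_pow_eq_one ?_) ?_
    · rw [← pow_mul, mul_comm, su_pow_eq_one_iff, pow_mul, hc, ← map_pow, hc1, map_one]
    · have h' := orderOf_map_dvd (QuotientGroup.mk' (Subgroup.center (Cfsg.SU m F q))) (g ^ (q + 1))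
      rwa [map_pow, QuotientGroup.mk'_apply, hg,
        (hxo.symm ▸ hcop : Nat.Coprime (orderOf x) (q + 1)).orderOf_pow, hxo] at h'
  refine core p hm hF h hr hrp hr2 hq2 (A := (g ^ (q + 1)) ^ p) (u := (g ^ (q + 1)) ^ r) ?_ ?_
    (Commute.pow_pow_self _ p r)
  · rw [orderOf_pow_of_dvd hp.ne_zero (hgo ▸ dvd_mul_left p r), hgo, Nat.mul_div_cancel _ hp.pos]
  · rw [orderOf_pow_of_dvd hr.ne_zero (hgo ▸ dvd_mul_right r p), hgo, Nat.mul_div_cancel_left _ hr.pos]

end Cfsg.Agent.S2365
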