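import Cfsg.Statements.S2367


set_option autoImplicit false
open Cfsg

namespace Cfsg.Agent.S2367

set_option synthInstance.maxSize 4000 in
/-- Let G be an alternating group of degree at least 5 or a simple group with the order of one of the 26 sporadic groups, and let p be an odd prime such that p³ is the exact power of p dividing the order of G. Then p³ is less than the 2-part of the order of G. -/
theorem result {G : Type*} [Group G] [Finite G] (hG : Cfsg.IsAlternating G ∨ Cfsg.IsSporadic G)
    (p : ℕ) (hp : p.Prime) (hodd : p ≠ 2) (h3 : (Nat.card G).factorization p = 3) :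
    p ^ 3 < 2 ^ (Nat.card G).factorization 2 := by
  have hv : ∀ k, 2 ^ k ∣ Nat.card G → k ≤ (Nat.card G).factorization 2 := fun k hk =>
    (Nat.Prime.pow_dvd_iff_le_factorization Nat.prime_two Nat.card_pos.ne').1 hk
  have hd3 : p ^ 3 ∣ Nat.card G := h3 ▸ Nat.ordProj_dvd _ _
  have hd4 : ¬ p ^ 4 ∣ Nat.card G := fun h => by
    have := (hp.pow_dvd_iff_le_factorization Nat.card_pos.ne').1 h
    omega
  rcases hG with ⟨n, hn, ⟨e⟩⟩ | hG
  · have : Nontrivial (Fin n) := Fin.nontrivial_iff_two_le.2 (by omega)
    have hcard : 2 * Nat.card G = n.factorial := by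
      rw [Nat.card_congr e.toEquiv, Nat.card_eq_fintype_card, two_mul_card_alternatingGroup,
        Fintype.card_perm, Fintype.card_fin]
    have hfp : ∀ q, q.Prime → (n.factorial).factorization q =
        (2 : ℕ).factorization q + (Nat.card G).factorization q := fun q _ => by
      rw [← hcard, Nat.factorization_mul two_ne_zero Nat.card_pos.ne']; rfl
    have hleg : ∀ q, q.Prime → ∀ b, Nat.log q n < b →
        (n.factorial).factorization q = ∑ i ∈ Finset.Ico 1 b, n / q ^ i := fun q hq b hb => by
      have := Fact.mk hq
      rw [Nat.factorization_def _ hq, padicValNat_factorial hb]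
    have hsum : ∀ q, q.Prime → n / q + n / q ^ 2 ≤ (n.factorial).factorization q := fun q hq => by
      rw [hleg q hq (Nat.log q n + 3) (by omega)]
      refine le_trans (le_of_eq ?_) (Finset.sum_le_sum_of_subset (s := {1, 2})
        (fun i hi => by simp at hi ⊢; omega))
      simp
    have hp3 : (n.factorial).factorization p = 3 := by
      rw [hfp p hp, h3, Nat.prime_two.factorization, Finsupp.single_eq_of_ne hodd]
    have h3p : 3 * p ≤ n := by
      by_contra! hlt
      have hp5 : 3 ≤ p := by have := hp.two_le; omega
      have hsq : 3 * p ≤ p ^ 2 := by rw [sq]; exact Nat.mul_le_mul_right p hp5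
      have hlog : Nat.log p n < 2 := Nat.log_lt_of_lt_pow (by omega) (by omega)
      rw [hleg p hp 2 hlog] at hp3
      simp at hp3
      have : n / p < 3 := Nat.div_lt_of_lt_mul (by omega)
      omega
    have hp4 : 5 ≤ p := by
      by_contra hlt
      have h2 := hp.two_le
      interval_cases p
      · exact hodd rfl
      · have := hsum 3 hp
        have : 3 ≤ n / 3 := by omega
        have : 1 ≤ n / 3 ^ 2 := by omega
        omega
      · exact absurd hp (by decide)
    have h2 := hsum 2 Nat.prime_two
    rw [hfp 2 Nat.prime_two, Nat.prime_two.factorization_self] at h2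
    have hexp : 2 * p - 1 ≤ (Nat.card G).factorization 2 := by omega
    have hkey : ∀ k, 5 ≤ k → 2 * k ^ 3 < 2 ^ (2 * k) := by
      intro k hk
      induction k, hk using Nat.le_induction with
      | base => norm_num
      | succ k hk ih =>
        rw [mul_add 2 k 1, pow_add]
        have : (k + 1) ^ 3 ≤ 4 * k ^ 3 := by
          have : k + 1 ≤ 6 * k / 5 + 1 := by omega
          nlinarith [Nat.mul_le_mul hk (Nat.mul_le_mul hk (le_refl k))]
        omega
    have := hkey p hp4
    have h2p : 2 ^ (2 * p) = 2 * 2 ^ (2 * p - 1) := by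
      rw [← pow_succ']; congr 1; omega
    have := Nat.pow_le_pow_right (show 0 < 2 by norm_num) hexp
    omega
  · have hsp : ∀ N ∈ [7920, 95040, 443520, 10200960, 244823040, 175560, 604800, 50232960,
        86775571046077562880, 4157776806543360000, 42305421312000, 495766656000, 64561751654400,
        4089470473293004800, 1255205709190661721292800, 44352000, 898128000, 4030387200,
        145926144000, 448345497600, 460815505920, 273030912000000, 51765179004000000,
        90745943887872000, 4154781481226426191177580544000000,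
        808017424794512875886459904961710757005754368000000000], (N ∣ Nat.factorial 71 ^ 50) ∧
        ∀ q, q < 72 → 2 ≤ q → (∀ d, d < q → 2 ≤ d → ¬ d ∣ q) → q ^ 3 ∣ N → ¬ q ^ 4 ∣ N → q ≠ 2 → q ^ 3 < Nat.gcd N (2 ^ 64) := by
      decide +kernel
    obtain ⟨hfac, hchk⟩ := hsp (Nat.card G) (by
      rcases hG with h | h | h | h | h | h | h | h | h | h | h | h | h | h | h | h | h | h | h | h |
        h | h | h | h | h | h <;> simp [h.2])
    have hp71 : p < 72 := Nat.lt_succ_of_le ((Nat.Prime.dvd_factorial hp).1
      (hp.dvd_of_dvd_pow ((dvd_pow_self p (by norm_num : (3 : ℕ) ≠ 0)).trans (hd3.trans hfac))))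
    refine lt_of_lt_of_le (hchk p hp71 hp.two_le
      (fun d hd h2 hdq => by rcases (Nat.dvd_prime hp).1 hdq with h | h <;> omega) hd3 hd4 hodd) ?_
    obtain ⟨k, -, hk⟩ := (Nat.dvd_prime_pow Nat.prime_two).1 (Nat.gcd_dvd_right (Nat.card G) (2 ^ 64))
    rw [hk]
    exact Nat.pow_le_pow_right (by norm_num) (hv k (hk ▸ Nat.gcd_dvd_left _ _))

end Cfsg.Agent.S2367
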