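import Cfsg.Statements.S2368
import Cfsg.Agent.Lib.KnownA.Unipotent

set_option autoImplicit false
open Cfsg

namespace Cfsg.Agent.S2368

/-- Let F be a finite field of characteristic p and m ≥ 1. Every element of GL(m, F) of p-power order has order less than p·m, and GL(m, F) has an element of p-power order at least m; so the largest order of a p-element of GL(m, F) is the least power of p that is at least m. -/
theorem result {F : Type*} [Field F] [Fintype F] (p : ℕ) [Fact p.Prime] [CharP F p] (m : ℕ) (hm : 1 ≤ m) :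
    (∀ g : Matrix.GeneralLinearGroup (Fin m) F, (∃ j : ℕ, orderOf g = p ^ j) → orderOf g < p * m) ∧
      ∃ g : Matrix.GeneralLinearGroup (Fin m) F, (∃ j : ℕ, orderOf g = p ^ j) ∧ m ≤ orderOf g := by
  have hp : p.Prime := Fact.out
  constructor
  · rintro g ⟨j, hj⟩
    have hu : IsNilpotent ((g : Matrix (Fin m) (Fin m) F) - 1) :=
      ⟨p ^ j, (CfsgLib.KnownA.unipotent_pow p (by omega) g j).1 (hj ▸ pow_orderOf_eq_one g)⟩
    refine lt_of_le_of_lt (Nat.le_of_dvd (pow_pos hp.pos _)
      (CfsgLib.KnownA.orderOf_unipotent_dvd p g hu)) ?_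
    cases h : Nat.clog p m with
    | zero => simpa using lt_of_lt_of_le hp.one_lt (Nat.le_mul_of_pos_right p hm)
    | succ k =>
      have := (Nat.lt_clog_iff_pow_lt hp.one_lt).1 (show k < Nat.clog p m by omega)
      rw [pow_succ']
      exact Nat.mul_lt_mul_of_pos_left this hp.pos
  · obtain ⟨u, hu, hne⟩ := CfsgLib.KnownA.exists_jordanBlock F m
    have h := CfsgLib.KnownA.orderOf_unipotent_eq p u hu (hne hm)
    exact ⟨u, ⟨_, h⟩, h ▸ Nat.le_pow_clog hp.one_lt m⟩

end Cfsg.Agent.S2368
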