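import Cfsg.Statements.S2369
import Cfsg.Agent.Lib.Chev.F42Invol.Cent

set_option autoImplicit false
open Cfsg

namespace Cfsg.Agent.S2369

/-- Let q = 2^(2m+1) with m ≥ 1 and let a, b be commuting elements of the large Ree group ²F₄(q) with a an involution. Then every prime divisor of the order of b divides q(q⁴ − 1). -/
theorem result {K : Type*} [Field K] [Fintype K] (m : ℕ) (hm : 1 ≤ m) (hK : Fintype.card K = 2 ^ (2 * m + 1))
    (a b : ↥(Cfsg.Lie.twistedF4 K (2 ^ m))) (ha : orderOf a = 2) (hab : Commute a b) :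
    (orderOf b).primeFactors ⊆ (2 ^ (2 * m + 1) * ((2 ^ (2 * m + 1)) ^ 4 - 1)).primeFactors := by
  intro p hp
  obtain ⟨hc, σ, hσ, hi⟩ := CfsgLib.Chev.F42.exists_sigma hK
  have hG := CfsgLib.Chev.F42.twisted_eq_fix hσ hi
  rw [Nat.mem_primeFactors] at hp ⊢
  refine ⟨hp.1, CfsgLib.Chev.F42Invol.primes_of_commute hi hK (hG ▸ a.2) (hG ▸ b.2)
    ((Subgroup.orderOf_coe a).trans ha) (congrArg Subtype.val hab.eq) hp.1
    ((Subgroup.orderOf_coe b).symm ▸ hp.2.1), ?_⟩
  have h2 : 1 < (2 ^ (2 * m + 1)) ^ 4 := Nat.one_lt_pow (by decide) (Nat.one_lt_two_pow (by omega))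
  exact mul_ne_zero (by positivity) (by omega)

end Cfsg.Agent.S2369
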