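import Cfsg.Statements.S2382
import Cfsg.Agent.Lib.Chev.Weights.Count
import Cfsg.Agent.Lib.Chev.Parabolic
import Cfsg.Agent.S1035


set_option autoImplicit false
open Cfsg

namespace Cfsg.Agent.S2382

/-- Steinberg's count of semisimple classes for the three types whose simply connected and adjoint groups coincide: in the Chevalley group of type G₂, F₄ or E₈ over a field with `q` elements of characteristic `p`, the conjugacy classes of elements of order prime to `p` number exactly `q^l`, `l = 2, 4, 8` the rank. -/
theorem result {F : Type*} [Field F] [Fintype F] {q : ℕ} (hq : Fintype.card F = q) (p : ℕ) [Fact p.Prime] [CharP F p]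
    (D : Cfsg.Lie.ChevalleyDatum) (hD : D ∈ [Cfsg.Lie.chevG2, Cfsg.Lie.chevF4, Cfsg.Lie.chevE8]) :
    Nat.card {c : ConjClasses ↥(D.group F) // ∃ g : ↥(D.group F), ConjClasses.mk g = c ∧ (orderOf g).Coprime p} = q ^ D.rank := by
    subst hq
    obtain ⟨A, h⟩ := CfsgLib.Chev.para_of_mem (D := D) (by
      simp only [List.mem_cons, List.not_mem_nil, or_false] at hD ⊢; tauto)
    have hc : Nat.card (D.diagonalSubgroup F) = (Fintype.card F - 1) ^ D.rank := by
      have := Cfsg.Agent.S1035.result (F := F) rfl (D, 1) (by
        simp only [List.mem_cons, List.not_mem_nil, or_false] at hD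
        rcases hD with rfl | rfl | rfl <;> simp)
      simpa using this
    rw [← CfsgLib.Chev.Weights.card_regular_classes h p hc]
    refine Nat.card_congr (Equiv.subtypeEquivRight fun c => exists_congr fun g => and_congr_right fun _ => ?_)
    rw [Nat.coprime_comm]
    exact (Fact.out : p.Prime).coprime_iff_not_dvd

end Cfsg.Agent.S2382
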