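import Cfsg.Statements.S2383
import Cfsg.Agent.Lib.Chev.Weights.Count
import Cfsg.Agent.Lib.Chev.Parabolic
import Cfsg.Agent.S1035


set_option autoImplicit false
open Cfsg

namespace Cfsg.Agent.S2383

/-- Steinberg's count of semisimple classes in characteristic 2 for the types B₂, D₄, E₇, where the finite simply connected group has trivial centre and so coincides with the Chevalley group: for the Chevalley group of type B₂, D₄ or E₇ over a field with `q` elements of characteristic 2, the conjugacy classes of elements of odd order number exactly `q^l`, `l` the rank. -/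
theorem result {F : Type*} [Field F] [Fintype F] {q : ℕ} (hq : Fintype.card F = q) [CharP F 2]
    (D : Cfsg.Lie.ChevalleyDatum) (hD : D ∈ [Cfsg.Lie.chevB2, Cfsg.Lie.chevD4, Cfsg.Lie.chevE7]) :
    Nat.card {c : ConjClasses ↥(D.group F) // ∃ g : ↥(D.group F), ConjClasses.mk g = c ∧ Odd (orderOf g)} = q ^ D.rank := by
    subst hq
    obtain ⟨A, h⟩ := CfsgLib.Chev.para_of_mem (D := D) (by
      simp only [List.mem_cons, List.not_mem_nil, or_false] at hD ⊢; tauto)
    have hg : Nat.gcd 2 (Fintype.card F - 1) = 1 := by
      obtain ⟨n, -, e⟩ := FiniteField.card F 2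
      rw [e]
      refine (Nat.prime_two.coprime_iff_not_dvd).2 fun hdvd => ?_
      have h2 : 2 ∣ 2 ^ (n : ℕ) := dvd_pow_self 2 n.pos.ne'
      have h1 : 1 ≤ 2 ^ (n : ℕ) := Nat.one_le_two_pow
      omega
    have hc : Nat.card (D.diagonalSubgroup F) = (Fintype.card F - 1) ^ D.rank := by
      have := Cfsg.Agent.S1035.result (F := F) rfl (D, 1) (by
        simp only [List.mem_cons, List.not_mem_nil, or_false] at hD
        rcases hD with rfl | rfl | rfl <;> simp [hg])
      simpa using this
    haveI : Fact (Nat.Prime 2) := ⟨Nat.prime_two⟩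
    rw [← CfsgLib.Chev.Weights.card_regular_classes h 2 hc]
    refine Nat.card_congr (Equiv.subtypeEquivRight fun c => exists_congr fun g => and_congr_right fun _ => ?_)
    rw [Nat.odd_iff]
    omega

end Cfsg.Agent.S2383
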