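import Cfsg.Statements.S2384
import Cfsg.Agent.Lib.KnownB.Semisimple

set_option autoImplicit false
open Cfsg

set_option linter.style.haveILetI false

namespace Cfsg.Agent.S2384

/-- In `SL_n(q)`, `q` a power of the prime `p`, the number of conjugacy classes of elements of order prime to `p` (the semisimple classes) is `q^(n-1)`. -/
theorem result {F : Type*} [Field F] [Fintype F] {q : ℕ} (hq : Fintype.card F = q) (p : ℕ) [Fact p.Prime] [CharP F p] (n : ℕ) (hn : 1 ≤ n) :
    Nat.card {c : ConjClasses (Matrix.SpecialLinearGroup (Fin n) F) //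
      ∃ g : Matrix.SpecialLinearGroup (Fin n) F, ConjClasses.mk g = c ∧ (orderOf g).Coprime p} = q ^ (n - 1) := by
  classical
  haveI : Nonempty (Fin n) := ⟨⟨0, hn⟩⟩
  haveI : NeZero n := ⟨by omega⟩
  let ι : Matrix.SpecialLinearGroup (Fin n) F →* GL (Fin n) F := Matrix.SpecialLinearGroup.toGL
  let S := {c : ConjClasses (Matrix.SpecialLinearGroup (Fin n) F) //
    ∃ g : Matrix.SpecialLinearGroup (Fin n) F, ConjClasses.mk g = c ∧ (orderOf g).Coprime p}
  let T := {v : Fin n → F // v 0 = (-1) ^ n}
  have hι : Function.Injective ι := Matrix.SpecialLinearGroup.toGL_injective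
  have hval : ∀ g, ((ι g : GL (Fin n) F) : Matrix (Fin n) (Fin n) F) = (g : Matrix (Fin n) (Fin n) F) := fun g => rfl
  let cp : ConjClasses (Matrix.SpecialLinearGroup (Fin n) F) → Fin n → F :=
    Quotient.lift (fun g i => (g : Matrix (Fin n) (Fin n) F).charpoly.coeff (i : ℕ)) fun a b hab => by
      obtain ⟨c, hc⟩ := isConj_iff.1 hab
      funext i
      rw [← hval b, ← hc, map_mul, map_mul, map_inv, Units.val_mul, Units.val_mul, Matrix.coe_units_inv, Matrix.charpoly_units_conj, hval]
  have hT : ∀ g : Matrix.SpecialLinearGroup (Fin n) F, cp (ConjClasses.mk g) 0 = (-1) ^ n := by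
    intro g
    have h1 := g.2
    rw [Matrix.det_eq_sign_charpoly_coeff, Fintype.card_fin] at h1
    show (g : Matrix (Fin n) (Fin n) F).charpoly.coeff 0 = (-1) ^ n
    calc (g : Matrix (Fin n) (Fin n) F).charpoly.coeff 0
        = ((-1 : F) ^ n * (-1) ^ n) * (g : Matrix (Fin n) (Fin n) F).charpoly.coeff 0 := by
          rw [← mul_pow, neg_mul_neg, one_mul, one_pow, one_mul]
      _ = (-1) ^ n := by rw [mul_assoc, h1, mul_one]
  let Φ : S → T := fun c => ⟨cp c.1, by
    obtain ⟨g, hg, -⟩ := c.2
    rw [← hg]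
    exact hT g⟩
  have hΦ : Function.Bijective Φ := by
    constructor
    · rintro ⟨_, g, rfl, hg⟩ ⟨_, h, rfl, hh⟩ he
      have hg' : (orderOf (ι g)).Coprime p := by rwa [orderOf_injective ι hι]
      have hh' : (orderOf (ι h)).Coprime p := by rwa [orderOf_injective ι hι]
      have hsg := CfsgLib.KnownB.Semisimple.isSemisimple_of_coprime p hg'
      have hcp : (g : Matrix (Fin n) (Fin n) F).charpoly = (h : Matrix (Fin n) (Fin n) F).charpoly := by
        refine Polynomial.ext fun i => ?_
        have hv : cp (ConjClasses.mk g) = cp (ConjClasses.mk h) := congrArg Subtype.val he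
        rcases lt_trichotomy i n with hi | rfl | hi
        · exact congrFun hv ⟨i, hi⟩
        · have hlead : ∀ M : Matrix (Fin i) (Fin i) F, M.charpoly.coeff i = 1 := fun M => by
            have := (Matrix.charpoly_monic M).leadingCoeff
            rwa [Polynomial.leadingCoeff, Matrix.charpoly_natDegree_eq_dim, Fintype.card_fin] at this
          rw [hlead, hlead]
        · rw [Polynomial.coeff_eq_zero_of_natDegree_lt (by rwa [Matrix.charpoly_natDegree_eq_dim, Fintype.card_fin]),
            Polynomial.coeff_eq_zero_of_natDegree_lt (by rwa [Matrix.charpoly_natDegree_eq_dim, Fintype.card_fin])]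
      obtain ⟨c, hc⟩ := isConj_iff.1 (CfsgLib.KnownB.Semisimple.isConj_of_charpoly hsg
        (CfsgLib.KnownB.Semisimple.isSemisimple_of_coprime p hh') hcp)
      obtain ⟨z, hz, hzd⟩ := CfsgLib.KnownB.Semisimple.exists_det_commute hsg (Matrix.GeneralLinearGroup.det c)⁻¹
      obtain ⟨d, hd⟩ : ∃ d : Matrix.SpecialLinearGroup (Fin n) F, ι d = c * z := by
        refine ⟨⟨((c * z : GL (Fin n) F) : Matrix (Fin n) (Fin n) F), ?_⟩, Units.ext rfl⟩
        have h1 := congrArg (fun u : Fˣ => (u : F))
          (show Matrix.GeneralLinearGroup.det (c * z) = 1 by rw [map_mul, hzd, mul_inv_cancel])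
        simpa using h1
      refine Subtype.ext (ConjClasses.mk_eq_mk_iff_isConj.2 (isConj_iff.2 ⟨d, hι ?_⟩))
      rw [map_mul, map_mul, map_inv, hd, mul_inv_rev, mul_assoc c z, hz]
      simp only [← mul_assoc]
      rw [mul_assoc (c * ι g) z, mul_inv_cancel, mul_one, hc]
    · rintro ⟨v, hv⟩
      have hsum : (∑ i : Fin n, Polynomial.C (v i) * Polynomial.X ^ (i : ℕ)).degree < (n : WithBot ℕ) :=
        Polynomial.degree_sum_fin_lt v
      obtain ⟨M, hM⟩ := CfsgLib.KnownB.Semisimple.exists_charpoly (k := n)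
        (Polynomial.X ^ n + ∑ i : Fin n, Polynomial.C (v i) * Polynomial.X ^ (i : ℕ))
        (Polynomial.monic_X_pow_add hsum)
        (Polynomial.natDegree_eq_of_degree_eq_some
          ((Polynomial.degree_add_eq_left_of_degree_lt (by rwa [Polynomial.degree_X_pow])).trans
            (Polynomial.degree_X_pow n)))
      have hcoeff : ∀ i : Fin n, M.charpoly.coeff (i : ℕ) = v i := by
        intro i
        rw [hM, Polynomial.coeff_add, Polynomial.coeff_X_pow, if_neg i.isLt.ne, zero_add,
          Polynomial.finset_sum_coeff, Finset.sum_eq_single i]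
        · simp [Polynomial.coeff_C_mul, Polynomial.coeff_X_pow]
        · intro j _ hj
          simp [Polynomial.coeff_C_mul, Polynomial.coeff_X_pow, Fin.val_ne_of_ne hj.symm]
        · simp
      have hdet : M.det = 1 := by
        rw [Matrix.det_eq_sign_charpoly_coeff, show (0 : ℕ) = ((0 : Fin n) : ℕ) from rfl, hcoeff, hv,
          Fintype.card_fin, ← mul_pow, neg_mul_neg, one_mul, one_pow]
      obtain ⟨g, hg, hgc⟩ := CfsgLib.KnownB.Semisimple.exists_coprime_part p
        (Matrix.GeneralLinearGroup.mkOfDetNeZero M (hdet ▸ one_ne_zero))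
      have hgd : (g : Matrix (Fin n) (Fin n) F).det = 1 := by
        rw [Matrix.det_eq_sign_charpoly_coeff, hgc, ← Matrix.det_eq_sign_charpoly_coeff]
        exact hdet
      obtain ⟨g', hg'⟩ : ∃ g' : Matrix.SpecialLinearGroup (Fin n) F, ι g' = g := ⟨⟨_, hgd⟩, Units.ext rfl⟩
      refine ⟨⟨ConjClasses.mk g', g', rfl, ?_⟩, Subtype.ext (funext fun i => ?_)⟩
      · rw [← orderOf_injective ι hι, hg']
        exact hg
      · show (g' : Matrix (Fin n) (Fin n) F).charpoly.coeff (i : ℕ) = v i
        rw [← hval g', hg']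
        rw [hgc]
        exact hcoeff i
  rw [Nat.card_congr (Equiv.ofBijective Φ hΦ), Nat.card_congr
    ({ toFun := fun v => fun j => v.1 j.1
       invFun := fun a => ⟨fun i => if h : i = 0 then (-1) ^ n else a ⟨i, h⟩, by simp⟩
       left_inv := fun v => Subtype.ext (funext fun i => by rcases eq_or_ne i 0 with rfl | h <;> simp [*, v.2])
       right_inv := fun a => funext fun j => by simp [j.2] } :
      T ≃ ({i : Fin n // i ≠ 0} → F)), Nat.card_fun, Nat.card_eq_fintype_card (α := F), hq,
    Nat.card_eq_fintype_card, Fintype.card_subtype_compl, Fintype.card_subtype_eq, Fintype.card_fin]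

end Cfsg.Agent.S2384
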