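import Cfsg.Statements.S2385
import Cfsg.Agent.Lib.KnownB.ClassCount
import Cfsg.Agent.Lib.KnownB.SymplConj

set_option autoImplicit false
open Cfsg

set_option linter.style.haveILetI false

namespace Cfsg.Agent.S2385

/-- In the symplectic group `Sp_{2n}(q)`, `q` a power of the prime `p`, the number of conjugacy classes of elements of order prime to `p` is `q^n`. -/
theorem result {F : Type*} [Field F] [Fintype F] {q : ℕ} (hq : Fintype.card F = q) (p : ℕ) [Fact p.Prime] [CharP F p] (n : ℕ) :
    Nat.card {c : ConjClasses ↥(Matrix.symplecticGroup (Fin n) F) //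
      ∃ g : ↥(Matrix.symplecticGroup (Fin n) F), ConjClasses.mk g = c ∧ (orderOf g).Coprime p} = q ^ n := by
  classical
  let j : Matrix.symplecticGroup (Fin n) F →* GL (Fin n ⊕ Fin n) F := (Submonoid.subtype _).toHomUnits
  have hj : Function.Injective j := fun a b hab => Subtype.ext (congrArg Units.val hab)
  let S := {c : ConjClasses ↥(Matrix.symplecticGroup (Fin n) F) //
    ∃ g : ↥(Matrix.symplecticGroup (Fin n) F), ConjClasses.mk g = c ∧ (orderOf g).Coprime p}
  let cp : ConjClasses ↥(Matrix.symplecticGroup (Fin n) F) → Polynomial F :=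
    Quotient.lift (fun g => (g : Matrix (Fin n ⊕ Fin n) (Fin n ⊕ Fin n) F).charpoly) fun a b hab => by
      obtain ⟨c, hc⟩ := isConj_iff.1 hab
      show ((j a : GL (Fin n ⊕ Fin n) F) : Matrix (Fin n ⊕ Fin n) (Fin n ⊕ Fin n) F).charpoly =
        ((j b : GL (Fin n ⊕ Fin n) F) : Matrix (Fin n ⊕ Fin n) (Fin n ⊕ Fin n) F).charpoly
      rw [← hc, map_mul, map_mul, map_inv, Units.val_mul, Units.val_mul, Matrix.coe_units_inv, Matrix.charpoly_units_conj]
  let Φ : S → Fin n → F := fun c i => (cp c.1).coeff (i + 1)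
  have hΦ : Function.Injective Φ := by
    rintro ⟨_, g, rfl, hg⟩ ⟨_, h, rfl, hh⟩ he
    exact Subtype.ext (ConjClasses.mk_eq_mk_iff_isConj.2 (CfsgLib.KnownB.BilinConj.sp_charpoly p g h hg hh
      (CfsgLib.KnownB.ClassCount.charpoly_eq_of_coeff g h (congrFun he))))
  have hle : Nat.card S ≤ q ^ n := by
    rw [← hq, ← Nat.card_eq_fintype_card (α := F), show Nat.card F ^ n = Nat.card (Fin n → F) by
      rw [Nat.card_fun, Nat.card_fin]]
    exact Nat.card_le_card_of_injective Φ hΦ
  -- one class for each monic polynomial of degree `n`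
  have hmk : ∀ v : Fin n → F, (Polynomial.X ^ n + ∑ i : Fin n, Polynomial.C (v i) * Polynomial.X ^ (i : ℕ)).Monic ∧
      (Polynomial.X ^ n + ∑ i : Fin n, Polynomial.C (v i) * Polynomial.X ^ (i : ℕ)).natDegree = n := by
    intro v
    have hsum : (∑ i : Fin n, Polynomial.C (v i) * Polynomial.X ^ (i : ℕ)).degree < (n : WithBot ℕ) :=
      Polynomial.degree_sum_fin_lt v
    exact ⟨Polynomial.monic_X_pow_add hsum, Polynomial.natDegree_eq_of_degree_eq_some
      ((Polynomial.degree_add_eq_left_of_degree_lt (by rwa [Polynomial.degree_X_pow])).trans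
        (Polynomial.degree_X_pow n))⟩
  choose M hM using fun v => CfsgLib.KnownB.ClassCount.exists_symplectic _ (hmk v).1 (hmk v).2
  choose k hk hkc using fun v => CfsgLib.KnownB.ClassCount.exists_pow_coprime p (j (M v))
  let Ψ : (Fin n → F) → S := fun v => ⟨ConjClasses.mk (M v ^ k v), M v ^ k v, rfl, by
    rw [← orderOf_injective j hj, map_pow]
    exact hk v⟩
  have hΨ : Function.Injective Ψ := by
    intro v w hvw
    have h1 : cp (ConjClasses.mk (M v ^ k v)) = cp (ConjClasses.mk (M w ^ k w)) :=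
      congrArg (fun c : S => cp c.1) hvw
    change ((j (M v ^ k v) : GL (Fin n ⊕ Fin n) F) : Matrix (Fin n ⊕ Fin n) (Fin n ⊕ Fin n) F).charpoly =
      ((j (M w ^ k w) : GL (Fin n ⊕ Fin n) F) : Matrix (Fin n ⊕ Fin n) (Fin n ⊕ Fin n) F).charpoly at h1
    rw [map_pow, map_pow, hkc, hkc] at h1
    have hg := CfsgLib.KnownB.ClassCount.eq_of_aeval_eq _ _ fun t ht => mul_left_cancel₀ (pow_ne_zero n ht)
      (((hM v _ t ht).symm.trans (congrArg (Polynomial.aeval t) h1)).trans (hM w _ t ht))
    funext i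
    have h2 := congrArg (fun f => Polynomial.coeff f (i : ℕ)) hg
    simp only [Polynomial.coeff_add, Polynomial.coeff_X_pow, if_neg i.isLt.ne, zero_add,
      Polynomial.finset_sum_coeff, Polynomial.coeff_C_mul] at h2
    simpa [Fin.val_inj] using h2
  refine le_antisymm hle ?_
  rw [← hq, ← Nat.card_eq_fintype_card (α := F), show Nat.card F ^ n = Nat.card (Fin n → F) by
    rw [Nat.card_fun, Nat.card_fin]]
  exact Nat.card_le_card_of_injective Ψ hΨ

end Cfsg.Agent.S2385
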