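import Cfsg.Statements.S2386
import Cfsg.Agent.Lib.KnownB.UnitaryCharpoly
import Cfsg.Agent.Lib.KnownB.PSUAut.Field

set_option autoImplicit false
open Cfsg

set_option linter.style.haveILetI false

namespace Cfsg.Agent.S2386

/-- In the special unitary group `SU_n(q)` (matrices of determinant one over the field with `q²` elements preserving the standard Hermitian form), `q` a power of the prime `p`, the number of conjugacy classes of elements of order prime to `p` is `q^(n-1)`. -/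
theorem result {F : Type*} [Field F] [Fintype F] {q : ℕ} (hF : Fintype.card F = q ^ 2) (p : ℕ) [Fact p.Prime] [CharP F p] (n : ℕ) (hn : 1 ≤ n) :
    Nat.card {c : ConjClasses ↥(Cfsg.SU n F q) // ∃ g : ↥(Cfsg.SU n F q), ConjClasses.mk g = c ∧ (orderOf g).Coprime p} = q ^ (n - 1) := by
  classical
  have hK' : Nat.card F = q ^ 2 := by rw [Nat.card_eq_fintype_card, hF]
  obtain ⟨σ, hσq, hσ, hσ2⟩ := CfsgLib.Classical.exists_frob hK'
  have hn0 : 0 < n := hn
  haveI : Nonempty (Fin n) := ⟨⟨0, hn⟩⟩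
  obtain ⟨θ, hθ, hθd⟩ := CfsgLib.KnownB.UnitaryConj.exists_theta hσ hσ2
  let Ad : Matrix (Fin n) (Fin n) F → Matrix (Fin n) (Fin n) F := CfsgLib.KnownB.UnitaryConj.adj σ
  let ι : Matrix.SpecialLinearGroup (Fin n) F →* GL (Fin n) F := Matrix.SpecialLinearGroup.toGL
  have hι : Function.Injective ι := Matrix.SpecialLinearGroup.toGL_injective
  have hmem : ∀ g : Matrix.SpecialLinearGroup (Fin n) F, g ∈ Cfsg.SU n F q ↔
      Ad (ι g : Matrix (Fin n) (Fin n) F) * ι g = 1 := fun g => by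
    rw [show g ∈ Cfsg.SU n F q ↔ ι g ∈ Cfsg.GU n F q from Iff.rfl]
    exact CfsgLib.KnownB.UnitaryConj.mem_GU_iff_adj hσ2 hσq (ι g)
  let j : ↥(Cfsg.SU n F q) →* GL (Fin n) F := ι.comp (Cfsg.SU n F q).subtype
  have hj : Function.Injective j := hι.comp Subtype.val_injective
  have hju : ∀ g, Ad (j g : Matrix (Fin n) (Fin n) F) * j g = 1 := fun g => (hmem g.1).1 g.2
  have hjd : ∀ g, (j g : Matrix (Fin n) (Fin n) F).det = 1 := fun g => g.1.2
  have hlift : ∀ u : GL (Fin n) F, Ad (u : Matrix (Fin n) (Fin n) F) * u = 1 →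
      (u : Matrix (Fin n) (Fin n) F).det = 1 → ∃ g, j g = u := fun u h1 h2 =>
    ⟨⟨⟨u, h2⟩, (hmem _).2 (by rw [show ι ⟨u, h2⟩ = u from Units.ext rfl]; exact h1)⟩, Units.ext rfl⟩
  let S := {c : ConjClasses ↥(Cfsg.SU n F q) //
    ∃ g : ↥(Cfsg.SU n F q), ConjClasses.mk g = c ∧ (orderOf g).Coprime p}
  let T := {v : Fin (n - 1) → F // ∀ i, (-1 : F) ^ n * σ (v (Fin.rev i)) = v i}
  let cp : ConjClasses ↥(Cfsg.SU n F q) → Polynomial F :=
    Quotient.lift (fun g => (j g : Matrix (Fin n) (Fin n) F).charpoly) fun a b hab => by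
      obtain ⟨c, hc⟩ := isConj_iff.1 hab
      rw [← hc, map_mul, map_mul, map_inv, Units.val_mul, Units.val_mul, Matrix.coe_units_inv, Matrix.charpoly_units_conj]
  have hc0 : ∀ g, (j g : Matrix (Fin n) (Fin n) F).charpoly.coeff 0 = (-1) ^ n := by
    intro g
    have h1 := hjd g
    rw [Matrix.det_eq_sign_charpoly_coeff, Fintype.card_fin] at h1
    calc (j g : Matrix (Fin n) (Fin n) F).charpoly.coeff 0
        = ((-1 : F) ^ n * (-1) ^ n) * (j g : Matrix (Fin n) (Fin n) F).charpoly.coeff 0 := by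
          rw [← mul_pow, neg_mul_neg, one_mul, one_pow, one_mul]
      _ = (-1) ^ n := by rw [mul_assoc, h1, mul_one]
  have hT : ∀ g (i : Fin (n - 1)), (-1 : F) ^ n * σ ((j g : Matrix (Fin n) (Fin n) F).charpoly.coeff (((Fin.rev i : Fin (n - 1)) : ℕ) + 1)) =
      (j g : Matrix (Fin n) (Fin n) F).charpoly.coeff ((i : ℕ) + 1) := by
    intro g i
    have h1 := congrArg (fun f => Polynomial.coeff f (n - ((i : ℕ) + 1)))
      (CfsgLib.KnownB.UnitaryCharpoly.selfDual_charpoly (hju g))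
    simp only [Polynomial.coeff_reverse, Matrix.charpoly_natDegree_eq_dim, Fintype.card_fin, Polynomial.coeff_C_mul,
      Polynomial.coeff_map, hc0] at h1
    have := i.isLt
    rw [Polynomial.revAt_le (by omega), show n - (n - ((i : ℕ) + 1)) = (i : ℕ) + 1 by omega] at h1
    rw [h1, Fin.val_rev]
    congr 3
    omega
  let Φ : S → T := fun c => ⟨fun i => (cp c.1).coeff ((i : ℕ) + 1), by
    obtain ⟨g, hg, -⟩ := c.2
    intro i
    rw [← hg]
    exact hT g i⟩
  have hΦ : Function.Bijective Φ := by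
    constructor
    · rintro ⟨_, g, rfl, hg⟩ ⟨_, h, rfl, hh⟩ he
      have hg' : (orderOf (j g)).Coprime p := by rwa [orderOf_injective j hj]
      have hh' : (orderOf (j h)).Coprime p := by rwa [orderOf_injective j hj]
      have hv := congrFun (congrArg Subtype.val he)
      have hlead : ∀ M : Matrix (Fin n) (Fin n) F, M.charpoly.coeff n = 1 := fun M => by
        have := (Matrix.charpoly_monic M).leadingCoeff
        rwa [Polynomial.leadingCoeff, Matrix.charpoly_natDegree_eq_dim, Fintype.card_fin] at this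
      have hcp : (j g : Matrix (Fin n) (Fin n) F).charpoly = (j h : Matrix (Fin n) (Fin n) F).charpoly := by
        refine Polynomial.ext fun i => ?_
        rcases i with _ | i
        · rw [hc0, hc0]
        rcases lt_trichotomy (i + 1) n with hi | hi | hi
        · exact hv ⟨i, by omega⟩
        · rw [hi, hlead, hlead]
        · rw [Polynomial.coeff_eq_zero_of_natDegree_lt (by rwa [Matrix.charpoly_natDegree_eq_dim, Fintype.card_fin]),
            Polynomial.coeff_eq_zero_of_natDegree_lt (by rwa [Matrix.charpoly_natDegree_eq_dim, Fintype.card_fin])]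
      obtain ⟨c, hc⟩ := isConj_iff.1 (CfsgLib.KnownB.Semisimple.isConj_of_charpoly
        (CfsgLib.KnownB.Semisimple.isSemisimple_of_coprime p hg')
        (CfsgLib.KnownB.Semisimple.isSemisimple_of_coprime p hh') hcp)
      obtain ⟨u, hu, huc⟩ := CfsgLib.KnownB.UnitaryConj.exists_unitary_conjugator hσ hσ2 (hju g) (hju h) (h := c)
        (by rw [← hc]; group)
      obtain ⟨d, hd⟩ : ∃ d, d = (u : Matrix (Fin n) (Fin n) F).det := ⟨_, rfl⟩
      have hdσ : σ d * d = 1 := by
        have := congrArg Matrix.det hu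
        rw [Matrix.det_mul, Matrix.det_one, CfsgLib.KnownB.UnitaryConj.adj, Matrix.det_transpose,
          ← RingHom.mapMatrix_apply, ← RingHom.map_det] at this
        rwa [hd]
      obtain ⟨v, hv0, hvd⟩ : ∃ v : F, v ≠ 0 ∧ v / σ v = d⁻¹ := by
        obtain ⟨x, hx⟩ : ∃ x, x + d⁻¹ * σ x ≠ 0 := by
          by_contra hne
          push Not at hne
          have h1 := hne 1
          rw [map_one, mul_one] at h1
          refine hσ (RingHom.ext fun x => ?_)
          have h2 := hne x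
          show σ x = x
          linear_combination σ x * h1 - h2
        have hd0 : d ≠ 0 := right_ne_zero_of_mul_eq_one hdσ
        refine ⟨_, hx, ?_⟩
        rw [div_eq_iff ((map_ne_zero σ).2 hx), map_add, map_mul, hσ2, map_inv₀,
          show (σ d)⁻¹ = d from inv_eq_of_mul_eq_one_right hdσ, mul_add, ← mul_assoc, inv_mul_cancel₀ hd0, one_mul, add_comm]
      obtain ⟨z, hz, hzg, hzd⟩ := CfsgLib.KnownB.UnitaryCharpoly.exists_unitary_det p hσ hσ2 hn0 (hju g) hg' (Units.mk0 v hv0)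
      obtain ⟨s, hs⟩ := hlift (u * z) (by
        have hI := CfsgLib.KnownB.UnitaryConj.isInvol_adj (n := n) hσ2
        show CfsgLib.KnownB.UnitaryConj.adj σ _ * _ = 1
        rw [Units.val_mul, hI.map_mul, mul_assoc, ← mul_assoc _ (u : Matrix (Fin n) (Fin n) F), hu, one_mul, hz])
        (by rw [Units.val_mul, Matrix.det_mul, hzd, Units.val_mk0, hvd, ← hd, mul_inv_cancel₀ (right_ne_zero_of_mul_eq_one hdσ)])
      refine Subtype.ext (ConjClasses.mk_eq_mk_iff_isConj.2 (isConj_iff.2 ⟨s, hj ?_⟩))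
      rw [map_mul, map_mul, map_inv, hs, mul_inv_eq_iff_eq_mul, mul_assoc u, hzg, ← mul_assoc, huc, mul_assoc]
    · rintro ⟨v, hv⟩
      let w : Fin n → F := fun i => if h : (i : ℕ) = 0 then (-1) ^ n else v ⟨(i : ℕ) - 1, by omega⟩
      have hsum : (∑ i : Fin n, Polynomial.C (w i) * Polynomial.X ^ (i : ℕ)).degree < (n : WithBot ℕ) :=
        Polynomial.degree_sum_fin_lt w
      obtain ⟨f, hf⟩ : ∃ f : Polynomial F, f = Polynomial.X ^ n + ∑ i : Fin n, Polynomial.C (w i) * Polynomial.X ^ (i : ℕ) :=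
        ⟨_, rfl⟩
      have hfm : f.Monic := hf ▸ Polynomial.monic_X_pow_add hsum
      have hfd : f.natDegree = n := hf ▸ Polynomial.natDegree_eq_of_degree_eq_some
        ((Polynomial.degree_add_eq_left_of_degree_lt (by rwa [Polynomial.degree_X_pow])).trans
          (Polynomial.degree_X_pow n))
      have hfn : f.coeff n = 1 := by
        conv_lhs => arg 2; rw [← hfd]
        exact hfm.leadingCoeff
      have hcoeff : ∀ i : Fin n, f.coeff (i : ℕ) = w i := by
        intro i
        rw [hf, Polynomial.coeff_add, Polynomial.coeff_X_pow, if_neg i.isLt.ne, zero_add,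
          Polynomial.finset_sum_coeff, Finset.sum_eq_single i]
        · simp [Polynomial.coeff_C_mul, Polynomial.coeff_X_pow]
        · intro j _ hj
          simp [Polynomial.coeff_C_mul, Polynomial.coeff_X_pow, Fin.val_ne_of_ne hj.symm]
        · simp
      have hf0 : f.coeff 0 = (-1) ^ n := by
        rw [show (0 : ℕ) = ((⟨0, hn⟩ : Fin n) : ℕ) from rfl, hcoeff]
        simp [w]
      have hfi : ∀ i : Fin (n - 1), f.coeff ((i : ℕ) + 1) = v i := by
        intro i
        rw [show (i : ℕ) + 1 = ((⟨(i : ℕ) + 1, by omega⟩ : Fin n) : ℕ) from rfl, hcoeff]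
        simp [w]
      have hsd : CfsgLib.KnownB.UnitaryCharpoly.SelfDual σ f := by
        unfold CfsgLib.KnownB.UnitaryCharpoly.SelfDual
        refine Polynomial.ext fun k => ?_
        rw [Polynomial.coeff_reverse, Polynomial.coeff_C_mul, Polynomial.coeff_map, hfd, hf0]
        rcases lt_or_ge n k with hk | hk
        · rw [show Polynomial.revAt n k = k by
              show (if k ≤ n then n - k else k) = k
              rw [if_neg (by omega)],
            Polynomial.coeff_eq_zero_of_natDegree_lt (by rwa [hfd]), map_zero, mul_zero]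
        rw [Polynomial.revAt_le hk]
        rcases Nat.eq_zero_or_pos k with rfl | hk0
        · rw [Nat.sub_zero, hfn, hf0, map_pow, map_neg, map_one, ← mul_pow, neg_mul_neg, one_mul, one_pow]
        rcases eq_or_lt_of_le hk with rfl | hkn
        · rw [Nat.sub_self, hf0, hfn, map_one, mul_one]
        obtain ⟨i, hi⟩ : ∃ i : Fin (n - 1), (i : ℕ) = n - k - 1 := ⟨⟨n - k - 1, by omega⟩, rfl⟩
        have h1 := hv i
        rw [show n - k = (i : ℕ) + 1 by omega, hfi, ← h1, ← hfi, Fin.val_rev]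
        congr 3
        omega
      obtain ⟨g, hg, hgp, hgc⟩ := CfsgLib.KnownB.UnitaryCharpoly.exists_unitary p hσ hσ2 hfm hfd
        (hf0 ▸ pow_ne_zero _ (neg_ne_zero.2 one_ne_zero)) hsd
      have hgd : (g : Matrix (Fin n) (Fin n) F).det = 1 := by
        rw [Matrix.det_eq_sign_charpoly_coeff, hgc, hf0, Fintype.card_fin, ← mul_pow, neg_mul_neg, one_mul, one_pow]
      obtain ⟨g', hg'⟩ := hlift g hg hgd
      refine ⟨⟨ConjClasses.mk g', g', rfl, ?_⟩, Subtype.ext (funext fun i => ?_)⟩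
      · rw [← orderOf_injective j hj, hg']
        exact hgp
      · show (j g' : Matrix (Fin n) (Fin n) F).charpoly.coeff ((i : ℕ) + 1) = v i
        rw [hg', hgc]
        exact hfi i
  rw [Nat.card_congr (Equiv.ofBijective Φ hΦ)]
  let τ : (Fin (n - 1) → F) → (Fin (n - 1) → F) := fun v i => (-1 : F) ^ n * σ (v (Fin.rev i))
  have hc : (-1 : F) ^ n * σ ((-1 : F) ^ n) = 1 := by
    rw [map_pow, map_neg, map_one, ← mul_pow, neg_mul_neg, one_mul, one_pow]
  have hτ : ∀ v i, τ (τ v) i = v i := fun v i => by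
    show (-1 : F) ^ n * σ ((-1 : F) ^ n * σ (v (Fin.rev (Fin.rev i)))) = v i
    rw [map_mul, hσ2, ← mul_assoc, hc, one_mul, Fin.rev_rev]
  have hadd : ∀ (v w : Fin (n - 1) → F) i, τ (v + w) i = τ v i + τ w i := fun v w i => by
    show (-1 : F) ^ n * σ (v _ + w _) = _
    rw [map_add, mul_add]
  have hsmul : ∀ (a : F) (v : Fin (n - 1) → F) i, τ (a • v) i = σ a * τ v i := fun a v i => by
    show (-1 : F) ^ n * σ (a * v _) = _
    rw [map_mul, mul_left_comm]
  have hmemT : ∀ v, (∀ i, τ v i = v i) → ∀ i, (-1 : F) ^ n * σ (v (Fin.rev i)) = v i := fun v h => h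
  obtain ⟨δ, hδ, hδd⟩ : ∃ δ, δ = θ - σ θ ∧ σ δ⁻¹ = -δ⁻¹ :=
    ⟨_, rfl, by rw [map_inv₀, map_sub, hσ2, ← neg_sub, inv_neg]⟩
  have hδ0 : δ ≠ 0 := hδ ▸ hθd
  have hsq : Nat.card T * Nat.card T = q ^ (n - 1) * q ^ (n - 1) := by
    rw [← Nat.card_prod, ← mul_pow, ← sq, ← hK', show Nat.card F ^ (n - 1) = Nat.card (Fin (n - 1) → F) by
      rw [Nat.card_fun, Nat.card_fin]]
    refine Nat.card_congr
      { toFun := fun st => δ⁻¹ • (st.2.1 - σ θ • st.1.1)
        invFun := fun x => (⟨x + τ x, hmemT _ fun i => by rw [hadd, hτ, Pi.add_apply, add_comm]⟩,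
          ⟨θ • x + τ (θ • x), hmemT _ fun i => by rw [hadd, hτ, Pi.add_apply, add_comm]⟩)
        left_inv := ?_
        right_inv := ?_ }
    · rintro ⟨⟨s, hs⟩, ⟨t, ht⟩⟩
      have hs' : ∀ i, τ s i = s i := hs
      have ht' : ∀ i, τ t i = t i := ht
      have hx : ∀ i, τ (δ⁻¹ • (t - σ θ • s)) i = -δ⁻¹ * (t i - θ * s i) := fun i => by
        rw [sub_eq_add_neg, hsmul, hadd, hδd, show (-(σ θ • s)) = (-σ θ) • s from (neg_smul _ _).symm, hsmul, ht', hs',
          map_neg, hσ2, neg_mul θ, ← sub_eq_add_neg]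
      refine Prod.ext (Subtype.ext (funext fun i => ?_)) (Subtype.ext (funext fun i => ?_))
      · show (δ⁻¹ • (t - σ θ • s)) i + τ (δ⁻¹ • (t - σ θ • s)) i = s i
        rw [hx, Pi.smul_apply, Pi.sub_apply, Pi.smul_apply, smul_eq_mul, smul_eq_mul]
        calc δ⁻¹ * (t i - σ θ * s i) + -δ⁻¹ * (t i - θ * s i) = δ⁻¹ * (θ - σ θ) * s i := by ring
          _ = s i := by rw [← hδ, inv_mul_cancel₀ hδ0, one_mul]
      · show (θ • δ⁻¹ • (t - σ θ • s)) i + τ (θ • δ⁻¹ • (t - σ θ • s)) i = t i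
        rw [hsmul, hx, Pi.smul_apply, Pi.smul_apply, Pi.sub_apply, Pi.smul_apply, smul_eq_mul, smul_eq_mul, smul_eq_mul]
        calc θ * (δ⁻¹ * (t i - σ θ * s i)) + σ θ * (-δ⁻¹ * (t i - θ * s i)) = δ⁻¹ * (θ - σ θ) * t i := by ring
          _ = t i := by rw [← hδ, inv_mul_cancel₀ hδ0, one_mul]
    · intro x
      funext i
      show δ⁻¹ * ((θ * x i + τ (θ • x) i) - σ θ * (x i + τ x i)) = x i
      rw [hsmul]
      calc δ⁻¹ * (θ * x i + σ θ * τ x i - σ θ * (x i + τ x i)) = δ⁻¹ * (θ - σ θ) * x i := by ring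
        _ = x i := by rw [← hδ, inv_mul_cancel₀ hδ0, one_mul]
  exact Nat.mul_self_inj.1 hsq

end Cfsg.Agent.S2386
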