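import Cfsg.Statements.S2387
-- import your own Cfsg.Agent.* helpers here
import Cfsg.Agent.Lib.KnownB.Semisimple

set_option autoImplicit false
open scoped MatrixGroups
open Cfsg

namespace Cfsg.Agent.S2387

/-- In `GL_n(q)` with `n ≥ 1`, `q` a power of the prime `p`, the number of conjugacy classes of elements of order prime to `p` (diagonalisable over the algebraic closure; determined by the characteristic polynomial) is `(q - 1) q^(n-1)`. -/
theorem result {F : Type*} [Field F] [Fintype F] {q : ℕ} (hq : Fintype.card F = q) (p : ℕ) [Fact p.Prime] [CharP F p] (n : ℕ) (hn : 1 ≤ n) :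
    Nat.card {c : ConjClasses (GL (Fin n) F) // ∃ g : GL (Fin n) F, ConjClasses.mk g = c ∧ (orderOf g).Coprime p} = (q - 1) * q ^ (n - 1) := by
  classical
  haveI : Nonempty (Fin n) := ⟨⟨0, hn⟩⟩
  haveI : NeZero n := ⟨by omega⟩
  let S := {c : ConjClasses (GL (Fin n) F) // ∃ g : GL (Fin n) F, ConjClasses.mk g = c ∧ (orderOf g).Coprime p}
  let T := {v : Fin n → F // v 0 ≠ 0}
  let cp : ConjClasses (GL (Fin n) F) → Fin n → F :=
    Quotient.lift (fun g i => (g : Matrix (Fin n) (Fin n) F).charpoly.coeff (i : ℕ)) fun a b hab => by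
      obtain ⟨c, hc⟩ := isConj_iff.1 hab
      subst hc
      funext i
      rw [Units.val_mul, Units.val_mul, Matrix.coe_units_inv, Matrix.charpoly_units_conj]
  have hT : ∀ g : GL (Fin n) F, cp (ConjClasses.mk g) 0 ≠ 0 := by
    intro g h0
    have h1 := (Matrix.GeneralLinearGroup.det g).ne_zero
    rw [Matrix.GeneralLinearGroup.val_det_apply, Matrix.det_eq_sign_charpoly_coeff] at h1
    exact h1 (mul_eq_zero_of_right _ h0)
  let Φ : S → T := fun c => ⟨cp c.1, by
    obtain ⟨g, hg, -⟩ := c.2
    rw [← hg]
    exact hT g⟩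
  have hΦ : Function.Bijective Φ := by
    constructor
    · rintro ⟨_, g, rfl, hg⟩ ⟨_, h, rfl, hh⟩ he
      refine Subtype.ext (ConjClasses.mk_eq_mk_iff_isConj.2 (CfsgLib.KnownB.Semisimple.isConj_of_charpoly
        (CfsgLib.KnownB.Semisimple.isSemisimple_of_coprime p hg) (CfsgLib.KnownB.Semisimple.isSemisimple_of_coprime p hh) ?_))
      refine Polynomial.ext fun i => ?_
      have hv : cp (ConjClasses.mk g) = cp (ConjClasses.mk h) := congrArg Subtype.val he
      rcases lt_trichotomy i n with hi | rfl | hi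
      · exact congrFun hv ⟨i, hi⟩
      · have hlead : ∀ M : Matrix (Fin i) (Fin i) F, M.charpoly.coeff i = 1 := fun M => by
          have := (Matrix.charpoly_monic M).leadingCoeff
          rwa [Polynomial.leadingCoeff, Matrix.charpoly_natDegree_eq_dim, Fintype.card_fin] at this
        rw [hlead, hlead]
      · rw [Polynomial.coeff_eq_zero_of_natDegree_lt (by rwa [Matrix.charpoly_natDegree_eq_dim, Fintype.card_fin]),
          Polynomial.coeff_eq_zero_of_natDegree_lt (by rwa [Matrix.charpoly_natDegree_eq_dim, Fintype.card_fin])]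
    · rintro ⟨v, hv⟩
      have hsum : (∑ i : Fin n, Polynomial.C (v i) * Polynomial.X ^ (i : ℕ)).degree < (n : WithBot ℕ) :=
        Polynomial.degree_sum_fin_lt v
      obtain ⟨M, hM⟩ := CfsgLib.KnownB.Semisimple.exists_charpoly (k := n)
        (Polynomial.X ^ n + ∑ i : Fin n, Polynomial.C (v i) * Polynomial.X ^ (i : ℕ))
        (Polynomial.monic_X_pow_add hsum)
        (Polynomial.natDegree_eq_of_degree_eq_some
          ((Polynomial.degree_add_eq_left_of_degree_lt (by rwa [Polynomial.degree_X_pow])).trans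
            (Polynomial.degree_X_pow n)))
      have hcoeff : ∀ i : Fin n, M.charpoly.coeff (i : ℕ) = v i := by
        intro i
        rw [hM, Polynomial.coeff_add, Polynomial.coeff_X_pow, if_neg i.isLt.ne, zero_add,
          Polynomial.finset_sum_coeff, Finset.sum_eq_single i]
        · simp [Polynomial.coeff_C_mul, Polynomial.coeff_X_pow]
        · intro j _ hj
          simp [Polynomial.coeff_C_mul, Polynomial.coeff_X_pow, Fin.val_ne_of_ne hj.symm]
        · simp
      have hdet : M.det ≠ 0 := by
        rw [Matrix.det_eq_sign_charpoly_coeff]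
        exact mul_ne_zero (pow_ne_zero _ (neg_ne_zero.2 one_ne_zero))
          (by rw [show (0 : ℕ) = ((0 : Fin n) : ℕ) from rfl, hcoeff]; exact hv)
      obtain ⟨g, hg, hgc⟩ := CfsgLib.KnownB.Semisimple.exists_coprime_part p
        (Matrix.GeneralLinearGroup.mkOfDetNeZero M hdet)
      refine ⟨⟨ConjClasses.mk g, g, rfl, hg⟩, Subtype.ext (funext fun i => ?_)⟩
      show (g : Matrix (Fin n) (Fin n) F).charpoly.coeff (i : ℕ) = v i
      rw [hgc]
      exact hcoeff i
  rw [Nat.card_congr (Equiv.ofBijective Φ hΦ), Nat.card_congr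
    ({ toFun := fun v => (⟨v.1 0, v.2⟩, fun j => v.1 j.1)
       invFun := fun a => ⟨fun i => if h : i = 0 then a.1.1 else a.2 ⟨i, h⟩, by simpa using a.1.2⟩
       left_inv := fun v => Subtype.ext (funext fun i => by rcases eq_or_ne i 0 with rfl | h <;> simp [*])
       right_inv := fun a => Prod.ext (Subtype.ext (by simp)) (funext fun j => by simp [j.2]) } :
      T ≃ {x : F // x ≠ 0} × ({i : Fin n // i ≠ 0} → F)), Nat.card_prod, Nat.card_fun,
    ← Nat.card_congr (unitsEquivNeZero (G₀ := F)), Nat.card_units, Nat.card_eq_fintype_card (α := F), hq,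
    Nat.card_eq_fintype_card, Fintype.card_subtype_compl, Fintype.card_subtype_eq, Fintype.card_fin]

end Cfsg.Agent.S2387
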