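import Cfsg.Statements.S2388
-- import your own Cfsg.Agent.* helpers here
import Cfsg.Agent.Lib.KnownB.Semisimple

set_option autoImplicit false
open Cfsg

namespace Cfsg.Agent.S2388

/-- In `SL_n(q)`, `q` a power of the prime `p`, two elements of order prime to `p` with the same characteristic polynomial are conjugate in `SL_n(q)` (not merely in `GL_n`). -/
theorem result {F : Type*} [Field F] [Fintype F] (p : ℕ) [Fact p.Prime] [CharP F p] (n : ℕ)
    (g h : Matrix.SpecialLinearGroup (Fin n) F) (hg : (orderOf g).Coprime p) (hh : (orderOf h).Coprime p)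
    (hc : (g : Matrix (Fin n) (Fin n) F).charpoly = (h : Matrix (Fin n) (Fin n) F).charpoly) : IsConj g h := by
  rcases Nat.eq_zero_or_pos n with rfl | hn
  · have : g = h := Subtype.ext (Subsingleton.elim _ _)
    exact this ▸ IsConj.refl g
  haveI : Nonempty (Fin n) := ⟨⟨0, hn⟩⟩
  have hinj : Function.Injective (Matrix.SpecialLinearGroup.toGL : Matrix.SpecialLinearGroup (Fin n) F → GL (Fin n) F) :=
    fun a b hab => Subtype.ext (congrArg Units.val hab)
  have hg' := CfsgLib.KnownB.Semisimple.isSemisimple_of_coprime p (g := Matrix.SpecialLinearGroup.toGL g)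
    (by rwa [orderOf_injective _ hinj])
  have hh' := CfsgLib.KnownB.Semisimple.isSemisimple_of_coprime p (g := Matrix.SpecialLinearGroup.toGL h)
    (by rwa [orderOf_injective _ hinj])
  obtain ⟨c, hc⟩ := isConj_iff.1 (CfsgLib.KnownB.Semisimple.isConj_of_charpoly hg' hh' hc)
  obtain ⟨d, hd, hdet⟩ := CfsgLib.KnownB.Semisimple.exists_det_commute hg' (Matrix.GeneralLinearGroup.det c)⁻¹
  let s : Matrix.SpecialLinearGroup (Fin n) F := ⟨((c * d : GL (Fin n) F) : Matrix (Fin n) (Fin n) F), by
    rw [← Matrix.GeneralLinearGroup.val_det_apply, map_mul, hdet, mul_inv_cancel, Units.val_one]⟩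
  refine isConj_iff.2 ⟨s, hinj ?_⟩
  rw [map_mul, map_mul, map_inv, show Matrix.SpecialLinearGroup.toGL s = c * d from Units.ext rfl,
    mul_assoc c d, hd, ← hc, _root_.mul_inv_rev]
  group

end Cfsg.Agent.S2388
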