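import Cfsg.Statements.S2390
import Cfsg.Agent.Lib.KnownB.UnitaryDet
import Cfsg.Agent.Lib.Classical.UnitaryOrder

set_option autoImplicit false
open Cfsg

namespace Cfsg.Agent.S2390

/-- In the special unitary group `SU_n(q)` (inside `SL_n` over the field with `q²` elements), `q` a power of the prime `p`, two elements of order prime to `p` with the same characteristic polynomial are conjugate in `SU_n(q)`. -/
theorem result {F : Type*} [Field F] [Fintype F] {q : ℕ} (hF : Fintype.card F = q ^ 2) (p : ℕ) [Fact p.Prime] [CharP F p] (n : ℕ)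
    (g h : ↥(Cfsg.SU n F q)) (hg : (orderOf g).Coprime p) (hh : (orderOf h).Coprime p)
    (hc : ((g : Matrix.SpecialLinearGroup (Fin n) F) : Matrix (Fin n) (Fin n) F).charpoly =
      ((h : Matrix.SpecialLinearGroup (Fin n) F) : Matrix (Fin n) (Fin n) F).charpoly) : IsConj g h := by
  obtain ⟨σ, hq, hσ, hσ2⟩ := CfsgLib.Classical.exists_frob (F := F) (by rw [Nat.card_eq_fintype_card]; exact hF)
  let toG : ↥(Cfsg.SU n F q) →* GL (Fin n) F :=
    (Matrix.SpecialLinearGroup.toGL (n := Fin n) (R := F)).comp (Cfsg.SU n F q).subtype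
  have hinj : Function.Injective toG := fun a b hab => Subtype.ext (Subtype.ext (congrArg Units.val hab))
  have hu : ∀ a : ↥(Cfsg.SU n F q), CfsgLib.KnownB.UnitaryConj.adj σ (toG a : Matrix (Fin n) (Fin n) F) *
      (toG a : Matrix (Fin n) (Fin n) F) = 1 := fun a =>
    (CfsgLib.KnownB.UnitaryConj.mem_GU_iff_adj hσ2 hq _).1 a.2
  obtain ⟨u, hu', hdet, huA⟩ := CfsgLib.KnownB.UnitaryDet.su_charpoly hσ hσ2 p (hu g) (hu h)
    (by rwa [orderOf_injective toG hinj]) (by rwa [orderOf_injective toG hinj]) hc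
  let s : ↥(Cfsg.SU n F q) :=
    ⟨⟨(u : Matrix (Fin n) (Fin n) F), hdet⟩, (CfsgLib.KnownB.UnitaryConj.mem_GU_iff_adj hσ2 hq u).2 hu'⟩
  refine isConj_iff.2 ⟨s, hinj ?_⟩
  rw [map_mul, map_mul, map_inv, show toG s = u from Units.ext rfl, mul_inv_eq_iff_eq_mul, huA]

end Cfsg.Agent.S2390
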