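import Cfsg.Statements.S2391
-- import your own Cfsg.Agent.* helpers here

set_option autoImplicit false
open Cfsg

namespace Cfsg.Agent.S2391

/-- The Borel–Tits property of `SL_n(q)` in flag form: for a field `F` of characteristic `p` with finitely many elements and a non-trivial `p`-subgroup `U` of `SL_n(F)`, there is a flag `0 = V₀ < V₁ < ⋯ < V_{k+1} = F^n` with at least one proper non-zero member such that every element of the normaliser of `U` maps each `V_i` onto itself and every element of `U` acts trivially on each quotient `V_{i+1}/V_i` (so the normaliser lies in the parabolic subgroup of the flag and `U` in its unipotent radical). -/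
theorem result {F : Type*} [Field F] [Fintype F] (p : ℕ) [Fact p.Prime] [CharP F p] (n : ℕ)
    (U : Subgroup (Matrix.SpecialLinearGroup (Fin n) F)) (hU : IsPGroup p ↥U) (hne : U ≠ ⊥) :
    ∃ (k : ℕ) (V : Fin (k + 2) → Submodule F (Fin n → F)), 1 ≤ k ∧ StrictMono V ∧ V 0 = ⊥ ∧ V (Fin.last (k + 1)) = ⊤ ∧
      (∀ g ∈ Subgroup.normalizer (U : Set (Matrix.SpecialLinearGroup (Fin n) F)), ∀ i, (V i).map (Matrix.mulVecLin (g : Matrix (Fin n) (Fin n) F)) = V i) ∧
      (∀ u ∈ U, ∀ i : Fin (k + 1), ∀ v ∈ V i.succ, (u : Matrix (Fin n) (Fin n) F).mulVec v - v ∈ V (Fin.castSucc i)) := by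
  classical
  let mv : Matrix.SpecialLinearGroup (Fin n) F → (Fin n → F) →ₗ[F] (Fin n → F) := fun g => Matrix.mulVecLin (g : Matrix (Fin n) (Fin n) F)
  let next : Submodule F (Fin n → F) → Submodule F (Fin n → F) := fun W =>
    ⨅ u : U, W.comap (mv u - LinearMap.id)
  have hnext : ∀ W x, x ∈ next W ↔ ∀ u ∈ U, (u : Matrix (Fin n) (Fin n) F).mulVec x - x ∈ W := fun W x => by
    simp [next, mv, Submodule.mem_iInf]
  let W : ℕ → Submodule F (Fin n → F) := fun i => next^[i] ⊥
  have hWs : ∀ i, W (i + 1) = next (W i) := fun i => Function.iterate_succ_apply' next i ⊥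
  have hmono : ∀ i, W i ≤ W (i + 1) := by
    intro i
    induction i with
    | zero => exact bot_le
    | succ i ih =>
      intro x hx
      rw [hWs (i + 1), hnext]
      rw [hWs i, hnext] at hx
      exact fun u hu => ih (hx u hu)
  have hstrict : ∀ i, W i ≠ ⊤ → W i < W (i + 1) := by
    intro i hi
    refine lt_of_le_of_ne (hmono i) fun heq => ?_
    set W' := W i
    have hinv : ∀ u ∈ U, ∀ x ∈ W', (u : Matrix (Fin n) (Fin n) F).mulVec x ∈ W' := by
      intro u hu x hx
      have h1 : x ∈ W (i + 1) := heq ▸ hx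
      rw [hWs i, hnext] at h1
      simpa using add_mem (h1 u hu) hx
    haveI : Finite ((Fin n → F) ⧸ W') := Finite.of_surjective _ (Submodule.Quotient.mk_surjective W')
    let act : ↥U → (Fin n → F) ⧸ W' → (Fin n → F) ⧸ W' := fun u =>
      W'.mapQ W' (mv u) (fun x hx => hinv u u.2 x hx)
    letI : MulAction ↥U ((Fin n → F) ⧸ W') :=
      { smul := act
        one_smul := fun q => by
          obtain ⟨x, rfl⟩ := Submodule.Quotient.mk_surjective W' q
          change act 1 (Submodule.Quotient.mk x) = _
          simp [act, mv]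
        mul_smul := fun u v q => by
          obtain ⟨x, rfl⟩ := Submodule.Quotient.mk_surjective W' q
          change act (u * v) (Submodule.Quotient.mk x) = act u (act v (Submodule.Quotient.mk x))
          change Submodule.Quotient.mk _ = Submodule.Quotient.mk _
          refine congrArg Submodule.Quotient.mk ?_
          change ((u * v : U) : Matrix.SpecialLinearGroup (Fin n) F).1.mulVec x = (u : Matrix.SpecialLinearGroup (Fin n) F).1.mulVec ((v : Matrix.SpecialLinearGroup (Fin n) F).1.mulVec x)
          rw [Matrix.mulVec_mulVec]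
          rfl }
    have hcard : p ∣ Nat.card ((Fin n → F) ⧸ W') := by
      rw [Module.natCard_eq_pow_finrank (K := F)]
      obtain ⟨k, hpp, hk⟩ := FiniteField.card F p
      have hpos : 0 < Module.finrank F ((Fin n → F) ⧸ W') := by
        haveI : Nontrivial ((Fin n → F) ⧸ W') := Submodule.Quotient.nontrivial_iff.2 hi
        exact Module.finrank_pos
      refine dvd_trans ?_ (dvd_pow_self _ hpos.ne')
      rw [Nat.card_eq_fintype_card, hk]
      exact dvd_pow_self p k.ne_zero
    obtain ⟨b, hb, hb0⟩ := hU.exists_fixed_point_of_prime_dvd_card_of_fixed_point ((Fin n → F) ⧸ W') hcard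
      (a := 0) (fun u => map_zero (W'.mapQ W' (mv u) (fun x hx => hinv u u.2 x hx)))
    obtain ⟨x, rfl⟩ := Submodule.Quotient.mk_surjective W' b
    refine hb0 ((Submodule.Quotient.mk_eq_zero W').2 ?_).symm
    have h2 : x ∈ W (i + 1) := by
      rw [hWs i, hnext]
      intro u hu
      exact (Submodule.Quotient.eq W').1 (hb ⟨u, hu⟩)
    exact heq ▸ h2
  have hex : ∃ i, W i = ⊤ := by
    by_contra hc
    push Not at hc
    have hle : ∀ i, i ≤ Module.finrank F (W i) := by
      intro i
      induction i with
      | zero => exact Nat.zero_le _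
      | succ i ih =>
        have := Submodule.finrank_lt_finrank_of_lt (hstrict i (hc i))
        omega
    have h1 := hle (n + 1)
    have h2 := Submodule.finrank_le (W (n + 1))
    rw [Module.finrank_fin_fun] at h2
    omega
  set m := Nat.find hex
  have hm : W m = ⊤ := Nat.find_spec hex
  have hlt : ∀ i, i < m → W i < W (i + 1) := fun i hi => hstrict i (Nat.find_min hex hi)
  have hU1 : ∃ u ∈ U, u ≠ 1 := by
    by_contra hc
    push Not at hc
    exact hne ((Subgroup.eq_bot_iff_forall U).2 hc)
  have hn2 : 2 ≤ m := by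
    by_contra hc
    have h1 : W 1 = ⊤ := by
      rcases Nat.lt_or_ge m 1 with h0 | h0
      · exact top_le_iff.1 (by rw [← hm, show m = 0 by omega]; exact bot_le)
      · rwa [show m = 1 by omega] at hm
    obtain ⟨u, hu, hu1⟩ := hU1
    refine hu1 (Subtype.ext (Matrix.ext_of_mulVec_single fun i => ?_))
    have h2 : Pi.single i (1 : F) ∈ W (0 + 1) := by rw [zero_add, h1]; exact Submodule.mem_top
    rw [hWs 0, hnext] at h2
    rw [Matrix.SpecialLinearGroup.coe_one, Matrix.one_mulVec]
    simpa [W, sub_eq_zero] using h2 u hu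
  have hnorm : ∀ g ∈ Subgroup.normalizer (U : Set (Matrix.SpecialLinearGroup (Fin n) F)), ∀ i, ∀ x ∈ W i,
      (g : Matrix (Fin n) (Fin n) F).mulVec x ∈ W i := by
    intro g hg i
    induction i with
    | zero =>
      intro x hx
      simp [W] at hx ⊢
      simp [hx]
    | succ i ih =>
      intro x hx
      rw [hWs i, hnext] at hx ⊢
      intro u hu
      have hu' : g⁻¹ * u * g ∈ U := (Subgroup.mem_normalizer_iff''.1 hg u).1 hu
      have h1 := ih _ (hx _ hu')
      rw [Matrix.mulVec_sub, Matrix.mulVec_mulVec, ← Matrix.SpecialLinearGroup.coe_mul,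
        show g * (g⁻¹ * u * g) = u * g by group, Matrix.SpecialLinearGroup.coe_mul, ← Matrix.mulVec_mulVec] at h1
      exact h1
  refine ⟨m - 1, fun i => W i.val, by omega, ?_, rfl, ?_, ?_, ?_⟩
  · refine Fin.strictMono_iff_lt_succ.2 fun i => ?_
    exact hlt i.val (by omega)
  · show W (m - 1 + 1) = ⊤
    rwa [Nat.sub_add_cancel (by omega)]
  · intro g hg i
    refine le_antisymm (Submodule.map_le_iff_le_comap.2 fun x hx => hnorm g hg i.val x hx) fun x hx => ?_
    refine ⟨((g⁻¹ : Matrix.SpecialLinearGroup (Fin n) F) : Matrix (Fin n) (Fin n) F).mulVec x, hnorm g⁻¹ (inv_mem hg) i.val x hx, ?_⟩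
    rw [Matrix.mulVecLin_apply, Matrix.mulVec_mulVec, ← Matrix.SpecialLinearGroup.coe_mul, mul_inv_cancel,
      Matrix.SpecialLinearGroup.coe_one, Matrix.one_mulVec]
  · intro u hu i v hv
    have hv' : v ∈ W (i.val + 1) := hv
    rw [hWs i.val, hnext] at hv'
    exact hv' u hu

end Cfsg.Agent.S2391
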