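import Cfsg.Statements.S2392
import Cfsg.Agent.Lib.KnownB.CrossBound

set_option autoImplicit false
open scoped MatrixGroups
open Cfsg Matrix

set_option maxHeartbeats 1000000

namespace Cfsg.Agent.S2392

/-- A lower bound for representations in cross characteristic: for `n ≥ 3` and a field `F` with `q` elements, every homomorphism from `SL_n(F)` to `GL_d(K)`, `K` a field of characteristic different from that of `F`, whose kernel is central has `d ≥ q^(n-1) - 1`. -/
theorem result {F : Type*} [Field F] [Fintype F] {q : ℕ} (hq : Fintype.card F = q) (n : ℕ) (hn : 3 ≤ n)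
    {K : Type*} [Field K] (hK : ringChar K ≠ ringChar F) {d : ℕ}
    (ρ : Matrix.SpecialLinearGroup (Fin n) F →* GL (Fin d) K) (hker : ρ.ker ≤ Subgroup.center (Matrix.SpecialLinearGroup (Fin n) F)) :
    q ^ (n - 1) - 1 ≤ d := by
  classical
  obtain ⟨m, rfl⟩ : ∃ m, n = m + 1 := ⟨n - 1, by omega⟩
  rw [Nat.add_sub_cancel]
  let e0 : Fin (m + 1) → F := Pi.single 0 1
  let ext : (Fin m → F) → Fin (m + 1) → F := fun v => Fin.cons 0 v
  have hext0 : ∀ v, ext v ⬝ᵥ e0 = 0 := fun v => by simp [e0, ext]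
  have hextadd : ∀ v w, ext (v + w) = ext v + ext w := fun v w => by
    funext i; refine Fin.cases ?_ (fun j => ?_) i <;> simp [ext]
  let Q : (Fin m → F) → SpecialLinearGroup (Fin (m + 1)) F := fun v => ⟨1 + vecMulVec e0 (ext v), by
    rw [vecMulVec_eq Unit, det_one_add_replicateCol_mul_replicateRow, hext0, add_zero]⟩
  have hQadd : ∀ v w, Q (v + w) = Q v * Q w := fun v w => by
    apply Subtype.ext
    show 1 + vecMulVec e0 (ext (v + w)) = (1 + vecMulVec e0 (ext v)) * (1 + vecMulVec e0 (ext w))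
    rw [hextadd, vecMulVec_add, mul_add, mul_one, add_mul, one_mul, vecMulVec_mul_vecMulVec, hext0, zero_smul, Matrix.vecMulVec_zero]
    abel
  obtain ⟨S, hS, hnt, hinv⟩ := CfsgLib.KnownB.CrossBound.exists_spectrum hK (fun v => ρ (Q v))
    (fun v w => by rw [hQadd, map_mul])
  let u : Fin m → F := Pi.single ⟨0, by omega⟩ 1
  have hu : ρ (Q u) ≠ 1 := by
    intro h
    have hc := hker (MonoidHom.mem_ker.2 h)
    obtain ⟨r, -, hr⟩ := Matrix.SpecialLinearGroup.mem_center_iff.1 hc
    have h1 := congrFun (congrFun hr 0) (Fin.succ ⟨0, by omega⟩)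
    have hne : (0 : Fin (m + 1)) ≠ Fin.succ ⟨0, by omega⟩ := (Fin.succ_ne_zero _).symm
    simp only [Q, Matrix.scalar_apply, Matrix.diagonal_apply_ne _ hne, Matrix.add_apply, Matrix.one_apply_ne hne,
      vecMulVec_apply, e0, ext, u, Pi.single_eq_same, Fin.cons_succ, zero_add, mul_one] at h1
    exact zero_ne_one h1
  obtain ⟨a0, ha0, ha0u⟩ := hnt u hu
  have ha00 : a0 ≠ 0 := fun h => ha0u (by rw [h, zero_dotProduct])
  have hall : (Finset.univ.erase (0 : Fin m → F)) ⊆ S := by
    intro b hb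
    obtain ⟨M, hM, hMa⟩ := CfsgLib.KnownB.CrossBound.exists_det_one (show 2 ≤ m by omega) ha00 (Finset.ne_of_mem_erase hb)
    let Mu : GL (Fin m) F := ((Matrix.isUnit_iff_isUnit_det M).2 (hM ▸ isUnit_one)).unit
    set Mi : Matrix (Fin m) (Fin m) F := ((Mu⁻¹ : GL (Fin m) F) : Matrix (Fin m) (Fin m) F) with hMi
    have hMMi : M * Mi = 1 := Mu.mul_inv
    have hMiM : Mi * M = 1 := Mu.inv_mul
    let hmat : Matrix (Fin (m + 1)) (Fin (m + 1)) F :=
      Matrix.of fun i j => (Fin.cons ((Fin.cons 1 0 : Fin (m + 1) → F)) (fun k => Fin.cons 0 (M k)) : Fin (m + 1) → Fin (m + 1) → F) i j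
    have hdet : hmat.det = 1 := by
      rw [Matrix.det_succ_column_zero, Fin.sum_univ_succ, Finset.sum_eq_zero (fun k _ => by simp [hmat]), add_zero]
      have : hmat.submatrix (Fin.succAbove 0) Fin.succ = M := by ext i j; simp [hmat]
      rw [this, hM]
      simp [hmat]
    let h : SpecialLinearGroup (Fin (m + 1)) F := ⟨hmat, hdet⟩
    refine hinv (ρ h) Miᵀ ((Mu⁻¹).isUnit.map (Matrix.transposeAlgEquiv (Fin m) F F).toRingEquiv.toMonoidHom |> fun hh =>
      (Matrix.isUnit_iff_isUnit_det _).2 (by rw [Matrix.det_transpose]; exact (Matrix.isUnit_iff_isUnit_det _).1 (Mu⁻¹).isUnit))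
      (fun x => ?_) b ?_
    · rw [← map_mul, ← map_mul]
      refine congrArg ρ (Subtype.ext ?_)
      show (1 + vecMulVec e0 (ext (Miᵀ *ᵥ x))) * hmat = hmat * (1 + vecMulVec e0 (ext x))
      rw [add_mul, mul_add, one_mul, mul_one, vecMulVec_mul, mul_vecMulVec]
      congr 2
      · funext j
        refine Fin.cases ?_ (fun k => ?_) j <;> simp [hmat, e0, mulVec, dotProduct, Fin.sum_univ_succ]
      · funext j
        refine Fin.cases ?_ (fun k => ?_) j
        · simp [hmat, ext, vecMul, dotProduct, Fin.sum_univ_succ]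
        · have e : (vecMul (Miᵀ *ᵥ x) M) k = x k := by rw [Matrix.mulVec_transpose, Matrix.vecMul_vecMul, hMiM, Matrix.vecMul_one]
          rw [show ext x (Fin.succ k) = x k by simp [ext], ← e]
          simp [hmat, ext, vecMul, dotProduct, Fin.sum_univ_succ]
    · rw [Matrix.transpose_transpose, ← hMa, Matrix.mulVec_mulVec, hMiM, Matrix.one_mulVec]
      exact ha0
  have := Finset.card_le_card hall
  rw [Finset.card_erase_of_mem (Finset.mem_univ _), Finset.card_univ, Fintype.card_fun, Fintype.card_fin, hq] at this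
  omega

end Cfsg.Agent.S2392
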