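import Cfsg.Statements.S2393
import Cfsg.Agent.Lib.KnownB.CrossBound

set_option autoImplicit false
open scoped MatrixGroups
open Cfsg Matrix

set_option maxHeartbeats 1000000

namespace Cfsg.Agent.S2393

/-- A lower bound for representations in cross characteristic: for `n ≥ 2` and a field `F` with `q` elements, `q` odd, every homomorphism from the symplectic group `Sp_{2n}(F)` to `GL_d(K)`, `K` a field of characteristic different from that of `F`, whose kernel is central has `d ≥ q^(n-1)(q-1)/2`. -/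
theorem result {F : Type*} [Field F] [Fintype F] {q : ℕ} (hq : Fintype.card F = q) (hodd : Odd q) (n : ℕ) (hn : 2 ≤ n)
    {K : Type*} [Field K] (hK : ringChar K ≠ ringChar F) {d : ℕ}
    (ρ : ↥(Matrix.symplecticGroup (Fin n) F) →* GL (Fin d) K) (hker : ρ.ker ≤ Subgroup.center ↥(Matrix.symplecticGroup (Fin n) F)) :
    q ^ (n - 1) * (q - 1) / 2 ≤ d := by
  classical
  obtain ⟨m, rfl⟩ : ∃ m, n = m + 1 := ⟨n - 1, by omega⟩
  rw [Nat.add_sub_cancel]
  have h2 : (2 : F) ≠ 0 := Ring.two_ne_zero (fun h => by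
    have := FiniteField.even_card_iff_char_two.1 h
    rw [Nat.odd_iff] at hodd
    omega)
  let e0 : Fin (m + 1) → F := Pi.single 0 1
  let Sm : (Fin (m + 1) → F) → Matrix (Fin (m + 1)) (Fin (m + 1)) F := fun w => vecMulVec e0 w + vecMulVec w e0
  have hsym : ∀ w, (Sm w)ᵀ = Sm w := fun w => by
    simp only [Sm, transpose_add, transpose_vecMulVec, add_comm]
  let g : (Fin (m + 1) → F) → ↥(symplecticGroup (Fin (m + 1)) F) := fun w =>
    ⟨fromBlocks 1 (Sm w) 0 1, SymplecticGroup.fromBlocks_mem_iff.2 (by simp [hsym])⟩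
  have hgadd : ∀ v w, g (v + w) = g v * g w := fun v w => by
    apply Subtype.ext
    show fromBlocks 1 (Sm (v + w)) 0 1 = fromBlocks 1 (Sm v) 0 1 * fromBlocks 1 (Sm w) 0 1
    rw [fromBlocks_multiply]
    simp only [Sm, vecMulVec_add, add_vecMulVec, mul_one, one_mul, mul_zero, zero_mul, add_zero, zero_add]
    congr 1
    abel
  obtain ⟨S, hS, hnt, hinv⟩ := CfsgLib.KnownB.CrossBound.exists_spectrum hK (fun v => ρ (g v))
    (fun v w => by rw [hgadd, map_mul])
  have hu : ρ (g e0) ≠ 1 := by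
    intro h
    have hc := Subgroup.mem_center_iff.1 (hker (MonoidHom.mem_ker.2 h))
      ⟨fromBlocks 1 0 1 1, SymplecticGroup.fromBlocks_mem_iff.2 (by simp)⟩
    have h1 := congrArg (fun z : ↥(symplecticGroup (Fin (m + 1)) F) => z.1 (Sum.inl 0) (Sum.inl 0)) hc
    simp [g, Sm, e0, fromBlocks_multiply, vecMulVec] at h1
    exact h2 (by linear_combination h1)
  obtain ⟨a, ha, hau⟩ := hnt e0 hu
  have ha0 : a 0 ≠ 0 := by
    intro h
    apply hau
    simp [e0, h]
  have hmem : ∀ (c : F) (b : Fin (m + 1) → F), c ≠ 0 → c ^ 2 * b 0 = a 0 → b ∈ S := by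
    intro c b hc hcb
    have hb0 : b 0 ≠ 0 := fun h => ha0 (by rw [← hcb, h, mul_zero])
    set r : Fin (m + 1) → F := (b 0)⁻¹ • (c⁻¹ • a - b) with hr
    set M : Matrix (Fin (m + 1)) (Fin (m + 1)) F := 1 + vecMulVec e0 r with hM
    have hre : r ⬝ᵥ e0 = c - 1 := by
      simp [hr, e0]
      field_simp
      linear_combination -hcb
    have hMdet : M.det = c := by
      rw [hM, vecMulVec_eq Unit, det_one_add_replicateCol_mul_replicateRow, hre]; ring
    have hMe : M *ᵥ e0 = c • e0 := by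
      rw [hM, add_mulVec, one_mulVec, vecMulVec_mulVec, hre]
      funext i
      simp
      ring
    let Mu : GL (Fin (m + 1)) F := ((Matrix.isUnit_iff_isUnit_det M).2 (hMdet ▸ hc.isUnit)).unit
    set Mi : Matrix (Fin (m + 1)) (Fin (m + 1)) F := ((Mu⁻¹ : GL (Fin (m + 1)) F) : Matrix (Fin (m + 1)) (Fin (m + 1)) F) with hMi
    have hMMi : M * Mi = 1 := Mu.mul_inv
    have hMiM : Mi * M = 1 := Mu.inv_mul
    let h : ↥(symplecticGroup (Fin (m + 1)) F) := ⟨fromBlocks M 0 0 Miᵀ, SymplecticGroup.fromBlocks_mem_iff.2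
      ⟨by simp, by simp, by rw [← transpose_mul, hMiM, transpose_one, transpose_zero, zero_mul, sub_zero]⟩⟩
    refine hinv (ρ h) (c • M) ((Matrix.isUnit_iff_isUnit_det _).2 ?_) (fun x => ?_) b ?_
    · rw [det_smul, hMdet]
      exact ((pow_ne_zero _ hc).isUnit.mul hc.isUnit)
    · rw [← map_mul, ← map_mul]
      refine congrArg ρ (Subtype.ext ?_)
      show fromBlocks 1 (Sm ((c • M) *ᵥ x)) 0 1 * fromBlocks M 0 0 Miᵀ = fromBlocks M 0 0 Miᵀ * fromBlocks 1 (Sm x) 0 1
      rw [fromBlocks_multiply, fromBlocks_multiply]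
      simp only [mul_one, one_mul, mul_zero, zero_mul, add_zero, zero_add]
      congr 1
      have key : Sm ((c • M) *ᵥ x) = M * Sm x * Mᵀ := by
        simp only [Sm, Matrix.mul_add, Matrix.add_mul, mul_vecMulVec, vecMulVec_mul, vecMul_transpose, hMe,
          smul_mulVec, smul_vecMulVec, vecMulVec_smul, Matrix.smul_mul]
      rw [key, mul_assoc, ← transpose_mul, hMiM, transpose_one, mul_one]
    · have e : (c • M)ᵀ *ᵥ b = a := by
        rw [transpose_smul, smul_mulVec, mulVec_transpose, hM, vecMul_add, vecMul_one, vecMul_vecMulVec]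
        rw [show b ⬝ᵥ e0 = b 0 by simp [e0], hr, smul_smul, mul_inv_cancel₀ hb0, one_smul, add_sub_cancel,
          smul_smul, mul_inv_cancel₀ hc, one_smul]
      rw [e]; exact ha
  set T : Finset (Fˣ × (Fin m → F)) := Finset.univ
  let φ : Fˣ × (Fin m → F) → (Fin (m + 1) → F) := fun z => Fin.cons (a 0 * ((z.1 : F)⁻¹) ^ 2) z.2
  have hsub : T.image φ ⊆ S := by
    intro b hb
    obtain ⟨⟨c, v⟩, -, rfl⟩ := Finset.mem_image.1 hb
    refine hmem c _ c.ne_zero ?_
    have := c.ne_zero
    simp [φ]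
    field_simp
  have hfib : ∀ b ∈ T.image φ, (T.filter fun z => φ z = b).card ≤ 2 := by
    intro b hb
    obtain ⟨⟨c, v⟩, -, rfl⟩ := Finset.mem_image.1 hb
    refine (Finset.card_le_card (t := {(c, v), (-c, v)}) ?_).trans Finset.card_le_two
    rintro ⟨c', v'⟩ hz
    have hz' := (Finset.mem_filter.1 hz).2
    simp only [φ, Fin.cons_inj] at hz'
    obtain ⟨h1, rfl⟩ := hz'
    have h3 := mul_left_cancel₀ ha0 h1
    rw [inv_pow, inv_pow, _root_.inv_inj, sq_eq_sq_iff_eq_or_eq_neg] at h3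
    rcases h3 with h3 | h3
    · simp [Units.ext h3]
    · simp [show c' = -c from Units.ext h3]
  have hcount := Finset.card_le_mul_card_image T 2 hfib
  have h5 := (Finset.card_le_card hsub).trans hS
  rw [Finset.card_univ, Fintype.card_prod, Fintype.card_units, Fintype.card_fun, Fintype.card_fin, hq] at hcount
  rw [mul_comm]
  omega

end Cfsg.Agent.S2393
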