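import Cfsg.Statements.S2394
import Cfsg.Agent.Lib.Recog.ProjSpectrum

set_option autoImplicit false
open scoped MatrixGroups
open Cfsg Matrix

set_option maxHeartbeats 1000000

namespace Cfsg.Agent.S2394

theorem exists_sl2_order {F : Type*} [Field F] [Fintype F] (p : ℕ) [Fact p.Prime] [CharP F p] :
    ∃ z : Matrix.SpecialLinearGroup (Fin 2) F, orderOf z = Fintype.card F + 1 := by
  obtain ⟨φ, ζ, hinj, hζ⟩ := CfsgLib.Recog.exists_nonsplit_embedding (F := F) p
  set q := Fintype.card F with hq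
  have hq2 : 2 ≤ q := Fintype.one_lt_card
  have hdet : (φ ((ζ ^ (q - 1) : (FiniteField.Extension F p 2)ˣ) : FiniteField.Extension F p 2)).det = 1 := by
    rw [Units.val_pow_eq_pow_val, map_pow, Matrix.det_pow, FiniteField.pow_card_sub_one_eq_one]
    exact ((Matrix.isUnit_iff_isUnit_det _).1 (ζ.isUnit.map φ)).ne_zero
  set g : Matrix.SpecialLinearGroup (Fin 2) F := ⟨_, hdet⟩ with hg
  refine ⟨g, ?_⟩
  let i : Matrix.SpecialLinearGroup (Fin 2) F →* Matrix (Fin 2) (Fin 2) F :=
    { toFun := fun g => g.1, map_one' := rfl, map_mul' := fun _ _ => rfl }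
  have hi : Function.Injective i := fun a b h => Subtype.ext h
  rw [← orderOf_injective i hi]
  show orderOf (φ ((ζ ^ (q - 1) : (FiniteField.Extension F p 2)ˣ) : FiniteField.Extension F p 2)) = q + 1
  rw [show (φ ((ζ ^ (q - 1) : (FiniteField.Extension F p 2)ˣ) : FiniteField.Extension F p 2)) =
    φ.toRingHom.toMonoidHom ((ζ ^ (q - 1) : (FiniteField.Extension F p 2)ˣ) : FiniteField.Extension F p 2) from rfl,
    orderOf_injective _ hinj, orderOf_units, orderOf_pow' ζ (by omega), hζ]
  have e : q ^ 2 - 1 = (q + 1) * (q - 1) := by rw [← Nat.sq_sub_sq, one_pow]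
  rw [e, Nat.gcd_mul_left_left, Nat.mul_div_cancel _ (by omega)]

theorem exists_prime_power (q : ℕ) (hq : 2 ≤ q) :
    ∃ r j : ℕ, r.Prime ∧ r ^ (j + 1) ∣ q + 1 ∧ ¬ r ^ (j + 1) ∣ q - 1 := by
  by_contra h
  push Not at h
  have hd : q + 1 ∣ q - 1 := by
    rw [← Nat.factorization_le_iff_dvd (by omega) (by omega), Finsupp.le_def]
    intro r
    by_cases hr : r.Prime
    · rcases hk : (q + 1).factorization r with _ | j
      · exact Nat.zero_le _
      · exact (hr.pow_dvd_iff_le_factorization (by omega)).1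
          (h r j hr ((hr.pow_dvd_iff_le_factorization (by omega)).2 (by omega)))
    · rw [Nat.factorization_eq_zero_of_not_prime _ hr]; exact Nat.zero_le _
  have := Nat.le_of_dvd (by omega) hd
  omega

theorem bound {F : Type*} [Field F] [Fintype F] [DecidableEq F] (r j : ℕ) [Fact r.Prime]
    (hrq : r ^ (j + 1) ∣ Fintype.card F + 1) (hrq' : ¬ r ^ (j + 1) ∣ Fintype.card F - 1) {n d : ℕ}
    (f : (Fin n → ZMod (r ^ (j + 1))) → GL (Fin d) F) (hadd : ∀ x y, f (x + y) = f x * f y)
    (hinj : Function.Injective f) : 2 * n ≤ d := by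
  classical
  set q := Fintype.card F with hq
  have hr : r.Prime := Fact.out
  have hq2 : 2 ≤ q := Fintype.one_lt_card
  obtain ⟨p, hp⟩ := CharP.exists F
  have hpp : p.Prime := CharP.char_is_prime F p
  have := Fact.mk hpp
  obtain ⟨a0, -, hqp⟩ := FiniteField.card F p
  have hrp : r ≠ p := by
    rintro rfl
    have h1 : r ∣ q + 1 := (dvd_pow_self r (by omega)).trans hrq
    have h2 : r ∣ q := by rw [hq, hqp]; exact dvd_pow_self r a0.ne_zero
    exact hr.one_lt.ne' (Nat.dvd_one.1 ((Nat.dvd_add_right h2).1 h1))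
  haveI : CharP (AlgebraicClosure F) p := charP_of_injective_algebraMap (algebraMap F _).injective p
  haveI hNe : NeZero ((r ^ (j + 1) : ℕ) : AlgebraicClosure F) := ⟨by
    rw [Ne, CharP.cast_eq_zero_iff (AlgebraicClosure F) p]
    intro h
    exact hrp ((Nat.prime_dvd_prime_iff_eq hpp hr).1 (hpp.dvd_of_dvd_pow h)).symm⟩
  haveI : NeZero (r ^ (j + 1)) := ⟨(pow_pos hr.pos _).ne'⟩
  obtain ⟨ζ, hζ⟩ := HasEnoughRootsOfUnity.exists_primitiveRoot (AlgebraicClosure F) (r ^ (j + 1))
  set ψ : AddChar (ZMod (r ^ (j + 1))) (AlgebraicClosure F) := AddChar.zmodChar _ hζ.pow_eq_one with hψdef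
  have hψ1 : ∀ t, ψ t = 1 → t = 0 := by
    intro t ht
    rw [hψdef, AddChar.zmodChar_apply, hζ.pow_eq_one_iff_dvd] at ht
    exact (ZMod.val_eq_zero t).1 (Nat.eq_zero_of_dvd_of_lt ht (ZMod.val_lt t))
  have hsumchar : ∀ x : Fin n → ZMod (r ^ (j + 1)), ∑ a : Fin n → ZMod (r ^ (j + 1)), ψ (a ⬝ᵥ x) =
      if x = 0 then (Fintype.card (Fin n → ZMod (r ^ (j + 1))) : AlgebraicClosure F) else 0 := by
    intro x
    split_ifs with h
    · subst h; simp
    · obtain ⟨i, hi⟩ : ∃ i, x i ≠ 0 := by
        by_contra hc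
        push Not at hc
        exact h (funext hc)
      let χ : AddChar (Fin n → ZMod (r ^ (j + 1))) (AlgebraicClosure F) :=
        { toFun := fun a => ψ (a ⬝ᵥ x)
          map_zero_eq_one' := by simp
          map_add_eq_mul' := fun a b => by rw [add_dotProduct, AddChar.map_add_eq_mul] }
      have hχ : χ ≠ 0 := by
        intro h0
        apply hi
        apply hψ1
        have := DFunLike.congr_fun h0 (Pi.single i 1)
        rw [AddChar.zero_apply] at this
        calc ψ (x i) = χ (Pi.single i 1) := by show ψ (x i) = ψ _; rw [single_dotProduct, one_mul]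
          _ = 1 := this
      exact AddChar.sum_eq_zero_of_ne_one hχ
  let φ : GL (Fin d) F →* Matrix (Fin d) (Fin d) (AlgebraicClosure F) :=
    (RingHom.mapMatrix (algebraMap F (AlgebraicClosure F))).toMonoidHom.comp (Units.coeHom _)
  have hf0 : f 0 = 1 := by
    have := hadd 0 0
    rw [add_zero] at this
    exact left_eq_mul.1 this
  let ρ : (Fin n → ZMod (r ^ (j + 1))) → Matrix (Fin d) (Fin d) (AlgebraicClosure F) := fun x => φ (f x)
  have hρadd : ∀ x y, ρ (x + y) = ρ x * ρ y := fun x y => by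
    show φ _ = φ _ * φ _
    rw [hadd, map_mul]
  have hρ0 : ρ 0 = 1 := by show φ (f 0) = 1; rw [hf0, map_one]
  have hcard : (Fintype.card (Fin n → ZMod (r ^ (j + 1))) : AlgebraicClosure F) ≠ 0 := by
    rw [Fintype.card_fun, Fintype.card_fin, ZMod.card, Nat.cast_pow]
    exact pow_ne_zero _ hNe.out
  let e : (Fin n → ZMod (r ^ (j + 1))) → Matrix (Fin d) (Fin d) (AlgebraicClosure F) := fun a =>
    (Fintype.card (Fin n → ZMod (r ^ (j + 1))) : AlgebraicClosure F)⁻¹ • ∑ x, ψ (-(a ⬝ᵥ x)) • ρ x
  have hρe : ∀ a y, ρ y * e a = ψ (a ⬝ᵥ y) • e a := by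
    intro a y
    show ρ y * (_ • ∑ x, ψ (-(a ⬝ᵥ x)) • ρ x) = _ • (_ • ∑ x, ψ (-(a ⬝ᵥ x)) • ρ x)
    rw [Matrix.mul_smul, smul_comm, Finset.mul_sum, Finset.smul_sum (r := ψ (a ⬝ᵥ y))]
    congr 1
    refine Fintype.sum_equiv (Equiv.addLeft y) _ _ fun x => ?_
    rw [Matrix.mul_smul, ← hρadd, smul_smul, Equiv.coe_addLeft, dotProduct_add, neg_add, AddChar.map_add_eq_mul,
      ← mul_assoc, ← AddChar.map_add_eq_mul, add_neg_cancel, AddChar.map_zero_eq_one, one_mul]
  have hsum : ∑ a, e a = 1 := by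
    show ∑ a : Fin n → ZMod (r ^ (j + 1)), _ • ∑ x, ψ (-(a ⬝ᵥ x)) • ρ x = 1
    rw [← Finset.smul_sum, Finset.sum_comm]
    have h1 : ∀ x, ∑ a : Fin n → ZMod (r ^ (j + 1)), ψ (-(a ⬝ᵥ x)) • ρ x =
        (if x = 0 then (Fintype.card (Fin n → ZMod (r ^ (j + 1))) : AlgebraicClosure F) else 0) • ρ x := by
      intro x
      rw [← Finset.sum_smul]
      have h2 := hsumchar (-x)
      simp only [dotProduct_neg, neg_eq_zero] at h2
      rw [h2]
    simp only [h1, ite_smul, zero_smul, Finset.sum_ite_eq', Finset.mem_univ, if_true, hρ0, smul_smul,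
      inv_mul_cancel₀ hcard, one_smul]
  let S : Finset (Fin n → ZMod (r ^ (j + 1))) := Finset.univ.filter fun a =>
    ∃ v : Fin d → AlgebraicClosure F, v ≠ 0 ∧ ∀ x, ρ x *ᵥ v = ψ (a ⬝ᵥ x) • v
  have hev : ∀ (v : Fin d → AlgebraicClosure F) (a b : Fin n → ZMod (r ^ (j + 1))),
      (∀ x, ρ x *ᵥ v = ψ (a ⬝ᵥ x) • v) → e b *ᵥ v = if a = b then v else 0 := by
    intro v a b hv
    show (_ • ∑ x, ψ (-(b ⬝ᵥ x)) • ρ x) *ᵥ v = _
    rw [Matrix.smul_mulVec, Matrix.sum_mulVec]
    simp only [Matrix.smul_mulVec, hv, smul_smul, ← AddChar.map_add_eq_mul]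
    rw [← Finset.sum_smul, smul_smul]
    have h2 := hsumchar (a - b)
    have e2 : ∀ x, -(b ⬝ᵥ x) + a ⬝ᵥ x = x ⬝ᵥ (a - b) := fun x => by
      rw [dotProduct_sub, dotProduct_comm x a, dotProduct_comm x b]; ring
    simp only [e2]
    rw [h2]
    simp only [sub_eq_zero]
    split_ifs
    · rw [inv_mul_cancel₀ hcard, one_smul]
    · rw [mul_zero, zero_smul]
  have hScard : S.card ≤ d := by
    choose v hv0 hv using fun a : S => (Finset.mem_filter.1 a.2).2
    have hli : LinearIndependent (AlgebraicClosure F) v := by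
      rw [Fintype.linearIndependent_iff]
      intro g hg b
      have h1 := congrArg (fun z => e b.1 *ᵥ z) hg
      simp only [Matrix.mulVec_sum, Matrix.mulVec_smul, Matrix.mulVec_zero, hev _ _ b.1 (hv _)] at h1
      rw [Finset.sum_eq_single b (fun a _ hab => by rw [if_neg (fun h => hab (Subtype.ext h)), smul_zero]) (by simp),
        if_pos rfl] at h1
      exact (smul_eq_zero.1 h1).resolve_right (hv0 b)
    simpa using hli.fintype_card_le_finrank
  have hsep : ∀ y, y ≠ 0 → ∃ a ∈ S, a ⬝ᵥ y ≠ 0 := by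
    intro y hy
    by_contra hc
    push Not at hc
    apply hy
    apply hinj
    rw [hf0]
    have hρy : ρ y = 1 := by
      refine Matrix.toLin'.injective (LinearMap.ext fun w => ?_)
      rw [Matrix.toLin'_apply, Matrix.toLin'_one, LinearMap.id_apply]
      have hw : ∑ a, e a *ᵥ w = w := by rw [← Matrix.sum_mulVec, hsum, Matrix.one_mulVec]
      calc ρ y *ᵥ w = ∑ a, ψ (a ⬝ᵥ y) • (e a *ᵥ w) := by
            conv_lhs => rw [← hw]
            rw [Matrix.mulVec_sum]
            simp only [Matrix.mulVec_mulVec, hρe, Matrix.smul_mulVec]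
        _ = ∑ a, e a *ᵥ w := by
            refine Finset.sum_congr rfl fun a _ => ?_
            by_cases ha : e a *ᵥ w = 0
            · rw [ha, smul_zero]
            · have : a ∈ S := Finset.mem_filter.2 ⟨Finset.mem_univ _, e a *ᵥ w, ha, fun x => by
                rw [Matrix.mulVec_mulVec, hρe, Matrix.smul_mulVec]⟩
              rw [hc a this, AddChar.map_zero_eq_one, one_smul]
        _ = w := hw
    apply Units.ext
    rw [Units.val_one]
    exact Matrix.map_injective (algebraMap F (AlgebraicClosure F)).injective (hρy.trans (Matrix.map_one _ (map_zero _) (map_one _)).symm)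
  -- the Galois action
  have hfrob : ∀ a ∈ S, (q : ZMod (r ^ (j + 1))) • a ∈ S := by
    intro a ha
    obtain ⟨v, hv0, hv⟩ := (Finset.mem_filter.1 ha).2
    refine Finset.mem_filter.2 ⟨Finset.mem_univ _, fun i => v i ^ q, fun h0 => hv0 (funext fun i => ?_), fun x => ?_⟩
    · exact pow_eq_zero_iff (n := q) (by omega) |>.1 (congrFun h0 i)
    funext i
    have h1 := congrFun (hv x) i
    have hchar : (((q : ZMod (r ^ (j + 1))) • a) ⬝ᵥ x) = q • (a ⬝ᵥ x) := by
      rw [smul_dotProduct, smul_eq_mul, nsmul_eq_mul]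
    rw [Pi.smul_apply, hchar, AddChar.map_nsmul_eq_pow, smul_eq_mul, ← mul_pow]
    rw [Pi.smul_apply, smul_eq_mul] at h1
    rw [← h1, mulVec, dotProduct, mulVec, dotProduct]
    have hfr : ∀ (s : Finset (Fin d)) (g : Fin d → AlgebraicClosure F), (∑ k ∈ s, g k) ^ q = ∑ k ∈ s, g k ^ q := by
      intro s g
      rw [hq, hqp]
      exact sum_pow_char_pow (p := p) (n := a0) s g
    rw [hfr]
    refine Finset.sum_congr rfl fun k _ => ?_
    rw [mul_pow]
    congr 1
    show algebraMap F _ ((f x : Matrix (Fin d) (Fin d) F) i k) = (algebraMap F _ ((f x : Matrix (Fin d) (Fin d) F) i k)) ^ q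
    rw [← map_pow, hq, FiniteField.pow_card]
  -- reductions modulo `r` span
  let red : ZMod (r ^ (j + 1)) →+* ZMod r := ZMod.castHom (dvd_pow_self r (by omega)) (ZMod r)
  let R : (Fin n → ZMod (r ^ (j + 1))) → (Fin n → ZMod r) := fun a i => red (a i)
  have hspan : Submodule.span (ZMod r) (R '' (S : Set (Fin n → ZMod (r ^ (j + 1))))) = ⊤ := by
    by_contra hne
    obtain ⟨g, hg0, hgS⟩ := Submodule.exists_dual_map_eq_bot_of_lt_top (lt_top_iff_ne_top.2 hne) inferInstance
    let w : Fin n → ℕ := fun i => (g (Pi.single i 1)).val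
    let y : Fin n → ZMod (r ^ (j + 1)) := fun i => ((r ^ j * w i : ℕ) : ZMod (r ^ (j + 1)))
    have hy : y ≠ 0 := by
      intro h0
      apply hg0
      refine LinearMap.pi_ext fun i t => ?_
      have h1 := congrFun h0 i
      rw [Pi.zero_apply] at h1
      rw [ZMod.natCast_eq_zero_iff, pow_succ] at h1
      have h2 := Nat.dvd_of_mul_dvd_mul_left (pow_pos hr.pos j) h1
      have h3 : g (Pi.single i 1) = 0 := (ZMod.val_eq_zero _).1 (Nat.eq_zero_of_dvd_of_lt h2 (ZMod.val_lt _))
      rw [LinearMap.zero_apply, show (Pi.single i t : Fin n → ZMod r) = t • Pi.single i 1 by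
        rw [← Pi.single_smul, smul_eq_mul, mul_one], map_smul, h3, smul_zero]
    obtain ⟨a, ha, hay⟩ := hsep y hy
    apply hay
    have hga : g (R a) = 0 := by
      have : g (R a) ∈ (Submodule.span (ZMod r) (R '' (S : Set _))).map g :=
        Submodule.mem_map_of_mem (Submodule.subset_span ⟨a, ha, rfl⟩)
      rwa [hgS, Submodule.mem_bot] at this
    have he : g (R a) = ∑ i, red (a i) * g (Pi.single i 1) := by
      have hx : R a = ∑ i, red (a i) • (Pi.single i 1 : Fin n → ZMod r) := by
        funext k; simp [R, Pi.single_apply]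
      rw [hx, map_sum]
      simp
    rw [he] at hga
    set s : ZMod (r ^ (j + 1)) := ∑ i, a i * (w i : ZMod (r ^ (j + 1))) with hs
    have hred : red s = 0 := by
      rw [hs, map_sum, ← hga]
      refine Finset.sum_congr rfl fun i _ => ?_
      rw [map_mul, map_natCast, ZMod.natCast_zmod_val]
    have hdot : a ⬝ᵥ y = ((r ^ j : ℕ) : ZMod (r ^ (j + 1))) * s := by
      rw [dotProduct, hs, Finset.mul_sum]
      refine Finset.sum_congr rfl fun i _ => ?_
      simp only [y]
      push_cast
      ring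
    rw [hdot]
    have hsv : s = ((s.val : ℕ) : ZMod (r ^ (j + 1))) := (ZMod.natCast_zmod_val s).symm
    rw [hsv, map_natCast, ZMod.natCast_eq_zero_iff] at hred
    rw [hsv, ← Nat.cast_mul, ZMod.natCast_eq_zero_iff]
    exact (dvd_of_eq (pow_succ r j)).trans (Nat.mul_dvd_mul_left _ hred)
  obtain ⟨b, hbS, hbspan, hbli⟩ := exists_linearIndependent (ZMod r) (R '' (S : Set (Fin n → ZMod (r ^ (j + 1)))))
  haveI : Fintype b := (Set.toFinite b).fintype
  have hbn : n ≤ Fintype.card b := by
    have h1 : Module.finrank (ZMod r) (Submodule.span (ZMod r) b) ≤ b.toFinset.card := finrank_span_le_card b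
    rw [hbspan, hspan, finrank_top, Module.finrank_fin_fun, Set.toFinset_card] at h1
    exact h1
  choose lift hlift hliftR using fun x : b => hbS x.2
  have hqr : (q : ZMod r) = -1 := by
    have h : ((q + 1 : ℕ) : ZMod r) = 0 := by
      rw [ZMod.natCast_eq_zero_iff]; exact (dvd_pow_self r (by omega)).trans hrq
    push_cast at h
    linear_combination h
  have hRq : ∀ a, R ((q : ZMod (r ^ (j + 1))) • a) = (-1 : ZMod r) • R a := fun a => by
    funext i
    simp only [R, Pi.smul_apply, smul_eq_mul, map_mul, map_natCast, hqr]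
  have hne : ∀ x : b, (q : ZMod (r ^ (j + 1))) • lift x ≠ lift x := by
    intro x h
    apply hbli.ne_zero x
    show (x : Fin n → ZMod r) = 0
    rw [← hliftR x]
    funext i
    have h1 := congrFun h i
    simp only [Pi.smul_apply, smul_eq_mul] at h1
    show red (lift x i) = 0
    by_contra h2
    apply hrq'
    have hu : IsUnit (lift x i) := by
      rw [← ZMod.natCast_zmod_val (lift x i), ZMod.isUnit_iff_coprime]
      refine Nat.Coprime.pow_right _ ((hr.coprime_iff_not_dvd.2 fun hd => h2 ?_).symm)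
      rw [← ZMod.natCast_zmod_val (lift x i), map_natCast, ZMod.natCast_eq_zero_iff]
      exact hd
    rw [← ZMod.natCast_eq_zero_iff, Nat.cast_sub (by omega), Nat.cast_one, sub_eq_zero]
    exact hu.mul_right_cancel (by rw [one_mul]; exact h1)
  let g : b × Bool → S := fun z => bif z.2 then ⟨_, hfrob _ (hlift z.1)⟩ else ⟨lift z.1, hlift z.1⟩
  have hcol : ∀ (x y : b) (t s : ZMod r), t ≠ 0 → t • (x : Fin n → ZMod r) = s • (y : Fin n → ZMod r) → x = y := by
    intro x y t s ht h
    by_contra hxy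
    have := linearIndependent_iff'.1 hbli {x, y} (fun z => if z = x then t else -s) (by
      rw [Finset.sum_pair hxy, if_pos rfl, if_neg (Ne.symm hxy)]
      show t • (x : Fin n → ZMod r) + -s • (y : Fin n → ZMod r) = 0
      rw [h, neg_smul, add_neg_cancel]) x (by simp)
    rw [if_pos rfl] at this
    exact ht this
  have hm1 : (-1 : ZMod r) ≠ 0 := neg_ne_zero.2 one_ne_zero
  have hg : Function.Injective g := by
    rintro ⟨x, u⟩ ⟨y, v⟩ h
    have h' := congrArg (fun z : S => (z : Fin n → ZMod (r ^ (j + 1)))) h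
    cases u <;> cases v <;> simp only [g, cond_true, cond_false] at h'
    · have hR := congrArg R h'
      rw [hliftR, hliftR] at hR
      rw [hcol x y 1 1 one_ne_zero (by rw [hR])]
    · have hR := congrArg R h'
      rw [hRq, hliftR, hliftR] at hR
      obtain rfl := hcol x y 1 (-1) one_ne_zero (by rw [one_smul, hR])
      exact absurd h'.symm (hne x)
    · have hR := congrArg R h'
      rw [hRq, hliftR, hliftR] at hR
      obtain rfl := hcol x y (-1) 1 hm1 (by rw [one_smul, hR])
      exact absurd h' (hne x)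
    · have hR := congrArg R h'
      rw [hRq, hRq, hliftR, hliftR] at hR
      rw [hcol x y (-1) (-1) hm1 hR]
  have hfin := Fintype.card_le_of_injective g hg
  rw [Fintype.card_prod, Fintype.card_bool, Fintype.card_coe] at hfin
  omega

/-- The smallest degree of a faithful representation of the symplectic group `Sp_{2n}(q)` over its own field `F_q` is `2n`: every injective homomorphism from `Sp_{2n}(F)` to `GL_d(F)`, `F` the field with `q` elements, has `d ≥ 2n`. -/
theorem result {F : Type*} [Field F] [Fintype F] (n : ℕ) {d : ℕ}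
    (ρ : ↥(Matrix.symplecticGroup (Fin n) F) →* GL (Fin d) F) (hρ : Function.Injective ρ) : 2 * n ≤ d := by
  classical
  obtain ⟨p, hp⟩ := CharP.exists F
  have := Fact.mk (CharP.char_is_prime F p)
  set q := Fintype.card F with hq
  obtain ⟨r, j, hr, hd, hd'⟩ := exists_prime_power q Fintype.one_lt_card
  have := Fact.mk hr
  obtain ⟨z0, hz0⟩ := exists_sl2_order (F := F) p
  obtain ⟨z, hz⟩ := CfsgLib.Recog.exists_orderOf_of_dvd hz0 (by omega) hd
  haveI : NeZero (r ^ (j + 1)) := ⟨(pow_pos hr.pos _).ne'⟩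
  let zc : ZMod (r ^ (j + 1)) → Matrix.SpecialLinearGroup (Fin 2) F := fun t => z ^ t.val
  have hzc : ∀ s t, zc (s + t) = zc s * zc t := by
    intro s t
    show z ^ (s + t).val = z ^ s.val * z ^ t.val
    rw [← pow_add, ZMod.val_add, ← pow_mod_orderOf z (s.val + t.val), hz]
  let E : (Fin n → ZMod (r ^ (j + 1))) → ↥(symplecticGroup (Fin n) F) := fun x =>
    ⟨fromBlocks (diagonal fun i => (zc (x i)).1 0 0) (diagonal fun i => (zc (x i)).1 0 1)
      (diagonal fun i => (zc (x i)).1 1 0) (diagonal fun i => (zc (x i)).1 1 1), by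
      rw [SymplecticGroup.fromBlocks_mem_iff]
      simp only [diagonal_transpose, diagonal_mul_diagonal]
      refine ⟨by simp [mul_comm], by simp [mul_comm], ?_⟩
      rw [diagonal_sub, ← diagonal_one]
      congr 1
      funext i
      have h := (zc (x i)).2
      rw [det_fin_two] at h
      linear_combination h⟩
  have hEadd : ∀ x y, E (x + y) = E x * E y := by
    intro x y
    have hm : ∀ i a c, (zc (x i + y i)).1 a c = (zc (x i)).1 a 0 * (zc (y i)).1 0 c + (zc (x i)).1 a 1 * (zc (y i)).1 1 c := by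
      intro i a c
      rw [hzc, show (zc (x i) * zc (y i)).1 = (zc (x i)).1 * (zc (y i)).1 from rfl, Matrix.mul_apply, Fin.sum_univ_two]
    apply Subtype.ext
    show fromBlocks _ _ _ _ = fromBlocks _ _ _ _ * fromBlocks _ _ _ _
    rw [fromBlocks_multiply]
    simp only [diagonal_mul_diagonal, diagonal_add, Pi.add_apply, hm]
  refine bound r j hd hd' (fun x => ρ (E x)) (fun x y => by rw [hEadd, map_mul]) ?_
  intro x y h
  have h' := congrArg Subtype.val (hρ h)
  obtain ⟨h1, h2, h3, h4⟩ := fromBlocks_inj.1 h'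
  funext i
  have hzi : zc (x i) = zc (y i) := by
    apply Subtype.ext
    ext a c
    fin_cases a <;> fin_cases c
    exacts [congrFun (diagonal_injective h1) i, congrFun (diagonal_injective h2) i, congrFun (diagonal_injective h3) i,
      congrFun (diagonal_injective h4) i]
  exact ZMod.val_injective _ (pow_injOn_Iio_orderOf (by simp [hz, ZMod.val_lt]) (by simp [hz, ZMod.val_lt]) hzi)

end Cfsg.Agent.S2394
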