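import Cfsg.Statements.S2398
import Cfsg.Agent.Lib.Steinberg.UniversalTypes


set_option autoImplicit false
open Cfsg

namespace Cfsg.Agent.S2398

/-- Universality of the group Δ presented by Steinberg's generators with relators (R1), (R2), over a field with more than four elements (types G₂, B₂, D₄, F₄, E₆, E₇, E₈): for every central extension `π₁ : E → G₁` (surjective, central kernel) and every homomorphism `σ : Δ → G₁` there is exactly one homomorphism `τ : Δ → E` with `π₁ ∘ τ = σ`. In particular every central extension of Δ splits; together with the fact that Δ maps onto the Chevalley group with central kernel, this makes Δ the universal central extension of the Chevalley group. -/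
theorem result {K : Type*} [Field K] (hK5 : ∃ s : Finset K, 4 < s.card) (D : Cfsg.Lie.ChevalleyDatum) (hD : D ∈ [Cfsg.Lie.chevG2, Cfsg.Lie.chevB2, Cfsg.Lie.chevD4, Cfsg.Lie.chevF4, Cfsg.Lie.chevE6, Cfsg.Lie.chevE7, Cfsg.Lie.chevE8])
    {G₁ E : Type*} [Group G₁] [Group E] (π₁ : E →* G₁) (hπ : Function.Surjective π₁) (hc : π₁.ker ≤ Subgroup.center E)
    (σ : D.SteinbergCover K →* G₁) : ∃! τ : D.SteinbergCover K →* E, π₁.comp τ = σ := by
    have hperf := CfsgLib.Steinberg.perfect_cover hD fun _ => CfsgLib.Steinberg.exists_third hK5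
    let S : Subgroup (E × D.SteinbergCover K) :=
      MonoidHom.eqLocus (π₁.comp (MonoidHom.fst E (D.SteinbergCover K)))
        (σ.comp (MonoidHom.snd E (D.SteinbergCover K)))
    let q : S →* D.SteinbergCover K := (MonoidHom.snd E (D.SteinbergCover K)).comp S.subtype
    have hS : ∀ x : S, π₁ x.1.1 = σ x.1.2 := fun x => x.2
    obtain ⟨τ, hτ⟩ := CfsgLib.Steinberg.exists_splitting hD hK5 q
      (fun y => by
        obtain ⟨x, hx⟩ := hπ (σ y)
        exact ⟨⟨(x, y), hx⟩, rfl⟩)
      (fun z hz => by
        rw [Subgroup.mem_center_iff]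
        intro w
        have h2 : z.1.2 = 1 := hz
        have h1 : z.1.1 ∈ Subgroup.center E := hc (by
          rw [MonoidHom.mem_ker, hS z, h2, map_one])
        refine Subtype.ext (Prod.ext ?_ ?_)
        · exact Subgroup.mem_center_iff.1 h1 _
        · show w.1.2 * z.1.2 = z.1.2 * w.1.2
          rw [h2, mul_one, one_mul])
    refine ⟨(MonoidHom.fst E (D.SteinbergCover K)).comp (S.subtype.comp τ), ?_, fun τ' h' => ?_⟩
    · refine MonoidHom.ext fun x => ?_
      show π₁ (τ x).1.1 = σ x
      rw [hS (τ x)]
      exact congrArg σ (DFunLike.congr_fun hτ x)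
    · refine CfsgLib.Steinberg.lift_unique hperf π₁ hc (h'.trans (MonoidHom.ext fun x => ?_))
      show σ x = π₁ (τ x).1.1
      rw [hS (τ x)]
      exact (congrArg σ (DFunLike.congr_fun hτ x)).symm

end Cfsg.Agent.S2398
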