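import Cfsg.Statements.S2399
import Cfsg.Agent.Lib.Steinberg.CharP
import Cfsg.Agent.S2398


set_option autoImplicit false
open scoped MatrixGroups
open Cfsg

namespace Cfsg.Agent.S2399

/-- Projective representations in the natural characteristic lift: for each of the types G₂, B₂, D₄, F₄, E₆, E₇, E₈ over any field `K` (for types B₂ and G₂ the field must have more than two elements — the cases where the Chevalley group is not simple are set aside), every homomorphism from the Chevalley group to `PGL_n(L) = GL_n(L)/Z`, `L` a field of the same characteristic as `K`, lifts uniquely to a homomorphism from the group Δ presented by (R1), (R2) to `GL_n(L)`, compatibly with the projection Δ → Chevalley group sending x̄_r(t) to x_r(t). -/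
theorem result {K : Type*} [Field K] (D : Cfsg.Lie.ChevalleyDatum) (hD : D ∈ [Cfsg.Lie.chevG2, Cfsg.Lie.chevB2, Cfsg.Lie.chevD4, Cfsg.Lie.chevF4, Cfsg.Lie.chevE6, Cfsg.Lie.chevE7, Cfsg.Lie.chevE8]) (hK : D ∈ [Cfsg.Lie.chevB2, Cfsg.Lie.chevG2] → ∃ x : K, x ≠ 0 ∧ x ≠ 1)
    (θ : D.SteinbergCover K →* ↥(D.group K))
    (hθ : ∀ (r : ℕ) (t : K), r < D.nroots → ((θ (D.scGen K r t) : GL D.Idx K) : Matrix D.Idx D.Idx K) = D.x K r t)
    {L : Type*} [Field L] (hL : ringChar L = ringChar K) {n : ℕ}
    (φ : ↥(D.group K) →* GL (Fin n) L ⧸ Subgroup.center (GL (Fin n) L)) :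
    ∃! ψ : D.SteinbergCover K →* GL (Fin n) L, (QuotientGroup.mk' (Subgroup.center (GL (Fin n) L))).comp ψ = φ.comp θ := by
    have hperf := CfsgLib.Steinberg.perfect_cover hD hK
    suffices ∃ ψ : D.SteinbergCover K →* GL (Fin n) L,
        (QuotientGroup.mk' (Subgroup.center (GL (Fin n) L))).comp ψ = φ.comp θ by
      obtain ⟨ψ, hψ⟩ := this
      refine ⟨ψ, hψ, fun ψ' h' => ?_⟩
      exact CfsgLib.Steinberg.lift_unique hperf _ (le_of_eq (QuotientGroup.ker_mk' _)) (h'.trans hψ.symm)
    obtain ⟨A, h, hC⟩ := CfsgLib.Steinberg.data_of_mem hD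
    rcases CharP.char_is_prime_or_zero K (ringChar K) with hp | h0
    · haveI : CharP L (ringChar K) := hL ▸ ringChar.charP L
      exact CfsgLib.Steinberg.exists_lift_field h hC hperf hp (φ.comp θ)
    · haveI : CharP K 0 := h0 ▸ ringChar.charP K
      haveI : CharZero K := CharP.charP_to_charZero K
      classical
      have hK5 : ∃ s : Finset K, 4 < s.card :=
        ⟨(Finset.range 5).image (fun i : ℕ => (i : K)), by
          rw [Finset.card_image_of_injective _ Nat.cast_injective]; simp⟩
      obtain ⟨ψ, hψ, -⟩ := Cfsg.Agent.S2398.result hK5 D hD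
        (QuotientGroup.mk' (Subgroup.center (GL (Fin n) L))) (QuotientGroup.mk'_surjective _)
        (le_of_eq (QuotientGroup.ker_mk' _)) (φ.comp θ)
      exact ⟨ψ, hψ⟩

end Cfsg.Agent.S2399
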