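import Cfsg.Statements.S2400
import Cfsg.Agent.Lib.Steinberg.EGroups
import Cfsg.Agent.Lib.Steinberg.B2Three
import Cfsg.Agent.S2397


set_option autoImplicit false
open Cfsg

namespace Cfsg.Agent.S2400

/-- Over a finite field `K`, the group presented by Steinberg's relators (R1)–(R3) (the universal Chevalley group) of type E₆ or E₇, or of type B₂ or D₄ with `K` of more than two elements, has trivial Schur multiplier: every finite stem extension of it is an isomorphism (Schur multiplier described through stem extensions as in the definitions). Types G₂, F₄ and E₈ are not covered here. -/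
theorem result {K : Type*} [Field K] [Fintype K] (e : Cfsg.Lie.ChevalleyDatum × ℕ)
    (he : e ∈ [(Cfsg.Lie.chevE6, 0), (Cfsg.Lie.chevE7, 0), (Cfsg.Lie.chevB2, 2), (Cfsg.Lie.chevD4, 2)]) (hK : Fintype.card K ≠ e.2) :
    Cfsg.HasCyclicSchurMultiplier (e.1.SteinbergGroup K) 1 := by
    classical
    have h1 : 1 < Fintype.card K := Fintype.one_lt_card
    have key : ∀ {D : Cfsg.Lie.ChevalleyDatum} {A : CfsgLib.Chev.Aux},
        D ∈ [Cfsg.Lie.chevG2, Cfsg.Lie.chevB2, Cfsg.Lie.chevD4, Cfsg.Lie.chevF4, Cfsg.Lie.chevE6,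
          Cfsg.Lie.chevE7, Cfsg.Lie.chevE8] →
        CfsgLib.Chev.Std D A → CfsgLib.Steinberg.splitChk D A = true →
        (D ∈ [Cfsg.Lie.chevB2, Cfsg.Lie.chevG2] → ∃ x : K, x ≠ 0 ∧ x ≠ 1) →
        (commutator (D.SteinbergCover K) = ⊤ → CfsgLib.Steinberg.Splits (D.SteinbergCover K)) →
        Cfsg.HasCyclicSchurMultiplier (D.SteinbergGroup K) 1 := by
      intro D A hD h hC hx hs
      haveI := CfsgLib.Steinberg.finite_cover (F := K) h hC
      obtain ⟨i, -⟩ := Cfsg.Agent.S2397.result (K := K) D hD hx
      have hperf := CfsgLib.Steinberg.perfect_cover hD hx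
      have hker : i.toMonoidHom.ker = ⊥ := (MonoidHom.ker_eq_bot_iff _).2 i.injective
      obtain ⟨e'⟩ := CfsgLib.Steinberg.equiv_zmod (M := i.toMonoidHom.ker) (n := 1) (Or.inl rfl)
        (by rw [hker, Subgroup.card_bot])
      exact CfsgLib.Steinberg.hasMultiplier (hs hperf) hperf _ i.surjective (by rw [hker]; exact bot_le) e'
    have hne : ∀ {D : Cfsg.Lie.ChevalleyDatum}, D.rank ≠ 2 →
        D ∈ [Cfsg.Lie.chevB2, Cfsg.Lie.chevG2] → ∃ x : K, x ≠ 0 ∧ x ≠ 1 := fun hr h => by
      simp only [List.mem_cons, List.not_mem_nil, or_false] at h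
      rcases h with rfl | rfl <;> exact absurd (by decide) hr
    simp only [List.mem_cons, List.not_mem_nil, or_false] at he
    rcases he with rfl | rfl | rfl | rfl
    · exact key (by simp) CfsgLib.Chev.stdE6 CfsgLib.Steinberg.splitE6 (hne (by decide))
        (CfsgLib.Steinberg.splits_e (by simp) CfsgLib.Chev.stdE6 CfsgLib.Steinberg.splitE6
          CfsgLib.Steinberg.twoE6 CfsgLib.Steinberg.threeE6 CfsgLib.Steinberg.fourE6)
    · exact key (by simp) CfsgLib.Chev.stdE7 CfsgLib.Steinberg.splitE7 (hne (by decide))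
        (CfsgLib.Steinberg.splits_e (by simp) CfsgLib.Chev.stdE7 CfsgLib.Steinberg.splitE7
          CfsgLib.Steinberg.twoE7 CfsgLib.Steinberg.threeE7 CfsgLib.Steinberg.fourE7)
    · have hK' : Fintype.card K ≠ 2 := hK
      refine key (by simp) CfsgLib.Chev.stdB2 CfsgLib.Steinberg.splitB2 (fun _ => ?_) fun hperf => ?_
      · obtain ⟨x, hx⟩ := Finset.exists_mem_notMem_of_card_lt_card (s := ({0, 1} : Finset K))
          (t := Finset.univ) (by rw [Finset.card_univ, Finset.card_pair zero_ne_one]; omega)
        simp only [Finset.mem_univ, Finset.mem_insert, Finset.mem_singleton, true_and, not_or] at hx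
        exact ⟨x, hx⟩
      rcases eq_or_ne (Fintype.card K) 3 with e3 | e3
      · intro X _ q hq hc
        have hx : CfsgLib.Steinberg.Ext CfsgLib.Chev.stdB2 (CfsgLib.Steinberg.presPre CfsgLib.Chev.stdB2
            (le_refl (Cfsg.Lie.chevB2.steinbergRelsAB K)) (CfsgLib.Steinberg.relsAB_subset K)) q :=
          ⟨CfsgLib.Steinberg.presData _ CfsgLib.Steinberg.splitB2 _ _, hperf, hq, hc⟩
        have h30 : (3 : K) = 0 := by
          have := FiniteField.cast_card_eq_zero K
          rw [e3] at this
          exact_mod_cast this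
        have h21 : (-1 : K) ≠ 1 := fun e => one_ne_zero (α := K) (by linear_combination e + h30)
        have hF : ∀ t : K, t = 0 ∨ t = 1 ∨ t = -1 := by
          have hu : ({0, 1, -1} : Finset K) = Finset.univ := Finset.eq_univ_of_card _ (by
            rw [e3]
            exact Finset.card_eq_three.2 ⟨0, 1, -1, zero_ne_one, (neg_ne_zero.2 one_ne_zero).symm, h21.symm, rfl⟩)
          intro t
          have ht : t ∈ ({0, 1, -1} : Finset K) := by rw [hu]; exact Finset.mem_univ t
          simpa using ht
        obtain ⟨L, hL⟩ := CfsgLib.Steinberg.B2Three.exists_isSt hx hF h30 h21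
        exact CfsgLib.Steinberg.exists_section CfsgLib.Steinberg.splitB2 L hL
      rcases eq_or_ne (Fintype.card K) 4 with e4 | e4
      · exact CfsgLib.Steinberg.splits_four CfsgLib.Steinberg.fourB2 e4 hperf
      exact fun X _ q hq hc => CfsgLib.Steinberg.exists_splitting (by simp)
        ⟨Finset.univ, by rw [Finset.card_univ]; omega⟩ q hq hc
    · have hK' : Fintype.card K ≠ 2 := hK
      refine key (by simp) CfsgLib.Chev.stdD4 CfsgLib.Steinberg.splitD4 (hne (by decide)) fun hperf => ?_
      rcases eq_or_ne (Fintype.card K) 3 with e3 | e3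
      · exact CfsgLib.Steinberg.splits_three CfsgLib.Steinberg.threeD4 e3 hperf
      rcases eq_or_ne (Fintype.card K) 4 with e4 | e4
      · exact CfsgLib.Steinberg.splits_four CfsgLib.Steinberg.fourD4 e4 hperf
      exact fun X _ q hq hc => CfsgLib.Steinberg.exists_splitting (by simp)
        ⟨Finset.univ, by rw [Finset.card_univ]; omega⟩ q hq hc

end Cfsg.Agent.S2400
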