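import Cfsg.Statements.S2401
import Cfsg.Agent.Lib.StSL.Enum


set_option autoImplicit false
open Cfsg

namespace Cfsg.Agent.S2401

/-- The Steinberg presentation of `SL_n` over a finite field for `n ≥ 3`: the group generated by symbols `x_ij(t)` (`i ≠ j`, `t` in the field) subject to `x_ij(t) x_ij(u) = x_ij(t + u)` and, for `i ≠ l`, `x_ij(t) x_kl(u) x_ij(t)⁻¹ x_kl(u)⁻¹ = x_il(tu)` if `j = k` and `= 1` if `j ≠ k`, is isomorphic to `SL_n` by an isomorphism sending `x_ij(t)` to the elementary matrix `1 + t E_ij`. -/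
theorem result {K : Type*} [Field K] [Finite K] (n : ℕ) (hn : 3 ≤ n) :
    ∃ e : PresentedGroup
        ({g : FreeGroup ({ij : Fin n × Fin n // ij.1 ≠ ij.2} × K) | ∃ (a : {ij : Fin n × Fin n // ij.1 ≠ ij.2}) (t u : K),
            g = FreeGroup.of (a, t) * FreeGroup.of (a, u) * (FreeGroup.of (a, t + u))⁻¹} ∪
          {g | ∃ (a b : {ij : Fin n × Fin n // ij.1 ≠ ij.2}) (t u : K), a.1.1 ≠ b.1.2 ∧ a.1.2 ≠ b.1.1 ∧
            g = FreeGroup.of (a, t) * FreeGroup.of (b, u) * (FreeGroup.of (a, t))⁻¹ * (FreeGroup.of (b, u))⁻¹} ∪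
          {g | ∃ (a b : {ij : Fin n × Fin n // ij.1 ≠ ij.2}) (h : a.1.1 ≠ b.1.2) (t u : K), a.1.2 = b.1.1 ∧
            g = FreeGroup.of (a, t) * FreeGroup.of (b, u) * (FreeGroup.of (a, t))⁻¹ * (FreeGroup.of (b, u))⁻¹ *
              (FreeGroup.of (⟨(a.1.1, b.1.2), h⟩, t * u))⁻¹}) ≃* Matrix.SpecialLinearGroup (Fin n) K,
      ∀ (a : {ij : Fin n × Fin n // ij.1 ≠ ij.2}) (t : K), ((e (PresentedGroup.of (a, t)) : Matrix (Fin n) (Fin n) K)) = Matrix.transvection a.1.1 a.1.2 t := by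
  classical
  set R : Set (FreeGroup ({ij : Fin n × Fin n // ij.1 ≠ ij.2} × K)) := _ ∪ _ ∪ _ with hR
  let x : Fin n → Fin n → K → PresentedGroup R := fun i j t =>
    if h : i ≠ j then PresentedGroup.of (⟨(i, j), h⟩, t) else 1
  have hx : ∀ {i j : Fin n} (h : i ≠ j) (t : K), x i j t = PresentedGroup.of (⟨(i, j), h⟩, t) :=
    fun h t => dif_pos h
  have hrel : CfsgLib.StSL.Rel x := by
    refine ⟨fun {i j} h t u => ?_, fun {i j k l} h h' hil hjk t u => ?_,
      fun {i j l} h h' hil t u => ?_⟩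
    · have := PresentedGroup.one_of_mem (rels := R) (Or.inl (Or.inl ⟨⟨(i, j), h⟩, t, u, rfl⟩))
      simp only [map_mul, map_inv, mul_inv_eq_one] at this
      rw [hx h, hx h, hx h]
      exact this
    · have := PresentedGroup.one_of_mem (rels := R)
        (Or.inl (Or.inr ⟨⟨(i, j), h⟩, ⟨(k, l), h'⟩, t, u, hil, hjk, rfl⟩))
      simp only [map_mul, map_inv, mul_inv_eq_one] at this
      rw [hx h, hx h']
      exact mul_inv_eq_iff_eq_mul.1 this
    · have := PresentedGroup.one_of_mem (rels := R)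
        (Or.inr ⟨⟨(i, j), h⟩, ⟨(j, l), h'⟩, hil, t, u, rfl, rfl⟩)
      simp only [map_mul, map_inv, mul_inv_eq_one] at this
      rw [hx h, hx h', hx hil, commutatorElement_def]
      exact this
  obtain ⟨φ, hφ⟩ := CfsgLib.StSL.exists_hom hn hrel
  let f : {ij : Fin n × Fin n // ij.1 ≠ ij.2} × K → Matrix.SpecialLinearGroup (Fin n) K :=
    fun a => CfsgLib.StSL.tv a.1.1.1 a.1.1.2 a.2
  have hT := CfsgLib.StSL.rel_tv (K := K) (n := n)
  have hf : ∀ r ∈ R, FreeGroup.lift f r = 1 := by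
    rintro r ((⟨a, t, u, rfl⟩ | ⟨a, b, t, u, h1, h2, rfl⟩) | ⟨a, b, h, t, u, h2, rfl⟩)
    · simp only [map_mul, map_inv, FreeGroup.lift_apply_of, mul_inv_eq_one]
      exact hT.add a.2 t u
    · simp only [map_mul, map_inv, FreeGroup.lift_apply_of, mul_inv_eq_one]
      exact mul_inv_eq_iff_eq_mul.2 (hT.comm a.2 b.2 h1 h2 t u)
    · simp only [map_mul, map_inv, FreeGroup.lift_apply_of, mul_inv_eq_one]
      obtain ⟨⟨i, j⟩, hij⟩ := a
      obtain ⟨⟨k, l⟩, hkl⟩ := b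
      change j = k at h2
      subst h2
      rw [← commutatorElement_def]
      exact hT.prod hij hkl h t u
  let g := PresentedGroup.toGroup hf
  have hg : ∀ a, g (PresentedGroup.of a) = f a := fun a => PresentedGroup.toGroup.of hf
  have h1 : φ.comp g = MonoidHom.id _ := PresentedGroup.ext fun ⟨⟨⟨i, j⟩, h⟩, t⟩ => by
    rw [MonoidHom.comp_apply, hg]
    exact (hφ i j h t).trans (hx h t)
  have h2 : g.comp φ = MonoidHom.id _ := CfsgLib.Classical.hom_ext_transvection fun i j h t => by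
    rw [MonoidHom.comp_apply, ← CfsgLib.StSL.tv_eq h, hφ i j h t, hx h, hg]
    rfl
  refine ⟨MonoidHom.toMulEquiv g φ h1 h2, fun a t => ?_⟩
  rw [MonoidHom.toMulEquiv_apply, hg]
  exact CfsgLib.StSL.tv_coe a.2 t

end Cfsg.Agent.S2401
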