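import Cfsg.Statements.S2402
import Cfsg.Agent.Lib.KnownB.SLTwoGen
-- import your own Cfsg.Agent.* helpers here

set_option autoImplicit false
open Cfsg

namespace Cfsg.Agent.S2402

/-- Explicit two-element generation of `PSL_{n+1}(K)` for a finite field `K` with more than three elements: let `k` generate the multiplicative group of `K`, `h = diag(k, k⁻¹, 1, …, 1)`, `x = 1 + E₁₂` (the elementary transvection) and `w` the monomial matrix with entries `1` in positions `(i, i+1)` and `(−1)^n` in position `(n+1, 1)`. Then `h` and `x·w` generate `SL_{n+1}(K)` modulo its centre: the subgroup they generate together with the centre is everything. -/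
theorem result {K : Type*} [Field K] [Fintype K] (hK : 3 < Fintype.card K) (n : ℕ) (hn : 1 ≤ n)
    (k : Kˣ) (hk : ∀ u : Kˣ, u ∈ Subgroup.zpowers k)
    (h x w : Matrix.SpecialLinearGroup (Fin (n + 1)) K)
    (hh : (h : Matrix (Fin (n + 1)) (Fin (n + 1)) K) =
      Matrix.diagonal (fun i => if i.val = 0 then (k : K) else if i.val = 1 then ((k⁻¹ : Kˣ) : K) else 1))
    (hx : (x : Matrix (Fin (n + 1)) (Fin (n + 1)) K) = Matrix.transvection (0 : Fin (n + 1)) (1 : Fin (n + 1)) 1)
    (hw : (w : Matrix (Fin (n + 1)) (Fin (n + 1)) K) =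
      Matrix.of (fun i j => if j.val = i.val + 1 then 1 else if i.val = n ∧ j.val = 0 then (-1) ^ n else 0)) :
    Subgroup.closure ({h, x * w} : Set (Matrix.SpecialLinearGroup (Fin (n + 1)) K)) ⊔
      Subgroup.center (Matrix.SpecialLinearGroup (Fin (n + 1)) K) = ⊤ := by
  set H := Subgroup.closure ({h, x * w} : Set (Matrix.SpecialLinearGroup (Fin (n + 1)) K))
  suffices H = ⊤ by rw [this, top_sup_eq]
  have hhH : h ∈ H := Subgroup.subset_closure (Or.inl rfl)
  have hxwH : x * w ∈ H := Subgroup.subset_closure (Or.inr rfl)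
  have h01 : (0 : Fin (n + 1)) ≠ 1 := by
    intro e
    have := congrArg Fin.val e
    simp [Nat.mod_eq_of_lt (by omega : 1 < n + 1)] at this
  set d : Fin (n + 1) → K := fun i => if i.val = 0 then (k : K) else if i.val = 1 then ((k⁻¹ : Kˣ) : K) else 1
  set d' : Fin (n + 1) → K := fun i => d (i + 1)
  have h1v : ((1 : Fin (n + 1)) : ℕ) = 1 := by simp [Nat.mod_eq_of_lt (by omega : 1 < n + 1)]
  have hd0 : d 0 = (k : K) := by simp [d]
  have hd1 : d 1 = ((k⁻¹ : Kˣ) : K) := by simp only [d]; rw [h1v, if_neg one_ne_zero, if_pos rfl]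
  have hd'0 : d' 0 = ((k⁻¹ : Kˣ) : K) := by simp only [d', zero_add, hd1]
  have hdne : ∀ i, d i ≠ 0 := fun i => by
    simp only [d]
    split_ifs
    exacts [k.ne_zero, (k⁻¹).ne_zero, one_ne_zero]
  have hkk : (k : K) * ((k⁻¹ : Kˣ) : K) = 1 := k.mul_inv
  have hord : orderOf k = Fintype.card K - 1 := by
    rw [orderOf_eq_card_of_forall_mem_zpowers hk, Nat.card_units, Nat.card_eq_fintype_card]
  have hk2 : (k : K) ^ 2 ≠ 1 := fun e => by
    have := orderOf_dvd_of_pow_eq_one (x := k) (n := 2) (Units.ext (by rw [Units.val_pow_eq_pow_val, e, Units.val_one]))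
    rw [hord] at this
    have := Nat.le_of_dvd (by norm_num) this
    omega
  -- the conjugate of `h` by the cyclic matrix
  set D := w * h * w⁻¹
  have hD : (D : Matrix (Fin (n + 1)) (Fin (n + 1)) K) = Matrix.diagonal d' := by
    have hDw : (D : Matrix (Fin (n + 1)) (Fin (n + 1)) K) * (w : Matrix (Fin (n + 1)) (Fin (n + 1)) K) = Matrix.diagonal d' * w := by
      rw [← Matrix.SpecialLinearGroup.coe_mul, show D * w = w * h by simp [D], Matrix.SpecialLinearGroup.coe_mul, hh]
      refine Matrix.ext_iff_mulVec.2 fun v => funext fun a => ?_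
      rw [← Matrix.mulVec_mulVec, ← Matrix.mulVec_mulVec, CfsgLib.KnownB.SLTwoGen.cyc_mulVec hn hw,
        Matrix.mulVec_diagonal, Matrix.mulVec_diagonal, CfsgLib.KnownB.SLTwoGen.cyc_mulVec hn hw]
      simp only [d', d]
      ring
    have h2 := congrArg (fun M => M * ((w⁻¹ : Matrix.SpecialLinearGroup (Fin (n + 1)) K) : Matrix (Fin (n + 1)) (Fin (n + 1)) K)) hDw
    simp only [mul_assoc, ← Matrix.SpecialLinearGroup.coe_mul, mul_inv_cancel, Matrix.SpecialLinearGroup.coe_one, mul_one] at h2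
    exact h2
  have hx' : x = Matrix.SpecialLinearGroup.transvection h01 1 := by
    refine Subtype.ext ?_
    rw [hx, Matrix.SpecialLinearGroup.transvection_coe]
    rfl
  set u : K → Matrix.SpecialLinearGroup (Fin (n + 1)) K := fun c => Matrix.SpecialLinearGroup.transvection h01 c
  have hu : ∀ a b, u (a + b) = u a * u b := fun a b => Matrix.SpecialLinearGroup.transvection_add _ _ _
  have huinv : ∀ a, (u a)⁻¹ = u (-a) := fun a => Matrix.SpecialLinearGroup.transvection_inv _ _
  have hconjD : ∀ c, D * u c * D⁻¹ = u (d' 0 * c / d' 1) := fun c =>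
    CfsgLib.KnownB.SLTwoGen.diag_conj hD h01 (hdne _) c
  have hconjh : ∀ c, h * u c * h⁻¹ = u ((k : K) ^ 2 * c) := fun c => by
    rw [show u c = Matrix.SpecialLinearGroup.transvection h01 c from rfl, CfsgLib.KnownB.SLTwoGen.diag_conj hh h01 (hdne 1) c]
    refine congrArg u ?_
    rw [hd0, hd1, div_eq_iff (k⁻¹).ne_zero]
    linear_combination (-(c * (k : K))) * hkk
  set γ := d' 1 / d' 0 - 1
  have hγ : γ ≠ 0 := by
    intro h0
    rw [sub_eq_zero, div_eq_one_iff_eq (hdne _ : d' 0 ≠ 0)] at h0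
    replace h0 : d' 1 = ((k⁻¹ : Kˣ) : K) := (show d' 1 = d' 0 from h0).trans hd'0
    by_cases hn1 : n = 1
    · subst hn1
      have h11 : (1 : Fin 2) + 1 = 0 := rfl
      simp only [d', h11, hd0] at h0
      exact hk2 (by linear_combination (k : K) * h0 + hkk)
    · have h2v : ((1 + 1 : Fin (n + 1)) : ℕ) = 2 := by
        rw [Fin.val_add, h1v, Nat.mod_eq_of_lt (by omega)]
      simp only [d', d, h2v] at h0
      norm_num at h0
      exact hk2 (by rw [show (k : K) = 1 by rw [h0, Units.val_one], one_pow])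
  have hE : (x * w) * h * (x * w)⁻¹ = D * u γ := by
    calc (x * w) * h * (x * w)⁻¹ = x * D * x⁻¹ := by simp only [D]; group
      _ = D * (D⁻¹ * u 1 * D) * (u 1)⁻¹ := by rw [hx']; simp only [u]; group
      _ = D * u (d' 1 / d' 0) * (u 1)⁻¹ := by
        congr 2
        have h3 := hconjD (d' 1 / d' 0)
        have h4 : d' 0 * (d' 1 / d' 0) / d' 1 = 1 := by
          have := hdne (1 + 1 : Fin (n + 1)); have := hdne (0 + 1 : Fin (n + 1))
          simp only [d']
          field_simp
        rw [h4] at h3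
        rw [← h3]; group
      _ = D * u γ := by rw [mul_assoc, huinv, ← hu, ← sub_eq_add_neg]
  have hEH : D * u γ ∈ H := hE ▸ mul_mem (mul_mem hxwH hhH) (inv_mem hxwH)
  have hcD : h * D = D * h := by
    refine Subtype.ext ?_
    rw [Matrix.SpecialLinearGroup.coe_mul h D, Matrix.SpecialLinearGroup.coe_mul D h, hD, hh, Matrix.diagonal_mul_diagonal, Matrix.diagonal_mul_diagonal]
    exact congrArg Matrix.diagonal (funext fun i => mul_comm _ _)
  set c₁ := d' 0 * ((k : K) ^ 2 * γ - γ) / d' 1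
  have hc₁ : c₁ ≠ 0 := by
    refine div_ne_zero (mul_ne_zero (hdne _) ?_) (hdne _)
    rw [show (k : K) ^ 2 * γ - γ = ((k : K) ^ 2 - 1) * γ by ring]
    exact mul_ne_zero (sub_ne_zero.2 hk2) hγ
  have hc₁H : u c₁ ∈ H := by
    have h5 : h * (D * u γ) * h⁻¹ * (D * u γ)⁻¹ = u c₁ := by
      calc h * (D * u γ) * h⁻¹ * (D * u γ)⁻¹ = (h * D) * h⁻¹ * ((h * u γ * h⁻¹) * (u γ)⁻¹) * D⁻¹ := by group
        _ = D * (h * u γ * h⁻¹ * (u γ)⁻¹) * D⁻¹ := by rw [hcD, mul_inv_cancel_right]
        _ = u c₁ := by rw [hconjh, huinv, ← hu, hconjD, ← sub_eq_add_neg]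
    exact h5 ▸ mul_mem (mul_mem (mul_mem hhH hEH) (inv_mem hhH)) (inv_mem hEH)
  let A : AddSubgroup K :=
    { carrier := {c | u c ∈ H}
      zero_mem' := by
        change u 0 ∈ H
        rw [show u 0 = 1 from Matrix.SpecialLinearGroup.transvection_coeff_zero _]
        exact one_mem _
      add_mem' := fun {a b} ha hb => by
        change u (a + b) ∈ H
        rw [hu]; exact mul_mem ha hb
      neg_mem' := fun {a} ha => by
        change u (-a) ∈ H
        rw [← huinv]; exact inv_mem ha }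
  have hsq : ∀ r : K, r ^ 2 * c₁ ∈ A := by
    intro r
    rcases eq_or_ne r 0 with rfl | hr
    · rw [zero_pow two_ne_zero, zero_mul]; exact zero_mem _
    obtain ⟨i, hi⟩ : ∃ i : ℕ, k ^ i = Units.mk0 r hr := mem_powers_iff_mem_zpowers.2 (hk _)
    have hr' : r = (k : K) ^ i := by rw [← Units.val_pow_eq_pow_val, hi]; rfl
    subst hr'
    clear hi hr
    induction i with
    | zero => rw [pow_zero, one_pow, one_mul]; exact hc₁H
    | succ i ih =>
      change u (((k : K) ^ (i + 1)) ^ 2 * c₁) ∈ H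
      rw [show ((k : K) ^ (i + 1)) ^ 2 * c₁ = (k : K) ^ 2 * (((k : K) ^ i) ^ 2 * c₁) by ring, ← hconjh]
      exact mul_mem (mul_mem hhH ih) (inv_mem hhH)
  have hall : ∀ c, u c ∈ H := fun c => CfsgLib.KnownB.SLTwoGen.addSubgroup_eq_top A hc₁ hsq c
  have hwH : w ∈ H := by
    have h6 : w = x⁻¹ * (x * w) := by group
    rw [h6]
    exact mul_mem (inv_mem (hx' ▸ hall 1)) hxwH
  exact CfsgLib.KnownB.SLTwoGen.eq_top_of_mem hn H hw hwH fun _ c => hall c

end Cfsg.Agent.S2402
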