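import Cfsg.Statements.S2403
import Cfsg.Agent.Lib.KnownB.SLTwoGen
-- import your own Cfsg.Agent.* helpers here

set_option autoImplicit false
open Cfsg

namespace Cfsg.Agent.S2403

/-- Explicit two-element generation of `PSL_{n+1}(K)` over the fields with two or three elements: with `x = 1 + E₁₂` and `w` the monomial matrix with entries `1` in positions `(i, i+1)` and `(−1)^n` in position `(n+1, 1)`, the elements `x` and `w` generate `SL_{n+1}(K)` modulo its centre. -/
theorem result {K : Type*} [Field K] [Fintype K] (hK : Fintype.card K ≤ 3) (n : ℕ) (hn : 1 ≤ n)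
    (x w : Matrix.SpecialLinearGroup (Fin (n + 1)) K)
    (hx : (x : Matrix (Fin (n + 1)) (Fin (n + 1)) K) = Matrix.transvection (0 : Fin (n + 1)) (1 : Fin (n + 1)) 1)
    (hw : (w : Matrix (Fin (n + 1)) (Fin (n + 1)) K) =
      Matrix.of (fun i j => if j.val = i.val + 1 then 1 else if i.val = n ∧ j.val = 0 then (-1) ^ n else 0)) :
    Subgroup.closure ({x, w} : Set (Matrix.SpecialLinearGroup (Fin (n + 1)) K)) ⊔
      Subgroup.center (Matrix.SpecialLinearGroup (Fin (n + 1)) K) = ⊤ := by
  set H := Subgroup.closure ({x, w} : Set (Matrix.SpecialLinearGroup (Fin (n + 1)) K))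
  suffices H = ⊤ by rw [this, top_sup_eq]
  refine CfsgLib.KnownB.SLTwoGen.eq_top_of_mem hn H hw (Subgroup.subset_closure (Or.inr rfl)) fun h01 c => ?_
  have hx' : x = Matrix.SpecialLinearGroup.transvection h01 1 := by
    refine Subtype.ext ?_
    rw [hx, Matrix.SpecialLinearGroup.transvection_coe]
    rfl
  have hxH : x ∈ H := Subgroup.subset_closure (Or.inl rfl)
  have hchar : ∃ m : ℕ, c = (m : K) := by
    obtain ⟨p, hp⟩ := CharP.exists K
    obtain ⟨k, hpr, hk⟩ := FiniteField.card K p
    haveI : Fact p.Prime := ⟨hpr⟩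
    have hk1 : (k : ℕ) = 1 := by
      by_contra hne
      have h2 : p ^ 2 ≤ p ^ (k : ℕ) := Nat.pow_le_pow_right hpr.pos (by have := k.pos; omega)
      have := Nat.pow_le_pow_left hpr.two_le 2
      omega
    rw [hk1, pow_one] at hk
    obtain ⟨z, hz⟩ := ((Fintype.bijective_iff_injective_and_card (ZMod.castHom (dvd_refl p) K)).2
      ⟨(ZMod.castHom (dvd_refl p) K).injective, by rw [ZMod.card, hk]⟩).2 c
    exact ⟨z.val, by rw [← hz, ← map_natCast (ZMod.castHom (dvd_refl p) K), ZMod.natCast_zmod_val]⟩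
  obtain ⟨m, rfl⟩ := hchar
  have hpow : ∀ m : ℕ, Matrix.SpecialLinearGroup.transvection h01 (m : K) ∈ H := by
    intro m
    induction m with
    | zero => rw [Nat.cast_zero, Matrix.SpecialLinearGroup.transvection_coeff_zero]; exact one_mem _
    | succ m ih => rw [Nat.cast_succ, Matrix.SpecialLinearGroup.transvection_add]; exact mul_mem ih (hx' ▸ hxH)
  exact hpow m

end Cfsg.Agent.S2403
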