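import Cfsg.Statements.S2404
import Cfsg.Agent.Lib.Chev.Weights.Count
import Cfsg.Agent.Lib.Chev.Parabolic
import Cfsg.Agent.S1035


set_option autoImplicit false
open Cfsg

namespace Cfsg.Agent.S2404

/-- Steinberg's count of semisimple classes for type E₆ when the finite simply connected group has trivial centre: over a field with `q` elements of characteristic `p` with `q ≢ 1 (mod 3)`, the simply connected group E₆(q) coincides with the Chevalley group, and the conjugacy classes of elements of order prime to `p` in the Chevalley group of type E₆ number exactly `q^6`. -/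
theorem result {F : Type*} [Field F] [Fintype F] {q : ℕ} (hq : Fintype.card F = q) (hq3 : q % 3 ≠ 1) (p : ℕ) [Fact p.Prime] [CharP F p] :
    Nat.card {c : ConjClasses ↥(Cfsg.Lie.chevE6.group F) // ∃ g : ↥(Cfsg.Lie.chevE6.group F), ConjClasses.mk g = c ∧ (orderOf g).Coprime p} = q ^ 6 := by
    subst hq
    obtain ⟨A, h⟩ := CfsgLib.Chev.para_of_mem (D := Cfsg.Lie.chevE6) (by simp)
    have hg : Nat.gcd 3 (Fintype.card F - 1) = 1 := by
      refine (Nat.prime_three.coprime_iff_not_dvd).2 fun hdvd => ?_
      have := Fintype.card_pos (α := F)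
      omega
    have hc : Nat.card (Cfsg.Lie.chevE6.diagonalSubgroup F) = (Fintype.card F - 1) ^ Cfsg.Lie.chevE6.rank := by
      have := Cfsg.Agent.S1035.result (F := F) rfl (Cfsg.Lie.chevE6, 1) (by simp [hg])
      simpa using this
    rw [show (6 : ℕ) = Cfsg.Lie.chevE6.rank from rfl, ← CfsgLib.Chev.Weights.card_regular_classes h p hc]
    refine Nat.card_congr (Equiv.subtypeEquivRight fun c => exists_congr fun g => and_congr_right fun _ => ?_)
    rw [Nat.coprime_comm]
    exact (Fact.out : p.Prime).coprime_iff_not_dvd

end Cfsg.Agent.S2404
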