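import Cfsg.Statements.S2410
import Cfsg.Agent.Lib.KnownA.Suzuki.RowsTorus
import Cfsg.Agent.Lib.KnownA.Suzuki.Generate
import Cfsg.Agent.Lib.KnownA.Suzuki.Subfield

set_option autoImplicit false
open Cfsg

namespace Cfsg.Agent.S2410

/-- The Suzuki group over the field with `2^(2m+1)` elements, `m ≥ 1` (realised as the stabiliser in `SL₄` of the Suzuki–Tits ovoid), is generated by two of its elements. -/
theorem result {F : Type*} [Field F] [Fintype F] {m : ℕ} (hm : 1 ≤ m) (hF : Fintype.card F = 2 ^ (2 * m + 1)) :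
    ∃ a b : ↥(Cfsg.Sz F m), Subgroup.closure ({a, b} : Set ↥(Cfsg.Sz F m)) = ⊤ := by
  have H := CfsgLib.KnownA.Suzuki.titsField_of_card hF
  let f := CfsgLib.KnownA.Suzuki.iso hm hF
  obtain ⟨a, b, h⟩ := CfsgLib.KnownA.Suzuki.exists_two_generators H
    (CfsgLib.KnownA.Suzuki.four_le hm hF)
  refine ⟨f a, f b, ?_⟩
  rw [show ({f a, f b} : Set (Cfsg.Sz F m)) = f.toMonoidHom '' {a, b} by simp [Set.image_pair],
    ← MonoidHom.map_closure, h, Subgroup.map_top_of_surjective _ f.surjective]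

end Cfsg.Agent.S2410
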