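import Cfsg.Statements.S2412
import Cfsg.Agent.Lib.KnownA.SuTwo.Std
import Cfsg.Agent.Lib.KnownA.SuGen.TwoGen

set_option autoImplicit false
open Cfsg

namespace Cfsg.Agent.S2412

/-- The projective special unitary group `PSU_n(q)` with `n ≥ 3`, realised over the field with `q²` elements, `(n, q) ≠ (3, 2)`, is generated by two of its elements. -/
theorem result {F : Type*} [Field F] [Fintype F] {q : ℕ} (hq : IsPrimePow q) (hF : Fintype.card F = q ^ 2) (n : ℕ) (hn : 3 ≤ n) (h32 : n = 3 → q ≠ 2) :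
    ∃ a b : Cfsg.PSU n F q, Subgroup.closure ({a, b} : Set (Cfsg.PSU n F q)) = ⊤ := by
  classical
  have hF' : Nat.card F = q ^ 2 := by rw [Nat.card_eq_fintype_card, hF]
  obtain ⟨a, b, hab⟩ : ∃ a b : Cfsg.SU n F q,
      Subgroup.closure ({a, b} : Set (Cfsg.SU n F q)) = ⊤ := by
    rcases eq_or_lt_of_le hn with rfl | h4
    · have := h32 rfl
      obtain ⟨u, g, -, hg⟩ :=
        CfsgLib.KnownA.SuGen.twoSu hF' (q := q) (by have := hq.two_le; omega)
      exact ⟨u, g * u * g⁻¹, hg⟩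
    · exact CfsgLib.KnownA.SuTwo.two_gen hF' h4
  let φ := QuotientGroup.mk' (Subgroup.center (Cfsg.SU n F q))
  refine ⟨φ a, φ b, ?_⟩
  rw [← Set.image_pair, ← MonoidHom.map_closure, hab,
    Subgroup.map_top_of_surjective _ (QuotientGroup.mk'_surjective _)]

end Cfsg.Agent.S2412
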