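import Cfsg.Statements.S2413
import Cfsg.Agent.Lib.Geometry.TwoGen.Std
import Cfsg.Agent.Lib.Chev.TwoGen.Cases
import Cfsg.Agent.Lib.ChevIso.Types

set_option autoImplicit false
open Cfsg

namespace Cfsg.Agent.S2413

/-- The simple orthogonal group `PΩ_{2m+1}(q)` (commutator subgroup of the orthogonal group of `x₀² + Σ x_i y_i` modulo its centre) with `m ≥ 2` and `q` odd is generated by two of its elements. -/
theorem result {F : Type*} [Field F] [Fintype F] (hodd : Odd (Fintype.card F)) (m : ℕ) (hm : 2 ≤ m) :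
    ∃ a b : Cfsg.POmega F (Cfsg.quadFormOdd m F), Subgroup.closure ({a, b} : Set (Cfsg.POmega F (Cfsg.quadFormOdd m F))) = ⊤ := by
  classical
  have h2 : (2 : F) ≠ 0 := Ring.two_ne_zero (fun h =>
    Nat.not_even_iff_odd.2 hodd (Nat.even_iff.2 (FiniteField.even_card_of_char_two h)))
  have key : ∀ {G K : Type _} [Group G] [Group K] (φ : G →* K), Function.Surjective φ →
      (∃ a b : G, Subgroup.closure ({a, b} : Set G) = ⊤) →
      ∃ a b : K, Subgroup.closure ({a, b} : Set K) = ⊤ := fun φ hφ ⟨a, b, h⟩ => by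
    refine ⟨φ a, φ b, ?_⟩
    rw [← Set.image_pair, ← MonoidHom.map_closure, h, Subgroup.map_top_of_surjective _ hφ]
  rcases eq_or_lt_of_le hm with rfl | h3
  · have hF : ∃ a : F, a ≠ 0 ∧ a ≠ 1 := ⟨-1, neg_ne_zero.2 one_ne_zero, fun h =>
      h2 (by linear_combination (-1 : F) * h)⟩
    obtain ⟨e⟩ := CfsgLib.ChevIso.chevB2_iso hF
    exact key e.toMonoidHom e.surjective
      (CfsgLib.Chev.TwoGen.two_gen_seven Cfsg.Lie.chevB2 (by simp) (fun _ => hF))
  · rw [← CfsgLib.Geometry.coe_matQuad_odd m]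
    exact key ((CfsgLib.Geometry.pOmegaEquiv _).symm.toMonoidHom.comp (QuotientGroup.mk' _))
      ((CfsgLib.Geometry.pOmegaEquiv _).symm.surjective.comp (QuotientGroup.mk'_surjective _))
      (CfsgLib.Geometry.TwoGen.odd_two_gen h2 m h3)

end Cfsg.Agent.S2413
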