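import Cfsg.Statements.S2414
import Cfsg.Agent.Lib.Pres.DPlus.TwoGen
import Cfsg.Agent.Lib.Chev.TwoGen.Cases
import Cfsg.Agent.Lib.ChevIso.Types
import Cfsg.Agent.Lib.Geometry.POmega

set_option autoImplicit false
open Cfsg

namespace Cfsg.Agent.S2414

/-- The simple orthogonal group `PΩ⁺_{2m}(q)` (commutator subgroup of the orthogonal group of `Σ x_i y_i` modulo its centre) with `m ≥ 4` is generated by two of its elements. -/
theorem result {F : Type*} [Field F] [Fintype F] (m : ℕ) (hm : 4 ≤ m) :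
    ∃ a b : Cfsg.POmega F (Cfsg.quadFormPlus m F), Subgroup.closure ({a, b} : Set (Cfsg.POmega F (Cfsg.quadFormPlus m F))) = ⊤ := by
  classical
  have key : ∀ {G K : Type _} [Group G] [Group K] (φ : G →* K), Function.Surjective φ →
      (∃ a b : G, Subgroup.closure ({a, b} : Set G) = ⊤) →
      ∃ a b : K, Subgroup.closure ({a, b} : Set K) = ⊤ := fun φ hφ ⟨a, b, h⟩ => by
    refine ⟨φ a, φ b, ?_⟩
    rw [← Set.image_pair, ← MonoidHom.map_closure, h, Subgroup.map_top_of_surjective _ hφ]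
  rcases eq_or_lt_of_le hm with rfl | h5
  · obtain ⟨e⟩ := CfsgLib.ChevIso.chevD4_iso (F := F)
    exact key e.toMonoidHom e.surjective
      (CfsgLib.Chev.TwoGen.two_gen_seven Cfsg.Lie.chevD4 (by simp)
        (by simp [Cfsg.Lie.chevD4, Cfsg.Lie.chevB2, Cfsg.Lie.chevG2]))
  · have e : Cfsg.quadFormPlus m F =
        ⇑(CfsgLib.Pres.DPlus.QQ F m) := (CfsgLib.Geometry.coe_matQuad_plus m).symm
    rw [e]
    exact key ((CfsgLib.Geometry.pOmegaEquiv _).symm.toMonoidHom.comp (QuotientGroup.mk' _))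
      ((CfsgLib.Geometry.pOmegaEquiv _).symm.surjective.comp (QuotientGroup.mk'_surjective _))
      (CfsgLib.Pres.DPlus.omega_two_gen h5)

end Cfsg.Agent.S2414
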