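import Cfsg.Statements.S2425
import Cfsg.Agent.Lib.CharsMore.St.GLValue
import Mathlib

set_option autoImplicit false
set_option linter.style.haveILetI false
open scoped MatrixGroups
open Cfsg

namespace Cfsg.Agent.S2425

/-- Values of the Steinberg character of `GL_n(q)` (the partition-indexed character for `ν = (1,…,1)`, of degree `q^(n(n−1)/2)`) at elements of order prime to the characteristic: if the characteristic polynomial of such an element is `∏ f^(m_f)` over distinct monic irreducible `f`, the value is `∏_f (−1)^((deg f − 1) m_f) q^(deg f · m_f (m_f − 1)/2)`. (At elements of order divisible by the characteristic the value is 0; that is not part of this statement.) -/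
theorem result {F : Type*} [Field F] [Fintype F] [DecidableEq F] {q : ℕ} (hq : Fintype.card F = q) (p : ℕ) [Fact p.Prime] [CharP F p]
    {n : ℕ} (x : GL (Fin n) F) (hx : (orderOf x).Coprime p) :
    Cfsg.unipotentCharacterGL n F (fun _ => 1) x =
      ∏ f ∈ (UniqueFactorizationMonoid.normalizedFactors (x : Matrix (Fin n) (Fin n) F).charpoly).toFinset,
        (-1 : ℂ) ^ ((f.natDegree - 1) * (UniqueFactorizationMonoid.normalizedFactors (x : Matrix (Fin n) (Fin n) F).charpoly).count f) *
          (q : ℂ) ^ (f.natDegree * (UniqueFactorizationMonoid.normalizedFactors (x : Matrix (Fin n) (Fin n) F).charpoly).count f *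
            ((UniqueFactorizationMonoid.normalizedFactors (x : Matrix (Fin n) (Fin n) F).charpoly).count f - 1) / 2) := by
  rename_i _ _ hdec _ _
  obtain rfl : hdec = Classical.decEq F := Subsingleton.elim _ _
  classical
  rw [CfsgLib.CharsMore.St.GLValue.steinberg_value p x hx, Nat.card_eq_fintype_card, hq]
  set P := (x : Matrix (Fin n) (Fin n) F).charpoly with hP
  have hne : P ≠ 0 := (Matrix.charpoly_monic _).ne_zero
  set s := UniqueFactorizationMonoid.normalizedFactors P with hs
  have h0 : (0 : Polynomial F) ∉ s := UniqueFactorizationMonoid.zero_notMem_normalizedFactors P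
  have hprod : s.prod.natDegree = n := by
    have hassoc := UniqueFactorizationMonoid.prod_normalizedFactors hne
    rw [Polynomial.natDegree_eq_of_degree_eq (Polynomial.degree_eq_degree_of_associated hassoc), hP,
      Matrix.charpoly_natDegree_eq_dim, Fintype.card_fin]
  have hn : n = ∑ f ∈ s.toFinset, s.count f * f.natDegree := by
    rw [← hprod, Polynomial.natDegree_multiset_prod s h0, Finset.sum_multiset_map_count]
    simp
  rw [show ((-1 : ℂ)) ^ n = ∏ f ∈ s.toFinset, (-1 : ℂ) ^ (s.count f * f.natDegree) by
    rw [Finset.prod_pow_eq_pow_sum, ← hn], CfsgLib.CharsMore.St.Mobius.weight, ← Finset.prod_mul_distrib]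
  refine Finset.prod_congr (by congr!) fun f hf => ?_
  have hirr := UniqueFactorizationMonoid.irreducible_of_normalized_factor f (Multiset.mem_toFinset.1 hf)
  have hd : 1 ≤ f.natDegree := hirr.natDegree_pos
  obtain ⟨d, hd'⟩ := Nat.exists_eq_add_of_le hd
  have e1 : (s.count f * f.natDegree + s.count f) = (f.natDegree - 1) * s.count f + 2 * s.count f := by
    rw [hd']; simp; ring
  have e2 : f.natDegree * (s.count f).choose 2 = f.natDegree * s.count f * (s.count f - 1) / 2 := by
    rw [Nat.choose_two_right, mul_assoc, ← Nat.mul_div_assoc]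
    exact (Nat.even_mul_pred_self _).two_dvd
  rw [← mul_assoc, ← pow_add, e1, pow_add, show (-1 : ℂ) ^ (2 * s.count f) = 1 by simp [pow_mul],
    mul_one, ← e2, Nat.cast_pow, ← pow_mul]

end Cfsg.Agent.S2425
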