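import Cfsg.Statements.S2428
import Mathlib
-- import your own Cfsg.Agent.* helpers here

set_option autoImplicit false
open Cfsg

namespace Cfsg.Agent.S2428

/-- Let F be a finite field with q elements, q odd, and let d be a diagonal element of SL₂ over F whose diagonal entry a has a² ≠ 1 (such d exist exactly when q > 3). Then the centraliser of d is precisely the diagonal subgroup T; the normaliser of T has order 2(q − 1) and exactly (q + 5)/2 conjugacy classes; and every element of that normaliser outside T has square equal to −1. -/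
theorem result {F : Type*} [Field F] [Fintype F] (hodd : Odd (Fintype.card F))
    (d : Matrix.SpecialLinearGroup (Fin 2) F) (hd01 : (d : Matrix (Fin 2) (Fin 2) F) 0 1 = 0) (hd10 : (d : Matrix (Fin 2) (Fin 2) F) 1 0 = 0) (hda : (d : Matrix (Fin 2) (Fin 2) F) 0 0 ^ 2 ≠ 1) :
    (∀ g : Matrix.SpecialLinearGroup (Fin 2) F, g ∈ Subgroup.centralizer ({d} : Set (Matrix.SpecialLinearGroup (Fin 2) F)) ↔ ((g : Matrix (Fin 2) (Fin 2) F) 0 1 = 0 ∧ (g : Matrix (Fin 2) (Fin 2) F) 1 0 = 0)) ∧
    Nat.card (Subgroup.normalizer ((Subgroup.centralizer ({d} : Set (Matrix.SpecialLinearGroup (Fin 2) F))) : Set (Matrix.SpecialLinearGroup (Fin 2) F))) = 2 * (Fintype.card F - 1) ∧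
    Nat.card (ConjClasses (Subgroup.normalizer ((Subgroup.centralizer ({d} : Set (Matrix.SpecialLinearGroup (Fin 2) F))) : Set (Matrix.SpecialLinearGroup (Fin 2) F)))) = (Fintype.card F + 5) / 2 ∧
    ∀ g : Matrix.SpecialLinearGroup (Fin 2) F, g ∈ Subgroup.normalizer ((Subgroup.centralizer ({d} : Set (Matrix.SpecialLinearGroup (Fin 2) F))) : Set (Matrix.SpecialLinearGroup (Fin 2) F)) →
      g ∉ Subgroup.centralizer ({d} : Set (Matrix.SpecialLinearGroup (Fin 2) F)) → ((g * g) : Matrix (Fin 2) (Fin 2) F) = -1 := by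
  classical
  set a := (d : Matrix (Fin 2) (Fin 2) F) 0 0 with ha
  have hdet : a * d.1 1 1 = 1 := by
    have := d.2
    rwa [Matrix.det_fin_two, hd01, zero_mul, sub_zero] at this
  have hdd : a ≠ d.1 1 1 := fun h => hda (by rw [pow_two]; nth_rewrite 2 [h]; exact hdet)
  have h2 : (2 : F) ≠ 0 := Ring.two_ne_zero (fun h => by
    have := FiniteField.even_card_iff_char_two.1 h
    rw [Nat.odd_iff] at hodd
    omega)
  set T := Subgroup.centralizer ({d} : Set (Matrix.SpecialLinearGroup (Fin 2) F)) with hT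
  have hTiff : ∀ g : Matrix.SpecialLinearGroup (Fin 2) F, g ∈ T ↔ g.1 0 1 = 0 ∧ g.1 1 0 = 0 := by
    intro g
    rw [hT, Subgroup.mem_centralizer_singleton_iff]
    constructor
    · intro h
      have h01 := congrArg (fun x : Matrix.SpecialLinearGroup (Fin 2) F => x.1 0 1) h
      have h10 := congrArg (fun x : Matrix.SpecialLinearGroup (Fin 2) F => x.1 1 0) h
      simp [Matrix.mul_apply, Fin.sum_univ_two, hd01, hd10] at h01 h10
      have hne : d.1 1 1 - a ≠ 0 := sub_ne_zero.2 (Ne.symm hdd)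
      exact ⟨(mul_eq_zero.1 (show g.1 0 1 * (d.1 1 1 - a) = 0 by rw [ha]; linear_combination h01)).resolve_right hne,
        (mul_eq_zero.1 (show g.1 1 0 * (d.1 1 1 - a) = 0 by rw [ha]; linear_combination -h10)).resolve_right hne⟩
    · rintro ⟨h01, h10⟩
      apply Subtype.ext
      ext i j
      fin_cases i <;> fin_cases j <;> simp [Matrix.mul_apply, Fin.sum_univ_two, hd01, hd10, h01, h10, mul_comm]
  set N := Subgroup.normalizer (T : Set (Matrix.SpecialLinearGroup (Fin 2) F)) with hN
  have hNiff : ∀ g : Matrix.SpecialLinearGroup (Fin 2) F, g ∈ N ↔ (g.1 0 1 = 0 ∧ g.1 1 0 = 0) ∨ (g.1 0 0 = 0 ∧ g.1 1 1 = 0) := by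
    intro g
    constructor
    · intro h
      have hgd : g * d * g⁻¹ ∈ T := (Subgroup.mem_normalizer_iff.1 h d).1 ((hTiff d).2 ⟨hd01, hd10⟩)
      obtain ⟨h01, h10⟩ := (hTiff _).1 hgd
      simp [Matrix.mul_apply, Fin.sum_univ_two, hd01, hd10, Matrix.SpecialLinearGroup.coe_inv, Matrix.adjugate_fin_two] at h01 h10
      have hne : d.1 1 1 - a ≠ 0 := sub_ne_zero.2 (Ne.symm hdd)
      have e1 : g.1 0 0 * g.1 0 1 = 0 := (mul_eq_zero.1 (show g.1 0 0 * g.1 0 1 * (d.1 1 1 - a) = 0 by rw [ha]; linear_combination h01)).resolve_right hne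
      have e2 : g.1 1 0 * g.1 1 1 = 0 := (mul_eq_zero.1 (show g.1 1 0 * g.1 1 1 * (d.1 1 1 - a) = 0 by rw [ha]; linear_combination -h10)).resolve_right hne
      have hg := g.2
      rw [Matrix.det_fin_two] at hg
      rcases mul_eq_zero.1 e1 with z | z
      · refine Or.inr ⟨z, (mul_eq_zero.1 e2).resolve_left fun z' => ?_⟩
        simp [z, z'] at hg
      · refine Or.inl ⟨z, (mul_eq_zero.1 e2).resolve_right fun z' => ?_⟩
        simp [z, z'] at hg
    · intro h
      rw [hN, Subgroup.mem_normalizer_iff]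
      have key : ∀ g : Matrix.SpecialLinearGroup (Fin 2) F, ((g.1 0 1 = 0 ∧ g.1 1 0 = 0) ∨ (g.1 0 0 = 0 ∧ g.1 1 1 = 0)) → ∀ x, x ∈ T → g * x * g⁻¹ ∈ T := by
        intro g hg x hx
        rw [hTiff] at hx ⊢
        rcases hg with ⟨z1, z2⟩ | ⟨z1, z2⟩ <;>
          simp [Matrix.mul_apply, Fin.sum_univ_two, hx.1, hx.2, z1, z2, Matrix.SpecialLinearGroup.coe_inv, Matrix.adjugate_fin_two]
      intro x
      refine ⟨key g h x, fun hx => ?_⟩
      have hinv := key g⁻¹ (by
        rcases h with ⟨z1, z2⟩ | ⟨z1, z2⟩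
        · left; simp [Matrix.SpecialLinearGroup.coe_inv, Matrix.adjugate_fin_two, z1, z2]
        · right; simp [Matrix.SpecialLinearGroup.coe_inv, Matrix.adjugate_fin_two, z1, z2]) _ hx
      simpa [mul_assoc] using hinv
  let mD : Fˣ → N := fun u => ⟨⟨!![(u : F), 0; 0, (↑u⁻¹ : F)], by simp [Matrix.det_fin_two]⟩, (hNiff _).2 (Or.inl (by simp))⟩
  let mA : Fˣ → N := fun u => ⟨⟨!![0, (u : F); -(↑u⁻¹ : F), 0], by simp [Matrix.det_fin_two]⟩, (hNiff _).2 (Or.inr (by simp))⟩
  let φ : Fˣ ⊕ Fˣ → N := Sum.elim mD mA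
  have hφ : Function.Bijective φ := by
    constructor
    · rintro (u | u) (v | v) h <;> have h' := congrArg (fun x : N => x.1.1) h <;> simp [φ, mD, mA] at h'
      · rw [Units.ext h']
      · rw [Units.ext h']
    · intro g
      have hg := g.1.2
      rw [Matrix.det_fin_two] at hg
      rcases (hNiff g.1).1 g.2 with ⟨z1, z2⟩ | ⟨z1, z2⟩
      · rw [z1, zero_mul, sub_zero] at hg
        refine ⟨Sum.inl ⟨g.1.1 0 0, g.1.1 1 1, hg, by rw [mul_comm]; exact hg⟩, ?_⟩
        apply Subtype.ext; apply Subtype.ext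
        ext i j
        fin_cases i <;> fin_cases j <;> simp [φ, mD, z1, z2]
        exact inv_eq_of_mul_eq_one_right hg
      · rw [z1, zero_mul, zero_sub] at hg
        refine ⟨Sum.inr ⟨g.1.1 0 1, -g.1.1 1 0, by linear_combination hg, by linear_combination hg⟩, ?_⟩
        apply Subtype.ext; apply Subtype.ext
        ext i j
        fin_cases i <;> fin_cases j <;> simp [φ, mA, z1, z2]
        rw [neg_eq_iff_eq_neg]
        exact inv_eq_of_mul_eq_one_right (by linear_combination hg)
  set q := Fintype.card F with hq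
  have hU : Nat.card Fˣ = q - 1 := by rw [Nat.card_units, Nat.card_eq_fintype_card]
  have hNc : Nat.card N = 2 * (q - 1) := by
    rw [← Nat.card_eq_of_bijective φ hφ, Nat.card_sum, hU, two_mul]
  refine ⟨hTiff, hNc, ?_, ?_⟩
  · have hq3 : 3 ≤ q := by
      have := Fintype.one_lt_card (α := F)
      rw [Nat.odd_iff] at hodd
      omega
    have mm : ∀ x y : N, (x * y).1.1 = x.1.1 * y.1.1 := fun _ _ => rfl
    have hDD : ∀ u v, Commute (mD u) (mD v) := fun u v => by
      apply Subtype.ext; apply Subtype.ext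
      rw [mm, mm]
      ext i j
      fin_cases i <;> fin_cases j <;> simp [mD, Matrix.mul_apply, Fin.sum_univ_two, mul_comm]
    have hsq : ∀ u : Fˣ, ((u : F) = (↑u⁻¹ : F)) ↔ u ∈ ({1, -1} : Finset Fˣ) := fun u => by
      simp only [Finset.mem_insert, Finset.mem_singleton]
      constructor
      · intro h
        have h' : (u : F) * u = 1 := by nth_rewrite 2 [h]; exact u.mul_inv
        rcases mul_self_eq_one_iff.1 h' with h1 | h1
        · exact Or.inl (Units.ext h1)
        · exact Or.inr (Units.ext (by simpa using h1))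
      · rintro (rfl | rfl) <;> simp
    have hDA : ∀ u v, Commute (mD u) (mA v) ↔ u ∈ ({1, -1} : Finset Fˣ) := fun u v => by
      rw [← hsq]
      constructor
      · intro h
        have h1 : (mD u * mA v).1.1 0 1 = (mA v * mD u).1.1 0 1 := congrArg (fun x : N => x.1.1 0 1) h
        rw [mm, mm] at h1
        simp [mD, mA, Matrix.mul_apply, Fin.sum_univ_two] at h1
        exact mul_right_cancel₀ v.ne_zero (by simp only [Units.val_inv_eq_inv_val]; linear_combination h1)
      · intro h
        apply Subtype.ext; apply Subtype.ext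
        rw [mm, mm]
        ext i j
        fin_cases i <;> fin_cases j <;> simp [mD, mA, Matrix.mul_apply, Fin.sum_univ_two] <;> simp only [Units.val_inv_eq_inv_val] at h <;> first | linear_combination (v : F) * h | linear_combination (v : F)⁻¹ * h | linear_combination -(v : F)⁻¹ * h
    have hAA : ∀ u v, Commute (mA u) (mA v) ↔ u * v⁻¹ ∈ ({1, -1} : Finset Fˣ) := fun u v => by
      rw [← hsq]
      constructor
      · intro h
        have h1 : (mA u * mA v).1.1 0 0 = (mA v * mA u).1.1 0 0 := congrArg (fun x : N => x.1.1 0 0) h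
        rw [mm, mm] at h1
        simp [mA, Matrix.mul_apply, Fin.sum_univ_two] at h1
        simp [mul_inv_rev]
        linear_combination h1
      · intro h
        apply Subtype.ext; apply Subtype.ext
        rw [mm, mm]
        ext i j
        simp [mul_inv_rev] at h
        fin_cases i <;> fin_cases j <;> simp [mA, Matrix.mul_apply, Fin.sum_univ_two] <;> first | linear_combination h | linear_combination -h
    have hAD : ∀ u v, Commute (mA u) (mD v) ↔ v ∈ ({1, -1} : Finset Fˣ) := fun u v =>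
      ⟨fun h => (hDA v u).1 h.symm, fun h => ((hDA v u).2 h).symm⟩
    let ψ := Equiv.ofBijective φ hφ
    have h12 : (1 : Fˣ) ≠ -1 := fun h => h2 (by
      have := congrArg Units.val h
      simp at this
      linear_combination this)
    have hpm : ({1, -1} : Finset Fˣ).card = 2 := Finset.card_pair h12
    have hcnt : Nat.card {p : N × N // Commute p.1 p.2} = (q - 1) * (q - 1) + 2 * (q - 1) + 2 * (q - 1) + 2 * (q - 1) := by
      rw [← Nat.card_congr (Equiv.subtypeEquiv (Equiv.prodCongr ψ ψ) (p := fun p => Commute (φ p.1) (φ p.2)) (fun p => Iff.rfl))]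
      rw [Nat.card_eq_fintype_card, Fintype.card_subtype, Finset.card_filter, ← Finset.univ_product_univ, Finset.sum_product, Fintype.sum_sum_type]
      simp only [Fintype.sum_sum_type, φ, Sum.elim_inl, Sum.elim_inr, hDD, hDA, hAA, hAD, if_true]
      rw [Finset.sum_add_distrib, Finset.sum_add_distrib]
      have hcu : Fintype.card Fˣ = q - 1 := by rw [← Nat.card_eq_fintype_card, hU]
      have h1 : ∑ u : Fˣ, ∑ _v : Fˣ, 1 = (q - 1) * (q - 1) := by simp [hcu]
      have h2 : ∑ u : Fˣ, ∑ _v : Fˣ, (if u ∈ ({1, -1} : Finset Fˣ) then 1 else 0) = 2 * (q - 1) := by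
        rw [Finset.sum_comm]
        simp only [Finset.sum_boole, Nat.cast_id, Finset.filter_univ_mem, hpm]
        simp [hcu, mul_comm]
      have h3 : ∑ _u : Fˣ, ∑ v : Fˣ, (if v ∈ ({1, -1} : Finset Fˣ) then 1 else 0) = 2 * (q - 1) := by
        simp only [Finset.sum_boole, Nat.cast_id, Finset.filter_univ_mem, hpm]
        simp [hcu, mul_comm]
      have h4 : ∑ u : Fˣ, ∑ v : Fˣ, (if u * v⁻¹ ∈ ({1, -1} : Finset Fˣ) then 1 else 0) = 2 * (q - 1) := by
        have : ∀ u : Fˣ, (∑ v : Fˣ, if u * v⁻¹ ∈ ({1, -1} : Finset Fˣ) then 1 else 0) = 2 := fun u => by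
          rw [← Equiv.sum_comp (Equiv.inv Fˣ) _]
          simp only [Equiv.inv_apply, inv_inv]
          rw [← Equiv.sum_comp (Equiv.mulLeft u⁻¹) _]
          simp only [Equiv.coe_mulLeft, mul_inv_cancel_left]
          simp only [Finset.sum_boole, Nat.cast_id, Finset.filter_univ_mem, hpm]
        rw [Finset.sum_congr rfl (fun u _ => this u)]
        simp [hcu, mul_comm]
      rw [h1, h2, h3, h4]
      ring
    have hkey := card_comm_eq_card_conjClasses_mul_card N
    rw [hcnt, hNc] at hkey
    obtain ⟨k, hk⟩ : ∃ k, q = 2 * k + 3 := ⟨(q - 3) / 2, by rw [Nat.odd_iff] at hodd; omega⟩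
    have hgoal : Nat.card (ConjClasses N) = k + 4 := by
      rw [hk] at hkey
      simp only [show 2 * k + 3 - 1 = 2 * k + 2 by omega] at hkey
      apply Nat.eq_of_mul_eq_mul_right (show 0 < 2 * (2 * k + 2) by omega)
      rw [← hkey]; ring
    rw [hgoal]
    omega
  · intro g hg hgT
    rcases (hNiff g).1 hg with h | ⟨z1, z2⟩
    · exact absurd ((hTiff g).2 h) hgT
    · have hdg := g.2
      rw [Matrix.det_fin_two, z1, zero_mul, zero_sub] at hdg
      ext i j
      fin_cases i <;> fin_cases j <;> simp [Matrix.mul_apply, Fin.sum_univ_two, z1, z2] <;> linear_combination -hdg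

end Cfsg.Agent.S2428
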