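import Cfsg.Statements.S2429
import Cfsg.Agent.Lib.Involutions.SLTwoSylow

set_option autoImplicit false
open Cfsg

namespace Cfsg.Agent.S2429

open CfsgLib.GLTwo CfsgLib.Involutions.SLTwoTori CfsgLib.KnownB.SL2Sizes

/-- Let F be a finite field with q elements, q odd. Then SL₂ over F contains a cyclic subgroup T′ of order q + 1 (a non-split torus) with the following properties: T′ is its own centraliser, and indeed the centraliser of each element of T′ other than 1 and −1 is exactly T′; every element of SL₂ having no eigenvector in F² is conjugate to an element of T′; the normaliser of T′ has order 2(q + 1) and exactly (q + 7)/2 conjugacy classes; and every element of that normaliser outside T′ has square −1. -/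
theorem result {F : Type*} [Field F] [Fintype F] (hodd : Odd (Fintype.card F)) :
    ∃ T' : Subgroup (Matrix.SpecialLinearGroup (Fin 2) F), IsCyclic T' ∧ Nat.card T' = Fintype.card F + 1 ∧
      Subgroup.centralizer ((T' : Set (Matrix.SpecialLinearGroup (Fin 2) F))) = T' ∧
      (∀ g : Matrix.SpecialLinearGroup (Fin 2) F, g ∈ T' → (g : Matrix (Fin 2) (Fin 2) F) ≠ 1 → (g : Matrix (Fin 2) (Fin 2) F) ≠ -1 → Subgroup.centralizer ({g} : Set (Matrix.SpecialLinearGroup (Fin 2) F)) = T') ∧
      (∀ g : Matrix.SpecialLinearGroup (Fin 2) F, (∀ (c : F) (v : Fin 2 → F), v ≠ 0 → (g : Matrix (Fin 2) (Fin 2) F).mulVec v ≠ c • v) → ∃ h : Matrix.SpecialLinearGroup (Fin 2) F, h * g * h⁻¹ ∈ T') ∧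
      Nat.card (Subgroup.normalizer (T' : Set (Matrix.SpecialLinearGroup (Fin 2) F))) = 2 * (Fintype.card F + 1) ∧
      Nat.card (ConjClasses (Subgroup.normalizer (T' : Set (Matrix.SpecialLinearGroup (Fin 2) F)))) = (Fintype.card F + 7) / 2 ∧
      ∀ g : Matrix.SpecialLinearGroup (Fin 2) F, g ∈ Subgroup.normalizer (T' : Set (Matrix.SpecialLinearGroup (Fin 2) F)) → g ∉ T' → ((g * g) : Matrix (Fin 2) (Fin 2) F) = -1 := by
  classical
  obtain ⟨t, ht0⟩ := exists_nonsplit_trace (F := F)
  obtain ⟨g₀, htr, hg₀⟩ := exists_trace t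
  have hs : ¬ Split (g₀ : Matrix (Fin 2) (Fin 2) F).trace := htr.symm ▸ ht0
  have ht := trace_sq_ne_four hodd hs
  have hk := card_centralizer_nonsplit hodd hs
  obtain ⟨hN, hcl⟩ := torus_normalizer hodd ht
  refine ⟨Subgroup.centralizer {g₀}, isCyclic_torus ht, hk, ?_, ?_, ?_, by rw [hN, hk], ?_, ?_⟩
  · refine le_antisymm (fun y hy => ?_) (fun y hy => Subgroup.mem_centralizer_iff.2 fun z hz => centralizer_comm hg₀ hz hy)
    exact Subgroup.mem_centralizer_singleton_iff.2
      (Subgroup.mem_centralizer_iff.1 hy g₀ (Subgroup.mem_centralizer_singleton_iff.2 rfl)).symm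
  · intro g hg h1 hm1
    refine centralizer_eq_of_mem hg₀ hg fun hsc => ?_
    rcases scalar_eq hsc with rfl | rfl
    · exact h1 rfl
    · exact hm1 (by simp)
  · intro g hg
    have hgs := nonsplit_of_no_eigenvector hg
    obtain ⟨z, hz, hzt⟩ := exists_mem_trace hodd hs hgs
    have ht' := trace_sq_ne_four hodd hgs
    obtain ⟨c, hc⟩ := isConj_iff.1 (sl_isConj_of_norm_surj (h := z) (not_scalar_of_trace_sq ht')
      (not_scalar_of_trace_sq (hzt.symm ▸ ht')) hzt.symm (norm_surj_odd (ringChar_ne_two hodd) ht'))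
    exact ⟨c, hc.symm ▸ hz⟩
  · rw [hk] at hcl
    rw [Nat.odd_iff] at hodd
    omega
  · intro g hg hgT
    rcases conj_cases hodd ht hg with h | h
    · exact absurd (mem_centralizer_iff_conj.2 h) hgT
    · rw [← Matrix.SpecialLinearGroup.coe_mul, (inverting_sq hodd ht h).2]; simp

end Cfsg.Agent.S2429
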