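import Cfsg.Statements.S2434
import Cfsg.Agent.Lib.CharsMore.TwoByTwo.Cusp
import Mathlib

set_option autoImplicit false
set_option linter.style.haveILetI false
open Cfsg

namespace Cfsg.Agent.S2434

open CfsgLib.CharsMore.TwoByTwo


/-- Let F be a finite field with q elements, q odd, and C a cyclic subgroup of order q + 1 of SL₂ over F (a non-split torus; it contains the centre). For every homomorphism θ from C to the non-zero complex numbers with θ² ≠ 1 there is an irreducible complex character χ of degree q − 1 such that χ(c) = −θ(c) − θ(c)⁻¹ for every non-central c in C, χ(zg) = θ(z)χ(g) for central z in C, χ vanishes at diagonal elements with entry a, a² ≠ 1, and χ takes the value −1 at every upper unitriangular element other than 1. Conversely every irreducible character of degree q − 1 has, for some such θ, the values −θ(c) − θ(c)⁻¹ at the non-central elements c of C (for q ≥ 5 these are exactly the cuspidal characters of degree q − 1). -/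
theorem result {F : Type*} [Field F] [Fintype F] (hodd : Odd (Fintype.card F))
    (C : Subgroup (Matrix.SpecialLinearGroup (Fin 2) F)) (hC : IsCyclic C) (hcard : Nat.card C = Fintype.card F + 1) :
    (∀ θ : C →* ℂˣ, (∃ c : C, θ c ^ 2 ≠ 1) →
      ∃ χ : Matrix.SpecialLinearGroup (Fin 2) F → ℂ, Cfsg.IsIrrCharacter (Matrix.SpecialLinearGroup (Fin 2) F) χ ∧ χ 1 = (Fintype.card F : ℂ) - 1 ∧
        (∀ c : C, (c : Matrix.SpecialLinearGroup (Fin 2) F) ∉ Subgroup.center (Matrix.SpecialLinearGroup (Fin 2) F) → χ c = -((θ c).val + (θ c)⁻¹.val)) ∧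
        (∀ c : C, (c : Matrix.SpecialLinearGroup (Fin 2) F) ∈ Subgroup.center (Matrix.SpecialLinearGroup (Fin 2) F) → ∀ g : Matrix.SpecialLinearGroup (Fin 2) F, χ ((c : Matrix.SpecialLinearGroup (Fin 2) F) * g) = (θ c).val * χ g) ∧
        (∀ g : Matrix.SpecialLinearGroup (Fin 2) F, (g : Matrix (Fin 2) (Fin 2) F) 0 1 = 0 → (g : Matrix (Fin 2) (Fin 2) F) 1 0 = 0 → (g : Matrix (Fin 2) (Fin 2) F) 0 0 ^ 2 ≠ 1 → χ g = 0) ∧
        (∀ g : Matrix.SpecialLinearGroup (Fin 2) F, (g : Matrix (Fin 2) (Fin 2) F) 1 0 = 0 → (g : Matrix (Fin 2) (Fin 2) F) 0 0 = 1 → (g : Matrix (Fin 2) (Fin 2) F) 1 1 = 1 → (g : Matrix (Fin 2) (Fin 2) F) 0 1 ≠ 0 → χ g = -1)) ∧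
    (∀ χ : Matrix.SpecialLinearGroup (Fin 2) F → ℂ, Cfsg.IsIrrCharacter (Matrix.SpecialLinearGroup (Fin 2) F) χ → χ 1 = (Fintype.card F : ℂ) - 1 →
      ∃ θ : C →* ℂˣ, (∃ c : C, θ c ^ 2 ≠ 1) ∧
        ∀ c : C, (c : Matrix.SpecialLinearGroup (Fin 2) F) ∉ Subgroup.center (Matrix.SpecialLinearGroup (Fin 2) F) → χ c = -((θ c).val + (θ c)⁻¹.val)) := by
  classical
  refine ⟨fun θ hθ => ?_, fun χ hχ h1 => ?_⟩
  · obtain ⟨α, hl⟩ := exists_linked hodd hC hcard θ
    have hirr := isIrr_cuspFun hodd hC hcard hl hθ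
    refine ⟨cuspFun C α θ, hirr, cuspFun_one hodd hC hcard hl,
      fun c hc => cuspFun_elliptic hodd hC hcard α θ c hc, fun c hc g => ?_,
      fun g h01 h10 ha => cuspFun_diag hodd hC hcard α θ h01 h10 ha, fun g h10 h00 h11 h01 => ?_⟩
    · obtain ⟨n, ρ, hρ, he⟩ := hirr
      obtain ⟨s, hs⟩ := CfsgLib.Chars.exists_scalar_of_mem_center ρ (c : Matrix.SpecialLinearGroup (Fin 2) F) hc
      have hmul : ∀ x, ρ.character ((c : Matrix.SpecialLinearGroup (Fin 2) F) * x) = s * ρ.character x := fun x => by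
        rw [Representation.character, map_mul, hs, ← Module.End.one_eq_id, smul_mul_assoc, one_mul, map_smul,
          smul_eq_mul]; rfl
      have hz := hmul 1
      rw [mul_one, he, cuspFun_central hodd hC hcard hl c hc, cuspFun_one hodd hC hcard hl] at hz
      have hne : (Fintype.card F : ℂ) - 1 ≠ 0 :=
        sub_ne_zero.2 (by exact_mod_cast (Fintype.one_lt_card (α := F)).ne')
      rw [← he, hmul g, ← mul_left_cancel₀ hne (hz.trans (mul_comm _ _))]
    · have e : g = uSL ((g : Matrix (Fin 2) (Fin 2) F) 0 1) := by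
        refine Subtype.ext ?_
        ext i j
        fin_cases i <;> fin_cases j <;> simp [coe_uSL, h10, h00, h11]
      rw [e]
      exact cuspFun_uSL hodd hC hcard α θ h01
  · obtain ⟨μ, hμ⟩ := exists_faithful hC hcard
    have hq := two_lt_card_of_odd hodd
    obtain ⟨j, hj⟩ := id hodd
    let χ' : IrrCharacter (Matrix.SpecialLinearGroup (Fin 2) F) := ⟨χ, hχ⟩
    have hd : charDegree χ = Fintype.card F - 1 := deg_eq_of_val (χ := χ') (by
      show χ 1 = _
      rw [h1]; push_cast [(by omega : 1 ≤ Fintype.card F)]; rfl)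
    rcases sl_cases_odd hodd χ' with h | h | h | h | h
    · rw [show χ = ((CfsgLib.Chars.principal _ : IrrCharacter (Matrix.SpecialLinearGroup (Fin 2) F)) : _ → ℂ)
        from congrArg Subtype.val h, deg_principal] at hd
      omega
    · rw [show χ = ((stIrrSL : IrrCharacter (Matrix.SpecialLinearGroup (Fin 2) F)) : _ → ℂ)
        from congrArg Subtype.val h, deg_stIrrSL] at hd
      omega
    · have := deg_pSetSL h
      change charDegree χ = _ at this
      omega
    · exact exists_theta_of_three hodd hC hcard h (by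
        have := (of_mem_hSetSL hodd h).2
        change 2 * charDegree χ = _ at this
        omega)
    · obtain ⟨α, θ, -, hθ, e⟩ := (torus_table hodd hC hcard μ hμ).1 χ' (by simp [cBigSL, h, χ', hd])
      exact ⟨θ, hθ, fun c hc => (congrFun e _).trans (cuspFun_elliptic hodd hC hcard α θ c hc)⟩

end Cfsg.Agent.S2434
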