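import Cfsg.Statements.S2435
import Cfsg.Agent.Lib.CharsMore.TwoByTwo.Cusp
import Mathlib

set_option autoImplicit false
set_option linter.style.haveILetI false
open Cfsg

namespace Cfsg.Agent.S2435

open CfsgLib.CharsMore.TwoByTwo


/-- Let F be a finite field with q elements, q odd and q ≥ 5, and χ an irreducible complex character of SL₂ over F. If χ has degree (q + 1)/2, then at a diagonal element with entry a, a² ≠ 1, χ takes the value 1 when a is a square in F and −1 otherwise. If χ has degree (q − 1)/2, then at an element g with no eigenvector in F² (so g has order dividing q + 1), χ takes the value −1 when g raised to the power (q + 1)/2 is the identity and the value 1 otherwise. -/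
theorem result {F : Type*} [Field F] [Fintype F] (hodd : Odd (Fintype.card F)) (hq : 5 ≤ Fintype.card F)
    (χ : Matrix.SpecialLinearGroup (Fin 2) F → ℂ) (hχ : Cfsg.IsIrrCharacter (Matrix.SpecialLinearGroup (Fin 2) F) χ) (g : Matrix.SpecialLinearGroup (Fin 2) F) :
    (χ 1 = (((Fintype.card F + 1) / 2 : ℕ) : ℂ) → (g : Matrix (Fin 2) (Fin 2) F) 0 1 = 0 → (g : Matrix (Fin 2) (Fin 2) F) 1 0 = 0 → (g : Matrix (Fin 2) (Fin 2) F) 0 0 ^ 2 ≠ 1 →
      (IsSquare ((g : Matrix (Fin 2) (Fin 2) F) 0 0) → χ g = 1) ∧ (¬ IsSquare ((g : Matrix (Fin 2) (Fin 2) F) 0 0) → χ g = -1)) ∧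
    (χ 1 = (((Fintype.card F - 1) / 2 : ℕ) : ℂ) → (∀ (c : F) (v : Fin 2 → F), v ≠ 0 → (g : Matrix (Fin 2) (Fin 2) F).mulVec v ≠ c • v) →
      (((g ^ ((Fintype.card F + 1) / 2)) : Matrix (Fin 2) (Fin 2) F) = 1 → χ g = -1) ∧ (((g ^ ((Fintype.card F + 1) / 2)) : Matrix (Fin 2) (Fin 2) F) ≠ 1 → χ g = 1)) := by
  classical
  obtain ⟨j, hj⟩ := id hodd
  let χ' : IrrCharacter (Matrix.SpecialLinearGroup (Fin 2) F) := ⟨χ, hχ⟩
  refine ⟨fun h1 h01 h10 ha => ?_, fun h1 hg => ?_⟩
  · have hd : charDegree χ = (Fintype.card F + 1) / 2 := deg_eq_of_val (χ := χ') h1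
    have hh : χ' ∈ hSetSL := by
      rcases sl_cases_odd hodd χ' with h | h | h | h | h
      · rw [show χ = ((CfsgLib.Chars.principal _ : IrrCharacter (Matrix.SpecialLinearGroup (Fin 2) F)) : _ → ℂ)
          from congrArg Subtype.val h, deg_principal] at hd
        omega
      · rw [show χ = ((stIrrSL : IrrCharacter (Matrix.SpecialLinearGroup (Fin 2) F)) : _ → ℂ)
          from congrArg Subtype.val h, deg_stIrrSL] at hd
        omega
      · have := deg_pSetSL h
        change charDegree χ = _ at this
        omega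
      · exact h
      · have := deg_cSetSL_odd hodd h
        change charDegree χ = _ ∨ 2 * charDegree χ = _ at this
        omega
    have hv : χ g = etaC F ((g : Matrix (Fin 2) (Fin 2) F) 0 0) :=
      half_apply_diag hodd hh g h01 h10 ha
    have h0 : (g : Matrix (Fin 2) (Fin 2) F) 0 0 ≠ 0 := by
      have := diag_mul ⟨g, mem_borelSL.2 h10⟩
      exact left_ne_zero_of_mul_eq_one this
    exact ⟨fun hs => by rw [hv, etaC_of_isSquare h0 hs], fun hs => by rw [hv, etaC_of_not_isSquare hs]⟩
  · have hd : charDegree χ = (Fintype.card F - 1) / 2 := deg_eq_of_val (χ := χ') h1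
    have hh : χ' ∈ cHalfSL := by
      rcases sl_cases_odd hodd χ' with h | h | h | h | h
      · rw [show χ = ((CfsgLib.Chars.principal _ : IrrCharacter (Matrix.SpecialLinearGroup (Fin 2) F)) : _ → ℂ)
          from congrArg Subtype.val h, deg_principal] at hd
        omega
      · rw [show χ = ((stIrrSL : IrrCharacter (Matrix.SpecialLinearGroup (Fin 2) F)) : _ → ℂ)
          from congrArg Subtype.val h, deg_stIrrSL] at hd
        omega
      · have := deg_pSetSL h
        change charDegree χ = _ at this
        omega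
      · have := (of_mem_hSetSL hodd h).2
        change 2 * charDegree χ = _ at this
        omega
      · have hne : ¬ charDegree χ = Fintype.card F - 1 := by omega
        simp [cHalfSL, h, χ', hne]
    obtain ⟨T, hT, hTc, hgT⟩ := exists_torus hodd (g := g) hg
    obtain ⟨μ, hμ⟩ := exists_faithful hT hTc
    have hz : g ∉ Subgroup.center (Matrix.SpecialLinearGroup (Fin 2) F) := fun h =>
      not_elliptic_of_isScalar (mem_center_sl.1 h) hg
    have hv := cHalfSL_apply hodd hT hTc μ hμ hh ⟨g, hgT⟩ hz
    change χ g = _ at hv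
    rw [← Units.val_pow_eq_pow_val, ← map_pow] at hv
    set x : T := ⟨g, hgT⟩ ^ ((Fintype.card F + 1) / 2) with hx
    have hx2 : (μ x : ℂ) * (μ x : ℂ) = 1 := by
      rw [← Units.val_mul, ← map_mul, hx, ← pow_add,
        show (Fintype.card F + 1) / 2 + (Fintype.card F + 1) / 2 = Nat.card T by omega, pow_card_eq_one', map_one,
        Units.val_one]
    have hiff : x = 1 ↔ ((g : Matrix (Fin 2) (Fin 2) F) ^ ((Fintype.card F + 1) / 2)) = 1 := by
      rw [hx, ← Matrix.SpecialLinearGroup.coe_pow, ← Matrix.SpecialLinearGroup.coe_one]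
      constructor
      · intro h; exact congrArg (fun y : T => ((y : Matrix.SpecialLinearGroup (Fin 2) F) : Matrix (Fin 2) (Fin 2) F)) h
      · intro h; exact Subtype.ext (Subtype.ext h)
    refine ⟨fun h => ?_, fun h => ?_⟩
    · rw [hv, hiff.2 (by simpa using h), map_one, Units.val_one]
    · rw [hv, (mul_self_eq_one_iff.1 hx2).resolve_left fun h' => h (by
        have : x = 1 := hμ (by rw [map_one]; exact Units.ext h')
        simpa using hiff.1 this), neg_neg]

end Cfsg.Agent.S2435
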