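import Cfsg.Statements.S2438
import Cfsg.Agent.Lib.CharsMore.TwoByTwo.SLOdd
import Mathlib

set_option autoImplicit false
set_option linter.style.haveILetI false
open Cfsg

namespace Cfsg.Agent.S2438

open CfsgLib.CharsMore.TwoByTwo


/-- Let F be a finite field with q elements, q odd, q ≥ 5, U the upper unitriangular subgroup of SL₂ over F, and χ an irreducible complex character. The sum of the values of χ over U equals 2q, q, 0, q, 0 according as the degree of χ is q + 1, q, q − 1, (q + 1)/2, (q − 1)/2; so among these five degrees the sum vanishes exactly for the degrees q − 1 and (q − 1)/2, i.e. the irreducible characters of those two degrees are the ones whose restriction to U does not contain the trivial character (the cuspidal characters), while those of degree q + 1, q and (q + 1)/2 are not cuspidal. -/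
theorem result {F : Type*} [Field F] [Fintype F] [DecidableEq F] (hodd : Odd (Fintype.card F)) (hq : 5 ≤ Fintype.card F)
    (χ : Matrix.SpecialLinearGroup (Fin 2) F → ℂ) (hχ : Cfsg.IsIrrCharacter (Matrix.SpecialLinearGroup (Fin 2) F) χ) :
    (χ 1 = (Fintype.card F : ℂ) + 1 →
      (∑ g : Matrix.SpecialLinearGroup (Fin 2) F, if (g : Matrix (Fin 2) (Fin 2) F) 1 0 = 0 ∧ (g : Matrix (Fin 2) (Fin 2) F) 0 0 = 1 ∧ (g : Matrix (Fin 2) (Fin 2) F) 1 1 = 1 then χ g else 0) = 2 * (Fintype.card F : ℂ)) ∧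
    (χ 1 = (Fintype.card F : ℂ) →
      (∑ g : Matrix.SpecialLinearGroup (Fin 2) F, if (g : Matrix (Fin 2) (Fin 2) F) 1 0 = 0 ∧ (g : Matrix (Fin 2) (Fin 2) F) 0 0 = 1 ∧ (g : Matrix (Fin 2) (Fin 2) F) 1 1 = 1 then χ g else 0) = (Fintype.card F : ℂ)) ∧
    (χ 1 = (Fintype.card F : ℂ) - 1 →
      (∑ g : Matrix.SpecialLinearGroup (Fin 2) F, if (g : Matrix (Fin 2) (Fin 2) F) 1 0 = 0 ∧ (g : Matrix (Fin 2) (Fin 2) F) 0 0 = 1 ∧ (g : Matrix (Fin 2) (Fin 2) F) 1 1 = 1 then χ g else 0) = 0) ∧
    (χ 1 = (((Fintype.card F + 1) / 2 : ℕ) : ℂ) →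
      (∑ g : Matrix.SpecialLinearGroup (Fin 2) F, if (g : Matrix (Fin 2) (Fin 2) F) 1 0 = 0 ∧ (g : Matrix (Fin 2) (Fin 2) F) 0 0 = 1 ∧ (g : Matrix (Fin 2) (Fin 2) F) 1 1 = 1 then χ g else 0) = (Fintype.card F : ℂ)) ∧
    (χ 1 = (((Fintype.card F - 1) / 2 : ℕ) : ℂ) →
      (∑ g : Matrix.SpecialLinearGroup (Fin 2) F, if (g : Matrix (Fin 2) (Fin 2) F) 1 0 = 0 ∧ (g : Matrix (Fin 2) (Fin 2) F) 0 0 = 1 ∧ (g : Matrix (Fin 2) (Fin 2) F) 1 1 = 1 then χ g else 0) = 0) := by
  classical
  obtain ⟨j, hj⟩ := id hodd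
  have key : (∑ g : Matrix.SpecialLinearGroup (Fin 2) F, if (g : Matrix (Fin 2) (Fin 2) F) 1 0 = 0 ∧
      (g : Matrix (Fin 2) (Fin 2) F) 0 0 = 1 ∧ (g : Matrix (Fin 2) (Fin 2) F) 1 1 = 1 then χ g else 0) = uSumSL χ :=
    sum_if_eq_uSumSL χ
  rw [key]
  let χ' : IrrCharacter (Matrix.SpecialLinearGroup (Fin 2) F) := ⟨χ, hχ⟩
  have hd : ∀ m : ℕ, χ 1 = (m : ℂ) → charDegree χ = m := fun m h => deg_eq_of_val (χ := χ') h
  have hm1 : ((Fintype.card F - 1 : ℕ) : ℂ) = (Fintype.card F : ℂ) - 1 := by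
    push_cast [(by omega : 1 ≤ Fintype.card F)]; rfl
  have hp1 : ((Fintype.card F + 1 : ℕ) : ℂ) = (Fintype.card F : ℂ) + 1 := by push_cast; rfl
  rcases sl_cases_odd hodd χ' with h | h | h | h | h
  · have hd1 : charDegree χ = 1 := by
      rw [show χ = ((CfsgLib.Chars.principal _ : IrrCharacter (Matrix.SpecialLinearGroup (Fin 2) F)) : _ → ℂ)
        from congrArg Subtype.val h]
      exact deg_principal
    refine ⟨fun e => ?_, fun e => ?_, fun e => ?_, fun e => ?_, fun e => ?_⟩ <;> exfalso <;>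
      first
      | (have := hd _ (e.trans hp1.symm); omega)
      | (have := hd _ (e.trans hm1.symm); omega)
      | (have := hd _ e; omega)
  · have hd1 : charDegree χ = Fintype.card F := by
      rw [show χ = ((stIrrSL : IrrCharacter (Matrix.SpecialLinearGroup (Fin 2) F)) : _ → ℂ)
        from congrArg Subtype.val h]
      exact deg_stIrrSL
    refine ⟨fun e => ?_, fun e => ?_, fun e => ?_, fun e => ?_, fun e => ?_⟩
    rotate_left
    · rw [show χ = stSL from congrArg Subtype.val h]; exact uSumSL_stSL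
    all_goals exfalso
    all_goals first
      | (have := hd _ (e.trans hp1.symm); omega)
      | (have := hd _ (e.trans hm1.symm); omega)
      | (have := hd _ e; omega)
  · have hd1 : charDegree χ = Fintype.card F + 1 := deg_pSetSL h
    obtain ⟨α, -, he⟩ := mem_pSetSL.1 h
    refine ⟨fun e => ?_, fun e => ?_, fun e => ?_, fun e => ?_, fun e => ?_⟩
    · rw [show χ = piSL α from he]; exact uSumSL_piSL α
    all_goals exfalso
    all_goals first
      | (have := hd _ (e.trans hp1.symm); omega)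
      | (have := hd _ (e.trans hm1.symm); omega)
      | (have := hd _ e; omega)
  · obtain ⟨h1, hd1⟩ := of_mem_hSetSL hodd h
    change 2 * charDegree χ = _ at hd1
    refine ⟨fun e => ?_, fun e => ?_, fun e => ?_, fun e => ?_, fun e => ?_⟩
    rotate_left 3
    · exact uSumSL_half hodd hχ h1
    all_goals exfalso
    all_goals first
      | (have := hd _ (e.trans hp1.symm); omega)
      | (have := hd _ (e.trans hm1.symm); omega)
      | (have := hd _ e; omega)
  · have h0 : uSumSL χ = 0 := (mem_cSetSL.1 h).uSum (CfsgLib.Chars.isClassFunction_irr χ')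
    have hd1 : charDegree χ = Fintype.card F - 1 ∨ 2 * charDegree χ = Fintype.card F - 1 := deg_cSetSL_odd hodd h
    refine ⟨fun e => ?_, fun e => ?_, fun _ => h0, fun e => ?_, fun _ => h0⟩
    all_goals exfalso
    all_goals first
      | (have := hd _ (e.trans hp1.symm); omega)
      | (have := hd _ e; omega)

end Cfsg.Agent.S2438
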