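import Cfsg.Statements.S2440
import Cfsg.Agent.Lib.CharApps.SLDefining.Blocks
import Cfsg.Agent.Lib.Classical.Order

set_option autoImplicit false
open Cfsg

namespace Cfsg.Agent.S2440

/-- For a prime p and n ≥ 2, the group SL_n over the field with p elements has exactly gcd(n, p − 1) + 1 p-blocks relative to any maximal ideal of the algebraic integers containing p, that is, one more than the order of its centre (only this total is asserted; it arises as the defect-zero block of the Steinberg character plus as many blocks of maximal defect as the order of the centre). -/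
theorem result (p : ℕ) [Fact p.Prime] (n : ℕ) (hn : 2 ≤ n) (M : Ideal Cfsg.AlgInt) (hM : Cfsg.IsPModular p M) :
    Nat.card {B : Set (Cfsg.IrrCharacter (Matrix.SpecialLinearGroup (Fin n) (ZMod p))) // Cfsg.IsPBlock M B} =
      Nat.gcd n (p - 1) + 1 := by
  classical
  have hv : (Nat.card (Matrix.SpecialLinearGroup (Fin n) (ZMod p))).factorization p ≠ 0 := by
    haveI : Nonempty (Fin n) := ⟨⟨0, by omega⟩⟩
    intro h0
    have h := CfsgLib.SLDefining.card_Uu_eq (F := ZMod p) (n := n) (p := p)
    rw [h0, pow_zero] at h
    exact CfsgLib.SLDefining.Uu_ne_bot hn (Subgroup.eq_bot_of_card_eq _ h)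
  haveI : Finite {B : Set (IrrCharacter (Matrix.SpecialLinearGroup (Fin n) (ZMod p))) // IsPBlock M B} :=
    Finite.of_injective Subtype.val Subtype.val_injective
  let q : {B : Set (IrrCharacter (Matrix.SpecialLinearGroup (Fin n) (ZMod p))) // IsPBlock M B} → Prop :=
    fun B => blockDefect p B.1 = 0
  rw [← Nat.card_congr (Equiv.sumCompl q), Nat.card_sum,
    Nat.card_congr (Equiv.subtypeSubtypeEquivSubtypeInter _ (fun B => blockDefect p B = 0)),
    CfsgLib.SLDefining.card_defect_zero hn hM]
  have h2 : Nat.card {B // ¬ q B} = Nat.card (Subgroup.center (Matrix.SpecialLinearGroup (Fin n) (ZMod p))) := by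
    rw [← CfsgLib.SLDefining.card_blocks_full hn hM]
    refine Nat.card_congr ((Equiv.subtypeSubtypeEquivSubtypeInter _ (fun B => ¬ blockDefect p B = 0)).trans
      (Equiv.subtypeEquivRight fun B => and_congr_right fun hB => ⟨fun h => ?_, fun h => h ▸ hv⟩))
    exact (CfsgLib.SLDefining.defect_zero_or_full hn hM hB).resolve_left h
  rw [h2, CfsgLib.Classical.card_center_SL_fin n (by omega), Nat.card_zmod, add_comm]

end Cfsg.Agent.S2440
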