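import Cfsg.Statements.S2450
import Cfsg.Agent.Lib.KnownB.SL2Products
-- import your own Cfsg.Agent.* helpers here

set_option autoImplicit false
open Cfsg

namespace Cfsg.Agent.S2450

/-- The Arad–Herzog conjecture for PSL(2,q): let F be a finite field with q ≥ 4 elements. For any two non-identity elements a, b of PSL(2,F), the set of products of a conjugate of a with a conjugate of b is not a single conjugacy class. -/
theorem result {F : Type*} [Field F] [Fintype F] (h4 : 4 ≤ Fintype.card F)
    (a b : Matrix.ProjectiveSpecialLinearGroup (Fin 2) F) (ha : a ≠ 1) (hb : b ≠ 1) (c : Matrix.ProjectiveSpecialLinearGroup (Fin 2) F) :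
    {g : Matrix.ProjectiveSpecialLinearGroup (Fin 2) F | ∃ u v : Matrix.ProjectiveSpecialLinearGroup (Fin 2) F, g = (u * a * u⁻¹) * (v * b * v⁻¹)} ≠ {g | IsConj c g} := by
  intro hS
  obtain ⟨A, rfl⟩ := CfsgLib.KnownB.SL2Products.pr_surjective a
  obtain ⟨B, rfl⟩ := CfsgLib.KnownB.SL2Products.pr_surjective b
  obtain ⟨C, rfl⟩ := CfsgLib.KnownB.SL2Products.pr_surjective c
  refine CfsgLib.KnownB.SL2Products.product_ne_class h4 (fun h => ha (CfsgLib.KnownB.SL2Products.pr_eq_one_iff.2 h))
    (fun h => hb (CfsgLib.KnownB.SL2Products.pr_eq_one_iff.2 h)) C fun u v => ?_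
  refine Set.ext_iff.1 hS _ |>.1 ⟨CfsgLib.KnownB.SL2Products.pr u, CfsgLib.KnownB.SL2Products.pr v, ?_⟩
  simp only [map_mul, map_inv]

end Cfsg.Agent.S2450
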