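import Cfsg.Statements.S2455
import Cfsg.Agent.Lib.KnownB.SL2Products
-- import your own Cfsg.Agent.* helpers here

set_option autoImplicit false
open Cfsg

namespace Cfsg.Agent.S2455

/-- A strong covering result in the direction of Thompson's conjecture (non-identity elements) for PSL(2,q), q odd: let F be a finite field of odd characteristic p with at least 5 elements and let x ∈ PSL(2,F) have order greater than 2 and not divisible by p (so x is not unipotent). Then every non-identity element of PSL(2,F) is a product of two conjugates of x. -/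
theorem result {F : Type*} [Field F] [Fintype F] (p : ℕ) [Fact p.Prime] [CharP F p] (hp : p ≠ 2) (h5 : 5 ≤ Fintype.card F)
    (x : Matrix.ProjectiveSpecialLinearGroup (Fin 2) F) (hx2 : 2 < orderOf x) (hxp : ¬ p ∣ orderOf x) : ∀ g : Matrix.ProjectiveSpecialLinearGroup (Fin 2) F, g ≠ 1 → ∃ u v : Matrix.ProjectiveSpecialLinearGroup (Fin 2) F, g = (u * x * u⁻¹) * (v * x * v⁻¹) := by
  intro g hg
  obtain ⟨X, rfl⟩ := CfsgLib.KnownB.SL2Products.pr_surjective x
  obtain ⟨G, rfl⟩ := CfsgLib.KnownB.SL2Products.pr_surjective g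
  have hG : ¬ CfsgLib.GLTwo.IsScalar2 (G : Matrix (Fin 2) (Fin 2) F) := fun h => hg (CfsgLib.KnownB.SL2Products.pr_eq_one_iff.2 h)
  have hX : ¬ CfsgLib.GLTwo.IsScalar2 (X : Matrix (Fin 2) (Fin 2) F) := fun h => by
    rw [CfsgLib.KnownB.SL2Products.pr_eq_one_iff.2 h, orderOf_one] at hx2
    omega
  have hchar : ringChar F ≠ 2 := by rw [ringChar.eq F p]; exact hp
  have h2 : (2 : F) ≠ 0 := Ring.two_ne_zero hchar
  set t := (X : Matrix (Fin 2) (Fin 2) F).trace
  set c := (G : Matrix (Fin 2) (Fin 2) F).trace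
  have ht : t ≠ 0 := fun h0 => by
    have h1 : CfsgLib.KnownB.SL2Products.pr X ^ 2 = 1 := by
      rw [← map_pow, CfsgLib.KnownB.SL2Products.pr_eq_one_iff, Matrix.SpecialLinearGroup.coe_pow, pow_two,
        CfsgLib.GLTwo.sq_eq, show (X : Matrix (Fin 2) (Fin 2) F).trace = 0 from h0, X.2, zero_smul, zero_sub,
        ← neg_smul]
      exact CfsgLib.GLTwo.isScalar2_smul_one _
    have := Nat.le_of_dvd (by norm_num) (orderOf_dvd_of_pow_eq_one h1)
    omega
  have ht4 : t ^ 2 ≠ 4 := fun h4' => by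
    obtain ⟨e, he, het⟩ : ∃ e : F, e * e = 1 ∧ t = 2 * e := by
      refine ⟨t / 2, ?_, by field_simp⟩
      field_simp
      linear_combination h4'
    set M := (X : Matrix (Fin 2) (Fin 2) F)
    have hN : (M - e • 1) ^ 2 = 0 := by
      rw [pow_two, sub_mul, mul_sub, mul_sub, CfsgLib.GLTwo.sq_eq M, show M.det = 1 from X.2,
        show M.trace = 2 * e from het]
      simp only [smul_mul_assoc, mul_smul_comm, one_mul, mul_one, smul_smul, he]
      rw [show (2 * e) • M = e • M + e • M by rw [← add_smul]; ring_nf]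
      abel
    have hp2 : 2 ≤ p := (Fact.out : p.Prime).two_le
    have h1 := pow_eq_zero_of_le hp2 hN
    rw [sub_pow_char_of_commute (p := p) ((Commute.one_right M).smul_right e), smul_pow, one_pow, sub_eq_zero] at h1
    have h2' : CfsgLib.KnownB.SL2Products.pr X ^ p = 1 := by
      rw [← map_pow, CfsgLib.KnownB.SL2Products.pr_eq_one_iff, Matrix.SpecialLinearGroup.coe_pow, h1]
      exact CfsgLib.GLTwo.isScalar2_smul_one _
    rcases (Nat.dvd_prime (Fact.out : p.Prime)).1 (orderOf_dvd_of_pow_eq_one h2') with h | h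
    · omega
    · exact hxp (h ▸ dvd_rfl)
  have hclass := CfsgLib.KnownB.SL2Products.class_of_trace hX ht4 fun Z hZ r => CfsgLib.GLTwo.norm_surj_odd hchar hZ r
  by_cases hc : c ^ 2 = 4
  · have hc' : c = 2 ∨ c = -2 := sq_eq_sq_iff_eq_or_eq_neg.1 (hc.trans (by norm_num))
    rcases hc' with hc' | hc'
    · refine CfsgLib.KnownB.SL2Products.mem_product hX hG hclass (-(2 * t))⁻¹ (-(2 * t))⁻¹ (Or.inr ?_)
      change (t - (-(2 * t))⁻¹) * (-(2 * t))⁻¹ - (t * (c + 1) + (-(2 * t))⁻¹ - c * (-(2 * t))⁻¹) * (-(2 * t))⁻¹ = 1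
      rw [hc']
      field_simp
      ring
    · refine CfsgLib.KnownB.SL2Products.mem_product hX hG hclass (2 * t)⁻¹ (-(2 * t)⁻¹) (Or.inl ?_)
      change (t - -(2 * t)⁻¹) * -(2 * t)⁻¹ - (t * (c - 1) + (2 * t)⁻¹ - c * -(2 * t)⁻¹) * (2 * t)⁻¹ = 1
      rw [hc']
      field_simp
      ring
  · have ha : (-1 : F) ≠ 0 := neg_ne_zero.2 one_ne_zero
    have hd : (c ^ 2 - 4) / 4 ≠ 0 := div_ne_zero (sub_ne_zero.2 hc) (by
      rw [show (4 : F) = 2 * 2 by norm_num]; exact mul_ne_zero h2 h2)
    obtain ⟨w, y, hwy⟩ := FiniteField.exists_root_sum_quadratic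
      (f := Polynomial.C (-1 : F) * Polynomial.X ^ 2 + Polynomial.C t * Polynomial.X + Polynomial.C (-1))
      (g := Polynomial.C ((c ^ 2 - 4) / 4) * Polynomial.X ^ 2 + Polynomial.C (t * c / 2 - t * (c - 1)) * Polynomial.X + Polynomial.C 0)
      (Polynomial.degree_quadratic ha) (Polynomial.degree_quadratic hd)
      (FiniteField.odd_card_of_char_ne_two hchar)
    refine CfsgLib.KnownB.SL2Products.mem_product hX hG hclass y (w + c * y / 2) (Or.inl ?_)
    change (t - (w + c * y / 2)) * (w + c * y / 2) - (t * (c - 1) + y - c * (w + c * y / 2)) * y = 1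
    simp at hwy
    have h4 : (4 : F) ≠ 0 := by rw [show (4 : F) = 2 * 2 by norm_num]; exact mul_ne_zero h2 h2
    field_simp at hwy ⊢
    refine mul_left_cancel₀ h2 ?_
    linear_combination hwy

end Cfsg.Agent.S2455
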