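import Cfsg.Statements.S2456
import Cfsg.Agent.Lib.KnownB.SL2Products
-- import your own Cfsg.Agent.* helpers here

set_option autoImplicit false
open Cfsg

namespace Cfsg.Agent.S2456

/-- A strong covering result in the direction of Thompson's conjecture (non-identity elements) for PSL(2,q), q even: let F be a finite field of characteristic 2 with q ≥ 4 elements and let x ∈ PSL(2,F) have order greater than 2 and not dividing q + 1. Then every non-identity element of PSL(2,F) is a product of two conjugates of x. -/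
theorem result {F : Type*} [Field F] [Fintype F] [CharP F 2] (h4 : 4 ≤ Fintype.card F)
    (x : Matrix.ProjectiveSpecialLinearGroup (Fin 2) F) (hx2 : 2 < orderOf x) (hxq : ¬ orderOf x ∣ Fintype.card F + 1) : ∀ g : Matrix.ProjectiveSpecialLinearGroup (Fin 2) F, g ≠ 1 → ∃ u v : Matrix.ProjectiveSpecialLinearGroup (Fin 2) F, g = (u * x * u⁻¹) * (v * x * v⁻¹) := by
  intro g hg
  obtain ⟨X, rfl⟩ := CfsgLib.KnownB.SL2Products.pr_surjective x
  obtain ⟨G, rfl⟩ := CfsgLib.KnownB.SL2Products.pr_surjective g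
  have hG : ¬ CfsgLib.GLTwo.IsScalar2 (G : Matrix (Fin 2) (Fin 2) F) := fun h => hg (CfsgLib.KnownB.SL2Products.pr_eq_one_iff.2 h)
  have hX : ¬ CfsgLib.GLTwo.IsScalar2 (X : Matrix (Fin 2) (Fin 2) F) := fun h => by
    rw [CfsgLib.KnownB.SL2Products.pr_eq_one_iff.2 h, orderOf_one] at hx2
    omega
  haveI : Fact (Nat.Prime 2) := ⟨Nat.prime_two⟩
  set t := (X : Matrix (Fin 2) (Fin 2) F).trace
  have h20 : (2 : F) = 0 := CharTwo.two_eq_zero
  have ht : t ≠ 0 := fun h0 => by
    have h1 : CfsgLib.KnownB.SL2Products.pr X ^ 2 = 1 := by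
      rw [← map_pow, CfsgLib.KnownB.SL2Products.pr_eq_one_iff, Matrix.SpecialLinearGroup.coe_pow, pow_two,
        CfsgLib.GLTwo.sq_eq, show (X : Matrix (Fin 2) (Fin 2) F).trace = 0 from h0, X.2, zero_smul, zero_sub,
        ← neg_smul]
      exact CfsgLib.GLTwo.isScalar2_smul_one _
    have := Nat.le_of_dvd (by norm_num) (orderOf_dvd_of_pow_eq_one h1)
    omega
  have ht4 : t ^ 2 ≠ 4 := by
    rw [show (4 : F) = 0 by linear_combination 2 * h20]
    exact pow_ne_zero 2 ht
  have hd : CfsgLib.Recog.dTwo F = 1 := if_pos (Nat.even_iff.2 (FiniteField.even_card_of_char_two (ringChar.eq F 2)))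
  have hord : orderOf (CfsgLib.KnownB.SL2Products.pr X) ∣ Fintype.card F - 1 := by
    have h := CfsgLib.Recog.orderOf_PSL_two_dvd 2 X
    rw [hd, Nat.div_one, Nat.div_one] at h
    rcases h with h | h | h
    · exact absurd (Nat.le_of_dvd (by norm_num) h) (not_le.2 hx2)
    · exact h
    · exact absurd h hxq
  have hpow : (X : Matrix (Fin 2) (Fin 2) F) ^ Fintype.card F = X := by
    have h1 := orderOf_dvd_iff_pow_eq_one.1 hord
    rw [← map_pow, CfsgLib.KnownB.SL2Products.pr_eq_one_iff] at h1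
    have h2 : X ^ (Fintype.card F - 1) = 1 := by
      refine Subtype.ext ?_
      rw [(CfsgLib.GLTwo.isScalar2_iff _).1 h1, Matrix.SpecialLinearGroup.coe_one]
      rcases CfsgLib.GLTwo.scalar_sl h1 with h | h <;> rw [h]
      · rw [one_smul]
      · rw [CharTwo.neg_eq, one_smul]
    rw [← Matrix.SpecialLinearGroup.coe_pow, show X ^ Fintype.card F = X by
      rw [← Nat.sub_add_cancel (Fintype.card_pos (α := F)), pow_succ, h2, one_mul]]
  obtain ⟨z, hz⟩ := CfsgLib.KnownB.SL2Products.exists_root_of_pow_card X.2 hpow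
  refine CfsgLib.KnownB.SL2Products.mem_product hX hG
    (CfsgLib.KnownB.SL2Products.class_of_trace hX ht4 fun Z _ r => CfsgLib.GLTwo.norm_surj_even r) 0 z (Or.inl ?_)
  change (t - z) * z - _ * 0 = 1
  linear_combination -hz

end Cfsg.Agent.S2456
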