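import Cfsg.Statements.S2458
import Cfsg.Agent.Lib.KnownB.ThompsonRee.Main

set_option autoImplicit false
open Cfsg

namespace Cfsg.Agent.S2458

/-- A strong covering result in the direction of Thompson's conjecture (non-identity elements) for the small Ree groups: let q = 3^(2m+1) ≥ 27, K the field with q elements and ²G₂(q) the Ree group over K. For every element x of ²G₂(q) of order greater than 2 and not divisible by 3, every non-identity element of ²G₂(q) is a product of two conjugates of x. -/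
theorem result {K : Type*} [Field K] [Fintype K] (m : ℕ) (hm : 1 ≤ m) (hK : Fintype.card K = 3 ^ (2 * m + 1))
    (x : Cfsg.Lie.twistedG2 K (3 ^ m)) (hx2 : 2 < orderOf x) (hx3 : ¬ 3 ∣ orderOf x) : ∀ g : Cfsg.Lie.twistedG2 K (3 ^ m), g ≠ 1 → ∃ u v : Cfsg.Lie.twistedG2 K (3 ^ m), g = (u * x * u⁻¹) * (v * x * v⁻¹) := by
  obtain ⟨hc, h4, σ, hσ, hi⟩ := CfsgLib.Chev.G22.exists_sigma hK
  obtain ⟨y, hy⟩ := CfsgLib.Chev.G22.exists_outside hm hK
  have e := CfsgLib.Chev.G22.twisted_eq_fix hσ hi h4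
  revert x
  rw [e]
  intro x hx2 hx3 g hg
  have hperf := CfsgLib.Chev.G22.perfect hσ hi h4 hy
  have hsimp := ((CfsgLib.Chev.G22.split hi).simple (CfsgLib.Chev.G22.marked hi) CfsgLib.Chev.G22.top (by decide)
      hperf).1
  refine CfsgLib.ThompsonRee.cover hm hK hi h4 (fun χ hχ => ?_) hx2 hx3 hg
  obtain ⟨k, ρ, hρ, hch⟩ := χ.2
  have hk : charDegree (χ : ↥(CfsgLib.Chev.G22.tw σ).fix → ℂ) = k := by
    have e' := CfsgLib.CharApps.deg_eq χ
    rw [← hch] at e'
    rw [← hch]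
    exact_mod_cast (e'.symm.trans (by simp) : ((charDegree ρ.character : ℕ) : ℂ) = (k : ℂ))
  have hk2 : 2 ≤ k := by
    by_contra hlt
    have := CfsgLib.CharApps.deg_pos χ
    have hk1 : charDegree (χ : ↥(CfsgLib.Chev.G22.tw σ).fix → ℂ) = 1 := by omega
    obtain ⟨lam, hlam⟩ := CfsgLib.Chars.exists_hom_of_degree_one (CfsgLib.Chars.isCharacter_of_irr χ.2)
      ((CfsgLib.CharApps.deg_eq_one_iff χ).2 hk1)
    have hker : ∀ z, lam z = 1 := fun z => MonoidHom.mem_ker.1
      (Abelianization.commutator_subset_ker lam (hperf.symm ▸ Subgroup.mem_top z))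
    exact hχ (Subtype.ext (funext fun z => by rw [hlam]; simp [hker, CfsgLib.CharApps.oneIrr_apply]))
  have h := CfsgLib.Chev.G22.min_degree hK hi rfl hperf hsimp ρ hρ hk2
  rw [hk, CfsgLib.Chev.Ree.pp, CfsgLib.Chev.Ree.qq, ← hK, ← sq]
  exact h

end Cfsg.Agent.S2458
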