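import Cfsg.Statements.S2459
-- import your own Cfsg.Agent.* helpers here
import Cfsg.Agent.Lib.KnownB.ThompsonSL3
import Cfsg.Agent.S2388

set_option autoImplicit false
open Cfsg

namespace Cfsg.Agent.S2459

open Polynomial CfsgLib.KnownB
open scoped MatrixGroups

theorem root_free : ∀ b : ZMod 3, b ^ 3 - b ^ 2 + 2 * b - 1 ≠ 0 := by decide

/-- A semisimple witness from a square-free characteristic polynomial whose class pairs cover. -/
theorem of_factor {F : Type*} [Field F] [Fintype F] (p : ℕ) [Fact p.Prime] [CharP F p] (f : F[X])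
    (hf : Squarefree f) (hcov : ∀ g : Matrix (Fin 3) (Fin 3) F, g.det = 1 → (¬ ∃ c : F, g = algebraMap F _ c) →
      ∃ M N : Matrix (Fin 3) (Fin 3) F, g = M * N ∧ M.charpoly = f ∧ N.charpoly = f)
    (A : Matrix.SpecialLinearGroup (Fin 3) F) (hA : (A : Matrix (Fin 3) (Fin 3) F).charpoly = f) :
    ∃ x : Matrix.ProjectiveSpecialLinearGroup (Fin 3) F, ¬ p ∣ orderOf x ∧
      ∀ g : Matrix.ProjectiveSpecialLinearGroup (Fin 3) F, g ≠ 1 → ∃ u v : Matrix.ProjectiveSpecialLinearGroup (Fin 3) F,
        g = (u * x * u⁻¹) * (v * x * v⁻¹) := by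
  have hinj : Function.Injective
      (Matrix.SpecialLinearGroup.toGL : Matrix.SpecialLinearGroup (Fin 3) F → GL (Fin 3) F) :=
    fun a b hab => Subtype.ext (congrArg Units.val hab)
  have hco : ∀ B : Matrix.SpecialLinearGroup (Fin 3) F, (B : Matrix (Fin 3) (Fin 3) F).charpoly = f →
      (orderOf B).Coprime p := by
    intro B hB
    set M := (Fintype.card F - 1) * (Fintype.card F ^ 2 - 1) * (Fintype.card F ^ 3 - 1)
    have hdvd : f ∣ X ^ M - 1 := by
      classical
      have hle : ∀ t : Multiset F[X], (∀ a ∈ t, a ∣ X ^ M - 1) → t.prod ∣ (X ^ M - 1) ^ t.card := by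
        intro t
        induction t using Multiset.induction_on with
        | empty => intro; simp
        | cons a t ih =>
          intro h
          rw [Multiset.prod_cons, Multiset.card_cons, pow_succ']
          exact mul_dvd_mul (h a (Multiset.mem_cons_self a t)) (ih fun b hb => h b (Multiset.mem_cons_of_mem hb))
      refine (hf.dvd_pow_iff_dvd (n := (UniqueFactorizationMonoid.normalizedFactors f).card + 1) (by omega)).1 ?_
      refine ((UniqueFactorizationMonoid.prod_normalizedFactors hf.ne_zero).symm.dvd.trans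
        (hle _ fun g hg' => ?_)).trans (pow_dvd_pow _ (Nat.le_succ _))
      have hg := UniqueFactorizationMonoid.irreducible_of_normalized_factor g hg'
      have hgf := UniqueFactorizationMonoid.dvd_of_mem_normalizedFactors hg'
      have hdeg : g.natDegree ≤ 3 := by
        have h := Polynomial.natDegree_le_of_dvd hgf hf.ne_zero
        rwa [← hB, Matrix.charpoly_natDegree_eq_dim, Fintype.card_fin] at h
      refine ElementOrders.irreducible_dvd_X_pow_sub_one hg (fun hX => ?_) ?_
      · have h0 := Matrix.det_eq_sign_charpoly_coeff (B : Matrix (Fin 3) (Fin 3) F)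
        rw [B.det_coe, hB, Polynomial.X_dvd_iff.1
          (((hg.associated_of_dvd irreducible_X hX).symm.dvd).trans hgf), mul_zero] at h0
        exact one_ne_zero h0
      · have := hg.natDegree_pos
        interval_cases g.natDegree
        · rw [pow_one]; exact (dvd_mul_right _ _).trans (dvd_mul_right _ _)
        · exact (dvd_mul_left _ _).trans (dvd_mul_right _ _)
        · exact dvd_mul_left _ _
    have hpow : B ^ M = 1 := by
      obtain ⟨c, hc⟩ := hdvd
      have h := congrArg (aeval (B : Matrix (Fin 3) (Fin 3) F)) hc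
      rw [map_mul, ← hB, Matrix.aeval_self_charpoly, zero_mul, map_sub, map_pow, aeval_X, map_one, sub_eq_zero] at h
      exact (ElementOrders.sl_pow_eq_one_iff B M).2 h
    refine Nat.Coprime.coprime_dvd_left (orderOf_dvd_of_pow_eq_one hpow) ?_
    have hp : ∀ d, 0 < d → Nat.Coprime (Fintype.card F ^ d - 1) p := fun d hd => by
      obtain ⟨e, -, hcard⟩ := FiniteField.card F p
      refine (((Fact.out : p.Prime).coprime_iff_not_dvd.2 fun h => ?_)).symm
      have h2 : p ∣ Fintype.card F ^ d := dvd_pow (hcard ▸ dvd_pow_self p e.ne_zero) hd.ne'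
      have h3 : 1 ≤ Fintype.card F ^ d := Nat.one_le_pow _ _ Fintype.card_pos
      have h4 := Nat.dvd_sub h2 h
      rw [Nat.sub_sub_self h3] at h4
      exact (Fact.out : p.Prime).ne_one (Nat.dvd_one.1 h4)
    exact Nat.Coprime.mul_left (Nat.Coprime.mul_left (by simpa using hp 1 one_pos) (hp 2 two_pos)) (hp 3 (by omega))
  refine ⟨QuotientGroup.mk A, fun h => ?_, fun g hg => ?_⟩
  · exact (Fact.out : p.Prime).coprime_iff_not_dvd.1 (hco A hA).symm
      (h.trans (orderOf_map_dvd (QuotientGroup.mk' _) A))
  obtain ⟨g, rfl⟩ := QuotientGroup.mk_surjective g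
  obtain ⟨M, N, hMN, hM, hN⟩ := hcov g g.det_coe fun hc => hg (ElementOrders.mk_eq_one_iff.2 hc)
  have hdet : ∀ B : Matrix (Fin 3) (Fin 3) F, B.charpoly = f → B.det = 1 := fun B hB => by
    rw [Matrix.det_eq_sign_charpoly_coeff, hB, ← hA, ← Matrix.det_eq_sign_charpoly_coeff, A.det_coe]
  obtain ⟨u, hu⟩ := isConj_iff.1 (Cfsg.Agent.S2388.result p 3 A ⟨M, hdet M hM⟩ (hco A hA) (hco _ hM) (hA.trans hM.symm))
  obtain ⟨v, hv⟩ := isConj_iff.1 (Cfsg.Agent.S2388.result p 3 A ⟨N, hdet N hN⟩ (hco A hA) (hco _ hN) (hA.trans hN.symm))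
  refine ⟨QuotientGroup.mk u, QuotientGroup.mk v, ?_⟩
  rw [← QuotientGroup.mk_inv, ← QuotientGroup.mk_inv, ← QuotientGroup.mk_mul, ← QuotientGroup.mk_mul,
    ← QuotientGroup.mk_mul, ← QuotientGroup.mk_mul, ← QuotientGroup.mk_mul, hu, hv]
  exact congrArg _ (Subtype.ext hMN)


/-- A form of Thompson's conjecture for PSL(3,q), q > 2 (covering the non-identity elements), with a semisimple class: for F a finite field of characteristic p with more than 2 elements there is an element x of PSL(3,F) of order prime to p such that every non-identity element of PSL(3,F) is a product of two conjugates of x. -/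
theorem result {F : Type*} [Field F] [Fintype F] (p : ℕ) [Fact p.Prime] [CharP F p] (h3 : 3 ≤ Fintype.card F) :
    ∃ x : Matrix.ProjectiveSpecialLinearGroup (Fin 3) F, ¬ p ∣ orderOf x ∧ ∀ g : Matrix.ProjectiveSpecialLinearGroup (Fin 3) F, g ≠ 1 → ∃ u v : Matrix.ProjectiveSpecialLinearGroup (Fin 3) F, g = (u * x * u⁻¹) * (v * x * v⁻¹) := by
  classical
  by_cases h : Fintype.card F = 3
  · obtain rfl : p = 3 := by
      obtain ⟨e, hp, he⟩ := FiniteField.card F p
      rw [h] at he
      exact ((Nat.prime_three.pow_eq_iff).1 he.symm).1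
    obtain ⟨M, hM⟩ := Semisimple.exists_charpoly (k := 3) (X ^ 3 - X ^ 2 + C 2 * X - 1 : F[X]) (by monicity!)
      (by compute_degree!)
    have hdet : M.det = 1 := by
      rw [Matrix.det_eq_sign_charpoly_coeff, hM]
      simp
      norm_num
    have hsep : Squarefree (X ^ 3 - X ^ 2 + C 2 * X - 1 : F[X]) := by
      refine Irreducible.squarefree ?_
      have hd : (X ^ 3 - X ^ 2 + C 2 * X - 1 : F[X]).natDegree = 3 := by compute_degree!
      refine (Polynomial.Monic.irreducible_iff_roots_eq_zero_of_degree_le_three (by monicity!)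
        (by omega) (by omega)).2 (Multiset.eq_zero_of_forall_notMem fun a ha => ?_)
      have ha' := (Polynomial.mem_roots'.1 ha).2
      let φ : ZMod 3 ≃+* F := ZMod.ringEquiv F h
      refine root_free (φ.symm a) (φ.injective ?_)
      simp only [map_sub, map_add, map_mul, map_pow, map_one, map_zero, map_ofNat, RingEquiv.apply_symm_apply]
      simpa [IsRoot, map_ofNat] using ha'
    exact of_factor 3 _ hsep (fun g hg hns => ThompsonSL3.exists_factor_three h g hg hns) ⟨M, hdet⟩ hM
  · obtain ⟨w, hw0, hw1, hw2⟩ : ∃ w : F, w ≠ 0 ∧ w ≠ 1 ∧ w ≠ -1 := by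
      by_contra hcon
      push Not at hcon
      have : Fintype.card F ≤ ({0, 1, -1} : Finset F).card := Finset.card_le_card fun x _ => by
        by_cases h0 : x = 0
        · simp [h0]
        by_cases h1 : x = 1
        · simp [h1]
        simp [hcon x h0 h1]
      have := Finset.card_le_three (a := (0 : F)) (b := 1) (c := -1)
      omega
    let l : Fin 3 → F := ![1, w, w⁻¹]
    have hl : Function.Injective l := by
      have h1 : w ≠ w⁻¹ := fun e => by
        have h' : (w - 1) * (w + 1) = 0 := by
          have := mul_inv_cancel₀ hw0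
          rw [← e] at this
          linear_combination this
        rcases mul_eq_zero.1 h' with e' | e'
        · exact hw1 (sub_eq_zero.1 e')
        · exact hw2 (eq_neg_of_add_eq_zero_left e')
      have h2 : (1 : F) ≠ w⁻¹ := fun e => hw1 (inv_eq_one.1 e.symm)
      intro i j
      fin_cases i <;> fin_cases j <;> simp [l, h1, Ne.symm h1, hw1, Ne.symm hw1, h2, Ne.symm h2]
    have hprod : l 0 * l 1 * l 2 = 1 := by simp [l, hw0]
    have hsq : Squarefree (∏ i, (X - C (l i))) := (Polynomial.separable_prod_X_sub_C_iff.2 hl).squarefree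
    refine of_factor p _ hsq (fun g hg hns => ThompsonSL3.exists_factor_split l hprod g hg hns)
      ⟨Matrix.diagonal l, by rw [Matrix.det_diagonal, Fin.prod_univ_three, hprod]⟩ ?_
    exact Matrix.charpoly_diagonal l

end Cfsg.Agent.S2459
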