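import Cfsg.Statements.S2462
import Cfsg.Agent.Lib.KnownB.ThompsonD43.TwoMain

set_option autoImplicit false
open Cfsg

namespace Cfsg.Agent.S2462

/-- A form of Thompson's conjecture for the triality groups ³D₄(q) (covering the non-identity elements) with a semisimple class: for q a power of the prime p and K the field with q³ elements there is an element x of ³D₄(q) (realised over K) of order prime to p such that every non-identity element of ³D₄(q) is a product of two conjugates of x. -/
theorem result {K : Type*} [Field K] [Fintype K] (p : ℕ) [Fact p.Prime] [CharP K p] (q : ℕ) (hq : IsPrimePow q) (hK : Fintype.card K = q ^ 3) :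
    ∃ x : Cfsg.Lie.twistedD4 K q, ¬ p ∣ orderOf x ∧ ∀ g : Cfsg.Lie.twistedD4 K q, g ≠ 1 → ∃ u v : Cfsg.Lie.twistedD4 K q, g = (u * x * u⁻¹) * (v * x * v⁻¹) := by
  have hp : p.Prime := Fact.out
  obtain ⟨n, -, hn⟩ := FiniteField.card K p
  obtain ⟨f, -, hf⟩ : ∃ f, f ≤ (n : ℕ) ∧ q = p ^ f := by
    refine (Nat.dvd_prime_pow hp).1 ?_
    rw [← hn, hK]
    exact dvd_pow_self q (by norm_num)
  have hσ : ∀ x : K, iterateFrobenius K p f x = x ^ q := fun x => by
    rw [iterateFrobenius_def, hf]
  have hpq : p ∣ q := by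
    rw [hf]
    refine dvd_pow_self p fun f0 => ?_
    rw [f0, pow_zero] at hf
    exact hq.ne_one hf
  by_cases h4 : 4 ≤ q
  · exact CfsgLib.ThompsonD43.cover_large p hpq hσ hK h4
  have h2 : 2 ≤ q := hq.two_le
  interval_cases q
  · exact CfsgLib.ThompsonD43.cover_small p hpq hσ hK
  · exact CfsgLib.ThompsonD43.cover_three (CfsgLib.Chev.D43.invol hσ hK) p hpq hσ hK

end Cfsg.Agent.S2462
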