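import Cfsg.Statements.S2463
import Cfsg.Agent.Lib.KnownB.ThompsonF42.Large
import Cfsg.Agent.Lib.KnownB.ThompsonF42.Eight.Main
import Cfsg.Agent.Lib.KnownB.ThompsonF42.Tits.Main

set_option autoImplicit false
set_option maxRecDepth 100000
open Cfsg

namespace Cfsg.Agent.S2463

/-- moving the statement along an isomorphism -/
theorem transfer {M N : Type*} [Group M] [Group N] (e : M ≃* N)
    (h : ∃ x : N, Odd (orderOf x) ∧ ∀ g : N, g ≠ 1 → ∃ u v : N, g = (u * x * u⁻¹) * (v * x * v⁻¹)) :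
    ∃ x : M, Odd (orderOf x) ∧ ∀ g : M, g ≠ 1 → ∃ u v : M, g = (u * x * u⁻¹) * (v * x * v⁻¹) := by
  obtain ⟨x, hx, h⟩ := h
  refine ⟨e.symm x, by rwa [MulEquiv.orderOf_eq], fun g hg => ?_⟩
  obtain ⟨u, v, huv⟩ := h (e g) fun h1 => hg (e.map_eq_one_iff.1 h1)
  refine ⟨e.symm u, e.symm v, e.injective ?_⟩
  simp only [map_mul, map_inv, MulEquiv.apply_symm_apply, huv]

/-- A form of Thompson's conjecture for the simple groups of type ²F₄ (covering the non-identity elements) with a semisimple class: if M is a large Ree group ²F₄(2^(2m+1)) with m ≥ 1, or the Tits group, then there is an element x of M of odd order such that every non-identity element of M is a product of two conjugates of x. -/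
theorem result {M : Type*} [Group M] [Finite M] (hM : Cfsg.Lie.Iso2F4 M ∨ Cfsg.Lie.IsoTits M) :
    ∃ x : M, Odd (orderOf x) ∧ ∀ g : M, g ≠ 1 → ∃ u v : M, g = (u * x * u⁻¹) * (v * x * v⁻¹) := by
  rcases hM with ⟨K, _, _, m, hm, hK, ⟨e⟩⟩ | h
  · obtain ⟨hc, σ, hσ, hi⟩ := CfsgLib.Chev.F42.exists_sigma hK
    rcases eq_or_lt_of_le hm with rfl | hm2
    · exact transfer e (CfsgLib.ThompsonF42.Eight.cover_eight hK hσ hi)
    · exact transfer e (CfsgLib.ThompsonF42.cover_large hm2 hK hσ hi)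
  · obtain ⟨e⟩ : Nonempty (M ≃* Cfsg.Lie.TitsGroup) := h
    exact transfer (N := Cfsg.Lie.TitsGroup) e CfsgLib.ThompsonF42.Tits.cover_tits

end Cfsg.Agent.S2463
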