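import Cfsg.Statements.S2466
import Cfsg.Agent.Lib.KnownB.Cycles
-- import your own Cfsg.Agent.* helpers here

set_option autoImplicit false
open Cfsg

namespace Cfsg.Agent.S2466

/-- Adjacency of odd primes in the prime graph of the alternating groups: let r ≠ s be odd primes at most n. The alternating group of degree n has an element of order r·s if and only if r + s ≤ n. -/
theorem result (n r s : ℕ) (hr : r.Prime) (hs : s.Prime) (hr2 : r ≠ 2) (hs2 : s ≠ 2) (hrs : r ≠ s) (hrn : r ≤ n) (hsn : s ≤ n) :
    (r * s ∈ Set.range (orderOf : alternatingGroup (Fin n) → ℕ)) ↔ r + s ≤ n := by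
  constructor
  · rintro ⟨σ, hσ⟩
    obtain ⟨m, h2, hsum, -, hl⟩ := CfsgLib.KnownB.Cycles.exists_cycleType n σ
    rw [hσ] at hl
    obtain ⟨a, ha, hra⟩ := CfsgLib.KnownB.Cycles.exists_part hr (hl ▸ dvd_mul_right r s)
    obtain ⟨b, hb, hsb⟩ := CfsgLib.KnownB.Cycles.exists_part hs (hl ▸ dvd_mul_left s r)
    by_cases hab : a = b
    · subst hab
      have h1 := Nat.le_of_dvd (by have := h2 a ha; omega)
        (((Nat.coprime_primes hr hs).2 hrs).mul_dvd_of_dvd_of_dvd hra hsb)
      have h3 := Multiset.le_sum_of_mem ha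
      have : r + s ≤ r * s := by nlinarith [hr.two_le, hs.two_le]
      omega
    · have hb' : b ∈ m.erase a := (Multiset.mem_erase_of_ne (Ne.symm hab)).2 hb
      rw [← Multiset.cons_erase ha, Multiset.sum_cons] at hsum
      have h1 := Nat.le_of_dvd (by have := h2 a ha; omega) hra
      have h3 := Nat.le_of_dvd (by have := h2 b hb; omega) hsb
      have h4 := Multiset.le_sum_of_mem hb'
      omega
  · intro h
    have hev : Even (r + s) := (hr.odd_of_ne_two hr2).add_odd (hs.odd_of_ne_two hs2)
    have := CfsgLib.KnownB.Cycles.lcm_mem_range n {r, s}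
      (by simp [hr.two_le, hs.two_le]) (by simpa using h) (by simpa [Nat.even_add, even_two] using hev)
    have hl : ({r, s} : Multiset ℕ).lcm = r * s := by
      simpa [lcm_eq_nat_lcm] using ((Nat.coprime_primes hr hs).2 hrs).lcm_eq_mul
    rwa [hl] at this

end Cfsg.Agent.S2466
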