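import Cfsg.Statements.S2467
import Cfsg.Agent.Lib.KnownB.Cycles
-- import your own Cfsg.Agent.* helpers here

set_option autoImplicit false
open Cfsg

namespace Cfsg.Agent.S2467

/-- Adjacency of 2 and an odd prime in the prime graph of the alternating groups: let r be an odd prime at most n, with n ≥ 4. The alternating group of degree n has an element of order 2r if and only if r + 4 ≤ n. -/
theorem result (n r : ℕ) (hn : 4 ≤ n) (hr : r.Prime) (hr2 : r ≠ 2) (hrn : r ≤ n) :
    (2 * r ∈ Set.range (orderOf : alternatingGroup (Fin n) → ℕ)) ↔ r + 4 ≤ n := by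
  have h3 : 3 ≤ r := by have := hr.two_le; omega
  constructor
  · rintro ⟨σ, hσ⟩
    obtain ⟨m, h2, hsum, hev, hl⟩ := CfsgLib.KnownB.Cycles.exists_cycleType n σ
    rw [hσ] at hl
    obtain ⟨a, ha, h2a⟩ := CfsgLib.KnownB.Cycles.exists_part Nat.prime_two (hl ▸ dvd_mul_right 2 r)
    obtain ⟨b, hb, hbe⟩ := CfsgLib.KnownB.Cycles.exists_second_even hev (even_iff_two_dvd.2 h2a) ha
    obtain ⟨c, hc, hrc⟩ := CfsgLib.KnownB.Cycles.exists_part hr (hl ▸ dvd_mul_left r 2)
    have hb2 := h2 b (Multiset.mem_of_mem_erase hb)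
    have ha2 := h2 a ha
    have hc2 := h2 c hc
    have hcr := Nat.le_of_dvd (by omega) hrc
    have hev2 : ∀ x, Even x → r ∣ x → 0 < x → 2 * r ≤ x := fun x hx hrx h0 =>
      Nat.le_of_dvd h0 (((Nat.coprime_primes Nat.prime_two hr).2 (Ne.symm hr2)).mul_dvd_of_dvd_of_dvd
        (even_iff_two_dvd.1 hx) hrx)
    rw [← Multiset.cons_erase ha, ← Multiset.cons_erase hb, Multiset.sum_cons, Multiset.sum_cons] at hsum
    by_cases hca : c = a
    · have := hev2 a (even_iff_two_dvd.2 h2a) (hca ▸ hrc) (by omega)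
      omega
    · by_cases hcb : c = b
      · have := hev2 b hbe (hcb ▸ hrc) (by omega)
        omega
      · have := Multiset.le_sum_of_mem ((Multiset.mem_erase_of_ne hcb).2 ((Multiset.mem_erase_of_ne hca).2 hc))
        omega
  · intro h
    have hod := hr.odd_of_ne_two hr2
    have := CfsgLib.KnownB.Cycles.lcm_mem_range n {r, 2, 2}
      (by simp [hr.two_le]) (by simpa using h)
      (by rw [Nat.odd_iff] at hod; simp [Nat.even_iff]; omega)
    have hl : ({r, 2, 2} : Multiset ℕ).lcm = 2 * r := by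
      simpa [lcm_eq_nat_lcm, mul_comm] using ((Nat.coprime_primes hr Nat.prime_two).2 hr2).lcm_eq_mul
    rwa [hl] at this

end Cfsg.Agent.S2467
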