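import Cfsg.Statements.S2468
import Cfsg.Agent.Lib.KnownB.PrimeGraphLin

set_option autoImplicit false
open Cfsg

namespace Cfsg.Agent.S2468

/-- Adjacency of two odd primes in the prime graph of PSL(n,q): let F be a finite field of characteristic p with q elements, n ≥ 2 with PSL(n,F) simple, and let r ≠ s be odd primes different from p dividing the order of PSL(n,F). Let k and l be the multiplicative orders of q modulo r and modulo s, and suppose 2 ≤ k ≤ l. Then PSL(n,F) has NO element of order r·s if and only if k + l > n and k does not divide l. -/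
theorem result {F : Type*} [Field F] [Fintype F] (p : ℕ) [Fact p.Prime] [CharP F p] (n : ℕ) (hn : 2 ≤ n) (hsmall : n = 2 → 4 ≤ Fintype.card F)
    (r s : ℕ) (hr : r.Prime) (hs : s.Prime) (hr2 : r ≠ 2) (hs2 : s ≠ 2) (hrp : r ≠ p) (hsp : s ≠ p) (hrs : r ≠ s)
    (hrG : r ∣ Nat.card (Matrix.ProjectiveSpecialLinearGroup (Fin n) F)) (hsG : s ∣ Nat.card (Matrix.ProjectiveSpecialLinearGroup (Fin n) F))
    (k l : ℕ) (hk : k = orderOf ((Fintype.card F : ℕ) : ZMod r)) (hl : l = orderOf ((Fintype.card F : ℕ) : ZMod s))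
    (h2k : 2 ≤ k) (hkl : k ≤ l) :
    (r * s ∉ Set.range (orderOf : Matrix.ProjectiveSpecialLinearGroup (Fin n) F → ℕ)) ↔ (n < k + l ∧ ¬ k ∣ l) := by
  subst hk hl
  have hl2 : 2 ≤ CfsgLib.KnownB.PrimeGraph.ordQ F s := h2k.trans hkl
  have hnr := CfsgLib.KnownB.PrimeGraph.not_dvd_card_sub_one (F := F) h2k
  have hns := CfsgLib.KnownB.PrimeGraph.not_dvd_card_sub_one (F := F) hl2
  set k := CfsgLib.KnownB.PrimeGraph.ordQ F r with hk
  set l := CfsgLib.KnownB.PrimeGraph.ordQ F s with hl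
  change (r * s ∉ Set.range (orderOf : Matrix.ProjectiveSpecialLinearGroup (Fin n) F → ℕ)) ↔
    (n < k + l ∧ ¬ k ∣ l)
  have hcop : (r * s).Coprime (Fintype.card F - 1) :=
    Nat.Coprime.mul_left (hr.coprime_iff_not_dvd.2 hnr) (hs.coprime_iff_not_dvd.2 hns)
  rw [CfsgLib.KnownB.PrimeGraph.mem_range_iff hcop]
  have hrk : r ∣ Fintype.card F ^ k - 1 :=
    (CfsgLib.KnownB.PrimeGraph.dvd_pow_sub_one_iff _).2 dvd_rfl
  have hrs' : r.Coprime s := (Nat.coprime_primes hr hs).2 hrs
  haveI := Fact.mk hr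
  haveI := Fact.mk hs
  constructor
  · intro hno
    by_contra hcon
    refine hno ?_
    by_cases hle : k + l ≤ n
    · have hsl : s ∣ Fintype.card F ^ l - 1 :=
        (CfsgLib.KnownB.PrimeGraph.dvd_pow_sub_one_iff _).2 dvd_rfl
      obtain ⟨A, hA⟩ := exists_prime_orderOf_dvd_card' r
        (CfsgLib.KnownB.PrimeGraph.dvd_card_SL h2k le_rfl hrk)
      obtain ⟨B, hB⟩ := exists_prime_orderOf_dvd_card' s
        (CfsgLib.KnownB.PrimeGraph.dvd_card_SL (a := n - k) hl2 (by omega) hsl)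
      obtain ⟨g, hg⟩ := CfsgLib.KnownB.PrimeGraph.exists_orderOf_blocks (show k + (n - k) = n by omega) A B
      exact ⟨g, hg.trans ((congrArg₂ Nat.lcm hA hB).trans hrs'.lcm_eq_mul)⟩
    · have hkl' : k ∣ l := by
        by_contra h
        exact hcon ⟨Nat.lt_of_not_le hle, h⟩
      have hln : l ≤ n := CfsgLib.KnownB.PrimeGraph.ordQ_le p hs hsp
        (hsG.trans (Subgroup.card_quotient_dvd_card _))
      obtain ⟨A, hA, -⟩ := CfsgLib.KnownB.ElementOrders.exists_singer (F := F) l (by omega)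
      have hmul : (Fintype.card F - 1) * ((Fintype.card F ^ l - 1) / (Fintype.card F - 1)) =
          Fintype.card F ^ l - 1 :=
        Nat.mul_div_cancel' (by simpa using Nat.sub_dvd_pow_sub_pow (Fintype.card F) 1 l)
      have hd : r * s ∣ orderOf A := by
        refine hcop.dvd_of_dvd_mul_left ?_
        rw [hA, hmul]
        exact hrs'.mul_dvd_of_dvd_of_dvd
          ((CfsgLib.KnownB.PrimeGraph.dvd_pow_sub_one_iff _).2 hkl')
          ((CfsgLib.KnownB.PrimeGraph.dvd_pow_sub_one_iff _).2 dvd_rfl)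
      obtain ⟨A', hA'⟩ := CfsgLib.KnownB.ElementOrders.mem_range_orderOf_of_dvd hd
      obtain ⟨g, hg⟩ := CfsgLib.KnownB.PrimeGraph.exists_orderOf_blocks (show l + (n - l) = n by omega) A'
        (1 : Matrix.SpecialLinearGroup (Fin (n - l)) F)
      exact ⟨g, hg.trans ((congrArg₂ Nat.lcm hA' orderOf_one).trans (Nat.lcm_one_right _))⟩
  · rintro ⟨hn', hnd⟩ ⟨g, hg⟩
    have hF : ((r * s : ℕ) : F) ≠ 0 := by
      rw [Nat.cast_mul]
      exact mul_ne_zero (CfsgLib.KnownB.PrimeGraph.natCast_ne_zero p hr hrp)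
        (CfsgLib.KnownB.PrimeGraph.natCast_ne_zero p hs hsp)
    have h1 : (g : Matrix (Fin n) (Fin n) F) ^ (r * s) = 1 := by
      rw [← CfsgLib.KnownB.ElementOrders.sl_pow_eq_one_iff, ← hg, pow_orderOf_eq_one]
    have hnot : ∀ t, t ∣ r * s → t < r * s → 0 < t → (g : Matrix (Fin n) (Fin n) F) ^ t ≠ 1 := by
      intro t _ ht ht0 h
      have := Nat.le_of_dvd ht0 (orderOf_dvd_of_pow_eq_one
        ((CfsgLib.KnownB.ElementOrders.sl_pow_eq_one_iff g t).2 h))
      omega
    obtain ⟨f, hf, hfm, hfd, hf1, hf2⟩ := CfsgLib.KnownB.PrimeGraph.exists_factor hF h1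
      (hnot s (dvd_mul_left s r) (lt_mul_of_one_lt_left hs.pos hr.one_lt) hs.pos)
    obtain ⟨f', hf', hfm', hfd', hf1', hf2'⟩ := CfsgLib.KnownB.PrimeGraph.exists_factor
      (r := s) (t := r) (by rwa [mul_comm]) (by rwa [mul_comm])
      (hnot r (dvd_mul_right r s) (lt_mul_of_one_lt_right hr.pos hs.one_lt) hr.pos)
    have hkf : k ∣ f.natDegree := CfsgLib.KnownB.PrimeGraph.ordQ_dvd_natDegree hr hf hf1 hf2
    have hlf : l ∣ f'.natDegree := CfsgLib.KnownB.PrimeGraph.ordQ_dvd_natDegree hs hf' hf1' hf2'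
    by_cases hff : f = f'
    · subst hff
      obtain ⟨c, hc⟩ := hlf
      have hle := CfsgLib.KnownB.PrimeGraph.natDegree_le_of_dvd_minpoly hfd
      have := hf.natDegree_pos
      match c, hc with
      | 0, hc => rw [mul_zero] at hc; omega
      | 1, hc => exact hnd (by rwa [hc, mul_one] at hkf)
      | (c + 2), hc =>
        have : 2 * l ≤ f.natDegree := by rw [hc, mul_comm 2]; exact Nat.mul_le_mul_left l (by omega)
        have hkl' : k ≤ l := hkl
        omega
    · have h := CfsgLib.KnownB.PrimeGraph.natDegree_add_le hf hfm hf' hfm' hff hfd hfd'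
      have := Nat.le_of_dvd hf.natDegree_pos hkf
      have := Nat.le_of_dvd hf'.natDegree_pos hlf
      omega

end Cfsg.Agent.S2468
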