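import Cfsg.Statements.S2470
import Cfsg.Agent.Lib.KnownB.PrimeGraphLin
import Cfsg.Agent.Lib.Recog.ProjSpectrum

set_option autoImplicit false
open Cfsg

namespace Cfsg.Agent.S2470

open Polynomial Matrix CfsgLib.KnownB.ElementOrders CfsgLib.KnownB.PrimeGraph

variable {F : Type*} [Field F] [Fintype F]

/-- A Jordan block commuting with a homology. -/
theorem exists_three (p : ℕ) [Fact p.Prime] [CharP F p] {r : ℕ} (hr : r.Prime) (hrp : r ≠ p)
    (hrq : r ∣ Fintype.card F - 1) (h39 : r = 3 → 9 ∣ Fintype.card F - 1) :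
    r * p ∈ Set.range (orderOf : Matrix.ProjectiveSpecialLinearGroup (Fin 3) F → ℕ) := by
  classical
  haveI := Fact.mk hr
  have hN : (if r = 3 then 9 else r) ∣ Fintype.card F - 1 := by
    split_ifs with h
    · exact h39 h
    · exact hrq
  obtain ⟨ω, hω⟩ := IsCyclic.exists_ofOrder_eq_natCard (α := Fˣ)
  rw [Nat.card_units, Nat.card_eq_fintype_card] at hω
  obtain ⟨c, hc⟩ := hN
  set N := if r = 3 then 9 else r with hNdef
  have hc0 : c ≠ 0 := fun h0 => by
    have := Fintype.one_lt_card (α := F)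
    rw [h0, mul_zero] at hc
    omega
  set u := ω ^ c with hu
  have huN : orderOf u = N := by
    rw [hu, orderOf_pow_of_dvd hc0 (by rw [hω, hc]; exact dvd_mul_left c N), hω, hc,
      Nat.mul_div_cancel _ (Nat.pos_of_ne_zero hc0)]
  have hkey : ∀ m : ℕ, u ^ (3 * m) = 1 → r ∣ m := by
    intro m hm
    have h := orderOf_dvd_of_pow_eq_one hm
    rw [huN, hNdef] at h
    split_ifs at h with h3
    · subst h3; omega
    · exact (hr.dvd_mul.1 h).resolve_left fun hd =>
        h3 ((Nat.prime_dvd_prime_iff_eq hr Nat.prime_three).1 hd)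
  set t : F := (u : F) with ht
  have ht0 : t ≠ 0 := u.ne_zero
  let A : Matrix (Fin 3) (Fin 3) F := !![t, t, 0; 0, t, 0; 0, 0, (t ^ 2)⁻¹]
  have hA : A.det = 1 := by
    rw [Matrix.det_fin_three]
    simp [A]
    field_simp
  have hpow : ∀ m : ℕ, A ^ m = !![t ^ m, (m : F) * t ^ m, 0; 0, t ^ m, 0; 0, 0, ((t ^ 2)⁻¹) ^ m] := by
    intro m
    induction m with
    | zero => simp [Matrix.one_fin_three]
    | succ m ih =>
      rw [pow_succ, ih]
      ext i j
      fin_cases i <;> fin_cases j <;>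
        simp [A, Matrix.mul_apply, Fin.sum_univ_three, pow_succ] <;> ring
  set g : Matrix.ProjectiveSpecialLinearGroup (Fin 3) F :=
    QuotientGroup.mk (⟨A, hA⟩ : Matrix.SpecialLinearGroup (Fin 3) F)
  refine mem_range_orderOf_of_dvd (x := g) ?_
  obtain ⟨a, ha⟩ := mk_pow_eq_one_iff.1 (pow_orderOf_eq_one g)
  change A ^ orderOf g = _ at ha
  rw [hpow] at ha
  have h00 := congrFun (congrFun ha 0) 0
  have h01 := congrFun (congrFun ha 0) 1
  have h22 := congrFun (congrFun ha 2) 2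
  simp [Matrix.algebraMap_matrix_apply, ht0] at h00 h01 h22
  have hp1 : p ∣ orderOf g := (CharP.cast_eq_zero_iff F p _).1 h01
  have hr1 : r ∣ orderOf g := by
    refine hkey _ (Units.ext ?_)
    rw [Units.val_pow_eq_pow_val, Units.val_one, ← ht, show 3 * orderOf g = orderOf g + 2 * orderOf g by ring,
      pow_add, pow_mul, h00, ← h22]
    exact inv_mul_cancel₀ (pow_ne_zero _ (pow_ne_zero _ ht0))
  exact ((Nat.coprime_primes hr Fact.out).2 hrp).mul_dvd_of_dvd_of_dvd hr1 hp1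

/-- No element of order `3p` in `PSL(3, q)` when `3` divides `q - 1` exactly once. -/
theorem no_three (p : ℕ) [Fact p.Prime] [CharP F p] (hp3 : (3 : ℕ) ≠ p)
    (h3 : 3 ∣ Fintype.card F - 1) (h9 : ¬ 9 ∣ Fintype.card F - 1) :
    3 * p ∉ Set.range (orderOf : Matrix.ProjectiveSpecialLinearGroup (Fin 3) F → ℕ) := by
  classical
  rintro ⟨x, hx⟩
  obtain ⟨g, rfl⟩ := QuotientGroup.mk_surjective x
  set P₀ := (QuotientGroup.mk g : Matrix.ProjectiveSpecialLinearGroup (Fin 3) F)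
  have h3F : (3 : F) ≠ 0 := by
    have := natCast_ne_zero (F := F) p Nat.prime_three hp3
    simpa using this
  have hne3 : ∀ c : F, (g : Matrix (Fin 3) (Fin 3) F) ^ 3 ≠ algebraMap F _ c := fun c hc => by
    have h1 := Nat.le_of_dvd (by norm_num) (hx ▸ orderOf_dvd_of_pow_eq_one (mk_pow_eq_one_iff.2 ⟨c, hc⟩))
    have := (Fact.out : p.Prime).two_le
    omega
  have hnep : ∀ c : F, (g : Matrix (Fin 3) (Fin 3) F) ^ p ≠ algebraMap F _ c := fun c hc => by
    have h1 := Nat.le_of_dvd (Fact.out : p.Prime).pos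
      (hx ▸ orderOf_dvd_of_pow_eq_one (mk_pow_eq_one_iff.2 ⟨c, hc⟩))
    have := (Fact.out : p.Prime).two_le
    omega
  obtain ⟨c, hc⟩ := mk_pow_eq_one_iff.1 (pow_orderOf_eq_one P₀)
  rw [hx] at hc
  set h := (g : Matrix (Fin 3) (Fin 3) F) ^ p with hh
  have hh3 : h ^ 3 = algebraMap F _ c := by rw [hh, ← pow_mul, mul_comm, hc]
  -- the unipotent part
  obtain ⟨d, hd⟩ := Finite.injective_iff_surjective.1 (frobenius_inj F p) c
  rw [frobenius_def] at hd
  set N := (g : Matrix (Fin 3) (Fin 3) F) ^ 3 - algebraMap F _ d with hN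
  have hN0 : N ≠ 0 := sub_ne_zero.2 (hne3 d)
  have hNnil : IsNilpotent N := ⟨p, by
    rw [hN, sub_pow_char_of_commute p (Algebra.commute_algebraMap_right d _), ← pow_mul, hc, ← map_pow, hd,
      sub_self]⟩
  have hcom : Commute N h :=
    (Commute.pow_pow_self _ 3 p).sub_left (Algebra.commute_algebraMap_left d h)
  obtain ⟨v, hv, hv2⟩ := exists_vec hN0 hNnil
  -- a cube root of the scalar
  obtain ⟨a₀, ha₀⟩ : ∃ a : F, a ^ 3 = c := by
    by_contra hno
    push Not at hno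
    have hf : Irreducible (X ^ 3 - C c : F[X]) := by
      refine X_pow_sub_C_irreducible_of_prime Nat.prime_three fun b hb => hno b hb
    have h1 := two_mul_natDegree_le hcom hf hv hv2 (by
      rw [map_sub, map_pow, aeval_X, aeval_C, hh3, sub_self, Matrix.zero_mulVec])
    rw [natDegree_X_pow_sub_C] at h1
    omega
  have hc0 : c ≠ 0 := by
    rintro rfl
    have := congrArg Matrix.det hc
    rw [Matrix.det_pow, g.det_coe, one_pow, map_zero, Matrix.det_zero] at this
    exact one_ne_zero this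
  have ha₀0 : a₀ ≠ 0 := by
    rintro rfl
    rw [zero_pow three_ne_zero] at ha₀
    exact hc0 ha₀.symm
  haveI := Fact.mk Nat.prime_three
  obtain ⟨ωu, hωu⟩ := exists_prime_orderOf_dvd_card' (G := Fˣ) 3
    (by rwa [Nat.card_units, Nat.card_eq_fintype_card])
  set ω : F := (ωu : F) with hω
  have hω3 : ω ^ 3 = 1 := by rw [hω, ← Units.val_pow_eq_pow_val, ← hωu, pow_orderOf_eq_one, Units.val_one]
  have hω1 : ω ≠ 1 := fun h1 => by
    rw [hω, Units.val_eq_one] at h1
    rw [h1, orderOf_one] at hωu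
    norm_num at hωu
  have hsum : 1 + ω + ω ^ 2 = 0 := by
    have : (ω - 1) * (1 + ω + ω ^ 2) = 0 := by linear_combination hω3
    exact (mul_eq_zero.1 this).resolve_left (sub_ne_zero.2 hω1)
  -- an eigenvector pair
  obtain ⟨a, u, ha, hua, hu, hu2⟩ : ∃ a : F, ∃ u : Fin 3 → F, a ^ 3 = c ∧ h *ᵥ u = a • u ∧
      N *ᵥ u ≠ 0 ∧ N *ᵥ (N *ᵥ u) = 0 := by
    have hswap : ∀ x, N *ᵥ (h *ᵥ x) = h *ᵥ (N *ᵥ x) := fun x => by
      rw [Matrix.mulVec_mulVec, hcom.eq, ← Matrix.mulVec_mulVec]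
    have hhh : h *ᵥ (h *ᵥ (h *ᵥ v)) = c • v := by
      rw [Matrix.mulVec_mulVec, Matrix.mulVec_mulVec, ← pow_three', hh3, Algebra.algebraMap_eq_smul_one,
        Matrix.smul_mulVec, Matrix.one_mulVec]
    let E : F → (Fin 3 → F) := fun b => v + b⁻¹ • (h *ᵥ v) + (b⁻¹) ^ 2 • (h *ᵥ (h *ᵥ v))
    have hEv : ∀ b : F, b ^ 3 = c → h *ᵥ E b = b • E b := by
      intro b hb
      have hb0 : b ≠ 0 := by
        rintro rfl
        exact hc0 (by rw [← hb, zero_pow three_ne_zero])
      simp only [E, Matrix.mulVec_add, Matrix.mulVec_smul, smul_add, smul_smul, hhh]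
      rw [mul_inv_cancel₀ hb0, one_smul, show b * b⁻¹ ^ 2 = b⁻¹ by field_simp,
        show b⁻¹ ^ 2 * c = b by rw [← hb]; field_simp]
      abel
    have hE2 : ∀ b, N *ᵥ (N *ᵥ E b) = 0 := fun b => by
      simp only [E, Matrix.mulVec_add, Matrix.mulVec_smul, hswap, hv2, Matrix.mulVec_zero, smul_zero, add_zero]
    have hω0 : ω ≠ 0 := ωu.ne_zero
    have hroot : ∀ i : ℕ, (a₀ * ω ^ i) ^ 3 = c := fun i => by
      rw [mul_pow, ← pow_mul, mul_comm i, pow_mul, hω3, one_pow, mul_one, ha₀]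
    by_contra hcon
    push Not at hcon
    have hz : ∀ i : ℕ, N *ᵥ E (a₀ * ω ^ i) = 0 := fun i => by
      by_contra hne
      exact hcon _ _ (hroot i) (hEv _ (hroot i)) hne (hE2 _)
    have hi : ω⁻¹ = ω ^ 2 := inv_eq_of_mul_eq_one_right (by linear_combination hω3)
    have htot : E a₀ + E (a₀ * ω) + E (a₀ * ω ^ 2) = (3 : F) • v := by
      simp only [E]
      ext i
      simp only [Pi.add_apply, Pi.smul_apply, smul_eq_mul, mul_inv, ← inv_pow, hi]
      linear_combination ((h *ᵥ v) i * a₀⁻¹ + (h *ᵥ (h *ᵥ v)) i * a₀⁻¹ ^ 2) * hsum +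
        ((h *ᵥ v) i * a₀⁻¹ * ω + (h *ᵥ (h *ᵥ v)) i * a₀⁻¹ ^ 2 * (ω + ω ^ 2 * (ω ^ 3 + 1))) * hω3
    have h0 := congrArg (N *ᵥ ·) htot
    simp only [Matrix.mulVec_add, Matrix.mulVec_smul] at h0
    have e0 := hz 0
    have e1 := hz 1
    rw [pow_zero, mul_one] at e0
    rw [pow_one] at e1
    rw [e0, e1, hz 2, add_zero, add_zero] at h0
    exact hv ((smul_eq_zero.1 h0.symm).resolve_left h3F)
  have hNu : h *ᵥ (N *ᵥ u) = a • (N *ᵥ u) := by
    rw [Matrix.mulVec_mulVec, ← hcom.eq, ← Matrix.mulVec_mulVec, hua, Matrix.mulVec_smul]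
  have hlin : LinearIndependent F ![u, N *ᵥ u] := by
    rw [LinearIndependent.pair_iff]
    intro s t hst
    have h1 := congrArg (N *ᵥ ·) hst
    simp only [Matrix.mulVec_add, Matrix.mulVec_smul, hu2, smul_zero, add_zero, Matrix.mulVec_zero] at h1
    have hs : s = 0 := (smul_eq_zero.1 h1).resolve_right hu
    rw [hs, zero_smul, zero_add] at hst
    exact ⟨hs, (smul_eq_zero.1 hst).resolve_right hu⟩
  obtain ⟨w, hw⟩ : ∃ w, w ∉ Submodule.span F (Set.range ![u, N *ᵥ u]) := by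
    by_contra hcon
    push Not at hcon
    have h1 := finrank_span_eq_card hlin
    rw [Submodule.eq_top_iff'.2 hcon, finrank_top, Module.finrank_fin_fun, Fintype.card_fin] at h1
    omega
  have hlin3 := hlin.finSnoc hw
  set Q : Matrix (Fin 3) (Fin 3) F := Matrix.of fun i j => (Fin.snoc ![u, N *ᵥ u] w : Fin 3 → Fin 3 → F) j i
    with hQ
  have hQu : IsUnit Q := Matrix.linearIndependent_cols_iff_isUnit.1 hlin3
  obtain ⟨Q, hQQ⟩ := hQu
  set T := ((Q⁻¹ : (Matrix (Fin 3) (Fin 3) F)ˣ) : Matrix (Fin 3) (Fin 3) F) * h * (Q : Matrix (Fin 3) (Fin 3) F) with hT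
  have hQT : (Q : Matrix (Fin 3) (Fin 3) F) * T = h * Q := by
    rw [hT, ← mul_assoc, ← mul_assoc, Units.mul_inv, one_mul]
  have hcol : ∀ j, h *ᵥ (Q.1 *ᵥ Pi.single j 1) = a • (Q.1 *ᵥ Pi.single j 1) →
      T *ᵥ Pi.single j 1 = a • Pi.single j 1 := by
    intro j hj
    rw [hT, mul_assoc, ← Matrix.mulVec_mulVec, ← Matrix.mulVec_mulVec, hj, Matrix.mulVec_smul,
      Matrix.mulVec_mulVec, Units.inv_mul, Matrix.one_mulVec]
  have hsnoc : ∀ j : Fin 3, Q.1 *ᵥ Pi.single j 1 = (Fin.snoc ![u, N *ᵥ u] w : Fin 3 → Fin 3 → F) j := by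
    intro j
    rw [Matrix.mulVec_single_one, hQQ]
    rfl
  have hT0 := hcol 0 (by rw [hsnoc, show (Fin.snoc ![u, N *ᵥ u] w : Fin 3 → Fin 3 → F) 0 = u from rfl, hua])
  have hT1 := hcol 1 (by rw [hsnoc, show (Fin.snoc ![u, N *ᵥ u] w : Fin 3 → Fin 3 → F) 1 = N *ᵥ u from rfl, hNu])
  rw [Matrix.mulVec_single_one] at hT0 hT1
  have hTform : T = !![a, 0, T 0 2; 0, a, T 1 2; 0, 0, T 2 2] := by
    ext i j
    have e0 := congrFun hT0 i
    have e1 := congrFun hT1 i
    fin_cases i <;> fin_cases j <;> simp_all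
  have hT3 : T ^ 3 = algebraMap F _ c := by
    rw [hT, Units.conj_pow' Q h 3, hh3, ← Algebra.commutes, mul_assoc, Units.inv_mul, mul_one]
  have hdetT : T.det = 1 := by
    rw [hT, Matrix.det_mul_right_comm, Units.inv_mul, one_mul, hh, Matrix.det_pow, g.det_coe, one_pow]
  set γ := T 2 2 with hγ
  rw [hTform, pow_three] at hT3
  rw [hTform, Matrix.det_fin_three] at hdetT
  simp at hdetT
  have h22 := congrFun (congrFun hT3 2) 2
  have h02 := congrFun (congrFun hT3 0) 2
  have h12 := congrFun (congrFun hT3 1) 2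
  simp [Matrix.mul_apply, Fin.sum_univ_three, Matrix.algebraMap_matrix_apply] at h22 h02 h12
  have hγ3 : γ ^ 3 = a ^ 3 := by rw [ha]; linear_combination h22
  have ha9 : a ^ 9 = 1 := by
    have : (a * a * γ) ^ 3 = 1 := by rw [hdetT, one_pow]
    rw [← this]
    linear_combination (-(a ^ 6)) * hγ3
  have ha0 : a ≠ 0 := by
    rintro rfl
    exact hc0 (by rw [← ha, zero_pow three_ne_zero])
  have ha3 : a ^ 3 = 1 := by
    have h1 : orderOf (Units.mk0 a ha0) ∣ Nat.gcd 9 (Fintype.card F - 1) := by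
      refine Nat.dvd_gcd (orderOf_dvd_of_pow_eq_one (Units.ext (by simpa using ha9))) ?_
      have h2 := orderOf_dvd_natCard (Units.mk0 a ha0)
      rwa [Nat.card_units, Nat.card_eq_fintype_card] at h2
    have hg : Nat.gcd 9 (Fintype.card F - 1) = 3 := by
      have hd : Nat.gcd 9 (Fintype.card F - 1) ∣ 3 ^ 2 := Nat.gcd_dvd_left 9 _
      obtain ⟨i, hi, hi'⟩ := (Nat.dvd_prime_pow Nat.prime_three).1 hd
      have h3' : 3 ∣ Nat.gcd 9 (Fintype.card F - 1) := Nat.dvd_gcd (by norm_num) h3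
      interval_cases i
      · rw [hi'] at h3'; norm_num at h3'
      · simpa using hi'
      · exact absurd ((show (3 : ℕ) ^ 2 = 9 by norm_num) ▸ hi' ▸ Nat.gcd_dvd_right 9 _) h9
    rw [hg] at h1
    have := congrArg Units.val (orderOf_dvd_iff_pow_eq_one.1 h1)
    simpa using this
  have hγa : γ = a := by linear_combination a * hdetT + (-γ) * ha3
  rw [hγa] at h02 h12
  have hs : (3 : F) * a ^ 2 ≠ 0 := mul_ne_zero h3F (pow_ne_zero _ ha0)
  have hα : T 0 2 = 0 := (mul_eq_zero.1 (show ((3 : F) * a ^ 2) * T 0 2 = 0 by linear_combination h02)).resolve_left hs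
  have hβ : T 1 2 = 0 := (mul_eq_zero.1 (show ((3 : F) * a ^ 2) * T 1 2 = 0 by linear_combination h12)).resolve_left hs
  have hTa : T = algebraMap F _ a := by
    rw [hTform, hα, hβ, hγa]
    ext i j
    fin_cases i <;> fin_cases j <;> simp [Matrix.algebraMap_matrix_apply]
  refine hnep a ?_
  rw [← mul_one h, ← Units.mul_inv Q, ← mul_assoc, ← hQT, hTa, ← Algebra.commutes, mul_assoc,
    Units.mul_inv, mul_one]

/-- Adjacency of an odd prime and the characteristic in the prime graph of PSL(n,q): let F be a finite field of characteristic p with q elements, n ≥ 2 with PSL(n,F) simple, and let r ≠ p be an odd prime dividing the order of PSL(n,F), with k the multiplicative order of q modulo r. Then PSL(n,F) has NO element of order r·p if and only if either k > n − 2, or n = 3, r = 3 and 3 divides q − 1 exactly once. -/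
theorem result {F : Type*} [Field F] [Fintype F] (p : ℕ) [Fact p.Prime] [CharP F p] (n : ℕ) (hn : 2 ≤ n) (hsmall : n = 2 → 4 ≤ Fintype.card F)
    (r : ℕ) (hr : r.Prime) (hr2 : r ≠ 2) (hrp : r ≠ p) (hrG : r ∣ Nat.card (Matrix.ProjectiveSpecialLinearGroup (Fin n) F))
    (k : ℕ) (hk : k = orderOf ((Fintype.card F : ℕ) : ZMod r)) :
    (r * p ∉ Set.range (orderOf : Matrix.ProjectiveSpecialLinearGroup (Fin n) F → ℕ)) ↔
      (n - 2 < k ∨ (n = 3 ∧ r = 3 ∧ 3 ∣ Fintype.card F - 1 ∧ ¬ 9 ∣ Fintype.card F - 1)) := by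
  classical
  subst hk
  change (r * p ∉ Set.range (orderOf : Matrix.ProjectiveSpecialLinearGroup (Fin n) F → ℕ)) ↔
      (n - 2 < ordQ F r ∨ (n = 3 ∧ r = 3 ∧ 3 ∣ Fintype.card F - 1 ∧ ¬ 9 ∣ Fintype.card F - 1))
  have hp := (Fact.out : p.Prime)
  have hk0 := ordQ_pos (F := F) p hr hrp
  rcases hn.eq_or_lt with rfl | hn3
  · refine iff_of_true ?_ (Or.inl (by omega))
    rw [CfsgLib.Recog.range_orderOf_PSL_two p]
    rintro (h | h | h)
    · exact hr.ne_one (Nat.eq_of_mul_eq_mul_right hp.pos (h.trans (one_mul p).symm))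
    · have h1 := ((dvd_mul_left p r).trans h).trans (Nat.div_dvd_of_dvd ?_)
      · obtain ⟨f, -, hf⟩ := FiniteField.card F p
        have h2 := Nat.dvd_sub (hf ▸ dvd_pow_self p f.ne_zero : p ∣ Fintype.card F) h1
        rw [Nat.sub_sub_self Fintype.card_pos] at h2
        exact hp.ne_one (Nat.dvd_one.1 h2)
      · unfold CfsgLib.Recog.dTwo; split
        · exact one_dvd _
        · rename_i hodd; rw [Nat.not_even_iff] at hodd; omega
    · have h1 := ((dvd_mul_left p r).trans h).trans (Nat.div_dvd_of_dvd ?_)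
      · obtain ⟨f, -, hf⟩ := FiniteField.card F p
        have h2 := Nat.dvd_sub h1 (hf ▸ dvd_pow_self p f.ne_zero : p ∣ Fintype.card F)
        rw [Nat.add_sub_cancel_left] at h2
        exact hp.ne_one (Nat.dvd_one.1 h2)
      · unfold CfsgLib.Recog.dTwo; split
        · exact one_dvd _
        · rename_i hodd; rw [Nat.not_even_iff] at hodd; omega
  constructor
  · intro hno
    by_contra hcon
    rw [not_or] at hcon
    obtain ⟨hle, hex⟩ := hcon
    refine hno ?_
    by_cases h4 : 4 ≤ n ∨ 2 ≤ ordQ F r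
    · obtain ⟨j, hj2, hjn, hj⟩ : ∃ j, 2 ≤ j ∧ j ≤ n - 2 ∧ ordQ F r ∣ j := by
        rcases le_or_gt 2 (ordQ F r) with h | h
        · exact ⟨_, h, by omega, dvd_rfl⟩
        · exact ⟨2, le_rfl, by omega, (show ordQ F r = 1 by omega) ▸ one_dvd _⟩
      haveI := Fact.mk hr
      obtain ⟨A, hA⟩ := exists_prime_orderOf_dvd_card' r
        (dvd_card_SL (a := n - 2) hj2 hjn ((dvd_pow_sub_one_iff j).2 hj))
      obtain ⟨U, hU, hfix⟩ := exists_unipotent (F := F) p two_pos
      have hclog : Nat.clog p 2 = 1 :=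
        le_antisymm (Nat.clog_le_of_le_pow (by rw [pow_one]; exact hp.two_le))
          (Nat.clog_pos hp.one_lt one_lt_two)
      rw [hclog, pow_one] at hU
      obtain ⟨g, -, hg, -⟩ := exists_blocks (show n - 2 + 2 = n by omega) A U
      obtain ⟨h1, h2, -⟩ := hg hfix
      rw [hA] at h1
      rw [hU] at h2
      exact mem_range_orderOf_of_dvd (((Nat.coprime_primes hr hp).2 hrp).mul_dvd_of_dvd_of_dvd h1 h2)
    · obtain rfl : n = 3 := by omega
      have hr1 : r ∣ Fintype.card F - 1 := by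
        have := (dvd_pow_sub_one_iff (F := F) (r := r) 1).2
          (by rw [show ordQ F r = 1 by omega])
        rwa [pow_one] at this
      refine exists_three p hr hrp hr1 fun h3 => ?_
      by_contra h9
      exact hex ⟨rfl, h3, h3 ▸ hr1, h9⟩
  · rintro (h | ⟨rfl, rfl, h3, h9⟩) hmem
    · have := ordQ_add_two_le_of_mem p hr hrp (by omega) hmem
      omega
    · exact no_three p hrp h3 h9 hmem

end Cfsg.Agent.S2470
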