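import Cfsg.Statements.S2471
import Cfsg.Agent.Lib.Recog.ProjSpectrum
-- import your own Cfsg.Agent.* helpers here

set_option autoImplicit false
open Cfsg

namespace Cfsg.Agent.S2471

/-- In PSL(2,q) with q odd, the characteristic p is isolated from 2 in the prime graph: for F a finite field of odd characteristic p with at least 5 elements, PSL(2,F) has no element of order 2p. -/
theorem result {F : Type*} [Field F] [Fintype F] (p : ℕ) [Fact p.Prime] [CharP F p] (hp : p ≠ 2) (h5 : 5 ≤ Fintype.card F) (g : Matrix.ProjectiveSpecialLinearGroup (Fin 2) F) :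
    orderOf g ≠ 2 * p := by
  intro h
  obtain ⟨y, rfl⟩ := QuotientGroup.mk'_surjective _ g
  have hd := CfsgLib.Recog.dTwo_dvd_card_sub_one (F := F)
  have hd' := CfsgLib.Recog.dTwo_dvd_card_add_one (F := F)
  obtain ⟨k, hk0, hk⟩ := CfsgLib.Recog.exists_card_eq_pow (F := F) p
  have hpq : p ∣ Fintype.card F := hk ▸ dvd_pow_self p hk0.ne'
  have h2 := (Fact.out : p.Prime).two_le
  rcases CfsgLib.Recog.orderOf_PSL_two_dvd p y with h' | h' | h' <;> rw [h] at h'
  · have := Nat.le_of_dvd (by omega) h'
    omega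
  · have h1 : p ∣ Fintype.card F - 1 := (dvd_mul_left p 2).trans (h'.trans (Nat.div_dvd_of_dvd hd))
    have h3 := Nat.dvd_sub hpq h1
    rw [Nat.sub_sub_self (by omega)] at h3
    exact absurd (Nat.dvd_one.1 h3) (by omega)
  · have h1 : p ∣ Fintype.card F + 1 := (dvd_mul_left p 2).trans (h'.trans (Nat.div_dvd_of_dvd hd'))
    exact absurd (Nat.dvd_one.1 ((Nat.dvd_add_right hpq).1 h1)) (by omega)

end Cfsg.Agent.S2471
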