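import Cfsg.Statements.S2475
import Cfsg.Agent.Lib.Recog.ProjSpectrum
-- import your own Cfsg.Agent.* helpers here

set_option autoImplicit false
open Cfsg

namespace Cfsg.Agent.S2475

/-- The set of element orders of PSL(2,q): let F be a finite field of characteristic p with q ≥ 4 elements and d = gcd(2, q − 1). The orders of elements of PSL(2,F) are exactly the divisors of p, of (q − 1)/d and of (q + 1)/d. -/
theorem result {F : Type*} [Field F] [Fintype F] (p : ℕ) [Fact p.Prime] [CharP F p] (h4 : 4 ≤ Fintype.card F) :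
    Set.range (orderOf : Matrix.ProjectiveSpecialLinearGroup (Fin 2) F → ℕ) =
      {m : ℕ | m ∣ p ∨ m ∣ (Fintype.card F - 1) / Nat.gcd 2 (Fintype.card F - 1) ∨ m ∣ (Fintype.card F + 1) / Nat.gcd 2 (Fintype.card F - 1)} := by
  rw [CfsgLib.Recog.range_orderOf_PSL_two p]
  have hd : CfsgLib.Recog.dTwo F = Nat.gcd 2 (Fintype.card F - 1) := by
    have : 0 < Fintype.card F := Fintype.card_pos
    unfold CfsgLib.Recog.dTwo
    rw [Nat.gcd_rec]
    split <;> rename_i h <;> rw [Nat.even_iff] at h
    · rw [show (Fintype.card F - 1) % 2 = 1 by omega]; rfl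
    · rw [show (Fintype.card F - 1) % 2 = 0 by omega]; rfl
  rw [hd]
  ext m
  simp only [Set.mem_setOf_eq]
  refine ⟨fun h => ?_, fun h => ?_⟩
  · rcases h with rfl | h
    · exact Or.inl dvd_rfl
    · exact Or.inr h
  · rcases h with h | h
    · rcases (Nat.dvd_prime (Fact.out : p.Prime)).1 h with rfl | rfl
      · exact Or.inr (Or.inl (one_dvd _))
      · exact Or.inl rfl
    · exact Or.inr h

end Cfsg.Agent.S2475
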