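import Cfsg.Statements.S2476
import Cfsg.Agent.Lib.KnownB.PSLOrders

set_option autoImplicit false
open Cfsg

namespace Cfsg.Agent.S2476

open Polynomial Matrix CfsgLib.KnownB.ElementOrders CfsgLib.KnownB.PSLOrders

variable {F : Type*} [Field F] [Fintype F]

/-- The common divisor. -/
abbrev dd (F : Type*) [Fintype F] : ℕ := Nat.gcd 3 (Fintype.card F - 1)

theorem q_eq : Fintype.card F = Fintype.card F - 1 + 1 := (Nat.sub_add_cancel Fintype.card_pos).symm

theorem geom_three : geom F 3 = Fintype.card F ^ 2 + Fintype.card F + 1 := by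
  have h := geom_mul (F := F) 3
  obtain ⟨k, hk⟩ : ∃ k, Fintype.card F = k + 2 := ⟨Fintype.card F - 2, by
    have := Fintype.one_lt_card (α := F); omega⟩
  rw [hk] at h ⊢
  refine Nat.eq_of_mul_eq_mul_left (show 0 < k + 2 - 1 by omega) (h.trans ?_)
  have : (k + 2 - 1) * ((k + 2) ^ 2 + (k + 2) + 1) + 1 = (k + 2) ^ 3 := by
    rw [show k + 2 - 1 = k + 1 by omega]; ring
  omega

theorem gcd_geom : Nat.gcd (geom F 3) (Fintype.card F - 1) = dd F := by
  rw [geom_three, dd]
  obtain ⟨m, hm⟩ : ∃ m, Fintype.card F = m + 1 := ⟨_, q_eq⟩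
  rw [hm, Nat.add_sub_cancel, show (m + 1) ^ 2 + (m + 1) + 1 = 3 + m * (m + 3) by ring,
    Nat.gcd_add_mul_left_left]

theorem singer_three : singer F 3 = (Fintype.card F ^ 2 + Fintype.card F + 1) / dd F := by
  rw [singer, gcd_geom, geom_three]

theorem dd_dvd_three : dd F ∣ 3 := Nat.gcd_dvd_left _ _

theorem dd_dvd_q2 : dd F ∣ Fintype.card F ^ 2 - 1 :=
  (Nat.gcd_dvd_right _ _).trans (by simpa using Nat.sub_dvd_pow_sub_pow (Fintype.card F) 1 2)

theorem dd_pos : 0 < dd F := Nat.gcd_pos_of_pos_left _ (by norm_num)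

theorem pred_dvd_three_mul : Fintype.card F - 1 ∣ 3 * ((Fintype.card F - 1) / dd F) := by
  obtain ⟨a, ha⟩ := (dd_dvd_three : dd F ∣ 3)
  refine ⟨a, ?_⟩
  conv_lhs => rw [ha]
  rw [mul_right_comm, Nat.mul_div_cancel' (Nat.gcd_dvd_right _ _)]

theorem q2_dvd_mul : Fintype.card F ^ 2 - 1 ∣ (Fintype.card F + 2) * ((Fintype.card F ^ 2 - 1) / dd F) := by
  obtain ⟨a, ha⟩ : dd F ∣ Fintype.card F + 2 := by
    rw [show Fintype.card F + 2 = Fintype.card F - 1 + 3 by have := q_eq (F := F); omega]
    exact dvd_add (Nat.gcd_dvd_right _ _) dd_dvd_three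
  refine ⟨a, ?_⟩
  conv_lhs => rw [ha]
  rw [mul_right_comm, Nat.mul_div_cancel' dd_dvd_q2]

theorem q2_gcd : Nat.gcd (Fintype.card F ^ 2 - 1) (Fintype.card F + 2) ∣ dd F := by
  set g := Nat.gcd (Fintype.card F ^ 2 - 1) (Fintype.card F + 2)
  have h1 : g ∣ Fintype.card F ^ 2 - 1 := Nat.gcd_dvd_left _ _
  have h2 : g ∣ Fintype.card F + 2 := Nat.gcd_dvd_right _ _
  obtain ⟨k, hk⟩ : ∃ k, Fintype.card F = k + 2 := ⟨Fintype.card F - 2, by
    have := Fintype.one_lt_card (α := F); omega⟩
  rw [hk] at h1 h2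
  rw [dd, hk]
  have h3 : (k + 2 + 2) * k + 3 = (k + 2) ^ 2 - 1 := by
    have : (k + 2 + 2) * k + 3 + 1 = (k + 2) ^ 2 := by ring
    omega
  have hg3 : g ∣ 3 := (Nat.dvd_add_right (h2.mul_right k)).1 (h3 ▸ h1)
  refine Nat.dvd_gcd hg3 ?_
  rw [show k + 2 + 2 = k + 2 - 1 + 3 by omega] at h2
  exact (Nat.dvd_add_left hg3).1 h2

/-- An element of an extension killed by `q - 1` lies in the field. -/
theorem exists_algebraMap {K : Type*} [Field K] [Algebra F K] {x : K}
    (h : x ^ (Fintype.card F - 1) = 1) : ∃ c : F, x = algebraMap F K c := by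
  classical
  by_contra hno
  push Not at hno
  have hle := Polynomial.card_roots' (X ^ (Fintype.card F - 1) - 1 : K[X])
  have hq : 0 < Fintype.card F - 1 := Nat.sub_pos_of_lt Fintype.one_lt_card
  have hne : (X ^ (Fintype.card F - 1) - 1 : K[X]) ≠ 0 := by
    simpa using X_pow_sub_C_ne_zero hq (1 : K)
  set S : Finset K := insert x ((Finset.univ.filter fun c : F => c ≠ 0).image (algebraMap F K)) with hS
  have hsub : S.val ⊆ (X ^ (Fintype.card F - 1) - 1 : K[X]).roots := by
    intro y hy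
    rw [Polynomial.mem_roots hne, IsRoot, eval_sub, eval_pow, eval_X, eval_one, sub_eq_zero]
    rcases Finset.mem_insert.1 hy with rfl | hy
    · exact h
    · obtain ⟨c, hc, rfl⟩ := Finset.mem_image.1 hy
      rw [← map_pow, FiniteField.pow_card_sub_one_eq_one c (Finset.mem_filter.1 hc).2, map_one]
  have hnd := (Multiset.le_iff_subset S.nodup).2 hsub
  have hcard := (Multiset.card_le_card hnd).trans hle
  have hxS : x ∉ (Finset.univ.filter fun c : F => c ≠ 0).image (algebraMap F K) := by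
    intro hx
    obtain ⟨c, -, hc⟩ := Finset.mem_image.1 hx
    exact hno c hc.symm
  rw [show S.val.card = S.card from rfl, hS, Finset.card_insert_of_notMem hxS,
    Finset.card_image_of_injective _ (algebraMap F K).injective, Finset.filter_ne' Finset.univ (0 : F),
    Finset.card_erase_of_mem (Finset.mem_univ _), Finset.card_univ] at hcard
  rw [← map_one (C : K →+* K[X]), natDegree_X_pow_sub_C] at hcard
  omega

local notation "P" => Matrix.ProjectiveSpecialLinearGroup (Fin 3) F

/-- A polynomial divisor of `X ^ m - c` bounds the projective order. -/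
theorem orderOf_dvd_of_poly {g : Matrix.SpecialLinearGroup (Fin 3) F} {Q : F[X]}
    (hQ : aeval (g : Matrix (Fin 3) (Fin 3) F) Q = 0) {m : ℕ} {c : F} (h : Q ∣ X ^ m - C c) :
    orderOf (QuotientGroup.mk g : P) ∣ m := by
  refine orderOf_dvd_of_pow_eq_one (mk_pow_eq_one_iff.2 ⟨c, ?_⟩)
  obtain ⟨e, he⟩ := h
  have h1 := congrArg (aeval (g : Matrix (Fin 3) (Fin 3) F)) he
  rw [map_mul, hQ, zero_mul, map_sub, map_pow, aeval_X, aeval_C, sub_eq_zero] at h1
  exact h1

/-- The upper bound. -/
theorem upper (p : ℕ) [Fact p.Prime] [CharP F p] (x : P) :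
    orderOf x ∣ (Fintype.card F ^ 2 + Fintype.card F + 1) / dd F ∨
      orderOf x ∣ (Fintype.card F ^ 2 - 1) / dd F ∨ orderOf x ∣ Fintype.card F - 1 ∨
      orderOf x ∣ p * (Fintype.card F - 1) / dd F ∨ (p = 2 ∧ orderOf x ∣ 4) := by
  classical
  obtain ⟨g, rfl⟩ := QuotientGroup.mk_surjective x
  set A : Matrix (Fin 3) (Fin 3) F := (g : Matrix (Fin 3) (Fin 3) F)
  set Q := A.charpoly
  have hQm : Q.Monic := Matrix.charpoly_monic _
  have hQd : Q.natDegree = 3 := by rw [Matrix.charpoly_natDegree_eq_dim, Fintype.card_fin]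
  have hQA : aeval A Q = 0 := Matrix.aeval_self_charpoly A
  have hQ0 : Q.coeff 0 = -1 := by
    have h := Matrix.det_eq_sign_charpoly_coeff A
    rw [g.det_coe, Fintype.card_fin] at h
    linear_combination h
  by_cases hroot : ∃ b, Q.IsRoot b
  · obtain ⟨b, hb⟩ := hroot
    obtain ⟨f, hf⟩ := dvd_iff_isRoot.2 hb
    have hfm : f.Monic := (monic_X_sub_C b).of_mul_monic_left (hf ▸ hQm)
    have hfd : f.natDegree = 2 := by
      have := congrArg natDegree hf
      rw [hQd, (monic_X_sub_C b).natDegree_mul hfm, natDegree_X_sub_C] at this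
      omega
    have hb0 : b ≠ 0 := fun h0 => by
      have := congrArg (fun Z : F[X] => Z.coeff 0) hf
      simp [h0, hQ0] at this
    by_cases hfroot : ∃ a, f.IsRoot a
    · -- the split case
      obtain ⟨a, ha⟩ := hfroot
      obtain ⟨l, hl⟩ := dvd_iff_isRoot.2 ha
      have hlm : l.Monic := (monic_X_sub_C a).of_mul_monic_left (hl ▸ hfm)
      have hld : l.natDegree = 1 := by
        have := congrArg natDegree hl
        rw [hfd, (monic_X_sub_C a).natDegree_mul hlm, natDegree_X_sub_C] at this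
        omega
      obtain ⟨c, rfl⟩ : ∃ c, l = X - C c := ⟨-l.coeff 0, by
        rw [map_neg, sub_neg_eq_add]; exact hlm.eq_X_add_C hld⟩
      rw [hl] at hf
      have habc : b * (a * c) = 1 := by
        have := congrArg (fun Z : F[X] => Z.coeff 0) hf
        simp [Polynomial.mul_coeff_zero, hQ0] at this
        linear_combination -this
      have ha0 : a ≠ 0 := left_ne_zero_of_mul (right_ne_zero_of_mul_eq_one habc)
      have hc0 : c ≠ 0 := right_ne_zero_of_mul (right_ne_zero_of_mul_eq_one habc)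
      have hfer : ∀ x : F, x ≠ 0 → (X - C x) ∣ X ^ (Fintype.card F - 1) - C 1 := fun x hx => by
        rw [dvd_iff_isRoot]
        simp [FiniteField.pow_card_sub_one_eq_one x hx]
      -- two equal roots
      have hrep : ∀ u v : F, u ≠ 0 → u * u * v = 1 → Q = (X - C u) * ((X - C u) * (X - C v)) →
          orderOf (QuotientGroup.mk g : P) ∣ p * (Fintype.card F - 1) / dd F ∨
            (p = 2 ∧ orderOf (QuotientGroup.mk g : P) ∣ 4) := by
        intro u v hu huv hQuv
        by_cases huv' : u = v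
        · subst huv'
          by_cases hp2 : p = 2
          · subst hp2
            refine Or.inr ⟨rfl, orderOf_dvd_of_poly (c := u ^ 4) hQA ?_⟩
            rw [hQuv, map_pow, show 4 = 2 ^ 2 by norm_num, ← sub_pow_char_pow, ← mul_assoc, ← pow_three']
            exact pow_dvd_pow _ (by norm_num)
          · refine Or.inl ((orderOf_dvd_of_poly (m := p) (c := u ^ p) hQA ?_).trans ?_)
            · rw [hQuv, map_pow, ← sub_pow_char, ← mul_assoc, ← pow_three']
              refine pow_dvd_pow _ ?_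
              have := (Fact.out : p.Prime).two_le
              omega
            · rw [Nat.mul_div_assoc _ (Nat.gcd_dvd_right _ _)]
              exact dvd_mul_right _ _
        · refine Or.inl ((orderOf_dvd_of_poly (m := p * ((Fintype.card F - 1) / dd F))
            (c := (u ^ ((Fintype.card F - 1) / dd F)) ^ p) hQA ?_).trans
            (dvd_of_eq (Nat.mul_div_assoc _ (Nat.gcd_dvd_right _ _)).symm))
          set m := (Fintype.card F - 1) / dd F
          rw [mul_comm p m, pow_mul, map_pow, ← sub_pow_char, hQuv, ← mul_assoc]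
          have hv : v ^ m = u ^ m := by
            obtain ⟨e, he⟩ := (pred_dvd_three_mul (F := F))
            have h3 : u ^ (3 * m) = 1 := by
              rw [he, pow_mul, FiniteField.pow_card_sub_one_eq_one u hu, one_pow]
            have h4 : u ^ m * u ^ m * v ^ m = 1 := by rw [← mul_pow, ← mul_pow, huv, one_pow]
            refine mul_left_cancel₀ (mul_ne_zero (pow_ne_zero m hu) (pow_ne_zero m hu)) ?_
            rw [h4, ← pow_add, ← pow_add, show m + m + m = 3 * m by ring, h3]
          have h1 : (X - C u) ∣ (X ^ m - C (u ^ m)) := dvd_iff_isRoot.2 (by simp)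
          have h2 : (X - C v) ∣ (X ^ m - C (u ^ m)) := dvd_iff_isRoot.2 (by simp [hv])
          refine dvd_trans ?_ (pow_dvd_pow _ (Fact.out : p.Prime).two_le)
          rw [pow_two, mul_assoc]
          refine mul_dvd_mul h1 ((IsCoprime.mul_dvd ?_ h1 h2))
          exact isCoprime_X_sub_C_of_isUnit_sub (sub_ne_zero.2 huv').isUnit
      by_cases hab : b = a
      · subst hab
        exact Or.inr (Or.inr (Or.inr (hrep b c hb0 (by linear_combination habc) hf)))
      by_cases hbc : b = c
      · subst hbc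
        exact Or.inr (Or.inr (Or.inr (hrep b a hb0 (by linear_combination habc)
          (hf.trans (by ring)))))
      by_cases hac : a = c
      · subst hac
        exact Or.inr (Or.inr (Or.inr (hrep a b ha0 (by linear_combination habc)
          (hf.trans (by ring)))))
      refine Or.inr (Or.inr (Or.inl (orderOf_dvd_of_poly (m := Fintype.card F - 1) (c := 1) hQA ?_)))
      rw [hf]
      have hco : ∀ u v : F, u ≠ v → IsCoprime (X - C u) (X - C v) := fun u v h =>
        isCoprime_X_sub_C_of_isUnit_sub (sub_ne_zero.2 h).isUnit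
      exact IsCoprime.mul_dvd ((hco _ _ hab).mul_right (hco _ _ hbc)) (hfer b hb0)
        (IsCoprime.mul_dvd (hco _ _ hac) (hfer a ha0) (hfer c hc0))
    · -- a quadratic factor
      right; left
      have hfi : Irreducible f := Polynomial.irreducible_of_degree_le_three_of_not_isRoot
        (by rw [hfd]; exact Finset.mem_Icc.2 (by omega)) fun a ha => hfroot ⟨a, ha⟩
      haveI := Fact.mk hfi
      haveI : Module.Finite F (AdjoinRoot f) := (AdjoinRoot.powerBasis hfi.ne_zero).finite
      haveI : Finite (AdjoinRoot f) := Module.finite_of_finite F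
      have hcard := card_adjoinRoot (F := F) hfi.ne_zero
      rw [hfd] at hcard
      set α := AdjoinRoot.root f
      have hn : algebraMap F (AdjoinRoot f) (f.coeff 0) = α ^ (Fintype.card F + 1) := by
        have h1 := Algebra.PowerBasis.norm_gen_eq_coeff_zero_minpoly (AdjoinRoot.powerBasis hfi.ne_zero)
        rw [AdjoinRoot.powerBasis_gen, AdjoinRoot.powerBasis_dim, AdjoinRoot.minpoly_root hfi.ne_zero,
          hfm.leadingCoeff, inv_one, C_1, mul_one, hfd, neg_one_sq, one_mul] at h1
        rw [← h1, FiniteField.algebraMap_norm_eq_pow, hcard, Nat.card_eq_fintype_card]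
        congr 1
        rw [show Fintype.card F ^ 2 - 1 = (Fintype.card F + 1) * (Fintype.card F - 1) by
          simpa using Nat.sq_sub_sq (Fintype.card F) 1]
        exact Nat.mul_div_cancel _ (Nat.sub_pos_of_lt Fintype.one_lt_card)
      have hbn : b * f.coeff 0 = 1 := by
        have := congrArg (fun Z : F[X] => Z.coeff 0) hf
        simp [Polynomial.mul_coeff_zero, hQ0] at this
        linear_combination -this
      set m := (Fintype.card F ^ 2 - 1) / dd F
      have hα0 : α ≠ 0 := fun h0 => by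
        rw [h0, zero_pow (by omega), map_eq_zero_iff _ (algebraMap F (AdjoinRoot f)).injective] at hn
        rw [hn, mul_zero] at hbn
        exact zero_ne_one hbn
      refine orderOf_dvd_of_poly (m := m) (c := b ^ m) hQA ?_
      rw [hf]
      refine IsCoprime.mul_dvd ?_ (dvd_iff_isRoot.2 (by simp)) ?_
      · exact (irreducible_X_sub_C b).coprime_iff_not_dvd.2 fun h => hfroot ⟨b, dvd_iff_isRoot.1 h⟩
      · rw [← AdjoinRoot.mk_eq_zero, map_sub, map_pow, AdjoinRoot.mk_X, AdjoinRoot.mk_C, sub_eq_zero,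
          ← AdjoinRoot.algebraMap_eq, map_pow]
        have hbinv : algebraMap F (AdjoinRoot f) b * α ^ (Fintype.card F + 1) = 1 := by
          rw [← hn, ← map_mul, hbn, map_one]
        obtain ⟨e, he⟩ := (q2_dvd_mul (F := F))
        have hα1 : α ^ (Fintype.card F ^ 2 - 1) = 1 := by
          haveI := Fintype.ofFinite (AdjoinRoot f)
          rw [← hcard, Nat.card_eq_fintype_card]
          exact FiniteField.pow_card_sub_one_eq_one α hα0
        refine mul_right_cancel₀ (pow_ne_zero m (pow_ne_zero (Fintype.card F + 1) hα0)) ?_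
        rw [← mul_pow, ← mul_pow, hbinv, one_pow, ← pow_succ', ← pow_mul, he, pow_mul, hα1, one_pow]
  · -- irreducible
    left
    have hQi : Irreducible Q := Polynomial.irreducible_of_degree_le_three_of_not_isRoot
      (by rw [hQd]; exact Finset.mem_Icc.2 (by omega)) fun a ha => hroot ⟨a, ha⟩
    haveI := Fact.mk hQi
    haveI : Module.Finite F (AdjoinRoot Q) := (AdjoinRoot.powerBasis hQi.ne_zero).finite
    haveI : Finite (AdjoinRoot Q) := Module.finite_of_finite F
    have hcard := card_adjoinRoot (F := F) hQi.ne_zero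
    rw [hQd] at hcard
    set α := AdjoinRoot.root Q
    have hα1 : α ^ geom F 3 = 1 := by
      have h1 := Algebra.PowerBasis.norm_gen_eq_coeff_zero_minpoly (AdjoinRoot.powerBasis hQi.ne_zero)
      rw [AdjoinRoot.powerBasis_gen, AdjoinRoot.powerBasis_dim, AdjoinRoot.minpoly_root hQi.ne_zero,
        hQm.leadingCoeff, inv_one, C_1, mul_one, hQd, hQ0] at h1
      have h := FiniteField.algebraMap_norm_eq_pow (K := F) (K' := AdjoinRoot Q) (x := α)
      rw [h1, hcard, Nat.card_eq_fintype_card] at h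
      rw [geom, ← h]
      norm_num
    obtain ⟨c, hc⟩ := exists_algebraMap (F := F) (x := α ^ singer F 3) (by
      rw [← pow_mul, singer]
      obtain ⟨e, he⟩ : geom F 3 ∣
          geom F 3 / Nat.gcd (geom F 3) (Fintype.card F - 1) * (Fintype.card F - 1) := by
        rw [← Nat.mul_div_right_comm (Nat.gcd_dvd_left _ _), Nat.mul_div_assoc _ (Nat.gcd_dvd_right _ _)]
        exact dvd_mul_right _ _
      rw [he, pow_mul, hα1, one_pow])
    rw [← singer_three]
    refine orderOf_dvd_of_poly (c := c) hQA (AdjoinRoot.mk_eq_zero.1 ?_)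
    rw [map_sub, map_pow, AdjoinRoot.mk_X, AdjoinRoot.mk_C, hc, AdjoinRoot.algebraMap_eq, sub_self]

theorem exists_split_mixed (p : ℕ) [Fact p.Prime] [CharP F p] :
    ∃ g : P, p * (Fintype.card F - 1) / dd F ∣ orderOf g := by
  classical
  obtain ⟨u, hu⟩ := IsCyclic.exists_ofOrder_eq_natCard (α := Fˣ)
  rw [Nat.card_units, Nat.card_eq_fintype_card] at hu
  set t : F := (u : F) with ht
  have ht0 : t ≠ 0 := u.ne_zero
  let A : Matrix (Fin 3) (Fin 3) F := !![t, t, 0; 0, t, 0; 0, 0, (t ^ 2)⁻¹]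
  have hA : A.det = 1 := by
    rw [Matrix.det_fin_three]
    simp [A]
    field_simp
  have hpow : ∀ m : ℕ, A ^ m = !![t ^ m, (m : F) * t ^ m, 0; 0, t ^ m, 0; 0, 0, ((t ^ 2)⁻¹) ^ m] := by
    intro m
    induction m with
    | zero => simp [Matrix.one_fin_three]
    | succ m ih =>
      rw [pow_succ, ih]
      ext i j
      fin_cases i <;> fin_cases j <;>
        simp [A, Matrix.mul_apply, Fin.sum_univ_three, pow_succ] <;> ring
  refine ⟨QuotientGroup.mk (⟨A, hA⟩ : Matrix.SpecialLinearGroup (Fin 3) F), ?_⟩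
  set g : P := QuotientGroup.mk (⟨A, hA⟩ : Matrix.SpecialLinearGroup (Fin 3) F)
  obtain ⟨a, ha⟩ := mk_pow_eq_one_iff.1 (pow_orderOf_eq_one g)
  change A ^ orderOf g = _ at ha
  rw [hpow] at ha
  have h00 := congrFun (congrFun ha 0) 0
  have h01 := congrFun (congrFun ha 0) 1
  have h22 := congrFun (congrFun ha 2) 2
  simp [Matrix.algebraMap_matrix_apply, ht0] at h00 h01 h22
  have hp1 : p ∣ orderOf g := (CharP.cast_eq_zero_iff F p _).1 h01
  have h3 : u ^ (3 * orderOf g) = 1 := by
    refine Units.ext ?_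
    rw [Units.val_pow_eq_pow_val, Units.val_one, ← ht, show 3 * orderOf g = orderOf g + 2 * orderOf g by ring,
      pow_add, pow_mul, h00, ← h22]
    exact inv_mul_cancel₀ (pow_ne_zero _ (pow_ne_zero _ ht0))
  have hq : (Fintype.card F - 1) / dd F ∣ orderOf g := by
    have h := orderOf_dvd_of_pow_eq_one h3
    rw [hu] at h
    refine Nat.Coprime.dvd_of_dvd_mul_left (Nat.coprime_div_gcd_div_gcd (dd_pos (F := F))).symm ?_
    refine Nat.dvd_of_mul_dvd_mul_left (dd_pos (F := F)) ?_
    rw [← mul_assoc, Nat.mul_div_cancel' (Nat.gcd_dvd_right _ _), Nat.mul_div_cancel' (Nat.gcd_dvd_left _ _)]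
    exact h
  rw [Nat.mul_div_assoc _ (Nat.gcd_dvd_right _ _)]
  refine Nat.Coprime.mul_dvd_of_dvd_of_dvd ((Fact.out : p.Prime).coprime_iff_not_dvd.2 fun hd => ?_) hp1 hq
  obtain ⟨f, -, hf⟩ := FiniteField.card F p
  have h := Nat.dvd_sub (hf ▸ dvd_pow_self p f.ne_zero : p ∣ Fintype.card F)
    (hd.trans (Nat.div_dvd_of_dvd (Nat.gcd_dvd_right _ _)))
  rw [Nat.sub_sub_self Fintype.card_pos] at h
  exact (Fact.out : p.Prime).ne_one (Nat.dvd_one.1 h)

theorem exists_quad (p : ℕ) [Fact p.Prime] [CharP F p] :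
    ∃ g : P, (Fintype.card F ^ 2 - 1) / dd F ∣ orderOf g := by
  classical
  let K := FiniteField.Extension F p 2
  let b := (Module.finBasis F K).reindex (finCongr (FiniteField.finrank_extension F p 2))
  have hK : Nat.card K = Fintype.card F ^ 2 := by rw [FiniteField.natCard_extension, Nat.card_eq_fintype_card]
  obtain ⟨ω, hω⟩ := IsCyclic.exists_ofOrder_eq_natCard (α := Kˣ)
  rw [Nat.card_units, hK] at hω
  have hdet0 : (Algebra.leftMulMatrix b (ω : K)).det ≠ 0 := by
    rw [← Algebra.norm_eq_matrix_det]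
    exact (Algebra.norm_ne_zero_iff).2 ω.ne_zero
  set δ := (Algebra.leftMulMatrix b (ω : K)).det with hδ
  let e : Fin 2 ⊕ Fin 1 ≃ Fin 3 := finSumFinEquiv
  let R := Matrix.reindexAlgEquiv F F e
  let D : Matrix (Fin 1) (Fin 1) F := Matrix.diagonal fun _ => δ⁻¹
  let A := R (Matrix.fromBlocks (Algebra.leftMulMatrix b (ω : K)) 0 0 D)
  have hA : A.det = 1 := by
    rw [Matrix.det_reindexAlgEquiv, Matrix.det_fromBlocks_zero₁₂, Matrix.det_diagonal, Fin.prod_univ_one,
      mul_inv_cancel₀ hdet0]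
  refine ⟨QuotientGroup.mk (⟨A, hA⟩ : Matrix.SpecialLinearGroup (Fin 3) F), ?_⟩
  set g : P := QuotientGroup.mk (⟨A, hA⟩ : Matrix.SpecialLinearGroup (Fin 3) F)
  obtain ⟨c, hc⟩ := mk_pow_eq_one_iff.1 (pow_orderOf_eq_one g)
  change A ^ orderOf g = _ at hc
  set m := orderOf g
  have hc' : (Matrix.fromBlocks (Algebra.leftMulMatrix b (ω : K)) 0 0 D) ^ m =
      algebraMap F (Matrix (Fin 2 ⊕ Fin 1) (Fin 2 ⊕ Fin 1) F) c := by
    refine R.injective ?_
    rw [map_pow, AlgEquiv.commutes]
    exact hc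
  rw [Matrix.fromBlocks_diagonal_pow, Algebra.algebraMap_eq_smul_one, ← Matrix.fromBlocks_one,
    Matrix.fromBlocks_smul, Matrix.fromBlocks_inj] at hc'
  have h1 : (ω : K) ^ m = algebraMap F K c := by
    refine Algebra.leftMulMatrix_injective b ?_
    rw [map_pow, AlgHom.commutes, Algebra.algebraMap_eq_smul_one]
    exact hc'.1
  have h2 : δ⁻¹ ^ m = c := by
    have h := congrFun (congrFun hc'.2.2.2 0) 0
    simpa [D, Matrix.diagonal_pow] using h
  have h3 : algebraMap F K δ = (ω : K) ^ (Fintype.card F + 1) := by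
    rw [hδ, ← Algebra.norm_eq_matrix_det, FiniteField.algebraMap_norm_eq_pow, hK, Nat.card_eq_fintype_card]
    congr 1
    rw [show Fintype.card F ^ 2 - 1 = (Fintype.card F + 1) * (Fintype.card F - 1) by
      simpa using Nat.sq_sub_sq (Fintype.card F) 1]
    exact Nat.mul_div_cancel _ (Nat.sub_pos_of_lt Fintype.one_lt_card)
  have h4 : ω ^ ((Fintype.card F + 2) * m) = 1 := by
    refine Units.ext ?_
    rw [Units.val_pow_eq_pow_val, Units.val_one, show (Fintype.card F + 2) * m = m + (Fintype.card F + 1) * m by ring,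
      pow_add, pow_mul, ← h3, h1, ← h2, ← map_pow, ← map_mul, inv_pow, inv_mul_cancel₀ (pow_ne_zero _ hdet0), map_one]
  have h5 := orderOf_dvd_of_pow_eq_one h4
  rw [hω] at h5
  set Q2 := Fintype.card F ^ 2 - 1
  set gg := Nat.gcd Q2 (Fintype.card F + 2) with hgg
  have hgpos : 0 < gg := Nat.gcd_pos_of_pos_right _ (by omega)
  refine dvd_trans (Nat.div_dvd_div_left (dd_dvd_q2 (F := F)) q2_gcd) ?_
  refine Nat.Coprime.dvd_of_dvd_mul_left (Nat.coprime_div_gcd_div_gcd hgpos) ?_
  refine Nat.dvd_of_mul_dvd_mul_left hgpos ?_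
  rw [← mul_assoc, ← hgg, Nat.mul_div_cancel' (hgg ▸ Nat.gcd_dvd_left _ _),
    Nat.mul_div_cancel' (hgg ▸ Nat.gcd_dvd_right _ _)]
  exact h5

theorem exists_split : ∃ g : P, Fintype.card F - 1 ∣ orderOf g := by
  classical
  obtain ⟨u, hu⟩ := IsCyclic.exists_ofOrder_eq_natCard (α := Fˣ)
  rw [Nat.card_units, Nat.card_eq_fintype_card] at hu
  let A : Matrix.SpecialLinearGroup (Fin 2) F := ⟨!![(u : F), 0; 0, ((u⁻¹ : Fˣ) : F)], by
    rw [Matrix.det_fin_two]; simp⟩
  obtain ⟨g, -, hg, -⟩ := exists_blocks (n := 3) (show 2 + 1 = 3 from rfl) A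
    (1 : Matrix.SpecialLinearGroup (Fin 1) F)
  obtain ⟨h1, -, -⟩ := hg ⟨1, one_ne_zero, by
    rw [Matrix.SpecialLinearGroup.coe_one, Matrix.one_mulVec]⟩
  refine ⟨_, dvd_trans ?_ h1⟩
  rw [← hu]
  refine orderOf_dvd_of_pow_eq_one (Units.ext ?_)
  have hpow : ∀ m : ℕ, (A : Matrix (Fin 2) (Fin 2) F) ^ m =
      !![(u : F) ^ m, 0; 0, ((u⁻¹ : Fˣ) : F) ^ m] := by
    intro m
    induction m with
    | zero => simp [Matrix.one_fin_two]
    | succ m ih =>
      rw [pow_succ, ih]
      ext i j
      fin_cases i <;> fin_cases j <;> simp [A, Matrix.mul_apply, Fin.sum_univ_two, pow_succ]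
  have h := (sl_pow_eq_one_iff A _).1 (pow_orderOf_eq_one A)
  rw [hpow] at h
  have := congrFun (congrFun h 0) 0
  simpa using this

/-- The set of element orders of PSL(3,q): let F be a finite field of characteristic p with q elements and d = gcd(3, q − 1). The orders of elements of PSL(3,F) are exactly the divisors of (q² + q + 1)/d, of (q² − 1)/d, of q − 1, of p(q − 1)/d, and, when p = 2, of 4. -/
theorem result {F : Type*} [Field F] [Fintype F] (p : ℕ) [Fact p.Prime] [CharP F p] :
    Set.range (orderOf : Matrix.ProjectiveSpecialLinearGroup (Fin 3) F → ℕ) =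
      {m : ℕ | m ∣ (Fintype.card F ^ 2 + Fintype.card F + 1) / Nat.gcd 3 (Fintype.card F - 1) ∨
        m ∣ (Fintype.card F ^ 2 - 1) / Nat.gcd 3 (Fintype.card F - 1) ∨ m ∣ Fintype.card F - 1 ∨
        m ∣ p * (Fintype.card F - 1) / Nat.gcd 3 (Fintype.card F - 1) ∨ (p = 2 ∧ m ∣ 4)} := by
  classical
  have hgcd : Nat.gcd 3 (Fintype.card F - 1) = dd F := rfl
  ext m
  simp only [Set.mem_setOf_eq, hgcd]
  constructor
  · rintro ⟨x, rfl⟩
    exact upper p x
  · rintro (h | h | h | h | ⟨rfl, h⟩)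
    · obtain ⟨g, hg⟩ := exists_singer_order (F := F) (n := 3) (by norm_num)
      rw [singer_three] at hg
      exact mem_range_orderOf_of_dvd (h.trans hg)
    · obtain ⟨g, hg⟩ := exists_quad (F := F) p
      exact mem_range_orderOf_of_dvd (h.trans hg)
    · obtain ⟨g, hg⟩ := exists_split (F := F)
      exact mem_range_orderOf_of_dvd (h.trans hg)
    · obtain ⟨g, hg⟩ := exists_split_mixed (F := F) p
      exact mem_range_orderOf_of_dvd (h.trans hg)
    · obtain ⟨g, hg⟩ := exists_unipotent_order (F := F) (n := 3) 2 (by norm_num)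
      have h4 : 2 ^ Nat.clog 2 3 = 4 := by decide
      exact mem_range_orderOf_of_dvd (h.trans (h4 ▸ hg))

end Cfsg.Agent.S2476
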