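import Cfsg.Statements.S2477
import Cfsg.Agent.Lib.KnownB.Cycles
import Cfsg.Agent.Lib.Recog.AltSpectrum
-- import your own Cfsg.Agent.* helpers here

set_option autoImplicit false
open Cfsg

namespace Cfsg.Agent.S2477

/-- The set of element orders of the alternating group of degree 10 is {1, 2, 3, 4, 5, 6, 7, 8, 9, 10, 12, 15, 21}. -/
theorem result : Set.range (orderOf : alternatingGroup (Fin 10) → ℕ) = {1, 2, 3, 4, 5, 6, 7, 8, 9, 10, 12, 15, 21} := by
  refine Set.Subset.antisymm ?_ ?_
  · rintro _ ⟨σ, rfl⟩
    refine CfsgLib.Recog.orderOf_alternating_mem (fun l hl hP => ?_) σ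
    simp only [Set.mem_insert_iff, Set.mem_singleton_iff]
    revert l
    decide +kernel
  · intro k hk
    simp only [Set.mem_insert_iff, Set.mem_singleton_iff] at hk
    have H : ∀ m : Multiset ℕ, m.lcm = k → (∀ a ∈ m, 2 ≤ a) → m.sum ≤ 10 → Even (m.sum + m.card) →
        k ∈ Set.range (orderOf : alternatingGroup (Fin 10) → ℕ) := fun m h h2 hs he =>
      h ▸ CfsgLib.KnownB.Cycles.lcm_mem_range 10 m h2 hs he
    rcases hk with rfl | rfl | rfl | rfl | rfl | rfl | rfl | rfl | rfl | rfl | rfl | rfl | rfl
    · exact H 0 (by decide) (by decide) (by decide) (by decide)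
    · exact H {2, 2} (by decide) (by decide) (by decide) (by decide)
    · exact H {3} (by decide) (by decide) (by decide) (by decide)
    · exact H {4, 2} (by decide) (by decide) (by decide) (by decide)
    · exact H {5} (by decide) (by decide) (by decide) (by decide)
    · exact H {6, 2} (by decide) (by decide) (by decide) (by decide)
    · exact H {7} (by decide) (by decide) (by decide) (by decide)
    · exact H {8, 2} (by decide) (by decide) (by decide) (by decide)
    · exact H {9} (by decide) (by decide) (by decide) (by decide)
    · exact H {5, 2, 2} (by decide) (by decide) (by decide) (by decide)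
    · exact H {4, 3, 2} (by decide) (by decide) (by decide) (by decide)
    · exact H {5, 3} (by decide) (by decide) (by decide) (by decide)
    · exact H {7, 3} (by decide) (by decide) (by decide) (by decide)

end Cfsg.Agent.S2477
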