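import Cfsg.Statements.S2485
import Mathlib
-- import your own Cfsg.Agent.* helpers here

set_option autoImplicit false
open scoped Pointwise
open Cfsg

set_option maxHeartbeats 1000000

namespace Cfsg.Agent.S2485

/-- Let q = 2^k − 1 ≥ 7 be a prime and let G = PGL(2,q), the general linear group of degree 2 over the field with q elements modulo its centre. Then any two Sylow 2-subgroups of G have a non-trivial intersection: for a Sylow 2-subgroup H and every x ∈ G, H ∩ H^x ≠ 1. -/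
theorem result {q k : ℕ} [Fact q.Prime] (hk : q + 1 = 2 ^ k) (hq : 7 ≤ q)
    (H : Sylow 2 (GL (Fin 2) (ZMod q) ⧸ Subgroup.center (GL (Fin 2) (ZMod q))))
    (x : GL (Fin 2) (ZMod q) ⧸ Subgroup.center (GL (Fin 2) (ZMod q))) :
    (H : Subgroup (GL (Fin 2) (ZMod q) ⧸ Subgroup.center (GL (Fin 2) (ZMod q)))) ⊓ MulAut.conj x • (H : Subgroup _) ≠ ⊥ := by
  have : Finite (GL (Fin 2) (ZMod q) ⧸ Subgroup.center (GL (Fin 2) (ZMod q))) := Quotient.finite _
  have hk2 : 3 ≤ k := by
    by_contra h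
    have : 2 ^ k ≤ 2 ^ 2 := Nat.pow_le_pow_right (by norm_num) (by omega)
    omega
  have hodd : Odd q := by
    have : 2 ∣ q + 1 := hk ▸ dvd_pow_self 2 (by omega)
    rcases Nat.even_or_odd q with ⟨a, ha⟩ | h
    · omega
    · exact h
  have hns : ∀ a : ZMod q, a ^ 2 ≠ -1 := by
    intro a ha
    have := ZMod.mod_four_ne_three_of_sq_eq_neg_one ha
    have h4 : 4 ∣ q + 1 := hk ▸ pow_dvd_pow 2 (show 2 ≤ k by omega)
    omega
  have hsum : ∀ a b : ZMod q, a ^ 2 + b ^ 2 = 0 → a = 0 ∧ b = 0 := by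
    intro a b h
    by_cases hb : b = 0
    · subst hb; simpa using h
    · exfalso
      apply hns (a / b)
      field_simp
      linear_combination h
  have h2 : (2 : ZMod q) ≠ 0 := by
    intro h
    have : q ∣ 2 := (ZMod.natCast_eq_zero_iff 2 q).1 (by exact_mod_cast h)
    have := Nat.le_of_dvd (by norm_num) this
    omega
  let π := QuotientGroup.mk' (Subgroup.center (GL (Fin 2) (ZMod q)))
  have hπ : ∀ (g : GL (Fin 2) (ZMod q)) (c : ZMod q), (g : Matrix (Fin 2) (Fin 2) (ZMod q)) = c • 1 → π g = 1 := by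
    intro g c hc
    rw [QuotientGroup.mk'_apply, QuotientGroup.eq_one_iff, Subgroup.mem_center_iff]
    intro a
    apply Units.ext
    simp [hc]
  have hπ' : ∀ (g : GL (Fin 2) (ZMod q)), π g = 1 → ∃ c : ZMod q, (g : Matrix (Fin 2) (Fin 2) (ZMod q)) = c • 1 := by
    intro g hg
    rw [QuotientGroup.mk'_apply, QuotientGroup.eq_one_iff, Matrix.GeneralLinearGroup.center_eq_range_scalar] at hg
    obtain ⟨c, rfl⟩ := hg
    exact ⟨(c : ZMod q), by simp [Matrix.smul_one_eq_diagonal]⟩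
  let J : Matrix (Fin 2) (Fin 2) (ZMod q) := !![0, -1; 1, 0]
  have hJJ : J * J = -1 := by
    ext i j; fin_cases i <;> fin_cases j <;> simp [J, Matrix.mul_apply, Fin.sum_univ_two]
  let Ju : GL (Fin 2) (ZMod q) := ⟨J, -J, by simp [hJJ], by simp [hJJ]⟩
  let z := π Ju
  have hform : ∀ g : GL (Fin 2) (ZMod q), π g ∈ Subgroup.centralizer {z} →
      (g : Matrix (Fin 2) (Fin 2) (ZMod q)) * J = J * g ∨ (g : Matrix (Fin 2) (Fin 2) (ZMod q)) * J = -(J * g) := by
    intro g hg
    have h := Subgroup.mem_centralizer_singleton_iff.1 hg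
    have : π ((Ju * g)⁻¹ * (g * Ju)) = 1 := by
      simp only [map_mul, map_inv]
      first
        | rw [h, inv_mul_cancel]
        | rw [← h, inv_mul_cancel]
    obtain ⟨c, hc⟩ := hπ' _ this
    have e : (g : Matrix (Fin 2) (Fin 2) (ZMod q)) * J = c • (J * g) := by
      have h' : ((Ju * g * ((Ju * g)⁻¹ * (g * Ju)) : GL (Fin 2) (ZMod q)) : Matrix (Fin 2) (Fin 2) (ZMod q)) = (J * (g : Matrix (Fin 2) (Fin 2) (ZMod q))) * (c • 1) := by
        rw [Units.val_mul, hc]; rfl
      rw [mul_inv_cancel_left] at h'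
      simpa [Ju] using h'
    have hd := congrArg Matrix.det e
    rw [Matrix.det_smul, Matrix.det_mul, Matrix.det_mul, Fintype.card_fin] at hd
    have hne : (g : Matrix (Fin 2) (Fin 2) (ZMod q)).det * J.det ≠ 0 :=
      mul_ne_zero ((Matrix.isUnit_iff_isUnit_det _).1 g.isUnit).ne_zero (by simp [J, Matrix.det_fin_two])
    have : c ^ 2 = 1 := by
      apply mul_right_cancel₀ hne
      linear_combination -hd
    rcases sq_eq_one_iff.1 this with rfl | rfl
    · left; simpa using e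
    · right; simpa using e
  have hJz : ∀ g : GL (Fin 2) (ZMod q), ((g : Matrix (Fin 2) (Fin 2) (ZMod q)) * J = J * g ∨
      (g : Matrix (Fin 2) (Fin 2) (ZMod q)) * J = -(J * g)) → π g ∈ Subgroup.centralizer {z} := by
    intro g hg
    rw [Subgroup.mem_centralizer_singleton_iff]
    rcases hg with e | e
    · have : g * Ju = Ju * g := Units.ext e
      simp only [z, ← map_mul, this]
    · have : π ((Ju * g)⁻¹ * (g * Ju)) = 1 := by
        refine hπ _ (-1) ?_
        rw [Units.val_mul, Units.val_mul g, show ((Ju : GL (Fin 2) (ZMod q)) : Matrix (Fin 2) (Fin 2) (ZMod q)) = J from rfl, e]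
        rw [mul_neg, ← show ((Ju * g : GL (Fin 2) (ZMod q)) : Matrix (Fin 2) (Fin 2) (ZMod q)) = J * g from rfl,
          Units.inv_mul]
        simp
      simp only [map_mul, map_inv, inv_mul_eq_one] at this
      first
        | exact this
        | exact this.symm
  have hp : IsPGroup 2 (Subgroup.centralizer {z}) := by
    rintro ⟨y, hy⟩
    obtain ⟨g, rfl⟩ := QuotientGroup.mk'_surjective _ y
    refine ⟨k, Subtype.ext ?_⟩
    show π g ^ 2 ^ k = 1
    rcases hform g hy with e | e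
    · have e00 := congrFun₂ e 0 0
      have e01 := congrFun₂ e 0 1
      simp [J, Matrix.mul_apply, Fin.sum_univ_two, Matrix.vecMul, dotProduct] at e00 e01
      have hg : (g : Matrix (Fin 2) (Fin 2) (ZMod q)) = (g : Matrix (Fin 2) (Fin 2) (ZMod q)) 0 0 • 1 + (g : Matrix (Fin 2) (Fin 2) (ZMod q)) 1 0 • J := by
        ext i j; fin_cases i <;> fin_cases j <;>
          simp [J] <;> first | linear_combination e00 | linear_combination -e00 | linear_combination e01 | linear_combination -e01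
      rw [← map_pow, ← hk, pow_succ]
      refine hπ _ ((g : Matrix (Fin 2) (Fin 2) (ZMod q)) 0 0 ^ 2 + (g : Matrix (Fin 2) (Fin 2) (ZMod q)) 1 0 ^ 2) ?_
      rw [Units.val_mul, Units.val_pow_eq_pow_val]
      set a := (g : Matrix (Fin 2) (Fin 2) (ZMod q)) 0 0
      set b := (g : Matrix (Fin 2) (Fin 2) (ZMod q)) 1 0
      have : CharP (Matrix (Fin 2) (Fin 2) (ZMod q)) q := inferInstance
      have hJq : J ^ q = -J := by
        have h4 : 4 ∣ q + 1 := hk ▸ pow_dvd_pow 2 (show 2 ≤ k by omega)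
        obtain ⟨m, hm⟩ : ∃ m, q = 4 * m + 3 := ⟨(q + 1) / 4 - 1, by omega⟩
        rw [congrArg (fun e : ℕ => J ^ e) hm, pow_add, pow_mul]
        simp [pow_succ, hJJ]
      rw [hg, add_pow_char_of_commute q (Commute.smul_left (Commute.one_left _) _), smul_pow, smul_pow,
        ZMod.pow_card, ZMod.pow_card, one_pow, hJq]
      ext i j; fin_cases i <;> fin_cases j <;> simp [J, Matrix.mul_apply, Fin.sum_univ_two] <;> ring
    · have e00 := congrFun₂ e 0 0
      have e01 := congrFun₂ e 0 1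
      simp [J, Matrix.mul_apply, Fin.sum_univ_two, Matrix.vecMul, dotProduct] at e00 e01
      have hsq : π (g ^ 2) = 1 := by
        refine hπ _ ((g : Matrix (Fin 2) (Fin 2) (ZMod q)) 0 0 ^ 2 + (g : Matrix (Fin 2) (Fin 2) (ZMod q)) 1 0 ^ 2) ?_
        have h01 : (g : Matrix (Fin 2) (Fin 2) (ZMod q)) 0 1 = (g : Matrix (Fin 2) (Fin 2) (ZMod q)) 1 0 := by
          first | linear_combination e00 | linear_combination -e00
        have h11 : (g : Matrix (Fin 2) (Fin 2) (ZMod q)) 1 1 = -(g : Matrix (Fin 2) (Fin 2) (ZMod q)) 0 0 := by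
          first | linear_combination e01 | linear_combination -e01
        ext i j; fin_cases i <;> fin_cases j <;>
          simp [pow_two, Matrix.mul_apply, Fin.sum_univ_two, h01, h11] <;> ring
      have : 2 ∣ 2 ^ k := dvd_pow_self 2 (by omega)
      obtain ⟨m, hm⟩ := this
      rw [← map_pow, hm, pow_mul, map_pow, hsq, one_pow]
  -- a conjugate of the centralizer lies in `H`
  obtain ⟨P, hP⟩ := hp.exists_le_sylow
  obtain ⟨y, hy⟩ := MulAction.exists_smul_eq (GL (Fin 2) (ZMod q) ⧸ Subgroup.center (GL (Fin 2) (ZMod q))) P H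
  have hH : ∀ w ∈ Subgroup.centralizer {z}, y * w * y⁻¹ ∈ (H : Subgroup _) := by
    intro w hw
    rw [← hy, Sylow.coe_subgroup_smul]
    exact ⟨w, hP hw, rfl⟩
  obtain ⟨X, hX⟩ := QuotientGroup.mk'_surjective _ (y⁻¹ * x * y)
  change π X = _ at hX
  suffices h : ∃ w : GL (Fin 2) (ZMod q), π w ≠ 1 ∧ π w ∈ Subgroup.centralizer {z} ∧ π (X⁻¹ * w * X) ∈ Subgroup.centralizer {z} by
    obtain ⟨w, hw1, hw, hw'⟩ := h
    intro hbot
    have hmem : y * π w * y⁻¹ ∈ (H : Subgroup _) ⊓ MulAut.conj x • (H : Subgroup _) := by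
      refine ⟨hH _ hw, ⟨_, hH _ hw', ?_⟩⟩
      simp [hX]; group
    rw [hbot, Subgroup.mem_bot, conj_eq_one_iff] at hmem
    exact hw1 hmem
  set B : Matrix (Fin 2) (Fin 2) (ZMod q) := ((X * Ju * X⁻¹ : GL (Fin 2) (ZMod q)) : Matrix (Fin 2) (Fin 2) (ZMod q)) with hB
  set C := J * B - B * J with hC
  have hBB : B * B = -1 := by
    rw [hB, ← Units.val_mul, show X * Ju * X⁻¹ * (X * Ju * X⁻¹) = X * (Ju * Ju) * X⁻¹ by group]
    simp [Ju, hJJ]
  have hJC : C * J = -(J * C) := by
    rw [hC]; simp only [sub_mul, mul_sub, mul_assoc, hJJ, ← mul_assoc J J, neg_mul, one_mul, mul_neg, mul_one]; abel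
  have hBC : C * B = -(B * C) := by
    rw [hC]; simp only [sub_mul, mul_sub, mul_assoc, hBB, ← mul_assoc B B, neg_mul, one_mul, mul_neg, mul_one]; abel
  have conjX : ∀ w : GL (Fin 2) (ZMod q), ((w : Matrix (Fin 2) (Fin 2) (ZMod q)) * B = B * w ∨ (w : Matrix (Fin 2) (Fin 2) (ZMod q)) * B = -(B * w)) →
      π (X⁻¹ * w * X) ∈ Subgroup.centralizer {z} := by
    intro w hw
    apply hJz
    have hl : ((X⁻¹ * w * X : GL (Fin 2) (ZMod q)) : Matrix (Fin 2) (Fin 2) (ZMod q)) * J =
        (↑X⁻¹ : Matrix (Fin 2) (Fin 2) (ZMod q)) * ((w : Matrix (Fin 2) (Fin 2) (ZMod q)) * B) * (X : Matrix (Fin 2) (Fin 2) (ZMod q)) := by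
      simp [hB, Ju, mul_assoc]
    have hr : J * ((X⁻¹ * w * X : GL (Fin 2) (ZMod q)) : Matrix (Fin 2) (Fin 2) (ZMod q)) =
        (↑X⁻¹ : Matrix (Fin 2) (Fin 2) (ZMod q)) * (B * (w : Matrix (Fin 2) (Fin 2) (ZMod q))) * (X : Matrix (Fin 2) (Fin 2) (ZMod q)) := by
      simp [hB, Ju, mul_assoc]
    rw [hl, hr]
    rcases hw with hw | hw
    · left; rw [hw]
    · right; rw [hw]; simp
  by_cases h0 : C = 0
  · refine ⟨Ju, ?_, hJz _ (Or.inl rfl), conjX _ (Or.inl (sub_eq_zero.1 h0))⟩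
    intro h
    obtain ⟨c, hc⟩ := hπ' _ h
    simpa [Ju, J] using congrFun₂ hc 1 0
  · have e00 := congrFun₂ hJC 0 0
    have e01 := congrFun₂ hJC 0 1
    simp [J, Matrix.mul_apply, Fin.sum_univ_two, Matrix.vecMul, dotProduct] at e00 e01
    have hdet : C.det ≠ 0 := by
      intro hd
      apply h0
      rw [Matrix.det_fin_two] at hd
      obtain ⟨ha, hb⟩ := hsum (C 0 0) (C 1 0) (by rw [e00] at hd; linear_combination (-1 : ZMod q) * hd - C 0 0 * e01)
      ext i j
      fin_cases i <;> fin_cases j <;> simp only [Fin.mk_one, Fin.isValue, Fin.zero_eta, Matrix.zero_apply]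
      · exact ha
      · rw [e00]; simp [hb]
      · exact hb
      · linear_combination (-1 : ZMod q) * e01 - ha
    refine ⟨Matrix.GeneralLinearGroup.mkOfDetNeZero C hdet, ?_, hJz _ (Or.inr hJC), conjX _ (Or.inr hBC)⟩
    intro h
    obtain ⟨c, hc⟩ := hπ' _ h
    have hc' : C = c • 1 := hc
    apply h0
    rw [hc'] at e01 ⊢
    simp at e01
    have : c = 0 := by
      have h2c : (2 : ZMod q) * c = 0 := by linear_combination (-1 : ZMod q) * e01
      simpa [h2] using h2c
    simp [this]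

end Cfsg.Agent.S2485
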