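import Cfsg.Statements.S2486
import Cfsg.Agent.Lib.KnownB.PSLAut.Out
import Cfsg.Agent.Lib.Geometry.Pron.OverSL

set_option autoImplicit false
open scoped Pointwise
open Cfsg

namespace Cfsg.Agent.S2486

open Matrix CfsgLib.KnownB.PSLAut CfsgLib.Geometry.Pron

local notation "SL2'" n => Matrix.SpecialLinearGroup (Fin n) (ZMod 2)

theorem card_GL_le_SL (n : ℕ) : Nat.card (GL (Fin n) (ZMod 2)) ≤ Nat.card (SL2' n) := by
  refine Nat.card_le_card_of_injective (fun g => (⟨(g : Matrix (Fin n) (Fin n) (ZMod 2)), ?_⟩ : SL2' n)) ?_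
  · exact (by decide : ∀ u : (ZMod 2)ˣ, (u : ZMod 2) = 1) (Matrix.GeneralLinearGroup.det g)
  · intro g h he
    exact Units.ext (congrArg Subtype.val he)

theorem zmod2_eq_one : ∀ x : ZMod 2, x ≠ 0 → x = 1 := by decide

theorem center_eq_bot (n : ℕ) : Subgroup.center (SL2' n) = ⊥ := by
  refine eq_bot_iff.2 fun A hA => Subgroup.mem_bot.2 ?_
  obtain ⟨r, hr, hrA⟩ := Matrix.SpecialLinearGroup.mem_center_iff.1 hA
  rcases (by decide : ∀ r : ZMod 2, r = 0 ∨ r = 1) r with rfl | rfl
  · rcases Nat.eq_zero_or_pos n with rfl | hn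
    · exact Subsingleton.elim _ _
    · rw [zero_pow (by simp; omega)] at hr
      exact absurd hr zero_ne_one
  · exact Subtype.ext (by rw [← hrA]; simp)

theorem card_aut_SL_le (n : ℕ) (hn : 3 ≤ n) : Nat.card (MulAut (SL2' n)) ≤ 2 * Nat.card (SL2' n) := by
  have e : Matrix.ProjectiveSpecialLinearGroup (Fin n) (ZMod 2) ≃* (SL2' n) :=
    (QuotientGroup.quotientMulEquivOfEq (center_eq_bot n)).trans QuotientGroup.quotientBot
  rw [← Nat.card_congr (MulAut.congr e).toEquiv, card_aut_big hn]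
  have h1 : Nat.card (ZMod 2 ≃+* ZMod 2) = 1 := by
    haveI : Subsingleton (ZMod 2 ≃+* ZMod 2) := ⟨fun a b => RingEquiv.ext fun x => by
      exact RingHom.congr_fun (RingHom.ext_zmod (a : ZMod 2 →+* ZMod 2) b) x⟩
    exact Nat.card_unique
  rw [h1, mul_one]
  refine Nat.mul_le_mul_left 2 (le_trans ?_ (card_GL_le_SL n))
  exact Nat.card_le_card_of_surjective _ (QuotientGroup.mk'_surjective _)

/-- The permutation matrix of `Fin.rev`. -/
def W (n : ℕ) : GL (Fin n) (ZMod 2) := CfsgLib.KnownB.Flags.permGL (ZMod 2) Fin.revPerm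

theorem W_mul_self (n : ℕ) : W n * W n = 1 := by
  rw [W, ← map_mul, show (Fin.revPerm * Fin.revPerm : Equiv.Perm (Fin n)) = 1 from
    Equiv.ext fun i => Fin.rev_rev i, map_one]

theorem W_conj (n : ℕ) (A : Matrix (Fin n) (Fin n) (ZMod 2)) (i j : Fin n) :
    ((W n : Matrix (Fin n) (Fin n) (ZMod 2)) * A * ((W n)⁻¹ : GL (Fin n) (ZMod 2))) i j = A i.rev j.rev := by
  rw [inv_eq_of_mul_eq_one_right (W_mul_self n), Matrix.mul_apply, Finset.sum_eq_single j.rev,
    Matrix.mul_apply, Finset.sum_eq_single i.rev]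
  · simp [W, CfsgLib.KnownB.Flags.permGL_apply]
  · intro b _ hb
    rw [W, CfsgLib.KnownB.Flags.permGL_apply, if_neg (fun h => hb h.symm), zero_mul]
  · simp
  · intro b _ hb
    rw [show (W n : Matrix (Fin n) (Fin n) (ZMod 2)) b j = 0 from ?_, mul_zero]
    rw [W, CfsgLib.KnownB.Flags.permGL_apply, if_neg]
    intro h
    exact hb (by rw [← h]; simp)
  · simp

/-- The graph automorphism normalising the upper unitriangular group. -/
noncomputable def tau (n : ℕ) : MulAut (SL2' n) := conjSL (W n) * itSL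

theorem tau_apply (n : ℕ) (s : SL2' n) (i j : Fin n) :
    (tau n s : SL2' n).1 i j = (s⁻¹ : SL2' n).1 j.rev i.rev := by
  show ((conjSL (W n) (itSL s) : SL2' n) : Matrix (Fin n) (Fin n) (ZMod 2)) i j = _
  rw [conjSL_coe, W_conj]
  rfl

theorem tau_mem_U (n : ℕ) {s : SL2' n} (hs : s ∈ U n (ZMod 2)) : tau n s ∈ U n (ZMod 2) := by
  have hi := (U n (ZMod 2)).inv_mem hs
  refine ⟨fun i j hij => ?_, fun i => ?_⟩
  · rw [tau_apply]
    exact hi.1 (Fin.rev_lt_rev.2 hij)
  · rw [tau_apply]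
    exact hi.2 _

theorem tau_tau (n : ℕ) (s : SL2' n) : tau n (tau n s) = s := by
  have h : ((tau n s)⁻¹ : SL2' n) = tau n s⁻¹ := (map_inv _ _).symm
  refine Subtype.ext (Matrix.ext fun i j => ?_)
  rw [tau_apply, h, tau_apply, inv_inv, Fin.rev_rev, Fin.rev_rev]

theorem tau_ne_one (n : ℕ) (hn : 3 ≤ n) : tau n ≠ 1 := by
  intro h
  have h01 : (⟨0, by omega⟩ : Fin n) ≠ ⟨1, by omega⟩ := by simp
  set s : SL2' n := Matrix.SpecialLinearGroup.transvection h01 (1 : ZMod 2) with hs
  have e := congrArg (fun x : SL2' n => x.1 ⟨0, by omega⟩ ⟨1, by omega⟩) (congrArg (fun f : MulAut (SL2' n) => f s⁻¹) h)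
  simp only [MulAut.one_apply] at e
  rw [tau_apply, inv_inv] at e
  have hinv : s⁻¹ = s := by
    rw [hs]
    refine inv_eq_of_mul_eq_one_right (Subtype.ext ?_)
    rw [Matrix.SpecialLinearGroup.coe_mul, Matrix.SpecialLinearGroup.coe_one]
    rw [Matrix.SpecialLinearGroup.transvection_coe, add_mul, mul_add, mul_add, one_mul, mul_one, one_mul,
      Matrix.single_mul_single_of_ne _ _ _ _ (Ne.symm h01), add_zero, add_assoc, ← Matrix.single_add,
      show (1 : ZMod 2) + 1 = 0 from rfl, Matrix.single_zero, add_zero]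
  rw [hinv, hs] at e
  simp only [Matrix.SpecialLinearGroup.transvection_coe, Matrix.add_apply, Matrix.single_apply,
    Matrix.one_apply, Fin.ext_iff, Fin.val_rev, true_and, and_self, if_true] at e
  rw [if_neg (by omega), if_neg (by omega), if_neg (by omega)] at e
  exact absurd e (by decide)

/-- Let n ≥ 4 and let G be a finite group with a normal subgroup N of index 2 isomorphic to SL(n,2) and with trivial centralizer in G (so G is the extension of the simple group L_n(2) by its inverse-transpose automorphism, its full automorphism group). Then any two Sylow 2-subgroups of G have a non-trivial intersection: for a Sylow 2-subgroup H and every x ∈ G, H ∩ H^x ≠ 1. -/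
theorem result {G : Type*} [Group G] [Finite G] {n : ℕ} (hn : 4 ≤ n) (N : Subgroup G) [N.Normal]
    (e : N ≃* Matrix.SpecialLinearGroup (Fin n) (ZMod 2)) (hidx : N.index = 2)
    (hC : Subgroup.centralizer (N : Set G) = ⊥)
    (H : Sylow 2 G) (x : G) :
    (H : Subgroup G) ⊓ MulAut.conj x • (H : Subgroup G) ≠ ⊥ := by
  classical
  haveI : Fact (Nat.Prime 2) := ⟨Nat.prime_two⟩
  let ι : (SL2' n) →* G := N.subtype.comp e.symm.toMonoidHom
  have hι : Function.Injective ι := N.subtype_injective.comp e.symm.injective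
  have hιr : ∀ y ∈ N, ∃ s, ι s = y := fun y hy => ⟨e ⟨y, hy⟩, by simp [ι]⟩
  -- every automorphism of `N` is induced by `G`
  let act : G →* MulAut (SL2' n) := (MulAut.congr e).toMonoidHom.comp (MulAut.conjNormal (H := N))
  have hact : ∀ g s, ι (act g s) = g * ι s * g⁻¹ := fun g s => by
    simp [ι, act, MulAut.congr, MulAut.conjNormal_apply]
  have hinj : Function.Injective act := by
    refine (injective_iff_map_eq_one _).2 fun g hg => ?_
    have hc : g ∈ Subgroup.centralizer (N : Set G) := Subgroup.mem_centralizer_iff.2 fun y hy => by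
      obtain ⟨s, rfl⟩ := hιr y hy
      have := hact g s
      rw [hg, MulAut.one_apply] at this
      exact (eq_mul_inv_iff_mul_eq.1 this)
    rw [hC] at hc
    exact Subgroup.mem_bot.1 hc
  have hcard : Nat.card G = 2 * Nat.card (SL2' n) := by
    rw [← N.card_mul_index, hidx, Nat.card_congr e.toEquiv, mul_comm]
  have hbij : Function.Bijective act := by
    haveI : Finite (MulAut (SL2' n)) := inferInstance
    refine (Nat.bijective_iff_injective_and_card act).2 ⟨hinj, le_antisymm (Nat.card_le_card_of_injective act hinj) ?_⟩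
    rw [hcard]
    exact card_aut_SL_le n (by omega : 3 ≤ n)
  obtain ⟨t, ht⟩ := hbij.2 (tau n)
  have htU : ∀ s, t * ι s * t⁻¹ = ι (tau n s) := fun s => by rw [← hact, ht]
  have ht2 : t * t = 1 := hinj (by
    rw [map_mul, ht, map_one]
    exact MulEquiv.ext fun s => tau_tau n s)
  have ht1 : t ≠ 1 := fun h => tau_ne_one n (by omega : 3 ≤ n) (by rw [← ht, h, map_one])
  -- the Sylow subgroup containing `U` and `t`
  obtain ⟨P, hP⟩ := exists_sylow_U n (ZMod 2) 2 (by omega)
  let U₀ : Subgroup G := (U n (ZMod 2)).map ι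
  have hU₀ : IsPGroup 2 U₀ := IsPGroup.map (by rw [← hP]; exact P.2) ι
  have hnorm : Subgroup.zpowers t ≤ Subgroup.normalizer (U₀ : Set G) := by
    rw [Subgroup.zpowers_le]
    have hmem : ∀ y ∈ U₀, t * y * t⁻¹ ∈ U₀ := by
      rintro _ ⟨s, hs, rfl⟩
      exact ⟨tau n s, tau_mem_U n hs, (htU s).symm⟩
    refine Subgroup.mem_normalizer_iff.2 fun y => ⟨hmem y, fun h => ?_⟩
    have := hmem _ h
    rwa [inv_eq_of_mul_eq_one_right ht2, show t * (t * y * t) * t = (t * t) * y * (t * t) by group, ht2,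
      one_mul, mul_one] at this
  have hzt : IsPGroup 2 (Subgroup.zpowers t) := IsPGroup.of_card (n := 1) (by
    rw [Nat.card_zpowers, pow_one]
    exact orderOf_eq_prime (by rw [pow_two, ht2]) ht1)
  obtain ⟨S₀, hS₀⟩ := (hU₀.to_sup_of_normal_left' hzt hnorm).exists_le_sylow
  have hUS : ∀ s ∈ U n (ZMod 2), ι s ∈ (S₀ : Subgroup G) := fun s hs => hS₀ (Subgroup.mem_sup_left ⟨s, hs, rfl⟩)
  have htS : t ∈ (S₀ : Subgroup G) := hS₀ (Subgroup.mem_sup_right (Subgroup.mem_zpowers t))
  -- `G = N S₀`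
  have hNS : ∀ g : G, ∃ s : SL2' n, ∃ h ∈ (S₀ : Subgroup G), g = ι s * h := by
    have hsup : N ⊔ (S₀ : Subgroup G) = ⊤ := by
      rw [← Subgroup.index_eq_one]
      have h1 : (N ⊔ (S₀ : Subgroup G)).index ∣ 2 := (Subgroup.index_dvd_of_le le_sup_left).trans (dvd_of_eq hidx)
      have h2 : (N ⊔ (S₀ : Subgroup G)).index ∣ (S₀ : Subgroup G).index := Subgroup.index_dvd_of_le le_sup_right
      rcases (Nat.dvd_prime Nat.prime_two).1 h1 with h | h
      · exact h
      · rw [h] at h2; exact absurd h2 S₀.not_dvd_index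
    intro g
    have hg : g ∈ ((N ⊔ (S₀ : Subgroup G) : Subgroup G) : Set G) := by rw [hsup]; trivial
    rw [Subgroup.normal_mul] at hg
    obtain ⟨y, hy, h, hh, rfl⟩ := Set.mem_mul.1 hg
    obtain ⟨s, rfl⟩ := hιr y hy
    exact ⟨s, h, hh, rfl⟩
  -- any two conjugates of `S₀` meet
  have key : ∀ g : G, ∃ z ∈ (S₀ : Subgroup G), z ≠ 1 ∧ g * z * g⁻¹ ∈ (S₀ : Subgroup G) := by
    intro g
    obtain ⟨s, h, hh, rfl⟩ := hNS g
    obtain ⟨u, u', m, π, hu, hu', hm, rfl⟩ := bruhat_SL s
    suffices ∃ z ∈ (S₀ : Subgroup G), z ≠ 1 ∧ ι m * z * (ι m)⁻¹ ∈ (S₀ : Subgroup G) by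
      obtain ⟨z, hz, hz1, hzm⟩ := this
      refine ⟨(ι u' * h)⁻¹ * z * (ι u' * h), ?_, ?_, ?_⟩
      · exact mul_mem (mul_mem (inv_mem (mul_mem (hUS _ hu') hh)) hz) (mul_mem (hUS _ hu') hh)
      · intro h0
        refine hz1 ?_
        have := congrArg (fun w => (ι u' * h) * w * (ι u' * h)⁻¹) h0
        simpa [mul_assoc] using this
      · have e1 : ι (u * m * u') * h * ((ι u' * h)⁻¹ * z * (ι u' * h)) * (ι (u * m * u') * h)⁻¹ =
            ι u * (ι m * z * (ι m)⁻¹) * (ι u)⁻¹ := by simp only [map_mul]; group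
        rw [e1]
        exact mul_mem (mul_mem (hUS _ hu) hzm) (inv_mem (hUS _ hu))
    by_cases hpos : ∃ a b : Fin n, a < b ∧ π a < π b
    · obtain ⟨a, b, hab, hπ⟩ := hpos
      have hT : ∀ (a b : Fin n) (h : a < b) (c : ZMod 2),
          Matrix.SpecialLinearGroup.transvection h.ne c ∈ U n (ZMod 2) :=
        fun a b h c => CfsgLib.Involutions.PSLUnip.transvection_mem_U h c
      refine ⟨ι (Matrix.SpecialLinearGroup.transvection hab.ne 1), hUS _ (hT a b hab 1), fun h0 => ?_, ?_⟩
      · have h1 := congrArg (fun x : SL2' n => x.1 a b) (hι (h0.trans (map_one ι).symm))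
        simp [Matrix.SpecialLinearGroup.transvection_coe, Matrix.single_apply, Matrix.one_apply, hab.ne] at h1
      · rw [← map_inv, ← map_mul, ← map_mul, mono_conj_tv hm hab.ne]
        exact hUS _ (hT _ _ hπ _)
    · push Not at hpos
      have hanti : π = Fin.revPerm := by
        have hsa : StrictAnti (π : Fin n → Fin n) := fun a b hab =>
          lt_of_le_of_ne (hpos a b hab) (π.injective.ne hab.ne')
        have hmono : StrictMono (fun i : Fin n => (π i).rev) := fun a b hab => Fin.rev_lt_rev.2 (hsa hab)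
        refine Equiv.ext fun i => ?_
        simpa using congrArg Fin.rev (congrFun hmono.eq_id i)
      subst hanti
      have hmW : (m : Matrix (Fin n) (Fin n) (ZMod 2)) = (W n : Matrix (Fin n) (Fin n) (ZMod 2)) := by
        ext i j
        rw [W, CfsgLib.KnownB.Flags.permGL_apply]
        by_cases hij : i = Fin.revPerm j
        · rw [if_pos (by rw [hij]; simp), hij]
          exact zmod2_eq_one _ (hm.ne_zero j)
        · rw [hm i j hij, if_neg]
          exact fun h => hij (by rw [← h]; simp)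
      have htau : tau n m = m := by
        have hm2 : m⁻¹ = m := inv_eq_of_mul_eq_one_right (Subtype.ext (by
          rw [Matrix.SpecialLinearGroup.coe_mul, hmW, ← Units.val_mul, W_mul_self]; rfl))
        refine Subtype.ext (Matrix.ext fun i j => ?_)
        rw [tau_apply, hm2, hmW]
        simp only [W, CfsgLib.KnownB.Flags.permGL_apply, Fin.revPerm_symm, Fin.revPerm_apply, Fin.rev_rev]
        split_ifs <;> simp_all
      refine ⟨t, htS, ht1, ?_⟩
      have := htU m
      rw [htau] at this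
      have h2 : ι m * t * (ι m)⁻¹ = t := by
        rw [mul_inv_eq_iff_eq_mul]
        exact (mul_inv_eq_iff_eq_mul.1 this).symm
      rw [h2]
      exact htS
  obtain ⟨a, ha⟩ := MulAction.exists_smul_eq G S₀ H
  obtain ⟨z, hz, hz1, hzg⟩ := key (a⁻¹ * x * a)
  have hH : ∀ y : G, y ∈ (H : Subgroup G) ↔ a⁻¹ * y * a ∈ (S₀ : Subgroup G) := fun y => by
    rw [← ha, Sylow.coe_subgroup_smul, Subgroup.mem_pointwise_smul_iff_inv_smul_mem, ← map_inv,
      MulAut.smul_def, MulAut.conj_apply, inv_inv]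
  intro hbot
  have hmem : x * (a * z * a⁻¹) * x⁻¹ ∈ (H : Subgroup G) ⊓ MulAut.conj x • (H : Subgroup G) := by
    refine ⟨(hH _).2 ?_, ?_⟩
    · rwa [show a⁻¹ * (x * (a * z * a⁻¹) * x⁻¹) * a = a⁻¹ * x * a * z * (a⁻¹ * x * a)⁻¹ by group]
    · refine Subgroup.mem_pointwise_smul_iff_inv_smul_mem.2 ?_
      rw [← map_inv, MulAut.smul_def, MulAut.conj_apply, inv_inv, show x⁻¹ * (x * (a * z * a⁻¹) * x⁻¹) * x = a * z * a⁻¹ by group]
      exact (hH _).2 (by rwa [show a⁻¹ * (a * z * a⁻¹) * a = z by group])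
  rw [hbot, Subgroup.mem_bot] at hmem
  refine hz1 ?_
  have := congrArg (fun w => a⁻¹ * (x⁻¹ * w * x) * a) hmem
  simpa [mul_assoc] using this

end Cfsg.Agent.S2486
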