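import Cfsg.Statements.S2487
import Cfsg.Agent.Lib.KnownB.PlusSylowMeet
import Cfsg.Agent.Lib.Geometry.MatrixEquiv

set_option autoImplicit false
open scoped Pointwise
open Cfsg

namespace Cfsg.Agent.S2487

open CfsgLib.KnownB.PlusSylowMeet in
theorem data_plus {F : Type*} [Field F] [Fintype F] (hF : Fintype.card F = 2) (m : ℕ) :
    Data (F := F) (V := Fin m ⊕ Fin m → F) (Cfsg.quadFormPlus m F) := by
  classical
  have two : ∀ c : F, c = 0 ∨ c = 1 := by
    intro c
    by_contra hc
    push Not at hc
    have h3 : ({0, 1, c} : Finset F).card = 3 := by simp [hc.1.symm, hc.2.symm]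
    have := Finset.card_le_univ ({0, 1, c} : Finset F)
    omega
  have char : (1 : F) + 1 = 0 := (two (1 + 1)).resolve_right fun h => one_ne_zero (α := F) (by
    calc (1 : F) = 1 + 1 - 1 := by ring
      _ = 0 := by rw [h, sub_self])
  have hpol : ∀ x y : Fin m ⊕ Fin m → F, pol (Cfsg.quadFormPlus m F) x y =
      ∑ i : Fin m, (x (.inl i) * y (.inr i) + x (.inr i) * y (.inl i)) := by
    intro x y
    simp only [pol, Cfsg.quadFormPlus, Pi.add_apply, ← Finset.sum_sub_distrib]
    exact Finset.sum_congr rfl fun i _ => by ring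
  refine ⟨two, char, fun x y z => ?_, fun x hx => ?_, ?_⟩
  · simp only [hpol, Pi.add_apply, ← Finset.sum_add_distrib]
    exact Finset.sum_congr rfl fun i _ => by ring
  · funext s
    rcases s with i | i
    · have := hx (Pi.single (.inr i) 1)
      rw [hpol, Finset.sum_eq_single i] at this
      · simpa using this
      · intro j _ hj; simp [hj]
      · simp
    · have := hx (Pi.single (.inl i) 1)
      rw [hpol, Finset.sum_eq_single i] at this
      · simpa using this
      · intro j _ hj; simp [hj]
      · simp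
  · have hc : Nat.card {v : Fin m ⊕ Fin m → F // Cfsg.quadFormPlus m F v = 0} =
        ∑ x : Fin m → F, Nat.card {y : Fin m → F // ∑ i, x i * y i = 0} := by
      rw [← Nat.card_sigma, ← Nat.card_congr (Equiv.subtypeProdEquivSigmaSubtype
        (fun (x y : Fin m → F) => ∑ i, x i * y i = 0))]
      exact Nat.card_congr ((Equiv.sumArrowEquivProdArrow _ _ _).subtypeEquiv fun v => Iff.rfl)
    have hhalf : ∀ x : Fin m → F, x ≠ 0 →
        2 * Nat.card {y : Fin m → F // ∑ i, x i * y i = 0} = Nat.card (Fin m → F) := by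
      intro x hx
      obtain ⟨i, hi⟩ := Function.ne_iff.1 hx
      have hi1 : x i = 1 := (two _).resolve_left hi
      have h1 : ∀ y : Fin m → F, ∑ j, x j * (y + Pi.single i (1 : F) : Fin m → F) j = (∑ j, x j * y j) + 1 := by
        intro y
        simp only [Pi.add_apply, mul_add, Finset.sum_add_distrib]
        rw [Finset.sum_eq_single (f := fun j => x j * (Pi.single i (1 : F) : Fin m → F) j) i
          (fun j _ hj => by simp [hj]) (by simp)]
        simp [hi1]
      have e : {y : Fin m → F // ∑ j, x j * y j = 0} ≃ {y : Fin m → F // ¬ ∑ j, x j * y j = 0} :=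
        (Equiv.addRight (Pi.single i (1 : F) : Fin m → F)).subtypeEquiv fun y => by
          rw [Equiv.coe_addRight, h1]
          rcases two (∑ j, x j * y j) with h | h <;> simp [h, char]
      rw [two_mul]
      nth_rewrite 2 [Nat.card_congr e]
      rw [← Nat.card_sum, Nat.card_congr (Equiv.sumCompl _)]
    have hsum : 2 * Nat.card {v : Fin m ⊕ Fin m → F // Cfsg.quadFormPlus m F v = 0} =
        Nat.card (Fin m ⊕ Fin m → F) + Nat.card (Fin m → F) := by
      rw [hc, Finset.mul_sum, ← Finset.add_sum_erase _ _ (Finset.mem_univ (0 : Fin m → F)),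
        Finset.sum_congr rfl fun x hx => hhalf x (Finset.ne_of_mem_erase hx), Finset.sum_const, smul_eq_mul,
        Nat.card_congr (Equiv.sumArrowEquivProdArrow _ _ _), Nat.card_prod,
        Nat.card_congr (Equiv.subtypeUnivEquiv (fun y => by simp) :
          {y : Fin m → F // ∑ i, (0 : Fin m → F) i * y i = 0} ≃ (Fin m → F))]
      rw [Finset.card_erase_of_mem (Finset.mem_univ _), Finset.card_univ, ← Nat.card_eq_fintype_card]
      obtain ⟨k, hk⟩ : ∃ k, Nat.card (Fin m → F) = k + 1 :=
        ⟨Nat.card (Fin m → F) - 1, by have := Nat.card_pos (α := Fin m → F); omega⟩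
      rw [hk, Nat.add_sub_cancel]
      ring
    have := Nat.card_pos (α := Fin m → F)
    omega

open CfsgLib.KnownB.PlusSylowMeet Matrix in
/-- The isometry group as a group of linear equivalences. -/
noncomputable def toIso {F : Type*} [Field F] {ι : Type} [Fintype ι] [DecidableEq ι] (Q : (ι → F) → F) :
    Cfsg.isometryGroup F Q ≃* Iso (F := F) (V := ι → F) Q where
  toFun g := ⟨CfsgLib.Geometry.glEquiv (g : Matrix.GeneralLinearGroup ι F), fun v => g.2 v v⟩
  invFun e := ⟨CfsgLib.Geometry.glEquiv.symm (e : (ι → F) ≃ₗ[F] (ι → F)), fun u _ => by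
    show Q (_ *ᵥ u) = Q u
    rw [Units.coeHom_apply, CfsgLib.Geometry.glEquiv_symm_mulVec]
    exact e.2 u⟩
  left_inv g := by ext : 1; simp
  right_inv e := by ext : 1; simp
  map_mul' a b := by ext : 1; simp

/-- Let m ≥ 4 and let G be the full isometry group of the hyperbolic quadratic form x₁y₁ + ⋯ + x_m y_m on the 2m-dimensional space over the field with 2 elements (the orthogonal group O⁺(2m,2), which contains Ω⁺(2m,2) with index 2). Then any two Sylow 2-subgroups of G have a non-trivial intersection: for a Sylow 2-subgroup H and every x ∈ G, H ∩ H^x ≠ 1. -/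
theorem result {F : Type*} [Field F] [Fintype F] (hF : Fintype.card F = 2) {m : ℕ} (hm : 4 ≤ m)
    (H : Sylow 2 (Cfsg.isometryGroup F (Cfsg.quadFormPlus m F)))
    (x : Cfsg.isometryGroup F (Cfsg.quadFormPlus m F)) :
    (H : Subgroup (Cfsg.isometryGroup F (Cfsg.quadFormPlus m F))) ⊓ MulAut.conj x • (H : Subgroup _) ≠ ⊥ := by
  haveI : Nonempty (Fin m ⊕ Fin m) := ⟨Sum.inl ⟨0, by omega⟩⟩
  haveI : Nontrivial (Fin m ⊕ Fin m → F) := inferInstance
  let φ := toIso (F := F) (Cfsg.quadFormPlus m F)
  obtain ⟨z, hzS, hzT, hz⟩ := CfsgLib.KnownB.PlusSylowMeet.meet _ le_rfl (data_plus hF m)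
    (H.comapOfInjective φ.symm.toMonoidHom φ.symm.injective (by simp))
    ((x • H).comapOfInjective φ.symm.toMonoidHom φ.symm.injective (by simp))
  intro hbot
  have hmem : φ.symm z ∈ (H : Subgroup _) ⊓ MulAut.conj x • (H : Subgroup _) := ⟨hzS, hzT⟩
  rw [hbot, Subgroup.mem_bot] at hmem
  exact hz (φ.symm.injective (hmem.trans (map_one _).symm))

end Cfsg.Agent.S2487
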