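import Cfsg.Statements.S2488
import Mathlib
import Cfsg.Agent.Lib.PGroups.Basic

set_option autoImplicit false
open scoped Pointwise
open Cfsg

set_option maxHeartbeats 1000000

namespace Cfsg.Agent.S2488

private theorem ct_prime {p : ℕ} [Fact p.Prime] {σ : Equiv.Perm (Fin 6)} (h : σ ^ p = 1) (hne : σ ≠ 1) :
    ∃ k, 1 ≤ k ∧ k * p ≤ 6 ∧ σ.cycleType = Multiset.replicate k p := by
  have hc := Equiv.Perm.cycleType_of_pow_prime_eq_one h
  refine ⟨_, ?_, ?_, hc⟩
  · exact Equiv.Perm.card_cycleType_pos.2 hne
  · have := σ.sum_cycleType_le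
    rw [hc, Multiset.sum_replicate, smul_eq_mul, Fintype.card_fin] at this
    exact this

private theorem cent_three {σ : Equiv.Perm (Fin 6)} (h : σ ^ 3 = 1) (hne : σ ≠ 1) :
    Nat.card (Subgroup.centralizer {σ}) ≤ 18 ∧ (σ.cycleType = Multiset.replicate 1 3 ∨ σ.cycleType = Multiset.replicate 2 3) := by
  have : Fact (Nat.Prime 3) := ⟨Nat.prime_three⟩
  obtain ⟨k, h1, h2, hc⟩ := ct_prime h hne
  rw [Equiv.Perm.nat_card_centralizer, hc]
  have : k ≤ 2 := by omega
  interval_cases k <;> simp_all [Nat.factorial]

private theorem cent_five {σ : Equiv.Perm (Fin 6)} (h : σ ^ 5 = 1) (hne : σ ≠ 1) :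
    Nat.card (Subgroup.centralizer {σ}) ≤ 5 ∧ σ.cycleType = Multiset.replicate 1 5 := by
  have : Fact (Nat.Prime 5) := ⟨by norm_num⟩
  obtain ⟨k, h1, h2, hc⟩ := ct_prime h hne
  rw [Equiv.Perm.nat_card_centralizer, hc]
  have : k ≤ 1 := by omega
  interval_cases k
  simp_all [Nat.factorial]

private theorem cent_two {σ : Equiv.Perm (Fin 6)} (h : σ ^ 2 = 1) (hne : σ ≠ 1) (hs : Equiv.Perm.sign σ = 1) :
    Nat.card (Subgroup.centralizer {σ}) ≤ 16 := by
  have : Fact (Nat.Prime 2) := ⟨Nat.prime_two⟩
  obtain ⟨k, h1, h2, hc⟩ := ct_prime h hne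
  rw [Equiv.Perm.sign_of_cycleType, hc] at hs
  rw [Equiv.Perm.nat_card_centralizer, hc]
  have : k ≤ 3 := by omega
  interval_cases k
  · exact absurd hs (by simp; decide)
  · simp [Nat.factorial]
  · exact absurd hs (by simp; decide)

private theorem odd_order {σ : Equiv.Perm (Fin 6)} (hodd : Odd (orderOf σ)) : σ ^ 3 = 1 ∨ σ ^ 5 = 1 := by
  have hmem : ∀ n ∈ σ.cycleType, n = 3 ∨ n = 5 := fun n hn => by
    have h1 := Equiv.Perm.two_le_of_mem_cycleType hn
    have h2 : n ≤ 6 := by
      have := σ.sum_cycleType_le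
      rw [Fintype.card_fin] at this
      exact le_trans (Multiset.le_sum_of_mem hn) this
    have h3 : Odd n := hodd.of_dvd_nat (Equiv.Perm.dvd_of_mem_cycleType hn)
    obtain ⟨j, rfl⟩ := h3
    omega
  by_cases h5 : 5 ∈ σ.cycleType
  · right
    rw [← orderOf_dvd_iff_pow_eq_one, ← Equiv.Perm.lcm_cycleType, Multiset.lcm_dvd]
    intro n hn
    rcases hmem n hn with rfl | rfl
    · exfalso
      obtain ⟨t, ht⟩ := Multiset.exists_cons_of_mem h5
      have h3 : 3 ∈ t := by
        rw [ht, Multiset.mem_cons] at hn
        exact hn.resolve_left (by norm_num)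
      have := σ.sum_cycleType_le
      rw [ht, Multiset.sum_cons, Fintype.card_fin] at this
      have := Multiset.le_sum_of_mem h3
      omega
    · rfl
  · left
    rw [← orderOf_dvd_iff_pow_eq_one, ← Equiv.Perm.lcm_cycleType, Multiset.lcm_dvd]
    intro n hn
    rcases hmem n hn with rfl | rfl
    · rfl
    · exact absurd hn h5

private theorem count_three :
    Nat.card {σ : Equiv.Perm (Fin 6) // σ ^ 3 = 1 ∧ σ ≠ 1} ≤ 80 := by
  classical
  rw [Nat.card_eq_fintype_card, Fintype.card_subtype]
  refine le_trans (Finset.card_le_card (t := Finset.univ.filter (fun σ : Equiv.Perm (Fin 6) => σ.cycleType = Multiset.replicate 1 3) ∪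
    Finset.univ.filter (fun σ : Equiv.Perm (Fin 6) => σ.cycleType = Multiset.replicate 2 3)) ?_) ?_
  · intro σ hσ
    rw [Finset.mem_filter] at hσ
    rcases (cent_three hσ.2.1 hσ.2.2).2 with h | h
    · exact Finset.mem_union_left _ (Finset.mem_filter.2 ⟨Finset.mem_univ _, h⟩)
    · exact Finset.mem_union_right _ (Finset.mem_filter.2 ⟨Finset.mem_univ _, h⟩)
  · refine le_trans (Finset.card_union_le _ _) ?_
    rw [Equiv.Perm.card_of_cycleType, Equiv.Perm.card_of_cycleType]
    simp [Nat.factorial]

private theorem count_five :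
    Nat.card {σ : Equiv.Perm (Fin 6) // σ ^ 5 = 1 ∧ σ ≠ 1} ≤ 144 := by
  classical
  rw [Nat.card_eq_fintype_card, Fintype.card_subtype]
  refine le_trans (Finset.card_le_card (t := Finset.univ.filter (fun σ : Equiv.Perm (Fin 6) => σ.cycleType = Multiset.replicate 1 5)) ?_) ?_
  · intro σ hσ
    rw [Finset.mem_filter] at hσ
    exact Finset.mem_filter.2 ⟨Finset.mem_univ _, (cent_five hσ.2.1 hσ.2.2).2⟩
  · rw [Equiv.Perm.card_of_cycleType]
    simp [Nat.factorial]

/-- Let G be a finite group with a normal subgroup N of index 4 isomorphic to the alternating group of degree 6 and with trivial centralizer in G (so G is the full automorphism group of A₆). Then any two Sylow 2-subgroups of G have a non-trivial intersection: for a Sylow 2-subgroup H and every x ∈ G, H ∩ H^x ≠ 1. -/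
theorem result {G : Type*} [Group G] [Finite G] (N : Subgroup G) [N.Normal]
    (e : N ≃* alternatingGroup (Fin 6)) (hidx : N.index = 4)
    (hC : Subgroup.centralizer (N : Set G) = ⊥)
    (H : Sylow 2 G) (x : G) :
    (H : Subgroup G) ⊓ MulAut.conj x • (H : Subgroup G) ≠ ⊥ := by
  classical
  have : Fact (Nat.Prime 2) := ⟨Nat.prime_two⟩
  have hN : Nat.card N = 360 := by
    rw [Nat.card_congr e.toEquiv, nat_card_alternatingGroup, Nat.card_fin]; rfl
  have hG : Nat.card G = 1440 := by
    rw [← N.card_mul_index, hN, hidx]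
  let j : N →* Equiv.Perm (Fin 6) := (alternatingGroup (Fin 6)).subtype.comp e.toMonoidHom
  have hj : Function.Injective j := Subtype.val_injective.comp e.injective
  -- centralisers inside `N` embed into symmetric centralisers
  have hcN : ∀ y : N, Nat.card ↥(Subgroup.centralizer {(y : G)} ⊓ N) ≤ Nat.card (Subgroup.centralizer {j y}) := by
    intro y
    refine Nat.card_le_card_of_injective (fun c => (⟨j ⟨c.1, c.2.2⟩, ?_⟩ : Subgroup.centralizer {j y})) ?_
    · rw [Subgroup.mem_centralizer_singleton_iff, ← map_mul, ← map_mul]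
      exact congrArg j (Subtype.ext (Subgroup.mem_centralizer_singleton_iff.1 c.2.1))
    · intro a b hab
      have := hj (congrArg Subtype.val hab :)
      exact Subtype.ext (congrArg Subtype.val this :)
  -- odd centralisers lie in `N`
  have hoddle : ∀ C : Subgroup G, Odd (Nat.card C) → C ≤ N := by
    intro C hodd c hc
    have h1 : orderOf (c : G ⧸ N) ∣ Nat.card C := (orderOf_map_dvd (QuotientGroup.mk' N) c).trans (C.orderOf_dvd_natCard hc)
    have h2 : orderOf (c : G ⧸ N) ∣ 4 := by
      have := orderOf_dvd_natCard (c : G ⧸ N)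
      rwa [← Subgroup.index_eq_card, hidx] at this
    have h3 : orderOf (c : G ⧸ N) = 1 := by
      have hco : Nat.Coprime (Nat.card C) 4 := by
        rw [show 4 = 2 ^ 2 by norm_num]
        exact Nat.Coprime.pow_right 2 (Nat.coprime_two_right.2 hodd)
      exact Nat.eq_one_of_dvd_coprimes hco h1 h2
    exact (QuotientGroup.eq_one_iff _).1 (orderOf_eq_one_iff.1 h3)
  -- elements of odd order have centralisers of even order
  have heven : ∀ y : N, y ≠ 1 → Odd (orderOf y) → Even (Nat.card (Subgroup.centralizer {(y : G)})) := by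
    intro y hy hodd
    by_contra hne
    rw [Nat.not_even_iff_odd] at hne
    have hle := hoddle _ hne
    set C := Subgroup.centralizer {(y : G)} with hCdef
    have hCi : C ⊓ N = C := inf_eq_left.2 hle
    have hbound := hcN y
    rw [← hCdef, hCi] at hbound
    have hj1 : j y ≠ 1 := fun h => hy (hj (h.trans (map_one j).symm))
    have hcls : ∀ p : ℕ, (j y) ^ p = 1 → C.index ≤ Nat.card {σ : Equiv.Perm (Fin 6) // σ ^ p = 1 ∧ σ ≠ 1} := by
      intro p hp
      rw [Subgroup.index_eq_card]
      refine Nat.card_le_card_of_injective (fun q : G ⧸ C => (⟨j ⟨q.out * (y : G) * q.out⁻¹, Subgroup.Normal.conj_mem ‹N.Normal› _ y.2 _⟩, ?_, ?_⟩ : {σ : Equiv.Perm (Fin 6) // σ ^ p = 1 ∧ σ ≠ 1})) ?_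
      · have hyp : y ^ p = 1 := hj (by rw [map_pow, map_one, hp])
        have hyp' : (y : G) ^ p = 1 := by rw [← Subgroup.coe_pow, hyp, Subgroup.coe_one]
        rw [← map_pow, ← map_one j]
        exact congrArg j (Subtype.ext (by rw [Subgroup.coe_pow, Subgroup.coe_one]; show (q.out * (y : G) * q.out⁻¹) ^ p = 1; rw [conj_pow, hyp']; group))
      · intro h
        have := congrArg Subtype.val (hj (h.trans (map_one j).symm))
        simp only [Subgroup.coe_one] at this
        rw [conj_eq_one_iff] at this
        exact hy (Subtype.ext this)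
      · intro a b hab
        have h := congrArg Subtype.val (hj (congrArg Subtype.val hab :))
        simp only at h
        rw [← QuotientGroup.out_eq' a, ← QuotientGroup.out_eq' b, QuotientGroup.eq]
        refine Subgroup.mem_centralizer_singleton_iff.2 ?_
        calc a.out⁻¹ * b.out * (y : G) = a.out⁻¹ * (b.out * y * b.out⁻¹) * b.out := by group
          _ = a.out⁻¹ * (a.out * y * a.out⁻¹) * b.out := by rw [h]
          _ = (y : G) * (a.out⁻¹ * b.out) := by group
    have hmul := C.card_mul_index
    rw [hG] at hmul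
    rcases odd_order (σ := j y) (by rwa [orderOf_injective j hj]) with h | h
    · have h1 := (cent_three h hj1).1
      have h2 := (hcls 3 h).trans count_three
      have hc : Nat.card C ≤ 18 := hbound.trans h1
      have : 18 ≤ Nat.card C := by nlinarith
      have h18 : Nat.card C = 18 := by omega
      rw [h18] at hne
      exact absurd hne (by decide)
    · have h1 := (cent_five h hj1).1
      have h2 := (hcls 5 h).trans count_five
      have hc : Nat.card C ≤ 5 := hbound.trans h1
      nlinarith
  -- two involutions of `N` have a common non-trivial centralising element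
  have key : ∀ z w : N, z ≠ 1 → z * z = 1 → w * w = 1 → ∃ c : G, c ≠ 1 ∧ c * z = z * c ∧ c * w = w * c := by
    intro z w hz hz2 hw2
    set y := z * w with hy
    have hzi : z⁻¹ = z := inv_eq_of_mul_eq_one_right hz2
    have hwi : w⁻¹ = w := inv_eq_of_mul_eq_one_right hw2
    have hwy : w = z * y := by rw [hy, ← mul_assoc, hz2, one_mul]
    have hinv : z * y * z = y⁻¹ := by rw [← hwy, hy, mul_inv_rev, hzi, hwi]
    have hzG : (z : G) ≠ 1 := fun h => hz (Subtype.ext h)
    have hinvG : ∀ n : ℕ, (z : G) * (y : G) ^ n * z = ((y : G) ^ n)⁻¹ := by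
      intro n
      have h1 : (z * y ^ n * z⁻¹) = (y ^ n)⁻¹ := by
        rw [← conj_pow, hzi, hinv, inv_pow]
      have := congrArg Subtype.val h1
      rw [hzi] at this
      simpa using this
    have hz2G : (z : G) * z = 1 := congrArg Subtype.val hz2
    -- an element fixed by `z` and commuting with `y` will do
    suffices h : ∃ c : G, c ≠ 1 ∧ c * z = z * c ∧ c * y = y * c by
      obtain ⟨c, h1, h2, h3⟩ := h
      refine ⟨c, h1, h2, ?_⟩
      rw [hwy, Subgroup.coe_mul, ← mul_assoc, h2, mul_assoc, h3, mul_assoc]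
    by_cases hy1 : y = 1
    · exact ⟨z, hzG, rfl, by simp [hy1]⟩
    rcases Nat.even_or_odd (orderOf y) with ⟨m, hm⟩ | hodd
    · refine ⟨(y : G) ^ m, ?_, ?_, (Commute.pow_self _ _).eq⟩
      · intro h
        have : y ^ m = 1 := Subtype.ext (by simpa using h)
        have h1 := orderOf_dvd_of_pow_eq_one this
        have h2 := orderOf_pos y
        have := Nat.le_of_dvd (by omega) h1
        omega
      · have h1 : ((y : G) ^ m)⁻¹ = (y : G) ^ m := by
          rw [inv_eq_iff_mul_eq_one, ← pow_add, ← hm, ← Subgroup.coe_pow, pow_orderOf_eq_one, Subgroup.coe_one]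
        have := hinvG m
        rw [h1] at this
        calc (y : G) ^ m * z = (z * (y : G) ^ m * z) * z := by rw [this]
          _ = z * (y : G) ^ m := by rw [mul_assoc, hz2G, mul_one]
    · set C := Subgroup.centralizer {(y : G)} with hCdef
      have hev := heven y hy1 hodd
      rw [← hCdef] at hev
      have hstab : ∀ a ∈ C, (z : G) * a * z ∈ C := by
        intro a ha
        rw [hCdef, Subgroup.mem_centralizer_singleton_iff] at ha ⊢
        have h1 : (y : G) = (z : G) * (y : G)⁻¹ * z := by
          have := hinvG 1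
          simp only [pow_one] at this
          rw [← this]
          calc (y : G) = ((z : G) * z) * y * ((z : G) * z) := by rw [hz2G]; group
            _ = (z : G) * ((z : G) * y * z) * z := by group
        calc (z : G) * a * z * y = (z : G) * a * z * ((z : G) * (y : G)⁻¹ * z) := by rw [← h1]
          _ = (z : G) * (a * (y : G)⁻¹) * z := by rw [mul_assoc ((z : G) * a), ← mul_assoc (z : G) ((z : G) * _), ← mul_assoc (z : G) (z : G), hz2G]; group
          _ = (z : G) * ((y : G)⁻¹ * a) * z := by rw [(Commute.inv_right (show Commute a (y : G) from ha)).eq]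
          _ = ((z : G) * (y : G)⁻¹ * z) * ((z : G) * a * z) := by
                calc (z : G) * ((y : G)⁻¹ * a) * z = (z : G) * (y : G)⁻¹ * 1 * a * z := by group
                  _ = _ := by rw [← hz2G]; group
          _ = y * ((z : G) * a * z) := by rw [← h1]
      -- an involution count
      have : Fintype C := Fintype.ofFinite C
      have hfix : ∃ a : C, a ≠ 1 ∧ (z : G) * a * z = a := by
        have := Fintype.ofFinite G
        let act : Equiv.Perm {a : C // a * a = 1} :=
          { toFun := fun a => ⟨⟨(z : G) * a.1 * z, hstab _ a.1.2⟩, Subtype.ext (by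
              have := congrArg Subtype.val a.2
              show ((z : G) * a.1 * z) * ((z : G) * a.1 * z) = 1
              rw [Subgroup.coe_mul, Subgroup.coe_one] at this
              calc ((z : G) * a.1 * z) * ((z : G) * a.1 * z) = (z : G) * a.1 * ((z : G) * z) * a.1 * z := by group
                _ = (z : G) * ((a.1 : G) * a.1) * z := by rw [hz2G]; group
                _ = 1 := by rw [this, mul_one, hz2G])⟩
            invFun := fun a => ⟨⟨(z : G) * a.1 * z, hstab _ a.1.2⟩, Subtype.ext (by
              have := congrArg Subtype.val a.2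
              show ((z : G) * a.1 * z) * ((z : G) * a.1 * z) = 1
              rw [Subgroup.coe_mul, Subgroup.coe_one] at this
              calc ((z : G) * a.1 * z) * ((z : G) * a.1 * z) = (z : G) * a.1 * ((z : G) * z) * a.1 * z := by group
                _ = (z : G) * ((a.1 : G) * a.1) * z := by rw [hz2G]; group
                _ = 1 := by rw [this, mul_one, hz2G])⟩
            left_inv := fun a => Subtype.ext (Subtype.ext (by
              show (z : G) * ((z : G) * a.1 * z) * z = a.1
              calc (z : G) * ((z : G) * a.1 * z) * z = ((z : G) * z) * a.1 * ((z : G) * z) := by group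
                _ = a.1 := by rw [hz2G, one_mul, mul_one]))
            right_inv := fun a => Subtype.ext (Subtype.ext (by
              show (z : G) * ((z : G) * a.1 * z) * z = a.1
              calc (z : G) * ((z : G) * a.1 * z) * z = ((z : G) * z) * a.1 * ((z : G) * z) := by group
                _ = a.1 := by rw [hz2G, one_mul, mul_one])) }
        have hact : act ^ (2 ^ 1) = 1 := by
          rw [pow_one, pow_two]
          ext a : 1
          exact act.left_inv a
        -- the number of solutions of `a * a = 1` is even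
        let inv' : Equiv.Perm C := Equiv.inv C
        have hinv' : inv' ^ (2 ^ 1) = 1 := by
          rw [pow_one, pow_two]; ext a : 1; simp [inv']
        have h2C : 2 ∣ Fintype.card C := by
          rw [← Nat.card_eq_fintype_card]; exact even_iff_two_dvd.1 hev
        have hmod := Equiv.Perm.card_compl_support_modEq hinv'
        have hsupp : inv'.supportᶜ = Finset.univ.filter (fun a : C => a * a = 1) := by
          ext a
          simp [inv', Equiv.Perm.mem_support, inv_eq_iff_mul_eq_one]
        rw [hsupp, ← Fintype.card_subtype] at hmod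
        have h2S : 2 ∣ Fintype.card {a : C // a * a = 1} := Nat.modEq_zero_iff_dvd.1 (hmod.trans (Nat.modEq_zero_iff_dvd.2 h2C))
        obtain ⟨b, hb, hne⟩ := Equiv.Perm.exists_fixed_point_of_prime' h2S hact (a := (⟨1, one_mul 1⟩ : {a : C // a * a = 1})) (Subtype.ext (Subtype.ext (by show (z : G) * 1 * z = 1; rw [mul_one, hz2G])))
        exact ⟨b.1, fun h => hne (Subtype.ext h), congrArg (fun r : {a : C // a * a = 1} => (r.1 : G)) hb⟩
      obtain ⟨a, ha1, ha2⟩ := hfix
      refine ⟨a, fun h => ha1 (Subtype.ext h), ?_, Subgroup.mem_centralizer_singleton_iff.1 a.2⟩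
      calc (a : G) * z = ((z : G) * a * z) * z := by rw [ha2]
        _ = z * a := by rw [mul_assoc, hz2G, mul_one]
  -- `H` is the centraliser of an involution of `N`
  have hH : Nat.card H = 32 := by
    rw [H.card_eq_multiplicity, hG]
    have : (1440 : ℕ) = 2 ^ 5 * 45 := by norm_num
    rw [this, Nat.factorization_mul (by norm_num) (by norm_num), Nat.Prime.factorization_pow Nat.prime_two]
    simp [Nat.factorization_eq_zero_of_not_dvd (show ¬ 2 ∣ 45 by norm_num)]
  obtain ⟨z, hz1, hz2, hzc⟩ : ∃ z : N, z ≠ 1 ∧ z * z = 1 ∧ ∀ h ∈ (H : Subgroup G), h * z = z * h := by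
    let M : Subgroup (H : Subgroup G) := N.subgroupOf H
    have hMn : M.Normal := Subgroup.normal_subgroupOf
    have hMne : Nontrivial M := by
      rw [Subgroup.nontrivial_iff_ne_bot]
      intro hbot
      have hindM : M.index ∣ 4 := by
        have : M.index = N.relIndex H := rfl
        rw [this, ← hidx]
        exact Subgroup.relIndex_dvd_index_of_normal N H
      rw [hbot, Subgroup.index_bot, hH] at hindM
      norm_num at hindM
    have hp : IsPGroup 2 (H : Subgroup G) := H.isPGroup'
    obtain ⟨a, ha⟩ := exists_prime_orderOf_dvd_card' (G := ↥(M ⊓ Subgroup.center (H : Subgroup G))) 2 (by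
      have hne : M ⊓ Subgroup.center (H : Subgroup G) ≠ ⊥ := CfsgLib.PGroups.inf_center_ne_bot hp ((Subgroup.nontrivial_iff_ne_bot M).1 hMne)
      obtain ⟨k, hk⟩ := (hp.to_subgroup (M ⊓ Subgroup.center (H : Subgroup G))).exists_card_eq
      rw [hk]
      rcases k with _ | k
      · exact absurd (Subgroup.eq_bot_of_card_eq _ (by simpa using hk)) hne
      · exact ⟨2 ^ k, by ring⟩)
    obtain ⟨haM, hac⟩ := Subgroup.mem_inf.1 a.2
    refine ⟨⟨((a : (H : Subgroup G)) : G), haM⟩, ?_, ?_, ?_⟩
    · intro h
      have : a = 1 := Subtype.ext (Subtype.ext (congrArg Subtype.val h :))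
      rw [this, orderOf_one] at ha
      omega
    · have h2 := pow_orderOf_eq_one a
      rw [ha, pow_two] at h2
      exact Subtype.ext (congrArg (fun r : ↥(M ⊓ Subgroup.center (H : Subgroup G)) => ((r : (H : Subgroup G)) : G)) h2)
    · intro h hh
      exact congrArg Subtype.val (Subgroup.mem_center_iff.1 hac ⟨h, hh⟩)
  have hHC : (H : Subgroup G) = Subgroup.centralizer {(z : G)} := by
    have hle : (H : Subgroup G) ≤ Subgroup.centralizer {(z : G)} := fun h hh =>
      Subgroup.mem_centralizer_singleton_iff.2 (hzc h hh)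
    refine Subgroup.eq_of_le_of_card_ge hle ?_
    show _ ≤ Nat.card H
    rw [hH]
    set C := Subgroup.centralizer {(z : G)} with hCdef
    have hj1 : j z ≠ 1 := fun h => hz1 (hj (h.trans (map_one j).symm))
    have h16 : Nat.card ↥(C ⊓ N) ≤ 16 := (hcN z).trans (cent_two (by rw [← map_pow, pow_two, hz2, map_one]) hj1 (Equiv.Perm.mem_alternatingGroup.1 (e z).2))
    have h360 : Nat.card ↥(C ⊓ N) ∣ 360 := hN ▸ Subgroup.card_dvd_of_le inf_le_right
    have h4 : (N.subgroupOf C).index ∣ 4 := by
      rw [← hidx]; exact Subgroup.relIndex_dvd_index_of_normal N C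
    have hmul := (N.subgroupOf C).card_mul_index
    have hcong : Nat.card (N.subgroupOf C) = Nat.card ↥(C ⊓ N) :=
      Nat.card_congr
        { toFun := fun a => ⟨a.1.1, a.1.2, a.2⟩
          invFun := fun a => ⟨⟨a.1, a.2.1⟩, a.2.2⟩
          left_inv := fun a => rfl
          right_inv := fun a => rfl }
    rw [hcong] at hmul
    have h32 : 32 ∣ Nat.card C := hH ▸ Subgroup.card_dvd_of_le hle
    have hle4 := Nat.le_of_dvd (by norm_num) h4
    have hCle : Nat.card C ≤ 64 := by nlinarith
    have hC1440 : Nat.card C ∣ 1440 := hG ▸ Subgroup.card_subgroup_dvd_card C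
    obtain ⟨d, hd⟩ := h32
    rw [hd] at hCle hC1440 ⊢
    have : d ≤ 2 := by omega
    interval_cases d <;> simp_all
  rw [Ne, Subgroup.eq_bot_iff_forall]
  intro hbot
  have hw : (x * (z : G) * x⁻¹) ∈ N := Subgroup.Normal.conj_mem ‹N.Normal› _ z.2 _
  obtain ⟨c, hc1, hcz, hcw⟩ := key z ⟨_, hw⟩ hz1 hz2 (Subtype.ext (by
    have := congrArg Subtype.val hz2
    show (x * (z : G) * x⁻¹) * (x * (z : G) * x⁻¹) = 1
    rw [Subgroup.coe_mul, Subgroup.coe_one] at this
    calc (x * (z : G) * x⁻¹) * (x * (z : G) * x⁻¹) = x * ((z : G) * z) * x⁻¹ := by group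
      _ = 1 := by rw [this]; group))
  refine hc1 (hbot c ⟨hHC ▸ Subgroup.mem_centralizer_singleton_iff.2 hcz, ?_⟩)
  show c ∈ MulAut.conj x • (H : Subgroup G)
  rw [Subgroup.mem_pointwise_smul_iff_inv_smul_mem]
  show (MulAut.conj x)⁻¹ c ∈ (H : Subgroup G)
  rw [hHC, Subgroup.mem_centralizer_singleton_iff, ← map_inv, MulAut.conj_apply]
  simp only at hcw
  calc x⁻¹ * c * x⁻¹⁻¹ * (z : G) = x⁻¹ * (c * (x * (z : G) * x⁻¹)) * x := by group
    _ = x⁻¹ * ((x * (z : G) * x⁻¹) * c) * x := by rw [hcw]
    _ = (z : G) * (x⁻¹ * c * x⁻¹⁻¹) := by group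

end Cfsg.Agent.S2488
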