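import Cfsg.Statements.S2500
import Cfsg.Agent.Lib.NCover2.SympEven
import Cfsg.Agent.Lib.NCover2.G2Even
import Cfsg.Agent.Lib.NCover2.PSU4
import Cfsg.Agent.Lib.NCover2.PSU3
import Cfsg.Agent.Lib.NCover2.Symp6

set_option autoImplicit false
open Cfsg

namespace Cfsg.Agent.S2500

theorem charP_of_card_pow {F : Type} [Field F] [Fintype F] {p n : ℕ} (hp : p.Prime)
    (h : Fintype.card F = p ^ n) : CharP F p := by
  obtain ⟨k, hk, hc⟩ := FiniteField.card F (ringChar F)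
  have : (ringChar F) ∣ p ^ n := h ▸ hc ▸ dvd_pow_self _ k.ne_zero
  have hr := (Nat.prime_dvd_prime_iff_eq hk hp).1 (hk.dvd_of_dvd_pow this)
  exact hr ▸ ringChar.charP F

theorem charP_two_of_not_odd {F : Type} [Field F] [Fintype F] (h : ¬ Odd (Fintype.card F)) : CharP F 2 := by
  have h2 : ringChar F = 2 := by
    by_contra h2
    exact h (Nat.odd_iff.2 (FiniteField.odd_card_of_char_ne_two h2))
  exact h2 ▸ ringChar.charP F

/-- The infinite families of simple groups with normal covering number 2. For a finite field F: each of PSL_2(F) (|F| ≥ 4), PSL_3(F), PSL_4(F), PSU_4 over F (|F| = q²), PSU_3 over F when |F| = q² with q a power of 3, PSp_{2m}(F) for |F| even, m ≥ 2 and (m, |F|) ≠ (2, 2), PSp_6(F) for |F| a power of 3, and G_2(F) (automorphisms of the split octonions) for |F| = 2^a ≥ 4 is the union of the conjugates of two proper subgroups: there are proper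 subgroups H, K such that every element is conjugate into H or into K. -/
theorem result {F : Type} [Field F] [Fintype F] :
    (4 ≤ Fintype.card F → (∃ H K : Subgroup (Matrix.ProjectiveSpecialLinearGroup (Fin 2) F), H ≠ ⊤ ∧ K ≠ ⊤ ∧ ∀ g : (Matrix.ProjectiveSpecialLinearGroup (Fin 2) F), ∃ x : (Matrix.ProjectiveSpecialLinearGroup (Fin 2) F), x * g * x⁻¹ ∈ H ∨ x * g * x⁻¹ ∈ K)) ∧
    (∃ H K : Subgroup (Matrix.ProjectiveSpecialLinearGroup (Fin 3) F), H ≠ ⊤ ∧ K ≠ ⊤ ∧ ∀ g : (Matrix.ProjectiveSpecialLinearGroup (Fin 3) F), ∃ x : (Matrix.ProjectiveSpecialLinearGroup (Fin 3) F), x * g * x⁻¹ ∈ H ∨ x * g * x⁻¹ ∈ K) ∧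
    (∃ H K : Subgroup (Matrix.ProjectiveSpecialLinearGroup (Fin 4) F), H ≠ ⊤ ∧ K ≠ ⊤ ∧ ∀ g : (Matrix.ProjectiveSpecialLinearGroup (Fin 4) F), ∃ x : (Matrix.ProjectiveSpecialLinearGroup (Fin 4) F), x * g * x⁻¹ ∈ H ∨ x * g * x⁻¹ ∈ K) ∧
    (∀ q : ℕ, Fintype.card F = q ^ 2 → (∃ H K : Subgroup (Cfsg.PSU 4 F q), H ≠ ⊤ ∧ K ≠ ⊤ ∧ ∀ g : (Cfsg.PSU 4 F q), ∃ x : (Cfsg.PSU 4 F q), x * g * x⁻¹ ∈ H ∨ x * g * x⁻¹ ∈ K)) ∧
    (∀ q a : ℕ, Fintype.card F = q ^ 2 → 1 ≤ a → q = 3 ^ a → (∃ H K : Subgroup (Cfsg.PSU 3 F q), H ≠ ⊤ ∧ K ≠ ⊤ ∧ ∀ g : (Cfsg.PSU 3 F q), ∃ x : (Cfsg.PSU 3 F q), x * g * x⁻¹ ∈ H ∨ x * g * x⁻¹ ∈ K)) ∧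
    (∀ m : ℕ, 2 ≤ m → ¬ Odd (Fintype.card F) → ¬ (m = 2 ∧ Fintype.card F = 2) → (∃ H K : Subgroup (Cfsg.PSp m F), H ≠ ⊤ ∧ K ≠ ⊤ ∧ ∀ g : (Cfsg.PSp m F), ∃ x : (Cfsg.PSp m F), x * g * x⁻¹ ∈ H ∨ x * g * x⁻¹ ∈ K)) ∧
    (∀ a : ℕ, 1 ≤ a → Fintype.card F = 3 ^ a → (∃ H K : Subgroup (Cfsg.PSp 3 F), H ≠ ⊤ ∧ K ≠ ⊤ ∧ ∀ g : (Cfsg.PSp 3 F), ∃ x : (Cfsg.PSp 3 F), x * g * x⁻¹ ∈ H ∨ x * g * x⁻¹ ∈ K)) ∧
    (∀ a : ℕ, 2 ≤ a → Fintype.card F = 2 ^ a → (∃ H K : Subgroup (Cfsg.Lie.G2 F), H ≠ ⊤ ∧ K ≠ ⊤ ∧ ∀ g : (Cfsg.Lie.G2 F), ∃ x : (Cfsg.Lie.G2 F), x * g * x⁻¹ ∈ H ∨ x * g * x⁻¹ ∈ K)) := by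
  refine ⟨fun _ => CfsgLib.NCover2.Linear.twoCovered le_rfl (by norm_num),
    CfsgLib.NCover2.Linear.twoCovered (by norm_num) (by norm_num),
    CfsgLib.NCover2.Linear.twoCovered (by norm_num) le_rfl,
    fun q hq => CfsgLib.NCover2.PSU4.twoCovered (by rw [Nat.card_eq_fintype_card, hq]),
    fun q a hq _ ha => ?_, fun m hm h _ => ?_, fun a _ h => ?_, fun a ha h => ?_⟩
  · haveI : CharP F 3 := charP_of_card_pow Nat.prime_three (show Fintype.card F = 3 ^ (a * 2) by rw [hq, ha, ← pow_mul])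
    exact CfsgLib.NCover2.PSU3.twoCovered (by rw [Nat.card_eq_fintype_card, hq])
  · haveI := charP_two_of_not_odd h
    exact CfsgLib.NCover2.SympEven.twoCovered hm
  · haveI := charP_of_card_pow Nat.prime_three h
    exact CfsgLib.NCover2.Symp6.twoCovered
  · haveI := charP_of_card_pow Nat.prime_two h
    refine CfsgLib.NCover2.G2Even.twoCovered ?_
    classical
    by_contra hc
    push Not at hc
    have h1 : (Finset.univ : Finset F) ⊆ {0, 1} := fun t _ => by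
      rcases eq_or_ne t 0 with h0 | h0
      · simp [h0]
      · simp [hc t h0]
    have h2 := (Finset.card_le_card h1).trans Finset.card_le_two
    rw [Finset.card_univ, h] at h2
    have := Nat.pow_le_pow_right two_pos ha
    omega

end Cfsg.Agent.S2500
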