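import Cfsg.Statements.S2503
import Cfsg.Agent.Lib.Recog.SL2Char2
import Cfsg.Agent.Lib.Recog.ProjSpectrum
import Cfsg.Agent.Lib.GLTwo.Classes
import Cfsg.Agent.Lib.Classical.GL2
import Cfsg.Agent.Lib.Classical.Order
-- import your own Cfsg.Agent.* helpers here

set_option autoImplicit false
open Cfsg

namespace Cfsg.Agent.S2503

/-- Let F be a finite field with q = 2^t ≥ 4 elements and L = PSL(2,F). Then L has a cyclic subgroup A of order q + 1 and an elementary abelian 2-subgroup B of order q such that L = ABA: every element of L is a product a·b·a' with a, a' ∈ A and b ∈ B. -/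
theorem result {F : Type*} [Field F] [Fintype F]
    (h2 : 2 ∣ Fintype.card F) (h4 : 4 ≤ Fintype.card F) :
    ∃ A B : Subgroup (Matrix.ProjectiveSpecialLinearGroup (Fin 2) F),
      IsCyclic A ∧ Nat.card A = Fintype.card F + 1 ∧ IsMulCommutative B ∧ (∀ b ∈ B, b * b = 1) ∧
        Nat.card B = Fintype.card F ∧
        ∀ g : Matrix.ProjectiveSpecialLinearGroup (Fin 2) F, ∃ a ∈ A, ∃ b ∈ B, ∃ c ∈ A, g = a * b * c := by
  classical
  obtain ⟨p, hpc⟩ := CharP.exists F
  obtain ⟨k, hp, hk⟩ := FiniteField.card F p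
  have hp2 : p = 2 := ((Nat.prime_dvd_prime_iff_eq Nat.prime_two hp).1 (Nat.prime_two.dvd_of_dvd_pow (hk ▸ h2))).symm
  subst hp2
  haveI : Fact (Nat.Prime 2) := ⟨hp⟩
  set q := Fintype.card F
  obtain ⟨x, hx⟩ := CfsgLib.Recog.exists_orderOf_eq_card_add_one_PSL (F := F) 2
  have hd : CfsgLib.Recog.dTwo F = 1 := if_pos (even_iff_two_dvd.2 h2)
  rw [hd, Nat.div_one] at hx
  let ψ := CfsgLib.Recog.pslEquivSL (F := F)
  set a0 := ψ.symm x
  have ha0 : orderOf a0 = q + 1 := (MulEquiv.orderOf_eq ψ.symm x).trans hx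
  have hns : ¬ CfsgLib.GLTwo.IsScalar2 (a0 : Matrix (Fin 2) (Fin 2) F) := fun hsc => by
    have h1 : a0 = 1 := by
      rcases CfsgLib.GLTwo.scalar_sl hsc with h | h
      · refine Subtype.ext ?_
        rw [(CfsgLib.GLTwo.isScalar2_iff _).1 hsc, h, one_smul]
        rfl
      · refine Subtype.ext ?_
        rw [(CfsgLib.GLTwo.isScalar2_iff _).1 hsc, h, CharTwo.neg_eq, one_smul]
        rfl
    rw [h1, orderOf_one] at ha0
    omega
  set t := (a0 : Matrix (Fin 2) (Fin 2) F).trace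
  have ht : t ≠ 0 := fun h0 => by
    have h1 : a0 ^ 2 = 1 := Subtype.ext (by
      rw [Matrix.SpecialLinearGroup.coe_pow, CfsgLib.Recog.sq_eq_trace_mul_add,
        show (a0 : Matrix (Fin 2) (Fin 2) F).trace = 0 from h0, zero_smul, zero_add, Matrix.SpecialLinearGroup.coe_one])
    have := Nat.le_of_dvd (by norm_num) (orderOf_dvd_of_pow_eq_one h1)
    omega
  let a := CfsgLib.GLTwo.mkSL (CfsgLib.GLTwo.companion t 1) (CfsgLib.GLTwo.det_companion t 1)
  have hac : IsConj a0 a := CfsgLib.GLTwo.sl_isConj_of_norm_surj hns (CfsgLib.GLTwo.companion_not_scalar t 1)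
    (CfsgLib.GLTwo.trace_companion t 1).symm (fun r => CfsgLib.GLTwo.norm_surj_even r)
  have ha : orderOf a = q + 1 := by
    obtain ⟨c, hc⟩ := isConj_iff.1 hac
    rw [← hc, ← ha0]
    exact orderOf_injective (MulAut.conj c).toMonoidHom (MulAut.conj c).injective a0
  set A := Subgroup.zpowers a
  have hA : Nat.card A = q + 1 := by rw [Nat.card_zpowers, ha]
  have hcomm : ∀ α ∈ A, α * a = a * α := fun α hα => by
    obtain ⟨i, rfl⟩ := Subgroup.mem_zpowers_iff.1 hα
    exact ((Commute.refl a).zpow_left i).eq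
  let u : F → Matrix.SpecialLinearGroup (Fin 2) F := CfsgLib.Classical.uSL
  let h : F → Matrix (Fin 2) (Fin 2) F := fun b => !![b, b ^ 2 + b * t + 1; 1, b + t]
  have hconj : ∀ b, ((u b * a * (u b)⁻¹ : Matrix.SpecialLinearGroup (Fin 2) F) : Matrix (Fin 2) (Fin 2) F) = h b := fun b => by
    have hui : (u b)⁻¹ = u b := inv_eq_of_mul_eq_one_right (Subtype.ext (by
      rw [Matrix.SpecialLinearGroup.coe_mul, CfsgLib.Classical.uSL_coe, Matrix.SpecialLinearGroup.coe_one]
      ext i j; fin_cases i <;> fin_cases j <;> simp [CharTwo.add_self_eq_zero]))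
    rw [hui, Matrix.SpecialLinearGroup.coe_mul, Matrix.SpecialLinearGroup.coe_mul, CfsgLib.Classical.uSL_coe]
    simp only [h, a, CfsgLib.GLTwo.coe_mkSL, CfsgLib.GLTwo.companion, CharTwo.neg_eq]
    ext i j; fin_cases i <;> fin_cases j <;> simp [Matrix.mul_apply, Fin.sum_univ_two] <;> ring
  have htr : ∀ b, ((a : Matrix (Fin 2) (Fin 2) F) * h b).trace = b ^ 2 + t ^ 2 := fun b => by
    simp only [h, a, CfsgLib.GLTwo.coe_mkSL, CfsgLib.GLTwo.companion, CharTwo.neg_eq]
    simp [Matrix.trace_fin_two, Matrix.mul_apply, Fin.sum_univ_two]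
    linear_combination (t * b + 1) * (CharTwo.two_eq_zero : (2 : F) = 0)
  have hhc : ∀ b, b ≠ 0 → b ≠ t → h b * (a : Matrix (Fin 2) (Fin 2) F) ≠ (a : Matrix (Fin 2) (Fin 2) F) * h b := by
    intro b hb hbt he
    have e00 := congrFun (congrFun he 0) 0
    simp [h, a, CfsgLib.GLTwo.coe_mkSL, CfsgLib.GLTwo.companion, Matrix.mul_apply, Fin.sum_univ_two] at e00
    have : b * (b + t) = 0 := by linear_combination e00 - (CharTwo.two_eq_zero : (2 : F) = 0)
    rcases mul_eq_zero.1 this with h0 | h0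
    · exact hb h0
    · exact hbt (CharTwo.add_eq_zero.1 h0)
  let f : A × F → Matrix.SpecialLinearGroup (Fin 2) F ⧸ A := fun y => QuotientGroup.mk ((y.1 : Matrix.SpecialLinearGroup (Fin 2) F) * u y.2)
  have key : ∀ y y' : A × F, f y = f y' → y.2 = y'.2 ∧ (y.2 ≠ 0 → y.2 ≠ t → y.1 = y'.1) := by
    rintro ⟨α, b⟩ ⟨α', b'⟩ hyy
    have hz := hcomm _ (QuotientGroup.eq.1 hyy)
    set g := (α : Matrix.SpecialLinearGroup (Fin 2) F) * u b
    set g' := (α' : Matrix.SpecialLinearGroup (Fin 2) F) * u b'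
    have hgg : g * a * g⁻¹ = g' * a * g'⁻¹ := by
      calc g * a * g⁻¹ = g * (a * (g⁻¹ * g')) * g'⁻¹ := by group
        _ = g * ((g⁻¹ * g') * a) * g'⁻¹ := by rw [hz]
        _ = g' * a * g'⁻¹ := by group
    have he : ∀ (β : A) (c : F), ((β : Matrix.SpecialLinearGroup (Fin 2) F) * u c) * a * ((β : Matrix.SpecialLinearGroup (Fin 2) F) * u c)⁻¹ =
        (β : Matrix.SpecialLinearGroup (Fin 2) F) * (u c * a * (u c)⁻¹) * (β : Matrix.SpecialLinearGroup (Fin 2) F)⁻¹ := fun β c => by group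
    rw [he, he] at hgg
    have htrace : ∀ (β : A) (c : F), ((a * ((β : Matrix.SpecialLinearGroup (Fin 2) F) * (u c * a * (u c)⁻¹) * (β : Matrix.SpecialLinearGroup (Fin 2) F)⁻¹) : Matrix.SpecialLinearGroup (Fin 2) F) : Matrix (Fin 2) (Fin 2) F).trace = c ^ 2 + t ^ 2 := fun β c => by
      have e1 : a * ((β : Matrix.SpecialLinearGroup (Fin 2) F) * (u c * a * (u c)⁻¹) * (β : Matrix.SpecialLinearGroup (Fin 2) F)⁻¹) =
          (β : Matrix.SpecialLinearGroup (Fin 2) F) * (a * (u c * a * (u c)⁻¹)) * (β : Matrix.SpecialLinearGroup (Fin 2) F)⁻¹ := by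
        rw [← mul_assoc a, ← mul_assoc a, ← mul_assoc (β : Matrix.SpecialLinearGroup (Fin 2) F), ← hcomm _ β.2]
      rw [← CfsgLib.GLTwo.trace_eq_of_isConj_sl (isConj_iff.2 ⟨(β : Matrix.SpecialLinearGroup (Fin 2) F), e1.symm⟩),
        Matrix.SpecialLinearGroup.coe_mul, hconj, htr]
    have hb : b = b' := by
      have h3 := htrace α b
      rw [hgg, htrace α' b', add_left_inj] at h3
      exact CharTwo.sq_injective h3.symm
    refine ⟨hb, fun hb0 hbt => ?_⟩
    dsimp only at hb0 hbt ⊢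
    subst hb
    set δ := (α : Matrix.SpecialLinearGroup (Fin 2) F)⁻¹ * α'
    have hδh : (δ : Matrix (Fin 2) (Fin 2) F) * h b = h b * (δ : Matrix (Fin 2) (Fin 2) F) := by
      rw [← hconj, ← Matrix.SpecialLinearGroup.coe_mul, ← Matrix.SpecialLinearGroup.coe_mul]
      refine congrArg Subtype.val ?_
      have h4 := congrArg (fun z => (α : Matrix.SpecialLinearGroup (Fin 2) F)⁻¹ * z * α') hgg
      simp only [δ]
      calc _ = (α : Matrix.SpecialLinearGroup (Fin 2) F)⁻¹ * ((α' : Matrix.SpecialLinearGroup (Fin 2) F) * (u b * a * (u b)⁻¹) * (α' : Matrix.SpecialLinearGroup (Fin 2) F)⁻¹) * α' := by group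
        _ = (α : Matrix.SpecialLinearGroup (Fin 2) F)⁻¹ * ((α : Matrix.SpecialLinearGroup (Fin 2) F) * (u b * a * (u b)⁻¹) * (α : Matrix.SpecialLinearGroup (Fin 2) F)⁻¹) * α' := by rw [hgg]
        _ = _ := by group
    obtain ⟨c, d, hcd⟩ := CfsgLib.GLTwo.eq_add_smul_of_comm (CfsgLib.GLTwo.companion_not_scalar t 1)
      (congrArg Subtype.val (hcomm δ (mul_mem (inv_mem α.2) α'.2)))
    have hd0 : d = 0 := by
      by_contra hd0
      refine hhc b hb0 hbt ?_
      rw [hcd] at hδh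
      simp only [add_mul, mul_add, smul_mul_assoc, mul_smul_comm, one_mul, mul_one, add_right_inj] at hδh
      exact (smul_right_injective _ hd0 hδh).symm
    have hδ1 : δ = 1 := by
      refine Subtype.ext ?_
      rw [Matrix.SpecialLinearGroup.coe_one, hcd, hd0, zero_smul, add_zero]
      have hdet : (δ : Matrix (Fin 2) (Fin 2) F).det = 1 := δ.2
      rw [hcd, hd0, zero_smul, add_zero, Matrix.det_smul, Matrix.det_one, mul_one, Fintype.card_fin] at hdet
      rw [CharTwo.sq_injective (a₁ := c) (a₂ := 1) (by simpa using hdet), one_smul]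
    exact Subtype.ext (inv_mul_eq_one.1 hδ1)
  have hsurj : Function.Surjective f := by
    let S : Finset F := ({0, t} : Finset F)
    let g : (A × {b : F // b ∉ S}) ⊕ {b : F // b ∈ S} → A × F := Sum.elim (fun y => (y.1, y.2.1)) (fun y => (1, y.1))
    have hginj : Function.Injective (f ∘ g) := by
      have hS : ∀ b : F, b ∉ S → b ≠ 0 ∧ b ≠ t := fun b hb => by simpa [S] using hb
      rintro (⟨α, b, hb⟩ | ⟨b, hb⟩) (⟨α', b', hb'⟩ | ⟨b', hb'⟩) hgg <;> have hk' := key _ _ hgg <;>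
        simp only [g, Sum.elim_inl, Sum.elim_inr] at hk'
      · obtain ⟨rfl, h1⟩ := hk'
        rw [h1 (hS b hb).1 (hS b hb).2]
      · obtain ⟨rfl, -⟩ := hk'
        exact absurd hb' hb
      · obtain ⟨rfl, -⟩ := hk'
        exact absurd hb hb'
      · obtain ⟨rfl, -⟩ := hk'
        rfl
    have hS2 : S.card = 2 := Finset.card_pair ht.symm
    have hc1 : Nat.card ((A × {b : F // b ∉ S}) ⊕ {b : F // b ∈ S}) = (q + 1) * (q - 2) + 2 := by
      rw [Nat.card_sum, Nat.card_prod, hA, Nat.card_eq_fintype_card, Nat.card_eq_fintype_card,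
        Fintype.card_subtype_compl, Fintype.card_coe, hS2]
    have hc2 : Nat.card (Matrix.SpecialLinearGroup (Fin 2) F ⧸ A) = (q + 1) * (q - 2) + 2 := by
      have h5 := Subgroup.card_eq_card_quotient_mul_card_subgroup A
      rw [hA, CfsgLib.Classical.card_SL_two, Nat.card_eq_fintype_card] at h5
      have h6 : q * (q ^ 2 - 1) = q * (q - 1) * (q + 1) := by
        rw [mul_assoc, mul_comm (q - 1), ← Nat.sq_sub_sq, one_pow]
      rw [h6] at h5
      rw [← Nat.eq_of_mul_eq_mul_right (Nat.succ_pos q) h5]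
      obtain ⟨r, hr⟩ : ∃ r, q = r + 2 := ⟨q - 2, by omega⟩
      rw [hr]
      simp
      ring
    have hb := ((Nat.bijective_iff_injective_and_card (f ∘ g)).2 ⟨hginj, hc1.trans hc2.symm⟩).2
    exact Function.Surjective.of_comp hb
  refine ⟨A.map ψ.toMonoidHom, (CfsgLib.Classical.uSubgroup F).map ψ.toMonoidHom, ?_, ?_, ?_, ?_, ?_, fun g => ?_⟩
  · exact isCyclic_of_surjective (A.equivMapOfInjective _ ψ.injective).toMonoidHom (MulEquiv.surjective _)
  · rw [← Nat.card_congr (A.equivMapOfInjective _ ψ.injective).toEquiv, hA]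
  · refine ⟨⟨fun x y => Subtype.ext ?_⟩⟩
    obtain ⟨_, ⟨x', rfl⟩, hx'⟩ := x.2
    obtain ⟨_, ⟨y', rfl⟩, hy'⟩ := y.2
    change x.1 * y.1 = y.1 * x.1
    rw [← hx', ← hy', ← map_mul, ← map_mul, ← map_mul, ← map_mul, mul_comm]
  · rintro _ ⟨_, ⟨x', rfl⟩, rfl⟩
    rw [← map_mul, ← map_mul, show x' * x' = 1 from Multiplicative.toAdd.injective (CharTwo.add_self_eq_zero x'.toAdd), map_one, map_one]
  · rw [← Nat.card_congr ((CfsgLib.Classical.uSubgroup F).equivMapOfInjective _ ψ.injective).toEquiv,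
      CfsgLib.Classical.card_uSubgroup, Nat.card_eq_fintype_card]
  · obtain ⟨⟨α, b⟩, hy⟩ := hsurj (QuotientGroup.mk (ψ.symm g))
    have hc := QuotientGroup.eq.1 hy
    refine ⟨ψ α, ⟨α, α.2, rfl⟩, ψ (u b), ⟨u b, ⟨Multiplicative.ofAdd b, rfl⟩, rfl⟩, ψ _, ⟨_, hc, rfl⟩, ?_⟩
    rw [← map_mul, ← map_mul, mul_inv_cancel_left, MulEquiv.apply_symm_apply]

end Cfsg.Agent.S2503
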