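import Cfsg.Statements.S2504
import Cfsg.Agent.Lib.KnownB.AbelianPerm
-- import your own Cfsg.Agent.* helpers here

set_option autoImplicit false
open Cfsg CfsgLib.KnownB.AbelianPerm

namespace Cfsg.Agent.S2504

/-- The largest order of an abelian subgroup of the alternating group of degree n is 3^k when n = 3k, 4·3^(k−1) when n = 3k + 1, and 16·3^(k−2) when n = 3k + 2, for every k ≥ 2 (so for all degrees n ≥ 6). -/
theorem result (k : ℕ) (hk : 2 ≤ k) :
    IsGreatest {c : ℕ | ∃ A : Subgroup (alternatingGroup (Fin (3 * k))), IsMulCommutative A ∧ Nat.card A = c} (3 ^ k) ∧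
    IsGreatest {c : ℕ | ∃ A : Subgroup (alternatingGroup (Fin (3 * k + 1))), IsMulCommutative A ∧ Nat.card A = c}
      (4 * 3 ^ (k - 1)) ∧
    IsGreatest {c : ℕ | ∃ A : Subgroup (alternatingGroup (Fin (3 * k + 2))), IsMulCommutative A ∧ Nat.card A = c}
      (16 * 3 ^ (k - 2)) := by
  obtain ⟨j, rfl⟩ : ∃ j, k = j + 2 := ⟨k - 2, by omega⟩
  have hV : ∀ a : Multiplicative (ZMod 2 × ZMod 2), Equiv.Perm.sign (Equiv.mulLeft a) = 1 := by decide
  refine ⟨?_, ?_, ?_⟩
  · exact greatest_alt (Multiplicative (ZMod 2 × ZMod 2)) (u := 0) (t := j + 2) (by simp; ring) (by simp) hV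
      ((h_le_g _).trans_eq (g_val (j + 2)).1) (by rw [(g_val (j + 2)).1]; omega)
  · have e : g (3 * (j + 2) + 1) = 4 * 3 ^ (j + 2 - 1) := by
      rw [show 3 * (j + 2) + 1 = 3 * (j + 1) + 4 by ring, (g_val (j + 1)).2.1]; rfl
    exact greatest_alt (Multiplicative (ZMod 2 × ZMod 2)) (u := 1) (t := j + 1) (by simp; ring) (by simp) hV
      ((h_le_g _).trans_eq e) (by rw [e]; omega)
  · refine greatest_alt (Multiplicative (ZMod 2 × ZMod 2)) (u := 2) (t := j) (by simp; ring) (by simp) hV ?_ ?_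
    · rw [show 3 * (j + 2) + 2 = 3 * j + 8 by ring, h_val]; simp
    · rw [(g_val (j + 2)).2.2, pow_add]; simp only [Nat.add_sub_cancel]; omega

end Cfsg.Agent.S2504
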