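import Cfsg.Statements.S2508
import Cfsg.Agent.Lib.KnownB.SL2Sizes
-- import your own Cfsg.Agent.* helpers here

set_option autoImplicit false
open Cfsg

namespace Cfsg.Agent.S2508

/-- Let F be a finite field with q elements, q odd and q ≥ 7. If q ≡ 1 (mod 4) the conjugacy class sizes of PSL(2,F) are exactly 1, (q² − 1)/2, q(q + 1)/2, q(q − 1) and q(q + 1); if q ≡ 3 (mod 4) they are exactly 1, (q² − 1)/2, q(q − 1)/2, q(q + 1) and q(q − 1). -/
theorem result {F : Type*} [Field F] [Fintype F]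
    (hodd : ¬ 2 ∣ Fintype.card F) (h7 : 7 ≤ Fintype.card F) :
    (Fintype.card F % 4 = 1 →
      Set.range (fun g : (Matrix.ProjectiveSpecialLinearGroup (Fin 2) F) => (Subgroup.centralizer ({g} : Set (Matrix.ProjectiveSpecialLinearGroup (Fin 2) F))).index) =
        {1, (Fintype.card F ^ 2 - 1) / 2, Fintype.card F * (Fintype.card F + 1) / 2,
          Fintype.card F * (Fintype.card F - 1), Fintype.card F * (Fintype.card F + 1)}) ∧
    (Fintype.card F % 4 = 3 →
      Set.range (fun g : (Matrix.ProjectiveSpecialLinearGroup (Fin 2) F) => (Subgroup.centralizer ({g} : Set (Matrix.ProjectiveSpecialLinearGroup (Fin 2) F))).index) =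
        {1, (Fintype.card F ^ 2 - 1) / 2, Fintype.card F * (Fintype.card F - 1) / 2,
          Fintype.card F * (Fintype.card F + 1), Fintype.card F * (Fintype.card F - 1)}) := by
  classical
  set q := Fintype.card F
  obtain ⟨p, hpc⟩ := CharP.exists F
  obtain ⟨kk, hp, hk⟩ := FiniteField.card F p
  haveI : Fact p.Prime := ⟨hp⟩
  let size : Matrix.ProjectiveSpecialLinearGroup (Fin 2) F → ℕ := fun g => (Subgroup.centralizer ({g} : Set (Matrix.ProjectiveSpecialLinearGroup (Fin 2) F))).index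
  have hqq : q ^ 2 - 1 = (q + 1) * (q - 1) := by rw [← Nat.sq_sub_sq, one_pow]
  have hone : size 1 = 1 := by
    change (Subgroup.centralizer ({1} : Set (Matrix.ProjectiveSpecialLinearGroup (Fin 2) F))).index = 1
    rw [Subgroup.index_eq_one, Subgroup.centralizer_eq_top_iff_subset, Set.singleton_subset_iff]
    exact one_mem _
  have hq2 : q % 2 = 1 := by
    rcases Nat.mod_two_eq_zero_or_one q with h | h
    · exact absurd (Nat.dvd_of_mod_eq_zero h) hodd
    · exact h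
  have hchar : ringChar F ≠ 2 := fun h => by
    have := FiniteField.even_card_of_char_two h
    omega
  have h2 : (2 : F) ≠ 0 := Ring.two_ne_zero hchar
  have h4 : (4 : F) ≠ 0 := by rw [show (4 : F) = 2 * 2 by norm_num]; exact mul_ne_zero h2 h2
  have hrep : CfsgLib.KnownB.SL2Sizes.Split (0 : F) ↔ q % 4 = 1 := by
    refine Iff.trans ⟨fun ⟨z, hz⟩ => ⟨z, by linear_combination -hz⟩, fun ⟨z, hz⟩ => ⟨z, by linear_combination -hz⟩⟩
      (Iff.trans (FiniteField.isSquare_neg_one_iff (F := F)) ?_)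
    omega
  have hsize : ∀ g : Matrix.SpecialLinearGroup (Fin 2) F, ¬ CfsgLib.GLTwo.IsScalar2 (g : Matrix (Fin 2) (Fin 2) F) →
      let t := (g : Matrix (Fin 2) (Fin 2) F).trace
      (t ^ 2 = 4 → size (CfsgLib.KnownB.SL2Products.pr g) = (q ^ 2 - 1) / 2) ∧
      (t = 0 → q % 4 = 1 → size (CfsgLib.KnownB.SL2Products.pr g) = q * (q + 1) / 2) ∧
      (t = 0 → q % 4 = 3 → size (CfsgLib.KnownB.SL2Products.pr g) = q * (q - 1) / 2) ∧
      (t ≠ 0 → t ^ 2 ≠ 4 → CfsgLib.KnownB.SL2Sizes.Split t → size (CfsgLib.KnownB.SL2Products.pr g) = q * (q + 1)) ∧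
      (t ≠ 0 → ¬ CfsgLib.KnownB.SL2Sizes.Split t → size (CfsgLib.KnownB.SL2Products.pr g) = q * (q - 1)) := by
    intro g hg
    set t := (g : Matrix (Fin 2) (Fin 2) F).trace
    have hi : size (CfsgLib.KnownB.SL2Products.pr g) = (CfsgLib.KnownB.SL2Sizes.projCent g).index :=
      CfsgLib.KnownB.SL2Sizes.index_projCent g
    have hC : Nat.card (Subgroup.centralizer ({g} : Set (Matrix.SpecialLinearGroup (Fin 2) F))) = Nat.card (CfsgLib.KnownB.SL2Sizes.NormOne t) :=
      CfsgLib.GLTwo.sl_card_centralizer hg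
    have hne : t ≠ 0 → CfsgLib.KnownB.SL2Sizes.projCent g = Subgroup.centralizer ({g} : Set (Matrix.SpecialLinearGroup (Fin 2) F)) :=
      fun ht => CfsgLib.KnownB.SL2Sizes.projCent_eq (fun he => ht (mul_left_cancel₀ h2 (show 2 * t = 2 * 0 by linear_combination he)))
    obtain ⟨r, hr⟩ : ∃ r, q = 2 * r + 1 := ⟨q / 2, by omega⟩
    refine ⟨fun ht => ?_, fun ht hq4 => ?_, fun ht hq4 => ?_, fun ht ht4 hs => ?_, fun ht hs => ?_⟩ <;> rw [hi]
    · have ht0 : t ≠ 0 := fun h0 => h4 (by rw [h0] at ht; linear_combination -ht)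
      rw [hne ht0]
      refine CfsgLib.KnownB.SL2Sizes.index_eq hC ?_
      rw [CfsgLib.KnownB.SL2Sizes.card_double (s := t / 2) (by field_simp; linear_combination ht) (by field_simp)]
      have hcard : Nat.card {e : F // e ^ 2 = 1} = 2 := by
        rw [Nat.card_eq_two_iff]
        refine ⟨⟨1, one_pow 2⟩, ⟨-1, neg_one_sq⟩, fun h => ?_, Set.eq_univ_of_forall fun e => ?_⟩
        · exact h2 (by linear_combination congrArg Subtype.val h)
        · rcases sq_eq_one_iff.1 e.2 with h | h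
          · exact Or.inl (Subtype.ext h)
          · exact Or.inr (Subtype.ext h)
      rw [hcard, Nat.card_eq_fintype_card]
      change (q ^ 2 - 1) / 2 * (q * 2) = q * (q ^ 2 - 1)
      rw [hqq, hr, show (2 * r + 1 + 1) * (2 * r + 1 - 1) = 2 * (2 * (r + 1) * r) by
        rw [Nat.add_sub_cancel]; ring, Nat.mul_div_cancel_left _ (by norm_num)]
      ring
    · refine CfsgLib.KnownB.SL2Sizes.index_eq (CfsgLib.KnownB.SL2Sizes.card_projCent_of_trace_zero hchar hg ht) ?_
      rw [hC, CfsgLib.KnownB.SL2Sizes.card_split (ht.symm ▸ hrep.2 hq4) (by rw [ht, zero_pow two_ne_zero]; exact h4.symm),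
        Nat.card_units, Nat.card_eq_fintype_card]
      change q * (q + 1) / 2 * (2 * (q - 1)) = q * (q ^ 2 - 1)
      rw [hqq, hr, show (2 * r + 1) * (2 * r + 1 + 1) = 2 * ((2 * r + 1) * (r + 1)) by ring,
        Nat.mul_div_cancel_left _ (by norm_num), Nat.add_sub_cancel]
      ring
    · refine CfsgLib.KnownB.SL2Sizes.index_eq (CfsgLib.KnownB.SL2Sizes.card_projCent_of_trace_zero hchar hg ht) ?_
      rw [hC, CfsgLib.KnownB.SL2Sizes.card_nonsplit (fun hs => by rw [ht, hrep] at hs; omega), Nat.card_eq_fintype_card]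
      change q * (q - 1) / 2 * (2 * (q + 1)) = q * (q ^ 2 - 1)
      rw [hqq, hr, Nat.add_sub_cancel, show (2 * r + 1) * (2 * r) = 2 * ((2 * r + 1) * r) by ring,
        Nat.mul_div_cancel_left _ (by norm_num)]
      ring
    · rw [hne ht]
      refine CfsgLib.KnownB.SL2Sizes.index_eq hC ?_
      rw [CfsgLib.KnownB.SL2Sizes.card_split hs ht4, Nat.card_units, Nat.card_eq_fintype_card]
      change q * (q + 1) * (q - 1) = q * (q ^ 2 - 1)
      rw [hqq]; ring
    · rw [hne ht]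
      refine CfsgLib.KnownB.SL2Sizes.index_eq hC ?_
      rw [CfsgLib.KnownB.SL2Sizes.card_nonsplit hs, Nat.card_eq_fintype_card]
      change q * (q - 1) * (q + 1) = q * (q ^ 2 - 1)
      rw [hqq]; ring
  have hc : ∀ t : F, ∃ g : Matrix.SpecialLinearGroup (Fin 2) F, ¬ CfsgLib.GLTwo.IsScalar2 (g : Matrix (Fin 2) (Fin 2) F) ∧ (g : Matrix (Fin 2) (Fin 2) F).trace = t :=
    fun t => ⟨CfsgLib.GLTwo.mkSL _ (CfsgLib.GLTwo.det_companion t 1), CfsgLib.GLTwo.companion_not_scalar t 1, CfsgLib.GLTwo.trace_companion t 1⟩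
  have hall : ∀ x, size x = 1 ∨ size x = (q ^ 2 - 1) / 2 ∨ (q % 4 = 1 ∧ size x = q * (q + 1) / 2) ∨
      (q % 4 = 3 ∧ size x = q * (q - 1) / 2) ∨ size x = q * (q + 1) ∨ size x = q * (q - 1) := by
    intro x
    obtain ⟨g, rfl⟩ := CfsgLib.KnownB.SL2Products.pr_surjective x
    by_cases hg : CfsgLib.GLTwo.IsScalar2 (g : Matrix (Fin 2) (Fin 2) F)
    · rw [CfsgLib.KnownB.SL2Products.pr_eq_one_iff.2 hg]
      exact Or.inl hone
    obtain ⟨h1, h2', h3, h4', h5⟩ := hsize g hg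
    by_cases ht4 : (g : Matrix (Fin 2) (Fin 2) F).trace ^ 2 = 4
    · exact Or.inr (Or.inl (h1 ht4))
    by_cases ht : (g : Matrix (Fin 2) (Fin 2) F).trace = 0
    · rcases Nat.odd_mod_four_iff.1 hq2 with hm | hm
      · exact Or.inr (Or.inr (Or.inl ⟨hm, h2' ht hm⟩))
      · exact Or.inr (Or.inr (Or.inr (Or.inl ⟨hm, h3 ht hm⟩)))
    by_cases hsp : CfsgLib.KnownB.SL2Sizes.Split (g : Matrix (Fin 2) (Fin 2) F).trace
    · exact Or.inr (Or.inr (Or.inr (Or.inr (Or.inl (h4' ht ht4 hsp)))))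
    · exact Or.inr (Or.inr (Or.inr (Or.inr (Or.inr (h5 ht hsp)))))
  have w1 : ∃ x, size x = (q ^ 2 - 1) / 2 := by
    obtain ⟨g, hg, ht⟩ := hc 2
    exact ⟨_, (hsize g hg).1 (by rw [ht]; norm_num)⟩
  have w2 : ∃ x, size x = q * (q + 1) := by
    obtain ⟨ζ, hζ⟩ := IsCyclic.exists_ofOrder_eq_natCard (α := Fˣ)
    rw [Nat.card_units, Nat.card_eq_fintype_card] at hζ
    obtain ⟨g, hg, ht⟩ := hc ((ζ : F) + ((ζ⁻¹ : Fˣ) : F))
    have hz : (ζ : F) * ((ζ⁻¹ : Fˣ) : F) = 1 := ζ.mul_inv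
    have hb : (ζ : F) ^ 4 ≠ 1 := fun h => by
      have := orderOf_dvd_of_pow_eq_one (x := ζ) (n := 4) (Units.ext (by rw [Units.val_pow_eq_pow_val, h, Units.val_one]))
      rw [hζ] at this
      have := Nat.le_of_dvd (by norm_num) this
      omega
    refine ⟨_, (hsize g hg).2.2.2.1 (fun h0 => hb ?_) (fun h0 => hb ?_) ⟨(ζ : F), ?_⟩⟩ <;> rw [ht] at *
    · have : (ζ : F) ^ 2 = -1 := by linear_combination (ζ : F) * h0 - hz
      linear_combination ((ζ : F) ^ 2 - 1) * this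
    · have h5 : ((ζ : F) - ((ζ⁻¹ : Fˣ) : F)) ^ 2 = 0 := by linear_combination h0 - 4 * hz
      have h6 := sub_eq_zero.1 (pow_eq_zero_iff two_ne_zero |>.1 h5)
      have h7 : (ζ : F) ^ 2 = 1 := by linear_combination (ζ : F) * h6 + hz
      linear_combination ((ζ : F) ^ 2 + 1) * h7
    · linear_combination -hz
  have w3 : ∃ x, size x = q * (q - 1) := by
    obtain ⟨g, hg, ht, hn⟩ := CfsgLib.KnownB.SL2Sizes.exists_nonsplit (F := F) p (by omega) (by omega)
    exact ⟨_, (hsize g hg).2.2.2.2 ht hn⟩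
  obtain ⟨g0, hg0, ht0⟩ := hc 0
  constructor
  · intro hm
    refine Set.Subset.antisymm ?_ ?_
    · rintro _ ⟨x, rfl⟩
      change size x ∈ _
      rcases hall x with h | h | ⟨-, h⟩ | ⟨h', -⟩ | h | h
      · exact Or.inl h
      · exact Or.inr (Or.inl h)
      · exact Or.inr (Or.inr (Or.inl h))
      · omega
      · exact Or.inr (Or.inr (Or.inr (Or.inr h)))
      · exact Or.inr (Or.inr (Or.inr (Or.inl h)))
    · intro k hkk
      rcases hkk with rfl | rfl | rfl | rfl | rfl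
      exacts [⟨1, hone⟩, w1, ⟨_, (hsize g0 hg0).2.1 ht0 hm⟩, w3, w2]
  · intro hm
    refine Set.Subset.antisymm ?_ ?_
    · rintro _ ⟨x, rfl⟩
      change size x ∈ _
      rcases hall x with h | h | ⟨h', -⟩ | ⟨-, h⟩ | h | h
      · exact Or.inl h
      · exact Or.inr (Or.inl h)
      · omega
      · exact Or.inr (Or.inr (Or.inl h))
      · exact Or.inr (Or.inr (Or.inr (Or.inl h)))
      · exact Or.inr (Or.inr (Or.inr (Or.inr h)))
    · intro k hkk
      rcases hkk with rfl | rfl | rfl | rfl | rfl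
      exacts [⟨1, hone⟩, w1, ⟨_, (hsize g0 hg0).2.2.1 ht0 hm⟩, w2, w3]

end Cfsg.Agent.S2508
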