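import Cfsg.Statements.S2511
import Cfsg.Agent.Lib.KnownB.PSUOrders.Combine

set_option autoImplicit false
open Cfsg

namespace Cfsg.Agent.S2511

open CfsgLib.KnownB.PSUOrders
open CfsgLib.KnownB.ElementOrders (mem_range_orderOf_of_dvd)
open Cfsg.Agent.S2496 (cof)

/-- Let F be a finite field with q² elements, q = p^a, n ≥ 3 with (n, q) ≠ (3, 2), L = PSU(n, q) realised over F, and let r be a prime dividing q + 1 and not dividing n. Then for every m the direct product L × L × L × (ℤ/r)^m has the same set of element orders as L × L × L; and if n − 1 is not a power of p, then already L × L × (ℤ/r)^m has the same set of element orders as L × L. -/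
theorem result {F : Type*} [Field F] [Fintype F] (p a n q r m : ℕ) (hp : p.Prime) (ha : 1 ≤ a) (hq : q = p ^ a) (hF : Fintype.card F = q ^ 2)
    (hn : 3 ≤ n) (hn3 : ¬ (n = 3 ∧ q = 2)) (hr : r.Prime) (hrq : r ∣ q + 1) (hrn : ¬ r ∣ n) :
    Set.range (orderOf : Cfsg.PSU n F q × Cfsg.PSU n F q × Cfsg.PSU n F q × Multiplicative (Fin m → ZMod r) → ℕ) = Set.range (orderOf : Cfsg.PSU n F q × Cfsg.PSU n F q × Cfsg.PSU n F q → ℕ) ∧
    ((¬ ∃ j : ℕ, n - 1 = p ^ j) →
      Set.range (orderOf : Cfsg.PSU n F q × Cfsg.PSU n F q × Multiplicative (Fin m → ZMod r) → ℕ) = Set.range (orderOf : Cfsg.PSU n F q × Cfsg.PSU n F q → ℕ)) := by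
  classical
  have ha0' : 0 < a := ha
  haveI := Fact.mk hp
  haveI := Fact.mk hr
  haveI : CharP F p := charP_of_card_eq_prime_pow (f := a * 2) (by rw [hF, hq, pow_mul])
  have hn2 : 2 ≤ n := by omega
  obtain ⟨σ, hσ⟩ := CfsgLib.Classical.Unitary.exists_uFrob (F := F) (q := q) (by rw [Nat.card_eq_fintype_card, hF])
  set G := Cfsg.PSU n F q
  have hz : ∀ z : Multiplicative (Fin m → ZMod r), orderOf z ∣ r := fun z => by
    refine orderOf_dvd_of_pow_eq_one (Multiplicative.toAdd.injective ?_)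
    rw [toAdd_pow, toAdd_one]
    exact funext fun i => by simp
  obtain ⟨S, hS⟩ := exists_torus_order hF hσ hn2
  obtain ⟨U, hU⟩ := exists_unipotent_order hF hσ p hn2
  obtain ⟨R, hR⟩ := exists_prime_order hF hσ hn2 hr hrq hrn
  let X : G → Prop := fun x => ∃ h : G, orderOf x ∣ orderOf h ∧ r ∣ orderOf h
  let T : G → Prop := fun x => orderOf x ∣ cof q n / Nat.gcd n (q + 1)
  let V : G → Prop := fun x =>
    ∃ d, 0 < d ∧ d ∣ n ∧ d < n ∧ orderOf x ∣ p ^ Nat.clog p (n / d) * cof q d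
  have tri : ∀ x : G, X x ∨ T x ∨ V x := trichotomy p hF hσ hn2 hr hrq hrn
  have two : ∀ x y : G, V x → V y → ∃ h : G, orderOf x ∣ Nat.lcm (orderOf U) (orderOf h) ∧
      orderOf y ∣ Nat.lcm (orderOf U) (orderOf h) ∧ r ∣ orderOf h := by
    rintro x y ⟨d₁, h1, hd1, hl1, hx⟩ ⟨d₂, h2, hd2, hl2, hy⟩
    have ha0 : 0 < a := ha
    obtain ⟨h, ha, hb, hc⟩ := exists_two hF hσ hn2 h1 h2 hd1 hd2 hl1 hl2 hr hrq hrn
    have hU' : ∀ d, 0 < d → p ^ Nat.clog p (n / d) ∣ Nat.lcm (orderOf U) (orderOf h) := fun d _ =>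
      ((pow_dvd_pow p (Nat.clog_mono_right p (Nat.div_le_self n d))).trans hU).trans (Nat.dvd_lcm_left _ _)
    exact ⟨h, hx.trans ((coprime_cof hq ha0 _ h1).mul_dvd_of_dvd_of_dvd (hU' d₁ h1)
        (ha.trans (Nat.dvd_lcm_right _ _))),
      hy.trans ((coprime_cof hq ha0 _ h2).mul_dvd_of_dvd_of_dvd (hU' d₂ h2)
        (hb.trans (Nat.dvd_lcm_right _ _))), hc⟩
  constructor
  · let Good : G → G → G → Prop := fun a b c => ∃ t : G × G × G,
      orderOf a ∣ orderOf t ∧ orderOf b ∣ orderOf t ∧ orderOf c ∣ orderOf t ∧ r ∣ orderOf t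
    have o1 : ∀ x y z : G, orderOf x ∣ orderOf (x, y, z) ∧ orderOf y ∣ orderOf (x, y, z) ∧
        orderOf z ∣ orderOf (x, y, z) := fun x y z => by
      simp only [Prod.orderOf_mk]
      exact ⟨Nat.dvd_lcm_left _ _, (Nat.dvd_lcm_left _ _).trans (Nat.dvd_lcm_right _ _),
        (Nat.dvd_lcm_right _ _).trans (Nat.dvd_lcm_right _ _)⟩
    have s1 : ∀ a b c, Good a b c → Good b a c := fun a b c ⟨t, ha, hb, hc, h⟩ => ⟨t, hb, ha, hc, h⟩
    have s2 : ∀ a b c, Good a b c → Good a c b := fun a b c ⟨t, ha, hb, hc, h⟩ => ⟨t, ha, hc, hb, h⟩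
    have gX : ∀ a b c, X a → Good a b c := by
      rintro a b c ⟨h, ha, hr'⟩
      obtain ⟨e1, e2, e3⟩ := o1 h b c
      exact ⟨_, ha.trans e1, e2, e3, hr'.trans e1⟩
    have gT : ∀ a b c, T a → T b → Good a b c := by
      intro a b c ha hb
      obtain ⟨e1, e2, e3⟩ := o1 S R c
      exact ⟨_, (ha.trans hS).trans e1, (hb.trans hS).trans e1, e3, hR.trans e2⟩
    have gV : ∀ a b c, V a → V b → Good a b c := by
      intro a b c ha hb
      obtain ⟨h, h1, h2, h3⟩ := two a b ha hb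
      obtain ⟨e1, e2, e3⟩ := o1 U h c
      exact ⟨_, h1.trans (Nat.lcm_dvd e1 e2), h2.trans (Nat.lcm_dvd e1 e2), e3, h3.trans e2⟩
    have good : ∀ a b c, Good a b c := by
      intro a b c
      rcases tri a with ha | ha | ha
      · exact gX a b c ha
      all_goals
        rcases tri b with hb | hb | hb
        · exact s1 _ _ _ (gX b a c hb)
      all_goals first
        | exact gT a b c ha hb
        | exact gV a b c ha hb
        | (rcases tri c with hc | hc | hc
           · exact s2 _ _ _ (s1 _ _ _ (gX c a b hc))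
           all_goals first
             | exact s2 _ _ _ (gT a c b ha hc)
             | exact s2 _ _ _ (gV a c b ha hc)
             | exact s1 _ _ _ (s2 _ _ _ (gT b c a hb hc))
             | exact s1 _ _ _ (s2 _ _ _ (gV b c a hb hc)))
    refine Set.Subset.antisymm ?_ ?_
    · rintro _ ⟨⟨a, b, c, z⟩, rfl⟩
      obtain ⟨t, h1, h2, h3, h4⟩ := good a b c
      refine mem_range_orderOf_of_dvd (x := t) ?_
      simp only [Prod.orderOf_mk]
      exact Nat.lcm_dvd h1 (Nat.lcm_dvd h2 (Nat.lcm_dvd h3 ((hz z).trans h4)))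
    · rintro _ ⟨⟨a, b, c⟩, rfl⟩
      exact ⟨(a, b, c, 1), by simp only [Prod.orderOf_mk, orderOf_one, Nat.lcm_one_right]⟩
  · intro hpow
    let Good : G → G → Prop := fun a b => ∃ t : G × G,
      orderOf a ∣ orderOf t ∧ orderOf b ∣ orderOf t ∧ r ∣ orderOf t
    have o1 : ∀ x y : G, orderOf x ∣ orderOf (x, y) ∧ orderOf y ∣ orderOf (x, y) := fun x y => by
      simp only [Prod.orderOf_mk]
      exact ⟨Nat.dvd_lcm_left _ _, Nat.dvd_lcm_right _ _⟩
    have s1 : ∀ a b, Good a b → Good b a := fun a b ⟨t, ha, hb, h⟩ => ⟨t, hb, ha, h⟩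
    have gX : ∀ a b, X a → Good a b := by
      rintro a b ⟨h, ha, hr'⟩
      obtain ⟨e1, e2⟩ := o1 h b
      exact ⟨_, ha.trans e1, e2, hr'.trans e1⟩
    have gTT : ∀ a b, T a → T b → Good a b := by
      intro a b ha hb
      obtain ⟨e1, e2⟩ := o1 S R
      exact ⟨_, (ha.trans hS).trans e1, (hb.trans hS).trans e1, hR.trans e2⟩
    have gVV : ∀ a b, V a → V b → Good a b := by
      intro a b ha hb
      obtain ⟨h, h1, h2, h3⟩ := two a b ha hb
      obtain ⟨e1, e2⟩ := o1 U h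
      exact ⟨_, h1.trans (Nat.lcm_dvd e1 e2), h2.trans (Nat.lcm_dvd e1 e2), h3.trans e2⟩
    have gTV : ∀ a b, T a → V b → Good a b := by
      rintro a b ha ⟨d, h1, hd, hl, hb⟩
      obtain ⟨h, h2, h3⟩ := exists_mixed hF hσ hn2 p hq ha0' hpow h1 hd hl hr hrq hrn
      obtain ⟨e1, e2⟩ := o1 S h
      exact ⟨_, (ha.trans hS).trans e1, (hb.trans h2).trans e2, h3.trans e2⟩
    have good : ∀ a b, Good a b := by
      intro a b
      rcases tri a with ha | ha | ha
      · exact gX a b ha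
      all_goals
        rcases tri b with hb | hb | hb
        · exact s1 _ _ (gX b a hb)
      · exact gTT a b ha hb
      · exact gTV a b ha hb
      · exact s1 _ _ (gTV b a hb ha)
      · exact gVV a b ha hb
    refine Set.Subset.antisymm ?_ ?_
    · rintro _ ⟨⟨a, b, z⟩, rfl⟩
      obtain ⟨t, h1, h2, h4⟩ := good a b
      refine mem_range_orderOf_of_dvd (x := t) ?_
      simp only [Prod.orderOf_mk]
      exact Nat.lcm_dvd h1 (Nat.lcm_dvd h2 ((hz z).trans h4))
    · rintro _ ⟨⟨a, b⟩, rfl⟩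
      exact ⟨(a, b, 1), by simp only [Prod.orderOf_mk, orderOf_one, Nat.lcm_one_right]⟩

end Cfsg.Agent.S2511
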