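import Cfsg.Statements.S2512
import Cfsg.Agent.Lib.KnownB.SpSpectrum

set_option autoImplicit false
open Cfsg

namespace Cfsg.Agent.S2512

/-- Let F be a finite field of odd order q = p^a, n ≥ 2 (with q ≥ 3 automatic), and L = PSp(2n, F). Then for every m the direct product L × L × L × (ℤ/2)^m has the same set of element orders as L × L × L; and if 2n − 1 is not a power of p, then already L × L × (ℤ/2)^m has the same set of element orders as L × L. -/
theorem result {F : Type*} [Field F] [Fintype F] (p a n m : ℕ) (hp : p.Prime) (ha : 1 ≤ a) (hF : Fintype.card F = p ^ a) (hodd : Odd (Fintype.card F))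
    (hn : 2 ≤ n) :
    Set.range (orderOf : Cfsg.PSp n F × Cfsg.PSp n F × Cfsg.PSp n F × Multiplicative (Fin m → ZMod 2) → ℕ) = Set.range (orderOf : Cfsg.PSp n F × Cfsg.PSp n F × Cfsg.PSp n F → ℕ) ∧
    ((¬ ∃ j : ℕ, 2 * n - 1 = p ^ j) →
      Set.range (orderOf : Cfsg.PSp n F × Cfsg.PSp n F × Multiplicative (Fin m → ZMod 2) → ℕ) = Set.range (orderOf : Cfsg.PSp n F × Cfsg.PSp n F → ℕ)) := by
  classical
  haveI := Fact.mk hp
  haveI : CharP F p := charP_of_card_eq_prime_pow hF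
  have hp2 : p ≠ 2 := by
    rintro rfl
    rw [hF] at hodd
    exact absurd hodd (Nat.not_odd_iff_even.2 (Even.pow_of_ne_zero even_two (by omega)))
  have h2 : (2 : F) ≠ 0 := fun h0 => hp2 ((Nat.prime_dvd_prime_iff_eq hp Nat.prime_two).1
    ((CharP.cast_eq_zero_iff F p 2).1 (by exact_mod_cast h0)))
  set G := Cfsg.PSp n F
  have hz : ∀ z : Multiplicative (Fin m → ZMod 2), orderOf z ∣ 2 := fun z => by
    refine orderOf_dvd_of_pow_eq_one (Multiplicative.toAdd.injective ?_)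
    rw [toAdd_pow, toAdd_one]
    exact funext fun i => by simp only [Pi.smul_apply, Pi.zero_apply]; exact ZModModule.char_nsmul_eq_zero 2 _
  obtain ⟨S, hS⟩ : ∃ h : G, CfsgLib.KnownB.SpSpectrum.oddTorus (Fintype.card F) n ∣ orderOf h := by
    rw [CfsgLib.KnownB.SpSpectrum.oddTorus]
    split
    · exact CfsgLib.KnownB.SpSpectrum.exists_half hodd (by omega) false
    · exact CfsgLib.KnownB.SpSpectrum.exists_half hodd (by omega) true
  obtain ⟨U, hU⟩ : ∃ h : G, p ^ Nat.clog p (2 * n) ∣ orderOf h := by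
    obtain ⟨u, hu⟩ := CfsgLib.KnownB.SpSpectrum.exists_sp_unip (F := F) p (show 0 < n by omega)
    refine ⟨QuotientGroup.mk u, ?_⟩
    have hodd' : (p ^ Nat.clog p (2 * n)).Coprime 2 :=
      Nat.Coprime.pow_left _ ((Nat.coprime_primes hp Nat.prime_two).2 hp2)
    refine hodd'.dvd_of_dvd_mul_right (hu.trans (orderOf_dvd_of_pow_eq_one ?_))
    rw [pow_mul]
    exact CfsgLib.KnownB.SpSpectrum.central_sq (by omega) ((QuotientGroup.eq_one_iff _).1
      (pow_orderOf_eq_one (QuotientGroup.mk u : G)))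
  obtain ⟨R, hR⟩ : ∃ h : G, 2 ∣ orderOf h := by
    obtain ⟨h, -, hh⟩ := CfsgLib.KnownB.SpSpectrum.exists_even (F := F) (n := n) h2 (a := 1) (b := n - 1)
      one_pos (by omega) (by omega) 1 1 (k := 1) odd_one (one_dvd _)
    exact ⟨h, hh⟩
  let X : G → Prop := fun x => ∃ h : G, orderOf x ∣ orderOf h ∧ 2 ∣ orderOf h
  let T : G → Prop := fun x => orderOf x ∣ CfsgLib.KnownB.SpSpectrum.oddTorus (Fintype.card F) n
  let V : G → Prop := fun x => orderOf x ∣ p ^ Nat.clog p (2 * n) ∧ ((¬ ∃ j : ℕ, 2 * n - 1 = p ^ j) → X x)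
  have tri : ∀ x : G, X x ∨ T x ∨ V x := CfsgLib.KnownB.SpSpectrum.trichotomy p hodd h2 hp2 hn
  constructor
  · let Good : G → G → G → Prop := fun a b c => ∃ t : G × G × G,
      orderOf a ∣ orderOf t ∧ orderOf b ∣ orderOf t ∧ orderOf c ∣ orderOf t ∧ 2 ∣ orderOf t
    have o1 : ∀ x y z : G, orderOf x ∣ orderOf (x, y, z) ∧ orderOf y ∣ orderOf (x, y, z) ∧
        orderOf z ∣ orderOf (x, y, z) := fun x y z => by
      simp only [Prod.orderOf_mk]
      exact ⟨Nat.dvd_lcm_left _ _, (Nat.dvd_lcm_left _ _).trans (Nat.dvd_lcm_right _ _),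
        (Nat.dvd_lcm_right _ _).trans (Nat.dvd_lcm_right _ _)⟩
    have s1 : ∀ a b c, Good a b c → Good b a c := fun a b c ⟨t, ha, hb, hc, h⟩ => ⟨t, hb, ha, hc, h⟩
    have s2 : ∀ a b c, Good a b c → Good a c b := fun a b c ⟨t, ha, hb, hc, h⟩ => ⟨t, ha, hc, hb, h⟩
    have gX : ∀ a b c, X a → Good a b c := by
      rintro a b c ⟨h, ha, hr'⟩
      obtain ⟨e1, e2, e3⟩ := o1 h b c
      exact ⟨_, ha.trans e1, e2, e3, hr'.trans e1⟩
    have gT : ∀ a b c, T a → T b → Good a b c := by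
      intro a b c ha hb
      obtain ⟨e1, e2, e3⟩ := o1 S R c
      exact ⟨_, (ha.trans hS).trans e1, (hb.trans hS).trans e1, e3, hR.trans e2⟩
    have gV : ∀ a b c, V a → V b → Good a b c := by
      intro a b c ha hb
      obtain ⟨e1, e2, e3⟩ := o1 U R c
      exact ⟨_, (ha.1.trans hU).trans e1, (hb.1.trans hU).trans e1, e3, hR.trans e2⟩
    have good : ∀ a b c, Good a b c := by
      intro a b c
      rcases tri a with ha | ha | ha
      · exact gX a b c ha
      all_goals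
        rcases tri b with hb | hb | hb
        · exact s1 _ _ _ (gX b a c hb)
      all_goals first
        | exact gT a b c ha hb
        | exact gV a b c ha hb
        | (rcases tri c with hc | hc | hc
           · exact s2 _ _ _ (s1 _ _ _ (gX c a b hc))
           all_goals first
             | exact s2 _ _ _ (gT a c b ha hc)
             | exact s2 _ _ _ (gV a c b ha hc)
             | exact s1 _ _ _ (s2 _ _ _ (gT b c a hb hc))
             | exact s1 _ _ _ (s2 _ _ _ (gV b c a hb hc)))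
    refine Set.Subset.antisymm ?_ ?_
    · rintro _ ⟨⟨a, b, c, z⟩, rfl⟩
      obtain ⟨t, h1, h2, h3, h4⟩ := good a b c
      refine CfsgLib.KnownB.ElementOrders.mem_range_orderOf_of_dvd (x := t) ?_
      simp only [Prod.orderOf_mk]
      exact Nat.lcm_dvd h1 (Nat.lcm_dvd h2 (Nat.lcm_dvd h3 ((hz z).trans h4)))
    · rintro _ ⟨⟨a, b, c⟩, rfl⟩
      exact ⟨(a, b, c, 1), by simp only [Prod.orderOf_mk, orderOf_one, Nat.lcm_one_right]⟩
  · intro hpow
    have tri2 : ∀ x : G, X x ∨ T x := fun x => (tri x).elim Or.inl fun h =>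
      h.elim Or.inr fun hv => Or.inl (hv.2 hpow)
    have good : ∀ a b : G, ∃ t : G × G, orderOf a ∣ orderOf t ∧ orderOf b ∣ orderOf t ∧ 2 ∣ orderOf t := by
      intro a b
      rcases tri2 a with ⟨h, h1, h2'⟩ | ha
      · exact ⟨(h, b), by rw [Prod.orderOf_mk]; exact ⟨h1.trans (Nat.dvd_lcm_left _ _), Nat.dvd_lcm_right _ _,
          h2'.trans (Nat.dvd_lcm_left _ _)⟩⟩
      rcases tri2 b with ⟨h, h1, h2'⟩ | hb
      · exact ⟨(a, h), by rw [Prod.orderOf_mk]; exact ⟨Nat.dvd_lcm_left _ _, h1.trans (Nat.dvd_lcm_right _ _),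
          h2'.trans (Nat.dvd_lcm_right _ _)⟩⟩
      exact ⟨(S, R), by rw [Prod.orderOf_mk]; exact ⟨(ha.trans hS).trans (Nat.dvd_lcm_left _ _),
          (hb.trans hS).trans (Nat.dvd_lcm_left _ _), hR.trans (Nat.dvd_lcm_right _ _)⟩⟩
    refine Set.Subset.antisymm ?_ ?_
    · rintro _ ⟨⟨a, b, z⟩, rfl⟩
      obtain ⟨t, h1, h2, h4⟩ := good a b
      refine CfsgLib.KnownB.ElementOrders.mem_range_orderOf_of_dvd (x := t) ?_
      simp only [Prod.orderOf_mk]
      exact Nat.lcm_dvd h1 (Nat.lcm_dvd h2 ((hz z).trans h4))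
    · rintro _ ⟨⟨a, b⟩, rfl⟩
      exact ⟨(a, b, 1), by simp only [Prod.orderOf_mk, orderOf_one, Nat.lcm_one_right]⟩

end Cfsg.Agent.S2512
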