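import Cfsg.Statements.S2513
-- import your own Cfsg.Agent.* helpers here
import Cfsg.Agent.Lib.KnownB.PSLOrders

set_option autoImplicit false
open Cfsg

namespace Cfsg.Agent.S2513

open CfsgLib.KnownB.ElementOrders CfsgLib.KnownB.PSLOrders


/-- Let F be the field with two elements, n ≥ 2, L = PSL(n, F) and k₀ = ⌊(n + 3)/2⌋. Then for every k ≥ k₀ the direct product of k copies of L has the same set of element orders as the direct product of k₀ copies of L. -/
theorem result {F : Type*} [Field F] [Fintype F] (hF : Fintype.card F = 2) (n k : ℕ) (hn : 2 ≤ n) (hk : (n + 3) / 2 ≤ k) :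
    Set.range (orderOf : (Fin k → Matrix.ProjectiveSpecialLinearGroup (Fin n) F) → ℕ) = Set.range (orderOf : (Fin ((n + 3) / 2) → Matrix.ProjectiveSpecialLinearGroup (Fin n) F) → ℕ) := by
  haveI : Fact (Nat.Prime 2) := ⟨Nat.prime_two⟩
  haveI : CharP F 2 := charP_of_card_eq_prime hF
  set k₀ := (n + 3) / 2 with hk₀
  obtain ⟨u, hu⟩ := exists_unipotent_order (F := F) (n := n) 2 (by omega)
  -- one slot for each `m` in `(n / 2, n]` and one for the unipotent part
  have hs : ∀ m, 0 < m → m ≤ n → ∃ h : Matrix.ProjectiveSpecialLinearGroup (Fin n) F, 2 ^ m - 1 ∣ orderOf h := by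
    intro m hm hmn
    rcases hmn.lt_or_eq with hlt | rfl
    · obtain ⟨A, hA, -⟩ := exists_singer (F := F) m hm
      obtain ⟨g, -, hg, -⟩ := exists_blocks (show m + (n - m) = n by omega) A
        (1 : Matrix.SpecialLinearGroup (Fin (n - m)) F)
      obtain ⟨ha, -, -⟩ := hg ⟨fun _ => 1, fun h => one_ne_zero (congrFun h ⟨0, by omega⟩), by
        rw [Matrix.SpecialLinearGroup.coe_one, Matrix.one_mulVec]⟩
      exact ⟨_, by simpa [hA, hF] using ha⟩
    · obtain ⟨h, hh⟩ := exists_singer_order (F := F) hm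
      exact ⟨h, by simpa [singer, geom, hF] using hh⟩
  choose! w hw using hs
  let h : Fin k₀ → Matrix.ProjectiveSpecialLinearGroup (Fin n) F := fun i =>
    if (i : ℕ) = 0 then u else w (n / 2 + i)
  let M := (Finset.Icc 1 n).lcm fun d => 2 ^ d - 1
  have hL : ∀ x : Matrix.ProjectiveSpecialLinearGroup (Fin n) F, orderOf x ∣ orderOf h := by
    intro x
    obtain ⟨g, rfl⟩ := QuotientGroup.mk_surjective x
    have hA := pow_eq_one_of_dvd (F := F) (ι := Fin n) 2 (e := Nat.clog 2 n) (M := M)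
      (by simpa using Nat.le_pow_clog one_lt_two n)
      (fun d h1 h2 => by
        rw [hF]; exact Finset.dvd_lcm (f := fun d => 2 ^ d - 1) (Finset.mem_Icc.2 ⟨h1, by simpa using h2⟩))
      (Matrix.SpecialLinearGroup.toGL g)
    have h1 : orderOf (QuotientGroup.mk g : Matrix.ProjectiveSpecialLinearGroup (Fin n) F) ∣ M * 2 ^ Nat.clog 2 n := by
      refine orderOf_dvd_of_pow_eq_one (mk_pow_eq_one_iff.2 ⟨1, ?_⟩)
      rw [map_one]
      have := congrArg (fun x : GL (Fin n) F => (x : Matrix (Fin n) (Fin n) F)) hA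
      simpa using this
    refine h1.trans (Nat.Coprime.mul_dvd_of_dvd_of_dvd ?_ ?_ ?_)
    · refine Nat.Coprime.pow_right _ (Nat.coprime_two_right.2 ?_)
      refine Nat.odd_iff.2 (Nat.mod_two_ne_zero.1 fun h0 => ?_)
      obtain ⟨d, hd, hd2⟩ : ∃ d ∈ Finset.Icc 1 n, 2 ∣ 2 ^ d - 1 := by
        have h2 : 2 ∣ ∏ d ∈ Finset.Icc 1 n, (2 ^ d - 1) :=
          (Nat.dvd_of_mod_eq_zero h0).trans (Finset.lcm_dvd_prod _ _)
        exact (Prime.dvd_finsetProd_iff Nat.prime_two.prime _).1 h2
      have h1 : 1 ≤ 2 ^ d := Nat.one_le_two_pow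
      have h2 : 2 ∣ 2 ^ d := dvd_pow_self 2 (by have := (Finset.mem_Icc.1 hd).1; omega)
      omega
    · refine Finset.lcm_dvd fun d hd => ?_
      obtain ⟨hd1, hd2⟩ := Finset.mem_Icc.1 hd
      -- a multiple of `d` in `(n / 2, n]`
      obtain ⟨c, hc1, hc2⟩ : ∃ c, n / 2 < d * c ∧ d * c ≤ n := by
        refine ⟨n / d, ?_, Nat.mul_div_le n d⟩
        have := Nat.div_add_mod n d
        have := Nat.mod_lt n (show d > 0 by omega)
        have : 1 ≤ n / d := (Nat.one_le_div_iff (by omega)).2 hd2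
        have := Nat.mul_le_mul_left d this
        omega
      refine (Nat.pow_sub_one_dvd_pow_sub_one 2 (dvd_mul_right d c)).trans ?_
      refine (hw (d * c) (by omega) hc2).trans ?_
      have := orderOf_apply_dvd_orderOf (x := h) ⟨d * c - n / 2, by omega⟩
      simpa [h, show d * c - n / 2 ≠ 0 by omega, Nat.add_sub_cancel' hc1.le] using this
    · refine hu.trans ?_
      have := orderOf_apply_dvd_orderOf (x := h) ⟨0, by omega⟩
      simpa [h] using this
  rw [range_orderOf_pi hk hL h dvd_rfl, range_orderOf_pi le_rfl hL h dvd_rfl]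

end Cfsg.Agent.S2513
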