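import Cfsg.Statements.S2514
-- import your own Cfsg.Agent.* helpers here

set_option autoImplicit false
open Cfsg

namespace Cfsg.Agent.S2514

theorem pi_iff {ι : Type} {M : Type*} [Group M] (f : ι → M) (n : ℕ) :
    orderOf f ∣ n ↔ ∀ i, orderOf (f i) ∣ n := by
  simp only [orderOf_dvd_iff_pow_eq_one, funext_iff, Pi.pow_apply, Pi.one_apply]

theorem div_ex {M : Type*} [Group M] [Finite M] (g : M) (n : ℕ) (hn : n ∣ orderOf g) :
    ∃ h : M, orderOf h = n :=
  ⟨g ^ (orderOf g / n), orderOf_pow_orderOf_div (orderOf_pos g).ne' hn⟩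

theorem maxabove {M : Type*} [Group M] [Finite M] (g : M) : ∃ m ∈ Set.range (orderOf : M → ℕ),
    orderOf g ∣ m ∧ ∀ m' ∈ Set.range (orderOf : M → ℕ), m ∣ m' → m' = m := by
  classical
  obtain ⟨h, hh, hmax⟩ := (Set.toFinite {h : M | orderOf g ∣ orderOf h}).exists_maximalFor orderOf _ ⟨g, dvd_refl (orderOf g)⟩
  refine ⟨orderOf h, ⟨h, rfl⟩, hh, ?_⟩
  rintro _ ⟨h', rfl⟩ hd
  exact le_antisymm (hmax (dvd_trans hh hd) (Nat.le_of_dvd (orderOf_pos h') hd)) (Nat.le_of_dvd (orderOf_pos h') hd)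

/-- For a finite group X write μ(X) for the set of element orders of X that are maximal under divisibility. Let G and H be finite groups and k ≥ 1 such that μ(H) ⊆ μ(G) and μ(G) has fewer than k elements outside μ(H). Then the direct product of k copies of G has the same set of element orders as the direct product of k − 1 copies of G with H. -/
theorem result {G H : Type*} [Group G] [Finite G] [Group H] [Finite H] (k : ℕ) (hk : 1 ≤ k)
    (hsub : {n : ℕ | n ∈ Set.range (orderOf : H → ℕ) ∧ ∀ m ∈ Set.range (orderOf : H → ℕ), n ∣ m → m = n} ⊆ {n : ℕ | n ∈ Set.range (orderOf : G → ℕ) ∧ ∀ m ∈ Set.range (orderOf : G → ℕ), n ∣ m → m = n})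
    (hfew : ({n : ℕ | n ∈ Set.range (orderOf : G → ℕ) ∧ ∀ m ∈ Set.range (orderOf : G → ℕ), n ∣ m → m = n} \ {n : ℕ | n ∈ Set.range (orderOf : H → ℕ) ∧ ∀ m ∈ Set.range (orderOf : H → ℕ), n ∣ m → m = n}).ncard < k) :
    Set.range (orderOf : (Fin k → G) → ℕ) = Set.range (orderOf : (Fin (k - 1) → G) × H → ℕ) := by
  classical
  obtain ⟨j, rfl⟩ : ∃ j, k = j + 1 := ⟨k - 1, by omega⟩
  change Set.range (orderOf : (Fin (j + 1) → G) → ℕ) = Set.range (orderOf : (Fin j → G) × H → ℕ)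
  have hHG : ∀ h : H, ∃ g : G, orderOf g = orderOf h := by
    intro h
    obtain ⟨m, hm, hd, hmax⟩ := maxabove h
    obtain ⟨g, rfl⟩ := (hsub ⟨hm, hmax⟩).1
    exact div_ex g _ hd
  apply Set.Subset.antisymm
  · rintro _ ⟨f, rfl⟩
    choose m hm hd hmax using fun i => maxabove (f i)
    suffices ∃ (i₀ : Fin (j + 1)) (f' : Fin j → G) (h : H),
        ∀ n, (∀ i, orderOf (f i) ∣ n) ↔ ((∀ i, orderOf (f' i) ∣ n) ∧ orderOf h ∣ n) by
      obtain ⟨_, f', h, hh⟩ := this
      refine ⟨(f', h), Nat.dvd_antisymm ?_ ?_⟩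
      · have := (hh (orderOf f)).1 ((pi_iff f _).1 dvd_rfl)
        rw [Prod.orderOf]
        exact Nat.lcm_dvd ((pi_iff f' _).2 this.1) this.2
      · rw [pi_iff, hh, Prod.orderOf, ← pi_iff]
        exact ⟨Nat.dvd_lcm_left _ _, Nat.dvd_lcm_right _ _⟩
    by_cases hH : ∃ i, m i ∈ {n : ℕ | n ∈ Set.range (orderOf : H → ℕ) ∧ ∀ m ∈ Set.range (orderOf : H → ℕ), n ∣ m → m = n}
    · obtain ⟨i, ⟨h₁, hh₁⟩, _⟩ := hH
      obtain ⟨h, hh⟩ := div_ex h₁ (orderOf (f i)) (hh₁ ▸ hd i)
      refine ⟨i, fun l => f (i.succAbove l), h, fun n => ⟨fun hn => ⟨fun l => hn _, hh ▸ hn i⟩, ?_⟩⟩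
      rintro ⟨h1, h2⟩ l
      rcases eq_or_ne l i with rfl | hl
      · exact hh ▸ h2
      · obtain ⟨l', rfl⟩ := Fin.exists_succAbove_eq hl
        exact h1 l'
    · push Not at hH
      obtain ⟨a, b, hab, hmab⟩ : ∃ a b, a ≠ b ∧ m a = m b := by
        by_contra hcon
        push Not at hcon
        have hinj : Function.Injective m := fun a b h => by_contra fun hne => hcon a b hne h
        have hfin : {n : ℕ | n ∈ Set.range (orderOf : G → ℕ) ∧ ∀ m ∈ Set.range (orderOf : G → ℕ), n ∣ m → m = n}.Finite :=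
          (Set.finite_range _).subset fun n hn => hn.1
        have := lt_of_le_of_lt (Set.ncard_le_ncard (s := Set.range m)
          (t := {n : ℕ | n ∈ Set.range (orderOf : G → ℕ) ∧ ∀ m ∈ Set.range (orderOf : G → ℕ), n ∣ m → m = n} \ {n : ℕ | n ∈ Set.range (orderOf : H → ℕ) ∧ ∀ m ∈ Set.range (orderOf : H → ℕ), n ∣ m → m = n})
          (Set.range_subset_iff.2 fun i => ⟨⟨hm i, hmax i⟩, hH i⟩) hfin.sdiff) hfew
        rw [Set.ncard_range_of_injective hinj, Nat.card_fin] at this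
        omega
      obtain ⟨g, hg⟩ := hm a
      obtain ⟨g', hg'⟩ := div_ex g (Nat.lcm (orderOf (f a)) (orderOf (f b)))
        (hg ▸ Nat.lcm_dvd (hd a) (hmab ▸ hd b))
      obtain ⟨b', rfl⟩ := Fin.exists_succAbove_eq hab.symm
      refine ⟨a, Function.update (fun l => f (a.succAbove l)) b' g', 1, fun n => ⟨fun hn => ⟨fun l => ?_, by simp⟩, ?_⟩⟩
      · rcases eq_or_ne l b' with rfl | hl
        · rw [Function.update_self, hg']; exact Nat.lcm_dvd (hn _) (hn _)
        · rw [Function.update_of_ne hl]; exact hn _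
      · rintro ⟨h1, -⟩ l
        have hb := h1 b'
        rw [Function.update_self, hg'] at hb
        rcases eq_or_ne l a with rfl | hl
        · exact dvd_trans (Nat.dvd_lcm_left _ _) hb
        · obtain ⟨l', rfl⟩ := Fin.exists_succAbove_eq hl
          rcases eq_or_ne l' b' with rfl | hl'
          · exact dvd_trans (Nat.dvd_lcm_right _ _) hb
          · simpa [Function.update_of_ne hl'] using h1 l'
  · rintro _ ⟨⟨f', h⟩, rfl⟩
    obtain ⟨g, hg⟩ := hHG h
    refine ⟨Fin.cons g f', Nat.dvd_antisymm ?_ ?_⟩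
    · rw [pi_iff, Prod.orderOf]
      refine Fin.cases ?_ ?_
      · simpa [hg] using Nat.dvd_lcm_right _ _
      · intro i; rw [Fin.cons_succ]
        exact dvd_trans ((pi_iff f' _).1 dvd_rfl i) (Nat.dvd_lcm_left _ _)
    · rw [Prod.orderOf]
      have h0 := (pi_iff (Fin.cons g f' : Fin (j + 1) → G) _).1 dvd_rfl
      refine Nat.lcm_dvd ((pi_iff f' _).2 fun i => ?_) ?_
      · simpa using h0 i.succ
      · rw [← hg]; simpa using h0 0

end Cfsg.Agent.S2514
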