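import Cfsg.Statements.S2516
-- import your own Cfsg.Agent.* helpers here

set_option autoImplicit false
open Cfsg

namespace Cfsg.Agent.S2516

/-- Let F be a field of characteristic p > 0, V a non-zero finite-dimensional F-vector space, G a finite group and ρ a representation of G on V; form the semidirect product V ⋊ G. For g ∈ G of order k, the coset Vg contains an element of order pk if and only if the minimal polynomial of ρ(g) does not divide 1 + X + ⋯ + X^(k−1). -/
theorem result {F : Type*} [Field F] (p : ℕ) [Fact p.Prime] [CharP F p] {V : Type*} [AddCommGroup V] [Module F V] [FiniteDimensional F V] [Nontrivial V]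
    {G : Type*} [Group G] [Finite G] (ρ : Representation F G V) (g : G) :
    (∃ x : Multiplicative V ⋊[(MulAutMultiplicative V).symm.toMonoidHom.comp
        ((DistribMulAction.toAddAut ((V →ₗ[F] V)ˣ) V).comp ρ.asGroupHom)] G,
        x.right = g ∧ orderOf x = p * orderOf g) ↔
      ¬ (minpoly F (ρ g) ∣ ∑ i ∈ Finset.range (orderOf g), (Polynomial.X : Polynomial F) ^ i) := by
  classical
  set φ := (MulAutMultiplicative V).symm.toMonoidHom.comp
        ((DistribMulAction.toAddAut ((V →ₗ[F] V)ˣ) V).comp ρ.asGroupHom) with hφ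
  have hφapp : ∀ (h : G) (w : V), φ h (Multiplicative.ofAdd w) = Multiplicative.ofAdd (ρ h w) := fun h w => rfl
  have hp : p.Prime := Fact.out
  set k := orderOf g with hk
  have hk0 : 0 < k := orderOf_pos g
  set S : V →ₗ[F] V := ∑ i ∈ Finset.range k, (ρ g) ^ i with hS
  have hpow : ∀ (v : V) (m : ℕ), ((⟨Multiplicative.ofAdd v, g⟩ : Multiplicative V ⋊[φ] G) ^ m) =
      ⟨Multiplicative.ofAdd ((∑ i ∈ Finset.range m, (ρ g) ^ i) v), g ^ m⟩ := by
    intro v m
    induction m with
    | zero => exact SemidirectProduct.ext (by simp) (by simp)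
    | succ m ih =>
      rw [pow_succ, ih]
      refine SemidirectProduct.ext ?_ (by rw [SemidirectProduct.mul_right]; exact (pow_succ g m).symm)
      rw [SemidirectProduct.mul_left]
      show Multiplicative.ofAdd _ * φ (g ^ m) (Multiplicative.ofAdd v) = _
      rw [hφapp, map_pow, ← ofAdd_add, Finset.sum_range_succ, LinearMap.add_apply]
  have hVp : ∀ (w : Multiplicative V), w ^ p = 1 := fun w => by
    show p • (Multiplicative.toAdd w) = (0 : V)
    rw [← Nat.cast_smul_eq_nsmul F, CharP.cast_eq_zero, zero_smul]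
  have key : ∀ v : V, orderOf (⟨Multiplicative.ofAdd v, g⟩ : Multiplicative V ⋊[φ] G) =
      if S v = 0 then k else p * k := by
    intro v
    set x : Multiplicative V ⋊[φ] G := ⟨Multiplicative.ofAdd v, g⟩ with hx
    have hxk : x ^ k = SemidirectProduct.inl (Multiplicative.ofAdd (S v)) := by
      rw [hx, hpow, hk, pow_orderOf_eq_one]; rfl
    have hkd : k ∣ orderOf x := by
      rw [hk, orderOf_dvd_iff_pow_eq_one]
      have := congrArg SemidirectProduct.right (pow_orderOf_eq_one x)
      rwa [hx, hpow] at this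
    obtain ⟨c, hc⟩ := hkd
    have hfin : (x ^ k) ^ p = 1 := by rw [hxk, ← map_pow, hVp, map_one]
    have hcp : c ∣ p := by
      rw [← pow_mul] at hfin
      have := orderOf_dvd_of_pow_eq_one hfin
      rw [hc] at this
      exact Nat.dvd_of_mul_dvd_mul_left hk0 this
    split_ifs with h0
    · refine Nat.dvd_antisymm (orderOf_dvd_of_pow_eq_one ?_) (hc ▸ Dvd.intro c rfl)
      rw [hxk, h0, ofAdd_zero, map_one]
    · rcases (Nat.dvd_prime hp).1 hcp with rfl | rfl
      · exfalso
        have h1 := pow_orderOf_eq_one x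
        rw [hc, mul_one, hxk] at h1
        exact h0 (ofAdd_eq_one.1 (SemidirectProduct.inl_injective (h1.trans (map_one _).symm)))
      · rw [hc, mul_comm]
  have hiff : minpoly F (ρ g) ∣ ∑ i ∈ Finset.range k, (Polynomial.X : Polynomial F) ^ i ↔ S = 0 := by
    rw [minpoly.dvd_iff, map_sum]
    simp [hS]
  rw [hiff]
  constructor
  · rintro ⟨⟨w, h⟩, rfl, hord⟩ hS0
    have := key (Multiplicative.toAdd w)
    rw [ofAdd_toAdd, hS0, if_pos (LinearMap.zero_apply _)] at this
    rw [this] at hord
    have h2 : 2 ≤ p := hp.two_le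
    change k = p * k at hord
    nlinarith
  · intro hne
    obtain ⟨v, hv⟩ : ∃ v, S v ≠ 0 := by
      by_contra hcon
      push Not at hcon
      exact hne (LinearMap.ext hcon)
    exact ⟨⟨Multiplicative.ofAdd v, g⟩, rfl, by rw [key, if_neg hv]⟩

end Cfsg.Agent.S2516
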