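import Cfsg.Statements.S2518
import Cfsg.Agent.Lib.KnownB.G2Three.Graph

set_option autoImplicit false
open Cfsg

namespace Cfsg.Agent.S2518

/-- Let F₃ be the field with 3 elements and F₁₃ the field with 13 elements. The Chevalley group G₂(F₃) and PSL(2, F₁₃) have the same prime graph: the same prime divisors of their orders, and for distinct primes r, s an element of order rs in one iff in the other. -/
theorem result {F : Type*} [Field F] [Fintype F] (hF : Fintype.card F = 3) {E : Type*} [Field E] [Fintype E] (hE : Fintype.card E = 13) :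
    ((∀ r : ℕ, r.Prime → (r ∣ Nat.card ↥(Cfsg.Lie.chevG2.group F) ↔ r ∣ Nat.card (Matrix.ProjectiveSpecialLinearGroup (Fin 2) E))) ∧
      (∀ r s : ℕ, r.Prime → s.Prime → r ≠ s → ((∃ x : ↥(Cfsg.Lie.chevG2.group F), orderOf x = r * s) ↔ (∃ y : (Matrix.ProjectiveSpecialLinearGroup (Fin 2) E), orderOf y = r * s)))) := by
  obtain ⟨e⟩ := CfsgLib.KnownB.G2Three.group_equiv hF
  have hcard : Nat.card ↥(Cfsg.Lie.chevG2.group F) = 4245696 := by
    rw [Nat.card_congr e.toEquiv, CfsgLib.KnownB.G2Three.natCard_G]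
  have hL := CfsgLib.KnownB.G2Three.psl_prime_graph hE
  have hG : ∀ n : ℕ, (∃ x : ↥(Cfsg.Lie.chevG2.group F), orderOf x = n) ↔
      ∃ y : CfsgLib.KnownB.G2Three.G, orderOf y = n :=
    fun n => ⟨fun ⟨x, hx⟩ => ⟨e x, by rw [MulEquiv.orderOf_eq, hx]⟩,
      fun ⟨y, hy⟩ => ⟨e.symm y, by rw [MulEquiv.orderOf_eq, hy]⟩⟩
  refine ⟨fun r hr => ?_, fun r s hr hs hrs => ?_⟩
  · rw [hcard, hL.1 r hr, CfsgLib.KnownB.G2Three.prime_dvd hr]
  · rw [hG, hL.2 r s hr hs hrs, CfsgLib.KnownB.G2Three.edge_iff hr hs hrs]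

end Cfsg.Agent.S2518
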