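import Cfsg.Statements.S2519
import Cfsg.Agent.Lib.Chev.G2Spec.Mu
-- import your own Cfsg.Agent.* helpers here

set_option autoImplicit false
open Cfsg

namespace Cfsg.Agent.S2519

/-- Let F be a finite field of odd order q = p^a ≥ 5. The element orders of the Chevalley group G₂(F) that are maximal under divisibility are exactly p(q + 1), p(q − 1), q² − 1, q² + q + 1, q² − q + 1, together with p² when p is 3 or 5. -/
theorem result {F : Type*} [Field F] [Fintype F] (p a : ℕ) (hp : p.Prime) (hp2 : p ≠ 2) (ha : 1 ≤ a) (hF : Fintype.card F = p ^ a) (hq5 : 5 ≤ Fintype.card F) :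
    {n : ℕ | n ∈ Set.range (orderOf : ↥(Cfsg.Lie.chevG2.group F) → ℕ) ∧ ∀ m ∈ Set.range (orderOf : ↥(Cfsg.Lie.chevG2.group F) → ℕ), n ∣ m → m = n} =
      ({p * (p ^ a + 1), p * (p ^ a - 1), p ^ (2 * a) - 1, p ^ (2 * a) + p ^ a + 1, p ^ (2 * a) - p ^ a + 1} : Set ℕ) ∪
        (if p = 3 ∨ p = 5 then ({p ^ 2} : Set ℕ) else ∅) := by
  open CfsgLib.Chev.G2Spec in
  have : Fact p.Prime := ⟨hp⟩
  have hq2 : p ^ (2 * a) = Fintype.card F ^ 2 := by rw [hF, ← pow_mul, mul_comm]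
  rw [hq2, ← hF]
  set q := Fintype.card F
  have hpq : p ∣ q := hF ▸ dvd_pow_self p (by omega)
  have hodd : q % 2 = 1 := by
    rw [hF, Nat.pow_mod, hp.eq_two_or_odd.resolve_left hp2]; simp
  have hS : ∀ n, n ∈ ({p * (q + 1), p * (q - 1), q ^ 2 - 1, q ^ 2 + q + 1, q ^ 2 - q + 1} : Set ℕ) ∪
      (if p = 3 ∨ p = 5 then ({p ^ 2} : Set ℕ) else ∅) ↔
      (n = p * (q + 1) ∨ n = p * (q - 1) ∨ n = q ^ 2 - 1 ∨ n = q ^ 2 + q + 1 ∨ n = q ^ 2 - q + 1 ∨
        ((p = 3 ∨ p = 5) ∧ n = p ^ 2)) := by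
    intro n
    simp only [Set.mem_union, Set.mem_insert_iff, Set.mem_singleton_iff]
    split_ifs with h <;> simp [h, or_assoc]
  refine maximal_eq (fun n hn => ?_) ?_ fun s hs t ht hst =>
    antichain hp hp2 hpq hq5 hodd ?_ ?_ hst
  · obtain h | h | h | h | h | h := (hS n).1 hn
    all_goals exact exists_orders hp hF (by tauto)
  · rintro _ ⟨x, rfl⟩
    rcases bound hF x with h | h | h | h | h | ⟨h1, h⟩ | ⟨h1, -⟩
    · exact ⟨_, (hS _).2 (by tauto), h⟩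
    · exact ⟨_, (hS _).2 (.inr (.inl rfl)), h⟩
    · exact ⟨_, (hS _).2 (.inr (.inr (.inl rfl))), h⟩
    · exact ⟨_, (hS _).2 (.inr (.inr (.inr (.inl rfl)))), h⟩
    · exact ⟨_, (hS _).2 (.inr (.inr (.inr (.inr (.inl rfl))))), h⟩
    · exact ⟨_, (hS _).2 (.inr (.inr (.inr (.inr (.inr ⟨h1, rfl⟩))))), h⟩
    · exact absurd h1 hp2
  · have := (hS s).1 hs; tauto
  · have := (hS t).1 ht; tauto

end Cfsg.Agent.S2519
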