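import Cfsg.Statements.S2521
-- import your own Cfsg.Agent.* helpers here

set_option autoImplicit false
open Cfsg

namespace Cfsg.Agent.S2521

/-- Let B be a finite group that is the semidirect product of a nilpotent normal subgroup U by an abelian subgroup T (U ∩ T = 1, UT = B), and let t ∈ T have centralizer exactly T. Then every element of the coset tU is conjugate to t in B: for each u ∈ U there is b ∈ B with b t b⁻¹ = t u. -/
theorem result {B : Type*} [Group B] [Finite B] (U T : Subgroup B) [U.Normal] (hU : Group.IsNilpotent ↥U) (hT : IsMulCommutative ↥T)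
    (hcompl : Subgroup.IsComplement' U T) (t : B) (ht : t ∈ T) (hreg : Subgroup.centralizer ({t} : Set B) = T) (u : B) (hu : u ∈ U) :
    ∃ b : B, b * t * b⁻¹ = t * u := by
  classical
  have hinj : Function.Injective (fun v : ↥U => (⟨t⁻¹ * ((v : B) * t * (v : B)⁻¹), by
      have h1 : t⁻¹ * (v : B) * t⁻¹⁻¹ ∈ U := Subgroup.Normal.conj_mem inferInstance _ v.2 _
      have h2 := U.mul_mem h1 (U.inv_mem v.2)
      convert h2 using 1; group⟩ : ↥U)) := by
    intro v w h
    have h' : (v : B) * t * (v : B)⁻¹ = (w : B) * t * (w : B)⁻¹ := mul_left_cancel (congrArg Subtype.val h)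
    have hT' : (w : B)⁻¹ * (v : B) ∈ T := by
      rw [← hreg, Subgroup.mem_centralizer_singleton_iff]
      calc (w : B)⁻¹ * v * t = (w : B)⁻¹ * ((v : B) * t * (v : B)⁻¹) * v := by group
        _ = (w : B)⁻¹ * ((w : B) * t * (w : B)⁻¹) * v := by rw [h']
        _ = t * ((w : B)⁻¹ * v) := by group
    have := Subgroup.disjoint_def.1 hcompl.disjoint (U.mul_mem (U.inv_mem w.2) v.2) hT'
    exact Subtype.ext (inv_mul_eq_one.1 this).symm
  obtain ⟨v, hv⟩ := (Finite.injective_iff_surjective.1 hinj) ⟨u, hu⟩
  exact ⟨v, by rw [← show t⁻¹ * ((v : B) * t * (v : B)⁻¹) = u from congrArg Subtype.val hv]; group⟩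

end Cfsg.Agent.S2521
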