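import Cfsg.Statements.S2522
import Cfsg.Agent.Lib.KnownB.Sourour.Unipotent

set_option autoImplicit false
open Cfsg

namespace Cfsg.Agent.S2522

/-- Let K be a field with at least four elements (finite or infinite), n ≥ 3, and J ∈ GL(n, K) the regular unipotent matrix (ones on the diagonal and the superdiagonal, zeros elsewhere). Then every non-scalar g ∈ GL(n, K) with det g = 1 is a product of two GL(n, K)-conjugates of J. -/
theorem result {K : Type*} [Field K] (hK : 4 ≤ Cardinal.mk K) (n : ℕ) (hn : 3 ≤ n) (J g : GL (Fin n) K)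
    (hJ : ∀ i j : Fin n, (J : Matrix (Fin n) (Fin n) K) i j = if i = j then 1 else if j.val = i.val + 1 then 1 else 0)
    (hg : ¬ ∃ c : K, (g : Matrix (Fin n) (Fin n) K) = c • (1 : Matrix (Fin n) (Fin n) K))
    (hdet : (g : Matrix (Fin n) (Fin n) K).det = 1) :
    ∃ x y : GL (Fin n) K, g = (x * J * x⁻¹) * (y * J * y⁻¹) := by
  have h4 : 4 ≤ ENat.card K := Cardinal.natCast_le_toENat.2 (by exact_mod_cast hK)
  have hJ' : ∀ i j : Fin n, (J : Matrix (Fin n) (Fin n) K) i j =
      if i = j then 1 else if j.val = i.val + 1 then 1 else 0 := hJ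
  let Ji : Module.End K (Fin n → K) :=
    Matrix.toLin' ((J⁻¹ : GL (Fin n) K) : Matrix (Fin n) (Fin n) K)
  have h1 : Matrix.toLin' (J : Matrix (Fin n) (Fin n) K) * Ji = 1 := by
    simp only [Ji, Module.End.mul_eq_comp, ← Matrix.toLin'_mul, ← Units.val_mul, mul_inv_cancel,
      Units.val_one, Matrix.toLin'_one]
    rfl
  have h2 : Ji * Matrix.toLin' (J : Matrix (Fin n) (Fin n) K) = 1 := by
    simp only [Ji, Module.End.mul_eq_comp, ← Matrix.toLin'_mul, ← Units.val_mul, inv_mul_cancel,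
      Units.val_one, Matrix.toLin'_one]
    rfl
  obtain ⟨L, U, hLU, ⟨hL⟩, ⟨hU⟩⟩ := CfsgLib.KnownB.Sourour.exists_unipotent_factors h4
    (by omega : 2 ≤ n) (J : Matrix (Fin n) (Fin n) K) hJ' Ji h1 h2
    (Matrix.toLin' (g : Matrix (Fin n) (Fin n) K)) (by rw [LinearMap.det_toLin']; exact hdet) (by
      rintro ⟨a, ha⟩
      refine hg ⟨a, Matrix.toLin'.injective ?_⟩
      rw [ha, map_smul, Matrix.toLin'_one]
      rfl)
  obtain ⟨hF⟩ := CfsgLib.KnownB.Sourour.jordan_form (by omega : 0 < n) _ hJ'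
  obtain ⟨e, he⟩ := hF.conj hL (fun a => a.elim0) (fun a => a.elim0) (by omega)
  obtain ⟨e', he'⟩ := hF.conj hU (fun a => a.elim0) (fun a => a.elim0) (by omega)
  obtain ⟨x, hx⟩ := CfsgLib.KnownB.Sourour.exists_gl_conj J L e he
  obtain ⟨y, hy⟩ := CfsgLib.KnownB.Sourour.exists_gl_conj J U e' he'
  refine ⟨x, y, Units.ext ?_⟩
  rw [Units.val_mul, ← hx, ← hy, ← LinearMap.toMatrix'_mul, ← hLU, LinearMap.toMatrix'_toLin']

end Cfsg.Agent.S2522
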