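import Cfsg.Statements.S2531
import Cfsg.Agent.Lib.KnownB.NoSharpTwo
-- import your own Cfsg.Agent.* helpers here

set_option autoImplicit false
open Cfsg

namespace Cfsg.Agent.S2531

/-- Let `F` be a finite field and `n ≥ 3`. No set of permutations of the points of the projective space of `Fⁿ`, each induced by an invertible semilinear transformation of `Fⁿ` (so a subset of the full projective semilinear group), is sharply 2-transitive on the points: it is impossible that for all pairs of distinct points `(a, b)` and `(c, d)` exactly one member of the set sends `a` to `c` and `b` to `d`. -/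
theorem result {F : Type*} [Field F] [Finite F]
    (n : ℕ) (hn : 3 ≤ n) (S : Set (Equiv.Perm (Projectivization F (Fin n → F))))
    (hS : ∀ s ∈ S, ∃ (σ : F ≃+* F) (f : (Fin n → F) →ₛₗ[(σ : F →+* F)] (Fin n → F)) (hf : Function.Injective f),
      ∀ x, s x = Projectivization.map f hf x) :
    ¬ (∀ a b c d : Projectivization F (Fin n → F), a ≠ b → c ≠ d →
        ∃! s, s ∈ S ∧ s a = c ∧ s b = d) := by
  classical
  intro h
  let i0 : Fin n := ⟨0, by omega⟩
  let i1 : Fin n := ⟨1, by omega⟩
  let i2 : Fin n := ⟨2, by omega⟩
  let e : Fin n → (Fin n → F) := fun i => Pi.single i 1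
  have he : LinearIndependent F e := by
    have := (Pi.basisFun F (Fin n)).linearIndependent
    rwa [show ⇑(Pi.basisFun F (Fin n)) = e from funext fun i => Pi.basisFun_apply F (Fin n) i] at this
  let p := LinearMap.proj (R := F) (φ := fun _ : Fin n => F) i0
  have hdim2 : ∀ i j : Fin n, i ≠ j → Module.finrank F (Submodule.span F (Set.range (e ∘ ![i, j]))) = 2 := by
    intro i j hij
    rw [finrank_span_eq_card (he.comp _ (by intro a b; fin_cases a <;> fin_cases b <;> simp [hij, hij.symm]))]
    rfl
  have hH : Module.finrank F (LinearMap.ker p) + 1 = n := by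
    have := LinearMap.finrank_range_add_finrank_ker p
    rw [LinearMap.range_eq_top.2 (LinearMap.proj_surjective i0), finrank_top, Module.finrank_self, Module.finrank_fin_fun] at this
    omega
  refine CfsgLib.KnownB.NoSharpTwo.main (e i0) (by simp [e]) (Submodule.span F (Set.range (e ∘ ![i0, i1])))
    (Submodule.span F (Set.range (e ∘ ![i1, i2]))) (LinearMap.ker p) (Submodule.subset_span ⟨0, rfl⟩) ?_ (by simp [e, p]) ?_ ?_ ?_ ?_ S hS h
  · intro hm
    have hle : Submodule.span F (Set.range (e ∘ ![i1, i2])) ≤ LinearMap.ker p := by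
      rw [Submodule.span_le]
      rintro _ ⟨k, rfl⟩
      fin_cases k <;> simp [e, p, i0, i1, i2, Fin.ext_iff]
    have := hle hm
    simp [e, p] at this
  · intro hb
    rw [hb, finrank_bot] at hH
    omega
  · intro hb
    have := hdim2 i1 i2 (by simp [i1, i2, Fin.ext_iff])
    rw [hb, finrank_bot] at this
    omega
  · rw [hdim2 i0 i1 (by simp [i0, i1, Fin.ext_iff]), Module.finrank_fin_fun]
    omega
  · rw [hdim2 i1 i2 (by simp [i1, i2, Fin.ext_iff]), Module.finrank_fin_fun]
    omega

end Cfsg.Agent.S2531
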