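import Cfsg.Statements.S2532
-- import your own Cfsg.Agent.* helpers here

set_option autoImplicit false
open Cfsg

namespace Cfsg.Agent.S2532

/-- There is a function `f` of two natural-number arguments such that, whenever `m ≥ f(n, r)`, every subgroup of order `n` of the alternating group of degree `m` centralizes some subgroup of that alternating group isomorphic to the alternating group of degree `r`. -/
theorem result :
    ∃ f : ℕ → ℕ → ℕ, ∀ (m r : ℕ) (H : Subgroup ↥(alternatingGroup (Fin m))), f (Nat.card H) r ≤ m →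
      ∃ K : Subgroup ↥(alternatingGroup (Fin m)), Nonempty (↥K ≃* ↥(alternatingGroup (Fin r))) ∧
        K ≤ Subgroup.centralizer (H : Set ↥(alternatingGroup (Fin m))) := by
  classical
  refine ⟨fun n r => 2 ^ n * (n * r) + 1, fun m r H hm => ?_⟩
  let ι : H →* Equiv.Perm (Fin m) := (alternatingGroup (Fin m)).subtype.comp H.subtype
  letI : MulAction H (Fin m) := MulAction.compHom _ ι
  have hsm : ∀ (h : H) x, h • x = ι h x := fun h x => rfl
  haveI : Fintype (Subgroup H) := Fintype.ofFinite _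
  let orb : Fin m → Quotient (MulAction.orbitRel H (Fin m)) := Quotient.mk _
  obtain ⟨K₀, hK₀⟩ : ∃ K₀ : Subgroup H, Nat.card H * r ≤ (Finset.univ.filter fun x : Fin m => MulAction.stabilizer H x = K₀).card := by
    by_contra hc
    push Not at hc
    have h1 := Finset.card_eq_sum_card_fiberwise (f := fun x : Fin m => MulAction.stabilizer H x) (s := Finset.univ) (t := Finset.univ) (fun x _ => Finset.mem_univ _)
    rw [Finset.card_univ, Fintype.card_fin] at h1
    have h2 := Finset.sum_le_card_nsmul Finset.univ _ _ (fun K (_ : K ∈ (Finset.univ : Finset (Subgroup H))) => (hc K).le)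
    rw [smul_eq_mul, Finset.card_univ, ← h1] at h2
    have h3 : Fintype.card (Subgroup H) ≤ 2 ^ Nat.card H := by
      rw [Nat.card_eq_fintype_card, ← Fintype.card_set]
      exact Fintype.card_le_of_injective _ SetLike.coe_injective
    have h4 := h2.trans (Nat.mul_le_mul_right _ h3)
    dsimp only at hm
    omega
  set S := Finset.univ.filter fun x : Fin m => MulAction.stabilizer H x = K₀
  have himg : r ≤ (S.image orb).card := by
    have h1 : S.card ≤ Nat.card H * (S.image orb).card := by
      refine Finset.card_le_mul_card_image S _ fun b hb => ?_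
      obtain ⟨x, hx, rfl⟩ := Finset.mem_image.1 hb
      have hsub : S.filter (fun a => orb a = orb x) ⊆ Finset.univ.image (fun h : H => h • x) := fun a ha => by
        obtain ⟨h, hh⟩ := MulAction.orbitRel_apply.1 (Quotient.exact (Finset.mem_filter.1 ha).2)
        exact Finset.mem_image.2 ⟨h, Finset.mem_univ _, hh⟩
      refine (Finset.card_le_card hsub).trans (Finset.card_image_le.trans ?_)
      rw [Finset.card_univ, Nat.card_eq_fintype_card]
    exact Nat.le_of_mul_le_mul_left (hK₀.trans h1) Nat.card_pos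
  obtain ⟨T, hT, hTr⟩ := Finset.exists_subset_card_eq himg
  let el : Fin r ≃ T := (T.equivFinOfCardEq hTr).symm
  choose x hxS hxo using fun i => Finset.mem_image.1 (hT (el i).2)
  have hstab : ∀ i, MulAction.stabilizer H (x i) = K₀ := fun i => (Finset.mem_filter.1 (hxS i)).2
  let g : Fin r × (H ⧸ K₀) → Fin m := fun p => Quotient.liftOn' p.2 (fun h => h • x p.1) fun a b hab => by
    rw [QuotientGroup.leftRel_apply, ← hstab p.1, MulAction.mem_stabilizer_iff, mul_smul, inv_smul_eq_iff] at hab
    exact hab.symm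
  have hg : ∀ i (h : H), g (i, QuotientGroup.mk h) = h • x i := fun i h => rfl
  have hginj : Function.Injective g := by
    rintro ⟨i, a⟩ ⟨j, b⟩ hab
    obtain ⟨a, rfl⟩ := QuotientGroup.mk_surjective a
    obtain ⟨b, rfl⟩ := QuotientGroup.mk_surjective b
    rw [hg, hg] at hab
    have hij : i = j := el.injective (Subtype.ext (by
      rw [← hxo i, ← hxo j]
      exact Quotient.sound (MulAction.orbitRel_apply.2 ⟨a⁻¹ * b, show (a⁻¹ * b) • x j = x i by
        rw [mul_smul, ← hab, inv_smul_smul]⟩)))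
    subst hij
    refine Prod.ext rfl (QuotientGroup.eq.2 ?_)
    rw [← hstab i, MulAction.mem_stabilizer_iff, mul_smul, ← hab, inv_smul_smul]
  let emb : (Fin r × (H ⧸ K₀)) ↪ Fin m := ⟨g, hginj⟩
  let pr : Equiv.Perm (Fin r) →* Equiv.Perm (Fin r × (H ⧸ K₀)) :=
    { toFun := fun σ => Equiv.prodCongr σ (Equiv.refl _)
      map_one' := by ext p <;> rfl
      map_mul' := fun a b => by ext p <;> rfl }
  let φ : Equiv.Perm (Fin r) →* Equiv.Perm (Fin m) := (Equiv.Perm.viaEmbeddingHom emb).comp pr
  have hφinj : Function.Injective φ := (Equiv.Perm.viaEmbeddingHom_injective emb).comp fun a b h => by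
    ext i
    exact congrArg (fun p : Fin r × (H ⧸ K₀) => (p.1 : ℕ)) (Equiv.congr_fun h (i, QuotientGroup.mk 1))
  have hsign : ∀ σ ∈ alternatingGroup (Fin r), φ σ ∈ alternatingGroup (Fin m) := by
    intro σ hσ
    rw [← Equiv.Perm.closure_three_cycles_eq_alternating] at hσ
    revert σ
    change ∀ σ ∈ _, σ ∈ (alternatingGroup (Fin m)).comap φ
    refine (Subgroup.closure_le _).2 fun σ hσ => ?_
    rw [SetLike.mem_coe, Subgroup.mem_comap, Equiv.Perm.mem_alternatingGroup]
    have h3 : (Equiv.Perm.sign (φ σ)) ^ 3 = 1 := by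
      rw [← map_pow, ← map_pow, ← (hσ : σ.IsThreeCycle).orderOf, pow_orderOf_eq_one, map_one, map_one]
    rcases Int.units_eq_one_or (Equiv.Perm.sign (φ σ)) with h | h
    · exact h
    · rw [h] at h3
      exact absurd h3 (by decide)
  let ψ : alternatingGroup (Fin r) →* alternatingGroup (Fin m) :=
    (φ.comp (alternatingGroup (Fin r)).subtype).codRestrict _ fun σ => hsign σ σ.2
  have hψ : Function.Injective ψ := fun a b h => Subtype.ext (hφinj (congrArg Subtype.val h))
  refine ⟨ψ.range, ⟨(MonoidHom.ofInjective hψ).symm⟩, ?_⟩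
  rintro _ ⟨σ, rfl⟩
  rw [Subgroup.mem_centralizer_iff]
  intro h hh
  refine Subtype.ext (Equiv.ext fun y => ?_)
  change ι ⟨h, hh⟩ (φ σ.1 y) = φ σ.1 (ι ⟨h, hh⟩ y)
  rw [← hsm, ← hsm]
  by_cases hy : y ∈ Set.range emb
  · obtain ⟨⟨i, a⟩, rfl⟩ := hy
    obtain ⟨a, rfl⟩ := QuotientGroup.mk_surjective a
    have he : ∀ i (b : H), φ σ.1 (b • x i) = b • x (σ.1 i) := fun i b => by
      change Equiv.Perm.viaEmbedding (pr σ.1) emb (emb (i, QuotientGroup.mk b)) = _
      rw [Equiv.Perm.viaEmbedding_apply]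
      rfl
    change (⟨h, hh⟩ : H) • φ σ.1 (a • x i) = φ σ.1 ((⟨h, hh⟩ : H) • a • x i)
    rw [he, ← mul_smul, ← mul_smul, he]
  · have hy' : (⟨h, hh⟩ : H) • y ∉ Set.range emb := by
      rintro ⟨⟨i, a⟩, ha⟩
      obtain ⟨a, rfl⟩ := QuotientGroup.mk_surjective a
      refine hy ⟨(i, QuotientGroup.mk ((⟨h, hh⟩ : H)⁻¹ * a)), ?_⟩
      change ((⟨h, hh⟩ : H)⁻¹ * a) • x i = y
      rw [mul_smul]
      exact inv_smul_eq_iff.2 ha
    change (⟨h, hh⟩ : H) • Equiv.Perm.viaEmbedding (pr σ.1) emb y = Equiv.Perm.viaEmbedding (pr σ.1) emb ((⟨h, hh⟩ : H) • y)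
    rw [Equiv.Perm.viaEmbedding_apply_of_notMem _ _ _ hy, Equiv.Perm.viaEmbedding_apply_of_notMem _ _ _ hy']

end Cfsg.Agent.S2532
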