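import Cfsg.Statements.S2537
import Cfsg.Agent.Lib.PSL2.DicksonPSL
import Cfsg.Agent.Lib.PSL2.Four
import Cfsg.Agent.Lib.PSL2.Tori
import Cfsg.Agent.Lib.Classical.Order

set_option autoImplicit false
open Cfsg MulAction CfsgLib.PSL2

set_option maxHeartbeats 1000000

namespace Cfsg.Agent.S2537

theorem dihedral_sub (d s : ℕ) (hd : d ≠ 0) (hs : s ≠ 0) :
    ∃ H : Subgroup (DihedralGroup (d * s)), Nat.card H = 2 * s := by
  haveI := NeZero.mk hs
  let ι : ZMod s →+ ZMod (d * s) := ZMod.lift s ⟨zmultiplesHom (ZMod (d * s)) (d : ZMod (d * s)), by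
    rw [zmultiplesHom_apply, natCast_zsmul, nsmul_eq_mul, ← Nat.cast_mul, mul_comm, ZMod.natCast_self]⟩
  have hι : Function.Injective ι := by
    rw [injective_iff_map_eq_zero]
    intro a ha
    obtain ⟨i, rfl⟩ := ZMod.natCast_zmod_surjective (n := s) a
    simp only [ι] at ha
    rw [show ((i : ℕ) : ZMod s) = ((i : ℤ) : ZMod s) by simp, ZMod.lift_coe, zmultiplesHom_apply, natCast_zsmul,
      nsmul_eq_mul, ← Nat.cast_mul, ZMod.natCast_eq_zero_iff, mul_comm i,
      Nat.mul_dvd_mul_iff_left (Nat.pos_of_ne_zero hd)] at ha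
    exact (ZMod.natCast_eq_zero_iff _ _).2 ha
  let f : DihedralGroup s → DihedralGroup (d * s)
    | DihedralGroup.r i => DihedralGroup.r (ι i)
    | DihedralGroup.sr i => DihedralGroup.sr (ι i)
  let φ : DihedralGroup s →* DihedralGroup (d * s) := MonoidHom.mk' f (by
    rintro (i | i) (j | j) <;> simp [f])
  have hφ : Function.Injective φ := by
    rintro (i | i) (j | j) h <;> simp [φ, f] at h <;> first | exact congrArg _ (hι h) | exact absurd h (by simp)
  exact ⟨φ.range, by rw [← Nat.card_congr (MonoidHom.ofInjective hφ).toEquiv, DihedralGroup.nat_card]⟩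

theorem exists_dihedral {F : Type*} [Field F] [Fintype F] (p : ℕ) [Fact p.Prime] [CharP F p]
    (hodd : Odd (Nat.card F)) (h3 : Nat.card F ≠ 3) (k s : ℕ) (hs : s ≠ 0) (hsk : s ∣ k)
    (hk : k = (Nat.card F - 1) / 2 ∨ k = (Nat.card F + 1) / 2) :
    ∃ H : Subgroup (Matrix.ProjectiveSpecialLinearGroup (Fin 2) F), Nat.card H = 2 * s := by
  classical
  have hq : 2 ≤ Nat.card F := Finite.one_lt_card
  obtain ⟨a, b, hg, hk'⟩ : ∃ a b : Projectivization (Ext2 F p) (Fin 2 → Ext2 F p), GoodPair a b ∧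
      torusCard a / Nat.gcd 2 (Nat.card F - 1) = k := by
    rw [CfsgLib.Classical.gcd_two_card_sub_one_of_odd hodd]
    rcases hk with rfl | rfl
    · obtain ⟨a, b, hg, ha⟩ := exists_goodPair (F := F) (p := p)
      exact ⟨a, b, hg, by rw [torusCard, if_pos ha]⟩
    · obtain ⟨a, ha⟩ : ∃ a : Projectivization (Ext2 F p) (Fin 2 → Ext2 F p), ¬ IsRat a := by
        by_contra hc
        push Not at hc
        have h := Nat.card_le_card_of_surjective (embP (F := F) p) hc
        rw [card_pline_ext, CfsgLib.Classical.card_proj_line] at h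
        nlinarith
      obtain ⟨b, hba, hb, hst, -⟩ := exists_conj_point ha
      exact ⟨a, b, ⟨hba.symm, .inr ⟨ha, hb, hst⟩⟩, by rw [torusCard, if_neg ha]⟩
  obtain ⟨r, w, -, -, -, -, -, -, hro, -, -, ⟨e⟩⟩ := torus_psl hg (fun _ => h3)
  rw [hk'] at hro
  obtain ⟨d, rfl⟩ := hsk
  have hd : d ≠ 0 := by
    rintro rfl
    have : 3 < Nat.card F ∨ Nat.card F = 2 := by omega
    rcases this with h | h
    · rcases hk with hk | hk <;> omega
    · rw [h] at hodd; exact absurd hodd (by decide)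
  rw [hro, mul_comm] at e
  obtain ⟨H, hH⟩ := dihedral_sub d s hd hs
  set X := pairStab a b ⊓ pslRange F
  set f := Matrix.ProjectiveSpecialLinearGroup.toPGL (n := Fin 2) (R := F)
  have hf : Function.Injective f := Matrix.ProjectiveSpecialLinearGroup.toPGL_injective
  let Y := (H.comap e.toMonoidHom).map X.subtype
  refine ⟨Y.comap f, ?_⟩
  have hY : Y ≤ f.range := fun y hy => by
    obtain ⟨z, -, rfl⟩ := hy
    exact z.2.2
  rw [Nat.card_congr ((Y.comap f).equivMapOfInjective f hf).toEquiv, Subgroup.map_comap_eq_self hY,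
    Subgroup.card_map_of_injective X.subtype_injective]
  exact (Nat.card_congr (e.toEquiv.subtypeEquiv (fun x => Iff.rfl))).trans hH

/-- Let `F` be a finite field with `q` elements of characteristic `p ≥ 5`, and `ε = 1` if `q ≡ 1 (mod 4)`, `ε = -1` otherwise. Then `PSL(2, F)` has a Hall `{2, 3}`-subgroup if and only if `3` divides `q − ε`, or the `{2,3}`-part of `q² − 1` is 24, or the `{2,3}`-part of `q² − 1` is 48 (the `{2,3}`-part of `m` being the largest divisor of `m` with no prime factor other than 2 and 3). -/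
theorem result {F : Type*} [Field F] [Fintype F] {p : ℕ} [Fact p.Prime] [CharP F p]
    (hp : 5 ≤ p) (q : ℕ) (hq : Fintype.card F = q) :
    (∃ H : Subgroup (Matrix.ProjectiveSpecialLinearGroup (Fin 2) F), Cfsg.IsPiHall ({2, 3} : Set ℕ) H) ↔
      (3 ∣ q - 1 ∧ q % 4 = 1) ∨ (3 ∣ q + 1 ∧ q % 4 = 3) ∨
        2 ^ (q ^ 2 - 1).factorization 2 * 3 ^ (q ^ 2 - 1).factorization 3 = 24 ∨
        2 ^ (q ^ 2 - 1).factorization 2 * 3 ^ (q ^ 2 - 1).factorization 3 = 48 := by
  classical
  have hqc : Nat.card F = q := by rw [Nat.card_eq_fintype_card, hq]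
  obtain ⟨f0, -, hpf⟩ := FiniteField.card F p
  have hp' : p.Prime := Fact.out
  rw [hq] at hpf
  have hqodd : q % 2 = 1 := by
    rw [hpf]; exact Nat.odd_iff.1 ((hp'.odd_of_ne_two (by omega)).pow)
  have hq5 : 5 ≤ q := le_trans hp (by rw [hpf]; exact Nat.le_self_pow (PNat.ne_zero _) p)
  have hq3 : ¬ 3 ∣ q := fun h => by
    have := (Nat.prime_dvd_prime_iff_eq Nat.prime_three hp').1 (Nat.prime_three.dvd_of_dvd_pow (hpf ▸ h))
    omega
  set a := (q ^ 2 - 1).factorization 2 with ha
  set b := (q ^ 2 - 1).factorization 3 with hb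
  set M := 2 ^ a * 3 ^ b with hM
  have hsq : q ^ 2 - 1 = (q - 1) * (q + 1) := by rw [mul_comm, ← Nat.sq_sub_sq, one_pow]
  have hne : q ^ 2 - 1 ≠ 0 := by rw [hsq]; exact Nat.mul_ne_zero (by omega) (by omega)
  have h2ne : ¬ 2 ^ (a + 1) ∣ q ^ 2 - 1 := Nat.pow_succ_factorization_not_dvd hne Nat.prime_two
  have h3ne : ¬ 3 ^ (b + 1) ∣ q ^ 2 - 1 := Nat.pow_succ_factorization_not_dvd hne Nat.prime_three
  have hMd : M ∣ q ^ 2 - 1 := Nat.Coprime.mul_dvd_of_dvd_of_dvd (Nat.Coprime.pow _ _ (by norm_num))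
    (Nat.ordProj_dvd _ 2) (Nat.ordProj_dvd _ 3)
  obtain ⟨R, hR⟩ := hMd
  have hR2 : ¬ 2 ∣ R := fun ⟨c, hc⟩ => h2ne ⟨3 ^ b * c, by rw [hR, hM, hc, pow_succ]; ring⟩
  have hR3 : ¬ 3 ∣ R := fun ⟨c, hc⟩ => h3ne ⟨2 ^ a * c, by rw [hR, hM, hc, pow_succ]; ring⟩
  have ha3 : 3 ≤ a := by
    refine (Nat.Prime.pow_dvd_iff_le_factorization Nat.prime_two hne).1 ?_
    rw [hsq]
    have : q % 4 = 1 ∨ q % 4 = 3 := by omega
    rcases this with h | h
    · exact (show 2 ^ 3 = 4 * 2 by norm_num) ▸ Nat.mul_dvd_mul (by omega) (by omega)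
    · exact (show 2 ^ 3 = 2 * 4 by norm_num) ▸ Nat.mul_dvd_mul (by omega) (by omega)
  have hb1 : 1 ≤ b := by
    refine (Nat.Prime.pow_dvd_iff_le_factorization Nat.prime_three hne).1 ?_
    rw [hsq, pow_one, Nat.prime_three.dvd_mul]
    have : q % 3 = 1 ∨ q % 3 = 2 := by
      have := fun h => hq3 (Nat.dvd_of_mod_eq_zero h)
      omega
    omega
  obtain ⟨m, hm⟩ : ∃ m, M = 2 * (2 * m) := ⟨2 ^ (a - 2) * 3 ^ b, by
    rw [hM, show a = a - 2 + 2 by omega, pow_add, Nat.add_sub_cancel]; ring⟩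
  have hm2 : 2 ∣ m := by
    have : 2 ^ 3 ∣ M := Dvd.dvd.mul_right (pow_dvd_pow 2 ha3) _
    omega
  have hm3 : 3 ∣ m := by
    have : 3 ∣ M := Dvd.dvd.mul_left (dvd_pow_self 3 (by omega)) _
    omega
  have hmpos : 0 < m := by
    have : 0 < M := by positivity
    omega
  have hG : Nat.card (Matrix.ProjectiveSpecialLinearGroup (Fin 2) F) = 2 * m * (q * R) := by
    rw [CfsgLib.Classical.card_PSL_two, CfsgLib.Classical.gcd_two_card_sub_one_of_odd (by rw [hqc, Nat.odd_iff]; exact hqodd),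
      hqc, hR, hm]
    rw [show q * (2 * (2 * m) * R) = 2 * (2 * m * (q * R)) by ring, Nat.mul_div_cancel_left _ two_pos]
  have hfin : Finite (Matrix.ProjectiveSpecialLinearGroup (Fin 2) F) := Quotient.finite _
  have hprimes : ∀ r : ℕ, r.Prime → r ∣ 2 * m → r ∈ ({2, 3} : Set ℕ) := by
    intro r hr hd
    have : r ∣ M := hd.trans ⟨2, by omega⟩
    rcases hr.dvd_mul.1 this with h | h
    · exact Or.inl ((Nat.prime_dvd_prime_iff_eq hr Nat.prime_two).1 (hr.dvd_of_dvd_pow h))
    · exact Or.inr ((Nat.prime_dvd_prime_iff_eq hr Nat.prime_three).1 (hr.dvd_of_dvd_pow h))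
  have hqR : ∀ r : ℕ, r.Prime → r ∈ ({2, 3} : Set ℕ) → ¬ r ∣ q * R := by
    intro r hr hmem hd
    rcases hr.dvd_mul.1 hd with h | h <;> rcases hmem with rfl | rfl
    · omega
    · exact hq3 h
    · exact hR2 h
    · exact hR3 h
  have hhall : ∀ H : Subgroup (Matrix.ProjectiveSpecialLinearGroup (Fin 2) F),
      Cfsg.IsPiHall ({2, 3} : Set ℕ) H ↔ Nat.card H = 2 * m := by
    intro H
    have hc := H.card_mul_index
    rw [hG] at hc
    constructor
    · rintro ⟨h1, h2⟩
      refine Nat.dvd_antisymm ?_ ?_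
      · refine (Nat.Coprime.dvd_mul_right ?_).1 (hc ▸ dvd_mul_right _ _)
        exact Nat.coprime_of_dvd fun r hr hr1 hr2 => hqR r hr (h1 r hr hr1) hr2
      · refine (Nat.Coprime.dvd_mul_right ?_).1 (hc.symm ▸ dvd_mul_right _ _)
        exact Nat.coprime_of_dvd fun r hr hr1 hr2 => h2 r hr (hprimes r hr hr1) hr2
    · intro h
      refine ⟨fun r hr hd => hprimes r hr (h ▸ hd), fun r hr hmem hd => hqR r hr hmem ?_⟩
      rw [h] at hc
      rwa [Nat.eq_of_mul_eq_mul_left (by omega) hc] at hd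
  have hodd : Odd (Nat.card F) := by rw [hqc, Nat.odd_iff]; exact hqodd
  set f := Matrix.ProjectiveSpecialLinearGroup.toPGL (n := Fin 2) (R := F)
  have hf : Function.Injective f := Matrix.ProjectiveSpecialLinearGroup.toPGL_injective
  constructor
  · rintro ⟨H, hH⟩
    rw [hhall] at hH
    have hnp : ¬ p ∣ 2 * m := fun h => by
      have := hprimes p hp' h
      simp at this
      omega
    -- an element of order `k` with `k` even
    have horder : ∀ (x : Matrix.ProjectiveSpecialLinearGroup (Fin 2) F) (k : ℕ), orderOf x = k → ¬ p ∣ k →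
        k ∣ (q - 1) / 2 ∨ k ∣ (q + 1) / 2 := by
      intro x k hx hk
      have h := CfsgLib.PSL2.order_dvd (x := x) (p := p) (hx ▸ hk)
      rw [hq, ← hqc, CfsgLib.Classical.gcd_two_card_sub_one_of_odd hodd, hqc, hx] at h
      exact h.symm
    cases CfsgLib.PSL2.dickson_psl (p := p) H with
    | cyclic hc _ =>
      exfalso
      obtain ⟨g, hg⟩ := hc.exists_ofOrder_eq_natCard (α := H)
      rcases horder g (2 * m) (by rw [Subgroup.orderOf_coe, hg, hH]) hnp with ⟨c, hc'⟩ | ⟨c, hc'⟩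
      · have hq4 : q % 4 = 1 := by
          have : (q - 1) / 2 = 2 * (m * c) := by rw [hc']; ring
          omega
        refine h2ne (Dvd.dvd.trans ?_ (show 2 * M ∣ q ^ 2 - 1 from ?_))
        · rw [pow_succ, mul_comm]; exact Nat.mul_dvd_mul_left 2 (dvd_mul_right _ _)
        · rw [hsq]
          exact ⟨c * ((q + 1) / 2), by
            rw [hm, show 2 * (2 * (2 * m)) * (c * ((q + 1) / 2)) = (2 * (2 * m * c)) * (2 * ((q + 1) / 2)) by ring,
              ← hc', show 2 * ((q - 1) / 2) = q - 1 by omega, show 2 * ((q + 1) / 2) = q + 1 by omega]⟩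
      · have hq4 : q % 4 = 3 := by
          have : (q + 1) / 2 = 2 * (m * c) := by rw [hc']; ring
          omega
        refine h2ne (Dvd.dvd.trans ?_ (show 2 * M ∣ q ^ 2 - 1 from ?_))
        · rw [pow_succ, mul_comm]; exact Nat.mul_dvd_mul_left 2 (dvd_mul_right _ _)
        · rw [hsq]
          exact ⟨c * ((q - 1) / 2), by
            rw [hm, show 2 * (2 * (2 * m)) * (c * ((q - 1) / 2)) = (2 * ((q - 1) / 2)) * (2 * (2 * m * c)) by ring,
              ← hc', show 2 * ((q - 1) / 2) = q - 1 by omega, show 2 * ((q + 1) / 2) = q + 1 by omega]⟩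
    | dihedral r _ k hk _ hpk hcard _ =>
      have hkm : k = m := by omega
      rcases horder r k hk hpk with ⟨c, hc⟩ | ⟨c, hc⟩
      · left
        obtain ⟨u, hu⟩ := hm3
        obtain ⟨v, hv⟩ := hm2
        have h3' : (q - 1) / 2 = 3 * (u * c) := by rw [hc, hkm, hu]; ring
        have h2' : (q - 1) / 2 = 2 * (v * c) := by rw [hc, hkm, hv]; ring
        exact ⟨by omega, by omega⟩
      · right; left
        obtain ⟨u, hu⟩ := hm3
        obtain ⟨v, hv⟩ := hm2
        have h3' : (q + 1) / 2 = 3 * (u * c) := by rw [hc, hkm, hu]; ring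
        have h2' : (q + 1) / 2 = 2 * (v * c) := by rw [hc, hkm, hv]; ring
        exact ⟨by omega, by omega⟩
    | borel P hpH _ => exact absurd (hH ▸ hpH) hnp
    | tetra _ iso =>
      right; right; left
      rw [Nat.card_congr iso.some.toEquiv, CfsgLib.PSL2.card_alt_four] at hH
      omega
    | octa _ iso =>
      right; right; right
      rw [Nat.card_congr iso.some.toEquiv, CfsgLib.PSL2.card_perm_four] at hH
      omega
    | icosa _ iso =>
      exfalso
      rw [Nat.card_congr iso.some.toEquiv, CfsgLib.PSL2.card_alt_five] at hH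
      have := hprimes 5 (by norm_num) ⟨12, by omega⟩
      simp at this
    | subfield K iso =>
      exfalso
      refine hnp (hH ▸ ?_)
      obtain ⟨n, -, hK⟩ := @FiniteField.card' K _ (Fintype.ofFinite K)
      haveI : CharP K p := inferInstance
      have hpK : p ∣ Nat.card K := by
        haveI := Fintype.ofFinite K
        obtain ⟨n, -, hK⟩ := FiniteField.card K p
        rw [Nat.card_eq_fintype_card, hK]
        exact dvd_pow_self p n.ne_zero
      rcases iso with h | ⟨-, h⟩
      · rw [Nat.card_congr h.some.toEquiv, CfsgLib.PSL2.card_pgl_two rfl]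
        exact Dvd.dvd.mul_left (Dvd.dvd.mul_right hpK _) _
      · have h2 := CfsgLib.Classical.card_PSL_two_mul (F := K)
        have hdiv : p ∣ Nat.gcd 2 (Nat.card K - 1) * Nat.card H := by
          rw [Nat.card_congr h.some.toEquiv, h2]
          exact Dvd.dvd.mul_right hpK _
        refine (hp'.dvd_mul.1 hdiv).resolve_left fun h' => ?_
        have := Nat.le_of_dvd two_pos (h'.trans (Nat.gcd_dvd_left _ _))
        omega
  · intro h
    simp only [hhall]
    rcases h with ⟨h3, h4⟩ | ⟨h3, h4⟩ | h | h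
    · refine exists_dihedral p hodd (by omega) ((q - 1) / 2) m (by omega) ?_ (Or.inl (by rw [hqc]))
      have hcop : Nat.Coprime M ((q + 1) / 2) := by
        refine Nat.Coprime.mul_left (Nat.Coprime.pow_left _ ((Nat.prime_two.coprime_iff_not_dvd).2 (by omega)))
          (Nat.Coprime.pow_left _ ((Nat.prime_three.coprime_iff_not_dvd).2 (by omega)))
      have hd : M ∣ (2 * (q - 1)) * ((q + 1) / 2) := ⟨R, by
        rw [← hR, hsq, show 2 * (q - 1) * ((q + 1) / 2) = (q - 1) * (2 * ((q + 1) / 2)) by ring,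
          show 2 * ((q + 1) / 2) = q + 1 by omega]⟩
      have h' := hcop.dvd_of_dvd_mul_right hd
      rw [hm, show 2 * (q - 1) = 2 * (2 * ((q - 1) / 2)) by omega] at h'
      exact Nat.dvd_of_mul_dvd_mul_left two_pos (Nat.dvd_of_mul_dvd_mul_left two_pos h')
    · refine exists_dihedral p hodd (by omega) ((q + 1) / 2) m (by omega) ?_ (Or.inr (by rw [hqc]))
      have hcop : Nat.Coprime M ((q - 1) / 2) := by
        refine Nat.Coprime.mul_left (Nat.Coprime.pow_left _ ((Nat.prime_two.coprime_iff_not_dvd).2 (by omega)))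
          (Nat.Coprime.pow_left _ ((Nat.prime_three.coprime_iff_not_dvd).2 (by omega)))
      have hd : M ∣ (2 * (q + 1)) * ((q - 1) / 2) := ⟨R, by
        rw [← hR, hsq, show 2 * (q + 1) * ((q - 1) / 2) = (2 * ((q - 1) / 2)) * (q + 1) by ring,
          show 2 * ((q - 1) / 2) = q - 1 by omega]⟩
      have h' := hcop.dvd_of_dvd_mul_right hd
      rw [hm, show 2 * (q + 1) = 2 * (2 * ((q + 1) / 2)) by omega] at h'
      exact Nat.dvd_of_mul_dvd_mul_left two_pos (Nat.dvd_of_mul_dvd_mul_left two_pos h')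
    · obtain ⟨X, hX, ⟨e⟩⟩ := CfsgLib.PSL2.exists_alt_four (F := F) hodd
      refine ⟨X.comap f, ?_⟩
      rw [Nat.card_congr (((X.comap f).equivMapOfInjective f hf).trans
        ((MulEquiv.subgroupCongr (Subgroup.map_comap_eq_self hX)).trans e)).toEquiv, CfsgLib.PSL2.card_alt_four]
      omega
    · have h8 : Nat.card F % 8 = 1 ∨ Nat.card F % 8 = 7 := by
        rw [hqc]
        have h16 : 16 ∣ q ^ 2 - 1 := ⟨3 * R, by rw [hR, h]; ring⟩
        have hmod : q ^ 2 % 16 = 1 := by omega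
        rw [Nat.pow_mod] at hmod
        have : q % 16 < 16 := Nat.mod_lt _ (by norm_num)
        interval_cases hr : q % 16 <;> simp at hmod <;> omega
      obtain ⟨X, hX, ⟨e⟩⟩ := CfsgLib.PSL2.exists_perm_four (F := F) hodd h8
      refine ⟨X.comap f, ?_⟩
      rw [Nat.card_congr (((X.comap f).equivMapOfInjective f hf).trans
        ((MulEquiv.subgroupCongr (Subgroup.map_comap_eq_self hX)).trans e)).toEquiv, CfsgLib.PSL2.card_perm_four]
      omega

end Cfsg.Agent.S2537
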