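import Cfsg.Statements.S2540
import Cfsg.Agent.Lib.Classical.PSLSimple
-- import your own Cfsg.Agent.* helpers here

set_option autoImplicit false
open Cfsg

set_option maxHeartbeats 1000000
open scoped commutatorElement

namespace Cfsg.Agent.S2540

/-- Let F be a finite field and n ≥ 1, excluding the case n = 2 with #F ≤ 3. A subgroup of GL_n(F) that is normalized by every element of SL_n(F) either consists of scalar matrices or contains SL_n(F). -/
theorem result {F : Type*} [Field F] [Fintype F] (n : ℕ) (hn : 1 ≤ n) (hex : ¬ (n = 2 ∧ Fintype.card F ≤ 3)) (G : Subgroup (Matrix.GeneralLinearGroup (Fin n) F)) (hG : ∀ s : Matrix.SpecialLinearGroup (Fin n) F, ∀ g ∈ G, (Matrix.SpecialLinearGroup.toGL s) * g * (Matrix.SpecialLinearGroup.toGL s)⁻¹ ∈ G) : (∀ g ∈ G, ∃ c : F, (g : Matrix (Fin n) (Fin n) F) = c • (1 : Matrix (Fin n) (Fin n) F)) ∨ (Matrix.SpecialLinearGroup.toGL : Matrix.SpecialLinearGroup (Fin n) F →* _).range ≤ G :=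 by
  rcases eq_or_lt_of_le hn with rfl | hn2
  · refine Or.inl fun g _ => ⟨(g : Matrix (Fin 1) (Fin 1) F) 0 0, ?_⟩
    ext i j
    rw [Subsingleton.elim i 0, Subsingleton.elim j 0]
    simp
  have : Nontrivial (Fin n) := Fin.nontrivial_iff_two_le.2 hn2
  have hperf := CfsgLib.Classical.SL_fin_commutator_eq_top (F := F) n hn2 (fun h => by
    rw [Nat.card_eq_fintype_card]
    have : ¬ Fintype.card F ≤ 3 := fun h' => hex ⟨h, h'⟩
    omega)
  set ι : Matrix.SpecialLinearGroup (Fin n) F →* GL (Fin n) F := Matrix.SpecialLinearGroup.toGL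
  have hN : (G.comap ι).Normal := ⟨fun x hx s => by
    rw [Subgroup.mem_comap, map_mul, map_mul, map_inv]
    exact hG s _ hx⟩
  rcases CfsgLib.Classical.normal_SL_le_center_or_eq_top hperf (G.comap ι) with h | h
  swap
  · refine Or.inr ?_
    rintro _ ⟨s, rfl⟩
    have : s ∈ G.comap ι := h ▸ Subgroup.mem_top s
    exact this
  refine Or.inl fun g hg => ?_
  have hc : ∀ s, ∃ z ∈ Subgroup.center (Matrix.SpecialLinearGroup (Fin n) F), ι z = ι s * g * (ι s)⁻¹ * g⁻¹ := by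
    intro s
    have hm : ι s * g * (ι s)⁻¹ * g⁻¹ ∈ G := mul_mem (hG s g hg) (inv_mem hg)
    have hdet : ((ι s * g * (ι s)⁻¹ * g⁻¹ : GL (Fin n) F) : Matrix (Fin n) (Fin n) F).det = 1 := by
      change ((Matrix.GeneralLinearGroup.det (ι s * g * (ι s)⁻¹ * g⁻¹) : Fˣ) : F) = 1
      have h1 : Matrix.GeneralLinearGroup.det (ι s) = 1 := Units.ext s.2
      rw [map_mul, map_mul, map_mul, map_inv, map_inv, h1]
      simp
    let z : Matrix.SpecialLinearGroup (Fin n) F := ⟨_, hdet⟩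
    have hzeq : ι z = ι s * g * (ι s)⁻¹ * g⁻¹ := Units.ext rfl
    exact ⟨z, h (show ι z ∈ G by rw [hzeq]; exact hm), hzeq⟩
  choose z hz hzι using hc
  have hinj : Function.Injective ι := Matrix.SpecialLinearGroup.toGL_injective
  have hconj : ∀ s, g * ι s * g⁻¹ = ι ((z s)⁻¹ * s) := fun s => by
    rw [map_mul, map_inv, hzι]
    group
  have hcz : ∀ {H : Type _} [Group H] (a b s t : H), (∀ x, a * x = x * a) → (∀ x, b * x = x * b) →
      a * s * (b * t) * (a * s)⁻¹ * (b * t)⁻¹ = s * t * s⁻¹ * t⁻¹ := by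
    intro H _ a b s t ha hb
    rw [ha s, hb t, mul_inv_rev (s), mul_inv_rev (t), ← hb t]
    calc s * a * (b * t) * (a⁻¹ * s⁻¹) * (b⁻¹ * t⁻¹)
        = s * (a * (b * t)) * a⁻¹ * s⁻¹ * b⁻¹ * t⁻¹ := by group
      _ = s * ((b * t) * a) * a⁻¹ * s⁻¹ * b⁻¹ * t⁻¹ := by rw [ha]
      _ = s * (b * (t * s⁻¹)) * b⁻¹ * t⁻¹ := by group
      _ = s * ((t * s⁻¹) * b) * b⁻¹ * t⁻¹ := by rw [hb]
      _ = s * t * s⁻¹ * t⁻¹ := by group
  have hcomm : ∀ s, ι s * g = g * ι s := by
    have hle : commutator (Matrix.SpecialLinearGroup (Fin n) F) ≤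
        (Subgroup.centralizer ({g} : Set (GL (Fin n) F))).comap ι := by
      rw [commutator_eq_closure, Subgroup.closure_le]
      rintro _ ⟨s, t, rfl⟩
      rw [SetLike.mem_coe, Subgroup.mem_comap, Subgroup.mem_centralizer_singleton_iff]
      have h1 : g * ι ⁅s, t⁆ * g⁻¹ = ι ⁅s, t⁆ := by
        calc g * ι ⁅s, t⁆ * g⁻¹ = (g * ι s * g⁻¹) * (g * ι t * g⁻¹) * (g * ι s * g⁻¹)⁻¹ * (g * ι t * g⁻¹)⁻¹ := by
              rw [map_commutatorElement, commutatorElement_def]; group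
          _ = ι ((z s)⁻¹ * s * ((z t)⁻¹ * t) * ((z s)⁻¹ * s)⁻¹ * ((z t)⁻¹ * t)⁻¹) := by
              rw [hconj, hconj, map_mul ι _ ((z t)⁻¹ * t)⁻¹, map_mul ι _ ((z s)⁻¹ * s)⁻¹, map_mul ι ((z s)⁻¹ * s), map_inv ι ((z t)⁻¹ * t), map_inv ι ((z s)⁻¹ * s)]
          _ = ι ⁅s, t⁆ := by
              rw [hcz _ _ s t (fun x => (Subgroup.mem_center_iff.1 (inv_mem (hz s)) x).symm)
                (fun x => (Subgroup.mem_center_iff.1 (inv_mem (hz t)) x).symm), commutatorElement_def]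
      rw [mul_inv_eq_iff_eq_mul] at h1
      exact h1.symm
    intro s
    exact Subgroup.mem_centralizer_singleton_iff.1 (hle (hperf.symm ▸ Subgroup.mem_top s))
  obtain ⟨c, hc⟩ := Matrix.mem_range_scalar_of_commute_transvectionStruct (M := (g : Matrix (Fin n) (Fin n) F))
    fun t => congrArg Units.val (hcomm ⟨t.toMatrix, by simp⟩)
  exact ⟨c, by rw [← hc, Matrix.scalar_apply, Matrix.smul_one_eq_diagonal]⟩

end Cfsg.Agent.S2540
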