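import Cfsg.Statements.S2541
import Cfsg.Agent.Lib.Recog.ProjSpectrum
import Cfsg.Agent.Lib.Recog.AltSpectrum
-- import your own Cfsg.Agent.* helpers here

set_option autoImplicit false
open Cfsg

namespace Cfsg.Agent.S2541

/-- Let F be a field with 9 elements. The symmetric group S_6 is not isomorphic to PGL_2(F) (although both have index-2 subgroups isomorphic to A_6). -/
theorem result {F : Type*} [Field F] [Fintype F] (hF : Fintype.card F = 9) : ¬ Nonempty (Equiv.Perm (Fin 6) ≃* Matrix.ProjGenLinGroup (Fin 2) F) := by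
  rintro ⟨e⟩
  obtain ⟨p, hpc⟩ := CharP.exists F
  obtain ⟨k, hp, hk⟩ := FiniteField.card F p
  haveI : Fact p.Prime := ⟨hp⟩
  obtain ⟨g, hg⟩ := CfsgLib.Recog.exists_orderOf_eq_card_add_one_PGL (F := F) p
  have h : orderOf (e.symm g) = 10 :=
    (MulEquiv.orderOf_eq e.symm g).trans (hg.trans (by rw [hF]))
  rw [CfsgLib.Recog.orderOf_eq_lcm_partition] at h
  set P := (e.symm g).partition
  have hsum : P.parts.sum = 6 := by rw [P.parts_sum, Fintype.card_fin]
  obtain ⟨l, hl, hls⟩ := CfsgLib.Recog.exists_mem_allParts 6 6 P.parts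
    (fun i hi => ⟨P.parts_pos hi, (Multiset.le_sum_of_mem hi).trans_eq hsum⟩) hsum
  rw [← hls] at h
  have key : ∀ l ∈ CfsgLib.Recog.allParts 6 6, (l : Multiset ℕ).lcm ≠ 10 := by decide +kernel
  exact key l hl h

end Cfsg.Agent.S2541
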