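import Cfsg.Statements.S2542
import Cfsg.Agent.Lib.KnownB.PSLEleven
import Cfsg.Agent.Lib.Classical.PermModels
import Cfsg.Agent.Lib.Classical.Order
-- import your own Cfsg.Agent.* helpers here

set_option autoImplicit false
open Cfsg

set_option maxHeartbeats 1000000

namespace Cfsg.Agent.S2542

/-- Let F be a field with 11 elements. PSL_2(F) has a subgroup H of index 11 isomorphic to the alternating group A_5, and the action of PSL_2(F) on the cosets of H is 2-transitive (of degree 11). -/
theorem result {F : Type*} [Field F] [Fintype F] (hF : Fintype.card F = 11) : ∃ H : Subgroup (Matrix.ProjectiveSpecialLinearGroup (Fin 2) F), H.index = 11 ∧ Nonempty (H ≃* alternatingGroup (Fin 5)) ∧ MulAction.IsMultiplyPretransitive (Matrix.ProjectiveSpecialLinearGroup (Fin 2) F) ((Matrix.ProjectiveSpecialLinearGroup (Fin 2) F) ⧸ H) 2 := by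
  classical
  obtain ⟨φ0, hφ0⟩ := CfsgLib.KnownB.PSLEleven.exists_hom
  have : Fact (Nat.Prime 11) := ⟨by norm_num⟩
  obtain ⟨e⟩ := CfsgLib.Classical.nonempty_PSL_congr (ι := Fin 2) (ZMod.ringEquivOfPrime F (show Nat.Prime 11 by norm_num) hF)
  let φ := e.toMonoidHom.comp φ0
  have hφ : Function.Injective φ := e.injective.comp hφ0
  set H := φ.range with hHdef
  let eH : H ≃* alternatingGroup (Fin 5) := (MonoidHom.ofInjective hφ).symm
  have hA : Nat.card (alternatingGroup (Fin 5)) = 60 := by
    rw [nat_card_alternatingGroup, Nat.card_fin]; rfl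
  have hH : Nat.card H = 60 := by rw [Nat.card_congr eH.toEquiv, hA]
  have hG : Nat.card (Matrix.ProjectiveSpecialLinearGroup (Fin 2) F) = 660 := by
    rw [CfsgLib.Classical.card_PSL_two, Nat.card_eq_fintype_card (α := F), hF]; rfl
  have hind : H.index = 11 := by
    have := H.card_mul_index
    rw [hH, hG] at this
    omega
  have hsimp : IsSimpleGroup (Matrix.ProjectiveSpecialLinearGroup (Fin 2) F) :=
    Matrix.ProjectiveSpecialLinearGroup.rank_two_simple (by rw [Nat.card_eq_fintype_card, hF]; norm_num)
  refine ⟨H, hind, ⟨eH⟩, ?_⟩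
  have hnorm : Subgroup.normalizer (H : Set (Matrix.ProjectiveSpecialLinearGroup (Fin 2) F)) = H := by
    have hle := Subgroup.le_normalizer (H := H)
    have h := Subgroup.relIndex_mul_index hle
    rw [hind] at h
    rcases (Nat.dvd_prime (show Nat.Prime 11 by norm_num)).1 ⟨_, (mul_comm _ _).trans h |>.symm⟩ with h1 | h1
    · exfalso
      have : H.Normal := Subgroup.normalizer_eq_top_iff.1 (Subgroup.index_eq_one.1 h1)
      rcases hsimp.eq_bot_or_eq_top_of_normal H this with h2 | h2 <;> simp [h2] at hH hind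
    · refine le_antisymm (Subgroup.relIndex_eq_one.1 ?_) hle
      rw [h1] at h
      omega
  have hA5 : ∀ K : Subgroup H, K.index ≤ 4 → K.index = 1 := by
    intro K hK
    by_contra hne
    have : IsSimpleGroup (alternatingGroup (Fin 5)) := alternatingGroup.isSimpleGroup (by simp)
    have : Nontrivial H := eH.toEquiv.nontrivial
    have : IsSimpleGroup H := IsSimpleGroup.isSimpleGroup_of_surjective eH.symm.toMonoidHom eH.symm.surjective
    have hK1 : K ≠ ⊤ := fun h => hne (by rw [h, Subgroup.index_top])
    have hcore : K.normalCore = ⊥ := (IsSimpleGroup.eq_bot_or_eq_top_of_normal K.normalCore inferInstance).resolve_right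
      fun h => hK1 (top_unique (h ▸ K.normalCore_le))
    have hinj : Function.Injective (MulAction.toPermHom H (H ⧸ K)) := by
      rw [← MonoidHom.ker_eq_bot_iff, ← Subgroup.normalCore_eq_ker, hcore]
    have := Nat.card_le_card_of_injective _ hinj
    rw [hH, Nat.card_perm, ← Subgroup.index_eq_card] at this
    have := this.trans (Nat.factorial_le hK)
    simp [Nat.factorial] at this
  let p0 : Matrix.ProjectiveSpecialLinearGroup (Fin 2) F ⧸ H := ((1 : Matrix.ProjectiveSpecialLinearGroup (Fin 2) F) : _ ⧸ H)
  have hstab : MulAction.stabilizer (Matrix.ProjectiveSpecialLinearGroup (Fin 2) F) p0 = H := MulAction.stabilizer_quotient H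
  have hX : Nat.card (Matrix.ProjectiveSpecialLinearGroup (Fin 2) F ⧸ H) = 11 := by
    rw [← Subgroup.index_eq_card, hind]
  have hfix : ∀ h : H, (h : Matrix.ProjectiveSpecialLinearGroup (Fin 2) F) • p0 = p0 := fun h =>
    MulAction.mem_stabilizer_iff.1 (hstab.symm ▸ h.2)
  -- orbits of `H` off the point are not small
  have hbig : ∀ x, x ≠ p0 → 5 ≤ Nat.card (MulAction.orbit H x) := by
    intro x hx
    by_contra hlt
    have h1 := hA5 (MulAction.stabilizer H x) (by
      rw [MulAction.index_stabilizer]; exact (show Nat.card (MulAction.orbit H x) ≤ 4 by omega))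
    rw [Subgroup.index_eq_one] at h1
    obtain ⟨g, rfl⟩ := QuotientGroup.mk_surjective x
    apply hx
    have hg : ∀ h ∈ H, g⁻¹ * h * g ∈ H := fun h hh => by
      have h2 : (⟨h, hh⟩ : H) ∈ MulAction.stabilizer H (g : Matrix.ProjectiveSpecialLinearGroup (Fin 2) F ⧸ H) := h1 ▸ Subgroup.mem_top _
      have h3 : ((h * g : Matrix.ProjectiveSpecialLinearGroup (Fin 2) F) : Matrix.ProjectiveSpecialLinearGroup (Fin 2) F ⧸ H) = g := h2
      have := QuotientGroup.eq.1 h3.symm
      simpa [mul_assoc] using this
    have hg' : g⁻¹ ∈ Subgroup.normalizer (H : Set (Matrix.ProjectiveSpecialLinearGroup (Fin 2) F)) := by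
      rw [Subgroup.mem_normalizer_iff]
      intro a
      refine ⟨fun ha => by simpa using hg a ha, fun ha => ?_⟩
      have hmap : H.map (MulAut.conj g⁻¹).toMonoidHom = H := by
        refine Subgroup.eq_of_le_of_card_ge (fun b hb => ?_) ?_
        · obtain ⟨c, hc, rfl⟩ := hb
          simpa using hg c hc
        · rw [Subgroup.card_map_of_injective (MulAut.conj g⁻¹).injective]
      have : g⁻¹ * a * g⁻¹⁻¹ ∈ H.map (MulAut.conj g⁻¹).toMonoidHom := hmap.symm ▸ ha
      obtain ⟨c, hc, hca⟩ := this
      have : c = a := by simpa using hca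
      exact this ▸ hc
    rw [hnorm] at hg'
    exact QuotientGroup.eq.2 (by simpa using hg')
  -- an involution moving the point
  obtain ⟨u, hu⟩ := exists_prime_orderOf_dvd_card' (G := Matrix.ProjectiveSpecialLinearGroup (Fin 2) F) 2 (by rw [hG]; norm_num)
  obtain ⟨g, hgu⟩ : ∃ g, g⁻¹ * u * g ∉ H := by
    by_contra hcon
    push Not at hcon
    have hle : Subgroup.normalClosure {u} ≤ H := by
      rw [Subgroup.normalClosure, Subgroup.closure_le]
      intro a ha
      rw [Group.mem_conjugatesOfSet_iff] at ha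
      obtain ⟨b, rfl, hb⟩ := ha
      obtain ⟨c, rfl⟩ := isConj_iff.1 hb
      simpa using hcon c⁻¹
    rcases hsimp.eq_bot_or_eq_top_of_normal _ (Subgroup.normalClosure_normal (s := {u})) with h | h
    · have : u ∈ (⊥ : Subgroup _) := h ▸ Subgroup.subset_normalClosure rfl
      rw [Subgroup.mem_bot] at this
      rw [this, orderOf_one] at hu
      omega
    · rw [h, top_le_iff] at hle
      simp [hle] at hind
  obtain ⟨t, ht2, htH⟩ : ∃ t : Matrix.ProjectiveSpecialLinearGroup (Fin 2) F, t * t = 1 ∧ t ∉ H := by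
    refine ⟨g⁻¹ * u * g, ?_, hgu⟩
    have hu2 := pow_orderOf_eq_one u
    rw [hu, pow_two] at hu2
    calc (g⁻¹ * u * g) * (g⁻¹ * u * g) = g⁻¹ * (u * u) * g := by group
      _ = 1 := by rw [hu2]; group
  set y := t • p0 with hy
  have hy0 : y ≠ p0 := fun h => htH (hstab ▸ MulAction.mem_stabilizer_iff.2 h)
  have hty : t • y = p0 := by rw [hy, ← mul_smul, ht2, one_smul]
  have horb : MulAction.orbit H y = {p0}ᶜ := by
    have hsub : MulAction.orbit H y ⊆ {p0}ᶜ := by
      rintro _ ⟨h, rfl⟩ he
      apply hy0
      have he' : (h : Matrix.ProjectiveSpecialLinearGroup (Fin 2) F) • y = p0 := he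
      rw [← hfix h] at he'
      exact MulAction.injective _ he'
    refine Set.eq_of_subset_of_ncard_le hsub ?_
    rw [Set.ncard_compl, Set.ncard_singleton, hX, ← Nat.card_coe_set_eq]
    by_contra hlt
    have hco : Nat.card (MulAction.orbit H y) = (MulAction.stabilizer H y).index := (MulAction.index_stabilizer ..).symm
    have hmul := (MulAction.stabilizer H y).card_mul_index
    rw [hH, ← hco] at hmul
    have h5 := hbig y hy0
    have hle4 : ∀ o, 5 ≤ o → o < 11 - 1 → o ∣ 60 → o = 5 ∨ o = 6 := by
      intro o h1 h2 h3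
      clear! hmul
      interval_cases o
      · exact Or.inl rfl
      · exact Or.inr rfl
      all_goals exact absurd h3 (by decide)
    rcases hle4 _ h5 (by omega) ⟨_, (mul_comm _ _).trans hmul |>.symm⟩ with ho | ho
    · -- order-12 pair stabilizer normalised by `t`
      set K := (MulAction.stabilizer H y).map H.subtype with hKdef
      have hK : Nat.card K = 12 := by
        rw [hKdef, Subgroup.card_map_of_injective H.subtype_injective]
        rw [ho] at hmul
        omega
      have hKiff : ∀ a, a ∈ K ↔ a • p0 = p0 ∧ a • y = y := by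
        intro a
        constructor
        · rintro ⟨b, hb, rfl⟩
          exact ⟨hfix b, hb⟩
        · rintro ⟨h1, h2⟩
          exact ⟨⟨a, hstab ▸ MulAction.mem_stabilizer_iff.2 h1⟩, h2, rfl⟩
      have htinv : t⁻¹ = t := inv_eq_of_mul_eq_one_right ht2
      have htN : t ∈ Subgroup.normalizer (K : Set (Matrix.ProjectiveSpecialLinearGroup (Fin 2) F)) := by
        rw [Subgroup.mem_normalizer_iff]
        intro a
        have hfor : ∀ a ∈ K, t * a * t⁻¹ ∈ K := by
          intro a ha
          obtain ⟨h1, h2⟩ := (hKiff a).1 ha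
          rw [hKiff, htinv, mul_smul, mul_smul, mul_smul, mul_smul, ← hy, hty, h1, h2, ← hy, hty]
          exact ⟨rfl, rfl⟩
        refine ⟨hfor a, fun h => ?_⟩
        have := hfor _ h
        rw [htinv] at this
        simpa [← mul_assoc, ht2, mul_assoc a] using this
      set N := Subgroup.normalizer (K : Set (Matrix.ProjectiveSpecialLinearGroup (Fin 2) F))
      have hKN : K ≤ N := Subgroup.le_normalizer
      have h1 : 2 ∣ Nat.card (N ⧸ K.subgroupOf N) := by
        have hne : ((⟨t, htN⟩ : N) : N ⧸ K.subgroupOf N) ≠ 1 := by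
          rw [ne_eq, QuotientGroup.eq_one_iff, Subgroup.mem_subgroupOf]
          intro h
          exact hy0 (((hKiff t).1 h).1)
        have h2 : orderOf ((⟨t, htN⟩ : N) : N ⧸ K.subgroupOf N) = 2 :=
          orderOf_eq_prime (by rw [pow_two, ← QuotientGroup.mk_mul, QuotientGroup.eq_one_iff, Subgroup.mem_subgroupOf]; simp [ht2]) hne
        exact h2.symm.dvd.trans (orderOf_dvd_natCard _)
      have h2 := Subgroup.card_eq_card_quotient_mul_card_subgroup (K.subgroupOf N)
      rw [Nat.card_congr (Subgroup.subgroupOfEquivOfLe hKN).toEquiv, hK] at h2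
      have h3 := hG ▸ Subgroup.card_subgroup_dvd_card N
      rw [h2] at h3
      obtain ⟨d, hd⟩ := h1
      rw [hd] at h3
      obtain ⟨c, hc⟩ := h3
      have : 660 = 24 * (d * c) := by rw [hc]; ring
      omega
    · -- an orbit of size `6` leaves too few points
      obtain ⟨z, hz0, hz⟩ : ∃ z, z ≠ p0 ∧ z ∉ MulAction.orbit H y := by
        by_contra hcon
        push Not at hcon
        have h7 := Set.ncard_le_ncard (show ({p0}ᶜ : Set _) ⊆ MulAction.orbit H y from fun z hz => hcon z hz)
        rw [Set.ncard_compl, Set.ncard_singleton, hX, ← Nat.card_coe_set_eq] at h7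
        omega
      have hdis : Disjoint (MulAction.orbit H y) (MulAction.orbit H z) := by
        rw [Set.disjoint_left]
        intro w hw hw'
        exact hz (by rw [← MulAction.orbit_eq_iff.2 hw, MulAction.orbit_eq_iff.2 hw']; exact MulAction.mem_orbit_self z)
      have hsub2 : MulAction.orbit H y ∪ MulAction.orbit H z ⊆ {p0}ᶜ := by
        refine Set.union_subset hsub ?_
        rintro _ ⟨h, rfl⟩ he
        apply hz0
        have he' : (h : Matrix.ProjectiveSpecialLinearGroup (Fin 2) F) • z = p0 := he
        rw [← hfix h] at he'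
        exact MulAction.injective _ he'
      have h7 := Set.ncard_le_ncard hsub2
      rw [Set.ncard_union_eq hdis, Set.ncard_compl, Set.ncard_singleton, hX, ← Nat.card_coe_set_eq, ← Nat.card_coe_set_eq] at h7
      have := hbig z hz0
      omega
  rw [MulAction.is_two_pretransitive_iff]
  intro a b c d hab hcd
  obtain ⟨g1, hg1⟩ := MulAction.exists_smul_eq (Matrix.ProjectiveSpecialLinearGroup (Fin 2) F) a p0
  obtain ⟨g2, hg2⟩ := MulAction.exists_smul_eq (Matrix.ProjectiveSpecialLinearGroup (Fin 2) F) c p0
  have hb : g1 • b ∈ MulAction.orbit H y := by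
    rw [horb]; exact fun h => hab (MulAction.injective g1 (hg1.trans h.symm))
  have hd : g2 • d ∈ MulAction.orbit H y := by
    rw [horb]; exact fun h => hcd (MulAction.injective g2 (hg2.trans h.symm))
  rw [← MulAction.orbit_eq_iff.2 hb] at hd
  obtain ⟨h, hh⟩ := hd
  refine ⟨g2⁻¹ * h * g1, ?_, ?_⟩
  · rw [mul_smul, mul_smul, hg1, hfix, ← hg2, inv_smul_smul]
  · have hh' : (h : Matrix.ProjectiveSpecialLinearGroup (Fin 2) F) • g1 • b = g2 • d := hh
    rw [mul_smul, mul_smul, hh', inv_smul_smul]

end Cfsg.Agent.S2542
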