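import Cfsg.Statements.S2543
import Cfsg.Agent.Lib.KnownB.PSLEleven
import Cfsg.Agent.Lib.Classical.Order
import Cfsg.Agent.Lib.Classical.PermModels

set_option autoImplicit false
open scoped Pointwise
open Cfsg CfsgLib.KnownB.PSLEleven

set_option maxHeartbeats 1000000
set_option maxRecDepth 100000

namespace Cfsg.Agent.S2543

abbrev Q := ZMod 11 × ZMod 11 × ZMod 11 × ZMod 11

def qm : Q → Q → Q := fun (a, b, c, d) (e, f, g, h) => (a*e + b*g, a*f + b*h, c*e + d*g, c*f + d*h)
def qi : Q → Q := fun (a, b, c, d) => (d, -b, -c, a)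
def qdet : Q → ZMod 11 := fun (a, b, c, d) => a*d - b*c
def q1 : Q := (1, 0, 0, 1)
def qz : Q := (10, 0, 0, 10)
def qA : Q := (0, 10, 1, 0)
def qB : Q := (0, 8, 4, 1)
def pm (q : Q) : Bool := q == q1 || q == qz
def back (q : Q) : Q := qm (qm (6, 5, 6, 6) q) (1, 1, 10, 1)
def W : List Q := [(1, 3, 3, 10), (0, 3, 7, 0), (2, 4, 5, 5), (2, 3, 9, 3), (1, 5, 1, 6), (0, 4, 8, 0), (0, 2, 5, 0), (0, 5, 2, 0), (1, 3, 4, 2), (0, 1, 10, 0), (0, 4, 8, 4), (1, 4, 3, 2), (0, 2, 5, 2), (0, 3, 7, 3), (0, 5, 2, 5), (2, 2, 6, 1), (1, 1, 4, 5), (2, 0, 9, 6), (0, 1, 10, 1), (1, 0, 10, 1), (1, 4, 7, 7), (0, 2, 5, 4), (1, 4, 1, 5), (2, 5, 5, 2), (1, 5, 3, 5), (0, 1, 10, 2), (0, 5, 2, 10), (0, 4, 8, 8), (2, 2, 2, 8), (0, 3, 7, 6), (0, 1, 10, 3), (1, 2, 7, 4), (0, 5, 2, 4), (0, 2, 5, 6), (0, 4, 8, 1), (1, 9, 1, 10), (2, 5, 9, 1), (2, 0, 5, 6), (0, 3, 7, 9), (1, 0, 8, 1), (0, 3, 7, 1), (2, 2, 9, 4), (0, 4, 8, 5), (0, 5, 2, 9), (0, 1, 10, 4), (1, 1, 8, 9), (2, 6, 5, 10), (1, 3,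 1, 4), (0, 2, 5, 8), (1, 0, 7, 1), (2, 1, 5, 3), (0, 4, 8, 9), (1, 4, 4, 6), (1, 2, 8, 6), (2, 4, 2, 10), (0, 2, 5, 10), (0, 1, 10, 5), (0, 3, 7, 4), (1, 8, 1, 9), (0, 5, 2, 3), (2, 7, 5, 7), (0, 4, 8, 2), (1, 2, 4, 9), (1, 3, 8, 3), (2, 1, 2, 7), (0, 2, 5, 1), (0, 1, 10, 6), (0, 3, 7, 7), (1, 2, 1, 3), (0, 5, 2, 8), (0, 3, 7, 10), (2, 4, 9, 2), (0, 4, 8, 6), (0, 5, 2, 2), (0, 1, 10, 7), (1, 4, 8, 0), (2, 2, 5, 0), (1, 7, 1, 8), (0, 2, 5, 3), (1, 0, 4, 1), (0, 1, 10, 8), (1, 3, 7, 0), (0, 5, 2, 7), (0, 2, 5, 5), (0, 4, 8, 10), (1, 1, 1, 2), (2, 1, 9, 5), (2, 0, 6, 6), (0, 3, 7, 2), (1, 0, 3, 1), (1, 1, 7, 8), (0, 2, 5, 7), (1, 6, 1, 7), (2, 3, 5, 8), (1, 1, 3, 4), (0, 1, 10, 9), (0, 5, 2, 1), (0, 4, 8, 3), (2, 3, 2, 9), (0, 3, 7, 5), (0, 4, 8, 7), (1, 2, 3, 7), (0, 2, 5, 9), (0, 3, 7, 8), (0, 5, 2, 6), (2, 1, 6, 9), (1, 5, 4, 10), (2, 0, 2, 6), (0, 1, 10, 10), (1, 0, 1, 1)]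
def Cs : List Q := [(0, 1, 10, 0), (0, 10, 1, 0), (1, 0, 0, 1), (3, 5, 6, 3), (3, 6, 5, 3), (5, 3, 8, 5), (5, 8, 3, 5), (6, 3, 8, 6), (6, 8, 3, 6), (8, 5, 6, 8), (8, 6, 5, 8), (10, 0, 0, 10)]
def inL (q : Q) : Bool := (L.map Prod.fst).elem q
def cj (g q : Q) : Q := qm (qm g q) (qi g)
def allQ (f : Q → Bool) : Bool :=
  let l : List (ZMod 11) := List.finRange 11
  l.all fun a => l.all fun b => l.all fun c => l.all fun d => !(qdet (a, b, c, d) == 1) || f (a, b, c, d)

theorem allQ_sound {f : Q → Bool} (h : allQ f = true) (q : Q) (hq : qdet q = 1) : f q = true := by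
  obtain ⟨a, b, c, d⟩ := q
  have h1 := List.all_eq_true.mp h a (List.mem_finRange (n := 11) a)
  have h2 := List.all_eq_true.mp h1 b (List.mem_finRange (n := 11) b)
  have h3 := List.all_eq_true.mp h2 c (List.mem_finRange (n := 11) c)
  have h4 := List.all_eq_true.mp h3 d (List.mem_finRange (n := 11) d)
  simpa [hq] using h4

theorem fact_involution : allQ (fun q => !(pm (qm q q)) || pm q || W.any fun g => qdet g == 1 && cj g q == qA) = true := by
  decide +kernel
theorem fact_three : allQ (fun q => !(qm (qm q q) q == q1) || q == q1 ||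
    !(let x := qm qA q; pm (qm (qm (qm (qm x x) x) x) x)) ||
    Cs.any fun g => qdet g == 1 && cj g qA == qA && (inL (cj g q) || inL (back (cj g q)))) = true := by
  decide +kernel
theorem fact_not_conj : allQ (fun g => !(inL (back (cj g qA))) || !(inL (back (cj g qB)))) = true := by
  decide +kernel
theorem fact_center : allQ (fun q => !(qm q (1, 1, 0, 1) == qm (1, 1, 0, 1) q) ||
    !(qm q (1, 0, 1, 1) == qm (1, 0, 1, 1) q) || pm q) = true := by
  decide +kernel
theorem fact_list : (L.all fun e => (!(pm e.1) || e.2 == (0, 1, 2, 3, 4)) &&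
    (!(e.2 == (0, 1, 2, 3, 4)) || pm e.1)) = true := by
  decide +kernel
theorem fact_misc : inL qA = true ∧ back qA = qA ∧ inL qz = true ∧ inL (cj (0, 1, 10, 1) qB) = false := by
  decide +kernel

def T (g : S) : Q := (g.1 0 0, g.1 0 1, g.1 1 0, g.1 1 1)

theorem T_det (g : S) : qdet (T g) = 1 := by
  have := g.2
  rw [Matrix.det_fin_two] at this
  exact this

theorem T_mul (g h : S) : T (g * h) = qm (T g) (T h) := by
  have hh : (g * h).1 = g.1 * h.1 := rfl
  simp only [T, qm, hh]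
  simp [Matrix.mul_apply, Fin.sum_univ_two]

theorem T_one : T 1 = q1 := rfl

theorem T_inv (g : S) : T g⁻¹ = qi (T g) := by
  have hh : (g⁻¹).1 = g.1.adjugate := rfl
  simp only [T, qi, hh]
  simp [Matrix.adjugate_fin_two]

theorem T_inj : Function.Injective T := by
  intro g h he
  simp only [T, Prod.mk.injEq] at he
  apply Subtype.ext
  ext i j
  fin_cases i <;> fin_cases j
  exacts [he.1, he.2.1, he.2.2.1, he.2.2.2]

def ofQ (q : Q) (h : qdet q = 1) : S :=
  ⟨!![q.1, q.2.1; q.2.2.1, q.2.2.2], by rw [Matrix.det_fin_two]; exact h⟩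

theorem T_ofQ (q : Q) (h : qdet q = 1) : T (ofQ q h) = q := rfl

theorem T_conj (g h : S) : T (g * h * g⁻¹) = cj (T g) (T h) := by
  rw [T_mul, T_mul, T_inv]; rfl

def gN : S := ofQ (0, 1, 10, 1) (by decide)

def sB : S := ofQ qB (by decide)

theorem sB_mem : inL (T sB) = true := by decide +kernel

theorem center_iff (g : S) : g ∈ Subgroup.center S ↔ pm (T g) = true := by
  constructor
  · intro h
    have h1 := congrArg T (Subgroup.mem_center_iff.1 h (ofQ (1, 1, 0, 1) (by decide)))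
    have h2 := congrArg T (Subgroup.mem_center_iff.1 h (ofQ (1, 0, 1, 1) (by decide)))
    rw [T_mul, T_mul, T_ofQ] at h1 h2
    simpa [h1, h2] using allQ_sound fact_center _ (T_det g)
  · intro h
    rw [Subgroup.mem_center_iff]
    intro x
    apply T_inj
    rw [T_mul, T_mul]
    simp only [pm, Bool.or_eq_true, beq_iff_eq] at h
    obtain ⟨a, b, c, d⟩ := T x
    rcases h with h | h <;> simp [h, qm, q1, qz, mul_comm]

def pr : S →* PS := QuotientGroup.mk' _

theorem pr_one_iff (g : S) : pr g = 1 ↔ pm (T g) = true := by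
  rw [← center_iff]; exact QuotientGroup.eq_one_iff g

/-- Conjugation by a matrix of non-square determinant. -/
def theta : S ≃* S where
  toFun g := ⟨!![1, 1; 10, 1] * g.1 * !![6, 5; 6, 6], by
    rw [Matrix.det_mul, Matrix.det_mul, g.2]; decide⟩
  invFun g := ⟨!![6, 5; 6, 6] * g.1 * !![1, 1; 10, 1], by
    rw [Matrix.det_mul, Matrix.det_mul, g.2]; decide⟩
  left_inv g := by
    apply Subtype.ext
    have h : (!![6, 5; 6, 6] : Matrix (Fin 2) (Fin 2) (ZMod 11)) * !![1, 1; 10, 1] = 1 := by decide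
    show _ * (_ * g.1 * _) * _ = g.1
    simp only [mul_assoc]
    rw [h]
    simp only [← mul_assoc]
    rw [h]
    simp
  right_inv g := by
    apply Subtype.ext
    have h : (!![1, 1; 10, 1] : Matrix (Fin 2) (Fin 2) (ZMod 11)) * !![6, 5; 6, 6] = 1 := by decide
    show _ * (_ * g.1 * _) * _ = g.1
    simp only [mul_assoc]
    rw [h]
    simp only [← mul_assoc]
    rw [h]
    simp
  map_mul' g k := by
    apply Subtype.ext
    have h : (!![6, 5; 6, 6] : Matrix (Fin 2) (Fin 2) (ZMod 11)) * !![1, 1; 10, 1] = 1 := by decide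
    show _ * (g.1 * k.1) * _ = (_ * g.1 * _) * (_ * k.1 * _)
    simp only [mul_assoc]
    rw [← mul_assoc (!![6, 5; 6, 6] : Matrix (Fin 2) (Fin 2) (ZMod 11)) !![1, 1; 10, 1], h, one_mul]

theorem T_theta_symm (g : S) : T (theta.symm g) = back (T g) := by
  have hh : (theta.symm g).1 = !![6, 5; 6, 6] * g.1 * !![1, 1; 10, 1] := rfl
  simp only [T, back, qm, hh]
  simp [Matrix.mul_apply, Fin.sum_univ_two, Matrix.vecMul, dotProduct]

theorem theta_center (g : S) (hg : g ∈ Subgroup.center S) : theta g ∈ Subgroup.center S := by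
  rw [Subgroup.mem_center_iff] at hg ⊢
  intro x
  apply theta.symm.injective
  simp [hg]

def thetaBar : PS ≃* PS :=
  QuotientGroup.congr _ _ theta (by
    ext x
    constructor
    · rintro ⟨y, hy, rfl⟩
      exact theta_center y hy
    · intro hx
      refine ⟨theta.symm x, ?_, theta.apply_symm_apply x⟩
      rw [SetLike.mem_coe, Subgroup.mem_center_iff] at *
      intro z
      apply theta.injective
      simp [hx])

theorem thetaBar_pr (g : S) : thetaBar (pr g) = pr (theta g) := rfl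

def Γ1 : Subgroup S := Γ.map (MonoidHom.fst S (alternatingGroup (Fin 5)))

def H1 : Subgroup PS := Γ1.map pr
def H2 : Subgroup PS := H1.map thetaBar.toMonoidHom

noncomputable def e1 : H1 ≃* alternatingGroup (Fin 5) := by
  classical
  let f : Γ →* PS := (pr.comp (MonoidHom.fst _ _)).comp Γ.subtype
  let s : Γ →* alternatingGroup (Fin 5) := (MonoidHom.snd _ _).comp Γ.subtype
  have hk : f.ker = s.ker := by
    ext ⟨x, hx⟩
    rw [MonoidHom.mem_ker, MonoidHom.mem_ker]
    show pr x.1 = 1 ↔ x.2 = 1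
    rw [pr_one_iff]
    have he := List.all_eq_true.1 fact_list _ (enc_mem hx)
    simp only [Bool.and_eq_true, Bool.or_eq_true, Bool.not_eq_true', beq_iff_eq, beq_eq_false_iff_ne] at he
    constructor
    · intro h
      rcases he.1 with h' | h'
      · exact absurd h (by simpa [enc, T] using h')
      · simp only [enc, Prod.mk.injEq] at h'
        apply Subtype.ext
        ext i
        fin_cases i <;> simp [h'.1, h'.2.1, h'.2.2.1, h'.2.2.2.1, h'.2.2.2.2]
    · intro h
      rcases he.2 with h' | h'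
      · exact absurd (by simp [enc, h]) h'
      · exact h'
  have hr : f.range = H1 := by
    rw [H1, Γ1, Subgroup.map_map, MonoidHom.range_comp, Subgroup.range_subtype]
  have hs : s.range = ⊤ := by
    rw [MonoidHom.range_comp, Subgroup.range_subtype]
    exact snd_top
  exact (MulEquiv.subgroupCongr hr.symm).trans ((QuotientGroup.quotientKerEquivRange f).symm.trans
    ((QuotientGroup.quotientMulEquivOfEq hk).trans ((QuotientGroup.quotientKerEquivRange s).trans
      ((MulEquiv.subgroupCongr hs).trans Subgroup.topEquiv))))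

noncomputable def e2 : H2 ≃* alternatingGroup (Fin 5) :=
  (H1.equivMapOfInjective thetaBar.toMonoidHom thetaBar.injective).symm.trans e1

theorem card_A5 : Nat.card (alternatingGroup (Fin 5)) = 60 := by
  rw [nat_card_alternatingGroup, Nat.card_fin]; rfl

theorem card_H1 : Nat.card H1 = 60 := by rw [Nat.card_congr e1.toEquiv, card_A5]
theorem card_H2 : Nat.card H2 = 60 := by rw [Nat.card_congr e2.toEquiv, card_A5]

theorem mem_list {g : S} (hg : g ∈ Γ1) : inL (T g) = true := by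
  obtain ⟨x, hx, rfl⟩ := hg
  exact List.elem_iff.2 (List.mem_map.2 ⟨enc x, enc_mem hx, rfl⟩)

theorem z_mem : ∃ g ∈ Γ1, T g = qz :=
  ⟨(gA * gA).1, ⟨gA * gA, Γ.mul_mem (Subgroup.subset_closure (Or.inl rfl)) (Subgroup.subset_closure (Or.inl rfl)), rfl⟩,
    by decide⟩

theorem Γ1_iff (g : S) : g ∈ Γ1 ↔ inL (T g) = true := by
  classical
  refine ⟨mem_list, fun h => ?_⟩
  have hsub : (Γ1 : Set S) ⊆ {g | inL (T g) = true} := fun g hg => mem_list hg
  have hle : ({g | inL (T g) = true} : Set S).ncard ≤ 120 := by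
    have : ({g | inL (T g) = true} : Set S).ncard ≤ ((L.map Prod.fst).toFinset : Set Q).ncard :=
      Set.ncard_le_ncard_of_injOn T (fun g hg => by simpa [inL] using hg) T_inj.injOn
    refine this.trans ?_
    rw [Set.ncard_coe_finset]
    exact (List.toFinset_card_le _).trans (le_of_eq (by rw [List.length_map]; decide +kernel))
  have hge : 120 ≤ Nat.card Γ1 := by
    let f : Γ1 →* PS := pr.comp Γ1.subtype
    have hr : f.range = H1 := by rw [MonoidHom.range_comp, Subgroup.range_subtype]; rfl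
    have h1 := f.ker.card_mul_index
    rw [Subgroup.index_ker, hr, card_H1] at h1
    obtain ⟨z, hz, hzq⟩ := z_mem
    have h2 : 2 ≤ Nat.card f.ker := by
      have : Nontrivial f.ker := ⟨⟨⟨z, hz⟩, (pr_one_iff z).2 (by simp [pm, hzq])⟩, 1, fun he => by
        have := congrArg (fun x : f.ker => T x.1.1) he
        simp only [OneMemClass.coe_one, T_one, hzq] at this
        exact absurd this (by decide)⟩
      exact Finite.one_lt_card
    rw [← h1]
    omega
  have he := Set.eq_of_subset_of_ncard_le hsub (by rw [← Nat.card_coe_set_eq (Γ1 : Set S)]; exact hle.trans hge)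
  have : g ∈ ({g | inL (T g) = true} : Set S) := h
  rw [← he] at this
  exact this

theorem pr_mem_H1 {g : S} (h : inL (T g) = true) : pr g ∈ H1 := Subgroup.mem_map_of_mem _ ((Γ1_iff g).2 h)

theorem H1_list {g : S} (h : pr g ∈ H1) : inL (T g) = true := by
  obtain ⟨x, hx, he⟩ := h
  refine mem_list ?_
  have h1 : pr (x⁻¹ * g) = 1 := by rw [map_mul, map_inv, he, inv_mul_cancel]
  have h2 : x⁻¹ * g ∈ Γ1 := by
    rw [pr_one_iff, pm, Bool.or_eq_true, beq_iff_eq, beq_iff_eq] at h1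
    rcases h1 with h1 | h1
    · rw [show x⁻¹ * g = 1 from T_inj (h1.trans T_one.symm)]; exact Γ1.one_mem
    · obtain ⟨z, hz, hzq⟩ := z_mem
      rw [show x⁻¹ * g = z from T_inj (h1.trans hzq.symm)]; exact hz
  simpa using Γ1.mul_mem hx h2

theorem pr_mem_H2_iff {g : S} : pr g ∈ H2 ↔ pr (theta.symm g) ∈ H1 := by
  rw [H2, Subgroup.mem_map_equiv]
  have : thetaBar.symm (pr g) = pr (theta.symm g) := by
    apply thetaBar.injective
    rw [MulEquiv.apply_symm_apply, thetaBar_pr, MulEquiv.apply_symm_apply]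
  rw [this]

theorem classify (H : Subgroup PS) (e : H ≃* alternatingGroup (Fin 5)) :
    ∃ g : PS, MulAut.conj g • H = H1 ∨ MulAut.conj g • H = H2 := by
  classical
  set a : PS := (e.symm gA.2 : PS) with ha
  set b : PS := (e.symm gB.2 : PS) with hb
  have hinj : Function.Injective (fun x => ((e.symm x : H) : PS)) := Subtype.val_injective.comp e.symm.injective
  let ι : alternatingGroup (Fin 5) →* PS := H.subtype.comp e.symm.toMonoidHom
  have ha1 : a ≠ 1 := fun h => by
    have : gA.2 = 1 := hinj (h.trans (map_one ι).symm)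
    revert this; decide +kernel
  have hb1 : b ≠ 1 := fun h => by
    have : gB.2 = 1 := hinj (h.trans (map_one ι).symm)
    revert this; decide +kernel
  have haa : a * a = 1 := by
    show ι gA.2 * ι gA.2 = 1
    rw [← map_mul, show gA.2 * gA.2 = 1 by decide +kernel, map_one]
  have hbbb : b * b * b = 1 := by
    show ι gB.2 * ι gB.2 * ι gB.2 = 1
    rw [← map_mul, ← map_mul, show gB.2 * gB.2 * gB.2 = 1 by decide +kernel, map_one]
  have hab : (a * b) * (a * b) * (a * b) * (a * b) * (a * b) = 1 := by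
    show (ι gA.2 * ι gB.2) * (ι gA.2 * ι gB.2) * (ι gA.2 * ι gB.2) * (ι gA.2 * ι gB.2) * (ι gA.2 * ι gB.2) = 1
    simp only [← map_mul]
    rw [show gA.2 * gB.2 * (gA.2 * gB.2) * (gA.2 * gB.2) * (gA.2 * gB.2) * (gA.2 * gB.2) = 1 by decide +kernel,
      map_one]
  have hgen : H ≤ Subgroup.closure {a, b} := by
    intro x hx
    have h0 : ι.range ≤ Subgroup.closure {a, b} := by
      rw [MonoidHom.range_eq_map, ← snd_top, Subgroup.map_map, Γ, MonoidHom.map_closure,
        Set.image_insert_eq, Set.image_singleton]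
      exact le_rfl
    exact h0 ⟨e ⟨x, hx⟩, by show ((e.symm (e ⟨x, hx⟩) : H) : PS) = x; simp⟩
  obtain ⟨A, hA⟩ := QuotientGroup.mk'_surjective (Subgroup.center S) a
  obtain ⟨B0, hB0⟩ := QuotientGroup.mk'_surjective (Subgroup.center S) b
  change pr A = a at hA
  change pr B0 = b at hB0
  have hA1 : pm (T A) = false := by
    rw [Bool.eq_false_iff, ne_eq, ← pr_one_iff, hA]; exact ha1
  have hAA : pm (qm (T A) (T A)) = true := by rw [← T_mul, ← pr_one_iff, map_mul, hA]; exact haa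
  have hw := allQ_sound fact_involution _ (T_det A)
  simp only [hAA, hA1, Bool.not_true, Bool.false_or, List.any_eq_true, Bool.and_eq_true, beq_iff_eq] at hw
  obtain ⟨w, -, hwd, hwA⟩ := hw
  set g1 := ofQ w hwd with hg1
  have hwA' : g1 * A * g1⁻¹ = ofQ qA (by decide) := T_inj (by rw [T_conj, hg1, T_ofQ, T_ofQ]; exact hwA)
  -- a lift of order three
  obtain ⟨B, hB, hB3⟩ : ∃ B : S, pr B = b ∧ qm (qm (T B) (T B)) (T B) = q1 := by
    have h3 : pm (qm (qm (T B0) (T B0)) (T B0)) = true := by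
      rw [← T_mul, ← T_mul, ← pr_one_iff, map_mul, map_mul, hB0]; exact hbbb
    simp only [pm, Bool.or_eq_true, beq_iff_eq] at h3
    rcases h3 with h3 | h3
    · exact ⟨B0, hB0, h3⟩
    · refine ⟨ofQ qz (by decide) * B0, ?_, ?_⟩
      · rw [map_mul, hB0, (pr_one_iff _).2 (by decide), one_mul]
      · rw [T_mul, T_ofQ]
        generalize T B0 = q at h3 ⊢
        obtain ⟨x, y, z, t⟩ := q
        have hk : (9999 : ZMod 11) = 0 := by decide
        simp only [qm, qz, q1, Prod.mk.injEq] at h3 ⊢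
        obtain ⟨h₁, h₂, h₃, h₄⟩ := h3
        refine ⟨?_, ?_, ?_, ?_⟩
        · linear_combination (1000 : ZMod 11) * h₁ + hk
        · linear_combination (1000 : ZMod 11) * h₂
        · linear_combination (1000 : ZMod 11) * h₃
        · linear_combination (1000 : ZMod 11) * h₄ + hk
  set B' := g1 * B * g1⁻¹ with hB'
  have hB3' : qm (qm (T B') (T B')) (T B') = q1 := by
    have h : B * B * B = 1 := T_inj (by rw [T_mul, T_mul, hB3, T_one])
    rw [← T_mul, ← T_mul, show B' * B' * B' = 1 by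
      calc B' * B' * B' = g1 * (B * B * B) * g1⁻¹ := by rw [hB']; group
        _ = 1 := by rw [h]; group, T_one]
  have hB'1 : (T B' == q1) = false := by
    rw [beq_eq_false_iff_ne]
    intro h
    apply hb1
    have h2 : B' = 1 := T_inj (h.trans T_one.symm)
    rw [← hB, show B = g1⁻¹ * B' * g1 by rw [hB']; group, h2]
    simp
  have h5 : (let x := qm qA (T B'); pm (qm (qm (qm (qm x x) x) x) x)) = true := by
    have hx : qm qA (T B') = T (g1 * (A * B) * g1⁻¹) := by
      calc qm qA (T B') = qm (T (g1 * A * g1⁻¹)) (T B') := by rw [hwA', T_ofQ]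
        _ = T ((g1 * A * g1⁻¹) * B') := (T_mul _ _).symm
        _ = T (g1 * (A * B) * g1⁻¹) := by
          rw [show g1 * A * g1⁻¹ * B' = g1 * (A * B) * g1⁻¹ by rw [hB']; group]
    dsimp only
    rw [hx, ← T_mul, ← T_mul, ← T_mul, ← T_mul, ← pr_one_iff]
    simp only [map_mul, map_inv, hA, hB]
    calc _ = pr g1 * ((a * b) * (a * b) * (a * b) * (a * b) * (a * b)) * (pr g1)⁻¹ := by group
      _ = 1 := by rw [hab]; group
  have hc := allQ_sound fact_three _ (T_det B')
  simp only [hB3', h5, hB'1, beq_self_eq_true, Bool.not_true, Bool.false_or, List.any_eq_true, Bool.and_eq_true,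
    Bool.or_eq_true, beq_iff_eq] at hc
  obtain ⟨c, -, ⟨hcd, hcA⟩, hcB⟩ := hc
  set g2 := ofQ c hcd with hg2
  have hga : MulAut.conj (pr (g2 * g1)) a = pr (ofQ qA (by decide)) := by
    have : g2 * g1 * A * (g2 * g1)⁻¹ = ofQ qA (by decide) := by
      rw [show g2 * g1 * A * (g2 * g1)⁻¹ = g2 * (g1 * A * g1⁻¹) * g2⁻¹ by group, hwA']
      exact T_inj (by rw [T_conj, hg2, T_ofQ, T_ofQ]; exact hcA)
    rw [← this, MulAut.conj_apply, ← hA]; simp
  have hgb : MulAut.conj (pr (g2 * g1)) b = pr (g2 * B' * g2⁻¹) := by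
    rw [MulAut.conj_apply, ← hB, hB']; simp [mul_assoc]
  have key : ∀ K : Subgroup PS, Nat.card K = 60 → pr (ofQ qA (by decide)) ∈ K → pr (g2 * B' * g2⁻¹) ∈ K →
      MulAut.conj (pr (g2 * g1)) • H = K := by
    intro K hK h1 h2
    refine Subgroup.eq_of_le_of_card_ge ?_ ?_
    · show H.map (MulAut.conj (pr (g2 * g1))).toMonoidHom ≤ K
      refine (Subgroup.map_mono hgen).trans ?_
      rw [MonoidHom.map_closure, Subgroup.closure_le]
      rintro _ ⟨x, rfl | rfl, rfl⟩
      · show MulAut.conj (pr (g2 * g1)) a ∈ K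
        rw [hga]; exact h1
      · show MulAut.conj (pr (g2 * g1)) b ∈ K
        rw [hgb]; exact h2
    · rw [hK, ← card_A5, ← Nat.card_congr e.toEquiv]
      exact le_of_eq (Nat.card_congr (Subgroup.equivSMul _ _).toEquiv)
  refine ⟨pr (g2 * g1), ?_⟩
  rcases hcB with h | h
  · exact Or.inl (key _ card_H1 (pr_mem_H1 fact_misc.1) (pr_mem_H1 (by rw [T_conj, hg2, T_ofQ]; exact h)))
  · refine Or.inr (key _ card_H2 (pr_mem_H2_iff.2 (pr_mem_H1 ?_)) (pr_mem_H2_iff.2 (pr_mem_H1 ?_)))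
    · rw [T_theta_symm, T_ofQ, fact_misc.2.1]; exact fact_misc.1
    · rw [T_theta_symm, T_conj, hg2, T_ofQ]; exact h

theorem not_conj : ∀ g : PS, MulAut.conj g • H1 ≠ H2 := by
  intro g h
  obtain ⟨x, rfl⟩ := QuotientGroup.mk'_surjective (Subgroup.center S) g
  have hm : ∀ q : S, inL (T q) = true → inL (back (cj (T x) (T q))) = true := by
    intro q hq
    have h1 : MulAut.conj (pr x) (pr q) ∈ H2 := by
      have : MulAut.conj (pr x) • pr q ∈ MulAut.conj (pr x) • H1 := Subgroup.smul_mem_pointwise_smul _ _ _ (pr_mem_H1 hq)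
      rw [show pr x = QuotientGroup.mk' (Subgroup.center S) x from rfl] at this ⊢
      rw [h] at this
      exact this
    rw [MulAut.conj_apply, ← map_inv, ← map_mul, ← map_mul, pr_mem_H2_iff] at h1
    have := H1_list h1
    rwa [T_theta_symm, T_conj] at this
  have hA := hm (ofQ qA (by decide)) (by rw [T_ofQ]; exact fact_misc.1)
  have hB := hm (ofQ qB (by decide)) (by rw [T_ofQ]; decide +kernel)
  rw [T_ofQ] at hA hB
  have := allQ_sound fact_not_conj _ (T_det x)
  simp [hA, hB] at this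

theorem orbit_card : ∀ K : Subgroup PS, Nat.card K = 60 → (∃ g : PS, MulAut.conj g • K ≠ K) →
    (Set.range fun g : PS => MulAut.conj g • K).ncard = 11 := by
  intro K hK hne
  have : Fact (Nat.Prime 11) := ⟨by norm_num⟩
  let _ : MulAction PS (Subgroup PS) := MulAction.compHom (Subgroup PS) (MulAut.conj : PS →* MulAut PS)
  have hle : K ≤ MulAction.stabilizer PS K := fun k hk =>
    MulAction.mem_stabilizer_iff.2 (Subgroup.conj_smul_eq_self_of_mem hk)
  have hG : Nat.card PS = 660 := by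
    show Nat.card (Matrix.ProjectiveSpecialLinearGroup (Fin 2) (ZMod 11)) = 660
    rw [CfsgLib.Classical.card_PSL_two, Nat.card_eq_fintype_card (α := ZMod 11), ZMod.card]; rfl
  have hi : K.index = 11 := by
    have := K.card_mul_index
    rw [hK, hG] at this
    omega
  have hd := Subgroup.index_dvd_of_le hle
  rw [hi] at hd
  have hidx := MulAction.index_stabilizer PS K
  rw [← Nat.card_coe_set_eq] at hidx ⊢
  show Nat.card (MulAction.orbit PS K) = 11
  rw [Nat.card_coe_set_eq] at hidx ⊢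
  rw [← hidx]
  rcases (Nat.dvd_prime (show Nat.Prime 11 by norm_num)).1 hd with h | h
  · obtain ⟨g, hg⟩ := hne
    have : g ∈ MulAction.stabilizer PS K := by rw [Subgroup.index_eq_one.1 h]; trivial
    exact absurd (MulAction.mem_stabilizer_iff.1 this) hg
  · exact h

theorem count : Nat.card {H : Subgroup PS // Nonempty (H ≃* alternatingGroup (Fin 5))} = 22 := by
  have : Fact (Nat.Prime 11) := ⟨by norm_num⟩
  have heq : {H : Subgroup PS | Nonempty (H ≃* alternatingGroup (Fin 5))} =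
      (Set.range fun g : PS => MulAut.conj g • H1) ∪ (Set.range fun g : PS => MulAut.conj g • H2) := by
    ext H
    constructor
    · rintro ⟨e⟩
      obtain ⟨g, h | h⟩ := classify H e
      · exact Or.inl ⟨g⁻¹, by simp [← h]⟩
      · exact Or.inr ⟨g⁻¹, by simp [← h]⟩
    · rintro (⟨g, rfl⟩ | ⟨g, rfl⟩)
      · exact ⟨(Subgroup.equivSMul _ _).symm.trans e1⟩
      · exact ⟨(Subgroup.equivSMul _ _).symm.trans e2⟩
  have hdisj : Disjoint (Set.range fun g : PS => MulAut.conj g • H1) (Set.range fun g : PS => MulAut.conj g • H2) := by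
    rw [Set.disjoint_left]
    rintro _ ⟨g, rfl⟩ ⟨k, hk⟩
    exact not_conj (k⁻¹ * g) (by rw [map_mul, mul_smul]; dsimp only at hk; rw [← hk]; simp)
  have hne1 : ∃ g : PS, MulAut.conj g • H1 ≠ H1 := by
    refine ⟨pr gN, fun h => ?_⟩
    have h1 := Subgroup.smul_mem_pointwise_smul _ (MulAut.conj (pr gN)) H1 (pr_mem_H1 sB_mem)
    rw [h] at h1
    rw [MulAut.smul_def, MulAut.conj_apply, ← map_inv, ← map_mul, ← map_mul] at h1
    have := H1_list h1
    rw [T_conj, gN, sB, T_ofQ, T_ofQ, fact_misc.2.2.2] at this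
    exact Bool.false_ne_true this
  have hne2 : ∃ g : PS, MulAut.conj g • H2 ≠ H2 := by
    obtain ⟨g, hg⟩ := hne1
    refine ⟨thetaBar g, fun h => hg ?_⟩
    apply Subgroup.map_injective (f := thetaBar.toMonoidHom) thetaBar.injective
    rw [← show H2 = H1.map thetaBar.toMonoidHom from rfl]
    conv_rhs => rw [← h]
    rw [H2]
    show (H1.map (MulAut.conj g).toMonoidHom).map _ = (H1.map _).map (MulAut.conj (thetaBar g)).toMonoidHom
    rw [Subgroup.map_map, Subgroup.map_map]
    congr 1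
    ext x
    simp
  show Nat.card ({H : Subgroup PS | Nonempty (H ≃* alternatingGroup (Fin 5))} : Set (Subgroup PS)) = 22
  rw [Nat.card_coe_set_eq, heq, Set.ncard_union_eq hdisj (Set.toFinite _) (Set.toFinite _),
    orbit_card H1 card_H1 hne1, orbit_card H2 card_H2 hne2]

/-- Let F be a field with 11 elements. PSL_2(F) has exactly 22 subgroups isomorphic to the alternating group A_5, and they form two conjugacy classes: there are two such subgroups that are not conjugate, and every such subgroup is conjugate to one of these two. -/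
theorem result {F : Type*} [Field F] [Fintype F] (hF : Fintype.card F = 11) : Nat.card {H : Subgroup (Matrix.ProjectiveSpecialLinearGroup (Fin 2) F) // Nonempty (H ≃* alternatingGroup (Fin 5))} = 22 ∧ ∃ H K : Subgroup (Matrix.ProjectiveSpecialLinearGroup (Fin 2) F), Nonempty (H ≃* alternatingGroup (Fin 5)) ∧ Nonempty (K ≃* alternatingGroup (Fin 5)) ∧ (∀ g : Matrix.ProjectiveSpecialLinearGroup (Fin 2) F, MulAut.conj g • H ≠ K) ∧ ∀ L : Subgroup (Matrix.ProjectiveSpecialLinearGroup (Fin 2) F), Nonempty (L ≃* alternatingGroup (Fin 5)) → ∃ g : Matrix.ProjectiveSpecialLinearGroup (Fin 2) F, MulAut.conj g • L = H ∨ MulAut.conj g • L = K := by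
  have : Fact (Nat.Prime 11) := ⟨by norm_num⟩
  obtain ⟨ψ⟩ := CfsgLib.Classical.nonempty_PSL_congr (ι := Fin 2) (ZMod.ringEquivOfPrime F (show Nat.Prime 11 by norm_num) hF)
  let Ψ : Subgroup PS ≃ Subgroup (Matrix.ProjectiveSpecialLinearGroup (Fin 2) F) := ψ.mapSubgroup.toEquiv
  have hiso : ∀ H : Subgroup PS, Nonempty (H ≃* alternatingGroup (Fin 5)) ↔ Nonempty (Ψ H ≃* alternatingGroup (Fin 5)) :=
    fun H => ⟨fun ⟨e⟩ => ⟨(H.equivMapOfInjective ψ.toMonoidHom ψ.injective).symm.trans e⟩,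
      fun ⟨e⟩ => ⟨(H.equivMapOfInjective ψ.toMonoidHom ψ.injective).trans e⟩⟩
  have hconj : ∀ (g : PS) (H : Subgroup PS), Ψ (MulAut.conj g • H) = MulAut.conj (ψ g) • Ψ H := by
    intro g H
    show (H.map (MulAut.conj g).toMonoidHom).map ψ.toMonoidHom = (H.map ψ.toMonoidHom).map (MulAut.conj (ψ g)).toMonoidHom
    rw [Subgroup.map_map, Subgroup.map_map]
    congr 1
    ext x
    simp
  refine ⟨?_, Ψ H1, Ψ H2, (hiso _).1 ⟨e1⟩, (hiso _).1 ⟨e2⟩, fun g h => ?_, fun L hL => ?_⟩
  · rw [← count]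
    exact (Nat.card_congr (Ψ.subtypeEquiv hiso)).symm
  · obtain ⟨g, rfl⟩ := ψ.surjective g
    rw [← hconj] at h
    exact not_conj g (Ψ.injective h)
  · obtain ⟨L, rfl⟩ := Ψ.surjective L
    obtain ⟨e⟩ := (hiso L).2 hL
    obtain ⟨g, h⟩ := classify L e
    refine ⟨ψ g, ?_⟩
    rw [← hconj]
    exact h.imp (congrArg Ψ) (congrArg Ψ)

end Cfsg.Agent.S2543
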