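import Cfsg.Statements.S2550
import Cfsg.Agent.Lib.KnownB.PSLThreeFour
import Cfsg.Agent.Lib.Classical.Order
-- import your own Cfsg.Agent.* helpers here

set_option autoImplicit false
open Cfsg

namespace Cfsg.Agent.S2550

/-- Let F be a field with 2 elements and K a field with 4 elements. PSL_4(F) and PSL_3(K) have the same order (20160) but are not isomorphic. -/
theorem result {F K : Type*} [Field F] [Fintype F] [Field K] [Fintype K] (hF : Fintype.card F = 2) (hK : Fintype.card K = 4) : Nat.card (Matrix.ProjectiveSpecialLinearGroup (Fin 4) F) = Nat.card (Matrix.ProjectiveSpecialLinearGroup (Fin 3) K) ∧ ¬ Nonempty (Matrix.ProjectiveSpecialLinearGroup (Fin 4) F ≃* Matrix.ProjectiveSpecialLinearGroup (Fin 3) K) := by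
  classical
  have hFc : Nat.card F = 2 := by rw [Nat.card_eq_fintype_card, hF]
  have hKc : Nat.card K = 4 := by rw [Nat.card_eq_fintype_card, hK]
  refine ⟨?_, ?_⟩
  · rw [CfsgLib.Classical.card_PSL_fin 4 (by norm_num), CfsgLib.Classical.card_PSL_fin 3 (by norm_num),
      CfsgLib.Classical.card_SL_fin', CfsgLib.Classical.card_SL_fin', hFc, hKc]
    decide
  rintro ⟨φ⟩
  have : CharP F 2 := charP_of_card_eq_prime hF
  let f := (ZMod.castHom (dvd_refl 2) F).mapMatrix (m := Fin 4)
  have hinjf : Function.Injective f := fun a b h => Matrix.ext fun i j =>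
    RingHom.injective (ZMod.castHom (dvd_refl 2) F) (congrFun₂ h i j)
  let A0 : Matrix (Fin 4) (Fin 4) (ZMod 2) := !![0, 1, 0, 0; 1, 1, 0, 0; 0, 0, 1, 0; 0, 0, 0, 1]
  let B0 : Matrix (Fin 4) (Fin 4) (ZMod 2) := !![0, 1, 0, 0; 1, 1, 0, 0; 0, 0, 0, 1; 0, 0, 1, 1]
  have hA3 : A0 ^ 3 = 1 := by decide
  have hB3 : B0 ^ 3 = 1 := by decide
  have hA : A0 ^ 2 + A0 + 1 ≠ 0 := by decide
  have hB : B0 ^ 2 + B0 + 1 = 0 := by decide
  have hdet : ∀ M : Matrix (Fin 4) (Fin 4) (ZMod 2), M ^ 3 = 1 → (f M).det = 1 := by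
    intro M hM
    have hu : (f M).det ≠ 0 := by
      intro h
      have := congrArg Matrix.det (congrArg f hM)
      rw [map_pow, Matrix.det_pow, h, map_one, Matrix.det_one] at this
      simp at this
    have := FiniteField.pow_card_sub_one_eq_one _ hu
    simpa [hF] using this
  let A : Matrix.SpecialLinearGroup (Fin 4) F := ⟨f A0, hdet _ hA3⟩
  let B : Matrix.SpecialLinearGroup (Fin 4) F := ⟨f B0, hdet _ hB3⟩
  have htriv : ∀ a : Matrix.SpecialLinearGroup (Fin 4) F, a ∈ Subgroup.center _ → a = 1 := by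
    intro a ha
    have hc : Subgroup.center (Matrix.SpecialLinearGroup (Fin 4) F) = ⊥ := by
      rw [Subgroup.eq_bot_iff_card, CfsgLib.Classical.card_center_SL_fin 4 (by norm_num), hFc]
      rfl
    simpa [hc] using ha
  let π := QuotientGroup.mk' (Subgroup.center (Matrix.SpecialLinearGroup (Fin 4) F))
  have hπ : Function.Injective π := (injective_iff_map_eq_one π).2 fun a ha =>
    htriv a ((QuotientGroup.eq_one_iff a).1 ha)
  have : Fact (Nat.Prime 3) := ⟨Nat.prime_three⟩
  have hord : ∀ (M : Matrix (Fin 4) (Fin 4) (ZMod 2)) (h : M ^ 3 = 1), M ≠ 1 →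
      orderOf (π ⟨f M, hdet M h⟩) = 3 := by
    intro M h hne
    refine (orderOf_injective π hπ _).trans ?_
    apply orderOf_eq_prime
    · apply Subtype.ext
      refine (Matrix.SpecialLinearGroup.coe_pow _ 3).trans ?_
      show f M ^ 3 = 1
      rw [← map_pow, h, map_one]
    · intro e
      apply hne
      apply hinjf
      rw [map_one]
      exact congrArg Subtype.val e
  have hoA : orderOf (φ (π A)) = 3 := (φ.orderOf_eq _).trans (hord A0 hA3 (by decide))
  have hoB : orderOf (φ (π B)) = 3 := (φ.orderOf_eq _).trans (hord B0 hB3 (by decide))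
  obtain ⟨g, hg⟩ := isConj_iff.1 (CfsgLib.KnownB.PSLThreeFour.isConj_of_orderOf_three hK _ _ hoA hoB)
  obtain ⟨x, rfl⟩ := φ.surjective g
  rw [← map_inv, ← map_mul, ← map_mul] at hg
  obtain ⟨P, rfl⟩ := QuotientGroup.mk_surjective x
  have e : P * A * P⁻¹ = B := hπ (φ.injective hg)
  have e2 : P * A = B * P := mul_inv_eq_iff_eq_mul.1 e
  have e' : (P : Matrix (Fin 4) (Fin 4) F) * f A0 = f B0 * (P : Matrix (Fin 4) (Fin 4) F) := by
    have := congrArg Subtype.val e2
    rw [Matrix.SpecialLinearGroup.coe_mul, Matrix.SpecialLinearGroup.coe_mul] at this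
    exact this
  apply hA
  apply hinjf
  have h0 : (f B0) ^ 2 + f B0 + 1 = 0 := by rw [← map_pow, ← map_one f, ← map_add, ← map_add, hB, map_zero]
  have : (P : Matrix (Fin 4) (Fin 4) F) * (f (A0 ^ 2 + A0 + 1)) = 0 := by
    rw [map_add, map_add, map_pow, map_one, mul_add, mul_add, pow_two, ← mul_assoc, e', mul_assoc, e',
      ← mul_assoc, ← pow_two, mul_one]
    calc f B0 ^ 2 * (P : Matrix (Fin 4) (Fin 4) F) + f B0 * (P : Matrix (Fin 4) (Fin 4) F) + (P : Matrix (Fin 4) (Fin 4) F)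
        = (f B0 ^ 2 + f B0 + 1) * (P : Matrix (Fin 4) (Fin 4) F) := by simp [add_mul]
      _ = 0 := by rw [h0, zero_mul]
  rw [map_zero]
  calc f (A0 ^ 2 + A0 + 1) = ((P⁻¹ * P : Matrix.SpecialLinearGroup (Fin 4) F) : Matrix (Fin 4) (Fin 4) F) * f (A0 ^ 2 + A0 + 1) := by simp
    _ = 0 := by rw [Matrix.SpecialLinearGroup.coe_mul, mul_assoc, this, mul_zero]

end Cfsg.Agent.S2550
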