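import Cfsg.Statements.S2551
import Cfsg.Agent.Lib.Classical.OmegaSixPlus
import Cfsg.Agent.Lib.Classical.PermModels
import Cfsg.Agent.Lib.Classical.Order
-- import your own Cfsg.Agent.* helpers here

set_option autoImplicit false
open Cfsg

set_option maxHeartbeats 1000000

namespace Cfsg.Agent.S2551

/-- Let F be the field with 2 elements. GL_4(F) (≅ A_8) has a subgroup isomorphic to the alternating group A_7, and every such subgroup acts 2-transitively on the 15 non-zero vectors of F⁴: any ordered pair of distinct non-zero vectors is carried to any other by some element of the subgroup. -/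
theorem result {F : Type*} [Field F] [Fintype F] (hF : Fintype.card F = 2) : (∃ H : Subgroup (Matrix.GeneralLinearGroup (Fin 4) F), Nonempty (H ≃* alternatingGroup (Fin 7))) ∧ ∀ H : Subgroup (Matrix.GeneralLinearGroup (Fin 4) F), Nonempty (H ≃* alternatingGroup (Fin 7)) → ∀ v w v' w' : Fin 4 → F, v ≠ 0 → w ≠ 0 → v ≠ w → v' ≠ 0 → w' ≠ 0 → v' ≠ w' → ∃ g ∈ H, (g : Matrix (Fin 4) (Fin 4) F).mulVec v = v' ∧ (g : Matrix (Fin 4) (Fin 4) F).mulVec w = w' := by
  classical
  have hFc : Nat.card F = 2 := by rw [Nat.card_eq_fintype_card, hF]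
  have hchar : CharP F 2 := charP_of_card_eq_prime hF
  have hGL : Nat.card (GL (Fin 4) F) = 20160 := by
    rw [CfsgLib.Classical.card_GL_fin, hFc]; rfl
  refine ⟨?_, fun H ⟨e⟩ v w v' w' hv hw hvw hv' hw' hvw' => ?_⟩
  · obtain ⟨e1⟩ := CfsgLib.Classical.pOmega_six_plus_equiv (F := ZMod 2)
    obtain ⟨e2⟩ := CfsgLib.Classical.pOmega_six_two_equiv_A8
    obtain ⟨e3⟩ := CfsgLib.Classical.nonempty_PSL_congr (ι := Fin 4) (ZMod.ringEquivOfPrime F Nat.prime_two hF)
    have hfin : Finite (Matrix.ProjectiveSpecialLinearGroup (Fin 4) F) := inferInstance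
    -- `GL = SL = PSL`
    have hcen : Subgroup.center (Matrix.SpecialLinearGroup (Fin 4) F) = ⊥ := by
      rw [Subgroup.eq_bot_iff_card, CfsgLib.Classical.card_center_SL_fin 4 (by norm_num), hFc]; rfl
    let e4 : Matrix.ProjectiveSpecialLinearGroup (Fin 4) F ≃* Matrix.SpecialLinearGroup (Fin 4) F :=
      (QuotientGroup.quotientMulEquivOfEq hcen).trans QuotientGroup.quotientBot
    let j : alternatingGroup (Fin 7) →* alternatingGroup (Fin 8) :=
      ((Equiv.Perm.extendDomainHom (finSuccAboveEquiv (Fin.last 7))).comp (alternatingGroup (Fin 7)).subtype).codRestrict _ fun g => by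
        rw [Equiv.Perm.mem_alternatingGroup]
        simp only [MonoidHom.comp_apply, Equiv.Perm.extendDomainHom_apply, Subgroup.coe_subtype, Equiv.Perm.sign_extendDomain]
        exact Equiv.Perm.mem_alternatingGroup.1 g.2
    let f : alternatingGroup (Fin 7) →* GL (Fin 4) F :=
      Matrix.SpecialLinearGroup.toGL.comp (((e2.symm.trans e1).trans (e3.trans e4)).toMonoidHom.comp j)
    have hj : Function.Injective j := fun a b h =>
      Subtype.ext (Equiv.Perm.extendDomainHom_injective _ (congrArg Subtype.val h))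
    have hf : Function.Injective f :=
      Matrix.SpecialLinearGroup.toGL_injective.comp (((e2.symm.trans e1).trans (e3.trans e4)).injective.comp hj)
    exact ⟨f.range, ⟨(MonoidHom.ofInjective hf).symm⟩⟩
  -- the pairs
  let P := {p : (Fin 4 → F) × (Fin 4 → F) // p.1 ≠ 0 ∧ p.2 ≠ 0 ∧ p.1 ≠ p.2}
  have hmv : ∀ (g : GL (Fin 4) F) (x : Fin 4 → F), x ≠ 0 → (g : Matrix (Fin 4) (Fin 4) F).mulVec x ≠ 0 := fun g x hx h => by
    apply hx
    rw [← Matrix.one_mulVec x, ← Units.inv_mul g, ← Matrix.mulVec_mulVec, h, Matrix.mulVec_zero]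
  have hinjv : ∀ (g : GL (Fin 4) F), Function.Injective (g : Matrix (Fin 4) (Fin 4) F).mulVec :=
    fun g => Matrix.mulVec_injective_iff_isUnit.2 g.isUnit
  let act : MulAction (GL (Fin 4) F) P :=
    { smul := fun g p => ⟨((g : Matrix (Fin 4) (Fin 4) F).mulVec p.1.1, (g : Matrix (Fin 4) (Fin 4) F).mulVec p.1.2),
        hmv g _ p.2.1, hmv g _ p.2.2.1, fun h => p.2.2.2 (hinjv g h)⟩
      one_smul := fun p => Subtype.ext (Prod.ext (Matrix.one_mulVec _) (Matrix.one_mulVec _))
      mul_smul := fun g g' p => Subtype.ext (Prod.ext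
        (by show ((g : Matrix (Fin 4) (Fin 4) F) * (g' : Matrix (Fin 4) (Fin 4) F)).mulVec p.1.1 = _; exact (Matrix.mulVec_mulVec _ _ _).symm)
        (by show ((g : Matrix (Fin 4) (Fin 4) F) * (g' : Matrix (Fin 4) (Fin 4) F)).mulVec p.1.2 = _; exact (Matrix.mulVec_mulVec _ _ _).symm)) }
  have hP : Nat.card P = 210 := by
    have e := ZMod.ringEquivOfPrime F Nat.prime_two hF
    rw [← Nat.card_congr (Equiv.subtypeEquiv (Equiv.prodCongr (Equiv.piCongrRight fun _ : Fin 4 => e.toEquiv) (Equiv.piCongrRight fun _ : Fin 4 => e.toEquiv))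
      (p := fun p => p.1 ≠ 0 ∧ p.2 ≠ 0 ∧ p.1 ≠ p.2) (fun p => by simp [funext_iff]))]
    rw [Nat.card_eq_fintype_card]
    decide +kernel
  have htrans : MulAction.IsPretransitive (GL (Fin 4) F) P := by
    have hli : ∀ p : P, LinearIndependent F ![p.1.1, p.1.2] := fun p => by
      have h01 : ∀ a : F, a = 0 ∨ a = 1 := fun a => by
        have hu : ({0, 1} : Finset F) = Finset.univ := Finset.eq_univ_of_card _ (by simp [hF])
        have := Finset.mem_univ a
        rw [← hu] at this
        simpa using this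
      rw [LinearIndependent.pair_iff]
      intro s t hst
      rcases h01 s with rfl | rfl <;> rcases h01 t with rfl | rfl
      · exact ⟨rfl, rfl⟩
      · simp at hst; exact absurd hst p.2.2.1
      · simp at hst; exact absurd hst p.2.1
      · exfalso
        apply p.2.2.2
        have : p.1.1 = -p.1.2 := eq_neg_of_add_eq_zero_left (by simpa using hst)
        rw [this]
        funext i
        simp [CharTwo.neg_eq]
    refine ⟨fun p p' => ?_⟩
    set s := ![p.1.1, p.1.2]
    set s' := ![p'.1.1, p'.1.2]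
    let eS := (Module.Basis.span (hli p)).equiv (Module.Basis.span (hli p')) (Equiv.refl _)
    obtain ⟨C, hC⟩ := (Submodule.span F (Set.range s)).exists_isCompl
    obtain ⟨C', hC'⟩ := (Submodule.span F (Set.range s')).exists_isCompl
    let eC : C ≃ₗ[F] C' := LinearEquiv.ofFinrankEq _ _ (by
      have h1 := Submodule.finrank_add_eq_of_isCompl hC
      have h2 := Submodule.finrank_add_eq_of_isCompl hC'
      rw [finrank_span_eq_card (hli p)] at h1
      rw [finrank_span_eq_card (hli p')] at h2
      omega)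
    let E := (Submodule.prodEquivOfIsCompl _ C hC).symm.trans ((eS.prodCongr eC).trans (Submodule.prodEquivOfIsCompl _ C' hC'))
    have hE : ∀ i, E (s i) = s' i := fun i => by
      have h0 : (Submodule.prodEquivOfIsCompl _ C hC).symm (s i) = (Module.Basis.span (hli p) i, 0) := by
        rw [LinearEquiv.symm_apply_eq]; simp [s]
      show (Submodule.prodEquivOfIsCompl _ C' hC') ((eS.prodCongr eC) ((Submodule.prodEquivOfIsCompl _ C hC).symm (s i))) = s' i
      rw [h0]
      simp only [LinearEquiv.prodCongr_apply, map_zero, Submodule.coe_prodEquivOfIsCompl', eS, Module.Basis.equiv_apply, Equiv.refl_apply]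
      simp [s']
    let M : GL (Fin 4) F := CfsgLib.Geometry.glEquiv.symm E
    have hM : ∀ x, (M : Matrix (Fin 4) (Fin 4) F).mulVec x = E x := fun x => by
      simp [M, CfsgLib.Geometry.glEquiv_symm_mulVec]
    exact ⟨M, Subtype.ext (Prod.ext ((hM _).trans (hE 0)) ((hM _).trans (hE 1)))⟩
  have hHc : Nat.card H = 2520 := by
    rw [Nat.card_congr e.toEquiv, nat_card_alternatingGroup, Nat.card_fin]; rfl
  have key : ∀ p : P, Nat.card (MulAction.orbit H p) = 105 ∨ Nat.card (MulAction.orbit H p) = 210 := fun p => by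
    have h1 : Nat.card (MulAction.orbit H p) * Nat.card (MulAction.stabilizer H p) = 2520 := by
      rw [← hHc, ← (MulAction.stabilizer H p).index_mul_card, MulAction.index_stabilizer]; rfl
    have h2 : Nat.card (MulAction.stabilizer (GL (Fin 4) F) p) = 96 := by
      have := (MulAction.stabilizer (GL (Fin 4) F) p).index_mul_card
      rw [MulAction.index_stabilizer_of_transitive, hP, hGL] at this
      omega
    have h3 : Nat.card (MulAction.stabilizer H p) ∣ 24 := by
      rw [show 24 = Nat.gcd 2520 96 by rfl]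
      refine Nat.dvd_gcd ⟨_, (mul_comm (Nat.card (MulAction.stabilizer H p)) _ ▸ h1).symm⟩ (h2 ▸ ?_)
      exact Subgroup.card_dvd_of_injective
        ((H.subtype.comp (MulAction.stabilizer H p).subtype).codRestrict (MulAction.stabilizer (GL (Fin 4) F) p) fun g => g.2)
        fun a b h => Subtype.ext (Subtype.ext (congrArg (fun z => z.1) h :))
    obtain ⟨d, hd⟩ := h3
    have h4 : Nat.card (MulAction.orbit H p) = 105 * d := by
      have hs : 0 < Nat.card (MulAction.stabilizer H p) := Nat.card_pos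
      apply Nat.eq_of_mul_eq_mul_right hs
      rw [h1]
      linarith
    have h5 : Nat.card (MulAction.orbit H p) ≤ 210 := hP ▸ Nat.card_le_card_of_injective Subtype.val Subtype.val_injective
    have : Nonempty (MulAction.orbit H p) := ⟨⟨p, MulAction.mem_orbit_self p⟩⟩
    have h6 : 0 < Nat.card (MulAction.orbit H p) := Nat.card_pos
    omega
  -- an involution swaps a pair
  have : Fact (Nat.Prime 2) := ⟨Nat.prime_two⟩
  obtain ⟨t, ht⟩ := exists_prime_orderOf_dvd_card' (G := H) 2 (by rw [hHc]; norm_num)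
  obtain ⟨x, hx⟩ : ∃ x, ((t : GL (Fin 4) F) : Matrix (Fin 4) (Fin 4) F).mulVec x ≠ x := by
    by_contra hcon
    push Not at hcon
    have : t = 1 := Subtype.ext (Units.ext (Matrix.ext_iff_mulVec.2 fun x => by simpa using hcon x))
    rw [this, orderOf_one] at ht
    omega
  have hx0 : x ≠ 0 := fun h => hx (by simp [h])
  let p0 : P := ⟨(x, ((t : GL (Fin 4) F) : Matrix (Fin 4) (Fin 4) F).mulVec x), hx0, hmv _ _ hx0, fun h => hx h.symm⟩
  have htt : ((t : GL (Fin 4) F) : Matrix (Fin 4) (Fin 4) F).mulVec (((t : GL (Fin 4) F) : Matrix (Fin 4) (Fin 4) F).mulVec x) = x := by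
    have h2 : t * t = 1 := by rw [← pow_two, ← ht, pow_orderOf_eq_one]
    rw [Matrix.mulVec_mulVec, ← Units.val_mul, ← Subgroup.coe_mul, h2]
    simp
  have hswapmem : ∀ q : MulAction.orbit H p0, (⟨(q.1.1.2, q.1.1.1), q.1.2.2.1, q.1.2.1, q.1.2.2.2.symm⟩ : P) ∈ MulAction.orbit H p0 := by
    rintro ⟨_, g, rfl⟩
    refine ⟨g * t, Subtype.ext (Prod.ext ?_ ?_)⟩
    · show ((g : GL (Fin 4) F) * (t : GL (Fin 4) F) : GL (Fin 4) F).val.mulVec x = (g : GL (Fin 4) F).val.mulVec _
      rw [Units.val_mul, ← Matrix.mulVec_mulVec]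
    · show ((g : GL (Fin 4) F) * (t : GL (Fin 4) F) : GL (Fin 4) F).val.mulVec _ = (g : GL (Fin 4) F).val.mulVec x
      rw [Units.val_mul, ← Matrix.mulVec_mulVec, htt]
  have heven : Even (Nat.card (MulAction.orbit H p0)) := by
    let s : Function.End (MulAction.orbit H p0) := fun q => ⟨_, hswapmem q⟩
    let σ : Equiv.Perm (MulAction.orbit H p0) := ⟨s, s, fun q => rfl, fun q => rfl⟩
    rw [even_iff_two_dvd, Nat.card_eq_fintype_card]
    have hno : σ.support = Finset.univ := by
      ext q
      simp only [Equiv.Perm.mem_support, Finset.mem_univ, iff_true]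
      intro h
      exact q.1.2.2.2 (congrArg (fun r : MulAction.orbit H p0 => r.1.1.2) h)
    have hσ2 : σ ^ 2 = 1 := by ext q : 1; rfl
    rw [← Finset.card_univ, ← hno, ← σ.sum_cycleType]
    exact Multiset.dvd_sum fun a ha => by
      have := (Equiv.Perm.dvd_of_mem_cycleType ha).trans (orderOf_dvd_of_pow_eq_one hσ2)
      rcases (Nat.dvd_prime Nat.prime_two).1 this with h | h
      · exact absurd h (by have := Equiv.Perm.two_le_of_mem_cycleType ha; omega)
      · rw [h]
  have hall : MulAction.orbit H p0 = Set.univ := by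
    rcases key p0 with h | h
    · rw [h] at heven; exact absurd heven (by decide)
    · refine Set.eq_of_subset_of_ncard_le (Set.subset_univ _) ?_
      rw [Set.ncard_univ, hP, ← Nat.card_coe_set_eq, h]
  obtain ⟨a, ha⟩ : (⟨(v, w), hv, hw, hvw⟩ : P) ∈ MulAction.orbit H p0 := hall ▸ Set.mem_univ _
  obtain ⟨b, hb⟩ : (⟨(v', w'), hv', hw', hvw'⟩ : P) ∈ MulAction.orbit H p0 := hall ▸ Set.mem_univ _
  refine ⟨(b * a⁻¹ : H), Subtype.coe_prop _, ?_⟩
  have h : (b * a⁻¹ : H) • (⟨(v, w), hv, hw, hvw⟩ : P) = ⟨(v', w'), hv', hw', hvw'⟩ := by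
    rw [← ha, ← hb]; simp [mul_smul]
  exact ⟨congrArg (fun r : P => r.1.1) h, congrArg (fun r : P => r.1.2) h⟩

end Cfsg.Agent.S2551
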