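import Cfsg.Statements.S2552
-- import your own Cfsg.Agent.* helpers here

set_option autoImplicit false
open Cfsg

namespace Cfsg.Agent.S2552

/-- Let F be a finite field and n ≥ 1. For every k, the special linear group SL_n(F) acts transitively on the set of k-dimensional subspaces of F^n: any two subspaces of the same dimension are carried onto each other by some matrix of determinant 1. -/
theorem result {F : Type*} [Field F] [Fintype F] (n : ℕ) (hn : 1 ≤ n) (U₁ U₂ : Submodule F (Fin n → F)) (h : Module.finrank F U₁ = Module.finrank F U₂) : ∃ g : Matrix.SpecialLinearGroup (Fin n) F, U₁.map ((Matrix.SpecialLinearGroup.toLin' g : (Fin n → F) ≃ₗ[F] (Fin n → F)) : (Fin n → F) →ₗ[F] (Fin n → F)) = U₂ := by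
  classical
  rcases eq_or_ne U₂ ⊥ with rfl | hU2
  · rw [finrank_bot, Submodule.finrank_eq_zero] at h
    exact ⟨1, by rw [h, Submodule.map_bot]⟩
  obtain ⟨W₁, h1⟩ := U₁.exists_isCompl
  obtain ⟨W₂, h2⟩ := U₂.exists_isCompl
  have hW : Module.finrank F W₁ = Module.finrank F W₂ := by
    have e1 := Submodule.finrank_add_eq_of_isCompl h1
    have e2 := Submodule.finrank_add_eq_of_isCompl h2
    omega
  let eU := LinearEquiv.ofFinrankEq U₁ U₂ h
  let eW := LinearEquiv.ofFinrankEq W₁ W₂ hW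
  let e1 := U₁.prodEquivOfIsCompl W₁ h1
  let e2 := U₂.prodEquivOfIsCompl W₂ h2
  let f0 : (Fin n → F) ≃ₗ[F] (Fin n → F) := e1.symm.trans ((eU.prodCongr eW).trans e2)
  set c : Fˣ := (LinearEquiv.det f0)⁻¹
  let b := Module.finBasis F U₂
  have hpos : 0 < Module.finrank F U₂ := Nat.pos_of_ne_zero fun h0 => hU2 (Submodule.finrank_eq_zero.1 h0)
  let L : U₂ →ₗ[F] U₂ := Matrix.toLin b b (Matrix.diagonal (Function.update (fun _ => (1 : F)) ⟨0, hpos⟩ (c : F)))
  have hL : LinearMap.det L = (c : F) := by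
    rw [LinearMap.det_toLin, Matrix.det_diagonal, Finset.prod_update_of_mem (Finset.mem_univ _)]
    simp
  let hh : U₂ ≃ₗ[F] U₂ := L.equivOfDetNeZero (by rw [hL]; exact c.ne_zero)
  let k : (Fin n → F) ≃ₗ[F] (Fin n → F) := (e2.symm.trans (hh.prodCongr (LinearEquiv.refl F W₂))).trans e2
  have hk : LinearEquiv.det k = c := by
    rw [LinearEquiv.det_conj, ← Units.val_inj, LinearEquiv.coe_det]
    change LinearMap.det (LinearMap.prodMap L (LinearMap.id : W₂ →ₗ[F] W₂)) = (c : F)
    rw [LinearMap.det_prodMap, hL, LinearMap.det_id, mul_one]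
  set T : (Fin n → F) ≃ₗ[F] (Fin n → F) := f0.trans k
  have hT : LinearMap.det (T : (Fin n → F) →ₗ[F] (Fin n → F)) = 1 := by
    rw [← LinearEquiv.coe_det, LinearEquiv.det_trans, hk]
    simp [c]
  let g : Matrix.SpecialLinearGroup (Fin n) F :=
    ⟨LinearMap.toMatrix' (T : (Fin n → F) →ₗ[F] (Fin n → F)), by rw [LinearMap.det_toMatrix', hT]⟩
  refine ⟨g, ?_⟩
  have hg : ∀ x, Matrix.SpecialLinearGroup.toLin' g x = T x := fun x => by
    change Matrix.toLin' (LinearMap.toMatrix' (T : (Fin n → F) →ₗ[F] (Fin n → F))) x = T x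
    rw [Matrix.toLin'_toMatrix']
    rfl
  refine Submodule.eq_of_le_of_finrank_eq ?_ ?_
  · rintro _ ⟨x, hx, rfl⟩
    change Matrix.SpecialLinearGroup.toLin' g x ∈ U₂
    have h3 : e1.symm x = (⟨x, hx⟩, 0) := Submodule.prodEquivOfIsCompl_symm_apply_left U₁ W₁ h1 ⟨x, hx⟩
    have h4 : ∀ y : U₂, e2.symm (y : Fin n → F) = (y, 0) := fun y => Submodule.prodEquivOfIsCompl_symm_apply_left U₂ W₂ h2 y
    have h5 : ∀ (y : U₂), e2 (y, 0) = (y : Fin n → F) := fun y => by simp [e2]
    rw [hg]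
    simp [T, f0, k, h3, h4, h5]
  · rw [← h]
    exact LinearEquiv.finrank_map_eq _ _

end Cfsg.Agent.S2552
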