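import Cfsg.Statements.S2553
import Cfsg.Agent.Lib.Small.AEight.Eight
import Cfsg.Agent.Lib.Small.AEight.Linear
import Cfsg.Agent.Lib.Classical.PermModels
import Cfsg.Agent.Lib.Classical.PSLSimple
import Cfsg.Agent.S0495

set_option autoImplicit false
open Cfsg

namespace Cfsg.Agent.S2553

open CfsgLib.Small.AEight

/-- Let H be a nontrivial subgroup of GL(4,2) (a group isomorphic to the alternating group of degree 8) whose largest normal 2-subgroup and largest normal subgroup of odd order are both trivial. Then H is isomorphic to an alternating group of degree n for some 5 ≤ n ≤ 8, to the symmetric group of degree 5 or 6, or to GL(3,2). -/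
theorem result (H : Subgroup (GL (Fin 4) (ZMod 2))) (hH : H ≠ ⊥) (hO : Cfsg.pPrimeCore 2 ↥H = ⊥) (hO2 : Cfsg.pCore 2 ↥H = ⊥) :
    (∃ n : ℕ, 5 ≤ n ∧ n ≤ 8 ∧ Nonempty (↥H ≃* alternatingGroup (Fin n))) ∨
    Nonempty (↥H ≃* Equiv.Perm (Fin 5)) ∨ Nonempty (↥H ≃* Equiv.Perm (Fin 6)) ∨ Nonempty (↥H ≃* GL (Fin 3) (ZMod 2)) := by
  classical
  haveI : Fact (Nat.Prime 2) := ⟨Nat.prime_two⟩
  haveI : Nontrivial H := (Subgroup.nontrivial_iff_ne_bot H).2 hH
  have hr : RadFree H := radFree_of_cores hO2 hO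
  -- the identification with the alternating group
  have hcen : Subgroup.center (Matrix.SpecialLinearGroup (Fin 4) (ZMod 2)) = ⊥ := by
    rw [Subgroup.eq_bot_iff_card, CfsgLib.Classical.card_center_SL_fin 4 (by norm_num), Nat.card_zmod]; rfl
  obtain ⟨e1⟩ := CfsgLib.Classical.pOmega_six_plus_equiv (F := ZMod 2)
  obtain ⟨e2⟩ := CfsgLib.Classical.pOmega_six_two_equiv_A8
  let e4 : Matrix.ProjectiveSpecialLinearGroup (Fin 4) (ZMod 2) ≃* Matrix.SpecialLinearGroup (Fin 4) (ZMod 2) :=
    (QuotientGroup.quotientMulEquivOfEq hcen).trans QuotientGroup.quotientBot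
  let Φ : alternatingGroup (Fin 8) →* GL (Fin 4) (ZMod 2) :=
    Matrix.SpecialLinearGroup.toGL.comp ((e2.symm.trans e1).trans e4).toMonoidHom
  have hΦ : Function.Bijective Φ := (Nat.bijective_iff_injective_and_card Φ).2
    ⟨Matrix.SpecialLinearGroup.toGL_injective.comp ((e2.symm.trans e1).trans e4).injective, by
      rw [nat_card_alternatingGroup, Nat.card_fin, CfsgLib.Classical.card_GL_fin, Nat.card_zmod]; rfl⟩
  let E := MulEquiv.ofBijective Φ hΦ
  let f : H →* Equiv.Perm (Fin 8) := (alternatingGroup (Fin 8)).subtype.comp (E.symm.toMonoidHom.comp H.subtype)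
  have hf : Function.Injective f :=
    Subtype.val_injective.comp (E.symm.injective.comp H.subtype_injective)
  have hsign : ∀ g, Equiv.Perm.sign (f g) = 1 := fun g => (E.symm (g : GL (Fin 4) (ZMod 2))).2
  let act : MulAction H (Fin 8) := MulAction.compHom (Fin 8) f
  haveI : FaithfulSMul H (Fin 8) := ⟨fun {g g'} h => hf (Equiv.ext h)⟩
  obtain ⟨a, ha5, hinj⟩ := exists_orbit hr (α := Fin 8) (Nat.card_fin 8)
  have ha8 : Nat.card (MulAction.orbit H a) ≤ 8 := by
    refine (Nat.card_le_card_of_injective Subtype.val Subtype.val_injective).trans_eq ?_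
    exact Nat.card_fin 8
  set ψ := MulAction.toPermHom H (MulAction.orbit H a) with hψ
  haveI : MulAction.IsPretransitive ψ.range (MulAction.orbit H a) := by
    refine ⟨fun x y => ?_⟩
    obtain ⟨g, hg⟩ := MulAction.exists_smul_eq H x y
    exact ⟨⟨ψ g, g, rfl⟩, hg⟩
  have heven : 7 ≤ Nat.card (MulAction.orbit H a) → ψ.range ≤ alternatingGroup (MulAction.orbit H a) := by
    rintro h7 _ ⟨g, rfl⟩
    rw [Equiv.Perm.mem_alternatingGroup, ← hsign g]
    have hmem : ∀ x : Fin 8, f g x ∈ MulAction.orbit H a ↔ x ∈ MulAction.orbit H a := fun x =>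
      ⟨fun h => by rw [← inv_smul_smul g x]; exact (MulAction.orbit_eq_iff.2 h) ▸ ⟨g⁻¹, rfl⟩,
        fun h => (MulAction.orbit_eq_iff.2 h) ▸ ⟨g, rfl⟩⟩
    have hfix : ∀ x, f g x ≠ x → x ∈ MulAction.orbit H a := fun x hx => by_contra fun hxO => by
      have hsub : ({x, f g x} : Set (Fin 8)) ⊆ (MulAction.orbit H a)ᶜ := by
        rintro y (rfl | rfl)
        · exact hxO
        · exact fun h => hxO ((hmem x).1 h)
      have h1 := Set.ncard_le_ncard hsub (Set.toFinite _)
      rw [Set.ncard_compl, Nat.card_fin, ← Nat.card_coe_set_eq (MulAction.orbit H a), Set.ncard_pair (Ne.symm hx)] at h1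
      omega
    rw [← Equiv.Perm.sign_subtypePerm (f g) hmem hfix]
    congr 1
    ext x
    rfl
  have hout : Out H := by
    rcases (show Nat.card (MulAction.orbit H a) = 5 ∨ Nat.card (MulAction.orbit H a) = 6 ∨
        Nat.card (MulAction.orbit H a) = 7 ∨ Nat.card (MulAction.orbit H a) = 8 by omega) with h | h | h | h <;>
      have hc := (Nat.card_eq_fintype_card (α := MulAction.orbit H a)).symm.trans h
    · exact deg_five hr ψ hinj hc
    · exact deg_six hr ψ hinj hc
    · exact deg_seven hr ψ hinj hc (heven (by omega))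
    · exact (deg_eight hr ψ hinj hc (heven (by omega))).resolve_right (not_1344 H hr)
  rcases hout with h | h | h | ⟨hc, hs⟩
  · exact Or.inl h
  · exact Or.inr (Or.inl h)
  · exact Or.inr (Or.inr (Or.inl h))
  · right; right; right
    haveI : Fact (Nat.Prime 7) := ⟨by norm_num⟩
    have hcen3 : Subgroup.center (Matrix.SpecialLinearGroup (Fin 3) (ZMod 2)) = ⊥ := by
      rw [Subgroup.eq_bot_iff_card, CfsgLib.Classical.card_center_SL_fin 3 (by norm_num), Nat.card_zmod]; rfl
    haveI := CfsgLib.Classical.isSimpleGroup_PSL_fin (F := ZMod 2) 3 (by norm_num) (by omega)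
    let j : Matrix.ProjectiveSpecialLinearGroup (Fin 3) (ZMod 2) ≃* Matrix.SpecialLinearGroup (Fin 3) (ZMod 2) :=
      (QuotientGroup.quotientMulEquivOfEq hcen3).trans QuotientGroup.quotientBot
    have hbij : Function.Bijective (Matrix.SpecialLinearGroup.toGL :
        Matrix.SpecialLinearGroup (Fin 3) (ZMod 2) →* GL (Fin 3) (ZMod 2)) := by
      refine ⟨Matrix.SpecialLinearGroup.toGL_injective, fun g => ?_⟩
      refine ⟨⟨g.1, ?_⟩, Units.ext rfl⟩
      exact congrArg Units.val (Subsingleton.elim (Matrix.GeneralLinearGroup.det g) 1)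
    let k := j.trans (MulEquiv.ofBijective _ hbij)
    have hk : Nat.card (Matrix.ProjectiveSpecialLinearGroup (Fin 3) (ZMod 2)) = 168 := by
      rw [Nat.card_congr k.toEquiv, CfsgLib.Classical.card_GL_fin, Nat.card_zmod]; rfl
    obtain ⟨i1⟩ := Cfsg.Agent.S0495.result hc (F := ZMod 7) (ZMod.card 7)
    obtain ⟨i2⟩ := Cfsg.Agent.S0495.result hk (F := ZMod 7) (ZMod.card 7)
    exact ⟨i1.trans (i2.symm.trans k)⟩

end Cfsg.Agent.S2553
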