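import Cfsg.Statements.S2556
import Cfsg.Agent.Lib.KnownA.Suzuki.UniAut

set_option autoImplicit false
open Cfsg

namespace Cfsg.Agent.S2556

/-- Let S be a Sylow 2-subgroup of the Suzuki group Sz(q), q = 2ⁿ with n = 2m + 1 ≥ 3 (realised as 4 × 4 matrices over the field with q elements). Then the largest normal 2-subgroup of the automorphism group of S is elementary abelian of order 2^(n²), and the automorphism group of S has order 2^(n²) · n · (q − 1). -/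
theorem result {S : Type*} [Group S] [Finite S] (m : ℕ) (hm : 1 ≤ m)
    {F : Type*} [Field F] [Fintype F] (hF : Fintype.card F = 2 ^ (2 * m + 1))
    (P : Sylow 2 ↥(Cfsg.Lie.Sz F (2 ^ (m + 1)))) (hS : Nonempty (S ≃* ↥(P : Subgroup ↥(Cfsg.Lie.Sz F (2 ^ (m + 1)))))) :
    Cfsg.IsElementaryAbelian 2 (Cfsg.pCore 2 (MulAut S)) ∧ Nat.card ↥(Cfsg.pCore 2 (MulAut S)) = 2 ^ ((2 * m + 1) ^ 2) ∧
      Nat.card (MulAut S) = 2 ^ ((2 * m + 1) ^ 2) * ((2 * m + 1) * (2 ^ (2 * m + 1) - 1)) := by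
  haveI := Fact.mk Nat.prime_two
  have H := CfsgLib.KnownA.Suzuki.titsField_of_card hF
  obtain ⟨f⟩ := hS
  let g : ↥(CfsgLib.KnownA.Suzuki.uni H) ≃* S :=
    ((CfsgLib.KnownA.Suzuki.uniSylow H hF).equiv P).trans f.symm
  let c := MulAut.congr g
  obtain ⟨⟨hc1, hc2⟩, h2, h3⟩ := CfsgLib.KnownA.Suzuki.mulAut_uni_structure H hF
  rw [← CfsgLib.Base.map_pCore_mulEquiv c,
    Subgroup.card_map_of_injective (f := c.toMonoidHom) c.injective, ← Nat.card_congr c.toEquiv]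
  refine ⟨⟨⟨⟨?_⟩⟩, ?_⟩, h2, h3⟩
  · rintro ⟨_, a, ha, rfl⟩ ⟨_, b, hb, rfl⟩
    apply Subtype.ext
    show c a * c b = c b * c a
    rw [← map_mul, ← map_mul]
    exact congrArg c (congrArg Subtype.val (hc1.is_comm.comm ⟨a, ha⟩ ⟨b, hb⟩))
  · rintro _ ⟨a, ha, rfl⟩
    show c a ^ 2 = 1
    rw [← map_pow, hc2 a ha, map_one]

end Cfsg.Agent.S2556
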