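import Cfsg.Statements.S2561
import Cfsg.Agent.Lib.KnownB.F2Forms
-- import your own Cfsg.Agent.* helpers here

set_option autoImplicit false
open Cfsg

namespace Cfsg.Agent.S2561

/-- Fix the non-singular alternating form on the 2m-dimensional space over the field of two elements obtained by polarizing the plus-type form Σ xᵢyᵢ (m ≥ 1). The functions q on the space with q(u + v) = q(u) + q(v) + f(u, v) (the quadratic forms polarizing to f) number 2^(2m); each is equivalent under an invertible linear map either to the plus-type form or to the minus-type form Σ xᵢyᵢ + (z₁² + z₁z₂ + z₂²); and those of plus type number 2^(2m−1) + 2^(m−1), those of minus type 2^(2m−1) − 2^(m−1). -/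
theorem result (m : ℕ) (hm : 1 ≤ m) :
    Nat.card {q : (Fin m ⊕ Fin m → ZMod 2) → ZMod 2 // (∀ u v : (Fin m ⊕ Fin m → ZMod 2), q (u + v) = q u + q v + (Cfsg.quadFormPlus m (ZMod 2) (u + v) - Cfsg.quadFormPlus m (ZMod 2) u - Cfsg.quadFormPlus m (ZMod 2) v))} = 2 ^ (2 * m) ∧
    (∀ q : (Fin m ⊕ Fin m → ZMod 2) → ZMod 2, (∀ u v : (Fin m ⊕ Fin m → ZMod 2), q (u + v) = q u + q v + (Cfsg.quadFormPlus m (ZMod 2) (u + v) - Cfsg.quadFormPlus m (ZMod 2) u - Cfsg.quadFormPlus m (ZMod 2) v)) →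
      (∃ g : (Fin m ⊕ Fin m → ZMod 2) ≃ₗ[ZMod 2] (Fin m ⊕ Fin m → ZMod 2), ∀ v, q v = Cfsg.quadFormPlus m (ZMod 2) (g v)) ∨
      (∃ g : (Fin m ⊕ Fin m → ZMod 2) ≃ₗ[ZMod 2] ((Fin (m - 1) ⊕ Fin (m - 1)) ⊕ Fin 2 → ZMod 2), ∀ v, q v = Cfsg.quadFormMinus (m - 1) (ZMod 2) 1 1 (g v))) ∧
    Nat.card {q : (Fin m ⊕ Fin m → ZMod 2) → ZMod 2 // (∀ u v : (Fin m ⊕ Fin m → ZMod 2), q (u + v) = q u + q v + (Cfsg.quadFormPlus m (ZMod 2) (u + v) - Cfsg.quadFormPlus m (ZMod 2) u - Cfsg.quadFormPlus m (ZMod 2) v)) ∧ ∃ g : (Fin m ⊕ Fin m → ZMod 2) ≃ₗ[ZMod 2] (Fin m ⊕ Fin m → ZMod 2), ∀ v, q v = Cfsg.quadFormPlus m (ZMod 2) (g v)} = 2 ^ (2 * m - 1) + 2 ^ (m - 1) ∧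
    Nat.card {q : (Fin m ⊕ Fin m → ZMod 2) → ZMod 2 // (∀ u v : (Fin m ⊕ Fin m → ZMod 2), q (u + v) = q u + q v + (Cfsg.quadFormPlus m (ZMod 2) (u + v) - Cfsg.quadFormPlus m (ZMod 2) u - Cfsg.quadFormPlus m (ZMod 2) v)) ∧ ∃ g : (Fin m ⊕ Fin m → ZMod 2) ≃ₗ[ZMod 2] ((Fin (m - 1) ⊕ Fin (m - 1)) ⊕ Fin 2 → ZMod 2), ∀ v, q v = Cfsg.quadFormMinus (m - 1) (ZMod 2) 1 1 (g v)} = 2 ^ (2 * m - 1) - 2 ^ (m - 1) := by
  obtain ⟨k, rfl⟩ : ∃ k, m = k + 1 := ⟨m - 1, by omega⟩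
  let V := Fin (k + 1) ⊕ Fin (k + 1) → ZMod 2
  let Q : V → ZMod 2 := Cfsg.quadFormPlus (k + 1) (ZMod 2)
  let f : V → V → ZMod 2 := CfsgLib.KnownB.F2Forms.pol
  let w0 : Fin (k + 1) ⊕ Fin (k + 1) → ZMod 2 := Pi.single (.inl (Fin.last k)) 1 + Pi.single (.inr (Fin.last k)) 1
  let idx : (Fin k ⊕ Fin k) ⊕ Fin 2 → Fin (k + 1) ⊕ Fin (k + 1) :=
    Sum.elim (Sum.elim (fun i => .inl i.castSucc) (fun i => .inr i.castSucc))
      ![.inl (Fin.last k), .inr (Fin.last k)]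
  have hidx : Function.Bijective idx := by
    rw [Fintype.bijective_iff_surjective_and_card]
    refine ⟨?_, by simp; omega⟩
    rintro (z | z) <;> induction z using Fin.lastCases with
    | last => first | exact ⟨.inr 0, rfl⟩ | exact ⟨.inr 1, rfl⟩
    | cast i => first | exact ⟨.inl (.inl i), rfl⟩ | exact ⟨.inl (.inr i), rfl⟩
  let g0 : V ≃ₗ[ZMod 2] ((Fin k ⊕ Fin k) ⊕ Fin 2 → ZMod 2) :=
    LinearEquiv.funCongrLeft (ZMod 2) (ZMod 2) (Equiv.ofBijective idx hidx)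
  have hg0 : ∀ (v : V) z, g0 v z = v (idx z) := fun v z => rfl
  have hmin : ∀ v, Q v + f v w0 = Cfsg.quadFormMinus k (ZMod 2) 1 1 (g0 v) := by
    intro v
    change Cfsg.quadFormPlus (k + 1) (ZMod 2) v + CfsgLib.KnownB.F2Forms.pol v w0 = _
    rw [CfsgLib.KnownB.F2Forms.pol_eq, Cfsg.quadFormPlus, Cfsg.quadFormMinus, Fin.sum_univ_castSucc, Fin.sum_univ_castSucc]
    simp only [hg0, idx, Sum.elim_inl, Sum.elim_inr, Matrix.cons_val_zero, Matrix.cons_val_one, one_mul]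
    have hsq : ∀ c : ZMod 2, c ^ 2 = c := by decide
    rw [Finset.sum_eq_zero (f := fun i : Fin k => v (.inl i.castSucc) * w0 (.inr i.castSucc) + w0 (.inl i.castSucc) * v (.inr i.castSucc))
      (fun i _ => by simp [w0, Pi.add_apply, Pi.single_apply, (Fin.castSucc_lt_last i).ne]), hsq, hsq]
    simp [w0]
    ring
  have hw0 : Q w0 = 1 := by
    change Cfsg.quadFormPlus (k + 1) (ZMod 2) w0 = 1
    rw [Cfsg.quadFormPlus, Fin.sum_univ_castSucc, Finset.sum_eq_zero (fun i _ => by simp [w0, Pi.add_apply, Pi.single_apply, (Fin.castSucc_lt_last i).ne])]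
    simp [w0]
  have hplus : ∀ w, Q w = 0 → ∃ g : V ≃ₗ[ZMod 2] V, ∀ v, Q v + f v w = Q (g v) := fun w h =>
    (CfsgLib.KnownB.F2Forms.equiv_plus_iff w).2 h
  have hminus : ∀ w, Q w ≠ 0 → ∃ g : V ≃ₗ[ZMod 2] ((Fin k ⊕ Fin k) ⊕ Fin 2 → ZMod 2),
      ∀ v, Q v + f v w = Cfsg.quadFormMinus k (ZMod 2) 1 1 (g v) := by
    intro w hw
    have h1 := (by decide : ∀ c : ZMod 2, c ≠ 0 → c = 1) _ hw
    have hu : (fun v => Q v + f v w0) (w + w0) = 0 := by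
      change Q (w + w0) + f (w + w0) w0 = 0
      rw [show Q (w + w0) = Q w + Q w0 + f w w0 from CfsgLib.KnownB.F2Forms.isPol_plus w w0,
        show f (w + w0) w0 = f w w0 + f w0 w0 from CfsgLib.KnownB.F2Forms.pol_add_left w w0 w0,
        show f w0 w0 = 0 from CfsgLib.KnownB.F2Forms.pol_self w0, h1, hw0]
      exact (by decide : ∀ c : ZMod 2, 1 + 1 + c + (c + 0) = 0) _
    obtain ⟨g, hg⟩ := CfsgLib.KnownB.F2Forms.exists_equiv_add_pol (CfsgLib.KnownB.F2Forms.isPol_plus.add_pol w0) hu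
    refine ⟨g.trans g0, fun v => ?_⟩
    rw [LinearEquiv.trans_apply, ← hmin]
    refine Eq.trans ?_ (hg v)
    change Q v + f v w = Q v + f v w0 + CfsgLib.KnownB.F2Forms.pol v (w + w0)
    rw [CfsgLib.KnownB.F2Forms.pol_add_right]
    exact (by decide : ∀ a b c : ZMod 2, a + b = a + c + (b + c)) _ _ _
  have hnot : ∀ w, (∃ g : V ≃ₗ[ZMod 2] ((Fin k ⊕ Fin k) ⊕ Fin 2 → ZMod 2),
      ∀ v, Q v + f v w = Cfsg.quadFormMinus k (ZMod 2) 1 1 (g v)) → Q w ≠ 0 := by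
    rintro w ⟨g, hg⟩ h0
    obtain ⟨e, he⟩ := hplus w h0
    refine (one_ne_zero : (1 : ZMod 2) ≠ 0) (hw0.symm.trans ((CfsgLib.KnownB.F2Forms.equiv_plus_iff w0).1 ⟨(g0.trans g.symm).trans e, fun v => ?_⟩))
    change Q v + f v w0 = Q (e (g.symm (g0 v)))
    rw [← he, hmin, hg, LinearEquiv.apply_symm_apply]
  let Φ : V → {q : V → ZMod 2 // CfsgLib.KnownB.F2Forms.IsPol q} := fun w =>
    ⟨fun v => Q v + f v w, CfsgLib.KnownB.F2Forms.isPol_plus.add_pol w⟩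
  have hΦ : Function.Bijective Φ := by
    refine ⟨fun a b h => CfsgLib.KnownB.F2Forms.add_pol_injective (congrFun (congrArg Subtype.val h)), ?_⟩
    rintro ⟨q, hq⟩
    obtain ⟨w, hw⟩ := CfsgLib.KnownB.F2Forms.exists_eq_add_pol hq
    exact ⟨w, Subtype.ext (funext fun v => (hw v).symm)⟩
  have hcard : Nat.card V = 2 ^ (2 * (k + 1)) := by
    rw [Nat.card_fun, Nat.card_sum, Nat.card_fin, Nat.card_zmod, two_mul]
  have hcount : ∀ (P : (V → ZMod 2) → Prop),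
      Nat.card {q : V → ZMod 2 // CfsgLib.KnownB.F2Forms.IsPol q ∧ P q} = Nat.card {w : V // P (fun v => Q v + f v w)} := by
    intro P
    refine (Nat.card_congr ((Equiv.subtypeEquiv (Equiv.ofBijective Φ hΦ) (q := fun x => P x.1) fun w => Iff.rfl).trans ?_)).symm
    exact Equiv.subtypeSubtypeEquivSubtypeInter _ _
  have hz : Nat.card {w : V // Q w = 0} * 2 = 2 ^ (2 * (k + 1)) + 2 ^ (k + 1) := by
    rw [Nat.card_eq_fintype_card, Fintype.card_subtype]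
    exact CfsgLib.KnownB.F2Forms.card_zeros
  have hnz : Nat.card {w : V // Q w ≠ 0} + Nat.card {w : V // Q w = 0} = 2 ^ (2 * (k + 1)) := by
    rw [← hcard, ← Nat.card_sum]
    exact Nat.card_congr ((Equiv.sumComm _ _).trans (Equiv.sumCompl fun w : V => Q w = 0))
  have hp1 : 2 ^ (2 * (k + 1)) = 2 * 2 ^ (2 * (k + 1) - 1) := by rw [← pow_succ']; rfl
  have hp2 : 2 ^ (k + 1) = 2 * 2 ^ (k + 1 - 1) := by rw [← pow_succ']; rfl
  refine ⟨?_, ?_, ?_, ?_⟩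
  · exact ((Nat.card_congr (Equiv.ofBijective Φ hΦ)).symm.trans hcard)
  · intro q hq
    obtain ⟨w, hw⟩ := CfsgLib.KnownB.F2Forms.exists_eq_add_pol (q := q) hq
    by_cases h0 : Q w = 0
    · obtain ⟨g, hg⟩ := hplus w h0
      exact Or.inl ⟨g, fun v => (hw v).trans (hg v)⟩
    · obtain ⟨g, hg⟩ := hminus w h0
      exact Or.inr ⟨g, fun v => (hw v).trans (hg v)⟩
  · refine (hcount (fun q => ∃ g : V ≃ₗ[ZMod 2] V, ∀ v, q v = Q (g v))).trans ?_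
    rw [Nat.card_congr (Equiv.subtypeEquivRight fun w => CfsgLib.KnownB.F2Forms.equiv_plus_iff w)]
    change Nat.card {w : V // Q w = 0} = _
    omega
  · refine (hcount (fun q => ∃ g : V ≃ₗ[ZMod 2] ((Fin k ⊕ Fin k) ⊕ Fin 2 → ZMod 2), ∀ v, q v = Cfsg.quadFormMinus k (ZMod 2) 1 1 (g v))).trans ?_
    rw [Nat.card_congr (Equiv.subtypeEquivRight fun w => (⟨hnot w, hminus w⟩ : _ ↔ Q w ≠ 0))]
    omega

end Cfsg.Agent.S2561
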