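import Cfsg.Statements.S2562
import Cfsg.Agent.Lib.Geometry.OmegaTrans

set_option autoImplicit false
open Cfsg CfsgLib.Geometry

namespace Cfsg.Agent.S2562

/-- Witt indices over the field of two elements, m ≥ 1: for the plus-type form Σ xᵢyᵢ in dimension 2m some m-dimensional subspace is totally singular and no totally singular subspace has larger dimension; for the minus-type form Σ xᵢyᵢ + (z₁² + z₁z₂ + z₂²) in dimension 2m the maximal dimension of a totally singular subspace is m − 1. -/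
theorem result (m : ℕ) (hm : 1 ≤ m) :
    (∃ U : Submodule (ZMod 2) (Fin m ⊕ Fin m → ZMod 2), (∀ u ∈ U, Cfsg.quadFormPlus m (ZMod 2) u = 0) ∧ Module.finrank (ZMod 2) ↥U = m) ∧
    (∀ U : Submodule (ZMod 2) (Fin m ⊕ Fin m → ZMod 2), (∀ u ∈ U, Cfsg.quadFormPlus m (ZMod 2) u = 0) → Module.finrank (ZMod 2) ↥U ≤ m) ∧
    (∃ U : Submodule (ZMod 2) ((Fin (m - 1) ⊕ Fin (m - 1)) ⊕ Fin 2 → ZMod 2), (∀ u ∈ U, Cfsg.quadFormMinus (m - 1) (ZMod 2) 1 1 u = 0) ∧ Module.finrank (ZMod 2) ↥U = m - 1) ∧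
    (∀ U : Submodule (ZMod 2) ((Fin (m - 1) ⊕ Fin (m - 1)) ⊕ Fin 2 → ZMod 2), (∀ u ∈ U, Cfsg.quadFormMinus (m - 1) (ZMod 2) 1 1 u = 0) → Module.finrank (ZMod 2) ↥U ≤ m - 1) := by
  obtain ⟨k, rfl⟩ : ∃ k, m = k + 1 := ⟨m - 1, by omega⟩
  have hQp := nondegenerate_plus (F := ZMod 2) (k + 1)
  have hab : ∀ z₁ z₂ : ZMod 2, z₁ ^ 2 + 1 * z₁ * z₂ + 1 * z₂ ^ 2 = 0 → z₁ = 0 ∧ z₂ = 0 := by decide
  have hQm : (QuadraticMap.polarBilin (matQuad (minusMat k (ZMod 2) 1 1))).Nondegenerate :=
    nondegenerate_matQuad (by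
      rw [det_minus_gram]; exact mul_ne_zero (pow_ne_zero _ (by decide)) (by decide))
  refine ⟨⟨_, ?_, (isMaxSing_ker_inr (k + 1)).1⟩, fun U hU => ?_, ?_, ?_⟩
  · intro u hu
    rw [← coe_matQuad_plus]
    exact (isMaxSing_ker_inr (k + 1)).2 u hu
  · rw [← coe_matQuad_plus] at hU
    have := Submodule.finrank_mono (show U ≤ polarPerp _ U from fun x hx => mem_polarPerp.2 fun y hy =>
      polar_eq_zero_of_singular hU hy hx)
    have := finrank_polarPerp hQp U
    simp at this
    omega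
  all_goals rw [Nat.add_sub_cancel]
  · let ι : (Fin k → ZMod 2) →ₗ[ZMod 2] ((Fin k ⊕ Fin k) ⊕ Fin 2 → ZMod 2) :=
      LinearMap.pi fun z => Sum.elim (Sum.elim (fun i => LinearMap.proj i) (fun _ => 0)) (fun _ => 0) z
    refine ⟨LinearMap.range ι, ?_, ?_⟩
    · rintro _ ⟨x, rfl⟩
      simp [ι, Cfsg.quadFormMinus]
    · rw [LinearMap.finrank_range_of_inj (fun x y h => funext fun i => congrFun h (.inl (.inl i)))]
      simp
  · intro U hU
    by_contra hlt
    push Not at hlt
    rw [← coe_matQuad_minus] at hU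
    let ι : (Fin k → ZMod 2) →ₗ[ZMod 2] ((Fin k ⊕ Fin k) ⊕ Fin 2 → ZMod 2) :=
      LinearMap.pi fun z => Sum.elim (Sum.elim (fun i => LinearMap.proj i) (fun _ => 0)) (fun _ => 0) z
    have hι : Function.Injective ι := fun x y h => funext fun i => congrFun h (.inl (.inl i))
    have hι0 : ∀ x, matQuad (minusMat k (ZMod 2) 1 1) (ι x) = 0 := fun x => by
      rw [coe_matQuad_minus]; simp [ι, Cfsg.quadFormMinus]
    obtain ⟨fam, hfam⟩ := exists_linearIndependent_of_le_finrank (R := ZMod 2) (M := U) (le_of_lt hlt)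
    let U' := Submodule.span (ZMod 2) (Set.range fun i => (fam i : (Fin k ⊕ Fin k) ⊕ Fin 2 → ZMod 2))
    have hU' : U' ≤ U := Submodule.span_le.2 (by rintro _ ⟨i, rfl⟩; exact (fam i).2)
    have hUd : Module.finrank (ZMod 2) U' = k :=
      (finrank_span_eq_card (hfam.map' U.subtype (Submodule.ker_subtype U))).trans (Fintype.card_fin k)
    let e : U' ≃ₗ[ZMod 2] (Fin k → ZMod 2) := LinearEquiv.ofFinrankEq _ _ (by simp [hUd])
    obtain ⟨g, hg, hgU⟩ := quad_witt hQm U' (ι.comp e.toLinearMap) (hι.comp e.injective)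
      (fun u => (hι0 _).trans (hU _ (hU' u.2)).symm)
    have hmem : ∀ u ∈ U, g u ∈ LinearMap.range ι := by
      intro u hu
      have hq : matQuad (minusMat k (ZMod 2) 1 1) (g u) = 0 := (hg u).trans (hU u hu)
      have hp : ∀ x, QuadraticMap.polar (matQuad (minusMat k (ZMod 2) 1 1)) (ι x) (g u) = 0 := fun x => by
        obtain ⟨y, rfl⟩ := e.surjective x
        rw [show ι (e y) = g (y : _) from (hgU y).symm, orth_polar hg]
        exact polar_eq_zero_of_singular hU (hU' y.2) hu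
      have hy : ∀ i, g u (.inl (.inr i)) = 0 := fun i => by
        have := hp (Pi.single i 1)
        rw [coe_matQuad_minus] at this
        simpa [QuadraticMap.polar, ι, Cfsg.quadFormMinus, add_mul, Finset.sum_add_distrib,
          Pi.single_apply] using this
      rw [coe_matQuad_minus] at hq
      simp [Cfsg.quadFormMinus, hy] at hq
      obtain ⟨h0, h1'⟩ := hab _ _ (by simpa using hq)
      refine ⟨fun i => g u (.inl (.inl i)), funext fun z => ?_⟩
      rcases z with (i | i) | l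
      · simp [ι]
      · simp [ι, hy]
      · fin_cases l <;> simp [ι, h0, h1']
    have := Submodule.finrank_mono (show U.map g.toLinearMap ≤ LinearMap.range ι by
      rintro _ ⟨u, hu, rfl⟩; exact hmem u hu)
    rw [LinearEquiv.finrank_map_eq, LinearMap.finrank_range_of_inj hι] at this
    simp at this
    omega

end Cfsg.Agent.S2562
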