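import Cfsg.Statements.S2564
import Cfsg.Agent.Lib.KnownB.F2Forms
-- import your own Cfsg.Agent.* helpers here

set_option autoImplicit false
open Cfsg

namespace Cfsg.Agent.S2564

/-- On the 2m-dimensional space over the field of two elements (m ≥ 1) let f be the alternating form obtained by polarizing the plus-type form Σ xᵢyᵢ, and let q be any quadratic form polarizing to f. For a vector w, the function q + f(·, w) again polarizes to f, and it is equivalent to q under an invertible linear map (that is, has the same type) if and only if q(w) = 0. -/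
theorem result (m : ℕ) (hm : 1 ≤ m) (q : (Fin m ⊕ Fin m → ZMod 2) → ZMod 2) (hq : (∀ u v : (Fin m ⊕ Fin m → ZMod 2), q (u + v) = q u + q v + (Cfsg.quadFormPlus m (ZMod 2) (u + v) - Cfsg.quadFormPlus m (ZMod 2) u - Cfsg.quadFormPlus m (ZMod 2) v))) (w : (Fin m ⊕ Fin m → ZMod 2)) :
    (∀ u v : (Fin m ⊕ Fin m → ZMod 2), (q (u + v) + (Cfsg.quadFormPlus m (ZMod 2) (u + v + w) - Cfsg.quadFormPlus m (ZMod 2) (u + v) - Cfsg.quadFormPlus m (ZMod 2) w)) =
        (q u + (Cfsg.quadFormPlus m (ZMod 2) (u + w) - Cfsg.quadFormPlus m (ZMod 2) u - Cfsg.quadFormPlus m (ZMod 2) w)) + (q v + (Cfsg.quadFormPlus m (ZMod 2) (v + w) - Cfsg.quadFormPlus m (ZMod 2) v - Cfsg.quadFormPlus m (ZMod 2) w)) +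
        (Cfsg.quadFormPlus m (ZMod 2) (u + v) - Cfsg.quadFormPlus m (ZMod 2) u - Cfsg.quadFormPlus m (ZMod 2) v)) ∧
    ((∃ g : (Fin m ⊕ Fin m → ZMod 2) ≃ₗ[ZMod 2] (Fin m ⊕ Fin m → ZMod 2), ∀ v, q v + (Cfsg.quadFormPlus m (ZMod 2) (v + w) - Cfsg.quadFormPlus m (ZMod 2) v - Cfsg.quadFormPlus m (ZMod 2) w) = q (g v)) ↔ q w = 0) := by
  have hpol : CfsgLib.KnownB.F2Forms.IsPol q := fun u v => hq u v
  constructor
  · intro u v
    exact (hpol.add_pol w) u v
  · constructor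
    · rintro ⟨g, hg⟩
      obtain ⟨x, hx⟩ := CfsgLib.KnownB.F2Forms.exists_eq_add_pol hpol
      have key : ∀ y : Fin m ⊕ Fin m → ZMod 2, (∃ e : (Fin m ⊕ Fin m → ZMod 2) ≃ₗ[ZMod 2] (Fin m ⊕ Fin m → ZMod 2),
          ∀ v, Cfsg.quadFormPlus m (ZMod 2) v + CfsgLib.KnownB.F2Forms.pol v y = Cfsg.quadFormPlus m (ZMod 2) (e v)) ↔
            Cfsg.quadFormPlus m (ZMod 2) y = 0 := CfsgLib.KnownB.F2Forms.equiv_plus_iff
      have hg' : ∀ v, Cfsg.quadFormPlus m (ZMod 2) v + CfsgLib.KnownB.F2Forms.pol v (x + w) = q (g v) := fun v => by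
        rw [CfsgLib.KnownB.F2Forms.pol_add_right, ← add_assoc, ← hx]
        exact hg v
      have hiff : Cfsg.quadFormPlus m (ZMod 2) (x + w) = 0 ↔ Cfsg.quadFormPlus m (ZMod 2) x = 0 := by
        rw [← key, ← key]
        constructor
        · rintro ⟨e, he⟩
          refine ⟨g.symm.trans e, fun v => ?_⟩
          rw [← hx, LinearEquiv.trans_apply, ← he, hg', LinearEquiv.apply_symm_apply]
        · rintro ⟨e, he⟩
          refine ⟨g.trans e, fun v => ?_⟩
          rw [LinearEquiv.trans_apply, ← he, ← hx, hg']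
      rw [hx w]
      rw [CfsgLib.KnownB.F2Forms.isPol_plus x w, CfsgLib.KnownB.F2Forms.pol_comm x w, add_assoc] at hiff
      exact (by decide : ∀ a b : ZMod 2, ((a + b = 0) ↔ (a = 0)) → b = 0) _ _ hiff
    · intro h
      exact CfsgLib.KnownB.F2Forms.exists_equiv_add_pol hpol h

end Cfsg.Agent.S2564
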