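import Cfsg.Statements.S2565
import Cfsg.Agent.Lib.KnownB.EvenSets
-- import your own Cfsg.Agent.* helpers here

set_option autoImplicit false
open Cfsg

namespace Cfsg.Agent.S2565

/-- The commutator subgroup of the full orthogonal group of the plus-type form Σ xᵢyᵢ in dimension 6 over the field of two elements (the group Ω⁺₆(2), of index 2) is isomorphic to the alternating group of degree 8. -/
theorem result :
    (Cfsg.Omega (ZMod 2) (Cfsg.quadFormPlus 3 (ZMod 2))).index = 2 ∧
    Nonempty (↥(Cfsg.Omega (ZMod 2) (Cfsg.quadFormPlus 3 (ZMod 2))) ≃* alternatingGroup (Fin 8)) := by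
  classical
  obtain ⟨φ, hφ⟩ := (CfsgLib.KnownB.EvenSets.main 1 le_rfl).1 odd_one
  have hcard : Nat.card (Equiv.Perm (Fin (4 * 1 + 4))) = Nat.card ↥(Cfsg.isometryGroup (ZMod 2) (Cfsg.quadFormPlus (2 * 1 + 1) (ZMod 2))) := by
    rw [CfsgLib.Classical.card_isometry_plus, Nat.card_perm, Nat.card_fin, Nat.card_zmod]
    rfl
  have hbij : Function.Bijective φ := (Nat.bijective_iff_injective_and_card φ).2 ⟨hφ, hcard⟩
  let e : Equiv.Perm (Fin 8) ≃* ↥(Cfsg.isometryGroup (ZMod 2) (Cfsg.quadFormPlus 3 (ZMod 2))) := MulEquiv.ofBijective φ hbij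
  have hO : (alternatingGroup (Fin 8)).map e.toMonoidHom = Cfsg.Omega (ZMod 2) (Cfsg.quadFormPlus 3 (ZMod 2)) := by
    rw [← alternatingGroup.commutator_perm_eq (by rw [Nat.card_fin]; norm_num), Cfsg.Omega, commutator_def,
      commutator_def, Subgroup.map_commutator, Subgroup.map_top_of_surjective e.toMonoidHom e.surjective]
  refine ⟨?_, ⟨?_⟩⟩
  · rw [← hO, show e.toMonoidHom = (e : _ →* _) from rfl, Subgroup.index_map_equiv]
    exact alternatingGroup.index_eq_two
  · rw [← hO]
    exact ((alternatingGroup (Fin 8)).equivMapOfInjective e.toMonoidHom e.injective).symm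

end Cfsg.Agent.S2565
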