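import Cfsg.Statements.S2567
-- import your own Cfsg.Agent.* helpers here

set_option autoImplicit false
open Cfsg

namespace Cfsg.Agent.S2567

/-- Lifting elements of prime order from PGL to GL: let F be a finite field with q elements, r a prime not dividing q − 1, and x an element of order r in GL_n(F) modulo its centre (the scalar matrices). Then x has exactly one preimage in GL_n(F) of order r. -/
theorem result {F : Type*} [Field F] [Fintype F] {q n r : ℕ} (hF : Fintype.card F = q) (hr : r.Prime) (hdiv : ¬ r ∣ q - 1) (x : GL (Fin n) F ⧸ Subgroup.center (GL (Fin n) F)) (hx : orderOf x = r) : ∃! g : GL (Fin n) F, (QuotientGroup.mk g : GL (Fin n) F ⧸ Subgroup.center (GL (Fin n) F)) = x ∧ orderOf g = r := by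
  haveI : Fact r.Prime := ⟨hr⟩
  have hZ : Nat.card (Subgroup.center (GL (Fin n) F)) ∣ q - 1 := by
    have h1 : Nat.card (Subgroup.center (GL (Fin n) F)) ∣ Nat.card Fˣ := by
      rw [show Subgroup.center (GL (Fin n) F) = _ from Matrix.GeneralLinearGroup.center_eq_range_scalar]
      exact Subgroup.card_range_dvd _
    rwa [Nat.card_units, Nat.card_eq_fintype_card (α := F), hF] at h1
  have hco : (Nat.card (Subgroup.center (GL (Fin n) F))).Coprime r :=
    ((hr.coprime_iff_not_dvd).2 fun h => hdiv (h.trans hZ)).symm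
  obtain ⟨a, ha⟩ := QuotientGroup.mk_surjective x
  have har : a ^ r ∈ (Subgroup.center (GL (Fin n) F)) := by
    rw [← QuotientGroup.eq_one_iff, QuotientGroup.mk_pow, ha, ← hx, pow_orderOf_eq_one]
  obtain ⟨w, hw⟩ := (powCoprime hco).surjective ⟨a ^ r, har⟩
  have hwr : (w : GL (Fin n) F) ^ r = a ^ r := by
    simpa using congrArg Subtype.val hw
  have hcomm : Commute a (w : GL (Fin n) F)⁻¹ := Commute.inv_right (show Commute a (w : GL (Fin n) F) from Subgroup.mem_center_iff.1 w.2 a)
  have hmk : ((a * (w : GL (Fin n) F)⁻¹ : GL (Fin n) F) : GL (Fin n) F ⧸ (Subgroup.center (GL (Fin n) F))) = (a : GL (Fin n) F ⧸ (Subgroup.center (GL (Fin n) F))) := by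
    rw [QuotientGroup.eq]
    simp [← mul_assoc]
  rw [ha] at hmk
  refine ⟨a * (w : GL (Fin n) F)⁻¹, ⟨hmk, orderOf_eq_prime ?_ ?_⟩, ?_⟩
  · rw [hcomm.mul_pow, inv_pow, hwr, mul_inv_cancel]
  · intro h1
    rw [h1, QuotientGroup.mk_one] at hmk
    rw [← hmk, orderOf_one] at hx
    exact hr.ne_one hx.symm
  · rintro g ⟨hg, hgr⟩
    rw [← hmk, QuotientGroup.eq] at hg
    set v := g⁻¹ * (a * (w : GL (Fin n) F)⁻¹)
    have hv : v ^ r = 1 := by
      have hc : Commute g v := Subgroup.mem_center_iff.1 hg g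
      have h2 : (g * v) ^ r = 1 := by
        rw [mul_inv_cancel_left, hcomm.mul_pow, inv_pow, hwr, mul_inv_cancel]
      rwa [hc.mul_pow, ← hgr, pow_orderOf_eq_one, one_mul, hgr] at h2
    have hv1 : (⟨v, hg⟩ : (Subgroup.center (GL (Fin n) F))) = 1 := by
      refine (powCoprime hco).injective ?_
      apply Subtype.ext
      simpa using hv
    have := congrArg Subtype.val hv1
    exact inv_mul_eq_one.1 this

end Cfsg.Agent.S2567
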