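import Cfsg.Statements.S2568
-- import your own Cfsg.Agent.* helpers here
import Cfsg.Agent.Lib.KnownB.PrimeOrderClasses

set_option autoImplicit false
open Cfsg

namespace Cfsg.Agent.S2568

/-- Number of conjugacy classes of elements of a given prime order r, coprime to the characteristic, in GL_n(q): if i is the multiplicative order of q modulo r and t = (r − 1)/i, the classes correspond to the non-zero t-tuples of natural numbers (a_1, …, a_t) with i(a_1 + ⋯ + a_t) ≤ n (a_j is the multiplicity of the j-th Frobenius orbit of nontrivial r-th roots of unity among the eigenvalues), so there are exactly C(⌊n/i⌋ + t, t) − 1 of them. -/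
theorem result {F : Type*} [Field F] [Fintype F] {p q : ℕ} [Fact p.Prime] [CharP F p] (hF : Fintype.card F = q) (n r i t : ℕ) (hr : r.Prime) (hrp : r ≠ p) (hi : i = orderOf (q : ZMod r)) (ht : t * i = r - 1) : Nat.card {C : ConjClasses (GL (Fin n) F) // ∃ g : GL (Fin n) F, ConjClasses.mk g = C ∧ orderOf g = r} = Nat.choose (n / i + t) t - 1 := by
  classical
  haveI : Fact r.Prime := ⟨hr⟩
  have hrF : (r : F) ≠ 0 := by
    rw [Ne, CharP.cast_eq_zero_iff F p, Nat.prime_dvd_prime_iff_eq (Fact.out : p.Prime) hr]
    exact Ne.symm hrp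
  rw [← hF] at hi
  have hi0 : i ≠ 0 := by
    rintro rfl
    rw [mul_zero] at ht
    have := hr.two_le
    omega
  have h1 := CfsgLib.KnownB.PrimeOrder.card_factors (F := F) hrF
  rw [← hi, ← ht] at h1
  rw [← Nat.eq_of_mul_eq_mul_right (Nat.pos_of_ne_zero hi0) h1]
  exact CfsgLib.KnownB.PrimeOrder.card_classes hrF p n i hi hi0

end Cfsg.Agent.S2568
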