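import Cfsg.Statements.S2572
import Cfsg.Agent.Lib.KnownB.Transvection
-- import your own Cfsg.Agent.* helpers here

set_option autoImplicit false
open Cfsg

namespace Cfsg.Agent.S2572

/-- Centraliser of a transvection in GL_n(q), n ≥ 2: if t − 1 has rank one and square zero, the centraliser of t in GL_n(q) has order q^(2n−3) (q − 1) |GL_(n−2)(q)| (a group of order q^(2n−3) extended by GL_1(q) × GL_(n−2)(q)). -/
theorem result {F : Type*} [Field F] [Fintype F] {q n : ℕ} (hF : Fintype.card F = q) (hn : 2 ≤ n) (t : GL (Fin n) F) (ht : Cfsg.IsTransvection (t : Matrix (Fin n) (Fin n) F)) : Nat.card ↥(Subgroup.centralizer ({t} : Set (GL (Fin n) F))) = q ^ (2 * n - 3) * (q - 1) * ∏ i : Fin (n - 2), (q ^ (n - 2) - q ^ (i : ℕ)) := by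
  classical
  subst hF
  obtain ⟨k, rfl⟩ : ∃ k, n = k + 2 := ⟨n - 2, by omega⟩
  obtain ⟨Φ, hΦ⟩ := CfsgLib.KnownB.Transvection.exists_model_matrix ht.1 ht.2
  have hmod : ∀ x, CfsgLib.KnownB.Transvection.modelMap F k x = Φ.symm (((t : Matrix (Fin (k + 2)) (Fin (k + 2)) F) - 1).mulVec (Φ x)) :=
    fun x => by rw [hΦ, LinearEquiv.symm_apply_apply]
  let E := Matrix.GeneralLinearGroup.toLin.trans (LinearMap.GeneralLinearGroup.generalLinearEquiv F (Fin (k + 2) → F))
  have hE : ∀ g x, E g x = (g : Matrix (Fin (k + 2)) (Fin (k + 2)) F).mulVec x := fun g x => rfl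
  let c : GL (Fin (k + 2)) F ≃ (CfsgLib.KnownB.Transvection.Model F k ≃ₗ[F] CfsgLib.KnownB.Transvection.Model F k) :=
    E.toEquiv.trans
      { toFun := fun e => (Φ.trans e).trans Φ.symm
        invFun := fun e => (Φ.symm.trans e).trans Φ
        left_inv := fun e => by ext x; simp
        right_inv := fun e => by ext x <;> simp }
  have hc : ∀ g x, c g x = Φ.symm ((g : Matrix (Fin (k + 2)) (Fin (k + 2)) F).mulVec (Φ x)) := fun g x => by
    change Φ.symm (E g (Φ x)) = _
    rw [hE]
  have h := Nat.card_congr (Equiv.subtypeEquiv c (p := fun g => g ∈ Subgroup.centralizer ({t} : Set (GL (Fin (k + 2)) F)))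
    (q := fun T => ∀ x, T (CfsgLib.KnownB.Transvection.modelMap F k x) = CfsgLib.KnownB.Transvection.modelMap F k (T x)) fun g => ?_)
  · rw [h, CfsgLib.KnownB.Transvection.card_commutant, show k + 2 - 2 = k from rfl, show 2 * (k + 2) - 3 = 2 * k + 1 by omega]
  · rw [Subgroup.mem_centralizer_singleton_iff]
    constructor
    · intro hg x
      have hg' : (g : Matrix (Fin (k + 2)) (Fin (k + 2)) F) * (t : Matrix (Fin (k + 2)) (Fin (k + 2)) F) =
          (t : Matrix (Fin (k + 2)) (Fin (k + 2)) F) * g := congrArg Units.val hg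
      rw [hc, hc, hmod, hmod, LinearEquiv.apply_symm_apply, LinearEquiv.apply_symm_apply, Matrix.mulVec_mulVec,
        Matrix.mulVec_mulVec, mul_sub, sub_mul, hg', mul_one, one_mul]
    · intro hg
      refine Units.ext ?_
      have key : (g : Matrix (Fin (k + 2)) (Fin (k + 2)) F) * ((t : Matrix (Fin (k + 2)) (Fin (k + 2)) F) - 1) =
          ((t : Matrix (Fin (k + 2)) (Fin (k + 2)) F) - 1) * g := by
        refine Matrix.toLin'.injective (LinearMap.ext fun x => ?_)
        obtain ⟨y, rfl⟩ := Φ.surjective x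
        have := hg y
        rw [hc, hc, hmod, hmod, LinearEquiv.apply_symm_apply, LinearEquiv.apply_symm_apply] at this
        rw [Matrix.toLin'_apply, Matrix.toLin'_apply, ← Matrix.mulVec_mulVec, ← Matrix.mulVec_mulVec]
        exact Φ.symm.injective this
      rw [mul_sub, sub_mul, mul_one, one_mul, sub_left_inj] at key
      exact key

end Cfsg.Agent.S2572
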