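import Cfsg.Statements.S2574
import Cfsg.Agent.Lib.KnownB.Regular
-- import your own Cfsg.Agent.* helpers here

set_option autoImplicit false
open Cfsg

namespace Cfsg.Agent.S2574

/-- A regular unipotent element of the symplectic group has totally isotropic small invariant subspaces: over a finite field, if u ∈ Sp_2m(F) satisfies (u − 1)^(2m) = 0 and rank(u − 1) = 2m − 1, and W is a u-invariant subspace with 2 dim W ≤ 2m, then the alternating form vanishes identically on W. -/
theorem result {F : Type*} [Field F] [Finite F] {m : ℕ} (u : Matrix.symplecticGroup (Fin m) F) (hnil : ((u : Matrix (Fin m ⊕ Fin m) (Fin m ⊕ Fin m) F) - 1) ^ (2 * m) = 0) (hreg : ((u : Matrix (Fin m ⊕ Fin m) (Fin m ⊕ Fin m) F) - 1).rank = 2 * m - 1) (W : Submodule F (Fin m ⊕ Fin m → F)) (hW : ∀ v ∈ W, (u : Matrix (Fin m ⊕ Fin m) (Fin m ⊕ Fin m) F).mulVec v ∈ W) (hdim : 2 * Module.finrank F W ≤ 2 * m) : ∀ v ∈ W, ∀ w ∈ W, Cfsg.sympForm m F v w = 0 := by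
  set M : Matrix (Fin m ⊕ Fin m) (Fin m ⊕ Fin m) F := (u : Matrix (Fin m ⊕ Fin m) (Fin m ⊕ Fin m) F)
  set f : Module.End F (Fin m ⊕ Fin m → F) := Matrix.toLin' (M - 1)
  have hd : Module.finrank F (Fin m ⊕ Fin m → F) = 2 * m := by
    rw [Module.finrank_pi, Fintype.card_sum, Fintype.card_fin, two_mul]
  have hf : f ^ (2 * m) = 0 := by rw [← Matrix.toLin'_pow, hnil, map_zero]
  have h1 : Module.finrank F (LinearMap.ker f) ≤ 1 := by
    have h2 := LinearMap.finrank_range_add_finrank_ker f
    rw [hd, show Module.finrank F (LinearMap.range f) = (M - 1).rank from rfl, hreg] at h2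
    omega
  set k := Module.finrank F W
  have hWk : W = LinearMap.ker (f ^ k) := CfsgLib.KnownB.Regular.eq_ker_pow hd hf h1 (fun v hv => by
    rw [Matrix.toLin'_apply, Matrix.sub_mulVec, Matrix.one_mulVec]
    exact sub_mem (hW v hv) hv)
  have hrange : W = LinearMap.range (f ^ (2 * m - k)) := by
    refine (Submodule.eq_of_le_of_finrank_eq ?_ ?_).symm
    · rintro _ ⟨x, rfl⟩
      rw [hWk, LinearMap.mem_ker, ← Module.End.mul_apply, ← pow_add, Nat.add_sub_cancel' (by omega), hf,
        LinearMap.zero_apply]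
    · have h2 := LinearMap.finrank_range_add_finrank_ker (f ^ (2 * m - k))
      rw [hd, CfsgLib.KnownB.Regular.finrank_ker_pow hd hf h1 (Nat.sub_le _ _)] at h2
      change _ = k
      omega
  set J := Matrix.J (Fin m) F
  have hu : M * J * M.transpose = J := SymplecticGroup.mem_iff.1 u.2
  have hu' : M.transpose * J * M = J := SymplecticGroup.mem_iff'.1 u.2
  set Mi : Matrix (Fin m ⊕ Fin m) (Fin m ⊕ Fin m) F :=
    ((u⁻¹ : Matrix.symplecticGroup (Fin m) F) : Matrix (Fin m ⊕ Fin m) (Fin m ⊕ Fin m) F)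
  have hi : M * Mi = 1 := congrArg Subtype.val (mul_inv_cancel u)
  have hi' : Mi * M = 1 := congrArg Subtype.val (inv_mul_cancel u)
  have hadj : ∀ x y, Cfsg.sympForm m F ((M - 1).mulVec x) y = Cfsg.sympForm m F x ((Mi - 1).mulVec y) := by
    intro x y
    have h2 : M.transpose * J = J * Mi := by
      calc M.transpose * J = M.transpose * J * (M * Mi) := by rw [hi, mul_one]
        _ = J * Mi := by rw [← mul_assoc, hu']
    simp only [Cfsg.sympForm]
    rw [Matrix.sub_mulVec, Matrix.one_mulVec, sub_dotProduct, Matrix.sub_mulVec, Matrix.one_mulVec, Matrix.mulVec_sub,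
      dotProduct_sub, Matrix.mulVec_mulVec, ← h2, ← Matrix.mulVec_mulVec, Matrix.dotProduct_mulVec x M.transpose,
      Matrix.vecMul_transpose]
  have hpow : ∀ j x y, Cfsg.sympForm m F (((M - 1) ^ j).mulVec x) y = Cfsg.sympForm m F x (((Mi - 1) ^ j).mulVec y) := by
    intro j
    induction j with
    | zero => intro x y; simp
    | succ j ih =>
      intro x y
      rw [pow_succ, ← Matrix.mulVec_mulVec, ih, hadj, Matrix.mulVec_mulVec, ← pow_succ']
  intro v hv w hw
  rw [hrange] at hv
  obtain ⟨x, rfl⟩ := hv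
  rw [← Matrix.toLin'_pow, Matrix.toLin'_apply, hpow]
  have hc : Commute (-Mi) (M - 1) := by
    refine Commute.neg_left ((Commute.sub_right (show Commute Mi M from hi'.trans hi.symm) (Commute.one_right _)))
  have hMi : Mi - 1 = -Mi * (M - 1) := by rw [mul_sub, neg_mul, hi', mul_one]; abel
  have hw0 : ((M - 1) ^ (2 * m - k)).mulVec w = 0 := by
    rw [hWk, LinearMap.mem_ker, ← Matrix.toLin'_pow, Matrix.toLin'_apply] at hw
    rw [show 2 * m - k = (2 * m - k - k) + k by omega, pow_add, ← Matrix.mulVec_mulVec, hw, Matrix.mulVec_zero]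
  rw [hMi, hc.mul_pow, ← Matrix.mulVec_mulVec, hw0, Matrix.mulVec_zero]
  simp [Cfsg.sympForm]

end Cfsg.Agent.S2574
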