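import Cfsg.Statements.S2576
import Cfsg.Agent.Lib.KnownB.NegOne
-- import your own Cfsg.Agent.* helpers here

set_option autoImplicit false
open Cfsg

namespace Cfsg.Agent.S2576

/-- Which involutions of PGL_2m(q) coming from a scalar of the quadratic extension field lie in PSL_2m(q), q odd: let μ generate the Sylow 2-subgroup of the multiplicative group of the field with q elements (μ has order the 2-part of q − 1) and let t be the block-diagonal matrix with m diagonal blocks [[0, 1], [μ, 0]] (so t² is the scalar μ and t is an involution modulo scalars). Then some non-zero scalar multiple of t has determinant one if and only if q ≡ 3 (mod 4) or the 2-part of q − 1 is less than the 2-part of 2m. -/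
theorem result {F : Type*} [Field F] [Fintype F] {q : ℕ} (hF : Fintype.card F = q) (hq : Odd q) {m : ℕ} (hm : 1 ≤ m) (μ : F) (hμ : orderOf μ = 2 ^ padicValNat 2 (q - 1)) : (∃ c : F, c ≠ 0 ∧ (c • Matrix.blockDiagonal (fun _ : Fin m => !![(0 : F), 1; μ, 0])).det = 1) ↔ (q % 4 = 3 ∨ padicValNat 2 (q - 1) < padicValNat 2 (2 * m)) := by
  subst hF
  obtain ⟨k, hk, he1, he⟩ := CfsgLib.KnownB.NegOne.card_sub_one_eq (F := F) hq
  set e := padicValNat 2 (Fintype.card F - 1)
  have hchar : ringChar F ≠ 2 := fun h => by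
    have := FiniteField.even_card_of_char_two h
    rw [Nat.odd_iff.1 hq] at this
    exact one_ne_zero this
  have hhalf : Fintype.card F / 2 = 2 ^ (e - 1) * k := by
    have h2 : 2 ^ e * k = 2 * (2 ^ (e - 1) * k) := by rw [← mul_assoc, ← pow_succ', Nat.sub_add_cancel he1]
    obtain ⟨l, hl⟩ := hq
    omega
  have hdet : ∀ c : F, (c • Matrix.blockDiagonal (fun _ : Fin m => !![(0 : F), 1; μ, 0])).det = (c ^ 2) ^ m * (-μ) ^ m := fun c => by
    rw [Matrix.det_smul, Matrix.det_blockDiagonal, Finset.prod_const, Finset.card_univ, Fintype.card_prod,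
      Fintype.card_fin, Fintype.card_fin, ← pow_mul, Matrix.det_fin_two_of]
    simp
  simp only [hdet]
  have hv : padicValNat 2 (2 * m) = padicValNat 2 m + 1 := by
    rw [padicValNat.mul (by norm_num) (by omega), padicValNat.self (by norm_num), add_comm]
  rw [hv]
  rcases Nat.lt_or_ge e 2 with he2 | he2
  · have he' : e = 1 := by omega
    have h4 : Fintype.card F % 4 = 3 := by
      rw [he', pow_one] at he
      obtain ⟨l, hl⟩ := hk
      omega
    rw [he', pow_one] at hμ
    have hμ2 : μ = -1 := by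
      have h := pow_orderOf_eq_one μ
      rw [hμ] at h
      exact (sq_eq_one_iff.1 h).resolve_left fun h1 => by rw [h1, orderOf_one] at hμ; omega
    simp only [h4, true_or, iff_true, hμ2]
    exact ⟨1, one_ne_zero, by simp⟩
  have h4 : Fintype.card F % 4 ≠ 3 := by
    have : 2 ^ e = 4 * 2 ^ (e - 2) := by rw [show (4 : ℕ) = 2 ^ 2 from rfl, ← pow_add, Nat.add_sub_cancel' he2]
    rw [this, mul_assoc] at he
    obtain ⟨l, hl⟩ := hq
    omega
  simp only [h4, false_or]
  have hev : Even (Fintype.card F / 2) := hhalf ▸ (Nat.even_pow.2 ⟨even_two, by omega⟩).mul_right k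
  have hμ0 : μ ≠ 0 := fun h0 => by
    have := pow_orderOf_eq_one μ
    rw [hμ, h0, zero_pow (by positivity)] at this
    exact zero_ne_one this
  have hns : ∀ c : F, c ≠ 0 → (c ^ 2 * -μ) ^ (Fintype.card F / 2) ≠ 1 := fun c hc h => by
    rw [mul_pow, hev.neg_pow, ← pow_mul, show 2 * (Fintype.card F / 2) = Fintype.card F - 1 by
      obtain ⟨l, hl⟩ := hq; omega, FiniteField.pow_card_sub_one_eq_one c hc, one_mul] at h
    have h1 := orderOf_dvd_of_pow_eq_one h
    rw [hμ, hhalf] at h1
    have h2 := (Nat.Coprime.pow_left e (Nat.coprime_two_left.2 hk)).dvd_of_dvd_mul_right h1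
    rw [Nat.pow_dvd_pow_iff_le_right (by norm_num)] at h2
    omega
  constructor
  · rintro ⟨c, hc, h⟩
    rw [← mul_pow] at h
    set z := c ^ 2 * -μ
    have hz0 : z ≠ 0 := mul_ne_zero (pow_ne_zero _ hc) (neg_ne_zero.2 hμ0)
    suffices 2 ^ e ∣ m by
      have := (padicValNat_dvd_iff_le (p := 2) (by omega : m ≠ 0)).1 this
      omega
    refine dvd_trans ?_ (orderOf_dvd_of_pow_eq_one h)
    obtain ⟨j, hj, hje⟩ : ∃ j, j ∣ 2 ^ e ∧ ∃ r, r ∣ k ∧ orderOf z = j * r := by
      have hd : orderOf z ∣ 2 ^ e * k := he ▸ orderOf_dvd_of_pow_eq_one (FiniteField.pow_card_sub_one_eq_one z hz0)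
      obtain ⟨j, r, hj, hr, hjr⟩ := exists_dvd_and_dvd_of_dvd_mul hd
      exact ⟨j, hj, r, hr, hjr⟩
    obtain ⟨r, hr, hjr⟩ := hje
    obtain ⟨i, hi, rfl⟩ := (Nat.dvd_prime_pow Nat.prime_two).1 hj
    rcases eq_or_lt_of_le hi with rfl | hlt
    · exact Dvd.intro r hjr.symm
    · exfalso
      refine hns c hc (orderOf_dvd_iff_pow_eq_one.1 ?_)
      rw [hjr, hhalf]
      exact mul_dvd_mul (pow_dvd_pow 2 (by omega)) hr
  · intro hlt
    refine ⟨1, one_ne_zero, ?_⟩
    have hdm : 2 ^ e ∣ m := (pow_dvd_pow 2 (by omega : e ≤ padicValNat 2 m)).trans pow_padicValNat_dvd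
    have h1 : (-μ) ^ (2 ^ e) = 1 := by
      rw [(Nat.even_pow.2 ⟨even_two, by omega⟩).neg_pow, ← hμ, pow_orderOf_eq_one]
    obtain ⟨t, ht⟩ := hdm
    rw [one_pow, one_pow, one_mul, ht, pow_mul, h1, one_pow]

end Cfsg.Agent.S2576
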