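import Cfsg.Statements.S2578
import Cfsg.Agent.Lib.KnownB.Regular
import Cfsg.Agent.Lib.KnownA.Unipotent
-- import your own Cfsg.Agent.* helpers here

set_option autoImplicit false
open Cfsg

namespace Cfsg.Agent.S2578

/-- Regular unipotent classes of SL_n(q): for n ≥ 2 over the field with q elements, the matrices u of determinant one with (u − 1)^n = 0 and rank(u − 1) = n − 1 form a single GL_n(q)-class which splits into exactly gcd(n, q − 1) conjugacy classes of SL_n(q). -/
theorem result {F : Type*} [Field F] [Fintype F] {q : ℕ} (hF : Fintype.card F = q) {n : ℕ} (hn : 2 ≤ n) : Nat.card {C : ConjClasses (Matrix.SpecialLinearGroup (Fin n) F) // ∃ u : Matrix.SpecialLinearGroup (Fin n) F, ConjClasses.mk u = C ∧ ((u : Matrix (Fin n) (Fin n) F) - 1) ^ n = 0 ∧ ((u : Matrix (Fin n) (Fin n) F) - 1).rank = n - 1} = Nat.gcd n (q - 1) := by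
  classical
  subst hF
  set n' := n
  have hn1 : 1 ≤ n := by omega
  have hj : ∃ N : Matrix (Fin n) (Fin n) F, N ^ n = 0 ∧ N.rank = n - 1 := by
    let N : Matrix (Fin n) (Fin n) F := Matrix.of fun i j => if (j : ℕ) = (i : ℕ) + 1 then 1 else 0
    have hpow : ∀ k, N ^ k = Matrix.of fun i j : Fin n => if (j : ℕ) = (i : ℕ) + k then (1 : F) else 0 :=
      CfsgLib.KnownA.shiftMat_pow n
    have h0 : N ^ n = 0 := by
      ext i j
      rw [hpow, Matrix.of_apply, if_neg (by have := j.2; omega), Matrix.zero_apply]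
    refine ⟨N, h0, ?_⟩
    have h2 := LinearMap.finrank_range_add_finrank_ker N.mulVecLin
    rw [Module.finrank_fin_fun] at h2
    have hk : LinearMap.ker N.mulVecLin = Submodule.span F {Pi.single (⟨0, hn1⟩ : Fin n) (1 : F)} := by
      refine le_antisymm (fun x hx => ?_) ?_
      · rw [LinearMap.mem_ker, Matrix.mulVecLin_apply] at hx
        refine Submodule.mem_span_singleton.2 ⟨x ⟨0, hn1⟩, funext fun j => ?_⟩
        by_cases hj : j = ⟨0, hn1⟩
        · simp [hj]
        · have hj0 : (j : ℕ) ≠ 0 := fun h => hj (Fin.ext h)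
          have := congrFun hx ⟨(j : ℕ) - 1, by omega⟩
          rw [Matrix.mulVec, dotProduct, Finset.sum_eq_single j (fun b _ hb => by
            simp only [N, Matrix.of_apply]
            rw [if_neg (fun h => hb (Fin.ext (by have h' : (b : ℕ) = (j : ℕ) - 1 + 1 := h; omega))), zero_mul]) (by simp)] at this
          simp only [N, Matrix.of_apply, show (j : ℕ) - 1 + 1 = (j : ℕ) by omega, if_true, one_mul,
            Pi.zero_apply] at this
          simp [hj, this]
      · rw [Submodule.span_singleton_le_iff_mem, LinearMap.mem_ker, Matrix.mulVecLin_apply, Matrix.mulVec_single_one]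
        ext i
        simp [N]
    rw [hk, finrank_span_singleton (by simp)] at h2
    change Module.finrank F (LinearMap.range N.mulVecLin) = n - 1
    omega
  obtain ⟨N, hN, hNr⟩ := hj
  let P : Matrix.SpecialLinearGroup (Fin n) F → Prop := fun u =>
    CfsgLib.KnownB.Regular.IsRegularUnip (u : Matrix (Fin n) (Fin n) F)
  have hu0 : CfsgLib.KnownB.Regular.IsRegularUnip (1 + N) := by
    constructor <;> rw [add_sub_cancel_left]
    exacts [hN, hNr]
  have hdet : (1 + N).det = 1 := by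
    have hc : (-N).charpoly = Polynomial.X ^ n := by
      simpa [Fintype.card_fin, sub_eq_zero] using
        (Matrix.isNilpotent_charpoly_sub_pow_of_isNilpotent (IsNilpotent.neg ⟨n, hN⟩)).eq_zero
    have h3 : Polynomial.eval 1 (-N).charpoly = (1 + N).det := by
      rw [Matrix.eval_charpoly, map_one, sub_neg_eq_add]
    rw [← h3, hc, Polynomial.eval_pow, Polynomial.eval_X, one_pow]
  let u0 : Matrix.SpecialLinearGroup (Fin n) F := ⟨1 + N, hdet⟩
  let ι : Matrix.SpecialLinearGroup (Fin n) F →* GL (Fin n) F := Matrix.SpecialLinearGroup.toGL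
  have hι : Function.Injective ι := Matrix.SpecialLinearGroup.toGL_injective
  let conj : GL (Fin n) F → Matrix.SpecialLinearGroup (Fin n) F := fun g =>
    ⟨((g * ι u0 * g⁻¹ : GL (Fin n) F) : Matrix (Fin n) (Fin n) F), by
      change ((Matrix.GeneralLinearGroup.det (g * ι u0 * g⁻¹) : Fˣ) : F) = 1
      have h1 : Matrix.GeneralLinearGroup.det (ι u0) = 1 := Units.ext hdet
      rw [map_mul, map_mul, map_inv, h1, mul_one, mul_inv_cancel, Units.val_one]⟩
  have hconj : ∀ g, ι (conj g) = g * ι u0 * g⁻¹ := fun g => Units.ext rfl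
  let d : Fˣ → GL (Fin n) F := fun c => Matrix.GeneralLinearGroup.mkOfDetNeZero
    (Matrix.diagonal (Function.update (fun _ => (1 : F)) ⟨0, hn1⟩ (c : F)))
    (by rw [Matrix.det_diagonal, Finset.prod_update_of_mem (Finset.mem_univ _)]; simp)
  have hd : ∀ c, Matrix.GeneralLinearGroup.det (d c) = c := fun c => Units.ext (by
    change (Matrix.diagonal (Function.update (fun _ => (1 : F)) (⟨0, hn1⟩ : Fin n) (c : F))).det = _
    rw [Matrix.det_diagonal, Finset.prod_update_of_mem (Finset.mem_univ _)]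
    simp)
  have hPconj : ∀ g, P (conj g) := fun g => by
    have he : ((conj g : Matrix.SpecialLinearGroup (Fin n) F) : Matrix (Fin n) (Fin n) F) - 1 =
        (g : Matrix (Fin n) (Fin n) F) * N * ((g⁻¹ : GL (Fin n) F) : Matrix (Fin n) (Fin n) F) := by
      change (g : Matrix (Fin n) (Fin n) F) * (1 + N) * ((g⁻¹ : GL (Fin n) F) : Matrix (Fin n) (Fin n) F) - 1 = _
      rw [mul_add, add_mul, mul_one, g.mul_inv, add_sub_cancel_left]
    refine ⟨?_, ?_⟩
    · rw [he]
      rw [Units.conj_pow g N n, hN, mul_zero, zero_mul]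
    · rw [he, Matrix.rank_mul_eq_left_of_isUnit_det _ _ (Matrix.isUnit_det_of_left_inverse g.mul_inv),
        Matrix.rank_mul_eq_right_of_isUnit_det _ _ (Matrix.isUnit_det_of_left_inverse g.inv_mul), hNr]
  set X := {C : ConjClasses (Matrix.SpecialLinearGroup (Fin n) F) // ∃ u : Matrix.SpecialLinearGroup (Fin n) F,
    ConjClasses.mk u = C ∧ ((u : Matrix (Fin n) (Fin n) F) - 1) ^ n = 0 ∧ ((u : Matrix (Fin n) (Fin n) F) - 1).rank = n - 1}
  set S := (powMonoidHom n : Fˣ →* Fˣ).range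
  have hker : ∀ g, g * ι u0 = ι u0 * g → Matrix.GeneralLinearGroup.det g ∈ S := by
    intro g hg
    obtain ⟨v, b, hb, -⟩ := hu0.exists_cyclic hn1
    have hcm : (g : Matrix (Fin n) (Fin n) F) * (1 + N) = (1 + N) * g := congrArg Units.val hg
    have h2 := hu0.det_poly hn1 (b.equivFun ((g : Matrix (Fin n) (Fin n) F).mulVec v))
    rw [← hu0.eq_poly hn1 hb hcm] at h2
    set a := b.equivFun ((g : Matrix (Fin n) (Fin n) F).mulVec v) ⟨0, hn1⟩
    have ha : a ≠ 0 := fun h0 => by
      rw [h0, zero_pow (by omega)] at h2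
      exact (Matrix.GeneralLinearGroup.det g).ne_zero h2
    exact ⟨Units.mk0 a ha, Units.ext h2.symm⟩
  have himg : ∀ s ∈ S, ∃ g : GL (Fin n) F, g * ι u0 = ι u0 * g ∧ Matrix.GeneralLinearGroup.det g = s := by
    rintro _ ⟨c, rfl⟩
    refine ⟨Matrix.GeneralLinearGroup.scalar (Fin n) c, ?_, ?_⟩
    · refine (Subgroup.mem_center_iff.1 ?_ (ι u0)).symm
      rw [Matrix.GeneralLinearGroup.center_eq_range_scalar]
      exact ⟨c, rfl⟩
    · refine Units.ext ?_
      simp
  let φ : Fˣ → X := fun c => ⟨ConjClasses.mk (conj (d c)), conj (d c), rfl, hPconj (d c)⟩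
  have hφ : ∀ c c', φ c = φ c' ↔ c⁻¹ * c' ∈ S := by
    intro c c'
    rw [Subtype.ext_iff]
    change ConjClasses.mk (conj (d c)) = ConjClasses.mk (conj (d c')) ↔ _
    rw [ConjClasses.mk_eq_mk_iff_isConj, isConj_iff]
    constructor
    · rintro ⟨s, hs⟩
      have h3 := congrArg ι hs
      rw [map_mul, map_mul, map_inv, hconj, hconj] at h3
      have h4 : ((d c')⁻¹ * ι s * d c) * ι u0 = ι u0 * ((d c')⁻¹ * ι s * d c) := by
        calc ((d c')⁻¹ * ι s * d c) * ι u0
            = (d c')⁻¹ * (ι s * (d c * ι u0 * (d c)⁻¹) * (ι s)⁻¹) * ι s * d c := by group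
          _ = ι u0 * ((d c')⁻¹ * ι s * d c) := by rw [h3]; group
      have h5 := hker _ h4
      have hs1 : Matrix.GeneralLinearGroup.det (ι s) = 1 := Units.ext s.2
      rw [map_mul, map_mul, map_inv, hd, hd, hs1, mul_one] at h5
      simpa [mul_comm] using inv_mem h5
    · intro h5
      obtain ⟨g, hg, hgd⟩ := himg _ h5
      let s : Matrix.SpecialLinearGroup (Fin n) F := ⟨((d c' * g⁻¹ * (d c)⁻¹ : GL (Fin n) F) : Matrix (Fin n) (Fin n) F), by
        change ((Matrix.GeneralLinearGroup.det (d c' * g⁻¹ * (d c)⁻¹) : Fˣ) : F) = 1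
        rw [map_mul, map_mul, map_inv, map_inv, hd, hd, hgd, mul_inv_rev, inv_inv, mul_inv_cancel_left,
          mul_inv_cancel, Units.val_one]⟩
      have hsι : ι s = d c' * g⁻¹ * (d c)⁻¹ := Units.ext rfl
      refine ⟨s, hι ?_⟩
      rw [map_mul, map_mul, map_inv, hconj, hconj, hsι]
      have h6 : g⁻¹ * ι u0 * g = ι u0 := by rw [mul_assoc, ← hg, inv_mul_cancel_left]
      calc d c' * g⁻¹ * (d c)⁻¹ * (d c * ι u0 * (d c)⁻¹) * (d c' * g⁻¹ * (d c)⁻¹)⁻¹
          = d c' * (g⁻¹ * ι u0 * g) * (d c')⁻¹ := by group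
        _ = d c' * ι u0 * (d c')⁻¹ := by rw [h6]
  have hsurj : Function.Surjective φ := by
    rintro ⟨C, u, rfl, hu1, hu2⟩
    obtain ⟨g, hg⟩ := CfsgLib.KnownB.Regular.exists_conj hu0 ⟨hu1, hu2⟩ hn1
    refine ⟨Matrix.GeneralLinearGroup.det g, Subtype.ext ?_⟩
    change ConjClasses.mk (conj (d _)) = ConjClasses.mk u
    rw [ConjClasses.mk_eq_mk_iff_isConj, isConj_iff]
    set c := Matrix.GeneralLinearGroup.det g
    let s : Matrix.SpecialLinearGroup (Fin n) F := ⟨((g * (d c)⁻¹ : GL (Fin n) F) : Matrix (Fin n) (Fin n) F), by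
      change ((Matrix.GeneralLinearGroup.det (g * (d c)⁻¹) : Fˣ) : F) = 1
      rw [map_mul, map_inv, hd, mul_inv_cancel, Units.val_one]⟩
    have hsι : ι s = g * (d c)⁻¹ := Units.ext rfl
    have hgu : g * ι u0 = ι u * g := Units.ext hg
    refine ⟨s, hι ?_⟩
    rw [map_mul, map_mul, map_inv, hconj, hsι]
    calc g * (d c)⁻¹ * (d c * ι u0 * (d c)⁻¹) * (g * (d c)⁻¹)⁻¹ = g * ι u0 * g⁻¹ := by group
      _ = ι u := by rw [hgu, mul_inv_cancel_right]
  have hq : Nat.card (Fˣ ⧸ S) = Nat.card X := by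
    refine Nat.card_congr (Equiv.ofBijective (Quotient.lift φ fun a b hab => (hφ a b).2 (QuotientGroup.leftRel_apply.1 hab)) ⟨?_, ?_⟩)
    · rintro ⟨a⟩ ⟨b⟩ h
      exact QuotientGroup.eq.2 ((hφ a b).1 h)
    · intro x
      obtain ⟨c, hc⟩ := hsurj x
      exact ⟨Quotient.mk _ c, hc⟩
  rw [← hq, ← Subgroup.index_eq_card, IsCyclic.index_powMonoidHom_range, Nat.card_units, Nat.card_eq_fintype_card,
    Nat.gcd_comm]

end Cfsg.Agent.S2578
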