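import Cfsg.Statements.S2587
-- import your own Cfsg.Agent.* helpers here
import Cfsg.Agent.Lib.KnownB.UnitaryConj

set_option autoImplicit false
open Cfsg

namespace Cfsg.Agent.S2587

/-- Conjugacy in the finite general unitary group is controlled by the general linear group: two elements of GU_n(q) (the invertible matrices over the field with q² elements preserving the Hermitian form Σ u_i v_i^q) are conjugate in GU_n(q) if and only if they are conjugate in GL_n(q²). -/
theorem result {K : Type*} [Field K] [Fintype K] {q n : ℕ} (hK : Fintype.card K = q ^ 2) (A B : ↥(Cfsg.GU n K q)) : IsConj A B ↔ IsConj (A : GL (Fin n) K) (B : GL (Fin n) K) := by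
  obtain ⟨σ, hq, hσ, hσ2⟩ := CfsgLib.Classical.exists_frob (F := K) (by rw [Nat.card_eq_fintype_card]; exact hK)
  refine ⟨fun h => MonoidHom.map_isConj (Cfsg.GU n K q).subtype h, fun h => ?_⟩
  obtain ⟨g, hg⟩ := isConj_iff.1 h
  obtain ⟨u, hu, huc⟩ := CfsgLib.KnownB.UnitaryConj.exists_unitary_conjugator hσ hσ2 (A := (A : GL (Fin n) K))
    (B := (B : GL (Fin n) K)) (h := g) ((CfsgLib.KnownB.UnitaryConj.mem_GU_iff_adj hσ2 hq _).1 A.2)
    ((CfsgLib.KnownB.UnitaryConj.mem_GU_iff_adj hσ2 hq _).1 B.2) (by rw [← hg, inv_mul_cancel_right])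
  refine isConj_iff.2 ⟨⟨u, (CfsgLib.KnownB.UnitaryConj.mem_GU_iff_adj hσ2 hq u).2 hu⟩, Subtype.ext ?_⟩
  show u * (A : GL (Fin n) K) * u⁻¹ = _
  rw [huc, mul_inv_cancel_right]

end Cfsg.Agent.S2587
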