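import Cfsg.Statements.S2588
-- import your own Cfsg.Agent.* helpers here
import Cfsg.Agent.Lib.KnownB.UnitaryConj

set_option autoImplicit false
open Cfsg

namespace Cfsg.Agent.S2588

/-- An invertible matrix A over the field with q² elements is conjugate in GL_n(q²) to an element of the general unitary group GU_n(q) (isometries of the Hermitian form Σ u_i v_i^q) if and only if A is similar to the inverse transpose of its entrywise q-th power (A ~ A^(−qT), the image of A under the map sending a matrix to the inverse transpose of its entrywise q-th power — inverse transpose composed with the field automorphism — whose fixed points form GU_n(q)). -/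
theorem result {K : Type*} [Field K] [Fintype K] {q n : ℕ} (hK : Fintype.card K = q ^ 2) (A : GL (Fin n) K) : (∃ B : ↥(Cfsg.GU n K q), IsConj A (B : GL (Fin n) K)) ↔ IsConj (A : Matrix (Fin n) (Fin n) K) (((A : Matrix (Fin n) (Fin n) K).map (fun x : K => x ^ q)).transpose)⁻¹ := by
  obtain ⟨σ, hq, hσ, hσ2⟩ := CfsgLib.Classical.exists_frob (F := K) (by rw [Nat.card_eq_fintype_card]; exact hK)
  have hI := CfsgLib.KnownB.UnitaryConj.isInvol_adj (n := n) hσ2
  have hmap : ((A : Matrix (Fin n) (Fin n) K).map (fun x : K => x ^ q)).transpose =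
      CfsgLib.KnownB.UnitaryConj.adj σ (A : Matrix (Fin n) (Fin n) K) := by
    ext i j
    simp [CfsgLib.KnownB.UnitaryConj.adj, hq]
  rw [hmap]
  have hadj : IsUnit (CfsgLib.KnownB.UnitaryConj.adj σ (A : Matrix (Fin n) (Fin n) K)) :=
    CfsgLib.KnownB.UnitaryConj.isUnit_adj A
  set S := CfsgLib.KnownB.UnitaryConj.adj σ (A : Matrix (Fin n) (Fin n) K) with hS
  have hdet : IsUnit S.det := (Matrix.isUnit_iff_isUnit_det S).1 hadj
  constructor
  · rintro ⟨B, hB⟩
    obtain ⟨g, hg⟩ := isConj_iff.1 hB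
    have hBu := (CfsgLib.KnownB.UnitaryConj.mem_GU_iff_adj hσ2 hq _).1 B.2
    rw [← hg, Units.val_mul, Units.val_mul, hI.map_mul, hI.map_mul, ← hS] at hBu
    -- `S * (g* g) * A = g* g`
    set gi : Matrix (Fin n) (Fin n) K := ((g⁻¹ : GL (Fin n) K) : Matrix (Fin n) (Fin n) K) with hgi
    set H : GL (Fin n) K := (CfsgLib.KnownB.UnitaryConj.isUnit_adj g).unit * g with hH
    have hHval : (H : Matrix (Fin n) (Fin n) K) = CfsgLib.KnownB.UnitaryConj.adj σ (g : Matrix (Fin n) (Fin n) K) * g := by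
      rw [hH, Units.val_mul, IsUnit.unit_spec]
    refine ⟨H, ?_⟩
    show (H : Matrix (Fin n) (Fin n) K) * A = S⁻¹ * H
    set gm : Matrix (Fin n) (Fin n) K := (g : Matrix (Fin n) (Fin n) K) with hgm
    set ga : Matrix (Fin n) (Fin n) K := CfsgLib.KnownB.UnitaryConj.adj σ gm with hga
    have hSH : S * (H : Matrix (Fin n) (Fin n) K) * (A : Matrix (Fin n) (Fin n) K) = H := by
      have e1 := congrArg (fun X : Matrix (Fin n) (Fin n) K => ga * X * gm) hBu
      simp only [mul_one] at e1
      rw [hHval]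
      refine Eq.trans ?_ e1
      calc S * (ga * gm) * (A : Matrix (Fin n) (Fin n) K)
          = CfsgLib.KnownB.UnitaryConj.adj σ (gi * gm) * S * ga * gm * (A : Matrix (Fin n) (Fin n) K) * (gi * gm) := by
            rw [hgi, hgm, g.inv_mul, hI.map_one, one_mul, mul_one]; noncomm_ring
        _ = _ := by rw [hI.map_mul, ← hga]; noncomm_ring
    conv_rhs => rw [← hSH]
    rw [mul_assoc S, ← mul_assoc, Matrix.nonsing_inv_mul _ hdet, one_mul]
  · rintro ⟨P, hP⟩
    have hP' : (P : Matrix (Fin n) (Fin n) K) * A = S⁻¹ * P := hP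
    obtain ⟨D, hD⟩ := CfsgLib.KnownB.UnitaryConj.exists_unitary_conj hσ hσ2 (A := A) (P := P)
      (by rw [← hS, mul_assoc, hP', ← mul_assoc, Matrix.mul_nonsing_inv _ hdet, one_mul])
    exact ⟨⟨D * A * D⁻¹, (CfsgLib.KnownB.UnitaryConj.mem_GU_iff_adj hσ2 hq _).2 hD⟩, isConj_iff.2 ⟨D, rfl⟩⟩

end Cfsg.Agent.S2588
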