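import Cfsg.Statements.S2591
import Cfsg.Agent.Lib.KnownB.SpRegularStd
-- import your own Cfsg.Agent.* helpers here

set_option autoImplicit false
open Cfsg CfsgLib.KnownB.SpRegular

set_option maxHeartbeats 1000000

namespace Cfsg.Agent.S2591

/-- Over a finite field of odd order and for m ≥ 1, the regular unipotent elements of Sp_2m(F) (u − 1 nilpotent of rank 2m − 1, a single Jordan block) form exactly two conjugacy classes of Sp_2m(F) (one class under the similarity group, which splits in two). -/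
theorem result {F : Type*} [Field F] [Fintype F] {q : ℕ} (hF : Fintype.card F = q) (hq : Odd q) {m : ℕ} (hm : 1 ≤ m) : Nat.card {C : ConjClasses ↥(Matrix.symplecticGroup (Fin m) F) // ∃ u : Matrix.symplecticGroup (Fin m) F, ConjClasses.mk u = C ∧ ((u : Matrix (Fin m ⊕ Fin m) (Fin m ⊕ Fin m) F) - 1) ^ (2 * m) = 0 ∧ ((u : Matrix (Fin m ⊕ Fin m) (Fin m ⊕ Fin m) F) - 1).rank = 2 * m - 1} = 2 := by
  classical
  have h2 : (2 : F) ≠ 0 := Ring.two_ne_zero (fun h => by
    have := FiniteField.even_card_iff_char_two.1 h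
    rw [Nat.odd_iff] at hq
    omega)
  have hJ := sympl_stdJ (F := F) m
  have hn : 1 ≤ 2 * m := by omega
  set φ := toFinMat (F := F) m
  obtain ⟨u0, hr0⟩ := exists_regular (F := F) m hm
  have hodd : ringChar F ≠ 2 := fun h' => h2 (by
    have := ringChar.Nat.cast_ringChar (R := F); rw [h'] at this; exact_mod_cast this)
  obtain ⟨δ, hδ⟩ := FiniteField.exists_nonsquare hodd
  have hδ0 : δ ≠ 0 := fun h0 => hδ (by rw [h0]; exact IsSquare.zero)
  -- a similitude of multiplier `δ`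
  let D0 : Matrix (Fin m ⊕ Fin m) (Fin m ⊕ Fin m) F := Matrix.fromBlocks (δ • 1) 0 0 1
  let D0i : Matrix (Fin m ⊕ Fin m) (Fin m ⊕ Fin m) F := Matrix.fromBlocks (δ⁻¹ • 1) 0 0 1
  have hDD : D0 * D0i = 1 ∧ D0i * D0 = 1 := by
    constructor <;> simp [D0, D0i, Matrix.fromBlocks_multiply, smul_smul, hδ0, Matrix.fromBlocks_one]
  let D : GL (Fin (2 * m)) F := ⟨φ D0, φ D0i, by rw [← map_mul, hDD.1, map_one], by rw [← map_mul, hDD.2, map_one]⟩
  have hadjD : jAdj (stdJ m F) (φ D0) * φ D0 = δ • 1 := by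
    rw [jAdj, stdJ, ← toFinMat_transpose, ← map_mul, ← map_mul, ← map_neg, ← map_mul, ← map_one φ, ← map_smul]
    congr 1
    simp [D0, Matrix.J, Matrix.fromBlocks_transpose, Matrix.fromBlocks_multiply, Matrix.fromBlocks_neg, ← Matrix.fromBlocks_one, Matrix.fromBlocks_smul]
  have hadjDi : jAdj (stdJ m F) (φ D0i) * φ D0i = δ⁻¹ • 1 := by
    rw [jAdj, stdJ, ← toFinMat_transpose, ← map_mul, ← map_mul, ← map_neg, ← map_mul, ← map_one φ, ← map_smul]
    congr 1
    simp [D0i, Matrix.J, Matrix.fromBlocks_transpose, Matrix.fromBlocks_multiply, Matrix.fromBlocks_neg, ← Matrix.fromBlocks_one, Matrix.fromBlocks_smul]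
  have hu0 := (mem_iff m _).1 u0.2
  -- the second representative
  have hDi : jAdj (stdJ m F) (φ D0) = δ • φ D0i := by
    calc jAdj (stdJ m F) (φ D0) = jAdj (stdJ m F) (φ D0) * (φ D0 * φ D0i) := by rw [← map_mul, hDD.1, map_one, mul_one]
      _ = _ := by rw [← mul_assoc, hadjD, smul_mul_assoc, one_mul]
  have hu1mem : jAdj (stdJ m F) (φ (D0 * u0.1 * D0i)) * φ (D0 * u0.1 * D0i) = 1 := by
    rw [map_mul, map_mul, jAdj_mul hJ, jAdj_mul hJ, hDi]
    calc jAdj (stdJ m F) (φ D0i) * (jAdj (stdJ m F) (φ u0.1) * δ • φ D0i) * (φ D0 * φ u0.1 * φ D0i)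
        = δ • (jAdj (stdJ m F) (φ D0i) * (jAdj (stdJ m F) (φ u0.1) * (φ D0i * φ D0) * φ u0.1) * φ D0i) := by
          simp only [mul_smul_comm, smul_mul_assoc, mul_assoc]
      _ = δ • (jAdj (stdJ m F) (φ D0i) * φ D0i) := by rw [← map_mul φ D0i, hDD.2, map_one, mul_one, hu0, mul_one]
      _ = 1 := by rw [hadjDi, smul_smul, mul_inv_cancel₀ hδ0, one_smul]
  let u1 : Matrix.symplecticGroup (Fin m) F := ⟨D0 * u0.1 * D0i, (mem_iff m _).2 hu1mem⟩
  have hDu : (D : Matrix _ _ F) * φ u0.1 = φ u1.1 * (D : Matrix _ _ F) := by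
    show φ D0 * φ u0.1 = φ (D0 * u0.1 * D0i) * φ D0
    rw [← map_mul, ← map_mul, mul_assoc (D0 * u0.1), hDD.2, mul_one]
  have hsim : ∀ {a b : Matrix (Fin (2 * m)) (Fin (2 * m)) F} (X : GL (Fin (2 * m)) F), (X : Matrix _ _ F) * a = b * (X : Matrix _ _ F) →
      CfsgLib.KnownB.Regular.IsRegularUnip a → CfsgLib.KnownB.Regular.IsRegularUnip b := by
    intro a b X hX ha
    have e : b - 1 = (X : Matrix _ _ F) * (a - 1) * ((X⁻¹ : GL (Fin (2 * m)) F) : Matrix _ _ F) := by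
      rw [mul_sub, hX, mul_one, sub_mul, mul_assoc, Units.mul_inv, mul_one]
    refine ⟨?_, ?_⟩
    · rw [e, Units.conj_pow, ha.1, mul_zero, zero_mul]
    · rw [e, Matrix.rank_mul_eq_left_of_isUnit_det _ _ ((Matrix.isUnit_iff_isUnit_det _).1 (X⁻¹).isUnit),
        Matrix.rank_mul_eq_right_of_isUnit_det _ _ ((Matrix.isUnit_iff_isUnit_det _).1 X.isUnit)]
      exact ha.2
  have hr1 := hsim D hDu hr0
  have hspconj : ∀ (v w : Matrix.symplecticGroup (Fin m) F),
      (∃ Z : GL (Fin (2 * m)) F, jAdj (stdJ m F) (Z : Matrix _ _ F) * (Z : Matrix _ _ F) = 1 ∧ (Z : Matrix _ _ F) * φ v.1 = φ w.1 * (Z : Matrix _ _ F)) ↔ IsConj v w := by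
    intro v w
    rw [isConj_iff]
    constructor
    · rintro ⟨Z, hZ, hZv⟩
      obtain ⟨z, hz⟩ := exists_sp m Z hZ
      refine ⟨z, mul_inv_eq_iff_eq_mul.2 (Subtype.ext (φ.injective ?_))⟩
      show φ (z.1 * v.1) = φ (w.1 * z.1)
      rw [map_mul, map_mul, hz, hZv]
    · rintro ⟨z, hz⟩
      refine ⟨spGL m z, (mem_iff m _).1 z.2, ?_⟩
      rw [spGL_val, ← map_mul, ← map_mul]
      exact congrArg (fun x : Matrix.symplecticGroup (Fin m) F => φ x.1) (mul_inv_eq_iff_eq_mul.1 hz)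
  have hne : ConjClasses.mk u0 ≠ ConjClasses.mk u1 := by
    rw [Ne, ConjClasses.mk_eq_mk_iff_isConj]
    intro hc
    obtain ⟨a, ha, -, hiff⟩ := exists_sympl_conj hJ rfl hu0 hr0 hn h2 hu1mem hDu
    have hsq := hiff.1 ((hspconj u0 u1).2 hc)
    rw [show jAdj (stdJ m F) (D : Matrix _ _ F) * (D : Matrix _ _ F) = δ • 1 from hadjD, ← poly_const (φ u0.1) hn δ] at ha
    exact hδ (by simpa [← poly_injective hr0 hn ha] using hsq)
  have hset : {C : ConjClasses ↥(Matrix.symplecticGroup (Fin m) F) | ∃ u : Matrix.symplecticGroup (Fin m) F, ConjClasses.mk u = C ∧ ((u : Matrix (Fin m ⊕ Fin m) (Fin m ⊕ Fin m) F) - 1) ^ (2 * m) = 0 ∧ ((u : Matrix (Fin m ⊕ Fin m) (Fin m ⊕ Fin m) F) - 1).rank = 2 * m - 1} = {ConjClasses.mk u0, ConjClasses.mk u1} := by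
    ext C
    constructor
    · rintro ⟨u, rfl, hu⟩
      have hr := (regular_iff m _).1 hu
      simp only [Set.mem_insert_iff, Set.mem_singleton_iff, ConjClasses.mk_eq_mk_iff_isConj]
      obtain ⟨X, hX⟩ := CfsgLib.KnownB.Regular.exists_conj hr0 hr hn
      obtain ⟨a, ha, ha0, hiff⟩ := exists_sympl_conj hJ rfl hu0 hr0 hn h2 ((mem_iff m _).1 u.2) hX
      by_cases hsq : IsSquare (a ⟨0, hn⟩)
      · exact Or.inl ((hspconj u0 u).1 (hiff.2 hsq)).symm
      · right
        have hY : ((X * D⁻¹ : GL (Fin (2 * m)) F) : Matrix _ _ F) * φ u1.1 = φ u.1 * ((X * D⁻¹ : GL (Fin (2 * m)) F) : Matrix _ _ F) := by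
          rw [Units.val_mul, ← mul_assoc (φ u.1), ← hX, mul_assoc, mul_assoc]
          congr 1
          show φ D0i * φ (D0 * u0.1 * D0i) = φ u0.1 * φ D0i
          rw [← map_mul, ← map_mul, ← mul_assoc, ← mul_assoc, hDD.2, one_mul]
        obtain ⟨b, hb, -, hiff'⟩ := exists_sympl_conj hJ rfl hu1mem hr1 hn h2 ((mem_iff m _).1 u.2) hY
        refine ((hspconj u1 u).1 (hiff'.2 ?_)).symm
        -- the residue is multiplied by `δ⁻¹`
        have key : b = δ⁻¹ • a := by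
          refine poly_injective hr1 hn (hb.symm.trans ?_)
          have e1 : jAdj (stdJ m F) (φ D0i) = δ⁻¹ • φ D0 := by
            calc jAdj (stdJ m F) (φ D0i) = jAdj (stdJ m F) (φ D0i) * (φ D0i * φ D0) := by rw [← map_mul, hDD.2, map_one, mul_one]
              _ = _ := by rw [← mul_assoc, hadjDi, smul_mul_assoc, one_mul]
          rw [Units.val_mul, jAdj_mul hJ, mul_assoc, ← mul_assoc (jAdj (stdJ m F) (X : Matrix _ _ F)), ha]
          show jAdj (stdJ m F) (φ D0i) * (CfsgLib.KnownB.Regular.poly (φ u0.1) a * φ D0i) = _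
          rw [e1, smul_mul_assoc, CfsgLib.KnownB.Regular.poly, CfsgLib.KnownB.Regular.poly, Finset.sum_mul, Finset.mul_sum, Finset.smul_sum]
          refine Finset.sum_congr rfl fun i _ => ?_
          rw [smul_mul_assoc, mul_smul_comm, smul_smul, ← mul_assoc]
          congr 1
          show φ D0 * _ * φ D0i = _
          have hc := Units.conj_pow D (φ u0.1 - 1) (i : ℕ)
          rw [show φ u1.1 - 1 = (D : Matrix _ _ F) * (φ u0.1 - 1) * ((D⁻¹ : GL (Fin (2 * m)) F) : Matrix _ _ F) by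
            rw [mul_sub, hDu, mul_one, sub_mul, mul_assoc, Units.mul_inv, mul_one]]
          exact hc.symm
        rw [key, Pi.smul_apply, smul_eq_mul]
        rcases FiniteField.isSquare_iff hodd (mul_ne_zero (inv_ne_zero hδ0) ha0) with ⟨-, hback⟩
        apply hback
        have e1 : δ ^ (Fintype.card F / 2) = -1 :=
          (FiniteField.pow_dichotomy hodd hδ0).resolve_left fun h => hδ ((FiniteField.isSquare_iff hodd hδ0).2 h)
        have e2 : (a ⟨0, hn⟩) ^ (Fintype.card F / 2) = -1 :=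
          (FiniteField.pow_dichotomy hodd ha0).resolve_left fun h => hsq ((FiniteField.isSquare_iff hodd ha0).2 h)
        rw [mul_pow, inv_pow, e1, e2]
        simp
    · rintro (rfl | rfl)
      · exact ⟨u0, rfl, (regular_iff m _).2 hr0⟩
      · exact ⟨u1, rfl, (regular_iff m _).2 hr1⟩
  show Nat.card ↥({C : ConjClasses ↥(Matrix.symplecticGroup (Fin m) F) | ∃ u : Matrix.symplecticGroup (Fin m) F, ConjClasses.mk u = C ∧ ((u : Matrix (Fin m ⊕ Fin m) (Fin m ⊕ Fin m) F) - 1) ^ (2 * m) = 0 ∧ ((u : Matrix (Fin m ⊕ Fin m) (Fin m ⊕ Fin m) F) - 1).rank = 2 * m - 1}) = 2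
  rw [hset, Nat.card_coe_set_eq, Set.ncard_pair hne]

end Cfsg.Agent.S2591
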