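import Cfsg.Statements.S2592
import Cfsg.Agent.Lib.KnownB.SpRegularStd
-- import your own Cfsg.Agent.* helpers here

set_option autoImplicit false
open Cfsg CfsgLib.KnownB.SpRegular

set_option maxHeartbeats 1000000

namespace Cfsg.Agent.S2592

/-- Over a finite field with q elements, q odd, the centraliser in Sp_2m(F) (m ≥ 1) of a regular unipotent element (u − 1 nilpotent of rank 2m − 1) has order 2 q^m. -/
theorem result {F : Type*} [Field F] [Fintype F] {q : ℕ} (hF : Fintype.card F = q) (hq : Odd q) {m : ℕ} (hm : 1 ≤ m) (u : Matrix.symplecticGroup (Fin m) F) (hnil : ((u : Matrix (Fin m ⊕ Fin m) (Fin m ⊕ Fin m) F) - 1) ^ (2 * m) = 0) (hreg : ((u : Matrix (Fin m ⊕ Fin m) (Fin m ⊕ Fin m) F) - 1).rank = 2 * m - 1) : Nat.card ↥(Subgroup.centralizer ({u} : Set ↥(Matrix.symplecticGroup (Fin m) F))) = 2 * q ^ m := by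
  have h2 : (2 : F) ≠ 0 := Ring.two_ne_zero (fun h => by
    have := FiniteField.even_card_iff_char_two.1 h
    rw [Nat.odd_iff] at hq
    omega)
  have hJ := sympl_stdJ (F := F) m
  have hu := (mem_iff m _).1 u.2
  have hr := (regular_iff m _).1 ⟨hnil, hreg⟩
  have hn : 1 ≤ 2 * m := by omega
  rw [← hF, ← (norm_data hJ rfl hu hr hn h2).1]
  have hcom : ∀ c : Subgroup.centralizer ({u} : Set ↥(Matrix.symplecticGroup (Fin m) F)), spGL m c.1 ∈ Comm (toFinMat m u.1) := fun c => by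
    show toFinMat m c.1.1 * toFinMat m u.1 = toFinMat m u.1 * toFinMat m c.1.1
    rw [← map_mul, ← map_mul]
    exact congrArg (fun z : ↥(Matrix.symplecticGroup (Fin m) F) => toFinMat m z.1) (Subgroup.mem_centralizer_singleton_iff.1 c.2)
  refine Nat.card_eq_of_bijective (fun c => (⟨⟨spGL m c.1, hcom c⟩, MonoidHom.mem_ker.2 (Subtype.ext (Units.ext ((mem_iff m _).1 c.1.2)))⟩ : (jNorm hJ hu hr hn).ker)) ⟨?_, ?_⟩
  · intro a b e
    exact Subtype.ext (spGL_injective m (congrArg (fun x : (jNorm hJ hu hr hn).ker => x.1.1) e))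
  · rintro ⟨⟨Z, hZc⟩, hZ⟩
    have hZ' : jAdj (stdJ m F) (Z : Matrix _ _ F) * (Z : Matrix _ _ F) = 1 :=
      congrArg Units.val (congrArg Subtype.val (MonoidHom.mem_ker.1 hZ))
    obtain ⟨z, hz⟩ := exists_sp m Z hZ'
    refine ⟨⟨z, Subgroup.mem_centralizer_singleton_iff.2 (Subtype.ext ((toFinMat m).injective ?_))⟩, Subtype.ext (Subtype.ext (Units.ext hz))⟩
    show toFinMat m (z.1 * u.1) = toFinMat m (u.1 * z.1)
    rw [map_mul, map_mul, hz]
    exact hZc

end Cfsg.Agent.S2592
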