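import Cfsg.Statements.S2593
import Cfsg.Agent.Lib.InvolTwo.SpMatrix

set_option autoImplicit false
open Cfsg

namespace Cfsg.Agent.S2593

/-- Number of conjugacy classes of involutions in the symplectic group Sp_2m(F) over a finite field of characteristic two (m ≥ 1): for each s with 1 ≤ s ≤ m there is one class with rank(t − 1) = s if s is odd and two if s is even (according as v ↦ f(v, tv), f the symplectic form, vanishes identically or not), so m + ⌊m/2⌋ classes in all. -/
theorem result {F : Type*} [Field F] [Fintype F] [CharP F 2] {m : ℕ} (hm : 1 ≤ m) : Nat.card {C : ConjClasses ↥(Matrix.symplecticGroup (Fin m) F) // ∃ g : Matrix.symplecticGroup (Fin m) F, ConjClasses.mk g = C ∧ orderOf g = 2} = m + m / 2 := by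
  classical
  choose f hf hfr hfa using fun i : Fin m =>
    CfsgLib.InvolTwo.SpMatrix.exists_diag (F := F) (m := m) ((i : ℕ) + 1) (Nat.le_add_left 1 _) i.isLt
  choose g hg hgr hga using fun j : Fin (m / 2) =>
    CfsgLib.InvolTwo.SpMatrix.exists_pairs (F := F) (m := m) ((j : ℕ) + 1) (Nat.le_add_left 1 _)
      (by have := j.isLt; omega)
  rw [CfsgLib.InvolTwo.card_invol_classes (Sum.elim f g) (by rintro (i | j); exacts [hf i, hg j])]
  · simp
  · rintro (i | j) (i' | j') h <;>
      obtain ⟨hr, -, ht⟩ := CfsgLib.InvolTwo.SpMatrix.conj_invariants h <;>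
      simp only [Sum.elim_inl, Sum.elim_inr, hfr, hgr] at hr ht
    · exact congrArg Sum.inl (Fin.ext (by omega))
    · exact absurd (ht.2 (hga j')) (hfa i)
    · exact absurd (ht.1 (hga j)) (hfa i')
    · exact congrArg Sum.inr (Fin.ext (by omega))
  · intro x hx
    have hxx := CfsgLib.InvolTwo.sq_eq_one_of_orderOf hx
    have hpos := CfsgLib.InvolTwo.SpMatrix.rank_pos (CfsgLib.InvolTwo.ne_one_of_orderOf hx)
    have hle := CfsgLib.InvolTwo.SpMatrix.rank_le hxx
    by_cases ha : CfsgLib.InvolTwo.SpMatrix.IsAltType x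
    · obtain ⟨k, hk⟩ := CfsgLib.InvolTwo.SpMatrix.even_rank hxx ha
      exact ⟨Sum.inr ⟨k - 1, by omega⟩, CfsgLib.InvolTwo.SpMatrix.conj_of_type hxx
        (CfsgLib.InvolTwo.sq_eq_one_of_orderOf (hg _)) (by rw [Sum.elim_inr, hgr]; simp only; omega)
        ⟨fun _ => hga _, fun _ => ha⟩⟩
    · refine ⟨Sum.inl ⟨_ - 1, lt_of_lt_of_le (Nat.sub_lt hpos one_pos) hle⟩,
        CfsgLib.InvolTwo.SpMatrix.conj_of_type hxx (CfsgLib.InvolTwo.sq_eq_one_of_orderOf (hf _))
        (by rw [Sum.elim_inl, hfr]; simp only; omega)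
        ⟨fun h => absurd h ha, fun h => absurd h (hfa _)⟩⟩

end Cfsg.Agent.S2593
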