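import Cfsg.Statements.S2599
import Cfsg.Agent.Lib.Geometry.OrthMatrix
import Cfsg.Agent.Lib.Geometry.Quadratic

set_option autoImplicit false
open Cfsg CfsgLib.Geometry

namespace Cfsg.Agent.S2599

/-- An irreducible invariant subspace of a semisimple isometry is non-degenerate or totally singular: let Q be a quadratic form on F^n (F finite of characteristic p) with non-degenerate polar form f, x an isometry of Q of order prime to p, and U a non-zero x-invariant subspace containing no x-invariant subspace other than 0 and U. Then U meets its f-orthogonal trivially, or Q vanishes on U, or p = 2, U is a line spanned by a non-singular vector and x fixes U pointwise. -/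
theorem result {F : Type*} [Field F] [Fintype F] {p : ℕ} [Fact p.Prime] [CharP F p] {n : ℕ} (Q : QuadraticForm F (Fin n → F)) (hQ : (QuadraticMap.polarBilin Q).Nondegenerate) (x : ↥(Cfsg.isometryGroup F ⇑Q)) (hx : (orderOf x).Coprime p) (U : Submodule F (Fin n → F)) (hU0 : U ≠ ⊥) (hUx : ∀ u ∈ U, ((x : Matrix.GeneralLinearGroup (Fin n) F) : Matrix (Fin n) (Fin n) F).mulVec u ∈ U) (hirr : ∀ W : Submodule F (Fin n → F), W ≤ U → (∀ w ∈ W, ((x : Matrix.GeneralLinearGroup (Fin n) F) : Matrix (Fin n) (Fin n) F).mulVec w ∈ W) → W = ⊥ ∨ W = U) : U ⊓ LinearMap.BilinForm.orthogonal (QuadraticMap.polarBilin Q) U = ⊥ ∨ (∀ u ∈ U, Q u = 0) ∨ (p = 2 ∧ Module.finrank F U = 1 ∧ (∃ u ∈ U, Q u ≠ 0) ∧ ∀ u ∈ U, ((x : Matrix.GeneralLinearGroup (Fin n) F) : Matrix (Fin n) (Fin n) F).mulVec u = u) := by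
  set A : Matrix (Fin n) (Fin n) F := ((x : Matrix.GeneralLinearGroup (Fin n) F) : Matrix (Fin n) (Fin n) F)
  let g := isomEquiv Q x
  have hgA : ∀ v, (g : (Fin n → F) ≃ₗ[F] (Fin n → F)) v = A.mulVec v := fun v => rfl
  set P := LinearMap.BilinForm.orthogonal (QuadraticMap.polarBilin Q : LinearMap.BilinForm F (Fin n → F)) U
  have hmap : ∀ w ∈ U, ∃ w' ∈ U, A.mulVec w' = w := by
    have e : U.map (g : (Fin n → F) ≃ₗ[F] (Fin n → F)).toLinearMap = U :=
      Submodule.eq_of_le_of_finrank_le (by rintro _ ⟨v, hv, rfl⟩; exact hUx v hv)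
        (le_of_eq (LinearEquiv.finrank_map_eq _ U).symm)
    intro w hw
    rw [← e] at hw
    obtain ⟨v, hv, hvw⟩ := hw
    exact ⟨v, hv, hvw⟩
  have hP : ∀ v ∈ P, A.mulVec v ∈ P := fun v hv w hw => by
    obtain ⟨w', hw', rfl⟩ := hmap w hw
    show QuadraticMap.polar ⇑Q _ _ = 0
    rw [← hgA, ← hgA, orth_polar g.2]
    exact hv w' hw'
  rcases hirr (U ⊓ P) inf_le_left (fun w hw => ⟨hUx w hw.1, hP w hw.2⟩) with h | h
  · exact Or.inl h
  right
  have hUP : ∀ u ∈ U, ∀ v ∈ U, QuadraticMap.polar ⇑Q u v = 0 := fun u hu v hv =>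
    (inf_eq_left.1 h hv) u hu
  by_cases h2 : (2 : F) = 0
  swap
  · refine Or.inl fun u hu => ?_
    have := hUP u hu u hu
    rw [polar_self' Q u] at this
    exact (mul_eq_zero.1 this).resolve_left h2
  by_cases hts : ∀ u ∈ U, Q u = 0
  · exact Or.inl hts
  haveI := CharTwo.of_one_ne_zero_of_two_eq_zero (one_ne_zero (α := F)) h2
  let Z : Submodule F (Fin n → F) :=
    { carrier := {u | u ∈ U ∧ Q u = 0}
      add_mem' := fun {a b} ha hb => ⟨U.add_mem ha.1 hb.1, by
        rw [map_add', ha.2, hb.2, hUP a ha.1 b hb.1, add_zero, add_zero]⟩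
      zero_mem' := ⟨U.zero_mem, QuadraticMap.map_zero Q⟩
      smul_mem' := fun c a ha => ⟨U.smul_mem c ha.1, by rw [map_smul', ha.2, mul_zero]⟩ }
  have hZ : Z = ⊥ := (hirr Z (fun u hu => hu.1) (fun w hw => ⟨hUx w hw.1, by
      rw [← hgA, g.2 w]; exact hw.2⟩)).resolve_right fun hZU => hts fun u hu => by
    rw [← hZU] at hu; exact hu.2
  have hinj : ∀ u ∈ U, Q u = 0 → u = 0 := fun u hu h0 => by
    have : u ∈ Z := ⟨hu, h0⟩
    rwa [hZ, Submodule.mem_bot] at this
  obtain ⟨u, huU, hu0⟩ := Submodule.exists_mem_ne_zero_of_ne_bot hU0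
  have hQu : Q u ≠ 0 := fun h0 => hu0 (hinj u huU h0)
  refine Or.inr ⟨?_, ?_, ⟨u, huU, hQu⟩, fun v hv => ?_⟩
  · exact ((CharP.eq F ‹CharP F p› ‹CharP F 2›))
  · refine finrank_eq_one (R := F) ⟨u, huU⟩ (fun h => hu0 (congrArg Subtype.val h)) fun w => ?_
    obtain ⟨t, ht⟩ := FiniteField.isSquare_of_char_two (ringChar.eq F 2) (Q (w : Fin n → F) / Q u)
    refine ⟨t, Subtype.ext ?_⟩
    show t • u = (w : Fin n → F)
    refine sub_eq_zero.1 (hinj _ (U.sub_mem (U.smul_mem t huU) w.2) ?_)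
    rw [CfsgLib.Geometry.map_sub', map_smul', polar_smul_left', hUP u huU _ w.2, mul_zero, sub_zero,
      ← ht, div_mul_cancel₀ _ hQu, CharTwo.add_self_eq_zero]
  · refine sub_eq_zero.1 (hinj _ (U.sub_mem (hUx v hv) hv) ?_)
    rw [CfsgLib.Geometry.map_sub', hUP _ (hUx v hv) v hv, sub_zero]
    show Q (A.mulVec v) + Q v = 0
    rw [← hgA, g.2 v, CharTwo.add_self_eq_zero]

end Cfsg.Agent.S2599
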