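import Cfsg.Statements.S2601
-- import your own Cfsg.Agent.* helpers here
import Cfsg.Agent.Lib.KnownB.PSLAut.Out

set_option autoImplicit false
open Cfsg

namespace Cfsg.Agent.S2601

/-- Structure of the outer automorphism group of PSL_n(q), n ≥ 3, q = p^f: it has a normal cyclic subgroup of order gcd(n, q − 1) (the diagonal automorphisms) whose quotient is the direct product of a cyclic group of order f (field automorphisms) and a group of order 2 (the inverse-transpose graph automorphism). -/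
theorem result {F : Type*} [Field F] [Fintype F] {p f n : ℕ} [Fact p.Prime] (hf : 1 ≤ f) (hF : Fintype.card F = p ^ f) (hn : 3 ≤ n) : ∃ φ : Cfsg.Out (Matrix.ProjectiveSpecialLinearGroup (Fin n) F) →* Multiplicative (ZMod f × ZMod 2), Function.Surjective φ ∧ IsCyclic φ.ker ∧ Nat.card φ.ker = Nat.gcd n (p ^ f - 1) := by
  haveI := CfsgLib.KnownB.PSLAut.isCyclic_gal hf hF
  obtain ⟨π, hπ, hk⟩ := CfsgLib.KnownB.PSLAut.exists_proj_big (F := F) hn
  obtain ⟨φ, h1, h2, h3⟩ := CfsgLib.KnownB.PSLAut.out_structure (show 2 ≤ n by omega) π hπ hk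
  have e0 : (F ≃+* F) ≃* Multiplicative (ZMod f) := mulEquivOfCyclicCardEq
    (by rw [CfsgLib.KnownB.PSLAut.card_gal hf hF, Nat.card_congr Multiplicative.toAdd, Nat.card_zmod])
  let e : (F ≃+* F) × Multiplicative (ZMod 2) ≃* Multiplicative (ZMod f × ZMod 2) :=
    (MulEquiv.prodCongr e0 (MulEquiv.refl _)).trans (MulEquiv.prodMultiplicative (ZMod f) (ZMod 2)).symm
  refine ⟨e.toMonoidHom.comp φ, e.surjective.comp h1, ?_⟩
  have hker : (e.toMonoidHom.comp φ).ker = φ.ker := by
    ext x; simp [MonoidHom.mem_ker]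
  rw [hker]
  refine ⟨h2, ?_⟩
  rw [h3, Nat.card_eq_fintype_card, hF]

end Cfsg.Agent.S2601
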