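import Cfsg.Statements.S2609
import Cfsg.Agent.Lib.Geometry.OmegaDiag

set_option autoImplicit false
open Cfsg CfsgLib.Geometry

namespace Cfsg.Agent.S2609

/-- Spinor norm criterion for Ω over a finite field of odd order: let Q be a quadratic form on F^n, n ≥ 2, with non-degenerate polar form, and let g be an isometry written as a product of reflections in non-singular vectors v_1, …, v_k. Then g lies in Ω (the commutator subgroup of the orthogonal group) if and only if k is even and Q(v_1)⋯Q(v_k) is a square; in particular, for g of determinant one, whether that product is a square does not depend on the chosen factorisation (it is the spinor norm of g). -/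
theorem result {F : Type*} [Field F] [Fintype F] (h2 : (2 : F) ≠ 0) {n : ℕ} (hn : 2 ≤ n) (Q : QuadraticForm F (Fin n → F)) (hQ : (QuadraticMap.polarBilin Q).Nondegenerate) (g : ↥(Cfsg.isometryGroup F ⇑Q)) (vs : List (Fin n → F)) (hvs : ∀ v ∈ vs, Q v ≠ 0) (hg : ((g : Matrix.GeneralLinearGroup (Fin n) F) : Matrix (Fin n) (Fin n) F) = (vs.map (fun v => Cfsg.reflectionMatrix ⇑Q v)).prod) : g ∈ Cfsg.Omega F ⇑Q ↔ (Even vs.length ∧ IsSquare (vs.map (fun v => Q v)).prod) := by
  have hR := reflGroup_eq_orth_of_two_ne hQ h2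
  have key : ∀ ws : List (Fin n → F), (∀ v ∈ ws, Q v ≠ 0) → ∃ (x : orth Q) (hp : (ws.map (fun v => Q v)).prod ≠ 0),
      (∀ u, (x : (Fin n → F) ≃ₗ[F] (Fin n → F)) u =
        (ws.map (fun v => Cfsg.reflectionMatrix ⇑Q v)).prod.mulVec u) ∧
      orthInvariant hQ hR x = (sqMk hp, Multiplicative.ofAdd (ws.length : ZMod 2)) := by
    intro ws
    induction ws with
    | nil =>
      refine fun _ => ⟨1, by simp, fun u => by simp, ?_⟩
      rw [map_one, (sqMk_eq_one_iff _).2 (by simp)]
      simp [Prod.ext_iff]
    | cons v ws ih =>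
      intro hws
      obtain ⟨x, hp, hx, hxi⟩ := ih fun w hw => hws w (List.mem_cons_of_mem _ hw)
      have hv := hws v (List.mem_cons_self ..)
      refine ⟨oRefl Q v hv * x, by simp [hp, hv], fun u => ?_, ?_⟩
      · show refl Q v hv ((x : (Fin n → F) ≃ₗ[F] (Fin n → F)) u) = _
        rw [hx, List.map_cons, List.prod_cons, ← Matrix.mulVec_mulVec, reflectionMatrix_mulVec,
          refl_apply]
      · rw [map_mul, hxi, orthInvariant_oRefl, Prod.mk_mul_mk, ← sqMk_mul, ← ofAdd_add]
        simp only [List.map_cons, List.prod_cons, List.length_cons, Nat.cast_succ]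
        rw [add_comm (1 : ZMod 2)]
  obtain ⟨x, hp, hx, hxi⟩ := key vs hvs
  have e : isomEquiv Q g = x := (isometry_eq_iff Q g x).2 fun u => by rw [hg, hx]
  rw [mem_Omega_iff_invariant hQ hR, e, hxi, Prod.ext_iff, Prod.fst_one, Prod.snd_one,
    sqMk_eq_one_iff, ofAdd_eq_one, ZMod.natCast_eq_zero_iff_even]
  exact and_comm

end Cfsg.Agent.S2609
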