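import Cfsg.Statements.S2611
import Cfsg.Agent.Lib.Geometry.OmegaDiag

set_option autoImplicit false
open Cfsg CfsgLib.Geometry

namespace Cfsg.Agent.S2611

/-- For the hyperbolic quadratic form Σ x_i y_i on F^(2m) (F finite, m ≥ 1, excluding m = 2 over the field of two elements) and an invertible m × m matrix A, the block-diagonal isometry diag(A, (A⁻¹)ᵀ), which stabilises the two maximal totally singular subspaces x = 0 and y = 0, lies in Ω⁺_2m(F) (the commutator subgroup of the orthogonal group) if and only if det A is a square in F. -/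
theorem result {F : Type*} [Field F] [Fintype F] {m : ℕ} (hm : 1 ≤ m) (h : Fintype.card F ≠ 2 ∨ m ≠ 2) (A : GL (Fin m) F) : (∃ g : ↥(Cfsg.isometryGroup F (Cfsg.quadFormPlus m F)), g ∈ Cfsg.Omega F (Cfsg.quadFormPlus m F) ∧ ((g : Matrix.GeneralLinearGroup (Fin m ⊕ Fin m) F) : Matrix (Fin m ⊕ Fin m) (Fin m ⊕ Fin m) F) = Matrix.fromBlocks (A : Matrix (Fin m) (Fin m) F) 0 0 ((A : Matrix (Fin m) (Fin m) F)⁻¹).transpose) ↔ IsSquare (A : Matrix (Fin m) (Fin m) F).det := by
  rw [← coe_matQuad_plus]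
  have hQ := nondegenerate_matQuad (M := plusMat m F) (by rw [det_plus_gram]; simp)
  have hfield : m ≠ 2 ∨ ∃ a : F, a ≠ 0 ∧ a ≠ 1 := by
    rcases h with h | h
    · exact Or.inr ((finite_field_two_or F).resolve_left h)
    · exact Or.inl h
  have hR := reflGroup_eq_orth hQ (hfield.imp_left fun h => by simp; omega)
  have hi := orthInvariant_levi hfield hQ hR A
  set g₀ := (isomEquiv (matQuad (plusMat m F))).symm (leviHom m F A) with hg₀
  have hmat := fun v => (isomEquiv_symm_mulVec _ (leviHom m F A) v).trans (leviHom_apply m A v)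
  have hmem : g₀ ∈ Cfsg.Omega F ⇑(matQuad (plusMat m F)) ↔
      IsSquare (A : Matrix (Fin m) (Fin m) F).det := by
    rw [mem_Omega_iff_invariant hQ hR, hg₀, MulEquiv.apply_symm_apply, hi, Prod.ext_iff,
      Prod.fst_one, Prod.snd_one, sqMk_eq_one_iff]
    exact and_iff_left rfl
  constructor
  · rintro ⟨g, hg, e⟩
    have : g = g₀ := Subtype.ext (Units.ext (e.trans (matrix_eq_of_mulVec hmat).symm))
    exact hmem.1 (this ▸ hg)
  · exact fun hs => ⟨g₀, hmem.2 hs, matrix_eq_of_mulVec hmat⟩

end Cfsg.Agent.S2611
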