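import Cfsg.Statements.S2612
import Cfsg.Agent.Lib.Geometry.OmegaTrans

set_option autoImplicit false
open Cfsg CfsgLib.Geometry

namespace Cfsg.Agent.S2612

/-- For the hyperbolic quadratic form Σ x_i y_i on F^(2m) (F finite, m ≥ 1, excluding m = 2 over the field of two elements), Ω⁺_2m(F) (the commutator subgroup of the orthogonal group) contains an element interchanging the two complementary maximal totally singular subspaces {y = 0} and {x = 0} if and only if m is even (dimension divisible by 4). -/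
theorem result {F : Type*} [Field F] [Fintype F] {m : ℕ} (hm : 1 ≤ m) (h : Fintype.card F ≠ 2 ∨ m ≠ 2) : (∃ g : ↥(Cfsg.isometryGroup F (Cfsg.quadFormPlus m F)), g ∈ Cfsg.Omega F (Cfsg.quadFormPlus m F) ∧ (∀ v : Fin m ⊕ Fin m → F, (∀ i, v (Sum.inr i) = 0) → ∀ i, (((g : Matrix.GeneralLinearGroup (Fin m ⊕ Fin m) F) : Matrix (Fin m ⊕ Fin m) (Fin m ⊕ Fin m) F).mulVec v) (Sum.inl i) = 0) ∧ (∀ v : Fin m ⊕ Fin m → F, (∀ i, v (Sum.inl i) = 0) → ∀ i, (((g : Matrix.GeneralLinearGroup (Fin m ⊕ Fin m) F) : Matrix (Fin m ⊕ Fin m) (Fin m ⊕ Fin m) F).mulVec v) (Sum.inr i) = 0)) ↔ Even m := by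
  rw [← coe_matQuad_plus]
  have hQ := nondegenerate_plus (F := F) m
  have hV : Module.finrank F (Fin m ⊕ Fin m → F) = 2 * m := by simp; omega
  have hfield := exists_ne_zero_one_or (n := 2 * m) (h.imp_right fun hm2 => by omega)
  have hR := reflGroup_eq_orth hQ (hfield.imp_left fun hne => by rw [hV]; exact hne)
  have hU := isMaxSing_ker_inr (F := F) m
  set U₀ := LinearMap.ker (LinearMap.funLeft F F (Sum.inr : Fin m → Fin m ⊕ Fin m))
  have hdis : ∀ x : orth (matQuad (plusMat m F)),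
      (∀ v ∈ U₀, ∀ i, (x : (Fin m ⊕ Fin m → F) ≃ₗ[F] (Fin m ⊕ Fin m → F)) v (Sum.inl i) = 0) →
      (Even m ↔ dicksonHom hQ hR x = 1) := fun x hx => by
    rw [← maxSing_class_iff hQ hR hV hU x]
    have : U₀ ⊓ U₀.map (x : (Fin m ⊕ Fin m → F) ≃ₗ[F] (Fin m ⊕ Fin m → F)).toLinearMap = ⊥ := by
      rw [eq_bot_iff]
      rintro w ⟨hw, v, hv, rfl⟩
      refine funext fun i => ?_
      cases i with
      | inl i => exact hx v hv i
      | inr i => exact congrFun hw i
    rw [this, finrank_bot, Nat.sub_zero]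
  constructor
  · rintro ⟨g, hg, h1, -⟩
    have hd := hdis (isomEquiv _ g) fun v hv i => h1 v (fun j => congrFun hv j) i
    exact hd.2 (congrArg Prod.snd ((mem_Omega_iff_invariant hQ hR g).1 hg))
  · intro hme
    let s : orth (matQuad (plusMat m F)) :=
      ⟨LinearEquiv.funCongrLeft F F (Equiv.sumComm (Fin m) (Fin m)), fun v => by
        rw [coe_matQuad_plus]
        exact Finset.sum_congr rfl fun i _ => mul_comm _ _⟩
    have hs := (hdis s fun v hv i => congrFun hv i).1 hme
    obtain ⟨u, hu⟩ := sqHom_surjective ((orthInvariant hQ hR s).1)⁻¹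
    obtain ⟨A, hA⟩ : ∃ A : GL (Fin m) F, (Matrix.GeneralLinearGroup.det A : F) = u := by
      refine ⟨Matrix.GeneralLinearGroup.mkOfDetNeZero
        (Matrix.diagonal (Function.update 1 ⟨0, hm⟩ (u : F))) ?_, ?_⟩
      · rw [Matrix.det_diagonal, Finset.prod_update_of_mem (Finset.mem_univ _)]
        simp
      · rw [Matrix.GeneralLinearGroup.val_det_apply]
        show (Matrix.diagonal _).det = _
        rw [Matrix.det_diagonal, Finset.prod_update_of_mem (Finset.mem_univ _)]
        simp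
    have hi := orthInvariant_levi (hfield.imp_left fun hne => by omega) hQ hR A
    refine ⟨(isomEquiv _).symm (leviHom m F A * s), ?_, fun v hv i => ?_, fun v hv i => ?_⟩
    · rw [mem_Omega_iff_invariant hQ hR, MulEquiv.apply_symm_apply, map_mul, hi]
      refine Prod.ext ?_ (by show 1 * dicksonHom hQ hR s = 1; rw [hs, one_mul])
      show sqMk _ * (orthInvariant hQ hR s).1 = 1
      simp only [hA]
      rw [sqMk, Units.mk0_val, hu, inv_mul_cancel]
    · rw [isomEquiv_symm_mulVec]
      show (leviHom m F A : (Fin m ⊕ Fin m → F) ≃ₗ[F] (Fin m ⊕ Fin m → F))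
        (fun z => v (Equiv.sumComm _ _ z)) (Sum.inl i) = 0
      rw [leviHom_apply, Matrix.fromBlocks_mulVec]
      simp [Matrix.mulVec, dotProduct, hv]
    · rw [isomEquiv_symm_mulVec]
      show (leviHom m F A : (Fin m ⊕ Fin m → F) ≃ₗ[F] (Fin m ⊕ Fin m → F))
        (fun z => v (Equiv.sumComm _ _ z)) (Sum.inr i) = 0
      rw [leviHom_apply, Matrix.fromBlocks_mulVec]
      simp [Matrix.mulVec, dotProduct, hv]

end Cfsg.Agent.S2612
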