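import Cfsg.Statements.S2613
import Cfsg.Agent.Lib.Geometry.OmegaDiag

set_option autoImplicit false
open Cfsg CfsgLib.Geometry

namespace Cfsg.Agent.S2613

/-- For the hyperbolic form Σ x_j y_j on F^(2m), F finite with q elements, q odd, and 1 ≤ i ≤ m: the involution negating the first i hyperbolic pairs (x_j, y_j ↦ −x_j, −y_j for j < i) and fixing the rest lies in Ω⁺_2m(q) (commutator subgroup of the orthogonal group) if and only if q^i ≡ 1 (mod 4); its (−1)-eigenspace is a hyperbolic 2i-space. -/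
theorem result {F : Type*} [Field F] [Fintype F] {q : ℕ} (hF : Fintype.card F = q) (hq : Odd q) {m : ℕ} (i : ℕ) (hi : 1 ≤ i) (him : i ≤ m) : (∃ g : ↥(Cfsg.isometryGroup F (Cfsg.quadFormPlus m F)), g ∈ Cfsg.Omega F (Cfsg.quadFormPlus m F) ∧ ((g : Matrix.GeneralLinearGroup (Fin m ⊕ Fin m) F) : Matrix (Fin m ⊕ Fin m) (Fin m ⊕ Fin m) F) = Matrix.diagonal (fun k : Fin m ⊕ Fin m => if (Sum.elim (fun j : Fin m => (j : ℕ)) (fun j : Fin m => (j : ℕ)) k) < i then (-1 : F) else 1)) ↔ q ^ i % 4 = 1 := by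
  rw [← coe_matQuad_plus]
  have h2 := two_ne_zero_of_odd_card hF hq
  have hQ := nondegenerate_matQuad (M := plusMat m F) (by rw [det_plus_gram]; simp)
  have hD : (-1 : F)⁻¹ = -1 := inv_neg_one
  have hprod : (∏ _j : Fin i, (-1 : F)) = (-1) ^ i := by simp
  refine (exists_diag_mem_Omega_iff hQ (reflGroup_eq_orth_of_two_ne hQ h2) (k := i)
    (fun j => Sum.inl (Fin.castLE him j)) (fun j => Sum.inr (Fin.castLE him j))
    (fun x y h => by rcases x with x | x <;> rcases y with y | y <;> simp_all [Fin.castLE_inj])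
    (fun j => by rw [coe_matQuad_plus]; simp [Cfsg.quadFormPlus])
    (fun j => by rw [coe_matQuad_plus]; simp [Cfsg.quadFormPlus])
    (fun x j => by rw [coe_matQuad_plus]; simp [QuadraticMap.polar, Cfsg.quadFormPlus, ← Finset.sum_sub_distrib, mul_add, add_mul, Pi.single_apply, Finset.sum_add_distrib])
    (fun x j => by rw [coe_matQuad_plus]; simp [QuadraticMap.polar, Cfsg.quadFormPlus, ← Finset.sum_sub_distrib, mul_add, add_mul, Pi.single_apply, Finset.sum_add_distrib])
    (fun _ => -1) (by simp) _ (fun j => by simp [j.isLt]) (fun j => by simp [j.isLt, hD])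
    (fun z hz => ?_)).trans (by rw [hprod]; exact isSquare_neg_one_pow_iff hF hq i)
  rcases z with z | z
  · exact if_neg fun hlt => (hz ⟨z, hlt⟩).1 (by simp [Fin.ext_iff])
  · exact if_neg fun hlt => (hz ⟨z, hlt⟩).2 (by simp [Fin.ext_iff])

end Cfsg.Agent.S2613
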