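import Cfsg.Statements.S2615
import Cfsg.Agent.Lib.Geometry.OmegaDiag

set_option autoImplicit false
open Cfsg CfsgLib.Geometry

namespace Cfsg.Agent.S2615

/-- For an elliptic form Σ_(j<m−1) x_j y_j + (z₁² + a z₁z₂ + b z₂²) (anisotropic binary part) on F^(2m), F finite with q elements, q odd, and 1 ≤ i ≤ m − 1: the involution negating the first i hyperbolic pairs and fixing the rest lies in Ω⁻_2m(q) (commutator subgroup of the orthogonal group) if and only if q^i ≡ 1 (mod 4). -/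
theorem result {F : Type*} [Field F] [Fintype F] {q : ℕ} (hF : Fintype.card F = q) (hq : Odd q) {m : ℕ} (a b : F) (hab : ∀ z₁ z₂ : F, z₁ ^ 2 + a * z₁ * z₂ + b * z₂ ^ 2 = 0 → z₁ = 0 ∧ z₂ = 0) (i : ℕ) (hi : 1 ≤ i) (him : i + 1 ≤ m) : (∃ g : ↥(Cfsg.isometryGroup F (Cfsg.quadFormMinus (m - 1) F a b)), g ∈ Cfsg.Omega F (Cfsg.quadFormMinus (m - 1) F a b) ∧ ((g : Matrix.GeneralLinearGroup ((Fin (m - 1) ⊕ Fin (m - 1)) ⊕ Fin 2) F) : Matrix ((Fin (m - 1) ⊕ Fin (m - 1)) ⊕ Fin 2) ((Fin (m - 1) ⊕ Fin (m - 1)) ⊕ Fin 2) F) = Matrix.diagonal (fun k : (Fin (m - 1) ⊕ Fin (m - 1)) ⊕ Fin 2 => if (Sum.elim (Sum.elim (fun j : Fin (m - 1) => (j : ℕ)) (fun j : Fin (m - 1) => (j : ℕ))) (fun _ : Fin 2 => i) k) < i then (-1 : F) else 1)) ↔ q ^ i % 4 = 1 := by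
  have him' : i ≤ m - 1 := by omega
  rw [← coe_matQuad_minus]
  have h2 := two_ne_zero_of_odd_card hF hq
  have hQ := nondegenerate_matQuad (M := minusMat (m - 1) F a b) (by rw [det_minus_gram]; simp [(binAniso_discr hab).1])
  have hD : (-1 : F)⁻¹ = -1 := inv_neg_one
  have hprod : (∏ _j : Fin i, (-1 : F)) = (-1) ^ i := by simp
  refine (exists_diag_mem_Omega_iff hQ (reflGroup_eq_orth_of_two_ne hQ h2) (k := i)
    (fun j => Sum.inl (Sum.inl (Fin.castLE him' j))) (fun j => Sum.inl (Sum.inr (Fin.castLE him' j)))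
    (fun x y h => by rcases x with x | x <;> rcases y with y | y <;> simp_all [Fin.castLE_inj])
    (fun j => by rw [coe_matQuad_minus]; simp [Cfsg.quadFormMinus])
    (fun j => by rw [coe_matQuad_minus]; simp [Cfsg.quadFormMinus])
    (fun x j => by rw [coe_matQuad_minus]; simp [QuadraticMap.polar, Cfsg.quadFormMinus, ← Finset.sum_sub_distrib, mul_add, add_mul, Pi.single_apply, Finset.sum_add_distrib])
    (fun x j => by rw [coe_matQuad_minus]; simp [QuadraticMap.polar, Cfsg.quadFormMinus, ← Finset.sum_sub_distrib, mul_add, add_mul, Pi.single_apply, Finset.sum_add_distrib])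
    (fun _ => -1) (by simp) _ (fun j => by simp [j.isLt]) (fun j => by simp [j.isLt, hD])
    (fun z hz => ?_)).trans (by rw [hprod]; exact isSquare_neg_one_pow_iff hF hq i)
  rcases z with (z | z) | z
  · exact if_neg fun hlt => (hz ⟨z, hlt⟩).1 (by simp [Fin.ext_iff])
  · exact if_neg fun hlt => (hz ⟨z, hlt⟩).2 (by simp [Fin.ext_iff])
  · simp

end Cfsg.Agent.S2615
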