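import Cfsg.Statements.S2616
import Cfsg.Agent.Lib.Geometry.FormClass

set_option autoImplicit false
open Cfsg CfsgLib.Geometry

namespace Cfsg.Agent.S2616

/-- Standard bases of a non-degenerate quadratic space of even dimension 2m over a finite field: either there is a hyperbolic basis e_i, f_i (Q(e_i) = Q(f_i) = 0, B(e_i, f_j) = δ_ij, the e's pairwise orthogonal and the f's pairwise orthogonal, B the polar form), or there is an elliptic basis: hyperbolic pairs e_i, f_i for i < m − 1 together with x, y orthogonal to them with Q(x) = 1, B(x, y) = 1, Q(y) = ζ where t² + t + ζ has no root in the field. -/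
theorem result {F V : Type*} [Field F] [Finite F] [AddCommGroup V] [Module F V] [FiniteDimensional F V] {m : ℕ} (hm : 1 ≤ m) (hV : Module.finrank F V = 2 * m) (Q : QuadraticForm F V) (hQ : (QuadraticMap.polarBilin Q).Nondegenerate) : (∃ b : Module.Basis (Fin m ⊕ Fin m) F V, (∀ i, Q (b (Sum.inl i)) = 0 ∧ Q (b (Sum.inr i)) = 0) ∧ (∀ i j, QuadraticMap.polar ⇑Q (b (Sum.inl i)) (b (Sum.inr j)) = if i = j then 1 else 0) ∧ (∀ i j, QuadraticMap.polar ⇑Q (b (Sum.inl i)) (b (Sum.inl j)) = 0 ∧ QuadraticMap.polar ⇑Q (b (Sum.inr i)) (b (Sum.inr j)) = 0)) ∨ (∃ (b : Module.Basis ((Fin (m - 1) ⊕ Fin (m - 1)) ⊕ Fin 2) F V) (ζ : F), (∀ t : F, t ^ 2 + t + ζ ≠ 0) ∧ (∀ i, Q (b (Sum.inl (Sum.inl i))) = 0 ∧ Q (b (Sum.inl (Sum.inr i))) = 0) ∧ (∀ i j, QuadraticMap.polar ⇑Q (b (Sum.inl (Sum.inl i))) (b (Sum.inl (Sum.inr j))) = if i = j then 1 else 0) ∧ (∀ i j, QuadraticMap.polar ⇑Q (b (Sum.inl (Sum.inl i))) (b (Sum.inl (Sum.inl j))) = 0 ∧ QuadraticMap.polar ⇑Q (b (Sum.inl (Sum.inr i))) (b (Sum.inl (Sum.inr j))) = 0) ∧ (∀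 i (k : Fin 2), QuadraticMap.polar ⇑Q (b (Sum.inl (Sum.inl i))) (b (Sum.inr k)) = 0 ∧ QuadraticMap.polar ⇑Q (b (Sum.inl (Sum.inr i))) (b (Sum.inr k)) = 0) ∧ Q (b (Sum.inr 0)) = 1 ∧ QuadraticMap.polar ⇑Q (b (Sum.inr 0)) (b (Sum.inr 1)) = 1 ∧ Q (b (Sum.inr 1)) = ζ) := by
  obtain ⟨k, rfl⟩ : ∃ k, m = k + 1 := ⟨m - 1, by omega⟩
  obtain ⟨e, f, g, hg, hq, hef, hee, hgp⟩ := exists_pairs 2 one_le_two k Q hQ (by omega)
  let b := basisOfLinearIndependentOfCardEqFinrank (linearIndependent_pairs hg hef hee hgp)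
    (by simp; omega)
  have hb : ∀ z, b z = Sum.elim (Sum.elim e f) g z := fun z => by simp [b]
  -- the plane
  let P := Submodule.span F (Set.range g)
  have hPe : ∀ p ∈ P, ∀ i, QuadraticMap.polar Q (e i) p = 0 ∧ QuadraticMap.polar Q (f i) p = 0 := by
    intro p hp i
    have h1 : P ≤ LinearMap.ker (QuadraticMap.polarBilin Q (e i)) ⊓
        LinearMap.ker (QuadraticMap.polarBilin Q (f i)) :=
      Submodule.span_le.2 (by rintro _ ⟨l, rfl⟩; exact hgp i l)
    exact h1 hp
  have hPl : ∀ x ∈ P, (∀ y ∈ P, QuadraticMap.polar Q x y = 0) → x = 0 := fun x hx h => by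
    have hz : QuadraticMap.polarBilin Q x = 0 := b.ext fun z => by
      rw [LinearMap.zero_apply, QuadraticMap.polarBilin_apply_apply, hb]
      rcases z with (z | z) | z
      · rw [QuadraticMap.polar_comm]; exact (hPe x hx z).1
      · rw [QuadraticMap.polar_comm]; exact (hPe x hx z).2
      · exact h _ (Submodule.subset_span ⟨z, rfl⟩)
    exact hQ.1 _ fun y => by rw [hz, LinearMap.zero_apply]
  have hfr : Module.finrank F P = 2 := by
    show Module.finrank F ↥(Submodule.span F (Set.range g)) = 2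
    rw [finrank_span_eq_card hg, Fintype.card_fin]
  have hp : ∀ x y : P, QuadraticMap.polar (Q.comp P.subtype) x y = QuadraticMap.polar Q (x : V) (y : V) :=
    fun x y => by simp [QuadraticMap.polar]
  have hQP : (QuadraticMap.polarBilin (Q.comp P.subtype)).Nondegenerate :=
    ⟨fun x hx => Subtype.ext (hPl _ x.2 fun y hy => (hp x ⟨y, hy⟩).symm.trans (hx ⟨y, hy⟩)),
     fun y hy => Subtype.ext (hPl _ y.2 fun x hx => by
       rw [QuadraticMap.polar_comm]; exact (hp ⟨x, hx⟩ y).symm.trans (hy ⟨x, hx⟩))⟩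
  by_cases hiso : ∃ x ∈ P, x ≠ 0 ∧ Q x = 0
  · left
    obtain ⟨x, hxP, hx0, hx⟩ := hiso
    obtain ⟨y, hy, hxy⟩ := exists_pair hQP (e := (⟨x, hxP⟩ : P))
      (fun h => hx0 (congrArg Subtype.val h)) hx
    rw [hp] at hxy
    let E : Fin (k + 1) → V := Fin.snoc e x
    let G : Fin (k + 1) → V := Fin.snoc f (y : V)
    have hE : ∀ i j, QuadraticMap.polar Q (E i) (G j) = if i = j then 1 else 0 := by
      intro i j
      induction i using Fin.lastCases <;> induction j using Fin.lastCases
      · simpa [E, G] using hxy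
      · simp [E, G, QuadraticMap.polar_comm _ x, (hPe x hxP _).2, (Fin.castSucc_ne_last _).symm]
      · simp [E, G, (hPe y y.2 _).1, Fin.castSucc_ne_last]
      · simp [E, G, hef]
    have hEE : ∀ i j, QuadraticMap.polar Q (E i) (E j) = 0 ∧ QuadraticMap.polar Q (G i) (G j) = 0 := by
      intro i j
      induction i using Fin.lastCases <;> induction j using Fin.lastCases
      · have hy' : Q (y : V) = 0 := hy
        simp only [E, G, Fin.snoc_last]
        rw [polar_self' Q x, polar_self' Q (y : V), hx, hy', mul_zero]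
        exact ⟨rfl, rfl⟩
      · simp [E, G, QuadraticMap.polar_comm _ x, QuadraticMap.polar_comm _ (y : V), (hPe x hxP _).1,
          (hPe y y.2 _).2]
      · simp [E, G, (hPe x hxP _).1, (hPe y y.2 _).2]
      · simp [E, G, hee]
    have hli := linearIndependent_pairs (Q := Q) (g := (Fin.elim0 : Fin 0 → V))
      linearIndependent_empty_type hE hEE (fun _ l => l.elim0)
    refine ⟨(basisOfLinearIndependentOfCardEqFinrank hli (by simp; omega)).reindex
      (Equiv.sumEmpty _ _), fun i => ?_, fun i j => ?_, fun i j => ?_⟩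
    · simp only [Module.Basis.reindex_apply, Equiv.sumEmpty_symm_apply,
        coe_basisOfLinearIndependentOfCardEqFinrank, Sum.elim_inl, Sum.elim_inr]
      induction i using Fin.lastCases with
      | last => simpa [E, G] using ⟨hx, hy⟩
      | cast i => simpa [E, G] using hq i
    · simpa using hE i j
    · simpa using hEE i j
  · right
    push Not at hiso
    obtain ⟨x, hx⟩ := exists_represents hQP (by omega) 1
    have hx1 : Q (x : V) = 1 := hx
    obtain ⟨y, hyx⟩ : ∃ y : P, QuadraticMap.polar Q (x : V) (y : V) = 1 := by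
      obtain ⟨w, hw⟩ : ∃ w : P, QuadraticMap.polar Q (x : V) (w : V) ≠ 0 := by
        by_contra hc
        push Not at hc
        have := hPl _ x.2 fun w hw => hc ⟨w, hw⟩
        rw [this, QuadraticMap.map_zero] at hx1
        exact zero_ne_one hx1
      refine ⟨(QuadraticMap.polar Q (x : V) (w : V))⁻¹ • w, ?_⟩
      rw [Submodule.coe_smul, polar_smul_right', inv_mul_cancel₀ hw]
    obtain ⟨y, hyx, hind⟩ : ∃ y' : P, QuadraticMap.polar Q (x : V) (y' : V) = 1 ∧
        ∀ t : F, (y' : V) + t • (x : V) ≠ 0 := by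
      by_cases hy : ∀ t : F, (y : V) + t • (x : V) ≠ 0
      · exact ⟨y, hyx, hy⟩
      push Not at hy
      obtain ⟨t₀, ht₀⟩ := hy
      obtain ⟨z, hz0, hxz⟩ : ∃ z : P, z ≠ 0 ∧ QuadraticMap.polar Q (x : V) (z : V) = 0 := by
        have h := LinearMap.finrank_range_add_finrank_ker
          ((QuadraticMap.polarBilin Q (x : V)).comp P.subtype)
        have h' : Module.finrank F
            (LinearMap.range ((QuadraticMap.polarBilin Q (x : V)).comp P.subtype)) ≤ 1 :=
          le_trans (Submodule.finrank_le _) (by simp)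
        haveI : Nontrivial (LinearMap.ker ((QuadraticMap.polarBilin Q (x : V)).comp P.subtype)) :=
          Module.nontrivial_of_finrank_pos (R := F) (by omega)
        obtain ⟨z, hz⟩ :=
          exists_ne (0 : LinearMap.ker ((QuadraticMap.polarBilin Q (x : V)).comp P.subtype))
        exact ⟨z, fun h => hz (Subtype.ext h), z.2⟩
      refine ⟨y + z, by rw [Submodule.coe_add, QuadraticMap.polar_add_right, hyx, hxz, add_zero],
        fun t ht => hz0 (Subtype.ext ?_)⟩
      have hy1 : (y : V) = -(t₀ • (x : V)) := eq_neg_of_add_eq_zero_left ht₀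
      have h2t : -t₀ * 2 = 1 := by
        rw [hy1, ← neg_smul, polar_smul_right', polar_self' Q (x : V), hx1] at hyx
        linear_combination hyx
      have hzx : (z : V) = (t₀ - t) • (x : V) := by
        rw [Submodule.coe_add, hy1] at ht
        linear_combination (norm := module) ht
      rw [hzx, polar_smul_right', polar_self' Q (x : V), hx1] at hxz
      have : t₀ - t = 0 := by linear_combination (-(t₀ - t)) * h2t - t₀ * hxz
      rw [hzx, this, zero_smul]; rfl
    have hroot : ∀ t : F, t ^ 2 + t + Q (y : V) ≠ 0 := fun t ht => by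
      have h0 : Q ((y : V) + t • (x : V)) = 0 := by
        rw [map_add', map_smul', hx1, polar_smul_right', QuadraticMap.polar_comm, hyx]
        linear_combination ht
      exact hiso _ (add_mem y.2 (P.smul_mem t x.2)) (hind t) h0
    let g' : Fin 2 → V := ![(x : V), (y : V)]
    have hgp' : ∀ i l, QuadraticMap.polar Q (e i) (g' l) = 0 ∧ QuadraticMap.polar Q (f i) (g' l) = 0 :=
      fun i l => by
        fin_cases l
        · exact hPe _ x.2 i
        · exact hPe _ y.2 i
    have hg' : LinearIndependent F g' := by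
      refine LinearIndependent.pair_iff.2 fun s t hst => ?_
      rcases eq_or_ne t 0 with rfl | ht
      · rw [zero_smul, add_zero] at hst
        have hx0 : (x : V) ≠ 0 := fun h => by rw [h, QuadraticMap.map_zero] at hx1; exact zero_ne_one hx1
        exact ⟨(smul_eq_zero.1 hst).resolve_right hx0, rfl⟩
      · exfalso
        have h0 : (y : V) + (t⁻¹ * s) • (x : V) = 0 := by
          have := congrArg (t⁻¹ • ·) hst
          simpa [smul_add, smul_smul, ht, add_comm] using this
        refine hroot (t⁻¹ * s) ?_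
        have h2' := congrArg Q h0
        rw [map_add', map_smul', hx1, polar_smul_right', QuadraticMap.polar_comm, hyx,
          QuadraticMap.map_zero] at h2'
        linear_combination h2'
    refine ⟨basisOfLinearIndependentOfCardEqFinrank (linearIndependent_pairs hg' hef hee hgp')
      (by simp; omega), Q (y : V), hroot, fun i => ?_, fun i j => ?_, fun i j => ?_, fun i l => ?_,
      ?_, ?_, ?_⟩ <;> simp only [coe_basisOfLinearIndependentOfCardEqFinrank, Sum.elim_inl, Sum.elim_inr]
    · exact hq i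
    · exact hef i j
    · exact hee i j
    · exact hgp' i l
    · exact hx1
    · exact hyx
    · rfl

end Cfsg.Agent.S2616
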