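import Cfsg.Statements.S2617
import Cfsg.Agent.Lib.Geometry.FormClass
import Cfsg.Agent.Lib.Classical.OrthStd

set_option autoImplicit false
open Cfsg CfsgLib.Geometry

namespace Cfsg.Agent.S2617

/-- The two standard quadratic forms of even dimension 2m over a finite field are not isometric: there is no linear isomorphism carrying the elliptic form Σ_(i<m−1) x_i y_i + z₁² + z₁z₂ + ζ z₂² (t² + t + ζ without roots) to the hyperbolic form Σ_(i<m) x_i y_i (they have different Witt index). -/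
theorem result {F : Type*} [Field F] [Finite F] {m : ℕ} (hm : 1 ≤ m) (ζ : F) (hζ : ∀ t : F, t ^ 2 + t + ζ ≠ 0) (g : (Fin m ⊕ Fin m → F) ≃ₗ[F] ((Fin (m - 1) ⊕ Fin (m - 1)) ⊕ Fin 2 → F)) : ¬ (∀ v : Fin m ⊕ Fin m → F, Cfsg.quadFormMinus (m - 1) F 1 ζ (g v) = Cfsg.quadFormPlus m F v) := by
  intro hg
  obtain ⟨k, rfl⟩ : ∃ k, m = k + 1 := ⟨m - 1, by omega⟩
  have hB : CfsgLib.Classical.BinAniso (1 : F) ζ := fun z₁ z₂ h => by
    rcases eq_or_ne z₂ 0 with rfl | hz
    · simpa using h
    · refine absurd ?_ (hζ (z₁ / z₂))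
      field_simp
      linear_combination h
  have e : Nat.card {v // Cfsg.quadFormPlus (k + 1) F v = 0} =
      Nat.card {v // Cfsg.quadFormMinus k F 1 ζ v = 0} :=
    Nat.card_congr (g.toEquiv.subtypeEquiv fun v => by rw [← hg v]; rfl)
  have h1 := CfsgLib.Classical.card_zeros_plus (F := F) (k + 1)
  have h2 := CfsgLib.Classical.card_zeros_minus k hB
  rw [e] at h1
  have hq : 1 < Nat.card F := Finite.one_lt_card
  have hlt : Nat.card F ^ (k + 1) < Nat.card F ^ (k + 1 + 1) :=
    Nat.pow_lt_pow_right hq (Nat.lt_succ_self _)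
  rw [show 2 * (k + 1) = 2 * k + 2 by ring] at h1
  rw [show k + 2 = k + 1 + 1 from rfl] at h2
  omega

end Cfsg.Agent.S2617
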