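import Cfsg.Statements.S2618
import Cfsg.Agent.Lib.Geometry.FormClass

set_option autoImplicit false
open Cfsg CfsgLib.Geometry

namespace Cfsg.Agent.S2618

/-- Standard (parabolic) basis of a non-degenerate quadratic space of odd dimension 2m + 1 over a finite field (the non-degeneracy of the polar form forces the characteristic to be odd): there is a basis e_i, f_i (i < m), x with Q(e_i) = Q(f_i) = 0, B(e_i, f_j) = δ_ij (B the polar form), the e's pairwise orthogonal and the f's pairwise orthogonal, x orthogonal to all of them and Q(x) ≠ 0. -/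
theorem result {F V : Type*} [Field F] [Finite F] [AddCommGroup V] [Module F V] [FiniteDimensional F V] {m : ℕ} (hV : Module.finrank F V = 2 * m + 1) (Q : QuadraticForm F V) (hQ : (QuadraticMap.polarBilin Q).Nondegenerate) : ∃ b : Module.Basis (Unit ⊕ (Fin m ⊕ Fin m)) F V, Q (b (Sum.inl ())) ≠ 0 ∧ (∀ i, QuadraticMap.polar ⇑Q (b (Sum.inl ())) (b (Sum.inr (Sum.inl i))) = 0 ∧ QuadraticMap.polar ⇑Q (b (Sum.inl ())) (b (Sum.inr (Sum.inr i))) = 0) ∧ (∀ i, Q (b (Sum.inr (Sum.inl i))) = 0 ∧ Q (b (Sum.inr (Sum.inr i))) = 0) ∧ (∀ i j, QuadraticMap.polar ⇑Q (b (Sum.inr (Sum.inl i))) (b (Sum.inr (Sum.inr j))) = if i = j then 1 else 0) ∧ (∀ i j, QuadraticMap.polar ⇑Q (b (Sum.inr (Sum.inl i))) (b (Sum.inr (Sum.inl j))) = 0 ∧ QuadraticMap.polar ⇑Q (b (Sum.inr (Sum.inr i))) (b (Sum.inr (Sum.inr j))) = 0) := by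
  obtain ⟨e, f, g, hg, hq, hef, hee, hgp⟩ := exists_pairs 1 le_rfl m Q hQ hV
  let σ : (Fin m ⊕ Fin m) ⊕ Fin 1 ≃ Unit ⊕ (Fin m ⊕ Fin m) :=
    (Equiv.sumComm _ _).trans (Equiv.sumCongr finOneEquiv (Equiv.refl _))
  let b := (basisOfLinearIndependentOfCardEqFinrank (linearIndependent_pairs hg hef hee hgp)
    (by simp; omega)).reindex σ
  have hbx : b (Sum.inl ()) = g 0 := by simp [b, σ, finOneEquiv]
  have hbe : ∀ i, b (Sum.inr (Sum.inl i)) = e i := fun i => by simp [b, σ]
  have hbf : ∀ i, b (Sum.inr (Sum.inr i)) = f i := fun i => by simp [b, σ]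
  refine ⟨b, ?_, fun i => ?_, fun i => ?_, fun i j => ?_, fun i j => ?_⟩
  · rw [hbx]
    intro h0
    have hz : QuadraticMap.polarBilin Q (g 0) = 0 := b.ext fun z => by
      rw [LinearMap.zero_apply, QuadraticMap.polarBilin_apply_apply]
      rcases z with z | z | z
      · rw [show z = () from rfl, hbx, polar_self' Q (g 0), h0, mul_zero]
      · rw [hbe, QuadraticMap.polar_comm]; exact (hgp z 0).1
      · rw [hbf, QuadraticMap.polar_comm]; exact (hgp z 0).2
    exact hg.ne_zero 0 (hQ.1 _ fun y => by rw [hz, LinearMap.zero_apply])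
  · rw [hbx, hbe, hbf, QuadraticMap.polar_comm _ (g 0), QuadraticMap.polar_comm _ (g 0)]
    exact hgp i 0
  · rw [hbe, hbf]; exact hq i
  · rw [hbe, hbf]; exact hef i j
  · rw [hbe, hbe, hbf, hbf]; exact hee i j

end Cfsg.Agent.S2618
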