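import Cfsg.Statements.S2619
import Cfsg.Agent.Lib.Geometry.FormClass
import Cfsg.Agent.Lib.Geometry.POmegaStd

set_option autoImplicit false
open Cfsg CfsgLib.Geometry

namespace Cfsg.Agent.S2619

/-- Over a finite field of characteristic two, given an alternating bilinear form B on a finite-dimensional space, a basis (v_i) and scalars (λ_i), there is exactly one quadratic form whose polar form is B and whose value at each v_i is λ_i. -/
theorem result {F V ι : Type*} [Field F] [Finite F] [CharP F 2] [AddCommGroup V] [Module F V] [Fintype ι] (b : Module.Basis ι F V) (B : LinearMap.BilinForm F V) (hB : B.IsAlt) (c : ι → F) : ∃! Q : QuadraticForm F V, QuadraticMap.polarBilin Q = B ∧ ∀ i, Q (b i) = c i := by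
  classical
  obtain ⟨e⟩ : Nonempty (ι ≃ Fin (Fintype.card ι)) := ⟨Fintype.equivFin ι⟩
  let M : Matrix ι ι F := Matrix.of fun i j =>
    if i = j then c i else if e i < e j then B (b i) (b j) else 0
  let Q : QuadraticForm F V :=
    LinearMap.BilinMap.toQuadraticMap ((LinearMap.BilinForm.toMatrix b).symm M)
  have hM : ∀ i j, ((LinearMap.BilinForm.toMatrix b).symm M) (b i) (b j) = M i j := fun i j => by
    rw [← LinearMap.BilinForm.toMatrix_apply b, LinearEquiv.apply_symm_apply]
  have hp : QuadraticMap.polarBilin Q = B := by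
    refine LinearMap.BilinForm.ext_basis b fun i j => ?_
    show QuadraticMap.polar ⇑Q (b i) (b j) = _
    rw [show ⇑Q = ⇑(LinearMap.BilinMap.toQuadraticMap ((LinearMap.BilinForm.toMatrix b).symm M))
      from rfl, LinearMap.BilinMap.polar_toQuadraticMap, hM, hM]
    simp only [M, Matrix.of_apply]
    rcases eq_or_ne i j with rfl | hij
    · rw [if_pos rfl, CharTwo.add_self_eq_zero, hB.self_eq_zero]
    · rw [if_neg hij, if_neg hij.symm]
      rcases lt_trichotomy (e i) (e j) with h | h | h
      · rw [if_pos h, if_neg h.asymm, add_zero]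
      · exact absurd (e.injective h) hij
      · rw [if_neg h.asymm, if_pos h, zero_add, ← hB.neg_eq, CharTwo.neg_eq]
  have hd : ∀ i, Q (b i) = c i := fun i => by
    show ((LinearMap.BilinForm.toMatrix b).symm M) (b i) (b i) = c i
    rw [hM]
    simp [M]
  refine ⟨Q, ⟨hp, hd⟩, ?_⟩
  rintro Q' ⟨hQ', hc⟩
  ext v
  have hv : v ∈ Submodule.span F (Set.range b) := by rw [b.span_eq]; trivial
  induction hv using Submodule.span_induction with
  | mem x hx =>
    obtain ⟨i, rfl⟩ := hx
    rw [hc, hd]
  | zero => rw [QuadraticMap.map_zero, QuadraticMap.map_zero]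
  | add x y _ _ hx hy =>
    rw [map_add', map_add', hx, hy, ← QuadraticMap.polarBilin_apply_apply,
      ← QuadraticMap.polarBilin_apply_apply, hp, hQ']
  | smul a x _ hx => rw [map_smul', map_smul', hx]

end Cfsg.Agent.S2619
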