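import Cfsg.Statements.S2621
import Cfsg.Agent.Lib.Geometry.FormClass
import Cfsg.Agent.Lib.Geometry.POmegaStd

set_option autoImplicit false
open Cfsg CfsgLib.Geometry

namespace Cfsg.Agent.S2621

/-- Discriminant of an elliptic quadratic form Σ_(i<m−1) x_i y_i + z₁² + a z₁z₂ + c z₂² (binary part anisotropic) in dimension 2m over a field with q elements, q odd, m ≥ 1: the determinant of the Gram matrix of its polar form in any basis is a square if and only if m(q − 1)/2 is odd (equivalently q^m ≡ 3 (mod 4)). -/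
theorem result {F : Type*} [Field F] [Fintype F] {q : ℕ} (hF : Fintype.card F = q) (hq : Odd q) {m : ℕ} (hm : 1 ≤ m) (a c : F) (hac : ∀ z₁ z₂ : F, z₁ ^ 2 + a * z₁ * z₂ + c * z₂ ^ 2 = 0 → z₁ = 0 ∧ z₂ = 0) {ι : Type*} [Fintype ι] [DecidableEq ι] (b : Module.Basis ι F ((Fin (m - 1) ⊕ Fin (m - 1)) ⊕ Fin 2 → F)) : IsSquare (Matrix.of (fun i j : ι => QuadraticMap.polar (Cfsg.quadFormMinus (m - 1) F a c) (b i) (b j))).det ↔ ¬ Even (m * (q - 1) / 2) := by
  rw [← coe_matQuad_minus, isSquare_det_polar_iff (matQuad (minusMat (m - 1) F a c))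
    (Pi.basisFun F _) b]
  have e : (Matrix.of fun i j => QuadraticMap.polar ⇑(matQuad (minusMat (m - 1) F a c))
      (Pi.basisFun F _ i) (Pi.basisFun F _ j)) =
      minusMat (m - 1) F a c + (minusMat (m - 1) F a c).transpose := by
    ext i j
    rw [Matrix.of_apply, Pi.basisFun_apply, Pi.basisFun_apply, polar_matQuad]
    simp
  have h2 := two_ne_zero_of_odd_card hF hq
  have hns := (binAniso_discr hac).2 h2
  obtain ⟨k, rfl⟩ : ∃ k, m = k + 1 := ⟨m - 1, by omega⟩
  rw [e, det_minus_gram, Nat.add_sub_cancel, ← pow_mod_four_iff hq, ← isSquare_neg_one_pow_iff hF hq,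
    show (-1 : F) ^ k * (4 * c - a * a) = (-1) ^ (k + 1) * (a * a - 4 * c) by ring]
  constructor
  · intro hs h1
    have := hs.div h1
    rw [mul_div_cancel_left₀ _ (by simp)] at this
    exact hns this
  · exact fun h1 => isSquare_mul_of_not h1 hns

end Cfsg.Agent.S2621
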