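import Cfsg.Statements.S2622
-- import your own Cfsg.Agent.* helpers here

set_option autoImplicit false
open Cfsg

namespace Cfsg.Agent.S2622

/-- Over a finite field of characteristic two, a non-degenerate symmetric bilinear form that is not alternating (some vector v has B(v, v) ≠ 0) admits an orthonormal basis. -/
theorem result {F V : Type*} [Field F] [Finite F] [CharP F 2] [AddCommGroup V] [Module F V] [FiniteDimensional F V] {n : ℕ} (hV : Module.finrank F V = n) (B : LinearMap.BilinForm F V) (hS : B.IsSymm) (hB : B.Nondegenerate) (hna : ∃ v : V, B v v ≠ 0) : ∃ b : Module.Basis (Fin n) F V, ∀ i j, B (b i) (b j) = if i = j then 1 else 0 := by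
  classical
  have hsymm : ∀ x y, B x y = B y x := fun x y => hS.eq x y
  have hsqrt : ∀ c : F, ∃ r, r * r = c := fun c => by
    haveI : Fintype F := Fintype.ofFinite F
    obtain ⟨r, hr⟩ := FiniteField.isSquare_of_char_two (ringChar.eq F 2) c
    exact ⟨r, hr.symm⟩
  have key : ∀ (k : ℕ) (W : Submodule F V), Module.finrank F W = k →
      (∀ x ∈ W, (∀ y ∈ W, B x y = 0) → x = 0) → (0 < k → ∃ v ∈ W, B v v ≠ 0) →
      ∃ f : Fin k → V, (∀ i, f i ∈ W) ∧ ∀ i j, B (f i) (f j) = if i = j then 1 else 0 := by
    intro k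
    induction k with
    | zero => exact fun W _ _ _ => ⟨Fin.elim0, fun i => i.elim0, fun i => i.elim0⟩
    | succ k ih =>
      intro W hWk hnd hna
      have step : ∀ v ∈ W, B v v = 1 → (0 < k → ∃ u ∈ W, B v u = 0 ∧ B u u ≠ 0) →
          ∃ f : Fin (k + 1) → V, (∀ i, f i ∈ W) ∧ ∀ i j, B (f i) (f j) = if i = j then 1 else 0 := by
        intro v hv hvv hu
        let W' := W ⊓ LinearMap.ker (B v)
        have hdec : ∀ x ∈ W, x - B v x • v ∈ W' := fun x hx =>
          ⟨sub_mem hx (Submodule.smul_mem _ _ hv), by
            rw [SetLike.mem_coe, LinearMap.mem_ker, map_sub, map_smul, hvv, smul_eq_mul, mul_one, sub_self]⟩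
        have hv0 : v ≠ 0 := fun h0 => by rw [h0, map_zero] at hvv; exact zero_ne_one hvv
        have hsup : W' ⊔ Submodule.span F {v} = W := by
          refine le_antisymm (sup_le inf_le_left ((Submodule.span_singleton_le_iff_mem _ _).2 hv)) fun x hx => ?_
          rw [← sub_add_cancel x (B v x • v)]
          exact Submodule.add_mem_sup (hdec x hx) (Submodule.mem_span_singleton.2 ⟨_, rfl⟩)
        have hdisj : W' ⊓ Submodule.span F {v} = ⊥ := by
          rw [eq_bot_iff]
          rintro x ⟨hx, hx'⟩
          obtain ⟨a, rfl⟩ := Submodule.mem_span_singleton.1 hx'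
          have h1 : B v (a • v) = 0 := LinearMap.mem_ker.1 hx.2
          rw [map_smul, hvv, smul_eq_mul, mul_one] at h1
          simp [h1]
        have hW'k : Module.finrank F W' = k := by
          have h1 := Submodule.finrank_sup_add_finrank_inf_eq W' (Submodule.span F {v})
          rw [hsup, hdisj, finrank_bot, finrank_span_singleton hv0, hWk] at h1
          omega
        obtain ⟨f, hf, hfo⟩ := ih W' hW'k (fun x hx hall => hnd x hx.1 fun y hy => by
          have hxv : B x v = 0 := by rw [hsymm]; exact LinearMap.mem_ker.1 hx.2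
          have h1 := hall _ (hdec y hy)
          rw [map_sub, map_smul, hxv, smul_zero, sub_zero] at h1
          exact h1) (fun hk => by
            obtain ⟨u, hu1, hu2, hu3⟩ := hu hk
            exact ⟨u, ⟨hu1, LinearMap.mem_ker.2 hu2⟩, hu3⟩)
        have hvf : ∀ j, B v (f j) = 0 := fun j => LinearMap.mem_ker.1 (hf j).2
        refine ⟨Fin.cons v f, Fin.cases hv (fun i => (hf i).1), fun i j => ?_⟩
        refine Fin.cases ?_ (fun i => ?_) i <;> refine Fin.cases ?_ (fun j => ?_) j
        · simp [hvv]
        · simp [hvf j, (Fin.succ_ne_zero j).symm]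
        · simp [hsymm (f i) v, hvf i, Fin.succ_ne_zero i]
        · simp [hfo i j]
      obtain ⟨v₀, hv₀, hv₀ne⟩ := hna (Nat.succ_pos k)
      obtain ⟨r, hr⟩ := hsqrt (B v₀ v₀)
      have hr0 : r ≠ 0 := fun h0 => hv₀ne (by rw [← hr, h0, mul_zero])
      set v := r⁻¹ • v₀
      have hv : v ∈ W := Submodule.smul_mem _ _ hv₀
      have hvv : B v v = 1 := by
        simp only [v, map_smul, LinearMap.smul_apply, smul_eq_mul, ← hr]
        field_simp
      by_cases hgood : 0 < k → ∃ u ∈ W, B v u = 0 ∧ B u u ≠ 0
      · exact step v hv hvv hgood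
      push Not at hgood
      obtain ⟨hk, halt⟩ := hgood
      -- `v^⊥` is alternating: move `v`
      obtain ⟨w, hw, hvw, hw0⟩ : ∃ w ∈ W, B v w = 0 ∧ w ≠ 0 := by
        by_contra hc
        push Not at hc
        have hle : W ≤ Submodule.span F {v} := fun x hx => by
          have h0 := hc (x - B v x • v) (sub_mem hx (Submodule.smul_mem _ _ hv))
            (by rw [map_sub, (B v).map_smul, hvv, smul_eq_mul, mul_one, sub_self])
          exact Submodule.mem_span_singleton.2 ⟨_, (sub_eq_zero.1 h0).symm⟩
        have h1 := Submodule.finrank_mono hle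
        rw [hWk, finrank_span_singleton (fun h0 => by rw [h0, map_zero] at hvv; exact zero_ne_one hvv)] at h1
        omega
      obtain ⟨y, hy, hwy⟩ : ∃ y ∈ W, B w y ≠ 0 := by
        by_contra hc
        push Not at hc
        exact hw0 (hnd w hw hc)
      have hwv : B w v = 0 := by rw [hsymm]; exact hvw
      set z := (B w y)⁻¹ • (y - B v y • v)
      have hz : z ∈ W := Submodule.smul_mem _ _ (sub_mem hy (Submodule.smul_mem _ _ hv))
      have hvz : B v z = 0 := by simp [z, hvv]
      have hzv : B z v = 0 := by rw [hsymm]; exact hvz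
      have hwz : B w z = 1 := by simp [z, hwv, hwy]
      refine step (v + w) (add_mem hv hw) ?_ fun _ => ⟨v + z, add_mem hv hz, ?_, ?_⟩
      · simp [hvv, hvw, hwv, halt w hw hvw]
      · simp [hvv, hvz, hwv, hwz, CharTwo.add_self_eq_zero]
      · simp [hvv, hvz, hzv, halt z hz hvz]
  obtain ⟨f, -, hf⟩ := key n ⊤ (by rw [finrank_top, hV]) (fun x _ h => hB.1 x fun y => h y Submodule.mem_top)
    (fun _ => let ⟨v, hv⟩ := hna; ⟨v, Submodule.mem_top, hv⟩)
  have hli : LinearIndependent F f := by
    rw [Fintype.linearIndependent_iff]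
    intro g hg i
    have := congrArg (B (f i)) hg
    simpa [map_sum, hf] using this
  exact ⟨basisOfLinearIndependentOfCardEqFinrank' f hli (by rw [Fintype.card_fin, hV]), fun i j => by
    rw [coe_basisOfLinearIndependentOfCardEqFinrank']; exact hf i j⟩

end Cfsg.Agent.S2622
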