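import Cfsg.Statements.S2623
import Cfsg.Agent.Lib.Geometry.FormClass
import Cfsg.Agent.Lib.Geometry.POmegaStd

set_option autoImplicit false
open Cfsg CfsgLib.Geometry

namespace Cfsg.Agent.S2623

/-- Over a finite field of odd order, two quadratic forms on F^n with non-degenerate polar forms are isometric (related by an invertible linear change of variables) if and only if their discriminants (determinants of the Gram matrices of their polar forms) lie in the same square class. -/
theorem result {F : Type*} [Field F] [Fintype F] (h2 : (2 : F) ≠ 0) {n : ℕ} (Q₁ Q₂ : QuadraticForm F (Fin n → F)) (h₁ : (QuadraticMap.polarBilin Q₁).Nondegenerate) (h₂ : (QuadraticMap.polarBilin Q₂).Nondegenerate) : (∃ g : (Fin n → F) ≃ₗ[F] (Fin n → F), ∀ v, Q₂ (g v) = Q₁ v) ↔ IsSquare ((Matrix.of (fun i j : Fin n => QuadraticMap.polar ⇑Q₁ (Pi.single i 1) (Pi.single j 1))).det * (Matrix.of (fun i j : Fin n => QuadraticMap.polar ⇑Q₂ (Pi.single i 1) (Pi.single j 1))).det) := by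
  constructor
  · rintro ⟨g, hg⟩
    have e : (Matrix.of fun i j : Fin n => QuadraticMap.polar ⇑Q₁ (Pi.single i 1) (Pi.single j 1)) =
        Matrix.of fun i j => QuadraticMap.polar ⇑Q₂ ((Pi.basisFun F (Fin n)).map g i)
          ((Pi.basisFun F (Fin n)).map g j) := by
      ext i j
      simp [QuadraticMap.polar, ← map_add, hg]
    obtain ⟨t, -, et⟩ := det_polar_change Q₂ (Pi.basisFun F (Fin n)) ((Pi.basisFun F (Fin n)).map g)
    rw [e, et]
    simp only [Pi.basisFun_apply]
    exact ⟨t * (Matrix.of fun i j : Fin n => QuadraticMap.polar ⇑Q₂ (Pi.single i 1) (Pi.single j 1)).det,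
      by ring⟩
  · intro h
    exact exists_isometry_of_disc h2 Q₂ h₁ h₂ rfl (Pi.basisFun F _) (Pi.basisFun F _) (by simpa using h)

end Cfsg.Agent.S2623
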