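import Cfsg.Statements.S2624
import Cfsg.Agent.Lib.Geometry.FormClass
import Cfsg.Agent.Lib.Geometry.POmegaStd

set_option autoImplicit false
open Cfsg CfsgLib.Geometry

namespace Cfsg.Agent.S2624

/-- For a quadratic form Q on F^n with non-degenerate polar form, F finite and n ≥ 2 even, every non-zero scalar c is the multiplier of some similarity: there is an invertible linear map g with Q(g v) = c·Q(v) for all v. -/
theorem result {F : Type*} [Field F] [Fintype F] {n : ℕ} (hn : 2 ≤ n) (he : Even n) (Q : QuadraticForm F (Fin n → F)) (hQ : (QuadraticMap.polarBilin Q).Nondegenerate) (c : F) (hc : c ≠ 0) : ∃ g : (Fin n → F) ≃ₗ[F] (Fin n → F), ∀ v, Q (g v) = c * Q v := by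
  by_cases h2 : (2 : F) = 0
  · haveI := CharTwo.of_one_ne_zero_of_two_eq_zero (one_ne_zero (α := F)) h2
    obtain ⟨t, ht⟩ := FiniteField.isSquare_of_char_two (ringChar.eq F 2) c
    have ht0 : t ≠ 0 := fun h => hc (by rw [ht, h, mul_zero])
    exact ⟨LinearEquiv.smulOfUnit (Units.mk0 t ht0), fun v => by
      rw [show LinearEquiv.smulOfUnit (Units.mk0 t ht0) v = t • v from rfl, map_smul', ← ht]⟩
  have hp : ∀ u v, QuadraticMap.polar ⇑(c • Q) u v = c * QuadraticMap.polar ⇑Q u v := fun u v => by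
    simp [QuadraticMap.polar]; ring
  have hQc : (QuadraticMap.polarBilin (c • Q)).Nondegenerate := by
    have hl : ∀ x, (∀ y, QuadraticMap.polar ⇑(c • Q) x y = 0) → x = 0 := fun x hx =>
      hQ.1 x fun y => (mul_eq_zero.1 ((hp x y).symm.trans (hx y))).resolve_left hc
    exact ⟨fun x hx => hl x hx, fun y hy => hl y fun x => by
      rw [QuadraticMap.polar_comm]; exact hy x⟩
  obtain ⟨g, hg⟩ := exists_isometry_of_disc h2 Q hQc hQ rfl (Pi.basisFun F _) (Pi.basisFun F _) (by
    have e : (Matrix.of fun i j : Fin n => QuadraticMap.polar ⇑(c • Q) (Pi.basisFun F _ i)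
        (Pi.basisFun F _ j)) = c • Matrix.of fun i j : Fin n => QuadraticMap.polar ⇑Q
        (Pi.basisFun F _ i) (Pi.basisFun F _ j) := by
      ext i j; exact hp _ _
    rw [e, Matrix.det_smul, Fintype.card_fin]
    obtain ⟨k, rfl⟩ := he
    exact ⟨c ^ k * (Matrix.of fun i j : Fin (k + k) => QuadraticMap.polar ⇑Q (Pi.basisFun F _ i)
        (Pi.basisFun F _ j)).det, by ring⟩)
  exact ⟨g, fun v => (hg v).trans (by simp)⟩

end Cfsg.Agent.S2624
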