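import Cfsg.Statements.S2625
import Cfsg.Agent.Lib.Geometry.FormClass
import Cfsg.Agent.Lib.Geometry.POmegaStd

set_option autoImplicit false
open Cfsg CfsgLib.Geometry

namespace Cfsg.Agent.S2625

/-- For a quadratic form Q on F^n with non-degenerate polar form, F finite and n odd (so |F| is odd), the multiplier of any similarity is a square: if g is an invertible linear map with Q(g v) = c·Q(v) for all v then c is a square. -/
theorem result {F : Type*} [Field F] [Fintype F] {n : ℕ} (hn : Odd n) (Q : QuadraticForm F (Fin n → F)) (hQ : (QuadraticMap.polarBilin Q).Nondegenerate) (g : (Fin n → F) ≃ₗ[F] (Fin n → F)) (c : F) (hg : ∀ v, Q (g v) = c * Q v) : IsSquare c := by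
  by_cases h2 : (2 : F) = 0
  · haveI := CharTwo.of_one_ne_zero_of_two_eq_zero (one_ne_zero (α := F)) h2
    exact FiniteField.isSquare_of_char_two (ringChar.eq F 2) c
  have e : (Matrix.of fun i j : Fin n => QuadraticMap.polar ⇑Q ((Pi.basisFun F (Fin n)).map g i)
      ((Pi.basisFun F (Fin n)).map g j)) = c • Matrix.of fun i j : Fin n =>
        QuadraticMap.polar ⇑Q (Pi.basisFun F _ i) (Pi.basisFun F _ j) := by
    ext i j
    simp [QuadraticMap.polar, ← map_add, hg]
    ring
  obtain ⟨t, ht, et⟩ := det_polar_change Q (Pi.basisFun F (Fin n)) ((Pi.basisFun F (Fin n)).map g)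
  have hd : (Matrix.of fun i j : Fin n =>
      QuadraticMap.polar ⇑Q (Pi.basisFun F _ i) (Pi.basisFun F _ j)).det ≠ 0 := by
    have := LinearMap.BilinForm.nondegenerate_iff_det_ne_zero (B := QuadraticMap.polarBilin Q)
      (Pi.basisFun F (Fin n))
    have h' := this.1 hQ
    convert h' using 2
    ext i j
    simp [LinearMap.BilinForm.toMatrix_apply]
  rw [e, Matrix.det_smul, Fintype.card_fin] at et
  obtain ⟨k, rfl⟩ := hn
  have hc : c ^ (2 * k + 1) = t * t := mul_right_cancel₀ hd et
  refine ⟨t / c ^ k, ?_⟩
  have hck : c ^ k ≠ 0 := by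
    intro h0
    rw [pow_succ, two_mul, pow_add, h0] at hc
    exact mul_ne_zero ht ht (by linear_combination -hc)
  field_simp
  linear_combination hc

end Cfsg.Agent.S2625
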