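import Cfsg.Statements.S2627
import Cfsg.Agent.Lib.Geometry.OmegaTrans

set_option autoImplicit false
open Cfsg CfsgLib.Geometry

namespace Cfsg.Agent.S2627

/-- For an orthogonal direct sum Q = Q₁ ⊕ Q₂ of quadratic forms with non-degenerate polar forms over a finite field, an isometry g₁ of Q₁ extended by the identity on the second summand lies in Ω(Q) (the commutator subgroup of the orthogonal group of Q) if and only if g₁ lies in Ω(Q₁). (Excluded: the field of two elements when the first summand or the whole space has dimension 4, where the commutator subgroup of O⁺₄(2) is smaller than the group usually called Ω.) -/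
theorem result {F : Type*} [Field F] [Fintype F] {k l : ℕ} (h : Fintype.card F ≠ 2 ∨ (k ≠ 4 ∧ k + l ≠ 4)) (Q₁ : QuadraticForm F (Fin k → F)) (Q₂ : QuadraticForm F (Fin l → F)) (h₁ : (QuadraticMap.polarBilin Q₁).Nondegenerate) (h₂ : (QuadraticMap.polarBilin Q₂).Nondegenerate) (g₁ : ↥(Cfsg.isometryGroup F ⇑Q₁)) : (∃ g : ↥(Cfsg.isometryGroup F (fun v : Fin k ⊕ Fin l → F => Q₁ (v ∘ Sum.inl) + Q₂ (v ∘ Sum.inr))), g ∈ Cfsg.Omega F (fun v : Fin k ⊕ Fin l → F => Q₁ (v ∘ Sum.inl) + Q₂ (v ∘ Sum.inr)) ∧ ((g : Matrix.GeneralLinearGroup (Fin k ⊕ Fin l) F) : Matrix (Fin k ⊕ Fin l) (Fin k ⊕ Fin l) F) = Matrix.fromBlocks ((g₁ : Matrix.GeneralLinearGroup (Fin k) F) : Matrix (Fin k) (Fin k) F) 0 0 1) ↔ g₁ ∈ Cfsg.Omega F ⇑Q₁ := by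
  rw [← coe_sumForm]
  have hQ := nondegenerate_sumForm h₁ h₂
  have hR₁ := reflGroup_eq_orth h₁ (by
    simpa using exists_ne_zero_one_or (h.imp_right And.left))
  have hR := reflGroup_eq_orth hQ (by
    simpa using exists_ne_zero_one_or (n := k + l) (h.imp_right And.right))
  set g₀ := (isomEquiv (sumForm Q₁ Q₂)).symm (sumHom Q₁ Q₂ (isomEquiv Q₁ g₁, 1))
  have hmat := fromBlocks_eq_sumHom Q₁ Q₂ (isomEquiv Q₁ g₁) 1
    (A := ((g₁ : Matrix.GeneralLinearGroup (Fin k) F) : Matrix (Fin k) (Fin k) F)) (B := 1)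
    (fun v => rfl) (fun v => by simp)
  have hmem : g₀ ∈ Cfsg.Omega F ⇑(sumForm Q₁ Q₂) ↔ g₁ ∈ Cfsg.Omega F ⇑Q₁ := by
    rw [mem_Omega_iff_invariant hQ hR, mem_Omega_iff_invariant h₁ hR₁, MulEquiv.apply_symm_apply,
      orthInvariant_sumHom_inl h₁ hR₁]
  constructor
  · rintro ⟨g, hg, e⟩
    have : g = g₀ := Subtype.ext (Units.ext (e.trans hmat.symm))
    exact hmem.1 (this ▸ hg)
  · exact fun hg => ⟨g₀, hmem.2 hg, hmat⟩

end Cfsg.Agent.S2627
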