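import Cfsg.Statements.S2628
import Cfsg.Agent.Lib.Geometry.OmegaTrans

set_option autoImplicit false
open Cfsg CfsgLib.Geometry

namespace Cfsg.Agent.S2628

/-- For the orthogonal direct sum Q ⊕ Q of two copies of a quadratic form Q with non-degenerate polar form on F^k (F finite), every isometry g of Q acting diagonally, diag(g, g), lies in Ω(Q ⊕ Q), the commutator subgroup of the orthogonal group of Q ⊕ Q. (Excluded: k = 2 over the field of two elements, where Q ⊕ Q is the hyperbolic 4-space whose orthogonal group's commutator subgroup is smaller than the group usually called Ω.) -/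
theorem result {F : Type*} [Field F] [Fintype F] {k : ℕ} (h : Fintype.card F ≠ 2 ∨ k ≠ 2) (Q : QuadraticForm F (Fin k → F)) (hQ : (QuadraticMap.polarBilin Q).Nondegenerate) (g : ↥(Cfsg.isometryGroup F ⇑Q)) : ∃ x : ↥(Cfsg.isometryGroup F (fun v : Fin k ⊕ Fin k → F => Q (v ∘ Sum.inl) + Q (v ∘ Sum.inr))), x ∈ Cfsg.Omega F (fun v : Fin k ⊕ Fin k → F => Q (v ∘ Sum.inl) + Q (v ∘ Sum.inr)) ∧ ((x : Matrix.GeneralLinearGroup (Fin k ⊕ Fin k) F) : Matrix (Fin k ⊕ Fin k) (Fin k ⊕ Fin k) F) = Matrix.fromBlocks ((g : Matrix.GeneralLinearGroup (Fin k) F) : Matrix (Fin k) (Fin k) F) 0 0 ((g : Matrix.GeneralLinearGroup (Fin k) F) : Matrix (Fin k) (Fin k) F) := by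
  rw [← coe_sumForm]
  have hQQ := nondegenerate_sumForm hQ hQ
  have hR := reflGroup_eq_orth hQQ (by
    simpa using exists_ne_zero_one_or (n := k + k) (h.imp_right fun hk => by omega))
  refine ⟨(isomEquiv (sumForm Q Q)).symm (sumHom Q Q (isomEquiv Q g, isomEquiv Q g)), ?_,
    fromBlocks_eq_sumHom Q Q _ _ (fun v => rfl) (fun v => rfl)⟩
  rw [mem_Omega_iff_invariant hQQ hR, MulEquiv.apply_symm_apply]
  set x := isomEquiv Q g
  let s : orth (sumForm Q Q) := ⟨LinearEquiv.funCongrLeft F F (Equiv.sumComm (Fin k) (Fin k)), fun v => by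
    show Q _ + Q _ = Q _ + Q _
    exact add_comm _ _⟩
  have e : sumHom Q Q (1, x) = s * sumHom Q Q (x, 1) * s := by
    refine Subtype.ext (LinearEquiv.ext fun v => funext fun i => ?_)
    cases i <;> rfl
  have hs : s * s = 1 := Subtype.ext (LinearEquiv.ext fun v => funext fun i => by cases i <;> rfl)
  rw [show ((x, x) : orth Q × orth Q) = (x, 1) * (1, x) by simp, map_mul, e, map_mul, map_mul, map_mul]
  generalize orthInvariant hQQ hR (sumHom Q Q (x, 1)) = a
  have h1 : orthInvariant hQQ hR s * orthInvariant hQQ hR s = 1 := by rw [← map_mul, hs, map_one]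
  have h2 : a * a = 1 := Prod.ext (sqClass_mul_self a.1)
    ((by decide : ∀ d : Multiplicative (ZMod 2), d * d = 1) a.2)
  rw [mul_comm (orthInvariant hQQ hR s) a, mul_assoc, h1, mul_one, h2]

end Cfsg.Agent.S2628
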