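import Cfsg.Statements.S2629
import Cfsg.Agent.Lib.Geometry.OmegaTrans

set_option autoImplicit false
open Cfsg CfsgLib.Geometry

namespace Cfsg.Agent.S2629

/-- For the hyperbolic form Σ x_i y_i on F^(2m) over a finite field of odd order (m ≥ 1), an isometry g preserves the class of the maximal totally singular subspace U₀ = {y = 0} (that is, m − dim(U₀ ∩ gU₀) is even) if and only if det g = 1: the stabiliser of each of the two classes of maximal totally singular subspaces is SO. -/
theorem result {F : Type*} [Field F] [Fintype F] (h2 : (2 : F) ≠ 0) {m : ℕ} (hm : 1 ≤ m) (g : ↥(Cfsg.isometryGroup F (Cfsg.quadFormPlus m F))) : Even (m - Module.finrank F ↥(LinearMap.ker (LinearMap.funLeft F F (Sum.inr : Fin m → Fin m ⊕ Fin m)) ⊓ (LinearMap.ker (LinearMap.funLeft F F (Sum.inr : Fin m → Fin m ⊕ Fin m))).map (Matrix.mulVecLin ((g : Matrix.GeneralLinearGroup (Fin m ⊕ Fin m) F) : Matrix (Fin m ⊕ Fin m) (Fin m ⊕ Fin m) F)))) ↔ ((g : Matrix.GeneralLinearGroup (Fin m ⊕ Fin m) F) : Matrix (Fin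 m ⊕ Fin m) (Fin m ⊕ Fin m) F).det = 1 := by
  revert g
  rw [← coe_matQuad_plus]
  intro g
  have hQ := nondegenerate_plus (F := F) m
  have hV : Module.finrank F (Fin m ⊕ Fin m → F) = 2 * m := by simp; omega
  have hR := reflGroup_eq_orth_of_two_ne hQ h2
  have e : (LinearMap.ker (LinearMap.funLeft F F (Sum.inr : Fin m → Fin m ⊕ Fin m))).map
      (Matrix.mulVecLin ((g : Matrix.GeneralLinearGroup (Fin m ⊕ Fin m) F) : Matrix (Fin m ⊕ Fin m) (Fin m ⊕ Fin m) F)) =
      (LinearMap.ker (LinearMap.funLeft F F (Sum.inr : Fin m → Fin m ⊕ Fin m))).map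
      (isomEquiv (matQuad (plusMat m F)) g : (Fin m ⊕ Fin m → F) ≃ₗ[F] (Fin m ⊕ Fin m → F)).toLinearMap := by
    congr 1
  rw [e, maxSing_class_iff hQ hR hV (isMaxSing_ker_inr m)]
  have hS := closure_matRefls (matQuad (plusMat m F)) hR
  have k1 := ker_eq_closure_pairs _ hS (matRefls_involutive _) (detHom ⇑(matQuad (plusMat m F))) (-1)
    (fun h => h2 (by
      have := congrArg Units.val h
      simp only [Units.val_neg, Units.val_one] at this
      linear_combination (-1 : F) * this)) (detHom_refl _)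
  have k2 := ker_eq_closure_pairs _ hS (matRefls_involutive _)
    ((dicksonHom hQ hR).comp (isomEquiv (matQuad (plusMat m F))).toMonoidHom)
    (Multiplicative.ofAdd (1 : ZMod 2)) (by decide) (fun s ⟨v, hv, hs⟩ => by
      show dicksonHom hQ hR (isomEquiv _ s) = _
      rw [show isomEquiv _ s = oRefl _ v hv from Subtype.ext ((isomEquiv_eq_refl_iff _ s v hv).1 hs)]
      exact dicksonHom_refl hQ hR hv)
  have key := SetLike.ext_iff.1 (k2.trans k1.symm) g
  rw [MonoidHom.mem_ker, MonoidHom.mem_ker] at key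
  refine key.trans ?_
  rw [Units.ext_iff]
  rfl

end Cfsg.Agent.S2629
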