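import Cfsg.Statements.S2631
import Cfsg.Agent.Lib.Geometry.OmegaTrans

set_option autoImplicit false
open Cfsg CfsgLib.Geometry

namespace Cfsg.Agent.S2631

/-- For the hyperbolic form Σ x_i y_i on F^(2m) over a finite field (m ≥ 1, excluding m = 2 over the field of two elements), Ω (the commutator subgroup of the orthogonal group) acts transitively on each of the two classes of maximal totally singular subspaces: if U and W are m-dimensional totally singular subspaces with m − dim(U ∩ W) even, some element of Ω carries U to W. -/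
theorem result {F : Type*} [Field F] [Fintype F] {m : ℕ} (hm : 1 ≤ m) (h : Fintype.card F ≠ 2 ∨ m ≠ 2) (U W : Submodule F (Fin m ⊕ Fin m → F)) (hU : Module.finrank F U = m) (hW : Module.finrank F W = m) (hU0 : ∀ u ∈ U, Cfsg.quadFormPlus m F u = 0) (hW0 : ∀ w ∈ W, Cfsg.quadFormPlus m F w = 0) (he : Even (m - Module.finrank F ↥(U ⊓ W))) : ∃ g : ↥(Cfsg.isometryGroup F (Cfsg.quadFormPlus m F)), g ∈ Cfsg.Omega F (Cfsg.quadFormPlus m F) ∧ U.map (Matrix.mulVecLin ((g : Matrix.GeneralLinearGroup (Fin m ⊕ Fin m) F) : Matrix (Fin m ⊕ Fin m) (Fin m ⊕ Fin m) F)) = W := by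
  rw [← coe_matQuad_plus] at hU0 hW0 ⊢
  have hQ := nondegenerate_plus (F := F) m
  have hV : Module.finrank F (Fin m ⊕ Fin m → F) = 2 * m := by simp; omega
  have hR := reflGroup_eq_orth hQ ((exists_ne_zero_one_or (n := 2 * m)
    (h.imp_right fun hm2 => by omega)).imp_left fun hne => by rw [hV]; exact hne)
  have e : U ≃ₗ[F] W := LinearEquiv.ofFinrankEq U W (hU.trans hW.symm)
  obtain ⟨g, hg, hgU⟩ := quad_witt hQ U (W.subtype.comp e.toLinearMap)
    (W.injective_subtype.comp e.injective) (fun u => (hW0 _ (e u).2).trans (hU0 _ u.2).symm)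
  have hmap : U.map g.toLinearMap = W := by
    ext w
    constructor
    · rintro ⟨u, hu, rfl⟩
      rw [LinearEquiv.coe_coe, hgU ⟨u, hu⟩]
      exact (e ⟨u, hu⟩).2
    · intro hw
      exact ⟨_, (e.symm ⟨w, hw⟩).2, by rw [LinearEquiv.coe_coe, hgU]; simp⟩
  have hd : dicksonHom hQ hR ⟨g, hg⟩ = 1 := by
    rw [← maxSing_class_iff hQ hR hV ⟨hU, hU0⟩]
    exact hmap.symm ▸ he
  have hWne : W ≠ ⊥ := fun h0 => by rw [h0, finrank_bot] at hW; omega
  obtain ⟨x, hxW, hxe⟩ := singular_stab_scale hQ hR hWne hW0 ((orthInvariant hQ hR ⟨g, hg⟩).1)⁻¹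
  refine ⟨(isomEquiv _).symm (x * ⟨g, hg⟩), ?_, ?_⟩
  · rw [mem_Omega_iff_invariant hQ hR, MulEquiv.apply_symm_apply, map_mul, hxe]
    exact Prod.ext (inv_mul_cancel _) (by
      show 1 * dicksonHom hQ hR ⟨g, hg⟩ = 1
      rw [hd, one_mul])
  · refine Eq.trans ?_ ((congrArg (Submodule.map (x : (Fin m ⊕ Fin m → F) ≃ₗ[F] (Fin m ⊕ Fin m → F)).toLinearMap) hmap).trans
      (map_eq_of_mem_orthStab hxW))
    rw [← Submodule.map_comp]
    congr 1
    exact LinearMap.ext fun v => isomEquiv_symm_mulVec _ _ v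

end Cfsg.Agent.S2631
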