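import Cfsg.Statements.S2632
import Cfsg.Agent.Lib.Geometry.OmegaTrans

set_option autoImplicit false
open Cfsg CfsgLib.Geometry

namespace Cfsg.Agent.S2632

/-- Ω is transitive on non-degenerate subspaces of each isometry type: for a quadratic form Q on F^n, n ≥ 3, with non-degenerate polar form (F finite; excluding dimension 4 over the field of two elements), if U and W are subspaces on which the polar form is non-degenerate and there is a Q-preserving linear isomorphism U → W, then some element of Ω (the commutator subgroup of the orthogonal group) carries U to W. (In dimension 2 this fails: Ω can be {±1}, which fixes every line.) -/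
theorem result {F : Type*} [Field F] [Fintype F] {n : ℕ} (hn : 3 ≤ n) (h : Fintype.card F ≠ 2 ∨ n ≠ 4) (Q : QuadraticForm F (Fin n → F)) (hQ : (QuadraticMap.polarBilin Q).Nondegenerate) (U W : Submodule F (Fin n → F)) (hU : U ⊓ LinearMap.BilinForm.orthogonal (QuadraticMap.polarBilin Q) U = ⊥) (hW : W ⊓ LinearMap.BilinForm.orthogonal (QuadraticMap.polarBilin Q) W = ⊥) (e : U ≃ₗ[F] W) (he : ∀ u : U, Q (e u : Fin n → F) = Q (u : Fin n → F)) : ∃ g : ↥(Cfsg.isometryGroup F ⇑Q), g ∈ Cfsg.Omega F ⇑Q ∧ U.map (Matrix.mulVecLin ((g : Matrix.GeneralLinearGroup (Fin n) F) : Matrix (Fin n) (Fin n) F)) = W := by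
  have hR := reflGroup_eq_orth hQ (by simpa using exists_ne_zero_one_or h)
  obtain ⟨g, hg, hgU⟩ := quad_witt hQ U (W.subtype.comp e.toLinearMap)
    (W.injective_subtype.comp e.injective) (fun u => he u)
  have hmap : U.map g.toLinearMap = W := by
    ext w
    constructor
    · rintro ⟨u, hu, rfl⟩
      rw [LinearEquiv.coe_coe, hgU ⟨u, hu⟩]
      exact (e ⟨u, hu⟩).2
    · intro hw
      exact ⟨_, (e.symm ⟨w, hw⟩).2, by rw [LinearEquiv.coe_coe, hgU]; simp⟩
  obtain ⟨x, hx, hxW⟩ := exists_omega_map_eq hQ hR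
    (orthStab_map_top hQ hR (by simpa using hn) hW) (g := ⟨g, hg⟩) hmap
  refine ⟨(isomEquiv Q).symm x, by rwa [mem_Omega_iff_commutator, MulEquiv.apply_symm_apply], ?_⟩
  refine Eq.trans ?_ hxW
  congr 1
  exact LinearMap.ext fun v => isomEquiv_symm_mulVec Q x v

end Cfsg.Agent.S2632
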