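import Cfsg.Statements.S2633
import Cfsg.Agent.Lib.Geometry.OmegaTrans

set_option autoImplicit false
open Cfsg CfsgLib.Geometry

namespace Cfsg.Agent.S2633

/-- Ω is transitive on totally singular subspaces of each dimension less than half the dimension: for a quadratic form Q on F^n with non-degenerate polar form (F finite; excluding dimension 4 over the field of two elements), if U and W are subspaces of the same dimension k with 2k < n on which Q vanishes, then some element of Ω (the commutator subgroup of the orthogonal group) carries U to W. -/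
theorem result {F : Type*} [Field F] [Fintype F] {n : ℕ} (h : Fintype.card F ≠ 2 ∨ n ≠ 4) (Q : QuadraticForm F (Fin n → F)) (hQ : (QuadraticMap.polarBilin Q).Nondegenerate) (U W : Submodule F (Fin n → F)) {k : ℕ} (hk : 2 * k < n) (hU : Module.finrank F U = k) (hW : Module.finrank F W = k) (hU0 : ∀ u ∈ U, Q u = 0) (hW0 : ∀ w ∈ W, Q w = 0) : ∃ g : ↥(Cfsg.isometryGroup F ⇑Q), g ∈ Cfsg.Omega F ⇑Q ∧ U.map (Matrix.mulVecLin ((g : Matrix.GeneralLinearGroup (Fin n) F) : Matrix (Fin n) (Fin n) F)) = W := by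
  rcases Nat.eq_zero_or_pos k with rfl | hk0
  · refine ⟨1, one_mem _, ?_⟩
    rw [Submodule.finrank_eq_zero.1 hU, Submodule.finrank_eq_zero.1 hW, Submodule.map_bot]
  have hR := reflGroup_eq_orth hQ (by simpa using exists_ne_zero_one_or h)
  have e : U ≃ₗ[F] W := LinearEquiv.ofFinrankEq U W (hU.trans hW.symm)
  obtain ⟨g, hg, hgU⟩ := quad_witt hQ U (W.subtype.comp e.toLinearMap)
    (W.injective_subtype.comp e.injective) (fun u => (hW0 _ (e u).2).trans (hU0 _ u.2).symm)
  have hmap : U.map g.toLinearMap = W := by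
    ext w
    constructor
    · rintro ⟨u, hu, rfl⟩
      rw [LinearEquiv.coe_coe, hgU ⟨u, hu⟩]
      exact (e ⟨u, hu⟩).2
    · intro hw
      exact ⟨_, (e.symm ⟨w, hw⟩).2, by rw [LinearEquiv.coe_coe, hgU]; simp⟩
  have hWne : W ≠ ⊥ := fun h0 => by rw [h0, finrank_bot] at hW; omega
  obtain ⟨x, hx, hxW⟩ := exists_omega_map_eq hQ hR
    (singular_stab_map_top hQ hR hWne hW0 (by simp [hW]; omega)) (g := ⟨g, hg⟩) hmap
  refine ⟨(isomEquiv Q).symm x, by rwa [mem_Omega_iff_commutator, MulEquiv.apply_symm_apply], ?_⟩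
  refine Eq.trans ?_ hxW
  congr 1
  exact LinearMap.ext fun v => isomEquiv_symm_mulVec Q x v

end Cfsg.Agent.S2633
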