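import Cfsg.Statements.S2634
import Cfsg.Agent.Lib.Geometry.OmegaTrans

set_option autoImplicit false
open Cfsg CfsgLib.Geometry

namespace Cfsg.Agent.S2634

/-- Over a finite field of characteristic two, Ω (the commutator subgroup of the orthogonal group of a quadratic form Q on F^n with non-degenerate polar form; excluding dimension 4 over the field of two elements) acts transitively on the non-singular 1-spaces: for u, v with Q(u) ≠ 0 and Q(v) ≠ 0 some element of Ω carries the line through u to the line through v. -/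
theorem result {F : Type*} [Field F] [Fintype F] [CharP F 2] {n : ℕ} (h : Fintype.card F ≠ 2 ∨ n ≠ 4) (Q : QuadraticForm F (Fin n → F)) (hQ : (QuadraticMap.polarBilin Q).Nondegenerate) (u v : Fin n → F) (hu : Q u ≠ 0) (hv : Q v ≠ 0) : ∃ g : ↥(Cfsg.isometryGroup F ⇑Q), g ∈ Cfsg.Omega F ⇑Q ∧ (F ∙ ((g : Matrix.GeneralLinearGroup (Fin n) F) : Matrix (Fin n) (Fin n) F).mulVec u) = F ∙ v := by
  have hR := reflGroup_eq_orth hQ (by simpa using exists_ne_zero_one_or h)
  obtain ⟨t, ht⟩ := FiniteField.isSquare_of_char_two (ringChar.eq F 2) (Q u / Q v)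
  have ht0 : t ≠ 0 := fun h0 => by rw [h0, mul_zero] at ht; exact div_ne_zero hu hv ht
  have hv' : Q (t • v) = Q u := by rw [map_smul', ← ht, div_mul_cancel₀ _ hv]
  have hu0 : u ≠ 0 := fun h0 => hu (by rw [h0, QuadraticMap.map_zero])
  have hv0 : v ≠ 0 := fun h0 => hv (by rw [h0, QuadraticMap.map_zero])
  obtain ⟨g, hg, hgu⟩ := quad_extend hQ ![u] ![t • v]
    (linearIndependent_unique_iff.2 (by simpa using hu0)) (linearIndependent_unique_iff.2 (by simpa using smul_ne_zero ht0 hv0))
    (fun i => by simp [Matrix.cons_val_fin_one, hv'])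
    (fun i j => by simp [Matrix.cons_val_fin_one, polar_self', hv'])
  have hgu' : g u = t • v := by simpa using hgu 0
  have hsmul : ∀ c : F, c ≠ 0 → F ∙ (c • v) = F ∙ v := fun c hc =>
    Submodule.span_singleton_smul_eq (IsUnit.mk0 c hc) v
  by_cases hgc : orthInvariant hQ hR ⟨g, hg⟩ = 1
  · refine ⟨(isomEquiv Q).symm ⟨g, hg⟩, ?_, ?_⟩
    · rw [mem_Omega_iff_invariant hQ hR, MulEquiv.apply_symm_apply, hgc]
    · rw [isomEquiv_symm_mulVec, hgu', hsmul t ht0]
  · refine ⟨(isomEquiv Q).symm (oRefl Q v hv * ⟨g, hg⟩), ?_, ?_⟩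
    · rw [mem_Omega_iff_invariant hQ hR, MulEquiv.apply_symm_apply, map_mul, orthInvariant_oRefl]
      have h2 : (2 : F) = 0 := CharTwo.two_eq_zero
      refine Prod.ext (sqClass_eq_one_of_two h2 _) ?_
      have hd : (orthInvariant hQ hR ⟨g, hg⟩).2 ≠ 1 := fun h0 =>
        hgc (Prod.ext (sqClass_eq_one_of_two h2 _) h0)
      exact (by decide : ∀ d : Multiplicative (ZMod 2), d ≠ 1 → Multiplicative.ofAdd 1 * d = 1) _ hd
    · rw [isomEquiv_symm_mulVec]
      show F ∙ (refl Q v hv (g u)) = F ∙ v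
      rw [hgu', map_smul, refl_self, smul_neg, ← neg_smul, hsmul _ (neg_ne_zero.2 ht0)]

end Cfsg.Agent.S2634
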