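import Cfsg.Statements.S2635
import Cfsg.Agent.Lib.Geometry.OmegaTrans

set_option autoImplicit false
open Cfsg CfsgLib.Geometry

namespace Cfsg.Agent.S2635

/-- Over a finite field of characteristic two, for a quadratic form Q on F^n with non-degenerate polar form, n ≥ 2, other than dimension 4 over the field of two elements, Ω (the commutator subgroup of the orthogonal group) is exactly the subgroup generated by the products of two reflections (orthogonal transvections) x ↦ x − Q(v)⁻¹ f(x, v) v, Q(v) ≠ 0: the products of an even number of reflections. -/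
theorem result {F : Type*} [Field F] [Fintype F] [CharP F 2] {n : ℕ} (hn : 2 ≤ n) (h : Fintype.card F ≠ 2 ∨ n ≠ 4) (Q : QuadraticForm F (Fin n → F)) (hQ : (QuadraticMap.polarBilin Q).Nondegenerate) : Cfsg.Omega F ⇑Q = Subgroup.closure {g : ↥(Cfsg.isometryGroup F ⇑Q) | ∃ u v : Fin n → F, Q u ≠ 0 ∧ Q v ≠ 0 ∧ ((g : Matrix.GeneralLinearGroup (Fin n) F) : Matrix (Fin n) (Fin n) F) = Cfsg.reflectionMatrix ⇑Q u * Cfsg.reflectionMatrix ⇑Q v} := by
  have hR := reflGroup_eq_orth hQ (by simpa using exists_ne_zero_one_or h)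
  have hker : Cfsg.Omega F ⇑Q = ((dicksonHom hQ hR).comp (isomEquiv Q).toMonoidHom).ker := by
    ext g
    rw [mem_Omega_iff_invariant hQ hR, MonoidHom.mem_ker]
    exact ⟨fun h0 => congrArg Prod.snd h0,
      fun h0 => Prod.ext (sqClass_eq_one_of_two CharTwo.two_eq_zero _) h0⟩
  rw [hker, ker_eq_closure_pairs (matRefls Q) (closure_matRefls Q hR) (matRefls_involutive Q) _
    (Multiplicative.ofAdd (1 : ZMod 2)) (by decide) (fun s ⟨v, hv, hs⟩ => by
      show dicksonHom hQ hR (isomEquiv Q s) = _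
      rw [show isomEquiv Q s = oRefl Q v hv from Subtype.ext ((isomEquiv_eq_refl_iff Q s v hv).1 hs)]
      exact dicksonHom_refl hQ hR hv)]
  congr 1
  ext g
  constructor
  · rintro ⟨s, ⟨u, hu, hs⟩, t, ⟨v, hv, ht⟩, rfl⟩
    exact ⟨u, v, hu, hv, by simp [hs, ht]⟩
  · rintro ⟨u, v, hu, hv, hg⟩
    have hm : ∀ w (hw : Q w ≠ 0), ((((isomEquiv Q).symm (oRefl Q w hw)) :
        Matrix.GeneralLinearGroup (Fin n) F) : Matrix (Fin n) (Fin n) F) = Cfsg.reflectionMatrix ⇑Q w :=
      fun w hw => matrix_eq_of_mulVec fun x => by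
        rw [isomEquiv_symm_mulVec, reflectionMatrix_mulVec, oRefl, refl_apply]
    refine ⟨_, ⟨u, hu, hm u hu⟩, _, ⟨v, hv, hm v hv⟩, ?_⟩
    refine Subtype.ext (Units.ext ?_)
    rw [hg, Subgroup.coe_mul, Units.val_mul, hm, hm]

end Cfsg.Agent.S2635
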