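import Cfsg.Statements.S2636
-- import your own Cfsg.Agent.* helpers here
import Cfsg.Agent.Lib.KnownB.PSLAut.Descent
import Cfsg.Agent.Lib.Classical.Order

set_option autoImplicit false
open Cfsg

namespace Cfsg.Agent.S2636

/-- Centraliser of a field automorphism in PGL_n: let F be the field with q = q₀^r elements, σ a field automorphism of F of prime order r (so its fixed field has q₀ elements) and n ≥ 1. The invertible matrices g whose entrywise image under σ is a scalar multiple of g — those whose coset modulo scalars is fixed by σ — number (q − 1)/(q₀ − 1) · |GL_n(q₀)|; equivalently the centraliser in PGL_n(q) of the induced automorphism has the order of PGL_n(q₀). -/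
theorem result {F : Type*} [Field F] [Fintype F] {q₀ r n : ℕ} (hr : r.Prime) (hn : 1 ≤ n) (hF : Fintype.card F = q₀ ^ r) (σ : F ≃+* F) (hσ : orderOf σ = r) : Nat.card {g : GL (Fin n) F // ∃ c : F, c ≠ 0 ∧ (g : Matrix (Fin n) (Fin n) F).map σ = c • (g : Matrix (Fin n) (Fin n) F)} = (q₀ ^ r - 1) / (q₀ - 1) * ∏ i : Fin n, (q₀ ^ n - q₀ ^ (i : ℕ)) := by
  obtain ⟨p, -, f, hp, hcard⟩ := FiniteField.card' F
  haveI : Fact p.Prime := ⟨hp⟩
  obtain ⟨hrf, hι⟩ := CfsgLib.KnownB.Descent.fixed_field.{_, 0} hcard σ hr.pos hσ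
  have hfr : (f : ℕ) / r ≠ 0 := by
    obtain ⟨k, hk⟩ := hrf
    rw [hk, Nat.mul_div_cancel_left _ hr.pos]
    rintro rfl
    exact f.ne_zero (by simpa using hk)
  let _ := Fintype.ofFinite (GaloisField p (f / r))
  obtain ⟨ι, hι⟩ := hι (GaloisField p (f / r)) (by rw [← Nat.card_eq_fintype_card, GaloisField.card p _ hfr])
  have hq₀ : Nat.card (GaloisField p (f / r)) = q₀ := by
    rw [GaloisField.card p _ hfr]
    refine Nat.pow_left_injective hr.ne_zero ?_
    show _ ^ r = q₀ ^ r
    rw [← hF, hcard, ← pow_mul, Nat.div_mul_cancel hrf]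
  haveI : NeZero n := ⟨by omega⟩
  let F₀ := GaloisField p (f / r)
  let μ : Fˣ × GL (Fin n) F₀ →* GL (Fin n) F :=
    MonoidHom.noncommCoprod (Matrix.GeneralLinearGroup.scalar (Fin n)) (Matrix.GeneralLinearGroup.map ι) fun a h =>
      Units.ext (by
        show (_ : Matrix (Fin n) (Fin n) F) * _ = _ * _
        exact (Matrix.scalar_commute (a : F) (fun r => mul_comm _ r) _).eq)
  have hμ : ∀ a h, ((μ (a, h) : GL (Fin n) F) : Matrix (Fin n) (Fin n) F) = (a : F) • (h : Matrix (Fin n) (Fin n) F₀).map ι := by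
    intro a h
    ext i j
    show ((Matrix.GeneralLinearGroup.scalar (Fin n) a * Matrix.GeneralLinearGroup.map ι h : GL (Fin n) F) :
      Matrix (Fin n) (Fin n) F) i j = _
    simp [Matrix.diagonal_mul]
  have hfix : ∀ y, σ (ι y) = ι y := fun y => (hι _).2 ⟨y, rfl⟩
  have hset : ∀ g : GL (Fin n) F, g ∈ μ.range ↔
      ∃ c : F, c ≠ 0 ∧ (g : Matrix (Fin n) (Fin n) F).map σ = c • (g : Matrix (Fin n) (Fin n) F) := by
    intro g
    constructor
    · rintro ⟨⟨a, h⟩, rfl⟩
      refine ⟨σ a / a, div_ne_zero ((map_ne_zero σ).2 a.ne_zero) a.ne_zero, ?_⟩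
      rw [hμ, CfsgLib.KnownB.Descent.map_smul_mat, smul_smul, div_mul_cancel₀ _ a.ne_zero]
      congr 1
      ext i j
      exact hfix _
    · rintro ⟨c, -, hc⟩
      obtain ⟨a, ha0, ha⟩ := CfsgLib.KnownB.Descent.fixed_up_to_scalar hr.pos hσ g.isUnit.ne_zero hc
      choose M hM using fun i j => (hι _).1 (congrFun (congrFun ha i) j)
      have hM' : (Matrix.of M).map ι = a • (g : Matrix (Fin n) (Fin n) F) := by ext i j; exact hM i j
      have hdet : (Matrix.of M).det ≠ 0 := fun h0 => by
        have h1 := congrArg ι h0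
        rw [RingHom.map_det, map_zero, RingHom.mapMatrix_apply, hM', Matrix.det_smul] at h1
        exact (mul_ne_zero (pow_ne_zero _ ha0) (Matrix.GeneralLinearGroup.det g).ne_zero) h1
      refine ⟨((Units.mk0 a ha0)⁻¹, Matrix.GeneralLinearGroup.mkOfDetNeZero _ hdet), Units.ext ?_⟩
      rw [hμ]
      show _ • (Matrix.of M).map ι = _
      rw [hM', smul_smul, Units.val_inv_eq_inv_val, Units.val_mk0, inv_mul_cancel₀ ha0, one_smul]
  rw [Nat.card_congr (Equiv.subtypeEquivRight fun g => (hset g).symm)]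
  have hker : Nat.card μ.ker = q₀ - 1 := by
    rw [← hq₀, ← Nat.card_units]
    refine (Nat.card_congr (Equiv.ofBijective (fun y : F₀ˣ =>
      (⟨((Units.map (ι : F₀ →* F) y)⁻¹, Matrix.GeneralLinearGroup.scalar (Fin n) y), Units.ext (by
        rw [hμ]
        ext i j
        rcases eq_or_ne i j with rfl | hij <;> simp [*])⟩ : μ.ker)) ⟨?_, ?_⟩)).symm
    · intro y z hyz
      have h1 := congrArg Prod.fst (congrArg Subtype.val hyz)
      exact Units.ext (ι.injective (congrArg Units.val (inv_injective h1)))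
    · rintro ⟨⟨a, h⟩, hk⟩
      have h1 : ∀ i j, (a : F) * ι ((h : Matrix (Fin n) (Fin n) F₀) i j) = if i = j then 1 else 0 := by
        intro i j
        have h2 : ((μ (a, h) : GL (Fin n) F) : Matrix (Fin n) (Fin n) F) = 1 := congrArg Units.val hk
        rw [hμ] at h2
        simpa [Matrix.one_apply] using congrFun (congrFun h2 i) j
      have h00 : (h : Matrix (Fin n) (Fin n) F₀) 0 0 ≠ 0 := fun h0 => by simpa [h0] using h1 0 0
      refine ⟨Units.mk0 _ h00, Subtype.ext (Prod.ext ?_ (Units.ext ?_))⟩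
      · refine inv_eq_of_mul_eq_one_left (Units.ext ?_)
        simpa using h1 0 0
      · ext i j
        refine ι.injective (mul_left_cancel₀ a.ne_zero ?_)
        rw [h1 i j]
        rcases eq_or_ne i j with rfl | hij
        · simpa using h1 0 0
        · simp [hij]
  have hc := μ.ker.index_mul_card
  rw [Subgroup.index_ker, hker, Nat.card_prod, Nat.card_units, Nat.card_eq_fintype_card (α := F), hF,
    CfsgLib.Classical.card_GL_fin, hq₀] at hc
  have h2 : 2 ≤ q₀ := by
    rw [← hq₀]
    exact Finite.one_lt_card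
  have hdvd : q₀ - 1 ∣ q₀ ^ r - 1 := Nat.sub_one_dvd_pow_sub_one q₀ r
  obtain ⟨k, hk⟩ := hdvd
  rw [hk, Nat.mul_div_cancel_left _ (by omega)]
  rw [hk, mul_assoc, mul_comm] at hc
  exact Nat.eq_of_mul_eq_mul_left (by omega) hc

end Cfsg.Agent.S2636
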