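import Cfsg.Statements.S2638
-- import your own Cfsg.Agent.* helpers here
import Cfsg.Agent.Lib.KnownB.PrimeOrder

set_option autoImplicit false
open Cfsg

namespace Cfsg.Agent.S2638

/-- If an element x of GL_n(q), n ≥ 1, has prime order r and the multiplicative order of q modulo r is n (r is a primitive prime divisor of q^n − 1, so x acts irreducibly), then the centraliser of x in GL_n(q) is cyclic of order q^n − 1 (the multiplicative group of the field with q^n elements, a Singer cycle). -/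
theorem result {F : Type*} [Field F] [Fintype F] {p q : ℕ} [Fact p.Prime] [CharP F p] (hF : Fintype.card F = q) {n r : ℕ} (hn : 1 ≤ n) (hr : r.Prime) (hrp : r ≠ p) (hi : orderOf (q : ZMod r) = n) (x : GL (Fin n) F) (hx : orderOf x = r) : IsCyclic ↥(Subgroup.centralizer ({x} : Set (GL (Fin n) F))) ∧ Nat.card ↥(Subgroup.centralizer ({x} : Set (GL (Fin n) F))) = q ^ n - 1 := by
  classical
  haveI : Nonempty (Fin n) := ⟨⟨0, hn⟩⟩
  haveI : Fact r.Prime := ⟨hr⟩
  have hrF : (r : F) ≠ 0 := by
    rw [Ne, CharP.cast_eq_zero_iff F p, Nat.prime_dvd_prime_iff_eq (Fact.out : p.Prime) hr]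
    exact Ne.symm hrp
  set M : Matrix (Fin n) (Fin n) F := (x : Matrix (Fin n) (Fin n) F)
  have hMr : M ^ r = 1 := by
    rw [← Units.val_pow_eq_pow_val, ← hx, pow_orderOf_eq_one, Units.val_one]
  set f : Module.End F (Fin n → F) := Matrix.toLin' M with hfdef
  have hfr : f ^ r = 1 := by
    rw [hfdef, show Matrix.toLin' M = Matrix.toLinAlgEquiv' M from rfl, ← map_pow, hMr, map_one]
  have hμdvd : minpoly F f ∣ Polynomial.X ^ r - 1 := minpoly.dvd F f (by simp [hfr])
  have hμ0 : minpoly F f ≠ 0 := minpoly.ne_zero (IsIntegral.of_finite F f)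
  have hμu : ¬ IsUnit (minpoly F f) := by
    haveI : Nonempty (Fin n) := ⟨⟨0, hn⟩⟩
    exact minpoly.not_isUnit F f
  obtain ⟨Q, hQi, hQm, hQd, hQne⟩ : ∃ Q : Polynomial F, Irreducible Q ∧ Q.Monic ∧ Q ∣ minpoly F f ∧
      Q ≠ Polynomial.X - 1 := by
    by_contra hc
    push Not at hc
    have hsq : Squarefree (minpoly F f) :=
      (Polynomial.separable_X_pow_sub_C (1 : F) hrF one_ne_zero).squarefree.squarefree_of_dvd
        (by simpa using hμdvd)
    obtain ⟨Q, hQm, hQi, hQd⟩ := Polynomial.exists_monic_irreducible_factor _ hμu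
    obtain ⟨k, hk⟩ := hQd
    have hQ := hc Q hQi hQm ⟨k, hk⟩
    by_cases hku : IsUnit k
    · obtain ⟨c, hc', rfl⟩ := Polynomial.isUnit_iff.1 hku
      have h1 := minpoly.aeval F f
      rw [hk, hQ, map_mul, map_sub, Polynomial.aeval_X, map_one, Polynomial.aeval_C] at h1
      have h2 : f = 1 := by
        have h3 : (f - 1) * algebraMap F (Module.End F (Fin n → F)) c *
            algebraMap F (Module.End F (Fin n → F)) c⁻¹ = 0 := by rw [h1, zero_mul]
        rwa [mul_assoc, ← map_mul, mul_inv_cancel₀ hc'.ne_zero, map_one, mul_one, sub_eq_zero] at h3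
      refine hr.ne_one (hx ▸ orderOf_eq_one_iff.2 (Units.ext (Matrix.toLin'.injective ?_)))
      rw [Units.val_one, Matrix.toLin'_one]
      exact h2
    · obtain ⟨Q', hQ'm, hQ'i, hQ'd⟩ := Polynomial.exists_monic_irreducible_factor _ hku
      have hQ' := hc Q' hQ'i hQ'm (hQ'd.trans ⟨Q, by rw [hk, mul_comm]⟩)
      exact hQi.not_isUnit (hsq Q (by rw [hk]; exact mul_dvd_mul_left Q (by rwa [hQ, ← hQ'])))
  have hdeg : Q.natDegree = n := by
    rw [CfsgLib.KnownB.PrimeOrder.natDegree_eq_orderOf hrF hQi hQm (hQd.trans hμdvd) hQne, hF, hi]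
  haveI := Fact.mk hQi
  obtain ⟨v, hv, hqv⟩ := CfsgLib.KnownB.Semisimple.exists_ker_of_dvd_minpoly f hQi hQd
  obtain ⟨e, he, hfe⟩ := CfsgLib.KnownB.Semisimple.exists_cyclic f hv hqv
  haveI : Module.Finite F (AdjoinRoot Q) := (AdjoinRoot.powerBasis hQi.ne_zero).finite
  have hfK : Module.finrank F (AdjoinRoot Q) = n := by
    rw [(AdjoinRoot.powerBasis hQi.ne_zero).finrank, AdjoinRoot.powerBasis_dim, hdeg]
  let E : AdjoinRoot Q ≃ₗ[F] (Fin n → F) := LinearMap.linearEquivOfInjective e he
    (by rw [hfK, Module.finrank_fin_fun])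
  have hE : ∀ y, E y = e y := fun y => rfl
  let ψ : AdjoinRoot Q →ₐ[F] Matrix (Fin n) (Fin n) F :=
    (LinearMap.toMatrixAlgEquiv' : _ ≃ₐ[F] _).toAlgHom.comp ((E.conjAlgEquiv F).toAlgHom.comp (Algebra.lmul F (AdjoinRoot Q)))
  have hψ : ∀ k y, Matrix.toLin' (ψ k) (E y) = E (k * y) := by
    intro k y
    show Matrix.toLin' (LinearMap.toMatrix' (E.conjAlgEquiv F (Algebra.lmul F (AdjoinRoot Q) k))) (E y) = _
    rw [Matrix.toLin'_toMatrix']
    show E (k * E.symm (E y)) = _
    rw [LinearEquiv.symm_apply_apply]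
  have hroot : ψ (AdjoinRoot.root Q) = M := by
    apply Matrix.toLin'.injective
    refine LinearMap.ext fun w => ?_
    obtain ⟨y, rfl⟩ := E.surjective w
    rw [hψ, hE, hE]
    exact (hfe y).symm
  have hinj : Function.Injective ψ := ψ.toRingHom.injective
  let Ψ : (AdjoinRoot Q)ˣ →* GL (Fin n) F := Units.map ψ.toRingHom.toMonoidHom
  have hΨ : Function.Injective Ψ := fun a b h => Units.ext (hinj (congrArg Units.val h))
  have hrange : Ψ.range = Subgroup.centralizer {x} := by
    ext c
    rw [Subgroup.mem_centralizer_singleton_iff]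
    constructor
    · rintro ⟨k, rfl⟩
      refine Units.ext ?_
      show ψ (k : AdjoinRoot Q) * M = M * ψ k
      rw [← hroot, ← map_mul, ← map_mul, mul_comm]
    · intro hc
      have hc' : (c : Matrix (Fin n) (Fin n) F) * M = M * c := congrArg Units.val hc
      set k := E.symm (Matrix.toLin' (c : Matrix (Fin n) (Fin n) F) (E 1)) with hk
      have hcomm : ∀ y : AdjoinRoot Q, Commute (c : Matrix (Fin n) (Fin n) F) (ψ y) := by
        intro y
        obtain ⟨P, rfl⟩ := AdjoinRoot.mk_surjective y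
        rw [← AdjoinRoot.aeval_eq, ← Polynomial.aeval_algHom_apply, hroot]
        exact Algebra.commute_of_mem_adjoin_singleton_of_commute (Polynomial.aeval_mem_adjoin_singleton F M) hc'
      have hck : (c : Matrix (Fin n) (Fin n) F) = ψ k := by
        apply Matrix.toLin'.injective
        refine LinearMap.ext fun w => ?_
        obtain ⟨y, rfl⟩ := E.surjective w
        have h1 : E y = Matrix.toLin' (ψ y) (E 1) := by rw [hψ, mul_one]
        rw [hψ k y, mul_comm k y, ← hψ y k, hk, LinearEquiv.apply_symm_apply, h1, ← LinearMap.comp_apply,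
          ← LinearMap.comp_apply, ← Matrix.toLin'_mul, ← Matrix.toLin'_mul, (hcomm y).eq]
      have hk0 : k ≠ 0 := fun h0 => by
        haveI : Nonempty (Fin n) := ⟨⟨0, hn⟩⟩
        exact c.ne_zero (by rw [hck, h0, map_zero])
      exact ⟨Units.mk0 k hk0, Units.ext hck.symm⟩
  haveI : Finite (AdjoinRoot Q) := Module.finite_of_finite F
  let e' : (AdjoinRoot Q)ˣ ≃* ↥(Subgroup.centralizer ({x} : Set (GL (Fin n) F))) :=
    (MonoidHom.ofInjective hΨ).trans (MulEquiv.subgroupCongr hrange)
  refine ⟨isCyclic_of_surjective e'.toMonoidHom e'.surjective, ?_⟩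
  rw [← Nat.card_congr e'.toEquiv, Nat.card_units, Module.natCard_eq_pow_finrank (K := F), hfK,
    Nat.card_eq_fintype_card, hF]

end Cfsg.Agent.S2638
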