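import Cfsg.Statements.S2642
import Cfsg.Agent.Lib.KnownB.JordanCount
import Cfsg.Agent.Lib.KnownB.UnitaryConj
import Cfsg.Agent.Lib.KnownB.PSUAut.Field

set_option autoImplicit false
open Cfsg

namespace Cfsg.Agent.S2642

/-- Number of conjugacy classes of elements of order p in the general unitary group GU_n(q), q a power of p: every unipotent Jordan type occurs and the classes correspond to the partitions of n with all parts at most p other than the all-ones partition, exactly as in GL_n; so there are (number of partitions of n with parts ≤ p) − 1 classes. -/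
theorem result {K : Type*} [Field K] [Fintype K] {p q n : ℕ} [Fact p.Prime] [CharP K p] (hK : Fintype.card K = q ^ 2) : Nat.card {C : ConjClasses ↥(Cfsg.GU n K q) // ∃ g : ↥(Cfsg.GU n K q), ConjClasses.mk g = C ∧ orderOf g = p} = (Finset.univ.filter (fun μ : Nat.Partition n => ∀ a ∈ μ.parts, a ≤ p)).card - 1 := by
  classical
  have hK' : Nat.card K = q ^ 2 := by rw [Nat.card_eq_fintype_card, hK]
  obtain ⟨σ, hσq, hσ, hσ2⟩ := CfsgLib.Classical.exists_frob hK'
  have hI := CfsgLib.KnownB.UnitaryConj.isInvol_adj (n := n) (σ := σ) hσ2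
  have hmem := fun g => CfsgLib.KnownB.UnitaryConj.mem_GU_iff_adj (n := n) hσ2 hσq g
  refine CfsgLib.KnownB.Jordan.card_classes_order_p p (Cfsg.GU n K q).subtype (Subgroup.subtype_injective _) (fun a b h => ?_) ?_
  · obtain ⟨c, hc⟩ := h
    obtain ⟨u, hu, huc⟩ := CfsgLib.KnownB.UnitaryConj.exists_unitary_conjugator hσ hσ2 ((hmem _).1 a.2)
      ((hmem _).1 b.2) (h := c) (Units.ext hc.eq)
    exact isConj_iff.2 ⟨⟨u, (hmem u).2 hu⟩, mul_inv_eq_iff_eq_mul.2 (Subtype.ext huc)⟩
  intro A0 hA0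
  obtain ⟨t, d, e, hd, he⟩ := CfsgLib.KnownB.Jordan.exists_type (A0 : Matrix (Fin n) (Fin n) K) hA0
  set J := Matrix.reindex e e (Cfsg.jordanTypeMatrix d K) with hJ
  obtain ⟨c, hc⟩ := he
  set A : GL (Fin n) K := c⁻¹ * A0 * c with hAdef
  have hA : (A : Matrix (Fin n) (Fin n) K) = J := by
    rw [hAdef, Units.val_mul, Units.val_mul, mul_assoc, ← hc.eq, ← mul_assoc, Units.inv_mul, one_mul]
  set N := J - 1 with hN
  have hNnil : IsNilpotent N := by
    obtain ⟨k, hk⟩ := hA0
    refine ⟨k, ?_⟩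
    have h1 : N = ((c⁻¹ : GL (Fin n) K) : Matrix (Fin n) (Fin n) K) * ((A0 : Matrix (Fin n) (Fin n) K) - 1) * c := by
      rw [hN, ← hA, hAdef, Units.val_mul, Units.val_mul, mul_sub, mul_one, sub_mul, Units.inv_mul]
    rw [h1, Units.conj_pow', hk, mul_zero, zero_mul]
  have hJσ : J.map σ = J := by
    ext i j
    simp only [hJ, Matrix.map_apply, Matrix.reindex_apply, Matrix.submatrix_apply, Cfsg.jordanTypeMatrix,
      Matrix.blockDiagonal'_apply]
    split_ifs
    · simp only [Cfsg.jordanBlock, Matrix.of_apply]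
      split_ifs <;> simp
    · simp
  have hNσ : N.map σ = N := by rw [hN, Matrix.map_sub σ (map_sub σ), hJσ, Matrix.map_one σ σ.map_zero σ.map_one]
  set Ai : Matrix (Fin n) (Fin n) K := ((A⁻¹ : GL (Fin n) K) : Matrix (Fin n) (Fin n) K) with hAi
  have hAiA : Ai * J = 1 := by rw [hAi, ← hA, Units.inv_mul]
  have hcomm : Commute Ai N := by
    have h1 : Commute (A : Matrix (Fin n) (Fin n) K) N := by
      rw [hN, ← hA]; exact (Commute.refl _).sub_right (Commute.one_right _)
    exact h1.units_inv_left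
  set B := CfsgLib.KnownB.UnitaryConj.adj σ Ai with hB
  have hB1 : B - 1 = ((-Ai * N).map σ).transpose := by
    rw [hB, CfsgLib.KnownB.UnitaryConj.adj, hN, mul_sub, neg_mul, hAiA, mul_one, sub_neg_eq_add, neg_add_eq_sub,
      Matrix.map_sub σ (map_sub σ), Matrix.transpose_sub, Matrix.map_one σ σ.map_zero σ.map_one, Matrix.transpose_one]
  have hBpow : ∀ j, (B - 1) ^ j = (((-Ai) ^ j).map σ * N ^ j).transpose := by
    intro j
    rw [hB1, ← Matrix.transpose_pow, ← RingHom.mapMatrix_apply, ← map_pow, hcomm.neg_left.mul_pow, map_mul,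
      RingHom.mapMatrix_apply, map_pow σ.mapMatrix N, RingHom.mapMatrix_apply, hNσ]
  have hrank : ∀ j, ((J - 1) ^ j).rank = ((B - 1) ^ j).rank := by
    intro j
    have hu : IsUnit (((-Ai) ^ j).map σ) := ((A⁻¹).isUnit.neg.pow j).map σ.mapMatrix
    rw [hBpow, Matrix.rank_transpose, Matrix.rank_mul_eq_right_of_isUnit_det _ _ ((Matrix.isUnit_iff_isUnit_det _).1 hu)]
  have hBnil : IsNilpotent (B - 1) := by
    obtain ⟨k, hk⟩ := hNnil
    exact ⟨k, by rw [hBpow, hk, mul_zero, Matrix.transpose_zero]⟩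
  obtain ⟨P, hP⟩ := CfsgLib.KnownB.Jordan.isConj_of_rank hNnil hBnil hrank
  obtain ⟨D, hD⟩ := CfsgLib.KnownB.UnitaryConj.exists_unitary_conj hσ hσ2 (A := A) (P := P) (by
    rw [mul_assoc, hA, hP.eq, ← mul_assoc, hB, hAi, ← hA, ← hI.map_mul, Units.inv_mul, hI.map_one, one_mul])
  refine ⟨⟨D * A * D⁻¹, (hmem _).2 hD⟩, ?_⟩
  have : IsConj A0 (D * A * D⁻¹) := isConj_iff.2 ⟨D * c⁻¹, by rw [hAdef]; group⟩
  exact (Units.coeHom _).map_isConj this

end Cfsg.Agent.S2642
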