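import Cfsg.Statements.S2643
import Cfsg.Agent.Lib.KnownB.UnitaryConj
import Cfsg.Agent.Lib.KnownB.Regular
import Cfsg.Agent.Lib.KnownB.PSUAut.Field
-- import your own Cfsg.Agent.* helpers here

set_option autoImplicit false
open Cfsg Matrix CfsgLib.Classical CfsgLib.Classical.Unitary CfsgLib.KnownB.UnitaryConj CfsgLib.KnownB.Regular CfsgLib.KnownB.PSUAut

set_option maxHeartbeats 1000000

namespace Cfsg.Agent.S2643

/-- Regular unipotent classes of SU_n(q), n ≥ 2: the elements u of the special unitary group (isometries of Σ u_i v_i^q of determinant one over the field with q² elements) with (u − 1)^n = 0 and rank(u − 1) = n − 1 form exactly gcd(n, q + 1) conjugacy classes of SU_n(q). -/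
theorem result {K : Type*} [Field K] [Fintype K] {q n : ℕ} (hK : Fintype.card K = q ^ 2) (hn : 2 ≤ n) : Nat.card {C : ConjClasses ↥(Cfsg.SU n K q) // ∃ u : ↥(Cfsg.SU n K q), ConjClasses.mk u = C ∧ (((u : GL (Fin n) K) : Matrix (Fin n) (Fin n) K) - 1) ^ n = 0 ∧ (((u : GL (Fin n) K) : Matrix (Fin n) (Fin n) K) - 1).rank = n - 1} = Nat.gcd n (q + 1) := by
  classical
  have hn1 : 1 ≤ n := by omega
  have hK' : Nat.card K = q ^ 2 := by rw [Nat.card_eq_fintype_card, hK]
  obtain ⟨σ, hσq, hσ, hσ2⟩ := CfsgLib.Classical.exists_frob hK'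
  have hI := isInvol_adj (n := n) (σ := σ) hσ2
  -- a regular unipotent unitary element
  let N : Matrix (Fin n) (Fin n) K := Matrix.of fun i j => if (j : ℕ) = i + 1 then 1 else 0
  have hpow : ∀ (k : ℕ) (i j : Fin n), (j : ℕ) < i + k → (N ^ k) i j = 0 := by
    intro k
    induction k with
    | zero => intro i j h; rw [pow_zero, Matrix.one_apply_ne]; rintro rfl; omega
    | succ k ih =>
      intro i j h
      rw [pow_succ, Matrix.mul_apply]
      refine Finset.sum_eq_zero fun l _ => ?_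
      by_cases hl : (l : ℕ) < i + k
      · rw [ih i l hl, zero_mul]
      · rw [show N l j = 0 from if_neg (by omega), mul_zero]
  have hN : N ^ n = 0 := by ext i j; exact hpow n i j (by omega)
  have hNker : N.rank = n - 1 := by
    have hNx : ∀ (x : Fin n → K) i, (N.mulVec x) i = if h : (i : ℕ) + 1 < n then x ⟨(i : ℕ) + 1, h⟩ else 0 := by
      intro x i
      simp only [Matrix.mulVec, dotProduct, N, Matrix.of_apply]
      split_ifs with h
      · rw [Finset.sum_eq_single (⟨(i : ℕ) + 1, h⟩ : Fin n) (fun b _ hb => by rw [if_neg (fun h' => hb (Fin.ext h')), zero_mul]) (by simp)]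
        simp
      · exact Finset.sum_eq_zero fun b _ => by rw [if_neg (by omega), zero_mul]
    have hk : LinearMap.ker N.mulVecLin = Submodule.span K {Pi.single (⟨0, by omega⟩ : Fin n) (1 : K)} := by
      ext x
      rw [LinearMap.mem_ker, Matrix.mulVecLin_apply, Submodule.mem_span_singleton]
      constructor
      · intro h
        refine ⟨x ⟨0, by omega⟩, funext fun i => ?_⟩
        by_cases hi : (i : ℕ) = 0
        · rw [show i = ⟨0, by omega⟩ from Fin.ext hi]; simp
        · have h' := congrFun h ⟨(i : ℕ) - 1, by omega⟩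
          rw [hNx, dif_pos (by simp; omega)] at h'
          have : x i = 0 := by
            simp only [Pi.zero_apply] at h'
            rw [← h']; congr 1; apply Fin.ext; simp; omega
          simp [this, Fin.ext_iff, hi]
      · rintro ⟨c, rfl⟩
        funext i
        rw [hNx]
        split_ifs <;> simp [Fin.ext_iff]
    have h2 := LinearMap.finrank_range_add_finrank_ker N.mulVecLin
    rw [hk, finrank_span_singleton (by simp), Module.finrank_fin_fun] at h2
    show Module.finrank K (LinearMap.range N.mulVecLin) = _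
    omega
  obtain ⟨A, hA⟩ : IsUnit (1 + N) := IsNilpotent.isUnit_one_add ⟨n, hN⟩
  have hAreg : IsRegularUnip (A : Matrix (Fin n) (Fin n) K) := by
    rw [IsRegularUnip, hA, add_sub_cancel_left]; exact ⟨hN, hNker⟩
  have hsim : ∀ {a b : Matrix (Fin n) (Fin n) K} (X : GL (Fin n) K), (X : Matrix _ _ K) * a = b * (X : Matrix _ _ K) →
      IsRegularUnip a → IsRegularUnip b := by
    intro a b X hX ha
    have e : b - 1 = (X : Matrix _ _ K) * (a - 1) * ((X⁻¹ : GL (Fin n) K) : Matrix _ _ K) := by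
      rw [mul_sub, hX, mul_one, sub_mul, mul_assoc, Units.mul_inv, mul_one]
    refine ⟨?_, ?_⟩
    · rw [e, Units.conj_pow, ha.1, mul_zero, zero_mul]
    · rw [e, Matrix.rank_mul_eq_left_of_isUnit_det _ _ ((Matrix.isUnit_iff_isUnit_det _).1 (X⁻¹).isUnit),
        Matrix.rank_mul_eq_right_of_isUnit_det _ _ ((Matrix.isUnit_iff_isUnit_det _).1 X.isUnit)]
      exact ha.2
  obtain ⟨u, hu, hureg⟩ : ∃ u : GL (Fin n) K, adj σ (u : Matrix (Fin n) (Fin n) K) * u = 1 ∧ IsRegularUnip (u : Matrix (Fin n) (Fin n) K) := by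
    have hB : IsRegularUnip (adj σ ((A⁻¹ : GL (Fin n) K) : Matrix (Fin n) (Fin n) K)) := by
      have h1 : ((A⁻¹ : GL (Fin n) K) : Matrix (Fin n) (Fin n) K) - 1 = -((A⁻¹ : GL (Fin n) K) : Matrix (Fin n) (Fin n) K) * N := by
        have e := A.inv_mul
        rw [hA, mul_add, mul_one] at e
        rw [neg_mul]
        linear_combination (norm := abel) e
      have hc : Commute ((A⁻¹ : GL (Fin n) K) : Matrix (Fin n) (Fin n) K) N :=
        Commute.units_inv_left (show Commute (A : Matrix (Fin n) (Fin n) K) N by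
          rw [hA]; exact (Commute.one_left N).add_left (Commute.refl N))
      have hsub : adj σ ((A⁻¹ : GL (Fin n) K) : Matrix (Fin n) (Fin n) K) - 1 = ((-((A⁻¹ : GL (Fin n) K) : Matrix (Fin n) (Fin n) K) * N).map σ)ᵀ := by
        rw [← h1, adj, Matrix.map_sub σ (map_sub σ), Matrix.transpose_sub, Matrix.map_one σ σ.map_zero σ.map_one, Matrix.transpose_one]
      refine ⟨?_, ?_⟩
      · rw [hsub, ← Matrix.transpose_pow, ← RingHom.mapMatrix_apply, ← map_pow, hc.neg_left.mul_pow, hN, mul_zero, map_zero, Matrix.transpose_zero]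
      · have hdet : IsUnit (-((A⁻¹ : GL (Fin n) K) : Matrix (Fin n) (Fin n) K)) := A⁻¹.isUnit.neg
        rw [hsub, Matrix.rank_transpose, Matrix.map_mul, Matrix.rank_mul_eq_right_of_isUnit_det ((-((A⁻¹ : GL (Fin n) K) : Matrix (Fin n) (Fin n) K)).map σ) _
          ((Matrix.isUnit_iff_isUnit_det _).1 (hdet.map (RingHom.mapMatrix σ)))]
        rw [show N.map σ = N by ext i j; simp only [N, Matrix.map_apply, Matrix.of_apply]; split_ifs <;> simp, hNker]
    obtain ⟨P, hP⟩ := exists_conj hAreg hB hn1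
    obtain ⟨D, hD⟩ := exists_unitary_conj hσ hσ2 (A := A) (P := P) (by
      rw [mul_assoc, hP, ← mul_assoc, ← hI.map_mul, Units.inv_mul, hI.map_one, one_mul])
    refine ⟨D * A * D⁻¹, hD, hsim D ?_ hAreg⟩
    rw [Units.val_mul, Units.val_mul, mul_assoc ((D : Matrix (Fin n) (Fin n) K) * _), Units.inv_mul, mul_one]
  have hmemGU : ∀ g : GL (Fin n) K, g ∈ Cfsg.GU n K q ↔ adj σ (g : Matrix (Fin n) (Fin n) K) * g = 1 :=
    mem_GU_iff_adj hσ2 hσq
  have hdet1 : ∀ v : Matrix (Fin n) (Fin n) K, IsRegularUnip v → v.det = 1 := by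
    intro v hv
    let a : Fin n → K := fun i => if (i : ℕ) ≤ 1 then 1 else 0
    have e : poly v a = v := by
      have h01 : (⟨0, hn1⟩ : Fin n) ≠ ⟨1, hn⟩ := by simp [Fin.ext_iff]
      rw [poly, ← Finset.sum_subset (Finset.subset_univ {(⟨0, hn1⟩ : Fin n), ⟨1, hn⟩}), Finset.sum_pair h01]
      · simp [a]
      · intro i _ hi
        simp [Fin.ext_iff] at hi
        simp [a, show ¬ (i : ℕ) ≤ 1 by omega]
    have := hv.det_poly hn1 a
    rw [e] at this
    simpa [a] using this
  let uG : Cfsg.GU n K q := ⟨u, (hmemGU u).2 hu⟩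
  -- determinants on the centraliser
  let M := normOne K q
  let R : Subgroup M := (powMonoidHom n : M →* M).range
  have hcent : ∀ g : Cfsg.GU n K q, g * uG = uG * g → detN hK' hn1 g ∈ R := by
    intro g hg
    have hg' : (g.1 : Matrix (Fin n) (Fin n) K) * u = (u : Matrix (Fin n) (Fin n) K) * g.1 := congrArg (fun x : Cfsg.GU n K q => ((x.1 : GL (Fin n) K) : Matrix (Fin n) (Fin n) K)) hg
    obtain ⟨v, B, hB, hv⟩ := hureg.exists_cyclic hn1
    set z := (((u : Matrix (Fin n) (Fin n) K) - 1) ^ (n - 1)).mulVec v with hz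
    have hz1 : ((u : Matrix (Fin n) (Fin n) K) - 1).mulVec z = 0 := by
      rw [hz, Matrix.mulVec_mulVec, ← pow_succ', Nat.sub_add_cancel hn1, hureg.1, Matrix.zero_mulVec]
    obtain ⟨a, ha⟩ : ∃ a, (g.1 : Matrix (Fin n) (Fin n) K) = poly (u : Matrix (Fin n) (Fin n) K) a := ⟨_, hureg.eq_poly hn1 hB hg'⟩
    have h1 : (g.1 : Matrix (Fin n) (Fin n) K).mulVec z = a ⟨0, hn1⟩ • z := by
      rw [ha, poly, Matrix.sum_mulVec, Finset.sum_eq_single (⟨0, hn1⟩ : Fin n)]
      · rw [pow_zero, Matrix.smul_mulVec, Matrix.one_mulVec]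
      · intro i _ hi
        have : (i : ℕ) ≠ 0 := fun h0 => hi (Fin.ext h0)
        rw [show (i : ℕ) = (i : ℕ) - 1 + 1 by omega, pow_succ, Matrix.smul_mulVec, ← Matrix.mulVec_mulVec, hz1,
          Matrix.mulVec_zero, smul_zero]
      · simp
    have h2 : (adj σ (g.1 : Matrix (Fin n) (Fin n) K)).mulVec z = σ (a ⟨0, hn1⟩) • z := by
      have hadju : (adj σ ((u : Matrix (Fin n) (Fin n) K) - 1)).mulVec z = 0 := by
        have hu1 : adj σ (u : Matrix (Fin n) (Fin n) K) - 1 = adj σ (u : Matrix (Fin n) (Fin n) K) * -((u : Matrix (Fin n) (Fin n) K) - 1) := by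
          rw [mul_neg, mul_sub, hu, mul_one]; abel
        rw [show adj σ ((u : Matrix (Fin n) (Fin n) K) - 1) = adj σ (u : Matrix (Fin n) (Fin n) K) - 1 by
          ext i j; simp [adj, Matrix.one_apply, eq_comm, apply_ite σ], hu1, ← Matrix.mulVec_mulVec, Matrix.neg_mulVec, hz1,
          neg_zero, Matrix.mulVec_zero]
      have hpowadj : ∀ k : ℕ, adj σ (((u : Matrix (Fin n) (Fin n) K) - 1) ^ k) = adj σ ((u : Matrix (Fin n) (Fin n) K) - 1) ^ k := by
        intro k
        induction k with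
        | zero => rw [pow_zero, pow_zero, hI.map_one]
        | succ k ih => rw [pow_succ, hI.map_mul, ih, ← pow_succ']
      have hsum : adj σ (g.1 : Matrix (Fin n) (Fin n) K) = ∑ i : Fin n, σ (a i) • adj σ (((u : Matrix (Fin n) (Fin n) K) - 1) ^ (i : ℕ)) := by
        rw [ha]; ext i j; simp [adj, poly, Matrix.sum_apply, map_sum]
      rw [hsum, Matrix.sum_mulVec, Finset.sum_eq_single (⟨0, hn1⟩ : Fin n)]
      · rw [hpowadj, pow_zero, Matrix.smul_mulVec, Matrix.one_mulVec]
      · intro i _ hi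
        have : (i : ℕ) ≠ 0 := fun h0 => hi (Fin.ext h0)
        rw [hpowadj, show (i : ℕ) = (i : ℕ) - 1 + 1 by omega, pow_succ, Matrix.smul_mulVec, ← Matrix.mulVec_mulVec, hadju,
          Matrix.mulVec_zero, smul_zero]
      · simp
    have h3 : a ⟨0, hn1⟩ * σ (a ⟨0, hn1⟩) = 1 := by
      have e := congrArg (fun X : Matrix (Fin n) (Fin n) K => X.mulVec z) ((hmemGU g.1).1 g.2)
      simp only [Matrix.one_mulVec] at e
      rw [← Matrix.mulVec_mulVec, h1, Matrix.mulVec_smul, h2, smul_smul] at e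
      exact smul_left_injective K hv (e.trans (one_smul K z).symm)
    have ha0 : a ⟨0, hn1⟩ ≠ 0 := fun h0 => by rw [h0, zero_mul] at h3; exact zero_ne_one h3
    refine ⟨⟨Units.mk0 _ ha0, MonoidHom.mem_ker.2 (Units.ext ?_)⟩, Subtype.ext (Units.ext ?_)⟩
    · show a ⟨0, hn1⟩ ^ (q + 1) = 1
      rw [pow_succ', ← hσq, h3]
    · show a ⟨0, hn1⟩ ^ n = (g.1 : Matrix (Fin n) (Fin n) K).det
      rw [ha, hureg.det_poly hn1]
  have hdsurj : Function.Surjective (detN hK' hn1 : Cfsg.GU n K q →* M) := fun w => by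
    obtain ⟨g, hg⟩ := (guDet_range hK' hn1).ge w.2
    exact ⟨g, Subtype.ext hg⟩
  choose d hd using hdsurj
  -- elements of `SU` from `GU`
  have hconj : ∀ g : Cfsg.GU n K q, ∃ s : Cfsg.SU n K q, toGU s = g * uG * g⁻¹ := by
    intro g
    refine ⟨⟨⟨((g * uG * g⁻¹ : Cfsg.GU n K q).1 : Matrix (Fin n) (Fin n) K), ?_⟩, (g * uG * g⁻¹ : Cfsg.GU n K q).2⟩, Subtype.ext (Units.ext rfl)⟩
    show ((g.1 : Matrix (Fin n) (Fin n) K) * u * ((g.1⁻¹ : GL (Fin n) K) : Matrix (Fin n) (Fin n) K)).det = 1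
    rw [Matrix.det_units_conj, hdet1 _ hureg]
  choose cj hcj using hconj
  let f : M ⧸ R → ConjClasses ↥(Cfsg.SU n K q) := fun x => ConjClasses.mk (cj (d x.out))
  have hinjGU : ∀ a b : Cfsg.SU n K q, toGU a = toGU b → a = b := fun a b e =>
    Subtype.ext (Subtype.ext (congrArg (fun x : Cfsg.GU n K q => ((x.1 : GL (Fin n) K) : Matrix (Fin n) (Fin n) K)) e))
  have hf : Function.Injective f := by
    intro x y e
    simp only [f, ConjClasses.mk_eq_mk_iff_isConj, isConj_iff] at e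
    obtain ⟨s, hs⟩ := e
    have e1 : toGU s * (d x.out * uG * (d x.out)⁻¹) * (toGU s)⁻¹ = d y.out * uG * (d y.out)⁻¹ := by
      rw [← hcj, ← hcj, ← map_inv, ← map_mul, ← map_mul, hs]
    have hc : (d y.out)⁻¹ * toGU s * d x.out * uG = uG * ((d y.out)⁻¹ * toGU s * d x.out) := by
      calc (d y.out)⁻¹ * toGU s * d x.out * uG = (d y.out)⁻¹ * (toGU s * (d x.out * uG * (d x.out)⁻¹) * (toGU s)⁻¹) * toGU s * d x.out := by group
        _ = _ := by rw [e1]; group
    have := hcent _ hc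
    rw [map_mul, map_mul, map_inv, hd, hd, detN_toGU, mul_one] at this
    rw [← QuotientGroup.out_eq' x, ← QuotientGroup.out_eq' y]
    exact (QuotientGroup.eq.2 this).symm
  have hrange : Set.range f = {C : ConjClasses ↥(Cfsg.SU n K q) | ∃ u : ↥(Cfsg.SU n K q), ConjClasses.mk u = C ∧ (((u : GL (Fin n) K) : Matrix (Fin n) (Fin n) K) - 1) ^ n = 0 ∧ (((u : GL (Fin n) K) : Matrix (Fin n) (Fin n) K) - 1).rank = n - 1} := by
    ext C
    constructor
    · rintro ⟨x, rfl⟩
      refine ⟨cj (d x.out), rfl, ?_⟩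
      show IsRegularUnip ((toGU (cj (d x.out))).1 : Matrix (Fin n) (Fin n) K)
      rw [hcj]
      refine hsim (d x.out).1 ?_ hureg
      show ((d x.out).1 : Matrix (Fin n) (Fin n) K) * u = ((d x.out).1 : Matrix (Fin n) (Fin n) K) * u * (((d x.out).1⁻¹ : GL (Fin n) K) : Matrix (Fin n) (Fin n) K) * ((d x.out).1 : Matrix (Fin n) (Fin n) K)
      rw [mul_assoc (((d x.out).1 : Matrix (Fin n) (Fin n) K) * u), Units.inv_mul, mul_one]
    · rintro ⟨s, rfl, hs⟩
      have hs' : IsRegularUnip ((toGU s).1 : Matrix (Fin n) (Fin n) K) := hs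
      obtain ⟨X, hX⟩ := exists_conj hureg hs' hn1
      obtain ⟨w, hw, hwu⟩ := exists_unitary_conjugator hσ hσ2 (A := u) (B := (toGU s).1) hu ((hmemGU _).1 (toGU s).2) (h := X) (Units.ext hX)
      let wG : Cfsg.GU n K q := ⟨w, (hmemGU w).2 hw⟩
      set x : M ⧸ R := QuotientGroup.mk (detN hK' hn1 wG) with hx
      refine ⟨x, ?_⟩
      obtain ⟨r, hr⟩ : ∃ r : M, x.out⁻¹ * detN hK' hn1 wG = r ^ n := by
        obtain ⟨r, hr⟩ := QuotientGroup.eq.1 (show ((x.out : M) : M ⧸ R) = (detN hK' hn1 wG : M ⧸ R) from QuotientGroup.out_eq' x)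
        exact ⟨r, hr.symm⟩
      -- `wG * (d x * r)⁻¹` has determinant one
      set g := wG * (d x.out * scalarGU n K q r)⁻¹ with hg
      have hg1 : detN hK' hn1 g = 1 := by
        rw [hg, map_mul, map_inv, map_mul, hd, detN_scalar, ← hr, mul_inv_cancel_left, mul_inv_cancel]
      have hgdet : ((g.1 : GL (Fin n) K) : Matrix (Fin n) (Fin n) K).det = 1 :=
        congrArg (fun x : M => ((x : Kˣ) : K)) hg1
      let gS : Cfsg.SU n K q := ⟨⟨((g.1 : GL (Fin n) K) : Matrix (Fin n) (Fin n) K), hgdet⟩, g.2⟩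
      have hgS : toGU gS = g := Subtype.ext (Units.ext rfl)
      simp only [f, ConjClasses.mk_eq_mk_iff_isConj, isConj_iff]
      refine ⟨gS, hinjGU _ _ ?_⟩
      rw [map_mul, map_mul, map_inv, hgS, hcj, hg]
      have hscal : scalarGU n K q r * uG = uG * scalarGU n K q r := by
        refine Subtype.ext (Units.ext ?_)
        show (scalarGU n K q r).1.1 * (u : Matrix (Fin n) (Fin n) K) = (u : Matrix (Fin n) (Fin n) K) * (scalarGU n K q r).1.1
        rw [scalarGU_coe]
        simp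
      have hwG : wG * uG * wG⁻¹ = toGU s := by
        rw [mul_inv_eq_iff_eq_mul]
        exact Subtype.ext hwu
      calc wG * (d x.out * scalarGU n K q r)⁻¹ * (d x.out * uG * (d x.out)⁻¹) * (wG * (d x.out * scalarGU n K q r)⁻¹)⁻¹
          = wG * ((scalarGU n K q r)⁻¹ * (uG * scalarGU n K q r)) * wG⁻¹ := by group
        _ = wG * uG * wG⁻¹ := by rw [← hscal]; group
        _ = toGU s := hwG
  show Nat.card ↥({C : ConjClasses ↥(Cfsg.SU n K q) | ∃ u : ↥(Cfsg.SU n K q), ConjClasses.mk u = C ∧ (((u : GL (Fin n) K) : Matrix (Fin n) (Fin n) K) - 1) ^ n = 0 ∧ (((u : GL (Fin n) K) : Matrix (Fin n) (Fin n) K) - 1).rank = n - 1}) = _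
  rw [← hrange, Nat.card_range_of_injective hf, ← Subgroup.index_eq_card, IsCyclic.index_powMonoidHom_range, card_normOne hK', Nat.gcd_comm]

end Cfsg.Agent.S2643
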