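import Cfsg.Statements.S2645
import Cfsg.Agent.Lib.KnownB.SymplPrime

set_option autoImplicit false
open Cfsg

set_option linter.style.haveILetI false

namespace Cfsg.Agent.S2645

/-- Number of conjugacy classes of elements of odd prime order r, r different from the characteristic, in the symplectic group Sp_2m(q): let i be the multiplicative order of q modulo r and t = (r − 1)/i. If i is odd the eigenvalue orbits pair off (Λ ≠ Λ⁻¹) and the classes correspond to the non-zero (t/2)-tuples (a_j) with 2i Σ a_j ≤ 2m, giving C(⌊m/i⌋ + t/2, t/2) − 1 classes; if i is even (Λ = Λ⁻¹) they correspond to the non-zero t-tuples with i Σ a_j ≤ 2m, giving C(⌊2m/i⌋ + t, t) − 1 classes. -/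
theorem result {F : Type*} [Field F] [Fintype F] {p q : ℕ} [Fact p.Prime] [CharP F p] (hF : Fintype.card F = q) (m r i t : ℕ) (hr : r.Prime) (hr2 : r ≠ 2) (hrp : r ≠ p) (hi : i = orderOf (q : ZMod r)) (ht : t * i = r - 1) : Nat.card {C : ConjClasses ↥(Matrix.symplecticGroup (Fin m) F) // ∃ g : Matrix.symplecticGroup (Fin m) F, ConjClasses.mk g = C ∧ orderOf g = r} = if Odd i then Nat.choose (m / i + t / 2) (t / 2) - 1 else Nat.choose (2 * m / i + t) t - 1 := by
  classical
  haveI : Fact r.Prime := ⟨hr⟩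
  have hrF : (r : F) ≠ 0 := by
    rw [Ne, CharP.cast_eq_zero_iff F p, Nat.prime_dvd_prime_iff_eq Fact.out hr]
    exact Ne.symm hrp
  subst hF
  have hi0 : 0 < i := by
    rcases Nat.eq_zero_or_pos i with h | h
    · rw [h, mul_zero] at ht
      have := hr.two_le
      omega
    · exact h
  let j : Matrix.symplecticGroup (Fin m) F →* GL (Fin m ⊕ Fin m) F := (Submonoid.subtype _).toHomUnits
  have hj : Function.Injective j := fun a b hab => Subtype.ext (congrArg Units.val hab)
  rw [CfsgLib.KnownB.PrimeCharpoly.card_classes_of_adm j hj p hrF hi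
    (fun μ => ∀ Q, μ (CfsgLib.KnownB.PrimeCharpoly.starF (σ := RingHom.id F) (fun _ => rfl) hr.ne_zero Q) = μ Q)
    ?_ ?_ ?_, CfsgLib.KnownB.PrimeCharpoly.card_adm_id p hrF hr2 hi hi0 _ ht, Fintype.card_sum, Fintype.card_fin,
    ← two_mul, Nat.mul_div_cancel_left m (by norm_num : 0 < 2)]
  · split_ifs <;> rfl
  · intro a b ha _ hab
    refine CfsgLib.KnownB.BilinConj.sp_conj p a b ?_ hab
    exact ((Nat.coprime_primes hr Fact.out).2 hrp).coprime_dvd_left (orderOf_dvd_of_pow_eq_one ha)
  · intro a μ _ hμ hc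
    refine (CfsgLib.KnownB.PrimeCharpoly.selfDual_poly_iff (fun _ => rfl) (Fintype.card (Fin m ⊕ Fin m)) i μ).1 ?_
    rw [← hc]
    exact CfsgLib.KnownB.PrimeCharpoly.selfDual_symplectic a
  · intro μ hμ hA
    have hcard : Fintype.card (Fin m ⊕ Fin m) = m + m := by rw [Fintype.card_sum, Fintype.card_fin]
    rw [hcard] at hμ ⊢
    obtain ⟨g, hg, hgc⟩ := CfsgLib.KnownB.PrimeCharpoly.exists_symplectic_good p hr2
      (CfsgLib.KnownB.PrimeCharpoly.good_poly hrF hi hμ)
      ((CfsgLib.KnownB.PrimeCharpoly.selfDual_poly_iff (σ := RingHom.id F) (fun _ => rfl) _ i μ).2 hA)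
    exact ⟨g, hgc, by rwa [orderOf_injective j hj]⟩

end Cfsg.Agent.S2645
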