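import Cfsg.Statements.S2646
import Cfsg.Agent.Lib.KnownB.UnitJordan.Count

set_option autoImplicit false
open Cfsg

set_option linter.style.haveILetI false

namespace Cfsg.Agent.S2646

/-- Order of the centraliser in the general unitary group GU_n(q) of a unipotent element of given Jordan type: if u ∈ GU_n(q) (isometries of Σ u_i v_i^q over the field with q² elements) is similar to the unipotent matrix with a_i Jordan blocks of size i (all sizes at least 1), then its centraliser in GU_n(q) has order q^γ · Π_i |GU_(a_i)(q)| with γ = 2 Σ_(i<j) i a_i a_j + Σ_i (i − 1) a_i², the same exponent as in GL_n(q), where |GU_a(q)| = q^(a(a−1)/2) Π_(k=1)^a (q^k − (−1)^k). -/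
theorem result {K : Type*} [Field K] [Fintype K] {q n t : ℕ} (hK : Fintype.card K = q ^ 2) (d : Fin t → ℕ) (hd : ∀ k, 1 ≤ d k) (e : ((k : Fin t) × Fin (d k)) ≃ Fin n) (u : ↥(Cfsg.GU n K q)) (hu : IsConj (Matrix.reindex e e (Cfsg.jordanTypeMatrix d K)) ((u : GL (Fin n) K) : Matrix (Fin n) (Fin n) K)) : (Nat.card ↥(Subgroup.centralizer ({u} : Set ↥(Cfsg.GU n K q))) : ℤ) = (q : ℤ) ^ (2 * (∑ i ∈ Finset.range (Finset.univ.sup d + 1), ∑ j ∈ Finset.range (Finset.univ.sup d + 1), if i < j then i * (Finset.univ.filter (fun k : Fin t => d k = i)).card * (Finset.univ.filter (fun k : Fin t => d k = j)).card else 0) + ∑ i ∈ Finset.range (Finset.univ.sup d + 1), (i - 1) * (Finset.univ.filter (fun k : Fin t => d k = i)).card ^ 2) * ∏ i ∈ Finset.range (Finset.univ.sup d + 1), ((q : ℤ) ^ ((Finset.univ.filter (fun k : Fin t => d k = i)).card * ((Finset.univ.filter (fun k : Fin t => d k = i)).card - 1) / 2) * ∏ j : Fin (Finset.univ.filter (fun k : Fin t => d k = i)).card,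 ((q : ℤ) ^ ((j : ℕ) + 1) - (-1) ^ ((j : ℕ) + 1))) := by
  classical
  have hF : Nat.card K = q ^ 2 := by rw [Nat.card_eq_fintype_card, hK]
  have hq2 := CfsgLib.Classical.two_le_q hF
  obtain ⟨σ, hσ⟩ := CfsgLib.Classical.Unitary.exists_uFrob hF
  obtain ⟨c, hc⟩ := hu
  let R := Matrix.reindexAlgEquiv K K e.symm
  have hR : ∀ M, CfsgLib.KnownB.UnitJordan.cT σ (R M) = R (CfsgLib.KnownB.UnitJordan.cT σ M) :=
    fun M => rfl
  have hGU : ∀ g : GL (Fin n) K, g ∈ Cfsg.GU n K q ↔
      CfsgLib.KnownB.UnitJordan.cT σ (g : Matrix (Fin n) (Fin n) K) * g.1 = 1 := by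
    intro g
    rw [CfsgLib.Classical.mem_GU_iff_cols hσ.pow (by omega)]
    constructor
    · intro hh
      ext i j
      rw [Matrix.mul_apply, Matrix.one_apply]
      have := hh j i
      simp only [eq_comm (a := j) (b := i)] at this
      rw [← this]
      simp [Cfsg.hermForm, CfsgLib.KnownB.UnitJordan.cT_apply, Matrix.col, hσ.pow, mul_comm]
    · intro hh i j
      have := congrFun (congrFun hh j) i
      rw [Matrix.mul_apply, Matrix.one_apply] at this
      simp only [eq_comm (a := j) (b := i)] at this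
      rw [← this]
      simp [Cfsg.hermForm, CfsgLib.KnownB.UnitJordan.cT_apply, Matrix.col, hσ.pow, mul_comm]
  obtain ⟨P, hP⟩ : ∃ P, P = R (c : Matrix (Fin n) (Fin n) K) := ⟨_, rfl⟩
  obtain ⟨U, hU⟩ : ∃ U, U = R ((u : GL (Fin n) K) : Matrix (Fin n) (Fin n) K) := ⟨_, rfl⟩
  have hJ : R (Matrix.reindex e e (Cfsg.jordanTypeMatrix d K)) =
      1 + CfsgLib.KnownB.JordanCent.shift d K := by
    rw [← CfsgLib.KnownB.JordanCent.jordan_eq]
    exact Matrix.ext fun a b => by simp [R, Matrix.reindexAlgEquiv_apply]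
  have hPd : IsUnit P.det := (Matrix.isUnit_iff_isUnit_det P).1 (hP ▸ c.isUnit.map R)
  have hPU : P * (1 + CfsgLib.KnownB.JordanCent.shift d K) = U * P := by
    rw [← hJ, hP, hU, ← map_mul, ← map_mul]
    exact congrArg R hc.eq
  have hUU : CfsgLib.KnownB.UnitJordan.cT σ U * U = 1 := by
    rw [hU, hR, ← map_mul, (hGU _).1 u.2, map_one]
  obtain ⟨H, hHdef⟩ : ∃ H, H = CfsgLib.KnownB.UnitJordan.cT σ P * P := ⟨_, rfl⟩
  have hH : CfsgLib.KnownB.UnitJordan.InvForm σ d H := by
    refine ⟨hd, ?_, ?_, ?_⟩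
    · rw [hHdef, CfsgLib.KnownB.UnitJordan.cT_mul, CfsgLib.KnownB.UnitJordan.cT_cT hσ.invol]
    · rw [hHdef, Matrix.det_mul, CfsgLib.KnownB.UnitJordan.det_cT]
      exact mul_ne_zero ((map_ne_zero σ).2 hPd.ne_zero) hPd.ne_zero
    · rw [hHdef, ← Matrix.mul_assoc, ← CfsgLib.KnownB.UnitJordan.cT_mul, Matrix.mul_assoc, hPU,
        CfsgLib.KnownB.UnitJordan.cT_mul]
      rw [Matrix.mul_assoc, ← Matrix.mul_assoc _ U, hUU, Matrix.one_mul]
  have hcentre : ∀ g : ↥(Cfsg.GU n K q), g ∈ Subgroup.centralizer ({u} : Set ↥(Cfsg.GU n K q)) ↔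
      R g.1.1 * U = U * R g.1.1 := by
    intro g
    rw [Subgroup.mem_centralizer_iff, hU, ← map_mul, ← map_mul, R.injective.eq_iff]
    constructor
    · exact fun hh => (congrArg (fun z : ↥(Cfsg.GU n K q) => z.1.1) (hh u rfl)).symm
    · rintro hh _ rfl
      exact Subtype.ext (Units.ext hh.symm)
  have hcom : ∀ G : Matrix (CfsgLib.KnownB.JordanCent.Idx d) (CfsgLib.KnownB.JordanCent.Idx d) K,
      G * U = U * G ↔ CfsgLib.KnownB.UnitJordan.Com (P⁻¹ * G * P) := by
    intro G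
    have hU' : U = P * (1 + CfsgLib.KnownB.JordanCent.shift d K) * P⁻¹ := by
      rw [hPU, Matrix.mul_assoc, Matrix.mul_nonsing_inv P hPd, Matrix.mul_one]
    have e2 : ∀ A B : Matrix (CfsgLib.KnownB.JordanCent.Idx d) (CfsgLib.KnownB.JordanCent.Idx d) K,
        A = B ↔ P⁻¹ * A * P = P⁻¹ * B * P := fun A B => by
      refine ⟨fun h => by rw [h], fun h => ?_⟩
      have := congrArg (fun M => P * M * P⁻¹) h
      simpa only [Matrix.mul_assoc, Matrix.mul_nonsing_inv P hPd, Matrix.mul_one,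
        Matrix.mul_nonsing_inv_cancel_left P _ hPd] using this
    rw [e2, hU', CfsgLib.KnownB.UnitJordan.Com, Commute, SemiconjBy]
    simp only [Matrix.mul_assoc, Matrix.nonsing_inv_mul P hPd, Matrix.mul_one,
      Matrix.nonsing_inv_mul_cancel_left P _ hPd]
    simp only [Matrix.mul_add, Matrix.add_mul, Matrix.mul_one, Matrix.one_mul, add_right_inj,
      Matrix.mul_assoc]
  have hunit : ∀ G : Matrix (CfsgLib.KnownB.JordanCent.Idx d) (CfsgLib.KnownB.JordanCent.Idx d) K,
      CfsgLib.KnownB.UnitJordan.adj σ H (P⁻¹ * G * P) * (P⁻¹ * G * P) = 1 ↔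
        CfsgLib.KnownB.UnitJordan.cT σ G * G = 1 := by
    intro G
    have hcP : IsUnit (CfsgLib.KnownB.UnitJordan.cT σ P).det := by
      rw [CfsgLib.KnownB.UnitJordan.det_cT]; exact hPd.map σ
    have h1 : H * (CfsgLib.KnownB.UnitJordan.adj σ H (P⁻¹ * G * P) * (P⁻¹ * G * P)) =
        CfsgLib.KnownB.UnitJordan.cT σ P * (CfsgLib.KnownB.UnitJordan.cT σ G * G) * P := by
      rw [← Matrix.mul_assoc H, hH.mul_adj, hHdef, CfsgLib.KnownB.UnitJordan.cT_mul,
        CfsgLib.KnownB.UnitJordan.cT_mul]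
      have h2 : CfsgLib.KnownB.UnitJordan.cT σ P⁻¹ * CfsgLib.KnownB.UnitJordan.cT σ P = 1 := by
        rw [← CfsgLib.KnownB.UnitJordan.cT_mul, Matrix.mul_nonsing_inv P hPd,
          CfsgLib.KnownB.UnitJordan.cT_one]
      simp only [Matrix.mul_assoc, Matrix.mul_nonsing_inv_cancel_left P _ hPd]
      rw [← Matrix.mul_assoc (CfsgLib.KnownB.UnitJordan.cT σ P⁻¹), h2, Matrix.one_mul]
    constructor
    · intro hh
      rw [hh, Matrix.mul_one, hHdef] at h1
      have := congrArg (fun M => (CfsgLib.KnownB.UnitJordan.cT σ P)⁻¹ * M * P⁻¹) h1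
      simp only [Matrix.mul_assoc, Matrix.mul_nonsing_inv P hPd, Matrix.mul_one,
        Matrix.nonsing_inv_mul_cancel_left _ _ hcP, Matrix.nonsing_inv_mul _ hcP] at this
      exact this.symm
    · intro hh
      rw [hh, Matrix.mul_one, ← hHdef] at h1
      have := congrArg (H⁻¹ * ·) h1
      simpa only [← Matrix.mul_assoc, Matrix.nonsing_inv_mul H hH.unit_det, Matrix.one_mul] using this
  have hcard : Nat.card ↥(Subgroup.centralizer ({u} : Set ↥(Cfsg.GU n K q))) =
      Nat.card (CfsgLib.KnownB.UnitJordan.Cent σ H) := by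
    have hconj : ∀ M : Matrix (CfsgLib.KnownB.JordanCent.Idx d) (CfsgLib.KnownB.JordanCent.Idx d) K,
        P⁻¹ * (P * M * P⁻¹) * P = M := fun M => by
      simp only [Matrix.mul_assoc, Matrix.nonsing_inv_mul P hPd, Matrix.mul_one,
        Matrix.nonsing_inv_mul_cancel_left P _ hPd]
    have hback : ∀ M : CfsgLib.KnownB.UnitJordan.Cent σ H,
        CfsgLib.KnownB.UnitJordan.cT σ (R.symm (P * M.1 * P⁻¹)) * R.symm (P * M.1 * P⁻¹) = 1 := by
      intro M
      apply R.injective
      rw [map_mul, map_one, ← hR, R.apply_symm_apply]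
      exact (hunit _).1 (by rw [hconj]; exact M.2.2)
    refine Nat.card_congr
      { toFun := fun g => ⟨P⁻¹ * R g.1.1.1 * P, (hcom _).1 ((hcentre g.1).1 g.2), (hunit _).2 (by
          rw [hR, ← map_mul, (hGU _).1 g.1.2, map_one])⟩
        invFun := fun M => ⟨⟨⟨R.symm (P * M.1 * P⁻¹), CfsgLib.KnownB.UnitJordan.cT σ (R.symm (P * M.1 * P⁻¹)),
              mul_eq_one_comm.1 (hback M), hback M⟩, (hGU _).2 (hback M)⟩, (hcentre _).2 (by
            show R (R.symm _) * U = U * R (R.symm _)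
            rw [R.apply_symm_apply, hcom, hconj]; exact M.2.1)⟩
        left_inv := fun g => Subtype.ext (Subtype.ext (Units.ext (by
          show R.symm (P * (P⁻¹ * R g.1.1.1 * P) * P⁻¹) = g.1.1.1
          simp only [Matrix.mul_assoc, Matrix.mul_nonsing_inv P hPd, Matrix.mul_one,
            Matrix.mul_nonsing_inv_cancel_left P _ hPd]
          exact R.symm_apply_apply _)))
        right_inv := fun M => Subtype.ext (by
          show P⁻¹ * R (R.symm (P * M.1 * P⁻¹)) * P = M.1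
          rw [R.apply_symm_apply, hconj]) }
  rw [hcard, CfsgLib.KnownB.UnitJordan.card_cent hσ hK (by omega) hH,
    CfsgLib.KnownB.JordanCent.card_rest d hd]
  push_cast
  congr 1
  refine Finset.prod_congr rfl fun i _ => ?_
  rw [CfsgLib.Classical.card_GU hF, Finset.prod_range]
  push_cast
  congr 1
  refine Finset.prod_congr rfl fun j _ => ?_
  have hpos : 1 ≤ q ^ ((j : ℕ) + 1) := Nat.one_le_pow _ _ (by omega)
  split_ifs with hj
  · rw [pow_succ (-1 : ℤ), hj.neg_one_pow]; push_cast; ring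
  · rw [pow_succ (-1 : ℤ), (Nat.not_even_iff_odd.1 hj).neg_one_pow]
    push_cast [Nat.cast_sub hpos]; ring

end Cfsg.Agent.S2646
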