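import Cfsg.Statements.S2649
import Cfsg.Agent.Lib.KnownB.M23Ext.Modules

set_option autoImplicit false
open Cfsg CfsgLib.KnownB CfsgLib.KnownB.M23Ext

namespace Cfsg.Agent.S2649

/-- Extensions of the Mathieu group M₂₃ by its code module split. Let E be a finite group with a normal subgroup N, an isomorphism φ from E/N onto M₂₃ = `Spor.M23` (the stabiliser of the extra point `none` in M₂₄ acting on the 24 points `GolayPt`), and an injective additive homomorphism ψ from N onto the set of words of the binary Golay code `golayCode` that vanish at `none` (an 11-dimensional space over the field with two elements), such that conjugation by g ∈ E on N corresponds under ψ to the coordinate permutation w ↦ w ∘ σ⁻¹, σ the permutation φ(gN). Then N has a complement in E: some subgroup H meets N trivially and generates E together with N. (Equivalently, the second cohomology group of M₂₃ with coefficients in this module vanishes.) -/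
theorem result
    {E : Type*} [Group E] [Finite E] (N : Subgroup E) [hN : N.Normal]
    (φ : E ⧸ N ≃* ↥Cfsg.Spor.M23)
    (ψ : Additive ↥N →+ (Cfsg.GolayPt → ZMod 2)) (hinj : Function.Injective ψ)
    (hrange : ∀ w : Cfsg.GolayPt → ZMod 2, w ∈ Set.range ψ ↔ (w ∈ Cfsg.golayCode ∧ w none = 0))
    (hψ : ∀ (g : E) (n : ↥N),
      ψ (Additive.ofMul ⟨g * n * g⁻¹, hN.conj_mem n n.2 g⟩)
        = ψ (Additive.ofMul n) ∘ ⇑(((φ (QuotientGroup.mk g) : ↥Cfsg.Spor.M23) : Equiv.Perm Cfsg.GolayPt)⁻¹)) :
    ∃ H : Subgroup E, H ⊓ N = ⊥ ∧ H ⊔ N = ⊤ := by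
  classical
  have hex : ∀ v : M23Cocode.V, ∃ n : ↥N, ψ (Additive.ofMul n) = M23Cocode.emb v := fun v => by
    obtain ⟨n, hn⟩ := (hrange _).2 ⟨M23Cocode.emb_mem v, M23Cocode.emb_none v⟩
    exact ⟨n.toMul, hn⟩
  choose n hn using hex
  let π : E →* G23 := φ.toMonoidHom.comp (QuotientGroup.mk' N)
  have hker : ∀ f, π f = 1 ↔ f ∈ N := fun f => by
    show φ (QuotientGroup.mk f) = 1 ↔ _
    rw [MulEquiv.map_eq_one_iff, QuotientGroup.eq_one_iff]
  let e : Ext codeAct E :=
    { π := π
      surj := φ.surjective.comp (QuotientGroup.mk'_surjective N)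
      ι := fun v => (n v : E)
      ι_add := fun v w => by
        rw [← Subgroup.coe_mul]
        refine congrArg Subtype.val (Additive.ofMul.injective (hinj ?_))
        rw [hn, ofMul_mul, map_add, hn, hn, M23Cocode.emb_add]
      inj := fun v w h => M23Cocode.emb_injective (by rw [← hn, ← hn, Subtype.ext h])
      ker := fun f => by
        rw [hker]
        refine ⟨fun hf => ?_, by rintro ⟨v, rfl⟩; exact (n v).2⟩
        obtain ⟨h1, h2⟩ := (hrange _).1 ⟨Additive.ofMul ⟨f, hf⟩, rfl⟩
        refine ⟨M23Cocode.κ (ψ (Additive.ofMul ⟨f, hf⟩)), ?_⟩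
        have := hn (M23Cocode.κ (ψ (Additive.ofMul ⟨f, hf⟩)))
        rw [M23Cocode.emb_κ h1 h2] at this
        exact congrArg Subtype.val (Additive.ofMul.injective (hinj this))
      conj := fun g v => by
        have h : n (codeAct.A (π g) v) = ⟨g * n v * g⁻¹, hN.conj_mem _ (n v).2 g⟩ := by
          refine Additive.ofMul.injective (hinj ?_)
          rw [hn, hψ, hn]
          exact M23Cocode.emb_act _ v
        show g * (n v : E) = (n (codeAct.A (π g) v) : E) * g
        rw [h, inv_mul_cancel_right] }
  have hN' : e.π.ker = N := Subgroup.ext hker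
  obtain ⟨β, ⟨L⟩⟩ := Cert.exists_lifts code_valid e
  have h := L.splits code_valid fun t => by simp [Cert.uc, code_v0, bz]
  rwa [hN'] at h


end Cfsg.Agent.S2649
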