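import Cfsg.Statements.S2653
import Cfsg.Agent.Lib.AltSection.Main

set_option autoImplicit false
open scoped MatrixGroups
open Cfsg

namespace Cfsg.Agent.S2653

/-- Alternating sections of finite linear groups. Let `F` be a finite field of characteristic `p` and `n` a natural number, and suppose some subgroup `H` of GL_n(F) has a normal subgroup `K` with `H ⧸ K` isomorphic to the alternating group of degree `r ≥ 9`. Then `n ≥ r - 2` when `p` divides `r`, and `n ≥ r - 1` otherwise (the smallest degree of a nontrivial projective representation of that alternating group in characteristic `p`). The same bound follows for every classical group with natural module of dimension `n` over `F`, since each is a section of a subgroup of GL_n(F). -/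
theorem result {F : Type*} [Field F] [Fintype F] (p : ℕ) [Fact p.Prime] [CharP F p]
    (n : ℕ) (r : ℕ) (H : Subgroup (GL (Fin n) F)) (K : Subgroup ↥H) [K.Normal]
    (h : Nonempty (↥H ⧸ K ≃* ↥(alternatingGroup (Fin r)))) (hr : 9 ≤ r) :
    r - 1 - (if p ∣ r then 1 else 0) ≤ n := by
  obtain ⟨iso⟩ := h
  classical
  let k := AlgebraicClosure (ZMod p)
  haveI : CharP k p := charP_of_injective_algebraMap (algebraMap (ZMod p) k).injective p
  letI : Algebra (ZMod p) F := ZMod.algebra F p
  let φ : F →+* k := (IsAlgClosed.lift (R := ZMod p) (S := F) (M := k)).toRingHom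
  let Φ : GL (Fin n) F →* GL (Fin n) k := Units.map φ.mapMatrix.toMonoidHom
  have hΦ : Function.Injective Φ :=
    Units.map_injective (Matrix.map_injective φ.injective)
  let H' : Subgroup (GL (Fin n) k) := H.map Φ
  let e : H ≃* H' := H.equivMapOfInjective Φ hΦ
  haveI : Finite H' := Finite.of_equiv H e.toEquiv
  let π : H' →* Equiv.Perm (Fin r) :=
    (alternatingGroup (Fin r)).subtype.comp
      (iso.toMonoidHom.comp ((QuotientGroup.mk' K).comp e.symm.toMonoidHom))
  let ρ : Representation k H' (Fin n → k) :=
    { toFun := fun g => Matrix.toLinAlgEquiv' (((g : GL (Fin n) k) : Matrix (Fin n) (Fin n) k))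
      map_one' := by simp
      map_mul' := fun g g' => by rw [Subgroup.coe_mul, Units.val_mul, map_mul] }
  have hrange : π.range = alternatingGroup (Fin r) := by
    ext σ
    constructor
    · rintro ⟨g, rfl⟩
      exact (iso ((QuotientGroup.mk' K) (e.symm g))).2
    · intro hσ
      obtain ⟨a, ha⟩ := QuotientGroup.mk_surjective (iso.symm ⟨σ, hσ⟩)
      refine ⟨e a, ?_⟩
      show ((iso (QuotientGroup.mk' K (e.symm (e a)))) : Equiv.Perm (Fin r)) = σ
      rw [e.symm_apply_apply, QuotientGroup.mk'_apply, ha, iso.apply_symm_apply]
  have hker : ∀ g, ρ g = 1 → π g = 1 := by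
    intro g hg
    have h1 : g = 1 := by
      refine Subtype.ext (Units.ext ?_)
      exact (Matrix.toLinAlgEquiv' (R := k)).injective (hg.trans (map_one _).symm)
    rw [h1, map_one]
  exact CfsgLib.AltSection.bound_all n k p (Fin n → k) H' r ρ π hr hrange hker (by simp)

end Cfsg.Agent.S2653
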