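import Cfsg.Statements.S2669
import Cfsg.Agent.Lib.KnownB.Shintani

set_option autoImplicit false
open Cfsg
open CfsgLib.KnownB.Shintani

namespace Cfsg.Agent.S2669

/-- Shintani descent preserves numbers of fixed points on coset spaces (abstract form). Let `σ` be an automorphism of a group `X` and `e ≥ 1`; write `G` for the fixed points of `σᵉ` and `H` for the fixed points of `σ`, and assume `G` is finite. Let `Y` be a `σ`-stable subgroup of `X` on which the maps `a ↦ a σ(a)⁻¹` and `a ↦ a σᵉ(a)⁻¹` are surjective (as for a closed connected `σ`-stable subgroup of an algebraic group). Let `g ∈ G`, let `a ∈ X` satisfy `g = a σ(a)⁻¹` and put `x = σᵉ(a)⁻¹ a` (the Shintani image, an element of `H`). The element `g σ` of the semidirect product acts on the cosets of `Y ∩ G` in `G` by `k (Y ∩ G) ↦ g σ(k) (Y ∩ G)`, fixing that coset exactly when `k⁻¹ g σ(k) ∈ Y`; and `x` fixes the coset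 `h (Y ∩ H)` of `H` exactly when `h⁻¹ x h ∈ Y`. Then the two numbers of fixed cosets agree; in cross-multiplied form, `#{k ∈ G : k⁻¹ g σ(k) ∈ Y} · |Y ∩ H| = #{h ∈ H : h⁻¹ x h ∈ Y} · |Y ∩ G|`. -/
theorem result {X : Type*} [Group X] (σ : MulAut X) (e : ℕ) (he : 1 ≤ e)
    [Finite ↥((MulEquiv.toMonoidHom (σ ^ e)).eqLocus (MonoidHom.id X))]
    (Y : Subgroup X) (hY : ∀ y : X, y ∈ Y ↔ σ y ∈ Y)
    (hYL : ∀ y ∈ Y, ∃ a ∈ Y, y = a * (σ a)⁻¹) (hYLe : ∀ y ∈ Y, ∃ a ∈ Y, y = a * ((σ ^ e) a)⁻¹)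
    (g : X) (hg : g ∈ (MulEquiv.toMonoidHom (σ ^ e)).eqLocus (MonoidHom.id X)) (a : X) (ha : g = a * (σ a)⁻¹) :
    Nat.card {k : ↥((MulEquiv.toMonoidHom (σ ^ e)).eqLocus (MonoidHom.id X)) // (k : X)⁻¹ * g * σ k ∈ Y} *
        Nat.card ↥(Y ⊓ (MulEquiv.toMonoidHom σ).eqLocus (MonoidHom.id X)) =
      Nat.card {h : ↥((MulEquiv.toMonoidHom σ).eqLocus (MonoidHom.id X)) // (h : X)⁻¹ * (((σ ^ e) a)⁻¹ * a) * h ∈ Y} *
        Nat.card ↥(Y ⊓ (MulEquiv.toMonoidHom (σ ^ e)).eqLocus (MonoidHom.id X)) := by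
  subst ha
  rw [mem_fix] at hg
  have hYs : ∀ {y : X}, y ∈ Y → σ y ∈ Y := fun {y} h => (hY y).1 h
  have hYse : ∀ {y : X} (n : ℕ), y ∈ Y → (σ ^ n) y ∈ Y := by
    intro y n h
    induction n with
    | zero => simpa using h
    | succ n ih => rw [pow_succ', MulAut.mul_apply]; exact hYs ih
  set G := (MulEquiv.toMonoidHom (σ ^ e)).eqLocus (MonoidHom.id X) with hG
  set H := (MulEquiv.toMonoidHom σ).eqLocus (MonoidHom.id X) with hH
  set g := a * (σ a)⁻¹ with hgdef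
  set x := ((σ ^ e) a)⁻¹ * a with hxdef
  set P := {p : ↥G × ↥H // (p.1 : X)⁻¹ * a * p.2 ∈ Y} with hP
  -- existence of partners
  have hk : ∀ k : {k : ↥G // (k : X)⁻¹ * g * σ k ∈ Y}, ∃ h : ↥H, ((k : ↥G) : X)⁻¹ * a * h ∈ Y := by
    rintro ⟨k, hk⟩
    obtain ⟨c, hc, heq⟩ := hYL _ hk
    refine ⟨⟨a⁻¹ * k * c, mem_fix.2 ?_⟩, ?_⟩
    · rw [map_mul, map_mul, map_inv]
      calc (σ a)⁻¹ * σ k * σ c = a⁻¹ * k * ((k : X)⁻¹ * g * σ k) * σ c := by rw [hgdef]; group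
        _ = a⁻¹ * k * c := by rw [heq]; group
    · rw [show (k : X)⁻¹ * a * (a⁻¹ * k * c) = c by group]
      exact hc
  have hh : ∀ h : {h : ↥H // (h : X)⁻¹ * x * h ∈ Y}, ∃ k : ↥G, (k : X)⁻¹ * a * ((h : ↥H) : X) ∈ Y := by
    rintro ⟨h, hh⟩
    obtain ⟨d, hd, heq⟩ := hYLe _ (Y.inv_mem hh)
    refine ⟨⟨a * h * d, mem_fix.2 ?_⟩, ?_⟩
    · rw [map_mul, map_mul, fixed_pow σ (mem_fix.1 h.2) e]
      calc (σ ^ e) a * h * (σ ^ e) d = a * h * ((h : X)⁻¹ * x * h)⁻¹ * (σ ^ e) d := by rw [hxdef]; group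
        _ = a * h * d := by rw [heq]; group
    · rw [show ((a : X) * h * d)⁻¹ * a * h = d⁻¹ by group]
      exact Y.inv_mem hd
  have hPk : ∀ p : P, ((p.1.1 : ↥G) : X)⁻¹ * g * σ p.1.1 ∈ Y := by
    rintro ⟨⟨k, h⟩, hp⟩
    have h1 := Y.mul_mem hp (Y.inv_mem (hYs hp))
    rw [map_mul, map_mul, map_inv, mem_fix.1 h.2] at h1
    convert h1 using 1
    rw [hgdef]; group
  have hPh : ∀ p : P, ((p.1.2 : ↥H) : X)⁻¹ * x * p.1.2 ∈ Y := by
    rintro ⟨⟨k, h⟩, hp⟩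
    have h1 := Y.mul_mem (Y.inv_mem (hYse e hp)) hp
    rw [map_mul, map_mul, map_inv, mem_fix.1 k.2, fixed_pow σ (mem_fix.1 h.2) e] at h1
    convert h1 using 1
    rw [hxdef]; group
  choose k0 hk0 using hk
  choose h0 hh0 using hh
  let e1 : P ≃ {k : ↥G // (k : X)⁻¹ * g * σ k ∈ Y} × ↥(Y ⊓ H) :=
    { toFun := fun p => (⟨p.1.1, hPk p⟩, ⟨((k0 ⟨p.1.1, hPk p⟩ : ↥H) : X)⁻¹ * p.1.2, by
        refine ⟨show _ ∈ Y from ?_, H.mul_mem (H.inv_mem (k0 _).2) p.1.2.2⟩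
        have := Y.mul_mem (Y.inv_mem (hk0 ⟨p.1.1, hPk p⟩)) p.2
        convert this using 1; group⟩)
      invFun := fun q => ⟨(q.1.1, k0 q.1 * ⟨q.2.1, q.2.2.2⟩), by
        have := Y.mul_mem (hk0 q.1) q.2.2.1
        simpa [mul_assoc] using this⟩
      left_inv := fun p => by
        ext <;> simp
      right_inv := fun q => by
        ext <;> simp }
  let e2 : P ≃ {h : ↥H // (h : X)⁻¹ * x * h ∈ Y} × ↥(Y ⊓ G) :=
    { toFun := fun p => (⟨p.1.2, hPh p⟩, ⟨(p.1.1 : X)⁻¹ * (h0 ⟨p.1.2, hPh p⟩ : ↥G), by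
        refine ⟨show _ ∈ Y from ?_, G.mul_mem (G.inv_mem p.1.1.2) (h0 _).2⟩
        have := Y.mul_mem p.2 (Y.inv_mem (hh0 ⟨p.1.2, hPh p⟩))
        convert this using 1; group⟩)
      invFun := fun q => ⟨(h0 q.1 * ⟨q.2.1, q.2.2.2⟩⁻¹, q.1.1), by
        have := Y.mul_mem q.2.2.1 (hh0 q.1)
        simpa [mul_assoc] using this⟩
      left_inv := fun p => by
        ext <;> simp
      right_inv := fun q => by
        ext <;> simp }
  rw [← Nat.card_prod, ← Nat.card_prod, ← Nat.card_congr e1, ← Nat.card_congr e2]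

end Cfsg.Agent.S2669
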