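import Cfsg.Statements.S2671
import Cfsg.Agent.Lib.KnownB.PrimeCount
import Cfsg.Agent.Lib.KnownB.PSUAut.Field

set_option autoImplicit false
open Cfsg

set_option linter.style.haveILetI false

namespace Cfsg.Agent.S2671

/-- Number of conjugacy classes of elements of odd prime order r in the general unitary group GU_n(q), for r not dividing q(q + 1): let i be the multiplicative order of q modulo r, b = i if i is odd and b = i/2 if i is even, and s = (r − 1)/b. If i ≢ 2 (mod 4) the eigenvalue orbits pair off into dual pairs of totally isotropic blocks and there are C(⌊n/(2b)⌋ + s/2, s/2) − 1 classes; if i ≡ 2 (mod 4) each orbit gives a non-degenerate block of dimension i/2 and there are C(⌊2n/i⌋ + s, s) − 1 classes. -/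
theorem result {K : Type*} [Field K] [Fintype K] {p q n r i b s : ℕ} [Fact p.Prime] [CharP K p] (hK : Fintype.card K = q ^ 2) (hr : r.Prime) (hr2 : r ≠ 2) (hrp : r ≠ p) (hi : i = orderOf (q : ZMod r)) (hi2 : i ≠ 2) (hb : b = if Odd i then i else i / 2) (hs : s * b = r - 1) : Nat.card {C : ConjClasses ↥(Cfsg.GU n K q) // ∃ g : ↥(Cfsg.GU n K q), ConjClasses.mk g = C ∧ orderOf g = r} = if i % 4 = 2 then Nat.choose (2 * n / i + s) s - 1 else Nat.choose (n / (2 * b) + s / 2) (s / 2) - 1 := by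
  classical
  haveI : Fact r.Prime := ⟨hr⟩
  have hrF : (r : K) ≠ 0 := by
    rw [Ne, CharP.cast_eq_zero_iff K p, Nat.prime_dvd_prime_iff_eq Fact.out hr]
    exact Ne.symm hrp
  obtain ⟨e, he⟩ : ∃ e, q = p ^ e := by
    obtain ⟨k, hp, hk⟩ := FiniteField.card K p
    rw [hK] at hk
    obtain ⟨e, -, he⟩ := (Nat.dvd_prime_pow hp).1 (hk ▸ dvd_pow_self q two_ne_zero : q ∣ p ^ (k : ℕ))
    exact ⟨e, he⟩
  have hb0 : 0 < b := by
    rcases Nat.eq_zero_or_pos b with h | h
    · rw [h, mul_zero] at hs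
      have := hr.two_le
      omega
    · exact h
  have hi0 : 0 < i := by
    rcases Nat.eq_zero_or_pos i with h | h
    · rw [h] at hb
      simp at hb
      omega
    · exact h
  have hbo : b = orderOf ((Fintype.card K : ℕ) : ZMod r) := by
    rw [hK, Nat.cast_pow, hb, orderOf_pow' _ two_ne_zero, ← hi]
    rcases Nat.even_or_odd i with hev | hodd
    · rw [if_neg (Nat.not_odd_iff_even.2 hev), Nat.gcd_eq_right hev.two_dvd]
    · rw [if_pos hodd, Nat.coprime_iff_gcd_eq_one.1 (Nat.coprime_two_right.2 hodd), Nat.div_one]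
  have hK' : Nat.card K = q ^ 2 := by rw [Nat.card_eq_fintype_card, hK]
  obtain ⟨σ, hσq, hσ, hσ2⟩ := CfsgLib.Classical.exists_frob hK'
  have hmem := fun g => CfsgLib.KnownB.UnitaryConj.mem_GU_iff_adj (n := n) hσ2 hσq g
  have hP : (CfsgLib.KnownB.PrimeOrder.factors K r).card = s :=
    Nat.eq_of_mul_eq_mul_right hb0 (by rw [hs]; exact hbo ▸ CfsgLib.KnownB.PrimeOrder.card_factors hrF)
  have hiff : (∃ k : ℕ, ((Fintype.card K : ℕ) : ZMod r) ^ k = -(q : ZMod r)) ↔ i % 4 = 2 := by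
    rw [hK, Nat.cast_pow]
    have hx : (q : ZMod r) ^ i = 1 := hi ▸ pow_orderOf_eq_one _
    have hord : ∀ k : ℕ, (q : ZMod r) ^ k = 1 → i ∣ k := fun k h => by rw [hi]; exact orderOf_dvd_of_pow_eq_one h
    have hneg := CfsgLib.KnownB.PrimeCharpoly.neg_one_mem_powers_iff hr2 hi hi0
    constructor
    · rintro ⟨k, hk⟩
      have h1 : (q : ZMod r) ^ (2 * k + (i - 1)) = -1 := by
        rw [pow_add, pow_mul, hk, neg_mul, ← pow_succ', show i - 1 + 1 = i by omega, hx]
      obtain ⟨l, hl⟩ := hneg.1 ⟨_, h1⟩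
      rcases Nat.even_or_odd l with ⟨l', hl'⟩ | ⟨l', hl'⟩
      · exfalso
        have hhalf : (q : ZMod r) ^ l = -1 := by
          have h2 : (q : ZMod r) ^ l * (q : ZMod r) ^ l = 1 := by rw [← pow_add, ← hl, hx]
          refine (mul_self_eq_one_iff.1 h2).resolve_left fun h3 => ?_
          have h4 := Nat.le_of_dvd (by omega) (hord _ h3)
          omega
        have h5 : (q : ZMod r) ^ (2 * k + (i - 1) + l) = 1 := by rw [pow_add, h1, hhalf, neg_mul_neg, one_mul]
        have h6 : 2 ∣ 2 * k + (i - 1) + l :=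
          (show 2 ∣ i from ⟨l, by omega⟩).trans (hord _ h5)
        obtain ⟨c, hc⟩ := h6
        omega
      · omega
    · intro h4
      obtain ⟨l, hl⟩ : ∃ l, i = 2 * (2 * l + 1) := ⟨i / 4, by omega⟩
      have h2 : (q : ZMod r) ^ (2 * l + 1) * (q : ZMod r) ^ (2 * l + 1) = 1 := by rw [← pow_add, ← two_mul, ← hl, hx]
      have hhalf := (mul_self_eq_one_iff.1 h2).resolve_left fun h3 => by
        have h7 := Nat.le_of_dvd (by omega) (hord _ h3)
        omega
      refine ⟨l + 1, ?_⟩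
      rw [← pow_mul, show 2 * (l + 1) = 2 * l + 1 + 1 by ring, pow_succ, hhalf, neg_one_mul]
  obtain ⟨h1, h2⟩ := CfsgLib.KnownB.PrimeCharpoly.card_adm (r := r) hσ2 hrF p e he hσq (N := n) hb0
  rw [CfsgLib.KnownB.PrimeCharpoly.card_classes_of_adm (Cfsg.GU n K q).subtype (Subgroup.subtype_injective _) p hrF hbo
    (fun μ => ∀ Q, μ (CfsgLib.KnownB.PrimeCharpoly.starF (σ := σ) hσ2 hr.ne_zero Q) = μ Q) ?_ ?_ ?_, Fintype.card_fin]
  · split_ifs with h4
    · have hbi : i = 2 * b := by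
        rw [hb, if_neg (Nat.not_odd_iff_even.2 (Nat.even_iff.2 (by omega)))]
        omega
      rw [h1 (hiff.2 h4), hP, hbi, Nat.mul_div_mul_left n b (by norm_num : 0 < 2)]
    · rw [h2 (fun h => h4 (hiff.1 h)), hP]
  · intro a c _ _ hac
    obtain ⟨g, hg⟩ := hac
    obtain ⟨u, hu, huc⟩ := CfsgLib.KnownB.UnitaryConj.exists_unitary_conjugator hσ hσ2 ((hmem _).1 a.2)
      ((hmem _).1 c.2) (h := g) (Units.ext hg.eq)
    exact isConj_iff.2 ⟨⟨u, (hmem u).2 hu⟩, mul_inv_eq_iff_eq_mul.2 (Subtype.ext huc)⟩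
  · intro a μ _ _ hc
    refine (CfsgLib.KnownB.PrimeCharpoly.selfDual_poly_iff hσ2 (Fintype.card (Fin n)) b μ).1 ?_
    rw [← hc]
    exact CfsgLib.KnownB.UnitaryCharpoly.selfDual_charpoly ((hmem _).1 a.2)
  · intro μ hμ hA
    rw [Fintype.card_fin] at hμ ⊢
    obtain ⟨g, hg, hgp, hgc⟩ := CfsgLib.KnownB.UnitaryCharpoly.exists_unitary p hσ hσ2
      (CfsgLib.KnownB.PrimeCharpoly.monic_poly hr.ne_zero n b μ)
      (CfsgLib.KnownB.PrimeCharpoly.natDegree_poly hrF hbo hμ)
      (CfsgLib.KnownB.PrimeCharpoly.poly_coeff_zero_ne hr.ne_zero n b μ)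
      ((CfsgLib.KnownB.PrimeCharpoly.selfDual_poly_iff hσ2 n b μ).2 hA)
    exact ⟨⟨g, (hmem g).2 hg⟩, hgc, hgp⟩

end Cfsg.Agent.S2671
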