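import Cfsg.Statements.S2672
import Cfsg.Agent.Lib.KnownB.ProjPrimeCount
import Cfsg.Agent.Lib.KnownB.UnitaryConj
import Cfsg.Agent.Lib.KnownB.PSUAut.Field

set_option autoImplicit false
open Cfsg

set_option linter.style.haveILetI false

namespace Cfsg.Agent.S2672

/-- Number of conjugacy classes of elements of odd prime order r in PGU_n(q) = GU_n(q)/scalars (n ≥ 3) when r divides q + 1: as in the linear case with q − 1 replaced by q + 1, the classes correspond to the rotation orbits on r-tuples of eigenvalue multiplicities summing to n with every entry < n, plus r − 1 further classes when r divides n; in all (C(n+r−1, r−1) − r − [r ∣ n])/r + r·[r ∣ n]. -/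
theorem result {K : Type*} [Field K] [Fintype K] {q n r : ℕ} (hK : Fintype.card K = q ^ 2) (hn : 3 ≤ n) (hr : r.Prime) (hr2 : r ≠ 2) (hrq : r ∣ q + 1) : Nat.card {C : ConjClasses (↥(Cfsg.GU n K q) ⧸ Subgroup.center ↥(Cfsg.GU n K q)) // ∃ g : ↥(Cfsg.GU n K q) ⧸ Subgroup.center ↥(Cfsg.GU n K q), ConjClasses.mk g = C ∧ orderOf g = r} = (Nat.choose (n + r - 1) (r - 1) - r - (if r ∣ n then 1 else 0)) / r + r * (if r ∣ n then 1 else 0) := by
  classical
  obtain ⟨p, hc⟩ := CharP.exists K
  have hp : p.Prime := CharP.char_is_prime K p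
  haveI := Fact.mk hp
  have hq0 : 1 < q := by
    by_contra h
    have h1 := Fintype.one_lt_card (α := K)
    rw [hK] at h1
    interval_cases q <;> simp at h1
  have hqr : q ^ 2 - 1 = (q + 1) * (q - 1) := by rw [← Nat.sq_sub_sq, one_pow]
  have hK' : Nat.card K = q ^ 2 := by rw [Nat.card_eq_fintype_card, hK]
  obtain ⟨σ, hσq, hσ, hσ2⟩ := CfsgLib.Classical.exists_frob hK'
  have hmem := fun g => CfsgLib.KnownB.UnitaryConj.mem_GU_iff_adj (n := n) hσ2 hσq g
  let Λ : Subgroup Kˣ := MonoidHom.ker (powMonoidHom (q + 1) : Kˣ →* Kˣ)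
  have hΛ : ∀ (a : Λ), σ ((a : Kˣ) : K) * ((a : Kˣ) : K) = 1 := fun a => by
    have h := congrArg Units.val (show (a : Kˣ) ^ (q + 1) = 1 from a.2)
    rw [Units.val_pow_eq_pow_val, Units.val_one] at h
    rw [hσq, ← pow_succ, h]
  have hcardK : Nat.card Kˣ = (q + 1) * (q - 1) := by rw [Nat.card_eq_fintype_card, Fintype.card_units, hK, hqr]
  have hΛcard : Nat.card Λ = q + 1 := by
    rw [IsCyclic.card_powMonoidHom_ker, hcardK]
    exact Nat.gcd_eq_right (dvd_mul_right _ _)
  have hcop : r.Coprime (q - 1) := hr.coprime_iff_not_dvd.2 fun h => hr2 ((Nat.prime_dvd_prime_iff_eq hr Nat.prime_two).1 (by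
    have h2 := Nat.dvd_sub hrq h
    rwa [show q + 1 - (q - 1) = 2 by omega] at h2))
  have D : CfsgLib.KnownB.ProjPrime.Data (G := ↥(Cfsg.GU n K q)) (Cfsg.GU n K q).subtype Λ.subtype r p := by
    refine ⟨hp, hc, hr, ?_, by omega, Subgroup.subtype_injective _, Subgroup.subtype_injective _, inferInstance,
      hΛcard ▸ hrq, ?_, ?_, ?_, ?_, ?_⟩
    · intro h0
      obtain ⟨k, -, hk⟩ := FiniteField.card K p
      have hpr : p = r := (Nat.prime_dvd_prime_iff_eq hp hr).1 ((CharP.cast_eq_zero_iff K p r).1 h0)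
      have h1 : p ∣ q ^ 2 := hK ▸ hk ▸ dvd_pow_self p k.ne_zero
      have h2 := Nat.dvd_sub (hpr ▸ hrq : p ∣ q + 1) (hp.dvd_of_dvd_pow h1)
      rw [show q + 1 - q = 1 by omega] at h2
      exact hp.one_lt.ne' (Nat.dvd_one.1 h2)
    · intro f
      refine ⟨⟨Matrix.GeneralLinearGroup.mkOfDetNeZero (Matrix.diagonal fun i => ((f i : Kˣ) : K))
        (by rw [Matrix.det_diagonal]; exact Finset.prod_ne_zero_iff.2 fun i _ => (f i : Kˣ).ne_zero), (hmem _).2 ?_⟩, rfl⟩
      show CfsgLib.KnownB.UnitaryConj.adj σ (Matrix.diagonal fun i => ((f i : Kˣ) : K)) *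
        Matrix.diagonal (fun i => ((f i : Kˣ) : K)) = 1
      rw [CfsgLib.KnownB.UnitaryConj.adj, Matrix.diagonal_map (map_zero σ), Matrix.diagonal_transpose,
        Matrix.diagonal_mul_diagonal, ← Matrix.diagonal_one]
      exact congrArg Matrix.diagonal (funext fun i => hΛ (f i))
    · intro π
      refine ⟨⟨Matrix.GeneralLinearGroup.mkOfDetNeZero (π.permMatrix K)
        (by rw [Matrix.det_permutation]; rcases Int.units_eq_one_or (Equiv.Perm.sign π) with h | h <;> simp [h]), (hmem _).2 ?_⟩, rfl⟩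
      show CfsgLib.KnownB.UnitaryConj.adj σ (π.permMatrix K) * π.permMatrix K = 1
      have hmap : (π.permMatrix K).map σ = π.permMatrix K := by
        ext i k
        simp only [Matrix.map_apply, Equiv.Perm.permMatrix, PEquiv.toMatrix_apply]
        split_ifs <;> simp
      rw [CfsgLib.KnownB.UnitaryConj.adj, hmap, Matrix.transpose_permMatrix, ← Matrix.permMatrix_mul, mul_inv_cancel,
        Matrix.permMatrix_one]
    · intro g c hg
      have h1 := (hmem _).1 g.2
      rw [show ((g : GL (Fin n) K) : Matrix (Fin n) (Fin n) K) = c • 1 from hg, CfsgLib.KnownB.UnitaryConj.adj_smul,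
        (CfsgLib.KnownB.UnitaryConj.isInvol_adj hσ2).map_one, smul_mul_smul_comm, one_mul] at h1
      have h2 := congrFun (congrFun h1 ⟨0, by omega⟩) ⟨0, by omega⟩
      simp only [Matrix.smul_apply, Matrix.one_apply_eq, smul_eq_mul, mul_one] at h2
      refine ⟨⟨Units.mk0 c (right_ne_zero_of_mul_eq_one h2), ?_⟩, rfl⟩
      show (Units.mk0 c _) ^ (q + 1) = 1
      refine Units.ext ?_
      rw [Units.val_pow_eq_pow_val, Units.val_mk0, Units.val_one, pow_succ, ← hσq]
      exact h2
    · intro a b hb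
      change b ^ r = ((a : Kˣ) : K) at hb
      have hb0 : b ≠ 0 := fun h => (a : Kˣ).ne_zero (by rw [← hb, h, zero_pow hr.ne_zero])
      refine ⟨⟨Units.mk0 b hb0, ?_⟩, Subtype.ext (Units.ext (by simpa using hb))⟩
      show (Units.mk0 b hb0) ^ (q + 1) = 1
      refine orderOf_eq_one_iff.1 (Nat.eq_one_of_dvd_coprimes hcop (orderOf_dvd_of_pow_eq_one ?_)
        (orderOf_dvd_of_pow_eq_one ?_))
      · refine Units.ext ?_
        have h := congrArg Units.val (show (a : Kˣ) ^ (q + 1) = 1 from a.2)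
        rw [Units.val_pow_eq_pow_val, Units.val_one] at h
        rw [Units.val_pow_eq_pow_val, Units.val_pow_eq_pow_val, Units.val_mk0, Units.val_one, ← pow_mul, mul_comm,
          pow_mul, hb, h]
      · rw [← pow_mul, ← hcardK]
        exact pow_card_eq_one'
    · intro a b _ _ h
      obtain ⟨g, hg⟩ := isConj_iff.1 h
      obtain ⟨u, hu, huc⟩ := CfsgLib.KnownB.UnitaryConj.exists_unitary_conjugator hσ hσ2 ((hmem _).1 a.2)
        ((hmem _).1 b.2) (h := g) (mul_inv_eq_iff_eq_mul.1 hg)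
      exact isConj_iff.2 ⟨⟨u, (hmem u).2 hu⟩, mul_inv_eq_iff_eq_mul.2 (Subtype.ext huc)⟩
  exact D.card_classes

end Cfsg.Agent.S2672
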