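import Cfsg.Statements.S2673
import Cfsg.Agent.Lib.KnownB.OrthCount

set_option autoImplicit false
open Cfsg

set_option linter.style.haveILetI false

namespace Cfsg.Agent.S2673

/-- Number of conjugacy classes of elements of odd prime order r ≠ p in the orthogonal group O_(2m+1)(q) of x_0² + Σ x_j y_j, q odd: with i the multiplicative order of q mod r and t = (r − 1)/i, there are C(⌊m/i⌋ + t/2, t/2) − 1 classes if i is odd (dual pairs of totally singular i-blocks) and C(⌊(2m+1)/i⌋ + t, t) − 1 if i is even (elliptic i-blocks). -/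
theorem result {F : Type*} [Field F] [Fintype F] {p q : ℕ} [Fact p.Prime] [CharP F p] (hF : Fintype.card F = q) (hq : Odd q) (m r i t : ℕ) (hr : r.Prime) (hr2 : r ≠ 2) (hrp : r ≠ p) (hi : i = orderOf (q : ZMod r)) (ht : t * i = r - 1) : Nat.card {C : ConjClasses ↥(Cfsg.isometryGroup F (Cfsg.quadFormOdd m F)) // ∃ g : ↥(Cfsg.isometryGroup F (Cfsg.quadFormOdd m F)), ConjClasses.mk g = C ∧ orderOf g = r} = if Odd i then Nat.choose (m / i + t / 2) (t / 2) - 1 else Nat.choose ((2 * m + 1) / i + t) t - 1 := by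
  classical
  haveI : Fact r.Prime := ⟨hr⟩
  have hrF : (r : F) ≠ 0 := by
    rw [Ne, CharP.cast_eq_zero_iff F p, Nat.prime_dvd_prime_iff_eq Fact.out hr]
    exact Ne.symm hrp
  have h2 : (2 : F) ≠ 0 := CfsgLib.Geometry.two_ne_zero_of_odd_card hF hq
  subst hF
  have hi0 : 0 < i := by
    rcases Nat.eq_zero_or_pos i with h | h
    · rw [h, mul_zero] at ht
      have := hr.two_le
      omega
    · exact h
  let R : Matrix (Unit ⊕ (Fin m ⊕ Fin m)) (Unit ⊕ (Fin m ⊕ Fin m)) F :=
    Matrix.fromBlocks 1 0 0 (CfsgLib.Geometry.plusMat m F)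
  have hco : ⇑(CfsgLib.Geometry.matQuad R) = Cfsg.quadFormOdd m F := by
    funext v
    simp [R, CfsgLib.Geometry.matQuad_apply, CfsgLib.Geometry.plusMat, dotProduct, Cfsg.quadFormOdd,
      Matrix.fromBlocks_mulVec]
    ring
  have hR : (R + R.transpose).det ≠ 0 := by
    simp only [R]
    rw [Matrix.fromBlocks_transpose, Matrix.fromBlocks_add, Matrix.transpose_zero, add_zero,
      Matrix.transpose_zero, add_zero, Matrix.det_fromBlocks_zero₁₂, Matrix.transpose_one]
    refine mul_ne_zero ?_ (CfsgLib.KnownB.OrthPrime.nondeg_plus m)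
    rw [Matrix.det_unique]
    show (1 : F) + 1 ≠ 0
    rwa [one_add_one_eq_two]
  rw [← hco, CfsgLib.KnownB.OrthPrime.card_classes_odd p h2 hrF hr2 hi hi0 _
    (CfsgLib.Geometry.nondegenerate_matQuad hR) (m := m) (by simp; omega),
    CfsgLib.KnownB.PrimeCharpoly.card_adm_id p hrF hr2 hi hi0 _ ht]
  by_cases ho : Odd i
  · simp only [if_pos ho]
    rw [show (2 * m + 1) / 2 = m by omega]
  · simp only [if_neg ho]

end Cfsg.Agent.S2673
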