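import Cfsg.Statements.S2674
import Cfsg.Agent.Lib.KnownB.OrthCount

set_option autoImplicit false
open Cfsg

set_option linter.style.haveILetI false

namespace Cfsg.Agent.S2674

/-- Number of conjugacy classes of elements of odd prime order r ≠ p in the orthogonal group O⁺_2m(q) of Σ x_j y_j (m ≥ 1): with i the multiplicative order of q mod r and t = (r − 1)/i — if i is odd, C(⌊m/i⌋ + t/2, t/2) − 1; if i is even, C(⌊2m/i⌋ + t, t) − 1 minus, when i divides 2m with odd quotient, the C(2m/i + t − 1, t − 1) tuples using the whole space (an odd number of elliptic i-blocks fills an elliptic, not a hyperbolic, space). -/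
theorem result {F : Type*} [Field F] [Fintype F] {p q : ℕ} [Fact p.Prime] [CharP F p] (hF : Fintype.card F = q) (m r i t : ℕ) (hm : 1 ≤ m) (hr : r.Prime) (hr2 : r ≠ 2) (hrp : r ≠ p) (hi : i = orderOf (q : ZMod r)) (ht : t * i = r - 1) : Nat.card {C : ConjClasses ↥(Cfsg.isometryGroup F (Cfsg.quadFormPlus m F)) // ∃ g : ↥(Cfsg.isometryGroup F (Cfsg.quadFormPlus m F)), ConjClasses.mk g = C ∧ orderOf g = r} = if Odd i then Nat.choose (m / i + t / 2) (t / 2) - 1 else Nat.choose (2 * m / i + t) t - 1 - (if i ∣ 2 * m ∧ Odd (2 * m / i) then Nat.choose (2 * m / i + t - 1) (t - 1) else 0) := by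
  classical
  haveI : Fact r.Prime := ⟨hr⟩
  have hrF : (r : F) ≠ 0 := by
    rw [Ne, CharP.cast_eq_zero_iff F p, Nat.prime_dvd_prime_iff_eq Fact.out hr]
    exact Ne.symm hrp
  subst hF
  have hi0 : 0 < i := by
    rcases Nat.eq_zero_or_pos i with h | h
    · rw [h, mul_zero] at ht
      have := hr.two_le
      omega
    · exact h
  obtain ⟨l, rfl⟩ : ∃ l, m = l + 1 := ⟨m - 1, by omega⟩
  haveI : Fact (2 < r) := ⟨lt_of_le_of_ne hr.two_le (Ne.symm hr2)⟩
  obtain ⟨hodd, heven⟩ := CfsgLib.KnownB.OrthPrime.pow_half hr2 hi hi0 (m := l + 1)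
  rw [← CfsgLib.Geometry.coe_matQuad_plus, CfsgLib.KnownB.OrthPrime.card_classes_even p hrF hr2 hi hi0 _
    (CfsgLib.Geometry.nondegenerate_matQuad (CfsgLib.KnownB.OrthPrime.nondeg_plus (l + 1))) (m := l)
    (by simp; omega) (δ := 1) (Or.inl rfl)
    (by rw [CfsgLib.Geometry.coe_matQuad_plus]; exact CfsgLib.KnownB.OrthPrime.hasType_plus (l + 1)),
    CfsgLib.KnownB.OrthPrime.card_cond hi0, CfsgLib.KnownB.PrimeCharpoly.card_adm_id p hrF hr2 hi hi0 _ ht,
    CfsgLib.KnownB.OrthPrime.card_full p hrF hr2 hi hi0 (l + 1) ht, Int.cast_one,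
    Nat.mul_div_cancel_left (l + 1) (by norm_num : 0 < 2)]
  by_cases ho : Odd i
  · simp only [if_pos ho]
    by_cases hd : i ∣ l + 1
    · rw [if_pos (hodd ho hd), Nat.sub_zero]
    · simp [if_neg hd]
  · simp only [if_neg ho]
    by_cases hd : i ∣ 2 * (l + 1)
    · rcases Nat.even_or_odd (2 * (l + 1) / i) with he | he
      · rw [if_pos (show ((Fintype.card F : ℕ) : ZMod r) ^ (l + 1) = 1 by rw [heven ho hd, he.neg_one_pow]), Nat.sub_zero,
          if_neg (fun h => Nat.not_odd_iff_even.2 he h.2), Nat.sub_zero]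
      · rw [if_neg (show ¬ ((Fintype.card F : ℕ) : ZMod r) ^ (l + 1) = 1 by
            rw [heven ho hd, he.neg_one_pow]; exact ZMod.neg_one_ne_one), if_pos hd, if_pos ⟨hd, he⟩]
        omega
    · simp [if_neg hd, show ¬ (i ∣ 2 * (l + 1) ∧ Odd (2 * (l + 1) / i)) from fun h => hd h.1]

end Cfsg.Agent.S2674
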