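import Cfsg.Statements.S2675
import Cfsg.Agent.Lib.KnownB.OrthCount

set_option autoImplicit false
open Cfsg

set_option linter.style.haveILetI false

namespace Cfsg.Agent.S2675

/-- Number of conjugacy classes of elements of odd prime order r ≠ p in the orthogonal group O⁻_2m(q) of an elliptic form Σ_(j<m−1) x_j y_j + z₁² + a z₁z₂ + c z₂² (binary part anisotropic, m ≥ 1): with i the multiplicative order of q mod r and t = (r − 1)/i — if i is odd, C(⌊m/i⌋ + t/2, t/2) − 1 minus, when i divides m, the C(m/i + t/2 − 1, t/2 − 1) tuples filling the whole space (dual pairs of totally singular blocks fill a hyperbolic space); if i is even, C(⌊2m/i⌋ + t, t) − 1 minus, when i divides 2m with even quotient, the C(2m/i + t − 1, t − 1) tuples filling the whole space with an even number of elliptic blocks. -/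
theorem result {F : Type*} [Field F] [Fintype F] {p q : ℕ} [Fact p.Prime] [CharP F p] (hF : Fintype.card F = q) (m r i t : ℕ) (hm : 1 ≤ m) (a c : F) (hac : ∀ z₁ z₂ : F, z₁ ^ 2 + a * z₁ * z₂ + c * z₂ ^ 2 = 0 → z₁ = 0 ∧ z₂ = 0) (hr : r.Prime) (hr2 : r ≠ 2) (hrp : r ≠ p) (hi : i = orderOf (q : ZMod r)) (ht : t * i = r - 1) : Nat.card {C : ConjClasses ↥(Cfsg.isometryGroup F (Cfsg.quadFormMinus (m - 1) F a c)) // ∃ g : ↥(Cfsg.isometryGroup F (Cfsg.quadFormMinus (m - 1) F a c)), ConjClasses.mk g = C ∧ orderOf g = r} = if Odd i then Nat.choose (m / i + t / 2) (t / 2) - 1 - (if i ∣ m then Nat.choose (m / i + t / 2 - 1) (t / 2 - 1) else 0) else Nat.choose (2 * m / i + t) t - 1 - (if i ∣ 2 * m ∧ Even (2 * m / i) then Nat.choose (2 * m / i + t - 1) (t - 1) else 0) := by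
  classical
  haveI : Fact r.Prime := ⟨hr⟩
  have hrF : (r : F) ≠ 0 := by
    rw [Ne, CharP.cast_eq_zero_iff F p, Nat.prime_dvd_prime_iff_eq Fact.out hr]
    exact Ne.symm hrp
  subst hF
  have hi0 : 0 < i := by
    rcases Nat.eq_zero_or_pos i with h | h
    · rw [h, mul_zero] at ht
      have := hr.two_le
      omega
    · exact h
  obtain ⟨l, rfl⟩ : ∃ l, m = l + 1 := ⟨m - 1, by omega⟩
  haveI : Fact (2 < r) := ⟨lt_of_le_of_ne hr.two_le (Ne.symm hr2)⟩
  obtain ⟨hodd, heven⟩ := CfsgLib.KnownB.OrthPrime.pow_half hr2 hi hi0 (m := l + 1)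
  rw [Nat.add_sub_cancel, ← CfsgLib.Geometry.coe_matQuad_minus, CfsgLib.KnownB.OrthPrime.card_classes_even p hrF hr2 hi hi0 _
    (CfsgLib.Geometry.nondegenerate_matQuad (CfsgLib.KnownB.OrthPrime.nondeg_minus (k := l) hac)) (m := l)
    (by simp; omega) (δ := -1) (Or.inr rfl)
    (by rw [CfsgLib.Geometry.coe_matQuad_minus]; exact CfsgLib.KnownB.OrthPrime.hasType_minus l hac),
    CfsgLib.KnownB.OrthPrime.card_cond hi0, CfsgLib.KnownB.PrimeCharpoly.card_adm_id p hrF hr2 hi hi0 _ ht,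
    CfsgLib.KnownB.OrthPrime.card_full p hrF hr2 hi hi0 (l + 1) ht, Int.cast_neg, Int.cast_one,
    Nat.mul_div_cancel_left (l + 1) (by norm_num : 0 < 2)]
  by_cases ho : Odd i
  · simp only [if_pos ho]
    by_cases hd : i ∣ l + 1
    · rw [if_neg (show ¬ ((Fintype.card F : ℕ) : ZMod r) ^ (l + 1) = -1 by
        rw [hodd ho hd]; exact Ne.symm ZMod.neg_one_ne_one)]
      omega
    · simp [if_neg hd]
  · simp only [if_neg ho]
    by_cases hd : i ∣ 2 * (l + 1)
    · rcases Nat.even_or_odd (2 * (l + 1) / i) with he | he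
      · rw [if_neg (show ¬ ((Fintype.card F : ℕ) : ZMod r) ^ (l + 1) = -1 by
            rw [heven ho hd, he.neg_one_pow]; exact Ne.symm ZMod.neg_one_ne_one), if_pos hd, if_pos ⟨hd, he⟩]
        omega
      · rw [if_pos (show ((Fintype.card F : ℕ) : ZMod r) ^ (l + 1) = -1 by rw [heven ho hd, he.neg_one_pow]), Nat.sub_zero,
          if_neg (fun h => Nat.not_even_iff_odd.2 he h.2), Nat.sub_zero]
    · simp [if_neg hd, show ¬ (i ∣ 2 * (l + 1) ∧ Even (2 * (l + 1) / i)) from fun h => hd h.1]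

end Cfsg.Agent.S2675
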