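import Cfsg.Statements.S2677
import Cfsg.Agent.Lib.KnownB.PSUAut.Field
-- import your own Cfsg.Agent.* helpers here

set_option autoImplicit false
open Cfsg
open Matrix CfsgLib.Classical CfsgLib.Classical.Unitary CfsgLib.KnownB.PSUAut

set_option maxHeartbeats 1000000

namespace Cfsg.Agent.S2677

/-- Centraliser of a field automorphism of odd prime order in PGU_n(q): let q = q₀^r with r an odd prime, K the field with q² elements and σ a field automorphism of K of order r (fixed field of order q₀²). The elements g of GU_n(q) whose entrywise image under σ is a scalar multiple of g — those whose coset modulo the q + 1 unitary scalars is fixed by σ — number (q + 1)/(q₀ + 1) · |GU_n(q₀)|; equivalently the centraliser in PGU_n(q) of the induced automorphism has the order of PGU_n(q₀). -/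
theorem result {K : Type*} [Field K] [Fintype K] {q₀ q r n : ℕ} (hr : r.Prime) (hr2 : r ≠ 2) (hn : 1 ≤ n) (hq : q = q₀ ^ r) (hK : Fintype.card K = q ^ 2) (σ : K ≃+* K) (hσ : orderOf σ = r) : (Nat.card {g : ↥(Cfsg.GU n K q) // ∃ c : K, c ≠ 0 ∧ ((g : GL (Fin n) K) : Matrix (Fin n) (Fin n) K).map σ = c • ((g : GL (Fin n) K) : Matrix (Fin n) (Fin n) K)} : ℤ) = ((q + 1) / (q₀ + 1) : ℕ) * ((q₀ : ℤ) ^ (n * (n - 1) / 2) * ∏ i : Fin n, ((q₀ : ℤ) ^ ((i : ℕ) + 1) - (-1) ^ ((i : ℕ) + 1))) := by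
  classical
  haveI : NeZero n := ⟨by omega⟩
  obtain ⟨p, hchar⟩ := CharP.exists K
  haveI hp : Fact p.Prime := ⟨CharP.char_is_prime K p⟩
  have hK' : Nat.card K = q ^ 2 := by rw [Nat.card_eq_fintype_card, hK]
  obtain ⟨m, -, hm⟩ := FiniteField.card K p
  obtain ⟨f, -, hf⟩ := (Nat.dvd_prime_pow hp.out).1 ((hm.symm.trans hK) ▸ dvd_pow_self q two_ne_zero : q ∣ p ^ (m : ℕ))
  have hr0 : 0 < r := hr.pos
  obtain ⟨hrf, hsub⟩ := exists_sub (f := f) hf hK hr (hr.odd_of_ne_two hr2) hσ
  have hq2 := CfsgLib.Classical.two_le_q hK'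
  have hfr : f / r ≠ 0 := by
    intro h
    have : f = 0 := by rw [← Nat.div_mul_cancel hrf, h, zero_mul]
    rw [hf, this, pow_zero] at hq2
    omega
  have hq₀ : q₀ = p ^ (f / r) :=
    Nat.pow_left_injective hr0.ne' (show q₀ ^ r = (p ^ (f / r)) ^ r by rw [← hq, ← pow_mul, Nat.div_mul_cancel hrf, hf])
  haveI : Fintype (GaloisField p (2 * (f / r))) := Fintype.ofFinite _
  obtain ⟨σ₀, ι, B⟩ := hsub (GaloisField p (2 * (f / r))) (by
    rw [← Nat.card_eq_fintype_card, GaloisField.card p _ (by omega)])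
  rw [← hq₀] at B
  obtain ⟨σu, hu⟩ := exists_uFrob hK'
  have hq0 : q ≠ 0 := by omega
  set F₀ := GaloisField p (2 * (f / r))
  let incl := B.incl (n := n) hu hq0
  have hscal : ∀ (u : normOne K q) (g : Cfsg.GU n K q), (scalarGU n K q u * g).1.1 = ((u : Kˣ) : K) • g.1.1 :=
    fun u g => scalarGU_val u g
  have hcomm : ∀ (u : normOne K q) (g : Cfsg.GU n K q), Commute (scalarGU n K q u) g := fun u g => by
    refine Subtype.ext (Units.ext ?_)
    rw [hscal]
    show _ = g.1.1 * (scalarGU n K q u).1.1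
    rw [scalarGU_coe, mul_smul_comm, mul_one]
  let Φ : normOne K q × Cfsg.GU n F₀ q₀ →* Cfsg.GU n K q :=
    MonoidHom.noncommCoprod (scalarGU n K q) incl (fun u h => hcomm u (incl h))
  have hΦ : ∀ u h, Φ (u, h) = scalarGU n K q u * incl h := fun u h => rfl
  -- the set in question is the range of `Φ`
  have hset : ∀ g : Cfsg.GU n K q, (∃ c : K, c ≠ 0 ∧ g.1.1.map σ = c • g.1.1) ↔ g ∈ Φ.range := by
    intro g
    constructor
    · rintro ⟨c, -, hc⟩
      obtain ⟨a, ha0, ha⟩ := CfsgLib.KnownB.Descent.fixed_up_to_scalar hr0 hσ g.1.isUnit.ne_zero hc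
      obtain ⟨M, hM⟩ := B.exists_lift ha
      have hg1 := (mem_GU_iff_mat hu hq0).1 g.2
      have hMM : (((M.map σ₀)ᵀ * M).map ι) = (σu a * a) • (1 : Matrix (Fin n) (Fin n) K) := by
        rw [Matrix.map_mul, Matrix.transpose_map, show (M.map σ₀).map ι = (M.map ι).map σu by
          ext i j; exact (B.σ_ι hu _).symm, hM, show (a • g.1.1).map σu = σu a • g.1.1.map σu by
            ext i j; simp, Matrix.transpose_smul, smul_mul_assoc, mul_smul_comm, smul_smul, hg1]
      set ν₀ : F₀ := ((M.map σ₀)ᵀ * M) 0 0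
      have hν : ι ν₀ = σu a * a := by
        have := congrFun (congrFun hMM 0) 0
        simpa [Matrix.map_apply] using this
      have hνfix : ν₀ ^ q₀ = ν₀ := ι.injective (by
        rw [← B.frob.pow, ← B.σ_ι hu, hν, map_mul, hu.invol, mul_comm])
      obtain ⟨b, hb⟩ := exists_pow_succ_eq B.card hνfix
      have hν0 : σu a * a ≠ 0 := mul_ne_zero ((map_ne_zero σu).2 ha0) ha0
      have hb0 : b ≠ 0 := fun h0 => hν0 (by rw [← hν, ← hb, h0, zero_pow (by omega), map_zero])
      let w₀ : K := a * (ι b)⁻¹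
      have hw0 : w₀ ≠ 0 := mul_ne_zero ha0 (inv_ne_zero ((map_ne_zero ι).2 hb0))
      have hw : w₀ ^ (q + 1) = 1 := by
        rw [mul_pow, inv_pow, ← map_pow, pow_succ b, B.pow_eq, ← pow_succ, hb, hν, pow_succ,
          ← hu.pow, mul_inv_cancel₀ hν0]
      let w : normOne K q := ⟨Units.mk0 w₀ hw0, MonoidHom.mem_ker.2 (Units.ext hw)⟩
      let M₀ : Matrix (Fin n) (Fin n) F₀ := b⁻¹ • M
      have hM₀ : M₀.map ι = (scalarGU n K q w * g).1.1 := by
        rw [hscal]
        show M₀.map ι = (a * (ι b)⁻¹) • g.1.1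
        rw [mul_comm a, ← smul_smul, ← hM]
        ext i j
        simp [M₀]
      have hdet : M₀.det ≠ 0 := fun h0 => by
        have hd := congrArg Matrix.det hM₀
        rw [← RingHom.mapMatrix_apply, ← RingHom.map_det, h0, map_zero] at hd
        exact (Matrix.GeneralLinearGroup.det (scalarGU n K q w * g).1).ne_zero hd.symm
      have hmem : Matrix.GeneralLinearGroup.mkOfDetNeZero M₀ hdet ∈ Cfsg.GU n F₀ q₀ := by
        rw [mem_GU_iff_mat B.frob B.q₀_ne]
        refine Matrix.map_injective ι.injective (?_ : ((M₀.map σ₀)ᵀ * M₀).map ι = (1 : Matrix _ _ F₀).map ι)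
        rw [Matrix.map_mul, Matrix.transpose_map, show (M₀.map σ₀).map ι = (M₀.map ι).map σu by
          ext i j; exact (B.σ_ι hu _).symm, hM₀, Matrix.map_one ι ι.map_zero ι.map_one]
        exact (mem_GU_iff_mat hu hq0).1 (scalarGU n K q w * g).2
      refine ⟨(w⁻¹, ⟨_, hmem⟩), ?_⟩
      have : incl ⟨_, hmem⟩ = scalarGU n K q w * g := Subtype.ext (Units.ext hM₀)
      rw [hΦ, this, map_inv, inv_mul_cancel_left]
    · rintro ⟨⟨u, h⟩, rfl⟩
      refine ⟨σ ((u : Kˣ) : K) / ((u : Kˣ) : K), div_ne_zero ((map_ne_zero σ).2 (u : Kˣ).ne_zero) (u : Kˣ).ne_zero, ?_⟩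
      rw [hΦ, hscal, CfsgLib.KnownB.Descent.map_smul_mat, smul_smul, div_mul_cancel₀ _ (u : Kˣ).ne_zero]
      congr 1
      ext i j
      exact (B.fix _).2 ⟨_, rfl⟩
  have hker : Nat.card Φ.ker = q₀ + 1 := by
    rw [← card_normOne B.card]
    refine (Nat.card_congr (Equiv.ofBijective
      (fun v : normOne F₀ q₀ => (⟨((B.unitIncl v)⁻¹, scalarGU n F₀ q₀ v), MonoidHom.mem_ker.2 ?_⟩ : Φ.ker)) ⟨?_, ?_⟩)).symm
    · have : incl (scalarGU n F₀ q₀ v) = scalarGU n K q (B.unitIncl v) := by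
        refine Subtype.ext (Units.ext ?_)
        show (scalarGU n F₀ q₀ v).1.1.map ι = _
        rw [scalarGU_coe, scalarGU_coe]
        ext i j
        rcases eq_or_ne i j with rfl | hij
        · simp
          rfl
        · simp [hij]
      rw [hΦ, this, map_inv, inv_mul_cancel]
    · intro v v' h
      have h' := congrArg (fun x : Φ.ker => x.1.2.1.1 0 0) h
      simp only [scalarGU_coe] at h'
      simp at h'
      exact Subtype.ext (Units.ext h')
    · rintro ⟨⟨u, h⟩, hk⟩
      rw [MonoidHom.mem_ker, hΦ] at hk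
      have hh : h.1.1.map ι = (((u⁻¹ : normOne K q) : Kˣ) : K) • (1 : Matrix (Fin n) (Fin n) K) := by
        rw [← scalarGU_coe]
        have : incl h = scalarGU n K q u⁻¹ := by rw [map_inv]; exact eq_inv_of_mul_eq_one_right hk
        exact congrArg (fun x : Cfsg.GU n K q => x.1.1) this
      have hdiag : ∀ i j, h.1.1 i j = h.1.1 0 0 * (if i = j then 1 else 0) := by
        intro i j
        have e00 := congrFun (congrFun hh 0) 0
        have eij := congrFun (congrFun hh i) j
        apply ι.injective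
        rcases eq_or_ne i j with rfl | hij
        · simp at e00 eij ⊢
          rw [eij, e00]
        · simp [hij] at eij ⊢
          exact eij
      have h00 : h.1.1 0 0 ≠ 0 := fun h0 => by
        have := congrFun (congrFun hh 0) 0
        simp [h0] at this
        exact (u : Kˣ).ne_zero this.symm
      have hnorm : (Units.mk0 _ h00) ^ (q₀ + 1) = 1 := by
        refine Units.ext ?_
        have hg := congrFun (congrFun ((mem_GU_iff_mat B.frob B.q₀_ne).1 h.2) 0) 0
        rw [Matrix.mul_apply, Finset.sum_eq_single 0 (fun j _ hj => by simp [hdiag j 0, hj]) (by simp)] at hg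
        simpa [B.frob.pow, pow_succ] using hg
      refine ⟨⟨Units.mk0 _ h00, MonoidHom.mem_ker.2 hnorm⟩, Subtype.ext (Prod.ext ?_ ?_)⟩
      · show (B.unitIncl _)⁻¹ = u
        rw [inv_eq_iff_eq_inv]
        refine Subtype.ext (Units.ext ?_)
        have := congrFun (congrFun hh 0) 0
        show ι (h.1.1 0 0) = _
        simpa using this
      · refine Subtype.ext (Units.ext ?_)
        show (scalarGU n F₀ q₀ _).1.1 = h.1.1
        rw [scalarGU_coe]
        ext i j
        rw [hdiag i j]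
        rcases eq_or_ne i j with rfl | hij
        · simp
        · simp [hij]
  have hcount : Nat.card {g : ↥(Cfsg.GU n K q) // ∃ c : K, c ≠ 0 ∧ ((g : GL (Fin n) K) : Matrix (Fin n) (Fin n) K).map σ = c • ((g : GL (Fin n) K) : Matrix (Fin n) (Fin n) K)} = Nat.card Φ.range :=
    Nat.card_congr (Equiv.subtypeEquivRight hset)
  rw [hcount]
  have h1 := Φ.ker.card_mul_index
  rw [Subgroup.index_ker, hker, Nat.card_prod, card_normOne hK'] at h1
  have hdvd : q₀ + 1 ∣ q + 1 := by
    rw [hq, show q₀ ^ r + 1 = q₀ ^ r + 1 ^ r by rw [one_pow]]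
    exact (hr.odd_of_ne_two hr2).nat_add_dvd_pow_add_pow q₀ 1
  obtain ⟨d, hd⟩ := hdvd
  have h2 : Nat.card Φ.range = d * Nat.card (Cfsg.GU n F₀ q₀) := by
    rw [hd] at h1
    exact Nat.eq_of_mul_eq_mul_left (by omega) (h1.trans (by ring))
  rw [h2, hd, Nat.mul_div_cancel_left _ (by omega), Nat.cast_mul]
  congr 1
  have hq₀1 : 1 ≤ q₀ := Nat.one_le_iff_ne_zero.2 B.q₀_ne
  rw [CfsgLib.Classical.card_GU B.card, Nat.cast_mul, Nat.cast_pow, Nat.cast_prod,
    Fin.prod_univ_eq_prod_range (fun i => (q₀ : ℤ) ^ (i + 1) - (-1) ^ (i + 1)) n]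
  congr 1
  refine Finset.prod_congr rfl fun i _ => ?_
  rcases Nat.even_or_odd i with hi | hi
  · rw [if_pos hi, Odd.neg_one_pow hi.add_one]
    push_cast
    ring
  · rw [if_neg (Nat.not_even_iff_odd.2 hi), Even.neg_one_pow hi.add_one, Nat.cast_sub (Nat.one_le_pow _ _ hq₀1)]
    push_cast
    ring

end Cfsg.Agent.S2677
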