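import Cfsg.Statements.S2683
import Cfsg.Agent.Lib.InvolTwo.OmegaCent

set_option autoImplicit false
open Cfsg

namespace Cfsg.Agent.S2683

/-- For the hyperbolic form Σ x_j y_j on F^(2m) over a finite field with q elements, q even (excluding m = 2 over the field of two elements), and an involution x of the orthogonal group with s = rank(x − 1) odd (type b_s; such x lie outside Ω): the elements of Ω (the commutator subgroup of the orthogonal group) commuting with x number q^(2m(s−1) − (3s² − 3s)/2) · |Sp_(s−1)(q)| · |Sp_(2m−2s)(q)|, where |Sp_2k(q)| = q^(k²) Π_(i=1)^k (q^(2i) − 1). -/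
theorem result {F : Type*} [Field F] [Fintype F] [CharP F 2] {q : ℕ} (hF : Fintype.card F = q) {m s : ℕ} (h : Fintype.card F ≠ 2 ∨ m ≠ 2) (x : ↥(Cfsg.isometryGroup F (Cfsg.quadFormPlus m F))) (hx : x ^ 2 = 1) (hs : (((x : Matrix.GeneralLinearGroup (Fin m ⊕ Fin m) F) : Matrix (Fin m ⊕ Fin m) (Fin m ⊕ Fin m) F) - 1).rank = s) (hodd : Odd s) : Nat.card {g : ↥(Cfsg.Omega F (Cfsg.quadFormPlus m F)) // (g : ↥(Cfsg.isometryGroup F (Cfsg.quadFormPlus m F))) * x = x * (g : ↥(Cfsg.isometryGroup F (Cfsg.quadFormPlus m F)))} = q ^ (2 * m * (s - 1) - (3 * s ^ 2 - 3 * s) / 2) * ((q : ℕ) ^ (((s - 1) / 2) ^ 2) * ∏ i : Fin ((s - 1) / 2), (q ^ (2 * ((i : ℕ) + 1)) - 1)) * ((q : ℕ) ^ ((m - s) ^ 2) * ∏ i : Fin (m - s), (q ^ (2 * ((i : ℕ) + 1)) - 1)) := by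
  revert x
  rw [← CfsgLib.Geometry.coe_matQuad_plus]
  intro x hx hs
  have hxx : x * x = 1 := by rw [← sq]; exact hx
  have hQ := CfsgLib.Geometry.nondegenerate_plus (F := F) m
  have hR := CfsgLib.InvolTwo.OmegaClasses.reflGroup_plus (F := F) m h
  obtain ⟨hN, hV, hn⟩ := CfsgLib.InvolTwo.OmegaClasses.plus_data m hxx
  rw [CfsgLib.InvolTwo.OrthGroup.rank_eq] at hs
  obtain ⟨k, rfl⟩ := hodd
  have hna : ¬CfsgLib.InvolTwo.OrthGroup.IsAltType x := fun halt => by
    have := CfsgLib.InvolTwo.even_rank_of_alt hQ (CfsgLib.InvolTwo.polar_isAlt _) hN halt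
    rw [hs] at this
    exact Nat.not_even_two_mul_add_one k this
  have hle := CfsgLib.InvolTwo.two_rank_le hN
  rw [hs, hV] at hle
  have key := CfsgLib.InvolTwo.OmegaClasses.omega_cent_nonalt hQ hR hxx hna
  rw [CfsgLib.InvolTwo.card_cent_odd hQ (CfsgLib.InvolTwo.polar_isAlt _) hN hV hs, hs, hn,
    Nat.card_eq_fintype_card (α := F), hF, mul_assoc] at key
  rw [show (2 * k + 1 - 1) / 2 = k by omega, mul_assoc]
  refine CfsgLib.InvolTwo.OmegaClasses.cancel_pow (hF ▸ Fintype.card_pos) key.symm ?_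
  obtain ⟨r, rfl⟩ := Nat.exists_eq_add_of_le (show 2 * k + 1 ≤ m by omega)
  exact CfsgLib.InvolTwo.OmegaClasses.exp_odd _ _ (Nat.le_add_left 1 _)

end Cfsg.Agent.S2683
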