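import Cfsg.Statements.S2684
import Cfsg.Agent.Lib.InvolTwo.OmegaCent

set_option autoImplicit false
open Cfsg

namespace Cfsg.Agent.S2684

/-- For the hyperbolic form Q = Σ x_j y_j on F^(2m) over a finite field with q elements, q even (excluding m = 2 over the field of two elements), and an involution x ≠ 1 of the orthogonal group with s = rank(x − 1) even and Q vanishing on the image of x − 1 (equivalently f(v, xv) = 0 for all v, where f(u, w) = Q(u + w) − Q(u) − Q(w) is the bilinear form of Q; type a_s, which lies in Ω): its centraliser in Ω (the commutator subgroup of the orthogonal group) has order q^(2ms − (3s² + s)/2) · |Sp_s(q)| · |Ω⁺_(2m−2s)(q)|, where |Ω⁺_2k(q)| = q^(k(k−1)) (q^k − 1) Π_(i=1)^(k−1) (q^(2i) − 1) for k ≥ 1 and the last factor is 1 when s = m. -/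
theorem result {F : Type*} [Field F] [Fintype F] [CharP F 2] {q : ℕ} (hF : Fintype.card F = q) {m s : ℕ} (h : Fintype.card F ≠ 2 ∨ m ≠ 2) (x : ↥(Cfsg.isometryGroup F (Cfsg.quadFormPlus m F))) (hx : x ^ 2 = 1) (hx1 : x ≠ 1) (hs : (((x : Matrix.GeneralLinearGroup (Fin m ⊕ Fin m) F) : Matrix (Fin m ⊕ Fin m) (Fin m ⊕ Fin m) F) - 1).rank = s) (heven : Even s) (halt : ∀ v : Fin m ⊕ Fin m → F, Cfsg.quadFormPlus m F ((((x : Matrix.GeneralLinearGroup (Fin m ⊕ Fin m) F) : Matrix (Fin m ⊕ Fin m) (Fin m ⊕ Fin m) F) - 1).mulVec v) = 0) : Nat.card {g : ↥(Cfsg.Omega F (Cfsg.quadFormPlus m F)) // (g : ↥(Cfsg.isometryGroup F (Cfsg.quadFormPlus m F))) * x = x * (g : ↥(Cfsg.isometryGroup F (Cfsg.quadFormPlus m F)))} = q ^ (2 * m * s - (3 * s ^ 2 + s) / 2) * ((q : ℕ) ^ ((s / 2) ^ 2) * ∏ i : Fin (s / 2), (q ^ (2 * ((i : ℕ) + 1)) - 1)) * (if s = m then 1 else q ^ ((m - s) * (m - s - 1)) * (q ^ (m - s) - 1) * ∏ i : Fin (m - s - 1), (q ^ (2 * ((i : ℕ) + 1)) - 1))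 := by
  clear hx1
  revert x
  rw [← CfsgLib.Geometry.coe_matQuad_plus]
  intro x hx hs halt
  have hxx : x * x = 1 := by rw [← sq]; exact hx
  have hQ := CfsgLib.Geometry.nondegenerate_plus (F := F) m
  have hR := CfsgLib.InvolTwo.OmegaClasses.reflGroup_plus (F := F) m h
  obtain ⟨hN, hV, hn⟩ := CfsgLib.InvolTwo.OmegaClasses.plus_data m hxx
  rw [CfsgLib.InvolTwo.OrthGroup.rank_eq] at hs
  have halt' := (CfsgLib.InvolTwo.OrthGroup.alt_iff_Q x).2 halt
  obtain ⟨k, hk⟩ := heven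
  obtain rfl : s = 2 * k := by omega
  have hle := CfsgLib.InvolTwo.two_rank_le hN
  rw [hs, hV] at hle
  obtain ⟨r, rfl⟩ := Nat.exists_eq_add_of_le (show 2 * k ≤ m by omega)
  have key := CfsgLib.InvolTwo.OmegaClasses.omega_cent_alt hQ hR hn
    (CfsgLib.Geometry.isMaxSing_coord (F := F) _) hxx halt'
  rw [CfsgLib.InvolTwo.card_cent_alt hQ (CfsgLib.InvolTwo.polar_isAlt _) hN halt' hV hs, hs, hn,
    Nat.card_eq_fintype_card (α := F), hF, Nat.add_sub_cancel_left] at key
  have hq : 0 < q := hF ▸ Fintype.card_pos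
  have hexp := CfsgLib.InvolTwo.OmegaClasses.exp_alt (2 * k) r
  rw [show 2 * k / 2 = k by omega, Nat.add_sub_cancel_left]
  by_cases hr : r = 0
  · rw [if_pos (by omega)] at key ⊢
    rw [show CfsgLib.InvolTwo.spOrder q r = 1 by subst hr; simp [CfsgLib.InvolTwo.spOrder],
      mul_one] at key
    rw [mul_one]
    exact CfsgLib.InvolTwo.OmegaClasses.cancel_pow hq key.symm (by omega)
  · rw [if_neg (by omega)] at key ⊢
    rw [CfsgLib.InvolTwo.OmegaClasses.spOrder_split q r (by omega),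
      show 2 * (2 * k + r) - 2 * k = 2 * k + r + r by omega, pow_add _ (2 * k + r) r,
      pow_add q (2 * k) r, ← hexp, pow_add] at key
    refine Nat.eq_of_mul_eq_mul_right (show 0 < q ^ (2 * k) * q ^ r * (q ^ r + 1) by positivity) ?_
    simp only [CfsgLib.InvolTwo.spOrder] at key
    linear_combination -key

end Cfsg.Agent.S2684
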