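import Cfsg.Statements.S2685
import Cfsg.Agent.Lib.InvolTwo.OmegaCent

set_option autoImplicit false
open Cfsg

namespace Cfsg.Agent.S2685

/-- For the hyperbolic form Q = Σ x_j y_j on F^(2m) over a finite field with q elements, q even (excluding m = 2 over the field of two elements), and an involution x of the orthogonal group with s = rank(x − 1) even and Q not vanishing on the image of x − 1 (f(v, xv) ≠ 0 for some v, where f(u, w) = Q(u + w) − Q(u) − Q(w) is the bilinear form of Q; type c_s, which lies in Ω): its centraliser in Ω (the commutator subgroup of the orthogonal group) has order q^(2m(s−1) − (3s² − 5s)/2 − 1) · |Sp_(s−2)(q)| · |Sp_(2m−2s)(q)|. -/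
theorem result {F : Type*} [Field F] [Fintype F] [CharP F 2] {q : ℕ} (hF : Fintype.card F = q) {m s : ℕ} (h : Fintype.card F ≠ 2 ∨ m ≠ 2) (x : ↥(Cfsg.isometryGroup F (Cfsg.quadFormPlus m F))) (hx : x ^ 2 = 1) (hs : (((x : Matrix.GeneralLinearGroup (Fin m ⊕ Fin m) F) : Matrix (Fin m ⊕ Fin m) (Fin m ⊕ Fin m) F) - 1).rank = s) (heven : Even s) (hna : ∃ v : Fin m ⊕ Fin m → F, Cfsg.quadFormPlus m F ((((x : Matrix.GeneralLinearGroup (Fin m ⊕ Fin m) F) : Matrix (Fin m ⊕ Fin m) (Fin m ⊕ Fin m) F) - 1).mulVec v) ≠ 0) : Nat.card {g : ↥(Cfsg.Omega F (Cfsg.quadFormPlus m F)) // (g : ↥(Cfsg.isometryGroup F (Cfsg.quadFormPlus m F))) * x = x * (g : ↥(Cfsg.isometryGroup F (Cfsg.quadFormPlus m F)))} = q ^ (2 * m * (s - 1) - (3 * s ^ 2 - 5 * s) / 2 - 1) * ((q : ℕ) ^ (((s - 2) / 2) ^ 2) * ∏ i : Fin ((s - 2) / 2), (q ^ (2 * ((i : ℕ) + 1)) - 1)) * ((q : ℕ) ^ ((m - s) ^ 2) * ∏ i : Fin (m - s), (q ^ (2 * ((i : ℕ) + 1)) -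 1)) := by
  revert x
  rw [← CfsgLib.Geometry.coe_matQuad_plus]
  intro x hx hs hna
  have hxx : x * x = 1 := by rw [← sq]; exact hx
  have hQ := CfsgLib.Geometry.nondegenerate_plus (F := F) m
  have hR := CfsgLib.InvolTwo.OmegaClasses.reflGroup_plus (F := F) m h
  obtain ⟨hN, hV, hn⟩ := CfsgLib.InvolTwo.OmegaClasses.plus_data m hxx
  rw [CfsgLib.InvolTwo.OrthGroup.rank_eq] at hs
  have hna' : ¬CfsgLib.InvolTwo.OrthGroup.IsAltType x := fun halt => by
    obtain ⟨v, hv⟩ := hna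
    exact hv ((CfsgLib.InvolTwo.OrthGroup.alt_iff_Q x).1 halt v)
  obtain ⟨v, hv⟩ : ∃ v, QuadraticMap.polarBilin _ v
      (CfsgLib.InvolTwo.mov (CfsgLib.InvolTwo.OrthGroup.lin x) v) ≠ 0 := not_forall.1 hna'
  obtain ⟨j, hj⟩ := heven
  have hs0 : s ≠ 0 := fun h0 => hv (by
    rw [h0, Submodule.finrank_eq_zero, LinearMap.range_eq_bot] at hs
    rw [hs, LinearMap.zero_apply, map_zero])
  obtain ⟨k, rfl⟩ : ∃ k, s = 2 * k + 2 := ⟨j - 1, by omega⟩
  have hle := CfsgLib.InvolTwo.two_rank_le hN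
  rw [hs, hV] at hle
  have key := CfsgLib.InvolTwo.OmegaClasses.omega_cent_nonalt hQ hR hxx hna'
  rw [CfsgLib.InvolTwo.card_cent_even hQ (CfsgLib.InvolTwo.polar_isAlt _) hN ⟨v, hv⟩ hV hs, hs, hn,
    Nat.card_eq_fintype_card (α := F), hF, mul_assoc] at key
  rw [show (2 * k + 2 - 2) / 2 = k by omega, mul_assoc]
  refine CfsgLib.InvolTwo.OmegaClasses.cancel_pow (hF ▸ Fintype.card_pos) key.symm ?_
  obtain ⟨r, rfl⟩ := Nat.exists_eq_add_of_le (show 2 * k + 2 ≤ m by omega)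
  exact CfsgLib.InvolTwo.OmegaClasses.exp_even _ _ (Nat.le_add_left 2 _)

end Cfsg.Agent.S2685
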