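import Cfsg.Agent.Lib.Geometry.GraphPSL.Classes
import Cfsg.Statements.S2700
-- import your own Cfsg.Agent.* helpers here

set_option autoImplicit false
open Cfsg

namespace Cfsg.Agent.S2700

open CfsgLib.Geometry CfsgLib.Geometry.GraphPSL
open scoped Matrix

/-- Let T = PSL_n(F) over a finite field of odd order with n = 2m ≥ 4 even, and G = Inndiag(T) the image of PGL_n(F). The involutory graph automorphisms of T fall into exactly three G-classes, with representatives γ₁, γ₂, γ₃ whose centralizers in G are isomorphic respectively to the projective conformal symplectic group PGSp_n(F), the projective conformal orthogonal group of the plus-type form Σ xᵢ yᵢ, and that of a minus-type form Σ xᵢ yᵢ + z₁² + a z₁ z₂ + b z₂² (anisotropic binary part) in dimension n. -/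
theorem result {F : Type*} [Field F] [Fintype F] (hodd : Odd (Fintype.card F)) {n m : ℕ} (hm : 2 ≤ m) (hnm : n = 2 * m) :
    ∃ (γ₁ γ₂ γ₃ : MulAut (Matrix.ProjectiveSpecialLinearGroup (Fin n) F)) (a b : F), (∀ z₁ z₂ : F, z₁ ^ 2 + a * z₁ * z₂ + b * z₂ ^ 2 = 0 → z₁ = 0 ∧ z₂ = 0) ∧ Cfsg.IsGraphAutClassPSL γ₁ ∧ orderOf γ₁ = 2 ∧ Cfsg.IsGraphAutClassPSL γ₂ ∧ orderOf γ₂ = 2 ∧ Cfsg.IsGraphAutClassPSL γ₃ ∧ orderOf γ₃ = 2 ∧ ¬ Cfsg.IsConjUnder (Cfsg.inndiagPSL n F) γ₁ γ₂ ∧ ¬ Cfsg.IsConjUnder (Cfsg.inndiagPSL n F) γ₁ γ₃ ∧ ¬ Cfsg.IsConjUnder (Cfsg.inndiagPSL n F) γ₂ γ₃ ∧ (∀ γ : MulAut (Matrix.ProjectiveSpecialLinearGroup (Fin n) F), Cfsg.IsGraphAutClassPSL γ → orderOf γ = 2 → Cfsg.IsConjUnder (Cfsg.inndiagPSL n F) γ₁ γ ∨ Cfsg.IsConjUnder (Cfsg.inndiagPSL n F) γ₂ γ ∨ Cfsg.IsConjUnder (Cfsg.inndiagPSL n F) γ₃ γ) ∧ Nonempty (↥(Cfsg.inndiagPSL n F ⊓ Subgroup.centralizer {γ₁}) ≃* Cfsg.PGSp m F) ∧ Nonempty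 (↥(Cfsg.inndiagPSL n F ⊓ Subgroup.centralizer {γ₂}) ≃* Cfsg.PGO F (Cfsg.quadFormPlus m F)) ∧ Nonempty (↥(Cfsg.inndiagPSL n F ⊓ Subgroup.centralizer {γ₃}) ≃* Cfsg.PGO F (Cfsg.quadFormMinus (m - 1) F a b)) := by
  classical
  haveI : Finite F := Finite.of_fintype F
  have h2 : (2 : F) ≠ 0 := CfsgLib.Geometry.two_ne_zero_of_odd hodd
  obtain ⟨a, b, hab⟩ := exists_aniso (F := F) h2
  let e : Fin m ⊕ Fin m ≃ Fin n := Fintype.equivFinOfCardEq (by simp; omega)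
  let e' : (Fin (m - 1) ⊕ Fin (m - 1)) ⊕ Fin 2 ≃ Fin n := Fintype.equivFinOfCardEq (by simp; omega)
  have hn3 : 3 ≤ n := by omega
  have hn2 : 2 ≤ n := by omega
  haveI : NeZero n := ⟨by omega⟩
  let K₁ := stdK (stdJ m F) e (det_stdJ_ne_zero m)
  let K₂ := stdK (plusG m F) e (det_plusG_ne_zero m)
  let K₃ := stdK (minusG m F a b) e' (det_minusG_ne_zero m hab)
  have hJ : (stdJ m F)ᵀ = (-1 : F) • stdJ m F := by rw [Matrix.J_transpose, neg_one_smul]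
  have hone : ∀ {κ : Type} [Fintype κ] [DecidableEq κ] (M : Matrix κ κ F), (M + Mᵀ)ᵀ = (1 : F) • (M + Mᵀ) :=
    fun M => by rw [sym_gram, one_smul]
  obtain ⟨g1, o1⟩ := gaut_isGraph hn3 K₁ (neg_ne_zero.2 one_ne_zero) (stdK_transpose e _ hJ)
  obtain ⟨g2, o2⟩ := gaut_isGraph hn3 K₂ one_ne_zero (stdK_transpose e _ (hone _))
  obtain ⟨g3, o3⟩ := gaut_isGraph hn3 K₃ one_ne_zero (stdK_transpose e' _ (hone _))
  have hskew : ∀ K : GL (Fin n) F, (K : Matrix (Fin n) (Fin n) F)ᵀ = (1 : F) • (K : Matrix (Fin n) (Fin n) F) →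
      ¬ Cfsg.IsConjUnder (Cfsg.inndiagPSL n F) (gaut K₁) (gaut K) := fun K hK h => by
    have h' := (conj_invariants hn2 h).1 1 hK
    rw [stdK_transpose e _ hJ, ← sub_eq_zero, ← sub_smul] at h'
    rcases smul_eq_zero.1 h' with h' | h'
    · exact h2 (by linear_combination (-1 : F) * h')
    · exact K₁.ne_zero h'
  refine ⟨gaut K₁, gaut K₂, gaut K₃, a, b, hab, g1, o1, g2, o2, g3, o3, hskew _ (stdK_transpose e _ (hone _)),
    hskew _ (stdK_transpose e' _ (hone _)), fun h => ?_, fun γ hγ hγ2 => ?_, ?_, ?_, ?_⟩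
  · have h' := (conj_invariants hn2 h).2.1 ⟨m, by omega⟩
    rw [stdK_val, stdK_val, Matrix.det_submatrix_equiv_self, Matrix.det_submatrix_equiv_self] at h'
    exact disc_ne h2 (by omega) hab h'
  · obtain ⟨K, rfl, hK⟩ := exists_gaut hn3 hγ hγ2
    obtain ⟨hA, hS⟩ := even_odd_cases h2 hm hnm hab e e' K
    rcases hK with hK | hK
    · by_cases hs : IsSquare ((plusG m F).det * (K : Matrix (Fin n) (Fin n) F).det)
      · exact Or.inr (Or.inl ((hS hK).1 hs))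
      · exact Or.inr (Or.inr ((hS hK).2 hs))
    · exact Or.inl (hA hK)
  · exact cent_std hn2 _ e _
  · obtain ⟨f⟩ := cent_std hn2 (plusG m F) e (det_plusG_ne_zero m)
    obtain ⟨g⟩ := PGO_equiv h2 (plusMat m F) (coe_matQuad_plus m)
    exact ⟨f.trans g⟩
  · obtain ⟨f⟩ := cent_std hn2 (minusG m F a b) e' (det_minusG_ne_zero m hab)
    obtain ⟨g⟩ := PGO_equiv h2 (minusMat (m - 1) F a b) (coe_matQuad_minus (m - 1) a b)
    exact ⟨f.trans g⟩

end Cfsg.Agent.S2700
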