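import Cfsg.Agent.Lib.Geometry.GraphPSL.Classes
import Cfsg.Statements.S2701
-- import your own Cfsg.Agent.* helpers here

set_option autoImplicit false
open Cfsg

namespace Cfsg.Agent.S2701

open CfsgLib.Geometry CfsgLib.Geometry.GraphPSL
open scoped Matrix

/-- Let T = PSL_n(F) over a finite field of characteristic 2 with n = 2m ≥ 4 even, and G = Inndiag(T) the image of PGL_n(F). The involutory graph automorphisms of T fall into exactly two G-classes, with representatives γ₁ and γ₃ whose centralizers in G are isomorphic respectively to the symplectic group Sp_n(F) and to the centralizer in Sp_n(F) of a symplectic transvection. -/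
theorem result {F : Type*} [Field F] [Fintype F] [CharP F 2] {n m : ℕ} (hm : 2 ≤ m) (hnm : n = 2 * m) :
    ∃ (γ₁ γ₃ : MulAut (Matrix.ProjectiveSpecialLinearGroup (Fin n) F)) (t : ↥(Matrix.symplecticGroup (Fin m) F)), Cfsg.IsTransvection (t : Matrix (Fin m ⊕ Fin m) (Fin m ⊕ Fin m) F) ∧ Cfsg.IsGraphAutClassPSL γ₁ ∧ orderOf γ₁ = 2 ∧ Cfsg.IsGraphAutClassPSL γ₃ ∧ orderOf γ₃ = 2 ∧ ¬ Cfsg.IsConjUnder (Cfsg.inndiagPSL n F) γ₁ γ₃ ∧ (∀ γ : MulAut (Matrix.ProjectiveSpecialLinearGroup (Fin n) F), Cfsg.IsGraphAutClassPSL γ → orderOf γ = 2 → Cfsg.IsConjUnder (Cfsg.inndiagPSL n F) γ₁ γ ∨ Cfsg.IsConjUnder (Cfsg.inndiagPSL n F) γ₃ γ) ∧ Nonempty (↥(Cfsg.inndiagPSL n F ⊓ Subgroup.centralizer {γ₁}) ≃* ↥(Matrix.symplecticGroup (Fin m) F)) ∧ Nonempty (↥(Cfsg.inndiagPSL n F ⊓ Subgroup.centralizer {γ₃}) ≃* ↥(Subgroup.centralizer ({t} : Set ↥(Matrix.symplecticGroup (Fin m) F)))) := by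
  classical
  haveI : Finite F := Finite.of_fintype F
  let e : Fin m ⊕ Fin m ≃ Fin n := Fintype.equivFinOfCardEq (by simp; omega)
  have hn3 : 3 ≤ n := by omega
  have hn2 : 2 ≤ n := by omega
  have hm0 : 0 < m := by omega
  have hd3 : (symJ m F).det ≠ 0 := by
    have h : symJ m F = stdJ m F * wTransv m F := by
      rw [symJ, wTransv, Matrix.mul_add, Matrix.mul_one, Matrix.mul_vecMulVec]
    rw [h, Matrix.det_mul]
    exact mul_ne_zero (det_stdJ_ne_zero m) (SymplecticGroup.symplectic_det wTransv_mem).ne_zero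
  let K₁ := stdK (stdJ m F) e (det_stdJ_ne_zero m)
  let K₃ := stdK (symJ m F) e hd3
  obtain ⟨g1, o1⟩ := gaut_isGraph hn3 K₁ one_ne_zero
    (stdK_transpose e _ (ε := 1) (by rw [one_smul, stdJ_transpose]))
  obtain ⟨g3, o3⟩ := gaut_isGraph hn3 K₃ one_ne_zero
    (stdK_transpose e _ (ε := 1) (by
      rw [one_smul, symJ, Matrix.transpose_add, stdJ_transpose, Matrix.transpose_vecMulVec]))
  refine ⟨gaut K₁, gaut K₃, ⟨wTransv m F, wTransv_mem⟩, wTransv_isTransvection hm0, g1, o1, g3, o3,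
    fun h => ?_, fun γ hγ hγ2 => ?_, ?_, ?_⟩
  · have hK1 : (Matrix.toBilin' (K₁ : Matrix (Fin n) (Fin n) F)).IsAlt := by
      refine isAlt_toBilin' ?_ fun i => ?_
      · rw [neg_eq_self', stdK_transpose e _ (ε := 1) (by rw [one_smul, stdJ_transpose]), one_smul]
      · show stdJ m F (e.symm i) (e.symm i) = 0
        rcases e.symm i with k | k <;> simp [Matrix.J]
    have h3 := (conj_invariants hn2 (conj_symm h)).2.2 hK1 (Pi.single (e (Sum.inr ⟨0, hm0⟩)) 1)
    rw [Matrix.toBilin'_single] at h3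
    have hφ : (stdJ m F *ᵥ wVec m F) (Sum.inr ⟨0, hm0⟩) = 1 := by
      rw [Matrix.mulVec, dotProduct, Finset.sum_eq_single (Sum.inl ⟨0, hm0⟩)]
      · simp [Matrix.J, wVec]
      · rintro (⟨k, hk⟩ | ⟨k, hk⟩) - hne
        · simp only [ne_eq, Sum.inl.injEq, Fin.mk.injEq] at hne
          simp [wVec, hne]
        · simp [wVec]
      · simp
    have hJ0 : stdJ m F (Sum.inr ⟨0, hm0⟩) (Sum.inr ⟨0, hm0⟩) = 0 := by simp [Matrix.J]
    rw [stdK_val, Matrix.submatrix_apply, Equiv.symm_apply_apply, symJ, Matrix.add_apply, Matrix.vecMulVec_apply,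
      hφ, hJ0, zero_add, one_mul] at h3
    exact one_ne_zero h3
  · obtain ⟨K, rfl, hK⟩ := exists_gaut hn3 hγ hγ2
    have hKs := sym_of_charTwo hK
    by_cases hdiag : ∀ i, (K : Matrix (Fin n) (Fin n) F) i i = 0
    · refine Or.inl (conj_symm (conj_of_congr hn2 one_ne_zero ?_))
      rw [one_smul, stdK_val]
      exact (congr_alt (by rw [hKs, neg_eq_self']) hdiag (Matrix.GeneralLinearGroup.det K).ne_zero e).symm
    · refine Or.inr (conj_symm (conj_of_congr hn2 one_ne_zero ?_))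
      rw [one_smul, stdK_val]
      exact (congr_sym hm0 hKs (Matrix.GeneralLinearGroup.det K).ne_zero (not_forall.1 hdiag) e).symm
  · obtain ⟨f⟩ := cent_std hn2 (stdJ m F) e (det_stdJ_ne_zero m)
    obtain ⟨g⟩ := projQuot_simJ (F := F) (Γ := stdJ m F) fun h => det_stdJ_ne_zero m (F := F) (by
      rw [h]; haveI : Nonempty (Fin m ⊕ Fin m) := ⟨Sum.inl ⟨0, hm0⟩⟩; exact Matrix.det_zero)
    obtain ⟨i⟩ := isoJ_std (F := F) (m := m)
    exact ⟨f.trans (g.symm.trans i)⟩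
  · obtain ⟨f⟩ := cent_std hn2 (symJ m F) e hd3
    obtain ⟨g⟩ := projQuot_simJ (F := F) (Γ := symJ m F) fun h => hd3 (by
      rw [h]; haveI : Nonempty (Fin m ⊕ Fin m) := ⟨Sum.inl ⟨0, hm0⟩⟩; exact Matrix.det_zero)
    obtain ⟨i⟩ := isoJ_sym (F := F) hm0
    exact ⟨f.trans (g.symm.trans i)⟩

end Cfsg.Agent.S2701
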