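import Cfsg.Statements.S2702
import Cfsg.Agent.Lib.Geometry.GraphPSL.Split

set_option autoImplicit false
open Cfsg

namespace Cfsg.Agent.S2702

open CfsgLib.Geometry CfsgLib.Geometry.GraphPSL CfsgLib.KnownB.PSLAut

/-- Let T = PSL_n(F) over the field with q = p^f elements, n ≥ 3, G = Inndiag(T) the image of PGL_n(F), and γ an involutory graph automorphism of T. The G-class of γ is the union of exactly c T-classes, where: if n is even and q is odd, c = gcd(n/2, q − 1) when C_G(γ) is isomorphic to the projective conformal symplectic group PGSp_n(F) (symplectic type) and c = gcd(n, q − 1)/2 otherwise; and c = gcd(n, q − 1) when n is odd or q is even. -/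
theorem result {F : Type*} [Field F] [Fintype F] {p f : ℕ} [Fact p.Prime] (hF : Fintype.card F = p ^ f) (hf : 1 ≤ f) {n : ℕ} (hn : 3 ≤ n) (γ : MulAut (Matrix.ProjectiveSpecialLinearGroup (Fin n) F)) (hγ : Cfsg.IsGraphAutClassPSL γ) (hγ2 : orderOf γ = 2) :
    ((Even n ∧ Odd p ∧ Nonempty (↥(Cfsg.inndiagPSL n F ⊓ Subgroup.centralizer {γ}) ≃* Cfsg.PGSp (n / 2) F)) → Cfsg.splitClassCount (Cfsg.inndiagPSL n F) (Cfsg.Inn (Matrix.ProjectiveSpecialLinearGroup (Fin n) F)) γ = Nat.gcd (n / 2) (p ^ f - 1)) ∧ ((Even n ∧ Odd p ∧ ¬ Nonempty (↥(Cfsg.inndiagPSL n F ⊓ Subgroup.centralizer {γ}) ≃* Cfsg.PGSp (n / 2) F)) → Cfsg.splitClassCount (Cfsg.inndiagPSL n F) (Cfsg.Inn (Matrix.ProjectiveSpecialLinearGroup (Fin n) F)) γ = Nat.gcd n (p ^ f - 1) / 2) ∧ (¬ (Even n ∧ Odd p) → Cfsg.splitClassCount (Cfsg.inndiagPSL n F) (Cfsg.Inn (Matrix.ProjectiveSpecialLinearGroup (Fin n) F)) γ = Nat.gcd n (p ^ f - 1)) := by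
  classical
  haveI : Finite F := Finite.of_fintype F
  obtain ⟨K, rfl, hK⟩ := exists_gaut hn hγ hγ2
  haveI : CharP F p := charP_of_card_eq_prime_pow hF
  have hcard : Nat.card F = p ^ f := by rw [Nat.card_eq_fintype_card, hF]
  have hodd : ¬ (Even n ∧ Odd p) → Odd (Nat.gcd (Nat.card F - 1) n) := by
    intro h
    by_contra hd
    rw [Nat.not_odd_iff_even, even_iff_two_dvd] at hd
    have h1 : 2 ∣ n := hd.trans (Nat.gcd_dvd_right _ _)
    have h2 : 2 ∣ p ^ f - 1 := hcard ▸ hd.trans (Nat.gcd_dvd_left _ _)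
    have hp : Even p := by
      by_contra hp
      exact h ⟨even_iff_two_dvd.2 h1, Nat.not_even_iff_odd.1 hp⟩
    have h3 : 2 ∣ p ^ f := dvd_pow (even_iff_two_dvd.1 hp) (by omega)
    have h4 : 0 < p ^ f := pow_pos (Fact.out : p.Prime).pos f
    omega
  have h20 : Odd p → (2 : F) ≠ 0 := by
    intro hp h
    have h1 : ((2 : ℕ) : F) = 0 := by exact_mod_cast h
    rw [CharP.cast_eq_zero_iff F p] at h1
    have := (Nat.prime_dvd_prime_iff_eq (Fact.out : p.Prime) Nat.prime_two).1 h1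
    subst this
    exact (by decide : ¬ Odd 2) hp
  refine ⟨?_, ?_, fun h => ?_⟩
  · rintro ⟨⟨m, hm⟩, hp, hi⟩
    have hnm : n = 2 * m := by omega
    rw [show n / 2 = m by omega] at hi ⊢
    rw [← hcard]
    rcases hK with hK | hK
    · exact absurd hi (not_pgsp hn (by omega) hnm (h20 hp) K hK)
    · exact split_alt hn hnm (h20 hp) K hK
  · rintro ⟨⟨m, hm⟩, hp, hi⟩
    have hnm : n = 2 * m := by omega
    rw [show n / 2 = m by omega] at hi
    rw [← hcard]
    rcases hK with hK | hK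
    · exact split_sym hn hnm (h20 hp) K hK
    · exfalso
      obtain ⟨a, b, hab⟩ := exists_aniso (F := F) (h20 hp)
      let e : Fin m ⊕ Fin m ≃ Fin n := Fintype.equivFinOfCardEq (by simp; omega)
      let e' : (Fin (m - 1) ⊕ Fin (m - 1)) ⊕ Fin 2 ≃ Fin n := Fintype.equivFinOfCardEq (by simp; omega)
      obtain ⟨hA, -⟩ := even_odd_cases (h20 hp) (by omega) hnm hab e e' K
      obtain ⟨c⟩ := cent_of_conj (by omega) (conj_symm (hA hK))
      obtain ⟨g⟩ := cent_std (F := F) (by omega) (stdJ m F) e (det_stdJ_ne_zero m)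
      exact hi ⟨c.trans g⟩
  · rw [← hcard, split_odd hn K (hodd h), Nat.gcd_comm]

end Cfsg.Agent.S2702
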