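import Cfsg.Agent.Lib.Geometry.GraphPSL.Classes
import Cfsg.Statements.S2703
-- import your own Cfsg.Agent.* helpers here

set_option autoImplicit false
open Cfsg

namespace Cfsg.Agent.S2703

open CfsgLib.Geometry CfsgLib.Geometry.GraphPSL
open scoped Matrix

/-- Let T = PSL_n(F) over the field with q elements, q odd, n = 2m ≥ 4 even, and ι the inverse-transpose automorphism. Its centralizer in G = Inndiag(T) (the image of PGL_n(F)) is isomorphic to the projective conformal orthogonal group of the plus-type form Σ xᵢ yᵢ in dimension n when n(q − 1)/4 is even, and to that of a minus-type form (Σ xᵢ yᵢ + z₁² + a z₁ z₂ + b z₂² with anisotropic binary part) when n(q − 1)/4 is odd. -/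
theorem result {F : Type*} [Field F] [Fintype F] (hodd : Odd (Fintype.card F)) {n m : ℕ} (hm : 2 ≤ m) (hnm : n = 2 * m) (ι : MulAut (Matrix.ProjectiveSpecialLinearGroup (Fin n) F)) (hι : Cfsg.IsInverseTransposeAutPSL ι) :
    (Even (n * (Fintype.card F - 1) / 4) → Nonempty (↥(Cfsg.inndiagPSL n F ⊓ Subgroup.centralizer {ι}) ≃* Cfsg.PGO F (Cfsg.quadFormPlus m F))) ∧ (¬ Even (n * (Fintype.card F - 1) / 4) → ∃ a b : F, (∀ z₁ z₂ : F, z₁ ^ 2 + a * z₁ * z₂ + b * z₂ ^ 2 = 0 → z₁ = 0 ∧ z₂ = 0) ∧ Nonempty (↥(Cfsg.inndiagPSL n F ⊓ Subgroup.centralizer {ι}) ≃* Cfsg.PGO F (Cfsg.quadFormMinus (m - 1) F a b))) := by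
  classical
  haveI : Finite F := Finite.of_fintype F
  have h2 : (2 : F) ≠ 0 := CfsgLib.Geometry.two_ne_zero_of_odd hodd
  have hn2 : 2 ≤ n := by omega
  rw [(CfsgLib.KnownB.PSLAut.isInverseTransposeAutPSL_iff ι).1 hι]
  have hg : (CfsgLib.KnownB.PSLAut.it : MulAut (Matrix.ProjectiveSpecialLinearGroup (Fin n) F)) = gaut 1 := by
    rw [gaut, inv_one, map_one, one_mul]
  rw [hg]
  obtain ⟨a, b, hab⟩ := exists_aniso (F := F) h2
  let e : Fin m ⊕ Fin m ≃ Fin n := Fintype.equivFinOfCardEq (by simp; omega)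
  let e' : (Fin (m - 1) ⊕ Fin (m - 1)) ⊕ Fin 2 ≃ Fin n := Fintype.equivFinOfCardEq (by simp; omega)
  have hsq : IsSquare ((plusG m F).det * ((1 : GL (Fin n) F) : Matrix (Fin n) (Fin n) F).det) ↔
      Even (n * (Fintype.card F - 1) / 4) := by
    rw [Units.val_one, Matrix.det_one, mul_one, isSquare_det_plus_iff]
    obtain ⟨j, hj⟩ := hodd
    subst hnm
    rw [show 2 * m * (Fintype.card F - 1) / 4 = m * j by
      rw [show Fintype.card F - 1 = 2 * j by omega, show 2 * m * (2 * j) = 4 * (m * j) by ring]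
      omega, Nat.even_mul, hj]
    rw [Nat.odd_iff, Nat.even_iff, Nat.even_iff]
    omega
  obtain ⟨-, hS⟩ := even_odd_cases h2 hm hnm hab e e' (1 : GL (Fin n) F)
  have hS' := hS (by rw [Units.val_one, Matrix.transpose_one])
  constructor
  · intro he
    obtain ⟨c⟩ := cent_of_conj hn2 (conj_symm (hS'.1 (hsq.2 he)))
    obtain ⟨f⟩ := cent_std hn2 (plusG m F) e (det_plusG_ne_zero m)
    obtain ⟨g⟩ := PGO_equiv h2 (plusMat m F) (coe_matQuad_plus m)
    exact ⟨c.trans (f.trans g)⟩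
  · intro he
    obtain ⟨c⟩ := cent_of_conj hn2 (conj_symm (hS'.2 fun h => he (hsq.1 h)))
    obtain ⟨f⟩ := cent_std hn2 (minusG m F a b) e' (det_minusG_ne_zero m hab)
    obtain ⟨g⟩ := PGO_equiv h2 (minusMat (m - 1) F a b) (coe_matQuad_minus (m - 1) a b)
    exact ⟨a, b, hab, ⟨c.trans (f.trans g)⟩⟩

end Cfsg.Agent.S2703
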