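import Cfsg.Statements.S2704
-- import your own Cfsg.Agent.* helpers here
import Cfsg.Agent.Lib.KnownB.PSLAut.Unitary

set_option autoImplicit false
open Cfsg CfsgLib.KnownB.PSLAut CfsgLib.KnownB.Descent

namespace Cfsg.Agent.S2704

/-- Let T = PSL_n(F) over the field F with p^f elements, n ≥ 3, and G = Inndiag(T) the image of PGL_n(F). If x is an involutory graph-field automorphism of T then f is even; x is G-conjugate to every other involutory graph-field automorphism; C_G(x) is isomorphic to the projective general unitary group PGU_n(q₀) with q₀² = p^f, realised over F itself through the Hermitian form Σ uᵢ vᵢ^{q₀}; and the G-class of x is the union of exactly gcd(n, q₀ − 1) T-classes. -/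
theorem result {F : Type*} [Field F] [Fintype F] {p f : ℕ} [Fact p.Prime] (hF : Fintype.card F = p ^ f) (hf : 1 ≤ f) {n : ℕ} (hn : 3 ≤ n) (x : MulAut (Matrix.ProjectiveSpecialLinearGroup (Fin n) F)) (hx : Cfsg.IsGraphFieldAutClassPSL x) (hx2 : orderOf x = 2) :
    Even f ∧ (∀ y : MulAut (Matrix.ProjectiveSpecialLinearGroup (Fin n) F), Cfsg.IsGraphFieldAutClassPSL y → orderOf y = 2 → Cfsg.IsConjUnder (Cfsg.inndiagPSL n F) x y) ∧ Nonempty (↥(Cfsg.inndiagPSL n F ⊓ Subgroup.centralizer {x}) ≃* Cfsg.PGU n F (p ^ (f / 2))) ∧ Cfsg.splitClassCount (Cfsg.inndiagPSL n F) (Cfsg.Inn (Matrix.ProjectiveSpecialLinearGroup (Fin n) F)) x = Nat.gcd n (p ^ (f / 2) - 1) := by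
  have hn2 : 2 ≤ n := by omega
  haveI := range_δ_normal (F := F) hn2
  obtain ⟨α, σ, he, -, hσ, hσ1⟩ := graphFieldClass_iff hn hx Nat.prime_two hx2
  obtain ⟨hrf, -⟩ := fixed_field.{_, 0} hF σ two_pos hσ
  refine ⟨even_iff_two_dvd.2 hrf, ?_, ?_, ?_⟩
  · intro y hy hy2
    obtain ⟨α', τ, he', -, hτ, hτ1⟩ := graphFieldClass_iff hn hy Nat.prime_two hy2
    haveI := isCyclic_gal hf hF
    have hστ : τ = σ := by
      classical
      haveI : Fintype (F ≃+* F) := Fintype.ofInjective _ DFunLike.coe_injective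
      by_contra hne
      have h3 := IsCyclic.card_pow_eq_one_le (α := F ≃+* F) (n := 2) two_pos
      have h4 : ({1, σ, τ} : Finset (F ≃+* F)) ⊆ Finset.univ.filter fun a => a ^ 2 = 1 := by
        intro a ha
        simp only [Finset.mem_insert, Finset.mem_singleton] at ha
        rcases ha with rfl | rfl | rfl
        · simp
        · simp [← hσ, pow_orderOf_eq_one]
        · simp [← hτ, pow_orderOf_eq_one]
      have h5 := (Finset.card_le_card h4).trans h3
      rw [Finset.card_insert_of_notMem (by simp [Ne.symm hσ1, Ne.symm hτ1]),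
        Finset.card_insert_of_notMem (by simp [Ne.symm hne]), Finset.card_singleton] at h5
      omega
    subst hστ
    have hyx : y = (α'⁻¹ * α) * x * (α'⁻¹ * α)⁻¹ := by
      calc y = α'⁻¹ * (α' * y * α'⁻¹) * α' := by group
        _ = α'⁻¹ * (α * x * α⁻¹) * α' := by rw [he', he]
        _ = _ := by group
    obtain ⟨π, -, hk⟩ := exists_proj_big (F := F) hn
    let _ : CommGroup (F ≃+* F) := IsCyclic.commGroup
    have hd : y * x⁻¹ ∈ (δ : GL (Fin n) F →* MulAut (Matrix.ProjectiveSpecialLinearGroup (Fin n) F)).range := by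
      rw [← hk, MonoidHom.mem_ker, hyx]
      simp [mul_comm, mul_left_comm]
    rw [inndiagPSL_eq]
    have h := coset_conj _ (α := α) (he ▸ graphField_coset hn hσ) hd (by rw [inv_mul_cancel_right]; exact hy2)
    rwa [inv_mul_cancel_right] at h
  · rw [inndiagPSL_eq]
    obtain ⟨e1⟩ := centralizer_conj (δ : GL (Fin n) F →* MulAut (Matrix.ProjectiveSpecialLinearGroup (Fin n) F)).range x α
    rw [he] at e1
    obtain ⟨q, -, hq, hpow⟩ := CfsgLib.Geometry.exists_eq_pow (σ := (σ : F →+* F))
      (fun h => hσ1 (RingEquiv.ext fun a => RingHom.congr_fun h a)) (sq_eq_of_orderOf_two hσ)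
    have hq' : q = p ^ (f / 2) := by
      obtain ⟨k, rfl⟩ := hrf
      rw [Nat.card_eq_fintype_card, hF, mul_comm, pow_mul] at hq
      rw [Nat.mul_div_cancel_left _ two_pos]
      exact (Nat.pow_left_injective two_ne_zero hq).symm
    subst hq'
    obtain ⟨e2⟩ := graphField_centralizer hn2 hσ (fun a => hpow a)
    exact ⟨e1.trans e2⟩
  · rw [inndiagPSL_eq, splitClassCount_conj _ _ x α, he]
    exact graphField_split hF hn2 hσ

end Cfsg.Agent.S2704
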