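import Cfsg.Statements.S2708
import Cfsg.Agent.Lib.Geometry.GraphPSU.Transfer
import Cfsg.Agent.S2701

set_option autoImplicit false
open Cfsg

namespace Cfsg.Agent.S2708

open CfsgLib.Geometry CfsgLib.Geometry.GraphPSU CfsgLib.KnownB.PSUAut

/-- Let T = PSU_n(q) with n = 2m ≥ 4 even and q even, realised over the field F (of characteristic 2) with q² elements, and G = Inndiag(T) the image of PGU_n(q). The involutory graph automorphisms of T fall into exactly two G-classes, with representatives whose centralizers in G are isomorphic respectively to the symplectic group Sp_n(F₀) and to the centralizer in Sp_n(F₀) of a symplectic transvection, F₀ a field with q elements. -/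
theorem result {F : Type*} [Field F] [Fintype F] [CharP F 2] {q : ℕ} (hF : Fintype.card F = q ^ 2) {n m : ℕ} (hm : 2 ≤ m) (hnm : n = 2 * m) (F₀ : Type*) [Field F₀] [Fintype F₀] (hF₀ : Fintype.card F₀ = q) :
    ∃ (γ₁ γ₃ : MulAut (Cfsg.PSU n F q)) (t : ↥(Matrix.symplecticGroup (Fin m) F₀)), Cfsg.IsTransvection (t : Matrix (Fin m ⊕ Fin m) (Fin m ⊕ Fin m) F₀) ∧ Cfsg.IsGraphAutClassPSU γ₁ ∧ orderOf γ₁ = 2 ∧ Cfsg.IsGraphAutClassPSU γ₃ ∧ orderOf γ₃ = 2 ∧ ¬ Cfsg.IsConjUnder (Cfsg.inndiagPSU n F q) γ₁ γ₃ ∧ (∀ γ : MulAut (Cfsg.PSU n F q), Cfsg.IsGraphAutClassPSU γ → orderOf γ = 2 → Cfsg.IsConjUnder (Cfsg.inndiagPSU n F q) γ₁ γ ∨ Cfsg.IsConjUnder (Cfsg.inndiagPSU n F q) γ₃ γ) ∧ Nonempty (↥(Cfsg.inndiagPSU n F q ⊓ Subgroup.centralizer {γ₁}) ≃* ↥(Matrix.symplecticGroup (Fin m) F₀)) ∧ Nonempty (↥(Cfsg.inndiagPSU n F q ⊓ Subgroup.centralizer {γ₃}) ≃* ↥(Subgroup.centralizer ({t}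 : Set ↥(Matrix.symplecticGroup (Fin m) F₀)))) := by
  haveI : Finite F := Finite.of_fintype F
  haveI : Finite F₀ := Finite.of_fintype F₀
  obtain ⟨p, σ, τ, ι, D⟩ := exists_pair' (n := n) hF hF₀ (by omega)
  haveI : CharP F₀ 2 := RingHom.charP ι ι.injective 2
  obtain ⟨y₁, y₃, t, ht, g1, o1, g3, o3, n13, hall, ⟨c1⟩, ⟨c3⟩⟩ :=
    Cfsg.Agent.S2701.result (F := F₀) hm hnm
  obtain ⟨K₁, Γ₁, rfl, hD1, G1, O1, ⟨e1⟩⟩ := graph_lift D g1 o1
  obtain ⟨K₃, Γ₃, rfl, hD3, G3, O3, ⟨e3⟩⟩ := graph_lift D g3 o3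
  refine ⟨gautU τ K₁, gautU τ K₃, t, ht, G1, O1, G3, O3, fun h => n13 ((conj_iff D hD1 hD3).1 h),
    fun γ hγ hγ2 => ?_, ⟨e1.trans c1⟩, ⟨e3.trans c3⟩⟩
  obtain ⟨K, Γ, rfl, hD, h1, h2, -⟩ := graph_desc D hγ hγ2
  rw [conj_iff D hD1 hD, conj_iff D hD3 hD]
  exact hall _ h1 h2

end Cfsg.Agent.S2708
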