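import Cfsg.Statements.S2709
import Cfsg.Agent.Lib.Geometry.GraphPSU.Split

set_option autoImplicit false
open Cfsg

namespace Cfsg.Agent.S2709

open CfsgLib.Geometry CfsgLib.Geometry.GraphPSU CfsgLib.KnownB.PSUAut

/-- Let T = PSU_n(q) be simple (n ≥ 3, (n,q) ≠ (3,2), q = p^f), realised over the field F with q² elements, G = Inndiag(T) the image of PGU_n(q), and γ an involutory graph automorphism of T. The G-class of γ is the union of exactly c T-classes, where: if n is even and q is odd, c = gcd(n/2, q + 1) when C_G(γ) is isomorphic to PGSp_n(F₀) for a field F₀ with q elements (symplectic type) and c = gcd(n, q + 1)/2 otherwise; and c = gcd(n, q + 1) when n is odd or q is even. -/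
theorem result {F : Type*} [Field F] [Fintype F] {p f q : ℕ} [Fact p.Prime] (hq : q = p ^ f) (hf : 1 ≤ f) (hF : Fintype.card F = q ^ 2) {n : ℕ} (hn : 3 ≤ n) (hs : ¬ (n = 3 ∧ q = 2)) (F₀ : Type*) [Field F₀] [Fintype F₀] (hF₀ : Fintype.card F₀ = q) (γ : MulAut (Cfsg.PSU n F q)) (hγ : Cfsg.IsGraphAutClassPSU γ) (hγ2 : orderOf γ = 2) :
    ((Even n ∧ Odd q ∧ Nonempty (↥(Cfsg.inndiagPSU n F q ⊓ Subgroup.centralizer {γ}) ≃* Cfsg.PGSp (n / 2) F₀)) → Cfsg.splitClassCount (Cfsg.inndiagPSU n F q) (Cfsg.Inn (Cfsg.PSU n F q)) γ = Nat.gcd (n / 2) (q + 1)) ∧ ((Even n ∧ Odd q ∧ ¬ Nonempty (↥(Cfsg.inndiagPSU n F q ⊓ Subgroup.centralizer {γ}) ≃* Cfsg.PGSp (n / 2) F₀)) → Cfsg.splitClassCount (Cfsg.inndiagPSU n F q) (Cfsg.Inn (Cfsg.PSU n F q)) γ = Nat.gcd n (q + 1) / 2) ∧ (¬ (Even n ∧ Odd q) → Cfsg.splitClassCount (Cfsg.inndiagPSU n F q) (Cfsg.Inn (Cfsg.PSU n F q)) γ = Nat.gcd n (q + 1)) := by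
  classical
  haveI : Finite F := Finite.of_fintype F
  haveI : Finite F₀ := Finite.of_fintype F₀
  obtain ⟨σ, τ, ι, D⟩ := exists_pair hq hf hF hF₀ hn
  obtain ⟨K, Γ, rfl, hD, hΓ⟩ := exists_desc D hγ hγ2
  obtain ⟨c⟩ := cent_to_psl D hD
  have hd : ¬ (Even n ∧ Odd q) → Odd (Nat.gcd n (q + 1)) := by
    intro h
    rcases Nat.even_or_odd n with he | ho
    · have hqe : Odd (q + 1) := by
        rw [← Nat.not_even_iff_odd, Nat.even_add_one, not_not]
        exact Nat.not_odd_iff_even.1 fun h' => h ⟨he, h'⟩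
      exact hqe.of_dvd_nat (Nat.gcd_dvd_right _ _)
    · exact ho.of_dvd_nat (Nat.gcd_dvd_left _ _)
  refine ⟨?_, ?_, fun h => split_odd D hD (hd h)⟩
  · rintro ⟨⟨m, hm⟩, hodd, ⟨i⟩⟩
    have hnm : n = 2 * m := by omega
    have hdiv : n / 2 = m := by omega
    have h2 : (2 : F₀) ≠ 0 := CfsgLib.Geometry.two_ne_zero_of_odd (hF₀.symm ▸ hodd)
    rw [hdiv] at i ⊢
    rcases hΓ with h | h
    · exact absurd ⟨c.symm.trans i⟩ (GraphPSL.not_pgsp D.three (by omega) hnm h2 Γ h)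
    · exact split_alt D hnm h2 hD h
  · rintro ⟨⟨m, hm⟩, hodd, hi⟩
    have hnm : n = 2 * m := by omega
    have hdiv : n / 2 = m := by omega
    have h2 : (2 : F₀) ≠ 0 := CfsgLib.Geometry.two_ne_zero_of_odd (hF₀.symm ▸ hodd)
    rw [hdiv] at hi
    rcases hΓ with h | h
    · exact split_sym D hnm hodd h2 hD h
    · refine absurd ?_ hi
      obtain ⟨a, b, hab⟩ := GraphPSL.exists_aniso (F := F₀) h2
      let e : Fin m ⊕ Fin m ≃ Fin n := Fintype.equivFinOfCardEq (by simp; omega)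
      let e' : (Fin (m - 1) ⊕ Fin (m - 1)) ⊕ Fin 2 ≃ Fin n := Fintype.equivFinOfCardEq (by simp; omega)
      obtain ⟨hA, -⟩ := GraphPSL.even_odd_cases h2 (by omega) hnm hab e e' Γ
      obtain ⟨d⟩ := GraphPSL.cent_of_conj (by omega) (GraphPSL.conj_symm (hA h))
      obtain ⟨f⟩ := GraphPSL.cent_std (by omega) (GraphPSL.stdJ m F₀) e (GraphPSL.det_stdJ_ne_zero m)
      exact ⟨c.trans (d.trans f)⟩

end Cfsg.Agent.S2709
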