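import Cfsg.Statements.S2710
import Cfsg.Agent.Lib.Geometry.GraphPSU.Transfer
import Cfsg.Agent.S2703

set_option autoImplicit false
open Cfsg

namespace Cfsg.Agent.S2710

open CfsgLib.Geometry CfsgLib.Geometry.GraphPSU CfsgLib.KnownB.PSUAut

/-- Let T = PSU_n(q) with n ≥ 4 divisible by 4 (n = 2m) and q odd, realised over the field F with q² elements, G = Inndiag(T) the image of PGU_n(q), and φ the standard field automorphism of T attached to the q-th power map of F (it induces inverse-transpose on the unitary matrices and is a graph automorphism). Its centralizer in G is isomorphic to the projective conformal orthogonal group of the plus-type form Σ xᵢ yᵢ in dimension n over a field F₀ with q elements. (Dimensions n ≡ 2 (mod 4) are not covered.) -/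
theorem result {F : Type*} [Field F] [Fintype F] {q : ℕ} (hodd : Odd q) (hF : Fintype.card F = q ^ 2) {n m : ℕ} (hm : 2 ≤ m) (hnm : n = 2 * m) (h4 : 4 ∣ n) (F₀ : Type*) [Field F₀] [Fintype F₀] (hF₀ : Fintype.card F₀ = q) (σ : F ≃+* F) (hσ : ∀ a : F, σ a = a ^ q) (φ : MulAut (Cfsg.PSU n F q)) (hφ : Cfsg.IsFieldAutPSUOf σ φ) :
    Nonempty (↥(Cfsg.inndiagPSU n F q ⊓ Subgroup.centralizer {φ}) ≃* Cfsg.PGO F₀ (Cfsg.quadFormPlus m F₀)) := by
  haveI : Finite F := Finite.of_fintype F
  haveI : Finite F₀ := Finite.of_fintype F₀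
  obtain ⟨p, σ', τ, ι, D⟩ := exists_pair' (n := n) hF hF₀ (by omega)
  obtain rfl : σ = τ := RingEquiv.ext fun x => by rw [hσ, D.eq, D.setting.frob.pow]
  obtain rfl : φ = gautU σ (1 : Cfsg.GU n F q) := by
    rw [gautU, inv_one, map_one, one_mul]
    exact (fieldAut_iff _ _).1 hφ
  have hD : Desc σ ι (1 : Cfsg.GU n F q) (1 : GL (Fin n) F₀) :=
    ⟨1, 1, 1, one_ne_zero, one_ne_zero, by simp, by simp⟩
  obtain ⟨c⟩ := cent_to_psl D hD
  have hg : (CfsgLib.KnownB.PSLAut.it : MulAut (Matrix.ProjectiveSpecialLinearGroup (Fin n) F₀)) =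
      GraphPSL.gaut 1 := by rw [GraphPSL.gaut, inv_one, map_one, one_mul]
  obtain ⟨d⟩ := (Cfsg.Agent.S2703.result (F := F₀) (hF₀.symm ▸ hodd) hm hnm (GraphPSL.gaut 1)
    ((CfsgLib.KnownB.PSLAut.isInverseTransposeAutPSL_iff _).2 hg.symm)).1 (by
      rw [hF₀]
      obtain ⟨k, hk⟩ := h4
      obtain ⟨j, hj⟩ := hodd
      rw [hk, hj, Nat.add_sub_cancel, show 4 * k * (2 * j) = 4 * (2 * (k * j)) by ring,
        Nat.mul_div_cancel_left _ (by norm_num : 0 < 4)]
      exact even_two_mul _)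
  exact ⟨c.trans d⟩

end Cfsg.Agent.S2710
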