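import Cfsg.Statements.S2711
import Cfsg.Agent.Lib.KnownB.PSUAut.Field


set_option autoImplicit false
open Cfsg

namespace Cfsg.Agent.S2711

/-- Let T = PSU_n(q) be simple (n ≥ 3, (n,q) ≠ (3,2)), realised over the field F with q² elements, and let x be a field automorphism of T (conjugate to a standard field automorphism of odd order) of prime order r. Then an element y of the coset Inndiag(T)·x (y = δ x with δ in the image of PGU_n(q)) has order r if and only if y is conjugate to x by an element of Inndiag(T). (T has no graph-field automorphisms.) -/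
theorem result {F : Type*} [Field F] [Fintype F] {p f q : ℕ} [Fact p.Prime] (hq : q = p ^ f) (hf : 1 ≤ f) (hF : Fintype.card F = q ^ 2) {n : ℕ} (hn : 3 ≤ n) (hs : ¬ (n = 3 ∧ q = 2)) (x δ : MulAut (Cfsg.PSU n F q)) (hx : Cfsg.IsFieldAutClassPSU x) {r : ℕ} (hr : r.Prime) (hxr : orderOf x = r) (hδ : δ ∈ Cfsg.inndiagPSU n F q) :
    orderOf (δ * x) = r ↔ Cfsg.IsConjUnder (Cfsg.inndiagPSU n F q) x (δ * x) := by
    obtain ⟨σ, S⟩ := CfsgLib.KnownB.PSUAut.exists_setting hq hf hF hn
    haveI := S.range_δ_normal hn (CfsgLib.KnownB.PSUAut.three_le_of_ne S hs)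
    rw [S.inndiag_eq] at hδ ⊢
    obtain ⟨α, τ, hτ, ho, hodd⟩ := S.fieldClass_iff hn hx
    rw [hxr] at ho
    rw [ho] at hodd
    obtain ⟨hrf, hsub⟩ := CfsgLib.KnownB.PSUAut.exists_sub (f := f) hq hF hr hodd ho
    have hk : 2 * (f / r) ≠ 0 := by
      have := Nat.div_pos (Nat.le_of_dvd (by omega) hrf) hr.pos
      omega
    haveI := Fintype.ofFinite (GaloisField p (2 * (f / r)))
    obtain ⟨σ₀, ι, B⟩ := hsub (GaloisField p (2 * (f / r))) (by
      rw [← Nat.card_eq_fintype_card, GaloisField.card p _ hk])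
    constructor
    · intro h
      refine CfsgLib.KnownB.PSLAut.coset_conj _ (α := α) ?_ hδ h
      rw [hτ]
      exact S.field_coset hn B
    · rintro ⟨h, -, he⟩
      rw [he, ← hxr]
      exact MulEquiv.orderOf_eq (MulAut.conj h) x

end Cfsg.Agent.S2711
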