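import Cfsg.Statements.S2715
import Cfsg.Agent.Lib.Geometry.D4Normal
import Cfsg.Agent.Lib.Geometry.EvenField2
import Cfsg.Agent.Lib.Geometry.EvenCount

set_option autoImplicit false
open Cfsg CfsgLib.Geometry

namespace Cfsg.Agent.S2715

/-- Let T = PΩ⁺_{2m}(F) (m ≥ 4, |F| = p^f; the form Σ xᵢ yᵢ), G = Inndiag(T) the image of the class-preserving similarities in Aut(T), and x a field automorphism of T of prime order r. Then r divides f; C_G(x) is isomorphic to Inndiag(PΩ⁺_{2m}(F₀)) for a field F₀ with p^(f/r) elements; and the G-class of x is the union of exactly c T-classes, where c = 1 if r is odd or p = 2, and otherwise (r = 2, p odd) c = 2 when m is odd and p^(f/2) ≡ 1 (mod 4), and c = 4 in the remaining cases. -/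
theorem result {F : Type*} [Field F] [Fintype F] {p f : ℕ} [Fact p.Prime] (hF : Fintype.card F = p ^ f) (hf : 1 ≤ f) {m : ℕ} (hm : 4 ≤ m) (x : MulAut (Cfsg.POmega F (Cfsg.quadFormPlus m F))) (hx : Cfsg.IsFieldAutClassPOmega (Cfsg.quadFormPlus m F) x) {r : ℕ} (hr : r.Prime) (hxr : orderOf x = r) (F₀ : Type*) [Field F₀] [Fintype F₀] (hF₀ : Fintype.card F₀ = p ^ (f / r)) :
    r ∣ f ∧ Nonempty (↥(Cfsg.inndiagPOmegaPlus m F ⊓ Subgroup.centralizer {x}) ≃* ↥(Cfsg.inndiagPOmegaPlus m F₀)) ∧ ((Odd r ∨ p = 2) → Cfsg.splitClassCount (Cfsg.inndiagPOmegaPlus m F) (Cfsg.Inn (Cfsg.POmega F (Cfsg.quadFormPlus m F))) x = 1) ∧ ((r = 2 ∧ p ≠ 2 ∧ Odd m ∧ p ^ (f / 2) % 4 = 1) → Cfsg.splitClassCount (Cfsg.inndiagPOmegaPlus m F) (Cfsg.Inn (Cfsg.POmega F (Cfsg.quadFormPlus m F))) x = 2) ∧ ((r = 2 ∧ p ≠ 2 ∧ ¬ (Odd m ∧ p ^ (f / 2) % 4 = 1)) → Cfsg.splitClassCount (Cfsg.inndiagPOmegaPlus m F) (Cfsg.Inn (Cfsg.POmega F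 (Cfsg.quadFormPlus m F))) x = 4) := by
  haveI := CfsgLib.Geometry.normal_inndiag_plus_all (F := F) hm
  obtain ⟨α, φ, σ, hord, hφ, he⟩ := CfsgLib.Geometry.exists_plus_data hm hx
  rw [hxr] at hord
  obtain ⟨hrf, hι⟩ := CfsgLib.KnownB.Descent.fixed_field hF σ hr.pos hord
  obtain ⟨emb, hfix⟩ := hι F₀ hF₀
  have hc := CfsgLib.Geometry.carried_plus hm hfix hr hord hφ he
  have D := CfsgLib.Geometry.fieldHyp_plus (F := F) (emb := emb) hm hfix hr hord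
  obtain ⟨e⟩ := hc.centralizer
  obtain ⟨e'⟩ := CfsgLib.Geometry.centralizer_plus_std hm D
  refine ⟨hrf, ⟨e.trans e'⟩, ?_⟩
  rw [hc.count]
  have E₀ := CfsgLib.Geometry.evenHyp_plus (F := F₀) hm
  refine ⟨fun h => ?_, ?_⟩
  · by_cases h2 : (2 : F) = 0
    · exact D.split_even_two E₀ h2
    · exact D.split_even_odd E₀ h2 (h.resolve_right fun hp => h2 ((CfsgLib.Geometry.two_zero_iff hf hF).2 hp))
  by_cases hr2 : r = 2
  · subst hr2
    by_cases h2 : (2 : F) = 0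
    · exact ⟨fun h => absurd ((CfsgLib.Geometry.two_zero_iff hf hF).1 h2) h.2.1,
        fun h => absurd ((CfsgLib.Geometry.two_zero_iff hf hF).1 h2) h.2.1⟩
    · obtain ⟨c2, c4⟩ := CfsgLib.Geometry.split_plus_two hm D h2 (q := p ^ (f / 2))
        (by rw [Nat.card_eq_fintype_card, hF₀])
      exact ⟨fun h => c2 h.2.2, fun h => c4 h.2.2⟩
  · exact ⟨fun h => absurd h.1 hr2, fun h => absurd h.1 hr2⟩

end Cfsg.Agent.S2715
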