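import Cfsg.Statements.S2716
import Cfsg.Agent.Lib.Geometry.EvenField2

set_option autoImplicit false
open Cfsg CfsgLib.Geometry

namespace Cfsg.Agent.S2716

/-- Let T = PΩ⁻_{2m+2}(F) (m ≥ 3, |F| = p^f; the form Σ xᵢ yᵢ + z₁² + a z₁ z₂ + b z₂² with anisotropic binary part), G = Inndiag(T), and x a field automorphism of T of prime order r. Then r is odd and divides f; C_G(x) is isomorphic to Inndiag(PΩ⁻_{2m+2}(F₀)) for a field F₀ with p^(f/r) elements and some anisotropic binary part over F₀; and the G-class of x is a single T-class. -/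
theorem result {F : Type*} [Field F] [Fintype F] {p f : ℕ} [Fact p.Prime] (hF : Fintype.card F = p ^ f) (hf : 1 ≤ f) {m : ℕ} (hm : 3 ≤ m) (a b : F) (hab : (∀ z₁ z₂ : F, z₁ ^ 2 + a * z₁ * z₂ + b * z₂ ^ 2 = 0 → z₁ = 0 ∧ z₂ = 0)) (x : MulAut (Cfsg.POmega F (Cfsg.quadFormMinus m F a b))) (hx : Cfsg.IsFieldAutClassPOmegaMinus m x) {r : ℕ} (hr : r.Prime) (hxr : orderOf x = r) (F₀ : Type*) [Field F₀] [Fintype F₀] (hF₀ : Fintype.card F₀ = p ^ (f / r)) :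
    Odd r ∧ r ∣ f ∧ (∃ a₀ b₀ : F₀, (∀ z₁ z₂ : F₀, z₁ ^ 2 + a₀ * z₁ * z₂ + b₀ * z₂ ^ 2 = 0 → z₁ = 0 ∧ z₂ = 0) ∧ Nonempty (↥(Cfsg.inndiagPOmegaMinus m F a b ⊓ Subgroup.centralizer {x}) ≃* ↥(Cfsg.inndiagPOmegaMinus m F₀ a₀ b₀))) ∧ Cfsg.splitClassCount (Cfsg.inndiagPOmegaMinus m F a b) (Cfsg.Inn (Cfsg.POmega F (Cfsg.quadFormMinus m F a b))) x = 1 := by
  obtain ⟨a', b', σ, φ, Φ, hab', ha, hb, hord, hφ, hH, hT, he⟩ := exists_minus_data hm hab hx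
  rw [hxr] at hord
  obtain ⟨hrf, hι⟩ := CfsgLib.KnownB.Descent.fixed_field hF σ hr.pos hord
  obtain ⟨emb, hfix⟩ := hι F₀ hF₀
  obtain ⟨hodd, a₀, b₀, h₀, hc⟩ := carried_minus hm hab' ha hb hfix hr hord hφ hH hT he
  have D := fieldHyp_minus (emb := emb) hm h₀ hfix hr hord
  obtain ⟨e⟩ := hc.centralizer
  obtain ⟨e'⟩ := centralizer_minus_std hm h₀ D
  refine ⟨hodd, hrf, ⟨a₀, b₀, h₀, ⟨e.trans e'⟩⟩, hc.count.trans ?_⟩
  by_cases h2 : (2 : F) = 0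
  · exact D.split_even_two (evenHyp_minus hm h₀) h2
  · exact D.split_even_odd (evenHyp_minus hm h₀) h2 hodd

end Cfsg.Agent.S2716
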