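import Cfsg.Statements.S2717
import Cfsg.Agent.Lib.Geometry.EvenField2

set_option autoImplicit false
open Cfsg CfsgLib.Geometry

namespace Cfsg.Agent.S2717

set_option synthInstance.maxHeartbeats 400000 in
set_option maxHeartbeats 2000000 in
/-- Let T = PΩ⁺_{2m}(F) with m ≥ 5 (dimension 2m ≠ 8) and |F| = p^f, G = Inndiag(T), and x an involutory graph-field automorphism of T. Then f is even; any two involutory graph-field automorphisms of T are G-conjugate; C_G(x) is isomorphic to Inndiag(PΩ⁻_{2m}(F₀)) for a field F₀ with p^(f/2) elements (some anisotropic binary part over F₀); and the G-class of x is the union of exactly c T-classes with c = 1 if p = 2, c = 4 if p is odd, m is odd and p^(f/2) ≡ 1 (mod 4), and c = 2 otherwise. -/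
theorem result {F : Type*} [Field F] [Fintype F] {p f : ℕ} [Fact p.Prime] (hF : Fintype.card F = p ^ f) (hf : 1 ≤ f) {m : ℕ} (hm : 5 ≤ m) (x : MulAut (Cfsg.POmega F (Cfsg.quadFormPlus m F))) (hx : Cfsg.IsGraphFieldAutClassPOmegaPlus m x) (hx2 : orderOf x = 2) (F₀ : Type*) [Field F₀] [Fintype F₀] (hF₀ : Fintype.card F₀ = p ^ (f / 2)) :
    Even f ∧ (∀ y : MulAut (Cfsg.POmega F (Cfsg.quadFormPlus m F)), Cfsg.IsGraphFieldAutClassPOmegaPlus m y → orderOf y = 2 → Cfsg.IsConjUnder (Cfsg.inndiagPOmegaPlus m F) x y) ∧ (∃ a₀ b₀ : F₀, (∀ z₁ z₂ : F₀, z₁ ^ 2 + a₀ * z₁ * z₂ + b₀ * z₂ ^ 2 = 0 → z₁ = 0 ∧ z₂ = 0) ∧ Nonempty (↥(Cfsg.inndiagPOmegaPlus m F ⊓ Subgroup.centralizer {x}) ≃* ↥(Cfsg.inndiagPOmegaMinus (m - 1) F₀ a₀ b₀))) ∧ (p = 2 → Cfsg.splitClassCount (Cfsg.inndiagPOmegaPlus m F) (Cfsg.Inn (Cfsg.POmega F (Cfsg.quadFormPlus m F))) x = 1) ∧ ((p ≠ 2 ∧ Odd m ∧ p ^ (f / 2) % 4 = 1) →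 Cfsg.splitClassCount (Cfsg.inndiagPOmegaPlus m F) (Cfsg.Inn (Cfsg.POmega F (Cfsg.quadFormPlus m F))) x = 4) ∧ ((p ≠ 2 ∧ ¬ (Odd m ∧ p ^ (f / 2) % 4 = 1)) → Cfsg.splitClassCount (Cfsg.inndiagPOmegaPlus m F) (Cfsg.Inn (Cfsg.POmega F (Cfsg.quadFormPlus m F))) x = 2) := by
  obtain ⟨-, α, γ, φ, σ, v, rm, hord, hv, hrm, hγ, hφ, he⟩ := exists_graph_data hm hx Nat.prime_two hx2
  obtain ⟨n, rfl⟩ : ∃ n, m = n + 1 := ⟨m - 1, by omega⟩
  obtain ⟨hrf, hι⟩ := CfsgLib.KnownB.Descent.fixed_field hF σ (by norm_num) hord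
  obtain ⟨emb, hfix⟩ := hι F₀ hF₀
  have hn : 4 ≤ n := by omega
  have D := fieldHyp_plus (F := F) (emb := emb) (show 4 ≤ n + 1 by omega) hfix Nat.prime_two hord
  obtain ⟨g', hg', hx'⟩ := exists_graph_form hm D hv hrm hγ hφ he
  obtain ⟨a₀, b₀, h₀, D', T, g, hg, hT⟩ := exists_graph_model hn D
  have hc := carried_graph hn h₀ D D' T hg hT hg' hx' hx2
  have E₀ := evenHyp_minus (show 3 ≤ n by omega) h₀
  refine ⟨even_iff_two_dvd.2 hrf, fun y hy hy2 => ?_, ⟨a₀, b₀, h₀, ?_⟩, ?_⟩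
  · obtain ⟨-, α₁, γ₁, φ₁, σ₁, v₁, rm₁, hord₁, hv₁, hrm₁, hγ₁, hφ₁, he₁⟩ := exists_graph_data hm hy Nat.prime_two hy2
    obtain rfl := involution_unique hord hord₁
    obtain ⟨g₁, hg₁, hy'⟩ := exists_graph_form hm D hv₁ hrm₁ hγ₁ hφ₁ he₁
    have hd : y * x⁻¹ ∈ Cfsg.inndiagPOmegaPlus (n + 1) F := by
      rw [← inndiag_plus_map emb (show 4 ≤ n + 1 by omega)]
      refine ⟨_, ⟨g₁ * g'⁻¹, ((evenHyp_plus (show 4 ≤ n + 1 by omega)).base emb).mul_mem_of_not hg₁ hg', rfl⟩, ?_⟩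
      rw [MulEquiv.coe_toMonoidHom, ← MulEquiv.eq_symm_apply, map_mul (plusSim₀ (F := F) emb (n + 1)).autEquiv.symm,
        map_inv (plusSim₀ (F := F) emb (n + 1)).autEquiv.symm, hx', hy', map_mul, map_inv]
      group
    have := hc.coset (D'.coset_even E₀) hd (by rw [inv_mul_cancel_right]; exact hy2)
    rwa [inv_mul_cancel_right] at this
  · obtain ⟨e⟩ := hc.centralizer
    obtain ⟨e'⟩ := centralizer_minus_std (show 3 ≤ n by omega) h₀ D'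
    exact ⟨e.trans e'⟩
  rw [hc.count]
  by_cases h2 : (2 : F) = 0
  · have hp := (two_zero_iff hf hF).1 h2
    exact ⟨fun _ => D'.split_even_two E₀ h2, fun h => absurd hp h.1, fun h => absurd hp h.1⟩
  · have hp : p ≠ 2 := fun h => h2 ((two_zero_iff hf hF).2 h)
    obtain ⟨c4, c2⟩ := split_minus_two (show 3 ≤ n by omega) h₀ D' h2 (q := p ^ (f / 2)) (by rw [Nat.card_eq_fintype_card, hF₀])
    exact ⟨fun h => absurd h hp, fun h => c4 h.2, fun h => c2 h.2⟩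

end Cfsg.Agent.S2717
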