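import Cfsg.Statements.S2730
import Cfsg.Agent.Lib.KnownB.PSpAut.Core
-- import your own Cfsg.Agent.* helpers here

set_option autoImplicit false
open Cfsg

open Cfsg CfsgLib.KnownB.PSpAut

namespace Cfsg.Agent.S2730

/-- A criterion for the failure of local balance in almost simple groups whose socle is a projective symplectic group PSp_{2m}(F) (m ≥ 2, (2m, |F|) ≠ (4, 2)). Let F be a finite field of characteristic r and K the (simple) group in question; let A be a group of automorphisms of K containing all inner automorphisms, and x ∈ A an automorphism of prime order p ≠ r that is not inner-diagonal (not induced by a conformal symplectic matrix). Then the largest normal subgroup of C_A(x) of order prime to p is nontrivial if and only if x is a field automorphism of K (conjugate under Aut(K) to a non-identity standard field automorphism) and p does not divide the number of fixed points of x on K. -/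
theorem result {F : Type*} [Field F] [Fintype F] {r : ℕ} [Fact r.Prime] [CharP F r] {m : ℕ} (hm : 2 ≤ m) (hs : m = 2 → 3 ≤ Fintype.card F) (hK : IsSimpleGroup (Cfsg.PSp m F)) (A : Subgroup (MulAut (Cfsg.PSp m F))) (hinn : ∀ k : Cfsg.PSp m F, MulAut.conj k ∈ A) {p : ℕ} [Fact p.Prime] (hpr : p ≠ r) (x : MulAut (Cfsg.PSp m F)) (hxA : x ∈ A) (hord : orderOf x = p) (hnot : ¬ Cfsg.IsInnerDiagonalAutPSp x) :
    Cfsg.pPrimeCore p ↥(A ⊓ Subgroup.centralizer {x}) ≠ ⊥ ↔ (Cfsg.IsFieldAutClassPSp x ∧ Nat.Coprime p (Nat.card ↥(MonoidHom.eqLocus x.toMonoidHom (MonoidHom.id (Cfsg.PSp m F))))) := by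
  classical
  haveI : NeZero m := ⟨by omega⟩
  have hpF : (p : F) ≠ 0 := fun h => hpr <|
    ((Nat.prime_dvd_prime_iff_eq Fact.out Fact.out).1 ((CharP.cast_eq_zero_iff F r p).1 h)).symm
  have hxΓ : x ∈ Cfsg.gammaPSp m F := mem_gamma_of_odd_order hm x fun h2 => by
    rw [hord]
    refine (Fact.out : p.Prime).odd_of_ne_two ?_
    rintro rfl
    exact hpF (by exact_mod_cast h2)
  obtain ⟨g, σ, rfl⟩ := gamma_decomp hxΓ
  have hσ1 : σ ≠ 1 := fun h => hnot ((isInnerDiagonalAutPSp_iff _).2 ⟨g, by rw [h, map_one, mul_one]⟩)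
  have hσp : orderOf σ = p := by
    obtain ⟨G, hG⟩ := δ_fld_pow g σ p
    have h1 : (δ g * fld σ : MulAut (Cfsg.PSp m F)) ^ p = 1 :=
      orderOf_dvd_iff_pow_eq_one.1 (dvd_of_eq hord)
    rw [h1] at hG
    exact orderOf_eq_prime (eq_smul_of_δ_fld hm hG.symm).1 hσ1
  obtain ⟨h, -, he⟩ := field_coset hm (Fact.out : p.Prime).pos hσp _ ⟨g, rfl⟩ hord
  have hx' : h⁻¹ * (δ g * fld σ) * h⁻¹⁻¹ = fld σ := by rw [he]; group
  have hfc : Cfsg.IsFieldAutClassPSp (δ g * fld σ : MulAut (Cfsg.PSp m F)) :=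
    ⟨h⁻¹, σ, hσ1, by rw [hx', isStdFieldAutPSp_iff]⟩
  rw [and_iff_right hfc]
  set φ := MulAut.conj h⁻¹
  have hmap : (A ⊓ Subgroup.centralizer {(δ g * fld σ : MulAut (Cfsg.PSp m F))}).map φ.toMonoidHom =
      A.map φ.toMonoidHom ⊓ Subgroup.centralizer {(fld σ : MulAut (Cfsg.PSp m F))} := by
    rw [Subgroup.map_inf _ _ _ φ.injective]
    congr 1
    ext y
    rw [Subgroup.mem_map, Subgroup.mem_centralizer_singleton_iff]
    constructor
    · rintro ⟨z, hz, rfl⟩
      rw [Subgroup.mem_centralizer_singleton_iff] at hz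
      rw [← hx', show φ.toMonoidHom z = h⁻¹ * z * h⁻¹⁻¹ from rfl]
      simp only [inv_inv]
      calc h⁻¹ * z * h * (h⁻¹ * (δ g * fld σ) * h) = h⁻¹ * (z * (δ g * fld σ)) * h := by group
        _ = h⁻¹ * ((δ g * fld σ) * z) * h := by rw [hz]
        _ = _ := by group
    · intro hy
      refine ⟨φ.symm y, ?_, φ.apply_symm_apply y⟩
      rw [Subgroup.mem_centralizer_singleton_iff]
      apply φ.injective
      have e : φ (δ g * fld σ) = fld σ := hx'
      rw [map_mul φ (φ.symm y), map_mul φ (δ g * fld σ), MulEquiv.apply_symm_apply, e]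
      exact hy
  have hinn' : ∀ k, MulAut.conj k ∈ A.map φ.toMonoidHom := fun k =>
    ⟨MulAut.conj (h k), hinn _, MulEquiv.ext fun y => by
      show h⁻¹ (h k * h⁻¹⁻¹ y * (h k)⁻¹) = k * y * k⁻¹
      simp⟩
  rw [pPrimeCore_ne_bot_congr (((A ⊓ Subgroup.centralizer {(δ g * fld σ : MulAut (Cfsg.PSp m F))}).equivMapOfInjective
    φ.toMonoidHom φ.injective).trans (MulEquiv.subgroupCongr hmap)) p,
    core_criterion hm hK hpF hσp _ hinn']
  rw [Nat.card_congr (Equiv.subtypeEquiv (h : Cfsg.PSp m F ≃* Cfsg.PSp m F).toEquiv ?_)]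
  intro k
  show fld σ k = k ↔ (δ g * fld σ : MulAut (Cfsg.PSp m F)) (h k) = h k
  rw [he]
  show fld σ k = k ↔ h ((fld σ) (h⁻¹ (h k))) = h k
  rw [show h⁻¹ (h k) = k from h.symm_apply_apply k]
  exact ⟨fun e => by rw [e], fun e => h.injective e⟩

end Cfsg.Agent.S2730
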