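import Cfsg.Statements.S2731
import Cfsg.Agent.Lib.Geometry.FieldCriterionOdd

set_option autoImplicit false
open Cfsg CfsgLib.Geometry

namespace Cfsg.Agent.S2731

/-- A criterion for the failure of local balance in almost simple groups whose socle is an odd-dimensional orthogonal group Ω_{2m+1}(F) (m ≥ 3, |F| odd; the form x₀² + Σ xᵢ yᵢ). Let F be a finite field of characteristic r and K the (simple) group in question; let A be a group of automorphisms of K containing all inner automorphisms, and x ∈ A an automorphism of prime order p ≠ r that is not inner-diagonal (not induced by a similarity of the form). Then the largest normal subgroup of C_A(x) of order prime to p is nontrivial if and only if x is a field automorphism of K (conjugate under Aut(K) to a non-identity standard field automorphism) and p does not divide the number of fixed points of x on K. -/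
theorem result {F : Type*} [Field F] [Fintype F] {r : ℕ} [Fact r.Prime] [CharP F r] (hodd : Odd (Fintype.card F)) {m : ℕ} (hm : 3 ≤ m) (hK : IsSimpleGroup (Cfsg.POmega F (Cfsg.quadFormOdd m F))) (A : Subgroup (MulAut (Cfsg.POmega F (Cfsg.quadFormOdd m F)))) (hinn : ∀ k : Cfsg.POmega F (Cfsg.quadFormOdd m F), MulAut.conj k ∈ A) {p : ℕ} [Fact p.Prime] (hpr : p ≠ r) (x : MulAut (Cfsg.POmega F (Cfsg.quadFormOdd m F))) (hxA : x ∈ A) (hord : orderOf x = p) (hnot : ¬ Cfsg.IsInnerDiagonalAutPOmegaOdd m x) :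
    Cfsg.pPrimeCore p ↥(A ⊓ Subgroup.centralizer {x}) ≠ ⊥ ↔ (Cfsg.IsFieldAutClassPOmega (Cfsg.quadFormOdd m F) x ∧ Nat.Coprime p (Nat.card ↥(MonoidHom.eqLocus x.toMonoidHom (MonoidHom.id (Cfsg.POmega F (Cfsg.quadFormOdd m F)))))) := by
  have h2 : (2 : F) ≠ 0 := two_ne_zero_of_odd hodd
  have hp : p.Prime := Fact.out
  have hni : x ∉ Cfsg.inndiagPOmegaOdd m F := by
    rw [CfsgLib.Geometry.inndiagPOmegaOdd_eq]
    rintro ⟨g, hg⟩
    exact hnot ⟨g.1, g.2, (CfsgLib.Geometry.isInduced_sim_iff g.2 _).2 hg.symm⟩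
  obtain ⟨α, σ, hσ1, hσp, hφ⟩ := CfsgLib.Geometry.fieldClass_odd h2 hm hp hord hni
  have hcls : Cfsg.IsFieldAutClassPOmega (Cfsg.quadFormOdd m F) x := ⟨α, _, σ, hσ1, hφ, rfl⟩
  rw [and_iff_right hcls]
  let K := RingHom.eqLocusField (σ : F →+* F) (RingHom.id F)
  exact CfsgLib.Geometry.criterion_transport α x A p hinn fun A' hA' =>
    CfsgLib.Geometry.standard_odd_criterion h2 hm (emb := K.subtype)
      (fun a => ⟨fun h => ⟨⟨a, h⟩, rfl⟩, fun ⟨b, hb⟩ => hb ▸ b.2⟩) hp hσp hφ A' hA'

end Cfsg.Agent.S2731
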