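import Cfsg.Statements.S2732
import Cfsg.Agent.Lib.FgsC.LocalBalance.OrthFieldPlus
import Cfsg.Agent.Lib.FgsC.LocalBalance.Triality.Main

set_option autoImplicit false
set_option maxHeartbeats 2000000
open Cfsg
open CfsgLib.Geometry CfsgLib.FgsC.LocalBalance Matrix

namespace Cfsg.Agent.S2732

/-- A criterion for the failure of local balance in almost simple groups whose socle is a plus-type orthogonal group PΩ⁺_{2m}(F) (m ≥ 4; the form Σ xᵢ yᵢ). Let F be a finite field of characteristic r and K the (simple) group in question; let A be a group of automorphisms of K containing all inner automorphisms, and x ∈ A an automorphism of prime order p ≠ r that is not inner-diagonal (not induced by a similarity preserving the two classes of maximal totally singular subspaces). Then the largest normal subgroup of C_A(x) of order prime to p is nontrivial if and only if x is a field automorphism of K (conjugate under Aut(K) to a non-identity standard field automorphism) and p does not divide the number of fixed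 points of x on K. -/
theorem result {F : Type*} [Field F] [Fintype F] {r : ℕ} [Fact r.Prime] [CharP F r] {m : ℕ} (hm : 4 ≤ m) (hK : IsSimpleGroup (Cfsg.POmega F (Cfsg.quadFormPlus m F))) (A : Subgroup (MulAut (Cfsg.POmega F (Cfsg.quadFormPlus m F)))) (hinn : ∀ k : Cfsg.POmega F (Cfsg.quadFormPlus m F), MulAut.conj k ∈ A) {p : ℕ} [Fact p.Prime] (hpr : p ≠ r) (x : MulAut (Cfsg.POmega F (Cfsg.quadFormPlus m F))) (hxA : x ∈ A) (hord : orderOf x = p) (hnot : ¬ Cfsg.IsInnerDiagonalAutPOmegaPlus m x) :
    Cfsg.pPrimeCore p ↥(A ⊓ Subgroup.centralizer {x}) ≠ ⊥ ↔ (Cfsg.IsFieldAutClassPOmega (Cfsg.quadFormPlus m F) x ∧ Nat.Coprime p (Nat.card ↥(MonoidHom.eqLocus x.toMonoidHom (MonoidHom.id (Cfsg.POmega F (Cfsg.quadFormPlus m F)))))) := by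
  classical
  haveI hN : (Cfsg.inndiagPOmegaPlus m F).Normal := normal_inndiag_plus_all hm
  have hp := (Fact.out : p.Prime)
  set S := plusSim F m with hS
  -- membership in the inner-diagonal group
  have hmem : x ∉ Cfsg.inndiagPOmegaPlus m F := by
    intro hx
    rw [← inndiag_plus_eq hm, FormSim.map_map_simAut] at hx
    obtain ⟨g, ⟨g', hg', rfl⟩, hge⟩ := hx
    refine hnot ⟨_, ((plusSim F m).simEquiv g').2, ?_, (isInduced_sim_iff ((plusSim F m).simEquiv g').2 x).2 hge.symm⟩
    have e : (((plusSim F m).simEquiv g') : GL (Fin m ⊕ Fin m) F) = (g' : GL (Fin m ⊕ Fin m) F) :=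
      FormSim.simEquiv_ofEq_coe (coe_matQuad_plus m) g'
    rw [e]
    exact (mem_clsSub_plus hm g').1 hg'
  have hno : ∀ (α : MulAut (Cfsg.POmega F (Cfsg.quadFormPlus m F))) (y : semiSim ⇑(matQuad (plusMat m F))),
      α * x * α⁻¹ = S.autEquiv (autOmega _ y) → orderOf (autOmega _ y) = p ∧
        autOmega _ y ∉ (clsSub (plusMat m F) m).map (simAut _) := by
    intro α y he
    refine ⟨?_, fun h => hmem ?_⟩
    · rw [← MulEquiv.orderOf_eq S.autEquiv, ← he]
      exact (MulEquiv.orderOf_eq (MulAut.conj α) x).trans hord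
    · have h2 : α * x * α⁻¹ ∈ Cfsg.inndiagPOmegaPlus m F := by
        rw [he, ← inndiag_plus_eq hm]; exact ⟨_, h, rfl⟩
      simpa [mul_assoc] using hN.conj_mem _ h2 α⁻¹
  have hcongr : ∀ a, MulAut.congr S.pomegaEquiv.symm (S.autEquiv a) = a := fun a => MulEquiv.ext fun v => by
    simp [FormSim.autEquiv, MulAut.congr, MulAut.inv_def]
  -- a semisimilarity or a triality element
  have hcases : (∃ α y, α * x * α⁻¹ = S.autEquiv (autOmega _ y)) ∨
      (m = 4 ∧ p = 3 ∧ S.autEquiv.symm x ∉ (autOmega ⇑(matQuad (plusMat m F))).range) := by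
    rcases Nat.lt_or_ge 4 m with h5 | h4
    · left
      have hΓ := gammaPOmega_plus_eq_top (F := F) h5
      rw [← coe_matQuad_plus] at hΓ
      obtain ⟨y, hy⟩ : S.autEquiv.symm x ∈ (autOmega ⇑(matQuad (plusMat m F))).range := by
        rw [← gammaPOmega_eq, hΓ]; trivial
      exact ⟨1, y, by rw [hy, MulEquiv.apply_symm_apply]; simp⟩
    · obtain rfl : m = 4 := le_antisymm h4 hm
      rcases exists_conj_range hp (S.autEquiv.symm x) ((MulEquiv.orderOf_eq _ x).trans hord) with ⟨α, y, hy⟩ | h
      · left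
        refine ⟨S.autEquiv α, y, ?_⟩
        have h1 := congrArg S.autEquiv hy
        rw [map_mul S.autEquiv, map_mul S.autEquiv, map_inv S.autEquiv, MulEquiv.apply_symm_apply] at h1
        exact h1.symm
      · exact Or.inr ⟨rfl, h⟩
  rcases hcases with ⟨α, y, he⟩ | ⟨rfl, rfl, hxr⟩
  · obtain ⟨hy, hyn⟩ := hno α y he
    rcases hp.eq_two_or_odd' with rfl | hodd
    · have h2 : (2 : F) ≠ 0 := by
        intro h
        have : r ∣ 2 := (CharP.cast_eq_zero_iff F r 2).1 (by exact_mod_cast h)
        exact hpr ((Nat.prime_dvd_prime_iff_eq Fact.out Nat.prime_two).1 this).symm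
      have hbot : Cfsg.pPrimeCore 2 ↥(A ⊓ Subgroup.centralizer {x}) = ⊥ := by
        refine core_centralizer_conj α x A 2 hinn fun A' hA' => ?_
        rw [he]
        refine core_bot_congr S.pomegaEquiv.symm A' hA' _ 2 fun A'' hA'' => ?_
        rw [hcongr]
        exact two_order_plus hm h2 y hy hyn A'' hA''
      exact iff_of_false (fun h => h hbot) fun h => not_coprime_fix_field hm h.1 hord h.2
    · have hfc : Cfsg.IsFieldAutClassPOmega (Cfsg.quadFormPlus m F) x := by
        obtain ⟨β, φ, σ, hσ, hφ, hb⟩ := (odd_order_plus hm hp hodd y hy hyn ⊤ fun _ => trivial).1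
        refine ⟨β * α, φ, σ, hσ, hφ, ?_⟩
        rw [← hb, ← he]
        group
      refine Iff.trans ?_ (and_iff_right hfc).symm
      refine criterion_transport α x A p hinn fun A' hA' => ?_
      rw [he]
      exact (odd_order_plus hm hp hodd y hy hyn A' hA').2
  · haveI : Tri.NotThree F := ⟨fun h => by
      have : r ∣ 3 := (CharP.cast_eq_zero_iff F r 3).1 (by exact_mod_cast h)
      exact hpr ((Nat.prime_dvd_prime_iff_eq Fact.out Nat.prime_three).1 this).symm⟩
    have hord' : orderOf (S.autEquiv.symm x) = 3 := (MulEquiv.orderOf_eq _ x).trans hord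
    have hbot : Cfsg.pPrimeCore 3 ↥(A ⊓ Subgroup.centralizer {x}) = ⊥ := by
      refine core_bot_congr S.pomegaEquiv.symm A hinn x 3 fun A' hA' => ?_
      rw [← S.autEquiv.apply_symm_apply x, hcongr]
      exact Tri.core_triality hxr hord' A' hA'
    refine iff_of_false (fun h => h hbot) ?_
    rintro ⟨⟨α, φ, σ, -, hφ, he⟩, -⟩
    have hy : (SemidirectProduct.inr σ : GammaL (Fin 4 ⊕ Fin 4) F) ∈ semiSim (Cfsg.quadFormPlus 4 F) := by
      rw [← coe_matQuad_plus]; exact (plusFld 4 σ).2
    have hφ' : S.autEquiv (Tri.phi σ) = φ := by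
      rw [fieldAut_eq_autOmega hφ ⟨_, hy⟩ rfl]
      exact FormSim.ofEq_autEquiv_autOmega _ (plusFld 4 σ) ⟨_, hy⟩ rfl
    refine Tri.conj_ne_phi hxr (S.autEquiv.symm α) σ ?_
    refine S.autEquiv.injective ?_
    rw [map_mul S.autEquiv, map_mul S.autEquiv, map_inv S.autEquiv, MulEquiv.apply_symm_apply,
      MulEquiv.apply_symm_apply, he, hφ']

end Cfsg.Agent.S2732
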