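import Cfsg.Statements.S2733
import Cfsg.Agent.Lib.FgsC.LocalBalance.OrthFieldMinus
import Cfsg.Agent.Lib.FgsC.LocalBalance.OrthMinusMain

set_option autoImplicit false
open Cfsg
open CfsgLib.Geometry

namespace Cfsg.Agent.S2733

/-- A criterion for the failure of local balance in almost simple groups whose socle is a minus-type orthogonal group PΩ⁻_{2m+2}(F) (m ≥ 3; the form Σ xᵢ yᵢ + z₁² + a z₁ z₂ + b z₂² with anisotropic binary part). Let F be a finite field of characteristic r and K the (simple) group in question; let A be a group of automorphisms of K containing all inner automorphisms, and x ∈ A an automorphism of prime order p ≠ r that is not inner-diagonal (not induced by a class-preserving similarity, classes read over a quadratic extension). Then the largest normal subgroup of C_A(x) of order prime to p is nontrivial if and only if x is a field automorphism of K (conjugate under Aut(K) to a non-identity standard field automorphism) and p does not divide the number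 of fixed points of x on K. -/
theorem result {F : Type*} [Field F] [Fintype F] {r : ℕ} [Fact r.Prime] [CharP F r] {m : ℕ} (hm : 3 ≤ m) (a b : F) (hab : (∀ z₁ z₂ : F, z₁ ^ 2 + a * z₁ * z₂ + b * z₂ ^ 2 = 0 → z₁ = 0 ∧ z₂ = 0)) (hK : IsSimpleGroup (Cfsg.POmega F (Cfsg.quadFormMinus m F a b))) (A : Subgroup (MulAut (Cfsg.POmega F (Cfsg.quadFormMinus m F a b)))) (hinn : ∀ k : Cfsg.POmega F (Cfsg.quadFormMinus m F a b), MulAut.conj k ∈ A) {p : ℕ} [Fact p.Prime] (hpr : p ≠ r) (x : MulAut (Cfsg.POmega F (Cfsg.quadFormMinus m F a b))) (hxA : x ∈ A) (hord : orderOf x = p) (hnot : ¬ Cfsg.IsInnerDiagonalAutPOmegaMinus m a b x) :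
    Cfsg.pPrimeCore p ↥(A ⊓ Subgroup.centralizer {x}) ≠ ⊥ ↔ (Cfsg.IsFieldAutClassPOmegaMinus m x ∧ Nat.Coprime p (Nat.card ↥(MonoidHom.eqLocus x.toMonoidHom (MonoidHom.id (Cfsg.POmega F (Cfsg.quadFormMinus m F a b)))))) := by
  classical
  have hp : p.Prime := Fact.out
  have hE := evenHyp_minus hm hab
  rcases hp.eq_two_or_odd' with rfl | hpodd
  · have h2F : (2 : F) ≠ 0 := fun h => hpr <|
      ((Nat.prime_dvd_prime_iff_eq Fact.out Nat.prime_two).1 ((CharP.cast_eq_zero_iff F r 2).1 (by exact_mod_cast h))).symm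
    have D := simData_minus h2F (m := m) (by omega) hab
    have hbot : Cfsg.pPrimeCore 2 ↥(A ⊓ Subgroup.centralizer {x}) = ⊥ := by
      refine CfsgLib.FgsC.LocalBalance.core_outer_involution D.hyp (by omega) (coe_matQuad_minus m a b)
        (fun h hsq => (FiniteField.isSquare_neg_one_iff.1 h) ((isSquare_det_minus_iff h2F m hab).1 hsq).2)
        (gammaPOmega_minus_eq_top hm hab) x hord (fun g hi hχ => hnot ⟨_, ?_, (D.preserves g).2 hχ, hi⟩) A hinn
      have e : ∀ (Q Q' : (((Fin m ⊕ Fin m) ⊕ Fin 2) → F) → F), Q = Q' → ∀ g₀ : GL ((Fin m ⊕ Fin m) ⊕ Fin 2) F,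
          g₀ ∈ Cfsg.Geo.quadSimilarityGroup Q → g₀ ∈ Cfsg.Geo.quadSimilarityGroup Q' :=
        fun Q Q' h g₀ hg₀ => h ▸ hg₀
      exact e _ _ (coe_matQuad_minus m a b) _ g.2
    refine iff_of_false (not_not.2 hbot) fun h => ?_
    obtain ⟨a', b', σ, φ, Φ, hab', ha, hb, hσ, hφ, hH, hT, he⟩ := exists_minus_data hm hab h.1
    rw [hord] at hσ
    let K := RingHom.eqLocusField (σ : F →+* F) (RingHom.id F)
    obtain ⟨h', -⟩ := carried_minus (emb := K.subtype) hm hab' ha hb
      (fun a => ⟨fun h => ⟨⟨a, h⟩, rfl⟩, fun ⟨y, hy⟩ => hy ▸ y.2⟩) hp hσ hφ hH hT he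
    exact absurd h' (by decide)
  · have hni : x ∉ Cfsg.inndiagPOmegaMinus m F a b := by
      rw [← inndiag_minus_eq hm hab]
      rintro ⟨_, ⟨g, hg, rfl⟩, rfl⟩
      refine hnot ⟨_, ((minusSim m a b).simEquiv g).2, ?_,
        (isInduced_sim_iff ((minusSim m a b).simEquiv g).2 _).2 ((minusSim m a b).autEquiv_simAut g)⟩
      have e : (((minusSim m a b).simEquiv g : GL ((Fin m ⊕ Fin m) ⊕ Fin 2) F)) = (g : GL ((Fin m ⊕ Fin m) ⊕ Fin 2) F) :=
        FormSim.simEquiv_ofEq_coe (coe_matQuad_minus m a b) g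
      rw [e]
      exact (mem_clsSub_minus hm hab g).1 hg
    obtain ⟨h1, h2⟩ := CfsgLib.FgsC.LocalBalance.odd_order_minus hm hab hp hpodd x hord hni A hinn
    rw [and_iff_right h1]
    exact h2

end Cfsg.Agent.S2733
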