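import Cfsg.Statements.S2736
import Cfsg.Agent.Lib.Geometry.EvenField2

set_option autoImplicit false
open Cfsg CfsgLib.Geometry

namespace Cfsg.Agent.S2736

/-- Let T = PΩ⁺_{2m}(F) with m ≥ 5 (dimension ≠ 8) and x a field automorphism or a graph-field automorphism of T of prime order r. Then an element y of the coset Inndiag(T)·x (y = δ x with δ induced by a class-preserving similarity) has order r if and only if y is conjugate to x by an element of Inndiag(T). -/
theorem result {F : Type*} [Field F] [Fintype F] {m : ℕ} (hm : 5 ≤ m) (x δ : MulAut (Cfsg.POmega F (Cfsg.quadFormPlus m F))) (hx : Cfsg.IsFieldAutClassPOmega (Cfsg.quadFormPlus m F) x ∨ Cfsg.IsGraphFieldAutClassPOmegaPlus m x) {r : ℕ} (hr : r.Prime) (hxr : orderOf x = r) (hδ : δ ∈ Cfsg.inndiagPOmegaPlus m F) :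
    orderOf (δ * x) = r ↔ Cfsg.IsConjUnder (Cfsg.inndiagPOmegaPlus m F) x (δ * x) := by
  refine ⟨fun ho => ?_, fun h => (isConjUnder_orderOf h).trans hxr⟩
  haveI := normal_inndiag_plus (F := F) (show 4 ≤ m by omega) (Or.inl hm)
  rcases hx with hx | hx
  · obtain ⟨α, φ, σ, hord, hφ, he⟩ := exists_plus_data (show 4 ≤ m by omega) hx
    rw [hxr] at hord
    let K := RingHom.eqLocusField (σ : F →+* F) (RingHom.id F)
    have hfix : ∀ a, σ a = a ↔ ∃ y, K.subtype y = a := fun a =>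
      ⟨fun h => ⟨⟨a, h⟩, rfl⟩, fun ⟨y, hy⟩ => hy ▸ y.2⟩
    have hc := carried_plus (show 4 ≤ m by omega) hfix hr hord hφ he
    exact hc.coset ((fieldHyp_plus (show 4 ≤ m by omega) hfix hr hord).coset_even (evenHyp_plus (by omega))) hδ ho
  · obtain ⟨rfl, α, γ, φ, σ, v, rm, hord, hv, hrm, hγ, hφ, he⟩ := exists_graph_data hm hx hr hxr
    obtain ⟨n, rfl⟩ : ∃ n, m = n + 1 := ⟨m - 1, by omega⟩
    let K := RingHom.eqLocusField (σ : F →+* F) (RingHom.id F)
    have hfix : ∀ a, σ a = a ↔ ∃ y, K.subtype y = a := fun a =>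
      ⟨fun h => ⟨⟨a, h⟩, rfl⟩, fun ⟨y, hy⟩ => hy ▸ y.2⟩
    have D := fieldHyp_plus (F := F) (emb := K.subtype) (show 4 ≤ n + 1 by omega) hfix hr hord
    obtain ⟨g', hg', hx'⟩ := exists_graph_form hm D hv hrm hγ hφ he
    obtain ⟨a₀, b₀, h₀, D', T, g, hg, hT⟩ := exists_graph_model (show 4 ≤ n by omega) D
    have hc := carried_graph (show 4 ≤ n by omega) h₀ D D' T hg hT hg' hx' hxr
    exact hc.coset (D'.coset_even (evenHyp_minus (show 3 ≤ n by omega) h₀)) hδ ho

end Cfsg.Agent.S2736
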