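import Cfsg.Statements.S2737
import Cfsg.Agent.Lib.Geometry.EvenField2

set_option autoImplicit false
open Cfsg CfsgLib.Geometry

namespace Cfsg.Agent.S2737

/-- Let T = PΩ⁻_{2m+2}(F) (m ≥ 3; form with anisotropic binary part) and x a field automorphism of T of prime order r. Then an element y of the coset Inndiag(T)·x has order r if and only if y is conjugate to x by an element of Inndiag(T). (T has no graph-field automorphisms.) -/
theorem result {F : Type*} [Field F] [Fintype F] {m : ℕ} (hm : 3 ≤ m) (a b : F) (hab : (∀ z₁ z₂ : F, z₁ ^ 2 + a * z₁ * z₂ + b * z₂ ^ 2 = 0 → z₁ = 0 ∧ z₂ = 0)) (x δ : MulAut (Cfsg.POmega F (Cfsg.quadFormMinus m F a b))) (hx : Cfsg.IsFieldAutClassPOmegaMinus m x) {r : ℕ} (hr : r.Prime) (hxr : orderOf x = r) (hδ : δ ∈ Cfsg.inndiagPOmegaMinus m F a b) :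
    orderOf (δ * x) = r ↔ Cfsg.IsConjUnder (Cfsg.inndiagPOmegaMinus m F a b) x (δ * x) := by
  refine ⟨fun ho => ?_, fun h => (isConjUnder_orderOf h).trans hxr⟩
  obtain ⟨a', b', σ, φ, Φ, hab', ha, hb, hord, hφ, hH, hT, he⟩ := exists_minus_data hm hab hx
  rw [hxr] at hord
  let K := RingHom.eqLocusField (σ : F →+* F) (RingHom.id F)
  have hfix : ∀ a, σ a = a ↔ ∃ y, K.subtype y = a := fun a =>
    ⟨fun h => ⟨⟨a, h⟩, rfl⟩, fun ⟨y, hy⟩ => hy ▸ y.2⟩
  obtain ⟨-, a₀, b₀, h₀, hc⟩ := carried_minus hm hab' ha hb hfix hr hord hφ hH hT he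
  exact hc.coset ((fieldHyp_minus hm h₀ hfix hr hord).coset_even (evenHyp_minus hm h₀)) hδ ho

end Cfsg.Agent.S2737
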