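import Cfsg.Statements.S2738
import Cfsg.Agent.Lib.Classical.SLGen
-- import your own Cfsg.Agent.* helpers here

set_option autoImplicit false
open Cfsg

namespace Cfsg.Agent.S2738

/-- The special linear group SL(3, 4) has centre of order 3 and does not split over it: no subgroup is a complement to the centre (so SL(3, 4) is a non-split central extension of PSL(3, 4) by a group of order 3). -/
theorem result (F : Type*) [Field F] [Fintype F] (hF : Fintype.card F = 4) : Nat.card ↥(Subgroup.center (Matrix.SpecialLinearGroup (Fin 3) F)) = 3 ∧ ¬ ∃ K : Subgroup (Matrix.SpecialLinearGroup (Fin 3) F), Subgroup.IsComplement' (Subgroup.center (Matrix.SpecialLinearGroup (Fin 3) F)) K := by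
  have hcard : Nat.card ↥(Subgroup.center (Matrix.SpecialLinearGroup (Fin 3) F)) = 3 := by
    rw [Nat.card_congr (Matrix.SpecialLinearGroup.center_equiv_rootsOfUnity' (0 : Fin 3)).toEquiv, Fintype.card_fin]
    obtain ⟨ζ, hζ⟩ := IsCyclic.exists_ofOrder_eq_natCard (α := Fˣ)
    have h : Nat.card Fˣ = 3 := by rw [Nat.card_units, Nat.card_eq_fintype_card, hF]
    have : rootsOfUnity 3 F = ⊤ := by
      refine top_le_iff.1 fun x _ => ?_
      rw [mem_rootsOfUnity, ← h, pow_card_eq_one']
    rw [this, Subgroup.card_top, h]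
  refine ⟨hcard, ?_⟩
  rintro ⟨K, hK⟩
  have hperf := CfsgLib.Classical.SL_commutator_eq_top (ι := Fin 3) (F := F) (by simp)
  have hnorm : K.Normal := ⟨fun x hx g => by
    obtain ⟨⟨z, k⟩, hzk⟩ := hK.2 g
    rw [← hzk]
    have hzc := Subgroup.mem_center_iff.1 z.2
    have : (z : Matrix.SpecialLinearGroup (Fin 3) F) * k * x * ((z : Matrix.SpecialLinearGroup (Fin 3) F) * k)⁻¹ = k * x * (k : Matrix.SpecialLinearGroup (Fin 3) F)⁻¹ := by
      rw [mul_inv_rev, mul_assoc (z : Matrix.SpecialLinearGroup (Fin 3) F), ← hzc ((k : Matrix.SpecialLinearGroup (Fin 3) F) * x)]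
      rw [mul_assoc _ (z : Matrix.SpecialLinearGroup (Fin 3) F), ← mul_assoc (z : Matrix.SpecialLinearGroup (Fin 3) F), ← hzc (k : Matrix.SpecialLinearGroup (Fin 3) F)⁻¹, mul_inv_cancel_right]
    dsimp only
    rw [this]
    exact mul_mem (mul_mem k.2 hx) (inv_mem k.2)⟩
  have hKtop : K = ⊤ := by
    refine top_le_iff.1 (hperf ▸ hnorm.commutator_le_of_self_sup_commutative_eq_top (H := Subgroup.center _) ?_ inferInstance)
    exact hK.symm.sup_eq_top
  have hbot : Subgroup.center (Matrix.SpecialLinearGroup (Fin 3) F) = ⊥ := by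
    have := hK.disjoint
    rw [hKtop, disjoint_top] at this
    exact this
  rw [hbot] at hcard
  simp at hcard

end Cfsg.Agent.S2738
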