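import Cfsg.Statements.S2739
import Cfsg.Agent.Lib.KnownB.PSLThreeFour
-- import your own Cfsg.Agent.* helpers here

set_option autoImplicit false
open scoped Pointwise
open Cfsg

namespace Cfsg.Agent.S2739

/-- In the projective special linear group PSL(3, 4) all subgroups of order 3 are conjugate. -/
theorem result (F : Type*) [Field F] [Fintype F] (hF : Fintype.card F = 4) (X Y : Subgroup (Matrix.ProjectiveSpecialLinearGroup (Fin 3) F)) (hX : Nat.card ↥X = 3) (hY : Nat.card ↥Y = 3) : ∃ g : Matrix.ProjectiveSpecialLinearGroup (Fin 3) F, MulAut.conj g • X = Y := by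
  have gen : ∀ Z : Subgroup (Matrix.ProjectiveSpecialLinearGroup (Fin 3) F), Nat.card Z = 3 →
      ∃ z, orderOf z = 3 ∧ Subgroup.zpowers z = Z := by
    intro Z hZ
    have : Nontrivial Z := Finite.one_lt_card_iff_nontrivial.1 (by omega)
    obtain ⟨⟨z, hz⟩, hne⟩ := exists_ne (1 : Z)
    have ho : orderOf z = 3 := by
      have h := Subgroup.orderOf_dvd_natCard Z hz
      rw [hZ] at h
      rcases (Nat.dvd_prime Nat.prime_three).1 h with h1 | h3
      · exact absurd (Subtype.ext (orderOf_eq_one_iff.1 h1)) hne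
      · exact h3
    refine ⟨z, ho, Subgroup.eq_of_le_of_card_ge (Subgroup.zpowers_le.2 hz) ?_⟩
    rw [Nat.card_zpowers, ho, hZ]
  obtain ⟨x, hx, rfl⟩ := gen X hX
  obtain ⟨y, hy, rfl⟩ := gen Y hY
  obtain ⟨g, hg⟩ := isConj_iff.1 (CfsgLib.KnownB.PSLThreeFour.isConj_of_orderOf_three hF x y hx hy)
  refine ⟨g, ?_⟩
  rw [← hg]
  exact MonoidHom.map_zpowers (MulAut.conj g).toMonoidHom x

end Cfsg.Agent.S2739
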