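import Cfsg.Statements.S2751
import Cfsg.Agent.Lib.LocalEven.GoldBound.Main

set_option autoImplicit false
set_option linter.style.haveILetI false
open Cfsg

namespace Cfsg.Agent.S2751

open CfsgLib.LocalEven

theorem facts {G : Type*} [Group G] {P T : Subgroup G} [Finite ↥P] (hTP : T ≤ P)
    (hS : ∃ S : Sylow 2 ↥P, (S : Subgroup ↥P) = T.subgroupOf P)
    (hq : Nonempty (↥P ⧸ Cfsg.pCore 2 ↥P ≃* Equiv.Perm (Fin 3))) :
    IsPGroup 2 ↥T ∧ Nat.card P = 3 * Nat.card ↥T ∧ Nat.card ↥T = 2 * Nat.card ↥(Cfsg.pCoreOf 2 P) := by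
  haveI : Fact (Nat.Prime 2) := ⟨Nat.prime_two⟩
  obtain ⟨S, hS⟩ := hS
  obtain ⟨e⟩ := hq
  have hT : (S : Subgroup ↥P).map P.subtype = T := by
    rw [hS, Subgroup.map_subgroupOf_eq_of_le hTP]
  have hcT : Nat.card ↥T = 2 ^ (Nat.card P).factorization 2 := by
    rw [← S.card_eq_multiplicity, ← hT, Subgroup.card_map_of_injective P.subtype_injective]
  have h6 : Nat.card P = 6 * Nat.card ↥(Cfsg.pCore 2 ↥P) := by
    rw [Subgroup.card_eq_card_quotient_mul_card_subgroup (Cfsg.pCore 2 ↥P), Nat.card_congr e.toEquiv,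
      Nat.card_perm, Nat.card_fin]
    rfl
  obtain ⟨k, hk⟩ := IsPGroup.iff_card.1 (S.isPGroup'.to_le (pCore_le_sylow S))
  have hf : (Nat.card P).factorization 2 = k + 1 := by
    rw [h6, hk, show 6 * 2 ^ k = 3 * 2 ^ (k + 1) by ring, Nat.factorization_mul (by norm_num)
      (by positivity), Finsupp.add_apply, Nat.factorization_eq_zero_of_not_dvd (by norm_num : ¬ 2 ∣ 3),
      Nat.Prime.factorization_pow Nat.prime_two]
    simp
  refine ⟨hT ▸ S.isPGroup'.map _, ?_, ?_⟩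
  · rw [hcT, hf, h6, hk]; ring
  · rw [hcT, hf, Cfsg.pCoreOf, Subgroup.card_map_of_injective P.subtype_injective, hk]; ring


/-- Goldschmidt's bound for amalgams of index (3, 3): let M₁ and M₂ be finite subgroups of a group G such that M₁ ⊓ M₂ is a Sylow 2-subgroup of both M₁ and M₂, each quotient Mᵢ / O₂(Mᵢ) is isomorphic to the symmetric group of degree 3, and no nontrivial subgroup of M₁ ⊓ M₂ is normal in both M₁ and M₂. Then M₁ ⊓ M₂ has order at most 2^7. -/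
theorem result {G : Type*} [Group G] (M₁ M₂ : Subgroup G) [Finite M₁] [Finite M₂] (ha₁ : ∃ P : Sylow 2 M₁, (P : Subgroup M₁) = (M₁ ⊓ M₂).subgroupOf M₁) (ha₂ : ∃ P : Sylow 2 M₂, (P : Subgroup M₂) = (M₁ ⊓ M₂).subgroupOf M₂) (hb₁ : Nonempty (M₁ ⧸ Cfsg.pCore 2 M₁ ≃* Equiv.Perm (Fin 3))) (hb₂ : Nonempty (M₂ ⧸ Cfsg.pCore 2 M₂ ≃* Equiv.Perm (Fin 3))) (hc : ∀ N : Subgroup G, N ≤ M₁ ⊓ M₂ → (N.subgroupOf M₁).Normal → (N.subgroupOf M₂).Normal → N = ⊥) : Nat.card ↥(M₁ ⊓ M₂) ≤ 2 ^ 7 := by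
  haveI : Fact (Nat.Prime 2) := ⟨Nat.prime_two⟩
  obtain ⟨hp, hc1, hq1⟩ := facts inf_le_left ha₁ hb₁
  obtain ⟨-, hc2, hq2⟩ := facts inf_le_right ha₂ hb₂
  set J := M₁ ⊔ M₂
  have h1J : M₁ ≤ J := le_sup_left
  have h2J : M₂ ≤ J := le_sup_right
  have hinf : M₁.subgroupOf J ⊓ M₂.subgroupOf J = (M₁ ⊓ M₂).subgroupOf J := rfl
  have hcard : Nat.card ↥((M₁ ⊓ M₂).subgroupOf J) = Nat.card ↥(M₁ ⊓ M₂) :=
    CfsgLib.Base.card_subgroupOf (inf_le_left.trans h1J)
  have hcore : ∀ M : Subgroup G, M ≤ J →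
      Nat.card ↥(Cfsg.pCoreOf 2 (M.subgroupOf J)) = Nat.card ↥(Cfsg.pCoreOf 2 M) := by
    intro M hM
    have e := CfsgLib.LocalEven.map_pCoreOf 2 J.subtype J.subtype_injective (M.subgroupOf J)
    rw [Subgroup.map_subgroupOf_eq_of_le hM] at e
    rw [← e, Subgroup.card_map_of_injective J.subtype_injective]
  have := (CfsgLib.LocalEven.GoldBound.Pre.bound (M₁ := M₁.subgroupOf J) (M₂ := M₂.subgroupOf J)
    { gen := by rw [← Subgroup.subgroupOf_sup h1J h2J, Subgroup.subgroupOf_self]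
      fin₁ := Finite.of_equiv _ (Subgroup.subgroupOfEquivOfLe h1J).toEquiv.symm
      fin₂ := Finite.of_equiv _ (Subgroup.subgroupOfEquivOfLe h2J).toEquiv.symm
      two := by
        rw [hinf]
        exact hp.of_equiv (Subgroup.subgroupOfEquivOfLe (inf_le_left.trans h1J)).symm
      card₁ := by rw [hinf, hcard, CfsgLib.Base.card_subgroupOf h1J, hc1]
      card₂ := by rw [hinf, hcard, CfsgLib.Base.card_subgroupOf h2J, hc2]
      core₁ := by rw [hinf, hcard, hcore M₁ h1J, hq1]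
      core₂ := by rw [hinf, hcard, hcore M₂ h2J, hq2]
      free := fun N hN hn => by
        have hle : N.map J.subtype ≤ M₁ ⊓ M₂ := by
          rintro _ ⟨x, hx, rfl⟩
          exact hN hx
        have hnorm : ∀ M : Subgroup G, M ≤ J → ((N.map J.subtype).subgroupOf M).Normal := by
          intro M hM
          refine ⟨fun x hx g => ?_⟩
          obtain ⟨y, hy, he⟩ := hx
          refine ⟨⟨g.1, hM g.2⟩ * y * ⟨g.1, hM g.2⟩⁻¹, hn.conj_mem y hy _, ?_⟩
          simp only [map_mul, map_inv] at he ⊢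
          rw [he]; rfl
        have := hc _ hle (hnorm M₁ h1J) (hnorm M₂ h2J)
        rwa [Subgroup.map_eq_bot_iff_of_injective _ J.subtype_injective] at this })
  rwa [hinf, hcard] at this

end Cfsg.Agent.S2751
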