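import Cfsg.Statements.S2753
import Cfsg.Agent.Lib.LocalEven.Factor.Induction

set_option autoImplicit false
universe u
open Cfsg

namespace Cfsg.Agent.S2753

open CfsgLib.LocalEven.TwoFactor CfsgLib.LocalEven.S4W

/-- Glauberman's 2-factorization Theorem: let G be a finite group with C_G(O₂(G)) ≤ O₂(G) in which the symmetric group of degree 4 is not involved and every non-abelian composition factor is a Suzuki group Sz(2^(2n+1)) or a group PSL₂(3^(2n+1)). Then for a Sylow 2-subgroup S, G = C(Z(S)) N(J_e(S)) = C(Z(S)) N(Ĵ(S)) = C(Ω₁(Z(Ĵ(S)))) N(J_e(S)), where J_e(S) is the Thompson subgroup generated by the elementary abelian subgroups of largest order and Ĵ(S) the subgroup generated by the E-subgroups of S containing J_e(S); each product is written elementwise. -/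
theorem result {G : Type u} [Group G] [Finite G] (hchar : Subgroup.centralizer (Cfsg.pCore 2 G : Set G) ≤ Cfsg.pCore 2 G) (hfree : ¬ Cfsg.Involves (Equiv.Perm (Fin 4)) G) (hc : Cfsg.IsCompositionKGroupWith Cfsg.IsSuzukiOrPSL2OddPowerThree G) (S : Sylow 2 G) : (∀ g : G, ∃ c ∈ Subgroup.centralizer ((((S : Subgroup G) ⊓ Subgroup.centralizer ((S : Subgroup G) : Set G)) : Subgroup G) : Set G), ∃ n ∈ Subgroup.normalizer (((Cfsg.thompsonSubgroupOf 2 (S : Subgroup G)) : Subgroup G) : Set G), g = c * n) ∧ (∀ g : G, ∃ c ∈ Subgroup.centralizer ((((S : Subgroup G) ⊓ Subgroup.centralizer ((S : Subgroup G) : Set G)) : Subgroup G) : Set G), ∃ n ∈ Subgroup.normalizer ((((Cfsg.jHat ↥(S : Subgroup G)).map (S : Subgroup G).subtype) : Subgroup G) : Set G), g = c * n) ∧ (∀ g : G, ∃ c ∈ Subgroup.centralizer ((Cfsg.omegaOne 2 (((Cfsg.jHat ↥(S : Subgroup G)).map (S : Subgroup G).subtype) ⊓ Subgroup.centralizer (((Cfsg.jHat ↥(S : Subgroup G)).map (S : Subgroup G).subtype) : Set G))) : Set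 G), ∃ n ∈ Subgroup.normalizer (((Cfsg.thompsonSubgroupOf 2 (S : Subgroup G)) : Subgroup G) : Set G), g = c * n) := by
  rw [jel_eq, jh_eq]
  refine ⟨fun g => ?_, fun g => ?_, fun g => ?_⟩
  · obtain ⟨c, hc', n, h1, -, e⟩ := center_factorization hchar hfree hc S g
    exact ⟨c, hc', n, h1, e⟩
  · obtain ⟨c, hc', n, -, h2, e⟩ := center_factorization hchar hfree hc S g
    exact ⟨c, hc', n, h2, e⟩
  · have hcore : pCoreOf 2 (⊤ : Subgroup G) = pCore 2 G := by
      obtain ⟨h1, h2, h3, h4⟩ := coreTwo_spec (⊤ : Subgroup G)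
      haveI : (pCoreOf 2 (⊤ : Subgroup G)).Normal :=
        Subgroup.normalizer_eq_top_iff.1 (top_le_iff.1 h3)
      refine le_antisymm (CfsgLib.Base.le_pCore h2) (h4 _ le_top (CfsgLib.Base.isPGroup_pCore 2 G) ?_)
      rw [Subgroup.normalizer_eq_top]
    have hcfg : Config (S : Subgroup G) (⊤ : Subgroup G) (S : Subgroup G) :=
      ⟨hfree, S.2, Syl.of_sylow S, le_rfl,
        CompSzL2.of_surjective hc (Subgroup.topEquiv (G := G)).symm.toMonoidHom
          (Subgroup.topEquiv (G := G)).symm.surjective,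
        by
          show ⊤ ⊓ _ ≤ _
          rw [hcore, top_inf_eq]
          exact hchar,
        Jel_le _, fun M hM => hM.le⟩
    obtain ⟨c, -, hcC, hn⟩ := factors_of_config _ ⊤ _ le_rfl hcfg g (Subgroup.mem_top g)
    exact ⟨c, hcC, c⁻¹ * g, hn, (mul_inv_cancel_left c g).symm⟩

end Cfsg.Agent.S2753
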