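import Cfsg.Statements.S2756
import Cfsg.Agent.Lib.LocalEven.InversionZJ
import Cfsg.Agent.Lib.ThreeTransp.Blocks

set_option autoImplicit false
open Cfsg

namespace Cfsg.Agent.S2756

open Subgroup CfsgLib.LocalEven.ZJParity in
/-- Without a normal Sylow 2-subgroup some element of odd prime order is inverted. -/
theorem exists_inv {G : Type*} [Group G] [Finite G] (h : ¬ ∀ P : Sylow 2 G, (P : Subgroup G).Normal) :
    ∃ q : ℕ, q.Prime ∧ q ≠ 2 ∧ Inv q (⊤ : Subgroup G) := by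
  push Not at h
  obtain ⟨P, hP⟩ := h
  set O := Cfsg.pCore 2 G with hO
  haveI : O.Normal := Cfsg.pCore_normal 2 G
  set π := QuotientGroup.mk' O with hπ
  have hne : ((P : Subgroup G).map π) ≠ ⊥ := by
    intro he
    rw [Subgroup.map_eq_bot_iff, hπ, QuotientGroup.ker_mk'] at he
    exact hP ((le_antisymm he (CfsgLib.Base.pCore_le_sylow P)) ▸ inferInstance)
  haveI := (Subgroup.nontrivial_iff_ne_bot _).2 hne
  have hdvd : 2 ∣ Nat.card ((P : Subgroup G).map π) :=
    (P.2.map π).card_eq_or_dvd.resolve_left (Finite.one_lt_card).ne'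
  obtain ⟨⟨t, htP⟩, ht⟩ := exists_prime_orderOf_dvd_card' 2 hdvd
  rw [Subgroup.orderOf_mk] at ht
  have hnot : ∃ g : G ⧸ O, ¬ ∃ k : ℕ, (t * (g * t * g⁻¹)) ^ 2 ^ k = 1 := by
    by_contra hall
    push Not at hall
    have := CfsgLib.ThreeTransp.mem_pCore_two ht hall
    rw [show Cfsg.pCore 2 (G ⧸ O) = ⊥ from CfsgLib.Base.pCore_quotient_pCore 2 G, Subgroup.mem_bot] at this
    rw [this, orderOf_one] at ht
    exact absurd ht (by norm_num)
  obtain ⟨g, hg⟩ := hnot
  set w := t * (g * t * g⁻¹) with hw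
  have htt : t * t = 1 := by rw [← pow_two, ← ht, pow_orderOf_eq_one]
  obtain ⟨q, hq, hq2, hqd⟩ : ∃ q : ℕ, q.Prime ∧ q ≠ 2 ∧ q ∣ orderOf w := by
    by_contra hall
    push Not at hall
    refine hg ⟨(orderOf w).primeFactorsList.length, ?_⟩
    rw [← Nat.eq_prime_pow_of_unique_prime_dvd (orderOf_pos w).ne' (fun {d} hd hdd => by
      by_contra hne
      exact hall d hd hne hdd), pow_orderOf_eq_one]
  haveI := Fact.mk hq
  obtain ⟨m, hm⟩ := hqd
  have hinv : t * w * t⁻¹ = w⁻¹ := by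
    rw [hw, inv_eq_of_mul_eq_one_right htt]
    symm
    refine inv_eq_of_mul_eq_one_right ?_
    simp only [mul_assoc, mul_eq_one_iff_eq_inv]
    rw [← mul_assoc t t, htt]
    simp [mul_assoc, htt, inv_eq_of_mul_eq_one_right htt]
  refine ⟨q, hq, hq2, inv_of_range hq2 π ⟨t, ?_, w ^ m, ?_, ?_, ⟨1, ?_⟩, ?_⟩⟩
  · exact (MonoidHom.range_eq_top.2 (QuotientGroup.mk'_surjective O)).symm ▸ Subgroup.mem_top t
  · exact (MonoidHom.range_eq_top.2 (QuotientGroup.mk'_surjective O)).symm ▸ Subgroup.mem_top _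
  · intro h1
    have h2 := orderOf_dvd_of_pow_eq_one h1
    rw [hm] at h2
    have hm0 : 0 < m := Nat.pos_of_ne_zero fun h0 => (orderOf_pos w).ne' (by rw [hm, h0, mul_zero])
    exact (Nat.le_of_dvd hm0 h2).not_gt (lt_mul_of_one_lt_left hm0 hq.one_lt)
  · rw [pow_one, ← pow_mul, mul_comm, ← hm, pow_orderOf_eq_one]
  · rw [← conj_pow, hinv, inv_pow]


/-- For a finite group G the following are equivalent: (a) G has a normal Sylow 2-subgroup; (b) for every odd prime q dividing the order of G and every Sylow q-subgroup T, the normalizer of Z(J(T)) has a normal Sylow 2-subgroup; (c) for every odd prime q and every Sylow q-subgroup T, no nonidentity element of T is inverted by an element of the normalizer of Z(J(T)). Here J(T) is the Thompson subgroup generated by the abelian subgroups of T of largest order. Stated as the two equivalences (a) ⇔ (b) and (a) ⇔ (c). -/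
theorem result {G : Type*} [Group G] [Finite G] : ((∀ P : Sylow 2 G, (P : Subgroup G).Normal) ↔ ∀ (q : ℕ) [Fact q.Prime], q ≠ 2 → q ∣ Nat.card G → ∀ T : Sylow q G, ∀ P : Sylow 2 ↥(Subgroup.normalizer (Cfsg.centerThompsonAOf (T : Subgroup G) : Set G)), (P : Subgroup ↥(Subgroup.normalizer (Cfsg.centerThompsonAOf (T : Subgroup G) : Set G))).Normal) ∧ ((∀ P : Sylow 2 G, (P : Subgroup G).Normal) ↔ ∀ (q : ℕ) [Fact q.Prime], q ≠ 2 → ∀ T : Sylow q G, ∀ x ∈ (T : Subgroup G), x ≠ 1 → ∀ g ∈ Subgroup.normalizer (Cfsg.centerThompsonAOf (T : Subgroup G) : Set G), g * x * g⁻¹ ≠ x⁻¹) := by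
  refine ⟨?_, ?_⟩
  all_goals
    have h12 : (∀ P : Sylow 2 G, (P : Subgroup G).Normal) → ∀ (q : ℕ) [Fact q.Prime], q ≠ 2 → q ∣ Nat.card G → ∀ T : Sylow q G, ∀ P : Sylow 2 ↥(Subgroup.normalizer (Cfsg.centerThompsonAOf (T : Subgroup G) : Set G)), (P : Subgroup ↥(Subgroup.normalizer (Cfsg.centerThompsonAOf (T : Subgroup G) : Set G))).Normal := by
      intro h q _ _ _ T
      set N := Subgroup.normalizer (Cfsg.centerThompsonAOf (T : Subgroup G) : Set G)
      intro P
      obtain ⟨S, hS⟩ := (P.2.map N.subtype).exists_le_sylow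
      haveI := h S
      have hle : (P : Subgroup N) ≤ (S : Subgroup G).subgroupOf N := Subgroup.map_le_iff_le_comap.1 hS
      have he := P.3 (S.2.comap_subtype (K := N)) hle
      rw [← he]
      exact Subgroup.normal_subgroupOf
    have h23 : (∀ (q : ℕ) [Fact q.Prime], q ≠ 2 → q ∣ Nat.card G → ∀ T : Sylow q G, ∀ P : Sylow 2 ↥(Subgroup.normalizer (Cfsg.centerThompsonAOf (T : Subgroup G) : Set G)), (P : Subgroup ↥(Subgroup.normalizer (Cfsg.centerThompsonAOf (T : Subgroup G) : Set G))).Normal) → ∀ (q : ℕ) [Fact q.Prime], q ≠ 2 → ∀ T : Sylow q G, ∀ x ∈ (T : Subgroup G), x ≠ 1 → ∀ g ∈ Subgroup.normalizer (Cfsg.centerThompsonAOf (T : Subgroup G) : Set G), g * x * g⁻¹ ≠ x⁻¹ := by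
      intro h q _ hq2 T x hxT hx1 g hg he
      obtain ⟨k, hk⟩ := T.2 ⟨x, hxT⟩
      have hk' : x ^ q ^ k = 1 := congrArg Subtype.val hk
      set N := Subgroup.normalizer (Cfsg.centerThompsonAOf (T : Subgroup G) : Set G) with hN
      have hqd : q ∣ Nat.card G := by
        haveI : Nontrivial (T : Subgroup G) := ⟨⟨⟨x, hxT⟩, 1, fun h1 => hx1 (congrArg Subtype.val h1)⟩⟩
        exact (T.2.card_eq_or_dvd.resolve_left (Finite.one_lt_card).ne').trans
          (Subgroup.card_subgroup_dvd_card _)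
      have hTN : (T : Subgroup G) ≤ N := by
        rw [hN, CfsgLib.PLocal.centerThompsonAOf_eq]
        exact Subgroup.le_normalizer.trans (CfsgLib.PLocal.maxCenter_le_normalizer _)
      obtain ⟨m, hm, j, hj⟩ := CfsgLib.LocalEven.ZJParity.exists_odd_two_part g
      have he' := CfsgLib.LocalEven.ZJParity.conj_pow_odd he m hm
      have hgm : g ^ m ∈ N := pow_mem hg m
      obtain ⟨P, hP⟩ := (show IsPGroup 2 (Subgroup.zpowers (⟨g ^ m, hgm⟩ : N)) by
        obtain ⟨i, -, hi⟩ := (Nat.dvd_prime_pow Nat.prime_two).1 (orderOf_dvd_of_pow_eq_one hj)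
        exact IsPGroup.of_card (n := i) (by rw [Nat.card_zpowers, Subgroup.orderOf_mk, hi])).exists_le_sylow
      haveI := h q hq2 hqd T P
      have hgP := hP (Subgroup.mem_zpowers _)
      have hz : (⟨g ^ m, hgm⟩ : N) * (⟨x, hTN hxT⟩ * ⟨g ^ m, hgm⟩⁻¹ * ⟨x, hTN hxT⟩⁻¹) ∈ (P : Subgroup N) :=
        mul_mem hgP (Subgroup.Normal.conj_mem inferInstance _ (inv_mem hgP) _)
      obtain ⟨i, hi⟩ := P.2 ⟨_, hz⟩
      have hi' : (g ^ m * (x * (g ^ m)⁻¹ * x⁻¹)) ^ 2 ^ i = 1 :=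
        congrArg (fun z : ((P : Subgroup N)) => ((z : N) : G)) hi
      rw [show g ^ m * (x * (g ^ m)⁻¹ * x⁻¹) = (g ^ m * x * (g ^ m)⁻¹) * x⁻¹ by group, he',
        ← mul_inv_rev, ← pow_two, inv_pow, inv_eq_one, ← pow_mul] at hi'
      have h1 := pow_gcd_eq_one.mpr ⟨hi', hk'⟩
      have hco : Nat.Coprime (2 * 2 ^ i) (q ^ k) := by
        rw [← pow_succ']
        exact ((Nat.coprime_primes Nat.prime_two Fact.out).2 (Ne.symm hq2)).pow _ _
      rw [hco.gcd_eq_one, pow_one] at h1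
      exact hx1 h1
    have h31 : (∀ (q : ℕ) [Fact q.Prime], q ≠ 2 → ∀ T : Sylow q G, ∀ x ∈ (T : Subgroup G), x ≠ 1 → ∀ g ∈ Subgroup.normalizer (Cfsg.centerThompsonAOf (T : Subgroup G) : Set G), g * x * g⁻¹ ≠ x⁻¹) → ∀ P : Sylow 2 G, (P : Subgroup G).Normal := by
      intro h
      by_contra hno
      obtain ⟨q, hq, hq2, hinv⟩ := exists_inv hno
      haveI := Fact.mk hq
      obtain ⟨T⟩ : Nonempty (Sylow q G) := inferInstance
      obtain ⟨g, hg, y, hy, hy1, ⟨k, hk⟩, he⟩ :=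
        CfsgLib.LocalEven.ZJParity.inv_normalizer hq2 _ G rfl hinv T
      rw [← CfsgLib.PLocal.centerThompsonAOf_eq] at hg hy
      set N := Subgroup.normalizer (Cfsg.centerThompsonAOf (T : Subgroup G) : Set G) with hN
      have hTN : (T : Subgroup G) ≤ N := by
        rw [hN, CfsgLib.PLocal.centerThompsonAOf_eq]
        exact Subgroup.le_normalizer.trans (CfsgLib.PLocal.maxCenter_le_normalizer _)
      obtain ⟨T', hT'⟩ := (show IsPGroup q (Subgroup.zpowers (⟨y, hy⟩ : N)) by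
        obtain ⟨i, -, hi⟩ := (Nat.dvd_prime_pow hq).1 (orderOf_dvd_of_pow_eq_one hk)
        exact IsPGroup.of_card (n := i) (by rw [Nat.card_zpowers, Subgroup.orderOf_mk, hi])).exists_le_sylow
      obtain ⟨n, hn⟩ := MulAction.exists_smul_eq N T' (T.subtype hTN)
      have hyT : (n * ⟨y, hy⟩ * n⁻¹ : N) ∈ (T.subtype hTN : Subgroup N) := by
        rw [← hn, Sylow.coe_subgroup_smul, ← CfsgLib.Base.map_conj_eq_smul]
        exact ⟨⟨y, hy⟩, hT' (Subgroup.mem_zpowers _), rfl⟩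
      refine h q hq2 T ((n : G) * y * (n : G)⁻¹) hyT (fun h1 => hy1 ?_)
        ((n : G) * g * (n : G)⁻¹) (N.mul_mem (N.mul_mem n.2 hg) (N.inv_mem n.2)) ?_
      · simpa using h1
      · calc (n : G) * g * (n : G)⁻¹ * ((n : G) * y * (n : G)⁻¹) * ((n : G) * g * (n : G)⁻¹)⁻¹
            = (n : G) * (g * y * g⁻¹) * (n : G)⁻¹ := by group
          _ = ((n : G) * y * (n : G)⁻¹)⁻¹ := by rw [he]; group
  · exact ⟨h12, fun h => h31 (h23 h)⟩
  · exact ⟨fun h => h23 (h12 h), h31⟩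

end Cfsg.Agent.S2756
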