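import Cfsg.Statements.S2758
import Cfsg.Agent.Lib.Classical.Dihedral
import Cfsg.Agent.Lib.LocalEven.S4Section
import Cfsg.Agent.Lib.Coprime.Basic
import Cfsg.Agent.Lib.Transfer.NormalPComplement
-- import your own Cfsg.Agent.* helpers here

set_option autoImplicit false
open Cfsg

namespace Cfsg.Agent.S2758

variable {G : Type*} [Group G] [Finite G] {p : ℕ} [hp : Fact p.Prime]

omit [Finite G] in
theorem inverts_of_normalizes
    (h : ∃ (x : G) (P : Subgroup G), (∃ k : ℕ, orderOf x = 2 ^ k) ∧ IsPGroup p ↥P ∧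
      x ∈ Subgroup.normalizer (P : Set G) ∧ x ∉ Subgroup.centralizer (P : Set G)) :
    ∃ x y : G, (∃ k : ℕ, orderOf x = 2 ^ k) ∧ (∃ k : ℕ, orderOf y = p ^ k) ∧ y ≠ 1 ∧
      x * y * x⁻¹ = y⁻¹ := by
  classical
  obtain ⟨x, P, ⟨k, hk⟩, hP, hxN, hxC⟩ := h
  have hex : ∃ j, x ^ 2 ^ j ∈ Subgroup.centralizer (P : Set G) :=
    ⟨k, by rw [← hk, pow_orderOf_eq_one]; exact one_mem _⟩
  set j := Nat.find hex with hj
  have hj1 := Nat.find_spec hex
  obtain ⟨i, hi⟩ : ∃ i, j = i + 1 := by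
    rcases Nat.eq_zero_or_pos j with h0 | h0
    · rw [← hj, h0, pow_zero, pow_one] at hj1; exact absurd hj1 hxC
    · exact ⟨j - 1, by omega⟩
  set y := x ^ 2 ^ i with hy
  have hyC : y ∉ Subgroup.centralizer (P : Set G) := fun h => by
    have := Nat.find_min hex (show i < j by omega)
    exact this h
  have hy2 : ∀ a ∈ P, y * (y * a * y⁻¹) * y⁻¹ = a := by
    intro a ha
    have h2 : y * y ∈ Subgroup.centralizer (P : Set G) := by
      rw [hy, ← pow_add, ← two_mul, ← pow_succ', ← hi]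
      exact hj1
    calc y * (y * a * y⁻¹) * y⁻¹ = (y * y) * a * (y * y)⁻¹ := by group
      _ = a := mul_inv_eq_iff_eq_mul.2 (Subgroup.mem_centralizer_iff.1 h2 a ha).symm
  obtain ⟨a, ha, hne⟩ : ∃ a ∈ P, y * a * y⁻¹ ≠ a := by
    by_contra hc
    push Not at hc
    exact hyC (Subgroup.mem_centralizer_iff.2 fun a ha => (mul_inv_eq_iff_eq_mul.1 (hc a ha)).symm)
  set b := a⁻¹ * (y * a * y⁻¹) with hb
  have hbP : b ∈ P := mul_mem (inv_mem ha)
    ((Subgroup.mem_normalizer_iff.1 (pow_mem hxN _) a).1 ha)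
  refine ⟨y, b, ?_, ?_, ?_, ?_⟩
  · obtain ⟨m, -, hm⟩ := (Nat.dvd_prime_pow Nat.prime_two).1
      ((orderOf_pow_dvd (x := x) (2 ^ i)).trans (dvd_of_eq hk))
    exact ⟨m, hm⟩
  · obtain ⟨m, hm⟩ := IsPGroup.iff_orderOf.1 hP ⟨b, hbP⟩
    exact ⟨m, by rw [← hm, Subgroup.orderOf_mk]⟩
  · exact fun h => hne (inv_mul_eq_one.1 h).symm
  · calc y * b * y⁻¹ = (y * a * y⁻¹)⁻¹ * (y * (y * a * y⁻¹) * y⁻¹) := by rw [hb]; group
      _ = b⁻¹ := by rw [hy2 a ha, hb]; group

theorem involves_of_inverts (hp2 : p ≠ 2)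
    (h : ∃ x y : G, (∃ k : ℕ, orderOf x = 2 ^ k) ∧ (∃ k : ℕ, orderOf y = p ^ k) ∧ y ≠ 1 ∧
      x * y * x⁻¹ = y⁻¹) : Cfsg.Involves (DihedralGroup p) G := by
  obtain ⟨x, y₀, ⟨a, ha⟩, ⟨k, hk⟩, hy0, hinv⟩ := h
  obtain ⟨i, rfl⟩ : ∃ i, k = i + 1 := by
    rcases k with _ | i
    · exact absurd (orderOf_eq_one_iff.1 (by rw [hk, pow_zero])) hy0
    · exact ⟨i, rfl⟩
  set y := y₀ ^ p ^ i with hy
  have hyo : orderOf y = p := by
    rw [hy, orderOf_pow, hk, Nat.gcd_eq_right (pow_dvd_pow p (by omega)),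
      Nat.pow_div (by omega) hp.out.pos]
    simp
  have hxy : x * y * x⁻¹ = y⁻¹ := by rw [hy, ← conj_pow, hinv, inv_pow]
  have hxN : x ∈ Subgroup.normalizer (Subgroup.zpowers y : Set G) := by
    refine Subgroup.mem_normalizer_iff_map_conj_eq.2 ?_
    rw [MonoidHom.map_zpowers]
    show Subgroup.zpowers (x * y * x⁻¹) = _
    rw [hxy, Subgroup.zpowers_inv]
  have hx2 : Commute (x * x) y := by
    refine mul_inv_eq_iff_eq_mul.1 ?_
    calc x * x * y * (x * x)⁻¹ = x * (x * y * x⁻¹) * x⁻¹ := by group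
      _ = y := by rw [hxy, ← conj_inv, hxy, inv_inv]
  have hodd : Odd p := hp.out.odd_of_ne_two hp2
  have hcop : (orderOf y).Coprime (orderOf x) := by
    rw [hyo, ha]
    exact Nat.Coprime.pow_right a ((Nat.coprime_primes hp.out Nat.prime_two).2 hp2)
  set K := Subgroup.zpowers x ⊔ Subgroup.zpowers y with hK
  set xK : K := ⟨x, le_sup_left (b := Subgroup.zpowers y) (Subgroup.mem_zpowers x)⟩
  set yK : K := ⟨y, le_sup_right (a := Subgroup.zpowers x) (Subgroup.mem_zpowers y)⟩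
  have htop : Subgroup.zpowers xK ⊔ Subgroup.zpowers yK = ⊤ := by
    apply Subgroup.map_injective K.subtype_injective
    rw [Subgroup.map_sup, MonoidHom.map_zpowers, MonoidHom.map_zpowers, ← MonoidHom.range_eq_map,
      Subgroup.range_subtype]
    rfl
  set R := Subgroup.zpowers (xK * xK) with hR
  have hRn : R.Normal := by
    refine Subgroup.normalizer_eq_top_iff.1 (top_le_iff.1 (htop.ge.trans ?_))
    refine le_trans ?_ (Subgroup.centralizer_le_normalizer _)
    refine sup_le ?_ ?_ <;> rw [Subgroup.zpowers_le, Subgroup.mem_centralizer_iff] <;>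
      rintro _ ⟨j, rfl⟩
    · exact (((Commute.refl xK).mul_left (Commute.refl xK)).zpow_left j).eq
    · have h1 : Commute (xK * xK) yK := Subtype.ext hx2.eq
      exact (h1.zpow_left j).eq
  set π := QuotientGroup.mk' R with hπ
  have hx1 : π xK * π xK = 1 := by
    rw [← map_mul]
    exact (QuotientGroup.eq_one_iff _).2 (Subgroup.mem_zpowers _)
  have hconj : π xK * π yK * (π xK)⁻¹ = (π yK)⁻¹ := by
    rw [← map_mul, ← map_inv, ← map_mul, ← map_inv]
    exact congrArg π (Subtype.ext hxy)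
  have hyKo : orderOf yK = p := by rw [← hyo, ← Subgroup.orderOf_coe]
  have hyne : π yK ≠ 1 := by
    intro h
    have hmem : yK ∈ Subgroup.zpowers xK := Subgroup.zpowers_le.2
      (mul_mem (Subgroup.mem_zpowers xK) (Subgroup.mem_zpowers xK))
      ((QuotientGroup.eq_one_iff _).1 h)
    have h1 := orderOf_dvd_of_mem_zpowers hmem
    rw [← Subgroup.orderOf_coe, ← Subgroup.orderOf_coe] at h1
    exact hp.out.ne_one (hyo ▸ Nat.eq_one_of_dvd_coprimes hcop dvd_rfl h1)
  have hyp : orderOf (π yK) = p := by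
    rcases (Nat.dvd_prime hp.out).1 ((orderOf_map_dvd π yK).trans (dvd_of_eq hyKo)) with h | h
    · exact absurd (orderOf_eq_one_iff.1 h) hyne
    · exact h
  have hsx : π xK ∉ Subgroup.zpowers (π yK) := by
    rintro ⟨j, hj⟩
    refine hyne ?_
    have h1 : π xK * π yK * (π xK)⁻¹ = π yK := by
      rw [← hj]; simp only []; group
    rw [hconj] at h1
    have h2 : π yK ^ 2 = 1 := by rw [pow_two]; exact eq_inv_iff_mul_eq_one.1 h1.symm
    have h3 := orderOf_dvd_of_pow_eq_one h2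
    rw [hyp] at h3
    exact absurd ((Nat.prime_dvd_prime_iff_eq hp.out Nat.prime_two).1 h3) hp2
  have hxo : orderOf (π xK) = 2 :=
    orderOf_eq_prime (p := 2) (by rw [pow_two]; exact hx1) fun h => hsx (h ▸ one_mem _)
  have hcard : Nat.card (K ⧸ R) = 2 * p := by
    have hN : Subgroup.zpowers (π xK) ≤ Subgroup.normalizer (Subgroup.zpowers (π yK) : Set (K ⧸ R)) := by
      rw [Subgroup.zpowers_le]
      refine Subgroup.mem_normalizer_iff_map_conj_eq.2 ?_
      rw [MonoidHom.map_zpowers]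
      show Subgroup.zpowers (π xK * π yK * (π xK)⁻¹) = _
      rw [hconj, Subgroup.zpowers_inv]
    have hinf : Subgroup.zpowers (π xK) ⊓ Subgroup.zpowers (π yK) = ⊥ := by
      refine CfsgLib.Coprime.inf_eq_bot_of_coprime ?_
      rw [Nat.card_zpowers, Nat.card_zpowers, hxo, hyp]
      exact ((Nat.coprime_primes hp.out Nat.prime_two).2 hp2).symm
    have h1 := CfsgLib.Coprime.card_sup_of_inf_eq_bot hN hinf
    have h2 : Subgroup.zpowers (π xK) ⊔ Subgroup.zpowers (π yK) = ⊤ := by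
      rw [← MonoidHom.map_zpowers, ← MonoidHom.map_zpowers, ← Subgroup.map_sup, htop,
        Subgroup.map_top_of_surjective π (QuotientGroup.mk'_surjective R)]
    rw [h2, Subgroup.card_top, Nat.card_zpowers, Nat.card_zpowers, hxo, hyp] at h1
    exact h1
  obtain ⟨e⟩ := CfsgLib.Classical.nonempty_mulEquiv_dihedralGroup hp.out.pos hyp hx1 hconj hsx hcard
  exact CfsgLib.LocalEven.involves_of_surjective (E := K) (e.toMonoidHom.comp π)
    (e.surjective.comp (QuotientGroup.mk'_surjective R))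

theorem normalizes_of_involves (hp2 : p ≠ 2) (h : Cfsg.Involves (DihedralGroup p) G) :
    ∃ (x : G) (P : Subgroup G), (∃ k : ℕ, orderOf x = 2 ^ k) ∧ IsPGroup p ↥P ∧
      x ∈ Subgroup.normalizer (P : Set G) ∧ x ∉ Subgroup.centralizer (P : Set G) := by
  obtain ⟨K, R, hn, ⟨e⟩⟩ := h
  have : NeZero p := ⟨hp.out.ne_zero⟩
  set π : K →* DihedralGroup p := e.toMonoidHom.comp (QuotientGroup.mk' (R.subgroupOf K)) with hπ
  have hsurj : Function.Surjective π := e.surjective.comp (QuotientGroup.mk'_surjective _)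
  set Z := Subgroup.zpowers (DihedralGroup.r (1 : ZMod p)) with hZ
  have hZn : Z.Normal := by
    refine Subgroup.normal_of_index_eq_two ?_
    have h1 := Subgroup.card_mul_index Z
    rw [Nat.card_zpowers, DihedralGroup.orderOf_r_one, DihedralGroup.nat_card, mul_comm 2 p] at h1
    exact Nat.eq_of_mul_eq_mul_left hp.out.pos h1
  set N := Z.comap π with hN
  have : N.Normal := hZn.comap π
  obtain ⟨P⟩ : Nonempty (Sylow p N) := inferInstance
  set P' := (P : Subgroup N).map N.subtype with hP'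
  obtain ⟨g, hg⟩ := hsurj (DihedralGroup.sr 0)
  have hgm : g ∈ Subgroup.normalizer (P' : Set K) ⊔ N := Sylow.normalizer_sup_eq_top P ▸ Subgroup.mem_top g
  obtain ⟨n, hnP, m, hm, rfl⟩ := Subgroup.mem_sup_of_normal_right.1 hgm
  obtain ⟨u, hu, v, hv, huv, ⟨k, hk⟩, hvc⟩ := CfsgLib.Transfer.exists_pPart_mul (p := 2) n
  have hsr : ∀ j : ZMod p, DihedralGroup.sr j ∉ Z := by
    rintro j ⟨i, hi⟩
    simp only [DihedralGroup.r_one_zpow] at hi
    exact absurd hi (by simp)
  have hodd : ∀ z : DihedralGroup p, Odd (orderOf z) → z ∈ Z := by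
    rintro (i | i) hz
    · exact ⟨(i.val : ℤ), by simp only [DihedralGroup.r_one_zpow, Int.cast_natCast, ZMod.natCast_zmod_val]⟩
    · rw [DihedralGroup.orderOf_sr] at hz
      exact absurd hz (by decide)
  have huN : π u ∉ Z := by
    intro h
    refine hsr 0 (hg ▸ ?_)
    rw [map_mul, ← huv, map_mul]
    exact mul_mem (mul_mem h (hodd _ (Odd.of_dvd_nat
      (Nat.Coprime.odd_of_right hvc) (orderOf_map_dvd π v)))) hm
  have hun : u ∈ Subgroup.normalizer (P' : Set K) := Subgroup.zpowers_le.2 hnP hu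
  refine ⟨u, P'.map K.subtype, ?_, (P.2.map _).map _, Subgroup.le_normalizer_map K.subtype ⟨u, hun, rfl⟩, fun hc => huN ?_⟩
  · obtain ⟨i, -, hi⟩ := (Nat.dvd_prime_pow Nat.prime_two).1 hk
    exact ⟨i, by rw [Subgroup.orderOf_coe, hi]⟩
  -- `P` maps onto the rotations
  obtain ⟨r, hr⟩ := hsurj (DihedralGroup.r 1)
  obtain ⟨a, ha, b, hb, hab, ⟨l, hl⟩, hbc⟩ := CfsgLib.Transfer.exists_pPart_mul (p := p) r
  have hrN : r ∈ N := by show π r ∈ Z; rw [hr]; exact Subgroup.mem_zpowers _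
  have hb1 : π b = 1 := by
    have hbZ : π b ∈ Z := show b ∈ N from Subgroup.zpowers_le.2 hrN hb
    have h1 := orderOf_dvd_of_mem_zpowers hbZ
    rw [DihedralGroup.orderOf_r_one] at h1
    exact orderOf_eq_one_iff.1 (Nat.eq_one_of_dvd_coprimes hbc (orderOf_map_dvd π b) h1)
  have haN : a ∈ N := Subgroup.zpowers_le.2 hrN ha
  have haZ : π a = DihedralGroup.r 1 := by rw [← hr, ← hab, map_mul, hb1, mul_one]
  obtain ⟨T, hT⟩ : ∃ T : Sylow p N, Subgroup.zpowers (⟨a, haN⟩ : N) ≤ T := by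
    obtain ⟨l', -, hl'⟩ := (Nat.dvd_prime_pow hp.out).1 hl
    exact (IsPGroup.of_card (n := l') (by rw [Nat.card_zpowers, Subgroup.orderOf_mk, hl']) :
      IsPGroup p ↥(Subgroup.zpowers (⟨a, haN⟩ : N))).exists_le_sylow
  obtain ⟨w, hw⟩ := MulAction.exists_smul_eq N T P
  have hwa : (w : K) * a * (w : K)⁻¹ ∈ P' := by
    refine ⟨w * ⟨a, haN⟩ * w⁻¹, ?_, rfl⟩
    rw [← hw]
    exact ⟨_, hT (Subgroup.mem_zpowers _), rfl⟩
  have hcomm : u * ((w : K) * a * (w : K)⁻¹) = (w : K) * a * (w : K)⁻¹ * u :=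
    Subtype.ext (Subgroup.mem_centralizer_iff.1 hc _ ⟨_, hwa, rfl⟩).symm
  have himg : π ((w : K) * a * (w : K)⁻¹) = DihedralGroup.r 1 := by
    obtain ⟨j, hj⟩ := (w.2 : π (w : K) ∈ Z)
    rw [map_mul, map_mul, map_inv, haZ, ← hj]
    simp only []
    group
  generalize (w : K) * a * (w : K)⁻¹ = c at hcomm himg
  have h2 := congrArg π hcomm
  rw [map_mul, map_mul, himg] at h2
  rcases h3 : π u with i | i
  · exact ⟨(i.val : ℤ), by simp only [DihedralGroup.r_one_zpow, Int.cast_natCast, ZMod.natCast_zmod_val]⟩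
  · rw [h3] at h2
    simp only [DihedralGroup.sr_mul_r, DihedralGroup.r_mul_sr] at h2
    have h4 : i + 1 = i - 1 := DihedralGroup.sr.inj h2
    have h5 : ((2 : ℕ) : ZMod p) = 0 := by
      push_cast
      linear_combination h4
    rw [ZMod.natCast_eq_zero_iff] at h5
    exact absurd ((Nat.prime_dvd_prime_iff_eq hp.out Nat.prime_two).1 h5) hp2

/-- For an odd prime p and a finite group G the following are equivalent: the dihedral group of order 2p is involved in G; some element of 2-power order normalizes but does not centralize some p-subgroup of G; some element of 2-power order inverts some nonidentity element of p-power order. -/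
theorem result {G : Type*} [Group G] [Finite G] {p : ℕ} [Fact p.Prime] (hp : p ≠ 2) : (Cfsg.Involves (DihedralGroup p) G ↔ ∃ (x : G) (P : Subgroup G), (∃ k : ℕ, orderOf x = 2 ^ k) ∧ IsPGroup p ↥P ∧ x ∈ Subgroup.normalizer (P : Set G) ∧ x ∉ Subgroup.centralizer (P : Set G)) ∧ (Cfsg.Involves (DihedralGroup p) G ↔ ∃ x y : G, (∃ k : ℕ, orderOf x = 2 ^ k) ∧ (∃ k : ℕ, orderOf y = p ^ k) ∧ y ≠ 1 ∧ x * y * x⁻¹ = y⁻¹) :=
  ⟨⟨normalizes_of_involves hp, fun h => involves_of_inverts hp (inverts_of_normalizes h)⟩,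
    ⟨fun h => inverts_of_normalizes (normalizes_of_involves hp h), involves_of_inverts hp⟩⟩

end Cfsg.Agent.S2758
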