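import Cfsg.Statements.S2760
import Cfsg.Agent.Lib.LocalEven.CharP2
-- import your own Cfsg.Agent.* helpers here

set_option autoImplicit false
open Cfsg

namespace Cfsg.Agent.S2760

/-- Let G be a finite group with C_G(O₂(G)) ≤ O₂(G) and H a subgroup of G such that H is normal in G, or the subgroup O²(H) generated by the elements of H of odd order is normal in G. Then C_H(O₂(H)) ≤ O₂(H). -/
theorem result {G : Type*} [Group G] [Finite G] (hchar : Subgroup.centralizer (Cfsg.pCore 2 G : Set G) ≤ Cfsg.pCore 2 G) (H : Subgroup G) (hH : H.Normal ∨ ((Cfsg.pResidual 2 ↥H).map H.subtype).Normal) : Subgroup.centralizer (Cfsg.pCore 2 ↥H : Set ↥H) ≤ Cfsg.pCore 2 ↥H := by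
  rcases hH with hH | hH
  · exact CfsgLib.LocalEven.charP_normal hchar hH
  · set R := (Cfsg.pResidual 2 H).map H.subtype with hR
    have hRH : R ≤ H := Subgroup.map_subtype_le _
    have hRn : H ≤ Subgroup.normalizer (R : Set G) := by
      rw [Subgroup.normalizer_eq_top_iff.2 hH]; exact le_top
    have hRc := (CfsgLib.LocalEven.charP_iff R).1 (CfsgLib.LocalEven.charP_normal hchar hH)
    have hsub : Cfsg.pCoreOf 2 R ≤ Cfsg.pCoreOf 2 H := by
      refine CfsgLib.LocalEven.le_pCoreOf ((CfsgLib.LocalEven.pCoreOf_le 2 R).trans hRH) ?_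
        (CfsgLib.LocalEven.isPGroup_pCoreOf R)
      intro h hh
      haveI := hH
      exact CfsgLib.LocalEven.mem_normalizer_pCoreOf (hRn hh)
    rw [CfsgLib.LocalEven.charP_iff]
    refine CfsgLib.LocalEven.le_pCoreOf inf_le_left ?_ ?_
    · exact (le_inf Subgroup.le_normalizer ((CfsgLib.LocalEven.le_normalizer_pCoreOf 2 H).trans
        (CfsgLib.LocalEven.normalizer_le_normalizer_centralizer _))).trans
        Subgroup.inf_normalizer_le_normalizer_inf
    · refine CfsgLib.LocalEven.isPGroup_of_pow_mem (CfsgLib.LocalEven.isPGroup_pCoreOf R) ?_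
      intro c hc
      obtain ⟨k, m, hm, hkm⟩ := Nat.exists_eq_two_pow_mul_odd (orderOf_pos c).ne'
      refine ⟨k, hRc ⟨?_, ?_⟩⟩
      · refine ⟨⟨c ^ 2 ^ k, H.pow_mem hc.1 _⟩, Subgroup.subset_closure ?_, rfl⟩
        show Nat.Coprime _ 2
        rw [← Subgroup.orderOf_coe, orderOf_pow, hkm, Nat.gcd_eq_right (dvd_mul_right _ _),
          Nat.mul_div_cancel_left _ (by positivity)]
        exact (Nat.coprime_two_right.2 hm)
      · exact Subgroup.centralizer_le hsub (Subgroup.pow_mem _ hc.2 _)

end Cfsg.Agent.S2760
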