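import Cfsg.Statements.S2762
import Cfsg.Agent.Lib.PLocal.QdOverApps

set_option autoImplicit false
open Cfsg CfsgLib.PLocal

namespace Cfsg.Agent.S2762

/-- Structure of Qd over a finite field F of characteristic p (the affine subgroup of SL₃(F)): its largest normal p-subgroup is the group of translations (matrices with upper-left block the identity), the block-diagonal matrices form a complement isomorphic to SL₂(F), and the translation subgroup is a natural SL₂(F)-module for that complement. -/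
theorem result {F : Type*} [Field F] [Fintype F] {p : ℕ} [Fact p.Prime] [CharP F p] : (∀ M : ↥(Cfsg.qdOver F), M ∈ Cfsg.pCore p ↥(Cfsg.qdOver F) ↔ ((M : Matrix.SpecialLinearGroup (Fin 3) F) : Matrix (Fin 3) (Fin 3) F) 0 0 = 1 ∧ ((M : Matrix.SpecialLinearGroup (Fin 3) F) : Matrix (Fin 3) (Fin 3) F) 0 1 = 0 ∧ ((M : Matrix.SpecialLinearGroup (Fin 3) F) : Matrix (Fin 3) (Fin 3) F) 1 0 = 0 ∧ ((M : Matrix.SpecialLinearGroup (Fin 3) F) : Matrix (Fin 3) (Fin 3) F) 1 1 = 1) ∧ ∃ K : Subgroup ↥(Cfsg.qdOver F), (∀ M : ↥(Cfsg.qdOver F), M ∈ K ↔ ((M : Matrix.SpecialLinearGroup (Fin 3) F) : Matrix (Fin 3) (Fin 3) F) 0 2 = 0 ∧ ((M : Matrix.SpecialLinearGroup (Fin 3) F) : Matrix (Fin 3) (Fin 3) F) 1 2 = 0) ∧ K ⊓ Cfsg.pCore p ↥(Cfsg.qdOver F) = ⊥ ∧ K ⊔ Cfsg.pCore p ↥(Cfsg.qdOver F) = ⊤ ∧ Nonempty (↥K ≃* Matrix.SpecialLinearGroup (Fin 2) F) ∧ Cfsg.IsNaturalSL2Module F (Cfsg.pCore p ↥(Cfsg.qdOver F)) K := by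
  refine ⟨fun M => ?_, (Affine.lin (F := F)).range, fun M => ?_, ?_, ?_, ?_, ?_⟩
  · rw [Affine.pCore_eq_ker]
    constructor
    · intro h
      obtain ⟨v, rfl⟩ := Affine.mem_ker_iff.1 h
      simp [Affine.elt, Affine.mat]
    · rintro ⟨h0, h1, h2, h3⟩
      obtain ⟨v, g, rfl⟩ := Affine.exists_elt_eq M
      simp [Affine.elt, Affine.mat] at h0 h1 h2 h3
      refine Affine.mem_ker_iff.2 ⟨v, congrArg _ (Subtype.ext (Matrix.ext fun i j => ?_)).symm⟩
      fin_cases i <;> fin_cases j <;> simp [h0, h1, h2, h3]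
  · constructor
    · rintro ⟨g, rfl⟩
      simp [Affine.lin, Affine.elt, Affine.mat]
    · rintro ⟨h0, h1⟩
      obtain ⟨v, g, rfl⟩ := Affine.exists_elt_eq M
      simp [Affine.elt, Affine.mat] at h0 h1
      refine ⟨g, congrArg (fun w => Affine.elt w g) (funext fun i => ?_)⟩
      fin_cases i <;> simp [h0, h1]
  · rw [Affine.pCore_eq_ker, eq_bot_iff]
    rintro _ ⟨⟨g, rfl⟩, hx⟩
    change Affine.block (Affine.elt 0 g) = 1 at hx
    rw [Affine.block_elt] at hx
    rw [hx, map_one]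
    exact one_mem _
  · rw [Affine.pCore_eq_ker, eq_top_iff]
    intro x _
    obtain ⟨v, g, rfl⟩ := Affine.exists_elt_eq x
    have e : Affine.elt v g = Affine.elt v 1 * Affine.elt 0 g := by
      rw [Affine.elt_mul, Matrix.mulVec_zero, add_zero, one_mul]
    rw [e]
    exact mul_mem (Subgroup.mem_sup_right (Affine.mem_ker_iff.2 ⟨v, rfl⟩))
      (Subgroup.mem_sup_left ⟨g, rfl⟩)
  · exact ⟨(MonoidHom.ofInjective fun g h e => (Affine.elt_injective e).2).symm⟩
  · rw [Affine.pCore_eq_ker]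
    exact Affine.isNaturalSL2Module_ker

end Cfsg.Agent.S2762
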