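import Cfsg.Statements.S2772
import Cfsg.Agent.Lib.LocalEven.DihedralShape
-- import your own Cfsg.Agent.* helpers here

set_option autoImplicit false
open Cfsg

namespace Cfsg.Agent.S2772

/-- Sims' Theorem in local form: let H be a finite non-abelian simple group and G a maximal subgroup of H with C_G(O₂(G)) ≤ O₂(G), such that N_H(S) is not contained in G for a Sylow 2-subgroup S of G and G/O₂(G) is dihedral of order 2q for a prime q. Then G is isomorphic to the symmetric group of degree 4 or to its direct product with a group of order 2. -/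
theorem result {H : Type*} [Group H] [Finite H] [IsSimpleGroup H] (hna : ¬ IsMulCommutative H) (G : Subgroup H) (hG : IsCoatom G) (hchar : Subgroup.centralizer (Cfsg.pCore 2 ↥G : Set ↥G) ≤ Cfsg.pCore 2 ↥G) (S : Sylow 2 ↥G) (hN : ¬ Subgroup.normalizer (((S : Subgroup ↥G).map G.subtype : Subgroup H) : Set H) ≤ G) (q : ℕ) (hq : q.Prime) (hD : Nonempty (↥G ⧸ Cfsg.pCore 2 ↥G ≃* DihedralGroup q)) : Nonempty (↥G ≃* Equiv.Perm (Fin 4)) ∨ Nonempty (↥G ≃* Equiv.Perm (Fin 4) × Multiplicative (ZMod 2)) := by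
  classical
  haveI : Fact (Nat.Prime 2) := ⟨Nat.prime_two⟩
  obtain ⟨e⟩ := hD
  haveI : NeZero q := ⟨hq.ne_zero⟩
  set T : Subgroup H := (S : Subgroup ↥G).map G.subtype with hTdef
  set Q : Subgroup H := pCoreOf 2 G with hQdef
  let φ : ↥G →* DihedralGroup q := e.toMonoidHom.comp (QuotientGroup.mk' (pCore 2 ↥G))
  have hφs : Function.Surjective φ := e.surjective.comp (QuotientGroup.mk'_surjective _)
  have hφ1 : ∀ x : ↥G, φ x = 1 ↔ x ∈ pCore 2 ↥G := fun x => by
    simp [φ]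
  have hker : ∀ (x : H) (hx : x ∈ G), φ ⟨x, hx⟩ = 1 ↔ x ∈ Q := fun x hx => by
    rw [hφ1]
    exact ⟨fun h => ⟨_, h, rfl⟩, fun ⟨y, hy, e⟩ => (Subtype.ext e : y = ⟨x, hx⟩) ▸ hy⟩
  have hTG : T ≤ G := Subgroup.map_subtype_le _
  have hTp : IsPGroup 2 T := S.isPGroup'.map _
  have hQT : Q ≤ T := Subgroup.map_mono (CfsgLib.Base.pCore_le_sylow S)
  have hQn : G ≤ Subgroup.normalizer (Q : Set H) := CfsgLib.Base.le_normalizer_map_pCore G
  have hDcard : Nat.card (↥G ⧸ pCore 2 ↥G) = 2 * q :=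
    (Nat.card_congr e.toEquiv).trans DihedralGroup.nat_card
  have hcardQ : Nat.card Q = Nat.card (pCore 2 ↥G) := Subgroup.card_subtype _ _
  have hcardG : Nat.card G = 2 * q * Nat.card Q := by
    rw [hcardQ, ← hDcard]; exact Subgroup.card_eq_card_quotient_mul_card_subgroup _
  have hodd : Odd q := by
    refine hq.odd_of_ne_two ?_
    rintro rfl
    have h2 : IsPGroup 2 (↥G ⧸ pCore 2 ↥G) := IsPGroup.iff_card.2 ⟨2, by rw [hDcard]; norm_num⟩
    have h := CfsgLib.Base.pCore_quotient_pCore 2 ↥G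
    rw [CfsgLib.Base.pCore_eq_top_iff.2 h2] at h
    have hsub : Nat.card (⊤ : Subgroup (↥G ⧸ pCore 2 ↥G)) = 1 := by rw [h, Subgroup.card_bot]
    rw [Subgroup.card_top, hDcard] at hsub
    omega
  have hT1 : T ≠ ⊥ := by
    intro h
    have hS : (S : Subgroup ↥G) = ⊥ := by
      rw [hTdef, Subgroup.map_eq_bot_iff_of_injective _ G.subtype_injective] at h
      exact h
    have hO : pCore 2 ↥G = ⊥ := le_bot_iff.1 ((CfsgLib.Base.pCore_le_sylow S).trans hS.le)
    have h1 : (⊤ : Subgroup ↥G) ≤ ⊥ := fun x _ => hO ▸ hchar (fun v hv => by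
      rw [hO] at hv
      rw [Subgroup.mem_bot.1 hv, one_mul, mul_one])
    have := Subgroup.card_le_of_le h1
    rw [Subgroup.card_top, Subgroup.card_bot, hcardG] at this
    have := hq.two_le
    have := Nat.card_pos (α := Q)
    nlinarith
  have htop : ∀ N : Subgroup H, N.Normal → N ≤ T → N = ⊥ := fun N hN hNT =>
    (IsSimpleGroup.eq_bot_or_eq_top_of_normal N hN).resolve_right fun h =>
      hG.1 (top_le_iff.1 ((h ▸ hNT : ⊤ ≤ T).trans hTG))
  have hmax : ∀ X : Subgroup H, G ≤ X → X = G ∨ X = ⊤ := fun X hX => (hG.le_iff.1 hX).symm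
  have hPn : Subgroup.normalizer (G : Set H) = G := by
    refine (hmax _ Subgroup.le_normalizer).resolve_right fun h => ?_
    rcases IsSimpleGroup.eq_bot_or_eq_top_of_normal G (Subgroup.normalizer_eq_top_iff.1 h) with h' | h'
    · exact hT1 (le_bot_iff.1 (hTG.trans h'.le))
    · exact hG.1 h'
  obtain ⟨g, hg, hgG⟩ := SetLike.not_le_iff_exists.1 hN
  obtain ⟨A, hA, hAQ⟩ : ∃ A ∈ CfsgLib.PLocal.maxEAOf 2 T, ¬ A ≤ Q := by
    by_contra hno
    push Not at hno
    have hJle : thompsonSubgroupOf 2 T ≤ Q := by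
      rw [CfsgLib.PLocal.thompsonSubgroupOf_eq_sSup]; exact sSup_le hno
    have hJ : thompsonSubgroupOf 2 T = thompsonSubgroupOf 2 Q := by
      obtain ⟨A, hA⟩ := CfsgLib.PLocal.maxEAOf_nonempty 2 T
      rw [CfsgLib.PLocal.thompsonSubgroupOf_eq_sSup, CfsgLib.PLocal.thompsonSubgroupOf_eq_sSup]
      congr 1
      ext B
      exact ⟨fun hB => ⟨hno B hB, hB.2.1, fun C hC hCe => hB.2.2 C (hC.trans hQT) hCe⟩,
        fun hB => ⟨hB.1.trans hQT, hB.2.1, fun C hC hCe =>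
          (hA.2.2 C hC hCe).trans (hB.2.2 A (hno A hA) hA.2.1)⟩⟩
    have hGJ : G ≤ Subgroup.normalizer (thompsonSubgroupOf 2 T : Set H) :=
      hJ ▸ hQn.trans (CfsgLib.Transfer.normalizer_le_normalizer_thompsonSubgroupOf Q)
    have hgJ := CfsgLib.Transfer.normalizer_le_normalizer_thompsonSubgroupOf (p := 2) T hg
    have hn := (hmax _ hGJ).resolve_left fun h => hgG (h ▸ hgJ)
    exact CfsgLib.Transfer.thompsonSubgroupOf_ne_bot hTp hT1
      (htop _ (Subgroup.normalizer_eq_top_iff.1 hn) (hJle.trans hQT))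
  obtain ⟨a, haA, haQ⟩ := SetLike.not_le_iff_exists.1 hAQ
  have haT : a ∈ T := hA.1 haA
  have href : ∀ (x : H) (hx : x ∈ T), x ∉ Q → ∃ i, φ ⟨x, hTG hx⟩ = DihedralGroup.sr i := by
    intro x hx hxQ
    rcases h : φ ⟨x, hTG hx⟩ with i | i
    · exfalso
      refine hxQ ((hker x (hTG hx)).1 ?_)
      obtain ⟨k, hk⟩ := hTp ⟨x, hx⟩
      have h2 : φ ⟨x, hTG hx⟩ ^ (2 ^ k) = 1 := by
        rw [← map_pow, ← map_one φ]
        exact congrArg φ (Subtype.ext (show (x : H) ^ 2 ^ k = 1 by simpa using congrArg Subtype.val hk))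
      have hq1 : φ ⟨x, hTG hx⟩ ^ q = 1 := by
        rw [h, DihedralGroup.r_pow]; simp
      rw [← orderOf_eq_one_iff, ← Nat.dvd_one]
      have hc : Nat.Coprime (2 ^ k) q := Nat.Coprime.pow_left _ hodd.coprime_two_left
      rw [← hc.gcd_eq_one]
      exact Nat.dvd_gcd (orderOf_dvd_of_pow_eq_one h2) (orderOf_dvd_of_pow_eq_one hq1)
    · exact ⟨i, rfl⟩
  have hidx : ∀ s ∈ T, ∀ t ∈ T, s ∉ Q → t ∉ Q → s * t ∈ Q := by
    intro s hs t ht hsQ htQ
    by_contra hst
    obtain ⟨i, hi⟩ := href s hs hsQ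
    obtain ⟨j, hj⟩ := href t ht htQ
    obtain ⟨k, hk⟩ := href (s * t) (mul_mem hs ht) hst
    have : φ ⟨s * t, hTG (mul_mem hs ht)⟩ = φ ⟨s, hTG hs⟩ * φ ⟨t, hTG ht⟩ := by
      rw [← map_mul]; rfl
    rw [hi, hj, hk, DihedralGroup.sr_mul_sr] at this
    simp at this
  obtain ⟨i, hi⟩ := href a haT haQ
  obtain ⟨⟨p, hp⟩, hp1⟩ := hφs (DihedralGroup.r 1)
  have hyG : a * (p * a * p⁻¹) ∈ G :=
    mul_mem (hTG haT) (mul_mem (mul_mem hp (hTG haT)) (inv_mem hp))
  have hy : φ ⟨_, hyG⟩ = DihedralGroup.r (-2) := by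
    have : (⟨_, hyG⟩ : ↥G) = ⟨a, hTG haT⟩ * (⟨p, hp⟩ * ⟨a, hTG haT⟩ * ⟨p, hp⟩⁻¹) := rfl
    rw [this, map_mul, map_mul, map_mul, map_inv, hi, hp1, DihedralGroup.inv_r,
      DihedralGroup.r_mul_sr, DihedralGroup.sr_mul_r, DihedralGroup.sr_mul_sr]
    congr 1
    ring
  haveI : Fact q.Prime := ⟨hq⟩
  have h2 : (-2 : ZMod q) ≠ 0 := by
    rw [neg_ne_zero, show (2 : ZMod q) = ((2 : ℕ) : ZMod q) by norm_num, Ne,
      ZMod.natCast_eq_zero_iff]
    intro h
    have := (Nat.prime_dvd_prime_iff_eq hq Nat.prime_two).1 h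
    subst this
    exact absurd hodd (by decide)
  have hrot : ∀ (x : H) (hx : x ∈ G) (k : ZMod q), φ ⟨x, hx⟩ = DihedralGroup.r k →
      x ∈ Q ⊔ Subgroup.zpowers (a * (p * a * p⁻¹)) := by
    intro x hx k hk
    set n := (k / (-2)).val
    have hn : φ (⟨_, hyG⟩ ^ n) = DihedralGroup.r k := by
      rw [map_pow, hy, DihedralGroup.r_pow]
      congr 1
      rw [ZMod.natCast_zmod_val, mul_div_cancel₀ _ h2]
    have hxy : x * ((a * (p * a * p⁻¹)) ^ n)⁻¹ ∈ Q := by
      refine (hker _ (mul_mem hx (inv_mem (pow_mem hyG n)))).1 ?_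
      rw [show (⟨x * ((a * (p * a * p⁻¹)) ^ n)⁻¹, _⟩ : ↥G) = ⟨x, hx⟩ * (⟨_, hyG⟩ ^ n)⁻¹ from rfl,
        map_mul, map_inv, hk, hn, mul_inv_cancel]
    rw [show x = x * ((a * (p * a * p⁻¹)) ^ n)⁻¹ * (a * (p * a * p⁻¹)) ^ n by group]
    exact mul_mem (Subgroup.mem_sup_left hxy)
      (Subgroup.mem_sup_right (Subgroup.npow_mem_zpowers _ n))
  have d : CfsgLib.LocalEven.DihMax.Dih G T Q q a p :=
    { hq := hq
      odd := hodd
      hT := hTp
      TP := hTG
      QT := hQT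
      Qn := hQn
      idx := hidx
      char2 := fun x hx => by
        refine (hker x hx.1).1 ((hφ1 _).2 (hchar fun v hv => Subtype.ext ?_))
        exact hx.2 (v : H) ⟨v, hv, rfl⟩
      aT := haT
      aQ := haQ
      pP := hp
      gen := fun x hx => by
        rcases h : φ ⟨x, hx⟩ with k | k
        · exact Subgroup.mem_sup_left (hrot x hx k h)
        · have hax : φ ⟨a * x, mul_mem (hTG haT) hx⟩ = DihedralGroup.r (k - i) := by
            rw [show (⟨a * x, _⟩ : ↥G) = ⟨a, hTG haT⟩ * ⟨x, hx⟩ from rfl, map_mul, hi, h,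
              DihedralGroup.sr_mul_sr]
          rw [show x = a⁻¹ * (a * x) by group]
          exact mul_mem (Subgroup.mem_sup_right (inv_mem (Subgroup.mem_zpowers a)))
            (Subgroup.mem_sup_left (hrot _ _ _ hax))
      card := hcardG
      yQ := fun h => by
        have := (hker _ hyG).2 h
        rw [hy, DihedralGroup.one_def] at this
        exact h2 (DihedralGroup.r.inj this)
      yq := by
        refine (hker _ (pow_mem hyG q)).1 ?_
        rw [show (⟨_, pow_mem hyG q⟩ : ↥G) = ⟨_, hyG⟩ ^ q from rfl, map_pow, hy,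
          DihedralGroup.r_pow]
        simp }
  exact d.shape htop hmax hPn hg hgG hA haA hT1

end Cfsg.Agent.S2772
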