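import Cfsg.Statements.S2781
import Cfsg.Agent.Lib.LocalEven.Norm
import Cfsg.Agent.Lib.Base.Transport
import Cfsg.Agent.Lib.Transfer.NormalPComplement
-- import your own Cfsg.Agent.* helpers here

set_option autoImplicit false
open Cfsg

namespace Cfsg.Agent.S2781

/-- Let H act faithfully by conjugation on the elementary abelian p-subgroup V of a finite group, let O^p(H) be the subgroup of H generated by its elements of order prime to p, and T a Sylow p-subgroup of O^p(H). If V is generated by the H-conjugates of C_V(T) (V is the smallest H-invariant subgroup containing C_V(T)), then V = [V, O^p(H)]·C_V(O^p(H)). -/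
theorem result {G : Type*} [Group G] [Finite G] {p : ℕ} [Fact p.Prime] (V H : Subgroup G) (hV : Cfsg.IsElementaryAbelian p V) (hHV : H ≤ Subgroup.normalizer (V : Set G)) (hf : H ⊓ Subgroup.centralizer (V : Set G) = ⊥) (R : Subgroup G) (hR : R = (Cfsg.pResidual p ↥H).map H.subtype) (S : Sylow p ↥R) (T : Subgroup G) (hT : T = ((S : Subgroup ↥R).map R.subtype)) (hgen : ∀ W : Subgroup G, H ≤ Subgroup.normalizer (W : Set G) → (V ⊓ Subgroup.centralizer ((T : Subgroup G) : Set G)) ≤ W → V ≤ W) : ⁅V, R⁆ ⊔ (V ⊓ Subgroup.centralizer ((R : Subgroup G) : Set G)) = V := by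
  subst hT
  have hRH : R ≤ H := hR ▸ Subgroup.map_subtype_le _
  have hRn : H ≤ Subgroup.normalizer (R : Set G) := by
    rw [hR]
    have := CfsgLib.Transfer.pResidual_characteristic (G := ↥H) (p := p)
    exact Subgroup.le_normalizer.trans
      (CfsgLib.Base.normalizer_le_normalizer_map_subtype H (Cfsg.pResidual p ↥H))
  have hDV : ⁅V, R⁆ ≤ V := Subgroup.commutator_le.2 fun v hv r hr =>
    CfsgLib.LocalEven.commElem_mem_right hv (hHV (hRH hr))
  refine le_antisymm (sup_le hDV inf_le_left) (hgen _ (fun g hg => ?_) fun z hz => ?_)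
  · apply CfsgLib.LocalEven.mem_normalizer_of_conj
    rw [Subgroup.map_sup, Subgroup.map_commutator,
      Subgroup.map_inf _ _ _ (MulAut.conj g).injective,
      CfsgLib.LocalEven.conj_map_eq_of_mem_normalizer (hHV hg),
      CfsgLib.LocalEven.conj_map_eq_of_mem_normalizer (hRn hg),
      CfsgLib.LocalEven.conj_map_eq_of_mem_normalizer
        (CfsgLib.LocalEven.normalizer_le_normalizer_centralizer _ (hRn hg))]
  · rw [sup_comm]
    refine CfsgLib.LocalEven.mem_sup_of_fixed_sylow (p := p) hV (hRH.trans hHV) hDV S hz.1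
      (fun s hs => ?_) fun g hg => CfsgLib.LocalEven.commutator_flip_mem hz.1 hg
    rw [hz.2 (s : G) ⟨s, hs, rfl⟩, mul_inv_cancel_right]

end Cfsg.Agent.S2781
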