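import Cfsg.Statements.S2787
import Cfsg.Agent.Lib.LocalEven.NoQuadratic
import Cfsg.Agent.S1157
-- import your own Cfsg.Agent.* helpers here

set_option autoImplicit false
open Cfsg

namespace Cfsg.Agent.S2787

/-- Let p be a prime and let H act by conjugation on the elementary abelian p-subgroup V of a finite group, irreducibly (no H-invariant subgroups of V other than 1 and V) and nontrivially, and suppose H/C_H(V) is isomorphic to PSL₂(F) for a field F with p^n elements, p^n odd, or p = 3 and H/C_H(V) is isomorphic to a Ree group ²G₂(3^(2m+1)), m ≥ 1. Then no subgroup A of H acting nontrivially on V acts quadratically: [V, A, A] = 1 forces [V, A] = 1. -/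
theorem result {G : Type*} [Group G] [Finite G] {p : ℕ} [Fact p.Prime] (V H : Subgroup G) (hV : Cfsg.IsElementaryAbelian p V) (hHV : H ≤ Subgroup.normalizer (V : Set G)) (hirr : ∀ U : Subgroup G, U ≤ V → H ≤ Subgroup.normalizer (U : Set G) → U = ⊥ ∨ U = V) (hnt : ¬ H ≤ Subgroup.centralizer (V : Set G)) [hn : ((Subgroup.centralizer (V : Set G)).subgroupOf H).Normal] (hq : (∃ (F : Type) (_ : Field F) (_ : Fintype F) (n : ℕ), Fintype.card F = p ^ n ∧ Odd (Fintype.card F) ∧ Nonempty (↥H ⧸ (Subgroup.centralizer (V : Set G)).subgroupOf H ≃* Matrix.ProjectiveSpecialLinearGroup (Fin 2) F)) ∨ (p = 3 ∧ Cfsg.Lie.IsoRee (↥H ⧸ (Subgroup.centralizer (V : Set G)).subgroupOf H))) (A : Subgroup G) (hA : A ≤ H) (hquad : ⁅⁅V, A⁆, A⁆ = ⊥) : ⁅V, A⁆ = ⊥ := by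
  classical
  letI : CommGroup ↥V :=
    { (inferInstance : Group ↥V) with
      mul_comm := hV.1.is_comm.comm }
  set C := (Subgroup.centralizer (V : Set G)).subgroupOf H with hC
  let α₀ : ↥H →* MulAut ↥V := V.normalizerMonoidHom.comp (Subgroup.inclusion hHV)
  have hα₀ : ∀ (h : ↥H) (v : ↥V), ((α₀ h v : ↥V) : G) = (h : G) * v * (h : G)⁻¹ := fun h v => rfl
  have hker : α₀.ker = C := by
    ext h
    rw [MonoidHom.mem_ker, hC, Subgroup.mem_subgroupOf, Subgroup.mem_centralizer_iff]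
    refine ⟨fun e v hv => ?_, fun e => MulEquiv.ext fun v => Subtype.ext ?_⟩
    · have h1 := congrArg Subtype.val (MulEquiv.congr_fun e ⟨v, hv⟩)
      rw [hα₀] at h1
      exact (mul_inv_eq_iff_eq_mul.1 h1).symm
    · rw [hα₀, MulAut.one_apply, ← e v v.2]; group
  let α : ↥H ⧸ C →* MulAut ↥V := QuotientGroup.lift C α₀ hker.ge
  have hα : Function.Injective α := by
    rw [injective_iff_map_eq_one]
    intro x hx
    obtain ⟨h, rfl⟩ := QuotientGroup.mk_surjective x
    rw [QuotientGroup.eq_one_iff, ← hker]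
    exact hx
  have hp : p ≠ 2 := by
    rintro rfl
    rcases hq with ⟨F, _, _, n, hF, hodd, -⟩ | ⟨h3, -⟩
    · rcases Nat.eq_zero_or_pos n with rfl | hn0
      · rw [pow_zero] at hF
        exact absurd (Fintype.one_lt_card (α := F)) (by omega)
      · rw [hF] at hodd
        exact absurd hodd (Nat.not_odd_iff_even.2 (Nat.even_pow.2 ⟨even_two, hn0.ne'⟩))
    · omega
  have hna : ∀ U : Subgroup (↥H ⧸ C), IsPGroup 2 U → CfsgLib.LocalEven.NoQuadratic.NearlyAbelian U := by
    intro U hU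
    rcases hq with ⟨F, _, _, n, hF, hodd, ⟨e⟩⟩ | ⟨-, K, _, _, m, hm, hK, ⟨e⟩⟩
    · obtain ⟨R, hR, hR'⟩ := CfsgLib.LocalEven.NoQuadratic.nearlyAbelian_PSL2
        (by rw [Nat.card_eq_fintype_card]; exact hodd) (U.map e.toMonoidHom) (hU.map _)
      refine ⟨R.comap e.toMonoidHom, fun x hx y hy => e.injective ?_, fun u hu hu' => e.injective ?_⟩
      · rw [map_mul, map_mul]; exact hR _ hx _ hy
      · rw [map_mul, map_one]; exact hR' _ ⟨u, hu, rfl⟩ hu'
    · obtain ⟨S, hS⟩ := (hU.map e.toMonoidHom).exists_le_sylow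
      refine ⟨U, fun x hx y hy => e.injective ?_, fun u hu hu' => absurd hu hu'⟩
      rw [map_mul, map_mul]
      have hcen := (Cfsg.Agent.S1157.result hm hK S).1.ge (hS ⟨x, hx, rfl⟩)
      exact ((Subgroup.mem_centralizer_iff.1 hcen) _ (hS ⟨y, hy, rfl⟩)).symm
  rw [Subgroup.commutator_eq_bot_iff_le_centralizer]
  intro v hv
  rw [Subgroup.mem_centralizer_iff]
  intro a ha
  have key : (QuotientGroup.mk ⟨a, hA ha⟩ : ↥H ⧸ C) = 1 := by
    refine CfsgLib.LocalEven.NoQuadratic.quadratic_eq_one (p := p) hp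
      (fun w => Subtype.ext (by simpa using hV.2 w w.2)) α hα ?_ hna _ ?_
    · intro W hW
      have hnorm : H ≤ Subgroup.normalizer ((W.map V.subtype : Subgroup G) : Set G) := by
        intro h hh
        rw [Subgroup.mem_normalizer_iff_map_conj_eq]
        apply le_antisymm
        · rintro _ ⟨_, ⟨w, hw, rfl⟩, rfl⟩
          exact ⟨α₀ ⟨h, hh⟩ w, hW (QuotientGroup.mk ⟨h, hh⟩) w hw, rfl⟩
        · rintro _ ⟨w, hw, rfl⟩
          refine ⟨_, ⟨α₀ ⟨h, hh⟩⁻¹ w, hW (QuotientGroup.mk (⟨h, hh⟩⁻¹ : ↥H)) w hw, rfl⟩, ?_⟩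
          show (h : G) * ((α₀ ⟨h, hh⟩⁻¹ w : ↥V) : G) * h⁻¹ = (w : G)
          rw [hα₀]
          show h * (h⁻¹ * (w : G) * h⁻¹⁻¹) * h⁻¹ = (w : G)
          group
      rcases hirr _ (Subgroup.map_subtype_le W) hnorm with h | h
      · exact Or.inl ((Subgroup.map_eq_bot_iff_of_injective _ V.subtype_injective).1 h)
      · refine Or.inr (Subgroup.map_injective V.subtype_injective ?_)
        rw [h, ← MonoidHom.range_eq_map, Subgroup.range_subtype]
    · intro w
      rw [div_eq_mul_inv]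
      refine Subtype.ext ?_
      show a * (a * (w : G) * a⁻¹ * (w : G)⁻¹) * a⁻¹ = a * (w : G) * a⁻¹ * (w : G)⁻¹
      have h1 : a * (w : G) * a⁻¹ * (w : G)⁻¹ ∈ ⁅V, A⁆ := by
        rw [Subgroup.commutator_comm]
        exact Subgroup.commutator_mem_commutator ha w.2
      have h2 := (Subgroup.commutator_eq_bot_iff_le_centralizer.1 hquad) h1
      rw [← commutatorElement_def] at h2 ⊢
      rw [Subgroup.mem_centralizer_iff.1 h2 a ha, mul_inv_cancel_right]
  rw [QuotientGroup.eq_one_iff, hC, Subgroup.mem_subgroupOf, Subgroup.mem_centralizer_iff] at key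
  exact (key v hv).symm

end Cfsg.Agent.S2787
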