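import Cfsg.Statements.S2793
import Cfsg.Agent.Lib.FpFailure.Main

set_option autoImplicit false
open Cfsg

namespace Cfsg.Agent.S2793

/-- Let p be an odd prime, S a Sylow p-subgroup of the finite group G, J(S) the subgroup generated by the abelian subgroups of S of largest order, and suppose Z(J(S)) does not control strong fusion in G. Put H = N_G(Z(J(S))). Then the group F(p) of upper triangular 3 × 3 matrices (a b c; 0 a⁻¹ d; 0 0 1) over the field with p elements is involved in H, and Z(J(S)) contains a subgroup C of order p with |N_H(C) : C_H(C)| = p − 1. -/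
theorem result {G : Type*} [Group G] [Finite G] {p : ℕ} [Fact p.Prime] (hp : p ≠ 2) (S : Sylow p G) (h : ¬ Cfsg.ControlsStrongFusion p (Cfsg.centerThompsonAOf (S : Subgroup G))) (H : Subgroup G) (hH : H = Subgroup.normalizer ((Cfsg.centerThompsonAOf (S : Subgroup G)) : Set G)) : Cfsg.Involves ↥(Cfsg.fOver (ZMod p)) ↥H ∧ ∃ C : Subgroup G, C ≤ (Cfsg.centerThompsonAOf (S : Subgroup G)) ∧ Nat.card C = p ∧ (H ⊓ Subgroup.centralizer (C : Set G)).relIndex (H ⊓ Subgroup.normalizer (C : Set G)) = p - 1 := by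
  classical
  subst hH
  set Z := Cfsg.centerThompsonAOf (S : Subgroup G) with hZ
  set H := Subgroup.normalizer (Z : Set G) with hH
  obtain ⟨u, hgen⟩ := IsCyclic.exists_generator (α := (ZMod p)ˣ)
  have hu : ∀ w : (ZMod p)ˣ, ∃ n : ℕ, u ^ n = w := fun w =>
    Submonoid.mem_powers_iff _ _ |>.1 (mem_powers_iff_mem_zpowers.2 (hgen w))
  have hord : orderOf u = p - 1 := by
    rw [orderOf_eq_card_of_forall_mem_zpowers hgen, Nat.card_eq_fintype_card, ZMod.card_units]
  have hp2 : 2 ≤ p := (Fact.out : p.Prime).two_le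
  obtain ⟨m, hm⟩ := (Fact.out : p.Prime).odd_of_ne_two hp
  have hk : u ^ m = -1 := by
    have h1 : (u ^ m) ^ 2 = 1 := by
      rw [← pow_mul, show m * 2 = p - 1 by omega, ← hord, pow_orderOf_eq_one]
    have h2 : u ^ m ≠ 1 := by
      intro h1'
      have := orderOf_dvd_of_pow_eq_one h1'
      rw [hord] at this
      have := Nat.le_of_dvd (by omega) this
      omega
    have h3 : ((u ^ m : (ZMod p)ˣ) : ZMod p) * ((u ^ m : (ZMod p)ˣ) : ZMod p) = 1 := by
      rw [← Units.val_mul, ← sq, h1, Units.val_one]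
    rcases mul_self_eq_one_iff.1 h3 with h4 | h4
    · exact absurd (Units.ext (h4.trans Units.val_one.symm)) h2
    · exact Units.ext h4
  obtain ⟨A, g, hA, hgA, hno⟩ : ∃ (A : Set G) (g : G), A ⊆ (S : Subgroup G) ∧
      (∀ a ∈ A, g * a * g⁻¹ ∈ (S : Subgroup G)) ∧ ¬ CfsgLib.FpFailure.Realised H A g := by
    by_contra hc
    push Not at hc
    refine h ⟨S, CfsgLib.FpFailure.zj_le S, fun A hA => ⟨hA, fun g hg => ?_⟩⟩
    obtain ⟨x, hx, he⟩ := hc A g hA fun a ha => hg ⟨a, ha, rfl⟩
    exact ⟨x, hx, fun a ha => (he a ha).symm⟩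
  obtain ⟨hI, v, hv, hvo, k, hk', hkv⟩ :=
    CfsgLib.FpFailure.concl_of_fail hp u hu hk (Nat.card G) G rfl S A g hA hgA hno
  refine ⟨hI.involves, Subgroup.zpowers v, (Subgroup.zpowers_le).2 hv,
    by rw [Nat.card_zpowers, hvo], ?_⟩
  set C := Subgroup.zpowers v with hC
  set M := H ⊓ Subgroup.normalizer (C : Set G) with hM
  let f : M →* MulAut C :=
    (Subgroup.normalizerMonoidHom C).comp (Subgroup.inclusion (inf_le_right : M ≤ _))
  have hker : (H ⊓ Subgroup.centralizer (C : Set G)).subgroupOf M = f.ker := by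
    ext x
    rw [Subgroup.mem_subgroupOf, MonoidHom.mem_ker]
    constructor
    · rintro ⟨-, hx⟩
      refine MulEquiv.ext fun c => Subtype.ext ?_
      show (x : G) * c * (x : G)⁻¹ = c
      rw [← Subgroup.mem_centralizer_iff.1 hx c c.2, mul_inv_cancel_right]
    · intro hx
      refine Subgroup.mem_inf.2 ⟨x.2.1, Subgroup.mem_centralizer_iff.2 fun c hc => ?_⟩
      have h1 : (x : G) * c * (x : G)⁻¹ = c :=
        congrArg Subtype.val (DFunLike.congr_fun hx (⟨c, hc⟩ : C))
      exact (mul_inv_eq_iff_eq_mul.1 h1).symm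
  have hCcard : Nat.card C = p := by rw [hC, Nat.card_zpowers, hvo]
  haveI : IsCyclic C := Subgroup.isCyclic_zpowers v
  have hAut : Nat.card (MulAut C) = p - 1 := by
    rw [IsCyclic.card_mulAut, hCcard, Nat.totient_prime Fact.out]
  have hkN : k ∈ Subgroup.normalizer (C : Set G) := by
    refine Subgroup.mem_normalizer_iff_map_conj_eq.2 (Subgroup.eq_of_le_of_card_ge ?_
      (Subgroup.card_map_of_injective (MulAut.conj k).injective).ge)
    rw [hC, MonoidHom.map_zpowers, Subgroup.zpowers_le]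
    show k * v * k⁻¹ ∈ Subgroup.zpowers v
    rw [hkv]
    exact Subgroup.npow_mem_zpowers v _
  let kM : M := ⟨k, hk', hkN⟩
  have hlow : p - 1 ∣ Nat.card f.range := by
    refine dvd_trans ?_ (Subgroup.orderOf_dvd_natCard f.range ⟨kM, rfl⟩)
    rw [← hord]
    refine orderOf_dvd_of_pow_eq_one ?_
    have hiter : ∀ n : ℕ, k ^ n * v * (k ^ n)⁻¹ = v ^ ((u : ZMod p).val ^ n) := by
      intro n
      induction n with
      | zero => simp
      | succ n ih =>
        calc k ^ (n + 1) * v * (k ^ (n + 1))⁻¹ = k * (k ^ n * v * (k ^ n)⁻¹) * k⁻¹ := by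
              rw [pow_succ']; group
          _ = (k * v * k⁻¹) ^ ((u : ZMod p).val ^ n) := by rw [ih, conj_pow]
          _ = _ := by rw [hkv, ← pow_mul, pow_succ']
    have h0 := pow_orderOf_eq_one (f kM)
    rw [← map_pow] at h0
    have h1 : k ^ orderOf (f kM) * v * (k ^ orderOf (f kM))⁻¹ = v := by
      have := congrArg Subtype.val (DFunLike.congr_fun h0 (⟨v, Subgroup.mem_zpowers v⟩ : C))
      exact this
    rw [hiter] at h1
    have h2 : (u : ZMod p).val ^ orderOf (f kM) ≡ 1 [MOD p] := by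
      have h1' := pow_eq_pow_iff_modEq.1 (h1.trans (pow_one v).symm)
      rwa [hvo] at h1' 
    have h3 := (ZMod.natCast_eq_natCast_iff _ _ p).2 h2
    rw [Nat.cast_pow, ZMod.natCast_zmod_val, Nat.cast_one] at h3
    exact Units.ext (by rw [Units.val_pow_eq_pow_val, h3, Units.val_one])
  show ((H ⊓ Subgroup.centralizer (C : Set G)).subgroupOf M).index = p - 1
  rw [hker, Subgroup.index_ker]
  refine Nat.dvd_antisymm ?_ hlow
  rw [← hAut]
  exact Subgroup.card_subgroup_dvd_card _

end Cfsg.Agent.S2793
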