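import Cfsg.Statements.S2804
import Cfsg.Agent.Lib.LocalEven.Subnormal2
import Cfsg.Agent.Lib.LocalEven.PIrred
import Cfsg.Agent.Lib.Transfer.NormalPComplement
-- import your own Cfsg.Agent.* helpers here

set_option autoImplicit false
open Cfsg

namespace Cfsg.Agent.S2804

/-- Let L be a finite group and p a prime with C_L(O_p(L)) ≤ O_p(L), V a p-reduced normal subgroup of L and K a subnormal subgroup of L. Then [V, O^p(K)] is contained in K and is a p-reduced normal subgroup of K, where O^p(K) is the subgroup of K generated by its elements of order prime to p. -/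
theorem result {L : Type*} [Group L] [Finite L] {p : ℕ} [Fact p.Prime] (hchar : Subgroup.centralizer (Cfsg.pCore p L : Set L) ≤ Cfsg.pCore p L) (V : Subgroup L) (hV : Cfsg.IsPReducedNormal p V) (K : Subgroup L) (hK : K.IsSubnormal) : ⁅V, (Cfsg.pResidual p ↥K).map K.subtype⁆ ≤ K ∧ Cfsg.IsPReducedNormal p ((⁅V, (Cfsg.pResidual p ↥K).map K.subtype⁆).subgroupOf K) := by
  set B := (Cfsg.pResidual p ↥K).map K.subtype with hBdef
  have hBK : B ≤ K := Subgroup.map_subtype_le _
  have hBn : K ≤ Subgroup.normalizer (B : Set L) := by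
    rw [← Subgroup.normal_subgroupOf_iff_le_normalizer hBK, hBdef, Subgroup.subgroupOf,
      Subgroup.comap_map_eq_self_of_injective K.subtype_injective]
    exact CfsgLib.Transfer.pResidual_normal
  have hBres : (Cfsg.pResidual p B).map B.subtype = B := by
    refine le_antisymm (Subgroup.map_subtype_le _) ?_
    conv_lhs => rw [hBdef]
    rw [Subgroup.map_le_iff_le_comap, Cfsg.pResidual, Subgroup.closure_le]
    intro g hg
    exact ⟨⟨g, ⟨g, CfsgLib.Transfer.mem_pResidual_of_coprime hg, rfl⟩⟩,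
      CfsgLib.Transfer.mem_pResidual_of_coprime (by rw [← Subgroup.orderOf_coe]; simpa using hg),
      rfl⟩
  have hVr : CfsgLib.LocalEven.IsPRedIn p V ⊤ := CfsgLib.LocalEven.isPReducedNormal_iff.1 hV
  have hVp : IsPGroup p V :=
    CfsgLib.LocalEven.isPGroup_of_exponent (CfsgLib.LocalEven.elemAbelian_iff.1 hV.2.1).2
  have := hV.1
  have hVn : ∀ x : L, x ∈ Subgroup.normalizer (V : Set L) := fun x => by
    rw [Subgroup.normalizer_eq_top_iff.2 hV.1]; trivial
  have hVB : V ≤ Subgroup.normalizer (B : Set L) :=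
    (CfsgLib.LocalEven.subnormal_pResidual_absorb V B (hV.1.isSubnormal)
      (Subgroup.IsSubnormal.step B K hBK hK ((Subgroup.normal_subgroupOf_iff_le_normalizer hBK).2 hBn))
      hVp hBres).1
  set W := ⁅V, B⁆
  have hWV : W ≤ V := Subgroup.commutator_le.2 fun a ha b hb =>
    CfsgLib.LocalEven.commElem_mem_right ha (hVn b)
  have hWB : W ≤ B := Subgroup.commutator_le.2 fun a ha b hb =>
    CfsgLib.LocalEven.commElem_mem_left hb (hVB ha)
  have hWn : K ≤ Subgroup.normalizer (W : Set L) := fun k hk => by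
    apply CfsgLib.LocalEven.mem_normalizer_of_conj
    rw [Subgroup.map_commutator, CfsgLib.LocalEven.conj_map_eq_of_mem_normalizer (hVn k),
      CfsgLib.LocalEven.conj_map_eq_of_mem_normalizer (hBn hk)]
  refine ⟨hWB.trans hBK, (CfsgLib.LocalEven.isPRedIn_iff_subgroupOf (hWB.trans hBK)).1
    ⟨hWB.trans hBK, hWn, CfsgLib.LocalEven.elemAbelian_mono hV.2.1 hWV, fun D hDK hDn hDp => ?_⟩⟩
  obtain ⟨hV0, hV0C⟩ := hVr.inf_subnormal hK
  have hW0 : W ≤ V ⊓ K := le_inf hWV (hWB.trans hBK)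
  have hstab : ∀ c ∈ B, c ∈ Subgroup.centralizer (W : Set L) →
      ∃ k, c ^ p ^ k ∈ Subgroup.centralizer ((V ⊓ K : Subgroup L) : Set L) := fun c hc hcW => by
    obtain ⟨k, hk⟩ := CfsgLib.LocalEven.exists_pow_mem_centralizer (A := (V : Set L))
      (hVp.to_le hWV) (fun x hx => CfsgLib.LocalEven.commutator_comm_mem hx hc) hcW
    exact ⟨k, Subgroup.centralizer_le (SetLike.coe_subset_coe.2 inf_le_left) hk⟩
  refine (hV0.2.2.2 D hDK hDn fun d hd => ?_).trans (Subgroup.centralizer_le hW0)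
  obtain ⟨j, m, hm, hord⟩ := Nat.exists_eq_pow_mul_and_not_dvd (orderOf_pos d).ne' p
    (Fact.out : p.Prime).ne_one
  obtain ⟨i, hi⟩ := hDp d hd
  have hB : d ^ p ^ j ∈ B := by
    refine ⟨⟨d ^ p ^ j, K.pow_mem (hDK hd) _⟩, CfsgLib.Transfer.mem_pResidual_of_coprime ?_, rfl⟩
    rw [Subgroup.orderOf_mk, orderOf_pow' d (pow_ne_zero _ (Fact.out : p.Prime).ne_zero), hord,
      Nat.gcd_eq_right (Dvd.intro m rfl), Nat.mul_div_cancel_left _ (pow_pos (Fact.out : p.Prime).pos j)]
    exact ((Nat.Prime.coprime_iff_not_dvd Fact.out).2 hm).symm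
  obtain ⟨k, hk⟩ := hstab ((d ^ p ^ j) ^ p ^ i) (B.pow_mem hB _) (by
    rw [← pow_mul, mul_comm, pow_mul]; exact Subgroup.pow_mem _ hi _)
  exact ⟨j + i + k, by rw [pow_add, pow_add, pow_mul, pow_mul]; exact hk⟩

end Cfsg.Agent.S2804
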