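import Cfsg.Statements.S2806
import Cfsg.Agent.Lib.LocalEven.Subnormal2
import Cfsg.Agent.Lib.LocalEven.SubnormalSylow
import Cfsg.Agent.Lib.PLocal.SubnormalJoin
import Cfsg.Agent.Lib.PGroups.Basic

set_option autoImplicit false
set_option linter.style.haveILetI false
open Cfsg

namespace Cfsg.Agent.S2806

open CfsgLib.LocalEven

variable {H : Type*} [Group H] [Finite H] {p : ℕ} [Fact p.Prime]

/-- `Ω₁Z(R)`. -/
abbrev oz (p : ℕ) (R : Subgroup H) : Subgroup H :=
  Cfsg.omegaOne p (R ⊓ Subgroup.centralizer (R : Set H))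

theorem oz_le (R : Subgroup H) : oz p R ≤ R :=
  (Subgroup.closure_le _).2 fun _ hx => hx.1.1

theorem oz_ne_bot {R : Subgroup H} (hR : IsPGroup p R) (hne : R ≠ ⊥) : oz p R ≠ ⊥ := by
  haveI := (Subgroup.nontrivial_iff_ne_bot _).2 hne
  haveI := hR.center_nontrivial
  obtain ⟨z, hz⟩ := exists_prime_orderOf_dvd_card' (G := Subgroup.center R) p (by
    obtain ⟨n, hn⟩ := IsPGroup.iff_card.1 (hR.to_subgroup (Subgroup.center R))
    rw [hn]
    rcases n with _ | n
    · rw [pow_zero] at hn; exact absurd hn Finite.one_lt_card.ne'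
    · exact dvd_pow_self p n.succ_ne_zero)
  rw [← Subgroup.orderOf_coe, ← Subgroup.orderOf_coe] at hz
  intro h
  have hmem : ((z : R) : H) ∈ oz p R := Subgroup.subset_closure
    ⟨⟨(z : R).2, Subgroup.mem_centralizer_iff.2 fun y hy =>
      congrArg Subtype.val (Subgroup.mem_center_iff.1 z.2 ⟨y, hy⟩)⟩, hz ▸ pow_orderOf_eq_one _⟩
  rw [h, Subgroup.mem_bot] at hmem
  rw [hmem, orderOf_one] at hz
  exact (Fact.out : p.Prime).ne_one hz.symm

theorem le_normalizer_oz {R : Subgroup H} {g : H} (hg : g ∈ Subgroup.normalizer (R : Set H)) :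
    g ∈ Subgroup.normalizer (oz p R : Set H) := by
  apply mem_normalizer_of_conj
  rw [map_omegaOne p _ _ (MulAut.conj g).injective, map_center_inf _ _ (MulAut.conj g).injective,
    conj_map_eq_of_mem_normalizer hg]

/-- The normal step, in a group of local characteristic `p`. -/
theorem step (hH : Cfsg.IsOfLocalCharacteristic p H) {R L K : Subgroup H} (hK : K.IsSubnormal)
    (hR : CfsgLib.Fusion.IsSylIn p R K) (hLK : L ≤ K) (hn : K ≤ Subgroup.normalizer (L : Set H))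
    (hne : R ⊓ L ≠ ⊥) :
    L ⊓ Subgroup.centralizer (oz p R : Set H) = L ⊓ Subgroup.centralizer (oz p (R ⊓ L) : Set H) := by
  have hRS : R ≤ Subgroup.normalizer ((R ⊓ L : Subgroup H) : Set H) :=
    (le_inf Subgroup.le_normalizer (hR.1.trans hn)).trans Subgroup.inf_normalizer_le_normalizer_inf
  -- the equality inside a local subgroup
  have local_eq : ∀ Z : Subgroup H, IsPGroup p Z → Z ≠ ⊥ → R ≤ Subgroup.normalizer (Z : Set H) →
      (L ⊓ Subgroup.normalizer (Z : Set H)) ⊓ Subgroup.centralizer (oz p R : Set H) =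
        (L ⊓ Subgroup.normalizer (Z : Set H)) ⊓ Subgroup.centralizer (oz p (R ⊓ L) : Set H) := by
    intro Z hZ hZ1 hRZ
    set N := Subgroup.normalizer (Z : Set H)
    have hchar : Subgroup.centralizer (pCore p ↥(K ⊓ N) : Set ↥(K ⊓ N)) ≤ pCore p ↥(K ⊓ N) := by
      have h := charP_subnormal (hH.2 Z hZ hZ1) (hK.subgroupOf (K := N))
      rw [← Subgroup.inf_subgroupOf_right] at h
      exact charP_equiv (Subgroup.subgroupOfEquivOfLe inf_le_right) h
    have hRN : CfsgLib.Fusion.IsSylIn p R (K ⊓ N) :=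
      ⟨le_inf hR.1 hRZ, hR.2.1, fun C hC h1 h2 => hR.2.2 C hC h1 (h2.trans inf_le_left)⟩
    have h := inf_centralizer_omegaCenter (L := L ⊓ N) hchar hRN (inf_le_inf_right _ hLK)
      ((le_inf (inf_le_left.trans hn) (inf_le_right.trans Subgroup.le_normalizer)).trans
        Subgroup.inf_normalizer_le_normalizer_inf)
    rwa [show R ⊓ (L ⊓ N) = R ⊓ L by rw [← inf_assoc]; exact inf_eq_left.2 (inf_le_left.trans hRZ)] at h
  have hR1 : R ≠ ⊥ := fun h => hne (by rw [h, bot_inf_eq])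
  refine le_antisymm (fun x hx => ?_) fun x hx => ?_
  · have h := local_eq (oz p R) (hR.2.1.to_le (oz_le R)) (oz_ne_bot hR.2.1 hR1)
      (fun r hr => le_normalizer_oz (Subgroup.le_normalizer hr))
    exact ⟨hx.1, (h.le (show x ∈ _ from ⟨⟨hx.1, Subgroup.centralizer_le_normalizer _ hx.2⟩, hx.2⟩)).2⟩
  · have h := local_eq (oz p (R ⊓ L)) (hR.2.1.to_le ((oz_le _).trans inf_le_left))
      (oz_ne_bot (hR.2.1.to_le inf_le_left) hne) (fun r hr => le_normalizer_oz (hRS hr))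
    exact ⟨hx.1, (h.ge (show x ∈ _ from ⟨⟨hx.1, Subgroup.centralizer_le_normalizer _ hx.2⟩, hx.2⟩)).2⟩

theorem subnormal_eq (hH : Cfsg.IsOfLocalCharacteristic p H) (T : Sylow p H) {L : Subgroup H}
    (hL : L.IsSubnormal) :
    CfsgLib.Fusion.IsSylIn p ((T : Subgroup H) ⊓ L) L ∧ ((T : Subgroup H) ⊓ L ≠ ⊥ →
      L ⊓ Subgroup.centralizer (oz p (T : Subgroup H) : Set H) =
        L ⊓ Subgroup.centralizer (oz p ((T : Subgroup H) ⊓ L) : Set H)) := by
  induction hL with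
  | top =>
    refine ⟨⟨inf_le_right, T.isPGroup'.to_le inf_le_left, fun C hC hle _ => ?_⟩, fun _ => by rw [inf_top_eq]⟩
    rw [inf_top_eq] at hle ⊢
    exact T.3 hC hle
  | step L K hle hK hN ih =>
    obtain ⟨h1, h2⟩ := ih
    have hKn := (Subgroup.normal_subgroupOf_iff_le_normalizer hle).1 hN
    have hs := isSylIn_inf h1 hle hKn
    have e : (T : Subgroup H) ⊓ K ⊓ L = (T : Subgroup H) ⊓ L := by rw [inf_assoc, inf_eq_right.2 hle]
    refine ⟨e ▸ hs, fun hne => ?_⟩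
    have h3 := step hH hK h1 hle hKn (by rw [e]; exact hne)
    rw [e] at h3
    exact (inf_inf_centralizer_eq hle (h2 fun h => hne (by rw [← e, h, bot_inf_eq]))).trans h3

theorem pointStabilizer_eq (hH : Cfsg.IsOfLocalCharacteristic p H) (T : Sylow p H) {L : Subgroup H}
    (hL : L.IsSubnormal) :
    Cfsg.pointStabilizer p L ((T : Subgroup H) ⊓ L) = Subgroup.closure {x : H |
      x ∈ L ⊓ Subgroup.centralizer (oz p (T : Subgroup H) : Set H) ∧ ∃ k : ℕ, orderOf x = p ^ k} := by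
  obtain ⟨hs, heq⟩ := subnormal_eq hH T hL
  by_cases hne : (T : Subgroup H) ⊓ L = ⊥
  · -- there are no non-trivial `p`-elements in `L`
    have h1 : ∀ x ∈ L, (∃ k : ℕ, orderOf x = p ^ k) → x = 1 := by
      rintro x hx ⟨k, hk⟩
      have hp : IsPGroup p (Subgroup.zpowers x) := IsPGroup.of_card (n := k) (by rw [Nat.card_zpowers, hk])
      obtain ⟨l, hl, hle⟩ := hs.exists_conj_le hp (Subgroup.zpowers_le.2 hx)
      have hmem := hle x (Subgroup.mem_zpowers x)
      rw [hne, Subgroup.mem_bot] at hmem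
      exact conj_eq_one_iff.1 hmem
    refine le_antisymm ((Subgroup.closure_le _).2 ?_) ((Subgroup.closure_le _).2 ?_) <;>
      rintro x ⟨hx, hk⟩ <;> rw [h1 x hx.1 hk] <;> exact one_mem _
  · rw [heq hne]; rfl

/-- Let H have local characteristic p, T a Sylow p-subgroup, L = ⟨L₁, L₂⟩ with Lᵢ subnormal. Then P_L(T ∩ L) = ⟨P_{L₁}(T ∩ L₁), P_{L₂}(T ∩ L₂)⟩. -/
theorem result {H : Type*} [Group H] [Finite H] {p : ℕ} [Fact p.Prime] (hH : Cfsg.IsOfLocalCharacteristic p H) (T : Sylow p H) (L₁ L₂ : Subgroup H) (h₁ : L₁.IsSubnormal) (h₂ : L₂.IsSubnormal) : Cfsg.pointStabilizer p (L₁ ⊔ L₂) ((T : Subgroup H) ⊓ (L₁ ⊔ L₂)) = Cfsg.pointStabilizer p L₁ ((T : Subgroup H) ⊓ L₁) ⊔ Cfsg.pointStabilizer p L₂ ((T : Subgroup H) ⊓ L₂) := by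
  have hL := CfsgLib.PLocal.isSubnormal_join h₁ h₂
  rw [pointStabilizer_eq hH T hL, pointStabilizer_eq hH T h₁, pointStabilizer_eq hH T h₂]
  set W := Subgroup.centralizer (oz p (T : Subgroup H) : Set H) with hW
  set P : Subgroup H → Subgroup H := fun L =>
    Subgroup.closure {x : H | x ∈ L ⊓ W ∧ ∃ k : ℕ, orderOf x = p ^ k} with hP
  refine le_antisymm ?_ (sup_le (Subgroup.closure_mono fun x hx => ⟨⟨le_sup_left (b := L₂) hx.1.1, hx.1.2⟩, hx.2⟩)
    (Subgroup.closure_mono fun x hx => ⟨⟨le_sup_right (a := L₁) hx.1.1, hx.1.2⟩, hx.2⟩))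
  show P (L₁ ⊔ L₂) ≤ P L₁ ⊔ P L₂
  set L := L₁ ⊔ L₂
  set C := L ⊓ W
  have hPC : ∀ L', L' ≤ L → P L' ≤ C := fun L' hle =>
    (Subgroup.closure_le _).2 fun x hx => ⟨hle hx.1.1, hx.1.2⟩
  -- the two groups are subnormal in `C`
  have hsub : ∀ L', L'.IsSubnormal → L' ≤ L → ((P L').subgroupOf C).IsSubnormal := by
    intro L' hL' hle
    have hmid : ((L' ⊓ W).subgroupOf C).IsSubnormal := by
      have h := hL'.subgroupOf (K := C)
      rwa [show L'.subgroupOf C = (L' ⊓ W).subgroupOf C by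
        ext ⟨x, hx⟩; exact ⟨fun h => ⟨h, hx.2⟩, fun h => h.1⟩] at h
    refine Subgroup.IsSubnormal.trans ?_ (Subgroup.Normal.isSubnormal (H :=
      ((P L').subgroupOf C).subgroupOf ((L' ⊓ W).subgroupOf C)) ?_) hmid
    · exact Subgroup.comap_mono ((Subgroup.closure_le _).2 fun x hx => hx.1)
    · refine ⟨fun a ha g => ?_⟩
      have hg : ((g : C) : H) ∈ L' ⊓ W := g.2
      show ((g : C) : H) * ((a : C) : H) * ((g : C) : H)⁻¹ ∈ P L'
      have hle' : P L' ≤ (P L').comap (MulAut.conj ((g : C) : H)).toMonoidHom := by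
        refine (Subgroup.closure_le _).2 fun x hx => Subgroup.subset_closure ⟨?_, ?_⟩
        · exact (L' ⊓ W).mul_mem ((L' ⊓ W).mul_mem hg hx.1) ((L' ⊓ W).inv_mem hg)
        · obtain ⟨k, hk⟩ := hx.2
          exact ⟨k, (orderOf_injective (MulAut.conj ((g : C) : H)).toMonoidHom
            (MulAut.conj ((g : C) : H)).injective x).trans hk⟩
      exact hle' ha
  set X := (P L₁ ⊔ P L₂).subgroupOf C with hX
  have hXs : X.IsSubnormal := by
    rw [hX, Subgroup.subgroupOf_sup (hPC _ le_sup_left) (hPC _ le_sup_right)]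
    exact CfsgLib.PLocal.isSubnormal_join (hsub _ h₁ le_sup_left) (hsub _ h₂ le_sup_right)
  -- a Sylow subgroup of `C` lies in `X`
  have hTW : (T : Subgroup H) ≤ W := by
    rw [hW, Subgroup.le_centralizer_iff]
    exact (Subgroup.closure_le _).2 fun x hx => hx.1.2
  have hin : ∀ L' : Subgroup H, L' ⊓ (T : Subgroup H) ≤ P L' := by
    intro L' x hx
    obtain ⟨k, hk⟩ := IsPGroup.iff_orderOf.1 T.2 ⟨x, hx.2⟩
    exact Subgroup.subset_closure ⟨⟨hx.1, hTW hx.2⟩, k, by rwa [Subgroup.orderOf_mk] at hk⟩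
  have hTX : ((T : Subgroup H) ⊓ L).subgroupOf C ≤ X := Subgroup.comap_mono
    ((inf_comm _ _).le.trans ((SubSyl.sup_inf_le h₁ h₂ T).trans (sup_le_sup (hin L₁) (hin L₂))))
  obtain ⟨S, hS⟩ : ∃ S : Sylow p C, (S : Subgroup C) = ((T : Subgroup H) ⊓ L).subgroupOf C :=
    (CfsgLib.Fusion.exists_sylow_iff (show (T : Subgroup H) ⊓ L ≤ C from
      le_inf inf_le_right (inf_le_left.trans hTW))).2
      ⟨le_inf inf_le_right (inf_le_left.trans hTW), T.2.to_le inf_le_left, fun D hD h1 h2 =>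
        (subnormal_eq hH T hL).1.2.2 D hD h1 (h2.trans inf_le_left)⟩
  rw [hP]
  refine (Subgroup.closure_le _).2 fun x hx => ?_
  obtain ⟨hxC, k, hk⟩ := hx
  obtain ⟨R, hR⟩ := (IsPGroup.of_card (p := p) (n := k) (G := Subgroup.zpowers (⟨x, hxC⟩ : C))
    (by rw [Nat.card_zpowers, Subgroup.orderOf_mk, hk])).exists_le_sylow
  have hidx : ¬ p ∣ X.index := fun h =>
    S.not_dvd_index (h.trans (Subgroup.index_dvd_of_le (hS ▸ hTX)))
  have hXR : X ⊓ (R : Subgroup C) = R := by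
    refine SubSyl.eq_of_le_of_not_dvd inf_le_right R.2 fun h => ?_
    have h2 : ¬ p ∣ (X ⊓ (R : Subgroup C)).index := by
      rw [← Subgroup.relIndex_mul_index (inf_le_left : X ⊓ (R : Subgroup C) ≤ X)]
      exact (Fact.out : p.Prime).not_dvd_mul (SubSyl.not_dvd_inf R hXs) hidx
    exact h2 (h.trans (Subgroup.relIndex_dvd_index_of_le inf_le_right))
  exact (hXR.ge (hR (Subgroup.mem_zpowers _))).1

end Cfsg.Agent.S2806
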