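import Cfsg.Statements.S2810
import Cfsg.Agent.Lib.LocalEven.CharP2
-- import your own Cfsg.Agent.* helpers here

set_option autoImplicit false
open Cfsg

namespace Cfsg.Agent.S2810

/-- Let H be a finite group of characteristic p and L a subgroup of H centralizing every factor of some H-invariant chain 1 = A₀ ≤ A₁ ≤ … ≤ Aₙ = O_p(H) of normal subgroups (that is, [A_{i+1}, L] ≤ Aᵢ for each i). Then L ≤ O_p(H). -/
theorem result {H : Type*} [Group H] [Finite H] {p : ℕ} [Fact p.Prime] (hchar : Subgroup.centralizer (Cfsg.pCore p H : Set H) ≤ Cfsg.pCore p H) (L : Subgroup H) (n : ℕ) (A : Fin (n + 1) → Subgroup H) (h0 : A 0 = ⊥) (hn : A (Fin.last n) = Cfsg.pCore p H) (hmono : Monotone A) (hnorm : ∀ i, (A i).Normal) (hcent : ∀ i : Fin n, ⁅A i.succ, L⁆ ≤ A i.castSucc) : L ≤ Cfsg.pCore p H := by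
  classical
  have hK : ∀ i : Fin n, ⁅A i.succ, Subgroup.normalClosure (L : Set H)⁆ ≤ A i.castSucc := by
    intro i
    haveI := hnorm i.castSucc
    haveI := hnorm i.succ
    haveI : ((A i.succ).map (QuotientGroup.mk' (A i.castSucc))).Normal :=
      Subgroup.Normal.map (hnorm i.succ) _ (QuotientGroup.mk'_surjective _)
    haveI : (Cfsg.sectionKernel (A i.succ) (A i.castSucc)).Normal := by
      unfold Cfsg.sectionKernel; infer_instance
    have h1 : L ≤ Cfsg.sectionKernel (A i.succ) (A i.castSucc) := by
      intro l hl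
      rw [Cfsg.sectionKernel, Subgroup.mem_comap, Subgroup.mem_centralizer_iff_commutator_eq_one]
      rintro _ ⟨x, hx, rfl⟩
      rw [← map_commutatorElement, QuotientGroup.mk'_apply, QuotientGroup.eq_one_iff]
      have := hcent i (Subgroup.commutator_mem_commutator hx hl)
      exact this
    have h2 : Subgroup.normalClosure (L : Set H) ≤ Cfsg.sectionKernel (A i.succ) (A i.castSucc) :=
      Subgroup.normalClosure_le_normal h1
    refine Subgroup.commutator_le.2 fun x hx y hy => ?_
    have h3 := h2 hy
    rw [Cfsg.sectionKernel, Subgroup.mem_comap, Subgroup.mem_centralizer_iff_commutator_eq_one] at h3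
    have h4 := h3 _ ⟨x, hx, rfl⟩
    rw [← map_commutatorElement, QuotientGroup.mk'_apply, QuotientGroup.eq_one_iff] at h4
    exact h4
  refine Subgroup.le_normalClosure.trans (CfsgLib.LocalEven.le_pCore Subgroup.normalClosure_normal ?_)
  refine CfsgLib.LocalEven.isPGroup_of_series CfsgLib.LocalEven.isPGroup_pCore
    CfsgLib.LocalEven.isPGroup_pCore n (fun i => A ⟨min i n, by omega⟩) (by simpa using h0)
    (fun i _ => ?_) ?_ ?_
  · rw [← hn]; exact hmono (Fin.le_last _)
  · intro i hi
    have := hK ⟨i, hi⟩
    simp only [Fin.succ_mk, Fin.castSucc_mk] at this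
    have e1 : min (i + 1) n = i + 1 := by omega
    have e2 : min i n = i := by omega
    simpa only [e1, e2] using this
  · have : (⟨min n n, by omega⟩ : Fin (n + 1)) = Fin.last n := by ext; simp
    simp only [this, hn]
    exact inf_le_right.trans hchar

end Cfsg.Agent.S2810
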