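import Cfsg.Statements.S2819
import Cfsg.Agent.Lib.LocalEven.Norm
import Cfsg.Agent.Lib.Base.Transport
import Cfsg.Prelude.Def_Transfer
import Cfsg.Agent.Lib.Coprime.Basic
-- import your own Cfsg.Agent.* helpers here

set_option autoImplicit false
open Cfsg

namespace Cfsg.Agent.S2819

/-- Let P be a finite p-subgroup of a group G, H a subgroup of N_G(P), and Y a subgroup of H centralizing the derived subgroup P' such that [P, Y] is elementary abelian. Then O^p(⟨Y^H⟩), the subgroup of the normal closure of Y in H generated by its elements of order prime to p, centralizes the Frattini subgroup of P. -/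
theorem result {G : Type*} [Group G] [Finite G] {p : ℕ} [Fact p.Prime] (P : Subgroup G) (hP : IsPGroup p ↥P) (H : Subgroup G) (hH : H ≤ Subgroup.normalizer (P : Set G)) (Y : Subgroup G) (hYH : Y ≤ H) (hYc : Y ≤ Subgroup.centralizer ((⁅P, P⁆ : Subgroup G) : Set G)) (hel : Cfsg.IsElementaryAbelian p ⁅P, Y⁆) (NY : Subgroup G) (hNY : NY = (Subgroup.normalClosure ((Y.subgroupOf H : Subgroup ↥H) : Set ↥H)).map H.subtype) : (Cfsg.pResidual p ↥NY).map NY.subtype ≤ Subgroup.centralizer (((frattini ↥P).map P.subtype : Subgroup G) : Set G) := by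
  subst hNY
  set P' := ⁅P, P⁆ with hP'
  set Φ := (frattini ↥P).map P.subtype with hΦ
  have hP'P : P' ≤ P := Subgroup.commutator_le_self P
  have hP'n : H ≤ Subgroup.normalizer (P' : Set G) := fun g hg =>
    CfsgLib.LocalEven.mem_normalizer_of_conj (by
      rw [hP', Subgroup.map_commutator, CfsgLib.LocalEven.conj_map_eq_of_mem_normalizer (hH hg)])
  have hΦn : H ≤ Subgroup.normalizer (Φ : Set G) := hH.trans
    (CfsgLib.Base.normalizer_le_normalizer_map_subtype P (frattini ↥P))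
  have hP'self : P ≤ Subgroup.normalizer (P' : Set G) := fun g hg =>
    CfsgLib.LocalEven.mem_normalizer_of_conj (by
      rw [hP', Subgroup.map_commutator,
        CfsgLib.LocalEven.conj_map_eq_of_mem_normalizer (Subgroup.le_normalizer hg)])
  -- the elements moving `Φ(P)` only inside `P'`
  let K : Subgroup G :=
    { carrier := {n | n ∈ H ∧ n ∈ Subgroup.centralizer (P' : Set G) ∧
        ∀ z ∈ Φ, n * z * n⁻¹ * z⁻¹ ∈ P'}
      one_mem' := ⟨H.one_mem, Subgroup.one_mem _, fun z _ => by simp⟩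
      mul_mem' := fun {a b} ha hb => ⟨H.mul_mem ha.1 hb.1, Subgroup.mul_mem _ ha.2.1 hb.2.1,
        fun z hz => by
          have h1 := hb.2.2 z hz
          have e : a * b * z * (a * b)⁻¹ * z⁻¹ =
              a * (b * z * b⁻¹ * z⁻¹) * a⁻¹ * (a * z * a⁻¹ * z⁻¹) := by group
          rw [e, ← ha.2.1 _ h1, mul_inv_cancel_right]
          exact P'.mul_mem h1 (ha.2.2 z hz)⟩
      inv_mem' := fun {a} ha => ⟨H.inv_mem ha.1, Subgroup.inv_mem _ ha.2.1, fun z hz => by
          have h1 := P'.inv_mem (ha.2.2 z hz)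
          have e : a⁻¹ * z * a⁻¹⁻¹ * z⁻¹ = a⁻¹ * (a * z * a⁻¹ * z⁻¹)⁻¹ * a := by group
          rw [e, mul_assoc, ha.2.1 _ h1, inv_mul_cancel_left]
          exact h1⟩ }
  have hYK : Y ≤ K := by
    intro y hy
    refine ⟨hYH hy, hYc hy, ?_⟩
    suffices hle : Φ ≤ P' ⊔ (P ⊓ Subgroup.closure {z : G | z ∈ P ∧ y * z * y⁻¹ * z⁻¹ ∈ P'}) by
      intro z hz
      obtain ⟨w, hw, k, hk, rfl⟩ := (CfsgLib.Coprime.mem_sup_iff_of_le_normalizer
        (inf_le_left.trans (hP'self))).1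
        ((hle.trans (sup_comm _ _).le) hz)
      have hw' : y * w * y⁻¹ * w⁻¹ ∈ P' := by
        refine Subgroup.closure_induction (p := fun w _ => y * w * y⁻¹ * w⁻¹ ∈ P' ∧ w ∈ P)
          (fun w hw => ⟨hw.2, hw.1⟩) ⟨by simp, P.one_mem⟩ ?_ ?_ hw.2 |>.1
        · rintro a b _ _ ⟨ha, haP⟩ ⟨hb, hbP⟩
          refine ⟨?_, P.mul_mem haP hbP⟩
          have e : y * (a * b) * y⁻¹ * (a * b)⁻¹ =
              (y * a * y⁻¹ * a⁻¹) * (a * (y * b * y⁻¹ * b⁻¹) * a⁻¹) := by group
          rw [e]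
          exact P'.mul_mem ha
            ((Subgroup.mem_normalizer_iff.1 (hP'self haP) _).1 hb)
        · rintro a _ ⟨ha, haP⟩
          refine ⟨?_, P.inv_mem haP⟩
          have e : y * a⁻¹ * y⁻¹ * a⁻¹⁻¹ = a⁻¹ * (y * a * y⁻¹ * a⁻¹)⁻¹ * a⁻¹⁻¹ := by group
          rw [e]
          exact ((Subgroup.mem_normalizer_iff.1
            (hP'self (P.inv_mem haP)) _).1 (P'.inv_mem ha))
      have hk' : y * k * y⁻¹ = k := by rw [← hYc hy k hk, mul_inv_cancel_right]
      have e : y * (w * k) * y⁻¹ * (w * k)⁻¹ = y * w * y⁻¹ * w⁻¹ := by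
        calc y * (w * k) * y⁻¹ * (w * k)⁻¹ = y * w * y⁻¹ * (y * k * y⁻¹) * k⁻¹ * w⁻¹ := by group
          _ = y * w * y⁻¹ * w⁻¹ := by rw [hk', mul_inv_cancel_right]
      rw [e]
      exact hw'
    refine CfsgLib.LocalEven.frattini_map_le hP le_sup_left fun x hx => ?_
    refine Subgroup.mem_sup_right ⟨P.pow_mem hx p, Subgroup.subset_closure ⟨P.pow_mem hx p, ?_⟩⟩
    set c := y * x * y⁻¹ * x⁻¹
    have hc : c ∈ ⁅P, Y⁆ := CfsgLib.LocalEven.commutator_flip_mem hx hy
    have hcP : c ∈ P := P.mul_mem ((Subgroup.mem_normalizer_iff.1 (hH (hYH hy)) x).1 hx) (P.inv_mem hx)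
    have e : y * x ^ p * y⁻¹ * (x ^ p)⁻¹ = (c * x) ^ p * (x ^ p)⁻¹ := by
      have e1 : c * x = y * x * y⁻¹ := by simp [c]
      rw [e1, conj_pow]
    rw [e]
    have h2 : Abelianization.of ((⟨c, hcP⟩ : P) * ⟨x, hx⟩) ^ p *
        (Abelianization.of (⟨x, hx⟩ : P) ^ p)⁻¹ = 1 := by
      rw [map_mul, mul_pow, ← map_pow, show (⟨c, hcP⟩ : P) ^ p = 1 from
        Subtype.ext (by simpa using hel.2 c hc), map_one, one_mul, mul_inv_cancel]
    rw [← map_pow, ← map_pow, ← map_inv, ← map_mul, ← MonoidHom.mem_ker,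
      Abelianization.ker_of] at h2
    have h3 := Subgroup.mem_map_of_mem P.subtype h2
    rw [commutator_def, Subgroup.map_commutator, ← MonoidHom.range_eq_map,
      Subgroup.range_subtype] at h3
    simpa using h3
  have hKn : H ≤ Subgroup.normalizer (K : Set G) := by
    have key : ∀ g ∈ H, ∀ n ∈ K, g * n * g⁻¹ ∈ K := by
      intro g hg n hn
      refine ⟨H.mul_mem (H.mul_mem hg hn.1) (H.inv_mem hg), ?_, fun z hz => ?_⟩
      · intro w hw
        have hw' : g⁻¹ * w * g ∈ P' := by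
          simpa using (Subgroup.mem_normalizer_iff.1 (hP'n (H.inv_mem hg)) w).1 hw
        calc w * (g * n * g⁻¹) = g * ((g⁻¹ * w * g) * n) * g⁻¹ := by group
          _ = g * (n * (g⁻¹ * w * g)) * g⁻¹ := by rw [hn.2.1 _ hw']
          _ = g * n * g⁻¹ * w := by group
      · have hz' : g⁻¹ * z * g ∈ Φ := by
          simpa using (Subgroup.mem_normalizer_iff.1 (hΦn (H.inv_mem hg)) z).1 hz
        have h1 := (Subgroup.mem_normalizer_iff.1 (hP'n hg) _).1 (hn.2.2 _ hz')
        have e : g * n * g⁻¹ * z * (g * n * g⁻¹)⁻¹ * z⁻¹ =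
            g * (n * (g⁻¹ * z * g) * n⁻¹ * (g⁻¹ * z * g)⁻¹) * g⁻¹ := by group
        rw [e]; exact h1
    intro g hg
    rw [Subgroup.mem_normalizer_iff]
    refine fun n => ⟨fun hn => key g hg n hn, fun hn => ?_⟩
    have := key g⁻¹ (H.inv_mem hg) _ hn
    simpa [mul_assoc] using this
  have hKH : K ≤ H := fun n hn => hn.1
  set NY := (Subgroup.normalClosure ((Y.subgroupOf H : Subgroup ↥H) : Set ↥H)).map H.subtype
  have hNY : NY ≤ K := by
    have h1 : Subgroup.normalClosure ((Y.subgroupOf H : Subgroup ↥H) : Set ↥H) ≤ K.subgroupOf H :=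
      @Subgroup.normalClosure_le_normal _ _ _ _
        ((Subgroup.normal_subgroupOf_iff_le_normalizer hKH).2 hKn) fun y hy => hYK hy
    exact (Subgroup.map_mono h1).trans (Subgroup.map_subgroupOf_eq_of_le hKH).le
  rw [Cfsg.pResidual, MonoidHom.map_closure, Subgroup.closure_le]
  rintro _ ⟨c, hc, rfl⟩
  have hcK : (c : G) ∈ K := hNY c.2
  obtain ⟨k, hk⟩ := CfsgLib.LocalEven.exists_pow_mem_centralizer (A := (Φ : Set G)) (B := P')
    (hP.to_le hP'P) (fun z hz => hcK.2.2 z hz) hcK.2.1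
  obtain ⟨m, hm⟩ := exists_pow_eq_self_of_coprime (x := (c : G)) (n := p ^ k)
    (Nat.Coprime.pow_left k (by rw [Subgroup.orderOf_coe]; exact Nat.Coprime.symm hc))
  show (c : G) ∈ _
  rw [← hm]
  exact Subgroup.pow_mem _ hk m

end Cfsg.Agent.S2819
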