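import Cfsg.Statements.S2823
import Cfsg.Agent.Lib.LocalEven.Norm
import Cfsg.Agent.Lib.LocalEven.PReduced3
import Cfsg.Agent.Lib.Base.Transport
import Cfsg.Agent.Lib.Transfer.NormalPComplement
import Cfsg.Agent.Lib.Coprime.Basic
-- import your own Cfsg.Agent.* helpers here

set_option autoImplicit false
open Cfsg

namespace Cfsg.Agent.S2823

/-- Let H be a finite group, p a prime, T a Sylow p-subgroup and L a subgroup of characteristic p containing T; let Z_L be the subgroup generated by the Ω₁(Z(S)) over the Sylow p-subgroups S of L and O^p(L) the subgroup generated by the elements of L of order prime to p. Then Z_L = Ω₁(Z(L))·[Z_L, O^p(L)] and [Z_L, L] = [Z_L, O^p(L)]. -/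
theorem result {H : Type*} [Group H] [Finite H] {p : ℕ} [Fact p.Prime] (T : Sylow p H) (L : Subgroup H) (hTL : (T : Subgroup H) ≤ L) (hL : Subgroup.centralizer (Cfsg.pCore p ↥L : Set ↥L) ≤ Cfsg.pCore p ↥L) : Cfsg.sylowCenterClosure p L = (Cfsg.omegaOne p (L ⊓ Subgroup.centralizer ((L : Subgroup H) : Set H))) ⊔ ⁅Cfsg.sylowCenterClosure p L, (Cfsg.pResidual p ↥L).map L.subtype⁆ ∧ ⁅Cfsg.sylowCenterClosure p L, L⁆ = ⁅Cfsg.sylowCenterClosure p L, (Cfsg.pResidual p ↥L).map L.subtype⁆ := by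
  set Z := Cfsg.sylowCenterClosure p L with hZdef
  set R := (Cfsg.pResidual p ↥L).map L.subtype with hRdef
  have hRL : R ≤ L := Subgroup.map_subtype_le _
  have hpr := CfsgLib.LocalEven.isPRedIn_sylowCenterClosure (p := p) hL
  have hRn : L ≤ Subgroup.normalizer (R : Set H) := by
    have := CfsgLib.Transfer.pResidual_characteristic (G := ↥L) (p := p)
    exact Subgroup.le_normalizer.trans
      (CfsgLib.Base.normalizer_le_normalizer_map_subtype L (Cfsg.pResidual p ↥L))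
  have hDV : ⁅Z, R⁆ ≤ Z := by
    refine Subgroup.commutator_le.2 fun z hz r hr => ?_
    exact CfsgLib.LocalEven.commElem_mem_right hz (hpr.2.1 (hRL hr))
  have hCZ : Z ⊓ Subgroup.centralizer (L : Set H) ≤
      Cfsg.omegaOne p (L ⊓ Subgroup.centralizer (L : Set H)) := fun z hz =>
    Subgroup.subset_closure ⟨⟨hpr.1 hz.1, hz.2⟩, hpr.2.2.1.2 z hz.1⟩
  have hΩZ : Cfsg.omegaOne p (L ⊓ Subgroup.centralizer (L : Set H)) ≤ Z := by
    refine le_trans ?_ (CfsgLib.LocalEven.omegaCenter_le_sylowCenterClosure T hTL)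
    refine Subgroup.closure_mono ?_
    rintro z ⟨⟨hzL, hzc⟩, hzp⟩
    refine ⟨⟨?_, Subgroup.centralizer_le (SetLike.coe_subset_coe.2 hTL) hzc⟩, hzp⟩
    have hn : ((Subgroup.zpowers z).subgroupOf L).Normal := by
      refine (Subgroup.normal_subgroupOf_iff_le_normalizer (Subgroup.zpowers_le.2 hzL)).2 ?_
      refine le_trans ?_ (Subgroup.centralizer_le_normalizer _)
      rw [Subgroup.le_centralizer_iff, Subgroup.zpowers_le]; exact hzc
    have hzp' : IsPGroup p (Subgroup.zpowers z) := by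
      refine CfsgLib.LocalEven.isPGroup_of_exponent fun a ha => ?_
      obtain ⟨m, rfl⟩ := ha
      rw [← zpow_natCast, ← zpow_mul, mul_comm, zpow_mul, zpow_natCast, hzp, one_zpow]
    exact CfsgLib.LocalEven.pCoreOf_le_parabolic T hTL
      ((CfsgLib.LocalEven.le_pCoreOf (Subgroup.zpowers_le.2 hzL)
        ((Subgroup.normal_subgroupOf_iff_le_normalizer (Subgroup.zpowers_le.2 hzL)).1 hn) hzp')
        (Subgroup.mem_zpowers z))
  have hfirst : Z = Cfsg.omegaOne p (L ⊓ Subgroup.centralizer (L : Set H)) ⊔ ⁅Z, R⁆ := by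
    refine le_antisymm (iSup_le fun S => (Subgroup.closure_le _).2 fun z hz => ?_)
      (sup_le hΩZ hDV)
    have hzZ : z ∈ Z := (le_iSup (fun S : Sylow p L => Cfsg.omegaOne p
      (((S : Subgroup L).map L.subtype) ⊓ Subgroup.centralizer
        (((S : Subgroup L).map L.subtype : Subgroup H) : Set H))) S) (Subgroup.subset_closure hz)
    refine sup_le_sup_right hCZ _ (CfsgLib.LocalEven.mem_sup_of_fixed_sylow (p := p) hpr.2.2.1
      hpr.2.1 hDV S hzZ (fun s hs => ?_) fun g hg => ?_)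
    · rw [hz.1.2 (s : H) ⟨s, hs, rfl⟩, mul_inv_cancel_right]
    · have htop := CfsgLib.Transfer.sup_pResidual_eq_top S
      have : (Cfsg.pResidual p ↥L).Normal := CfsgLib.Transfer.pResidual_normal
      have hg' : (⟨g, hg⟩ : L) ∈ Cfsg.pResidual p ↥L ⊔ (S : Subgroup L) := by
        rw [sup_comm, htop]; trivial
      obtain ⟨r, hr, s, hs, e⟩ := Subgroup.mem_sup_of_normal_left.1 hg'
      have eg : g = (r : H) * s := (congrArg Subtype.val e).symm
      have hsz : (s : H) * z = z * s := hz.1.2 (s : H) ⟨s, hs, rfl⟩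
      have e2 : g * z * g⁻¹ * z⁻¹ = (r : H) * z * (r : H)⁻¹ * z⁻¹ := by
        rw [eg]
        calc (r : H) * s * z * ((r : H) * s)⁻¹ * z⁻¹
            = (r : H) * ((s : H) * z * (s : H)⁻¹) * (r : H)⁻¹ * z⁻¹ := by group
          _ = _ := by rw [hsz, mul_inv_cancel_right]
      rw [e2]
      exact CfsgLib.LocalEven.commutator_flip_mem hzZ ⟨r, hr, rfl⟩
  refine ⟨hfirst, le_antisymm ?_ (Subgroup.commutator_mono le_rfl hRL)⟩
  refine Subgroup.commutator_le.2 fun z hz g hg => ?_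
  have hLn : L ≤ Subgroup.normalizer ((⁅Z, R⁆ : Subgroup H) : Set H) := fun g hg =>
    CfsgLib.LocalEven.mem_normalizer_of_conj (by
      rw [Subgroup.map_commutator, CfsgLib.LocalEven.conj_map_eq_of_mem_normalizer (hpr.2.1 hg),
        CfsgLib.LocalEven.conj_map_eq_of_mem_normalizer (hRn hg)])
  rw [hfirst] at hz
  obtain ⟨d, hd, w, hw, rfl⟩ := (CfsgLib.Coprime.mem_sup_iff_of_le_normalizer
    ((hΩZ.trans hpr.1).trans hLn)).1 hz
  have hdc := ((CfsgLib.LocalEven.omegaOne_le p _) hd).2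
  have hwgL : w * g * w⁻¹ ∈ L :=
    L.mul_mem (L.mul_mem ((hDV.trans hpr.1) hw) hg) (L.inv_mem ((hDV.trans hpr.1) hw))
  show d * w * g * (d * w)⁻¹ * g⁻¹ ∈ _
  have e : d * w * g * (d * w)⁻¹ * g⁻¹ = w * g * w⁻¹ * g⁻¹ := by
    calc d * w * g * (d * w)⁻¹ * g⁻¹ = d * (w * g * w⁻¹) * d⁻¹ * g⁻¹ := by group
      _ = _ := by rw [← hdc _ hwgL, mul_inv_cancel_right]
  rw [e]
  exact CfsgLib.LocalEven.commElem_mem_right hw (hLn hg)

end Cfsg.Agent.S2823
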