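import Cfsg.Statements.S2825
import Cfsg.Agent.Lib.LocalEven.Subnormal
import Cfsg.Agent.Lib.Transfer.NormalPComplement
-- import your own Cfsg.Agent.* helpers here

set_option autoImplicit false
open Cfsg

namespace Cfsg.Agent.S2825

/-- Let L be a subnormal subgroup of the finite group H, p a prime, Y_H and Y_L the largest p-reduced normal subgroups. Then Y_H ∩ L = Y_H ∩ Y_L and this subgroup is a p-reduced normal subgroup of L; C_L(Y_L) = C_L(Y_H) = C_L(Y_H ∩ L); and if O^p(H) ≤ L, then [Y_L, L] = 1 if and only if [Y_H, H] = 1. -/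
theorem result {H : Type*} [Group H] [Finite H] {p : ℕ} [Fact p.Prime] (L : Subgroup H) (hL : L.IsSubnormal) : Cfsg.largestPReduced p H ⊓ L = Cfsg.largestPReduced p H ⊓ (Cfsg.largestPReducedOf p L) ∧ Cfsg.IsPReducedNormal p ((Cfsg.largestPReduced p H ⊓ L).subgroupOf L) ∧ L ⊓ Subgroup.centralizer ((Cfsg.largestPReducedOf p L : Subgroup H) : Set H) = L ⊓ Subgroup.centralizer (Cfsg.largestPReduced p H : Set H) ∧ L ⊓ Subgroup.centralizer (Cfsg.largestPReduced p H : Set H) = L ⊓ Subgroup.centralizer ((Cfsg.largestPReduced p H ⊓ L : Subgroup H) : Set H) ∧ (Cfsg.pResidual p H ≤ L → (⁅(Cfsg.largestPReducedOf p L), L⁆ = ⊥ ↔ ⁅Cfsg.largestPReduced p H, (⊤ : Subgroup H)⁆ = ⊥)) := by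
  obtain ⟨h1, h2, h3⟩ := CfsgLib.LocalEven.subnormal_largest (p := p) hL
  have hle : Cfsg.largestPReduced p H ⊓ L ≤ Cfsg.largestPReducedOf p L := h1.le_largest
  refine ⟨le_antisymm (le_inf inf_le_left hle)
    (inf_le_inf_left _ (CfsgLib.LocalEven.isPRedIn_largest (p := p) L).1),
    (CfsgLib.LocalEven.isPRedIn_iff_subgroupOf inf_le_right).1 h1, h2, h3.symm, fun hres => ?_⟩
  simp only [Subgroup.commutator_eq_bot_iff_le_centralizer]
  refine ⟨fun h => Subgroup.le_centralizer_iff.1 ?_, fun h => Subgroup.le_centralizer_iff.1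
    ((h2.ge.trans' (le_inf le_rfl (le_top.trans (Subgroup.le_centralizer_iff.1 h)))).trans inf_le_right)⟩
  have hT : CfsgLib.LocalEven.IsPRedIn p (Cfsg.largestPReduced p H) ⊤ :=
    CfsgLib.LocalEven.isPReducedNormal_iff.1 (CfsgLib.LocalEven.isPReducedNormal_largestPReduced p H)
  have hLY : L ≤ Subgroup.centralizer (Cfsg.largestPReduced p H : Set H) :=
    (h2.le.trans' (le_inf le_rfl (Subgroup.le_centralizer_iff.1 h))).trans inf_le_right
  refine hT.2.2.2 ⊤ le_rfl Subgroup.le_normalizer fun x _ => ?_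
  obtain ⟨j, m, hm, hord⟩ := Nat.exists_eq_pow_mul_and_not_dvd (orderOf_pos x).ne' p
    (Fact.out : p.Prime).ne_one
  refine ⟨j, hLY (hres (CfsgLib.Transfer.mem_pResidual_of_coprime ?_))⟩
  rw [orderOf_pow' x (pow_ne_zero _ (Fact.out : p.Prime).ne_zero), hord,
    Nat.gcd_eq_right (Dvd.intro m rfl), Nat.mul_div_cancel_left _ (pow_pos (Fact.out : p.Prime).pos j)]
  exact ((Nat.Prime.coprime_iff_not_dvd Fact.out).2 hm).symm

end Cfsg.Agent.S2825
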