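import Cfsg.Statements.S2826
import Cfsg.Agent.Lib.LocalEven.Norm
import Cfsg.Agent.Lib.LocalEven.PReduced3
import Cfsg.Agent.Lib.Transfer.NormalPComplement
import Cfsg.Agent.Lib.Coprime.Basic
-- import your own Cfsg.Agent.* helpers here

set_option autoImplicit false
open Cfsg

namespace Cfsg.Agent.S2826

/-- Let H be a finite group of characteristic p, T a Sylow p-subgroup, and V a normal elementary abelian p-subgroup of H containing Ω₁(Z(T)). Then C_H(Ω₁(Z(T))) = C_H([V, O^p(H)] ∩ Ω₁(Z(T))), O^p(H) being generated by the elements of order prime to p. -/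
theorem result {H : Type*} [Group H] [Finite H] {p : ℕ} [Fact p.Prime] (hH : Subgroup.centralizer (Cfsg.pCore p H : Set H) ≤ Cfsg.pCore p H) (T : Sylow p H) (V : Subgroup H) [V.Normal] (hV : Cfsg.IsElementaryAbelian p V) (hZV : (Cfsg.omegaOne p ((T : Subgroup H) ⊓ Subgroup.centralizer (((T : Subgroup H) : Subgroup H) : Set H))) ≤ V) : Subgroup.centralizer ((Cfsg.omegaOne p ((T : Subgroup H) ⊓ Subgroup.centralizer (((T : Subgroup H) : Subgroup H) : Set H))) : Set H) = Subgroup.centralizer (((⁅V, Cfsg.pResidual p H⁆ ⊓ (Cfsg.omegaOne p ((T : Subgroup H) ⊓ Subgroup.centralizer (((T : Subgroup H) : Subgroup H) : Set H)))) : Subgroup H) : Set H) := by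
  set Z := Cfsg.omegaOne p ((T : Subgroup H) ⊓ Subgroup.centralizer ((T : Subgroup H) : Set H))
  set B := Cfsg.pResidual p H
  have hBn : B.Normal := CfsgLib.Transfer.pResidual_normal
  have hWV : ⁅V, B⁆ ≤ V := Subgroup.commutator_le_left V B
  refine le_antisymm (Subgroup.centralizer_le (SetLike.coe_subset_coe.2 inf_le_right)) ?_
  set Y := Subgroup.centralizer ((⁅V, B⁆ ⊓ Z : Subgroup H) : Set H) with hY
  refine Subgroup.le_centralizer_iff.1 fun a ha => ?_
  have hZc := CfsgLib.LocalEven.omegaOne_le p ((T : Subgroup H) ⊓ Subgroup.centralizer ((T : Subgroup H) : Set H))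
  have hTY : (T : Subgroup H) ≤ Y := fun t ht y hy => ((hZc hy.2).2 t ht).symm
  have hVn : ∀ Y' : Subgroup H, Y' ≤ Subgroup.normalizer (V : Set H) := fun Y' => by
    rw [Subgroup.normalizer_eq_top_iff.2 (inferInstance : V.Normal)]; exact le_top
  have haT : ∀ t ∈ (T : Subgroup H), t * a * t⁻¹ = a := fun t ht => by
    rw [(hZc ha).2 t ht, mul_inv_cancel_right]
  have hmem := CfsgLib.LocalEven.mem_sup_of_fixed_sylow hV (hVn Y) hWV (T.subtype hTY) (hZV ha)
    (fun s hs => haT _ hs) (fun g _ => by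
      have hg : g ∈ B ⊔ (T : Subgroup H) := by
        rw [sup_comm, CfsgLib.Transfer.sup_pResidual_eq_top T]; trivial
      obtain ⟨b, hb, t, ht, rfl⟩ := Subgroup.mem_sup_of_normal_left.1 hg
      rw [show b * t * a * (b * t)⁻¹ * a⁻¹ = b * (t * a * t⁻¹) * b⁻¹ * a⁻¹ by group, haT t ht]
      exact CfsgLib.LocalEven.commutator_comm_mem (hZV ha) hb)
  obtain ⟨c, hc, d, hd, rfl⟩ := (CfsgLib.Coprime.mem_sup_iff_of_le_normalizer
    (show V ⊓ Subgroup.centralizer (Y : Set H) ≤ Subgroup.normalizer ((⁅V, B⁆ : Subgroup H) : Set H) by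
      rw [Subgroup.normalizer_eq_top_iff.2 (Subgroup.commutator_normal V B)]; exact le_top)).1 hmem
  have hdc : d ∈ Subgroup.centralizer ((T : Subgroup H) : Set H) := fun t ht => by
    have h1 := (hZc ha).2 t ht
    have h2 := hc.2 t (hTY ht)
    have h3 : c * (t * d) = c * (d * t) := by rw [← mul_assoc, ← h2, mul_assoc, h1, mul_assoc]
    exact mul_left_cancel h3
  have hdT : d ∈ (T : Subgroup H) := CfsgLib.LocalEven.pCore_le_sylow T
    (CfsgLib.LocalEven.le_pCore (inferInstance : V.Normal)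
      (CfsgLib.LocalEven.isPGroup_of_exponent (CfsgLib.LocalEven.elemAbelian_iff.1 hV).2) (hWV hd))
  have hdZ : d ∈ Z := Subgroup.subset_closure
    ⟨⟨hdT, hdc⟩, (CfsgLib.LocalEven.elemAbelian_iff.1 hV).2 d (hWV hd)⟩
  intro y hy
  rw [← mul_assoc, hc.2 y hy, mul_assoc, ← hy d ⟨hd, hdZ⟩, ← mul_assoc]

end Cfsg.Agent.S2826
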