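import Cfsg.Statements.S2830
import Cfsg.Agent.Lib.LocalEven.PIrred
import Cfsg.Agent.Lib.Transfer.NormalPComplement
import Cfsg.Agent.Lib.Base.Cores
-- import your own Cfsg.Agent.* helpers here

set_option autoImplicit false
open Cfsg

namespace Cfsg.Agent.S2830

/-- Let H act by conjugation on the elementary abelian p-subgroup V of a finite group G (H ≤ N(V)), with H p-irreducible and O^p(H) not centralizing V. Then C_H(V) is p-closed and C_T(V) ≤ O_p(H) for every p-subgroup T of H. If in addition O_p(H) centralizes V, then C_T(V) = T ∩ O_p(H) for every p-subgroup T of H, and V is p-reduced for H: O_p(H/C_H(V)) = 1. -/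
theorem result {G : Type*} [Group G] [Finite G] {p : ℕ} [Fact p.Prime] (V H : Subgroup G) (hV : Cfsg.IsElementaryAbelian p V) (hHV : H ≤ Subgroup.normalizer (V : Set G)) (hH : Cfsg.IsPIrreducible p ↥H) (hnc : ¬ (Cfsg.pResidual p ↥H).map H.subtype ≤ Subgroup.centralizer (V : Set G)) [hn : ((Subgroup.centralizer (V : Set G)).subgroupOf H).Normal] : Cfsg.IsPClosed p ↥(H ⊓ Subgroup.centralizer (V : Set G)) ∧ (∀ T : Subgroup G, T ≤ H → IsPGroup p ↥T → T ⊓ Subgroup.centralizer (V : Set G) ≤ Cfsg.pCoreOf p H) ∧ (Cfsg.pCoreOf p H ≤ Subgroup.centralizer (V : Set G) → (∀ T : Subgroup G, T ≤ H → IsPGroup p ↥T → T ⊓ Subgroup.centralizer (V : Set G) = T ⊓ Cfsg.pCoreOf p H) ∧ Cfsg.pCore p (↥H ⧸ (Subgroup.centralizer (V : Set G)).subgroupOf H) = ⊥) := by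
  obtain ⟨T₀⟩ : Nonempty (Sylow p ↥H) := inferInstance
  set C := (Subgroup.centralizer (V : Set G)).subgroupOf H with hC
  have hCclosed : Cfsg.IsPClosed p C := by
    by_contra hc
    exact hnc ((Subgroup.map_mono (hH.2 C hn hc)).trans
      ((Subgroup.subgroupOf_map_subtype _ _).le.trans inf_le_left))
  have hCT : ∀ x : H, x ∈ C → (∃ k, x ^ p ^ k = 1) → x ∈ Cfsg.pCore p ↥H := by
    intro x hx ⟨k, hk⟩
    have hp' : IsPGroup p (Subgroup.zpowers x) := by
      rintro ⟨_, m, rfl⟩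
      refine ⟨k, Subtype.ext ?_⟩
      simp only [Subgroup.coe_pow, Subgroup.coe_one]
      rw [← zpow_natCast, ← zpow_mul, mul_comm, zpow_mul, zpow_natCast, hk, one_zpow]
    obtain ⟨P, hP⟩ := hp'.exists_le_sylow
    exact (CfsgLib.LocalEven.isPClosed_subgroup_iff P C).1 hCclosed
      ⟨hP (Subgroup.mem_zpowers x), hx⟩
  have hTC : ∀ T : Subgroup G, T ≤ H → IsPGroup p ↥T →
      T ⊓ Subgroup.centralizer (V : Set G) ≤ Cfsg.pCoreOf p H := by
    intro T hT hTp x hx
    obtain ⟨k, hk⟩ := hTp ⟨x, hx.1⟩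
    exact ⟨⟨x, hT hx.1⟩, hCT _ hx.2 ⟨k, Subtype.ext (by simpa using congrArg Subtype.val hk)⟩, rfl⟩
  refine ⟨?_, hTC, fun hO => ⟨fun T hT hTp => le_antisymm (le_inf inf_le_left (hTC T hT hTp))
    (inf_le_inf_left _ hO), ?_⟩⟩
  · intro P
    have hcl : ∀ x : ↥(H ⊓ Subgroup.centralizer (V : Set G)), x ∈ (P : Subgroup _) →
        (⟨x, x.2.1⟩ : H) ∈ Cfsg.pCore p ↥H := fun x hx => by
      obtain ⟨k, hk⟩ := P.isPGroup' ⟨x, hx⟩
      have hk' : (x : G) ^ p ^ k = 1 := by
        simpa using congrArg Subtype.val (congrArg Subtype.val hk)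
      exact hCT ⟨x, x.2.1⟩ x.2.2 ⟨k, Subtype.ext (by simpa using hk')⟩
    have hn' : ((Cfsg.pCoreOf p H).subgroupOf (H ⊓ Subgroup.centralizer (V : Set G))).Normal := by
      refine ⟨fun y hy g => ?_⟩
      exact (Subgroup.mem_normalizer_iff.1
        (CfsgLib.LocalEven.le_normalizer_pCoreOf p H g.2.1) _).1 hy
    have hp' : IsPGroup p ((Cfsg.pCoreOf p H).subgroupOf (H ⊓ Subgroup.centralizer (V : Set G))) :=
      (CfsgLib.LocalEven.isPGroup_pCoreOf H).comap_subtype
    rw [← P.3 hp' fun x hx => ⟨⟨x, x.2.1⟩, hcl x hx, rfl⟩]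
    exact hn'
  · set π := QuotientGroup.mk' C
    set D := (Cfsg.pCore p (↥H ⧸ C)).comap π with hD
    rw [← Subgroup.map_comap_eq_self_of_surjective (QuotientGroup.mk'_surjective C)
      (Cfsg.pCore p (↥H ⧸ C)), ← hD, eq_bot_iff]
    rintro _ ⟨x, hx, rfl⟩
    have hbD : ∀ y ∈ D, (orderOf y).Coprime p → π y = 1 := by
      intro y hy hc
      have := CfsgLib.Transfer.eq_one_of_coprime_orderOf (CfsgLib.Base.isPGroup_pCore p (↥H ⧸ C))
        (x := ⟨π y, Subgroup.mem_comap.1 hy⟩) (by rw [← Subgroup.orderOf_coe]; exact hc.coprime_dvd_left (orderOf_map_dvd π y))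
      exact congrArg Subtype.val this
    by_cases hc : Cfsg.IsPClosed p D
    · obtain ⟨a, ha, b, hb, rfl, ⟨k, hk⟩, hbc⟩ := CfsgLib.Transfer.exists_pPart_mul (p := p) x
      have hbD' : b ∈ D := (Subgroup.zpowers_le.2 hx) hb
      have haD : a ∈ D := (Subgroup.zpowers_le.2 hx) ha
      have hp' : IsPGroup p (Subgroup.zpowers a) := by
        rintro ⟨_, m, rfl⟩
        refine ⟨k, Subtype.ext ?_⟩
        simp only [Subgroup.coe_pow, Subgroup.coe_one]
        rw [← zpow_natCast, ← zpow_mul, mul_comm, zpow_mul, zpow_natCast,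
          orderOf_dvd_iff_pow_eq_one.1 hk, one_zpow]
      obtain ⟨P, hP⟩ := hp'.exists_le_sylow
      have haC : a ∈ C := hO ⟨a, (CfsgLib.LocalEven.isPClosed_subgroup_iff P D).1 hc
        ⟨hP (Subgroup.mem_zpowers a), haD⟩, rfl⟩
      rw [map_mul, hbD b hbD' hbc, mul_one]
      exact (QuotientGroup.eq_one_iff a).2 haC
    · refine absurd ?_ hnc
      rw [Cfsg.pResidual, MonoidHom.map_closure, Subgroup.closure_le]
      rintro _ ⟨y, hy, rfl⟩
      exact (QuotientGroup.eq_one_iff y).1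
        (hbD y (hH.2 D inferInstance hc (CfsgLib.Transfer.mem_pResidual_of_coprime hy)) hy)

end Cfsg.Agent.S2830
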