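import Cfsg.Statements.S2833
import Cfsg.Agent.Lib.LocalEven.CharP
import Cfsg.Agent.Lib.Coprime.Basic
-- import your own Cfsg.Agent.* helpers here

set_option autoImplicit false
open Cfsg

namespace Cfsg.Agent.S2833

/-- Let V be a subgroup of a finite group G normalized by the subgroup L, let X ≤ L and g ∈ L with [V, X, X] = 1 and L generated by X and gXg⁻¹. Put W = [V, L]. Then W = [V, X]·[V, gXg⁻¹], C_W(X) = [V, X], and C_W(L) = [V, X] ∩ [V, gXg⁻¹]. -/
theorem result {G : Type*} [Group G] [Finite G] (V L : Subgroup G) (hLV : L ≤ Subgroup.normalizer (V : Set G)) (X : Subgroup G) (hX : X ≤ L) (g : G) (hg : g ∈ L) (hq : ⁅⁅V, X⁆, X⁆ = ⊥) (hgen : X ⊔ X.map (MulAut.conj g).toMonoidHom = L) (W : Subgroup G) (hW : W = ⁅V, L⁆) : ⁅V, X⁆ ⊔ ⁅V, X.map (MulAut.conj g).toMonoidHom⁆ = W ∧ W ⊓ Subgroup.centralizer (X : Set G) = ⁅V, X⁆ ∧ W ⊓ Subgroup.centralizer (L : Set G) = ⁅V, X⁆ ⊓ ⁅V, X.map (MulAut.conj g).toMonoidHom⁆ := by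
  subst hW
  set X' := X.map (MulAut.conj g).toMonoidHom with hX'
  set A := ⁅V, X⁆
  set B := ⁅V, X'⁆
  have hX'L : X' ≤ L := by rw [← hgen]; exact le_sup_right
  have hAV : A ≤ V := Subgroup.commutator_le.2 fun v hv x hx =>
    CfsgLib.LocalEven.commElem_mem_right hv (hLV (hX hx))
  have hBV : B ≤ V := Subgroup.commutator_le.2 fun v hv x hx =>
    CfsgLib.LocalEven.commElem_mem_right hv (hLV (hX'L hx))
  have hAg : A.map (MulAut.conj g).toMonoidHom = B := by
    rw [Subgroup.map_commutator, CfsgLib.LocalEven.conj_map_eq_of_mem_normalizer (hLV hg)]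
  have hAX : A ≤ Subgroup.centralizer (X : Set G) :=
    Subgroup.commutator_eq_bot_iff_le_centralizer.1 hq
  have hBX : B ≤ Subgroup.centralizer (X' : Set G) := by
    rw [← hAg]
    rintro _ ⟨a, ha, rfl⟩ _ ⟨x, hx, rfl⟩
    rw [← map_mul, ← map_mul, hAX ha x hx]
  have hA : V ≤ Subgroup.normalizer (A : Set G) := Subgroup.normalizer_commutator_ge_left V X
  have hB : V ≤ Subgroup.normalizer (B : Set G) := Subgroup.normalizer_commutator_ge_left V X'
  have hWAB : ⁅V, L⁆ = A ⊔ B := by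
    refine le_antisymm ?_ (sup_le (Subgroup.commutator_mono le_rfl hX)
      (Subgroup.commutator_mono le_rfl hX'L))
    let K : Subgroup G :=
      { carrier := {l | l ∈ L ∧ ∀ v ∈ V, v * l * v⁻¹ * l⁻¹ ∈ A ⊔ B}
        one_mem' := ⟨L.one_mem, fun v _ => by simp⟩
        mul_mem' := fun {a b} ha hb => ⟨L.mul_mem ha.1 hb.1, fun v hv => by
          have hv' : a⁻¹ * v * a ∈ V := by
            simpa using (Subgroup.mem_normalizer_iff.1 (hLV (L.inv_mem ha.1)) v).1 hv
          have e : v * (a * b) * v⁻¹ * (a * b)⁻¹ =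
              (v * a * v⁻¹ * a⁻¹) * (a * (v * b * v⁻¹ * b⁻¹) * a⁻¹) := by group
          rw [e]
          refine Subgroup.mul_mem _ (ha.2 v hv) ?_
          have h1 := hb.2 v hv
          have hh : v * b * v⁻¹ * b⁻¹ ∈ V :=
            CfsgLib.LocalEven.commElem_mem_right hv (hLV hb.1)
          have h2 := (A ⊔ B).inv_mem (ha.2 _ hh)
          have h3 := Subgroup.mul_mem _ h2 h1
          have e2 : a * (v * b * v⁻¹ * b⁻¹) * a⁻¹ =
              ((v * b * v⁻¹ * b⁻¹) * a * (v * b * v⁻¹ * b⁻¹)⁻¹ * a⁻¹)⁻¹ *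
                (v * b * v⁻¹ * b⁻¹) := by group
          rw [e2]; exact h3⟩
        inv_mem' := fun {a} ha => ⟨L.inv_mem ha.1, fun v hv => by
          have hv' : a * v * a⁻¹ ∈ V := (Subgroup.mem_normalizer_iff.1 (hLV ha.1) v).1 hv
          have h1 := ha.2 v hv
          have hh : v * a * v⁻¹ * a⁻¹ ∈ V := CfsgLib.LocalEven.commElem_mem_right hv (hLV ha.1)
          have hh' : a⁻¹ * (v * a * v⁻¹ * a⁻¹) * a ∈ V := by
            simpa using (Subgroup.mem_normalizer_iff.1 (hLV (L.inv_mem ha.1)) _).1 hh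
          have h2 := ha.2 _ hh'
          have h3 := (A ⊔ B).inv_mem (Subgroup.mul_mem _ ((A ⊔ B).inv_mem h1) ((A ⊔ B).one_mem))
          have e : v * a⁻¹ * v⁻¹ * a⁻¹⁻¹ = (a⁻¹ * (v * a * v⁻¹ * a⁻¹) * a)⁻¹ := by group
          rw [e]
          have e2 : a⁻¹ * (v * a * v⁻¹ * a⁻¹) * a = ((a⁻¹ * (v * a * v⁻¹ * a⁻¹) * a) * a *
              (a⁻¹ * (v * a * v⁻¹ * a⁻¹) * a)⁻¹ * a⁻¹) * (v * a * v⁻¹ * a⁻¹) := by group
          rw [e2]
          exact (A ⊔ B).inv_mem (Subgroup.mul_mem _ h2 h1)⟩ }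
    have hK : L ≤ K := by
      conv_lhs => rw [← hgen]
      exact sup_le
        (fun x hx => ⟨hX hx, fun v hv =>
          Subgroup.mem_sup_left (Subgroup.commutator_mem_commutator hv hx)⟩)
        (fun x hx => ⟨hX'L hx, fun v hv =>
          Subgroup.mem_sup_right (Subgroup.commutator_mem_commutator hv hx)⟩)
    exact Subgroup.commutator_le.2 fun v hv l hl => (hK hl).2 v hv
  have hBint : B ⊓ Subgroup.centralizer (X : Set G) ≤ A ⊓ Subgroup.centralizer (L : Set G) := by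
    intro b hb
    have hbL : b ∈ Subgroup.centralizer (L : Set G) := by
      have : L ≤ Subgroup.centralizer ({b} : Set G) := by
        rw [← hgen]
        exact sup_le (fun x hx => Subgroup.mem_centralizer_singleton_iff.2 (hb.2 x hx))
          (fun x hx => Subgroup.mem_centralizer_singleton_iff.2 (hBX hb.1 x hx))
      exact fun l hl => Subgroup.mem_centralizer_singleton_iff.1 (this hl)
    refine ⟨?_, hbL⟩
    obtain ⟨a, ha, he⟩ := hAg.ge hb.1
    have : a = b := by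
      have h := hbL g hg
      rw [← he] at h
      simp only [MulEquiv.coe_toMonoidHom, MulAut.conj_apply] at h he
      have h' : g * a * g⁻¹ = a := mul_left_cancel (a := g) (by
        calc g * (g * a * g⁻¹) = g * a * g⁻¹ * g := h
          _ = g * a := by group)
      rw [← he, h']
    exact this ▸ ha
  have hWX : ⁅V, L⁆ ⊓ Subgroup.centralizer (X : Set G) = A := by
    refine le_antisymm ?_ (le_inf (hWAB ▸ le_sup_left) hAX)
    rintro w ⟨hw, hwc⟩
    rw [hWAB, sup_comm] at hw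
    obtain ⟨b, hb, a, ha, rfl⟩ := (CfsgLib.Coprime.mem_sup_iff_of_le_normalizer (hBV.trans hA)).1 hw
    have hbc : b ∈ Subgroup.centralizer (X : Set G) :=
      ((Subgroup.centralizer (X : Set G)).mul_mem_cancel_right (hAX ha)).1 hwc
    exact A.mul_mem (hBint ⟨hb, hbc⟩).1 ha
  refine ⟨hWAB.symm, hWX, le_antisymm ?_ ?_⟩
  · rintro w ⟨hw, hwc⟩
    have hwA : w ∈ A := hWX.le ⟨hw, Subgroup.centralizer_le (SetLike.coe_subset_coe.2 hX) hwc⟩
    refine ⟨hwA, hAg.le ⟨w, hwA, ?_⟩⟩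
    show g * w * g⁻¹ = w
    rw [hwc g hg, mul_inv_cancel_right]
  · rintro w ⟨h1, h2⟩
    refine ⟨hWAB.ge (Subgroup.mem_sup_left h1), ?_⟩
    have : L ≤ Subgroup.centralizer ({w} : Set G) := by
      rw [← hgen]
      exact sup_le (fun x hx => Subgroup.mem_centralizer_singleton_iff.2 (hAX h1 x hx))
        (fun x hx => Subgroup.mem_centralizer_singleton_iff.2 (hBX h2 x hx))
    exact fun l hl => Subgroup.mem_centralizer_singleton_iff.1 (this hl)

end Cfsg.Agent.S2833
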