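import Cfsg.Statements.S2835
import Cfsg.Agent.Lib.LocalEven.CharP
import Cfsg.Agent.Lib.Fusion.SylowAux
-- import your own Cfsg.Agent.* helpers here

set_option autoImplicit false
open Cfsg

namespace Cfsg.Agent.S2835

/-- Let L be a finite group, L₀ a maximal subgroup, T a Sylow p-subgroup of L₀ and Y ≤ T, and suppose L is Y-minimal (generated by the conjugates of Y, with Y in exactly one maximal subgroup, necessarily L₀). Then N_L(T) ≤ L₀, O_p(L) ≤ L₀ and T is a Sylow p-subgroup of L; N_L(L₀) = L₀; L = ⟨Y, gYg⁻¹⟩ for each g ∈ L outside L₀; and if Y is abelian then Y ∩ gYg⁻¹ = C_Y(L) for each such g. -/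
theorem result {L : Type*} [Group L] [Finite L] {p : ℕ} [Fact p.Prime] (L₀ : Subgroup L) (hL₀ : IsCoatom L₀) (T : Sylow p ↥L₀) (Y : Subgroup L) (hYT : Y ≤ (T : Subgroup ↥L₀).map L₀.subtype) (hmin : Cfsg.IsMinimalOver Y) : Subgroup.normalizer (((T : Subgroup ↥L₀).map L₀.subtype : Subgroup L) : Set L) ≤ L₀ ∧ Cfsg.pCore p L ≤ L₀ ∧ (∃ P : Sylow p L, (P : Subgroup L) = (T : Subgroup ↥L₀).map L₀.subtype) ∧ Subgroup.normalizer (L₀ : Set L) = L₀ ∧ (∀ g : L, g ∉ L₀ → Y ⊔ Y.map (MulAut.conj g).toMonoidHom = ⊤) ∧ (IsMulCommutative ↥Y → ∀ g : L, g ∉ L₀ → Y ⊓ Y.map (MulAut.conj g).toMonoidHom = Y ⊓ Subgroup.center L) := by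
  obtain ⟨hgen, M, ⟨hM, hYM⟩, huniq⟩ := hmin
  set T₀ := (T : Subgroup ↥L₀).map L₀.subtype with hT₀
  have hT₀L : T₀ ≤ L₀ := Subgroup.map_subtype_le _
  have hYL : Y ≤ L₀ := hYT.trans hT₀L
  have hLM : L₀ = M := huniq L₀ ⟨hL₀, hYL⟩
  subst hLM
  have hprop : ∀ Z : Subgroup L, Y ≤ Z → Z ≠ ⊤ → Z ≤ L₀ := by
    intro Z hYZ hZ
    obtain ⟨W, hW, hZW⟩ := (eq_top_or_exists_le_coatom Z).resolve_left hZ
    exact (huniq W ⟨hW, hYZ.trans hZW⟩) ▸ hZW
  have hnn : ∀ Z : Subgroup L, Z.Normal → Y ≤ Z → Z = ⊤ := fun Z hZ hYZ =>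
    top_le_iff.1 (hgen.ge.trans (@Subgroup.normalClosure_le_normal _ _ _ _ hZ hYZ))
  have hT₀p : IsPGroup p T₀ := T.isPGroup'.map _
  have hNT : Subgroup.normalizer (T₀ : Set L) ≤ L₀ :=
    hprop _ (hYT.trans Subgroup.le_normalizer) fun e => hL₀.1 (top_le_iff.1
      ((hnn T₀ (Subgroup.normalizer_eq_top_iff.1 e) hYT).ge.trans hT₀L))
  have hNL : Subgroup.normalizer (L₀ : Set L) = L₀ :=
    le_antisymm (hprop _ (hYL.trans Subgroup.le_normalizer) fun e =>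
      hL₀.1 (hnn L₀ (Subgroup.normalizer_eq_top_iff.1 e) hYL)) Subgroup.le_normalizer
  have hO : Cfsg.pCore p L ≤ L₀ := by
    by_contra hcon
    have htop : Y ⊔ Cfsg.pCore p L = ⊤ := by
      by_contra hne
      exact hcon (le_sup_right.trans (hprop _ le_sup_left hne))
    have hp' : IsPGroup p ↥(⊤ : Subgroup L) := htop ▸
      (hT₀p.to_le hYT).to_sup_of_normal_right (CfsgLib.LocalEven.isPGroup_pCore)
    have := (hp'.of_equiv Subgroup.topEquiv).isNilpotent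
    exact hL₀.1 (hnn L₀ (Subgroup.NormalizerCondition.normal_of_coatom L₀
      Group.normalizerCondition_of_isNilpotent hL₀) hYL)
  have hgen2 : ∀ g : L, g ∉ L₀ → Y ⊔ Y.map (MulAut.conj g).toMonoidHom = ⊤ := by
    intro g hg
    by_contra hne
    have h1 := hprop _ le_sup_left hne
    apply hg
    have h2 : L₀.map (MulAut.conj g).toMonoidHom = L₀ := by
      have hc : IsCoatom (L₀.map (MulAut.conj g⁻¹).toMonoidHom) :=
        (OrderIso.isCoatom_iff (MulEquiv.mapSubgroup (MulAut.conj g⁻¹)) L₀).2 hL₀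
      have hYc : Y ≤ L₀.map (MulAut.conj g⁻¹).toMonoidHom := fun y hy =>
        ⟨g * y * g⁻¹, h1 (Subgroup.mem_sup_right ⟨y, hy, rfl⟩), by simp [mul_assoc]⟩
      have := huniq _ ⟨hc, hYc⟩
      conv_lhs => rw [← this]
      rw [Subgroup.map_map]
      convert Subgroup.map_id L₀
      ext x; simp [mul_assoc]
    exact hNL.le (CfsgLib.LocalEven.mem_normalizer_of_conj h2)
  refine ⟨hNT, hO, ?_, hNL, hgen2, fun hab g hg => le_antisymm ?_ ?_⟩
  · obtain ⟨P, hP⟩ := hT₀p.exists_le_sylow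
    refine ⟨P, ?_⟩
    by_contra hne
    obtain ⟨x, hx, hxT⟩ := SetLike.exists_of_lt
      (CfsgLib.Fusion.lt_inf_normalizer P.isPGroup' (lt_of_le_of_ne hP (Ne.symm hne)))
    have hmax : ((P : Subgroup L).subgroupOf L₀) = (T : Subgroup L₀) :=
      T.3 P.isPGroup'.comap_subtype fun s hs => hP ⟨s, hs, rfl⟩
    exact hxT ⟨⟨x, hNT hx.2⟩, hmax.le hx.1, rfl⟩
  · rintro y ⟨hy, hy'⟩
    refine ⟨hy, Subgroup.mem_center_iff.2 fun l => ?_⟩
    have hle : (⊤ : Subgroup L) ≤ Subgroup.centralizer ({y} : Set L) := by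
      rw [← hgen2 g hg]
      refine sup_le (fun z hz => Subgroup.mem_centralizer_singleton_iff.2 ?_) ?_
      · exact congrArg Subtype.val (mul_comm' (⟨z, hz⟩ : Y) ⟨y, hy⟩)
      · rintro _ ⟨z, hz, rfl⟩
        obtain ⟨w, hw, rfl⟩ := hy'
        rw [Subgroup.mem_centralizer_singleton_iff, ← map_mul, ← map_mul]
        exact congrArg _ (congrArg Subtype.val (mul_comm' (⟨z, hz⟩ : Y) ⟨w, hw⟩))
    exact Subgroup.mem_centralizer_singleton_iff.1 (hle (Subgroup.mem_top l))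
  · rintro y ⟨hy, hyc⟩
    refine ⟨hy, y, hy, ?_⟩
    show g * y * g⁻¹ = y
    rw [Subgroup.mem_center_iff.1 hyc g, mul_inv_cancel_right]

end Cfsg.Agent.S2835
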