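import Cfsg.Statements.S2836
import Cfsg.Agent.Lib.LocalEven.FrakExist
import Cfsg.Agent.Lib.LocalEven.PIrred
import Cfsg.Agent.Lib.Fusion.SylowAux
import Cfsg.Agent.Lib.Base.Cores
-- import your own Cfsg.Agent.* helpers here

set_option autoImplicit false
open Cfsg

namespace Cfsg.Agent.S2836

/-- Let L be a finite group, L₀ a maximal subgroup, T a Sylow p-subgroup of L₀, Y ≤ T, and suppose L is Y-minimal. Let D be the intersection of the conjugates of L₀ (the core of L₀). Then D contains O_p(L) and D/O_p(L) is the Frattini subgroup of L/O_p(L), so D is p-closed; and every normal subgroup N of L contained in L₀ is p-closed with N/O_p(N) a nilpotent group of order prime to p. -/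
theorem result {L : Type*} [Group L] [Finite L] {p : ℕ} [Fact p.Prime] (L₀ : Subgroup L) (hL₀ : IsCoatom L₀) (T : Sylow p ↥L₀) (Y : Subgroup L) (hYT : Y ≤ (T : Subgroup ↥L₀).map L₀.subtype) (hmin : Cfsg.IsMinimalOver Y) : (Cfsg.pCore p L ≤ L₀.normalCore ∧ (L₀.normalCore).map (QuotientGroup.mk' (Cfsg.pCore p L)) = frattini (L ⧸ Cfsg.pCore p L) ∧ Cfsg.IsPClosed p ↥(L₀.normalCore)) ∧ ∀ (N : Subgroup L) [N.Normal], N ≤ L₀ → Cfsg.IsPClosed p ↥N ∧ Group.IsNilpotent (↥N ⧸ Cfsg.pCore p ↥N) ∧ (Nat.card (↥N ⧸ Cfsg.pCore p ↥N)).Coprime p := by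
  set T0 := (T : Subgroup L₀).map L₀.subtype with hT0
  have hT0L : T0 ≤ L₀ := Subgroup.map_subtype_le _
  obtain ⟨hclos, M, ⟨hM, hYM⟩, huniq⟩ := hmin
  have huni : ∀ Z : Subgroup L, Y ≤ Z → Z ≠ ⊤ → Z ≤ L₀ := by
    intro Z hYZ hZ
    obtain ⟨M', hM', hZM'⟩ := (eq_top_or_exists_le_coatom Z).resolve_left hZ
    rw [huniq L₀ ⟨hL₀, hYT.trans hT0L⟩, ← huniq M' ⟨hM', hYZ.trans hZM'⟩]
    exact hZM'
  have hTn : Subgroup.normalizer (T0 : Set L) ≤ L₀ := by
    refine huni _ (hYT.trans Subgroup.le_normalizer) fun e => hL₀.1 ?_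
    have hn : T0.Normal := Subgroup.normalizer_eq_top_iff.1 e
    have h1 : (⊤ : Subgroup L) ≤ T0 := hclos ▸ Subgroup.normalClosure_le_normal hYT
    exact top_le_iff.1 (h1.trans hT0L)
  obtain ⟨P, hP⟩ := (T.isPGroup'.map L₀.subtype).exists_le_sylow
  have hPT : (P : Subgroup L) = T0 := by
    by_contra hne
    have hlt : T0 < (P : Subgroup L) := lt_of_le_of_ne hP (Ne.symm hne)
    obtain ⟨x, hx, hxT⟩ := SetLike.exists_of_lt (CfsgLib.Fusion.lt_inf_normalizer P.isPGroup' hlt)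
    have hxL : x ∈ L₀ := hTn hx.2
    have h3 : (P : Subgroup L).subgroupOf L₀ = T := T.3
      (P.isPGroup'.comap_of_injective L₀.subtype L₀.subtype_injective) fun t ht => hP ⟨t, ht, rfl⟩
    exact hxT ⟨⟨x, hxL⟩, h3.le hx.1, rfl⟩
  have hOL : Cfsg.pCore p L ≤ L₀ :=
    (CfsgLib.LocalEven.pCore_le_sylow P).trans (hPT.le.trans hT0L)
  have hmain : ∀ (N : Subgroup L) [N.Normal], N ≤ L₀ → (P : Subgroup L) ⊓ N ≤ Cfsg.pCore p L ∧
      N.map (QuotientGroup.mk' (Cfsg.pCore p L)) ≤ frattini (L ⧸ Cfsg.pCore p L) := by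
    intro N hN hNL
    have hPn : ∀ Z : Subgroup L, (P : Subgroup L) ≤ Z → Z ⊔ N = ⊤ → Z = ⊤ := by
      intro Z hPZ hZN
      by_contra hZ
      have := huni Z (hYT.trans (hPT.ge.trans hPZ)) hZ
      exact hL₀.1 (top_le_iff.1 (hZN.ge.trans (sup_le this hNL)))
    have hR : (P : Subgroup L) ⊓ N ≤ Cfsg.pCore p L := by
      have hnN : ∀ A : Subgroup L, A ≤ Subgroup.normalizer (N : Set L) := fun A => by
        rw [Subgroup.normalizer_eq_top_iff.2 hN]; exact le_top
      have htop : Subgroup.normalizer (((P : Subgroup L) ⊓ N : Subgroup L) : Set L) = ⊤ := by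
        refine hPn _ ((le_inf Subgroup.le_normalizer (hnN _)).trans
          Subgroup.inf_normalizer_le_normalizer_inf) (eq_top_iff.2 fun g _ => ?_)
        obtain ⟨a, ha, c, hc, rfl⟩ := CfsgLib.LocalEven.exists_frattini_factor P
          (le_top : _ ≤ ⊤) (le_top : N ≤ ⊤) (hnN _) (Subgroup.mem_top g)
        exact Subgroup.mul_mem_sup ha.2 hc
      exact CfsgLib.LocalEven.le_pCore (Subgroup.normalizer_eq_top_iff.1 htop)
        (P.isPGroup'.to_le inf_le_left)
    exact ⟨hR, CfsgLib.LocalEven.map_le_frattini_of_minimal P hR hPn⟩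
  have hclosed : ∀ (N : Subgroup L) [N.Normal], N ≤ L₀ → Cfsg.IsPClosed p N ∧
      ¬ p ∣ (Cfsg.pCore p N).index := by
    intro N hN hNL
    obtain ⟨Q, hQ⟩ := CfsgLib.LocalEven.exists_sylow_inf_eq P (le_top : _ ≤ ⊤) (le_top : N ≤ ⊤)
      (by rw [Subgroup.normalizer_eq_top_iff.2 hN])
    have h1 : (Q : Subgroup N) ≤ Cfsg.pCore p N := fun x hx => by
      have h2 : (x : L) ∈ (Cfsg.pCore p N).map N.subtype := by
        rw [CfsgLib.Base.map_pCore_eq_inf N]
        have := hQ.le ⟨x, hx, rfl⟩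
        exact ⟨(hmain N hNL).1 this, x.2⟩
      obtain ⟨y, hy, hxy⟩ := h2
      exact Subtype.ext hxy ▸ hy
    exact ⟨(CfsgLib.LocalEven.isPClosed_iff_sylow_le Q).2 h1,
      fun hd => Q.not_dvd_index (hd.trans (Subgroup.index_dvd_of_le h1))⟩
  have hcore := Subgroup.normalCore_le L₀
  refine ⟨⟨Subgroup.normal_le_normalCore.2 hOL, le_antisymm (hmain L₀.normalCore hcore).2 ?_,
    (hclosed _ hcore).1⟩, fun N hN hNL => ⟨(hclosed N hNL).1, ?_, ?_⟩⟩
  · rw [← Subgroup.map_comap_eq_self_of_surjective (QuotientGroup.mk'_surjective _)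
      (frattini (L ⧸ Cfsg.pCore p L))]
    refine Subgroup.map_mono (Subgroup.normal_le_normalCore.2 ?_)
    have hco : IsCoatom (L₀.map (QuotientGroup.mk' (Cfsg.pCore p L))) := by
      have hker : L₀ ⊔ (QuotientGroup.mk' (Cfsg.pCore p L)).ker = L₀ := by
        rw [QuotientGroup.ker_mk', sup_eq_left.2 hOL]
      refine ⟨fun e => hL₀.1 ?_, fun Z hZ => ?_⟩
      · rw [← hker, ← Subgroup.comap_map_eq, e, Subgroup.comap_top]
      · have hlt : L₀ < Z.comap (QuotientGroup.mk' (Cfsg.pCore p L)) := by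
          refine lt_of_le_of_ne (Subgroup.map_le_iff_le_comap.1 hZ.le) fun e => hZ.ne ?_
          rw [e, Subgroup.map_comap_eq_self_of_surjective (QuotientGroup.mk'_surjective _)]
        rw [← Subgroup.map_comap_eq_self_of_surjective (QuotientGroup.mk'_surjective _) Z, hL₀.2 _ hlt,
          Subgroup.map_top_of_surjective _ (QuotientGroup.mk'_surjective _)]
    refine (Subgroup.comap_mono (frattini_le_coatom hco)).trans ?_
    rw [Subgroup.comap_map_eq, QuotientGroup.ker_mk', sup_eq_left.2 hOL]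
  · have hnil : Group.IsNilpotent (frattini (L ⧸ Cfsg.pCore p L)) := frattini_nilpotent
    let f : N →* frattini (L ⧸ Cfsg.pCore p L) :=
      ((QuotientGroup.mk' (Cfsg.pCore p L)).comp N.subtype).codRestrict _
        fun x => (hmain N hNL).2 ⟨x, x.2, rfl⟩
    have hker : f.ker = Cfsg.pCore p N := by
      ext x
      rw [MonoidHom.mem_ker]
      constructor
      · intro h
        have h1 : (x : L) ∈ Cfsg.pCore p L := (QuotientGroup.eq_one_iff _).1 (congrArg Subtype.val h)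
        have h2 : (x : L) ∈ (Cfsg.pCore p N).map N.subtype := by
          rw [CfsgLib.Base.map_pCore_eq_inf N]; exact ⟨h1, x.2⟩
        obtain ⟨y, hy, hxy⟩ := h2
        exact Subtype.ext hxy ▸ hy
      · intro h
        have h1 : (x : L) ∈ Cfsg.pCore p L ⊓ N :=
          (CfsgLib.Base.map_pCore_eq_inf N).le ⟨x, h, rfl⟩
        exact Subtype.ext ((QuotientGroup.eq_one_iff _).2 h1.1)
    have : Group.IsNilpotent (N ⧸ f.ker) :=
      Group.nilpotent_of_mulEquiv (QuotientGroup.quotientKerEquivRange f).symm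
    exact Group.nilpotent_of_mulEquiv (QuotientGroup.quotientMulEquivOfEq hker)
  · rw [← Subgroup.index_eq_card, Nat.coprime_comm, (Fact.out : p.Prime).coprime_iff_not_dvd]
    exact (hclosed N hNL).2

end Cfsg.Agent.S2836
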