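import Cfsg.Statements.S2839
import Cfsg.Agent.Lib.LocalEven.WeakClosed
-- import your own Cfsg.Agent.* helpers here

set_option autoImplicit false
open Cfsg

namespace Cfsg.Agent.S2839

/-- Let Q be a nontrivial p-subgroup of the finite group H that is a weakly closed subgroup, K a subgroup containing Q and N a normal subgroup of H. Then Q is a weakly closed subgroup of K; every H-conjugate of Q contained in K is a K-conjugate of Q; N_K(Q) contains a Sylow p-subgroup of K; N = N_N(Q)·O^p(N); and QN/N is a weakly closed subgroup of H/N. -/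
theorem result {H : Type*} [Group H] [Finite H] {p : ℕ} [Fact p.Prime] (Q : Subgroup H) (hQp : IsPGroup p ↥Q) (hQ1 : Q ≠ ⊥) (hwc : Cfsg.IsWeaklyClosedSubgroup p Q) (K : Subgroup H) (hQK : Q ≤ K) (N' : Subgroup H) [N'.Normal] : Cfsg.IsWeaklyClosedSubgroup p (Q.subgroupOf K) ∧ (∀ g : H, ((Q : Subgroup H).map (MulAut.conj (g : H)).toMonoidHom) ≤ K → ∃ k ∈ K, ((Q : Subgroup H).map (MulAut.conj (g : H)).toMonoidHom) = ((Q : Subgroup H).map (MulAut.conj (k : H)).toMonoidHom)) ∧ Cfsg.IsParabolic p ((Subgroup.normalizer ((Q : Subgroup H) : Set H)).subgroupOf K) ∧ (N' ⊓ Subgroup.normalizer ((Q : Subgroup H) : Set H)) ⊔ (Cfsg.pResidual p ↥N').map N'.subtype = N' ∧ Cfsg.IsWeaklyClosedSubgroup p (Q.map (QuotientGroup.mk' N')) := by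
  obtain ⟨T, hQT⟩ := hQp.exists_le_sylow
  have hTN : (T : Subgroup H) ≤ Subgroup.normalizer (Q : Set H) :=
    CfsgLib.LocalEven.wc_le_normalizer hwc T.isPGroup' hQT
  refine ⟨CfsgLib.LocalEven.wc_subgroupOf hwc hQK,
    fun g hg => CfsgLib.LocalEven.wc_exists_conj hwc hQK hg, ?_, ?_, ?_⟩
  · obtain ⟨P, hP⟩ := (hQp.comap_subtype (K := K)).exists_le_sylow
    refine ⟨P, fun x hx => ?_⟩
    have h1 : Q ≤ (P : Subgroup K).map K.subtype := fun q hq => ⟨⟨q, hQK hq⟩, hP hq, rfl⟩
    exact CfsgLib.LocalEven.wc_le_normalizer hwc (P.isPGroup'.map _) h1 ⟨x, hx, rfl⟩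
  · obtain ⟨Q', hQ'⟩ := CfsgLib.LocalEven.exists_sylow_inf_eq T (N := ⊤) (C := N') le_top le_top
      (by rw [Subgroup.normalizer_eq_top_iff.2 inferInstance])
    have h := congrArg (Subgroup.map N'.subtype) (CfsgLib.Transfer.sup_pResidual_eq_top Q')
    rw [Subgroup.map_sup, hQ', ← MonoidHom.range_eq_map, Subgroup.range_subtype] at h
    exact le_antisymm (sup_le inf_le_left (Subgroup.map_subtype_le _))
      (h.ge.trans (sup_le_sup_right (le_inf inf_le_right (inf_le_left.trans hTN)) _))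
  · refine ⟨T.mapSurjective (QuotientGroup.mk'_surjective N'), ?_, fun q hq => ?_⟩
    · rw [Sylow.coe_mapSurjective]; exact Subgroup.map_mono hQT
    obtain ⟨g, rfl⟩ := QuotientGroup.mk'_surjective N' q
    rw [Sylow.coe_mapSurjective] at hq
    have hg : Q.map (MulAut.conj g).toMonoidHom ≤ (T : Subgroup H) ⊔ N' := by
      rintro _ ⟨x, hx, rfl⟩
      have h1 : QuotientGroup.mk' N' (g * x * g⁻¹) ∈
          (T : Subgroup H).map (QuotientGroup.mk' N') := hq ⟨_, ⟨x, hx, rfl⟩, by simp⟩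
      have h2 := Subgroup.mem_comap.2 h1
      rwa [Subgroup.comap_map_eq, QuotientGroup.ker_mk'] at h2
    obtain ⟨k, hk, e⟩ := CfsgLib.LocalEven.wc_exists_conj hwc
      (hQT.trans (le_sup_left : (T : Subgroup H) ≤ (T : Subgroup H) ⊔ N')) hg
    obtain ⟨n, hn, t, ht, rfl⟩ := Subgroup.mem_sup_of_normal_left.1
      ((sup_comm (T : Subgroup H) N').le hk)
    rw [← CfsgLib.LocalEven.conj_map_conj_map,
      CfsgLib.LocalEven.conj_map_eq_of_mem_normalizer (hTN ht)] at e
    have hcomp : ∀ z : H, (Q.map (QuotientGroup.mk' N')).map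
        (MulAut.conj (QuotientGroup.mk' N' z)).toMonoidHom =
        (Q.map (MulAut.conj z).toMonoidHom).map (QuotientGroup.mk' N') := by
      intro z
      rw [Subgroup.map_map, Subgroup.map_map]
      congr 1
    rw [hcomp, e, ← hcomp, show QuotientGroup.mk' N' n = 1 from (QuotientGroup.eq_one_iff n).2 hn,
      CfsgLib.LocalEven.conj_map_one]

end Cfsg.Agent.S2839
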