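import Cfsg.Statements.S2840
import Cfsg.Agent.Lib.LocalEven.WeakClosed
-- import your own Cfsg.Agent.* helpers here

set_option autoImplicit false
open Cfsg

namespace Cfsg.Agent.S2840

/-- Let Q be a nontrivial p-subgroup of the finite group H that is a weakly closed subgroup and K a subgroup containing Q; let K° be the weak closure of Q in K (generated by the H-conjugates of Q inside K). Then K° is generated by the K-conjugates of Q, and K° is the subnormal closure of Q in K. -/
theorem result {H : Type*} [Group H] [Finite H] {p : ℕ} [Fact p.Prime] (Q : Subgroup H) (hQp : IsPGroup p ↥Q) (hQ1 : Q ≠ ⊥) (hwc : Cfsg.IsWeaklyClosedSubgroup p Q) (K : Subgroup H) (hQK : Q ≤ K) (Kc : Subgroup H) (hKc : Kc = Cfsg.weakClosure Q K) : Kc = ⨆ k : ↥K, ((Q : Subgroup H).map (MulAut.conj ((k : H) : H)).toMonoidHom) ∧ Kc = (Cfsg.subnormalClosure (Q.subgroupOf K)).map K.subtype := by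
  subst hKc
  have hW := CfsgLib.LocalEven.wc_weakClosure_eq hwc hQK
  refine ⟨hW, ?_⟩
  have hle : Cfsg.weakClosure Q K ≤ K := iSup_le fun g => g.2
  have hn : ((Cfsg.weakClosure Q K).subgroupOf K).Normal :=
    (Subgroup.normal_subgroupOf_iff_le_normalizer hle).2 CfsgLib.LocalEven.le_normalizer_weakClosure
  have hQW : Q ≤ Cfsg.weakClosure Q K := by
    rw [hW]
    refine le_iSup_of_le 1 ?_
    rw [Subgroup.coe_one, CfsgLib.LocalEven.conj_map_one]
  refine le_antisymm ?_ ?_
  · rw [← Subgroup.map_subgroupOf_eq_of_le hle]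
    refine Subgroup.map_mono (le_sInf ?_)
    rintro S ⟨hQS, hS⟩
    induction hS with
    | top => exact le_top
    | step A B hAB _ hAn ih =>
      have hB := ih (hQS.trans hAB)
      have hA' : (Cfsg.weakClosure Q K) ≤ A.map K.subtype := by
        conv_lhs => rw [hW]
        refine iSup_le fun k => ?_
        have hQA : Q ≤ A.map K.subtype := fun q hq => ⟨⟨q, hQK hq⟩, hQS hq, rfl⟩
        have hkB : Q.map (MulAut.conj (k : H)).toMonoidHom ≤ B.map K.subtype := by
          refine le_trans ?_ (Subgroup.map_mono hB)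
          rw [Subgroup.map_subgroupOf_eq_of_le hle, hW]
          exact le_iSup (fun k : K => Q.map (MulAut.conj (k : H)).toMonoidHom) k
        obtain ⟨b, ⟨b', hb', rfl⟩, e⟩ := CfsgLib.LocalEven.wc_exists_conj hwc
          (hQA.trans (Subgroup.map_mono hAB)) hkB
        rw [e]
        refine (Subgroup.map_mono hQA).trans ?_
        rintro _ ⟨_, ⟨a, ha, rfl⟩, rfl⟩
        exact ⟨b' * a * b'⁻¹, hAn.conj_mem ⟨a, hAB ha⟩ ha ⟨b', hb'⟩, by simp⟩
      intro x hx
      obtain ⟨y, hy, e⟩ := hA' hx
      rwa [← Subtype.ext e]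
  · exact le_trans (Subgroup.map_mono (sInf_le ⟨Subgroup.comap_mono hQW, hn.isSubnormal⟩))
      (Subgroup.map_subgroupOf_eq_of_le hle).le

end Cfsg.Agent.S2840
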