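import Cfsg.Statements.S2843
import Cfsg.Agent.Lib.LocalEven.Large
-- import your own Cfsg.Agent.* helpers here

set_option autoImplicit false
open Cfsg

namespace Cfsg.Agent.S2843

/-- Let Q be a nontrivial large p-subgroup of the finite group H, Q ≤ L ≤ H, and Y a nontrivial p-subgroup of H normalized by L. Let L° be the weak closure of Q in L (generated by the conjugates of Q inside L). Then L° equals the weak closure of Q in L·C_H(Y), and [L°, C_H(Y)] ≤ O_p(L°); in particular C_H(Y) normalizes L°. -/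
theorem result {H : Type*} [Group H] [Finite H] {p : ℕ} [Fact p.Prime] (Q : Subgroup H) (hQp : IsPGroup p ↥Q) (hQ1 : Q ≠ ⊥) (hL : Cfsg.IsLarge Q) (L : Subgroup H) (hQL : Q ≤ L) (Y : Subgroup H) (hYp : IsPGroup p ↥Y) (hY1 : Y ≠ ⊥) (hLY : L ≤ Subgroup.normalizer ((Y : Subgroup H) : Set H)) : Cfsg.weakClosure Q L = Cfsg.weakClosure Q (L ⊔ Subgroup.centralizer ((Y : Subgroup H) : Set H)) ∧ ⁅Cfsg.weakClosure Q L, Subgroup.centralizer ((Y : Subgroup H) : Set H)⁆ ≤ (Cfsg.pCoreOf p (Cfsg.weakClosure Q L)) ∧ Subgroup.centralizer ((Y : Subgroup H) : Set H) ≤ Subgroup.normalizer (((Cfsg.weakClosure Q L) : Subgroup H) : Set H) := by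
  have hwc := CfsgLib.LocalEven.isLarge_wc hQp hQ1 hL
  set C := Subgroup.centralizer ((Y : Subgroup H) : Set H)
  set W := Cfsg.weakClosure Q L with hWdef
  have hW : W = ⨆ k : ↥L, Q.map (MulAut.conj (k : H)).toMonoidHom :=
    CfsgLib.LocalEven.wc_weakClosure_eq hwc hQL
  have hWL : W ≤ L := iSup_le fun g => g.2
  have hLC : L ≤ Subgroup.normalizer (C : Set H) :=
    hLY.trans (CfsgLib.LocalEven.normalizer_le_normalizer_centralizer _)
  have hCk : ∀ k ∈ L, C ≤ Subgroup.normalizer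
      ((Q.map (MulAut.conj k).toMonoidHom : Subgroup H) : Set H) := fun k hk => by
    have h1 := Subgroup.map_mono (f := (MulAut.conj k).toMonoidHom)
      (CfsgLib.LocalEven.isLarge_centralizer_le_normalizer hL hQp hYp hY1 (hQL.trans hLY))
    rwa [CfsgLib.LocalEven.conj_map_eq_of_mem_normalizer (hLC hk),
      CfsgLib.LocalEven.map_conj_normalizer] at h1
  have hCW : C ≤ Subgroup.normalizer (W : Set H) := fun c hc => by
    apply CfsgLib.LocalEven.mem_normalizer_of_conj
    rw [hW, Subgroup.map_iSup]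
    exact iSup_congr fun k => CfsgLib.LocalEven.conj_map_eq_of_mem_normalizer (hCk k k.2 hc)
  refine ⟨le_antisymm (iSup_le fun g => ?_) (iSup_le fun g => ?_), ?_, hCW⟩
  · exact le_iSup (fun g : {g : H // Q.map (MulAut.conj g).toMonoidHom ≤ L ⊔ C} =>
      Q.map (MulAut.conj (g : H)).toMonoidHom) ⟨g, g.2.trans le_sup_left⟩
  · obtain ⟨k, hk, e⟩ := CfsgLib.LocalEven.wc_exists_conj hwc (hQL.trans le_sup_left) g.2
    obtain ⟨l, hl, c, hc, rfl⟩ := (CfsgLib.Coprime.mem_sup_iff_of_le_normalizer hLC).1 hk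
    have hcQ : Q.map (MulAut.conj c).toMonoidHom = Q :=
      CfsgLib.LocalEven.conj_map_eq_of_mem_normalizer
        (CfsgLib.LocalEven.isLarge_centralizer_le_normalizer hL hQp hYp hY1 (hQL.trans hLY) hc)
    rw [e, ← CfsgLib.LocalEven.conj_map_conj_map, hcQ]
    exact le_iSup (fun g : {g : H // Q.map (MulAut.conj g).toMonoidHom ≤ L} =>
      Q.map (MulAut.conj (g : H)).toMonoidHom)
      ⟨l, (CfsgLib.LocalEven.map_conj_le_iff hl).2 hQL⟩
  · set D := Cfsg.pCoreOf p W
    have hgen : ∀ k : ↥L, ⁅Q.map (MulAut.conj (k : H)).toMonoidHom, C⁆ ≤ D := by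
      intro k
      have hQkW : Q.map (MulAut.conj (k : H)).toMonoidHom ≤ W :=
        hW.ge.trans' (le_iSup (fun k : ↥L => Q.map (MulAut.conj (k : H)).toMonoidHom) k)
      refine Subgroup.commutator_le.2 fun q hq c hc => ?_
      have h1 : q * c * q⁻¹ * c⁻¹ ∈ Q.map (MulAut.conj (k : H)).toMonoidHom :=
        CfsgLib.LocalEven.commElem_mem_right hq (hCk k k.2 hc)
      have h2 : q * c * q⁻¹ * c⁻¹ ∈ C :=
        CfsgLib.LocalEven.commElem_mem_left hc (hLC (hWL (hQkW hq)))
      have h3 : q * c * q⁻¹ * c⁻¹ ∈ Cfsg.pCoreOf p (W ⊓ C) := by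
        refine (CfsgLib.LocalEven.le_pCoreOf (N := Q.map (MulAut.conj (k : H)).toMonoidHom ⊓ C)
          (inf_le_inf_right _ hQkW) ?_ ((hQp.map _).to_le inf_le_left)) ⟨h1, h2⟩
        exact ((le_inf (inf_le_right.trans (hCk k k.2))
          (inf_le_right.trans Subgroup.le_normalizer))).trans
          Subgroup.inf_normalizer_le_normalizer_inf
      refine (CfsgLib.LocalEven.le_pCoreOf ((CfsgLib.LocalEven.pCoreOf_le p _).trans inf_le_left)
        ?_ (CfsgLib.LocalEven.isPGroup_pCoreOf _)) h3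
      exact fun w hw => CfsgLib.LocalEven.mem_normalizer_pCoreOf
        (Subgroup.inf_normalizer_le_normalizer_inf ⟨Subgroup.le_normalizer hw, hLC (hWL hw)⟩)
    let K : Subgroup H :=
      { carrier := {x | x ∈ W ∧ ∀ c ∈ C, x * c * x⁻¹ * c⁻¹ ∈ D}
        one_mem' := ⟨W.one_mem, fun c _ => by simp⟩
        mul_mem' := fun {a b} ha hb => ⟨W.mul_mem ha.1 hb.1, fun c hc => by
          have e : a * b * c * (a * b)⁻¹ * c⁻¹ =
              a * (b * c * b⁻¹ * c⁻¹) * a⁻¹ * (a * c * a⁻¹ * c⁻¹) := by group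
          rw [e]
          exact D.mul_mem ((Subgroup.mem_normalizer_iff.1
            (CfsgLib.LocalEven.le_normalizer_pCoreOf p W ha.1) _).1 (hb.2 c hc)) (ha.2 c hc)⟩
        inv_mem' := fun {a} ha => ⟨W.inv_mem ha.1, fun c hc => by
          have e : a⁻¹ * c * a⁻¹⁻¹ * c⁻¹ = a⁻¹ * (a * c * a⁻¹ * c⁻¹)⁻¹ * a⁻¹⁻¹ := by group
          rw [e]
          exact (Subgroup.mem_normalizer_iff.1
            (CfsgLib.LocalEven.le_normalizer_pCoreOf p W (W.inv_mem ha.1)) _).1
            (D.inv_mem (ha.2 c hc))⟩ }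
    have hK : W ≤ K := by
      conv_lhs => rw [hW]
      exact iSup_le fun k x hx => ⟨(hW.ge.trans'
        (le_iSup (fun k : ↥L => Q.map (MulAut.conj (k : H)).toMonoidHom) k)) hx,
        fun c hc => hgen k (Subgroup.commutator_mem_commutator hx hc)⟩
    exact Subgroup.commutator_le.2 fun x hx c hc => (hK hx).2 c hc

end Cfsg.Agent.S2843
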