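import Cfsg.Statements.S2845
import Cfsg.Agent.Lib.LocalEven.Large
-- import your own Cfsg.Agent.* helpers here

set_option autoImplicit false
open Cfsg

namespace Cfsg.Agent.S2845

/-- Let Q be a nontrivial large p-subgroup of the finite group H. Then for every subgroup L ≥ Q with O_p(L) ≠ 1, C_H(O_p(L)) is a p-group and L has characteristic p, and either the weak closure L° of Q in L equals Q or C_H(L°) = 1; for every subgroup R of H containing a Sylow p-subgroup of H with O_p(R) ≠ 1, C_H(O_p(R)) ≤ O_p(R); and H has parabolic characteristic p. -/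
theorem result {H : Type*} [Group H] [Finite H] {p : ℕ} [Fact p.Prime] (Q : Subgroup H) (hQp : IsPGroup p ↥Q) (hQ1 : Q ≠ ⊥) (hL : Cfsg.IsLarge Q) : (∀ L : Subgroup H, Q ≤ L → Cfsg.pCore p ↥L ≠ ⊥ → IsPGroup p ↥(Subgroup.centralizer (((Cfsg.pCoreOf p L) : Subgroup H) : Set H)) ∧ Subgroup.centralizer (Cfsg.pCore p ↥L : Set ↥L) ≤ Cfsg.pCore p ↥L ∧ (Cfsg.weakClosure Q L = Q ∨ Subgroup.centralizer (((Cfsg.weakClosure Q L) : Subgroup H) : Set H) = ⊥)) ∧ (∀ R : Subgroup H, Cfsg.IsParabolic p R → Cfsg.pCore p ↥R ≠ ⊥ → Subgroup.centralizer (((Cfsg.pCoreOf p R) : Subgroup H) : Set H) ≤ (Cfsg.pCoreOf p R)) ∧ Cfsg.IsOfParabolicCharacteristic p H := by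
  refine ⟨fun L hQL hne => ?_, fun R hR hne => CfsgLib.LocalEven.isLarge_parabolic hQp hQ1 hL hR hne,
    CfsgLib.LocalEven.isLarge_parabolicCharacteristic hQp hQ1 hL⟩
  obtain ⟨h1, h2⟩ := CfsgLib.LocalEven.isLarge_overgroup hQp hQ1 hL hQL hne
  refine ⟨h1, h2, ?_⟩
  by_cases hall : ∀ g : H, Q.map (MulAut.conj g).toMonoidHom ≤ L →
      g ∈ Subgroup.normalizer (Q : Set H)
  · left
    refine le_antisymm (iSup_le fun g => ?_) ?_
    · rw [CfsgLib.LocalEven.conj_map_eq_of_mem_normalizer (hall g g.2)]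
    · refine le_iSup_of_le ⟨1, by rw [CfsgLib.LocalEven.conj_map_one]; exact hQL⟩ ?_
      rw [CfsgLib.LocalEven.conj_map_one]
  · right
    simp only [not_forall] at hall
    obtain ⟨g, hg, hgn⟩ := hall
    have hQW : Q ≤ Cfsg.weakClosure Q L := by
      refine le_iSup_of_le ⟨1, by rw [CfsgLib.LocalEven.conj_map_one]; exact hQL⟩ ?_
      rw [CfsgLib.LocalEven.conj_map_one]
    have hgW : Q.map (MulAut.conj g).toMonoidHom ≤ Cfsg.weakClosure Q L :=
      le_iSup (fun g : {g : H // Q.map (MulAut.conj g).toMonoidHom ≤ L} =>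
        Q.map (MulAut.conj (g : H)).toMonoidHom) ⟨g, hg⟩
    exact le_bot_iff.1 (CfsgLib.LocalEven.isLarge_inf_centralizer_conj hQp hQ1 hL hgn ▸
      le_inf (Subgroup.centralizer_le (SetLike.coe_subset_coe.2 hQW))
        (Subgroup.centralizer_le (SetLike.coe_subset_coe.2 hgW)))

end Cfsg.Agent.S2845
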