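import Cfsg.Statements.S2846
import Cfsg.Agent.Lib.LocalEven.FrakExist
-- import your own Cfsg.Agent.* helpers here

set_option autoImplicit false
open Cfsg

namespace Cfsg.Agent.S2846

/-- Let Q be a nontrivial large p-subgroup of the finite group H, S a Sylow p-subgroup containing Q, and L a subgroup containing S with O_p(L) ≠ 1 and C_H(O_p(L)) ≤ O_p(L). Then there are a subgroup M containing S having the basic property (M ∈ 𝔐_H, writing Y_X for the largest p-reduced normal subgroup of X and 𝓛_H for the set of subgroups X with O_p(X) ≠ 1 and C_H(O_p(X)) ≤ O_p(X): M ∈ 𝓛_H, M·C_H(Y_M) is the only maximal member of 𝓛_H containing M and its largest p-reduced normal subgroup is again Y_M, C_M(Y_M) is p-closed, and the image of C_M(Y_M) in M/O_p(M) lies in the Frattini subgroup of M/O_p(M)) and a subgroup L* with S ≤ L* ≤ M, O_p(L*) ≠ 1, C_H(O_p(L*)) ≤ O_p(L*), such that L·C_H(Y_L) = L*·C_H(Y_L), the weak closures of Q in L and in L* agree and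 lie in that of M, and Y_L = Y_{L*} ≤ Y_M. If moreover Q is not normal in L, then Q is normal in neither L* nor M. -/
theorem result {H : Type*} [Group H] [Finite H] {p : ℕ} [Fact p.Prime] (Q : Subgroup H) (hQp : IsPGroup p ↥Q) (hQ1 : Q ≠ ⊥) (hLg : Cfsg.IsLarge Q) (S : Sylow p H) (hQS : Q ≤ (S : Subgroup H)) (L : Subgroup H) (hSL : (S : Subgroup H) ≤ L) (hL : L ∈ Cfsg.charPSubgroups p H) : ∃ M Ls : Subgroup H, (S : Subgroup H) ≤ M ∧ Cfsg.IsInFrakM p M ∧ (S : Subgroup H) ≤ Ls ∧ Ls ≤ M ∧ Ls ∈ Cfsg.charPSubgroups p H ∧ L ⊔ Subgroup.centralizer (((Cfsg.largestPReducedOf p L) : Subgroup H) : Set H) = Ls ⊔ Subgroup.centralizer (((Cfsg.largestPReducedOf p L) : Subgroup H) : Set H) ∧ Cfsg.weakClosure Q L = Cfsg.weakClosure Q Ls ∧ Cfsg.weakClosure Q Ls ≤ Cfsg.weakClosure Q M ∧ (Cfsg.largestPReducedOf p L) = (Cfsg.largestPReducedOf p Ls) ∧ (Cfsg.largestPReducedOf p Ls) ≤ (Cfsg.largestPReducedOf p M) ∧ (¬ L ≤ Subgroup.normalizer ((Q : Subgroup H) :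 Set H) → ¬ Ls ≤ Subgroup.normalizer ((Q : Subgroup H) : Set H) ∧ ¬ M ≤ Subgroup.normalizer ((Q : Subgroup H) : Set H)) := by
  obtain ⟨M, Ls, h1, h2, h3, h4, h5, h6, h7, h8⟩ := CfsgLib.LocalEven.exists_frakM
    (CfsgLib.LocalEven.isLarge_parabolicCharacteristic hQp hQ1 hLg) S hSL hL
  have hwc := CfsgLib.LocalEven.isLarge_wc hQp hQ1 hLg
  set Y := Cfsg.largestPReducedOf p L
  set C := Subgroup.centralizer ((Y : Subgroup H) : Set H)
  have hY := CfsgLib.LocalEven.isPRedIn_largest (p := p) L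
  have hCQ : C ≤ Subgroup.normalizer (Q : Set H) :=
    CfsgLib.LocalEven.isLarge_centralizer_le_normalizer hLg hQp
      (CfsgLib.LocalEven.isPGroup_of_exponent hY.2.2.1.2)
      (CfsgLib.LocalEven.largest_ne_bot S hSL hL) ((hQS.trans hSL).trans hY.2.1)
  have hLsn : Ls ≤ Subgroup.normalizer (C : Set H) :=
    ((le_sup_left.trans h8.ge).trans (sup_le hY.2.1 (Subgroup.centralizer_le_normalizer _))).trans
      (CfsgLib.LocalEven.normalizer_le_normalizer_centralizer _)
  have hLn : L ≤ Subgroup.normalizer (C : Set H) :=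
    hY.2.1.trans (CfsgLib.LocalEven.normalizer_le_normalizer_centralizer _)
  have key : ∀ A B : Subgroup H, A ≤ B ⊔ C → B ≤ Subgroup.normalizer (C : Set H) → ∀ a : A,
      Q.map (MulAut.conj (a : H)).toMonoidHom ≤ ⨆ b : B, Q.map (MulAut.conj (b : H)).toMonoidHom := by
    intro A B hAB hB a
    obtain ⟨b, hb, c, hc, hbc⟩ := (CfsgLib.Coprime.mem_sup_iff_of_le_normalizer hB).1 (hAB a.2)
    rw [← hbc, ← CfsgLib.LocalEven.conj_map_conj_map,
      CfsgLib.LocalEven.conj_map_eq_of_mem_normalizer (hCQ hc)]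
    exact le_iSup (fun b : B => Q.map (MulAut.conj (b : H)).toMonoidHom) ⟨b, hb⟩
  have hwe : Cfsg.weakClosure Q L = Cfsg.weakClosure Q Ls := by
    rw [CfsgLib.LocalEven.wc_weakClosure_eq hwc (hQS.trans hSL),
      CfsgLib.LocalEven.wc_weakClosure_eq hwc (hQS.trans h3)]
    exact le_antisymm (iSup_le (key L Ls (le_sup_left.trans h8.le) hLsn))
      (iSup_le (key Ls L (le_sup_left.trans h8.ge) hLn))
  refine ⟨M, Ls, h1, h2, h3, h4, h5, h8, hwe, ?_, h6, h6 ▸ h7, fun hL' => ?_⟩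
  · exact iSup_le fun g => le_iSup (fun g : {g : H // Q.map (MulAut.conj g).toMonoidHom ≤ M} =>
      Q.map (MulAut.conj (g : H)).toMonoidHom) ⟨g, g.2.trans h4⟩
  · have : ¬ Ls ≤ Subgroup.normalizer ((Q : Subgroup H) : Set H) := fun h =>
      hL' (le_sup_left.trans (h8.le.trans (sup_le h hCQ)))
    exact ⟨this, fun h => this (h4.trans h)⟩

end Cfsg.Agent.S2846
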