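import Cfsg.Statements.S2848
import Cfsg.Agent.Lib.LocalEven.Large
import Cfsg.Agent.Lib.LocalEven.PReduced3
-- import your own Cfsg.Agent.* helpers here

set_option autoImplicit false
open Cfsg

namespace Cfsg.Agent.S2848

/-- Standing hypotheses: G a finite group, S a Sylow p-subgroup, Q a nontrivial large p-subgroup of G contained in S (C_G(Q) ≤ Q and N_G(U) ≤ N_G(Q) for all nontrivial U ≤ C_G(Q)), and M a subgroup containing S with the basic property (M ∈ 𝔐_G(S)); Y_M denotes the largest p-reduced normal subgroup of M and M† = M·C_G(Y_M). Then O_p(M) is a weakly closed subgroup of M† (for p): it is the only M†-conjugate of itself inside some Sylow p-subgroup of M† containing it. -/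
theorem result {G : Type*} [Group G] [Finite G] {p : ℕ} [Fact p.Prime] (S : Sylow p G) (Q : Subgroup G) (hQp : IsPGroup p ↥Q) (hQ1 : Q ≠ ⊥) (hQS : Q ≤ (S : Subgroup G)) (hQ : Cfsg.IsLarge Q) (M : Subgroup G) (hSM : (S : Subgroup G) ≤ M) (hM : Cfsg.IsInFrakM p M) : Cfsg.IsWeaklyClosedSubgroup p (((Cfsg.pCoreOf p M)).subgroupOf (M ⊔ Subgroup.centralizer (((Cfsg.largestPReducedOf p M) : Subgroup G) : Set G))) := by
  set Y := Cfsg.largestPReducedOf p M
  set C := Subgroup.centralizer (Y : Set G)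
  set D := M ⊔ C
  set R := Cfsg.pCoreOf p M
  have hY := CfsgLib.LocalEven.isPRedIn_largest (p := p) M
  have hDC : D ≤ Subgroup.normalizer (C : Set G) :=
    (sup_le hY.2.1 (Subgroup.centralizer_le_normalizer _)).trans
      (CfsgLib.LocalEven.normalizer_le_normalizer_centralizer _)
  have hRS : R ≤ (S : Subgroup G) := CfsgLib.LocalEven.pCoreOf_le_parabolic S hSM
  have hRC : R ≤ C := hY.pCoreOf_le_centralizer
  have hnMC : M ≤ Subgroup.normalizer ((M ⊓ C : Subgroup G) : Set G) :=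
    (le_inf Subgroup.le_normalizer ((le_sup_left : M ≤ D).trans hDC)).trans
      Subgroup.inf_normalizer_le_normalizer_inf
  have hSC : (S : Subgroup G) ⊓ C ≤ R := by
    obtain ⟨P, hP⟩ := CfsgLib.LocalEven.exists_sylow_inf_eq S hSM (inf_le_left : M ⊓ C ≤ M) hnMC
    have h1 : (S : Subgroup G) ⊓ C ≤ (P : Subgroup ↥(M ⊓ C)).map (M ⊓ C).subtype := by
      rw [hP]; exact le_inf inf_le_left (le_inf (inf_le_left.trans hSM) inf_le_right)
    refine h1.trans ((Subgroup.map_mono
      ((CfsgLib.LocalEven.isPClosed_iff_sylow_le P).1 hM.2.2.2.2.1)).trans ?_)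
    exact CfsgLib.LocalEven.le_pCoreOf ((CfsgLib.LocalEven.pCoreOf_le p _).trans inf_le_left)
      (fun m hm => CfsgLib.LocalEven.mem_normalizer_pCoreOf (hnMC hm))
      (CfsgLib.LocalEven.isPGroup_pCoreOf _)
  obtain ⟨P, hP⟩ := (S.isPGroup'.comap_subtype (K := D)).exists_le_sylow
  have hSD : (S : Subgroup G) ≤ D := hSM.trans le_sup_left
  have hPS : (P : Subgroup D).map D.subtype = (S : Subgroup G) :=
    S.3 (P.isPGroup'.map _) fun s hs => ⟨⟨s, hSD hs⟩, hP hs, rfl⟩
  refine ⟨P, fun x hx => hP (hRS hx), fun g hg => ?_⟩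
  refine Subgroup.eq_of_le_of_card_ge ?_
    (le_of_eq (Subgroup.card_map_of_injective (MulAut.conj g).injective).symm)
  rintro _ ⟨x, hx, rfl⟩
  exact hSC ⟨hPS.le ⟨_, hg ⟨x, hx, rfl⟩, rfl⟩,
    (Subgroup.mem_normalizer_iff.1 (hDC g.2) (x : G)).1 (hRC hx)⟩

end Cfsg.Agent.S2848
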