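import Cfsg.Statements.S2849
import Cfsg.Agent.Lib.LocalEven.FrakM
-- import your own Cfsg.Agent.* helpers here

set_option autoImplicit false
open Cfsg

namespace Cfsg.Agent.S2849

/-- Standing hypotheses: G a finite group, S a Sylow p-subgroup, Q a nontrivial large p-subgroup of G contained in S (C_G(Q) ≤ Q and N_G(U) ≤ N_G(Q) for all nontrivial U ≤ C_G(Q)), and M a subgroup containing S with the basic property (M ∈ 𝔐_G(S)); Y_M denotes the largest p-reduced normal subgroup of M and M† = M·C_G(Y_M). Suppose Y_M is asymmetric in G. Then for every subgroup R with Y_M ≤ R ≤ M†, the normal closure of Y_M in N_G(R) is elementary abelian. -/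
theorem result {G : Type*} [Group G] [Finite G] {p : ℕ} [Fact p.Prime] (S : Sylow p G) (Q : Subgroup G) (hQp : IsPGroup p ↥Q) (hQ1 : Q ≠ ⊥) (hQS : Q ≤ (S : Subgroup G)) (hQ : Cfsg.IsLarge Q) (M : Subgroup G) (hSM : (S : Subgroup G) ≤ M) (hM : Cfsg.IsInFrakM p M) (hasym : ¬ Cfsg.IsSymmetricIn (Cfsg.largestPReducedOf p M)) (R : Subgroup G) (hYR : (Cfsg.largestPReducedOf p M) ≤ R) (hRM : R ≤ (M ⊔ Subgroup.centralizer (((Cfsg.largestPReducedOf p M) : Subgroup G) : Set G))) : Cfsg.IsElementaryAbelian p ((Subgroup.normalClosure ((((Cfsg.largestPReducedOf p M)).subgroupOf (Subgroup.normalizer ((R : Subgroup G) : Set G)) : Subgroup ↥(Subgroup.normalizer ((R : Subgroup G) : Set G))) : Set ↥(Subgroup.normalizer ((R : Subgroup G) : Set G)))).map (Subgroup.normalizer ((R : Subgroup G) : Set G)).subtype) := by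
  set Y := Cfsg.largestPReducedOf p M
  set N := Subgroup.normalizer ((R : Subgroup G) : Set G)
  have hYpr := CfsgLib.LocalEven.isPRedIn_largest (p := p) M
  have hDY : M ⊔ Subgroup.centralizer ((Y : Subgroup G) : Set G) ≤ Subgroup.normalizer (Y : Set G) :=
    sup_le hYpr.2.1 (Subgroup.centralizer_le_normalizer _)
  have hYn : ∀ n ∈ N, Y.map (MulAut.conj n).toMonoidHom ≤ R ∧
      R ≤ Subgroup.normalizer ((Y.map (MulAut.conj n).toMonoidHom : Subgroup G) : Set G) := by
    intro n hn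
    refine ⟨(Subgroup.map_mono hYR).trans (CfsgLib.LocalEven.conj_map_eq_of_mem_normalizer hn).le, ?_⟩
    rw [← CfsgLib.LocalEven.map_conj_normalizer]
    exact (CfsgLib.LocalEven.conj_map_eq_of_mem_normalizer hn).ge.trans
      (Subgroup.map_mono (hRM.trans hDY))
  set s : Set G := {z | ∃ n ∈ N, ∃ y ∈ Y, n * y * n⁻¹ = z}
  refine CfsgLib.LocalEven.elemAbelian_mono
    (CfsgLib.LocalEven.elemAbelian_closure (s := s) ?_ ?_) ?_
  · rintro _ ⟨n, hn, y, hy, rfl⟩ _ ⟨m, hm, z, hz, rfl⟩
    exact ((CfsgLib.LocalEven.commute_of_asymmetric hasym ((hYn n hn).1.trans (hYn m hm).2)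
      ((hYn m hm).1.trans (hYn n hn).2)) ⟨y, hy, rfl⟩ _ ⟨z, hz, rfl⟩).symm
  · rintro _ ⟨n, hn, y, hy, rfl⟩
    rw [conj_pow, hYpr.2.2.1.2 y hy, mul_one, mul_inv_cancel]
  · have hn' : ((Subgroup.closure s).subgroupOf N).Normal := by
      refine ⟨fun x hx g => ?_⟩
      rw [Subgroup.mem_subgroupOf] at hx ⊢
      have hmap : (Subgroup.closure s).map (MulAut.conj (g : G)).toMonoidHom ≤ Subgroup.closure s := by
        rw [MonoidHom.map_closure, Subgroup.closure_le]
        rintro _ ⟨_, ⟨n, hn, y, hy, rfl⟩, rfl⟩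
        exact Subgroup.subset_closure ⟨g * n, N.mul_mem g.2 hn, y, hy, by simp [mul_assoc]⟩
      simpa using hmap ⟨x, hx, rfl⟩
    refine (Subgroup.map_mono (Subgroup.normalClosure_le_normal
      (N := (Subgroup.closure s).subgroupOf N) fun y hy => ?_)).trans
      ((Subgroup.subgroupOf_map_subtype _ _).le.trans inf_le_left)
    exact Subgroup.subset_closure ⟨1, N.one_mem, y, hy, by simp⟩

end Cfsg.Agent.S2849
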