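import Cfsg.Statements.S2850
import Cfsg.Agent.Lib.LocalEven.FrakM
-- import your own Cfsg.Agent.* helpers here

set_option autoImplicit false
open Cfsg

namespace Cfsg.Agent.S2850

/-- Standing hypotheses: G a finite group, S a Sylow p-subgroup, Q a nontrivial large p-subgroup of G contained in S (C_G(Q) ≤ Q and N_G(U) ≤ N_G(Q) for all nontrivial U ≤ C_G(Q)), and M a subgroup containing S with the basic property (M ∈ 𝔐_G(S)); Y_M denotes the largest p-reduced normal subgroup of M and M† = M·C_G(Y_M). Suppose Y_M is asymmetric in G. Then N_G(L) ≤ N_G(O_p(M)) ≤ M† for every p-subgroup L containing O_p(M); O_p(M) is a weakly closed subgroup of G; for every subgroup L containing O_p(M), L ∩ M† contains a Sylow p-subgroup of L; and two elements of Y_M conjugate in G are conjugate in M. -/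
theorem result {G : Type*} [Group G] [Finite G] {p : ℕ} [Fact p.Prime] (S : Sylow p G) (Q : Subgroup G) (hQp : IsPGroup p ↥Q) (hQ1 : Q ≠ ⊥) (hQS : Q ≤ (S : Subgroup G)) (hQ : Cfsg.IsLarge Q) (M : Subgroup G) (hSM : (S : Subgroup G) ≤ M) (hM : Cfsg.IsInFrakM p M) (hasym : ¬ Cfsg.IsSymmetricIn (Cfsg.largestPReducedOf p M)) : (∀ L : Subgroup G, IsPGroup p ↥L → (Cfsg.pCoreOf p M) ≤ L → Subgroup.normalizer ((L : Subgroup G) : Set G) ≤ Subgroup.normalizer (((Cfsg.pCoreOf p M) : Subgroup G) : Set G) ∧ Subgroup.normalizer (((Cfsg.pCoreOf p M) : Subgroup G) : Set G) ≤ (M ⊔ Subgroup.centralizer (((Cfsg.largestPReducedOf p M) : Subgroup G) : Set G))) ∧ Cfsg.IsWeaklyClosedSubgroup p (Cfsg.pCoreOf p M) ∧ (∀ L : Subgroup G, (Cfsg.pCoreOf p M) ≤ L → Cfsg.IsParabolic p ((L ⊓ (M ⊔ Subgroup.centralizer (((Cfsg.largestPReducedOf p M) : Subgroup G) : Set G))).subgroupOf L)) ∧ (∀ x ∈ (Cfsg.largestPReducedOf p M), ∀ g : G, g * x * g⁻¹ ∈ (Cfsg.largestPReducedOf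 p M) → ∃ m ∈ M, m * x * m⁻¹ = g * x * g⁻¹) := by
  have hwc := CfsgLib.LocalEven.frakM_weaklyClosed S hQp hQ1 hQ hSM hM hasym
  set R := Cfsg.pCoreOf p M
  set C := Subgroup.centralizer ((Cfsg.largestPReducedOf p M : Subgroup G) : Set G)
  have hND : Subgroup.normalizer (R : Set G) ≤ M ⊔ C :=
    CfsgLib.LocalEven.frakM_normalizer_le S hQp hQ1 hQ hSM hM
      (CfsgLib.LocalEven.frakM_pCoreOf_ne_bot (p := p) hM) (CfsgLib.LocalEven.isPGroup_pCoreOf (p := p) M)
      (CfsgLib.LocalEven.le_normalizer_pCoreOf p M)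
  refine ⟨fun L hL hRL => ⟨CfsgLib.LocalEven.wc_normalizer_le hwc hL hRL, hND⟩, hwc,
    fun L hRL => ?_, fun x hx g hg => ?_⟩
  · obtain ⟨P, hP⟩ := ((CfsgLib.LocalEven.isPGroup_pCoreOf (p := p) M).comap_subtype (K := L)).exists_le_sylow
    refine ⟨P, fun z hz => ⟨z.2, hND ?_⟩⟩
    have h1 : R ≤ (P : Subgroup L).map L.subtype := fun r hr => ⟨⟨r, hRL hr⟩, hP hr, rfl⟩
    exact CfsgLib.LocalEven.wc_le_normalizer hwc (P.isPGroup'.map _) h1 ⟨z, hz, rfl⟩
  · have hpr := CfsgLib.LocalEven.isPRedIn_largest (p := p) M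
    have hRC : R ≤ C := hpr.pCoreOf_le_centralizer
    have hx' : R ≤ Subgroup.centralizer ({x} : Set G) := fun r hr =>
      Subgroup.mem_centralizer_singleton_iff.2 ((hRC hr x hx).symm)
    have hgx : R.map (MulAut.conj g⁻¹).toMonoidHom ≤ Subgroup.centralizer ({x} : Set G) := by
      rintro _ ⟨r, hr, rfl⟩
      have h1 := hRC hr _ hg
      rw [Subgroup.mem_centralizer_singleton_iff]
      simp only [MulEquiv.coe_toMonoidHom, MulAut.conj_apply, inv_inv]
      calc g⁻¹ * r * g * x = g⁻¹ * (r * (g * x * g⁻¹)) * g := by group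
        _ = g⁻¹ * (g * x * g⁻¹ * r) * g := by rw [h1]
        _ = x * (g⁻¹ * r * g) := by group
    obtain ⟨c, hc, e⟩ := CfsgLib.LocalEven.wc_exists_conj hwc hx' hgx
    have hgc : g * c ∈ Subgroup.normalizer (R : Set G) := by
      have := CfsgLib.LocalEven.conj_map_eq_iff.1 e
      simpa using Subgroup.inv_mem _ this
    obtain ⟨m, hm, c', hc', e'⟩ := (CfsgLib.Coprime.mem_sup_iff_of_le_normalizer
      (hpr.2.1.trans (CfsgLib.LocalEven.normalizer_le_normalizer_centralizer _))).1 (hND hgc)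
    refine ⟨m, hm, ?_⟩
    have hcx := Subgroup.mem_centralizer_singleton_iff.1 hc
    have hc'x : c' * x = x * c' := (hc' x hx).symm
    symm
    calc g * x * g⁻¹ = g * (c * x * c⁻¹) * g⁻¹ := by rw [hcx, mul_inv_cancel_right]
      _ = (m * c') * x * (m * c')⁻¹ := by rw [e']; group
      _ = m * (c' * x * c'⁻¹) * m⁻¹ := by group
      _ = m * x * m⁻¹ := by rw [hc'x, mul_inv_cancel_right]

end Cfsg.Agent.S2850
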