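import Cfsg.Statements.S2851
import Cfsg.Agent.Lib.LocalEven.FOvergroup
-- import your own Cfsg.Agent.* helpers here

set_option autoImplicit false
open Cfsg

namespace Cfsg.Agent.S2851

/-- Standing hypotheses: G a finite group, S a Sylow p-subgroup, Q a nontrivial large p-subgroup of G contained in S, M a subgroup containing S with the basic property (M ∈ 𝔐_G(S)); Y_M the largest p-reduced normal subgroup of M and M† = M·C_G(Y_M). Let F be the preimage in M† of the generalized Fitting subgroup of M†/C_{M†}(Y_M). If Y_M is asymmetric in G and H is a subgroup of characteristic p containing F, then Y_M ≤ Y_H. -/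
theorem result {G : Type*} [Group G] [Finite G] {p : ℕ} [Fact p.Prime] (S : Sylow p G) (Q : Subgroup G) (hQp : IsPGroup p ↥Q) (hQ1 : Q ≠ ⊥) (hQS : Q ≤ (S : Subgroup G)) (hQ : Cfsg.IsLarge Q) (M : Subgroup G) (hSM : (S : Subgroup G) ≤ M) (hM : Cfsg.IsInFrakM p M) (hasym : ¬ Cfsg.IsSymmetricIn (Cfsg.largestPReducedOf p M)) [hn : ((Subgroup.centralizer (((Cfsg.largestPReducedOf p M) : Subgroup G) : Set G)).subgroupOf (M ⊔ Subgroup.centralizer (((Cfsg.largestPReducedOf p M) : Subgroup G) : Set G))).Normal] (F : Subgroup G) (hF : F = ((Cfsg.generalizedFittingSubgroup (↥(M ⊔ Subgroup.centralizer (((Cfsg.largestPReducedOf p M) : Subgroup G) : Set G)) ⧸ (Subgroup.centralizer (((Cfsg.largestPReducedOf p M) : Subgroup G) : Set G)).subgroupOf (M ⊔ Subgroup.centralizer (((Cfsg.largestPReducedOf p M) : Subgroup G) : Set G)))).comap (QuotientGroup.mk' ((Subgroup.centralizer (((Cfsg.largestPReducedOf p M) : Subgroup G) : Set G)).subgroupOf (M ⊔ Subgroup.centralizer (((Cfsg.largestPReducedOf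 p M) : Subgroup G) : Set G))))).map ((M ⊔ Subgroup.centralizer (((Cfsg.largestPReducedOf p M) : Subgroup G) : Set G))).subtype) (H : Subgroup G) (hFH : F ≤ H) (hH : Subgroup.centralizer (Cfsg.pCore p ↥H : Set ↥H) ≤ Cfsg.pCore p ↥H) : (Cfsg.largestPReducedOf p M) ≤ Cfsg.largestPReducedOf p H := by
  have hYpr := CfsgLib.LocalEven.isPRedIn_largest (p := p) M
  have hwc := CfsgLib.LocalEven.frakM_weaklyClosed S hQp hQ1 hQ hSM hM hasym
  set Y := Cfsg.largestPReducedOf p M with hY
  set C := Subgroup.centralizer ((Y : Subgroup G) : Set G) with hC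
  have hOp : IsPGroup p (Cfsg.pCoreOf p M) := CfsgLib.LocalEven.isPGroup_pCoreOf (p := p) M
  have hND : Subgroup.normalizer ((Cfsg.pCoreOf p M : Subgroup G) : Set G) ≤ M ⊔ C :=
    CfsgLib.LocalEven.frakM_normalizer_le S hQp hQ1 hQ hSM hM
      (CfsgLib.LocalEven.frakM_pCoreOf_ne_bot (p := p) hM) hOp
      (CfsgLib.LocalEven.le_normalizer_pCoreOf p M)
  have hYD : CfsgLib.LocalEven.IsPRedIn p Y (M ⊔ C) := by
    have := CfsgLib.LocalEven.isPRedIn_largest (p := p) (M ⊔ C)
    rwa [← hM.2.2.2.1] at this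
  have hCF : C ≤ F := by
    rw [hF]
    intro c hc
    refine ⟨⟨c, le_sup_right (a := M) hc⟩, ?_, rfl⟩
    rw [SetLike.mem_coe, Subgroup.mem_comap]
    rw [show QuotientGroup.mk' (C.subgroupOf (M ⊔ C)) ⟨c, le_sup_right (a := M) hc⟩ = 1 from
      (QuotientGroup.eq_one_iff _).2 (Subgroup.mem_subgroupOf.2 hc)]
    exact one_mem _
  refine CfsgLib.LocalEven.FOvergroup.main hwc hOp hYpr.le_pCoreOf hYpr.2.2.1
    hYpr.pCoreOf_le_centralizer hND le_sup_right hCF (fun A hA1 hA2 hA3 => ?_) hFH hH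
  rw [hF] at hA3
  exact CfsgLib.LocalEven.FOvergroup.le_of_normalized hYD le_sup_right hA1 hA2 hA3

end Cfsg.Agent.S2851
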