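import Cfsg.Statements.S2852
import Cfsg.Agent.Lib.LocalEven.FrakM
-- import your own Cfsg.Agent.* helpers here

set_option autoImplicit false
open Cfsg

namespace Cfsg.Agent.S2852

/-- Standing hypotheses: G a finite group, S a Sylow p-subgroup, Q a nontrivial large p-subgroup of G contained in S, M a subgroup containing S with the basic property (M ∈ 𝔐_G(S)); Y_M the largest p-reduced normal subgroup of M. If Y_M is char-p-tall and asymmetric in G, then some subgroup H of G lies in ℌ_G(O_p(M)): H has characteristic p, O_p(M) ≤ H, Y_M ≰ O_p(H), and Y_M ≤ O_p(P) for every proper subgroup P of H containing O_p(M). -/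
theorem result {G : Type*} [Group G] [Finite G] {p : ℕ} [Fact p.Prime] (S : Sylow p G) (Q : Subgroup G) (hQp : IsPGroup p ↥Q) (hQ1 : Q ≠ ⊥) (hQS : Q ≤ (S : Subgroup G)) (hQ : Cfsg.IsLarge Q) (M : Subgroup G) (hSM : (S : Subgroup G) ≤ M) (hM : Cfsg.IsInFrakM p M) (htall : Cfsg.IsCharPTall p (Cfsg.largestPReducedOf p M)) (hasym : ¬ Cfsg.IsSymmetricIn (Cfsg.largestPReducedOf p M)) : ∃ H : Subgroup G, Cfsg.IsInFrakH p M H := by
  have hwc := CfsgLib.LocalEven.frakM_weaklyClosed S hQp hQ1 hQ hSM hM hasym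
  set R := Cfsg.pCoreOf p M
  set Y := Cfsg.largestPReducedOf p M
  obtain ⟨T, L, hTL, hLc, hYL⟩ := htall
  obtain ⟨R', hR'⟩ := (CfsgLib.Fusion.exists_sylow_iff
    (CfsgLib.LocalEven.frakM_isSylIn S hSM hM).1).2 (CfsgLib.LocalEven.frakM_isSylIn S hSM hM)
  obtain ⟨c, hc⟩ := MulAction.exists_smul_eq ↥(Subgroup.centralizer ((Y : Subgroup G) : Set G)) T R'
  set L' := L.map (MulAut.conj (c : G)).toMonoidHom
  have hcY : (c : G) ∈ Subgroup.normalizer (Y : Set G) := Subgroup.centralizer_le_normalizer _ c.2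
  have hRL' : R ≤ L' := by
    have h1 := CfsgLib.LocalEven.conj_sylow_map T c
    rw [hc, hR', Subgroup.map_subgroupOf_eq_of_le (CfsgLib.LocalEven.frakM_isSylIn S hSM hM).1] at h1
    exact h1.ge.trans (Subgroup.map_mono hTL)
  have hL'c : Subgroup.centralizer (Cfsg.pCore p L' : Set L') ≤ Cfsg.pCore p L' :=
    CfsgLib.LocalEven.charP_equiv (L.equivMapOfInjective _ (MulAut.conj (c : G)).injective) hLc
  have hYL' : ¬ Y ≤ Cfsg.pCoreOf p L' := by
    intro h
    apply hYL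
    have h1 := Subgroup.map_mono (f := (MulAut.conj (c : G)⁻¹).toMonoidHom) h
    rw [CfsgLib.LocalEven.conj_map_eq_of_mem_normalizer (Subgroup.inv_mem _ hcY),
      CfsgLib.LocalEven.map_pCoreOf p _ (MulAut.conj (c : G)⁻¹).injective,
      CfsgLib.LocalEven.conj_map_conj_map, inv_mul_cancel, CfsgLib.LocalEven.conj_map_one] at h1
    exact h1
  obtain ⟨H, hH, hmin⟩ := ({H : Subgroup G | R ≤ H ∧ H ≤ L' ∧ ¬ Y ≤ Cfsg.pCoreOf p H}).toFinite.exists_minimalFor id _
    ⟨L', hRL', le_rfl, hYL'⟩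
  refine ⟨H, ?_, hH.1, hH.2.2, fun P hRP hPH => ?_⟩
  · have hwc' := CfsgLib.LocalEven.wc_subgroupOf hwc hRL'
    have hCR : Subgroup.centralizer ((R.subgroupOf L' : Subgroup L') : Set L') ≤ R.subgroupOf L' := by
      intro z hz
      refine Subgroup.mem_subgroupOf.2 (hM.1.2 fun r hr => ?_)
      exact congrArg Subtype.val (hz ⟨r, hRL' hr⟩ hr)
    have h := (CfsgLib.LocalEven.wc_charP_lemma hwc' hCR (Subgroup.comap_mono hH.1)
      (CfsgLib.LocalEven.charP_top_centralizer hL'c (CfsgLib.LocalEven.isPGroup_pCoreOf _))).2.2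
    exact CfsgLib.LocalEven.charP_equiv (Subgroup.subgroupOfEquivOfLe hH.2.1) h
  · by_contra hYP
    exact hPH.not_ge (hmin ⟨hRP, hPH.le.trans hH.2.1, hYP⟩ hPH.le)

end Cfsg.Agent.S2852
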