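import Cfsg.Statements.S2853
import Cfsg.Agent.Lib.LocalEven.HFamily
-- import your own Cfsg.Agent.* helpers here

set_option autoImplicit false
open Cfsg

namespace Cfsg.Agent.S2853

/-- Standing hypotheses: G a finite group, S a Sylow p-subgroup, Q a nontrivial large p-subgroup of G contained in S, M a subgroup containing S with the basic property (M ∈ 𝔐_G(S)); Y_M the largest p-reduced normal subgroup of M and M† = M·C_G(Y_M). Suppose Y_M is char-p-tall and asymmetric in G and H ∈ ℌ_G(O_p(M)). Then every Sylow p-subgroup of H ∩ M† is a Sylow p-subgroup of H; O_p(H) normalizes O_p(M) and Y_M; O^p(H) = [O^p(H), Y_M] and H = O^p(H)·O_p(M); O^p(H)·Y_M is the normal closure of Y_M in H; and H is the normal closure of O_p(M) in H. Here O^p(H) is the subgroup generated by the elements of H of order prime to p. -/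
theorem result {G : Type*} [Group G] [Finite G] {p : ℕ} [Fact p.Prime] (S : Sylow p G) (Q : Subgroup G) (hQp : IsPGroup p ↥Q) (hQ1 : Q ≠ ⊥) (hQS : Q ≤ (S : Subgroup G)) (hQ : Cfsg.IsLarge Q) (M : Subgroup G) (hSM : (S : Subgroup G) ≤ M) (hM : Cfsg.IsInFrakM p M) (htall : Cfsg.IsCharPTall p (Cfsg.largestPReducedOf p M)) (hasym : ¬ Cfsg.IsSymmetricIn (Cfsg.largestPReducedOf p M)) (H : Subgroup G) (hH : Cfsg.IsInFrakH p M H) (R : Subgroup G) (hR : R = (Cfsg.pResidual p ↥H).map H.subtype) : (∀ T : Sylow p ↥(H ⊓ (M ⊔ Subgroup.centralizer (((Cfsg.largestPReducedOf p M) : Subgroup G) : Set G))), ∃ P : Sylow p ↥H, ((P : Subgroup ↥H).map H.subtype) = (T : Subgroup ↥(H ⊓ (M ⊔ Subgroup.centralizer (((Cfsg.largestPReducedOf p M) : Subgroup G) : Set G)))).map (H ⊓ (M ⊔ Subgroup.centralizer (((Cfsg.largestPReducedOf p M) : Subgroup G) : Set G))).subtype) ∧ Cfsg.pCoreOf p H ≤ Subgroup.normalizer (((Cfsg.pCoreOf p M) : Subgroup G) : Set G) ⊓ Subgroup.normalizer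 (((Cfsg.largestPReducedOf p M) : Subgroup G) : Set G) ∧ ⁅R, (Cfsg.largestPReducedOf p M)⁆ = R ∧ R ⊔ (Cfsg.pCoreOf p M) = H ∧ R ⊔ (Cfsg.largestPReducedOf p M) = (Subgroup.normalClosure ((((Cfsg.largestPReducedOf p M)).subgroupOf H : Subgroup ↥H) : Set ↥H)).map H.subtype ∧ (Subgroup.normalClosure ((((Cfsg.pCoreOf p M)).subgroupOf H : Subgroup ↥H) : Set ↥H)).map H.subtype = H := by
  obtain ⟨hHc, hOH, hYH, hmin⟩ := hH
  have hwc := CfsgLib.LocalEven.frakM_weaklyClosed S hQp hQ1 hQ hSM hM hasym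
  set O := Cfsg.pCoreOf p M with hO
  set Y := Cfsg.largestPReducedOf p M with hY
  set D := M ⊔ Subgroup.centralizer ((Y : Subgroup G) : Set G) with hD
  have hYpr := CfsgLib.LocalEven.isPRedIn_largest (p := p) M
  have hOp : IsPGroup p O := CfsgLib.LocalEven.isPGroup_pCoreOf (p := p) M
  have hYO : Y ≤ O := CfsgLib.LocalEven.le_pCoreOf hYpr.1 hYpr.2.1
    (CfsgLib.LocalEven.isPGroup_of_exponent hYpr.2.2.1.2)
  have hND : Subgroup.normalizer (O : Set G) ≤ D :=
    CfsgLib.LocalEven.frakM_normalizer_le S hQp hQ1 hQ hSM hM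
      (CfsgLib.LocalEven.frakM_pCoreOf_ne_bot (p := p) hM) hOp
      (CfsgLib.LocalEven.le_normalizer_pCoreOf p M)
  have hDY : D ≤ Subgroup.normalizer (Y : Set G) :=
    sup_le hYpr.2.1 (Subgroup.centralizer_le_normalizer _)
  have hOY : O ≤ Subgroup.normalizer (Y : Set G) :=
    Subgroup.le_normalizer.trans (hND.trans hDY)
  obtain ⟨h6, h4, h3, h5⟩ :=
    CfsgLib.LocalEven.HFamily.structure_of_member hOp hYO hOY hOH hYH hmin
  have hcore : Cfsg.pCoreOf p H ≤ Subgroup.normalizer (O : Set G) :=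
    CfsgLib.LocalEven.HFamily.core_le_normalizer hwc (CfsgLib.LocalEven.isPGroup_pCoreOf (p := p) H)
      (hOH.trans (CfsgLib.LocalEven.le_normalizer_pCoreOf p H))
  refine ⟨fun T => ?_, le_inf hcore (hcore.trans (hND.trans hDY)), by rw [hR]; exact h3,
    by rw [hR]; exact h4, by rw [hR]; exact h5, h6⟩
  obtain ⟨P₀, hP₀⟩ := (hOp.comap_subtype (K := H)).exists_le_sylow
  have hP₀D : (P₀ : Subgroup ↥H).map H.subtype ≤ H ⊓ D := by
    refine le_inf (Subgroup.map_subtype_le _) (le_trans ?_ hND)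
    exact CfsgLib.LocalEven.wc_le_normalizer hwc (P₀.isPGroup'.map _)
      (fun r hr => ⟨⟨r, hOH hr⟩, hP₀ hr, rfl⟩)
  obtain ⟨T₀, hT₀⟩ :=
    ((P₀.isPGroup'.map H.subtype).comap_subtype (K := H ⊓ D)).exists_le_sylow
  have hc2 : Nat.card ↥(P₀ : Subgroup ↥H) ≤ Nat.card ↥(T : Subgroup ↥(H ⊓ D)) := by
    rw [Sylow.card_eq_multiplicity T, ← Sylow.card_eq_multiplicity T₀,
      ← Subgroup.card_map_of_injective H.subtype_injective,
      ← Nat.card_congr (Subgroup.subgroupOfEquivOfLe hP₀D).toEquiv]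
    exact Subgroup.card_le_of_le hT₀
  set T' := (T : Subgroup ↥(H ⊓ D)).map (H ⊓ D).subtype with hT'
  have hT'H : T' ≤ H := (Subgroup.map_subtype_le _).trans inf_le_left
  obtain ⟨P, hP⟩ := ((T.isPGroup'.map (H ⊓ D).subtype).comap_subtype (K := H)).exists_le_sylow
  refine ⟨P, (Subgroup.eq_of_le_of_card_ge (H := T') (K := (P : Subgroup ↥H).map H.subtype)
    (fun x hx => ⟨⟨x, hT'H hx⟩, hP hx, rfl⟩) ?_).symm⟩
  rw [hT', Subgroup.card_map_of_injective (H ⊓ D).subtype_injective,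
    Subgroup.card_map_of_injective H.subtype_injective, Sylow.card_eq_multiplicity P,
    ← Sylow.card_eq_multiplicity P₀]
  exact hc2

end Cfsg.Agent.S2853
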