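import Cfsg.Statements.S2854
import Cfsg.Agent.Lib.LocalEven.HFamily
-- import your own Cfsg.Agent.* helpers here

set_option autoImplicit false
open Cfsg

namespace Cfsg.Agent.S2854

/-- Standing hypotheses: G a finite group, S a Sylow p-subgroup, Q a nontrivial large p-subgroup of G contained in S, M a subgroup containing S with the basic property (M ∈ 𝔐_G(S)); Y_M the largest p-reduced normal subgroup of M and M† = M·C_G(Y_M). Suppose Y_M is asymmetric in G, H ∈ ℌ_G(O_p(M)), and H ≤ N_G(gQg⁻¹) for some g ∈ G. Then gQg⁻¹ ≤ O_p(H·gQg⁻¹) ≤ N_G(O_p(M)) ≤ N_G(Y_M) = M†; H is normal in H·gQg⁻¹ with O^p(H) = O^p(H·gQg⁻¹); and H·gQg⁻¹ is p-irreducible. -/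
theorem result {G : Type*} [Group G] [Finite G] {p : ℕ} [Fact p.Prime] (S : Sylow p G) (Q : Subgroup G) (hQp : IsPGroup p ↥Q) (hQ1 : Q ≠ ⊥) (hQS : Q ≤ (S : Subgroup G)) (hQ : Cfsg.IsLarge Q) (M : Subgroup G) (hSM : (S : Subgroup G) ≤ M) (hM : Cfsg.IsInFrakM p M) (hasym : ¬ Cfsg.IsSymmetricIn (Cfsg.largestPReducedOf p M)) (H : Subgroup G) (hH : Cfsg.IsInFrakH p M H) (g : G) (hHQ : H ≤ Subgroup.normalizer ((((Q : Subgroup G).map (MulAut.conj (g : G)).toMonoidHom) : Subgroup G) : Set G)) : ((Q : Subgroup G).map (MulAut.conj (g : G)).toMonoidHom) ≤ Cfsg.pCoreOf p (H ⊔ ((Q : Subgroup G).map (MulAut.conj (g : G)).toMonoidHom)) ∧ Cfsg.pCoreOf p (H ⊔ ((Q : Subgroup G).map (MulAut.conj (g : G)).toMonoidHom)) ≤ Subgroup.normalizer (((Cfsg.pCoreOf p M) : Subgroup G) : Set G) ∧ Subgroup.normalizer (((Cfsg.pCoreOf p M) : Subgroup G) : Set G) ≤ Subgroup.normalizer (((Cfsg.largestPReducedOf p M) : Subgroup G) : Set G) ∧ Subgroup.normalizer (((Cfsg.largestPReducedOf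 p M) : Subgroup G) : Set G) = (M ⊔ Subgroup.centralizer (((Cfsg.largestPReducedOf p M) : Subgroup G) : Set G)) ∧ (H.subgroupOf (H ⊔ ((Q : Subgroup G).map (MulAut.conj (g : G)).toMonoidHom))).Normal ∧ (Cfsg.pResidual p ↥H).map H.subtype = (Cfsg.pResidual p ↥(H ⊔ ((Q : Subgroup G).map (MulAut.conj (g : G)).toMonoidHom))).map (H ⊔ ((Q : Subgroup G).map (MulAut.conj (g : G)).toMonoidHom)).subtype ∧ Cfsg.IsPIrreducible p ↥(H ⊔ ((Q : Subgroup G).map (MulAut.conj (g : G)).toMonoidHom)) := by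
  obtain ⟨hHc, hOH, hYH, hmin⟩ := hH
  have hwc := CfsgLib.LocalEven.frakM_weaklyClosed S hQp hQ1 hQ hSM hM hasym
  set O := Cfsg.pCoreOf p M with hO
  set Y := Cfsg.largestPReducedOf p M with hY
  set D := M ⊔ Subgroup.centralizer ((Y : Subgroup G) : Set G) with hD
  have hYpr := CfsgLib.LocalEven.isPRedIn_largest (p := p) M
  have hOp : IsPGroup p O := CfsgLib.LocalEven.isPGroup_pCoreOf (p := p) M
  have hYO : Y ≤ O := CfsgLib.LocalEven.le_pCoreOf hYpr.1 hYpr.2.1
    (CfsgLib.LocalEven.isPGroup_of_exponent hYpr.2.2.1.2)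
  have hND : Subgroup.normalizer (O : Set G) ≤ D :=
    CfsgLib.LocalEven.frakM_normalizer_le S hQp hQ1 hQ hSM hM
      (CfsgLib.LocalEven.frakM_pCoreOf_ne_bot (p := p) hM) hOp
      (CfsgLib.LocalEven.le_normalizer_pCoreOf p M)
  have hDY : D ≤ Subgroup.normalizer (Y : Set G) :=
    sup_le hYpr.2.1 (Subgroup.centralizer_le_normalizer _)
  have hOY : O ≤ Subgroup.normalizer (Y : Set G) :=
    Subgroup.le_normalizer.trans (hND.trans hDY)
  obtain ⟨h6, h4, -, -⟩ :=
    CfsgLib.LocalEven.HFamily.structure_of_member hOp hYO hOY hOH hYH hmin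
  set P := (Q : Subgroup G).map (MulAut.conj (g : G)).toMonoidHom with hP
  have hPp : IsPGroup p P := hQp.map _
  set X := H ⊔ P with hX
  have hPX : P ≤ Cfsg.pCoreOf p X := CfsgLib.LocalEven.le_pCoreOf le_sup_right
    (sup_le hHQ Subgroup.le_normalizer) hPp
  have hXN : Cfsg.pCoreOf p X ≤ Subgroup.normalizer (O : Set G) :=
    CfsgLib.LocalEven.HFamily.core_le_normalizer hwc (CfsgLib.LocalEven.isPGroup_pCoreOf (p := p) X)
      ((hOH.trans le_sup_left).trans (CfsgLib.LocalEven.le_normalizer_pCoreOf p X))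
  have hPO : P ≤ Subgroup.normalizer (O : Set G) := hPX.trans hXN
  have hPH : P ≤ Subgroup.normalizer (H : Set G) := by
    intro q hq
    refine CfsgLib.LocalEven.WeakClosureFactor.mem_normalizer_of_mapsTo fun x hx => ?_
    rw [← h6] at hx
    obtain ⟨y, hy, rfl⟩ := hx
    suffices Subgroup.normalClosure ((O.subgroupOf H : Subgroup ↥H) : Set ↥H) ≤
        H.comap ((MulAut.conj q).toMonoidHom.comp H.subtype) from this hy
    rw [Subgroup.normalClosure, Subgroup.closure_le]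
    intro z hz
    obtain ⟨o, ho, hoz⟩ := Group.mem_conjugatesOfSet_iff.1 hz
    obtain ⟨c, hc⟩ := isConj_iff.1 hoz
    have hq' : (c : G)⁻¹ * q * c ∈ P := by
      have := (Subgroup.mem_normalizer_iff.1 (hHQ (Subgroup.inv_mem _ c.2)) q).1 hq
      rwa [inv_inv] at this
    have hoG : ((c : G)⁻¹ * q * c) * (o : G) * ((c : G)⁻¹ * q * c)⁻¹ ∈ O :=
      (Subgroup.mem_normalizer_iff.1 (hPO hq') (o : G)).1 ho
    show q * (z : G) * q⁻¹ ∈ H
    rw [← hc]
    push_cast
    rw [show q * ((c : G) * o * (c : G)⁻¹) * q⁻¹ =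
      (c : G) * (((c : G)⁻¹ * q * c) * o * ((c : G)⁻¹ * q * c)⁻¹) * (c : G)⁻¹ by group]
    exact H.mul_mem (H.mul_mem c.2 (hOH hoG)) (H.inv_mem c.2)
  have hHX : X ≤ Subgroup.normalizer (H : Set G) := sup_le Subgroup.le_normalizer hPH
  haveI hn : (H.subgroupOf X).Normal :=
    (Subgroup.normal_subgroupOf_iff_le_normalizer le_sup_left).2 hHX
  have hres : CfsgLib.LocalEven.WeakClosureFactor.pr p H = CfsgLib.LocalEven.WeakClosureFactor.pr p X := by
    refine le_antisymm ?_ ?_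
    · exact CfsgLib.LocalEven.WeakClosureFactor.pr_le_of fun x hx hc =>
        CfsgLib.LocalEven.WeakClosureFactor.mem_pr (le_sup_left (b := P) hx) hc
    · exact CfsgLib.LocalEven.WeakClosureFactor.pr_le_of fun x hx hc =>
        CfsgLib.LocalEven.WeakClosureFactor.mem_pr
          (CfsgLib.LocalEven.WeakClosureFactor.mem_left_of_coprime hPp hPH hx hc) hc
  refine ⟨hPX, hXN, hND.trans hDY, le_antisymm ?_ hDY, hn, hres, ?_⟩
  · exact CfsgLib.LocalEven.frakM_normalizer_le S hQp hQ1 hQ hSM hM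
      (CfsgLib.LocalEven.frakM_ne_bot S hSM hM)
      (CfsgLib.LocalEven.isPGroup_of_exponent hYpr.2.2.1.2) hYpr.2.1
  · obtain ⟨T⟩ : Nonempty (Sylow p ↥X) := inferInstance
    have hnotH : ¬ Cfsg.IsPClosed p ↥(H.subgroupOf X) := by
      intro hcl
      obtain ⟨TH⟩ : Nonempty (Sylow p ↥(H.subgroupOf X)) := inferInstance
      have hYH' : Y ≤ H := hYO.trans hOH
      have hYp : IsPGroup p Y := hOp.to_le hYO
      have hn2 := hcl TH
      have hY2 : (Y.subgroupOf X).subgroupOf (H.subgroupOf X) ≤ (TH : Subgroup _) := by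
        obtain ⟨TY, hTY⟩ := ((hYp.comap_subtype (K := X)).comap_subtype
          (K := H.subgroupOf X)).exists_le_sylow
        have := Sylow.unique_of_normal TH hn2
        exact hTY.trans (congrArg Sylow.toSubgroup (Subsingleton.elim TY TH)).le
      have h1 : (TH : Subgroup _) ≤ Cfsg.pCore p ↥(H.subgroupOf X) :=
        CfsgLib.Base.le_pCore (hN := hn2) TH.isPGroup'
      have h2 := Subgroup.map_mono (f := (H.subgroupOf X).subtype) (hY2.trans h1)
      have h3 : (Cfsg.pCore p ↥(H.subgroupOf X)).map (H.subgroupOf X).subtype =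
          Cfsg.pCore p ↥X ⊓ H.subgroupOf X := CfsgLib.Base.map_pCore_eq_inf _
      rw [h3] at h2
      apply hYH
      intro y hy
      have h4 := h2 ⟨⟨⟨y, le_sup_left (b := P) (hYH' hy)⟩, hYH' hy⟩, hy, rfl⟩
      have h5 : Cfsg.pCoreOf p X ⊓ H ≤ Cfsg.pCoreOf p H := CfsgLib.LocalEven.le_pCoreOf inf_le_right
        ((le_inf ((le_sup_left : H ≤ X).trans (CfsgLib.LocalEven.le_normalizer_pCoreOf p X))
          Subgroup.le_normalizer).trans Subgroup.inf_normalizer_le_normalizer_inf)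
        ((CfsgLib.LocalEven.isPGroup_pCoreOf (p := p) X).to_le inf_le_left)
      exact h5 ⟨⟨_, h4.1, rfl⟩, hYH' hy⟩
    refine ⟨fun hcl => hnotH ?_, fun N hN hNcl => ?_⟩
    · rw [CfsgLib.LocalEven.isPClosed_subgroup_iff T (H.subgroupOf X)]
      exact inf_le_left.trans ((CfsgLib.LocalEven.isPClosed_iff_sylow_le T).1 hcl)
    set P' := P.subgroupOf X
    haveI : P'.Normal := (Subgroup.normal_subgroupOf_iff_le_normalizer le_sup_right).2
      (sup_le hHQ Subgroup.le_normalizer)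
    have hP'p : IsPGroup p P' := hPp.comap_subtype
    set N₁ := (N ⊔ P') ⊓ H.subgroupOf X with hN₁
    have hN₁G : N₁.map X.subtype ≤ H := by
      rintro _ ⟨x, hx, rfl⟩
      exact hx.2
    have hHN₁ : H ≤ Subgroup.normalizer ((N₁.map X.subtype : Subgroup G) : Set G) := by
      intro x hx
      refine CfsgLib.LocalEven.WeakClosureFactor.mem_normalizer_of_mapsTo ?_
      rintro _ ⟨y, hy, rfl⟩
      exact ⟨⟨x, le_sup_left (b := P) hx⟩ * y * ⟨x, le_sup_left (b := P) hx⟩⁻¹,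
        (inferInstance : N₁.Normal).conj_mem y hy _, rfl⟩
    have hR : CfsgLib.LocalEven.WeakClosureFactor.pr p H ≤ N₁.map X.subtype := by
      refine CfsgLib.LocalEven.HFamily.irreducible hOp hYO hOY hOH hYH hmin hN₁G hHN₁ fun hcl => ?_
      -- then `N ⊔ P'` is `p`-closed
      apply hNcl
      obtain ⟨TH⟩ : Nonempty (Sylow p ↥H) := inferInstance
      haveI : ((N₁.map X.subtype).subgroupOf H).Normal :=
        (Subgroup.normal_subgroupOf_iff_le_normalizer hN₁G).2 hHN₁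
      have hin : ∀ x ∈ N₁, (∃ j, orderOf x = p ^ j) → x ∈ Cfsg.pCore p ↥X := by
        intro x hx hj
        obtain ⟨j, hj⟩ := hj
        have hxH : (x : G) ∈ H := hx.2
        have hzp : IsPGroup p ↥(Subgroup.zpowers (⟨x, hxH⟩ : ↥H)) :=
          IsPGroup.of_card (n := j) (by
            rw [Nat.card_zpowers, ← hj, Subgroup.orderOf_mk, Subgroup.orderOf_coe])
        obtain ⟨TH', hTH'⟩ := hzp.exists_le_sylow
        have h1 := (CfsgLib.LocalEven.isPClosed_subgroup_iff TH'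
          ((N₁.map X.subtype).subgroupOf H)).1 hcl ⟨hTH' (Subgroup.mem_zpowers _), x, hx, rfl⟩
        have h2 : Cfsg.pCoreOf p H ≤ Cfsg.pCoreOf p X :=
          CfsgLib.LocalEven.HFamily.pCoreOf_le_of_normal le_sup_left hHX
        obtain ⟨y, hy, hyx⟩ := h2 ⟨_, h1, rfl⟩
        rwa [Subtype.ext (show (y : G) = (x : G) from hyx)] at hy
      rw [CfsgLib.LocalEven.isPClosed_subgroup_iff T N]
      rintro x ⟨hxT, hxN⟩
      have hP'c : P' ≤ Cfsg.pCore p ↥X := CfsgLib.Base.le_pCore hP'p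
      open scoped Pointwise in
      have hsplit : (x : G) ∈ (H : Set G) * (P : Set G) := by
        rw [← Subgroup.coe_mul_of_right_le_normalizer_left H P hPH]
        exact x.2
      obtain ⟨a, ha, b, hb, hab⟩ := Set.mem_mul.1 hsplit
      set bX : ↥X := ⟨b, le_sup_right (a := H) hb⟩
      have hbP : bX ∈ P' := hb
      have hbT : bX ∈ (T : Subgroup ↥X) :=
        (hP'c.trans (CfsgLib.Base.pCore_le_sylow T)) hbP
      have hxa : x * bX⁻¹ ∈ N₁ := by
        refine ⟨(N ⊔ P').mul_mem (Subgroup.mem_sup_left hxN)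
          ((N ⊔ P').inv_mem (Subgroup.mem_sup_right hbP)), ?_⟩
        show (x : G) * b⁻¹ ∈ H
        rw [← hab, mul_inv_cancel_right]
        exact ha
      have hxb : x * bX⁻¹ ∈ Cfsg.pCore p ↥X := hin _ hxa (by
        obtain ⟨j, hj⟩ := IsPGroup.iff_orderOf.1 T.isPGroup'
          ⟨_, mul_mem hxT ((T : Subgroup ↥X).inv_mem hbT)⟩
        exact ⟨j, by rwa [Subgroup.orderOf_mk] at hj⟩)
      have := mul_mem hxb (hP'c hbP)
      rwa [inv_mul_cancel_right] at this
    show Cfsg.pResidual p ↥X ≤ N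
    rw [Cfsg.pResidual, Subgroup.closure_le]
    intro x hx
    have hxc : (orderOf (x : G)).Coprime p := by simpa using hx
    obtain ⟨y, hy, hyx⟩ := hR (hres.ge (CfsgLib.LocalEven.WeakClosureFactor.mem_pr x.2 hxc))
    rw [show y = x from Subtype.ext hyx] at hy
    refine CfsgLib.LocalEven.WeakClosureFactor.mem_left_of_coprime hP'p
      (le_top.trans (Subgroup.normalizer_eq_top (H := N)).ge) hy.1 hx

end Cfsg.Agent.S2854
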