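import Cfsg.Statements.S2861
import Cfsg.Agent.Lib.LocalEven.FrakLSection
import Cfsg.Agent.Lib.LocalEven.PReduced
-- import your own Cfsg.Agent.* helpers here

set_option autoImplicit false
open Cfsg

namespace Cfsg.Agent.S2861

/-- Standing hypotheses: G a finite group, S a Sylow p-subgroup, Q a nontrivial large p-subgroup of G contained in S, M a subgroup containing S with the basic property (M ∈ 𝔐_G(S)); Y_M the largest p-reduced normal subgroup of M and M† = M·C_G(Y_M). Let L ∈ 𝔏_G(Y_M) (L ∈ 𝔏_G(Y_M): Y_M ≤ L; O_p(L) is the normal closure in L of Y_M ∩ O_p(L) and normalizes Y_M; L is Y_M-minimal of characteristic p with N_L(Y_M) its unique maximal subgroup over Y_M; and L/O_p(L) ≅ SL₂(q) with q = |Y_M : Y_M ∩ O_p(L)|, or p = 2 and L/O_p(L) is a Suzuki group Sz(q) or dihedral of order 2r, r an odd prime) and A = O_p(L). Then Y_M·A/A is the unique nontrivial elementary abelian normal p-subgroup of N_L(Y_M)/A. -/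
theorem result {G : Type*} [Group G] [Finite G] {p : ℕ} [Fact p.Prime] (S : Sylow p G) (Q : Subgroup G) (hQp : IsPGroup p ↥Q) (hQ1 : Q ≠ ⊥) (hQS : Q ≤ (S : Subgroup G)) (hQ : Cfsg.IsLarge Q) (M : Subgroup G) (hSM : (S : Subgroup G) ≤ M) (hM : Cfsg.IsInFrakM p M) (L : Subgroup G) (hL : Cfsg.IsInFrakL p M L) (NL : Subgroup G) (hNL : NL = L ⊓ Subgroup.normalizer (((Cfsg.largestPReducedOf p M) : Subgroup G) : Set G)) [hn : (((Cfsg.pCoreOf p L)).subgroupOf NL).Normal] : let Ybar : Subgroup (↥NL ⧸ ((Cfsg.pCoreOf p L)).subgroupOf NL) := (((Cfsg.largestPReducedOf p M)).subgroupOf NL).map (QuotientGroup.mk' (((Cfsg.pCoreOf p L)).subgroupOf NL)); Ybar ≠ ⊥ ∧ Ybar.Normal ∧ Cfsg.IsElementaryAbelian p Ybar ∧ ∀ (V : Subgroup (↥NL ⧸ ((Cfsg.pCoreOf p L)).subgroupOf NL)), V.Normal → Cfsg.IsElementaryAbelian p V → V ≠ ⊥ → V = Ybar := by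
  subst hNL
  intro Ybar
  classical
  set Y := Cfsg.largestPReducedOf p M with hYdef
  set A := Cfsg.pCoreOf p L with hAdef
  set NL := L ⊓ Subgroup.normalizer (Y : Set G) with hNLdef
  obtain ⟨hYL, -, hAN, hmin, -, ⟨-, hmax⟩, htypes⟩ := hL
  have hYred := CfsgLib.LocalEven.isPReducedNormal_largestPReduced p ↥M
  have hYexp : ∀ y ∈ Y, y ^ p = 1 := by
    rintro _ ⟨y, hy, rfl⟩
    rw [← map_pow, hYred.2.1.2 y hy, map_one]
  have hYcomm : ∀ a ∈ Y, ∀ b ∈ Y, a * b = b * a := by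
    rintro _ ⟨a, ha, rfl⟩ _ ⟨b, hb, rfl⟩
    haveI := hYred.2.1.1
    rw [← map_mul, ← map_mul]
    exact congrArg _ (congrArg Subtype.val (hYred.2.1.1.is_comm.comm
      (⟨a, ha⟩ : Cfsg.largestPReduced p ↥M) ⟨b, hb⟩))
  have hYNL : Y ≤ NL := le_inf hYL Subgroup.le_normalizer
  have hNLL : NL ≤ L := inf_le_left
  have hmemA : ∀ x : ↥L, (x : G) ∈ A ↔ x ∈ Cfsg.pCore p ↥L := fun x =>
    ⟨fun ⟨y, hy, hyx⟩ => Subtype.ext hyx ▸ hy, fun hx => ⟨x, hx, rfl⟩⟩
  have hANL : A ≤ NL := le_inf (Subgroup.map_subtype_le _) hAN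
  have key : ∀ {X : Type} [Group X] [Finite X] (η : ↥L →* X), Function.Surjective η →
      η.ker = Cfsg.pCore p ↥L → Nontrivial X → ∀ q : ℕ,
      (∃ (U : Sylow p X) (Ω : Subgroup X), CfsgLib.LocalEven.IsRootData p q U Ω) →
      ((∀ (Z : Subgroup X), Z ≠ ⊥ → IsPGroup p Z → (∀ z ∈ Z, z ^ p = 1) → Nat.card Z = q) ∨
        q = (Y ⊓ A).relIndex Y) →
      Ybar ≠ ⊥ ∧ Ybar.Normal ∧ Cfsg.IsElementaryAbelian p Ybar ∧
        ∀ (V : Subgroup (↥NL ⧸ A.subgroupOf NL)), V.Normal → Cfsg.IsElementaryAbelian p V →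
          V ≠ ⊥ → V = Ybar := by
    intro X _ _ η hη hker hX q ⟨U, Ω, hroot⟩ hq
    let φ : ↥NL →* X := η.comp (Subgroup.inclusion hNLL)
    have hφker : φ.ker = A.subgroupOf NL := by
      ext x
      rw [MonoidHom.mem_ker, Subgroup.mem_subgroupOf]
      show η _ = 1 ↔ _
      rw [← MonoidHom.mem_ker, hker, ← hmemA]
      rfl
    let ψ : ↥NL ⧸ A.subgroupOf NL →* X := QuotientGroup.lift _ φ hφker.ge
    have hψi : Function.Injective ψ := by
      rw [← MonoidHom.ker_eq_bot_iff, eq_bot_iff]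
      intro x hx
      obtain ⟨x, rfl⟩ := QuotientGroup.mk_surjective x
      rw [MonoidHom.mem_ker] at hx
      exact (QuotientGroup.eq_one_iff x).2 (hφker ▸ (MonoidHom.mem_ker.2 hx))
    have hψmap : Ybar.map ψ = (Y.subgroupOf NL).map φ := by
      rw [Subgroup.map_map]
      rfl
    have hbne : Ybar ≠ ⊥ := by
      intro he
      rw [Subgroup.map_eq_bot_iff, QuotientGroup.ker_mk'] at he
      have hle : Y.subgroupOf L ≤ Cfsg.pCore p ↥L := fun x hx =>
        (hmemA x).1 (he (show (⟨x, hYNL hx⟩ : ↥NL) ∈ Y.subgroupOf NL from hx))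
      haveI : (Cfsg.pCore p ↥L).Normal := hker ▸ inferInstance
      have htop : Cfsg.pCore p ↥L = ⊤ :=
        top_le_iff.1 (hmin.1 ▸ Subgroup.normalClosure_le_normal hle)
      obtain ⟨x, hx⟩ := exists_ne (1 : X)
      obtain ⟨x, rfl⟩ := hη x
      exact hx (MonoidHom.mem_ker.1 (hker.symm ▸ htop.symm ▸ Subgroup.mem_top _))
    have hYn : (Y.subgroupOf NL).Normal := ⟨fun n hn g =>
      (Subgroup.mem_normalizer_iff.1 g.2.2 (n : G)).1 hn⟩
    have hbab : Cfsg.IsElementaryAbelian p Ybar := by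
      refine ⟨⟨⟨?_⟩⟩, ?_⟩
      · rintro ⟨_, a, ha, rfl⟩ ⟨_, b, hb, rfl⟩
        refine Subtype.ext ?_
        show QuotientGroup.mk' _ a * QuotientGroup.mk' _ b = QuotientGroup.mk' _ b * QuotientGroup.mk' _ a
        rw [← map_mul, ← map_mul]
        exact congrArg _ (Subtype.ext (hYcomm _ ha _ hb))
      · rintro _ ⟨a, ha, rfl⟩
        rw [← map_pow, show a ^ p = 1 from Subtype.ext (hYexp _ ha), map_one]
    refine ⟨hbne, hYn.map _ (QuotientGroup.mk'_surjective _), hbab, ?_⟩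
    intro V hVn hVab hV1
    refine Subgroup.map_injective hψi ?_
    rw [hψmap]
    have hexpφ : ∀ y ∈ (Y.subgroupOf NL).map φ, y ^ p = 1 := by
      rintro _ ⟨a, ha, rfl⟩
      rw [← map_pow, show a ^ p = 1 from Subtype.ext (hYexp _ ha), map_one]
    have hpgrp : ∀ (Z : Subgroup X), (∀ z ∈ Z, z ^ p = 1) → IsPGroup p Z := fun Z hZ z =>
      ⟨1, Subtype.ext (by simpa using hZ z z.2)⟩
    have hcard : Nat.card ((Y.subgroupOf NL).map φ) = q := by
      rcases hq with h | h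
      · refine h _ ?_ (hpgrp _ hexpφ) hexpφ
        rw [← hψmap, Ne, Subgroup.map_eq_bot_iff_of_injective _ hψi]
        exact hbne
      · rw [h, ← Subgroup.relIndex_ker, hφker, Subgroup.relIndex_subgroupOf hYNL, inf_comm,
          Subgroup.inf_relIndex_right]
    have hVexp : ∀ v ∈ V.map ψ, v ^ p = 1 := by
      rintro _ ⟨v, hv, rfl⟩
      rw [← map_pow, hVab.2 v hv, map_one]
    refine hroot.unique (N := φ.range) (hpgrp _ hexpφ) hexpφ hcard ?_ ?_ (hpgrp _ hVexp) hVexp ?_ ?_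
    · intro K hK hKtop k hk
      obtain ⟨l, rfl⟩ := hη k
      have hlt : (K.comap η).map L.subtype < L := by
        refine lt_of_le_of_ne (Subgroup.map_subtype_le _) fun he => hKtop ?_
        refine eq_top_iff.2 fun x _ => ?_
        obtain ⟨x, rfl⟩ := hη x
        obtain ⟨y, hy, hyx⟩ : (x : G) ∈ (K.comap η).map L.subtype := he.symm ▸ x.2
        exact Subtype.ext hyx ▸ hy
      have hle : Y ≤ (K.comap η).map L.subtype := fun y hy =>
        ⟨⟨y, hYL hy⟩, hK ⟨⟨y, hYNL hy⟩, hy, rfl⟩, rfl⟩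
      have := hmax _ hle hlt ⟨l, hk, rfl⟩
      exact ⟨⟨l, this⟩, rfl⟩
    · rintro _ ⟨v, -, rfl⟩
      obtain ⟨v, rfl⟩ := QuotientGroup.mk_surjective v
      exact ⟨v, rfl⟩
    · rwa [Ne, Subgroup.map_eq_bot_iff_of_injective _ hψi]
    · rintro _ ⟨n, rfl⟩ _ ⟨v, hv, rfl⟩
      refine ⟨QuotientGroup.mk n * v * (QuotientGroup.mk n)⁻¹, hVn.conj_mem v hv _, ?_⟩
      rw [map_mul, map_mul, map_inv]
      rfl
  have kerE : ∀ {X : Type} [Group X] (e : ↥L ⧸ Cfsg.pCore p ↥L ≃* X),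
      (e.toMonoidHom.comp (QuotientGroup.mk' (Cfsg.pCore p ↥L))).ker = Cfsg.pCore p ↥L := by
    intro X _ e
    ext x
    simp [MonoidHom.mem_ker]
  rcases htypes with ⟨F, _, _, hFc, ⟨e⟩⟩ | ⟨hp2, F, _, _, m, hF, hFc, ⟨e⟩⟩ | ⟨hp2, r, hr, hr2, ⟨e⟩⟩
  · have hYp : IsPGroup p Y := fun y => ⟨1, Subtype.ext (by simpa using hYexp y y.2)⟩
    obtain ⟨k, hk⟩ := hYp.index (Subgroup.subgroupOf (Y ⊓ A) Y)
    haveI : CharP F p := charP_of_card_eq_prime_pow (f := k) (hFc.trans hk)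
    refine key (e.toMonoidHom.comp (QuotientGroup.mk' _))
      (e.surjective.comp (QuotientGroup.mk'_surjective _))
      (kerE e) 
      ⟨⟨1, CfsgLib.Classical.uSL 1, fun h => one_ne_zero (α := F) (by
        have := congrArg (fun g : Matrix.SpecialLinearGroup (Fin 2) F => g.1 0 1) h
        simpa [CfsgLib.Classical.uSL_coe] using this.symm)⟩⟩ (Nat.card F)
      (CfsgLib.LocalEven.exists_rootData_SL2 F p) (Or.inr ?_)
    rw [Nat.card_eq_fintype_card, hFc]
  · subst hp2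
    obtain ⟨U, Ω, hroot⟩ := CfsgLib.LocalEven.exists_rootData_Sz F hF
    haveI : Nontrivial ↥(Cfsg.Lie.Sz F (2 ^ (m + 1))) := by
      by_contra hc
      rw [not_nontrivial_iff_subsingleton] at hc
      exact hroot.not_normal (Subsingleton.elim _ _)
    refine key (e.toMonoidHom.comp (QuotientGroup.mk' _))
      (e.surjective.comp (QuotientGroup.mk'_surjective _))
      (kerE e) inferInstance (Nat.card F)
      ⟨U, Ω, hroot⟩ (Or.inr ?_)
    rw [Nat.card_eq_fintype_card, hFc]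
  · subst hp2
    haveI : NeZero r := ⟨hr.ne_zero⟩
    refine key (e.toMonoidHom.comp (QuotientGroup.mk' _))
      (e.surjective.comp (QuotientGroup.mk'_surjective _))
      (kerE e) inferInstance 2
      (CfsgLib.LocalEven.exists_rootData_dihedral hr hr2) (Or.inl ?_)
    intro Z hZ hZp _
    obtain ⟨k, hk⟩ := IsPGroup.iff_card.1 hZp
    have hdvd : Nat.card Z ∣ 2 * r := DihedralGroup.nat_card (n := r) ▸ Subgroup.card_subgroup_dvd_card Z
    rw [hk] at hdvd
    have hk1 : 1 < Nat.card Z := (Subgroup.one_lt_card_iff_ne_bot Z).2 hZ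
    rcases k with _ | _ | k
    · rw [hk] at hk1; simp at hk1
    · rw [hk, zero_add, pow_one]
    · exfalso
      have h4 : 2 * 2 ∣ 2 * r := (Dvd.intro (2 ^ k) (by ring)).trans hdvd
      exact hr2 ((Nat.prime_dvd_prime_iff_eq Nat.prime_two hr).1
        (Nat.dvd_of_mul_dvd_mul_left two_pos h4)).symm

end Cfsg.Agent.S2861
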