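import Cfsg.Statements.S2862
import Cfsg.Agent.Lib.LocalEven.AsymLLemma
-- import your own Cfsg.Agent.* helpers here

set_option autoImplicit false
open Cfsg

namespace Cfsg.Agent.S2862

/-- Standing hypotheses: G a finite group, S a Sylow p-subgroup, Q a nontrivial large p-subgroup of G contained in S, M a subgroup containing S with the basic property (M ∈ 𝔐_G(S)); Y_M the largest p-reduced normal subgroup of M and M† = M·C_G(Y_M). Suppose Y_M is char-p-tall and asymmetric in G, H ∈ ℌ_G(O_p(M)), and L is minimal among the subgroups of H containing Y_M with Y_M ≰ O_p(L). Then H = ⟨L, O_p(M)⟩ = ⟨hY_Mh⁻¹, O_p(M)⟩ for every h ∈ L outside N_L(Y_M); L is Y_M-minimal and of characteristic p, with N_L(Y_M) the unique maximal subgroup of L containing Y_M; [V, O^p(L)] ≠ 1 for every noncentral chief factor V/W of H inside O_p(H) (that is, O^p(L) does not act trivially on V/W); and the normal closure of O_p(L) ∩ Y_M in L lies in O_p(H).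 -/
theorem result {G : Type*} [Group G] [Finite G] {p : ℕ} [Fact p.Prime] (S : Sylow p G) (Q : Subgroup G) (hQp : IsPGroup p ↥Q) (hQ1 : Q ≠ ⊥) (hQS : Q ≤ (S : Subgroup G)) (hQ : Cfsg.IsLarge Q) (M : Subgroup G) (hSM : (S : Subgroup G) ≤ M) (hM : Cfsg.IsInFrakM p M) (htall : Cfsg.IsCharPTall p (Cfsg.largestPReducedOf p M)) (hasym : ¬ Cfsg.IsSymmetricIn (Cfsg.largestPReducedOf p M)) (H : Subgroup G) (hH : Cfsg.IsInFrakH p M H) (L : Subgroup G) (hLH : L ≤ H) (hYL : (Cfsg.largestPReducedOf p M) ≤ L) (hYO : ¬ (Cfsg.largestPReducedOf p M) ≤ (Cfsg.pCoreOf p L)) (hmin : ∀ L' : Subgroup G, L' ≤ L → (Cfsg.largestPReducedOf p M) ≤ L' → ¬ (Cfsg.largestPReducedOf p M) ≤ (Cfsg.pCoreOf p L') → L' = L) : (L ⊔ (Cfsg.pCoreOf p M) = H ∧ ∀ h ∈ L, h ∉ Subgroup.normalizer (((Cfsg.largestPReducedOf p M) : Subgroup G) : Set G) → (((Cfsg.largestPReducedOf p M) : Subgroup G).map (MulAut.conj (h : G)).toMonoidHom) ⊔ (Cfsg.pCoreOf p M) = H) ∧ (Cfsg.IsMinimalOver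 (((Cfsg.largestPReducedOf p M)).subgroupOf L) ∧ Subgroup.centralizer (Cfsg.pCore p ↥L : Set ↥L) ≤ Cfsg.pCore p ↥L ∧ L ⊓ Subgroup.normalizer (((Cfsg.largestPReducedOf p M) : Subgroup G) : Set G) < L ∧ ∀ X : Subgroup G, (Cfsg.largestPReducedOf p M) ≤ X → X < L → X ≤ L ⊓ Subgroup.normalizer (((Cfsg.largestPReducedOf p M) : Subgroup G) : Set G)) ∧ (∀ V W' : Subgroup G, V ≤ (Cfsg.pCoreOf p H) → H ≤ Subgroup.normalizer ((V : Subgroup G) : Set G) → H ≤ Subgroup.normalizer ((W' : Subgroup G) : Set G) → W' < V → (∀ Z' : Subgroup G, H ≤ Subgroup.normalizer ((Z' : Subgroup G) : Set G) → W' ≤ Z' → Z' ≤ V → Z' = W' ∨ Z' = V) → ¬ ⁅V, H⁆ ≤ W' → ¬ ⁅V, ((Cfsg.pResidual p ↥L).map (L).subtype)⁆ ≤ W') ∧ (Subgroup.normalClosure (((((Cfsg.pCoreOf p L) ⊓ (Cfsg.largestPReducedOf p M)).subgroupOf L : Subgroup ↥L)) : Set ↥L)).map L.subtype ≤ (Cfsg.pCoreOf p H) := by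
  obtain ⟨hHc, hOH, hYH, hHmin⟩ := hH
  set R := Cfsg.pCoreOf p M with hRdef
  set Y := Cfsg.largestPReducedOf p M with hYdef
  have hYpr := CfsgLib.LocalEven.isPRedIn_largest (p := p) M
  have hND : Subgroup.normalizer (R : Set G) ≤ M ⊔ Subgroup.centralizer ((Y : Subgroup G) : Set G) :=
    CfsgLib.LocalEven.frakM_normalizer_le S hQp hQ1 hQ hSM hM
      (CfsgLib.LocalEven.frakM_pCoreOf_ne_bot (p := p) hM) (CfsgLib.LocalEven.isPGroup_pCoreOf M)
      (CfsgLib.LocalEven.le_normalizer_pCoreOf p M)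
  have s : CfsgLib.LocalEven.AsymL.Setup p H R Y :=
    { Rp := CfsgLib.LocalEven.isPGroup_pCoreOf M
      YR := CfsgLib.LocalEven.le_pCoreOf hYpr.1 hYpr.2.1
        (CfsgLib.LocalEven.isPGroup_of_exponent hYpr.2.2.1.2)
      RcY := hYpr.pCoreOf_le_centralizer
      wc := CfsgLib.LocalEven.frakM_weaklyClosed S hQp hQ1 hQ hSM hM hasym
      NR := hND.trans (sup_le hYpr.2.1 (Subgroup.centralizer_le_normalizer _))
      asym := hasym
      charP := (CfsgLib.LocalEven.charP_iff H).1 hHc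
      RH := hOH
      YH := hYH
      min := hHmin }
  have l : CfsgLib.LocalEven.AsymL.LMin p H Y L := ⟨hLH, hYL, hYO, hmin⟩
  obtain ⟨hlt, huniq, -, -⟩ := CfsgLib.LocalEven.AsymL.unique_normalizer s l
  set N := L ⊓ Subgroup.normalizer ((Y : Subgroup G) : Set G) with hN
  refine ⟨⟨CfsgLib.LocalEven.AsymL.not_proper s l le_sup_right le_sup_left (sup_le hLH hOH),
    fun h hh hn => CfsgLib.LocalEven.AsymL.conj_sup_eq s l hh hn⟩, ⟨⟨?_, ?_⟩,
    (CfsgLib.LocalEven.charP_iff L).2 (CfsgLib.LocalEven.AsymL.charP_L s l), hlt, huniq⟩,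
    fun V W' hV hVn hWn hWV hmax hnc => CfsgLib.LocalEven.AsymL.chief s l hV hVn hWn hWV hmax hnc, ?_⟩
  · refine Subgroup.map_injective L.subtype_injective ?_
    rw [(CfsgLib.LocalEven.AsymL.LMin.structureL s l).1, ← MonoidHom.range_eq_map,
      Subgroup.range_subtype]
  · have hlift : ∀ K : Subgroup ↥L, K ≠ ⊤ → Y.subgroupOf L ≤ K → K ≤ N.subgroupOf L := by
      intro K hK hYK
      have h1 : K.map L.subtype < L := by
        refine lt_of_le_of_ne (Subgroup.map_subtype_le K) fun e => hK ?_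
        apply Subgroup.map_injective L.subtype_injective
        rw [e, ← MonoidHom.range_eq_map, Subgroup.range_subtype]
      have h2 : Y ≤ K.map L.subtype := fun y hy => ⟨⟨y, hYL hy⟩, hYK hy, rfl⟩
      intro x hx
      exact huniq _ h2 h1 ⟨x, hx, rfl⟩
    have hNt : N.subgroupOf L ≠ ⊤ := fun e => hlt.not_ge (Subgroup.subgroupOf_eq_top.1 e)
    have hYN : Y.subgroupOf L ≤ N.subgroupOf L :=
      Subgroup.comap_mono (le_inf hYL Subgroup.le_normalizer)
    refine ⟨N.subgroupOf L, ⟨⟨hNt, fun K hK => ?_⟩, hYN⟩, fun K ⟨hK, hYK⟩ => ?_⟩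
    · by_contra hKt
      exact hK.not_ge (hlift K hKt (hYN.trans hK.le))
    · exact ((hlift K hK.1 hYK).eq_of_not_lt fun h => hNt (hK.2 _ h))
  · haveI : ((Cfsg.pCoreOf p H).comap L.subtype).Normal :=
      Subgroup.normal_subgroupOf_of_le_normalizer
        (hLH.trans (CfsgLib.LocalEven.le_normalizer_pCoreOf p H))
    rw [Subgroup.map_le_iff_le_comap]
    exact Subgroup.normalClosure_le_normal fun x hx =>
      CfsgLib.LocalEven.AsymL.inf_core_le s l hx

end Cfsg.Agent.S2862
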