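import Cfsg.Statements.S2863
import Cfsg.Agent.Lib.LocalEven.FrakLModels
import Cfsg.Agent.Lib.LocalEven.PReduced
import Cfsg.Agent.Lib.Base.Cores
-- import your own Cfsg.Agent.* helpers here

set_option autoImplicit false
open Cfsg

namespace Cfsg.Agent.S2863

/-- Standing hypotheses: G a finite group, S a Sylow p-subgroup, Q a nontrivial large p-subgroup of G contained in S, M a subgroup containing S with the basic property (M ∈ 𝔐_G(S)); Y_M the largest p-reduced normal subgroup of M and M† = M·C_G(Y_M). Let L ∈ 𝔏_G(Y_M) (L ∈ 𝔏_G(Y_M): Y_M ≤ L; O_p(L) is the normal closure in L of Y_M ∩ O_p(L) and normalizes Y_M; L is Y_M-minimal of characteristic p with N_L(Y_M) its unique maximal subgroup over Y_M; and L/O_p(L) ≅ SL₂(q) with q = |Y_M : Y_M ∩ O_p(L)|, or p = 2 and L/O_p(L) is a Suzuki group Sz(q) or dihedral of order 2r, r an odd prime), A = O_p(L), and C = C_{Y_M}(L). Then every element h of L whose order is not a power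 of p acts without nontrivial fixed points on A/C: for a ∈ A, hah⁻¹a⁻¹ ∈ C implies a ∈ C. -/
theorem result {G : Type*} [Group G] [Finite G] {p : ℕ} [Fact p.Prime] (S : Sylow p G) (Q : Subgroup G) (hQp : IsPGroup p ↥Q) (hQ1 : Q ≠ ⊥) (hQS : Q ≤ (S : Subgroup G)) (hQ : Cfsg.IsLarge Q) (M : Subgroup G) (hSM : (S : Subgroup G) ≤ M) (hM : Cfsg.IsInFrakM p M) (L : Subgroup G) (hL : Cfsg.IsInFrakL p M L) (h : G) (hh : h ∈ L) (hnp : ¬ ∃ k : ℕ, orderOf h = p ^ k) : ∀ a ∈ (Cfsg.pCoreOf p L), h * a * h⁻¹ * a⁻¹ ∈ (Cfsg.largestPReducedOf p M) ⊓ Subgroup.centralizer ((L : Subgroup G) : Set G) → a ∈ (Cfsg.largestPReducedOf p M) ⊓ Subgroup.centralizer ((L : Subgroup G) : Set G) := by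
  classical
  intro a ha hfix
  set Y := Cfsg.largestPReducedOf p M with hYdef
  set A := Cfsg.pCoreOf p L with hAdef
  set D := Y ⊓ Subgroup.centralizer ((L : Subgroup G) : Set G) with hD
  obtain ⟨hYL, hAgen, hAN, hmin, hchar, ⟨hlt, hmax⟩, htypes⟩ := hL
  have hYred := CfsgLib.LocalEven.isPReducedNormal_largestPReduced p ↥M
  have hYexp : ∀ y ∈ Y, y ^ p = 1 := by
    rintro _ ⟨y, hy, rfl⟩
    rw [← map_pow, hYred.2.1.2 y hy, map_one]
  have hYcomm : ∀ a ∈ Y, ∀ b ∈ Y, a * b = b * a := by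
    rintro _ ⟨a, ha, rfl⟩ _ ⟨b, hb, rfl⟩
    rw [← map_mul, ← map_mul]
    exact congrArg _ (congrArg Subtype.val (hYred.2.1.1.is_comm.comm
      (⟨a, ha⟩ : Cfsg.largestPReduced p ↥M) ⟨b, hb⟩))
  have hAL : A ≤ L := Subgroup.map_subtype_le _
  have hmemA : ∀ x : ↥L, (x : G) ∈ A ↔ x ∈ Cfsg.pCore p ↥L := fun x =>
    ⟨fun ⟨y, hy, hyx⟩ => Subtype.ext hyx ▸ hy, fun hx => ⟨x, hx, rfl⟩⟩
  have hgen : ∀ B : Subgroup G, Y ⊓ A ≤ B → (∀ l ∈ L, ∀ b ∈ B, l * b * l⁻¹ ∈ B) → A ≤ B := by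
    intro B hB hn
    haveI : (B.subgroupOf L).Normal := ⟨fun b hb l => hn l l.2 b hb⟩
    have h1 : Subgroup.normalClosure (((Y ⊓ A).subgroupOf L : Subgroup ↥L) : Set ↥L) ≤ B.subgroupOf L :=
      Subgroup.normalClosure_le_normal fun x hx => hB hx
    refine (le_of_eq hAgen).trans ?_
    rintro _ ⟨x, hx, rfl⟩
    exact h1 hx
  have hDA : D ≤ A := by
    intro d hd
    have hdL := hYL hd.1
    have hdc : (⟨d, hdL⟩ : ↥L) ∈ Subgroup.centralizer (Cfsg.pCore p ↥L : Set ↥L) := by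
      rw [Subgroup.mem_centralizer_iff]
      exact fun y _ => Subtype.ext (Subgroup.mem_centralizer_iff.1 hd.2 _ y.2)
    exact (hmemA _).2 (hchar hdc)
  have hcomm : ∀ l ∈ L, ∀ d ∈ D, l * d = d * l := fun l hl d hd =>
    Subgroup.mem_centralizer_iff.1 hd.2 l hl
  -- powers of `h` fix `a` modulo `D`
  have hpow : ∀ k : ℕ, h ^ k * a * (h ^ k)⁻¹ * a⁻¹ ∈ D := by
    intro k
    induction k with
    | zero => simp
    | succ k ih =>
      rw [show h ^ (k + 1) * a * (h ^ (k + 1))⁻¹ * a⁻¹ =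
        h * (h ^ k * a * (h ^ k)⁻¹ * a⁻¹) * h⁻¹ * (h * a * h⁻¹ * a⁻¹) by rw [pow_succ']; group,
        hcomm h hh _ ih, mul_inv_cancel_right]
      exact D.mul_mem ih hfix
  obtain ⟨r, hr, hrp, hrd⟩ : ∃ r : ℕ, r.Prime ∧ r ≠ p ∧ r ∣ orderOf h := by
    by_contra hcon
    push Not at hcon
    refine hnp ⟨_, Nat.eq_prime_pow_of_unique_prime_dvd (orderOf_pos h).ne' fun {d} hd hdd => ?_⟩
    by_contra hdp
    exact hcon d hd hdp hdd
  set zG := h ^ (orderOf h / r) with hzG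
  have hzo : orderOf zG = r := orderOf_pow_orderOf_div (orderOf_pos h).ne' hrd
  set z : ↥L := ⟨zG, L.pow_mem hh _⟩ with hz
  have hzfix : (z : G) * a * (z : G)⁻¹ * a⁻¹ ∈ D := hpow _
  have hA_p : IsPGroup p (Cfsg.pCore p ↥L) := CfsgLib.Base.isPGroup_pCore p ↥L
  have key : ∀ {X : Type} [Group X] [Finite X] (η : ↥L →* X), Function.Surjective η →
      η.ker = Cfsg.pCore p ↥L → ∀ q : ℕ,
      (∃ (U : Sylow p X) (Ω : Subgroup X), CfsgLib.LocalEven.IsRootData p q U Ω) →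
      ((∀ (Z : Subgroup X), Z ≠ ⊥ → IsPGroup p Z → (∀ z ∈ Z, z ^ p = 1) → Nat.card Z = q) ∨
        q = (Y ⊓ A).relIndex Y) →
      (∀ x : X, orderOf x = r → CfsgLib.LocalEven.IsTwoProduct p x) → a ∈ D := by
    intro X _ _ η hη hker q hroot hq hprod
    have hker' : η.ker = A.subgroupOf L := by
      rw [hker]
      ext x
      exact (hmemA x).symm
    have hexp : ∀ y ∈ (Y.subgroupOf L).map η, y ^ p = 1 := by
      rintro _ ⟨y, hy, rfl⟩
      rw [← map_pow, show y ^ p = 1 from Subtype.ext (hYexp _ hy), map_one]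
    have hne : (Y.subgroupOf L).map η ≠ ⊥ := by
      intro hbot
      rw [Subgroup.map_eq_bot_iff, hker'] at hbot
      have hle : Y.subgroupOf L ≤ Cfsg.pCore p ↥L := fun x hx => (hmemA x).1 (hbot hx)
      haveI : (Cfsg.pCore p ↥L).Normal := hker ▸ inferInstance
      have htop : Cfsg.pCore p ↥L = ⊤ :=
        top_le_iff.1 (hmin.1 ▸ Subgroup.normalClosure_le_normal hle)
      obtain ⟨U, Ω, hu⟩ := hroot
      refine hu.not_normal (eq_top_iff.2 fun x _ => ?_)
      obtain ⟨l, rfl⟩ := hη x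
      rw [MonoidHom.mem_ker.1 (hker.symm ▸ htop.symm ▸ Subgroup.mem_top l)]
      exact one_mem _
    have hcard : Nat.card ((Y.subgroupOf L).map η) = q := by
      rcases hq with hq | hq
      · exact hq _ hne (fun w => ⟨1, Subtype.ext (by simpa using hexp w w.2)⟩) hexp
      · rw [hq, ← Subgroup.relIndex_ker, hker', Subgroup.relIndex_subgroupOf hYL, inf_comm,
          Subgroup.inf_relIndex_right]
    have hdata : CfsgLib.LocalEven.FrakLData p q L Y A η :=
      ⟨hYL, hAL, hker', hYexp, hYcomm, hAN, hgen,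
        fun K hK hlt => (hmax K hK hlt).trans inf_le_right, hDA, hη, hroot, hcard⟩
    have hzne : η z ≠ 1 := by
      rw [Ne, ← MonoidHom.mem_ker, hker]
      intro hmem
      obtain ⟨k, hk⟩ := hA_p ⟨z, hmem⟩
      have h1 : zG ^ p ^ k = 1 := by
        simpa using congrArg (fun t : Cfsg.pCore p ↥L => ((t : ↥L) : G)) hk
      have h2 := hzo ▸ orderOf_dvd_of_pow_eq_one h1
      exact hrp ((Nat.prime_dvd_prime_iff_eq hr Fact.out).1 (hr.dvd_of_dvd_pow h2))
    haveI := Fact.mk hr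
    have hzord : orderOf (η z) = r := by
      refine orderOf_eq_prime ?_ hzne
      rw [← map_pow, show z ^ r = 1 from Subtype.ext (by
        simpa [hz] using hzo ▸ pow_orderOf_eq_one zG), map_one]
    obtain ⟨u₁, u₂, h1, h2, h3, h4⟩ := hprod _ hzord
    exact hdata.fpf_product z h1 h2 h3 h4 ha hzfix
  have kerE : ∀ {X : Type} [Group X] (e : ↥L ⧸ Cfsg.pCore p ↥L ≃* X),
      (e.toMonoidHom.comp (QuotientGroup.mk' (Cfsg.pCore p ↥L))).ker = Cfsg.pCore p ↥L := by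
    intro X _ e
    ext x
    simp [MonoidHom.mem_ker]
  have hxp : ∀ {X : Type} [Group X] (x : X), orderOf x = r → x ^ p ≠ 1 := fun x hx he =>
    hrp ((Nat.prime_dvd_prime_iff_eq hr Fact.out).1 (hx ▸ orderOf_dvd_of_pow_eq_one he))
  rcases htypes with ⟨F, _, _, hFc, ⟨e⟩⟩ | ⟨hp2, F, _, _, m, hF, hFc, ⟨e⟩⟩ | ⟨hp2, t, ht, ht2, ⟨e⟩⟩
  · have hYp : IsPGroup p Y := fun y => ⟨1, Subtype.ext (by simpa using hYexp y y.2)⟩
    obtain ⟨k, hk⟩ := hYp.index (Subgroup.subgroupOf (Y ⊓ A) Y)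
    haveI : CharP F p := charP_of_card_eq_prime_pow (f := k) (hFc.trans hk)
    exact key (e.toMonoidHom.comp (QuotientGroup.mk' _))
      (e.surjective.comp (QuotientGroup.mk'_surjective _)) (kerE e) (Nat.card F)
      (CfsgLib.LocalEven.exists_rootData_SL2 F p) (Or.inr (by rw [Nat.card_eq_fintype_card, hFc]))
      (fun x hx => CfsgLib.LocalEven.isTwoProduct_SL2 x (hxp x hx))
  · subst hp2
    exact key (e.toMonoidHom.comp (QuotientGroup.mk' _))
      (e.surjective.comp (QuotientGroup.mk'_surjective _)) (kerE e) (Nat.card F)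
      (CfsgLib.LocalEven.exists_rootData_Sz F hF) (Or.inr (by rw [Nat.card_eq_fintype_card, hFc]))
      (fun x hx => CfsgLib.LocalEven.isTwoProduct_Sz hF x hr hrp hx)
  · subst hp2
    haveI : NeZero t := ⟨ht.ne_zero⟩
    refine key (e.toMonoidHom.comp (QuotientGroup.mk' _))
      (e.surjective.comp (QuotientGroup.mk'_surjective _)) (kerE e) 2
      (CfsgLib.LocalEven.exists_rootData_dihedral ht ht2) (Or.inl ?_)
      (fun x hx => CfsgLib.LocalEven.isTwoProduct_dihedral x (hxp x hx))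
    intro Z hZ hZp _
    obtain ⟨k, hk⟩ := IsPGroup.iff_card.1 hZp
    have hdvd : Nat.card Z ∣ 2 * t := DihedralGroup.nat_card (n := t) ▸ Subgroup.card_subgroup_dvd_card Z
    rw [hk] at hdvd
    have hk1 : 1 < Nat.card Z := (Subgroup.one_lt_card_iff_ne_bot Z).2 hZ
    rcases k with _ | _ | k
    · rw [hk] at hk1; simp at hk1
    · rw [hk, zero_add, pow_one]
    · exfalso
      have h4 : 2 * 2 ∣ 2 * t := (Dvd.intro (2 ^ k) (by ring)).trans hdvd
      exact ht2 ((Nat.prime_dvd_prime_iff_eq Nat.prime_two ht).1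
        (Nat.dvd_of_mul_dvd_mul_left two_pos h4)).symm

end Cfsg.Agent.S2863
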