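import Cfsg.Statements.S2864
import Cfsg.Agent.Lib.LocalEven.FrakM
import Cfsg.Agent.Lib.Base.Transport
import Cfsg.Agent.Lib.PGroups.Basic
-- import your own Cfsg.Agent.* helpers here

set_option autoImplicit false
open Cfsg

namespace Cfsg.Agent.S2864

/-- Standing hypotheses: G a finite group, S a Sylow p-subgroup, Q a nontrivial large p-subgroup of G contained in S, M a subgroup containing S with the basic property (M ∈ 𝔐_G(S)); Y_M the largest p-reduced normal subgroup of M and M† = M·C_G(Y_M). Let I be a nontrivial normal p-subgroup of M and Y ≤ O_p(M†); let L be a subgroup of G containing Y and A a normal p-subgroup of L with I ≤ A ≤ M. If [Y, A] ≤ [I, A], then Y ≤ O_p(L). -/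
theorem result {G : Type*} [Group G] [Finite G] {p : ℕ} [Fact p.Prime] (S : Sylow p G) (Q : Subgroup G) (hQp : IsPGroup p ↥Q) (hQ1 : Q ≠ ⊥) (hQS : Q ≤ (S : Subgroup G)) (hQ : Cfsg.IsLarge Q) (M : Subgroup G) (hSM : (S : Subgroup G) ≤ M) (hM : Cfsg.IsInFrakM p M) (I : Subgroup G) (hI1 : I ≠ ⊥) (hIp : IsPGroup p ↥I) (hIM : I ≤ M ∧ M ≤ Subgroup.normalizer ((I : Subgroup G) : Set G)) (Y : Subgroup G) (hY : Y ≤ (Cfsg.pCoreOf p (M ⊔ Subgroup.centralizer (((Cfsg.largestPReducedOf p M) : Subgroup G) : Set G)))) (L : Subgroup G) (hYL : Y ≤ L) (A : Subgroup G) (hAp : IsPGroup p ↥A) (hAL : A ≤ L ∧ L ≤ Subgroup.normalizer ((A : Subgroup G) : Set G)) (hIA : I ≤ A) (hAM : A ≤ M) (hc : ⁅Y, A⁆ ≤ ⁅I, A⁆) : Y ≤ (Cfsg.pCoreOf p L) := by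
  set C := Subgroup.centralizer ((Cfsg.largestPReducedOf p M : Subgroup G) : Set G)
  set Dg := M ⊔ C
  set P := Cfsg.pCoreOf p Dg
  set X := L ⊓ Subgroup.centralizer (A : Set G)
  set Dl := Cfsg.pCoreOf p L
  set Φ := (frattini ↥A).map A.subtype
  have hLA : L ≤ Subgroup.normalizer (A : Set G) := hAL.2
  have hLX : L ≤ Subgroup.normalizer (X : Set G) :=
    (le_inf Subgroup.le_normalizer (hLA.trans
      (CfsgLib.LocalEven.normalizer_le_normalizer_centralizer _))).trans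
      Subgroup.inf_normalizer_le_normalizer_inf
  have hLD : L ≤ Subgroup.normalizer (Dl : Set G) := CfsgLib.LocalEven.le_normalizer_pCoreOf p L
  have hLΦ : L ≤ Subgroup.normalizer (Φ : Set G) := hLA.trans
    (CfsgLib.Base.normalizer_le_normalizer_map_subtype A (frattini ↥A))
  have hXD : X ≤ Dg := inf_le_right.trans ((Subgroup.centralizer_le (SetLike.coe_subset_coe.2 hIA)).trans
    ((Subgroup.centralizer_le_normalizer _).trans
      (CfsgLib.LocalEven.frakM_normalizer_le S hQp hQ1 hQ hSM hM hI1 hIp hIM.2)))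
  have hYp : IsPGroup p Y := (CfsgLib.LocalEven.isPGroup_pCoreOf Dg).to_le hY
  have hXP : X ≤ Subgroup.normalizer (P : Set G) :=
    hXD.trans (CfsgLib.LocalEven.le_normalizer_pCoreOf p Dg)
  have hPX : P ⊓ X ≤ Dl := by
    refine (CfsgLib.LocalEven.le_pCoreOf inf_le_right
      ((le_inf hXP Subgroup.le_normalizer).trans Subgroup.inf_normalizer_le_normalizer_inf)
      ((CfsgLib.LocalEven.isPGroup_pCoreOf Dg).to_le inf_le_left)).trans ?_
    exact CfsgLib.LocalEven.le_pCoreOf ((CfsgLib.LocalEven.pCoreOf_le p X).trans inf_le_left)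
      (fun l hl => CfsgLib.LocalEven.mem_normalizer_pCoreOf (hLX hl))
      (CfsgLib.LocalEven.isPGroup_pCoreOf X)
  -- elements acting trivially on `A / Φ(A)` and centralizing `X` modulo `O_p(L)`
  let K : Subgroup G :=
    { carrier := {w | w ∈ L ∧ (∀ a ∈ A, w * a * w⁻¹ * a⁻¹ ∈ Φ) ∧ ∀ x ∈ X, w * x * w⁻¹ * x⁻¹ ∈ Dl}
      one_mem' := ⟨L.one_mem, fun a _ => by simp, fun x _ => by simp⟩
      mul_mem' := fun {u v} hu hv => by
        refine ⟨L.mul_mem hu.1 hv.1, fun a ha => ?_, fun a ha => ?_⟩ <;>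
          rw [show u * v * a * (u * v)⁻¹ * a⁻¹ = u * (v * a * v⁻¹ * a⁻¹) * u⁻¹ * (u * a * u⁻¹ * a⁻¹)
            by group]
        · exact Φ.mul_mem ((Subgroup.mem_normalizer_iff.1 (hLΦ hu.1) _).1 (hv.2.1 a ha)) (hu.2.1 a ha)
        · exact Dl.mul_mem ((Subgroup.mem_normalizer_iff.1 (hLD hu.1) _).1 (hv.2.2 a ha)) (hu.2.2 a ha)
      inv_mem' := fun {u} hu => by
        refine ⟨L.inv_mem hu.1, fun a ha => ?_, fun a ha => ?_⟩ <;>
          rw [show u⁻¹ * a * u⁻¹⁻¹ * a⁻¹ = u⁻¹ * (u * a * u⁻¹ * a⁻¹)⁻¹ * u⁻¹⁻¹ by group]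
        · exact (Subgroup.mem_normalizer_iff.1 (hLΦ (L.inv_mem hu.1)) _).1 (Φ.inv_mem (hu.2.1 a ha))
        · exact (Subgroup.mem_normalizer_iff.1 (hLD (L.inv_mem hu.1)) _).1 (Dl.inv_mem (hu.2.2 a ha)) }
  have hYK : Y ≤ K := by
    intro y hy
    refine ⟨hYL hy, fun a ha => ?_, fun x hx => ?_⟩
    · have h1 : y * a * y⁻¹ * a⁻¹ ∈ ⁅A, A⁆ :=
        (hc.trans (Subgroup.commutator_mono hIA le_rfl)) (Subgroup.commutator_mem_commutator hy ha)
      have h2 := Subgroup.map_mono (f := A.subtype) (CfsgLib.PGroups.commutator_le_frattini hAp)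
      rw [commutator_def, Subgroup.map_commutator, ← MonoidHom.range_eq_map, Subgroup.range_subtype] at h2
      exact h2 h1
    · exact hPX ⟨CfsgLib.LocalEven.commElem_mem_right (hY hy) (hXP hx),
        CfsgLib.LocalEven.commElem_mem_left hx (hLX (hYL hy))⟩
  have hKn : L ≤ Subgroup.normalizer (K : Set G) := by
    have key : ∀ g ∈ L, ∀ w ∈ K, g * w * g⁻¹ ∈ K := by
      intro g hg w hw
      refine ⟨L.mul_mem (L.mul_mem hg hw.1) (L.inv_mem hg), fun a ha => ?_, fun a ha => ?_⟩ <;>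
        rw [show g * w * g⁻¹ * a * (g * w * g⁻¹)⁻¹ * a⁻¹ =
          g * (w * (g⁻¹ * a * g) * w⁻¹ * (g⁻¹ * a * g)⁻¹) * g⁻¹ by group]
      · refine (Subgroup.mem_normalizer_iff.1 (hLΦ hg) _).1 (hw.2.1 _ ?_)
        simpa using (Subgroup.mem_normalizer_iff.1 (hLA (L.inv_mem hg)) a).1 ha
      · refine (Subgroup.mem_normalizer_iff.1 (hLD hg) _).1 (hw.2.2 _ ?_)
        simpa using (Subgroup.mem_normalizer_iff.1 (hLX (L.inv_mem hg)) a).1 ha
    intro g hg
    rw [Subgroup.mem_normalizer_iff]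
    refine fun w => ⟨fun hw => key g hg w hw, fun hw => ?_⟩
    simpa [mul_assoc] using key g⁻¹ (L.inv_mem hg) _ hw
  have hKL : K ≤ L := fun w hw => hw.1
  obtain ⟨Pk⟩ : Nonempty (Sylow p K) := inferInstance
  set PK := (Pk : Subgroup K).map K.subtype
  have hPKn : K ≤ Subgroup.normalizer ((PK ⊔ Dl : Subgroup G) : Set G) := by
    have hres : (Cfsg.pResidual p ↥K).map K.subtype ≤ X := by
      rw [Cfsg.pResidual, MonoidHom.map_closure, Subgroup.closure_le]
      rintro _ ⟨w, hw, rfl⟩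
      refine ⟨hKL w.2, ?_⟩
      have hz : Subgroup.zpowers (w : G) ≤ K := Subgroup.zpowers_le.2 w.2
      have hcop : (Nat.card (Subgroup.zpowers (w : G))).Coprime (Nat.card (frattini ↥A)) := by
        obtain ⟨n, hn⟩ := IsPGroup.iff_card.1 (hAp.to_subgroup (frattini ↥A))
        rw [hn, Nat.card_zpowers, Subgroup.orderOf_coe]
        exact Nat.Coprime.pow_right n hw
      exact CfsgLib.Coprime.le_centralizer_of_trivial_mod_frattini (hz.trans (hKL.trans hLA)) hcop
        (fun a ha k hk => (hz ha).2.1 k hk) (Subgroup.mem_zpowers (w : G))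
    have htop := congrArg (Subgroup.map K.subtype) (CfsgLib.Transfer.sup_pResidual_eq_top Pk)
    rw [Subgroup.map_sup, ← MonoidHom.range_eq_map, Subgroup.range_subtype] at htop
    refine htop.ge.trans (sup_le ?_ (fun x hx => ?_))
    · intro s hs
      apply CfsgLib.LocalEven.mem_normalizer_of_conj
      rw [Subgroup.map_sup, CfsgLib.LocalEven.conj_map_eq_of_mem_normalizer (Subgroup.le_normalizer hs),
        CfsgLib.LocalEven.conj_map_eq_of_mem_normalizer
          (hLD (hKL (Subgroup.map_subtype_le _ hs)))]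
    · have hxX := hres hx
      apply CfsgLib.LocalEven.mem_normalizer_of_conj
      refine Subgroup.eq_of_le_of_card_ge ?_
        (le_of_eq (Subgroup.card_map_of_injective (MulAut.conj x).injective).symm)
      rw [Subgroup.map_sup, CfsgLib.LocalEven.conj_map_eq_of_mem_normalizer (hLD hxX.1)]
      refine sup_le ?_ le_sup_right
      rintro _ ⟨s, hs, rfl⟩
      have h1 : s * x * s⁻¹ * x⁻¹ ∈ Dl := (Subgroup.map_subtype_le _ hs : s ∈ K).2.2 x hxX
      have e : (MulAut.conj x).toMonoidHom s = (s * x * s⁻¹ * x⁻¹)⁻¹ * s := by simp [mul_assoc]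
      rw [e]
      exact Subgroup.mul_mem _ ((le_sup_right : Dl ≤ PK ⊔ Dl) (Dl.inv_mem h1))
        ((le_sup_left : PK ≤ PK ⊔ Dl) hs)
  have hsup : IsPGroup p ↥(PK ⊔ Dl) := (Pk.isPGroup'.map _).to_sup_of_normal_right'
    (CfsgLib.LocalEven.isPGroup_pCoreOf L) ((Subgroup.map_subtype_le _).trans (hKL.trans hLD))
  have hYsup : Y ≤ (PK ⊔ Dl) := by
    obtain ⟨Pk', hPk'⟩ := (hYp.comap_subtype (K := K)).exists_le_sylow
    obtain ⟨k, rfl⟩ := MulAction.exists_smul_eq K Pk Pk'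
    intro y hy
    have h1 : (⟨y, hYK hy⟩ : K) ∈ ((k • Pk : Sylow p K) : Subgroup K) := hPk' hy
    have h2 : y ∈ PK.map (MulAut.conj (k : G)).toMonoidHom := by
      rw [CfsgLib.LocalEven.conj_sylow_map]; exact ⟨_, h1, rfl⟩
    exact ((Subgroup.map_mono le_sup_left).trans
      (CfsgLib.LocalEven.conj_map_eq_of_mem_normalizer (hPKn k.2)).le) h2
  -- the normal closure of `Y` in `L` is a `p`-group
  set W := (Subgroup.normalClosure ((Y.subgroupOf L : Subgroup L) : Set L)).map L.subtype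
  have hWK : W ≤ K ⊓ (PK ⊔ Dl) := by
    have hWK' : W ≤ K := (Subgroup.map_mono (@Subgroup.normalClosure_le_normal _ _ _ (K.subgroupOf L)
      ((Subgroup.normal_subgroupOf_iff_le_normalizer hKL).2 hKn) fun y hy => hYK hy)).trans
      ((Subgroup.subgroupOf_map_subtype _ _).le.trans inf_le_left)
    refine le_inf hWK' ?_
    rw [Subgroup.map_le_iff_le_comap, Subgroup.normalClosure, Subgroup.closure_le]
    intro z hz
    obtain ⟨y, hy, hzy⟩ := Group.mem_conjugatesOfSet_iff.1 hz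
    obtain ⟨l, rfl⟩ := isConj_iff.1 hzy
    have hYl : Y.map (MulAut.conj (l : G)).toMonoidHom ≤ K := (Subgroup.map_mono hYK).trans
      (CfsgLib.LocalEven.conj_map_eq_of_mem_normalizer (hKn l.2)).le
    obtain ⟨Pk', hPk'⟩ := ((hYp.map (MulAut.conj (l : G)).toMonoidHom).comap_subtype (K := K)).exists_le_sylow
    obtain ⟨k, rfl⟩ := MulAction.exists_smul_eq K Pk Pk'
    have hmem : (l : G) * y * (l : G)⁻¹ ∈ Y.map (MulAut.conj (l : G)).toMonoidHom := ⟨y, hy, rfl⟩
    have h1 : (⟨_, hYl hmem⟩ : K) ∈ ((k • Pk : Sylow p K) : Subgroup K) := hPk' hmem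
    have h2 : (l : G) * y * (l : G)⁻¹ ∈ PK.map (MulAut.conj (k : G)).toMonoidHom := by
      rw [CfsgLib.LocalEven.conj_sylow_map]; exact ⟨_, h1, rfl⟩
    exact ((Subgroup.map_mono le_sup_left).trans
      (CfsgLib.LocalEven.conj_map_eq_of_mem_normalizer (hPKn k.2)).le) h2
  have hWn : L ≤ Subgroup.normalizer (W : Set G) :=
    (Subgroup.normal_subgroupOf_iff_le_normalizer (Subgroup.map_subtype_le _)).1 (by
      rw [Subgroup.subgroupOf, Subgroup.comap_map_eq_self_of_injective L.subtype_injective]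
      exact Subgroup.normalClosure_normal)
  refine le_trans ?_ (CfsgLib.LocalEven.le_pCoreOf (Subgroup.map_subtype_le _) hWn
    (hsup.to_le (hWK.trans inf_le_right)))
  exact fun y hy => ⟨⟨y, hYL hy⟩, Subgroup.subset_normalClosure hy, rfl⟩

end Cfsg.Agent.S2864
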