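import Cfsg.Statements.S2873
import Cfsg.Agent.Lib.Transfer.NormalPComplement
import Cfsg.Agent.Lib.Base.Cores
-- import your own Cfsg.Agent.* helpers here

set_option autoImplicit false
open Cfsg

namespace Cfsg.Agent.S2873

variable {G : Type*} [Group G] [Finite G] {r : ℕ} [hrp : Fact r.Prime]

/-- The setting: `π : G → D₂ᵣ` with kernel a 2-group `O`, and `N` a complement normalising a Sylow
`r`-subgroup. -/
theorem dihedral_extension (hr : r ≠ 2) (O : Subgroup G) [O.Normal] (hO : IsPGroup 2 O)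
    (π : G →* DihedralGroup r) (hπ : Function.Surjective π) (hker : π.ker = O) (R : Sylow r G)
    (hC : O ⊓ Subgroup.centralizer ((R : Subgroup G) : Set G) = ⊥) :
    Nonempty (↥(Subgroup.normalizer ((R : Subgroup G) : Set G)) ≃* DihedralGroup r) ∧
      ∀ a : G, a ∈ Subgroup.normalizer ((R : Subgroup G) : Set G) → orderOf a = 2 →
        (∀ b : G, orderOf b = 2 → b ∉ O → ∃ g : G, g * a * g⁻¹ = b) ∧
        Nat.card ↥(O ⊓ Subgroup.centralizer ({a} : Set G)) ^ 2 = Nat.card O := by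
  have : NeZero r := ⟨hrp.out.ne_zero⟩
  set N := Subgroup.normalizer ((R : Subgroup G) : Set G) with hN
  set Z := Subgroup.zpowers (DihedralGroup.r (1 : ZMod r)) with hZ
  have hcopO : ∀ x ∈ O, (orderOf x).Coprime r := by
    intro x hx
    obtain ⟨k, hk⟩ := IsPGroup.iff_orderOf.1 hO ⟨x, hx⟩
    rw [Subgroup.orderOf_mk] at hk
    rw [hk]
    exact Nat.Coprime.pow_left k ((Nat.coprime_primes Nat.prime_two hrp.out).2 hr.symm)
  have hdisj : (R : Subgroup G) ⊓ O = ⊥ := by
    rw [eq_bot_iff]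
    rintro x ⟨hx, hxO⟩
    obtain ⟨k, hk⟩ := IsPGroup.iff_orderOf.1 R.2 ⟨x, hx⟩
    rw [Subgroup.orderOf_mk] at hk
    exact orderOf_eq_one_iff.1 (Nat.eq_one_of_dvd_coprimes (hk ▸ (hcopO x hxO).pow_right k) dvd_rfl
      (dvd_of_eq hk))
  have hZr : ∀ z : DihedralGroup r, z ∈ Z ↔ ∃ i, z = DihedralGroup.r i := by
    intro z
    constructor
    · rintro ⟨i, rfl⟩
      exact ⟨(i : ZMod r), by simp⟩
    · rintro ⟨i, rfl⟩
      exact ⟨(i.val : ℤ), by simp only [DihedralGroup.r_one_zpow, Int.cast_natCast, ZMod.natCast_zmod_val]⟩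
  have hRZ : (R : Subgroup G).map π = Z := by
    have hle : (R : Subgroup G).map π ≤ Z := by
      rintro _ ⟨x, hx, rfl⟩
      obtain ⟨k, hk⟩ := IsPGroup.iff_orderOf.1 R.2 ⟨x, hx⟩
      rw [Subgroup.orderOf_mk] at hk
      rcases h : π x with i | i
      · exact (hZr _).2 ⟨i, rfl⟩
      · have h1 := orderOf_map_dvd π x
        rw [h, DihedralGroup.orderOf_sr, hk] at h1
        exact absurd ((Nat.prime_dvd_prime_iff_eq Nat.prime_two hrp.out).1
          (Nat.prime_two.dvd_of_dvd_pow h1)) hr.symm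
    refine Subgroup.eq_of_le_of_card_ge hle ?_
    rw [hZ, Nat.card_zpowers, DihedralGroup.orderOf_r_one]
    refine Nat.le_of_dvd Nat.card_pos ?_
    obtain ⟨k, hk⟩ := (R.2.map π).exists_card_eq
    rcases k with _ | k
    · exfalso
      have hidx : ((R : Subgroup G).map π).index ∣ (R : Subgroup G).index :=
        Subgroup.index_map_dvd _ hπ
      rw [Subgroup.card_eq_one.1 (hk.trans (pow_zero r)), Subgroup.index_bot, DihedralGroup.nat_card] at hidx
      exact R.not_dvd_index ((dvd_mul_left r 2).trans hidx)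
    · exact hk ▸ dvd_pow_self r k.succ_ne_zero
  have hinj : ∀ n ∈ N, π n = 1 → n = 1 := by
    intro n hn h1
    have hnO : n ∈ O := hker ▸ h1
    have hcent : n ∈ O ⊓ Subgroup.centralizer ((R : Subgroup G) : Set G) := by
      refine ⟨hnO, Subgroup.mem_centralizer_iff.2 fun x hx => ?_⟩
      have hc : n * x * n⁻¹ * x⁻¹ ∈ (R : Subgroup G) ⊓ O := by
        refine ⟨Subgroup.mul_mem _ ((Subgroup.mem_normalizer_iff.1 hn x).1 hx) (Subgroup.inv_mem _ hx), ?_⟩
        have : n * x * n⁻¹ * x⁻¹ = n * (x * n⁻¹ * x⁻¹) := by group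
        rw [this]
        exact O.mul_mem hnO ((inferInstance : O.Normal).conj_mem _ (O.inv_mem hnO) x)
      rw [hdisj, Subgroup.mem_bot, mul_inv_eq_one, mul_inv_eq_iff_eq_mul] at hc
      exact hc.symm
    rwa [hC, Subgroup.mem_bot] at hcent
  have hsurjN : ∀ z, ∃ n ∈ N, π n = z := by
    intro z
    obtain ⟨g, rfl⟩ := hπ z
    set K := Z.comap π with hK
    have hKn : K.Normal := by
      refine Subgroup.Normal.comap (Subgroup.normal_of_index_eq_two ?_) π
      have h1 := Subgroup.card_mul_index Z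
      rw [hZ, Nat.card_zpowers, DihedralGroup.orderOf_r_one, DihedralGroup.nat_card, mul_comm 2 r] at h1
      exact Nat.eq_of_mul_eq_mul_left hrp.out.pos h1
    have hRK : (R : Subgroup G) ≤ K := fun x hx => hRZ.le ⟨x, hx, rfl⟩
    have hg : g ∈ N ⊔ K := (Sylow.normalizer_sup_eq_top' R hRK).symm ▸ Subgroup.mem_top g
    obtain ⟨n, hn, k, hk, rfl⟩ := Subgroup.mem_sup_of_normal_right.1 hg
    obtain ⟨x, hx, hxk⟩ := hRZ.ge hk
    exact ⟨n * x, mul_mem hn (Subgroup.le_normalizer hx), by rw [map_mul, map_mul, hxk]⟩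
  have hinj' : ∀ n ∈ N, ∀ m ∈ N, π n = π m → n = m := fun n hn m hm h =>
    inv_mul_eq_one.1 (hinj _ (mul_mem (inv_mem hn) hm) (by rw [map_mul, map_inv, h, inv_mul_cancel]))
  have hbij : Function.Bijective (π.comp N.subtype) :=
    ⟨fun a b h => Subtype.ext (hinj' a a.2 b b.2 h), fun z => by
      obtain ⟨n, hn, e⟩ := hsurjN z
      exact ⟨⟨n, hn⟩, e⟩⟩
  refine ⟨⟨MulEquiv.ofBijective _ hbij⟩, fun a ha ha2 => ?_⟩
  -- an involution outside `O` maps to a reflection
  have href : ∀ b : G, orderOf b = 2 → b ∉ O → ∃ j, π b = DihedralGroup.sr j := by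
    intro b hb hbO
    rcases h : π b with i | i
    · exfalso
      have h1 : DihedralGroup.r i ∈ Z := (hZr _).2 ⟨i, rfl⟩
      have h2 := orderOf_dvd_of_mem_zpowers h1
      rw [DihedralGroup.orderOf_r_one, ← h] at h2
      have h3 : orderOf (π b) = 1 := Nat.eq_one_of_dvd_coprimes
        ((Nat.coprime_primes Nat.prime_two hrp.out).2 hr.symm) (hb ▸ orderOf_map_dvd π b) h2
      exact hbO (hker ▸ (orderOf_eq_one_iff.1 h3 : b ∈ π.ker))
    · exact ⟨i, rfl⟩
  -- the key: a pair of involutions over neighbouring reflections is conjugate under `O` to a pair in `N`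
  have key : ∀ b b' : G, b * b = 1 → b' * b' = 1 → ∀ j, π b = DihedralGroup.sr j →
      π b' = DihedralGroup.sr (j + 1) → ∀ n ∈ N, π n = π b → ∀ n' ∈ N, π n' = π b' →
      ∃ o ∈ O, o * n * o⁻¹ = b ∧ o * n' * o⁻¹ = b' := by
    intro b b' hb hb' j hj hj' n hn hnb n' hn' hnb'
    obtain ⟨u, hu, v, hv, huv, ⟨k, hk⟩, hvc⟩ :=
      CfsgLib.Transfer.exists_pPart_mul (p := r) (b * b')
    have hx : π (b * b') = DihedralGroup.r 1 := by
      rw [map_mul, hj, hj', DihedralGroup.sr_mul_sr, add_sub_cancel_left]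
    have hvO : v ∈ O := by
      rw [← hker, MonoidHom.mem_ker]
      obtain ⟨m, hm⟩ := hv
      have h1 : π v ∈ Z := by rw [← hm]; simp only [map_zpow, hx]; exact Subgroup.zpow_mem_zpowers _ m
      have h2 := orderOf_dvd_of_mem_zpowers h1
      rw [DihedralGroup.orderOf_r_one] at h2
      exact orderOf_eq_one_iff.1 (Nat.eq_one_of_dvd_coprimes hvc (orderOf_map_dvd π v) h2)
    have hπu : π u = DihedralGroup.r 1 := by
      have h1 : π v = 1 := by rw [← MonoidHom.mem_ker, hker]; exact hvO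
      rw [← hx, ← huv, map_mul, h1, mul_one]
    have hup : IsPGroup r ↥(Subgroup.zpowers u) := by
      obtain ⟨i, -, hi⟩ := (Nat.dvd_prime_pow hrp.out).1 hk
      exact IsPGroup.of_card (n := i) (by rw [Nat.card_zpowers, hi])
    obtain ⟨T, hT⟩ := hup.exists_le_sylow
    obtain ⟨g, rfl⟩ := MulAction.exists_smul_eq G R T
    obtain ⟨m, hm, hmg⟩ := hsurjN (π g)
    have hgO : g * m⁻¹ ∈ O := by
      rw [← hker, MonoidHom.mem_ker, map_mul, map_inv, hmg, mul_inv_cancel]
    obtain ⟨o, ho, rfl⟩ : ∃ o ∈ O, o * m = g := ⟨_, hgO, by group⟩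
    obtain ⟨w, hw, hwu⟩ : ∃ w ∈ (R : Subgroup G), o * w * o⁻¹ = u := by
      obtain ⟨w, hw, e⟩ := hT (Subgroup.mem_zpowers u)
      exact ⟨m * w * m⁻¹, (Subgroup.mem_normalizer_iff.1 hm w).1 hw, by
        rw [← e]
        show _ = o * m * w * (o * m)⁻¹
        group⟩
    have hπo : π o = 1 := by rw [← MonoidHom.mem_ker, hker]; exact ho
    have hπw : π w = DihedralGroup.r 1 := by
      rw [← hπu, ← hwu, map_mul, map_mul, map_inv, hπo, one_mul, inv_one, mul_one]
    have hgen : ∀ x ∈ (R : Subgroup G), ∃ i : ℤ, w ^ i = x := by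
      intro x hx'
      obtain ⟨i, hi⟩ := (hRZ.le ⟨x, hx', rfl⟩ : π x ∈ Z)
      refine ⟨i, hinj' _ (Subgroup.le_normalizer (zpow_mem hw i)) _ (Subgroup.le_normalizer hx') ?_⟩
      rw [map_zpow, hπw]
      exact hi
    have hv1 : v = 1 := by
      have hmem : o⁻¹ * v * o ∈ O ⊓ Subgroup.centralizer ((R : Subgroup G) : Set G) := by
        refine ⟨O.mul_mem (O.mul_mem (O.inv_mem ho) hvO) ho, Subgroup.mem_centralizer_iff.2 fun x hx' => ?_⟩
        obtain ⟨i, rfl⟩ := hgen x hx'
        refine (Commute.zpow_left ?_ i).eq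
        obtain ⟨s, hs⟩ := hu
        obtain ⟨s', hs'⟩ := hv
        have hc : Commute u v := by
          rw [← hs, ← hs']; exact ((Commute.refl _).zpow_zpow s s')
        have e : w = o⁻¹ * u * o := by rw [← hwu]; group
        rw [e]
        simpa using hc.map (MulAut.conj o⁻¹)
      rw [hC, Subgroup.mem_bot] at hmem
      calc v = o * (o⁻¹ * v * o) * o⁻¹ := by group
        _ = 1 := by rw [hmem]; group
    rw [hv1, mul_one] at huv
    -- both involutions normalise the conjugate of `R`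
    have hnorm : ∀ c : G, c * w * c⁻¹ = w⁻¹ → c ∈ N := by
      intro c hc
      refine Subgroup.mem_normalizer_iff_map_conj_eq.2 (Subgroup.eq_of_le_of_card_ge ?_
        (Subgroup.card_map_of_injective (K := (R : Subgroup G)) (f := (MulAut.conj c).toMonoidHom)
          (MulAut.conj c).injective).ge)
      rintro _ ⟨x, hx', rfl⟩
      obtain ⟨i, rfl⟩ := hgen x hx'
      show c * w ^ i * c⁻¹ ∈ (R : Subgroup G)
      rw [← conj_zpow, hc]
      exact zpow_mem (inv_mem hw) i
    have hinv : ∀ c : G, c * (b * b') * c⁻¹ = (b * b')⁻¹ → o⁻¹ * c * o ∈ N := by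
      intro c hc
      refine hnorm _ ?_
      have e : w = o⁻¹ * (b * b') * o := by rw [← huv, ← hwu]; group
      calc o⁻¹ * c * o * w * (o⁻¹ * c * o)⁻¹ = o⁻¹ * (c * (b * b') * c⁻¹) * o := by rw [e]; group
        _ = w⁻¹ := by rw [hc, e]; group
    have hbi : b⁻¹ = b := inv_eq_of_mul_eq_one_right hb
    have hbi' : b'⁻¹ = b' := inv_eq_of_mul_eq_one_right hb'
    have h1 : o⁻¹ * b * o ∈ N := hinv b (by
      rw [mul_inv_rev, hbi, hbi', ← mul_assoc b b, hb, one_mul])
    have h2 : o⁻¹ * b' * o ∈ N := hinv b' (by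
      rw [mul_inv_rev, hbi, hbi', mul_assoc, mul_assoc, hb', mul_one])
    refine ⟨o, ho, ?_, ?_⟩
    · rw [hinj' n hn _ h1 (by rw [map_mul, map_mul, map_inv, hπo, inv_one, one_mul, mul_one, hnb])]
      group
    · rw [hinj' n' hn' _ h2 (by rw [map_mul, map_mul, map_inv, hπo, inv_one, one_mul, mul_one, hnb'])]
      group
  have haO : a ∉ O := fun h => by
    have h1 := hinj a ha (by rw [← MonoidHom.mem_ker, hker]; exact h)
    rw [h1, orderOf_one] at ha2
    omega
  obtain ⟨i, hi⟩ := href a ha2 haO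
  have hconj : ∀ n ∈ N, ∀ j, π n = DihedralGroup.sr j → ∃ m ∈ N, m * a * m⁻¹ = n := by
    intro n hn j hj
    have h2 : (2 : ZMod r) ≠ 0 := by
      intro h
      have h' : ((2 : ℕ) : ZMod r) = 0 := by exact_mod_cast h
      rw [ZMod.natCast_eq_zero_iff] at h'
      exact hr ((Nat.prime_dvd_prime_iff_eq hrp.out Nat.prime_two).1 h')
    obtain ⟨m, hm, hmz⟩ := hsurjN (DihedralGroup.r ((i - j) / 2))
    refine ⟨m, hm, hinj' _ (mul_mem (mul_mem hm ha) (inv_mem hm)) n hn ?_⟩
    rw [map_mul, map_mul, map_inv, hmz, hi, hj, DihedralGroup.r_mul_sr, DihedralGroup.inv_r,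
      DihedralGroup.sr_mul_r]
    congr 1
    field_simp
    ring
  have hinvol : ∀ n ∈ N, ∀ j, π n = DihedralGroup.sr j → n * n = 1 := fun n hn j hj =>
    hinj _ (mul_mem hn hn) (by rw [map_mul, hj, DihedralGroup.sr_mul_self])
  constructor
  · intro b hb hbO
    obtain ⟨j, hj⟩ := href b hb hbO
    obtain ⟨n, hn, hnb⟩ := hsurjN (π b)
    obtain ⟨n', hn', hn'b⟩ := hsurjN (DihedralGroup.sr (j + 1))
    obtain ⟨m, hm, hma⟩ := hconj n hn j (hnb.trans hj)
    obtain ⟨o, -, e, -⟩ := key b n' (by rw [← pow_two, ← hb, pow_orderOf_eq_one])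
      (hinvol n' hn' _ hn'b) j hj hn'b n hn hnb n' hn' rfl
    exact ⟨o * m, by rw [← e, ← hma]; group⟩
  · obtain ⟨a', ha', ha'π⟩ := hsurjN (DihedralGroup.sr (i + 1))
    set A := O ⊓ Subgroup.centralizer ({a} : Set G)
    set A' := O ⊓ Subgroup.centralizer ({a'} : Set G)
    have hcA : ∀ (c : G) (o o' : O), (QuotientGroup.mk o : O ⧸ (Subgroup.centralizer ({c} : Set G)).subgroupOf O) =
        QuotientGroup.mk o' ↔ (o : G) * c * (o : G)⁻¹ = (o' : G) * c * (o' : G)⁻¹ := by
      intro c o o'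
      rw [QuotientGroup.eq, Subgroup.mem_subgroupOf, Subgroup.mem_centralizer_singleton_iff]
      simp only [Subgroup.coe_mul, Subgroup.coe_inv]
      constructor <;> intro h
      · calc (o : G) * c * (o : G)⁻¹ = (o : G) * (c * ((o : G)⁻¹ * o')) * (o' : G)⁻¹ := by group
          _ = (o' : G) * c * (o' : G)⁻¹ := by rw [← h]; group
      · calc (o : G)⁻¹ * o' * c = (o : G)⁻¹ * ((o' : G) * c * (o' : G)⁻¹) * o' := by group
          _ = c * ((o : G)⁻¹ * o') := by rw [← h]; group
    let Φ : O → (O ⧸ (Subgroup.centralizer ({a} : Set G)).subgroupOf O) ×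
        (O ⧸ (Subgroup.centralizer ({a'} : Set G)).subgroupOf O) :=
      fun o => (QuotientGroup.mk o, QuotientGroup.mk o)
    have hΦ : Function.Bijective Φ := by
      constructor
      · intro o o' h
        have h1 := congrArg Prod.fst h
        have h2 := congrArg Prod.snd h
        simp only [Φ, QuotientGroup.eq] at h1 h2
        have hx : ((o⁻¹ * o' : O) : G) ∈ O ⊓ Subgroup.centralizer ((R : Subgroup G) : Set G) := by
          refine ⟨(o⁻¹ * o').2, Subgroup.mem_centralizer_iff.2 fun x hx => ?_⟩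
          obtain ⟨s, hs⟩ := (hRZ.le ⟨x, hx, rfl⟩ : π x ∈ Z)
          have e : x = (a * a') ^ s := hinj' x (Subgroup.le_normalizer hx) _ (zpow_mem (mul_mem ha ha') s)
            (by rw [map_zpow, map_mul, hi, ha'π, DihedralGroup.sr_mul_sr, add_sub_cancel_left]; exact hs.symm)
          rw [e]
          have c1 : Commute ((o⁻¹ * o' : O) : G) a := Subgroup.mem_centralizer_singleton_iff.1 h1
          have c2 : Commute ((o⁻¹ * o' : O) : G) a' := Subgroup.mem_centralizer_singleton_iff.1 h2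
          exact (Commute.zpow_left (c1.mul_right c2).symm s).eq
        rw [hC, Subgroup.mem_bot] at hx
        exact inv_mul_eq_one.1 (Subtype.ext hx)
      · rintro ⟨q, q'⟩
        obtain ⟨o₁, rfl⟩ := QuotientGroup.mk_surjective q
        obtain ⟨o₂, rfl⟩ := QuotientGroup.mk_surjective q'
        have hπo : ∀ o : O, π o = 1 := fun o => by rw [← MonoidHom.mem_ker, hker]; exact o.2
        obtain ⟨o, ho, e1, e2⟩ := key ((o₁ : G) * a * (o₁ : G)⁻¹) ((o₂ : G) * a' * (o₂ : G)⁻¹)
          (by rw [show (o₁ : G) * a * (o₁ : G)⁻¹ * ((o₁ : G) * a * (o₁ : G)⁻¹) =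
            (o₁ : G) * (a * a) * (o₁ : G)⁻¹ by group, hinvol a ha i hi]; group)
          (by rw [show (o₂ : G) * a' * (o₂ : G)⁻¹ * ((o₂ : G) * a' * (o₂ : G)⁻¹) =
            (o₂ : G) * (a' * a') * (o₂ : G)⁻¹ by group, hinvol a' ha' _ ha'π]; group)
          i (by simp [hπo, hi]) (by simp [hπo, ha'π]) a ha (by simp [hπo]) a' ha' (by simp [hπo])
        exact ⟨⟨o, ho⟩, Prod.ext ((hcA a _ _).2 e1) ((hcA a' _ _).2 e2)⟩
    have hcard := Nat.card_eq_of_bijective Φ hΦ
    rw [Nat.card_prod] at hcard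
    have hA : ∀ c : G, Nat.card ↥(O ⊓ Subgroup.centralizer ({c} : Set G)) *
        Nat.card (O ⧸ (Subgroup.centralizer ({c} : Set G)).subgroupOf O) = Nat.card O := by
      intro c
      rw [← Subgroup.card_mul_index ((Subgroup.centralizer ({c} : Set G)).subgroupOf O), Subgroup.index_eq_card]
      congr 1
      rw [← Subgroup.inf_subgroupOf_left,
        Nat.card_congr (Subgroup.subgroupOfEquivOfLe (inf_le_left : O ⊓ _ ≤ O)).toEquiv]
    obtain ⟨m, hm, hma⟩ := hconj a' ha' _ ha'π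
    have hAA : A' = A.map (MulAut.conj m).toMonoidHom := by
      ext x
      rw [Subgroup.mem_map]
      constructor
      · rintro ⟨hxO, hxc⟩
        refine ⟨m⁻¹ * x * m, ⟨by simpa using (inferInstance : O.Normal).conj_mem x hxO m⁻¹, ?_⟩,
          by simp [mul_assoc]⟩
        have hxc' : x * a' = a' * x := Subgroup.mem_centralizer_singleton_iff.1 hxc
        refine Subgroup.mem_centralizer_singleton_iff.2 ?_
        calc m⁻¹ * x * m * a = m⁻¹ * (x * (m * a * m⁻¹)) * m := by group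
          _ = a * (m⁻¹ * x * m) := by rw [hma, hxc', ← hma]; group
      · rintro ⟨y, ⟨hy, hyc⟩, rfl⟩
        refine ⟨(inferInstance : O.Normal).conj_mem y hy m, Subgroup.mem_centralizer_singleton_iff.2 ?_⟩
        have hyc' : Commute y a := Subgroup.mem_centralizer_singleton_iff.1 hyc
        rw [← hma]
        exact (hyc'.map (MulAut.conj m)).eq
    have hAc : Nat.card A' = Nat.card A := by
      rw [hAA, Subgroup.card_map_of_injective (MulAut.conj m).injective]
    have h1 := hA a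
    have h2 := hA a'
    refine Nat.eq_of_mul_eq_mul_right (Nat.card_pos (α := O)) ?_
    calc Nat.card A ^ 2 * Nat.card O = Nat.card A * Nat.card A' * Nat.card O := by rw [hAc, pow_two]
      _ = (Nat.card A * Nat.card (O ⧸ (Subgroup.centralizer ({a} : Set G)).subgroupOf O)) *
          (Nat.card A' * Nat.card (O ⧸ (Subgroup.centralizer ({a'} : Set G)).subgroupOf O)) := by
            rw [hcard]; ring
      _ = Nat.card O * Nat.card O := by rw [h1, h2]

/-- Let G be a finite group and r an odd prime such that G ⧸ O₂(G) is dihedral of order 2r, and let R be a Sylow r-subgroup of G with C_{O₂(G)}(R) = 1. Then N_G(R) is dihedral of order 2r; for any involution a of N_G(R), every involution of G outside O₂(G) is conjugate to a; and |C_{O₂(G)}(a)|² = |O₂(G)|. -/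
theorem result {G : Type*} [Group G] [Finite G] {r : ℕ} [Fact r.Prime] (hr : r ≠ 2) [hN : (Cfsg.pCore 2 G).Normal] (hquot : Nonempty (G ⧸ Cfsg.pCore 2 G ≃* DihedralGroup r)) (R : Sylow r G) (hC : Cfsg.pCore 2 G ⊓ Subgroup.centralizer ((R : Subgroup G) : Set G) = ⊥) : Nonempty (↥(Subgroup.normalizer ((R : Subgroup G) : Set G)) ≃* DihedralGroup r) ∧ ∀ a : G, a ∈ Subgroup.normalizer ((R : Subgroup G) : Set G) → orderOf a = 2 → (∀ b : G, orderOf b = 2 → b ∉ Cfsg.pCore 2 G → ∃ g : G, g * a * g⁻¹ = b) ∧ Nat.card ↥(Cfsg.pCore 2 G ⊓ Subgroup.centralizer ({a} : Set G)) ^ 2 = Nat.card ↥(Cfsg.pCore 2 G) := by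
  obtain ⟨e⟩ := hquot
  have hker : (e.toMonoidHom.comp (QuotientGroup.mk' (Cfsg.pCore 2 G))).ker = Cfsg.pCore 2 G := by
    rw [← MonoidHom.comap_ker, (MonoidHom.ker_eq_bot_iff _).2 e.injective, MonoidHom.comap_bot,
      QuotientGroup.ker_mk']
  exact dihedral_extension hr (Cfsg.pCore 2 G) (CfsgLib.Base.isPGroup_pCore 2 G) _
    (e.surjective.comp (QuotientGroup.mk'_surjective _)) hker R hC

end Cfsg.Agent.S2873
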