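import Cfsg.Statements.S2881
import Cfsg.Agent.Lib.LocalEven.PlusTypeCount
-- import your own Cfsg.Agent.* helpers here

set_option autoImplicit false
open Cfsg

namespace Cfsg.Agent.S2881

/-- Let E be an extraspecial 2-group of order 2^(2m+1) of plus type (containing an elementary abelian subgroup of order 2^(m+1)), and let ω be an automorphism of E of order 5 whose fixed points are exactly the centre of E. Then m is divisible by 4. -/
theorem result {E : Type*} [Group E] [Finite E] (m : ℕ) (hm : 1 ≤ m) (hE : Cfsg.IsExtraspecial 2 E) (hcard : Nat.card E = 2 ^ (2 * m + 1)) (hplus : ∃ A : Subgroup E, Cfsg.IsElementaryAbelian 2 A ∧ Nat.card A = 2 ^ (m + 1)) (ω : E ≃* E) (hω : orderOf ω = 5) (hfix : ∀ x : E, ω x = x ↔ x ∈ Subgroup.center E) : 4 ∣ m := by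
  classical
  haveI : Fact (Nat.Prime 5) := ⟨by norm_num⟩
  haveI : Fact (Nat.Prime 2) := ⟨Nat.prime_two⟩
  haveI : Finite (E ≃* E) := Finite.of_injective (fun e : E ≃* E => (e : E → E)) DFunLike.coe_injective
  let X := {x : E // x ^ 2 ≠ 1}
  let σ : Equiv.Perm X :=
    ω.toEquiv.subtypeEquiv fun x => by
      show x ^ 2 ≠ 1 ↔ (ω x) ^ 2 ≠ 1
      rw [← map_pow, ne_eq, ne_eq, map_eq_one_iff ω ω.injective]
  have hσ : σ ^ 5 = 1 := by
    have hit : ∀ k : ℕ, ∀ x : X, (((σ ^ k) x : X) : E) = (ω ^ k : MulAut E) x.1 := by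
      intro k
      induction k with
      | zero => intro x; rfl
      | succ k ih =>
        intro x
        rw [pow_succ', pow_succ', Equiv.Perm.mul_apply, MulAut.mul_apply, ← ih]
        rfl
    refine Equiv.ext fun x => Subtype.ext ?_
    rw [hit]
    have h5 : (ω : MulAut E) ^ 5 = 1 := by rw [← hω]; exact pow_orderOf_eq_one (ω : MulAut E)
    rw [h5]
    rfl
  have hH : IsPGroup 5 ↥(Subgroup.zpowers σ) := by
    obtain ⟨i, -, hi⟩ := (Nat.dvd_prime_pow (Fact.out : Nat.Prime 5)).1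
      (orderOf_dvd_of_pow_eq_one (n := 5 ^ 1) (by rw [pow_one]; exact hσ))
    exact IsPGroup.of_card (n := i) (by rw [Nat.card_zpowers, hi])
  have hmod := hH.card_modEq_card_fixedPoints X
  have hfx : Nat.card (MulAction.fixedPoints ↥(Subgroup.zpowers σ) X) = 0 := by
    rw [Nat.card_eq_zero]
    refine Or.inl ⟨fun x => ?_⟩
    have h1 := x.2 ⟨σ, Subgroup.mem_zpowers σ⟩
    have h2 : ω x.1.1 = x.1.1 := congrArg Subtype.val h1
    exact x.1.2 (CfsgLib.PGroups.pow_eq_one_of_mem_center_of_special hE.1 ((hfix _).1 h2))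
  rw [hfx, show Nat.card X = 2 ^ (2 * m) - 2 ^ m from
    CfsgLib.LocalEven.PlusType.count m hE hcard hplus] at hmod
  have hd : 5 ∣ 2 ^ m * (2 ^ m - 1) := by
    rw [Nat.mul_sub, mul_one, ← pow_add, ← two_mul]
    exact Nat.modEq_zero_iff_dvd.1 hmod
  rcases (Nat.Prime.dvd_mul (by norm_num)).1 hd with h | h
  · exact absurd ((by norm_num : Nat.Prime 5).dvd_of_dvd_pow h) (by norm_num)
  · have h1 : 2 ^ m % 5 = 1 := by
      have := Nat.one_le_two_pow (n := m)
      omega
    rw [Nat.pow_mod] at h1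
    have h2 : m = 4 * (m / 4) + m % 4 := (Nat.div_add_mod m 4).symm
    rw [h2, pow_add, pow_mul, Nat.mul_mod, Nat.pow_mod] at h1
    norm_num at h1
    have h3 : m % 4 < 4 := Nat.mod_lt _ (by norm_num)
    refine Nat.dvd_of_mod_eq_zero ?_
    interval_cases h4 : m % 4
    · rfl
    all_goals norm_num at h1

end Cfsg.Agent.S2881
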