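import Cfsg.Statements.S2896
import Cfsg.Agent.Lib.LocalEven.CharPLocal
-- import your own Cfsg.Agent.* helpers here

set_option autoImplicit false
open Cfsg

namespace Cfsg.Agent.S2896

/-- Let p be a prime dividing the order of the finite group G, S a Sylow p-subgroup of G and X a subgroup of S. (i) If some nontrivial element z of the centre of X has F*(C_G(z)) = O_p(C_G(z)), then F*(N_G(X)) = O_p(N_G(X)). (ii) G has parabolic characteristic p if and only if F*(C_G(z)) = O_p(C_G(z)) for every nontrivial z ∈ Ω₁(Z(S)). (iii) If F*(C_G(z)) = O_p(C_G(z)) for every element z of S of order p, then G has local characteristic p. -/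
theorem result {G : Type*} [Group G] [Finite G] {p : ℕ} [Fact p.Prime] (hdiv : p ∣ Nat.card G) (S : Sylow p G) (X : Subgroup G) (hX : X ≤ (S : Subgroup G)) : (∀ z : G, z ≠ 1 → z ∈ X → (∀ x ∈ X, x * z = z * x) → Cfsg.generalizedFittingSubgroup ↥(Subgroup.centralizer ({z} : Set G)) = Cfsg.pCore p ↥(Subgroup.centralizer ({z} : Set G)) → Cfsg.generalizedFittingSubgroup ↥(Subgroup.normalizer (X : Set G)) = Cfsg.pCore p ↥(Subgroup.normalizer (X : Set G))) ∧ (Cfsg.IsOfParabolicCharacteristic p G ↔ ∀ z : G, z ≠ 1 → z ∈ Cfsg.omegaOne p ((S : Subgroup G) ⊓ Subgroup.centralizer ((S : Subgroup G) : Set G)) → Cfsg.generalizedFittingSubgroup ↥(Subgroup.centralizer ({z} : Set G)) = Cfsg.pCore p ↥(Subgroup.centralizer ({z} : Set G))) ∧ ((∀ z : G, z ∈ (S : Subgroup G) → orderOf z = p → Cfsg.generalizedFittingSubgroup ↥(Subgroup.centralizer ({z} : Set G)) = Cfsg.pCore p ↥(Subgroup.centralizer ({z} : Set G))) → Cfsg.IsOfLocalCharacteristic p G) := by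
  have hXp : IsPGroup p X := S.2.to_le hX
  refine ⟨fun z hz1 hzX hzc hC => ?_, ⟨fun hG z hz1 hz => ?_, fun h => ?_⟩,
    fun h => CfsgLib.LocalEven.CharPLocal.localChar_of_centralizers hdiv S h⟩
  · exact CfsgLib.LocalEven.CharPLocal.fstar_normalizer_of_le hXp
      (fun x hx => Subgroup.mem_centralizer_singleton_iff.2 (hzc x hx))
      (Subgroup.centralizer_le (Set.singleton_subset_iff.2 hzX))
      (CfsgLib.Components.fstar_eq_pCore_iff.1 hC)
  · obtain ⟨hzS, hzc⟩ := CfsgLib.LocalEven.CharPLocal.omegaOne_le _ hz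
    exact CfsgLib.LocalEven.CharPLocal.charP_centralizer_of_parabolic hG S hzS hz1 fun s hs =>
      Subgroup.mem_centralizer_singleton_iff.2 (hzc s hs)
  · refine CfsgLib.LocalEven.CharPLocal.parabolic_of_centralizers S fun z hzp hzS hSz => h z ?_ ?_
    · intro e
      rw [e, orderOf_one] at hzp
      exact (Fact.out : p.Prime).ne_one hzp.symm
    · exact CfsgLib.LocalEven.CharPLocal.mem_omegaOne_of_orderOf
        ⟨hzS, fun s hs => Subgroup.mem_centralizer_singleton_iff.1 (hSz hs)⟩ hzp

end Cfsg.Agent.S2896
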