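import Cfsg.Statements.S2911
import Cfsg.Agent.Lib.Transfer.ThompsonTransfer
-- import your own Cfsg.Agent.* helpers here

set_option autoImplicit false
open Cfsg

namespace Cfsg.Agent.S2911

open scoped Pointwise

/-- Transfer for an involution centralised by a Sylow 2-subgroup `S`: if no conjugate by an element
of `N(S)` lies in the subgroup `Q` of index 2 in `S`, there is a subgroup of index 2. -/
theorem exists_index_two_of_central {G : Type*} [Group G] [Finite G] (S : Sylow 2 G)
    {Q : Subgroup G} (hQS : Q ≤ (S : Subgroup G)) (hQi : Q.relIndex (S : Subgroup G) = 2) {u : G}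
    (hu : u * u = 1) (hcent : ∀ s ∈ (S : Subgroup G), s * u = u * s)
    (hno : ∀ g ∈ Subgroup.normalizer ((S : Subgroup G) : Set G), g⁻¹ * u * g ∉ Q) :
    ∃ M : Subgroup G, M.index = 2 := by
  classical
  let _ : Fintype (G ⧸ Q) := Fintype.ofFinite _
  let φ : G →* ℤˣ := Equiv.Perm.sign.comp (MulAction.toPermHom G (G ⧸ Q))
  set σ : Equiv.Perm (G ⧸ Q) := MulAction.toPermHom G (G ⧸ Q) u with hσ
  have hσ2 : σ ^ 2 = 1 := by rw [hσ, ← map_pow, pow_two, hu, map_one]
  have hfixed : ∀ g : G, σ (g : G ⧸ Q) = (g : G ⧸ Q) ↔ g⁻¹ * u * g ∈ Q := by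
    intro g
    show ((u * g : G) : G ⧸ Q) = (g : G ⧸ Q) ↔ _
    rw [eq_comm, QuotientGroup.eq, mul_assoc]
  -- the fixed cosets are four-divisible: `S` acts on their images in `G / S` without fixed points
  let Ω := {a : G ⧸ (S : Subgroup G) //
    ∃ g : G, (g : G ⧸ (S : Subgroup G)) = a ∧ g⁻¹ * u * g ∈ Q}
  let actΩ : MulAction (S : Subgroup G) Ω :=
    { smul := fun s a => ⟨(s : G) • a.1, by
        obtain ⟨g, hg, hgQ⟩ := a.2
        refine ⟨(s : G) * g, by rw [← hg]; rfl, ?_⟩
        have e : ((s : G) * g)⁻¹ * u * ((s : G) * g) = g⁻¹ * u * g := by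
          calc ((s : G) * g)⁻¹ * u * ((s : G) * g) = g⁻¹ * (s : G)⁻¹ * (u * (s : G)) * g := by group
            _ = g⁻¹ * u * g := by rw [← hcent _ s.2]; group
        rwa [e]⟩
      one_smul := fun a => Subtype.ext (one_smul G a.1)
      mul_smul := fun s t a => Subtype.ext (mul_smul (s : G) (t : G) a.1) }
  have hempty : IsEmpty (MulAction.fixedPoints (S : Subgroup G) Ω) := by
    constructor
    rintro ⟨⟨a, g, rfl, hgQ⟩, hfix⟩
    refine hno g ?_ hgQ
    rw [← inv_mem_iff]
    refine Subgroup.mem_normalizer_iff_map_conj_eq.2 (Subgroup.eq_of_le_of_card_ge ?_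
      (Subgroup.card_map_of_injective (K := (S : Subgroup G))
        (f := (MulAut.conj g⁻¹).toMonoidHom) (MulAut.conj g⁻¹).injective).ge)
    rintro _ ⟨s, hs, rfl⟩
    have h1 : ((s * g : G) : G ⧸ (S : Subgroup G)) = (g : G ⧸ (S : Subgroup G)) :=
      congrArg Subtype.val (hfix ⟨s, hs⟩)
    rw [eq_comm, QuotientGroup.eq, ← mul_assoc] at h1
    simpa using h1
  have hΩ : 2 ∣ Nat.card Ω := by
    have h := (show IsPGroup 2 (S : Subgroup G) from S.2).card_modEq_card_fixedPoints Ω
    rw [Nat.card_of_isEmpty (α := MulAction.fixedPoints (S : Subgroup G) Ω)] at h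
    exact Nat.modEq_zero_iff_dvd.1 h
  have hfix : Nat.card (Function.fixedPoints σ) = 2 * Nat.card Ω := by
    let π : G ⧸ Q → G ⧸ (S : Subgroup G) := Subgroup.quotientMapOfLE hQS
    have hπ : ∀ g : G, π (g : G ⧸ Q) = (g : G ⧸ (S : Subgroup G)) := fun g => rfl
    have hinv : ∀ (g : G), g⁻¹ * u * g ∈ Q → ∀ q ∈ (S : Subgroup G),
        (g * q)⁻¹ * u * (g * q) = g⁻¹ * u * g → (g * q)⁻¹ * u * (g * q) ∈ Q := fun g h q _ e => by
      rwa [e]
    have hnormal : (Q.subgroupOf (S : Subgroup G)).Normal :=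
      Subgroup.normal_of_index_eq_two hQi
    -- fixed cosets are the preimage of `Ω`
    have key : ∀ g : G, σ (g : G ⧸ Q) = (g : G ⧸ Q) ↔
        ∃ g' : G, (g' : G ⧸ (S : Subgroup G)) = (g : G ⧸ (S : Subgroup G)) ∧
          g'⁻¹ * u * g' ∈ Q := by
      intro g
      rw [hfixed]
      refine ⟨fun h => ⟨g, rfl, h⟩, ?_⟩
      rintro ⟨g', e, h⟩
      have hq : g'⁻¹ * g ∈ (S : Subgroup G) := QuotientGroup.eq.1 e
      have h2 := hnormal.conj_mem ⟨g'⁻¹ * u * g', hQS h⟩ h ⟨g'⁻¹ * g, hq⟩⁻¹
      rw [Subgroup.mem_subgroupOf] at h2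
      simpa [mul_assoc] using h2
    let e1 : Function.fixedPoints σ ≃ {x : (G ⧸ (S : Subgroup G)) × ((S : Subgroup G) ⧸ Q.subgroupOf (S : Subgroup G)) //
        ∃ g : G, (g : G ⧸ (S : Subgroup G)) = x.1 ∧ g⁻¹ * u * g ∈ Q} :=
      Equiv.subtypeEquiv (Subgroup.quotientEquivProdOfLE hQS) (by
        intro a
        induction a using Quotient.inductionOn' with | _ g =>
        exact key g)
    rw [Nat.card_congr (e1.trans (Equiv.prodSubtypeFstEquivSubtypeProd
      (p := fun a : G ⧸ (S : Subgroup G) => ∃ g : G, (g : G ⧸ (S : Subgroup G)) = a ∧ g⁻¹ * u * g ∈ Q))),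
      Nat.card_prod, ← Subgroup.index, ← Subgroup.relIndex, hQi, mul_comm]
  refine ⟨φ.ker, ?_⟩
  have hodd : Odd (S : Subgroup G).index :=
    Nat.not_even_iff_odd.mp fun he => S.not_dvd_index (even_iff_two_dvd.mp he)
  have hne : φ u ≠ 1 := by
    show Equiv.Perm.sign σ ≠ 1
    rw [Equiv.Perm.sign_of_pow_two_eq_one hσ2]
    have hcard : Fintype.card (G ⧸ Q) = 2 * (S : Subgroup G).index := by
      rw [← Nat.card_eq_fintype_card, ← Subgroup.index, ← Subgroup.relIndex_mul_index hQS, hQi]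
    have hfix' : Fintype.card (Function.fixedPoints σ) = 2 * Nat.card Ω := by
      rw [← Nat.card_eq_fintype_card, hfix]
    rw [hfix', hcard, ← Nat.mul_sub, Nat.mul_div_cancel_left _ (by norm_num)]
    have hle : Nat.card Ω ≤ (S : Subgroup G).index := Finite.card_subtype_le _
    obtain ⟨k, hk⟩ := hΩ
    obtain ⟨m, hm⟩ := hodd
    have : Odd ((S : Subgroup G).index - Nat.card Ω) := ⟨m - k, by omega⟩
    rw [this.neg_one_pow]
    decide
  have hr : φ.range = ⊤ := by
    rw [eq_top_iff]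
    intro x _
    rcases Int.units_eq_one_or x with rfl | rfl
    · exact one_mem _
    · exact ⟨u, (Int.units_eq_one_or (φ u)).resolve_left hne⟩
  rw [Subgroup.index_ker, hr, Subgroup.card_top, Nat.card_eq_fintype_card, Fintype.card_units_int]

/-- A finite group whose Sylow 2-subgroups are isomorphic to the direct product of a group of order 2 and a dihedral group of order 8 has a subgroup of index two. -/
theorem result {G : Type*} [Group G] [Finite G] (S : Sylow 2 G) (hS : Nonempty (↥(S : Subgroup G) ≃* Multiplicative (ZMod 2) × DihedralGroup 4)) : ∃ H : Subgroup G, H.index = 2 := by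
  obtain ⟨e⟩ := hS
  set φ : ↥(S : Subgroup G) →* Multiplicative (ZMod 2) := (MonoidHom.fst _ _).comp e.toMonoidHom
    with hφ
  set c : ↥(S : Subgroup G) := e.symm (Multiplicative.ofAdd 1, 1) with hc
  have hmodel : ∀ m : Multiplicative (ZMod 2) × DihedralGroup 4,
      (∀ k, m * k = k * m) → (∀ k, k * k ≠ m) → m.1 ≠ 1 := by decide
  have hc' : ∀ k : Multiplicative (ZMod 2) × DihedralGroup 4,
      ((Multiplicative.ofAdd 1, 1) : Multiplicative (ZMod 2) × DihedralGroup 4) * k =
        k * (Multiplicative.ofAdd 1, 1) ∧ k * k ≠ (Multiplicative.ofAdd 1, 1) := by decide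
  have hsurj : φ.range = ⊤ := by
    rw [MonoidHom.range_eq_top]
    exact fun a => ⟨e.symm (a, 1), by simp [hφ]⟩
  refine exists_index_two_of_central S (Q := φ.ker.map (S : Subgroup G).subtype)
    (Subgroup.map_subtype_le _) ?_ (u := (c : G)) ?_ ?_ ?_
  · rw [Subgroup.relIndex, Subgroup.subgroupOf, Subgroup.comap_map_eq_self_of_injective
      (S : Subgroup G).subtype_injective, Subgroup.index_ker, hsurj, Subgroup.card_top,
      Nat.card_eq_fintype_card]
    decide
  · have h : c * c = 1 := e.injective (by rw [map_mul, hc, MulEquiv.apply_symm_apply, e.map_one]; decide)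
    exact congrArg Subtype.val h
  · intro s hs
    have h : (⟨s, hs⟩ : ↥(S : Subgroup G)) * c = c * ⟨s, hs⟩ := e.injective (by
      rw [map_mul, map_mul, hc, MulEquiv.apply_symm_apply]; exact (hc' _).1.symm)
    exact congrArg Subtype.val h
  · rintro g hg ⟨w, hw, hwg⟩
    have hconj : ∀ y : ↥(S : Subgroup G), g * (y : G) * g⁻¹ ∈ (S : Subgroup G) := fun y =>
      (Subgroup.mem_normalizer_iff.1 hg y).1 y.2
    have hback : ∀ y : ↥(S : Subgroup G), g⁻¹ * (y : G) * g ∈ (S : Subgroup G) := fun y => by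
      simpa using (Subgroup.mem_normalizer_iff.1 (inv_mem hg) y).1 y.2
    have hwg' : (w : G) = g⁻¹ * (c : G) * g := hwg
    have h1 : ∀ k, (e w) * k = k * e w := by
      intro k
      obtain ⟨y, rfl⟩ := e.surjective k
      rw [← map_mul, ← map_mul]
      congr 1
      apply Subtype.ext
      have hcy : c * ⟨_, hconj y⟩ = ⟨_, hconj y⟩ * c := e.injective (by
        rw [map_mul, map_mul, hc, MulEquiv.apply_symm_apply]; exact (hc' _).1)
      have hcy' : (c : G) * (g * (y : G) * g⁻¹) = g * (y : G) * g⁻¹ * (c : G) :=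
        congrArg Subtype.val hcy
      calc (w : G) * y = g⁻¹ * ((c : G) * (g * (y : G) * g⁻¹)) * g := by rw [hwg']; group
        _ = (y : G) * w := by rw [hcy', hwg']; group
    have h2 : ∀ k, k * k ≠ e w := by
      intro k hk
      obtain ⟨y, rfl⟩ := e.surjective k
      rw [← map_mul] at hk
      have hy : (y : G) * y = w := congrArg Subtype.val (e.injective hk)
      have h3 : (⟨_, hconj y⟩ : ↥(S : Subgroup G)) * ⟨_, hconj y⟩ = c := by
        apply Subtype.ext
        calc g * (y : G) * g⁻¹ * (g * (y : G) * g⁻¹) = g * ((y : G) * y) * g⁻¹ := by group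
          _ = c := by rw [hy, hwg']; group
      refine (hc' (e ⟨_, hconj y⟩)).2 ?_
      rw [← map_mul, h3, hc, MulEquiv.apply_symm_apply]
    exact hmodel _ h1 h2 hw

end Cfsg.Agent.S2911
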