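import Cfsg.Statements.S2912
import Cfsg.Agent.Lib.LocalEven.ExtraspecialDim
-- import your own Cfsg.Agent.* helpers here

set_option autoImplicit false
open Cfsg

namespace Cfsg.Agent.S2912

/-- Let p and r be distinct primes, let E be an extraspecial subgroup of order p^(2w+1) of a finite group, and let A be an elementary abelian r-subgroup normalized by E on which E acts faithfully (C_E(A) = 1). If n ≥ 1 is least with p dividing rⁿ − 1 (the smallest dimension of a faithful representation of a group of order p over the field with r elements), then the order of A is at least r^(n·p^w). -/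
theorem result {G : Type*} [Group G] [Finite G] {p r : ℕ} [Fact p.Prime] [hr : Fact r.Prime] (hpr : p ≠ r) (E A : Subgroup G) (w : ℕ) (hE : Cfsg.IsExtraspecial p ↥E) (hEcard : Nat.card ↥E = p ^ (2 * w + 1)) (hA : Cfsg.IsElementaryAbelian r A) (hnorm : E ≤ Subgroup.normalizer (A : Set G)) (hfaith : E ⊓ Subgroup.centralizer (A : Set G) = ⊥) (n : ℕ) (hn : 1 ≤ n) (hdiv : p ∣ r ^ n - 1) (hmin : ∀ k : ℕ, 1 ≤ k → p ∣ r ^ k - 1 → n ≤ k) : r ^ (n * p ^ w) ≤ Nat.card ↥A := by
  letI : CommGroup ↥A :=
    { (inferInstance : Group ↥A) with mul_comm := fun a b => hA.1.is_comm.comm a b }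
  have hmem : ∀ (e : ↥E) (a : ↥A), (e : G) * a * (e : G)⁻¹ ∈ A :=
    fun e a => (Subgroup.mem_normalizer_iff.1 (hnorm e.2) a).1 a.2
  let θ : ↥E →* MulAut ↥A :=
    { toFun := fun e =>
        { toFun := fun a => ⟨(e : G) * a * (e : G)⁻¹, hmem e a⟩
          invFun := fun a => ⟨((e⁻¹ : ↥E) : G) * a * ((e⁻¹ : ↥E) : G)⁻¹, hmem e⁻¹ a⟩
          left_inv := fun a => Subtype.ext (by simp [mul_assoc])
          right_inv := fun a => Subtype.ext (by simp [mul_assoc])
          map_mul' := fun a b => Subtype.ext (by simp [mul_assoc]) }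
      map_one' := MulEquiv.ext fun a => Subtype.ext (by simp)
      map_mul' := fun e e' => MulEquiv.ext fun a => Subtype.ext (by simp [mul_assoc]) }
  have hθ : Function.Injective θ := by
    rw [injective_iff_map_eq_one]
    intro e he
    have h1 : (e : G) ∈ E ⊓ Subgroup.centralizer (A : Set G) := by
      refine ⟨e.2, fun a ha => ?_⟩
      have h2 : (e : G) * a * (e : G)⁻¹ = a :=
        congrArg Subtype.val (DFunLike.congr_fun he (⟨a, ha⟩ : ↥A))
      rw [mul_inv_eq_iff_eq_mul] at h2
      exact h2.symm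
    rw [hfaith, Subgroup.mem_bot] at h1
    exact Subtype.ext h1
  exact CfsgLib.LocalEven.ExtraDim.bound_comm hpr (fun a => Subtype.ext (hA.2 a a.2)) w n hE hEcard θ hθ hmin

end Cfsg.Agent.S2912
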