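import Cfsg.Statements.S2925
import Cfsg.Agent.Lib.Components.Basic
import Cfsg.Agent.Lib.Components.Balance
import Cfsg.Agent.Lib.Base.Transport
import Cfsg.Agent.Lib.LocalEven.SubnormalSylow
-- import your own Cfsg.Agent.* helpers here

set_option autoImplicit false
open Cfsg

namespace Cfsg.Agent.S2925

/-- Let K be a component of the finite group X and T a Sylow 2-subgroup of X. If some abelian normal subgroup Y of T does not normalize K, then K ⧸ Z(K) has abelian Sylow 2-subgroups. -/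
theorem result {X : Type*} [Group X] [Finite X] (K : Subgroup X) (hK : Cfsg.IsComponent K) (T : Sylow 2 X) (Y : Subgroup X) (hYT : Y ≤ (T : Subgroup X)) (hYn : (Y.subgroupOf (T : Subgroup X)).Normal) (hYab : IsMulCommutative ↥Y) (hnot : ¬ Y ≤ Subgroup.normalizer (K : Set X)) (P : Sylow 2 (↥K ⧸ Subgroup.center ↥K)) : IsMulCommutative ↥(P : Subgroup (↥K ⧸ Subgroup.center ↥K)) := by
  obtain ⟨y, hyY, hyK⟩ := SetLike.not_le_iff_exists.1 hnot
  set K' := K.map (MulAut.conj y).toMonoidHom with hK'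
  have hne : K ≠ K' := fun h => hyK (CfsgLib.Base.map_conj_eq_self_iff.1 h.symm)
  have hcomm : ∀ a ∈ K, ∀ b ∈ K', a * b = b * a := by
    have h := CfsgLib.Components.components_commute hK (CfsgLib.Components.isComponent_conj hK y) hne
    rw [Subgroup.commutator_eq_bot_iff_le_centralizer] at h
    exact fun a ha b hb => (Subgroup.mem_centralizer_iff.1 (h ha) b hb).symm
  let SK : Sylow 2 ↥K := (T.2.comap_of_injective K.subtype K.subtype_injective).toSylow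
    (CfsgLib.Components.not_dvd_relIndex_of_isSubnormal T hK.1)
  have hSK : ∀ a b : ↥K, a ∈ (SK : Subgroup ↥K) → b ∈ (SK : Subgroup ↥K) →
      a * b * a⁻¹ * b⁻¹ ∈ Subgroup.center ↥K := by
    intro a b ha hb
    set k : X := (a : X) with hk
    set l : X := (b : X) with hl
    have hc : ∀ z ∈ (T : Subgroup X), z⁻¹ * (y * z * y⁻¹) ∈ Y := by
      intro z hz
      have h1 : z⁻¹ * y * z ∈ Y := by
        have := hYn.conj_mem ⟨y, hYT hyY⟩ hyY ⟨z⁻¹, (T : Subgroup X).inv_mem hz⟩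
        simpa [Subgroup.mem_subgroupOf] using this
      have := Y.mul_mem h1 (Y.inv_mem hyY)
      simpa [mul_assoc] using this
    have hkl := congrArg Subtype.val
      (hYab.is_comm.comm ⟨_, hc k ha⟩ ⟨_, hc l hb⟩)
    simp only [Subgroup.coe_mul] at hkl
    have hk' : y * k * y⁻¹ ∈ K' := ⟨k, a.2, rfl⟩
    have hl' : y * l * y⁻¹ ∈ K' := ⟨l, b.2, rfl⟩
    generalize y * k * y⁻¹ = k' at hk' hkl
    generalize y * l * y⁻¹ = l' at hl' hkl
    have e1 : k' * l⁻¹ = l⁻¹ * k' := (hcomm _ (K.inv_mem b.2) _ hk').symm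
    have e2 : l' * k⁻¹ = k⁻¹ * l' := (hcomm _ (K.inv_mem a.2) _ hl').symm
    have e3 : k⁻¹ * l⁻¹ * (k' * l') = l⁻¹ * k⁻¹ * (l' * k') :=
      calc k⁻¹ * l⁻¹ * (k' * l') = k⁻¹ * (l⁻¹ * k') * l' := by group
        _ = k⁻¹ * k' * (l⁻¹ * l') := by rw [← e1]; group
        _ = l⁻¹ * l' * (k⁻¹ * k') := hkl
        _ = l⁻¹ * (l' * k⁻¹) * k' := by group
        _ = l⁻¹ * k⁻¹ * (l' * k') := by rw [e2]; group
    have e4 : k * l * k⁻¹ * l⁻¹ = (l' * k') * (k' * l')⁻¹ :=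
      calc k * l * k⁻¹ * l⁻¹ = k * l * (k⁻¹ * l⁻¹ * (k' * l')) * (k' * l')⁻¹ := by group
        _ = (l' * k') * (k' * l')⁻¹ := by rw [e3]; group
    refine Subgroup.mem_center_iff.2 fun c => Subtype.ext ?_
    have hmem : k * l * k⁻¹ * l⁻¹ ∈ K' :=
      e4 ▸ K'.mul_mem (K'.mul_mem hl' hk') (K'.inv_mem (K'.mul_mem hk' hl'))
    simpa using hcomm (c : X) c.2 _ hmem
  obtain ⟨R, hR⟩ := Sylow.mapSurjective_surjective
    (QuotientGroup.mk'_surjective (Subgroup.center ↥K)) 2 P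
  obtain ⟨g, hg⟩ := MulAction.exists_smul_eq ↥K SK R
  refine ⟨⟨fun u v => ?_⟩⟩
  have huv : ∀ w : ↥(P : Subgroup (↥K ⧸ Subgroup.center ↥K)),
      ∃ c ∈ (SK : Subgroup ↥K), QuotientGroup.mk (g * c * g⁻¹) = (w : ↥K ⧸ Subgroup.center ↥K) := by
    intro w
    have hw : (w : ↥K ⧸ Subgroup.center ↥K) ∈ (P : Subgroup (↥K ⧸ Subgroup.center ↥K)) := w.2
    generalize (w : ↥K ⧸ Subgroup.center ↥K) = z at hw ⊢
    rw [← hR, ← hg] at hw
    obtain ⟨r, hr, hrw⟩ := hw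
    rw [Sylow.coe_subgroup_smul] at hr
    obtain ⟨c, hc, rfl⟩ := hr
    exact ⟨c, hc, hrw⟩
  obtain ⟨a, ha, hu⟩ := huv u
  obtain ⟨b, hb, hv⟩ := huv v
  refine Subtype.ext ?_
  simp only [Subgroup.coe_mul]
  rw [← hu, ← hv, ← QuotientGroup.mk_mul, ← QuotientGroup.mk_mul, QuotientGroup.eq]
  have h := (inferInstance : (Subgroup.center ↥K).Normal).conj_mem _ (hSK b⁻¹ a⁻¹
    ((SK : Subgroup ↥K).inv_mem hb) ((SK : Subgroup ↥K).inv_mem ha)) g
  have e : g * (b⁻¹ * a⁻¹ * b⁻¹⁻¹ * a⁻¹⁻¹) * g⁻¹ =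
      (g * a * g⁻¹ * (g * b * g⁻¹))⁻¹ * (g * b * g⁻¹ * (g * a * g⁻¹)) := by group
  exact e ▸ h

end Cfsg.Agent.S2925
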