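import Cfsg.Statements.S2928
import Cfsg.Agent.Lib.LocalEven.DoubleTransposition
-- import your own Cfsg.Agent.* helpers here

set_option autoImplicit false
open Cfsg

namespace Cfsg.Agent.S2928

/-- Let n ≥ 8 and let H be a subgroup of the symmetric group of degree n whose generalized Fitting subgroup F*(H) is quasisimple. If H contains a Sylow 2-subgroup of the alternating group of degree n, then F*(H) is isomorphic to an alternating group of degree m for some m ∈ {n − 3, n − 2, n − 1, n}. -/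
theorem result (n : ℕ) (hn : 8 ≤ n) (H : Subgroup (Equiv.Perm (Fin n))) (hF : Cfsg.IsQuasisimple ↥(Cfsg.generalizedFittingSubgroup ↥H)) (hS : ∃ P : Sylow 2 ↥(alternatingGroup (Fin n)), ((P : Subgroup ↥(alternatingGroup (Fin n))).map (alternatingGroup (Fin n)).subtype) ≤ H) : ∃ m : ℕ, (m = n - 3 ∨ m = n - 2 ∨ m = n - 1 ∨ m = n) ∧ Nonempty (↥(Cfsg.generalizedFittingSubgroup ↥H) ≃* ↥(alternatingGroup (Fin m))) := by
  classical
  obtain ⟨S, hS⟩ := hS
  let m := n / 2
  let f₀ : Fin m → Bool → Fin n := fun i b => ⟨2 * i.val + b.toNat, by have := i.2; cases b <;> simp <;> omega⟩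
  have hf₀ : ∀ i b j c, f₀ i b = f₀ j c → i = j ∧ b = c := fun i b j c h => by
    have := congrArg Fin.val h; simp only [f₀] at this
    cases b <;> cases c <;> simp at this ⊢ <;> first | exact Fin.ext (by omega) | omega
  let τ : Fin m → Equiv.Perm (Fin n) := fun i => Equiv.swap (f₀ i false) (f₀ i true)
  have hτc : ∀ i j, Commute (τ i) (τ j) := fun i j => by
    rcases eq_or_ne i j with rfl | hij
    · exact Commute.refl _
    · exact Equiv.Perm.Disjoint.commute fun x => by
        by_cases hx : ∃ b, x = f₀ i b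
        · obtain ⟨b, rfl⟩ := hx
          exact Or.inr (Equiv.swap_apply_of_ne_of_ne (fun e => hij (hf₀ _ _ _ _ e).1) (fun e => hij (hf₀ _ _ _ _ e).1))
        · push Not at hx
          exact Or.inl (Equiv.swap_apply_of_ne_of_ne (hx _) (hx _))
  let t : Fin m × Fin m → ↥(alternatingGroup (Fin n)) := fun q => ⟨τ q.1 * τ q.2, by
    simp [τ, Equiv.Perm.mem_alternatingGroup, Equiv.Perm.sign_swap', hf₀, show ∀ i, f₀ i false ≠ f₀ i true from
      fun i e => Bool.false_ne_true (hf₀ _ _ _ _ e).2]⟩
  have htc : ∀ x ∈ Set.range t, ∀ y ∈ Set.range t, x * y = y * x := by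
    rintro _ ⟨q, rfl⟩ _ ⟨r, rfl⟩
    exact Subtype.ext (((hτc _ _).mul_right (hτc _ _)).mul_left ((hτc _ _).mul_right (hτc _ _))).eq
  have hp : IsPGroup 2 ↥(Subgroup.closure (Set.range t)) := by
    have key : ∀ x ∈ Subgroup.closure (Set.range t), x ^ 2 = 1 := by
      intro x hx
      induction hx using Subgroup.closure_induction with
      | mem x hx =>
        obtain ⟨q, rfl⟩ := hx
        refine Subtype.ext ?_
        show (τ q.1 * τ q.2) ^ 2 = 1
        rw [(hτc _ _).mul_pow, pow_two, pow_two, Equiv.swap_mul_self, Equiv.swap_mul_self, one_mul]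
      | one => exact one_pow _
      | mul x y hx hy h₁ h₂ =>
        have hab := Subgroup.isMulCommutative_closure htc
        have hc : Commute x y := congrArg Subtype.val (hab.is_comm.comm ⟨x, hx⟩ ⟨y, hy⟩)
        rw [hc.mul_pow, h₁, h₂, one_mul]
      | inv x _ h => rw [inv_pow, h, inv_one]
    exact fun x => ⟨1, Subtype.ext (by simpa using key x.1 x.2)⟩
  obtain ⟨Q, hQ⟩ := hp.exists_le_sylow
  obtain ⟨g, hg⟩ := MulAction.exists_smul_eq ↥(alternatingGroup (Fin n)) Q S
  let f : Fin m → Bool → Fin n := fun i b => (g : Equiv.Perm (Fin n)) (f₀ i b)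
  have hf : ∀ i b j c, f i b = f j c → i = j ∧ b = c := fun i b j c h =>
    hf₀ _ _ _ _ ((g : Equiv.Perm (Fin n)).injective h)
  have hflip : ∀ i j, i ≠ j → ∃ s ∈ H, (∀ b, s (f i b) = f i (!b)) ∧ (∀ b, s (f j b) = f j (!b)) ∧
      ∀ x, (∀ b, x ≠ f i b) → (∀ b, x ≠ f j b) → s x = x := by
    intro i j hij
    have hm0 : g * t (i, j) * g⁻¹ ∈ (S : Subgroup ↥(alternatingGroup (Fin n))) := by
      rw [← hg]
      exact Subgroup.smul_mem_pointwise_smul _ (MulAut.conj g) _ (hQ (Subgroup.subset_closure ⟨(i, j), rfl⟩))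
    refine ⟨_, hS ⟨_, hm0, rfl⟩, ?_⟩
    have e : ∀ y, (g * t (i, j) * g⁻¹ : ↥(alternatingGroup (Fin n))).1 ((g : Equiv.Perm (Fin n)) y) =
        (g : Equiv.Perm (Fin n)) (τ i (τ j y)) := fun y => by
      show (g : Equiv.Perm (Fin n)) (τ i (τ j ((g : Equiv.Perm (Fin n))⁻¹ ((g : Equiv.Perm (Fin n)) y)))) = _
      rw [CfsgLib.LocalEven.DoubleTransposition.inv_apply]
    have hτ : ∀ k b, τ k (f₀ k b) = f₀ k (!b) := fun k b => by cases b <;> simp [τ]
    have hτn : ∀ k y, (∀ b, y ≠ f₀ k b) → τ k y = y := fun k y h => Equiv.swap_apply_of_ne_of_ne (h _) (h _)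
    refine ⟨fun b => ?_, fun b => ?_, fun x hxi hxj => ?_⟩
    · refine (e _).trans ?_
      rw [hτn j _ fun c h => hij (hf₀ _ _ _ _ h).1, hτ]
    · refine (e _).trans ?_
      rw [hτ, hτn i _ fun c h => hij (hf₀ _ _ _ _ h).1.symm]
    · obtain ⟨y, rfl⟩ := (g : Equiv.Perm (Fin n)).surjective x
      refine (e _).trans ?_
      rw [hτn j _ fun c h => hxj c (by rw [h]), hτn i _ fun c h => hxi c (by rw [h])]
  have hm : 4 ≤ m := by show 4 ≤ n / 2; omega
  have himg : ∀ I : Finset (Fin m), ((I ×ˢ (Finset.univ : Finset Bool)).image fun q => f q.1 q.2).card = I.card * 2 :=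
    fun I => by
      rw [Finset.card_image_of_injective _ fun q r h => Prod.ext (hf _ _ _ _ h).1 (hf _ _ _ _ h).2,
        Finset.card_product, Finset.card_univ, Fintype.card_bool]
  obtain ⟨a, b, c, habc⟩ := CfsgLib.LocalEven.DoubleTransposition.exists_threeCycle hF hm f hf hflip
    (fun i => if i.val = 0 then ⟨1, by omega⟩ else ⟨0, by omega⟩)
    (fun i e => by
      have := congrArg Fin.val e
      split at this <;> simp at this <;> omega)
    (fun T hT => by
      have hdis : Disjoint T (((Finset.univ : Finset (Fin m)) ×ˢ (Finset.univ : Finset Bool)).image fun q => f q.1 q.2) := by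
        rw [Finset.disjoint_left]
        intro x hx hx'
        obtain ⟨q, -, rfl⟩ := Finset.mem_image.1 hx'
        exact hT _ hx _ _ rfl
      have := Finset.card_le_univ (T ∪ (((Finset.univ : Finset (Fin m)) ×ˢ (Finset.univ : Finset Bool)).image fun q => f q.1 q.2))
      rw [Finset.card_union_of_disjoint hdis, himg, Finset.card_univ, Fintype.card_fin, Fintype.card_fin] at this
      show T.card ≤ 3
      have : m = n / 2 := rfl
      omega)
  obtain ⟨D, -, hD, hmov, hmap⟩ := CfsgLib.LocalEven.ThreeCycle.fstar_data H hF habc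
  have hinv : ∀ s ∈ H, ∀ x ∈ D, s x ∈ D := fun s hs x hx => by
    obtain ⟨y, z, h⟩ := hmov x hx
    exact hD _ _ _ (h.conj hs)
  have hpair : ∀ i, ∀ b, f i b ∈ D → ∀ c, f i c ∈ D := fun i b h c => by
    rcases eq_or_ne c b with rfl | hcb
    · exact h
    · obtain ⟨j, hj⟩ : ∃ j, i ≠ j := by
        by_cases h0 : i.val = 0
        · exact ⟨⟨1, by omega⟩, fun e => by simp [e] at h0⟩
        · exact ⟨⟨0, by omega⟩, fun e => by simp [e] at h0⟩
      obtain ⟨s, hs, hsi, -, -⟩ := hflip i j hj
      have := hinv s hs _ h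
      rwa [hsi, ← Bool.eq_not_iff.2 hcb] at this
  let I : Finset (Fin m) := Finset.univ.filter fun i => f i false ∈ D
  have hone : Iᶜ.card ≤ 1 := by
    rw [Finset.card_le_one]
    intro i hi j hj
    simp only [I, Finset.compl_filter, Finset.mem_filter, Finset.mem_univ, true_and] at hi hj
    by_contra hij
    obtain ⟨s, hs, hsi, -, hso⟩ := hflip i j hij
    have := CfsgLib.LocalEven.ThreeCycle.eq_one_of_fixes H hmap hs fun x hx =>
      hso x (fun b e => hi (hpair i b (e ▸ hx) false)) (fun b e => hj (hpair j b (e ▸ hx) false))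
    have h1 := hsi false
    rw [this] at h1
    exact Bool.false_ne_true (hf _ _ _ _ h1).2
  have hsub : ((I ×ˢ (Finset.univ : Finset Bool)).image fun q => f q.1 q.2) ⊆ D := by
    intro x hx
    obtain ⟨⟨i, b⟩, hq, rfl⟩ := Finset.mem_image.1 hx
    simp only [I, Finset.mem_product, Finset.mem_filter, Finset.mem_univ, true_and, and_true] at hq
    exact hpair i false hq b
  have hle := Finset.card_le_card hsub
  rw [himg] at hle
  have hI := Finset.card_compl I
  rw [Fintype.card_fin] at hI
  have hDn := D.card_le_univ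
  rw [Fintype.card_fin] at hDn
  have hm2 : m = n / 2 := rfl
  refine ⟨D.card, by omega, ⟨?_⟩⟩
  exact ((Cfsg.generalizedFittingSubgroup ↥H).equivMapOfInjective _ H.subtype_injective).trans
    ((MulEquiv.subgroupCongr hmap).trans
      (((alternatingGroup ↥D).equivMapOfInjective _ Equiv.Perm.ofSubtype_injective).symm.trans D.equivFin.altCongrHom))

end Cfsg.Agent.S2928
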