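import Cfsg.Statements.S2929
import Cfsg.Agent.Lib.LocalEven.ThreeCycleComponent
-- import your own Cfsg.Agent.* helpers here

set_option autoImplicit false
open Cfsg

namespace Cfsg.Agent.S2929

/-- Let n ≥ 5 and let H be a subgroup of the symmetric group of degree n whose generalized Fitting subgroup F*(H) is quasisimple. If H contains a Sylow 3-subgroup of the symmetric group, then F*(H) is isomorphic to an alternating group of degree m for some m ∈ {n − 2, n − 1, n}. -/
theorem result (n : ℕ) (hn : 5 ≤ n) (H : Subgroup (Equiv.Perm (Fin n))) (hF : Cfsg.IsQuasisimple ↥(Cfsg.generalizedFittingSubgroup ↥H)) (hS : ∃ P : Sylow 3 (Equiv.Perm (Fin n)), (P : Subgroup (Equiv.Perm (Fin n))) ≤ H) : ∃ m : ℕ, (m = n - 2 ∨ m = n - 1 ∨ m = n) ∧ Nonempty (↥(Cfsg.generalizedFittingSubgroup ↥H) ≃* ↥(alternatingGroup (Fin m))) := by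
  classical
  obtain ⟨S, hS⟩ := hS
  let k := n / 3
  let f : Fin k → Fin 3 → Fin n := fun i j => ⟨3 * i.val + j.val, by have := i.2; have := j.2; omega⟩
  let t : Fin k → Equiv.Perm (Fin n) := fun i => CfsgLib.LocalEven.ThreeCycle.cyc (f i 0) (f i 1) (f i 2)
  have hf : ∀ i j i' j', f i j = f i' j' → i = i' ∧ j = j' := fun i j i' j' h => by
    have := congrArg Fin.val h; simp only [f] at this
    have := j.2; have := j'.2
    exact ⟨Fin.ext (by omega), Fin.ext (by omega)⟩
  have hcomm : ∀ x ∈ Set.range t, ∀ y ∈ Set.range t, x * y = y * x := by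
    rintro _ ⟨i, rfl⟩ _ ⟨i', rfl⟩
    rcases eq_or_ne i i' with rfl | hne
    · rfl
    · rw [← mul_inv_eq_iff_eq_mul]
      simp only [t]
      rw [CfsgLib.LocalEven.ThreeCycle.conj_cyc]
      rw [CfsgLib.LocalEven.ThreeCycle.cyc_apply_of_ne, CfsgLib.LocalEven.ThreeCycle.cyc_apply_of_ne,
        CfsgLib.LocalEven.ThreeCycle.cyc_apply_of_ne] <;> exact fun e => hne (hf _ _ _ _ e).1.symm
  have ht3 : ∀ i, (t i).IsThreeCycle := fun i => CfsgLib.LocalEven.ThreeCycle.isThreeCycle_cyc
    (fun e => absurd (hf _ _ _ _ e).2 (by decide)) (fun e => absurd (hf _ _ _ _ e).2 (by decide))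
    (fun e => absurd (hf _ _ _ _ e).2 (by decide))
  have hp : IsPGroup 3 ↥(Subgroup.closure (Set.range t)) := by
    have key : ∀ x ∈ Subgroup.closure (Set.range t), x ^ 3 = 1 := by
      intro x hx
      induction hx using Subgroup.closure_induction with
      | mem x hx => obtain ⟨i, rfl⟩ := hx; rw [← (ht3 i).orderOf]; exact pow_orderOf_eq_one _
      | one => exact one_pow _
      | mul x y hx hy h₁ h₂ =>
        have hab := Subgroup.isMulCommutative_closure hcomm
        have hc : Commute x y := congrArg Subtype.val (hab.is_comm.comm ⟨x, hx⟩ ⟨y, hy⟩)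
        rw [hc.mul_pow, h₁, h₂, one_mul]
      | inv x _ h => rw [inv_pow, h, inv_one]
    exact fun x => ⟨1, Subtype.ext (by simpa using key x.1 x.2)⟩
  obtain ⟨Q, hQ⟩ := hp.exists_le_sylow
  obtain ⟨g, hg⟩ := MulAction.exists_smul_eq (Equiv.Perm (Fin n)) Q S
  have hgt : ∀ i, CfsgLib.LocalEven.ThreeCycle.P H (g (f i 0)) (g (f i 1)) (g (f i 2)) := fun i => by
    refine ⟨g.injective.ne (fun e => absurd (hf _ _ _ _ e).2 (by decide)),
      g.injective.ne (fun e => absurd (hf _ _ _ _ e).2 (by decide)),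
      g.injective.ne (fun e => absurd (hf _ _ _ _ e).2 (by decide)), hS ?_⟩
    rw [← CfsgLib.LocalEven.ThreeCycle.conj_cyc, ← hg]
    exact Subgroup.smul_mem_pointwise_smul _ (MulAut.conj g) _ (hQ (Subgroup.subset_closure ⟨i, rfl⟩))
  obtain ⟨D, -, hmem, ⟨e⟩⟩ := CfsgLib.LocalEven.ThreeCycle.fstar_equiv H hF (hgt ⟨0, by omega⟩)
  have hle : 3 * k ≤ D.card := by
    have hsub : (Finset.univ : Finset (Fin k × Fin 3)).image (fun q => g (f q.1 q.2)) ⊆ D := by
      intro x hx
      obtain ⟨⟨i, j⟩, -, rfl⟩ := Finset.mem_image.1 hx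
      fin_cases j
      · exact hmem _ _ _ (hgt i)
      · exact hmem _ _ _ (hgt i).rot
      · exact hmem _ _ _ (hgt i).rot.rot
    have := Finset.card_le_card hsub
    rw [Finset.card_image_of_injective _ (fun q q' h => Prod.ext (hf _ _ _ _ (g.injective h)).1 (hf _ _ _ _ (g.injective h)).2)] at this
    simpa [mul_comm] using this
  have hDn := D.card_le_univ
  rw [Fintype.card_fin] at hDn
  refine ⟨D.card, by omega, ⟨e.trans (D.equivFin.altCongrHom)⟩⟩

end Cfsg.Agent.S2929
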