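import Cfsg.Statements.S2930
import Cfsg.Agent.Lib.LocalEven.ThreeMinimalAlt
import Cfsg.Agent.Lib.FgsC.AltOddAut
-- import your own Cfsg.Agent.* helpers here

set_option autoImplicit false
open Cfsg

namespace Cfsg.Agent.S2930

/-- Let X be a finite 3-minimal group (a Sylow 3-subgroup is not normal and lies in a unique maximal subgroup) whose generalized Fitting subgroup is isomorphic to an alternating group of degree n ≥ 5. Then X = F*(X), and n = 6, n = 9, or n = 3ᵃ + 1 for some a ≥ 2. -/
theorem result {X : Type*} [Group X] [Finite X] (hX : Cfsg.IsPMinimal 3 X) (n : ℕ) (hn : 5 ≤ n) (hF : Nonempty (↥(Cfsg.generalizedFittingSubgroup X) ≃* ↥(alternatingGroup (Fin n)))) : Cfsg.generalizedFittingSubgroup X = ⊤ ∧ (n = 6 ∨ n = 9 ∨ ∃ a : ℕ, 2 ≤ a ∧ n = 3 ^ a + 1) := by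
  classical
  obtain ⟨e⟩ := hF
  haveI : Fact (Nat.Prime 3) := ⟨by norm_num⟩
  haveI hs : IsSimpleGroup ↥(alternatingGroup (Fin n)) := alternatingGroup.isSimpleGroup (by simp; omega)
  haveI : IsSimpleGroup ↥(Cfsg.generalizedFittingSubgroup X) := e.isSimpleGroup
  set E := Cfsg.generalizedFittingSubgroup X with hE
  have hEn : E.Normal := inferInstance
  -- every element of 3-power order induces an inner automorphism
  have h3 : ∀ x : X, ∀ k : ℕ, x ^ 3 ^ k = 1 → x ∈ E := by
    intro x k hx
    let ψ : MulAut ↥(alternatingGroup (Fin n)) := (e.symm.trans (MulAut.conjNormal x)).trans e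
    have hpow : ∀ (j : ℕ) a, (ψ ^ j) a = e (MulAut.conjNormal (x ^ j) (e.symm a)) := by
      intro j
      induction j with
      | zero => intro a; simp
      | succ j ih =>
        intro a
        rw [pow_succ', MulAut.mul_apply, ih, pow_succ', map_mul, MulAut.mul_apply]
        show e (MulAut.conjNormal x (e.symm (e _))) = _
        rw [MulEquiv.symm_apply_apply]
    have h1 : ψ ^ 3 ^ k = 1 := MulEquiv.ext fun a => by rw [hpow, hx]; simp
    obtain ⟨σ, hσ⟩ := CfsgLib.FgsC.AltOddAut.exists_conj_of_threeCycles (by simp; omega) ψ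
      (fun g hg => CfsgLib.FgsC.AltOddAut.isThreeCycle_of_odd (by simp; omega) ψ (Odd.pow (by decide)) h1 hg)
    have hσ3 : σ ^ 3 ^ k = 1 :=
      CfsgLib.KnownA.conjNormal_injective (Ω := Fin n) (by simp; omega) (by rw [map_pow, hσ, h1, map_one])
    have hsign : σ ∈ alternatingGroup (Fin n) := by
      rw [Equiv.Perm.mem_alternatingGroup]
      have := congrArg Equiv.Perm.sign hσ3
      rw [map_pow, map_one] at this
      rcases Int.units_eq_one_or (Equiv.Perm.sign σ) with h | h
      · exact h
      · rw [h, Odd.neg_one_pow (Odd.pow (by decide))] at this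
        exact absurd this (by decide)
    set w : ↥E := e.symm ⟨σ, hsign⟩ with hw
    have hconj : ∀ y : ↥E, x * (y : X) * x⁻¹ = (w : X) * y * (w : X)⁻¹ := by
      intro y
      have h2 : e (MulAut.conjNormal x y) = e (w * y * w⁻¹) := by
        rw [map_mul, map_mul, map_inv, hw, MulEquiv.apply_symm_apply]
        have := congrArg (fun q : MulAut ↥(alternatingGroup (Fin n)) => q (e y)) hσ
        simp only [ψ, MulEquiv.trans_apply, MulEquiv.symm_apply_apply] at this
        rw [← this]
        exact Subtype.ext (MulAut.conjNormal_apply _ _)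
      have := congrArg Subtype.val (e.injective h2)
      rwa [MulAut.conjNormal_apply] at this
    have hcen : (w : X)⁻¹ * x ∈ Subgroup.centralizer (E : Set X) := Subgroup.mem_centralizer_iff.2 fun y hy => by
      have h := hconj ⟨y, hy⟩
      calc y * ((w : X)⁻¹ * x) = (w : X)⁻¹ * ((w : X) * y * (w : X)⁻¹) * x := by group
        _ = (w : X)⁻¹ * (x * y * x⁻¹) * x := by rw [← h]
        _ = (w : X)⁻¹ * x * y := by group
    have := E.mul_mem w.2 (CfsgLib.Components.centralizer_fstar_le hcen)
    rwa [mul_inv_cancel_left] at this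
  -- Frattini
  obtain ⟨S⟩ : Nonempty (Sylow 3 X) := inferInstance
  have hSE : (S : Subgroup X) ≤ E := fun x hx => by
    obtain ⟨k, hk⟩ := S.2 ⟨x, hx⟩
    exact h3 x k (congrArg Subtype.val hk)
  obtain ⟨hSn, M, ⟨hM, hSM⟩, huniq⟩ := hX S
  have hle : ∀ K : Subgroup X, (S : Subgroup X) ≤ K → K ≠ ⊤ → K ≤ M := fun K hK hne => by
    obtain h | ⟨C, hC, hKC⟩ := eq_top_or_exists_le_coatom K
    · exact absurd h hne
    · exact huniq C ⟨hC, hK.trans hKC⟩ ▸ hKC
  have hEtop : E = ⊤ := by
    by_contra hne
    have h1 := hle E hSE hne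
    have h2 := hle (Subgroup.normalizer ((S : Subgroup X) : Set X)) Subgroup.le_normalizer
      (fun h => hSn (Subgroup.normalizer_eq_top_iff.1 h))
    refine hM.1 (top_le_iff.1 ?_)
    haveI : Finite (Sylow 3 ↥E) := inferInstance
    have h3' := Sylow.normalizer_sup_eq_top' S hSE
    rw [← h3']
    exact sup_le h2 h1
  refine ⟨hEtop, ?_⟩
  let φ : X ≃* ↥(alternatingGroup (Fin n)) :=
    (Subgroup.topEquiv.symm.trans (MulEquiv.subgroupCongr hEtop.symm)).trans e
  let f : X →* Equiv.Perm (Fin n) := (alternatingGroup (Fin n)).subtype.comp φ.toMonoidHom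
  have hf : Function.Injective f := (alternatingGroup (Fin n)).subtype_injective.comp φ.injective
  have hfr : f.range = alternatingGroup (Fin n) := by
    rw [MonoidHom.range_comp, MonoidHom.range_eq_top.2 φ.surjective, ← MonoidHom.range_eq_map, Subgroup.range_subtype]
  have h := CfsgLib.LocalEven.ThreeMinimalAlt.degree_of_not_two (α := Fin n) (by simp; omega)
    ((S : Subgroup X).map f) (S.2.map f)
    (fun h => by
      rw [Subgroup.map_eq_bot_iff_of_injective _ hf] at h
      exact hSn (h ▸ inferInstance))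
    (by
      rintro ⟨K₁, K₂, hT₁, hT₂, hK₁, hK₂, hgen⟩
      have hc : ∀ K : Subgroup (Equiv.Perm (Fin n)), (S : Subgroup X).map f ≤ K → ¬ alternatingGroup (Fin n) ≤ K →
          K ⊓ alternatingGroup (Fin n) ≤ M.map f := fun K hK hne => by
        rw [inf_comm, ← hfr, ← Subgroup.map_comap_eq]
        rw [← hfr] at hne
        refine Subgroup.map_mono (hle _ (Subgroup.map_le_iff_le_comap.1 hK) fun h => hne ?_)
        rw [MonoidHom.range_eq_map, ← h]
        exact Subgroup.map_comap_le f K
      have hMf := hgen.trans (sup_le (hc K₁ hT₁ hK₁) (hc K₂ hT₂ hK₂))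
      refine hM.1 (top_le_iff.1 fun x _ => ?_)
      obtain ⟨y, hy, hxy⟩ := hMf (show f x ∈ alternatingGroup (Fin n) from hfr ▸ ⟨x, rfl⟩)
      exact hf hxy ▸ hy)
  simpa using h

end Cfsg.Agent.S2930
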