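import Cfsg.Statements.S2931
import Cfsg.Agent.Lib.LocalEven.SylowIso.EightFour
import Cfsg.Agent.Lib.LocalEven.SylowIso.SixMinus
import Cfsg.Agent.Lib.Classical.PSpFourThree
import Cfsg.Agent.S0288

set_option autoImplicit false
open Cfsg CfsgLib.LocalEven.SylowIso

namespace Cfsg.Agent.S2931

/-- The Sylow 2-subgroups of the alternating group of degree 8 and of PSp₄(3) are isomorphic, and so are the Sylow 2-subgroups of the symmetric group of degree 8 and of the full isometry group of a non-degenerate quadratic form of minus type in dimension 6 over the field with 2 elements. -/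
theorem result (F : Type) [Field F] [Fintype F] (hF : Fintype.card F = 3) (K : Type) [Field K] [Fintype K] (hK : Fintype.card K = 2) (a b : K) (hab : ∀ z₁ z₂ : K, z₁ ^ 2 + a * z₁ * z₂ + b * z₂ ^ 2 = 0 → z₁ = 0 ∧ z₂ = 0) (P : Sylow 2 ↥(alternatingGroup (Fin 8))) (Q : Sylow 2 (Cfsg.PSp 2 F)) (P' : Sylow 2 (Equiv.Perm (Fin 8))) (Q' : Sylow 2 ↥(Cfsg.isometryGroup K (Cfsg.quadFormMinus 2 K a b))) : Nonempty (↥(P : Subgroup ↥(alternatingGroup (Fin 8))) ≃* ↥(Q : Subgroup (Cfsg.PSp 2 F))) ∧ Nonempty (↥(P' : Subgroup (Equiv.Perm (Fin 8))) ≃* ↥(Q' : Subgroup ↥(Cfsg.isometryGroup K (Cfsg.quadFormMinus 2 K a b)))) := by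
  haveI : Fact (Nat.Prime 2) := ⟨Nat.prime_two⟩
  haveI : Fact (Nat.Prime 3) := ⟨Nat.prime_three⟩
  constructor
  · obtain ⟨ec⟩ := CfsgLib.Classical.ESix.psp_congr
      (ZMod.ringEquivOfPrime F Nat.prime_three hF) 2
    have hH : (Nat.card (Cfsg.PSp 2 F)).factorization 2 = 6 := by
      rw [← Nat.card_congr ec.toEquiv, EightFour.card_pSp]
      exact factorization_two (m := 405) (by decide +kernel) (by decide)
    have hker : (ec.toMonoidHom.comp EightFour.toPSp).ker = EightFour.toPSp.ker :=
      MonoidHom.ker_comp_of_injective EightFour.toPSp ec.toMonoidHom ec.injective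
    exact sylow_equiv EightFour.toAlt (ec.toMonoidHom.comp EightFour.toPSp)
      (IsPGroup.of_card (n := 7) (by rw [EightFour.card_W]; rfl))
      (EightFour.ker_eq.trans hker.symm) EightFour.card_ker EightFour.card_W
      EightFour.factorization_alt hH P Q
  · have e : ZMod 2 ≃+* K := ZMod.ringEquivOfPrime K Nat.prime_two hK
    have hb : b = 1 := by
      obtain ⟨z, rfl⟩ := e.surjective b
      fin_cases z
      · have := (hab 0 1 (by simp; exact map_zero e)).2
        exact absurd this one_ne_zero
      · exact map_one e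
    have ha : a = 1 := by
      subst hb
      obtain ⟨z, rfl⟩ := e.surjective a
      fin_cases z
      · have h2 : (1 : K) + 1 = 0 := by
          rw [← map_one e, ← map_add]
          exact map_zero e
        have := (hab 1 1 (by
          show (1 : K) ^ 2 + e 0 * 1 * 1 + 1 * 1 ^ 2 = 0
          simp [h2])).1
        exact absurd this one_ne_zero
      · exact map_one e
    subst ha hb
    have hH : (Nat.card (Cfsg.isometryGroup K (Cfsg.quadFormMinus 2 K 1 1))).factorization 2 = 7 := by
      have h : Nat.card (Cfsg.isometryGroup K (Cfsg.quadFormMinus 2 K 1 1)) = _ :=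
        Cfsg.Agent.S0288.result hK 3 (by omega) 1 1 hab
      rw [h]
      exact factorization_two (m := 405) (by decide +kernel) (by decide)
    exact sylow_equiv SixMinus.toPerm (SixMinus.toOrth e)
      (IsPGroup.of_card (n := 7) (by rw [SixMinus.card_W]; rfl))
      (SixMinus.ker_toPerm.trans (SixMinus.ker_toOrth e).symm)
      (by rw [SixMinus.ker_toPerm, Subgroup.card_bot]) SixMinus.card_W
      SixMinus.factorization_perm hH P' Q'

end Cfsg.Agent.S2931
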