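import Cfsg.Statements.S3157
import Cfsg.Agent.Lib.Small.Order64Three
import Cfsg.Agent.Lib.Classical.Order

set_option autoImplicit false
open Cfsg

namespace Cfsg.Agent.S3157

open Matrix in
/-- The unitriangular subgroup of `SL(3, 4)` with its automorphism of order 3. -/
theorem exists_model : ∃ (F : Type) (_ : Field F) (_ : Fintype F), Fintype.card F = 4 ∧
    ∃ (U : Subgroup (Matrix.SpecialLinearGroup (Fin 3) F)) (ρ : MulAut U) (s t : U),
      CfsgLib.Small.Order64Three.Hyp ρ ∧ CfsgLib.Small.Order64Three.Gens ρ s t ∧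
      ∃ S : Sylow 2 (Matrix.ProjectiveSpecialLinearGroup (Fin 3) F),
        Nonempty (U ≃* ↥(S : Subgroup (Matrix.ProjectiveSpecialLinearGroup (Fin 3) F))) := by
  classical
  haveI : Fact (Nat.Prime 2) := ⟨Nat.prime_two⟩
  let F := GaloisField 2 2
  haveI : Fintype F := Fintype.ofFinite F
  have hF : Nat.card F = 4 := by rw [GaloisField.card 2 2 two_ne_zero]; norm_num
  have h2 : (2 : F) = 0 := CharP.cast_eq_zero F 2
  refine ⟨F, inferInstance, inferInstance, by rw [← Nat.card_eq_fintype_card, hF], ?_⟩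
  obtain ⟨ω, hω0, hω1⟩ : ∃ ω : F, ω ≠ 0 ∧ ω ≠ 1 := by
    by_contra hall
    push Not at hall
    have h := Nat.card_le_card_of_injective (fun x : F => decide (x = 0)) (fun x y h => by
      simp only [decide_eq_decide] at h
      by_cases hx : x = 0
      · rw [hx, h.1 hx]
      · rw [hall x hx, hall y (fun hy => hx (h.2 hy))])
    rw [hF, Nat.card_eq_fintype_card, Fintype.card_bool] at h
    omega
  have hω3 : ω ^ 3 = 1 := by
    have := FiniteField.pow_card_sub_one_eq_one ω hω0
    rwa [← Nat.card_eq_fintype_card, hF] at this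
  let M : F → F → F → Matrix (Fin 3) (Fin 3) F := fun a b c => !![1, a, c; 0, 1, b; 0, 0, 1]
  have hMdet : ∀ a b c, (M a b c).det = 1 := fun a b c => by simp [M, Matrix.det_fin_three]
  have hMmul : ∀ a b c a' b' c', M a b c * M a' b' c' = M (a + a') (b + b') (c + c' + a * b') := by
    intro a b c a' b' c'
    ext i j
    fin_cases i <;> fin_cases j <;> simp [M, Matrix.mul_apply, Fin.sum_univ_three] <;> ring
  have hM1 : M 0 0 0 = 1 := by
    simp [M, Matrix.one_fin_three]
  let U : Subgroup (Matrix.SpecialLinearGroup (Fin 3) F) :=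
    { carrier := {g | ∃ a b c, (g : Matrix (Fin 3) (Fin 3) F) = M a b c}
      one_mem' := ⟨0, 0, 0, by rw [Matrix.SpecialLinearGroup.coe_one, hM1]⟩
      mul_mem' := by
        rintro g g' ⟨a, b, c, hg⟩ ⟨a', b', c', hg'⟩
        exact ⟨_, _, _, by rw [Matrix.SpecialLinearGroup.coe_mul, hg, hg', hMmul]⟩
      inv_mem' := by
        rintro g ⟨a, b, c, hg⟩
        refine ⟨a, b, c + a * b, left_inv_eq_right_inv (a := (g : Matrix (Fin 3) (Fin 3) F)) ?_ ?_⟩
        · rw [← Matrix.SpecialLinearGroup.coe_mul, inv_mul_cancel, Matrix.SpecialLinearGroup.coe_one]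
        · rw [hg, hMmul, ← hM1]
          congr 1 <;> [linear_combination a * h2; linear_combination b * h2;
            linear_combination (c + a * b) * h2] }
  let el : F → F → F → U := fun a b c => ⟨⟨M a b c, hMdet a b c⟩, a, b, c, rfl⟩
  have hel : ∀ u : U, ∃ a b c, u = el a b c := fun ⟨g, a, b, c, hg⟩ =>
    ⟨a, b, c, Subtype.ext (Subtype.ext hg)⟩
  have helmul : ∀ a b c a' b' c', el a b c * el a' b' c' = el (a + a') (b + b') (c + c' + a * b') :=
    fun a b c a' b' c' => Subtype.ext (Subtype.ext (hMmul a b c a' b' c'))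
  have helinj : ∀ a b c a' b' c', el a b c = el a' b' c' → a = a' ∧ b = b' ∧ c = c' := by
    intro a b c a' b' c' h
    have hm : M a b c = M a' b' c' := congrArg (fun u : U => u.1.1) h
    exact ⟨by simpa [M] using congrFun (congrFun hm 0) 1,
      by simpa [M] using congrFun (congrFun hm 1) 2,
      by simpa [M] using congrFun (congrFun hm 0) 2⟩
  have hel1 : el 0 0 0 = 1 := Subtype.ext (Subtype.ext hM1)
  let E : F × F × F ≃ U := Equiv.ofBijective (fun p => el p.1 p.2.1 p.2.2)
    ⟨fun p q h => by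
      obtain ⟨e1, e2, e3⟩ := helinj _ _ _ _ _ _ h
      exact Prod.ext e1 (Prod.ext e2 e3),
     fun u => by
      obtain ⟨a, b, c, rfl⟩ := hel u
      exact ⟨(a, b, c), rfl⟩⟩
  have hUc : Nat.card U = 2 ^ 6 := by
    rw [← Nat.card_congr E, Nat.card_prod, Nat.card_prod, hF]; norm_num
  let tor : F × F × F ≃ F × F × F :=
    { toFun := fun p => (ω * p.1, ω * p.2.1, ω ^ 2 * p.2.2)
      invFun := fun p => (ω ^ 2 * p.1, ω ^ 2 * p.2.1, ω * p.2.2)
      left_inv := fun p => by
        refine Prod.ext ?_ (Prod.ext ?_ ?_) <;> simp only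
        · linear_combination p.1 * hω3
        · linear_combination p.2.1 * hω3
        · linear_combination p.2.2 * hω3
      right_inv := fun p => by
        refine Prod.ext ?_ (Prod.ext ?_ ?_) <;> simp only
        · linear_combination p.1 * hω3
        · linear_combination p.2.1 * hω3
        · linear_combination p.2.2 * hω3 }
  let r : U ≃ U := E.symm.trans (tor.trans E)
  have hr : ∀ a b c, r (el a b c) = el (ω * a) (ω * b) (ω ^ 2 * c) := fun a b c => by
    show E (tor (E.symm (E (a, b, c)))) = _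
    rw [E.symm_apply_apply]; rfl
  let ρ : MulAut U :=
    { r with
      map_mul' := fun u v => by
        obtain ⟨a, b, c, rfl⟩ := hel u
        obtain ⟨a', b', c', rfl⟩ := hel v
        show r _ = r _ * r _
        rw [helmul, hr, hr, hr, helmul]
        congr 1 <;> ring }
  have hρ : ∀ a b c, ρ (el a b c) = el (ω * a) (ω * b) (ω ^ 2 * c) := hr
  have hc : ∀ a b c, el a b c * el a b c = el 0 0 (a * b) := fun a b c => by
    rw [helmul]
    congr 1 <;> [linear_combination a * h2; linear_combination b * h2; linear_combination c * h2]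
  refine ⟨U, ρ, el 1 0 0, el 0 1 0, ⟨by rw [hUc]; norm_num, ?_, ?_, ?_⟩, ⟨?_, ?_, ?_⟩, ?_⟩
  · intro h
    have := (helinj _ _ _ _ _ _ ((helmul 1 0 0 0 1 0).symm.trans
      ((h.is_comm.comm (el 1 0 0) (el 0 1 0)).trans (helmul 0 1 0 1 0 0)))).2.2
    simp at this
  · intro u
    obtain ⟨a, b, c, rfl⟩ := hel u
    rw [hρ, hρ, hρ]
    congr 1 <;> [linear_combination a * hω3; linear_combination b * hω3;
      linear_combination c * (ω ^ 3 + 1) * hω3]
  · intro u hu
    obtain ⟨a, b, c, rfl⟩ := hel u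
    rw [hρ] at hu
    obtain ⟨e1, e2, e3⟩ := helinj _ _ _ _ _ _ hu
    have hz : ∀ k x : F, k * x = x → k ≠ 1 → x = 0 := fun k x h h1 => by
      have : (k - 1) * x = 0 := by linear_combination h
      exact (mul_eq_zero.1 this).resolve_left (sub_ne_zero.2 h1)
    have hω2 : ω ^ 2 ≠ 1 := fun h => hω1 (by linear_combination hω3 - ω * h)
    rw [hz _ _ e1 hω1, hz _ _ e2 hω1, hz _ _ e3 hω2, hel1]
  · rw [hc, mul_zero, hel1]
  · rw [hc, zero_mul, hel1]
  · rw [Ne, commutatorElement_eq_one_iff_mul_comm, helmul, helmul]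
    intro h
    have := (helinj _ _ _ _ _ _ h).2.2
    simp at this
  · let π := QuotientGroup.mk' (Subgroup.center (Matrix.SpecialLinearGroup (Fin 3) F))
    let g : U →* Matrix.ProjectiveSpecialLinearGroup (Fin 3) F := π.comp U.subtype
    have hg : Function.Injective g := by
      rw [← MonoidHom.ker_eq_bot_iff, Subgroup.eq_bot_iff_forall]
      intro u hu
      have hu1 : (u : Matrix.SpecialLinearGroup (Fin 3) F) ∈
          Subgroup.center (Matrix.SpecialLinearGroup (Fin 3) F) := (QuotientGroup.eq_one_iff _).1 hu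
      have hcop : (Nat.card U).Coprime
          (Nat.card (Subgroup.center (Matrix.SpecialLinearGroup (Fin 3) F))) := by
        rw [hUc, CfsgLib.Classical.card_center_SL_fin 3 (by norm_num), hF]; decide +kernel
      have h1 : (u : Matrix.SpecialLinearGroup (Fin 3) F) ∈
          U ⊓ Subgroup.center (Matrix.SpecialLinearGroup (Fin 3) F) := ⟨u.2, hu1⟩
      rw [Subgroup.inf_eq_bot_of_coprime hcop, Subgroup.mem_bot] at h1
      exact Subtype.ext h1
    have hcard : Nat.card g.range = 2 ^ 6 := by
      rw [← Nat.card_congr (MonoidHom.ofInjective hg).toEquiv, hUc]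
    have hidx : ¬ 2 ∣ g.range.index := by
      intro hd
      have h1 := CfsgLib.Classical.card_PSL_mul (F := F) 3 (by norm_num)
      rw [← g.range.card_mul_index, hcard, hF,
        CfsgLib.Classical.card_SL_fin' 3, hF] at h1
      norm_num [Finset.prod_range_succ, Fin.prod_univ_succ] at h1
      omega
    refine ⟨(IsPGroup.of_card hcard).toSylow hidx, ⟨?_⟩⟩
    exact (MonoidHom.ofInjective hg).trans (MulEquiv.subgroupCongr rfl)

/-- Let T be a non-abelian group of order 64 admitting automorphisms ρ of order 3 and x of order 2 with x ρ x⁻¹ = ρ⁻¹ (so they generate a symmetric group of degree 3), where ρ fixes only the identity. Then T is isomorphic to a Sylow 2-subgroup of the projective special linear group of dimension 3 over the field with 4 elements, and the subgroup of fixed points of x is dihedral of order 8 or quaternion of order 8. -/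
theorem result {T : Type*} [Group T] [Finite T] (hT : Nat.card T = 64) (hna : ¬ IsMulCommutative T) (ρ x : MulAut T) (hρ : orderOf ρ = 3) (hx : orderOf x = 2)
    (hxr : x * ρ * x⁻¹ = ρ⁻¹) (hfp : ∀ y : T, ρ y = y → y = 1) (C : Subgroup T) (hC : ∀ y : T, y ∈ C ↔ x y = y) :
    (∃ (F : Type) (_ : Field F) (_ : Fintype F), Fintype.card F = 4 ∧
        ∃ S : Sylow 2 (Matrix.ProjectiveSpecialLinearGroup (Fin 3) F), Nonempty (T ≃* ↥(S : Subgroup (Matrix.ProjectiveSpecialLinearGroup (Fin 3) F)))) ∧
      (Nonempty (↥C ≃* DihedralGroup 4) ∨ Nonempty (↥C ≃* QuaternionGroup 2)) := by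
  have hxx : ∀ y, x (x y) = y := fun y => by
    have h := pow_orderOf_eq_one x
    rw [hx, pow_two] at h
    exact DFunLike.congr_fun h y
  have hr3 : ∀ y, ρ (ρ (ρ y)) = y := fun y => by
    have h := pow_orderOf_eq_one ρ
    rw [hρ, pow_three] at h
    exact DFunLike.congr_fun h y
  have hxr' : ∀ y, x (ρ y) = ρ (ρ (x y)) := fun y => by
    have h1 : x * ρ = ρ⁻¹ * x := by rw [← hxr, inv_mul_cancel_right]
    have h2 : x (ρ y) = ρ⁻¹ (x y) := DFunLike.congr_fun h1 y
    rw [h2]
    apply ρ.injective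
    rw [hr3]
    exact ρ.apply_symm_apply _
  have H : CfsgLib.Small.Order64Three.Hyp ρ := ⟨hT, hna, hr3, hfp⟩
  obtain ⟨⟨s, t, G⟩, hCiso⟩ := CfsgLib.Small.Order64Three.fixed_points H x hxx hxr' C hC
  obtain ⟨F, _, _, hF, U, ρ', s', t', H', G', S, ⟨e⟩⟩ := exists_model
  obtain ⟨i⟩ := CfsgLib.Small.Order64Three.nonempty_mulEquiv H G H' G'
  exact ⟨⟨F, inferInstance, inferInstance, hF, S, ⟨i.trans e⟩⟩, hCiso⟩

end Cfsg.Agent.S3157
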