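import Cfsg.Statements.S2933
import Cfsg.Agent.S3157
import Cfsg.Agent.Lib.Small.FoursClassify
import Cfsg.Agent.Lib.Small.Order64Suzuki
-- import your own Cfsg.Agent.* helpers here

set_option autoImplicit false
open Cfsg

namespace Cfsg.Agent.S2933

/-- Let T be a 2-subgroup of a finite group G, V ≤ Z(T) a four-group, and t, ρ ∈ N_G(V) ∩ N_G(T) elements of order 2 and 3 with t commuting with ρ and with V. If [V, ρ] = V and C_T(t) = V, then T is elementary abelian of order 16, or homocyclic of rank 2 (ℤ/2ⁿ × ℤ/2ⁿ for some n ≥ 1), or isomorphic to a Sylow 2-subgroup of PSL₃(4) or of PSU₃(4). -/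
theorem result {G : Type*} [Group G] [Finite G] (T V : Subgroup G) (hT : IsPGroup 2 ↥T) (hVT : V ≤ T ⊓ Subgroup.centralizer (T : Set G)) (hV : Nat.card ↥V = 4 ∧ ∀ v ∈ V, v ^ 2 = 1) (t ρ : G) (ht : orderOf t = 2) (hρ : orderOf ρ = 3) (htn : t ∈ Subgroup.normalizer (V : Set G) ⊓ Subgroup.normalizer (T : Set G)) (hρn : ρ ∈ Subgroup.normalizer (V : Set G) ⊓ Subgroup.normalizer (T : Set G)) (htρ : t * ρ = ρ * t) (htV : t ∈ Subgroup.centralizer (V : Set G)) (hVρ : ⁅V, Subgroup.zpowers ρ⁆ = V) (hCt : T ⊓ Subgroup.centralizer ({t} : Set G) = V) : (Nat.card ↥T = 16 ∧ ∀ x ∈ T, x ^ 2 = 1) ∨ (∃ n : ℕ, 1 ≤ n ∧ Nonempty (↥T ≃* Multiplicative (ZMod (2 ^ n)) × Multiplicative (ZMod (2 ^ n)))) ∨ (∃ (F : Type) (_ : Field F) (_ : Fintype F), Fintype.card F = 4 ∧ ∀ P : Sylow 2 (Matrix.ProjectiveSpecialLinearGroup (Fin 3) F), Nonempty (↥T ≃* ↥(P : Subgroup (Matrix.ProjectiveSpecialLinearGroup (Fin 3) F)))) ∨ (∃ (F : Type) (_ : Field F) (_ : Fintype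 F), Fintype.card F = 16 ∧ ∀ P : Sylow 2 (Cfsg.PSU 3 F 4), Nonempty (↥T ≃* ↥(P : Subgroup (Cfsg.PSU 3 F 4)))) := by
  classical
  haveI : Fact (Nat.Prime 2) := ⟨Nat.prime_two⟩
  have hVle : V ≤ T := hVT.trans inf_le_left
  have hVc : ∀ v ∈ V, ∀ x ∈ T, x * v = v * x := fun v hv x hx =>
    Subgroup.mem_centralizer_iff.1 (hVT hv).2 x hx
  have hρ3 : ρ * ρ * ρ = 1 := by
    have h := pow_orderOf_eq_one ρ
    rwa [hρ, pow_three, ← mul_assoc] at h
  have htt : t * t = 1 := by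
    have h := pow_orderOf_eq_one t
    rwa [ht, pow_two] at h
  have hfree : ∀ v ∈ V, ρ * v * ρ⁻¹ = v → v = 1 := by
    intro v hv hfix
    by_contra hv1
    have hall : ∀ w ∈ V, ρ * w * ρ⁻¹ = w := by
      intro w hw
      by_cases hw1 : w = 1
      · rw [hw1]; group
      by_cases hwv : w = v
      · rw [hwv]; exact hfix
      have hvv : v * v = 1 := by rw [← pow_two]; exact hV.2 v hv
      have hsub : ({1, v, w, v * w} : Set G) ⊆ (V : Set G) := by
        rintro x (rfl | rfl | rfl | rfl)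
        exacts [one_mem _, hv, hw, mul_mem hv hw]
      have hvw : v * w ≠ 1 := fun h => hwv ((eq_inv_of_mul_eq_one_right h).trans
        (inv_eq_of_mul_eq_one_right hvv))
      have hset : ({1, v, w, v * w} : Set G) = (V : Set G) := by
        refine Set.eq_of_subset_of_ncard_le hsub ?_
        rw [← Nat.card_coe_set_eq]
        show Nat.card V ≤ _
        rw [hV.1, Set.ncard_insert_of_notMem (by simp [Ne.symm hv1, Ne.symm hw1, hvw.symm]),
          Set.ncard_insert_of_notMem (by simp [Ne.symm hwv, hw1]),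
          Set.ncard_insert_of_notMem (by simp [hv1]), Set.ncard_singleton]
      have hm : ρ * w * ρ⁻¹ ∈ ({1, v, w, v * w} : Set G) := by
        rw [hset]; exact (Subgroup.mem_normalizer_iff.1 hρn.1 w).1 hw
      rcases hm with h | h | h | h
      · exact absurd (conj_eq_one_iff.1 h) hw1
      · exact absurd ((MulAut.conj ρ).injective (show MulAut.conj ρ w = MulAut.conj ρ v by
          rw [MulAut.conj_apply, MulAut.conj_apply, h, hfix])) hwv
      · exact h
      · exfalso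
        have h2 : ρ * ρ * w * (ρ * ρ)⁻¹ = w := by
          calc ρ * ρ * w * (ρ * ρ)⁻¹ = ρ * (ρ * w * ρ⁻¹) * ρ⁻¹ := by group
            _ = ρ * (v * w) * ρ⁻¹ := by rw [h]
            _ = (ρ * v * ρ⁻¹) * (ρ * w * ρ⁻¹) := by group
            _ = w := by rw [hfix, h, ← mul_assoc, hvv, one_mul]
        have h3 : w = v * w := by
          calc w = ρ * ρ * ρ * w * (ρ * ρ * ρ)⁻¹ := by rw [hρ3]; group
            _ = ρ * (ρ * ρ * w * (ρ * ρ)⁻¹) * ρ⁻¹ := by group
            _ = v * w := by rw [h2, h]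
        exact hv1 (mul_eq_right.1 h3.symm)
    have hbot : ⁅V, Subgroup.zpowers ρ⁆ = ⊥ := by
      rw [Subgroup.commutator_eq_bot_iff_le_centralizer, Subgroup.le_centralizer_iff,
        Subgroup.zpowers_le]
      rw [Subgroup.mem_centralizer_iff]
      intro w hw
      calc w * ρ = (ρ * w * ρ⁻¹) * ρ := by rw [hall w hw]
        _ = ρ * w := by group
    rw [hVρ] at hbot
    rw [hbot, Subgroup.card_bot] at hV
    omega
  set V' := V.subgroupOf T with hV'
  let τ : MulAut ↥T := T.normalizerMonoidHom ⟨t, htn.2⟩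
  let σ : MulAut ↥T := T.normalizerMonoidHom ⟨ρ, hρn.2⟩
  have hτ : ∀ x : ↥T, (τ x : G) = t * x * t⁻¹ := fun x => rfl
  have hσ : ∀ x : ↥T, (σ x : G) = ρ * x * ρ⁻¹ := fun x => rfl
  have D : CfsgLib.Small.FoursFixed.Dat V' τ σ := by
    refine ⟨hT, ?_, ?_, ?_, ?_, ?_, ?_, ?_, ?_⟩
    · exact fun v hv x => Subtype.ext (hVc v hv x x.2)
    · exact fun v hv => Subtype.ext ((pow_two _).symm.trans (hV.2 v hv))
    · rw [Nat.card_congr (Subgroup.subgroupOfEquivOfLe hVle).toEquiv, hV.1]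
    · refine fun x => Subtype.ext ?_
      rw [hτ, hτ]
      calc t * (t * (x : G) * t⁻¹) * t⁻¹ = (t * t) * x * (t * t)⁻¹ := by group
        _ = x := by rw [htt]; group
    · refine fun x => Subtype.ext ?_
      rw [hσ, hσ, hσ]
      calc ρ * (ρ * (ρ * (x : G) * ρ⁻¹) * ρ⁻¹) * ρ⁻¹ = (ρ * ρ * ρ) * x * (ρ * ρ * ρ)⁻¹ := by group
        _ = x := by rw [hρ3]; group
    · refine fun x => Subtype.ext ?_
      rw [hτ, hσ, hσ, hτ]
      calc t * (ρ * (x : G) * ρ⁻¹) * t⁻¹ = (t * ρ) * x * (t * ρ)⁻¹ := by group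
        _ = ρ * (t * x * t⁻¹) * ρ⁻¹ := by rw [htρ]; group
    · intro x
      rw [hV', Subgroup.mem_subgroupOf, ← hCt, Subgroup.mem_inf,
        Subgroup.mem_centralizer_singleton_iff, Subtype.ext_iff, hτ, mul_inv_eq_iff_eq_mul]
      exact ⟨fun h => ⟨x.2, h.symm⟩, fun h => h.2.symm⟩
    · intro v hv h
      exact Subtype.ext (hfree v hv (by rw [← hσ]; exact congrArg Subtype.val h))
  rcases CfsgLib.Small.FoursFixed.classify (Nat.card ↥T) ↥T V' τ σ le_rfl D with
    ⟨-, h16, hsq⟩ | ⟨-, -, hn⟩ | ⟨h64, hna⟩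
  · exact Or.inl ⟨h16, fun x hx => (pow_two x).trans (congrArg Subtype.val (hsq ⟨x, hx⟩))⟩
  · exact Or.inr (Or.inl hn)
  · have H : CfsgLib.Small.Order64Three.Hyp σ := ⟨h64, hna, D.cube, D.fpf⟩
    rcases CfsgLib.Small.Order64Three.gens_or_central H with ⟨a, b, hab⟩ | hi
    · obtain ⟨F, iF, iFF, hF, U, ρ', s', t', H', G', S, ⟨e⟩⟩ := S3157.exists_model
      obtain ⟨f⟩ := CfsgLib.Small.Order64Three.nonempty_mulEquiv H hab H' G'
      exact Or.inr (Or.inr (Or.inl ⟨F, iF, iFF, hF, fun P =>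
        ⟨(f.trans e).trans (Sylow.equiv S P)⟩⟩))
    · letI : Fintype (GaloisField 2 4) := Fintype.ofFinite _
      have hF : Fintype.card (GaloisField 2 4) = 16 := by
        rw [← Nat.card_eq_fintype_card, GaloisField.card 2 4 (by norm_num)]; norm_num
      refine Or.inr (Or.inr (Or.inr ⟨GaloisField 2 4, inferInstance, inferInstance, hF, fun P => ?_⟩))
      obtain ⟨ρ', H', hi'⟩ := CfsgLib.Small.Order64Three.psu_hyp hF P
      exact CfsgLib.Small.Order64Three.nonempty_mulEquiv_central H hi H' hi'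

end Cfsg.Agent.S2933
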