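import Cfsg.Statements.S2941
import Mathlib
import Cfsg.Prelude.Def_JComponents

set_option autoImplicit false
open Cfsg
open scoped commutatorElement

namespace Cfsg.Agent.S2941

/-- Let G be a finite group of characteristic 2 type in which every 2-local subgroup is solvable and the centralizer of Ω₁(Z(S)) lies in N_G(S) for every Sylow 2-subgroup S, and let T be a nontrivial 2-subgroup and K a J(T)-component (J the Thompson subgroup generated by the elementary abelian 2-subgroups of largest order). If a subgroup Q is normalized by ⟨K, J(T)⟩ and normalizes J(T), then Q normalizes K. -/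
theorem result {G : Type*} [Group G] [Finite G] (hL : Cfsg.IsCharacteristicTwoType G) (hN : ∀ N : Subgroup G, Cfsg.IsTwoLocal N → Group.IsSolvable ↥N)
    (hZ : ∀ S : Sylow 2 G, Subgroup.centralizer (Cfsg.omegaCenterOf (S : Subgroup G) : Set G) ≤ Subgroup.normalizer ((S : Subgroup G) : Set G)) (T : Subgroup G) (hT : IsPGroup 2 ↥T) (hT1 : T ≠ ⊥) (K : Subgroup G) (hK : Cfsg.IsJComponent T K)
    (Q : Subgroup G) (hQ1 : K ⊔ Cfsg.thompsonSubgroupOf 2 T ≤ Subgroup.normalizer (Q : Set G)) (hQ2 : Q ≤ Subgroup.normalizer (Cfsg.thompsonSubgroupOf 2 T : Set G)) :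
    Q ≤ Subgroup.normalizer (K : Set G) := by
  obtain ⟨hgen, hKJ, -, -, -, -⟩ := hK
  set J := Cfsg.thompsonSubgroupOf 2 T with hJ
  have hJK : J ≤ Subgroup.normalizer (K : Set G) := by
    intro j hj
    refine Subgroup.mem_normalizer_iff_map_conj_eq.2 (Subgroup.eq_of_le_of_card_ge ?_
      (Nat.card_congr (Subgroup.equivMapOfInjective K _ (MulAut.conj j).injective).toEquiv).le)
    rintro _ ⟨k, hk, rfl⟩
    have h1 : ⁅j, k⁆ ∈ K := by
      rw [← commutatorElement_inv]
      exact inv_mem (hKJ.le (Subgroup.commutator_mem_commutator hk hj))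
    simpa [commutatorElement_def] using mul_mem h1 hk
  have hJ2 : IsPGroup 2 J := hT.to_le (Subgroup.map_subtype_le _)
  -- `K ⊔ J` is generated by the conjugates of `J` under itself
  have hKn : (K.subgroupOf (K ⊔ J)).Normal :=
    Subgroup.normal_subgroupOf_of_le_normalizer (sup_le Subgroup.le_normalizer hJK)
  have hodd : ∀ x ∈ K ⊔ J, Odd (orderOf x) → x ∈ K := by
    intro x hx hxo
    have h2 : IsPGroup 2 (↥(K ⊔ J) ⧸ K.subgroupOf (K ⊔ J)) := by
      intro y
      obtain ⟨⟨y, hy⟩, rfl⟩ := QuotientGroup.mk_surjective y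
      obtain ⟨k, hk, j, hj, rfl⟩ : ∃ k ∈ K, ∃ j ∈ J, k * j = y := by
        rw [← SetLike.mem_coe, Subgroup.coe_mul_of_right_le_normalizer_left K J hJK] at hy
        exact Set.mem_mul.1 hy
      obtain ⟨n, hn⟩ := hJ2 ⟨j, hj⟩
      refine ⟨n, ?_⟩
      have : (QuotientGroup.mk (⟨k * j, hy⟩ : ↥(K ⊔ J)) : ↥(K ⊔ J) ⧸ K.subgroupOf (K ⊔ J)) =
          QuotientGroup.mk' _ ⟨k, le_sup_left (b := J) hk⟩ *
            QuotientGroup.mk' _ ⟨j, le_sup_right (a := K) hj⟩ := rfl
      rw [this, show QuotientGroup.mk' (K.subgroupOf (K ⊔ J)) ⟨k, le_sup_left (b := J) hk⟩ = 1 from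
          (QuotientGroup.eq_one_iff _).2 hk, one_mul, ← map_pow]
      rw [show (⟨j, le_sup_right (a := K) hj⟩ : ↥(K ⊔ J)) ^ 2 ^ n = 1 from
        Subtype.ext (by simpa using congrArg Subtype.val hn), map_one]
    have h3 : (QuotientGroup.mk' (K.subgroupOf (K ⊔ J)) ⟨x, hx⟩) = 1 := by
      rw [← orderOf_eq_one_iff]
      obtain ⟨n, hn⟩ := IsPGroup.iff_orderOf.1 h2 (QuotientGroup.mk' _ ⟨x, hx⟩)
      have hd : orderOf (QuotientGroup.mk' (K.subgroupOf (K ⊔ J)) ⟨x, hx⟩) ∣ orderOf x := by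
        have := orderOf_map_dvd (QuotientGroup.mk' (K.subgroupOf (K ⊔ J))) ⟨x, hx⟩
        rwa [Subgroup.orderOf_mk] at this
      rw [hn] at hd ⊢
      rcases n with _ | n
      · rfl
      · exact absurd (hxo.of_dvd_nat ((dvd_pow_self 2 n.succ_ne_zero).trans hd)) (by decide)
    exact Subgroup.mem_subgroupOf.1 ((QuotientGroup.eq_one_iff (N := K.subgroupOf (K ⊔ J)) _).1 h3)
  intro q hq
  have hqJ : ∀ j ∈ J, q * j * q⁻¹ ∈ J := fun j hj => (Subgroup.mem_normalizer_iff.1 (hQ2 hq) j).1 hj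
  have hconj : ∀ l ∈ K ⊔ J, ∀ j ∈ J, q * (l * j * l⁻¹) * q⁻¹ ∈ K ⊔ J := by
    intro l hl j hj
    have hlq : l⁻¹ * q * l ∈ Q := by
      simpa using (Subgroup.mem_normalizer_iff.1 (hQ1 ((K ⊔ J).inv_mem hl)) q).1 hq
    have hj' := (Subgroup.mem_normalizer_iff.1 (hQ2 hlq) j).1 hj
    have := mul_mem (mul_mem hl (le_sup_right (a := K) hj')) (inv_mem hl)
    convert this using 1
    group
  have hKle : K ≤ (K ⊔ J).comap (MulAut.conj q).toMonoidHom := by
    conv_lhs => rw [← hKJ]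
    rw [Subgroup.commutator_le]
    intro k hk j hj
    show q * ⁅k, j⁆ * q⁻¹ ∈ K ⊔ J
    have h1 := hconj k (le_sup_left (b := J) hk) j hj
    have h2 : q * j⁻¹ * q⁻¹ ∈ K ⊔ J := le_sup_right (a := K) (hqJ _ (inv_mem hj))
    convert mul_mem h1 h2 using 1
    rw [commutatorElement_def]
    group
  have hqK : K.map (MulAut.conj q).toMonoidHom ≤ K := by
    rw [Subgroup.map_le_iff_le_comap]
    conv_lhs => rw [← hgen]
    rw [Subgroup.closure_le]
    rintro x ⟨hx, hxo⟩
    refine hodd _ (hKle hx) ?_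
    rwa [show (MulAut.conj q).toMonoidHom x = MulAut.conj q x from rfl, MulEquiv.orderOf_eq]
  rw [Subgroup.mem_normalizer_iff_map_conj_eq]
  exact Subgroup.eq_of_le_of_card_ge hqK
    (Nat.card_congr (Subgroup.equivMapOfInjective K _ (MulAut.conj q).injective).toEquiv).le

end Cfsg.Agent.S2941
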