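import Cfsg.Statements.S2943
import Cfsg.Agent.Lib.LocalEven.JCompZN
-- import your own Cfsg.Agent.* helpers here

set_option autoImplicit false
open Cfsg

namespace Cfsg.Agent.S2943

/-- Let G be a finite group of characteristic 2 type in which every 2-local subgroup is solvable and the centralizer of Ω₁(Z(S)) lies in N_G(S) for every Sylow 2-subgroup S, and let T be a nontrivial 2-subgroup (below, J is the Thompson subgroup generated by the elementary abelian 2-subgroups of largest order), L a subgroup in which T is a Sylow 2-subgroup with J(T) not contained in O₂(L) and C_G(O₂(L)) ≤ O₂(L), and K a J(T)-component contained in L. If Z(T) meets W_K = [Ω₁(Z(O₂(K))), K] nontrivially, then T normalizes K. -/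
theorem result {G : Type*} [Group G] [Finite G] (hL : Cfsg.IsCharacteristicTwoType G) (hN : ∀ N : Subgroup G, Cfsg.IsTwoLocal N → Group.IsSolvable ↥N)
    (hZ : ∀ S : Sylow 2 G, Subgroup.centralizer (Cfsg.omegaCenterOf (S : Subgroup G) : Set G) ≤ Subgroup.normalizer ((S : Subgroup G) : Set G)) (T : Subgroup G) (hT : IsPGroup 2 ↥T) (hT1 : T ≠ ⊥) (L : Subgroup G) (hLT : L ∈ Cfsg.jOvergroups T)
    (K : Subgroup G) (hK : Cfsg.IsJComponent T K) (hKL : K ≤ L)
    (hZW : T ⊓ Subgroup.centralizer (T : Set G) ⊓ Cfsg.wOf K ≠ ⊥) : T ≤ Subgroup.normalizer (K : Set G) := by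
  classical
  obtain ⟨T', hT', hs, hJ'⟩ := CfsgLib.LocalEven.JComp.exists_setup hN hZ hT1 hLT
  have hc := CfsgLib.LocalEven.JComp.isComp_subgroupOf hJ' hKL (CfsgLib.LocalEven.JComp.isComp_of hK)
  obtain ⟨⟨z, hzT, hzW⟩, hz1⟩ := Subgroup.ne_bot_iff_exists_ne_one.1 hZW
  rw [← CfsgLib.LocalEven.JComp.map_wOf_subgroupOf hKL] at hzW
  obtain ⟨z', hz', rfl⟩ := hzW
  intro t ht
  rw [← hT'] at ht
  obtain ⟨t', ht', rfl⟩ := ht
  have hfix : t' * z' * t'⁻¹ = z' := Subtype.ext (by
    show (t' : G) * z' * (t' : G)⁻¹ = z'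
    have := hzT.2 (t' : G) (hT' ▸ Subgroup.mem_map_of_mem L.subtype ht')
    rw [show (t' : G) * z' = z' * (t' : G) from this, mul_inv_cancel_right])
  have hn : t' ∈ Subgroup.normalizer (K.subgroupOf L : Set ↥L) :=
    hs.normalizer_J_le_normalizer hc
      (CfsgLib.Transfer.normalizer_le_normalizer_thompsonSubgroupOf _ (Subgroup.le_normalizer ht'))
      hz' (fun e => hz1 (Subtype.ext (by simp [e]))) (by rw [hfix]; exact hz')
  refine Subgroup.mem_normalizer_iff.2 fun x => ⟨fun hx => ?_, fun hx => ?_⟩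
  · exact (Subgroup.mem_normalizer_iff.1 hn ⟨x, hKL hx⟩).1 hx
  · have hxL : x ∈ L := by
      have h := mul_mem (mul_mem (inv_mem t'.2) (hKL hx)) t'.2
      simpa [mul_assoc] using h
    exact (Subgroup.mem_normalizer_iff.1 hn ⟨x, hxL⟩).2 hx

end Cfsg.Agent.S2943
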