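import Cfsg.Statements.S2944
import Cfsg.Agent.Lib.LocalEven.JCompZN
-- import your own Cfsg.Agent.* helpers here

set_option autoImplicit false
open Cfsg

namespace Cfsg.Agent.S2944

/-- Let G be a finite group of characteristic 2 type in which every 2-local subgroup is solvable and the centralizer of Ω₁(Z(S)) lies in N_G(S) for every Sylow 2-subgroup S, and let T be a nontrivial 2-subgroup (below, J is the Thompson subgroup generated by the elementary abelian 2-subgroups of largest order) and K a J(T)-component such that J(T) is the Thompson subgroup of every Sylow 2-subgroup of N_G(W_K) containing J(T), where W_K = [Ω₁(Z(O₂(K))), K]. Then N_G(K) = N_G(W_K), and K is a J(Tᵍ)-component for every conjugate Tᵍ of T with J(Tᵍ) ≤ N_G(W_K). -/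
theorem result {G : Type*} [Group G] [Finite G] (hL : Cfsg.IsCharacteristicTwoType G) (hN : ∀ N : Subgroup G, Cfsg.IsTwoLocal N → Group.IsSolvable ↥N)
    (hZ : ∀ S : Sylow 2 G, Subgroup.centralizer (Cfsg.omegaCenterOf (S : Subgroup G) : Set G) ≤ Subgroup.normalizer ((S : Subgroup G) : Set G)) (T : Subgroup G) (hT : IsPGroup 2 ↥T) (hT1 : T ≠ ⊥) (K : Subgroup G) (hK : K ∈ Cfsg.jComponentsZero T) :
    Subgroup.normalizer (K : Set G) = Subgroup.normalizer (Cfsg.wOf K : Set G) ∧
      ∀ g : G, Cfsg.thompsonSubgroupOf 2 (T.map (MulAut.conj g).toMonoidHom) ≤ Subgroup.normalizer (Cfsg.wOf K : Set G) →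
        Cfsg.IsJComponent (T.map (MulAut.conj g).toMonoidHom) K := by
  classical
  have heq := CfsgLib.LocalEven.JComp.normalizer_w_eq hL hN hZ hT hK
  refine ⟨heq, fun g hg => ?_⟩
  have hC := CfsgLib.LocalEven.JComp.isComp_of hK.1
  obtain ⟨S, hJS, hS1, hNS⟩ := CfsgLib.LocalEven.JComp.normalizer_w_overgroup hL hT hC hK.2
  set N := Subgroup.normalizer (Cfsg.wOf K : Set G)
  obtain ⟨S', hS', hs, hJ'⟩ := CfsgLib.LocalEven.JComp.exists_setup hN hZ hS1 hNS
  set T₁ := T.map (MulAut.conj g).toMonoidHom with hT₁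
  set J₁ := Cfsg.thompsonSubgroupOf 2 T₁ with hJ₁
  set J := Cfsg.thompsonSubgroupOf 2 T with hJdef
  have hJ1J : J₁ = J.map (MulAut.conj g).toMonoidHom :=
    (CfsgLib.PLocal.map_thompsonSubgroupOf (MulAut.conj g).injective T).symm
  have hJN : J ≤ N := hC.le_normalizer.trans (CfsgLib.LocalEven.JComp.normalizer_le_normalizer_wOf K)
  have hKN : K ≤ N := hC.le_normalizer_w
  have hJ12 : IsPGroup 2 J₁ := (hT.map _).to_le (CfsgLib.PLocal.thompsonSubgroupOf_le 2 _)
  obtain ⟨R, hR⟩ := (hJ12.comap_subtype : IsPGroup 2 (J₁.subgroupOf N)).exists_le_sylow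
  obtain ⟨n, hn⟩ := MulAction.exists_smul_eq N S' R
  have hRn : (R : Subgroup N).map N.subtype = S.map (MulAut.conj (n : G)).toMonoidHom := by
    rw [← hn, Sylow.coe_subgroup_smul, ← CfsgLib.Base.map_conj_eq_smul, ← hS', Subgroup.map_map,
      Subgroup.map_map]
    congr 1
  have hJR : J₁ ≤ (R : Subgroup N).map N.subtype := fun x hx => ⟨⟨x, hg hx⟩, hR hx, rfl⟩
  -- `J₁` is the Thompson subgroup of that Sylow subgroup
  obtain ⟨A, hA⟩ := CfsgLib.PLocal.maxEAOf_nonempty 2 T
  obtain ⟨B, hB⟩ := CfsgLib.PLocal.maxEAOf_nonempty 2 S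
  have hAS : A ≤ S := ((CfsgLib.PLocal.le_thompsonSubgroupOf hA).trans hJS.ge).trans
    (CfsgLib.PLocal.thompsonSubgroupOf_le 2 S)
  have hBT : B ≤ T := ((CfsgLib.PLocal.le_thompsonSubgroupOf hB).trans hJS.le).trans
    (CfsgLib.PLocal.thompsonSubgroupOf_le 2 T)
  have hJ₁e : J₁ = J.map (MulAut.conj (n : G)).toMonoidHom := by
    refine Subgroup.eq_of_le_of_card_ge ?_ ?_
    · rw [hJ₁, CfsgLib.PLocal.thompsonSubgroupOf_eq_sSup]
      refine sSup_le fun C hC' => ?_
      rw [← hJS, CfsgLib.PLocal.map_thompsonSubgroupOf (MulAut.conj (n : G)).injective, ← hRn]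
      refine CfsgLib.PLocal.le_thompsonSubgroupOf
        ⟨(CfsgLib.PLocal.le_thompsonSubgroupOf hC').trans hJR, hC'.2.1, fun D hD hDe => ?_⟩
      have hA1 := hC'.2.2 _ (Subgroup.map_mono hA.1)
        (CfsgLib.PLocal.isElementaryAbelian_map (MulAut.conj g).toMonoidHom hA.2.1)
      rw [Subgroup.card_map_of_injective (MulAut.conj g).injective] at hA1
      have hB1 := (CfsgLib.PLocal.map_mem_maxEAOf (f := (MulAut.conj (n : G)).toMonoidHom)
        (MulAut.conj (n : G)).injective hB).2.2 D (hD.trans hRn.le) hDe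
      rw [Subgroup.card_map_of_injective (MulAut.conj (n : G)).injective] at hB1
      exact hB1.trans ((hA.2.2 B hBT hB.2.1).trans hA1)
    · rw [hJ1J, Subgroup.card_map_of_injective (MulAut.conj (n : G)).injective,
        Subgroup.card_map_of_injective (MulAut.conj g).injective]
  have hKn : K.map (MulAut.conj (n : G)).toMonoidHom = K :=
    Subgroup.mem_normalizer_iff_map_conj_eq.1 (heq.ge n.2)
  have hC₁ : CfsgLib.LocalEven.JComp.IsComp J₁ K := by
    rw [hJ₁e, ← hKn]; exact hC.conj _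
  refine ⟨hC₁.gen, hC₁.comm, hC₁.index, fun S₂ hS₂ hJS₂ => ?_, hC₁.card_w, hC₁.sq⟩
  have hS₂N : S₂ ≤ N := hS₂.1.trans (sup_le hKN hg)
  have e : J₁ = Cfsg.thompsonSubgroupOf 2 ((R : Subgroup N).map N.subtype) := by
    rw [hJ₁e, hRn, ← CfsgLib.PLocal.map_thompsonSubgroupOf (MulAut.conj (n : G)).injective, hJS]
  have h := CfsgLib.LocalEven.JComp.thompson_eq_of_le (L := N) R rfl hS₂.2.1 hS₂N (e ▸ hJS₂)
  rw [h]; exact e.symm

end Cfsg.Agent.S2944
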