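import Cfsg.Statements.S2945
import Cfsg.Agent.Lib.LocalEven.JCompZN
import Cfsg.Agent.Lib.LocalEven.JCompSn
import Cfsg.Agent.S2944
-- import your own Cfsg.Agent.* helpers here

set_option autoImplicit false
open Cfsg

namespace Cfsg.Agent.S2945

/-- Let G be a finite group of characteristic 2 type in which every 2-local subgroup is solvable and the centralizer of Ω₁(Z(S)) lies in N_G(S) for every Sylow 2-subgroup S, and let T be a nontrivial 2-subgroup (below, J is the Thompson subgroup generated by the elementary abelian 2-subgroups of largest order), L a subgroup in which T is a Sylow 2-subgroup with J(T) not contained in O₂(L) and C_G(O₂(L)) ≤ O₂(L), and K ≤ L a subgroup that is subnormal in ⟨K, J(T)⟩. If for some conjugate Tᵍ of T, K is a J(Tᵍ)-component with J(Tᵍ) the Thompson subgroup of every Sylow 2-subgroup of N_G(W_K) containing J(Tᵍ) (W_K = [Ω₁(Z(O₂(K))), K]), then K is a J(T)-component. -/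
theorem result {G : Type*} [Group G] [Finite G] (hL : Cfsg.IsCharacteristicTwoType G) (hN : ∀ N : Subgroup G, Cfsg.IsTwoLocal N → Group.IsSolvable ↥N)
    (hZ : ∀ S : Sylow 2 G, Subgroup.centralizer (Cfsg.omegaCenterOf (S : Subgroup G) : Set G) ≤ Subgroup.normalizer ((S : Subgroup G) : Set G)) (T : Subgroup G) (hT : IsPGroup 2 ↥T) (hT1 : T ≠ ⊥) (L : Subgroup G) (hLT : L ∈ Cfsg.jOvergroups T)
    (K : Subgroup G) (hKL : K ≤ L) (hKsn : (K.subgroupOf (K ⊔ Cfsg.thompsonSubgroupOf 2 T)).IsSubnormal)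
    (g : G) (hKg : K ∈ Cfsg.jComponentsZero (T.map (MulAut.conj g).toMonoidHom)) : Cfsg.IsJComponent T K := by
  classical
  set J := Cfsg.thompsonSubgroupOf 2 T with hJdef
  have hC := CfsgLib.LocalEven.JComp.isComp_of hKg.1
  obtain ⟨T', hT', hs, hJ'⟩ := CfsgLib.LocalEven.JComp.exists_setup hN hZ hT1 hLT
  haveI hsol : Group.IsSolvable ↥L := CfsgLib.LocalEven.JComp.isSolvable_overgroup hN hT1 hLT
  set X := K ⊔ J with hX
  have hXL : X ≤ L := sup_le hKL ((CfsgLib.PLocal.thompsonSubgroupOf_le 2 T).trans hLT.1.1)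
  haveI hsolX : Group.IsSolvable ↥X := CfsgLib.Coprime.isSolvable_of_le hXL hsol
  have hKX : K ≤ X := le_sup_left
  have hJX : J ≤ X := le_sup_right
  set K' := K.subgroupOf X with hK'
  have e0 : K'.map X.subtype = K := Subgroup.map_subgroupOf_eq_of_le hKX
  have ew : (Cfsg.wOf K').map X.subtype = Cfsg.wOf K :=
    CfsgLib.LocalEven.JComp.map_wOf_subgroupOf hKX
  have hpre : CfsgLib.LocalEven.JComp.IsPre K' := by
    refine ⟨Subgroup.map_injective X.subtype_injective
      (by rw [CfsgLib.LocalEven.JComp.map_oddGen X.subtype_injective, e0, hC.gen]), ?_, ?_, ?_⟩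
    · rw [← Subgroup.relIndex_map_map_of_injective _ _ X.subtype_injective,
        CfsgLib.LocalEven.map_pCoreOf 2 _ X.subtype_injective, e0]
      exact hC.index
    · rw [← Subgroup.card_map_of_injective X.subtype_injective, ew]
      exact hC.card_w
    · intro w hw
      exact Subtype.ext (hC.sq _ (ew ▸ Subgroup.mem_map_of_mem X.subtype hw))
  have hJ2 : IsPGroup 2 J := hT.to_le (CfsgLib.PLocal.thompsonSubgroupOf_le 2 T)
  obtain ⟨R, hR⟩ := (hJ2.comap_subtype : IsPGroup 2 (J.subgroupOf X)).exists_le_sylow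
  have hJR : J ≤ (R : Subgroup X).map X.subtype := fun x hx => ⟨⟨x, hJX hx⟩, hR hx, rfl⟩
  have eJ : (Cfsg.thompsonSubgroupOf 2 (R : Subgroup X)).map X.subtype = J := by
    rw [CfsgLib.PLocal.map_thompsonSubgroupOf X.subtype_injective]
    exact CfsgLib.LocalEven.JComp.thompson_eq_of_le T' hT' (R.2.map _)
      ((Subgroup.map_subtype_le _).trans hXL) hJR
  have hmain := CfsgLib.LocalEven.JComp.thompson_le_normalizer_w R hpre hKsn
  have hJW : J ≤ Subgroup.normalizer (Cfsg.wOf K : Set G) := by
    rw [← eJ]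
    rintro _ ⟨x, hx, rfl⟩
    refine CfsgLib.LocalEven.mem_normalizer_of_conj ?_
    have h := congrArg (Subgroup.map X.subtype) (Subgroup.mem_normalizer_iff_map_conj_eq.1 (hmain hx))
    rw [Subgroup.map_map, ew] at h
    rw [← ew, Subgroup.map_map]
    rw [ew]
    refine Eq.trans ?_ h
    congr 1
  have key := (Cfsg.Agent.S2944.result hL hN hZ (T.map (MulAut.conj g).toMonoidHom) (hT.map _)
    (fun e => hT1 (by rwa [Subgroup.map_eq_bot_iff_of_injective _ (MulAut.conj g).injective] at e)) K hKg).2 g⁻¹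
  have eT : (T.map (MulAut.conj g).toMonoidHom).map (MulAut.conj g⁻¹).toMonoidHom = T := by
    rw [Subgroup.map_map]
    conv_rhs => rw [← Subgroup.map_id T]
    congr 1
    ext x
    simp [mul_assoc]
  rw [eT] at key
  exact key hJW

end Cfsg.Agent.S2945
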