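import Cfsg.Statements.S2949
import Cfsg.Agent.Lib.LocalEven.JCompStraddle
-- import your own Cfsg.Agent.* helpers here

set_option autoImplicit false
open Cfsg

namespace Cfsg.Agent.S2949

/-- Let G be a finite group of characteristic 2 type in which every 2-local subgroup is solvable and the centralizer of Ω₁(Z(S)) lies in N_G(S) for every Sylow 2-subgroup S; suppose O₂(G) = 1, fix a Sylow 2-subgroup S and a 2-local subgroup M containing N_G(J(S)) (J the Thompson subgroup generated by the elementary abelian 2-subgroups of largest order). For every T maximal (for the order of a largest elementary abelian subgroup, then the order of J(T), then the order of T) among the nontrivial 2-subgroups of M lying in a 2-local subgroup not inside M, there is a J(T)-component K not contained in M with J(T) the Thompson subgroup of every Sylow 2-subgroup of N_G(W_K) containing J(T), and O₂(⟨K, T⟩) ≠ 1. -/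
theorem result {G : Type*} [Group G] [Finite G] (hL : Cfsg.IsCharacteristicTwoType G) (hN : ∀ N : Subgroup G, Cfsg.IsTwoLocal N → Group.IsSolvable ↥N)
    (hZ : ∀ S : Sylow 2 G, Subgroup.centralizer (Cfsg.omegaCenterOf (S : Subgroup G) : Set G) ≤ Subgroup.normalizer ((S : Subgroup G) : Set G)) (hO : Cfsg.pCore 2 G = ⊥) (S : Sylow 2 G) (M : Subgroup G) (hM : Cfsg.IsTwoLocal M)
    (hMJ : Subgroup.normalizer (Cfsg.thompsonSubgroupOf 2 (S : Subgroup G) : Set G) ≤ M) (T : Subgroup G) (hT : T ∈ Cfsg.maxStraddlingTwoSubgroups M) :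
    (Cfsg.jComponentsOutside M T).Nonempty := by
  obtain ⟨hT2, hT1, -, L, hL2, hTL, hLM⟩ := hT.1
  have hLT := CfsgLib.LocalEven.JComp.straddle_jOvergroups hL hMJ hT hL2 hLM hTL
  obtain ⟨K, hK, hKL, hKM⟩ := CfsgLib.LocalEven.JComp.exists_jComponent_not_le hN hZ hT1
    (CfsgLib.LocalEven.JComp.normalizer_thompson_le hMJ hT) hLT hLM
  have hC := CfsgLib.LocalEven.JComp.isComp_of hK
  refine ⟨K, ⟨hK, fun R hJR hR => ?_⟩, hKM, fun e => ?_⟩
  · exact (CfsgLib.LocalEven.JComp.straddle_sylow hL hMJ hT
      ⟨wOf K, IsPGroup.of_card (n := 2) (by rw [hC.card_w]; norm_num), hC.wOf_ne_bot, rfl⟩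
      (fun h => hKM (hC.le_normalizer_w.trans h)) hR hJR).1
  · refine CfsgLib.LocalEven.JComp.pCoreOf_ne_bot hT1 hLT (le_bot_iff.1 ?_)
    rw [← e]
    refine CfsgLib.LocalEven.le_pCoreOf ?_ ((sup_le hKL hTL).trans
      (CfsgLib.LocalEven.le_normalizer_pCoreOf 2 L)) (CfsgLib.LocalEven.isPGroup_pCoreOf L)
    obtain ⟨T', hT', -, -⟩ := CfsgLib.LocalEven.JComp.exists_setup hN hZ hT1 hLT
    refine le_sup_of_le_right ?_
    rw [← hT']
    exact Subgroup.map_mono (CfsgLib.LocalEven.pCore_le_sylow T')

end Cfsg.Agent.S2949
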