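import Cfsg.Statements.S2951
import Cfsg.Agent.Lib.LocalEven.JCompSecond
-- import your own Cfsg.Agent.* helpers here

set_option autoImplicit false
open Cfsg

namespace Cfsg.Agent.S2951

/-- Let G be a finite group of characteristic 2 type in which every 2-local subgroup is solvable and the centralizer of Ω₁(Z(S)) lies in N_G(S) for every Sylow 2-subgroup S; suppose O₂(G) = 1, fix a Sylow 2-subgroup S and a 2-local subgroup M containing N_G(J(S)) (J the Thompson subgroup generated by the elementary abelian 2-subgroups of largest order), and put Z = Ω₁(Z(S)). Let T ≤ S be maximal (for the order of a largest elementary abelian subgroup, then the order of J(T), then the order of T) among the nontrivial 2-subgroups of M lying in a 2-local subgroup not inside M, K a J(T)-component not contained in M with J(T) the Thompson subgroup of every Sylow 2-subgroup of N_G(W_K) containing J(T), and O₂(⟨K, T⟩) ≠ 1, L a maximal 2-local subgroup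 containing ⟨K, J(T)⟩ (there is only one), and Z₀ = Ω₁(Z(J(T))). Then Z₀ ∩ W_K ≠ 1, and one of: Z = Z₀ has order 2; Z = Z₀ has order 4 and T = S; Ω₁(Z(T)) = Z₀ has order 4 and C_L(Z₀) has index 2 in N_G(Z₀). -/
theorem result {G : Type*} [Group G] [Finite G] (hL : Cfsg.IsCharacteristicTwoType G) (hN : ∀ N : Subgroup G, Cfsg.IsTwoLocal N → Group.IsSolvable ↥N)
    (hZ : ∀ S : Sylow 2 G, Subgroup.centralizer (Cfsg.omegaCenterOf (S : Subgroup G) : Set G) ≤ Subgroup.normalizer ((S : Subgroup G) : Set G)) (hO : Cfsg.pCore 2 G = ⊥) (S : Sylow 2 G) (M : Subgroup G) (hM : Cfsg.IsTwoLocal M)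
    (hMJ : Subgroup.normalizer (Cfsg.thompsonSubgroupOf 2 (S : Subgroup G) : Set G) ≤ M) (T : Subgroup G) (hT : T ∈ Cfsg.maxStraddlingTwoSubgroups M)
    (hTS : T ≤ (S : Subgroup G)) (K : Subgroup G) (hK : K ∈ Cfsg.jComponentsOutside M T)
    (L : Subgroup G) (hLmax : Cfsg.IsMaximalTwoLocal L) (hKL : K ⊔ Cfsg.thompsonSubgroupOf 2 T ≤ L)
    (Z Z₀ : Subgroup G) (hZdef : Z = Cfsg.omegaCenterOf (S : Subgroup G)) (hZ₀ : Z₀ = Cfsg.omegaCenterOf (Cfsg.thompsonSubgroupOf 2 T)) :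
    Z₀ ⊓ Cfsg.wOf K ≠ ⊥ ∧
      ((Z = Z₀ ∧ Nat.card ↥Z₀ = 2) ∨ (Z = Z₀ ∧ Nat.card ↥Z₀ = 4 ∧ T = (S : Subgroup G)) ∨
        (Cfsg.omegaCenterOf T = Z₀ ∧ Nat.card ↥Z₀ = 4 ∧
          (L ⊓ Subgroup.centralizer (Z₀ : Set G)).relIndex (Subgroup.normalizer (Z₀ : Set G)) = 2)) := by
  subst hZdef; subst hZ₀
  have c : CfsgLib.LocalEven.JComp.Ctx M T := ⟨hL, hN, hZ, hO, hM, ⟨S, hMJ⟩, hT⟩
  obtain ⟨⟨hKj, -⟩, hKM, hO2⟩ := hK
  have hC := CfsgLib.LocalEven.JComp.isComp_of hKj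
  have hTL : T ≤ L := by
    obtain ⟨L₁, hL₁, hle⟩ := CfsgLib.LocalEven.JComp.exists_maximalTwoLocal
      (show Cfsg.IsTwoLocal (Subgroup.normalizer (Cfsg.pCoreOf 2 (K ⊔ T) : Set G)) from
        ⟨_, CfsgLib.LocalEven.isPGroup_pCoreOf _, hO2, rfl⟩)
    have hle' : K ⊔ T ≤ L₁ := (CfsgLib.LocalEven.le_normalizer_pCoreOf 2 _).trans hle
    rw [c.unique hLmax hL₁ hC hKM hKL
      ((sup_le_sup_left (CfsgLib.PLocal.thompsonSubgroupOf_le 2 T) K).trans hle')]
    exact le_sup_right.trans hle'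
  refine ⟨fun e => ?_, ?_⟩
  · have h2 := (c.card_center hKj).2
    rw [e, Subgroup.card_bot] at h2
    omega
  by_cases hne : T = S
  · obtain ⟨e, h | h⟩ := c.top_case hC hKM hLmax hKL hTL hne (c.top_sep hC hKM hLmax hKL hTL hne)
    · exact Or.inl ⟨e, h⟩
    · exact Or.inr (Or.inl ⟨e, h, hne⟩)
  · rcases c.proper_case hC hKM hLmax hKL hTL hTS hne with h | h
    · exact Or.inl h
    · exact Or.inr (Or.inr h)

end Cfsg.Agent.S2951
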