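import Cfsg.Statements.S2953
import Cfsg.Agent.Lib.LocalEven.JCompSecond
-- import your own Cfsg.Agent.* helpers here

set_option autoImplicit false
open Cfsg

namespace Cfsg.Agent.S2953

/-- Let G be a finite group of characteristic 2 type in which every 2-local subgroup is solvable and the centralizer of Ω₁(Z(S)) lies in N_G(S) for every Sylow 2-subgroup S; suppose O₂(G) = 1, fix a Sylow 2-subgroup S and a 2-local subgroup M containing N_G(J(S)) (J the Thompson subgroup generated by the elementary abelian 2-subgroups of largest order). Let T be maximal (for the order of a largest elementary abelian subgroup, then the order of J(T), then the order of T) among the nontrivial 2-subgroups of M lying in a 2-local subgroup not inside M. Then there are two distinct J(T)-components K₁, K₂ such that, with Pᵢ = ⟨Kᵢ, T⟩: C_G(O₂(Pᵢ)) ≤ O₂(Pᵢ), T is a Sylow 2-subgroup of Pᵢ, O₂(Pᵢ)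 has index 6 in Pᵢ with Pᵢ/O₂(Pᵢ) non-abelian, [Ω₁(Z(T)), Pᵢ] ≠ 1, O₂(⟨P₁, P₂⟩) = 1, and each Pᵢ lies in exactly one maximal 2-local subgroup Lᵢ of G, in which T is a Sylow 2-subgroup. -/
theorem result {G : Type*} [Group G] [Finite G] (hL : Cfsg.IsCharacteristicTwoType G) (hN : ∀ N : Subgroup G, Cfsg.IsTwoLocal N → Group.IsSolvable ↥N)
    (hZ : ∀ S : Sylow 2 G, Subgroup.centralizer (Cfsg.omegaCenterOf (S : Subgroup G) : Set G) ≤ Subgroup.normalizer ((S : Subgroup G) : Set G)) (hO : Cfsg.pCore 2 G = ⊥) (S : Sylow 2 G) (M : Subgroup G) (hM : Cfsg.IsTwoLocal M)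
    (hMJ : Subgroup.normalizer (Cfsg.thompsonSubgroupOf 2 (S : Subgroup G) : Set G) ≤ M) (T : Subgroup G) (hT : T ∈ Cfsg.maxStraddlingTwoSubgroups M) :
    ∃ K₁ K₂ : Subgroup G, K₁ ≠ K₂ ∧ Cfsg.IsJComponent T K₁ ∧ Cfsg.IsJComponent T K₂ ∧
      Cfsg.pCoreOf 2 ((K₁ ⊔ T) ⊔ (K₂ ⊔ T)) = ⊥ ∧
      ∀ P ∈ [K₁ ⊔ T, K₂ ⊔ T],
        Subgroup.centralizer (Cfsg.pCoreOf 2 P : Set G) ≤ Cfsg.pCoreOf 2 P ∧ Cfsg.IsSylowTwoIn T P ∧
        (Cfsg.pCoreOf 2 P).relIndex P = 6 ∧ ¬ ⁅P, P⁆ ≤ Cfsg.pCoreOf 2 P ∧ ⁅Cfsg.omegaCenterOf T, P⁆ ≠ ⊥ ∧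
        ∃ L : Subgroup G, Cfsg.IsMaximalTwoLocal L ∧ P ≤ L ∧ Cfsg.IsSylowTwoIn T L ∧
          ∀ L' : Subgroup G, Cfsg.IsMaximalTwoLocal L' → P ≤ L' → L' = L := by
  have c : CfsgLib.LocalEven.JComp.Ctx M T := ⟨hL, hN, hZ, hO, hM, ⟨S, hMJ⟩, hT⟩
  obtain ⟨K₁, L₁, hK₁, hK₁M, hL₁, hKL₁, hTL₁⟩ := c.exists_comp
  have d₁ := c.dat hK₁ hK₁M hL₁ hKL₁ hTL₁
  obtain ⟨M₂, K₂, L₂, d₂, hne⟩ := d₁.exists_second
  refine ⟨K₁, K₂, fun e => hne (d₁.eq_of_le d₂.hL (e ▸ d₂.P_le)).symm, d₁.isJ, d₂.isJ,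
    d₁.core_bot d₂ hne, fun P hP => ?_⟩
  simp only [List.mem_cons, List.mem_nil_iff, or_false] at hP
  rcases hP with rfl | rfl
  · exact ⟨d₁.centralizer_core, d₁.sylow_P, d₁.relIndex_six, d₁.not_commutator_le,
      d₁.omega_noncentral, L₁, d₁.hL, d₁.P_le, d₁.sylow, fun L' h h' => d₁.eq_of_le h h'⟩
  · exact ⟨d₂.centralizer_core, d₂.sylow_P, d₂.relIndex_six, d₂.not_commutator_le,
      d₂.omega_noncentral, L₂, d₂.hL, d₂.P_le, d₂.sylow, fun L' h h' => d₂.eq_of_le h h'⟩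

end Cfsg.Agent.S2953
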