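import Cfsg.Statements.S2954
import Cfsg.Agent.Lib.LocalEven.JCompSecond
import Cfsg.Agent.Lib.LocalEven.JCompShape
-- import your own Cfsg.Agent.* helpers here

set_option autoImplicit false
open Cfsg

namespace Cfsg.Agent.S2954

/-- Let G be a finite group of characteristic 2 type in which every 2-local subgroup is solvable and the centralizer of Ω₁(Z(S)) lies in N_G(S) for every Sylow 2-subgroup S; suppose O₂(G) = 1, fix a Sylow 2-subgroup S and a 2-local subgroup M containing N_G(J(S)) (J the Thompson subgroup generated by the elementary abelian 2-subgroups of largest order). If T is maximal (for the order of a largest elementary abelian subgroup, then the order of J(T), then the order of T) among the nontrivial 2-subgroups of M lying in a 2-local subgroup not inside M, then there are two distinct maximal 2-local subgroups P₁, P₂ of G, each having T as a Sylow 2-subgroup, that are both isomorphic to the symmetric group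 on four letters or both isomorphic to its direct product with a group of order 2. -/
theorem result {G : Type*} [Group G] [Finite G] (hL : Cfsg.IsCharacteristicTwoType G) (hN : ∀ N : Subgroup G, Cfsg.IsTwoLocal N → Group.IsSolvable ↥N)
    (hZ : ∀ S : Sylow 2 G, Subgroup.centralizer (Cfsg.omegaCenterOf (S : Subgroup G) : Set G) ≤ Subgroup.normalizer ((S : Subgroup G) : Set G)) (hO : Cfsg.pCore 2 G = ⊥) (S : Sylow 2 G) (M : Subgroup G) (hM : Cfsg.IsTwoLocal M)
    (hMJ : Subgroup.normalizer (Cfsg.thompsonSubgroupOf 2 (S : Subgroup G) : Set G) ≤ M) (T : Subgroup G) (hT : T ∈ Cfsg.maxStraddlingTwoSubgroups M) :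
    ∃ P₁ P₂ : Subgroup G, P₁ ≠ P₂ ∧ Cfsg.IsMaximalTwoLocal P₁ ∧ Cfsg.IsMaximalTwoLocal P₂ ∧
      Cfsg.IsSylowTwoIn T P₁ ∧ Cfsg.IsSylowTwoIn T P₂ ∧
      ((Nonempty (↥P₁ ≃* Equiv.Perm (Fin 4)) ∧ Nonempty (↥P₂ ≃* Equiv.Perm (Fin 4))) ∨
        (Nonempty (↥P₁ ≃* Equiv.Perm (Fin 4) × Multiplicative (ZMod 2)) ∧
          Nonempty (↥P₂ ≃* Equiv.Perm (Fin 4) × Multiplicative (ZMod 2)))) := by
  have c : CfsgLib.LocalEven.JComp.Ctx M T := ⟨hL, hN, hZ, hO, hM, ⟨S, hMJ⟩, hT⟩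
  obtain ⟨K₁, L₁, hK₁, hK₁M, hL₁, hKL₁, hTL₁⟩ := c.exists_comp
  have d₁ := c.dat hK₁ hK₁M hL₁ hKL₁ hTL₁
  have h4 := (c.fix_center hK₁ hK₁M hL₁ hKL₁ hTL₁).2
  obtain ⟨M₂, K₂, L₂, d₂, hne⟩ := d₁.exists_second
  have s₁ := d₁.shape (d₁.small d₂ hne).1 (d₁.small d₂ hne).2 h4
  have s₂ := d₂.shape (d₂.small d₁ hne.symm).1 (d₂.small d₁ hne.symm).2 h4
  refine ⟨L₁, L₂, hne, d₁.hL, d₂.hL, d₁.sylow, d₂.sylow, ?_⟩
  rcases s₁ with ⟨h₁, e₁⟩ | ⟨h₁, e₁⟩ <;> rcases s₂ with ⟨h₂, e₂⟩ | ⟨h₂, e₂⟩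
  · exact Or.inl ⟨e₁, e₂⟩
  · omega
  · omega
  · exact Or.inr ⟨e₁, e₂⟩

end Cfsg.Agent.S2954
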