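import Cfsg.Statements.S2958
import Cfsg.Agent.Lib.LocalEven.Cover
-- import your own Cfsg.Agent.* helpers here

set_option autoImplicit false
open Cfsg

namespace Cfsg.Agent.S2958

/-- Let X, A, B be subgroups of a group G such that G is generated by the conjugates of X and every conjugate of X is contained in A or in B. Then A = G or B = G. -/
theorem result {G : Type*} [Group G] (X A B : Subgroup G) (hgen : (⨆ g : G, X.map (MulAut.conj g).toMonoidHom) = ⊤) (hcover : ∀ g : G, X.map (MulAut.conj g).toMonoidHom ≤ A ∨ X.map (MulAut.conj g).toMonoidHom ≤ B) : A = ⊤ ∨ B = ⊤ := by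
  rcases Classical.em (∃ g : G, ¬ X.map (MulAut.conj g).toMonoidHom ≤ A) with ⟨g, hg⟩ | h
  · right
    obtain hXB := (hcover g).resolve_left hg
    -- `g X g⁻¹ ≤ B`; every conjugate lies in one of `A`, `B`
    exact CfsgLib.LocalEven.eq_top_of_conj_cover X A B hgen hcover hg
  · left
    push Not at h
    exact top_le_iff.1 (hgen ▸ iSup_le h)

end Cfsg.Agent.S2958
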