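import Cfsg.Statements.S2963
-- import your own Cfsg.Agent.* helpers here

set_option autoImplicit false
open Cfsg
open scoped Pointwise

namespace Cfsg.Agent.S2963

/-- Let n be odd. If the symmetric group of degree n is a minimal parabolic group for the prime 2, that is, a Sylow 2-subgroup is not normal and lies in exactly one maximal subgroup, then n = 2^m + 1 for some natural number m. -/
theorem result (n : ℕ) (hn : Odd n) (h : Cfsg.IsPMinimal 2 (Equiv.Perm (Fin n))) : ∃ m : ℕ, n = 2 ^ m + 1 := by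
  classical
  obtain ⟨T⟩ : Nonempty (Sylow 2 (Equiv.Perm (Fin n))) := inferInstance
  obtain ⟨hTn, M, ⟨hM, hTM⟩, huniq⟩ := h T
  have hle : ∀ X : Subgroup (Equiv.Perm (Fin n)), X ≠ ⊤ → (T : Subgroup _) ≤ X → X ≤ M := by
    intro X hX hTX
    obtain ⟨Y, hY, hXY⟩ := (eq_top_or_exists_le_coatom X).resolve_left hX
    exact huniq Y ⟨hY, hTX.trans hXY⟩ ▸ hXY
  -- a Sylow 2-subgroup fixes a point
  obtain ⟨f, hf⟩ : (MulAction.fixedPoints (T : Subgroup (Equiv.Perm (Fin n))) (Fin n)).Nonempty := by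
    refine (show IsPGroup 2 (T : Subgroup (Equiv.Perm (Fin n))) from T.2).nonempty_fixed_point_of_prime_not_dvd_card _ ?_
    rw [Nat.card_fin]
    exact fun hd => Nat.not_even_iff_odd.2 hn (even_iff_two_dvd.2 hd)
  have hfT : ∀ t ∈ (T : Subgroup (Equiv.Perm (Fin n))), t f = f := fun t ht => hf ⟨t, ht⟩
  obtain ⟨b, hb⟩ : ∃ b, b ≠ f := by
    by_contra hc
    push Not at hc
    refine hTn ?_
    have : Subsingleton (Fin n) := ⟨fun a b => (hc a).trans (hc b).symm⟩
    rw [Subsingleton.elim (T : Subgroup (Equiv.Perm (Fin n))) ⊤]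
    infer_instance
  set A := MulAction.orbit (T : Subgroup (Equiv.Perm (Fin n))) b with hA
  obtain ⟨k, hk⟩ := (show IsPGroup 2 (T : Subgroup (Equiv.Perm (Fin n))) from T.2).card_orbit b
  refine ⟨k, ?_⟩
  have hfA : f ∉ A := by
    rintro ⟨t, ht⟩
    have h1 : t⁻¹ • f = b := by rw [← ht, inv_smul_smul]
    exact hb (h1 ▸ (hf t⁻¹))
  by_contra hne
  obtain ⟨c, hcA, hcf⟩ : ∃ c, c ∉ A ∧ c ≠ f := by
    by_contra hc
    push Not at hc
    refine hne ?_
    have e : A = {f}ᶜ := Set.ext fun x => ⟨fun hx (hxf : x = f) => hfA (hxf ▸ hx),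
      fun hx => by_contra fun hxA => hx (hc x hxA)⟩
    have h2 : Nat.card A = n - 1 := by
      rw [Nat.card_coe_set_eq, e, Set.ncard_compl, Set.ncard_singleton, Nat.card_fin]
    rw [hA] at h2
    rw [hk] at h2
    have := hn.pos
    omega
  have hAinv : ∀ t ∈ (T : Subgroup (Equiv.Perm (Fin n))), ∀ x ∈ A, t x ∈ A := fun t ht x hx =>
    MulAction.mem_orbit_of_mem_orbit (⟨t, ht⟩ : (T : Subgroup (Equiv.Perm (Fin n)))) hx
  set X := MulAction.stabilizer (Equiv.Perm (Fin n)) f with hX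
  set Y := MulAction.stabilizer (Equiv.Perm (Fin n)) A with hY
  have hXM : X ≤ M := by
    refine hle X (fun e => hb ?_) hfT
    have h1 : Equiv.swap f b ∈ X := e ▸ Subgroup.mem_top _
    have h2 : Equiv.swap f b f = f := h1
    rwa [Equiv.swap_apply_left] at h2
  have hYM : Y ≤ M := by
    refine hle Y (fun e => hfA ?_) (fun t ht => ?_)
    · have h1 : Equiv.swap f b • A = A := (e ▸ Subgroup.mem_top _ : Equiv.swap f b ∈ Y)
      rw [← h1]
      exact ⟨b, MulAction.mem_orbit_self b, Equiv.swap_apply_right f b⟩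
    · rw [hY, MulAction.mem_stabilizer_set_iff_smul_set_subset (Set.toFinite A)]
      rintro _ ⟨x, hx, rfl⟩
      exact hAinv t ht x hx
  have hswap : Equiv.swap f c ∈ M := by
    refine hYM ?_
    rw [hY, MulAction.mem_stabilizer_set_iff_smul_set_subset (Set.toFinite A)]
    rintro _ ⟨x, hx, rfl⟩
    show Equiv.swap f c x ∈ A
    rwa [Equiv.swap_apply_of_ne_of_ne (fun (e : x = f) => hfA (e ▸ hx))
      (fun (e : x = c) => hcA (e ▸ hx))]
  refine hM.1 ((Subgroup.eq_top_iff' M).2 fun g => ?_)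
  by_cases hg : g f = f
  · exact hXM hg
  · set d := g f with hd
    have h1 : Equiv.swap c d ∈ M := by
      refine hXM ?_
      show Equiv.swap c d f = f
      exact Equiv.swap_apply_of_ne_of_ne hcf.symm (Ne.symm hg)
    have h2 : (Equiv.swap c d * Equiv.swap f c)⁻¹ * g ∈ M := by
      refine hXM ?_
      show (Equiv.swap c d * Equiv.swap f c)⁻¹ (g f) = f
      rw [Equiv.Perm.inv_eq_iff_eq, Equiv.Perm.mul_apply, Equiv.swap_apply_left,
        Equiv.swap_apply_left]
    have := mul_mem (mul_mem h1 hswap) h2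
    rwa [mul_inv_cancel_left] at this

end Cfsg.Agent.S2963
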