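import Cfsg.Statements.S2971
import Cfsg.Agent.Lib.LocalEven.Isolated
import Cfsg.Agent.Lib.FT.Elementary
import Cfsg.Agent.Lib.Base.Cores
-- import your own Cfsg.Agent.* helpers here

set_option autoImplicit false
open Cfsg

namespace Cfsg.Agent.S2971

/-- Let G be a finite group and p an odd prime such that G has p-rank at most 1 (no elementary abelian subgroup of order p²). If x ∈ G is an isolated element of order p, then x is central modulo the largest normal subgroup of G of order prime to p. -/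
theorem result {G : Type*} [Group G] [Finite G] {p : ℕ} [Fact p.Prime] (hp : p ≠ 2) (hrk : Cfsg.PRankLE p 1 G) (x : G) (hx : orderOf x = p) (hiso : Cfsg.IsIsolated x) : Cfsg.InZStar p x := by
  classical
  have hxp : IsPGroup p ↥(Subgroup.zpowers x) :=
    CfsgLib.LocalEven.Iso.isPGroup_zpowers ⟨1, by rw [hx, pow_one]⟩
  obtain ⟨P, hP⟩ := hxp.exists_le_sylow
  have hcyc : IsCyclic ↥(P : Subgroup G) :=
    CfsgLib.FT.isCyclic_of_pRankLE_one hp P.2 (CfsgLib.Base.pRankLE_subgroup hrk _)
  have hx1 : x ≠ 1 := fun h => (Fact.out : p.Prime).ne_one (by rw [← hx, h, orderOf_one])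
  obtain ⟨Q, N, hN, hNQ⟩ := CfsgLib.LocalEven.Iso.normalPComplement_of_cyclic hiso hx1 P
    (hP (Subgroup.mem_zpowers x)) hcyc
  haveI := hN
  haveI : IsCyclic ↥(Q : Subgroup G) :=
    isCyclic_of_surjective (P.equiv Q) (P.equiv Q).surjective
  have hcop : (Nat.card N).Coprime p := by
    have h3 : (Q : Subgroup G).index = Nat.card N := by
      refine Nat.eq_of_mul_eq_mul_right (Nat.card_pos (α := ↥(Q : Subgroup G))) ?_
      rw [Subgroup.index_mul_card, hNQ.card_mul]
    exact ((Fact.out : p.Prime).coprime_iff_not_dvd.2 (h3 ▸ Q.not_dvd_index)).symm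
  intro g
  refine CfsgLib.Base.le_pPrimeCore hcop ?_
  haveI : IsMulCommutative (G ⧸ N) := by
    have e := hNQ.symm.QuotientMulEquiv
    haveI : IsMulCommutative ↥(Q : Subgroup G) := IsCyclic.isMulCommutative
    exact ⟨⟨fun a b => e.injective (by rw [map_mul, map_mul, mul_comm'])⟩⟩
  rw [← QuotientGroup.eq_one_iff, QuotientGroup.mk_mul, QuotientGroup.mk_mul,
    QuotientGroup.mk_mul, mul_comm' (g : G ⧸ N)]
  simp

end Cfsg.Agent.S2971
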