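import Cfsg.Statements.S2983
import Cfsg.Agent.Lib.PLocal.Frattini
import Cfsg.Agent.Lib.Transfer.ThompsonComplement
import Cfsg.Agent.Lib.Transfer.ZJComplement
import Cfsg.Agent.Lib.LocalEven.CharP
import Cfsg.Agent.Lib.PLocal.Constrained
import Cfsg.Prelude.Def_BaumannBlocks
import Cfsg.Agent.Lib.Techniques.Invariance

set_option autoImplicit false
open Cfsg
open scoped commutatorElement

namespace Cfsg.Agent.S2983

/-- Let G be a finite group of characteristic p (C_G(O_p(G)) ≤ O_p(G)), T a Sylow p-subgroup and E a B(T)-block of G. If Q is a p-subgroup of G normalized by both B(T) and E, then Q normalizes E. -/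
theorem result {G : Type*} [Group G] [Finite G] {p : ℕ} [Fact p.Prime] (hG : Subgroup.centralizer (Cfsg.pCore p G : Set G) ≤ Cfsg.pCore p G) (T : Sylow p G) (E : Subgroup G) (hE : Cfsg.IsBaumannBlock p (T : Subgroup G) E) (Q : Subgroup G) (hQ : IsPGroup p ↥Q) (hBQ : Cfsg.baumannSubgroupOf p (T : Subgroup G) ≤ Subgroup.normalizer (Q : Set G)) (hEQ : E ≤ Subgroup.normalizer (Q : Set G)) : Q ≤ Subgroup.normalizer (E : Set G) := by
  obtain ⟨hres, hEB, -, -, -⟩ := hE
  set B := Cfsg.baumannSubgroupOf p (T : Subgroup G) with hB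
  set J := Cfsg.thompsonSubgroupOf p (T : Subgroup G) with hJ
  have hBT : B ≤ (T : Subgroup G) := inf_le_left
  have hJB : J ≤ B := by
    refine le_inf (CfsgLib.PLocal.thompsonSubgroupOf_le p _) ?_
    rw [Subgroup.le_centralizer_iff]
    exact (CfsgLib.PLocal.omegaOne_le p _).trans inf_le_right
  -- `B` is normal in every Sylow subgroup containing it
  have hQnB : Q ≤ Subgroup.normalizer (B : Set G) := by
    obtain ⟨T', hT'⟩ := (hQ.to_sup_of_normal_left' (T.2.to_le hBT) hBQ).exists_le_sylow
    have hBT' : B ≤ (T' : Subgroup G) := le_sup_right.trans hT'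
    obtain ⟨g, hg⟩ := MulAction.exists_smul_eq G T T'
    have hgT : ((T : Subgroup G).map (MulAut.conj g).toMonoidHom) = (T' : Subgroup G) := by
      rw [CfsgLib.Base.map_conj_eq_smul, ← hg, Sylow.coe_subgroup_smul]
    have hJ' : Cfsg.thompsonSubgroupOf p (T' : Subgroup G) = J := by
      refine (Subgroup.eq_of_le_of_card_ge ?_ ?_).symm
      · rw [hJ, CfsgLib.PLocal.thompsonSubgroupOf_eq_sSup p (T : Subgroup G)]
        refine sSup_le fun A hA => CfsgLib.PLocal.le_thompsonSubgroupOf ⟨?_, hA.2.1, fun C _ hCe =>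
          (CfsgLib.PLocal.mem_max_of_mem_maxEAOf_sylow T hA).2 C hCe⟩
        exact ((CfsgLib.PLocal.le_thompsonSubgroupOf hA).trans hJB).trans hBT'
      · rw [← hgT, ← CfsgLib.PLocal.map_thompsonSubgroupOf (MulAut.conj g).injective]
        exact (Nat.card_congr (Subgroup.equivMapOfInjective _ _ (MulAut.conj g).injective).toEquiv).ge
    have hB' : Cfsg.baumannSubgroupOf p (T' : Subgroup G) = B := by
      have hC : Cfsg.centerThompsonOf p (T' : Subgroup G) = Cfsg.centerThompsonOf p (T : Subgroup G) := by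
        rw [Cfsg.centerThompsonOf, Cfsg.centerThompsonOf, hJ']
      refine (Subgroup.eq_of_le_of_card_ge (le_inf hBT' ?_) ?_).symm
      · rw [hC]; exact inf_le_right
      · have hgJ : J.map (MulAut.conj g).toMonoidHom = J := by
          refine (CfsgLib.PLocal.map_thompsonSubgroupOf (f := (MulAut.conj g).toMonoidHom)
            (MulAut.conj g).injective _).trans ?_
          rw [hgT]
          exact hJ'
        have hgZ : (Cfsg.omegaOne p (Cfsg.centerThompsonOf p (T : Subgroup G))).map
            (MulAut.conj g).toMonoidHom = Cfsg.omegaOne p (Cfsg.centerThompsonOf p (T : Subgroup G)) := by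
          rw [CfsgLib.PLocal.map_omegaOne (MulAut.conj g).injective, Cfsg.centerThompsonOf,
            CfsgLib.PLocal.map_inf_centralizer (MulAut.conj g).injective, ← hJ,
            hgJ]
        have e : B.map (MulAut.conj g).toMonoidHom = Cfsg.baumannSubgroupOf p (T' : Subgroup G) := by
          have h1 := CfsgLib.Techniques.map_centralizer_mulEquiv (MulAut.conj g)
            (Cfsg.omegaOne p (Cfsg.centerThompsonOf p (T : Subgroup G)))
          rw [hgZ] at h1
          rw [hB, Cfsg.baumannSubgroupOf, Cfsg.baumannSubgroupOf,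
            Subgroup.map_inf _ _ _ (MulAut.conj g).injective, hgT, hC, h1]
        show Nat.card ↥(Cfsg.baumannSubgroupOf p (T' : Subgroup G)) ≤ Nat.card B
        rw [← e]
        exact (Nat.card_congr (Subgroup.equivMapOfInjective _ _ (MulAut.conj g).injective).toEquiv).ge
    rw [← hB']
    have hn : (T' : Subgroup G) ≤ Subgroup.normalizer
        (Cfsg.baumannSubgroupOf p (T' : Subgroup G) : Set G) := by
      refine le_trans (le_inf Subgroup.le_normalizer ?_) (CfsgLib.PLocal.normalizer_inf_le _ _)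
      refine le_trans ?_ (CfsgLib.LocalEven.normalizer_le_normalizer_centralizer _)
      refine le_trans ?_ (fun m hm => Subgroup.mem_normalizer_iff_map_conj_eq.2 (by
        rw [CfsgLib.PLocal.map_omegaOne (MulAut.conj m).injective, Subgroup.mem_normalizer_iff_map_conj_eq.1 hm]) :
          Subgroup.normalizer (Cfsg.centerThompsonOf p (T' : Subgroup G) : Set G) ≤
            Subgroup.normalizer (Cfsg.omegaOne p (Cfsg.centerThompsonOf p (T' : Subgroup G)) : Set G))
      exact (Subgroup.le_normalizer.trans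
        (CfsgLib.Transfer.normalizer_le_normalizer_thompsonSubgroupOf _)).trans
        (CfsgLib.Transfer.normalizer_le_normalizer_inf_centralizer _)
    exact (le_sup_left.trans hT').trans hn
  -- `Q` normalizes the normal closure `E B` of `B` in `E B`
  have hBE : B ≤ Subgroup.normalizer (E : Set G) := by
    intro b hb
    refine Subgroup.mem_normalizer_iff_map_conj_eq.2 (Subgroup.eq_of_le_of_card_ge ?_
      (Nat.card_congr (Subgroup.equivMapOfInjective E _ (MulAut.conj b).injective).toEquiv).le)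
    rintro _ ⟨e, he, rfl⟩
    have h1 : ⁅b, e⁆ ∈ E := by
      rw [← commutatorElement_inv]
      exact inv_mem (hEB.le (Subgroup.commutator_mem_commutator he hb))
    simpa [commutatorElement_def] using mul_mem h1 he
  intro q hq
  have hqB : ∀ b ∈ B, q * b * q⁻¹ ∈ B := fun b hb => (Subgroup.mem_normalizer_iff.1 (hQnB hq) b).1 hb
  have hEK : E ≤ (E ⊔ B).comap (MulAut.conj q).toMonoidHom := by
    conv_lhs => rw [← hEB]
    rw [Subgroup.commutator_le]
    intro e he b hb
    show q * ⁅e, b⁆ * q⁻¹ ∈ E ⊔ B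
    have hlq : e⁻¹ * q * e ∈ Q := by
      simpa using (Subgroup.mem_normalizer_iff.1 (hEQ (E.inv_mem he)) q).1 hq
    have hb' := (Subgroup.mem_normalizer_iff.1 (hQnB hlq) b).1 hb
    have h1 : q * (e * b * e⁻¹) * q⁻¹ ∈ E ⊔ B := by
      have := mul_mem (mul_mem (Subgroup.mem_sup_left (T := B) he)
        (Subgroup.mem_sup_right (S := E) hb')) (inv_mem (Subgroup.mem_sup_left (T := B) he))
      convert this using 1
      group
    convert mul_mem h1 (Subgroup.mem_sup_right (S := E) (hqB _ (inv_mem hb))) using 1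
    rw [commutatorElement_def]
    group
  have hcop : ∀ x ∈ E ⊔ B, (orderOf x).Coprime p → x ∈ E := by
    intro x hx hxo
    haveI : (E.subgroupOf (E ⊔ B)).Normal :=
      Subgroup.normal_subgroupOf_of_le_normalizer (sup_le Subgroup.le_normalizer hBE)
    have h2 : IsPGroup p (↥(E ⊔ B) ⧸ E.subgroupOf (E ⊔ B)) := by
      intro y
      obtain ⟨⟨y, hy⟩, rfl⟩ := QuotientGroup.mk_surjective y
      obtain ⟨k, hk, j, hj, rfl⟩ : ∃ k ∈ E, ∃ j ∈ B, k * j = y := by
        rw [← SetLike.mem_coe, Subgroup.coe_mul_of_right_le_normalizer_left E B hBE] at hy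
        exact Set.mem_mul.1 hy
      obtain ⟨n, hn⟩ := (T.2.to_le hBT) ⟨j, hj⟩
      refine ⟨n, ?_⟩
      have : (QuotientGroup.mk (⟨k * j, hy⟩ : ↥(E ⊔ B)) : ↥(E ⊔ B) ⧸ E.subgroupOf (E ⊔ B)) =
          QuotientGroup.mk' _ ⟨k, Subgroup.mem_sup_left hk⟩ *
            QuotientGroup.mk' _ ⟨j, Subgroup.mem_sup_right hj⟩ := rfl
      rw [this, show QuotientGroup.mk' (E.subgroupOf (E ⊔ B)) ⟨k, Subgroup.mem_sup_left hk⟩ = 1 from
          (QuotientGroup.eq_one_iff _).2 hk, one_mul, ← map_pow]
      rw [show (⟨j, Subgroup.mem_sup_right hj⟩ : ↥(E ⊔ B)) ^ p ^ n = 1 from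
        Subtype.ext (by simpa using congrArg Subtype.val hn), map_one]
    exact Subgroup.mem_subgroupOf.1 ((QuotientGroup.eq_one_iff (N := E.subgroupOf (E ⊔ B)) ⟨x, hx⟩).1
      (CfsgLib.Transfer.eq_one_of_coprime_orderOf h2
        (Nat.Coprime.coprime_dvd_left (orderOf_map_dvd (QuotientGroup.mk' (E.subgroupOf (E ⊔ B))) ⟨x, hx⟩)
          (by rwa [Subgroup.orderOf_mk]))))
  rw [Subgroup.mem_normalizer_iff_map_conj_eq]
  refine Subgroup.eq_of_le_of_card_ge ?_
    (Nat.card_congr (Subgroup.equivMapOfInjective E _ (MulAut.conj q).injective).toEquiv).le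
  rw [Subgroup.map_le_iff_le_comap]
  conv_lhs => rw [← hres]
  rw [Cfsg.pResidualOf, Subgroup.map_le_iff_le_comap, Cfsg.pResidual, Subgroup.closure_le]
  intro x hx
  refine hcop _ (hEK x.2) ?_
  show (orderOf (MulAut.conj q (x : G))).Coprime p
  rw [MulEquiv.orderOf_eq, Subgroup.orderOf_coe]
  exact hx

end Cfsg.Agent.S2983
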