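import Cfsg.Statements.S2984
import Cfsg.Agent.S2983
import Cfsg.Agent.Lib.LocalEven.BlockModule
import Cfsg.Agent.Lib.LocalEven.AmalgamIter
import Cfsg.Agent.Lib.LocalEven.CharP
-- import your own Cfsg.Agent.* helpers here

set_option autoImplicit false
open Cfsg
open scoped commutatorElement

namespace Cfsg.Agent.S2984

/-- Let G be a finite group of characteristic p (C_G(O_p(G)) ≤ O_p(G)), T a Sylow p-subgroup and E a B(T)-block of G, with W_E = [Ω₁(Z(O_p(E))), E]. Then E = O^p(E·O_p(G)), W_E ≤ Ω₁(Z(O_p(G))), and [W_E, J(T)] ≠ 1, where J(T) is generated by the elementary abelian p-subgroups of T of largest order. -/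
theorem result {G : Type*} [Group G] [Finite G] {p : ℕ} [Fact p.Prime] (hG : Subgroup.centralizer (Cfsg.pCore p G : Set G) ≤ Cfsg.pCore p G) (T : Sylow p G) (E : Subgroup G) (hE : Cfsg.IsBaumannBlock p (T : Subgroup G) E) : Cfsg.pResidualOf p (E ⊔ Cfsg.pCore p G) = E ∧ ⁅Cfsg.omegaOneCenter p (Cfsg.pCoreOf p E), E⁆ ≤ Cfsg.omegaOneCenter p (Cfsg.pCore p G) ∧ ⁅⁅Cfsg.omegaOneCenter p (Cfsg.pCoreOf p E), E⁆, Cfsg.thompsonSubgroupOf p (T : Subgroup G)⁆ ≠ ⊥ := by
  classical
  obtain ⟨hIRR, hFAITH, hEW⟩ := CfsgLib.LocalEven.BlockModule.irred_and_faithful hE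
  have hS2983 := fun Q hQ hBQ hEQ => Cfsg.Agent.S2983.result hG T E hE Q hQ hBQ hEQ
  obtain ⟨hres, hEB, hQE, hEZT, -⟩ := hE
  set B := Cfsg.baumannSubgroupOf p (T : Subgroup G) with hB
  set J := Cfsg.thompsonSubgroupOf p (T : Subgroup G) with hJ
  set QE := Cfsg.pCoreOf p E with hQEdef
  set W := Cfsg.omegaOneCenter p QE with hW
  set Z := W ⊓ Subgroup.centralizer (E : Set G) with hZ
  set WE := ⁅W, E⁆ with hWE
  set Q := Cfsg.pCore p G with hQ
  have hBT : B ≤ (T : Subgroup G) := inf_le_left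
  have hJB : J ≤ B := by
    refine le_inf (CfsgLib.PLocal.thompsonSubgroupOf_le p _) ?_
    rw [Subgroup.le_centralizer_iff]
    exact (CfsgLib.PLocal.omegaOne_le p _).trans inf_le_right
  have hBE : B ≤ Subgroup.normalizer (E : Set G) := by
    intro b hb
    refine Subgroup.mem_normalizer_iff_map_conj_eq.2 (Subgroup.eq_of_le_of_card_ge ?_
      (Nat.card_congr (Subgroup.equivMapOfInjective E _ (MulAut.conj b).injective).toEquiv).le)
    rintro _ ⟨e, he, rfl⟩
    have h1 : ⁅b, e⁆ ∈ E := by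
      rw [← commutatorElement_inv]
      exact inv_mem (hEB.le (Subgroup.commutator_mem_commutator he hb))
    simpa [commutatorElement_def] using mul_mem h1 he
  have hQn : Q.Normal := inferInstance
  have hQp : IsPGroup p ↥Q := CfsgLib.Base.isPGroup_pCore p G
  have hnormQ : ∀ X : Subgroup G, X ≤ Subgroup.normalizer (Q : Set G) := fun X => by
    rw [Subgroup.normalizer_eq_top_iff.2 hQn]; exact le_top
  have hQNE : Q ≤ Subgroup.normalizer (E : Set G) := hS2983 Q hQp (hnormQ _) (hnormQ _)
  have hQEE : QE ≤ E := CfsgLib.LocalEven.pCoreOf_le p E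
  have hQEp : IsPGroup p ↥QE := CfsgLib.LocalEven.isPGroup_pCoreOf E
  have hEQE : E ≤ Subgroup.normalizer (QE : Set G) := CfsgLib.LocalEven.le_normalizer_pCoreOf p E
  -- generators of order prime to `p`
  have hgen : ∀ {S : Subgroup G}, (∀ e ∈ E, (orderOf e).Coprime p → e ∈ S) → E ≤ S := fun {S} h => by
    rw [← hres, Cfsg.pResidualOf, Subgroup.map_le_iff_le_comap, Cfsg.pResidual, Subgroup.closure_le]
    intro x hx
    exact h _ x.2 (by show (orderOf (x : G)).Coprime p; rw [Subgroup.orderOf_coe]; exact hx)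
  refine ⟨?_, ?_, ?_⟩
  · -- the residual of `E Q`
    refine le_antisymm ?_ (hgen fun e he hco => ⟨⟨e, Subgroup.mem_sup_left he⟩,
      Subgroup.subset_closure (by show (orderOf _).Coprime p; rwa [Subgroup.orderOf_mk]), rfl⟩)
    rw [Cfsg.pResidualOf, Subgroup.map_le_iff_le_comap, Cfsg.pResidual, Subgroup.closure_le]
    intro x hx
    haveI hEn : (E.subgroupOf (E ⊔ Q)).Normal :=
      Subgroup.normal_subgroupOf_of_le_normalizer (sup_le Subgroup.le_normalizer hQNE)
    have h2 : IsPGroup p (↥(E ⊔ Q) ⧸ E.subgroupOf (E ⊔ Q)) := by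
      intro y
      obtain ⟨⟨y, hy⟩, rfl⟩ := QuotientGroup.mk_surjective y
      obtain ⟨k, hk, j, hj, rfl⟩ : ∃ k ∈ E, ∃ j ∈ Q, k * j = y := by
        rw [← SetLike.mem_coe, Subgroup.coe_mul_of_right_le_normalizer_left E Q hQNE] at hy
        exact Set.mem_mul.1 hy
      obtain ⟨n, hn⟩ := hQp ⟨j, hj⟩
      refine ⟨n, ?_⟩
      have : (QuotientGroup.mk (⟨k * j, hy⟩ : ↥(E ⊔ Q)) : ↥(E ⊔ Q) ⧸ E.subgroupOf (E ⊔ Q)) =
          QuotientGroup.mk' _ ⟨k, Subgroup.mem_sup_left hk⟩ * QuotientGroup.mk' _ ⟨j, Subgroup.mem_sup_right hj⟩ := rfl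
      rw [this, show QuotientGroup.mk' (E.subgroupOf (E ⊔ Q)) ⟨k, Subgroup.mem_sup_left hk⟩ = 1 from
          (QuotientGroup.eq_one_iff _).2 hk, one_mul, ← map_pow]
      rw [show (⟨j, Subgroup.mem_sup_right hj⟩ : ↥(E ⊔ Q)) ^ p ^ n = 1 from
        Subtype.ext (by simpa using congrArg Subtype.val hn), map_one]
    exact Subgroup.mem_subgroupOf.1 ((QuotientGroup.eq_one_iff (N := E.subgroupOf (E ⊔ Q)) x).1
      (CfsgLib.Transfer.eq_one_of_coprime_orderOf h2
        (Nat.Coprime.coprime_dvd_left (orderOf_map_dvd (QuotientGroup.mk' (E.subgroupOf (E ⊔ Q))) x) hx)))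
  · -- `W_E` is central in `Q`
    have hQE' : ⁅Q, E⁆ ≤ QE := by
      refine le_trans ?_ (CfsgLib.LocalEven.le_pCoreOf (N := Q ⊓ E) inf_le_right
        ((le_inf (hnormQ E) Subgroup.le_normalizer).trans (CfsgLib.PLocal.normalizer_inf_le _ _))
        (hQp.to_le inf_le_left))
      rw [Subgroup.commutator_le]
      intro q hq e he
      refine ⟨?_, ?_⟩
      · have := mul_mem hq (hQn.conj_mem _ (inv_mem hq) e)
        show ⁅q, e⁆ ∈ Q
        rw [commutatorElement_def, show q * e * q⁻¹ * e⁻¹ = q * (e * q⁻¹ * e⁻¹) by group]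
        exact this
      · show ⁅q, e⁆ ∈ E
        rw [commutatorElement_def]
        exact mul_mem ((Subgroup.mem_normalizer_iff.1 (hQNE hq) e).1 he) (inv_mem he)
    have hQNQE : Q ≤ Subgroup.normalizer (QE : Set G) :=
      hQNE.trans fun q hq => CfsgLib.LocalEven.mem_normalizer_pCoreOf hq
    have hQW : Q ≤ Subgroup.normalizer (W : Set G) := fun q hq => by
      have h1 := Subgroup.mem_normalizer_iff_map_conj_eq.1 (hQNQE hq)
      refine Subgroup.mem_normalizer_iff_map_conj_eq.2 ?_
      rw [hW, Cfsg.omegaOneCenter, CfsgLib.PLocal.map_omegaOne (MulAut.conj q).injective,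
        CfsgLib.PLocal.map_inf_centralizer (MulAut.conj q).injective, h1]
    have hQC : Q ≤ Subgroup.normalizer ((Subgroup.centralizer (E : Set G)) : Set G) :=
      hQNE.trans (CfsgLib.LocalEven.normalizer_le_normalizer_centralizer _)
    have hQZ : Q ≤ Subgroup.normalizer (Z : Set G) :=
      (le_inf hQW hQC).trans (CfsgLib.PLocal.normalizer_inf_le _ _)
    have hWQE : W ≤ QE := (CfsgLib.PLocal.omegaOne_le p _).trans inf_le_left
    have hWp : IsPGroup p ↥W := hQEp.to_le hWQE
    -- `U = Z [W, Q]`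
    have hEZ : E ≤ Subgroup.normalizer (Z : Set G) := fun e he =>
      Subgroup.mem_normalizer_iff_map_conj_eq.2 (Subgroup.eq_of_le_of_card_ge (by
          rintro _ ⟨z, hz, rfl⟩
          show e * z * e⁻¹ ∈ Z
          rw [Subgroup.mem_centralizer_iff.1 hz.2 e he, mul_inv_cancel_right]; exact hz)
        (Nat.card_congr (Subgroup.equivMapOfInjective Z _ (MulAut.conj e).injective).toEquiv).le)
    have hEU : E ≤ Subgroup.normalizer ((Z ⊔ ⁅W, Q⁆ : Subgroup G) : Set G) := fun e he =>
      Subgroup.mem_normalizer_iff_map_conj_eq.2 (by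
        rw [Subgroup.map_sup, Subgroup.map_commutator, Subgroup.mem_normalizer_iff_map_conj_eq.1 (hEZ he),
          Subgroup.mem_normalizer_iff_map_conj_eq.1 (hEW he), Subgroup.mem_normalizer_iff_map_conj_eq.1 (hnormQ E he)])
    have hWQW : ⁅W, Q⁆ ≤ W := by
      rw [Subgroup.commutator_le]
      intro w hw q hq
      rw [commutatorElement_def, show w * q * w⁻¹ * q⁻¹ = w * (q * w⁻¹ * q⁻¹) by group]
      exact mul_mem hw ((Subgroup.mem_normalizer_iff.1 (hQW hq) _).1 (inv_mem hw))
    have hWQZ : ⁅W, Q⁆ ≤ Z := by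
      rcases hIRR (Z ⊔ ⁅W, Q⁆) le_sup_left (sup_le inf_le_left hWQW) hEU with h | h
      · exact h ▸ le_sup_right
      · haveI : Group.IsNilpotent ↥(W ⊔ Q) := (hWp.to_sup_of_normal_right hQp).isNilpotent
        have hn : W ⊔ Q ≤ Subgroup.normalizer (W : Set G) := sup_le Subgroup.le_normalizer hQW
        have hnZ : W ⊔ Q ≤ Subgroup.normalizer (Z : Set G) := sup_le (fun w hw =>
          Subgroup.mem_normalizer_iff_map_conj_eq.2 (Subgroup.eq_of_le_of_card_ge (by
              rintro _ ⟨z, hz, rfl⟩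
              show w * z * w⁻¹ ∈ Z
              have hz' : z ∈ QE ⊓ Subgroup.centralizer (QE : Set G) := (CfsgLib.PLocal.omegaOne_le p _) hz.1
              rw [Subgroup.mem_centralizer_iff.1 hz'.2 w (hWQE hw), mul_inv_cancel_right]; exact hz)
            (Nat.card_congr (Subgroup.equivMapOfInjective Z _ (MulAut.conj w).injective).toEquiv).le)) hQZ
        have := CfsgLib.LocalEven.Iter.le_of_le_sup_commutator (Q := W ⊔ Q) (V := W) (A := Z)
          le_sup_left hn inf_le_left hnZ
          (h.ge.trans (sup_le le_sup_left (le_sup_of_le_right (Subgroup.commutator_mono le_rfl le_sup_right))))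
        exact hWQW.trans this
    have hc : ⁅⁅W, E⁆, Q⁆ = ⊥ := by
      rw [Subgroup.commutator_comm W E]
      refine Subgroup.commutator_commutator_eq_bot_of_rotate ?_ ?_
      · refine le_bot_iff.1 ((Subgroup.commutator_mono hWQZ le_rfl).trans (le_of_eq ?_))
        rw [Subgroup.commutator_eq_bot_iff_le_centralizer]; exact inf_le_right
      · refine le_bot_iff.1 ((Subgroup.commutator_mono hQE' le_rfl).trans (le_of_eq ?_))
        rw [Subgroup.commutator_comm, Subgroup.commutator_eq_bot_iff_le_centralizer]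
        exact (CfsgLib.PLocal.omegaOne_le p _).trans inf_le_right
    rw [Subgroup.commutator_eq_bot_iff_le_centralizer] at hc
    intro x hx
    refine Subgroup.subset_closure ⟨⟨hG (hc hx), hc hx⟩, ?_⟩
    have hxW : x ∈ W := by
      refine (Subgroup.commutator_le.2 fun w hw e he => ?_) hx
      rw [commutatorElement_def, show w * e * w⁻¹ * e⁻¹ = w * (e * w⁻¹ * e⁻¹) by group]
      exact mul_mem hw ((Subgroup.mem_normalizer_iff.1 (hEW he) _).1 (inv_mem hw))
    exact (CfsgLib.PLocal.isElementaryAbelian_omegaOne (K := QE ⊓ Subgroup.centralizer (QE : Set G))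
      (fun a ha => Subgroup.centralizer_le inf_le_left ha.2)).2 x hxW
  · -- `J` moves `W_E`
    intro hJ0
    have hWQE : W ≤ QE := (CfsgLib.PLocal.omegaOne_le p _).trans inf_le_left
    have hWE_W : WE ≤ W := Subgroup.commutator_le.2 fun w hw e he => by
      rw [commutatorElement_def, show w * e * w⁻¹ * e⁻¹ = w * (e * w⁻¹ * e⁻¹) by group]
      exact mul_mem hw ((Subgroup.mem_normalizer_iff.1 (hEW he) _).1 (inv_mem hw))
    have hEne : ¬ E ≤ QE := by
      intro h
      apply hEZT
      have hE1 : E ≤ ⊥ := hgen fun e he hco => by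
        obtain ⟨n, hn⟩ := hQEp ⟨e, h he⟩
        have hd : orderOf e ∣ p ^ n := orderOf_dvd_of_pow_eq_one (congrArg Subtype.val hn)
        rw [Subgroup.mem_bot, ← orderOf_eq_one_iff]
        exact Nat.eq_one_of_dvd_coprimes (hco.pow_right n) dvd_rfl hd
      rw [le_bot_iff.1 hE1, Subgroup.commutator_bot_left]
    have hEU : E ≤ Subgroup.normalizer ((Z ⊔ WE : Subgroup G) : Set G) := fun e he =>
      Subgroup.mem_normalizer_iff_map_conj_eq.2 (by
        have hZe : Z.map ((MulAut.conj e : G ≃* G) : G →* G) = Z :=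
          Subgroup.eq_of_le_of_card_ge (by
            rintro _ ⟨z, hz, rfl⟩
            show e * z * e⁻¹ ∈ Z
            rw [Subgroup.mem_centralizer_iff.1 hz.2 e he, mul_inv_cancel_right]; exact hz)
            (Nat.card_congr (Subgroup.equivMapOfInjective Z _ (MulAut.conj e).injective).toEquiv).le
        rw [Subgroup.map_sup, Subgroup.map_commutator, hZe, Subgroup.mem_normalizer_iff_map_conj_eq.1 (hEW he),
          Subgroup.mem_normalizer_iff_map_conj_eq.1 (Subgroup.le_normalizer he)])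
    have hWsup : W ≤ Z ⊔ WE := by
      rcases hIRR (Z ⊔ WE) le_sup_left (sup_le inf_le_left hWE_W) hEU with h | h
      · refine absurd (fun e he => hFAITH e he fun w hw => h.le (Subgroup.mem_sup_right ?_)) hEne
        have := inv_mem (Subgroup.commutator_mem_commutator hw he)
        rwa [commutatorElement_inv, commutatorElement_def] at this
      · exact h.ge
    -- the kernel on `W_E`
    have hK : ∀ e ∈ E, e ∈ Subgroup.centralizer (WE : Set G) → e ∈ QE := fun e he hc =>
      hFAITH e he fun w hw => by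
        have hsup : Z ⊔ WE ≤ Subgroup.centralizer {e} := sup_le
          (fun z hz => Subgroup.mem_centralizer_singleton_iff.2 (Subgroup.mem_centralizer_iff.1 hz.2 e he).symm)
          (fun z hz => Subgroup.mem_centralizer_singleton_iff.2 (Subgroup.mem_centralizer_iff.1 hc z hz))
        have := Subgroup.mem_centralizer_singleton_iff.1 (hsup (hWsup hw))
        rw [← this, show w * e * e⁻¹ * w⁻¹ = 1 by group]
        exact one_mem _
    have hJE : ⁅E, J⁆ ≤ QE := by
      intro x hx
      refine hK x ((Subgroup.commutator_mono le_rfl hJB).trans hEB.le hx) ?_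
      refine Subgroup.commutator_eq_bot_iff_le_centralizer.1 ?_ hx
      refine Subgroup.commutator_commutator_eq_bot_of_rotate (H₁ := E) (H₂ := J) (H₃ := WE) ?_ ?_
      · rw [Subgroup.commutator_comm J WE, hJ0, Subgroup.commutator_bot_left]
      · refine le_bot_iff.1 ((Subgroup.commutator_mono ?_ le_rfl).trans hJ0.le)
        rw [Subgroup.commutator_le]
        intro w hw e he
        have hew : e * w⁻¹ * e⁻¹ ∈ WE := (Subgroup.mem_normalizer_iff.1
          (show e ∈ Subgroup.normalizer (WE : Set G) from Subgroup.mem_normalizer_iff_map_conj_eq.2 (by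
            rw [Subgroup.map_commutator, Subgroup.mem_normalizer_iff_map_conj_eq.1 (hEW he),
              Subgroup.mem_normalizer_iff_map_conj_eq.1 (Subgroup.le_normalizer he)])) _).1 (inv_mem hw)
        rw [commutatorElement_def, show w * e * w⁻¹ * e⁻¹ = w * (e * w⁻¹ * e⁻¹) by group]
        exact mul_mem hw hew
    have hJQE : J ≤ Subgroup.normalizer (QE : Set G) :=
      (hJB.trans hBE).trans fun x hx => CfsgLib.LocalEven.mem_normalizer_pCoreOf hx
    have hRp : IsPGroup p ↥(QE ⊔ J) := hQEp.to_sup_of_normal_left' (T.2.to_le (hJB.trans hBT)) hJQE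
    -- `J` is the Thompson subgroup of `Q_E J`
    have hJR : Cfsg.thompsonSubgroupOf p (QE ⊔ J) = J := by
      obtain ⟨T', hT'⟩ := hRp.exists_le_sylow
      obtain ⟨g, hg⟩ := MulAction.exists_smul_eq G T T'
      have hgT : ((T : Subgroup G).map (MulAut.conj g).toMonoidHom) = (T' : Subgroup G) := by
        rw [CfsgLib.Base.map_conj_eq_smul, ← hg, Sylow.coe_subgroup_smul]
      have hJ' : Cfsg.thompsonSubgroupOf p (T' : Subgroup G) = J := by
        refine (Subgroup.eq_of_le_of_card_ge ?_ ?_).symm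
        · rw [hJ, CfsgLib.PLocal.thompsonSubgroupOf_eq_sSup p (T : Subgroup G)]
          refine sSup_le fun A hA => CfsgLib.PLocal.le_thompsonSubgroupOf ⟨?_, hA.2.1, fun C _ hCe =>
            (CfsgLib.PLocal.mem_max_of_mem_maxEAOf_sylow T hA).2 C hCe⟩
          exact ((CfsgLib.PLocal.le_thompsonSubgroupOf hA).trans le_sup_right).trans hT'
        · rw [← hgT, ← CfsgLib.PLocal.map_thompsonSubgroupOf (MulAut.conj g).injective]
          exact (Nat.card_congr (Subgroup.equivMapOfInjective _ _ (MulAut.conj g).injective).toEquiv).ge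
      rw [CfsgLib.PLocal.thompsonSubgroupOf_eq_of_le (hJ'.le.trans le_sup_right) hT', hJ']
    have hEJ : E ≤ Subgroup.normalizer (J : Set G) := by
      refine le_trans ?_ (hJR ▸ CfsgLib.Transfer.normalizer_le_normalizer_thompsonSubgroupOf (p := p) (QE ⊔ J))
      intro e he
      refine Subgroup.mem_normalizer_iff_map_conj_eq.2 (Subgroup.eq_of_le_of_card_ge ?_
        (Nat.card_congr (Subgroup.equivMapOfInjective _ _ (MulAut.conj e).injective).toEquiv).le)
      rw [Subgroup.map_sup, Subgroup.mem_normalizer_iff_map_conj_eq.1 (hEQE he)]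
      refine sup_le le_sup_left ?_
      rintro _ ⟨j, hj, rfl⟩
      show e * j * e⁻¹ ∈ QE ⊔ J
      rw [show e * j * e⁻¹ = ⁅e, j⁆ * j by rw [commutatorElement_def]; group]
      exact mul_mem (Subgroup.mem_sup_left (hJE (Subgroup.commutator_mem_commutator he hj))) (Subgroup.mem_sup_right hj)
    set Z₁ := Cfsg.omegaOne p (Cfsg.centerThompsonOf p (T : Subgroup G)) with hZ₁
    have hEZ₁ : E ≤ Subgroup.normalizer (Z₁ : Set G) := fun e he =>
      Subgroup.mem_normalizer_iff_map_conj_eq.2 (by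
        rw [hZ₁, CfsgLib.PLocal.map_omegaOne (MulAut.conj e).injective, Cfsg.centerThompsonOf,
          CfsgLib.PLocal.map_inf_centralizer (MulAut.conj e).injective, ← hJ,
          Subgroup.mem_normalizer_iff_map_conj_eq.1 (hEJ he)])
    have hBZ₁ : ⁅B, Z₁⁆ = ⊥ := Subgroup.commutator_eq_bot_iff_le_centralizer.2 inf_le_right
    have hkill : ⁅E, Z₁⁆ = ⊥ := by
      rw [← hEB]
      refine Subgroup.commutator_commutator_eq_bot_of_rotate (H₁ := E) (H₂ := B) (H₃ := Z₁) ?_ ?_
      · rw [hBZ₁, Subgroup.commutator_bot_left]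
      · refine le_bot_iff.1 ((Subgroup.commutator_mono ?_ le_rfl).trans
          ((Subgroup.commutator_comm Z₁ B).trans hBZ₁).le)
        rw [Subgroup.commutator_le]
        intro z hz e he
        rw [commutatorElement_def, show z * e * z⁻¹ * e⁻¹ = z * (e * z⁻¹ * e⁻¹) by group]
        exact mul_mem hz ((Subgroup.mem_normalizer_iff.1 (hEZ₁ he) _).1 (inv_mem hz))
    apply hEZT
    refine le_bot_iff.1 ((Subgroup.commutator_mono le_rfl ?_).trans hkill.le)
    refine (Subgroup.closure_le _).2 fun x hx => Subgroup.subset_closure ⟨⟨?_, ?_⟩, hx.2⟩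
    · obtain ⟨A, hA⟩ := CfsgLib.PLocal.maxEAOf_nonempty p (T : Subgroup G)
      exact CfsgLib.PLocal.le_thompsonSubgroupOf hA (CfsgLib.PLocal.omegaOne_center_le hA (Subgroup.subset_closure hx))
    · exact Subgroup.centralizer_le (CfsgLib.PLocal.thompsonSubgroupOf_le p _) hx.1.2

end Cfsg.Agent.S2984
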