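import Cfsg.Statements.S2985
import Cfsg.Agent.Lib.LocalEven.Baumann.ExcSplit

set_option autoImplicit false
open Cfsg

namespace Cfsg.Agent.S2985

/-- Let G be a finite group of characteristic p (C_G(O_p(G)) ≤ O_p(G)), T a Sylow p-subgroup and E a B(T)-block of G, with W_E = [Ω₁(Z(O_p(E))), E]. Then E is normalized by C_G(W_E); that is, E is a normal subgroup of E·C_G(W_E). -/
theorem result {G : Type*} [Group G] [Finite G] {p : ℕ} [Fact p.Prime] (hG : Subgroup.centralizer (Cfsg.pCore p G : Set G) ≤ Cfsg.pCore p G) (T : Sylow p G) (E : Subgroup G) (hE : Cfsg.IsBaumannBlock p (T : Subgroup G) E) : Subgroup.centralizer ((⁅Cfsg.omegaOneCenter p (Cfsg.pCoreOf p E), E⁆ : Subgroup G) : Set G) ≤ Subgroup.normalizer (E : Set G) := by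
  open Subgroup CfsgLib.LocalEven CfsgLib.LocalEven.Baumann in
  have easy : QE p E = WW p E → centralizer (WE p E : Set G) ≤ normalizer (E : Set G) := fun hQ =>
    centralizer_we_le_of_oo hG hE fun o ho e he => (qe_eq_we hG hE hQ).le (oo_commutator_le hG hE ho he)
  open Subgroup CfsgLib.LocalEven CfsgLib.LocalEven.Baumann in
  rcases hE.2.2.2.2 with ⟨F, fF, fin, n, hcard, eq, hact, hQ⟩ | ⟨-, m, -, -, hQ⟩
  · rcases hQ with hQ | ⟨hp3, htop, hcomm, -, hcen, hZ, hquad⟩
    · exact easy hQ
    subst hp3
    letI := fF; letI := fin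
    have hn : 0 < n := by
      rcases Nat.eq_zero_or_pos n with rfl | h
      · rw [pow_zero] at hcard
        exact absurd hcard (by have := Fintype.one_lt_card (α := F); omega)
      · exact h
    haveI : CharP F 3 := CfsgLib.LocalEven.Natural.charP_of_card (p := 3) hcard
    have hnZ : E ≤ normalizer (ZZ 3 E : Set G) := fun e he => mem_normalizer_ZZ (le_normalizer he)
    obtain ⟨Db⟩ := exists_natSec hact hnZ eq fun q hq u hu => by
      rw [← ww_commute hu hq, mul_inv_cancel_right, mul_inv_cancel]; exact one_mem _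
    obtain ⟨Dt⟩ := exists_natSec htop (fun e he => mem_normalizer_WW (le_normalizer he)) eq fun q hq u hu => by
      refine zz_le_ww E (hcomm.le ?_)
      rw [← commutatorElement_def]
      exact commutator_mem_commutator hq hu
    let X : ExcData T E F := ⟨n, hn, hcard, hG, hE, Db, Dt, hcomm, hcen, by rw [← hZ, hcen], hquad⟩
    rcases X.oo_or_qe_le with h | h
    · exact centralizer_we_le_of_oo hG hE h
    · exact ExcCore.centralizer_we_le (⟨X, h⟩ : ExcCore T E F)
  · exact easy hQ

end Cfsg.Agent.S2985
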