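import Cfsg.Statements.S3008
import Cfsg.Agent.Lib.LocalEven.CDNormal
-- import your own Cfsg.Agent.* helpers here

set_option autoImplicit false
open Cfsg

namespace Cfsg.Agent.S3008

/-- Let P be a finite p-group, with J(P) generated by its abelian subgroups of largest order and J̃(P) = C_P(Z(J(P))); call R ≤ P centrally large if |R|·|Z(R)| is as large as possible, and let P_MCL be generated by the minimal centrally large subgroups. Then: for every centrally large Q, Q·J(P) ⊇ J̃(P); some minimal centrally large subgroup of P is normalized by both J(P) and P_MCL; if P = J(P) and d(P)² = |P|·|Z(P)|, where d(P) is the largest order of an abelian subgroup, then every minimal centrally large subgroup of P is abelian; and if every minimal centrally large subgroup is abelian then J̃(P) = J(P). -/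
theorem result {p : ℕ} [Fact p.Prime] (P : Type*) [Group P] [Finite P] (hP : IsPGroup p P) : (∀ Q : Subgroup P, Cfsg.IsCentrallyLarge Q → Subgroup.centralizer ((Cfsg.thompsonSubgroupA P ⊓ Subgroup.centralizer (Cfsg.thompsonSubgroupA P : Set P) : Subgroup P) : Set P) ≤ Q ⊔ Cfsg.thompsonSubgroupA P) ∧ (∃ Q : Subgroup P, Cfsg.IsMinimalCentrallyLarge Q ∧ Cfsg.thompsonSubgroupA P ≤ Subgroup.normalizer (Q : Set P) ∧ Cfsg.minimalCentrallyLargeJoin P ≤ Subgroup.normalizer (Q : Set P)) ∧ (Cfsg.thompsonSubgroupA P = ⊤ → (∀ A ∈ Cfsg.maxAbelianSubgroups P, Nat.card ↥A ^ 2 = Nat.card P * Nat.card ↥(Subgroup.center P)) → ∀ Q : Subgroup P, Cfsg.IsMinimalCentrallyLarge Q → IsMulCommutative ↥Q) ∧ ((∀ Q : Subgroup P, Cfsg.IsMinimalCentrallyLarge Q → IsMulCommutative ↥Q) → Subgroup.centralizer ((Cfsg.thompsonSubgroupA P ⊓ Subgroup.centralizer (Cfsg.thompsonSubgroupA P : Set P) : Subgroup P) : Set P) = Cfsg.thompsonSubgroupA P) := by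
  refine ⟨fun Q hQ => CfsgLib.LocalEven.CD.jTilde_le
      (CfsgLib.LocalEven.CD.cl_sup_sSup_maxAb hQ fun A h => h) le_sup_right, ?_, ?_, ?_⟩
  · haveI : Group.IsNilpotent P := hP.isNilpotent
    exact CfsgLib.LocalEven.CD.exists_normal_mcl
  · intro hJ hsq Q hQ
    obtain ⟨A, hA⟩ := CfsgLib.LocalEven.CD.maxAb_nonempty (G := P)
    have hcl : Cfsg.IsCentrallyLarge (⊤ : Subgroup P) := by
      have h := CfsgLib.LocalEven.CD.cl_sup_sSup_maxAb hQ.1 (s := Cfsg.maxAbelianSubgroups P)
        fun A h => h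
      rwa [show sSup (Cfsg.maxAbelianSubgroups P) = ⊤ from hJ, sup_top_eq] at h
    have hAcl : Cfsg.IsCentrallyLarge A := by
      refine CfsgLib.LocalEven.CD.cl_iff.2 ⟨?_, (CfsgLib.LocalEven.CD.cen_maxAb hA).le⟩
      change Nat.card A * Nat.card (CfsgLib.LocalEven.CD.cen A) = _
      have h : Nat.card (⊤ : Subgroup P) * Nat.card (CfsgLib.LocalEven.CD.cen (⊤ : Subgroup P)) =
        Cfsg.maxCentralizerProduct P := CfsgLib.LocalEven.CD.cl_large hcl
      rw [CfsgLib.LocalEven.CD.cen_maxAb hA, ← h, ← sq, hsq A hA, Subgroup.card_top,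
        CfsgLib.LocalEven.CD.cen, Subgroup.coe_top, Subgroup.centralizer_univ]
    obtain ⟨R, hRA, hR⟩ := CfsgLib.LocalEven.CD.exists_mcl_le hAcl
    have hRab : IsMulCommutative R := Subgroup.le_centralizer_iff_isMulCommutative.1
      ((hRA.trans (CfsgLib.LocalEven.CD.maxAb_isComm hA)).trans (CfsgLib.LocalEven.CD.cen_anti hRA))
    exact ((CfsgLib.LocalEven.CD.mcl_of_abelian hR hRab Q).1 hQ).1
  · intro hall
    obtain ⟨Q, hQ⟩ := CfsgLib.LocalEven.CD.exists_mcl (G := P)
    have he : Cfsg.minimalCentrallyLargeJoin P = Cfsg.thompsonSubgroupA P :=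
      congrArg sSup (Set.ext fun X => CfsgLib.LocalEven.CD.mcl_of_abelian hQ (hall Q hQ) X)
    have hJ : Cfsg.IsCentrallyLarge (Cfsg.thompsonSubgroupA P) :=
      he ▸ CfsgLib.LocalEven.CD.cl_minimalJoin
    rw [inf_eq_right.2 (CfsgLib.LocalEven.CD.cen_thompsonA_le (G := P))]
    exact (CfsgLib.LocalEven.CD.large_cen (CfsgLib.LocalEven.CD.cl_large hJ)).2

end Cfsg.Agent.S3008
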