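import Cfsg.Statements.S3025
import Cfsg.Agent.Lib.PGroups.UniqueOrderP
import Cfsg.Agent.Lib.Base.Transport
-- import your own Cfsg.Agent.* helpers here

set_option autoImplicit false
open Cfsg

namespace Cfsg.Agent.S3025

/-- Let F be a finite group and H a nontrivial subgroup of F that is contained in every nontrivial subgroup of F which H normalizes. Then F has a nontrivial normal subgroup N contained in every nontrivial normal subgroup of F (a unique minimal normal subgroup), N is simple, and one of the following holds: C_F(N) = 1; or H = N has prime order p, C_F(N) is cyclic of order a power of p, and F/C_F(N) is cyclic of order dividing p − 1; or H = N has order 2, N is central in F, and F is a generalized quaternion group. -/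
theorem result {F : Type*} [Group F] [Finite F] (H : Subgroup F) (hH : H ≠ ⊥)
    (hmin : ∀ R : Subgroup F, R ≠ ⊥ → H ≤ Subgroup.normalizer (R : Set F) → H ≤ R) :
    ∃ N : Subgroup F, N.Normal ∧ N ≠ ⊥ ∧ (∀ M : Subgroup F, M.Normal → M ≠ ⊥ → N ≤ M) ∧ IsSimpleGroup ↥N ∧
      (Subgroup.centralizer (N : Set F) = ⊥ ∨
       (H = N ∧ (Nat.card N).Prime ∧ IsCyclic ↥(Subgroup.centralizer (N : Set F)) ∧
          (∃ k : ℕ, 1 ≤ k ∧ Nat.card ↥(Subgroup.centralizer (N : Set F)) = Nat.card N ^ k) ∧
          (∃ g : F, Subgroup.centralizer (N : Set F) ⊔ Subgroup.zpowers g = ⊤) ∧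
          (Subgroup.centralizer (N : Set F)).index ∣ Nat.card N - 1) ∨
       (H = N ∧ Nat.card N = 2 ∧ Subgroup.centralizer (N : Set F) = ⊤ ∧
          ∃ k : ℕ, 1 ≤ k ∧ Nonempty (F ≃* QuaternionGroup (2 ^ k)))) := by
  classical
  set N := Subgroup.normalClosure (H : Set F) with hN
  have hHN : H ≤ N := Subgroup.le_normalClosure
  have hNne : N ≠ ⊥ := fun h => hH (le_bot_iff.1 (hHN.trans h.le))
  have hNmin : ∀ M : Subgroup F, M.Normal → M ≠ ⊥ → N ≤ M := fun M hM hM1 => by
    haveI := hM
    exact Subgroup.normalClosure_le_normal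
      (hmin M hM1 (le_top.trans (Subgroup.normalizer_eq_top_iff.2 hM).ge))
  have hsimp : IsSimpleGroup ↥N := by
    haveI : Nontrivial ↥N := (Subgroup.nontrivial_iff_ne_bot N).2 hNne
    refine { eq_bot_or_eq_top_of_normal := fun R hR => ?_ }
    by_contra hcon
    rw [not_or] at hcon
    set RF := R.map N.subtype with hRF
    have hall : ∀ g : F, H ≤ RF.map (MulAut.conj g).toMonoidHom := by
      intro g
      refine hmin _ ?_ ?_
      · rw [Ne, Subgroup.map_eq_bot_iff_of_injective _ (MulAut.conj g).injective, hRF,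
          Subgroup.map_eq_bot_iff_of_injective _ N.subtype_injective]
        exact hcon.1
      · have h1 : N ≤ Subgroup.normalizer (RF : Set F) := by
          have := Subgroup.le_normalizer_map (H := R) N.subtype
          rwa [Subgroup.normalizer_eq_top_iff.2 hR, ← MonoidHom.range_eq_map,
            Subgroup.range_subtype] at this
        intro h hh
        have hg : g⁻¹ * h * g ∈ N := by
          have := (inferInstance : (Subgroup.normalClosure (H : Set F)).Normal).conj_mem h (hHN hh) g⁻¹
          simpa [hN] using this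
        have := CfsgLib.Base.map_conj_eq_self_iff.2 (h1 hg)
        refine CfsgLib.Base.map_conj_eq_self_iff.1 ?_
        conv_rhs => rw [← this]
        rw [Subgroup.map_map, Subgroup.map_map, show ((MulAut.conj h).toMonoidHom.comp
          (MulAut.conj g).toMonoidHom) = (MulAut.conj g).toMonoidHom.comp
            (MulAut.conj (g⁻¹ * h * g)).toMonoidHom from by ext y; simp [mul_assoc]]
        rw [hRF, Subgroup.map_map, Subgroup.map_map, MonoidHom.comp_assoc]
    have hcore : H ≤ RF.normalCore := by
      intro h hh g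
      obtain ⟨y, hy, hyh⟩ := Subgroup.mem_map.1 (hall g⁻¹ hh)
      have : y = g * h * g⁻¹ := by
        rw [← hyh]; simp [mul_assoc]
      rw [← this]; exact hy
    have hle : N ≤ RF := (hNmin _ inferInstance (fun h => hH (le_bot_iff.1 (hcore.trans h.le)))).trans
      (Subgroup.normalCore_le RF)
    refine hcon.2 (top_le_iff.1 fun y _ => ?_)
    obtain ⟨w, hw, hwy⟩ := Subgroup.mem_map.1 (hle y.2)
    exact Subtype.ext hwy ▸ hw
  refine ⟨N, inferInstance, hNne, hNmin, hsimp, ?_⟩
  set C := Subgroup.centralizer (N : Set F) with hC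
  by_cases hC1 : C = ⊥
  · exact Or.inl hC1
  right
  have hCn : C.Normal := by rw [hC]; infer_instance
  have hNC : N ≤ C := hNmin C hCn hC1
  haveI hNab : IsMulCommutative ↥N :=
    ⟨⟨fun a b => Subtype.ext (Subgroup.mem_centralizer_iff.1 (hNC b.2) a a.2)⟩⟩
  letI : CommGroup ↥N := { (inferInstance : Group ↥N) with mul_comm := hNab.is_comm.comm }
  haveI := hsimp
  have hp : (Nat.card ↥N).Prime := IsSimpleGroup.prime_card
  haveI := Fact.mk hp
  set p := Nat.card ↥N with hpdef
  have hHN' : H = N := by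
    refine Subgroup.eq_of_le_of_card_ge hHN ?_
    rcases hp.eq_one_or_self_of_dvd _ (Subgroup.card_dvd_of_le hHN) with h | h
    · exact absurd (Subgroup.card_eq_one.1 h) hH
    · exact h.ge
  have hsub : ∀ R : Subgroup F, R ≤ C → R ≠ ⊥ → N ≤ R := fun R hRC hR1 => by
    refine hHN'.ge.trans (hmin R hR1 ?_)
    refine le_trans ?_ (Subgroup.centralizer_le_normalizer _)
    exact Subgroup.le_centralizer_iff.1 (hRC.trans (Subgroup.centralizer_le (hHN'.le)))
  obtain ⟨z, hz⟩ := (isCyclic_of_prime_card (α := ↥N) rfl).exists_generator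
  have hCp : IsPGroup p ↥C := by
    refine IsPGroup.of_card (Nat.eq_prime_pow_of_unique_prime_dvd (n := Nat.card C) (p := p)
      Nat.card_pos.ne' fun {d} hd hdd => ?_)
    haveI := Fact.mk hd
    obtain ⟨y, hy⟩ := exists_prime_orderOf_dvd_card' d hdd
    have h1 : N ≤ Subgroup.zpowers (y : F) := hsub _ (Subgroup.zpowers_le.2 y.2) (by
      rw [Ne, Subgroup.zpowers_eq_bot, ← orderOf_eq_one_iff, Subgroup.orderOf_coe, hy]
      exact hd.ne_one)
    have h2 := Subgroup.card_dvd_of_le h1
    rw [Nat.card_zpowers, Subgroup.orderOf_coe, hy, ← hpdef] at h2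
    exact ((Nat.prime_dvd_prime_iff_eq hp hd).1 h2).symm
  have huniq : ∀ y : ↥C, y ^ p = 1 → y ∈ Subgroup.zpowers (⟨(z : F), hNC z.2⟩ : ↥C) := by
    intro y hy
    by_cases hy1 : y = 1
    · rw [hy1]; exact one_mem _
    have hyne : Subgroup.zpowers (y : F) ≠ ⊥ := by
      rw [Ne, Subgroup.zpowers_eq_bot]; exact fun h => hy1 (Subtype.ext h)
    have h1 : N ≤ Subgroup.zpowers (y : F) := hsub _ (Subgroup.zpowers_le.2 y.2) hyne
    have h2 : Nat.card ↥(Subgroup.zpowers (y : F)) ≤ p := by
      rw [Nat.card_zpowers, Subgroup.orderOf_coe]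
      exact orderOf_le_of_pow_eq_one hp.pos hy
    have h3 : N = Subgroup.zpowers (y : F) := Subgroup.eq_of_le_of_card_ge h1 h2
    have hyN : (y : F) ∈ N := h3 ▸ Subgroup.mem_zpowers _
    obtain ⟨i, hi⟩ := Subgroup.mem_zpowers_iff.1 (hz ⟨y, hyN⟩)
    exact Subgroup.mem_zpowers_iff.2 ⟨i, Subtype.ext (by simpa using congrArg Subtype.val hi)⟩
  have hzp : (⟨(z : F), hNC z.2⟩ : ↥C) ^ p = 1 :=
    Subtype.ext ((SubmonoidClass.coe_pow z p).symm.trans (congrArg Subtype.val (pow_card_eq_one' (x := z))))
  rcases CfsgLib.PGroups.isCyclic_or_quaternion_of_unique hCp hzp huniq with hcyc | ⟨hp2, n, hn, ⟨e⟩⟩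
  · refine Or.inl ⟨hHN', hp, hcyc, ?_, ?_⟩
    · obtain ⟨k, hk⟩ := IsPGroup.iff_card.1 hCp
      refine ⟨k, Nat.pos_of_ne_zero fun h0 => hC1 ?_, hk⟩
      rw [h0, pow_zero] at hk
      exact Subgroup.card_eq_one.1 hk
    · let φ : F →* MulAut ↥N := MulAut.conjNormal
      have hker : φ.ker = C := by
        ext g
        rw [MonoidHom.mem_ker, hC, Subgroup.mem_centralizer_iff]
        constructor
        · intro h y hy
          have := congrArg Subtype.val (DFunLike.congr_fun h ⟨y, hy⟩)
          rw [MulAut.one_apply] at this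
          change g * y * g⁻¹ = y at this
          rw [mul_inv_eq_iff_eq_mul] at this
          exact this.symm
        · intro h
          refine MulEquiv.ext fun y => Subtype.ext ?_
          change g * (y : F) * g⁻¹ = y
          rw [← h y y.2, mul_inv_cancel_right]
      have e1 : MulAut ↥N ≃* (ZMod p)ˣ := IsCyclic.mulAutMulEquiv ↥N
      haveI : IsCyclic (MulAut ↥N) := isCyclic_of_surjective e1.symm.toMonoidHom e1.symm.surjective
      haveI : IsCyclic ↥φ.range := Subgroup.isCyclic _
      obtain ⟨⟨_, g, rfl⟩, hg⟩ := IsCyclic.exists_generator (α := ↥φ.range)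
      refine ⟨⟨g, top_le_iff.1 fun x _ => ?_⟩, ?_⟩
      · obtain ⟨i, hi⟩ := Subgroup.mem_zpowers_iff.1 (hg ⟨φ x, x, rfl⟩)
        have hi' : φ (g ^ i) = φ x := by
          rw [map_zpow]; simpa using congrArg Subtype.val hi
        have hc : x * (g ^ i)⁻¹ ∈ C := by
          rw [← hker, MonoidHom.mem_ker, map_mul, map_inv, hi', mul_inv_cancel]
        have := Subgroup.mul_mem_sup (S := C) (T := Subgroup.zpowers g) hc ⟨i, rfl⟩
        simpa using this
      · rw [← hker, Subgroup.index_ker]
        refine (Subgroup.card_subgroup_dvd_card φ.range).trans ?_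
        rw [Nat.card_congr e1.toEquiv, Nat.card_eq_fintype_card, ZMod.card_units]
  · have hCt : C = ⊤ := by
      refine top_le_iff.1 fun g _ => Subgroup.mem_centralizer_iff.2 fun y hy => ?_
      by_cases hy1 : y = 1
      · rw [hy1]; simp
      have hgy : g * y * g⁻¹ ∈ N := (inferInstance : (Subgroup.normalClosure (H : Set F)).Normal).conj_mem y hy g
      have h2 : ∀ a b : ↥N, a ≠ 1 → b ≠ 1 → a = b := by
        intro a b ha hb
        have hc : Nat.card ↥N = 2 := hp2
        obtain ⟨u, v, huv, huniv⟩ := Nat.card_eq_two_iff.1 hc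
        have hmem : ∀ w : ↥N, w = u ∨ w = v := fun w => by
          have : w ∈ ({u, v} : Set ↥N) := huniv ▸ Set.mem_univ w
          simpa using this
        rcases hmem a with rfl | rfl <;> rcases hmem b with rfl | rfl <;> rcases hmem 1 with h | h
        all_goals first | rfl | (exact absurd h.symm ha) | (exact absurd h.symm hb)
      have := congrArg Subtype.val (h2 ⟨g * y * g⁻¹, hgy⟩ ⟨y, hy⟩
        (fun h => hy1 (conj_eq_one_iff.1 (congrArg Subtype.val h)))
        (fun h => hy1 (congrArg Subtype.val h)))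
      rw [mul_inv_eq_iff_eq_mul] at this
      exact this.symm
    exact Or.inr ⟨hHN', hp2, hCt, n, hn,
      ⟨((MulEquiv.subgroupCongr hCt).trans Subgroup.topEquiv).symm.trans e⟩⟩

end Cfsg.Agent.S3025
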