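import Cfsg.Statements.S3037
import Cfsg.Agent.Lib.LocalEven.ChermakDelgado
-- import your own Cfsg.Agent.* helpers here

set_option autoImplicit false
open Cfsg

namespace Cfsg.Agent.S3037

/-- Let V and G be subgroups of a finite group with V an elementary abelian p-group (p prime) on which G acts faithfully and irreducibly by conjugation: G normalizes V, G ∩ C(V) = 1, and the only subgroups of V normalized by G are 1 and V. If for some nontrivial subgroup A of G and some real α > 0 one has |V| ≤ |A|^α · |C_V(A)|, then |V| ≤ |G|^α. -/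
theorem result {X : Type*} [Group X] [Finite X] {p : ℕ} [Fact p.Prime] (V G : Subgroup X) (hV : Cfsg.IsElementaryAbelian p V)
    (hGV : G ≤ Subgroup.normalizer (V : Set X)) (hfaith : G ⊓ Subgroup.centralizer (V : Set X) = ⊥)
    (hirr : ∀ W : Subgroup X, W ≤ V → G ≤ Subgroup.normalizer (W : Set X) → W = ⊥ ∨ W = V)
    (A : Subgroup X) (hA : A ≤ G) (hA1 : A ≠ ⊥) (α : ℝ) (hα : 0 < α)
    (hbig : (Nat.card V : ℝ) ≤ (Nat.card A : ℝ) ^ α * (Nat.card ↥(V ⊓ Subgroup.centralizer (A : Set X)) : ℝ)) :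
    (Nat.card V : ℝ) ≤ (Nat.card G : ℝ) ^ α := by
  classical
  have hVabel := hV.1
  let f : Subgroup X → ℝ := fun B =>
    (Nat.card B : ℝ) ^ α * (Nat.card ↥(V ⊓ Subgroup.centralizer (B : Set X)) : ℝ)
  obtain ⟨B₀, hB₀, hmax⟩ := Set.Finite.exists_maximalFor f {B : Subgroup X | B ≤ G}
    (Set.toFinite _) ⟨A, hA⟩
  have hmax' : ∀ B ≤ G, f B ≤ f B₀ := fun B hB => (le_total (f B) (f B₀)).elim id (hmax hB)
  have hf1 : f ⊥ = (Nat.card V : ℝ) := by
    simp only [f]
    rw [Subgroup.card_bot, Nat.cast_one, Real.one_rpow, one_mul]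
    rw [Subgroup.centralizer_eq_top_iff_subset.2 (by simp), inf_top_eq]
  obtain ⟨M₀, hM₀G, hM₀1, hM₀⟩ : ∃ M₀, M₀ ≤ G ∧ M₀ ≠ ⊥ ∧ f B₀ ≤ f M₀ := by
    by_cases h : B₀ = ⊥
    · exact ⟨A, hA, hA1, by rw [h, hf1]; exact hbig⟩
    · exact ⟨B₀, hB₀, h, le_rfl⟩
  obtain ⟨M, ⟨hMG, hMle, hMf⟩, hMmax⟩ := Set.Finite.exists_maximal
    (Set.toFinite {M : Subgroup X | M ≤ G ∧ M₀ ≤ M ∧ f B₀ ≤ f M}) ⟨M₀, hM₀G, le_rfl, hM₀⟩
  have hM1 : M ≠ ⊥ := fun h => hM₀1 (le_bot_iff.1 (h ▸ hMle))
  have hconjG : ∀ g ∈ G, M.map (MulAut.conj g).toMonoidHom = M := by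
    intro g hg
    set N := M.map (MulAut.conj g).toMonoidHom with hN
    have hNG : N ≤ G := by
      rintro _ ⟨x, hx, rfl⟩
      exact mul_mem (mul_mem hg (hMG hx)) (inv_mem hg)
    have hfN : f N = f M := by
      have hVg : V.map (MulAut.conj g).toMonoidHom = V :=
        Subgroup.mem_normalizer_iff_map_conj_eq.1 (hGV hg)
      have h2 : V ⊓ Subgroup.centralizer (N : Set X) =
          (V ⊓ Subgroup.centralizer (M : Set X)).map (MulAut.conj g).toMonoidHom := by
        rw [Subgroup.map_inf _ _ _ (MulAut.conj g).injective, hVg,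
          CfsgLib.Base.map_centralizer_mulEquiv, hN, Subgroup.coe_map]
        rfl
      simp only [f]
      rw [h2, hN, CfsgLib.Base.card_map_conj, CfsgLib.Base.card_map_conj]
    set a := Nat.card ↥(M ⊔ N)
    set i := Nat.card ↥(M ⊓ N)
    have h1 : Nat.card M * Nat.card N ≤ a * i := by
      rw [← CfsgLib.LocalEven.CD.card_mul_set]
      exact Nat.mul_le_mul_right _ (CfsgLib.LocalEven.CD.card_mul_set_le M N)
    set CM := V ⊓ Subgroup.centralizer (M : Set X)
    set CN := V ⊓ Subgroup.centralizer (N : Set X)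
    have h2 : Nat.card CM * Nat.card CN ≤ Nat.card ↥(V ⊓ Subgroup.centralizer ((M ⊔ N : Subgroup X) : Set X)) *
        Nat.card ↥(V ⊓ Subgroup.centralizer ((M ⊓ N : Subgroup X) : Set X)) := by
      rw [← CfsgLib.LocalEven.CD.card_mul_set, mul_comm]
      have e : V ⊓ Subgroup.centralizer ((M ⊔ N : Subgroup X) : Set X) = CM ⊓ CN := by
        show V ⊓ CfsgLib.LocalEven.CD.cen (M ⊔ N) = _
        rw [CfsgLib.LocalEven.CD.cen_sup, inf_inf_distrib_left]
      rw [e]
      refine Nat.mul_le_mul_left _ ((CfsgLib.LocalEven.CD.card_mul_set_le CM CN).trans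
        (Subgroup.card_le_of_le (sup_le ?_ ?_)))
      · exact inf_le_inf_left _ (CfsgLib.LocalEven.CD.cen_anti inf_le_left)
      · exact inf_le_inf_left _ (CfsgLib.LocalEven.CD.cen_anti inf_le_right)
    have h3 : f M * f N ≤ f (M ⊔ N) * f (M ⊓ N) := by
      simp only [f]
      rw [mul_mul_mul_comm, mul_mul_mul_comm ((a : ℝ) ^ α),
        ← Real.mul_rpow (by positivity) (by positivity), ← Real.mul_rpow (by positivity) (by positivity)]
      refine mul_le_mul (Real.rpow_le_rpow (by positivity) (by exact_mod_cast h1) hα.le)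
        (by exact_mod_cast h2) (by positivity) (by positivity)
    have hpos : ∀ B : Subgroup X, 0 < f B := fun B =>
      mul_pos (Real.rpow_pos_of_pos (Nat.cast_pos.2 Nat.card_pos) α) (Nat.cast_pos.2 Nat.card_pos)
    have hJ : f B₀ ≤ f (M ⊔ N) := by
      by_contra hlt
      push Not at hlt
      have h4 : f (M ⊔ N) * f (M ⊓ N) < f B₀ * f B₀ :=
        mul_lt_mul hlt (hmax' _ (inf_le_left.trans hMG)) (hpos _) (hpos _).le
      rw [hfN] at h3
      linarith [mul_le_mul hMf hMf (hpos _).le (hpos _).le]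
    have hle : M ⊔ N ≤ M := hMmax ⟨sup_le hMG hNG, hMle.trans le_sup_left, hJ⟩ le_sup_left
    exact Subgroup.eq_of_le_of_card_ge (le_sup_right.trans hle) (CfsgLib.Base.card_map_conj g M).ge
  have hGM : G ≤ Subgroup.normalizer (M : Set X) := fun g hg =>
    Subgroup.mem_normalizer_iff_map_conj_eq.2 (hconjG g hg)
  have hCV : V ⊓ Subgroup.centralizer (M : Set X) = ⊥ := by
    refine (hirr _ inf_le_left ?_).resolve_right fun h => hM1 ?_
    · intro g hg
      refine Subgroup.mem_normalizer_iff_map_conj_eq.2 ?_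
      rw [Subgroup.map_inf _ _ _ (MulAut.conj g).injective,
        Subgroup.mem_normalizer_iff_map_conj_eq.1 (hGV hg)]
      change V ⊓ (Subgroup.centralizer (M : Set X)).map (MulAut.conj g).toMonoidHom = _
      rw [CfsgLib.Base.map_centralizer_mulEquiv]
      congr 2
      exact congrArg SetLike.coe (hconjG g hg)
    · rw [← le_bot_iff, ← hfaith]
      exact le_inf hMG (Subgroup.le_centralizer_iff.1 (inf_eq_left.1 h))
  have h5 : (Nat.card V : ℝ) ≤ (Nat.card M : ℝ) ^ α := by
    have h6 := (hmax' ⊥ bot_le).trans hMf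
    rw [hf1] at h6
    simp only [f, hCV, Subgroup.card_bot, Nat.cast_one, mul_one] at h6
    exact h6
  exact h5.trans (Real.rpow_le_rpow (by positivity)
    (by exact_mod_cast Subgroup.card_le_of_le hMG) hα.le)

end Cfsg.Agent.S3037
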