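import Cfsg.Statements.S3044
import Cfsg.Agent.Lib.LocalEven.IsolatedBridge
-- import your own Cfsg.Agent.* helpers here

set_option autoImplicit false
open Cfsg

namespace Cfsg.Agent.S3044

/-- Let G be a finite group, p a prime, S a Sylow p-subgroup of G and P a p-minimal subgroup of G containing S (S is not normal in P and lies in exactly one maximal subgroup of P). Let L be the subgroup generated by N_G(S) and all p-minimal subgroups of G containing S other than P, and suppose P is isolated: O_p(L) is not contained in O_p(P). Put Y for the normal closure of O^p(P) in G. Then G = YL; P is again isolated in the subgroup YS (the subgroup L₀ generated by N_{YS}(S) and the p-minimal subgroups of YS containing S other than P has O_p(L₀) not contained in O_p(P)); and either Y = O^p(P), or p divides |Y/O_p(Y)|, Y/O_p(Y) is generated by its components (a central product of quasisimple groups), and S permutes these components transitively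 by conjugation. -/
theorem result {G : Type*} [Group G] [Finite G] {p : ℕ} [Fact p.Prime] (S : Sylow p G) (P : Subgroup G) (hSP : (S : Subgroup G) ≤ P) (hPmin : Cfsg.IsPMinimal p ↥P)
    (L Y : Subgroup G)
    (hL : L = Subgroup.normalizer ((S : Subgroup G) : Set G) ⊔ ⨆ P' : {P' : Subgroup G // (S : Subgroup G) ≤ P' ∧ Cfsg.IsPMinimal p ↥P' ∧ P' ≠ P}, (P' : Subgroup G))
    (hiso : ¬ (Cfsg.pCore p ↥L).map L.subtype ≤ (Cfsg.pCore p ↥P).map P.subtype)
    (hY : Y = Subgroup.normalClosure (((Cfsg.pResidual p ↥P).map P.subtype : Subgroup G) : Set G)) :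
    Y ⊔ L = ⊤ ∧
    ¬ (Cfsg.pCore p ↥((Subgroup.normalizer ((S : Subgroup G) : Set G) ⊓ (Y ⊔ (S : Subgroup G))) ⊔
          ⨆ P' : {P' : Subgroup G // (S : Subgroup G) ≤ P' ∧ P' ≤ Y ⊔ (S : Subgroup G) ∧ Cfsg.IsPMinimal p ↥P' ∧ P' ≠ P}, (P' : Subgroup G))).map
        (Subgroup.subtype _) ≤ (Cfsg.pCore p ↥P).map P.subtype ∧
    ((Cfsg.pResidual p ↥P).map P.subtype = Y ∨
     ∃ _ : (Cfsg.pCore p ↥Y).Normal,
       p ∣ Nat.card (↥Y ⧸ Cfsg.pCore p ↥Y) ∧ Cfsg.layer (↥Y ⧸ Cfsg.pCore p ↥Y) = ⊤ ∧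
       ∀ K₁ K₂ : Subgroup (↥Y ⧸ Cfsg.pCore p ↥Y), Cfsg.IsComponent K₁ → Cfsg.IsComponent K₂ →
         ∃ s ∈ (S : Subgroup G), ((K₂.comap (QuotientGroup.mk' (Cfsg.pCore p ↥Y))).map Y.subtype) = (((K₁.comap (QuotientGroup.mk' (Cfsg.pCore p ↥Y))).map Y.subtype)).map (MulAut.conj s).toMonoidHom) := by
  classical
  have h : CfsgLib.LocalEven.IsoPMin.Isolated S P L Y := ⟨hSP, hL, hiso, hY⟩
  haveI hn : (Cfsg.pCore p G).Normal := Cfsg.pCore_normal p G
  have d := h.data
  set π := QuotientGroup.mk' (Cfsg.pCore p G)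
  haveI hYn : Y.Normal := hY ▸ Subgroup.normalClosure_normal
  refine ⟨?_, ?_, ?_⟩
  · exact top_le_iff.1 (h.gen ⊤ _ le_top (inf_le_right.trans le_sup_right)
      ((hY ▸ Subgroup.le_normalClosure : _ ≤ Y).trans le_sup_left))
  · set L₀ := (Subgroup.normalizer ((S : Subgroup G) : Set G) ⊓ (Y ⊔ (S : Subgroup G))) ⊔
      ⨆ P' : {P' : Subgroup G // (S : Subgroup G) ≤ P' ∧ P' ≤ Y ⊔ (S : Subgroup G) ∧ Cfsg.IsPMinimal p ↥P' ∧ P' ≠ P}, (P' : Subgroup G)
    have hL₀L : L₀ ≤ L := by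
      rw [hL]
      exact sup_le (inf_le_left.trans le_sup_left) (iSup_le fun Q =>
        le_sup_of_le_right (le_iSup_of_le ⟨Q.1, Q.2.1, Q.2.2.2.1, Q.2.2.2.2⟩ le_rfl))
    have hSL₀ : (S : Subgroup G) ≤ L₀ :=
      le_sup_of_le_left (le_inf Subgroup.le_normalizer le_sup_right)
    intro hle
    refine hiso (le_trans ?_ hle)
    exact CfsgLib.Base.le_map_pCore (h.core_le_S.trans hSL₀)
      (hL₀L.trans (CfsgLib.Base.le_normalizer_map_pCore L)) (CfsgLib.Base.isPGroup_map_pCore p L)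
  by_cases hsol : Group.IsSolvable ↥(Y.map π)
  · exact Or.inl (h.eq_of_le (d.nilpotent_case hsol).2.2)
  right
  have hn' : (Cfsg.pCore p ↥Y).Normal := Cfsg.pCore_normal p _
  haveI := hn'
  obtain ⟨e, he⟩ := CfsgLib.LocalEven.IsoPMin.quotient_equiv (p := p) Y
  refine ⟨hn', ?_, ?_, ?_⟩
  · rw [Nat.card_congr e.toEquiv]; exact d.dvd_card hsol
  · have h1 := CfsgLib.Components.layer_map_equiv e.symm
    rw [d.layer_eq_top hsol, Subgroup.map_top_of_surjective _ e.symm.surjective] at h1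
    exact h1.symm
  intro K₁ K₂ hK₁ hK₂
  have key : ∀ (K : Subgroup (↥Y ⧸ Cfsg.pCore p ↥Y)) (x : G),
      x ∈ (K.comap (QuotientGroup.mk' (Cfsg.pCore p ↥Y))).map Y.subtype ↔
        x ∈ Y ∧ π x ∈ (K.map e.toMonoidHom).map (Y.map π).subtype := by
    intro K x
    constructor
    · rintro ⟨y, hy, rfl⟩
      exact ⟨y.2, e (QuotientGroup.mk y), ⟨_, hy, rfl⟩, he y⟩
    · rintro ⟨hx, _, ⟨k, hk, rfl⟩, hke⟩
      refine ⟨⟨x, hx⟩, ?_, rfl⟩
      have : k = QuotientGroup.mk (⟨x, hx⟩ : Y) :=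
        e.injective (Subtype.ext (hke.trans (he ⟨x, hx⟩).symm))
      rw [this] at hk
      exact hk
  have hcomp : ∀ K : Subgroup (↥Y ⧸ Cfsg.pCore p ↥Y), Cfsg.IsComponent K →
      Cfsg.IsComponent ((K.map e.toMonoidHom).map (Y.map π).subtype) := fun K hK =>
    (CfsgLib.Components.isComponent_map_subtype_iff d.Yn.isSubnormal _).2
      (CfsgLib.Components.isComponent_map_equiv e hK)
  obtain ⟨_, ⟨s, hs, rfl⟩, hconj⟩ := d.components_conj hsol (hcomp _ hK₁) (Subgroup.map_subtype_le _)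
    (hcomp _ hK₂) (Subgroup.map_subtype_le _)
  refine ⟨s, hs, ?_⟩
  ext x
  rw [key, hconj]
  constructor
  · rintro ⟨hxY, k, hk, hke⟩
    refine ⟨s⁻¹ * x * s, (key _ _).2 ⟨?_, ?_⟩, by simp [mul_assoc]⟩
    · simpa using hYn.conj_mem x hxY s⁻¹
    · have : π (s⁻¹ * x * s) = k := by
        rw [map_mul, map_mul, map_inv, ← hke]
        simp [mul_assoc]
      rw [this]; exact hk
  · rintro ⟨a, ha, rfl⟩
    obtain ⟨haY, hak⟩ := (key _ _).1 ha
    exact ⟨hYn.conj_mem a haY s, π a, hak, by simp⟩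

end Cfsg.Agent.S3044
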