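import Cfsg.Statements.S3045
import Cfsg.Agent.Lib.LocalEven.IsolatedBridge
-- import your own Cfsg.Agent.* helpers here

set_option autoImplicit false
open Cfsg

namespace Cfsg.Agent.S3045

/-- Let G be a finite group, p a prime, S a Sylow p-subgroup of G and P a p-minimal subgroup of G containing S. Let L be the subgroup generated by N_G(S) and all p-minimal subgroups of G containing S other than P, and suppose O_p(L) is not contained in O_p(P). Put Y for the normal closure of O^p(P) in G. Then O^p(P) is contained in the preimage in G of F*(G/O_p(G)); and if Y is solvable, then Y = O^p(P) and Y/O_p(Y) is a t-group of nilpotency class at most 2 for some prime t ≠ p. -/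
theorem result {G : Type*} [Group G] [Finite G] {p : ℕ} [Fact p.Prime] (S : Sylow p G) (P : Subgroup G) (hSP : (S : Subgroup G) ≤ P) (hPmin : Cfsg.IsPMinimal p ↥P)
    (L Y : Subgroup G)
    (hL : L = Subgroup.normalizer ((S : Subgroup G) : Set G) ⊔ ⨆ P' : {P' : Subgroup G // (S : Subgroup G) ≤ P' ∧ Cfsg.IsPMinimal p ↥P' ∧ P' ≠ P}, (P' : Subgroup G))
    (hiso : ¬ (Cfsg.pCore p ↥L).map L.subtype ≤ (Cfsg.pCore p ↥P).map P.subtype)
    (hY : Y = Subgroup.normalClosure (((Cfsg.pResidual p ↥P).map P.subtype : Subgroup G) : Set G)) [hn : (Cfsg.pCore p G).Normal] :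
    (Cfsg.pResidual p ↥P).map P.subtype ≤ (Cfsg.generalizedFittingSubgroup (G ⧸ Cfsg.pCore p G)).comap (QuotientGroup.mk' (Cfsg.pCore p G)) ∧
    (Group.IsSolvable ↥Y → (Cfsg.pResidual p ↥P).map P.subtype = Y ∧
       ∃ _ : (Cfsg.pCore p ↥Y).Normal, ∃ t : ℕ, t.Prime ∧ t ≠ p ∧ IsPGroup t (↥Y ⧸ Cfsg.pCore p ↥Y) ∧
         ∃ _ : Group.IsNilpotent (↥Y ⧸ Cfsg.pCore p ↥Y), Group.nilpotencyClass (↥Y ⧸ Cfsg.pCore p ↥Y) ≤ 2) := by
  classical
  have h : CfsgLib.LocalEven.IsoPMin.Isolated S P L Y := ⟨hSP, hL, hiso, hY⟩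
  have d := h.data
  set π := QuotientGroup.mk' (Cfsg.pCore p G)
  haveI : Y.Normal := hY ▸ Subgroup.normalClosure_normal
  haveI := d.Yn
  have hsurj : Function.Surjective π := QuotientGroup.mk'_surjective _
  refine ⟨?_, ?_⟩
  · refine le_trans ?_ (Subgroup.comap_mono (f := π)
      (show Y.map π ≤ Cfsg.generalizedFittingSubgroup (G ⧸ Cfsg.pCore p G) from ?_))
    · exact fun x hx => ⟨x, hY ▸ Subgroup.le_normalClosure hx, rfl⟩
    by_cases hsol : Group.IsSolvable ↥(Y.map π)
    · obtain ⟨h2, -, -⟩ := d.nilpotent_case hsol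
      haveI : Group.IsNilpotent ↥(Y.map π) :=
        (Subgroup.isNilpotent_iff_lowerCentralSeries _).2 ⟨2, h2⟩
      exact (CfsgLib.Base.le_fittingSubgroup inferInstance).trans le_sup_right
    · refine le_trans ?_ le_sup_left
      have h1 := CfsgLib.Components.layer_map_subtype_le (H := Y.map π) d.Yn.isSubnormal
      rwa [d.layer_eq_top hsol, ← MonoidHom.range_eq_map, Subgroup.range_subtype] at h1
  · intro hsol
    have hsol' : Group.IsSolvable ↥(Y.map π) :=
      Group.isSolvable_of_surjective (f := π.subgroupMap Y) (MonoidHom.subgroupMap_surjective π Y)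
    obtain ⟨h2, ⟨t, ht, htp, htY⟩, hle⟩ := d.nilpotent_case hsol'
    have hn' : (Cfsg.pCore p ↥Y).Normal := Cfsg.pCore_normal p _
    haveI := hn'
    refine ⟨h.eq_of_le hle, hn', t, ht, htp, ?_⟩
    obtain ⟨e, -⟩ := CfsgLib.LocalEven.IsoPMin.quotient_equiv (p := p) Y
    haveI : Group.IsNilpotent ↥(Y.map π) :=
      (Subgroup.isNilpotent_iff_lowerCentralSeries _).2 ⟨2, h2⟩
    refine ⟨htY.of_equiv e.symm, Group.nilpotent_of_mulEquiv e.symm, ?_⟩
    refine le_trans (Group.nilpotencyClass_le_of_surjective (f := e.symm.toMonoidHom) e.symm.surjective) ?_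
    refine Subgroup.lowerCentralSeries_eq_bot_iff_nilpotencyClass_le.1 ?_
    apply Subgroup.map_injective (Y.map π).subtype_injective
    rw [Subgroup.top_subtype_lowerCentralSeries, Subgroup.map_bot]
    exact h2

end Cfsg.Agent.S3045
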