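import Cfsg.Statements.S3047
import Cfsg.Agent.Lib.LocalEven.RankOneModels
import Cfsg.Agent.Lib.Transfer.NormalPComplement
-- import your own Cfsg.Agent.* helpers here

set_option autoImplicit false
open Cfsg

namespace Cfsg.Agent.S3047

/-- Let p ≥ 5 be a prime, G a finite group all of whose composition factors are known simple groups, S a Sylow p-subgroup and P a p-minimal subgroup of G containing S such that O^p(P/O_p(P)) is isomorphic to SL₂(pᵃ), PSL₂(pᵃ), SU₃(pᵃ) or PSU₃(pᵃ) for some a ≥ 1. Let L be the subgroup generated by N_G(S) and the p-minimal subgroups of G containing S other than P. Then either O^p(P) is normal in G, or every p-element of the centre of L lies in O_p(P). -/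
theorem result {G : Type*} [Group G] [Finite G] {p : ℕ} [Fact p.Prime] (hp : 5 ≤ p) (hK : Cfsg.IsCompositionKGroup G)
    (S : Sylow p G) (P : Subgroup G) (hSP : (S : Subgroup G) ≤ P) (hPmin : Cfsg.IsPMinimal p ↥P) [hn : (Cfsg.pCore p ↥P).Normal]
    (hrk1 : ∃ (F : Type) (_ : Field F) (_ : Fintype F) (a : ℕ), 1 ≤ a ∧
      ((Fintype.card F = p ^ a ∧ (Nonempty (↥(Cfsg.pResidual p (↥P ⧸ Cfsg.pCore p ↥P)) ≃* Matrix.SpecialLinearGroup (Fin 2) F) ∨
                                  Nonempty (↥(Cfsg.pResidual p (↥P ⧸ Cfsg.pCore p ↥P)) ≃* Matrix.ProjectiveSpecialLinearGroup (Fin 2) F))) ∨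
       (Fintype.card F = p ^ (2 * a) ∧ (Nonempty (↥(Cfsg.pResidual p (↥P ⧸ Cfsg.pCore p ↥P)) ≃* ↥(Cfsg.SU 3 F (p ^ a))) ∨
                                        Nonempty (↥(Cfsg.pResidual p (↥P ⧸ Cfsg.pCore p ↥P)) ≃* Cfsg.PSU 3 F (p ^ a))))))
    (L : Subgroup G)
    (hL : L = Subgroup.normalizer ((S : Subgroup G) : Set G) ⊔ ⨆ P' : {P' : Subgroup G // (S : Subgroup G) ≤ P' ∧ Cfsg.IsPMinimal p ↥P' ∧ P' ≠ P}, (P' : Subgroup G)) :
    ((Cfsg.pResidual p ↥P).map P.subtype).Normal ∨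
    ∀ z ∈ L ⊓ Subgroup.centralizer (L : Set G), (∃ k : ℕ, orderOf z = p ^ k) → z ∈ (Cfsg.pCore p ↥P).map P.subtype := by
  right
  rintro z ⟨hzL, hzC⟩ ⟨k, hk⟩
  have hNL : Subgroup.normalizer ((S : Subgroup G) : Set G) ≤ L := hL ▸ le_sup_left
  have hcomm : ∀ n ∈ Subgroup.normalizer ((S : Subgroup G) : Set G), n * z = z * n := fun n hn =>
    Subgroup.mem_centralizer_iff.1 hzC n (hNL hn)
  have hzS : z ∈ (S : Subgroup G) := by
    have hzN : z ∈ Subgroup.normalizer ((S : Subgroup G) : Set G) :=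
      Subgroup.mem_normalizer_fintype fun s hs => by
        rw [← hcomm s (Subgroup.le_normalizer hs), mul_inv_cancel_right]
        exact hs
    have hp' : IsPGroup p (Subgroup.zpowers z) :=
      IsPGroup.of_card (n := k) (by rw [Nat.card_zpowers, hk])
    exact ((IsPGroup.inf_normalizer_sylow hp' S).le ⟨Subgroup.mem_zpowers z, hzN⟩).2
  let S₁ : Sylow p ↥P := S.subtype hSP
  set π := QuotientGroup.mk' (Cfsg.pCore p ↥P) with hπ
  have hπs : Function.Surjective π := QuotientGroup.mk'_surjective _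
  have hle : π.ker ≤ (S₁ : Subgroup ↥P) := by
    rw [hπ, QuotientGroup.ker_mk']
    exact CfsgLib.Base.pCore_le_sylow S₁
  suffices h : π ⟨z, hSP hzS⟩ = 1 by
    exact ⟨_, (QuotientGroup.eq_one_iff _).1 h, rfl⟩
  set R := Cfsg.pResidual p (↥P ⧸ Cfsg.pCore p ↥P) with hR
  haveI : R.Normal := CfsgLib.Transfer.pResidual_normal
  obtain ⟨U, d⟩ : ∃ U : Subgroup ↥R, CfsgLib.LocalEven.RankOneOuter.Data p ↥R U := by
    obtain ⟨F, _, _, a, ha, h | h⟩ := hrk1
    · obtain ⟨hc, h⟩ := h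
      have hchar : CharP F p := charP_of_card_eq_prime_pow hc
      have d := CfsgLib.LocalEven.RankOneOuter.data_SL (F := F) hp
      rcases h with ⟨⟨e⟩⟩ | ⟨⟨e⟩⟩
      · exact ⟨_, d.map e.symm.toMonoidHom e.symm.surjective
          (((MonoidHom.ker_eq_bot_iff _).2 e.symm.injective).le.trans bot_le)⟩
      · refine ⟨_, d.map (e.symm.toMonoidHom.comp (QuotientGroup.mk' _))
          (e.symm.surjective.comp (QuotientGroup.mk'_surjective _)) ?_⟩
        intro x hx
        rw [MonoidHom.mem_ker, MonoidHom.comp_apply, MulEquiv.coe_toMonoidHom,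
          MulEquiv.map_eq_one_iff] at hx
        exact (QuotientGroup.eq_one_iff x).1 hx
    · obtain ⟨hc, h⟩ := h
      have hchar : CharP F p := charP_of_card_eq_prime_pow hc
      have hF : Nat.card F = (p ^ a) ^ 2 := by
        rw [Nat.card_eq_fintype_card, hc, ← pow_mul, mul_comm]
      have hq : 3 ≤ p ^ a := (Nat.le_self_pow (by omega) p).trans' (by omega)
      obtain ⟨U, d⟩ := CfsgLib.LocalEven.RankOneOuter.data_SU (p := p) hF hq hp
      rcases h with ⟨⟨e⟩⟩ | ⟨⟨e⟩⟩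
      · exact ⟨_, d.map e.symm.toMonoidHom e.symm.surjective
          (((MonoidHom.ker_eq_bot_iff _).2 e.symm.injective).le.trans bot_le)⟩
      · refine ⟨_, d.map (e.symm.toMonoidHom.comp (QuotientGroup.mk' _))
          (e.symm.surjective.comp (QuotientGroup.mk'_surjective _)) ?_⟩
        intro x hx
        rw [MonoidHom.mem_ker, MonoidHom.comp_apply, MulEquiv.coe_toMonoidHom,
          MulEquiv.map_eq_one_iff] at hx
        exact (QuotientGroup.eq_one_iff x).1 hx
  have hpq : ∀ x : ↥P ⧸ Cfsg.pCore p ↥P, ∃ j : ℕ, x ^ p ^ j ∈ R := fun x => by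
    obtain ⟨i, m, hm, e⟩ := Nat.exists_eq_pow_mul_and_not_dvd (orderOf_pos x).ne' p (Fact.out : p.Prime).ne_one
    refine ⟨i, Subgroup.subset_closure ?_⟩
    have : orderOf (x ^ p ^ i) = m := by
      rw [orderOf_pow_of_dvd (pow_ne_zero _ (Fact.out : p.Prime).ne_zero) (e ▸ dvd_mul_right _ _), e,
        Nat.mul_div_cancel_left _ (pow_pos (Fact.out : p.Prime).pos _)]
    show Nat.Coprime (orderOf (x ^ p ^ i)) p
    rw [this]
    exact ((Fact.out : p.Prime).coprime_iff_not_dvd.2 hm).symm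
  refine CfsgLib.LocalEven.RankOneOuter.eq_one hp R U d hpq
    (CfsgLib.Base.pCore_quotient_pCore p ↥P) (S₁.mapSurjective hπs) ?_ ?_
  · exact ⟨⟨z, hSP hzS⟩, hzS, rfl⟩
  · intro n hn
    obtain ⟨n, rfl⟩ := hπs n
    rw [← map_mul, ← map_mul]
    congr 1
    refine Subtype.ext (hcomm (n : G) ?_)
    refine Subgroup.mem_normalizer_fintype fun s hs => ?_
    have h1 : π (n * ⟨s, hSP hs⟩ * n⁻¹) ∈ (S₁ : Subgroup ↥P).map π := by
      rw [map_mul, map_mul, map_inv]
      exact (Subgroup.mem_normalizer_iff.1 hn _).1 ⟨⟨s, hSP hs⟩, hs, rfl⟩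
    have h2 := Subgroup.mem_comap.2 h1
    rw [Subgroup.comap_map_eq, sup_eq_left.2 hle] at h2
    exact h2

end Cfsg.Agent.S3047
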