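import Cfsg.Statements.S3050
import Cfsg.Agent.Lib.LocalEven.SL2Higman
import Cfsg.Agent.Lib.LocalEven.NaturalModule
-- import your own Cfsg.Agent.* helpers here

set_option autoImplicit false
open Cfsg

namespace Cfsg.Agent.S3050

/-- Let G be a finite group with a normal 2-subgroup Q such that G/Q is isomorphic to SL(2, 2ⁿ) with n ≥ 2, and suppose some element of G of order 3 fixes no nonidentity element of Q under conjugation. Then Q is elementary abelian and is the direct product of normal subgroups of G on each of which G acts as SL(2, 2ⁿ) acts on its natural two-dimensional module (a Galois twist of the natural action allowed). -/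
theorem result {G : Type*} [Group G] [Finite G]
    (Q : Subgroup G) [Q.Normal] (hQ : IsPGroup 2 ↥Q) (n : ℕ) (hn : 2 ≤ n)
    (K : Type*) [Field K] [Fintype K] (hK : Fintype.card K = 2 ^ n)
    (e : G ⧸ Q ≃* Matrix.SpecialLinearGroup (Fin 2) K)
    (x : G) (hx : orderOf x = 3) (hfpf : ∀ q ∈ Q, x * q * x⁻¹ = q → q = 1) :
    Cfsg.IsElementaryAbelian 2 Q ∧
      ∃ (k : ℕ) (V : Fin k → Subgroup G), (∀ i, V i ≤ Q ∧ (V i).Normal ∧
        Cfsg.ActsAsSL2OnSection K ⊤ ⊤ (V i) ⊥) ∧ iSupIndep V ∧ ⨆ i, V i = Q := by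
  classical
  haveI : Fact (Nat.Prime 2) := ⟨Nat.prime_two⟩
  haveI : CharP K 2 := CfsgLib.LocalEven.Natural.charP_of_card hK
  obtain ⟨t, ht0, ht1⟩ := CfsgLib.LocalEven.SL2Higman.exists_ne_zero_one hn hK
  haveI hc := CfsgLib.LocalEven.SL2Higman.comm ht0 ht1 _ G Q rfl hQ e x hx hfpf
  have hQQ : Q ≤ Subgroup.centralizer (Q : Set G) := Subgroup.le_centralizer_iff_isMulCommutative.2 hc
  letI : CommGroup ↥Q := { (inferInstance : Group ↥Q) with mul_comm := hc.is_comm.comm }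
  letI := CfsgLib.LocalEven.SL2Bridge.moduleAction (CfsgLib.LocalEven.SL2Higman.act e hQQ)
  obtain ⟨hS, h2⟩ := CfsgLib.LocalEven.SL2Higman.split_of_fpf hQ le_rfl e hQQ hx hfpf ht0 ht1
  refine ⟨⟨hc, fun v hv => ?_⟩, ?_⟩
  · have h := congrArg (fun m => ((Additive.toMul m : ↥Q) : G)) (h2 (Additive.ofMul ⟨v, hv⟩))
    simpa using h
  obtain ⟨k, Φ, hΦ⟩ := hS.exists_natural
  let W : Fin k → AddSubgroup (Additive ↥Q) := fun i =>
    { carrier := {m | ∀ j, j ≠ i → Φ m j = 0}
      zero_mem' := fun j _ => by simp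
      add_mem' := fun {a b} ha hb j hj => by simp [ha j hj, hb j hj]
      neg_mem' := fun {a} ha j hj => by simp [ha j hj] }
  let V : Fin k → Subgroup G := fun i => (AddSubgroup.toSubgroup' (W i)).map Q.subtype
  have hsmul : ∀ (g : G) (m : Additive ↥Q),
      ((Additive.toMul (e (g : G ⧸ Q) • m) : ↥Q) : G) = g * (Additive.toMul m : ↥Q) * g⁻¹ :=
    fun g m => CfsgLib.LocalEven.SL2Higman.act_apply e hQQ g _
  have hmem : ∀ i (m : Additive ↥Q), ((Additive.toMul m : ↥Q) : G) ∈ V i ↔ m ∈ W i := fun i m =>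
    ⟨fun ⟨v, hv, h⟩ => by rwa [show v = Additive.toMul m from Subtype.ext h] at hv,
      fun h => ⟨Additive.toMul m, h, rfl⟩⟩
  have hVn : ∀ i, (V i).Normal := fun i => ⟨fun v hv g => by
    obtain ⟨m, hm, rfl⟩ := hv
    have : ((Additive.toMul (e (g : G ⧸ Q) • Additive.ofMul m) : ↥Q) : G) ∈ V i :=
      (hmem i _).2 fun j hj => by rw [hΦ, show Φ (Additive.ofMul m) j = 0 from hm j hj, Matrix.mulVec_zero]
    rwa [hsmul] at this⟩
  have hVQ : ∀ i, V i ≤ Q := fun i => Subgroup.map_subtype_le _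
  refine ⟨k, V, fun i => ⟨hVQ i, hVn i, ?_⟩, ?_, le_antisymm (iSup_le hVQ) ?_⟩
  · refine CfsgLib.LocalEven.SL2Bridge.acts_of_coord
      (fun g _ => by rw [Subgroup.normalizer_eq_top_iff.2 (hVn i)]; exact Subgroup.mem_top g)
      ((e.toMonoidHom.comp (QuotientGroup.mk' Q)).comp (⊤ : Subgroup G).subtype)
      (fun s => by
        obtain ⟨q, rfl⟩ := e.surjective s
        obtain ⟨g, rfl⟩ := QuotientGroup.mk'_surjective Q q
        exact ⟨⟨g, Subgroup.mem_top g⟩, rfl⟩)
      (fun v => Φ (Additive.ofMul ⟨v, hVQ i v.2⟩) i) ⟨fun u v h => ?_, fun w => ?_⟩ (fun u v => ?_) (fun g u w hw => ?_)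
    · have : (Additive.ofMul (⟨u, hVQ i u.2⟩ : ↥Q)) = Additive.ofMul ⟨v, hVQ i v.2⟩ := by
        refine Φ.injective (funext fun j => ?_)
        rcases eq_or_ne j i with rfl | hj
        · exact h
        · rw [(hmem i (Additive.ofMul ⟨u, hVQ i u.2⟩)).1 u.2 j hj, (hmem i (Additive.ofMul ⟨v, hVQ i v.2⟩)).1 v.2 j hj]
      exact Subtype.ext (congrArg (fun m => ((Additive.toMul m : ↥Q) : G)) this)
    · refine ⟨⟨_, (hmem i (Φ.symm (Pi.single i w))).2 fun j hj => by rw [Φ.apply_symm_apply, Pi.single_eq_of_ne hj]⟩, ?_⟩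
      show Φ (Φ.symm (Pi.single i w)) i = w
      rw [Φ.apply_symm_apply, Pi.single_eq_same]
    · rw [show (⟨((u * v : ↥(V i)) : G), hVQ i (u * v).2⟩ : ↥Q) = ⟨u, hVQ i u.2⟩ * ⟨v, hVQ i v.2⟩ from rfl, ofMul_mul, map_add]
      rfl
    · have : Additive.ofMul (⟨w, hVQ i w.2⟩ : ↥Q) = e ((g : G) : G ⧸ Q) • Additive.ofMul ⟨u, hVQ i u.2⟩ :=
        Additive.toMul.injective (Subtype.ext (by rw [hsmul]; exact hw))
      rw [this, hΦ]
      rfl
  · intro i
    rw [disjoint_iff_inf_le]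
    intro v ⟨hv, hv'⟩
    let Y : AddSubgroup (Additive ↥Q) :=
      { carrier := {m | Φ m i = 0}
        zero_mem' := by simp
        add_mem' := fun {a b} ha hb => by simp_all
        neg_mem' := fun {a} ha => by simp_all }
    have hle : (⨆ j, ⨆ (_ : j ≠ i), V j) ≤ (AddSubgroup.toSubgroup' Y).map Q.subtype :=
      iSup₂_le fun j hj => Subgroup.map_mono fun m (hm : ∀ l, l ≠ j → Φ (Additive.ofMul m) l = 0) => hm i hj.symm
    obtain ⟨m, hm, rfl⟩ := hle hv'
    have hm' := (hmem i (Additive.ofMul m)).1 hv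
    have : Additive.ofMul m = 0 := Φ.injective (funext fun j => by
      rw [map_zero]
      rcases eq_or_ne j i with rfl | hj
      · exact hm
      · exact hm' j hj)
    rw [Subgroup.mem_bot]
    exact congrArg (fun m => ((Additive.toMul m : ↥Q) : G)) this
  · intro v hv
    let T : AddSubgroup (Additive ↥Q) :=
      { carrier := {m | ((Additive.toMul m : ↥Q) : G) ∈ ⨆ j, V j}
        zero_mem' := one_mem (⨆ j, V j)
        add_mem' := fun {a b} ha hb => (⨆ j, V j).mul_mem ha hb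
        neg_mem' := fun {a} ha => (⨆ j, V j).inv_mem ha }
    have hm : Additive.ofMul (⟨v, hv⟩ : ↥Q) ∈ T := by
      rw [← Φ.symm_apply_apply (Additive.ofMul (⟨v, hv⟩ : ↥Q)), ← Finset.univ_sum_single (Φ _), map_sum]
      exact sum_mem fun j _ => le_iSup V j ((hmem j _).2 fun l hl => by rw [Φ.apply_symm_apply, Pi.single_eq_of_ne hl])
    exact hm

end Cfsg.Agent.S3050
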