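import Cfsg.Statements.S3054
import Cfsg.Agent.Lib.LocalEven.ExtraspecialLocal
-- import your own Cfsg.Agent.* helpers here

set_option autoImplicit false
open Cfsg

namespace Cfsg.Agent.S3054

/-- Let p be an odd prime and G a finite group with a Sylow p-subgroup P that is extraspecial of order p³ and exponent p. Suppose P contains three distinct subgroups A of order p² (each is elementary abelian of rank 2) such that every automorphism of A of order p is induced by conjugation by an element of G; equivalently the automorphism group induced on A by its normalizer contains the special linear group of A. Then p ≤ 13. -/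
theorem result {G : Type*} [Group G] [Finite G]
    {p : ℕ} [Fact p.Prime] (hp : p ≠ 2) (P : Sylow p G) (hE : Cfsg.IsExtraspecial p ↥P)
    (hcard : Nat.card P = p ^ 3) (hexp : Monoid.exponent ↥P = p)
    (A : Fin 3 → Subgroup G) (hA : Function.Injective A) (hAP : ∀ i, A i ≤ (P : Subgroup G))
    (hAcard : ∀ i, Nat.card ↥(A i) = p ^ 2)
    (hSL : ∀ i, ∀ φ : MulAut ↥(A i), orderOf φ = p → ∃ g : G, ∀ a : ↥(A i), (φ a : G) = g * (a : G) * g⁻¹) :
    p ≤ 13 := by
  classical
  have hexp' : ∀ x ∈ (P : Subgroup G), x ^ p = 1 := fun x hx => by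
    have h := Monoid.pow_exponent_eq_one (⟨x, hx⟩ : ↥(P : Subgroup G))
    rw [show Monoid.exponent ↥(P : Subgroup G) = p from hexp] at h
    exact congrArg Subtype.val h
  have hlow : ∀ i, ∀ a z : G, a ∈ A i → z ∈ A i → z ≠ 1 → (∀ y ∈ (P : Subgroup G), y * z = z * y) →
      (¬ ∀ y ∈ (P : Subgroup G), y * a = a * y) → ∃ c : G, c * a * c⁻¹ = a ∧ c * z * c⁻¹ = z * a := by
    intro i a z haA hzA hz1 hzc hanc
    haveI := IsPGroup.isMulCommutative_of_card_eq_prime_sq (hAcard i)
    letI : CommGroup ↥(A i) :=
      { (inferInstance : Group ↥(A i)) with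
        mul_comm := fun x y => Subtype.ext (Subgroup.mul_comm_of_mem_isMulCommutative (A i) x.2 y.2) }
    have hap : (⟨a, haA⟩ : ↥(A i)) ^ p = 1 := Subtype.ext (hexp' a (hAP i haA))
    have hzp : (⟨z, hzA⟩ : ↥(A i)) ^ p = 1 := Subtype.ext (hexp' z (hAP i hzA))
    have ha1 : (⟨a, haA⟩ : ↥(A i)) ≠ 1 := by
      intro e
      exact hanc fun y _ => by rw [show a = 1 from congrArg Subtype.val e, mul_one, one_mul]
    have hza : (⟨z, hzA⟩ : ↥(A i)) ∉ Subgroup.zpowers ⟨a, haA⟩ := by
      rintro ⟨n, hn⟩
      have hn' : z = a ^ n := by simpa using (congrArg Subtype.val hn).symm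
      have hmod : (n : ZMod p) ≠ 0 := by
        intro h0
        apply hz1
        rw [hn', CfsgLib.LocalEven.ExtraAut.zpow_eq_of_cast (hexp' a (hAP i haA)) (j := 0) (by simpa using h0),
          zpow_zero]
      obtain ⟨m, hm⟩ := ZMod.intCast_surjective (n : ZMod p)⁻¹
      apply hanc
      intro y hy
      have : a = z ^ m := by
        rw [hn', ← _root_.zpow_mul, CfsgLib.LocalEven.ExtraAut.zpow_eq_of_cast (hexp' a (hAP i haA)) (j := 1)
          (by push_cast; rw [hm, mul_inv_cancel₀ hmod]), zpow_one]
      rw [this]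
      exact ((show Commute y z from hzc y hy).zpow_right m).eq
    obtain ⟨E, hEv⟩ := CfsgLib.Fusion.SmallEss.exists_coords (hAcard i) hap hzp ha1 hza
    let S : (Fin 2 → ZMod p) ≃+ (Fin 2 → ZMod p) :=
      { toFun := fun v => ![v 0 + v 1, v 1]
        invFun := fun v => ![v 0 - v 1, v 1]
        left_inv := fun v => by ext j; fin_cases j <;> simp
        right_inv := fun v => by ext j; fin_cases j <;> simp
        map_add' := fun v w => by ext j; fin_cases j <;> simp; abel }
    let φ : MulAut ↥(A i) := E.symm.trans (S.toMultiplicative.trans E)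
    have hφ : ∀ v, φ (E (Multiplicative.ofAdd v)) = E (Multiplicative.ofAdd (S v)) := fun v => by
      show E (S.toMultiplicative (E.symm (E _))) = _
      rw [MulEquiv.symm_apply_apply]; rfl
    have hφk : ∀ (k : ℕ) v, (φ ^ k) (E (Multiplicative.ofAdd v)) =
        E (Multiplicative.ofAdd ![v 0 + (k : ZMod p) * v 1, v 1]) := by
      intro k
      induction k with
      | zero =>
        intro v
        rw [pow_zero, MulAut.one_apply]
        congr 2
        ext j; fin_cases j <;> simp
      | succ k ih =>
        intro v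
        rw [pow_succ, MulAut.mul_apply, hφ, ih]
        congr 2
        ext j; fin_cases j
        · simp [S]; ring
        · simp [S]
    have hp1 : (1 : ZMod p).val = 1 := ZMod.val_one p
    have hea : E (Multiplicative.ofAdd ![1, 0]) = ⟨a, haA⟩ := by rw [hEv]; simp [hp1]
    have hez : E (Multiplicative.ofAdd ![0, 1]) = ⟨z, hzA⟩ := by rw [hEv]; simp [hp1]
    have heza : E (Multiplicative.ofAdd ![1, 1]) = ⟨a, haA⟩ * ⟨z, hzA⟩ := by rw [hEv]; simp [hp1]
    have hφa : φ ⟨a, haA⟩ = ⟨a, haA⟩ := by
      rw [← hea, hφ]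
      congr 2
      ext j; fin_cases j <;> simp [S]
    have hφz : φ ⟨z, hzA⟩ = ⟨a, haA⟩ * ⟨z, hzA⟩ := by
      rw [← hez, hφ, hez, ← heza]
      congr 2
      ext j; fin_cases j <;> simp [S]
    have hord : orderOf φ = p := by
      refine orderOf_eq_prime (MulEquiv.ext fun x => ?_) fun h1 => ?_
      · obtain ⟨w, rfl⟩ := E.surjective x
        obtain ⟨v, rfl⟩ := Multiplicative.ofAdd.surjective w
        rw [hφk, ZMod.natCast_self, zero_mul, add_zero, MulAut.one_apply]
        congr 2
        ext j; fin_cases j <;> simp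
      · rw [h1, MulAut.one_apply] at hφz
        exact ha1 (by simpa using hφz.symm)
    obtain ⟨g, hg⟩ := hSL i φ hord
    refine ⟨g, ?_, ?_⟩
    · have h := hg ⟨a, haA⟩
      rw [hφa] at h
      exact h.symm
    · have h := hg ⟨z, hzA⟩
      rw [hφz, mul_comm] at h
      exact h.symm
  have hb := CfsgLib.LocalEven.ExtraAut.card_bound P hE hcard hexp' A hA hAP hAcard hlow
  by_contra hlt
  push Not at hlt
  have hpr : p.Prime := Fact.out
  have h17 : 17 ≤ p := by
    have key : ∀ q, q.Prime → 13 < q → 17 ≤ q := by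
      intro q hq h13
      by_contra h
      interval_cases q <;> norm_num at hq
    exact key p hpr hlt
  have := hb.1 (Or.inr h17)
  simp at this

end Cfsg.Agent.S3054
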