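import Cfsg.Statements.S3055
import Cfsg.Agent.Lib.LocalEven.ExtraspecialLocal
-- import your own Cfsg.Agent.* helpers here

set_option autoImplicit false
open Cfsg

namespace Cfsg.Agent.S3055

/-- Let p be an odd prime and G a finite group with a Sylow p-subgroup P that is extraspecial of order p³ and exponent p. If all nonidentity elements of P are conjugate in G, then p ≤ 7. -/
theorem result {G : Type*} [Group G] [Finite G]
    {p : ℕ} [Fact p.Prime] (hp : p ≠ 2) (P : Sylow p G) (hE : Cfsg.IsExtraspecial p ↥P)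
    (hcard : Nat.card P = p ^ 3) (hexp : Monoid.exponent ↥P = p)
    (hconj : ∀ x y : ↥P, x ≠ 1 → y ≠ 1 → ∃ g : G, g * (x : G) * g⁻¹ = (y : G)) :
    p ≤ 7 := by
  classical
  haveI := Fintype.ofFinite G
  have hexp' : ∀ x ∈ (P : Subgroup G), x ^ p = 1 := fun x hx => by
    have h := Monoid.pow_exponent_eq_one (⟨x, hx⟩ : ↥(P : Subgroup G))
    rw [show Monoid.exponent ↥(P : Subgroup G) = p from hexp] at h
    exact congrArg Subtype.val h
  set Zc := Subgroup.center ↥(P : Subgroup G) with hZc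
  have hE2 : Nat.card Zc = p := hE.2
  let ι := {A : Subgroup G // A ≤ (P : Subgroup G) ∧ Nat.card A = p ^ 2}
  haveI : Fintype ι := Fintype.ofFinite ι
  have hlow : ∀ i : ι, ∀ a z : G, a ∈ i.1 → z ∈ i.1 → z ≠ 1 → (∀ y ∈ (P : Subgroup G), y * z = z * y) →
      (¬ ∀ y ∈ (P : Subgroup G), y * a = a * y) → ∃ c : G, c * a * c⁻¹ = a ∧ c * z * c⁻¹ = z * a := by
    rintro ⟨A, hAP, hA⟩ a z haA hzA hz1 hzc hanc
    simp only at haA hzA
    haveI := IsPGroup.isMulCommutative_of_card_eq_prime_sq hA
    have ha1 : a ≠ 1 := fun e => hanc fun y _ => by rw [e, mul_one, one_mul]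
    obtain ⟨g, hg⟩ := hconj ⟨a, hAP haA⟩ ⟨z, hAP hzA⟩ (fun e => ha1 (congrArg Subtype.val e))
      (fun e => hz1 (congrArg Subtype.val e))
    simp only at hg
    have hPC : (P : Subgroup G) ≤ Subgroup.centralizer {z} := fun y hy =>
      Subgroup.mem_centralizer_singleton_iff.2 (hzc y hy)
    set A₁ := A.map (MulAut.conj g).toMonoidHom with hA₁
    have hA₁C : A₁ ≤ Subgroup.centralizer {z} := by
      rintro _ ⟨x, hx, rfl⟩
      rw [Subgroup.mem_centralizer_singleton_iff]
      have hcomm := Subgroup.mul_comm_of_mem_isMulCommutative A hx haA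
      show g * x * g⁻¹ * z = z * (g * x * g⁻¹)
      rw [← hg]
      calc g * x * g⁻¹ * (g * a * g⁻¹) = g * (x * a) * g⁻¹ := by group
        _ = g * (a * x) * g⁻¹ := by rw [hcomm]
        _ = g * a * g⁻¹ * (g * x * g⁻¹) := by group
    have hA₁p : IsPGroup p ↥(A₁.subgroupOf (Subgroup.centralizer {z})) := by
      have hAp : IsPGroup p ↥A := (IsPGroup.iff_card (p := p)).2 ⟨2, hA⟩
      exact (hAp.map (MulAut.conj g).toMonoidHom).comap_of_injective
        (Subgroup.centralizer {z}).subtype Subtype.val_injective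
    obtain ⟨S, hS⟩ := hA₁p.exists_le_sylow
    obtain ⟨k, hk⟩ := MulAction.exists_smul_eq ↥(Subgroup.centralizer {z}) S (P.subtype hPC)
    set h := (k : G) * g with hh
    have hkz : (k : G) * z * (k : G)⁻¹ = z := by
      rw [Subgroup.mem_centralizer_singleton_iff.1 k.2]; group
    have hha : h * a * h⁻¹ = z := by
      rw [hh, show (k : G) * g * a * ((k : G) * g)⁻¹ = (k : G) * (g * a * g⁻¹) * (k : G)⁻¹ by group, hg, hkz]
    have hhP : ∀ x ∈ A, h * x * h⁻¹ ∈ (P : Subgroup G) := by
      intro x hx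
      have hmem : (⟨g * x * g⁻¹, hA₁C ⟨x, hx, rfl⟩⟩ : ↥(Subgroup.centralizer {z})) ∈ (S : Subgroup _) :=
        hS (Subgroup.mem_subgroupOf.2 ⟨x, hx, rfl⟩)
      have h2 := Subgroup.smul_mem_pointwise_smul _ (MulAut.conj k) _ hmem
      rw [← Sylow.coe_subgroup_smul, hk, Sylow.coe_subtype, MulAut.smul_def, MulAut.conj_apply,
        Subgroup.mem_subgroupOf] at h2
      simpa [hh, mul_assoc] using h2
    have hzmem : (⟨z, hAP hzA⟩ : ↥(P : Subgroup G)) ∈ Zc :=
      Subgroup.mem_center_iff.2 fun y => Subtype.ext (hzc y y.2)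
    have hzgen : Subgroup.zpowers (⟨z, hAP hzA⟩ : ↥(P : Subgroup G)) = Zc := by
      refine Subgroup.eq_of_le_of_card_ge (Subgroup.zpowers_le.2 hzmem) ?_
      rw [hE2, Nat.card_zpowers, orderOf_eq_prime (Subtype.ext (hexp' z (hAP hzA)))
        (fun e => hz1 (congrArg Subtype.val e))]
    set b := h * z * h⁻¹ with hb
    obtain ⟨y, hy, hyb⟩ : ∃ y ∈ (P : Subgroup G), y * b ≠ b * y := by
      by_contra hcon
      push Not at hcon
      have hbm : (⟨b, hhP z hzA⟩ : ↥(P : Subgroup G)) ∈ Zc :=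
        Subgroup.mem_center_iff.2 fun y => Subtype.ext (hcon y y.2)
      rw [← hzgen] at hbm
      obtain ⟨n, hn⟩ := hbm
      have hn' : z ^ n = b := by simpa using congrArg Subtype.val hn
      have hza : z = a ^ n := by
        rw [← hha, conj_zpow] at hn'
        exact mul_left_cancel (mul_right_cancel (hn'.symm.trans rfl))
      have hmod : (n : ZMod p) ≠ 0 := by
        intro h0
        apply hz1
        rw [hza, CfsgLib.LocalEven.ExtraAut.zpow_eq_of_cast (hexp' a (hAP haA)) (j := 0) (by simpa using h0),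
          zpow_zero]
      obtain ⟨m, hm⟩ := ZMod.intCast_surjective (n : ZMod p)⁻¹
      apply hanc
      intro y hy
      have : a = z ^ m := by
        rw [hza, ← _root_.zpow_mul, CfsgLib.LocalEven.ExtraAut.zpow_eq_of_cast (hexp' a (hAP haA)) (j := 1)
          (by push_cast; rw [hm, mul_inv_cancel₀ hmod]), zpow_one]
      rw [this]
      exact ((show Commute y z from hzc y hy).zpow_right m).eq
    have hcm : (⟨y * b * y⁻¹ * b⁻¹, mul_mem (mul_mem (mul_mem hy (hhP z hzA)) (inv_mem hy)) (inv_mem (hhP z hzA))⟩ :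
        ↥(P : Subgroup G)) ∈ Zc :=
      CfsgLib.PGroups.Extraspecial.commutator_mem_center hE (⟨y, hy⟩ : ↥(P : Subgroup G)) ⟨b, hhP z hzA⟩
    rw [← hzgen] at hcm
    obtain ⟨n, hn⟩ := hcm
    have hn' : y * b * y⁻¹ * b⁻¹ = z ^ n := by simpa using (congrArg Subtype.val hn).symm
    have hyb' : y * b * y⁻¹ = b * z ^ n := by
      rw [(((show Commute b z from hzc b (hhP z hzA)).zpow_right n)).eq, ← hn']; group
    set c := h⁻¹ * y * h with hc
    have hhinv : h⁻¹ * z * h = a := by rw [← hha]; group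
    have hca : c * a * c⁻¹ = a := by
      rw [hc, show h⁻¹ * y * h * a * (h⁻¹ * y * h)⁻¹ = h⁻¹ * (y * (h * a * h⁻¹) * y⁻¹) * h by group, hha,
        show y * z * y⁻¹ = z by rw [hzc y hy]; group, hhinv]
    have hcz : c * z * c⁻¹ = z * a ^ n := by
      rw [hc, show h⁻¹ * y * h * z * (h⁻¹ * y * h)⁻¹ = h⁻¹ * (y * (h * z * h⁻¹) * y⁻¹) * h by group, ← hb, hyb',
        hb, show h⁻¹ * (h * z * h⁻¹ * z ^ n) * h = z * (h⁻¹ * z ^ n * h⁻¹⁻¹) by group, ← conj_zpow, inv_inv, hhinv]
    have hmod : (n : ZMod p) ≠ 0 := by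
      intro h0
      apply hyb
      rw [CfsgLib.LocalEven.ExtraAut.zpow_eq_of_cast (hexp' z (hAP hzA)) (j := 0) (by simpa using h0),
        zpow_zero] at hn'
      exact mul_inv_eq_iff_eq_mul.1 (mul_inv_eq_one.1 hn')
    obtain ⟨m, hm⟩ := ZMod.intCast_surjective (n : ZMod p)⁻¹
    have hcan : c * a ^ n * c⁻¹ = a ^ n := by rw [← conj_zpow, hca]
    refine ⟨c ^ m, ?_, ?_⟩
    · have hcc : Commute c a := mul_inv_eq_iff_eq_mul.1 hca
      rw [(hcc.zpow_left m).eq]; group
    · rw [(CfsgLib.LocalEven.ExtraAut.conj_zpow_shear hcan hcz m).2, ← _root_.zpow_mul,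
        CfsgLib.LocalEven.ExtraAut.zpow_eq_of_cast (hexp' a (hAP haA)) (j := 1)
          (by push_cast; rw [hm, mul_inv_cancel₀ hmod]), zpow_one]
  have hb := CfsgLib.LocalEven.ExtraAut.card_bound P hE hcard hexp' (fun i : ι => i.1) Subtype.val_injective
    (fun i => i.2.1) (fun i => i.2.2) hlow
  have hcount : p + 1 ≤ Fintype.card ι := by
    have hex : ∀ y : ↥(P : Subgroup G), y ∉ Zc → ∃ i : ι, (y : G) ∈ i.1 := by
      intro y hy
      have hy1 : y ≠ 1 := fun e => hy (e ▸ one_mem _)
      have hyo : orderOf y = p := orderOf_eq_prime (Subtype.ext (hexp' y y.2)) hy1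
      set B := Subgroup.zpowers y ⊔ Zc with hB
      refine ⟨⟨B.map (P : Subgroup G).subtype, Subgroup.map_subtype_le B, ?_⟩,
        ⟨y, (le_sup_left : Subgroup.zpowers y ≤ B) (Subgroup.mem_zpowers y), rfl⟩⟩
      rw [Subgroup.card_map_of_injective (P : Subgroup G).subtype_injective]
      have hdis : Subgroup.zpowers y ⊓ Zc = ⊥ := by
        have hd := Subgroup.card_dvd_of_le (inf_le_left : Subgroup.zpowers y ⊓ Zc ≤ _)
        rw [Nat.card_zpowers, hyo, Nat.dvd_prime Fact.out] at hd
        rcases hd with hd | hd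
        · exact Subgroup.card_eq_one.1 hd
        · exfalso
          refine hy ((inf_le_right : Subgroup.zpowers y ⊓ Zc ≤ Zc) ?_)
          rw [Subgroup.eq_of_le_of_card_ge (inf_le_left : Subgroup.zpowers y ⊓ Zc ≤ _)
            (by rw [hd, Nat.card_zpowers, hyo])]
          exact Subgroup.mem_zpowers y
      have hdisj : Disjoint (Subgroup.zpowers y) Zc := disjoint_iff.2 hdis
      have h2 : Nat.card B = Nat.card (Subgroup.zpowers y) * Nat.card Zc := by
        rw [hB, ← Nat.card_prod]
        refine (Nat.card_congr (Equiv.ofBijective (fun q : Subgroup.zpowers y × Zc =>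
          (⟨(q.1 : ↥(P : Subgroup G)) * q.2, Subgroup.mul_mem_sup q.1.2 q.2.2⟩ : ↥(Subgroup.zpowers y ⊔ Zc))) ⟨?_, ?_⟩)).symm
        · intro q₁ q₂ hq
          exact Subgroup.mul_injective_of_disjoint hdisj (congrArg Subtype.val hq)
        · rintro ⟨w, hw⟩
          rw [← SetLike.mem_coe, Subgroup.mul_normal] at hw
          obtain ⟨u, hu, v, hv, huv⟩ := hw
          exact ⟨(⟨u, hu⟩, ⟨v, hv⟩), Subtype.ext huv⟩
      rw [h2, Nat.card_zpowers, hyo, hE2, pow_two]
    choose f hf using hex
    haveI : Fintype ↥(P : Subgroup G) := Fintype.ofFinite _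
    set T : Finset ↥(P : Subgroup G) := Finset.univ.filter (fun y => y ∉ Zc) with hT
    have hTc : T.card + p = p ^ 3 := by
      have h1 := Finset.card_filter_add_card_filter_not (s := (Finset.univ : Finset ↥(P : Subgroup G))) (fun y => y ∉ Zc)
      rw [Finset.card_univ, ← Nat.card_eq_fintype_card, hcard] at h1
      rw [← h1]
      congr 1
      refine hE2.symm.trans ?_
      rw [Nat.card_eq_fintype_card, Fintype.card_subtype]
      congr 1
      ext w; simp
    have memT : ∀ y, y ∈ T → y ∉ Zc := fun y hy => (Finset.mem_filter.1 hy).2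
    have h1 : T.attach.card ≤ (p ^ 2 - p) * (Finset.univ : Finset ι).card := by
      refine Finset.card_le_mul_card_image_of_maps_to (f := fun y => f y.1 (memT y.1 y.2))
        (fun _ _ => Finset.mem_univ _) _ fun i _ => ?_
      have hsub : (T.attach.filter fun y => f y.1 (memT y.1 y.2) = i).image Subtype.val ⊆
          (Finset.univ.filter fun y : ↥(P : Subgroup G) => (y : G) ∈ i.1) \
            (Finset.univ.filter fun y => y ∈ Zc) := by
        intro w hw
        obtain ⟨y, hy, rfl⟩ := Finset.mem_image.1 hw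
        simp only [Finset.mem_sdiff, Finset.mem_filter, Finset.mem_univ, true_and]
        exact ⟨(Finset.mem_filter.1 hy).2 ▸ hf y.1 ((memT y.1 y.2)), (memT y.1 y.2)⟩
      rw [← Finset.card_image_of_injective _ Subtype.val_injective]
      refine (Finset.card_le_card hsub).trans (le_of_eq ?_)
      rw [Finset.card_sdiff_of_subset, ← Fintype.card_subtype, ← Fintype.card_subtype, ← Nat.card_eq_fintype_card,
        ← Nat.card_eq_fintype_card]
      · congr 1
        exact (Nat.card_congr (Subgroup.subgroupOfEquivOfLe i.2.1).toEquiv).trans i.2.2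
      · intro w hw
        simp only [Finset.mem_filter, Finset.mem_univ, true_and] at hw ⊢
        exact CfsgLib.LocalEven.ExtraAut.center_le hE hcard i.1 i.2.1 i.2.2 w hw
    rw [Finset.card_attach, Finset.card_univ] at h1
    have hp2 := (Fact.out : p.Prime).two_le
    have h2 : p * p - p + p = p * p := Nat.sub_add_cancel (Nat.le_mul_self p)
    rw [pow_two] at h1
    by_contra hlt
    push Not at hlt
    have h3 : (p * p - p) * Fintype.card ι ≤ (p * p - p) * p := Nat.mul_le_mul_left _ (by omega)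
    have h4 : p ^ 3 = (p * p - p) * p + p * p := by
      calc p ^ 3 = (p * p - p + p) * p := by rw [h2]; ring
        _ = _ := by ring
    nlinarith
  by_contra hlt
  push Not at hlt
  have hpr : p.Prime := Fact.out
  rcases (show p = 11 ∨ p = 13 ∨ 17 ≤ p from by
    by_contra h
    push Not at h
    obtain ⟨h11, h13, h17⟩ := h
    have key : ∀ q, q.Prime → 7 < q → q ≠ 11 → q ≠ 13 → q < 17 → False := by
      intro q hq h7 _ _ _
      interval_cases q <;> first | omega | norm_num at hq
    exact key p hpr hlt h11 h13 h17) with h | h | h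
  · have := hb.1 (Or.inl h); omega
  · have := hb.2 h; omega
  · have := hb.1 (Or.inr h); omega

end Cfsg.Agent.S3055
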