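import Cfsg.Statements.S3057
import Cfsg.Agent.Lib.LocalEven.StrongEmbPSolvable
-- import your own Cfsg.Agent.* helpers here

set_option autoImplicit false
open Cfsg

namespace Cfsg.Agent.S3057

/-- Let p be a prime and G a finite p-solvable group of order divisible by p, with Sylow p-subgroup P. Then the Sylow p-subgroups of G fail to be chain-connected through nontrivial intersections (equivalently, G has a strongly p-embedded subgroup) if and only if O_p(G) = 1 and P is cyclic or, for p = 2, generalized quaternion. -/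
theorem result {G : Type*} [Group G] [Finite G]
    (p : ℕ) [Fact p.Prime] (hdiv : p ∣ Nat.card G) (hsol : Cfsg.IsPSolvable p G) (P : Sylow p G) :
    ¬ Cfsg.IsSylowChainConnected p G ↔
      Cfsg.pCore p G = ⊥ ∧ (IsCyclic ↥P ∨ (p = 2 ∧ ∃ n : ℕ, Nonempty (↥P ≃* QuaternionGroup (2 ^ n)))) := by
  constructor
  · intro h
    obtain ⟨H, hH⟩ := CfsgLib.LocalEven.exists_stronglyPEmbedded_of_not_connected h
    exact ⟨CfsgLib.LocalEven.pCore_eq_bot_of_stronglyPEmbedded hH,
      CfsgLib.LocalEven.cyclic_or_quaternion_of_pSolvable hH hsol P⟩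
  · rintro ⟨hO, hP⟩
    exact CfsgLib.LocalEven.stronglyPEmbedded_not_connected
      (CfsgLib.LocalEven.stronglyPEmbedded_normalizer_omegaOne hO P (P.ne_bot_of_dvd_card hdiv)
        (hP.imp id (fun ⟨_, n, hn⟩ => ⟨2 ^ n, hn⟩)))

end Cfsg.Agent.S3057
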