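import Cfsg.Statements.S3059
import Cfsg.Agent.Lib.LocalEven.StrongEmb3
-- import your own Cfsg.Agent.* helpers here

set_option autoImplicit false
open Cfsg

namespace Cfsg.Agent.S3059

/-- Let p be a prime and H a strongly p-embedded subgroup of the finite group G in the classical sense: H is proper, p divides the order of H, and H ∩ gHg⁻¹ has order prime to p for every g outside H. Then for every normal subgroup N of G of order divisible by p, G = H · O^p(N), where O^p(N) is the subgroup generated by the elements of N of order prime to p. -/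
theorem result {G : Type*} [Group G] [Finite G]
    (p : ℕ) [Fact p.Prime] (H : Subgroup G) (hH : H ≠ ⊤) (hpH : p ∣ Nat.card H)
    (hse : ∀ g : G, g ∉ H → ¬ p ∣ Nat.card ↥(H ⊓ H.map (MulAut.conj g).toMonoidHom))
    (N : Subgroup G) [N.Normal] (hN : p ∣ Nat.card N) :
    H ⊔ Subgroup.closure {g : G | g ∈ N ∧ (orderOf g).Coprime p} = ⊤ := by
  have hS := CfsgLib.LocalEven.stronglyPEmbedded_iff_disjoint.2 ⟨hH, hpH, hse⟩
  set R := Subgroup.closure {g : G | g ∈ N ∧ (orderOf g).Coprime p}
  have hRn : R.Normal := by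
    refine ⟨fun r hr g => ?_⟩
    induction hr using Subgroup.closure_induction with
    | mem x hx =>
      refine Subgroup.subset_closure ⟨(inferInstance : N.Normal).conj_mem x hx.1 g, ?_⟩
      have e : orderOf (g * x * g⁻¹) = orderOf x :=
        orderOf_injective (MulAut.conj g).toMonoidHom (MulAut.conj g).injective x
      rw [e]; exact hx.2
    | one => simp
    | mul a b _ _ ha hb => simpa [mul_assoc] using R.mul_mem ha hb
    | inv a _ ha => simpa [mul_assoc] using R.inv_mem ha
  have hRN : R ≤ N := (Subgroup.closure_le _).2 fun x hx => hx.1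
  -- the quotient `N / R` is a `p`-group, so a Sylow subgroup of `N` covers it
  obtain ⟨P, -, hPH, -⟩ := CfsgLib.LocalEven.exists_sylow_of_stronglyPEmbedded hS
  obtain ⟨Q, hQ⟩ := CfsgLib.LocalEven.exists_sylow_inf_eq P (N := ⊤) (C := N) le_top le_top
    (by rw [Subgroup.normalizer_eq_top_iff.2 inferInstance])
  have hRn' : (R.subgroupOf N).Normal := inferInstance
  have hquot : IsPGroup p (↥N ⧸ R.subgroupOf N) := by
    intro q
    obtain ⟨x, rfl⟩ := QuotientGroup.mk'_surjective (R.subgroupOf N) q
    obtain ⟨a, m, hm, he⟩ := Nat.exists_eq_pow_mul_and_not_dvd (orderOf_pos x).ne' p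
      (Fact.out : p.Prime).ne_one
    refine ⟨a, ?_⟩
    rw [← map_pow, QuotientGroup.mk'_apply, QuotientGroup.eq_one_iff, Subgroup.mem_subgroupOf]
    refine Subgroup.subset_closure ⟨(x ^ p ^ a).2, ?_⟩
    rw [Subgroup.orderOf_coe, orderOf_pow, he, Nat.gcd_mul_right_left,
      Nat.mul_div_cancel_left _ (pow_pos (Fact.out : p.Prime).pos a)]
    exact ((Fact.out : p.Prime).coprime_iff_not_dvd.2 hm).symm
  have hcover : (Q : Subgroup N) ⊔ R.subgroupOf N = ⊤ := by
    have h1 : ((Q.mapSurjective (QuotientGroup.mk'_surjective (R.subgroupOf N))) :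
        Subgroup (↥N ⧸ R.subgroupOf N)) = ⊤ :=
      ((Q.mapSurjective (QuotientGroup.mk'_surjective (R.subgroupOf N))).3
        (hquot.to_subgroup ⊤) le_top).symm
    have h2 := congrArg (Subgroup.comap (QuotientGroup.mk' (R.subgroupOf N))) h1
    rw [Sylow.coe_mapSurjective, Subgroup.comap_map_eq, QuotientGroup.ker_mk', Subgroup.comap_top] at h2
    exact h2
  have hNle : N ≤ H ⊔ R := by
    have h3 := congrArg (Subgroup.map N.subtype) hcover
    rw [Subgroup.map_sup, hQ, Subgroup.map_subgroupOf_eq_of_le hRN, ← MonoidHom.range_eq_map,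
      Subgroup.range_subtype] at h3
    exact h3.ge.trans (sup_le_sup_right (inf_le_left.trans hPH) R)
  exact top_le_iff.1 ((CfsgLib.LocalEven.sup_eq_top_of_stronglyPEmbedded hS N hN).ge.trans
    (sup_le le_sup_left hNle))

end Cfsg.Agent.S3059
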