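import Cfsg.Statements.S3063
import Cfsg.Agent.Lib.LocalEven.JAbel
import Cfsg.Agent.Lib.Coprime.Basic
import Cfsg.Agent.Lib.Base.Transport
-- import your own Cfsg.Agent.* helpers here

set_option autoImplicit false
open Cfsg

namespace Cfsg.Agent.S3063

/-- A weak replacement Theorem for metabelian p-groups: let S be a finite p-group whose derived subgroup is abelian and A an abelian subgroup of S of largest possible order. Then the normal closure of A in S contains an abelian subgroup B of the same order as A that is normal in S. -/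
theorem result {S : Type*} [Group S] [Finite S] {p : ℕ} [Fact p.Prime]
    (hS : IsPGroup p S) (hmeta : IsMulCommutative ↥(commutator S))
    (A : Subgroup S) (hA : A ∈ Cfsg.maxAbelianSubgroups S) :
    ∃ B ∈ Cfsg.maxAbelianSubgroups S, B.Normal ∧ B ≤ Subgroup.normalClosure (A : Set S) := by
  classical
  set N := Subgroup.normalClosure (A : Set S) with hN
  set D' := commutator S with hD'
  obtain ⟨B, ⟨hBm, hBN⟩, hBmax⟩ := Set.exists_max_image
    {B : Subgroup S | B ∈ Cfsg.maxAbelianSubgroups S ∧ B ≤ N}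
    (fun B => Nat.card ↥(B ⊓ D')) (Set.toFinite _) ⟨A, hA, Subgroup.le_normalClosure⟩
  refine ⟨B, hBm, ?_, hBN⟩
  haveI := hS.isNilpotent
  by_contra hBn
  set NB := Subgroup.normalizer (B : Set S) with hNB
  have hlt : NB < ⊤ := lt_top_iff_ne_top.2 fun h => hBn (Subgroup.normalizer_eq_top_iff.1 h)
  obtain ⟨x, hxN, hxB⟩ : ∃ x ∈ Subgroup.normalizer (NB : Set S), x ∉ NB :=
    SetLike.exists_of_lt (Group.normalizerCondition_of_isNilpotent NB hlt)
  set B' := B.map (MulAut.conj x).toMonoidHom with hB'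
  have hcard' : Nat.card B' = Nat.card B := Subgroup.card_map_of_injective (MulAut.conj x).injective
  have hB'n : B' ≤ NB := by
    rintro _ ⟨b, hb, rfl⟩
    exact (Subgroup.mem_normalizer_iff.1 hxN b).1 (Subgroup.le_normalizer hb)
  have hB'N : B' ≤ N := by
    rintro _ ⟨b, hb, rfl⟩
    exact (inferInstance : (Subgroup.normalClosure (A : Set S)).Normal).conj_mem b (hBN hb) x
  have hB'ab : IsMulCommutative ↥B' := by
    refine CfsgLib.LocalEven.isMulCommutative_of_le_centralizer ?_
    rintro _ ⟨b, hb, rfl⟩ _ ⟨c, hc, rfl⟩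
    rw [← map_mul, ← map_mul, CfsgLib.LocalEven.le_centralizer_of_isMulCommutative hBm.1 hb c hc]
  set J := B' ⊔ B with hJ
  set D := J ⊓ D' with hD
  have hJD : J = B ⊔ D := by
    refine le_antisymm (sup_le ?_ le_sup_left) (sup_le le_sup_right inf_le_left)
    rintro _ ⟨b, hb, rfl⟩
    have h1 : b⁻¹ * (x * b * x⁻¹) ∈ D := by
      refine ⟨J.mul_mem (J.inv_mem (Subgroup.mem_sup_right hb))
        (Subgroup.mem_sup_left ⟨b, hb, rfl⟩), ?_⟩
      open commutatorElement in
      have e : b⁻¹ * (x * b * x⁻¹) = ⁅b⁻¹, x⁆ := by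
        rw [commutatorElement_def]; group
      rw [e]
      exact Subgroup.commutator_mem_commutator (Subgroup.mem_top _) (Subgroup.mem_top _)
    have := Subgroup.mul_mem_sup (S := B) (T := D) hb h1
    simpa using this
  have hD'c : D' ≤ Subgroup.centralizer (D' : Set S) :=
    CfsgLib.LocalEven.le_centralizer_of_isMulCommutative hmeta
  have hBDB' : B ⊓ D ≤ B' := by
    intro z hz
    have hzJ : z ∈ Subgroup.centralizer (J : Set S) := by
      have : J ≤ Subgroup.centralizer ({z} : Set S) := by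
        rw [hJD]
        refine sup_le (fun b hb => Subgroup.mem_centralizer_singleton_iff.2 ?_)
          (fun d hd => Subgroup.mem_centralizer_singleton_iff.2 ?_)
        · exact (CfsgLib.LocalEven.le_centralizer_of_isMulCommutative hBm.1 hb z hz.1).symm
        · exact (hD'c hd.2 z hz.2.2).symm
      exact Subgroup.mem_centralizer_iff.2 fun y hy =>
        Subgroup.mem_centralizer_singleton_iff.1 (this hy)
    by_contra hzB
    have hab : IsMulCommutative ↥(Subgroup.zpowers z ⊔ B') := by
      refine CfsgLib.LocalEven.isMulCommutative_sup inferInstance hB'ab ?_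
      rw [Subgroup.zpowers_le]
      exact Subgroup.centralizer_le (fun y hy => (le_sup_left : B' ≤ J) hy) hzJ
    have hlt2 : B' < Subgroup.zpowers z ⊔ B' :=
      lt_of_le_of_ne le_sup_right fun h => hzB (h ▸ Subgroup.mem_sup_left (Subgroup.mem_zpowers z))
    have h1 := hBm.2 _ hab
    have h2 : Nat.card B' < Nat.card ↥(Subgroup.zpowers z ⊔ B') := by
      by_contra h
      exact hlt2.ne (Subgroup.eq_of_le_of_card_ge hlt2.le (not_lt.1 h))
    omega
  have hBn' : B ≤ Subgroup.normalizer (D : Set S) := by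
    refine le_trans ?_ Subgroup.inf_normalizer_le_normalizer_inf
    exact le_inf (le_sup_right.trans Subgroup.le_normalizer)
      (le_top.trans (Subgroup.normalizer_eq_top_iff.2 inferInstance).ge)
  set I := B ⊓ B' with hI
  have hIn : I ≤ Subgroup.normalizer (D : Set S) := inf_le_left.trans hBn'
  have hID : I ⊓ D = B ⊓ D := le_antisymm (inf_le_inf_right _ inf_le_left)
    (le_inf (le_inf inf_le_left hBDB') inf_le_right)
  set C := I ⊔ D with hC
  have hCab : IsMulCommutative ↥C := by
    refine CfsgLib.LocalEven.isMulCommutative_sup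
      (CfsgLib.LocalEven.isMulCommutative_of_le_centralizer fun a ha b hb =>
        CfsgLib.LocalEven.le_centralizer_of_isMulCommutative hBm.1 ha.1 b hb.1)
      (CfsgLib.LocalEven.isMulCommutative_of_le_centralizer fun a ha b hb => hD'c ha.2 b hb.2) ?_
    intro i hi d hd
    have hdJ : d ∈ J := hd.1
    have : J ≤ Subgroup.centralizer ({i} : Set S) := sup_le
      (fun b hb => Subgroup.mem_centralizer_singleton_iff.2
        (CfsgLib.LocalEven.le_centralizer_of_isMulCommutative hB'ab hi.2 b hb))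
      (fun b hb => Subgroup.mem_centralizer_singleton_iff.2
        (CfsgLib.LocalEven.le_centralizer_of_isMulCommutative hBm.1 hi.1 b hb))
    exact Subgroup.mem_centralizer_singleton_iff.1 (this hdJ)
  have e1 := CfsgLib.Coprime.card_sup_mul_card_inf (H := I) (N := D) hIn
  have e2 := CfsgLib.Coprime.card_sup_mul_card_inf (H := B) (N := D) hBn'
  have e3 := CfsgLib.Coprime.card_sup_mul_card_inf (H := B') (N := B) hB'n
  rw [← hC, hID] at e1
  rw [← hJD] at e2
  rw [inf_comm B' B, ← hI, hcard', ← hJ] at e3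
  have hcardC : Nat.card C = Nat.card B := by
    have hx1 : 0 < Nat.card ↥(B ⊓ D) := Nat.card_pos
    have hx2 : 0 < Nat.card B := Nat.card_pos
    refine Nat.eq_of_mul_eq_mul_right (Nat.mul_pos hx1 hx2) ?_
    calc Nat.card C * (Nat.card ↥(B ⊓ D) * Nat.card B)
        = (Nat.card C * Nat.card ↥(B ⊓ D)) * Nat.card B := by ring
      _ = Nat.card I * (Nat.card B * Nat.card D) := by rw [e1]; ring
      _ = Nat.card I * (Nat.card J * Nat.card ↥(B ⊓ D)) := by rw [e2]
      _ = (Nat.card J * Nat.card I) * Nat.card ↥(B ⊓ D) := by ring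
      _ = Nat.card B * Nat.card B * Nat.card ↥(B ⊓ D) := by rw [e3]
      _ = Nat.card B * (Nat.card ↥(B ⊓ D) * Nat.card B) := by ring
  have hCm : C ∈ Cfsg.maxAbelianSubgroups S :=
    ⟨hCab, fun E hE => (hBm.2 E hE).trans_eq hcardC.symm⟩
  have hCN : C ≤ N := sup_le (inf_le_left.trans hBN) (inf_le_left.trans (sup_le hB'N hBN))
  have hle : B ⊓ D' ≤ C ⊓ D' := fun z hz =>
    ⟨(le_sup_right : D ≤ C) ⟨Subgroup.mem_sup_right hz.1, hz.2⟩, hz.2⟩
  have hge := hBmax C ⟨hCm, hCN⟩
  have heq : B ⊓ D' = C ⊓ D' := Subgroup.eq_of_le_of_card_ge hle hge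
  have hDB : D ≤ B := fun z hz => (heq.ge ⟨(le_sup_right : D ≤ C) hz, hz.2⟩).1
  have hB'B : B' ≤ B := (le_sup_left : B' ≤ J).trans (hJD.le.trans (sup_le le_rfl hDB))
  have hBB : B' = B := Subgroup.eq_of_le_of_card_ge hB'B hcard'.ge
  exact hxB (CfsgLib.Base.map_conj_eq_self_iff.1 hBB)

end Cfsg.Agent.S3063
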