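import Cfsg.Statements.S3064
import Cfsg.Agent.Lib.CharsMore.Frobenius
-- import your own Cfsg.Agent.* helpers here

set_option autoImplicit false
set_option linter.unusedSectionVars false
open Cfsg

namespace Cfsg.Agent.S3064

universe u

/-- Induction on the order of the group: a weakly closed `p`-element centralising every `p'`-subgroup
it normalises is central. -/
theorem central_of_weaklyClosed {p : ℕ} [hp : Fact p.Prime] (n : ℕ) :
    ∀ (G : Type u) [Group G] [Finite G], Nat.card G = n → ∀ x : G,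
    IsPGroup p ↥(Subgroup.zpowers x) →
    (∀ R : Subgroup G, IsPGroup p ↥R → x ∈ R → ∀ g : G, g * x * g⁻¹ ∈ R → g * x * g⁻¹ = x) →
    (∀ H : Subgroup G, (Nat.card H).Coprime p → (∀ h ∈ H, x * h * x⁻¹ ∈ H) →
      ∀ h ∈ H, x * h = h * x) →
    x ∈ Subgroup.center G := by
  induction n using Nat.strong_induction_on with
  | _ n ih =>
  intro G _ _ hn x hxp hW hB
  by_contra hxZ
  set M : Subgroup G := Subgroup.centralizer {x} with hMdef
  set Z : Subgroup G := Subgroup.center G with hZdef
  have hxM : x ∈ M := Subgroup.mem_centralizer_singleton_iff.2 rfl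
  have hMtop : M ≠ ⊤ := fun h => hxZ (Subgroup.mem_center_iff.2 fun g =>
    Subgroup.mem_centralizer_singleton_iff.1 (show g ∈ M from h ▸ Subgroup.mem_top g))
  have hZM : Z ≤ M := Subgroup.center_le_centralizer _
  have hprop : ∀ H : Subgroup G, H ≠ ⊤ → x ∈ H → H ≤ M := by
    intro H hH hxH
    have hlt : Nat.card H < n := hn ▸
      lt_of_le_of_ne (Subgroup.card_le_card_group H)
        (fun h => hH (Subgroup.eq_top_of_card_eq H h))
    have hc := ih _ hlt H rfl ⟨x, hxH⟩
      ((hxp.comap_subtype (K := H)).to_le (Subgroup.zpowers_le.2 (Subgroup.mem_zpowers x)))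
      (fun R hR hxR g hg => Subtype.ext (hW (R.map H.subtype) (hR.map _) ⟨_, hxR, rfl⟩ g
        ⟨_, hg, rfl⟩))
      (fun K hK hxK h hh => Subtype.ext (hB (K.map H.subtype)
        (by rwa [Nat.card_congr (K.equivMapOfInjective H.subtype H.subtype_injective).toEquiv.symm])
        (by rintro _ ⟨k, hk, rfl⟩; exact ⟨_, hxK k hk, rfl⟩) h ⟨h, hh, rfl⟩))
    intro h hh
    exact Subgroup.mem_centralizer_singleton_iff.2
      (congrArg Subtype.val (Subgroup.mem_center_iff.1 hc ⟨h, hh⟩))
  -- two distinct conjugates generate the group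
  have hgen : ∀ g, g ∉ M → Subgroup.zpowers x ⊔ Subgroup.zpowers (g * x * g⁻¹) = ⊤ := by
    intro g hg
    by_contra hne
    have hle := hprop _ hne (le_sup_left (b := Subgroup.zpowers _) (Subgroup.mem_zpowers x))
    have hy : g * x * g⁻¹ ∈ M :=
      hle (le_sup_right (a := Subgroup.zpowers x) (Subgroup.mem_zpowers _))
    have hnorm : Subgroup.zpowers (g * x * g⁻¹) ≤
        Subgroup.normalizer (Subgroup.zpowers x : Set G) := by
      refine le_trans ?_ (Subgroup.centralizer_le_normalizer _)
      rw [Subgroup.zpowers_le, Subgroup.mem_centralizer_iff]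
      rintro _ ⟨i, rfl⟩
      exact ((show Commute (g * x * g⁻¹) x from Subgroup.mem_centralizer_singleton_iff.1 hy).symm.zpow_left i).eq
    have hyp : IsPGroup p ↥(Subgroup.zpowers (g * x * g⁻¹)) := by
      have h := hxp.map (MulAut.conj g).toMonoidHom
      rwa [MonoidHom.map_zpowers] at h
    have hR := IsPGroup.to_sup_of_normal_left' hxp hyp hnorm
    have := hW _ hR (le_sup_left (b := Subgroup.zpowers _) (Subgroup.mem_zpowers x)) g
      (le_sup_right (a := Subgroup.zpowers x) (Subgroup.mem_zpowers _))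
    exact hg (Subgroup.mem_centralizer_singleton_iff.2 (mul_inv_eq_iff_eq_mul.1 this))
  have hTI0 : ∀ g, g ∉ M → ∀ h ∈ M, g * h * g⁻¹ ∈ M → h ∈ Z := by
    intro g hg h hh hgh
    have hxh : Commute x h := (Subgroup.mem_centralizer_singleton_iff.1 hh).symm
    have hk : g * h * g⁻¹ ∈ Z := by
      refine Subgroup.mem_center_iff.2 fun w => ?_
      have hle : Subgroup.zpowers x ⊔ Subgroup.zpowers (g * x * g⁻¹) ≤
          Subgroup.centralizer {g * h * g⁻¹} :=
        sup_le (Subgroup.zpowers_le.2 (Subgroup.mem_centralizer_singleton_iff.2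
            (Subgroup.mem_centralizer_singleton_iff.1 hgh).symm))
          (Subgroup.zpowers_le.2 (Subgroup.mem_centralizer_singleton_iff.2
            (hxh.map (MulAut.conj g)).eq))
      exact Subgroup.mem_centralizer_singleton_iff.1 (hle (hgen g hg ▸ Subgroup.mem_top w))
    have := (inferInstance : Z.Normal).conj_mem _ hk g⁻¹
    simpa [mul_assoc] using this
  set π := QuotientGroup.mk' Z with hπ
  have hker : π.ker = Z := QuotientGroup.ker_mk' Z
  have hcomap : ∀ g : G, π g ∈ M.map π → g ∈ M := by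
    intro g hg
    have : g ∈ (M.map π).comap π := hg
    rwa [Subgroup.comap_map_eq, hker, sup_eq_left.2 hZM] at this
  obtain ⟨N, hNn, hcompl, -⟩ := CfsgLib.CharsMore.exists_frobenius_kernel (M.map π) (by
    intro a ha _ hb hab
    obtain ⟨g, rfl⟩ := QuotientGroup.mk'_surjective Z a
    obtain ⟨h, hh, rfl⟩ := hb
    rw [← map_inv, ← map_mul, ← map_mul] at hab
    rw [← MonoidHom.mem_ker, hker]
    exact hTI0 g (fun hg => ha ⟨g, hg, rfl⟩) h hh (hcomap _ hab))
  set K : Subgroup G := N.comap π with hKdef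
  have : K.Normal := hNn.comap π
  have hKM : ∀ k ∈ K, k ∈ M → k ∈ Z := by
    intro k hk hkM
    have : π k ∈ N ⊓ M.map π := ⟨hk, k, hkM, rfl⟩
    rw [hcompl.disjoint.eq_bot, Subgroup.mem_bot] at this
    rwa [← hker, MonoidHom.mem_ker]
  obtain ⟨P, hP⟩ := hxp.exists_le_sylow
  have hPM : (P : Subgroup G) ≤ M := by
    intro s hs
    have hxP : x ∈ (P : Subgroup G) := hP (Subgroup.mem_zpowers x)
    have := hW _ P.2 hxP s (mul_mem (mul_mem hs hxP) (inv_mem hs))
    exact Subgroup.mem_centralizer_singleton_iff.2 (mul_inv_eq_iff_eq_mul.1 this)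
  have hKidx : Z.relIndex K = M.index := by
    have h1 := Subgroup.relIndex_comap (⊥ : Subgroup (G ⧸ Z)) π K
    rw [MonoidHom.comap_bot, hker, Subgroup.map_comap_eq_self_of_surjective
      (QuotientGroup.mk'_surjective Z), Subgroup.relIndex_bot_left] at h1
    rw [h1, ← hcompl.index_eq_card, Subgroup.index_map_eq M (QuotientGroup.mk'_surjective Z)
      (hker.le.trans hZM)]
  have hpK : ¬ p ∣ Z.relIndex K := fun h =>
    P.not_dvd_index ((hKidx ▸ h).trans (Subgroup.index_dvd_of_le hPM))
  have hone : (Z.subgroupOf K).index = 1 := by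
    refine Nat.eq_one_iff_not_exists_prime_dvd.2 fun q hq hdvd => ?_
    have := Fact.mk hq
    by_cases hqp : q = p
    · exact hpK (hqp ▸ hdvd)
    obtain ⟨Q⟩ : Nonempty (Sylow q K) := inferInstance
    set N' := Subgroup.normalizer (((Q : Subgroup K).map K.subtype : Subgroup G) : Set G) with hN'
    have htop : N' ⊔ K = ⊤ := Q.normalizer_sup_eq_top
    have hN'idx : N'.index = N'.relIndex K := by
      have h1 : (N' ⊓ K).relIndex N' * N'.index = (N' ⊓ K).index :=
        Subgroup.relIndex_mul_index inf_le_left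
      have h2 : (N' ⊓ K).relIndex K * K.index = (N' ⊓ K).index :=
        Subgroup.relIndex_mul_index inf_le_right
      have h3 : K.relIndex N' = K.index := by
        rw [← Subgroup.relIndex_sup_right N' K, htop, Subgroup.relIndex_top_right]
      rw [Subgroup.inf_relIndex_left, h3] at h1
      rw [Subgroup.inf_relIndex_right] at h2
      refine Nat.eq_of_mul_eq_mul_left (Nat.pos_of_ne_zero K.index_ne_zero_of_finite) ?_
      rw [h1, ← h2, mul_comm]
    have hpN : ¬ p ∣ Nat.card (G ⧸ N') := by
      rw [← Subgroup.index_eq_card, hN'idx]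
      refine fun h => hpK (h.trans (Subgroup.relIndex_dvd_of_le_left K ?_))
      exact le_trans (Subgroup.center_le_centralizer _) (Subgroup.centralizer_le_normalizer _)
    obtain ⟨c, hc⟩ := hxp.nonempty_fixed_point_of_prime_not_dvd_card (G ⧸ N') hpN
    obtain ⟨g, rfl⟩ := QuotientGroup.mk_surjective c
    have hg : g⁻¹ * x * g ∈ N' := by
      have h := hc ⟨x, Subgroup.mem_zpowers x⟩
      have h' : ((x * g : G) : G ⧸ N') = (g : G ⧸ N') := h
      have := QuotientGroup.eq.1 h'.symm
      rwa [← mul_assoc] at this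
    have hQZ : (Q : Subgroup K) ≤ Z.subgroupOf K := by
      intro w hw
      have hcop : (Nat.card (((Q : Subgroup K).map K.subtype).map
          (MulAut.conj g).toMonoidHom : Subgroup G)).Coprime p := by
        rw [Subgroup.card_map_of_injective (MulAut.conj g).injective,
          Subgroup.card_map_of_injective K.subtype_injective]
        obtain ⟨k, hk⟩ := Q.2.exists_card_eq
        rw [hk]
        exact Nat.Coprime.pow_left _ ((Nat.coprime_primes hq hp.out).2 hqp)
      have hm : g * (w : G) * g⁻¹ ∈ ((Q : Subgroup K).map K.subtype).map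
          (MulAut.conj g).toMonoidHom := ⟨w, ⟨w, hw, rfl⟩, rfl⟩
      have hcomm := hB _ hcop (by
        rintro _ ⟨v, hv, rfl⟩
        refine ⟨(g⁻¹ * x * g) * v * (g⁻¹ * x * g)⁻¹,
          (Subgroup.mem_normalizer_iff.1 hg v).1 hv, ?_⟩
        simp only [MulEquiv.coe_toMonoidHom, MulAut.conj_apply]
        group) _ hm
      have hz := hKM _ ((inferInstance : K.Normal).conj_mem _ w.2 g)
        (Subgroup.mem_centralizer_singleton_iff.2 hcomm.symm)
      have := (inferInstance : Z.Normal).conj_mem _ hz g⁻¹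
      simpa [mul_assoc, Subgroup.mem_subgroupOf] using this
    exact Q.not_dvd_index (hdvd.trans (Subgroup.index_dvd_of_le hQZ))
  have hKZ : K ≤ Z := Subgroup.subgroupOf_eq_top.1 (Subgroup.index_eq_one.1 hone)
  refine hMtop ((Subgroup.eq_top_iff' M).2 fun g => ?_)
  obtain ⟨⟨⟨a, ha⟩, ⟨_, m, hm, rfl⟩⟩, e⟩ := hcompl.surjective (π g)
  have hk : g * m⁻¹ ∈ K := by
    show π (g * m⁻¹) ∈ N
    have e' : a * π m = π g := e
    rwa [map_mul, map_inv, ← e', mul_inv_cancel_right]
  simpa using mul_mem (hZM (hKZ hk)) hm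

/-- Let S be a Sylow p-subgroup of the finite group G and x an element of S such that (i) x is the only G-conjugate of x lying in S, and (ii) x centralizes every subgroup of order prime to p that it normalizes. Then x lies in the centre of G. -/
theorem result {G : Type*} [Group G] [Finite G] {p : ℕ} [Fact p.Prime]
    (S : Sylow p G) (x : G) (hx : x ∈ S)
    (hU : ∀ g : G, g⁻¹ * x * g ∈ S → g⁻¹ * x * g = x)
    (hb : ∀ H : Subgroup G, (Nat.card H).Coprime p → (∀ h ∈ H, x * h * x⁻¹ ∈ H) → ∀ h ∈ H, x * h = h * x) :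
    x ∈ Subgroup.center G := by
  have hxp : IsPGroup p ↥(Subgroup.zpowers x) := S.2.to_le (Subgroup.zpowers_le.2 hx)
  refine central_of_weaklyClosed _ G rfl x hxp ?_ hb
  intro R hR hxR g hg
  obtain ⟨T, hT⟩ := hR.exists_le_sylow
  obtain ⟨c, hc⟩ := MulAction.exists_smul_eq G T S
  have hmem : ∀ r ∈ R, c * r * c⁻¹ ∈ (S : Subgroup G) := by
    intro r hr
    rw [← hc]
    exact ⟨r, hT hr, rfl⟩
  have h1 : c * x * c⁻¹ = x := by
    have := hmem x hxR
    have h := hU c⁻¹ (by rw [inv_inv]; exact this)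
    simpa using h
  have h2 : c * (g * x * g⁻¹) * c⁻¹ = x := by
    have e : c * (g * x * g⁻¹) * c⁻¹ = ((c * g)⁻¹)⁻¹ * x * (c * g)⁻¹ := by group
    have h3 := hmem _ hg
    rw [e] at h3 ⊢
    exact hU _ h3
  exact mul_left_cancel (mul_right_cancel (h2.trans h1.symm))

end Cfsg.Agent.S3064
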