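import Cfsg.Statements.S3068
import Cfsg.Agent.Lib.PLocal.ThompsonTransfer.Control

set_option autoImplicit false
open Cfsg

namespace Cfsg.Agent.S3068

/-- Let p ≥ 7 be a prime, S a Sylow p-subgroup of the finite group G, J(S) the subgroup generated by the abelian subgroups of S of largest order and M = N_G(J(S)). Then G/O^p(G) ≅ M/O^p(M): the largest p-factor group of G is that of M (here O^p(X) is the subgroup generated by the elements of X of order prime to p). -/
theorem result {G : Type*} [Group G] [Finite G] {p : ℕ} [Fact p.Prime]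
    (hp : 7 ≤ p) (S : Sylow p G)
    [hn : (Cfsg.pResidual p G).Normal]
    [hm : (Cfsg.pResidual p ↥(Subgroup.normalizer (Cfsg.thompsonSubgroupAOf (S : Subgroup G) : Set G))).Normal] :
    Nonempty (G ⧸ Cfsg.pResidual p G ≃*
      ↥(Subgroup.normalizer (Cfsg.thompsonSubgroupAOf (S : Subgroup G) : Set G)) ⧸
        Cfsg.pResidual p ↥(Subgroup.normalizer (Cfsg.thompsonSubgroupAOf (S : Subgroup G) : Set G))) := by
  have hW := CfsgLib.PLocal.TTransfer.isCharPFunctor_thompsonSubgroupA p
  have htr := CfsgLib.KInf.transfer_eq_of_controls (CfsgLib.Techniques.isConjugacyFunctor_induced hW)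
    (CfsgLib.PLocal.TTransfer.thompsonA_controlsTransfer (G := G) hp) S
  refine CfsgLib.PLocal.TTransfer.nonempty_quotient_pResidual_equiv
    (H := Subgroup.normalizer (Cfsg.thompsonSubgroupAOf (S : Subgroup G) : Set G)) S ?_ htr
  intro s hs
  haveI : (Cfsg.thompsonSubgroupA ↥(S : Subgroup G)).Normal := by
    refine Subgroup.Normal.mk fun x hx g => ?_
    exact CfsgLib.PLocal.TTransfer.map_thompsonSubgroupA_le (MulAut.conj g) ⟨x, hx, rfl⟩
  refine Subgroup.mem_normalizer_iff.2 fun y => ⟨?_, ?_⟩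
  · rintro ⟨c, hc, rfl⟩
    exact ⟨⟨s, hs⟩ * c * ⟨s, hs⟩⁻¹, Subgroup.Normal.conj_mem inferInstance c hc _, rfl⟩
  · rintro ⟨c, hc, he⟩
    refine ⟨⟨s, hs⟩⁻¹ * c * ⟨s, hs⟩⁻¹⁻¹, Subgroup.Normal.conj_mem inferInstance c hc _, ?_⟩
    simp only [Subgroup.coe_subtype, Subgroup.coe_mul, Subgroup.coe_inv] at he ⊢
    rw [he]; group

end Cfsg.Agent.S3068
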