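import Cfsg.Statements.S3070
import Cfsg.Agent.Lib.LocalEven.JNormComplement.Main

set_option autoImplicit false
open Cfsg

set_option linter.style.haveILetI false

namespace Cfsg.Agent.S3070

/-- Let p ≥ 5 be a prime, S a Sylow p-subgroup of the finite group G and J(S) the subgroup generated by the abelian subgroups of S of largest order. Then G has a normal p-complement if and only if N_G(J(S))/C_G(J(S)) is a p-group (every element of N_G(J(S)) of order prime to p centralizes J(S)). -/
theorem result {G : Type*} [Group G] [Finite G] {p : ℕ} [Fact p.Prime]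
    (hp : 5 ≤ p) (S : Sylow p G) :
    Cfsg.HasNormalPComplement p G ↔
      ∀ g ∈ Subgroup.normalizer (Cfsg.thompsonSubgroupAOf (S : Subgroup G) : Set G), (orderOf g).Coprime p →
        g ∈ Subgroup.centralizer (Cfsg.thompsonSubgroupAOf (S : Subgroup G) : Set G) := by
  constructor
  · intro h g hg hgc
    rw [CfsgLib.LocalEven.thompsonSubgroupAOf_eq_jAb] at hg ⊢
    set J := CfsgLib.LocalEven.jAb (S : Subgroup G) with hJ
    set N := Subgroup.normalizer (J : Set G)
    have hN := CfsgLib.Transfer.hasNormalPComplement_subgroup h N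
    have hn := CfsgLib.Transfer.pResidual_normal (G := N) (p := p)
    have hgR : (⟨g, hg⟩ : N) ∈ Cfsg.pResidual p N :=
      CfsgLib.Transfer.mem_pResidual_of_coprime ((Subgroup.orderOf_mk g hg).symm ▸ hgc)
    refine Subgroup.mem_centralizer_iff.2 fun x hx => ?_
    have hxN : x ∈ N := Subgroup.le_normalizer hx
    have hd : g * x * g⁻¹ * x⁻¹ ∈ J :=
      mul_mem ((Subgroup.mem_normalizer_iff.1 hg x).1 hx) (inv_mem hx)
    have hm : (⟨g * x * g⁻¹ * x⁻¹, Subgroup.le_normalizer hd⟩ : N) ∈ Cfsg.pResidual p N := by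
      have := mul_mem hgR (hn.conj_mem _ (inv_mem hgR) ⟨x, hxN⟩)
      convert this using 1
      exact Subtype.ext (by simp [mul_assoc])
    have h1 := (CfsgLib.Transfer.mem_pResidual_iff hN).1 hm
    rw [Subgroup.orderOf_mk] at h1
    obtain ⟨k, hk⟩ := (S.2.to_le (CfsgLib.LocalEven.jAb_le _)) ⟨_, hd⟩
    have h2 : g * x * g⁻¹ * x⁻¹ = 1 := by
      rw [← orderOf_eq_one_iff]
      exact Nat.eq_one_of_dvd_coprimes (h1.pow_right k) dvd_rfl
        (orderOf_dvd_of_pow_eq_one (congrArg Subtype.val hk))
    rw [mul_inv_eq_one, mul_inv_eq_iff_eq_mul] at h2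
    exact h2.symm
  · intro h
    refine CfsgLib.LocalEven.JNormComplement.hasNormalPComplement_of_jHyp hp S ?_
    intro g hg hgc
    rw [← CfsgLib.LocalEven.thompsonSubgroupAOf_eq_jAb] at hg ⊢
    exact h g hg hgc

end Cfsg.Agent.S3070
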