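import Cfsg.Statements.S3071
import Cfsg.Agent.Lib.LocalEven.CentricZJ
-- import your own Cfsg.Agent.* helpers here

set_option autoImplicit false
open Cfsg

namespace Cfsg.Agent.S3071

/-- Let p be an odd prime and S a Sylow p-subgroup of the finite group G such that, for every subgroup P with Z(S) ≤ P ≤ S, the normalizer N_G(P) has no section isomorphic to SL₂(p). Let J(S) be the subgroup generated by the abelian subgroups of S of largest order. Then two elements of S are conjugate in G if and only if they are conjugate in N_G(Z(J(S))). -/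
theorem result {G : Type*} [Group G] [Finite G] {p : ℕ} [Fact p.Prime]
    (hp : p ≠ 2) (S : Sylow p G)
    (hfree : ∀ P : Subgroup G, (S : Subgroup G) ⊓ Subgroup.centralizer ((S : Subgroup G) : Set G) ≤ P → P ≤ S →
      ¬ ∃ (H K : Subgroup G) (hK : (K.subgroupOf H).Normal), H ≤ Subgroup.normalizer (P : Set G) ∧
        Nonempty ((H ⧸ K.subgroupOf H) ≃* Matrix.SpecialLinearGroup (Fin 2) (ZMod p))) :
    ∀ x ∈ S, ∀ y ∈ S, (∃ g : G, g * x * g⁻¹ = y) ↔
      ∃ n ∈ Subgroup.normalizer (Cfsg.centerThompsonAOf (S : Subgroup G) : Set G), n * x * n⁻¹ = y := by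
  intro x hx y hy
  refine ⟨fun ⟨g, hg⟩ => ?_, fun ⟨n, _, hn⟩ => ⟨n, hn⟩⟩
  obtain ⟨m, hm, hm'⟩ := CfsgLib.LocalEven.CentricZJ.controls hp S (fun Q hQ hZQ hinv => by
    set N := Subgroup.normalizer (Q : Set G) with hN
    obtain ⟨K₀, f, hf⟩ := hinv
    have heq : ((f.ker.map K₀.subtype).map N.subtype).subgroupOf (K₀.map N.subtype) =
        f.ker.map (K₀.equivMapOfInjective N.subtype N.subtype_injective).toMonoidHom := by
      apply Subgroup.map_injective (K₀.map N.subtype).subtype_injective
      rw [Subgroup.map_subgroupOf_eq_of_le (Subgroup.map_mono (Subgroup.map_subtype_le _)),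
        Subgroup.map_map, Subgroup.map_map]
      rfl
    haveI hn : (((f.ker.map K₀.subtype).map N.subtype).subgroupOf (K₀.map N.subtype)).Normal := by
      rw [heq]
      exact Subgroup.Normal.map inferInstance _
        (K₀.equivMapOfInjective N.subtype N.subtype_injective).surjective
    refine hfree Q hZQ hQ ⟨K₀.map N.subtype, (f.ker.map K₀.subtype).map N.subtype, hn,
      Subgroup.map_subtype_le _, ⟨?_⟩⟩
    exact (QuotientGroup.congr f.ker _ (K₀.equivMapOfInjective N.subtype N.subtype_injective) heq.symm).symm.trans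
      (QuotientGroup.quotientKerEquivOfSurjective f hf)) (A := {x}) (Set.singleton_subset_iff.2 hx)
      (Set.singleton_nonempty x) (g := g⁻¹)
      (fun a ha => by rw [Set.mem_singleton_iff.1 ha, inv_inv, hg]; exact hy)
  refine ⟨m⁻¹, inv_mem hm, ?_⟩
  have h := hm' x (Set.mem_singleton x)
  rw [inv_inv] at h ⊢
  rw [h, hg]

end Cfsg.Agent.S3071
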