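import Cfsg.Statements.S3076
import Cfsg.Agent.Lib.Transfer.NormalPComplement
import Cfsg.Agent.Lib.Base.Cores
-- import your own Cfsg.Agent.* helpers here

set_option autoImplicit false
set_option linter.style.haveILetI false
open Cfsg

namespace Cfsg.Agent.S3076

theorem relIndex_dvd_index_of_normal {N : Type*} [Group N] [Finite N] (T C : Subgroup N) [C.Normal] :
    T.relIndex C ∣ T.index := by
  have e1 := Subgroup.relIndex_mul_relIndex (T ⊓ C) C (T ⊔ C) inf_le_right le_sup_right
  have e2 := Subgroup.relIndex_mul_relIndex (T ⊓ C) T (T ⊔ C) inf_le_left le_sup_left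
  rw [Subgroup.inf_relIndex_right, Subgroup.relIndex_sup_right] at e1
  rw [Subgroup.inf_relIndex_left, ← e1, mul_comm (T.relIndex C)] at e2
  have h3 : T.relIndex (T ⊔ C) = T.relIndex C :=
    Nat.eq_of_mul_eq_mul_left (Nat.pos_of_ne_zero (Subgroup.index_ne_zero_of_finite (H := C.subgroupOf T))) e2
  rw [← h3]
  exact Dvd.intro _ (Subgroup.relIndex_mul_index le_sup_left)

variable {N : Type*} [Group N] [Finite N] {p : ℕ} [hp : Fact p.Prime]

/-- The statement inside `N`, with `H` a normal `p`-subgroup, `C` its centraliser and `T` a Sylow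
subgroup. -/
theorem local_criterion (T : Sylow p N) (H C : Subgroup N) [H.Normal] [C.Normal]
    (hC : C = Subgroup.centralizer (H : Set N)) (hHT : H ≤ (T : Subgroup N)) :
    let X := (Cfsg.pCore p (N ⧸ C)).comap (QuotientGroup.mk' C)
    (H ≤ X ∧ ¬ p ∣ H.relIndex X) ↔
      ((T : Subgroup N) ⊓ C ≤ H ∧ Cfsg.pPrimePCore p N = H ⊔ C) := by
  intro X
  have hHp : IsPGroup p H := T.2.to_le hHT
  set O' := Cfsg.pPrimeCore p N
  have hO'n : O'.Normal := Cfsg.pPrimeCore_normal p N
  have hCX : C ≤ X := by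
    intro c hc
    show QuotientGroup.mk' C c ∈ Cfsg.pCore p (N ⧸ C)
    rw [show QuotientGroup.mk' C c = 1 from (QuotientGroup.eq_one_iff c).2 hc]
    exact one_mem _
  have hHX : H ≤ X := by
    rw [← Subgroup.map_le_iff_le_comap]
    have : (H.map (QuotientGroup.mk' C)).Normal :=
      (inferInstance : H.Normal).map _ (QuotientGroup.mk'_surjective C)
    exact CfsgLib.Base.le_pCore (hHp.map _)
  have hO'C : O' ≤ C := by
    rw [hC]
    intro o ho
    refine Subgroup.mem_centralizer_iff.2 fun h hh => ?_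
    exact Subgroup.commute_of_normal_of_disjoint H O' inferInstance hO'n
      (disjoint_iff.2 (CfsgLib.Base.inf_eq_bot_of_isPGroup_of_coprime hHp
        (CfsgLib.Base.pPrimeCore_coprime p N))) h o hh ho
  have hXn : X.Normal := (Cfsg.pCore_normal p (N ⧸ C)).comap _
  -- with a central Sylow subgroup of `C`, `X = O_{p',p}(N)`
  have hXO : (T : Subgroup N) ⊓ C ≤ H → Cfsg.pPrimePCore p N = X := by
    intro hle
    have hcoef : ∀ x ∈ X, (orderOf x).Coprime p → x ∈ O' := by
      intro x hx hcop
      have hxC : x ∈ C := by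
        refine (QuotientGroup.eq_one_iff x).1 ?_
        obtain ⟨k, hk⟩ := (CfsgLib.Base.isPGroup_pCore p (N ⧸ C))
          ⟨QuotientGroup.mk' C x, hx⟩
        have h1 : orderOf (QuotientGroup.mk' C x) ∣ p ^ k :=
          orderOf_dvd_of_pow_eq_one (congrArg Subtype.val hk)
        exact orderOf_eq_one_iff.1
          (Nat.eq_one_of_dvd_coprimes (hcop.pow_right k) (orderOf_map_dvd (QuotientGroup.mk' C) x) h1)
      have hTC : ¬ p ∣ ((T : Subgroup N) ⊓ C).relIndex C := by
        rw [Subgroup.inf_relIndex_right]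
        intro hd
        have h1 : (T : Subgroup N).relIndex C ∣ (T : Subgroup N).index :=
          relIndex_dvd_index_of_normal _ _
        exact T.not_dvd_index (hd.trans h1)
      set PC : Sylow p C := ((T.2.to_le (inf_le_left : (T : Subgroup N) ⊓ C ≤ T)).comap_subtype
        (K := C)).toSylow hTC with hPC
      have hcent : ∀ c : C, c ∈ Subgroup.centralizer ((PC : Subgroup C) : Set C) := by
        intro c
        refine Subgroup.mem_centralizer_iff.2 fun w hw => Subtype.ext ?_
        have hwH : (w : N) ∈ H := hle hw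
        have hcC : (c : N) ∈ Subgroup.centralizer (H : Set N) := hC ▸ c.2
        exact Subgroup.mem_centralizer_iff.1 hcC _ hwH
      have hnc : Cfsg.HasNormalPComplement p C :=
        CfsgLib.Transfer.hasNormalPComplement_of_normalizer_le_centralizer PC fun c _ => hcent c
      have hres := CfsgLib.Transfer.pResidual_characteristic (G := C) (p := p)
      refine CfsgLib.Base.le_pPrimeCore (N := (Cfsg.pResidual p C).map C.subtype) ?_
        ⟨⟨x, hxC⟩, CfsgLib.Transfer.mem_pResidual_of_coprime (by rwa [Subgroup.orderOf_mk]), rfl⟩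
      rw [Subgroup.card_map_of_injective C.subtype_injective]
      exact (hp.out.coprime_iff_not_dvd.2
        (CfsgLib.Transfer.hasNormalPComplement_iff_pResidual.1 hnc)).symm
    refine le_antisymm ?_ ?_
    · -- the image of `O_{p',p}` modulo `C` is a normal `p`-group
      rw [← Subgroup.map_le_iff_le_comap]
      have hn : (Cfsg.pPrimePCore p N).Normal := (Cfsg.pCore_normal p (N ⧸ O')).comap _
      have := hn.map _ (QuotientGroup.mk'_surjective C)
      refine CfsgLib.Base.le_pCore ?_
      rintro ⟨_, x, hx, rfl⟩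
      obtain ⟨k, hk⟩ := (CfsgLib.Base.isPGroup_pCore p (N ⧸ O')) ⟨QuotientGroup.mk' O' x, hx⟩
      have hk' : QuotientGroup.mk' O' x ^ p ^ k = 1 := congrArg Subtype.val hk
      refine ⟨k, Subtype.ext ?_⟩
      show QuotientGroup.mk' C x ^ p ^ k = 1
      rw [← map_pow] at hk' ⊢
      exact (QuotientGroup.eq_one_iff _).2 (hO'C ((QuotientGroup.eq_one_iff _).1 hk'))
    · rw [Cfsg.pPrimePCore, ← Subgroup.map_le_iff_le_comap]
      have := hXn.map _ (QuotientGroup.mk'_surjective O')
      refine CfsgLib.Base.le_pCore ?_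
      rintro ⟨_, x, hx, rfl⟩
      obtain ⟨a, ha, b, hb, hab, ⟨k, hk⟩, hbc⟩ := CfsgLib.Transfer.exists_pPart_mul (p := p) x
      refine ⟨k, Subtype.ext ?_⟩
      show QuotientGroup.mk' O' x ^ p ^ k = 1
      have hb1 : QuotientGroup.mk' O' b = 1 :=
        (QuotientGroup.eq_one_iff b).2 (hcoef b (Subgroup.zpowers_le.2 hx hb) hbc)
      rw [← hab, map_mul, hb1, mul_one, ← map_pow, orderOf_dvd_iff_pow_eq_one.1 hk, map_one]
  constructor
  · rintro ⟨-, hnd⟩
    have hle : (T : Subgroup N) ⊓ C ≤ H := by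
      have h1 : (H ⊓ C).relIndex C ∣ H.relIndex X := by
        rw [Subgroup.inf_relIndex_right, ← Subgroup.relIndex_sup_left]
        exact Dvd.intro _ (Subgroup.relIndex_mul_relIndex _ _ _ le_sup_left (sup_le hHX hCX))
      have h2 : (H ⊓ C).relIndex ((T : Subgroup N) ⊓ C) ∣ (H ⊓ C).relIndex C :=
        Dvd.intro _ (Subgroup.relIndex_mul_relIndex _ _ _ (inf_le_inf_right C hHT) inf_le_right)
      obtain ⟨k, hk⟩ := (T.2.to_le (inf_le_left : (T : Subgroup N) ⊓ C ≤ T)).index
        ((H ⊓ C).subgroupOf ((T : Subgroup N) ⊓ C))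
      have h3 : (H ⊓ C).relIndex ((T : Subgroup N) ⊓ C) = p ^ k := hk
      rcases k with _ | k
      · exact (Subgroup.relIndex_eq_one.1 (h3.trans (pow_zero p))).trans inf_le_left
      · exact absurd ((h3 ▸ dvd_pow_self p k.succ_ne_zero).trans (h2.trans h1)) hnd
    refine ⟨hle, (hXO hle).trans (le_antisymm ?_ (sup_le hHX hCX))⟩
    -- the index of `H C` in `X` is a power of `p` prime to `p`
    have h1 : (H ⊔ C).relIndex X ∣ H.relIndex X := Subgroup.relIndex_dvd_of_le_left X le_sup_left
    have h2 : (H ⊔ C).relIndex X ∣ C.relIndex X := Subgroup.relIndex_dvd_of_le_left X le_sup_right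
    obtain ⟨n, hn⟩ := CfsgLib.Base.pCore_eq_pow_card p (N ⧸ C)
    have h3 : C.relIndex X = p ^ n := by
      have := Subgroup.relIndex_comap (⊥ : Subgroup (N ⧸ C)) (QuotientGroup.mk' C) X
      rw [MonoidHom.comap_bot, QuotientGroup.ker_mk', Subgroup.map_comap_eq_self_of_surjective
        (QuotientGroup.mk'_surjective C), Subgroup.relIndex_bot_left] at this
      rw [this, hn]
    obtain ⟨j, -, hj⟩ := (Nat.dvd_prime_pow hp.out).1 (h3 ▸ h2)
    rcases j with _ | j
    · exact Subgroup.relIndex_eq_one.1 (hj.trans (pow_zero p))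
    · exact absurd ((hj ▸ dvd_pow_self p j.succ_ne_zero).trans h1) hnd
  · rintro ⟨hle, hO⟩
    refine ⟨hHX, ?_⟩
    rw [← hXO hle, hO, Subgroup.relIndex_sup_left, ← Subgroup.inf_relIndex_right]
    intro hd
    have h1 : ((T : Subgroup N) ⊓ C).relIndex C = (H ⊓ C).relIndex C :=
      congrArg (·.relIndex C) (le_antisymm (le_inf hle inf_le_right) (inf_le_inf_right C hHT))
    rw [← h1, Subgroup.inf_relIndex_right] at hd
    have h2 : (T : Subgroup N).relIndex C ∣ (T : Subgroup N).index :=
      relIndex_dvd_index_of_normal _ _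
    exact T.not_dvd_index (hd.trans h2)

/-- Let P be a Sylow p-subgroup of the finite group G and H ≤ P a subgroup with N_P(H) a Sylow p-subgroup of N_G(H). Let N be the preimage in N_G(H) of O_p(N_G(H)/C_G(H)). Then H is a Sylow p-subgroup of N if and only if C_P(H) ≤ H and O_{p',p}(N_G(H)) = H·C_G(H). -/
theorem result {G : Type*} [Group G] [Finite G] {p : ℕ} [Fact p.Prime]
    (P : Sylow p G) (H : Subgroup G) (hHP : H ≤ (P : Subgroup G))
    (hSyl : ¬ p ∣ ((P : Subgroup G) ⊓ Subgroup.normalizer (H : Set G)).relIndex (Subgroup.normalizer (H : Set G)))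
    [hC : ((Subgroup.centralizer (H : Set G)).subgroupOf (Subgroup.normalizer (H : Set G))).Normal] :
    (H ≤ ((Cfsg.pCore p (↥(Subgroup.normalizer (H : Set G)) ⧸
              (Subgroup.centralizer (H : Set G)).subgroupOf (Subgroup.normalizer (H : Set G)))).comap
            (QuotientGroup.mk' _)).map (Subgroup.normalizer (H : Set G)).subtype ∧
      ¬ p ∣ H.relIndex (((Cfsg.pCore p (↥(Subgroup.normalizer (H : Set G)) ⧸
              (Subgroup.centralizer (H : Set G)).subgroupOf (Subgroup.normalizer (H : Set G)))).comap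
            (QuotientGroup.mk' _)).map (Subgroup.normalizer (H : Set G)).subtype)) ↔
    ((P : Subgroup G) ⊓ Subgroup.centralizer (H : Set G) ≤ H ∧
      (Cfsg.pPrimePCore p ↥(Subgroup.normalizer (H : Set G))).map (Subgroup.normalizer (H : Set G)).subtype =
        H ⊔ Subgroup.centralizer (H : Set G)) := by
  set N := Subgroup.normalizer (H : Set G) with hN
  set C₀ := Subgroup.centralizer (H : Set G)
  have hHN : H ≤ N := Subgroup.le_normalizer
  have hCN : C₀ ≤ N := Subgroup.centralizer_le_normalizer _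
  have hPN : IsPGroup p ((P : Subgroup G) ⊓ N : Subgroup G) := P.2.to_le inf_le_left
  set T : Sylow p N := (hPN.comap_subtype (K := N)).toSylow hSyl with hT
  have hTc : (T : Subgroup N) = ((P : Subgroup G) ⊓ N).subgroupOf N := rfl
  haveI : (H.subgroupOf N).Normal := Subgroup.normal_in_normalizer
  have hC' : C₀.subgroupOf N = Subgroup.centralizer ((H.subgroupOf N : Subgroup N) : Set N) := by
    ext n
    simp only [Subgroup.mem_subgroupOf, Subgroup.mem_centralizer_iff, C₀]
    exact ⟨fun h w hw => Subtype.ext (h w hw),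
      fun h w hw => congrArg Subtype.val (h ⟨w, hHN hw⟩ hw)⟩
  have hHT : H.subgroupOf N ≤ (T : Subgroup N) := fun w hw => ⟨hHP hw, w.2⟩
  have key := local_criterion T (H.subgroupOf N) (C₀.subgroupOf N) hC' hHT
  simp only [] at key
  have hinj := N.subtype_injective
  have hHmap : (H.subgroupOf N).map N.subtype = H := Subgroup.map_subgroupOf_eq_of_le hHN
  have hCmap : (C₀.subgroupOf N).map N.subtype = C₀ := Subgroup.map_subgroupOf_eq_of_le hCN
  refine Iff.trans ?_ (key.trans ?_)
  · refine and_congr ?_ (not_congr ?_)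
    · have h := Subgroup.map_le_map_iff_of_injective hinj (H := H.subgroupOf N)
        (K := (Cfsg.pCore p (N ⧸ C₀.subgroupOf N)).comap (QuotientGroup.mk' (C₀.subgroupOf N)))
      rw [hHmap] at h
      exact h
    · have h := Subgroup.relIndex_map_map_of_injective (H.subgroupOf N)
        ((Cfsg.pCore p (N ⧸ C₀.subgroupOf N)).comap (QuotientGroup.mk' (C₀.subgroupOf N))) hinj
      rw [hHmap] at h
      exact iff_of_eq (congrArg (p ∣ ·) h)
  · refine and_congr ?_ ?_
    · rw [← Subgroup.map_le_map_iff_of_injective hinj, hHmap, Subgroup.map_inf _ _ _ hinj, hCmap,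
        hTc, Subgroup.map_subgroupOf_eq_of_le inf_le_right, inf_assoc, inf_eq_right.2 hCN]
    · rw [← (Subgroup.map_injective hinj).eq_iff, Subgroup.map_sup, hHmap, hCmap]

end Cfsg.Agent.S3076
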