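import Cfsg.Statements.S3084
import Cfsg.Agent.Lib.LocalEven.PauliExtension
-- import your own Cfsg.Agent.* helpers here

set_option autoImplicit false
open Cfsg

namespace Cfsg.Agent.S3084

/-- Let K be a group acting faithfully and linearly on a finite-dimensional vector space U of dimension 2n ≥ 2 over the field with two elements, preserving a quadratic form q whose polar bilinear form is non-degenerate and which vanishes on some n-dimensional subspace (a non-singular form of plus type). Then there is a finite group R with a normal extraspecial 2-subgroup Q of order 2^(2n+1), an isomorphism of R/Q with K, and a surjective homomorphism χ from Q onto (the additive group of) U with kernel the centre of Q, such that χ carries conjugation by any r in R to the action of the image of r in K, and an element a of Q squares to the identity exactly when q vanishes at χ(a). -/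
theorem result {K : Type*} [Group K] {U : Type*} [AddCommGroup U] [Module (ZMod 2) U] [Module.Finite (ZMod 2) U] (n : ℕ) (hn1 : 1 ≤ n) (hn : Module.finrank (ZMod 2) U = 2 * n) (ρ : Representation (ZMod 2) K U) (hρ : Function.Injective ρ) (q : QuadraticForm (ZMod 2) U) (hq : ∀ (k : K) (u : U), q (ρ k u) = q u) (hnd : (QuadraticMap.polarBilin q).Nondegenerate) (hplus : ∃ W : Submodule (ZMod 2) U, Module.finrank (ZMod 2) ↥W = n ∧ ∀ w ∈ W, q w = 0) : ∃ (R : Type) (_ : Group R) (_ : Finite R) (Q : Subgroup R) (hN : Q.Normal) (e : R ⧸ Q ≃* K) (χ : ↥Q →* Multiplicative U), Cfsg.IsExtraspecial 2 ↥Q ∧ Nat.card ↥Q = 2 ^ (2 * n + 1) ∧ Function.Surjective χ ∧ χ.ker = Subgroup.center ↥Q ∧ (∀ (r : R) (a : ↥Q), χ ⟨r * a * r⁻¹, hN.conj_mem (a : R) a.2 r⟩ = Multiplicative.ofAdd (ρ (e (r : R ⧸ Q)) (Multiplicative.toAdd (χ a)))) ∧ ∀ a : ↥Q, a * a = 1 ↔ q (Multiplicative.toAdd (χ a)) = 0 := by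
  obtain ⟨E, hE⟩ := CfsgLib.LocalEven.Pauli.exists_frame n hn q hnd hplus
  let f : K →* (CfsgLib.LocalEven.Pauli.W n ≃ₗ[ZMod 2] CfsgLib.LocalEven.Pauli.W n) :=
    { toFun := fun k => E.trans (({ ρ k with
          invFun := fun u => ρ k⁻¹ u
          left_inv := fun u => by
            show ρ k⁻¹ (ρ k u) = u
            rw [← Module.End.mul_apply, ← map_mul, inv_mul_cancel, map_one, Module.End.one_apply]
          right_inv := fun u => by
            show ρ k (ρ k⁻¹ u) = u
            rw [← Module.End.mul_apply, ← map_mul, mul_inv_cancel, map_one, Module.End.one_apply] } :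
        U ≃ₗ[ZMod 2] U).trans E.symm)
      map_one' := by ext z : 1; simp
      map_mul' := fun a b => by ext z : 1; simp }
  have hf : ∀ k z, E (f k z) = ρ k (E z) := fun k z => by simp [f]
  have hinj : Function.Injective f := by
    intro a b h
    refine hρ (LinearMap.ext fun u => ?_)
    have h1 := hf a (E.symm u)
    rw [h, hf] at h1
    simpa using h1.symm
  obtain ⟨R, iR, iF, Q, hN, e, χ, h1, h2, h3, h4, h5, h6⟩ :=
    CfsgLib.LocalEven.Pauli.exists_extension hn1 f hinj (fun k z => by rw [← hE, ← hE, hf, hq])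
  refine ⟨R, iR, iF, Q, hN, e, (AddMonoidHom.toMultiplicative E.toLinearMap.toAddMonoidHom).comp χ,
    h1, h2, ?_, ?_, fun r a => ?_, fun a => ?_⟩
  · intro u
    obtain ⟨a, ha⟩ := h3 (Multiplicative.ofAdd (E.symm (Multiplicative.toAdd u)))
    refine ⟨a, ?_⟩
    rw [MonoidHom.comp_apply, ha]
    show Multiplicative.ofAdd (E (E.symm (Multiplicative.toAdd u))) = u
    rw [E.apply_symm_apply]; rfl
  · rw [← h4]
    ext a
    rw [MonoidHom.mem_ker, MonoidHom.mem_ker, MonoidHom.comp_apply]
    constructor
    · intro h
      have h' : E (Multiplicative.toAdd (χ a)) = 0 := Multiplicative.ofAdd.injective h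
      exact Multiplicative.toAdd.injective (E.map_eq_zero_iff.1 h')
    · intro h; rw [h, map_one]
  · rw [MonoidHom.comp_apply, MonoidHom.comp_apply, h5]
    show Multiplicative.ofAdd (E (f _ _)) = Multiplicative.ofAdd (ρ _ (E _))
    rw [hf]
  · rw [h6]
    show _ ↔ q (E _) = 0
    rw [hE]

end Cfsg.Agent.S3084
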