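import Cfsg.Statements.S3086
import Cfsg.Agent.Lib.LocalEven.PGVMain

set_option autoImplicit false
open Cfsg
open scoped commutatorElement

set_option linter.style.haveILetI false

namespace Cfsg.Agent.S3086

/-- The P(G,V)-theorem. Let p be a prime, G a finite group acting faithfully and linearly on a finite vector space V over the field with p elements, and A a nontrivial elementary abelian p-subgroup of G such that |A|·|C_V(A)| ≥ |B|·|C_V(B)| for every subgroup B of A. Then A normalizes every component (subnormal quasisimple subgroup) of G. -/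
theorem result {G V : Type*} [Group G] [Finite G] [AddCommGroup V] [Finite V] (p : ℕ) [Fact p.Prime] [Module (ZMod p) V]
    (ρ : Representation (ZMod p) G V) (hρ : Function.Injective ρ)
    (A : Subgroup G) (hA : A ≠ ⊥) (hAel : Cfsg.IsElementaryAbelian p A)
    (hP : ∀ B : Subgroup G, B ≤ A →
      Nat.card ↥B * Nat.card {v : V // ∀ b ∈ B, ρ b v = v} ≤ Nat.card ↥A * Nat.card {v : V // ∀ a ∈ A, ρ a v = v}) :
    ∀ K : Subgroup G, Cfsg.IsComponent K → A ≤ Subgroup.normalizer (K : Set G) := by
  intro K hK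
  by_contra hcon
  obtain ⟨c₀, hc₀, hc₀N⟩ := SetLike.not_le_iff_exists.1 hcon
  have hcA : ∀ a ∈ A, ∀ b ∈ A, Commute a b := fun a ha b hb =>
    congrArg Subtype.val (hAel.1.is_comm.comm ⟨a, ha⟩ ⟨b, hb⟩)
  have hdist : ∀ a ∈ A, a ∉ Subgroup.normalizer (K : Set G) → ∀ k ∈ K, ∀ z ∈ K,
      Commute k (a * z * a⁻¹) := by
    intro a _ haN k hk z hz
    have hne : K ≠ K.map (MulAut.conj a).toMonoidHom := by
      intro e
      refine haN (Subgroup.mem_normalizer_iff.2 fun x => ⟨fun hx => ?_, fun hx => ?_⟩)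
      · rw [e]; exact ⟨x, hx, rfl⟩
      · rw [e] at hx
        obtain ⟨y, hy, hyx⟩ := hx
        simp only [MulEquiv.coe_toMonoidHom, MulAut.conj_apply] at hyx
        rwa [mul_left_cancel (mul_right_cancel hyx)] at hy
    have hb := CfsgLib.Components.components_commute hK (CfsgLib.Components.isComponent_conj hK a) hne
    exact Subgroup.mem_centralizer_iff.1
      ((Subgroup.commutator_eq_bot_iff_le_centralizer.1 hb) hk) (a * z * a⁻¹) ⟨z, hz, rfl⟩ |>.symm
  let N0 : Subgroup G := A ⊓ Subgroup.centralizer (K : Set G)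
  let G' : Subgroup G := Subgroup.centralizer (N0 : Set G)
  have hAG : A ≤ G' := fun a ha => Subgroup.mem_centralizer_iff.2 fun n hn =>
    (hcA n hn.1 a ha).eq
  have hKG : K ≤ G' := fun k hk => Subgroup.mem_centralizer_iff.2 fun n hn =>
    (Subgroup.mem_centralizer_iff.1 hn.2 k hk).symm
  let W : Submodule (ZMod p) V := CfsgLib.PGV.fixS ρ N0
  have hinv : ∀ g : G', ∀ w ∈ W, ρ (g : G) w ∈ W := by
    intro g w hw n hn
    show ρ n (ρ g w) = ρ g w
    rw [← Module.End.mul_apply, ← map_mul, Subgroup.mem_centralizer_iff.1 g.2 n hn, map_mul,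
      Module.End.mul_apply, hw n hn]
  let σ : G' →* Module.End (ZMod p) W :=
    { toFun := fun g => (ρ (g : G)).restrict (hinv g)
      map_one' := LinearMap.ext fun w => Subtype.ext (by
        show ρ ((1 : G') : G) w = w
        rw [OneMemClass.coe_one, map_one, Module.End.one_apply])
      map_mul' := fun g g' => LinearMap.ext fun w => Subtype.ext (by
        show ρ ((g * g' : G') : G) w = ρ g (ρ g' w)
        rw [Subgroup.coe_mul, map_mul, Module.End.mul_apply]) }
  have hbase : CfsgLib.PGV.Setting ρ A K := by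
    refine ⟨hcA, hAel.2, hK.2, hdist, ?_⟩
    obtain ⟨k, hk, hk1⟩ := (K.bot_or_exists_ne_one).resolve_left
      (CfsgLib.Components.component_ne_bot hK)
    exact ⟨k, hk, fun e => hk1 (hρ (e.trans (map_one ρ).symm))⟩
  have hN0K : ∀ n ∈ N0, ∀ k ∈ K, Commute n k := fun n hn k hk =>
    (Subgroup.mem_centralizer_iff.1 hn.2 k hk).symm
  have hnt : ∃ k ∈ K, ∃ w ∈ W, ρ k w ≠ w := by
    by_contra hall
    push Not at hall
    classical
    haveI := Fintype.ofFinite G
    obtain ⟨k, hk, hne⟩ := hbase.nt
    refine hne (LinearMap.ext fun w => ?_)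
    refine hbase.trivial_of_fix (T := Finset.univ.filter (· ∈ N0))
      (fun a ha => CfsgLib.PGV.dl_pow_eq_zero ρ (hAel.2 a (by simpa using ha : a ∈ N0).1))
      (fun a ha b hb => hcA a (by simpa using ha : a ∈ N0).1 b (by simpa using hb : b ∈ N0).1)
      (fun a ha k' hk' => hN0K a (by simpa using ha : a ∈ N0) k' hk')
      (fun v hv k' hk' => hall k' hk' v fun n hn => sub_eq_zero.1 (hv n (by simpa using hn))) w k hk
  have h : CfsgLib.PGV.Setting σ (A.subgroupOf G') (K.subgroupOf G') := by
    refine ⟨fun a ha b hb => Subtype.ext (hcA _ ha _ hb).eq,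
      fun a ha => Subtype.ext (by simpa using hAel.2 _ ha),
      CfsgLib.Components.isQuasisimple_of_mulEquiv (Subgroup.subgroupOfEquivOfLe hKG).symm hK.2,
      fun a ha haN k hk z hz => Subtype.ext (hdist _ ha (fun hm => haN ?_) _ hk _ hz).eq, ?_⟩
    · rw [Subgroup.mem_normalizer_iff] at hm ⊢
      intro x
      simpa [Subgroup.mem_subgroupOf] using hm x
    · obtain ⟨k, hk, w, hw, hne⟩ := hnt
      refine ⟨⟨k, hKG hk⟩, hk, fun e => hne ?_⟩
      exact congrArg Subtype.val (LinearMap.congr_fun e ⟨w, hw⟩)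
  have hfaith : ∀ a ∈ A.subgroupOf G', (∀ k ∈ K.subgroupOf G', Commute (σ a) (σ k)) → σ a = 1 := by
    intro a ha hc
    have haN : (a : G) ∈ Subgroup.normalizer (K : Set G) := by
      by_contra haN
      refine h.not_comm fun k hk z hz => h.central_of_commute hk (fun y hy => ?_) z hz
      have h1 : Commute (a * k * a⁻¹) y :=
        (show Commute y (a * k * a⁻¹) from Subtype.ext (hdist _ ha haN _ hy _ hk).eq).symm
      have h2 : σ (a * k * a⁻¹) = σ k := by
        rw [map_mul, map_mul, (hc k hk).eq, mul_assoc, ← map_mul, mul_inv_cancel, map_one, mul_one]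
      rw [← h2]
      exact h1.map σ
    by_cases hcen : ∀ k ∈ K, Commute (a : G) k
    · refine LinearMap.ext fun w => Subtype.ext ?_
      exact w.2 (a : G) ⟨ha, Subgroup.mem_centralizer_iff.2 fun k hk => (hcen k hk).eq.symm⟩
    · push Not at hcen
      obtain ⟨k, hk, hne⟩ := hcen
      obtain ⟨x, hx, hxnc⟩ := hbase.exists_commutator_noncentral haN hk fun e =>
        hne (hρ (by rw [map_mul, map_mul]; exact e.eq))
      exfalso
      refine hxnc fun z hz => ?_
      let x' : G' := ⟨x, hKG hx⟩
      have hmem : x' * (a * x'⁻¹ * a⁻¹) ∈ K.subgroupOf G' :=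
        K.mul_mem hx (CfsgLib.PGV.Setting.mem_normalizer_conj haN (K.inv_mem hx))
      have h1 : σ (x' * (a * x'⁻¹ * a⁻¹)) = 1 := by
        rw [map_mul, map_mul, map_mul, (hc x'⁻¹ (K.inv_mem hx : x'⁻¹ ∈ K.subgroupOf G')).eq,
          mul_assoc (σ x'⁻¹), ← map_mul, mul_inv_cancel, map_one, mul_one, ← map_mul, mul_inv_cancel,
          map_one]
      have h2 := h.central_of_commute hmem (fun y _ => by rw [h1]; exact Commute.one_left _)
        ⟨z, hKG hz⟩ hz
      have h3 := congrArg Subtype.val h2
      have e : ⁅x, (a : G)⁆ = x * (a * x⁻¹ * (a : G)⁻¹) := by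
        simp only [commutatorElement_def]; group
      rw [e]
      exact h3
  have hμ : ∀ B : Subgroup G', B ≤ A.subgroupOf G' →
      Nat.card B * Nat.card (CfsgLib.PGV.fixS σ B)
        ≤ Nat.card (A.subgroupOf G') * Nat.card (CfsgLib.PGV.fixS σ (A.subgroupOf G')) := by
    intro B hB
    let B' : Subgroup G := B.map G'.subtype
    have hB'A : B' ≤ A := by
      rintro _ ⟨b, hb, rfl⟩
      exact hB hb
    have hJ : B' ⊔ N0 ≤ A := sup_le hB'A inf_le_left
    have c1 : Nat.card B ≤ Nat.card ↥(B' ⊔ N0) :=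
      (Nat.card_congr (Subgroup.equivMapOfInjective B _ G'.subtype_injective).toEquiv).le.trans
        (Nat.card_le_card_of_injective _ (Subgroup.inclusion_injective le_sup_left))
    have c2 : Nat.card (CfsgLib.PGV.fixS σ B) ≤ Nat.card {v : V // ∀ b ∈ B' ⊔ N0, ρ b v = v} := by
      refine Nat.card_le_card_of_injective (fun w => ⟨((w.1 : W) : V), ?_⟩) fun w w' e =>
        Subtype.ext (Subtype.ext (congrArg Subtype.val e :))
      intro b hb
      have hle : B' ⊔ N0 ≤ (MulAction.stabilizer (Equiv.Perm V) ((w.1 : W) : V)).comap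
          ({ toFun := fun g =>
              { toFun := ρ g
                invFun := ρ g⁻¹
                left_inv := fun v => by
                  rw [← Module.End.mul_apply, ← map_mul, inv_mul_cancel, map_one,
                    Module.End.one_apply]
                right_inv := fun v => by
                  rw [← Module.End.mul_apply, ← map_mul, mul_inv_cancel, map_one,
                    Module.End.one_apply] }
             map_one' := Equiv.ext fun v => by simp
             map_mul' := fun g g' => Equiv.ext fun v => by simp } : G →* Equiv.Perm V) := by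
        refine sup_le ?_ fun n hn => w.1.2 n hn
        rintro _ ⟨b', hb', rfl⟩
        exact congrArg Subtype.val (w.2 b' hb')
      exact hle hb
    have c3 : Nat.card A ≤ Nat.card (A.subgroupOf G') :=
      (Nat.card_congr (Subgroup.subgroupOfEquivOfLe hAG).toEquiv).ge
    have c4 : Nat.card {v : V // ∀ a ∈ A, ρ a v = v}
        ≤ Nat.card (CfsgLib.PGV.fixS σ (A.subgroupOf G')) := by
      refine Nat.card_le_card_of_injective
        (fun v => ⟨⟨v.1, fun n hn => v.2 n hn.1⟩, fun b hb => Subtype.ext (v.2 (b : G) hb)⟩)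
        fun v v' e => Subtype.ext ?_
      exact congrArg (fun q : CfsgLib.PGV.fixS σ (A.subgroupOf G') => ((q.1 : W) : V)) e
    exact (Nat.mul_le_mul c1 c2).trans ((hP _ hJ).trans (Nat.mul_le_mul c3 c4))
  have hfin := h.normalizes hfaith hμ (show (⟨c₀, hAG hc₀⟩ : G') ∈ A.subgroupOf G' from hc₀)
  refine hc₀N (Subgroup.mem_normalizer_iff.2 fun x => ⟨fun hx => ?_, fun hx => ?_⟩)
  · exact (Subgroup.mem_normalizer_iff.1 hfin ⟨x, hKG hx⟩).1 hx
  · have hxG : x ∈ G' := by
      have := G'.mul_mem (G'.mul_mem (G'.inv_mem (hAG hc₀)) (hKG hx)) (hAG hc₀)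
      simpa [mul_assoc] using this
    exact (Subgroup.mem_normalizer_iff.1 hfin ⟨x, hxG⟩).2 hx

end Cfsg.Agent.S3086
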