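import Cfsg.Statements.S3104
import Cfsg.Agent.Lib.Small.AEight.GLFour
import Cfsg.Agent.Lib.Small.AEight.OddRadical
import Cfsg.Agent.Lib.Small.FrattiniEmbed
import Cfsg.Agent.Lib.Small.SixOnSixteenConstrained
import Cfsg.Agent.S2553

set_option autoImplicit false
open Cfsg

namespace Cfsg.Agent.S3104

theorem glThree_equiv_psl : Nonempty (GL (Fin 3) (ZMod 2) ≃*
    Matrix.ProjectiveSpecialLinearGroup (Fin 3) (ZMod 2)) := by
  haveI : Fact (Nat.Prime 2) := ⟨Nat.prime_two⟩
  have hcen3 : Subgroup.center (Matrix.SpecialLinearGroup (Fin 3) (ZMod 2)) = ⊥ := by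
    rw [Subgroup.eq_bot_iff_card, CfsgLib.Classical.card_center_SL_fin 3 (by norm_num), Nat.card_zmod]
    rfl
  let j : Matrix.ProjectiveSpecialLinearGroup (Fin 3) (ZMod 2) ≃*
      Matrix.SpecialLinearGroup (Fin 3) (ZMod 2) :=
    (QuotientGroup.quotientMulEquivOfEq hcen3).trans QuotientGroup.quotientBot
  have hbij : Function.Bijective (Matrix.SpecialLinearGroup.toGL :
      Matrix.SpecialLinearGroup (Fin 3) (ZMod 2) →* GL (Fin 3) (ZMod 2)) := by
    refine ⟨Matrix.SpecialLinearGroup.toGL_injective, fun g => ?_⟩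
    refine ⟨⟨g.1, ?_⟩, Units.ext rfl⟩
    exact congrArg Units.val (Subsingleton.elim (Matrix.GeneralLinearGroup.det g) 1)
  exact ⟨(j.trans (MulEquiv.ofBijective _ hbij)).symm⟩

/-- The symmetric group of degree 6 inside the symmetric group of degree 7. -/
theorem six_into_seven : ∃ j : Equiv.Perm (Fin 6) →* Equiv.Perm (Fin 7), Function.Injective j :=
  ⟨Equiv.Perm.viaEmbeddingHom (Fin.castLEEmb (by norm_num)),
    Equiv.Perm.viaEmbeddingHom_injective _⟩

/-- The symmetric group of degree 6 inside the alternating group of degree 8. -/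
theorem six_into_alt_eight :
    ∃ j : Equiv.Perm (Fin 6) →* alternatingGroup (Fin 8), Function.Injective j := by
  let u : ℤˣ →* Equiv.Perm (Fin 2) :=
    { toFun := fun z => if z = 1 then 1 else Equiv.swap 0 1
      map_one' := by decide
      map_mul' := by decide }
  let h : Equiv.Perm (Fin 6) →* Equiv.Perm (Fin 6 ⊕ Fin 2) :=
    (Equiv.Perm.sumCongrHom (Fin 6) (Fin 2)).comp
      ((MonoidHom.id _).prod (u.comp Equiv.Perm.sign))
  let k : Equiv.Perm (Fin 6) →* Equiv.Perm (Fin 8) :=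
    (Equiv.permCongrHom finSumFinEquiv).toMonoidHom.comp h
  have hmem : ∀ g, k g ∈ alternatingGroup (Fin 8) := fun g => by
    rw [Equiv.Perm.mem_alternatingGroup]
    show Equiv.Perm.sign (Equiv.permCongr finSumFinEquiv
      (Equiv.Perm.sumCongr g (u (Equiv.Perm.sign g)))) = 1
    rw [Equiv.Perm.sign_permCongr, Equiv.Perm.sign_sumCongr]
    rcases Int.units_eq_one_or (Equiv.Perm.sign g) with h | h <;> rw [h] <;> decide
  refine ⟨k.codRestrict _ hmem, fun a b hab => ?_⟩
  have h1 : h a = h b := (Equiv.permCongrHom finSumFinEquiv).injective (congrArg Subtype.val hab)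
  exact congrArg Prod.fst (Equiv.Perm.sumCongrHom_injective (α := Fin 6) (β := Fin 2)
    (a₁ := (a, u (Equiv.Perm.sign a))) (a₂ := (b, u (Equiv.Perm.sign b))) h1)

/-- Let X be a finite nonsolvable 2-constrained group with no nontrivial normal subgroup of odd order such that O₂(X) has sectional 2-rank at most 4, and write Q for X/O₂(X). Then Q is isomorphic to the projective special linear group of dimension 3 over the field with 2 elements, to an alternating group of degree n with 5 ≤ n ≤ 8, to a symmetric group of degree n with 5 ≤ n ≤ 7, or else O₃(Q) has order 3 and Q/O₃(Q) is isomorphic to the alternating or the symmetric group of degree 5 (so Q is the direct product of a group of order 3 with the alternating group of degree 5, or an extension of that direct product by a group of order 2). If moreover X itself has sectional 2-rank at most 4, then Q is not isomorphic to the symmetric group of degree 6 or 7 nor to the alternating group of degree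 8. -/
theorem result {X : Type*} [Group X] [Finite X] (hns : ¬ Group.IsSolvable X) (hc : Cfsg.IsPConstrained 2 X) (hO : Cfsg.oddCore X = ⊥)
    (h4 : Cfsg.SectionalPRankLE 2 4 ↥(Cfsg.pCore 2 X)) :
    ((∃ (F : Type) (_ : Field F) (_ : Fintype F), Fintype.card F = 2 ∧
          Nonempty (X ⧸ Cfsg.pCore 2 X ≃* Matrix.ProjectiveSpecialLinearGroup (Fin 3) F)) ∨
        (∃ n : ℕ, 5 ≤ n ∧ n ≤ 8 ∧ Nonempty (X ⧸ Cfsg.pCore 2 X ≃* ↥(alternatingGroup (Fin n)))) ∨
        (∃ n : ℕ, 5 ≤ n ∧ n ≤ 7 ∧ Nonempty (X ⧸ Cfsg.pCore 2 X ≃* Equiv.Perm (Fin n))) ∨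
        (Nat.card ↥(Cfsg.pCore 3 (X ⧸ Cfsg.pCore 2 X)) = 3 ∧
          (Nonempty ((X ⧸ Cfsg.pCore 2 X) ⧸ Cfsg.pCore 3 (X ⧸ Cfsg.pCore 2 X) ≃* ↥(alternatingGroup (Fin 5))) ∨
            Nonempty ((X ⧸ Cfsg.pCore 2 X) ⧸ Cfsg.pCore 3 (X ⧸ Cfsg.pCore 2 X) ≃* Equiv.Perm (Fin 5))))) ∧
      (Cfsg.SectionalPRankLE 2 4 X →
        ¬ (Nonempty (X ⧸ Cfsg.pCore 2 X ≃* Equiv.Perm (Fin 6)) ∨ Nonempty (X ⧸ Cfsg.pCore 2 X ≃* Equiv.Perm (Fin 7)) ∨
            Nonempty (X ⧸ Cfsg.pCore 2 X ≃* ↥(alternatingGroup (Fin 8))))) := by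
  classical
  haveI : Fact (Nat.Prime 2) := ⟨Nat.prime_two⟩
  obtain ⟨F, hF⟩ := CfsgLib.Small.exists_embedding_GL hc hO h4
  obtain ⟨E⟩ := CfsgLib.Small.AEight.nonempty_glFour_equiv_altEight
  have hns' : ¬ Group.IsSolvable (X ⧸ Cfsg.pCore 2 X) := fun hs => hns
    ((Group.isSolvable_iff_subgroup_quotient (Cfsg.pCore 2 X)).2
      ⟨by
        haveI := (CfsgLib.Base.isPGroup_pCore 2 X).isNilpotent
        infer_instance, hs⟩)
  have hO2 : Cfsg.pCore 2 (X ⧸ Cfsg.pCore 2 X) = ⊥ := CfsgLib.Base.pCore_quotient_pCore 2 X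
  refine ⟨?_, fun hX => ?_⟩
  · by_cases hR : Cfsg.pPrimeCore 2 (X ⧸ Cfsg.pCore 2 X) = ⊥
    · let i : X ⧸ Cfsg.pCore 2 X ≃* F.range := MonoidHom.ofInjective hF
      have hne : F.range ≠ ⊥ := by
        intro h
        apply hns'
        haveI : Subsingleton F.range := by rw [h]; infer_instance
        haveI : Subsingleton (X ⧸ Cfsg.pCore 2 X) := i.toEquiv.subsingleton
        exact Group.isSolvable_of_comm fun a b => Subsingleton.elim _ _
      have h1 : Cfsg.pPrimeCore 2 ↥F.range = ⊥ := by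
        rw [← CfsgLib.Base.map_pPrimeCore_mulEquiv i, hR, Subgroup.map_bot]
      have h2 : Cfsg.pCore 2 ↥F.range = ⊥ := by
        rw [← CfsgLib.Base.map_pCore_mulEquiv i, hO2, Subgroup.map_bot]
      rcases Cfsg.Agent.S2553.result F.range hne h1 h2 with
        ⟨n, h5, h8, ⟨e⟩⟩ | ⟨⟨e⟩⟩ | ⟨⟨e⟩⟩ | ⟨⟨e⟩⟩
      · exact Or.inr (Or.inl ⟨n, h5, h8, ⟨i.trans e⟩⟩)
      · exact Or.inr (Or.inr (Or.inl ⟨5, le_rfl, by norm_num, ⟨i.trans e⟩⟩))
      · exact Or.inr (Or.inr (Or.inl ⟨6, by norm_num, by norm_num, ⟨i.trans e⟩⟩))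
      · obtain ⟨k⟩ := glThree_equiv_psl
        exact Or.inl ⟨ZMod 2, inferInstance, inferInstance, ZMod.card 2, ⟨(i.trans e).trans k⟩⟩
    · let f : X ⧸ Cfsg.pCore 2 X →* Equiv.Perm (Fin 8) :=
        (alternatingGroup (Fin 8)).subtype.comp (E.toMonoidHom.comp F)
      have hf : Function.Injective f := Subtype.val_injective.comp (E.injective.comp hF)
      exact Or.inr (Or.inr (Or.inr (CfsgLib.Small.AEight.three_core_of_odd_radical f hf
        (fun g => (E (F g)).2) hns' _ hR (CfsgLib.Base.odd_card_oddCore _))))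
  · rintro (⟨⟨e⟩⟩ | ⟨⟨e⟩⟩ | ⟨⟨e⟩⟩)
    · exact CfsgLib.Small.SixOnSixteen.no_perm_six hc hO hX h4 e.symm.toMonoidHom e.symm.injective
    · obtain ⟨j, hj⟩ := six_into_seven
      exact CfsgLib.Small.SixOnSixteen.no_perm_six hc hO hX h4 (e.symm.toMonoidHom.comp j)
        (e.symm.injective.comp hj)
    · obtain ⟨j, hj⟩ := six_into_alt_eight
      exact CfsgLib.Small.SixOnSixteen.no_perm_six hc hO hX h4 (e.symm.toMonoidHom.comp j)
        (e.symm.injective.comp hj)

end Cfsg.Agent.S3104
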