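import Cfsg.Statements.S3105
import Cfsg.Agent.Lib.Small.ConstrainedSeven.Main
import Cfsg.Agent.Lib.Small.FrattiniEmbed
import Cfsg.Agent.Lib.Base.Rank
import Cfsg.Agent.Lib.Classical.Order
import Cfsg.Agent.Lib.Classical.PSLSimple

set_option autoImplicit false
open Cfsg
open scoped commutatorElement

namespace Cfsg.Agent.S3105

/-- Let X be a finite nonsolvable 2-constrained group with no nontrivial normal subgroup of odd order and of sectional 2-rank at most 4, and suppose X/O₂(X) is isomorphic to the projective special linear group of dimension 3 over the field with 2 elements. Then O₂(X) is elementary abelian of order 8 or 16, or is isomorphic to the direct product of a cyclic group of order 4 and an elementary abelian group of order 8. -/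
theorem result {X : Type*} [Group X] [Finite X] (hns : ¬ Group.IsSolvable X) (hc : Cfsg.IsPConstrained 2 X) (hO : Cfsg.oddCore X = ⊥)
    (h4 : Cfsg.SectionalPRankLE 2 4 X) {F : Type*} [Field F] [Fintype F] (hF : Fintype.card F = 2)
    (hQ : Nonempty (X ⧸ Cfsg.pCore 2 X ≃* Matrix.ProjectiveSpecialLinearGroup (Fin 3) F)) :
    (Cfsg.IsElementaryAbelian 2 (Cfsg.pCore 2 X) ∧ (Nat.card ↥(Cfsg.pCore 2 X) = 8 ∨ Nat.card ↥(Cfsg.pCore 2 X) = 16)) ∨
      Nonempty (↥(Cfsg.pCore 2 X) ≃* Multiplicative (ZMod 4) × (Fin 3 → Multiplicative (ZMod 2))) := by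
  haveI : Fact (Nat.Prime 2) := ⟨Nat.prime_two⟩
  obtain ⟨e⟩ := hQ
  haveI : IsSimpleGroup (Matrix.ProjectiveSpecialLinearGroup (Fin 3) F) :=
    CfsgLib.Classical.isSimpleGroup_PSL_of_three_le (by simp)
  haveI : IsSimpleGroup (X ⧸ pCore 2 X) := e.isSimpleGroup
  have hidx : (pCore 2 X).index = 168 := by
    rw [Subgroup.index_eq_card, Nat.card_congr e.toEquiv, CfsgLib.Classical.card_PSL_fin 3 (by omega),
      CfsgLib.Classical.card_SL_fin', Nat.card_eq_fintype_card (α := F), hF]
    decide
  have D : CfsgLib.Small.ConstrainedSeven.Seven X (pCore 2 X) :=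
    { normal := inferInstance, two := CfsgLib.Base.isPGroup_pCore 2 X, rank := h4, index := hidx
      simple := fun N hN hle => by
        have hs := QuotientGroup.mk'_surjective (pCore 2 X)
        rcases (hN.map _ hs).eq_bot_or_eq_top with h | h
        · left
          rw [Subgroup.map_eq_bot_iff, QuotientGroup.ker_mk'] at h
          exact le_antisymm h hle
        · right
          have h' := congrArg (Subgroup.comap (QuotientGroup.mk' (pCore 2 X))) h
          rwa [Subgroup.comap_map_eq, QuotientGroup.ker_mk', Subgroup.comap_top,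
            sup_eq_left.2 hle] at h' }
  have hV : ∃ y : X, ∃ x ∈ pCore 2 X, ⁅y, x⁆ ∉ CfsgLib.Small.ConstrainedSeven.frat (pCore 2 X) := by
    by_contra hcon
    push Not at hcon
    obtain ⟨g, -, hg⟩ : ∃ g ∈ (⊤ : Subgroup X), g ∉ pCore 2 X := by
      by_contra h
      push Not at h
      have h' : pCore 2 X = ⊤ := eq_top_iff.2 fun x hx => h x hx
      rw [h', Subgroup.index_top] at hidx
      omega
    apply hg
    refine (CfsgLib.Small.ker_coreFrattiniHom (p := 2) hc hO).le ?_
    refine MonoidHom.mem_ker.2 (MulEquiv.ext fun v => ?_)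
    induction v using QuotientGroup.induction_on with
    | H x =>
      rw [CfsgLib.Small.coreFrattiniHom_mk]
      show _ = (x : ↥(pCore 2 X) ⧸ frattini ↥(pCore 2 X))
      refine QuotientGroup.eq.2 ?_
      obtain ⟨w, hw, he⟩ := hcon g ((x : X))⁻¹ (inv_mem x.2)
      rw [show (MulAut.conjNormal g x)⁻¹ * x = w from Subtype.ext ?_]
      · exact hw
      have he' : (w : X) = _ := he
      rw [he']
      simp [commutatorElement_def, MulAut.conjNormal_apply, mul_assoc]
  exact CfsgLib.Small.ConstrainedSeven.main D hV

end Cfsg.Agent.S3105
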