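import Cfsg.Statements.S3106
import Cfsg.Agent.Lib.Small.ConstrainedFive.Main
import Cfsg.Agent.Lib.Small.FrattiniEmbed
import Cfsg.Agent.Lib.Base.Rank
import Cfsg.Agent.Lib.Base.Frattini

set_option autoImplicit false
set_option linter.style.haveILetI false
open Cfsg
open scoped commutatorElement

namespace Cfsg.Agent.S3106

theorem rank_subgroup {p k : ℕ} {G : Type*} [Group G] (h : SectionalPRankLE p k G)
    (K : Subgroup G) : SectionalPRankLE p k K := by
  intro H N hN
  let e := H.equivMapOfInjective K.subtype K.subtype_injective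
  haveI : (N.map e.toMonoidHom).Normal := Subgroup.Normal.map hN _ e.surjective
  exact (CfsgLib.Base.pRankLE_congr (QuotientGroup.congr N (N.map e.toMonoidHom) e rfl)).2 (h _ _)

theorem exists_gens : ∃ a b c : alternatingGroup (Fin 5), a ^ 2 = 1 ∧ a ≠ 1 ∧ b ^ 2 = 1 ∧
    (a * b) ^ 5 = 1 ∧ a * b ≠ 1 ∧ c ^ 3 = 1 ∧ c ≠ 1 :=
  ⟨⟨Equiv.swap 0 1 * Equiv.swap 2 3, Equiv.Perm.mem_alternatingGroup.2 (by decide)⟩,
    ⟨Equiv.swap 1 2 * Equiv.swap 3 4, Equiv.Perm.mem_alternatingGroup.2 (by decide)⟩,
    ⟨Equiv.swap 0 1 * Equiv.swap 1 2, Equiv.Perm.mem_alternatingGroup.2 (by decide)⟩,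
    by decide, by decide, by decide, by decide, by decide, by decide, by decide⟩

/-- Let X be a finite nonsolvable 2-constrained group with no nontrivial normal subgroup of odd order and of sectional 2-rank at most 4, and suppose X/O₂(X) contains a subgroup isomorphic to the alternating group of degree 5. Then O₂(X) is elementary abelian of order 16, or O₂(X) is a central product of a quaternion group of order 8 and a dihedral group of order 8 (it has order 32 and is generated by two elementwise-commuting subgroups, one quaternion of order 8 and one dihedral of order 8, meeting in the centre). -/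
theorem result {X : Type*} [Group X] [Finite X] (hns : ¬ Group.IsSolvable X) (hc : Cfsg.IsPConstrained 2 X) (hO : Cfsg.oddCore X = ⊥)
    (h4 : Cfsg.SectionalPRankLE 2 4 X)
    (hQ : ∃ A : Subgroup (X ⧸ Cfsg.pCore 2 X), Nonempty (↥A ≃* ↥(alternatingGroup (Fin 5)))) :
    (Cfsg.IsElementaryAbelian 2 (Cfsg.pCore 2 X) ∧ Nat.card ↥(Cfsg.pCore 2 X) = 16) ∨
      (Nat.card ↥(Cfsg.pCore 2 X) = 32 ∧ ∃ A B : Subgroup ↥(Cfsg.pCore 2 X),
        Nonempty (↥A ≃* QuaternionGroup 2) ∧ Nonempty (↥B ≃* DihedralGroup 4) ∧ (∀ a ∈ A, ∀ b ∈ B, a * b = b * a) ∧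
          A ⊔ B = ⊤ ∧ A ⊓ B = Subgroup.center ↥(Cfsg.pCore 2 X)) := by
  haveI : Fact (Nat.Prime 2) := ⟨Nat.prime_two⟩
  obtain ⟨A, ⟨e⟩⟩ := hQ
  set mk := QuotientGroup.mk' (pCore 2 X) with hmk
  set Y : Subgroup X := A.comap mk with hY
  have hle : pCore 2 X ≤ Y := fun x hx => by
    rw [hY, Subgroup.mem_comap, show mk x = 1 from (QuotientGroup.eq_one_iff x).2 hx]
    exact one_mem _
  set Q : Subgroup Y := (pCore 2 X).subgroupOf Y with hQdef
  let π : Y →* alternatingGroup (Fin 5) := e.toMonoidHom.comp (mk.subgroupComap A)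
  have hsurj : Function.Surjective π := e.surjective.comp
    (mk.subgroupComap_surjective_of_surjective A (QuotientGroup.mk'_surjective _))
  have hker : ∀ y : Y, π y = 1 ↔ y ∈ Q := fun y => by
    rw [MonoidHom.comp_apply, MulEquiv.coe_toMonoidHom, MulEquiv.map_eq_one_iff,
      Subgroup.mem_subgroupOf, ← QuotientGroup.eq_one_iff, Subtype.ext_iff]
    rfl
  obtain ⟨a, b, c, ha, ha1, hb, hab, hab1, hc3, hc1⟩ := exists_gens
  obtain ⟨t, rfl⟩ := hsurj a
  obtain ⟨t', rfl⟩ := hsurj b
  obtain ⟨g, rfl⟩ := hsurj c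
  let E : Q ≃* pCore 2 X := Subgroup.subgroupOfEquivOfLe hle
  let D : CfsgLib.Small.ConstrainedFive.Five Y Q :=
    { π := π, surj := hsurj, ker_eq := Subgroup.ext hker, t := t, t' := t', g := g
      t_sq := (hker _).1 (by rw [map_pow]; exact ha)
      t'_sq := (hker _).1 (by rw [map_pow]; exact hb)
      t_notMem := fun h => ha1 ((hker _).2 h)
      five := (hker _).1 (by rw [map_pow, map_mul]; exact hab)
      five_notMem := fun h => hab1 (by rw [← map_mul]; exact (hker _).2 h)
      three := (hker _).1 (by rw [map_pow]; exact hc3)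
      g_notMem := fun h => hc1 ((hker _).2 h)
      two := (CfsgLib.Base.isPGroup_pCore 2 X).of_equiv E.symm
      rank := rank_subgroup h4 Y }
  have hV : ∃ y : Y, ∃ x ∈ Q, ⁅y, x⁆ ∉ CfsgLib.Small.ConstrainedFive.frat Q := by
    by_contra hcon
    push Not at hcon
    apply D.g_notMem
    refine Subgroup.mem_subgroupOf.2 ((CfsgLib.Small.ker_coreFrattiniHom (p := 2) hc hO).le ?_)
    refine MonoidHom.mem_ker.2 (MulEquiv.ext fun v => ?_)
    induction v using QuotientGroup.induction_on with
    | H x =>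
      rw [CfsgLib.Small.coreFrattiniHom_mk]
      show _ = (x : ↥(pCore 2 X) ⧸ frattini ↥(pCore 2 X))
      refine QuotientGroup.eq.2 ?_
      obtain ⟨w, hw, he⟩ := hcon D.g (⟨(x : X), hle x.2⟩ : Y)⁻¹
        (inv_mem (Subgroup.mem_subgroupOf.2 x.2))
      have hw' : E w ∈ frattini ↥(pCore 2 X) :=
        CfsgLib.Base.map_frattini_mulEquiv E ▸ Subgroup.mem_map_of_mem E.toMonoidHom hw
      convert hw' using 1
      apply Subtype.ext
      have he' : ((w : Y) : X) = _ := congrArg Subtype.val he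
      show _ = ((w : Y) : X)
      rw [he']
      simp [commutatorElement_def, MulAut.conjNormal_apply, mul_assoc]
  rcases CfsgLib.Small.ConstrainedFive.main D hV with ⟨hel, hcard⟩ | ⟨hcard, A', B', hA', hB', hcom, hsup, hinf⟩
  · left
    refine ⟨?_, by rw [← Nat.card_congr E.toEquiv, hcard]⟩
    have := CfsgLib.Base.isElementaryAbelian_map Y.subtype hel
    rwa [hQdef, Subgroup.map_subgroupOf_eq_of_le hle] at this
  · right
    refine ⟨by rw [← Nat.card_congr E.toEquiv, hcard], A'.map E.toMonoidHom, B'.map E.toMonoidHom,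
      hA'.map (A'.equivMapOfInjective _ E.injective).symm.trans,
      hB'.map (B'.equivMapOfInjective _ E.injective).symm.trans, ?_, ?_, ?_⟩
    · rintro _ ⟨a, ha, rfl⟩ _ ⟨b, hb, rfl⟩
      rw [← map_mul, ← map_mul, hcom a ha b hb]
    · rw [← Subgroup.map_sup, hsup, Subgroup.map_top_of_surjective _ E.surjective]
    · rw [← Subgroup.map_inf _ _ _ E.injective, hinf]
      ext x
      obtain ⟨q, rfl⟩ := E.surjective x
      rw [show (E q ∈ (Subgroup.center Q).map E.toMonoidHom) ↔ q ∈ Subgroup.center Q from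
        Subgroup.mem_map_iff_mem (f := E.toMonoidHom) E.injective, Subgroup.mem_center_iff,
        Subgroup.mem_center_iff]
      refine ⟨fun h z => ?_, fun h z => E.injective (by rw [map_mul, map_mul, h])⟩
      obtain ⟨w, rfl⟩ := E.surjective z
      rw [← map_mul, ← map_mul, h]

end Cfsg.Agent.S3106
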