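import Cfsg.Statements.S4401
import Cfsg.Agent.Lib.PGroups.Basic
import Cfsg.Agent.Lib.Base.Rank

set_option autoImplicit false
open Cfsg

namespace Cfsg.Agent.S4401

variable {S : Type*} [Group S]

/-- A non-abelian subgroup with centre `{1, w}`, normalised by the centraliser of `w`. -/
structure Good (Q : Subgroup S) (w : S) : Prop where
  mem : w ∈ Q
  ne : w ≠ 1
  comm : ∀ x ∈ Q, Commute x w
  center : ∀ x ∈ Q, (∀ y ∈ Q, Commute x y) → x = 1 ∨ x = w
  nab : ∃ x ∈ Q, ∃ y ∈ Q, ¬ Commute x y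
  normal : ∀ s, Commute s w → ∀ x ∈ Q, s * x * s⁻¹ ∈ Q

theorem mem_conj {Q : Subgroup S} {g x : S} :
    x ∈ Q.map (MulAut.conj g).toMonoidHom ↔ ∃ y ∈ Q, g * y * g⁻¹ = x := by
  simp [Subgroup.mem_map]

theorem commute_conj {x y : S} (g : S) (h : Commute x y) :
    Commute (g * x * g⁻¹) (g * y * g⁻¹) :=
  h.map (MulAut.conj g)

theorem conj_cancel {g x y : S} (h : g * x * g⁻¹ = g * y * g⁻¹) : x = y :=
  mul_left_cancel (mul_right_cancel h)

theorem Good.conj {Q : Subgroup S} {w : S} (h : Good Q w) (g : S) :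
    Good (Q.map (MulAut.conj g).toMonoidHom) (g * w * g⁻¹) where
  mem := mem_conj.2 ⟨w, h.mem, rfl⟩
  ne h1 := h.ne (conj_cancel (g := g) (by simpa using h1))
  comm x hx := by
    obtain ⟨y, hy, rfl⟩ := mem_conj.1 hx
    exact commute_conj g (h.comm y hy)
  center x hx hc := by
    obtain ⟨y, hy, rfl⟩ := mem_conj.1 hx
    have hy' : ∀ t ∈ Q, Commute y t := fun t ht =>
      (MulAut.conj g).injective (by
        simpa using (hc (g * t * g⁻¹) (mem_conj.2 ⟨t, ht, rfl⟩)).eq)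
    rcases h.center y hy hy' with rfl | rfl
    · left; group
    · right; rfl
  nab := by
    obtain ⟨x, hx, y, hy, hn⟩ := h.nab
    refine ⟨g * x * g⁻¹, mem_conj.2 ⟨x, hx, rfl⟩, g * y * g⁻¹, mem_conj.2 ⟨y, hy, rfl⟩, fun hc => hn ?_⟩
    have := commute_conj g⁻¹ hc
    simpa [mul_assoc] using this
  normal s hs x hx := by
    obtain ⟨y, hy, rfl⟩ := mem_conj.1 hx
    have h1 : Commute (g⁻¹ * s * g) w := by
      have := commute_conj g⁻¹ hs
      simpa [mul_assoc] using this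
    refine mem_conj.2 ⟨_, h.normal _ h1 y hy, ?_⟩
    group

theorem Good.mul_self {Q : Subgroup S} {w : S} (h : Good Q w) : w * w = 1 := by
  rcases h.center (w * w) (Q.mul_mem h.mem h.mem)
      (fun y hy => (h.comm y hy).symm.mul_left (h.comm y hy).symm) with h1 | h1
  · exact h1
  · exact absurd (mul_eq_left.1 h1) h.ne

variable [Finite S]

/-- A non-trivial normal subgroup contains the centre. -/
theorem Good.mem_of_normal (h2 : IsPGroup 2 S) {Q : Subgroup S} {w : S} (h : Good Q w)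
    {X : Subgroup S} (hX : X ≤ Q) (hn : ∀ q ∈ Q, ∀ x ∈ X, q * x * q⁻¹ ∈ X) (hne : X ≠ ⊥) :
    w ∈ X := by
  haveI : Fact (Nat.Prime 2) := ⟨Nat.prime_two⟩
  haveI : (X.subgroupOf Q).Normal := ⟨fun x hx q => hn q q.2 x hx⟩
  have h1 : X.subgroupOf Q ⊓ Subgroup.center Q ≠ ⊥ :=
    CfsgLib.PGroups.inf_center_ne_bot (h2.to_subgroup Q) (fun h0 => by
      rw [Subgroup.subgroupOf_eq_bot] at h0
      exact hne (h0.eq_bot_of_le hX))
  obtain ⟨x, hx, hx1⟩ := (Subgroup.bot_or_exists_ne_one _).resolve_left h1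
  obtain ⟨hxX, hxZ⟩ := Subgroup.mem_inf.1 hx
  rcases h.center x x.2 (fun y hy =>
    (congrArg Subtype.val (Subgroup.mem_center_iff.1 hxZ ⟨y, hy⟩)).symm) with h3 | h3
  · exact absurd (Subtype.ext h3) hx1
  · rw [← h3]; exact hxX

/-- Two such subgroups, each centralising the centre of the other, commute and meet trivially. -/
theorem disjoint_comm (h2 : IsPGroup 2 S) {Q R : Subgroup S} {w v : S} (hQ : Good Q w) (hR : Good R v)
    (hne : w ≠ v) (h1 : ∀ x ∈ Q, Commute x v) (h3 : ∀ x ∈ R, Commute x w) :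
    (∀ x ∈ Q, ∀ y ∈ R, Commute x y) ∧ ∀ x ∈ Q, x ∈ R → x = 1 := by
  have hbot : Q ⊓ R = ⊥ := by
    by_contra hX
    have hw : w ∈ Q ⊓ R := hQ.mem_of_normal h2 inf_le_left (fun q hq x hx =>
      ⟨Q.mul_mem (Q.mul_mem hq hx.1) (Q.inv_mem hq), hR.normal q (h1 q hq) x hx.2⟩) hX
    rcases hR.center w hw.2 (fun y hy => (h3 y hy).symm) with h | h
    · exact hQ.ne h
    · exact hne h
  refine ⟨fun x hx y hy => ?_, fun x hx hxR =>
    Subgroup.mem_bot.1 (hbot ▸ (⟨hx, hxR⟩ : x ∈ Q ⊓ R))⟩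
  have hmem : x * y * x⁻¹ * y⁻¹ ∈ Q ⊓ R := by
    refine ⟨?_, R.mul_mem (hR.normal x (h1 x hx) y hy) (R.inv_mem hy)⟩
    have h4 := Q.mul_mem hx (hQ.normal y (h3 y hy) x⁻¹ (Q.inv_mem hx))
    rw [show x * y * x⁻¹ * y⁻¹ = x * (y * x⁻¹ * y⁻¹) by group]
    exact h4
  rw [hbot, Subgroup.mem_bot, mul_inv_eq_one, mul_inv_eq_iff_eq_mul] at hmem
  exact hmem

/-- A section of exponent two has order at most `2 ^ 4`. -/
theorem index_le (hr : Cfsg.SectionalPRankLE 2 4 S) {W : Type*} [Group W] (f : W →* S)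
    (N : Subgroup W) [N.Normal] (hk : f.ker ≤ N) (hsq : ∀ x, x * x ∈ N) : N.index ≤ 2 ^ 4 := by
  let M : Subgroup f.range := N.map f.rangeRestrict
  haveI : M.Normal := Subgroup.Normal.map inferInstance _ f.rangeRestrict_surjective
  have hM : M.index = N.index :=
    Subgroup.index_map_eq _ f.rangeRestrict_surjective (by rwa [MonoidHom.ker_rangeRestrict])
  have hexp : ∀ a : f.range ⧸ M, a ^ 2 = 1 := by
    intro a
    obtain ⟨b, rfl⟩ := QuotientGroup.mk_surjective a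
    obtain ⟨c, rfl⟩ := f.rangeRestrict_surjective b
    rw [← QuotientGroup.mk_pow, QuotientGroup.eq_one_iff, ← map_pow, pow_two]
    exact Subgroup.mem_map_of_mem _ (hsq c)
  have hcomm : IsMulCommutative (⊤ : Subgroup (f.range ⧸ M)) := by
    rw [CfsgLib.Base.isMulCommutative_subgroup_iff]
    intro a _ b _
    have hi : ∀ x : f.range ⧸ M, x⁻¹ = x := fun x =>
      inv_eq_of_mul_eq_one_right (by rw [← pow_two]; exact hexp x)
    rw [← hi (a * b), mul_inv_rev, hi, hi]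
  have h := hr f.range M ⊤ hcomm (fun a _ => hexp a)
  rwa [Subgroup.card_top, ← Subgroup.index_eq_card, hM] at h

theorem squares_le_frattini {G : Type*} [Group G] [Finite G] (h2 : IsPGroup 2 G) (x : G) :
    x * x ∈ frattini G := by
  haveI : Fact (Nat.Prime 2) := ⟨Nat.prime_two⟩
  suffices h : ∀ M : Subgroup G, IsCoatom M → x * x ∈ M by
    simpa [frattini, Order.radical, Subgroup.mem_iInf] using h
  intro M hM
  haveI : M.Normal := Subgroup.NormalizerCondition.normal_of_coatom M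
    (haveI := h2.isNilpotent; Group.normalizerCondition_of_isNilpotent) hM
  by_contra hx
  have htop : M ⊔ Subgroup.zpowers (x * x) = ⊤ := hM.2 _ (left_lt_sup.2 fun hle =>
    hx (hle (Subgroup.mem_zpowers _)))
  obtain ⟨m, hm, y, hy, hmy⟩ := Subgroup.mem_sup_of_normal_left.1 (htop ▸ Subgroup.mem_top x)
  obtain ⟨k, rfl⟩ := Subgroup.mem_zpowers_iff.1 hy
  have h1 : x ^ (1 - 2 * k) ∈ M := by
    have : m = x ^ (1 - 2 * k) := by
      rw [zpow_sub, zpow_one, zpow_mul, zpow_two]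
      exact eq_mul_inv_of_mul_eq hmy
    exact this ▸ hm
  obtain ⟨n, hn⟩ := h2 x
  have hcop : IsCoprime (1 - 2 * k) (2 : ℤ) := ⟨1, k, by ring⟩
  obtain ⟨a, b, hab⟩ := hcop.pow_right (n := n)
  apply hx
  have hx1 : x ∈ M := by
    rw [← zpow_one x, ← hab, zpow_add, mul_comm a, zpow_mul, mul_comm b, zpow_mul]
    refine M.mul_mem (M.zpow_mem h1 a) ?_
    rw [show ((2 : ℤ) ^ n) = ((2 ^ n : ℕ) : ℤ) by norm_num, zpow_natCast, hn, one_zpow]
    exact M.one_mem
  exact M.mul_mem hx1 hx1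

/-- A normal subgroup of `Q` with quotient of exponent two, order at least four, containing `w`. -/
theorem Good.exists_sq (h2 : IsPGroup 2 S) {Q : Subgroup S} {w : S} (h : Good Q w) :
    ∃ N : Subgroup Q, N.Normal ∧ (∀ x, x * x ∈ N) ∧ (⟨w, h.mem⟩ : Q) ∈ N ∧ 4 ≤ N.index := by
  refine ⟨Subgroup.normalClosure {x : Q | ∃ y, x = y * y}, inferInstance,
    fun x => Subgroup.subset_normalClosure ⟨x, rfl⟩, ?_, ?_⟩
  all_goals obtain ⟨a, ha, b, hb, hab⟩ := h.nab
  · set N := Subgroup.normalClosure {x : Q | ∃ y, x = y * y}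
    have hmem : ∀ x : Q, x * x ∈ N := fun x => Subgroup.subset_normalClosure ⟨x, rfl⟩
    have hc : (⟨a, ha⟩ * ⟨b, hb⟩ * ⟨a, ha⟩⁻¹ * ⟨b, hb⟩⁻¹ : Q) ∈ N := by
      rw [← QuotientGroup.eq_one_iff]
      have hi : ∀ x : Q ⧸ N, x⁻¹ = x := fun x => by
        obtain ⟨y, rfl⟩ := QuotientGroup.mk_surjective x
        refine inv_eq_of_mul_eq_one_right ?_
        rw [← QuotientGroup.mk_mul, QuotientGroup.eq_one_iff]
        exact hmem y
      rw [QuotientGroup.mk_mul, QuotientGroup.mk_mul, QuotientGroup.mk_mul, QuotientGroup.mk_inv,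
        QuotientGroup.mk_inv, hi, hi, mul_assoc]
      exact mul_eq_one_iff_eq_inv.2 (hi _).symm
    have hw : w ∈ N.map Q.subtype := by
      refine h.mem_of_normal h2 (Subgroup.map_subtype_le N) ?_ ?_
      · rintro q hq _ ⟨x, hx, rfl⟩
        exact ⟨⟨q, hq⟩ * x * ⟨q, hq⟩⁻¹, Subgroup.Normal.conj_mem inferInstance x hx _, rfl⟩
      · intro h0
        have h1 := h0 ▸ Subgroup.mem_map_of_mem Q.subtype hc
        rw [Subgroup.mem_bot] at h1
        simp only [Subgroup.coe_subtype, Subgroup.coe_mul, InvMemClass.coe_inv] at h1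
        rw [mul_inv_eq_one, mul_inv_eq_iff_eq_mul] at h1
        exact hab h1
    obtain ⟨x, hx, hxw⟩ := hw
    have : x = ⟨w, h.mem⟩ := Subtype.ext hxw
    exact this ▸ hx
  · set N := Subgroup.normalClosure {x : Q | ∃ y, x = y * y}
    have hNF : N ≤ frattini Q := Subgroup.normalClosure_le_normal (by
      rintro _ ⟨y, rfl⟩; exact squares_le_frattini (h2.to_subgroup Q) y)
    obtain ⟨j, hj⟩ := (h2.to_subgroup Q).index N
    by_contra hlt
    rw [hj] at hlt
    have hj1 : j ≤ 1 := by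
      by_contra hj'
      exact hlt (by simpa using Nat.pow_le_pow_right (n := 2) two_pos (show 2 ≤ j by omega))
    have hgen : ∃ x : Q, N ⊔ Subgroup.zpowers x = ⊤ := by
      rcases eq_or_ne N ⊤ with hN | hN
      · exact ⟨1, by simp [hN]⟩
      · obtain ⟨x, -, hx⟩ := SetLike.exists_of_lt (lt_top_iff_ne_top.2 hN)
        have hlt' : N < N ⊔ Subgroup.zpowers x := left_lt_sup.2 fun hle => hx (hle (Subgroup.mem_zpowers x))
        have h1 := Subgroup.index_dvd_of_le hlt'.le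
        have h2' := Subgroup.index_strictAnti hlt'
        refine ⟨x, Subgroup.index_eq_one.1 ?_⟩
        have h3 : (N ⊔ Subgroup.zpowers x).index ≠ 0 := Subgroup.index_ne_zero_of_finite
        have h4 : N.index ≤ 2 := by rw [hj]; simpa using Nat.pow_le_pow_right (n := 2) two_pos hj1
        omega
    obtain ⟨x, hx⟩ := hgen
    have hcyc : Subgroup.zpowers x = ⊤ := frattini_nongenerating (by
      rw [eq_top_iff, ← hx]; exact sup_le (hNF.trans le_sup_right) le_sup_left)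
    apply hab
    obtain ⟨i, hi⟩ := Subgroup.mem_zpowers_iff.1 (hcyc ▸ Subgroup.mem_top (⟨a, ha⟩ : Q))
    obtain ⟨l, hl⟩ := Subgroup.mem_zpowers_iff.1 (hcyc ▸ Subgroup.mem_top (⟨b, hb⟩ : Q))
    have hai : a = (x : S) ^ i := by simpa using (congrArg Subtype.val hi).symm
    have hbl : b = (x : S) ^ l := by simpa using (congrArg Subtype.val hl).symm
    rw [hai, hbl]
    exact Commute.zpow_zpow_self _ _ _

/-- No three of them commute pairwise. -/
theorem no_triple (h2 : IsPGroup 2 S) (hr : Cfsg.SectionalPRankLE 2 4 S) {A B C : Subgroup S}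
    {a b c : S} (hA : Good A a) (hB : Good B b) (hC : Good C c)
    (hAB : ∀ x ∈ A, ∀ y ∈ B, Commute x y) (hAC : ∀ x ∈ A, ∀ y ∈ C, Commute x y)
    (hBC : ∀ x ∈ B, ∀ y ∈ C, Commute x y) : False := by
  obtain ⟨NA, hNA, sA, wA, iA⟩ := hA.exists_sq h2
  obtain ⟨NB, hNB, sB, wB, iB⟩ := hB.exists_sq h2
  obtain ⟨NC, hNC, sC, wC, iC⟩ := hC.exists_sq h2
  let g : B × C →* S := MonoidHom.noncommCoprod B.subtype C.subtype (fun y z => hBC y y.2 z z.2)
  let f : A × (B × C) →* S := MonoidHom.noncommCoprod A.subtype g (fun x yz =>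
    (hAB x x.2 yz.1 yz.1.2).mul_right (hAC x x.2 yz.2 yz.2.2))
  have h := index_le hr f (NA.prod (NB.prod NC)) (by
    rintro ⟨x, y, z⟩ hxyz
    have e : (x : S) * ((y : S) * (z : S)) = 1 := hxyz
    have cx : ∀ t ∈ A, Commute (x : S) t := fun t ht => by
      rw [eq_inv_of_mul_eq_one_left e]
      exact ((hAB t ht y y.2).mul_right (hAC t ht z z.2)).symm.inv_left
    have cy : ∀ t ∈ B, Commute (y : S) t := fun t ht => by
      rw [show (y : S) = (x : S)⁻¹ * (z : S)⁻¹ by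
        rw [eq_inv_of_mul_eq_one_left e]; group]
      exact ((hAB x x.2 t ht).inv_left).mul_left (hBC t ht z z.2).symm.inv_left
    have cz : ∀ t ∈ C, Commute (z : S) t := fun t ht => by
      rw [show (z : S) = (y : S)⁻¹ * (x : S)⁻¹ by
        rw [eq_inv_of_mul_eq_one_left e]; group]
      exact ((hBC y y.2 t ht).inv_left).mul_left (hAC x x.2 t ht).inv_left
    refine ⟨?_, ?_, ?_⟩
    · rcases hA.center x x.2 cx with h | h
      · rw [show x = 1 from Subtype.ext h]; exact one_mem _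
      · rw [show x = ⟨a, hA.mem⟩ from Subtype.ext h]; exact wA
    · rcases hB.center y y.2 cy with h | h
      · rw [show y = 1 from Subtype.ext h]; exact one_mem _
      · rw [show y = ⟨b, hB.mem⟩ from Subtype.ext h]; exact wB
    · rcases hC.center z z.2 cz with h | h
      · rw [show z = 1 from Subtype.ext h]; exact one_mem _
      · rw [show z = ⟨c, hC.mem⟩ from Subtype.ext h]; exact wC)
    (fun x => ⟨sA x.1, sB x.2.1, sC x.2.2⟩)
  rw [Subgroup.index_prod, Subgroup.index_prod] at h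
  have := Nat.mul_le_mul iA (Nat.mul_le_mul iB iC)
  omega

/-- If a conjugate family swaps `z₁` and `z₂`, a subgroup not centralising `z₁` has centre `z₁ z₂`. -/
theorem center_eq {R : Subgroup S} {v z₁ z₂ : S} (hR : Good R v) (hsw : ∀ k ∈ R,
      (k * z₁ * k⁻¹ = z₁ ∧ k * z₂ * k⁻¹ = z₂) ∨ (k * z₁ * k⁻¹ = z₂ ∧ k * z₂ * k⁻¹ = z₁))
    (h1 : z₁ * z₁ = 1) (h12 : Commute z₁ z₂) (hne : z₁ ≠ z₂) (hv : Commute z₁ v)
    {y : S} (hy : y ∈ R) (hyz : ¬ Commute y z₁) : v = z₁ * z₂ := by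
  have hy2 : y * z₁ * y⁻¹ = z₂ := by
    rcases hsw y hy with h | h
    · exact absurd (mul_inv_eq_iff_eq_mul.1 h.1) hyz
    · exact h.1
  have hinv : z₁⁻¹ = z₁ := inv_eq_of_mul_eq_one_right h1
  have hmem : z₁ * z₂ ∈ R := by
    have h3 := R.mul_mem (hR.normal z₁ hv y hy) (R.inv_mem hy)
    convert h3 using 1
    rw [← hy2, hinv]
    simp [mul_assoc]
  rcases hR.center _ hmem (fun k hk => by
    refine (show Commute k (z₁ * z₂) from mul_inv_eq_iff_eq_mul.1 ?_).symm
    rw [show k * (z₁ * z₂) * k⁻¹ = (k * z₁ * k⁻¹) * (k * z₂ * k⁻¹) by group]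
    rcases hsw k hk with ⟨a, b⟩ | ⟨a, b⟩ <;> rw [a, b]
    exact h12.symm.eq) with h | h
  · exact absurd (by rw [← hinv, eq_inv_of_mul_eq_one_right h]) hne
  · exact h.symm

/-- Let S be a finite 2-group of sectional 2-rank at most 4 and P a proper non-abelian subgroup whose centre has order 2. Let S₀ be the centralizer in S of Z(P) and suppose P is normal in S₀. Then either S₀ = S, or P has sectional 2-rank at most 2 and S₀ has index 2 in S. -/
theorem result {S : Type*} [Group S] [Finite S] (h2 : IsPGroup 2 S) (hr : Cfsg.SectionalPRankLE 2 4 S)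
    (P : Subgroup S) (hPlt : P ≠ ⊤) (hP : ¬ IsMulCommutative ↥P) (hZP : Nat.card ↥(Subgroup.center ↥P) = 2)
    (S₀ : Subgroup S) (hS₀ : S₀ = Subgroup.centralizer (((Subgroup.center ↥P).map P.subtype : Subgroup S) : Set S))
    (hPn : ∀ s ∈ S₀, ∀ x ∈ P, s * x * s⁻¹ ∈ P) :
    S₀ = ⊤ ∨ (Cfsg.SectionalPRankLE 2 2 ↥P ∧ S₀.index = 2) := by
  haveI : Fact (Nat.Prime 2) := ⟨Nat.prime_two⟩
  -- the generator of the centre
  obtain ⟨⟨z0, hz0⟩, hz1⟩ : ∃ z : Subgroup.center P, z ≠ 1 := by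
    haveI : Nontrivial (Subgroup.center P) := Finite.one_lt_card_iff_nontrivial.1 (by omega)
    exact exists_ne 1
  have hall : ∀ x ∈ Subgroup.center P, x = 1 ∨ x = z0 := by
    intro x hx
    obtain ⟨u, hu, huniq⟩ := Nat.card_eq_two_iff' (1 : Subgroup.center P) |>.1 hZP
    by_cases h : (⟨x, hx⟩ : Subgroup.center P) = 1
    · exact Or.inl (congrArg Subtype.val h)
    · exact Or.inr (congrArg Subtype.val ((huniq _ h).trans (huniq _ hz1).symm))
  set z : S := (z0 : S)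
  have hzc : ∀ s : S, s ∈ S₀ ↔ Commute s z := by
    intro s
    rw [hS₀, Subgroup.mem_centralizer_iff]
    constructor
    · exact fun h => (h z ⟨z0, hz0, rfl⟩).symm
    · rintro h _ ⟨x, hx, rfl⟩
      rcases hall x hx with rfl | rfl
      · simp
      · exact h.symm.eq
  have hgood : Good P z :=
    { mem := z0.2
      ne := fun h => hz1 (Subtype.ext (Subtype.ext h))
      comm := fun x hx => congrArg Subtype.val (Subgroup.mem_center_iff.1 hz0 ⟨x, hx⟩)
      center := fun x hx hc => by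
        rcases hall ⟨x, hx⟩ (Subgroup.mem_center_iff.2 fun y => Subtype.ext (hc y y.2).symm.eq)
          with h | h
        · exact Or.inl (congrArg Subtype.val h)
        · exact Or.inr (congrArg Subtype.val h)
      nab := by
        by_contra h
        push Not at h
        exact hP ⟨⟨fun a b => Subtype.ext (h a a.2 b b.2)⟩⟩
      normal := fun s hs => hPn s ((hzc s).2 hs) }
  rcases eq_or_ne S₀ ⊤ with htop | htop
  · exact Or.inl htop
  right
  haveI := h2.isNilpotent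
  have hnc : NormalizerCondition S := Group.normalizerCondition_of_isNilpotent
  set N₁ := Subgroup.normalizer (S₀ : Set S) with hN₁
  obtain ⟨h, hhN, hhS⟩ := SetLike.exists_of_lt (hnc S₀ (lt_top_iff_ne_top.2 htop))
  -- conjugates
  have hGg : ∀ g : S, Good (P.map (MulAut.conj g).toMonoidHom) (g * z * g⁻¹) := hgood.conj
  have hcent : ∀ g s : S, Commute s (g * z * g⁻¹) ↔ g⁻¹ * s * g ∈ S₀ := by
    intro g s
    rw [hzc]
    constructor
    · intro hc
      simpa [mul_assoc] using commute_conj g⁻¹ hc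
    · intro hc
      simpa [mul_assoc] using commute_conj g hc
  have hNc : ∀ k ∈ N₁, ∀ s, Commute s (k * z * k⁻¹) ↔ s ∈ S₀ := fun k hk s => by
    rw [hcent]
    have := (Subgroup.mem_normalizer_iff''.1 hk) s
    exact this.symm
  -- distinct centres give commuting subgroups
  have hpair : ∀ k₁ ∈ N₁, ∀ k₂ ∈ N₁, k₁ * z * k₁⁻¹ ≠ k₂ * z * k₂⁻¹ →
      (∀ x ∈ P.map (MulAut.conj k₁).toMonoidHom, ∀ y ∈ P.map (MulAut.conj k₂).toMonoidHom, Commute x y) ∧
      ∀ x ∈ P.map (MulAut.conj k₁).toMonoidHom, x ∈ P.map (MulAut.conj k₂).toMonoidHom → x = 1 :=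
    fun k₁ h₁ k₂ h₂ hne => disjoint_comm h2 (hGg k₁) (hGg k₂) hne
      (fun x hx => (hNc k₂ h₂ x).2 ((hNc k₁ h₁ x).1 ((hGg k₁).comm x hx)))
      (fun x hx => (hNc k₁ h₁ x).2 ((hNc k₂ h₂ x).1 ((hGg k₂).comm x hx)))
  set z' := h * z * h⁻¹ with hz'
  have hzz' : z ≠ z' := fun e => hhS ((hzc h).2 (mul_inv_eq_iff_eq_mul.1 e.symm))
  have h1N : (1 : S) ∈ N₁ := one_mem _
  -- the orbit of `z`
  have horb : ∀ k ∈ N₁, k * z * k⁻¹ = z ∨ k * z * k⁻¹ = z' := by
    intro k hk
    by_contra hc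
    push Not at hc
    exact no_triple h2 hr (hGg 1) (hGg h) (hGg k)
      (hpair 1 h1N h hhN (by simpa using hzz')).1
      (hpair 1 h1N k hk (by simpa using fun e => hc.1 e.symm)).1
      (hpair h hhN k hk (fun e => hc.2 e.symm)).1
  have hswap : ∀ k ∈ N₁, (k * z * k⁻¹ = z ∧ k * z' * k⁻¹ = z') ∨ (k * z * k⁻¹ = z' ∧ k * z' * k⁻¹ = z) := by
    intro k hk
    have h4 := horb (k * h) (N₁.mul_mem hk hhN)
    have h4e : k * h * z * (k * h)⁻¹ = k * z' * k⁻¹ := by rw [hz']; group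
    rw [h4e] at h4
    rcases horb k hk with h3 | h3
    · left
      refine ⟨h3, h4.resolve_left fun e => hzz' (conj_cancel (h3.trans e.symm))⟩
    · right
      refine ⟨h3, h4.resolve_right fun e => hzz' (conj_cancel (h3.trans e.symm))⟩
  -- the sectional rank of `P`
  refine ⟨?_, ?_⟩
  · intro H N _ A hA hexp
    obtain ⟨hcomm, hdisj⟩ := hpair 1 h1N h hhN (by simpa using hzz')
    let H₁ : Subgroup H := A.comap (QuotientGroup.mk' N)
    let i : H₁ →* S := P.subtype.comp (H.subtype.comp H₁.subtype)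
    let j : H₁ →* S := (MulAut.conj h).toMonoidHom.comp i
    have hiP : ∀ x : H₁, i x ∈ P.map (MulAut.conj (1 : S)).toMonoidHom := fun x =>
      mem_conj.2 ⟨i x, (((x : H) : P)).2, by simp⟩
    have hjP : ∀ x : H₁, j x ∈ P.map (MulAut.conj h).toMonoidHom := fun x =>
      mem_conj.2 ⟨i x, (((x : H) : P)).2, rfl⟩
    let f : H₁ × H₁ →* S := MonoidHom.noncommCoprod i j (fun x y => hcomm _ (hiP x) _ (hjP y))
    have hi : Function.Injective i :=
      (P.subtype_injective.comp (H.subtype_injective.comp H₁.subtype_injective))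
    have hk : f.ker = ⊥ := by
      rw [Subgroup.eq_bot_iff_forall]
      rintro ⟨x, y⟩ hxy
      have e : i x * j y = 1 := hxy
      have hx1 : i x = 1 := hdisj _ (hiP x) (by
        rw [eq_inv_of_mul_eq_one_left e]; exact inv_mem (hjP y))
      have hy1 : j y = 1 := by simpa [hx1] using e
      have hy2 : i y = 1 := conj_cancel (g := h) (by simpa [j] using hy1)
      exact Prod.ext (hi (hx1.trans i.map_one.symm)) (hi (hy2.trans i.map_one.symm))
    let ψ : H₁ →* H ⧸ N := (QuotientGroup.mk' N).comp H₁.subtype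
    have hrange : ψ.range = A := by
      ext a
      constructor
      · rintro ⟨x, rfl⟩; exact x.2
      · intro ha
        obtain ⟨x, rfl⟩ := QuotientGroup.mk'_surjective N a
        exact ⟨⟨x, ha⟩, rfl⟩
    have hsq : ∀ x : H₁, x * x ∈ ψ.ker := fun x => by
      rw [MonoidHom.mem_ker, map_mul, ← pow_two]
      exact hexp _ x.2
    have hle := index_le hr f (ψ.ker.prod ψ.ker) (hk ▸ bot_le) (fun x => ⟨hsq x.1, hsq x.2⟩)
    rw [Subgroup.index_prod, Subgroup.index_ker, hrange] at hle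
    by_contra hlt
    have hlt' : 5 ≤ Nat.card A := by omega
    have := Nat.mul_le_mul hlt' hlt'
    omega
  -- the index
  have hN₁ : N₁ = ⊤ := by
    by_contra hne
    obtain ⟨g, hgN, hgn⟩ := SetLike.exists_of_lt (hnc N₁ (lt_top_iff_ne_top.2 hne))
    have hgk : ∀ k, k ∈ N₁ ↔ g⁻¹ * k * g ∈ N₁ := fun k =>
      Subgroup.mem_normalizer_iff''.1 hgN k
    have hS₀N : ∀ s ∈ S₀, s ∈ N₁ := fun s hs => Subgroup.le_normalizer hs
    have hsw' : ∀ k ∈ N₁, (k * (g * z * g⁻¹) * k⁻¹ = g * z * g⁻¹ ∧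
        k * (g * z' * g⁻¹) * k⁻¹ = g * z' * g⁻¹) ∨
        (k * (g * z * g⁻¹) * k⁻¹ = g * z' * g⁻¹ ∧ k * (g * z' * g⁻¹) * k⁻¹ = g * z * g⁻¹) := by
      intro k hk
      rcases hswap _ ((hgk k).1 hk) with ⟨a, b⟩ | ⟨a, b⟩
      · left; constructor
        · conv_rhs => rw [← a]
          group
        · conv_rhs => rw [← b]
          group
      · right; constructor
        · conv_rhs => rw [← a]
          group
        · conv_rhs => rw [← b]
          group
    -- the four subgroups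
    have hC₁ : ∀ s, Commute s z' ↔ Commute s z := fun s => by
      rw [hNc h hhN s, hzc]
    have hC₂ : ∀ s, Commute s (g * z' * g⁻¹) ↔ Commute s (g * z * g⁻¹) := fun s => by
      have e : g * z' * g⁻¹ = (g * h) * z * (g * h)⁻¹ := by rw [hz']; group
      rw [e, hcent, hcent]
      rw [show (g * h)⁻¹ * s * (g * h) = h⁻¹ * (g⁻¹ * s * g) * h by group]
      exact ((Subgroup.mem_normalizer_iff''.1 hhN) _).symm
    -- `z` and `g z g⁻¹` have different centralisers
    have hdist : ¬ (∀ s, Commute s (g * z * g⁻¹) ↔ Commute s z) := fun hall' => hgn (by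
      rw [hN₁, Subgroup.mem_normalizer_iff'']
      intro s
      rw [← hcent g s, hall', hzc])
    have q₁ : Good P z := hgood
    have q₂ := hGg h
    have r₁ := hGg g
    have r₂ : Good ((P.map (MulAut.conj h).toMonoidHom).map (MulAut.conj g).toMonoidHom)
        (g * z' * g⁻¹) := (hGg h).conj g
    have inN : ∀ x, (Commute x z → x ∈ N₁) ∧ (Commute x (g * z * g⁻¹) → x ∈ N₁) := fun x =>
      ⟨fun hx => hS₀N x ((hzc x).2 hx), fun hx => (hgk x).2 (hS₀N _ ((hcent g x).1 hx))⟩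
    -- the centres commute
    have hzv : Commute z (g * z * g⁻¹) := by
      let T : Subgroup S := P ⊓ Subgroup.centralizer ({g * z * g⁻¹} : Set S)
      have hfix : ∀ x, Commute x (g * z * g⁻¹) ↔ x * (g * z * g⁻¹) * x⁻¹ = g * z * g⁻¹ := fun x =>
        mul_inv_eq_iff_eq_mul.symm
      have hfix' : ∀ x, Commute x (g * z' * g⁻¹) ↔ x * (g * z' * g⁻¹) * x⁻¹ = g * z' * g⁻¹ := fun x =>
        mul_inv_eq_iff_eq_mul.symm
      have hT : T ≠ ⊥ := by
        intro hT
        obtain ⟨a, ha, b, hb, hab⟩ := q₁.nab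
        have hs : ∀ x ∈ P, x * x = 1 := fun x hx => by
          have : x * x ∈ T := ⟨P.mul_mem hx hx, Subgroup.mem_centralizer_singleton_iff.2 (by
            refine ((hfix _).2 ?_).eq
            rw [show x * x * (g * z * g⁻¹) * (x * x)⁻¹ = x * (x * (g * z * g⁻¹) * x⁻¹) * x⁻¹ by group]
            rcases hsw' x ((inN x).1 (q₁.comm x hx)) with ⟨p, q⟩ | ⟨p, q⟩
            · rw [p, p]
            · rw [p, q])⟩
          simpa [hT] using this
        have hi : ∀ x ∈ P, x⁻¹ = x := fun x hx => inv_eq_of_mul_eq_one_right (hs x hx)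
        apply hab
        show a * b = b * a
        rw [← hi _ (P.mul_mem ha hb), mul_inv_rev, hi a ha, hi b hb]
      have hzT : z ∈ T := q₁.mem_of_normal h2 inf_le_left (fun q hq x hx => by
        obtain ⟨hxP, hxc⟩ := Subgroup.mem_inf.1 hx
        refine ⟨P.mul_mem (P.mul_mem hq hxP) (P.inv_mem hq), Subgroup.mem_centralizer_singleton_iff.2 ?_⟩
        have hx1 : Commute x (g * z * g⁻¹) := Subgroup.mem_centralizer_singleton_iff.1 hxc
        have hx2 := (hfix' x).1 ((hC₂ x).2 hx1)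
        have hx1' := (hfix x).1 hx1
        refine ((hfix _).2 ?_).eq
        generalize g * z * g⁻¹ = v, g * z' * g⁻¹ = v' at *
        rcases hsw' q⁻¹ ((inN q⁻¹).1 (q₁.comm _ (P.inv_mem hq))) with ⟨p, -⟩ | ⟨p, -⟩
        · calc q * x * q⁻¹ * v * (q * x * q⁻¹)⁻¹ = q * (x * (q⁻¹ * v * q⁻¹⁻¹) * x⁻¹) * q⁻¹ := by group
            _ = q * (q⁻¹ * v * q⁻¹⁻¹) * q⁻¹ := by rw [p, hx1']
            _ = v := by group
        · calc q * x * q⁻¹ * v * (q * x * q⁻¹)⁻¹ = q * (x * (q⁻¹ * v * q⁻¹⁻¹) * x⁻¹) * q⁻¹ := by group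
            _ = q * (q⁻¹ * v * q⁻¹⁻¹) * q⁻¹ := by rw [p, hx2]
            _ = v := by group) hT
      exact Subgroup.mem_centralizer_singleton_iff.1 (Subgroup.mem_inf.1 hzT).2
    have hzv' : Commute z (g * z' * g⁻¹) := (hC₂ z).2 hzv
    have hz'v : Commute z' (g * z * g⁻¹) := ((hC₁ _).2 hzv.symm).symm
    have hz'v' : Commute z' (g * z' * g⁻¹) := ((hC₁ _).2 hzv'.symm).symm
    have hzz : Commute z z' := ((hC₁ z).2 (Commute.refl z))
    have hvv : Commute (g * z * g⁻¹) (g * z' * g⁻¹) := commute_conj g hzz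
    have hne2 : g * z * g⁻¹ ≠ g * z' * g⁻¹ := fun e => hzz' (conj_cancel e)
    have ne1 : z ≠ g * z * g⁻¹ := fun e => hdist (fun s => by rw [← e])
    have ne2 : z ≠ g * z' * g⁻¹ := fun e => hdist (fun s => by rw [← hC₂, ← e])
    have ne3 : z' ≠ g * z * g⁻¹ := fun e => hdist (fun s => by rw [← e, hC₁])
    have ne4 : z' ≠ g * z' * g⁻¹ := fun e => hdist (fun s => by rw [← hC₂, ← e, hC₁])
    have hq : ∀ x ∈ P.map (MulAut.conj h).toMonoidHom, Commute x z := fun x hx =>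
      (hC₁ x).1 (q₂.comm x hx)
    have hr' : ∀ x ∈ (P.map (MulAut.conj h).toMonoidHom).map (MulAut.conj g).toMonoidHom,
        Commute x (g * z * g⁻¹) := fun x hx => (hC₂ x).1 (r₂.comm x hx)
    -- alternatives for each of the four subgroups
    have alt₁ : (∀ x ∈ P.map (MulAut.conj g).toMonoidHom, Commute x z) ∨ g * z * g⁻¹ = z * z' := by
      by_contra hc
      push Not at hc
      obtain ⟨⟨y, hy, hyz⟩, hne⟩ := hc
      exact hne (center_eq r₁ (fun k hk => hswap k ((inN k).2 (r₁.comm k hk))) q₁.mul_self hzz hzz'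
        hzv hy hyz)
    have alt₂ : (∀ x ∈ (P.map (MulAut.conj h).toMonoidHom).map (MulAut.conj g).toMonoidHom,
        Commute x z) ∨ g * z' * g⁻¹ = z * z' := by
      by_contra hc
      push Not at hc
      obtain ⟨⟨y, hy, hyz⟩, hne⟩ := hc
      exact hne (center_eq r₂ (fun k hk => hswap k ((inN k).2 (hr' k hk))) q₁.mul_self hzz hzz'
        hzv' hy hyz)
    have bet₁ : (∀ x ∈ P, Commute x (g * z * g⁻¹)) ∨ z = (g * z * g⁻¹) * (g * z' * g⁻¹) := by
      by_contra hc
      push Not at hc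
      obtain ⟨⟨y, hy, hyz⟩, hne⟩ := hc
      exact hne (center_eq q₁ (fun k hk => hsw' k ((inN k).1 (q₁.comm k hk))) r₁.mul_self hvv hne2
        hzv.symm hy hyz)
    have bet₂ : (∀ x ∈ P.map (MulAut.conj h).toMonoidHom, Commute x (g * z * g⁻¹)) ∨
        z' = (g * z * g⁻¹) * (g * z' * g⁻¹) := by
      by_contra hc
      push Not at hc
      obtain ⟨⟨y, hy, hyz⟩, hne⟩ := hc
      exact hne (center_eq q₂ (fun k hk => hsw' k ((inN k).1 (hq k hk))) r₁.mul_self hvv hne2
        hz'v.symm hy hyz)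
    have cQ := (disjoint_comm h2 q₁ q₂ hzz' (fun x hx => (hC₁ x).2 (q₁.comm x hx)) hq).1
    have cR := (disjoint_comm h2 r₁ r₂ hne2 (fun x hx => (hC₂ x).2 (r₁.comm x hx)) hr').1
    rcases alt₁ with a₁ | a₁ <;> rcases alt₂ with a₂ | a₂
    case inr.inr => exact hne2 (a₁.trans a₂.symm)
    case' inl.inl => rcases bet₁ with b₁ | b₁ <;> rcases bet₂ with b₂ | b₂
    case inl.inl.inr.inr => exact hzz' (b₁.trans b₂.symm)
    case inl.inl.inl.inl | inl.inl.inl.inr | inl.inl.inr.inl =>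
      first
      | exact no_triple h2 hr q₁ q₂ r₁ cQ (disjoint_comm h2 q₁ r₁ ne1 b₁ a₁).1
          (disjoint_comm h2 q₂ r₁ ne3 b₂ (fun x hx => (hC₁ x).2 (a₁ x hx))).1
      | exact no_triple h2 hr q₁ r₁ r₂ (disjoint_comm h2 q₁ r₁ ne1 b₁ a₁).1
          (disjoint_comm h2 q₁ r₂ ne2 (fun x hx => (hC₂ x).2 (b₁ x hx)) a₂).1 cR
      | exact no_triple h2 hr q₂ r₁ r₂
          (disjoint_comm h2 q₂ r₁ ne3 b₂ (fun x hx => (hC₁ x).2 (a₁ x hx))).1
          (disjoint_comm h2 q₂ r₂ ne4 (fun x hx => (hC₂ x).2 (b₂ x hx)) (fun x hx => (hC₁ x).2 (a₂ x hx))).1 cR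
    case inl.inr =>
      have hi : z'⁻¹ = z' := inv_eq_of_mul_eq_one_right q₂.mul_self
      rcases bet₁ with b₁ | b₁
      · rcases bet₂ with b₂ | b₂
        · exact no_triple h2 hr q₁ q₂ r₁ cQ (disjoint_comm h2 q₁ r₁ ne1 b₁ a₁).1
            (disjoint_comm h2 q₂ r₁ ne3 b₂ (fun x hx => (hC₁ x).2 (a₁ x hx))).1
        · rw [a₂, ← mul_assoc, right_eq_mul] at b₂
          exact ne1 (by rw [eq_inv_of_mul_eq_one_left b₂, inv_eq_of_mul_eq_one_right q₁.mul_self])
      · rw [a₂, hzz.eq, ← mul_assoc, right_eq_mul] at b₁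
        exact ne3 (by rw [eq_inv_of_mul_eq_one_left b₁, hi])
    case inr.inl =>
      rcases bet₁ with b₁ | b₁
      · rcases bet₂ with b₂ | b₂
        · exact no_triple h2 hr q₁ q₂ r₂ cQ
            (disjoint_comm h2 q₁ r₂ ne2 (fun x hx => (hC₂ x).2 (b₁ x hx)) a₂).1
            (disjoint_comm h2 q₂ r₂ ne4 (fun x hx => (hC₂ x).2 (b₂ x hx)) (fun x hx => (hC₁ x).2 (a₂ x hx))).1
        · rw [a₁, hzz.eq, mul_assoc, left_eq_mul] at b₂
          exact ne2 (by rw [eq_inv_of_mul_eq_one_right b₂, inv_eq_of_mul_eq_one_right q₁.mul_self])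
      · rw [a₁, mul_assoc, left_eq_mul] at b₁
        exact ne4 (by rw [eq_inv_of_mul_eq_one_right b₁, inv_eq_of_mul_eq_one_right q₂.mul_self])
  refine Subgroup.index_eq_two_iff.2 ⟨h, fun b => ?_⟩
  have hb : b ∈ N₁ := hN₁ ▸ Subgroup.mem_top b
  have e : b * h * z * (b * h)⁻¹ = b * z' * b⁻¹ := by rw [hz']; group
  have key : ∀ s, s ∈ S₀ ↔ s * z * s⁻¹ = z := fun s => by
    rw [hzc, mul_inv_eq_iff_eq_mul]; rfl
  rw [key, key, e]
  rcases hswap b hb with ⟨a, c⟩ | ⟨a, c⟩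
  · exact Or.inr ⟨a, fun e' => hzz' (e'.symm.trans c)⟩
  · exact Or.inl ⟨c, fun e' => hzz' (e'.symm.trans a)⟩

end Cfsg.Agent.S4401
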