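import Cfsg.Statements.S3117
import Cfsg.Agent.S4401
import Cfsg.Agent.Lib.PGroups.Critical
import Cfsg.Agent.Lib.Chars.Burnside

set_option autoImplicit false
set_option linter.style.haveILetI false
open Cfsg

namespace Cfsg.Agent.S3117

universe u

variable {L : Type*} [Group L]

/-- A homomorphism from a perfect group to a solvable group is trivial. -/
theorem hom_eq_one {T : Type*} [Group T] [Group.IsSolvable T] (hL : commutator L = ⊤) (f : L →* T)
    (a : L) : f a = 1 := by
  have h : ∀ n, derivedSeries L n = ⊤ := by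
    intro n
    induction n with
    | zero => exact derivedSeries_zero L
    | succ n ih => rw [derivedSeries_succ, ih]; exact hL
  obtain ⟨n, hn⟩ := (inferInstance : Group.IsSolvable T).solvable
  have h1 := map_derivedSeries_le_derivedSeries f n
  rw [h, hn] at h1
  exact Subgroup.mem_bot.1 (h1 ⟨a, trivial, rfl⟩)

/-- A perfect group acts trivially on at most four points. -/
theorem perm_eq_one {T : Type u} [Finite T] (hT : Nat.card T ≤ 4) (hL : commutator L = ⊤)
    (f : L →* Equiv.Perm T) (a : L) : f a = 1 := by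
  haveI : Group.IsSolvable (Equiv.Perm T) := by
    have hcard : Nat.card (Equiv.Perm T) = (Nat.card T).factorial := Nat.card_perm
    rcases (by omega : Nat.card T = 0 ∨ Nat.card T = 1 ∨ Nat.card T = 2 ∨ Nat.card T = 3 ∨ Nat.card T = 4)
      with h | h | h | h | h <;> rw [h] at hcard
    · exact CfsgLib.Chars.isSolvable_of_card_eq_pow_mul_pow (a := 0) (b := 0) Nat.prime_two Nat.prime_three hcard
    · exact CfsgLib.Chars.isSolvable_of_card_eq_pow_mul_pow (a := 0) (b := 0) Nat.prime_two Nat.prime_three hcard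
    · exact CfsgLib.Chars.isSolvable_of_card_eq_pow_mul_pow (a := 1) (b := 0) Nat.prime_two Nat.prime_three hcard
    · exact CfsgLib.Chars.isSolvable_of_card_eq_pow_mul_pow (a := 1) (b := 1) Nat.prime_two Nat.prime_three hcard
    · exact CfsgLib.Chars.isSolvable_of_card_eq_pow_mul_pow (a := 3) (b := 1) Nat.prime_two Nat.prime_three hcard
  exact hom_eq_one hL f a

section action

variable {Y : Type u} [Group Y] (φ : L →* MulAut Y)

/-- The permutations induced on an invariant set. -/
def setPerm (T : Set Y) (hT : ∀ a, ∀ y ∈ T, φ a y ∈ T) : L →* Equiv.Perm T where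
  toFun a :=
    { toFun := fun y => ⟨φ a y, hT a y y.2⟩
      invFun := fun y => ⟨φ a⁻¹ y, hT _ y y.2⟩
      left_inv := fun y => Subtype.ext (by simp)
      right_inv := fun y => Subtype.ext (by simp) }
  map_one' := Equiv.ext fun y => Subtype.ext (by simp)
  map_mul' a b := Equiv.ext fun y => Subtype.ext (by simp)

theorem fixed_of_small_set [Finite Y] (hL : commutator L = ⊤) (T : Set Y) (hT : ∀ a, ∀ y ∈ T, φ a y ∈ T)
    (hcard : Nat.card T ≤ 4) (a : L) {y : Y} (hy : y ∈ T) : φ a y = y :=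
  congrArg Subtype.val (congrArg (fun σ : Equiv.Perm T => σ ⟨y, hy⟩) (perm_eq_one hcard hL (setPerm φ T hT) a))

/-- A perfect group of automorphisms of a `2`-group fixing every `y⁻¹ α(y)` fixes `y`. -/
theorem fixed_of_div [Group.IsSolvable Y] (hL : commutator L = ⊤) {y : Y}
    (h : ∀ a b : L, φ a (y⁻¹ * φ b y) = y⁻¹ * φ b y) (a : L) : φ a y = y := by
  let g : L →* Y :=
    { toFun := fun a => y⁻¹ * φ a y
      map_one' := by simp
      map_mul' := fun a b => by
        have hab := h a b
        rw [map_mul, map_inv] at hab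
        rw [map_mul, MulAut.mul_apply, ← hab]
        group }
  exact (inv_mul_eq_one.1 (hom_eq_one hL g a)).symm

end action

section gauss

variable {V : Type*} [CommGroup V] [Fintype V]

/-- A `±1`-valued quadratic function on `V`: `|V|` divides the square of its sum. -/
theorem gauss (g : V → ℤ) (b : V → V → ℤ) (hg1 : g 1 = 1) (hg : ∀ v, g v = 1 ∨ g v = -1)
    (hb : ∀ v r, b v r = 1 ∨ b v r = -1) (hbm : ∀ u v r, b (u * v) r = b u r * b v r)
    (hbm' : ∀ v r s, b v (r * s) = b v r * b v s) (hq : ∀ v r, g (v * r) = g v * g r * b v r) :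
    (Fintype.card V : ℤ) ∣ (∑ v, g v) ^ 2 ∧
      ((∑ v, g v) ^ 2 = (Fintype.card V : ℤ) ^ 2 ∨ 2 * (∑ v, g v) ^ 2 ≤ (Fintype.card V : ℤ) ^ 2) := by
  classical
  have hinner : ∀ r, (∑ v, b v r) = if ∀ v, b v r = 1 then (Fintype.card V : ℤ) else 0 := by
    intro r
    split_ifs with h
    · simp [h]
    · push Not at h
      obtain ⟨u, hu⟩ := h
      have h1 : ∑ v, b (u * v) r = ∑ v, b v r := Equiv.sum_comp (Equiv.mulLeft u) (fun v => b v r)
      simp only [hbm, (hb u r).resolve_left hu, ← Finset.mul_sum] at h1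
      omega
  have hsq : (∑ v, g v) ^ 2 = Fintype.card V * ∑ r ∈ Finset.univ.filter (fun r => ∀ v, b v r = 1), g r := by
    calc (∑ v, g v) ^ 2 = ∑ v, ∑ r, g v * g (v * r) := by
          rw [pow_two, Finset.sum_mul]
          refine Finset.sum_congr rfl fun v _ => ?_
          rw [← Finset.mul_sum, Equiv.sum_comp (Equiv.mulLeft v) g |>.symm]
          rfl
      _ = ∑ v, ∑ r, g r * b v r := by
          refine Finset.sum_congr rfl fun v _ => Finset.sum_congr rfl fun r _ => ?_
          rw [hq]; rcases hg v with h | h <;> rw [h] <;> ring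
      _ = ∑ r, g r * ∑ v, b v r := by
          rw [Finset.sum_comm]; simp only [Finset.mul_sum]
      _ = _ := by
          simp only [hinner, Finset.sum_filter, Finset.mul_sum]
          exact Finset.sum_congr rfl fun r _ => by split_ifs <;> ring
  refine ⟨⟨_, hsq⟩, ?_⟩
  by_cases hall : ∀ r v, b v r = 1
  · -- then `g` is multiplicative
    by_cases hgu : ∀ v, g v = 1
    · left; simp [hgu]
    · right
      push Not at hgu
      obtain ⟨u, hu⟩ := hgu
      have h1 : ∑ v, g (u * v) = ∑ v, g v := Equiv.sum_comp (Equiv.mulLeft u) g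
      simp only [hq, hall, mul_one, (hg u).resolve_left hu, ← Finset.mul_sum] at h1
      have h0 : (∑ v, g v) = 0 := by omega
      rw [h0]; positivity
  · right
    push Not at hall
    obtain ⟨r₀, v₀, hv₀⟩ := hall
    set R := Finset.univ.filter (fun r => ∀ v, b v r = 1) with hR
    have hdisj : Disjoint R (R.image (· * r₀)) := by
      rw [Finset.disjoint_left]
      intro x hx hx'
      obtain ⟨r, hr, rfl⟩ := Finset.mem_image.1 hx'
      simp only [hR, Finset.mem_filter, Finset.mem_univ, true_and] at hx hr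
      have := hx v₀
      rw [hbm', hr v₀, one_mul] at this
      exact hv₀ this
    have hcard : 2 * R.card ≤ Fintype.card V := by
      have := Finset.card_le_univ (R ∪ R.image (· * r₀))
      rw [Finset.card_union_of_disjoint hdisj, Finset.card_image_of_injective _ (mul_left_injective r₀)] at this
      omega
    have hle : ∑ r ∈ R, g r ≤ (R.card : ℤ) := by
      simpa using Finset.sum_le_sum (f := g) (g := fun _ => (1 : ℤ)) (s := R) fun r _ => by
        rcases hg r with h | h <;> omega
    rw [hsq]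
    have h2 : 2 * (∑ r ∈ R, g r) ≤ (Fintype.card V : ℤ) := by omega
    nlinarith [Int.natCast_nonneg (Fintype.card V)]

/-- Classes of an anisotropic quadratic map into a four-group: on more than sixteen points none exist;
on sixteen all classes have odd size different from one. -/
theorem count_facts (n : ℕ) (hV : Fintype.card V = 2 ^ n) (N : Fin 3 → ℕ) (hsum : N 0 + N 1 + N 2 + 1 = 2 ^ n)
    (hdvd : ∀ i, ((2 ^ n : ℕ) : ℤ) ∣ (2 + 2 * (N i : ℤ) - 2 ^ n) ^ 2)
    (hor : ∀ i, (2 + 2 * (N i : ℤ) - 2 ^ n) ^ 2 = (2 ^ n : ℤ) ^ 2 ∨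
      2 * (2 + 2 * (N i : ℤ) - 2 ^ n) ^ 2 ≤ (2 ^ n : ℤ) ^ 2) :
    n ≤ 4 ∧ (n = 4 → ∀ i, N i % 2 = 1 ∧ N i ≠ 1) ∧ (n = 3 → ∀ i, N i % 2 = 1) := by
  have hn : n ≤ 4 := by
    by_contra hc
    have h8 : ∀ i, (8 : ℤ) ∣ (2 + 2 * (N i : ℤ) - 2 ^ n) := by
      intro i
      have h32 : (32 : ℤ) ∣ (2 + 2 * (N i : ℤ) - 2 ^ n) ^ 2 := by
        refine dvd_trans ?_ (hdvd i)
        push_cast
        exact (by norm_num : (32 : ℤ) = 2 ^ 5) ▸ pow_dvd_pow 2 (by omega)
      set S := (2 + 2 * (N i : ℤ) - 2 ^ n)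
      have : (S : ZMod 32) ^ 2 = 0 := by
        rw [← Int.cast_pow]; exact (ZMod.intCast_zmod_eq_zero_iff_dvd _ 32).2 h32
      have h8' : ((S : ZMod 32).val : ℕ) % 8 = 0 := by
        revert this; generalize (S : ZMod 32) = s; revert s; decide
      have h := ZMod.val_intCast (n := 32) S
      omega
    have h32' : (32 : ℤ) ∣ 2 ^ n := (by norm_num : (32 : ℤ) = 2 ^ 5) ▸ pow_dvd_pow 2 (by omega)
    have := h8 0; have := h8 1; have := h8 2
    have : ((N 0 : ℤ) + N 1 + N 2 + 1) = 2 ^ n := by exact_mod_cast hsum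
    omega
  refine ⟨hn, fun h i => ?_, fun h i => ?_⟩
  · subst h
    have h1 := hdvd i; have h2 := hor i
    have h3 : N i ≤ 15 := by fin_cases i <;> simp <;> omega
    interval_cases h : N i <;> simp_all
  · subst h
    have h1 := hdvd i
    have h3 : N i ≤ 7 := by fin_cases i <;> simp <;> omega
    interval_cases h : N i <;> simp_all

end gauss

/-- A perfect group cannot move the points of a class of five. -/
theorem five_class {V : Type u} [CommGroup V] [Finite V] (φ : L →* MulAut V) (hL : commutator L = ⊤)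
    (q : V → Fin 4) (hq : ∀ a v, q (φ a v) = q v) (h1 : ∀ v, v = 1 ↔ q v = 3)
    (h5 : ∀ i, i ≠ 3 → Nat.card {v // q v = i} = 5) (v : V) (hv : q v = 0) (a : L) : φ a v = v := by
  classical
  haveI : Fintype V := Fintype.ofFinite V
  let T : Set V := {v | q v = 0}
  have hT : ∀ a, ∀ v ∈ T, φ a v ∈ T := fun a v hv => (hq a v).trans hv
  have hcT : Nat.card T = 5 := h5 0 (by decide)
  have hcT' : Fintype.card T = 5 := Nat.card_eq_fintype_card.symm.trans hcT
  set f := setPerm φ T hT
  by_contra hne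
  have hfne : f a ≠ 1 := fun h => hne (congrArg Subtype.val (congrArg (fun σ : Equiv.Perm T => σ ⟨v, hv⟩) h))
  have hnsol : ¬ Group.IsSolvable f.range := fun hs =>
    hfne (congrArg Subtype.val (hom_eq_one hL f.rangeRestrict a))
  have hle : f.range ≤ alternatingGroup T := by
    rintro _ ⟨c, rfl⟩
    exact hom_eq_one (T := ℤˣ) hL (Equiv.Perm.sign.comp f) c
  have hA : Nat.card (alternatingGroup T) = 60 := by
    haveI : Nontrivial T := Fintype.one_lt_card_iff_nontrivial.1 (by omega)
    rw [Nat.card_eq_fintype_card, card_alternatingGroup, hcT']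
    rfl
  have hall : ∀ σ : Equiv.Perm T, Equiv.Perm.sign σ = 1 → ∃ c, f c = σ := by
    haveI : IsSimpleGroup (alternatingGroup T) :=
      alternatingGroup.isSimpleGroup hcT.ge
    let H := f.range.subgroupOf (alternatingGroup T)
    have hH : Nat.card H = Nat.card f.range := Nat.card_congr (Subgroup.subgroupOfEquivOfLe hle).toEquiv
    have hdvd : Nat.card H ∣ 60 := hA ▸ Subgroup.card_subgroup_dvd_card H
    have htop : H = ⊤ := by
      by_contra hne'
      have hidx : H.index ≠ 2 := fun h2 => by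
        rcases IsSimpleGroup.eq_bot_or_eq_top_of_normal H (Subgroup.normal_of_index_eq_two h2) with h | h
        · have := H.card_mul_index
          rw [h2, h, Subgroup.card_bot, hA] at this
          omega
        · rw [h, Subgroup.index_top] at h2; omega
      have hmul := H.card_mul_index
      rw [hA] at hmul
      have hidx1 : H.index ≠ 1 := fun h => hne' (Subgroup.index_eq_one.1 h)
      have hs : ∀ p q x y : ℕ, p.Prime → q.Prime → Nat.card H = p ^ x * q ^ y → False := fun p q x y hp hq' h =>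
        hnsol (CfsgLib.Chars.isSolvable_of_card_eq_pow_mul_pow hp hq' (hH ▸ h))
      have hle60 : Nat.card H ≤ 60 := Nat.le_of_dvd (by norm_num) hdvd
      have hcases : Nat.card H ∈ ({1, 2, 3, 4, 5, 6, 10, 12, 15, 20} : Finset ℕ) := by
        have hd : Nat.card H ∈ Nat.divisors 60 := Nat.mem_divisors.2 ⟨hdvd, by norm_num⟩
        rw [show Nat.divisors 60 = {1, 2, 3, 4, 5, 6, 10, 12, 15, 20, 30, 60} by decide] at hd
        simp only [Finset.mem_insert, Finset.mem_singleton] at hd ⊢
        rcases hd with h | h | h | h | h | h | h | h | h | h | h | h <;> rw [h] at hmul <;> omega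
      simp only [Finset.mem_insert, Finset.mem_singleton] at hcases
      rcases hcases with h | h | h | h | h | h | h | h | h | h
      · exact hs 2 3 0 0 Nat.prime_two Nat.prime_three (by simpa using h)
      · exact hs 2 3 1 0 Nat.prime_two Nat.prime_three (by simpa using h)
      · exact hs 2 3 0 1 Nat.prime_two Nat.prime_three (by simpa using h)
      · exact hs 2 3 2 0 Nat.prime_two Nat.prime_three (by simpa using h)
      · exact hs 2 5 0 1 Nat.prime_two Nat.prime_five (by simpa using h)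
      · exact hs 2 3 1 1 Nat.prime_two Nat.prime_three (by simpa using h)
      · exact hs 2 5 1 1 Nat.prime_two Nat.prime_five (by simpa using h)
      · exact hs 2 3 2 1 Nat.prime_two Nat.prime_three (by simpa using h)
      · exact hs 3 5 1 1 Nat.prime_three Nat.prime_five (by simpa using h)
      · exact hs 2 5 2 1 Nat.prime_two Nat.prime_five (by simpa using h)
    intro σ hσ
    exact ((htop ▸ Subgroup.mem_top (⟨σ, hσ⟩ : alternatingGroup T)) : (⟨σ, hσ⟩ : alternatingGroup T) ∈ H)
  -- moves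
  have move : ∀ x y z : T, x ≠ y → y ≠ z → z ≠ x → ∃ c, φ c (x : V) = y ∧ φ c (y : V) = z ∧ φ c (z : V) = x ∧
      ∀ w : T, w ≠ x → w ≠ y → w ≠ z → φ c (w : V) = w := by
    intro x y z hxy hyz hzx
    obtain ⟨c, hc⟩ := hall (Equiv.swap x y * Equiv.swap y z) (by
      rw [map_mul, Equiv.Perm.sign_swap hxy, Equiv.Perm.sign_swap hyz]; rfl)
    have happ : ∀ w : T, φ c (w : V) = ((Equiv.swap x y * Equiv.swap y z) w : T) := fun w => by
      rw [← hc]; rfl
    refine ⟨c, ?_, ?_, ?_, fun w h1 h2 h3 => ?_⟩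
    · rw [happ, Equiv.Perm.mul_apply, Equiv.swap_apply_of_ne_of_ne hxy hzx.symm, Equiv.swap_apply_left]
    · rw [happ, Equiv.Perm.mul_apply, Equiv.swap_apply_left, Equiv.swap_apply_of_ne_of_ne hzx hyz.symm]
    · rw [happ, Equiv.Perm.mul_apply, Equiv.swap_apply_right, Equiv.swap_apply_right]
    · rw [happ, Equiv.Perm.mul_apply, Equiv.swap_apply_of_ne_of_ne h2 h3, Equiv.swap_apply_of_ne_of_ne h1 h2]
  let ε : T ≃ Fin 5 := Fintype.equivFinOfCardEq hcT'
  let p : Fin 5 → T := ε.symm
  have hp : Function.Injective p := ε.symm.injective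
  -- the class of the pair products is constant
  have hclass : ∀ i j k : Fin 5, i ≠ j → j ≠ k → k ≠ i →
      q ((p i : V) * p j) = q ((p i : V) * p k) := by
    intro i j k hij hjk hki
    obtain ⟨l, hl1, hl2, hl3⟩ : ∃ l, l ≠ i ∧ l ≠ j ∧ l ≠ k := by revert i j k; decide
    obtain ⟨c, hc1, -, -, hc4⟩ := move (p j) (p k) (p l) (hp.ne hjk) (hp.ne hl3.symm) (hp.ne hl2)
    rw [← hq c ((p i : V) * p j), map_mul, hc1, hc4 (p i) (hp.ne hij) (hp.ne hki.symm) (hp.ne hl1.symm)]
  -- pair products are distinct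
  have hdist : ∀ i j k l : Fin 5, i ≠ j → k ≠ l → i ≠ k → i ≠ l → j ≠ k → j ≠ l →
      (p i : V) * p j ≠ (p k : V) * p l := by
    intro i j k l hij hkl hik hil hjk hjl he
    obtain ⟨m, hm1, hm2, hm3, hm4⟩ :=
      (by decide : ∀ i j k l : Fin 5, ∃ m, m ≠ i ∧ m ≠ j ∧ m ≠ k ∧ m ≠ l) i j k l
    obtain ⟨c, hc1, hc2, -, hc4⟩ := move (p k) (p l) (p m) (hp.ne hkl) (hp.ne hm4.symm) (hp.ne hm3)
    have h := congrArg (φ c) he
    rw [map_mul, map_mul, hc1, hc2, hc4 (p i) (hp.ne hik) (hp.ne hil) (hp.ne hm1.symm),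
      hc4 (p j) (hp.ne hjk) (hp.ne hjl) (hp.ne hm2.symm), he, mul_comm (p k : V)] at h
    exact hp.ne hm3 (Subtype.ext (mul_left_cancel h).symm)
  have hne1 : ∀ i j, i ≠ j → q ((p i : V) * p j) ≠ 3 := by
    intro i j hij h
    rw [← h1, mul_eq_one_iff_eq_inv] at h
    obtain ⟨k, hk1, hk2⟩ := (by decide : ∀ i j : Fin 5, ∃ k, k ≠ i ∧ k ≠ j) i j
    obtain ⟨l, hl1, hl2, hl3⟩ := (by decide : ∀ i j k : Fin 5, ∃ l, l ≠ i ∧ l ≠ j ∧ l ≠ k) i j k
    obtain ⟨c, hc1, -, -, hc4⟩ := move (p j) (p k) (p l) (hp.ne hk2.symm) (hp.ne hl3.symm) (hp.ne hl2)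
    have h' := congrArg (φ c) h
    rw [map_inv, hc1, hc4 (p i) (hp.ne hij) (hp.ne hk1.symm) (hp.ne hl1.symm), h] at h'
    exact hp.ne hk2 (Subtype.ext (inv_injective h').symm)
  set e := q ((p 0 : V) * p 1) with he
  have e02 : q ((p 0 : V) * p 2) = e := hclass 0 2 1 (by decide) (by decide) (by decide)
  have e03 : q ((p 0 : V) * p 3) = e := hclass 0 3 1 (by decide) (by decide) (by decide)
  have e04 : q ((p 0 : V) * p 4) = e := hclass 0 4 1 (by decide) (by decide) (by decide)
  have e12 : q ((p 1 : V) * p 2) = e := by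
    rw [hclass 1 2 0 (by decide) (by decide) (by decide), mul_comm]
  have e13 : q ((p 1 : V) * p 3) = e := by
    rw [hclass 1 3 0 (by decide) (by decide) (by decide), mul_comm]
  let w : Fin 6 → {v // q v = e} :=
    ![⟨_, rfl⟩, ⟨_, e02⟩, ⟨_, e03⟩, ⟨_, e04⟩, ⟨_, e12⟩, ⟨_, e13⟩]
  have hw : Function.Injective w := by
    have hl : ∀ i j k, j ≠ k → (p i : V) * p j ≠ (p i : V) * p k := fun i j k h he' =>
      hp.ne h (Subtype.ext (mul_left_cancel he'))
    have hr : ∀ i j k, i ≠ k → (p i : V) * p j ≠ (p k : V) * p j := fun i j k h he' =>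
      hp.ne h (Subtype.ext (mul_right_cancel he'))
    have hx : ∀ i j k, i ≠ k → (p i : V) * p j ≠ (p j : V) * p k := fun i j k h he' =>
      hp.ne h (Subtype.ext (mul_right_cancel (he'.trans (mul_comm _ _))))
    intro x y hxy
    have hxy' := congrArg Subtype.val hxy
    fin_cases x <;> fin_cases y <;> first
      | rfl
      | exact absurd hxy' (hl _ _ _ (by decide))
      | exact absurd hxy'.symm (hl _ _ _ (by decide))
      | exact absurd hxy' (hr _ _ _ (by decide))
      | exact absurd hxy'.symm (hr _ _ _ (by decide))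
      | exact absurd hxy' (hx _ _ _ (by decide))
      | exact absurd hxy'.symm (hx _ _ _ (by decide))
      | exact absurd hxy' (hdist _ _ _ _ (by decide) (by decide) (by decide) (by decide) (by decide) (by decide))
      | exact absurd hxy'.symm (hdist _ _ _ _ (by decide) (by decide) (by decide) (by decide) (by decide) (by decide))
  have h6 := Nat.card_le_card_of_injective w hw
  rw [Nat.card_fin, h5 e (he ▸ hne1 0 1 (by decide))] at h6
  omega

variable {X : Type u} [Group X]

theorem invol_mul_self {x : X} (hx : orderOf x = 2) : x * x = 1 := by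
  rw [← pow_two, ← hx]; exact pow_orderOf_eq_one x

theorem orderOf_two {x : X} (h : x * x = 1) (h1 : x ≠ 1) : orderOf x = 2 :=
  orderOf_eq_prime (by rwa [pow_two]) h1

/-- The three involutions form, with `1`, a four-group with characters. -/
theorem four_group [Finite X] (h2 : IsPGroup 2 X) (h3 : Nat.card {x : X // orderOf x = 2} = 3) :
    ∃ t : Fin 3 → X, Function.Injective t ∧ (∀ x : X, x * x = 1 ↔ x = 1 ∨ ∃ i, x = t i) ∧
      ∀ i, ∃ χ : X → ℤ, χ 1 = 1 ∧ χ (t i) = 1 ∧ (∀ j, j ≠ i → χ (t j) = -1) ∧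
        ∀ x y, x * x = 1 → y * y = 1 → χ (x * y) = χ x * χ y := by
  classical
  haveI : Fact (Nat.Prime 2) := ⟨Nat.prime_two⟩
  haveI : Nontrivial X := by
    obtain ⟨x⟩ : Nonempty {x : X // orderOf x = 2} := (Nat.card_pos_iff.1 (by omega)).1
    exact ⟨⟨x.1, 1, fun h => by have := x.2; rw [h, orderOf_one] at this; omega⟩⟩
  obtain ⟨z, hz⟩ := exists_prime_orderOf_dvd_card' (G := Subgroup.center X) 2 (by
    have := h2.center_nontrivial
    obtain ⟨k, hk⟩ := IsPGroup.iff_card.1 (h2.to_subgroup (Subgroup.center X))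
    rw [hk]
    rcases k with _ | k
    · rw [pow_zero] at hk; exact absurd hk (Finite.one_lt_card.ne')
    · exact dvd_pow_self 2 k.succ_ne_zero)
  rw [← Subgroup.orderOf_coe] at hz
  haveI : Fintype {x : X // orderOf x = 2} := Fintype.ofFinite _
  obtain ⟨⟨u, hu⟩, hune⟩ : ∃ u : {x : X // orderOf x = 2}, u ≠ ⟨z, hz⟩ := by
    haveI : Nontrivial {x : X // orderOf x = 2} := Finite.one_lt_card_iff_nontrivial.1 (by omega)
    exact exists_ne _
  have hzu : (z : X) * u = u * z := (Subgroup.mem_center_iff.1 z.2 u).symm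
  have huz : u ≠ z := fun h => hune (Subtype.ext h)
  have hzz := invol_mul_self hz
  have huu := invol_mul_self hu
  have hw2 : ((z : X) * u) * (z * u) = 1 := by
    rw [show ((z : X) * u) * (z * u) = z * (u * z) * u by group, ← hzu,
      show (z : X) * (z * u) * u = (z * z) * (u * u) by group, hzz, huu, one_mul]
  have hw1 : (z : X) * u ≠ 1 := fun h => huz (mul_left_cancel (h.trans hzz.symm))
  have hwz : (z : X) * u ≠ z := fun h => by
    rw [mul_eq_left] at h; rw [h, orderOf_one] at hu; omega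
  have hwu : (z : X) * u ≠ u := fun h => by
    rw [mul_eq_right] at h; rw [h, orderOf_one] at hz; omega
  let t : Fin 3 → X := ![z, u, z * u]
  have ht2 : ∀ i, orderOf (t i) = 2 := by
    intro i; fin_cases i
    · exact hz
    · exact hu
    · exact orderOf_two hw2 hw1
  have hinj : Function.Injective t := by
    intro i j; fin_cases i <;> fin_cases j <;> simp [t, huz, huz.symm, hwz, hwz.symm, hwu, hwu.symm]
  have hsurj : ∀ x : X, x * x = 1 ↔ x = 1 ∨ ∃ i, x = t i := by
    intro x
    constructor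
    · intro hx
      by_cases hx1 : x = 1
      · exact Or.inl hx1
      · right
        let T : Fin 3 → {x : X // orderOf x = 2} := fun i => ⟨t i, ht2 i⟩
        have hT : Function.Bijective T := (Fintype.bijective_iff_injective_and_card T).2
          ⟨fun i j h => hinj (congrArg Subtype.val h), by rw [Fintype.card_fin, ← Nat.card_eq_fintype_card, h3]⟩
        obtain ⟨i, hi⟩ := hT.2 ⟨x, orderOf_two hx hx1⟩
        exact ⟨i, (congrArg Subtype.val hi).symm⟩
    · rintro (rfl | ⟨i, rfl⟩)
      · simp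
      · exact invol_mul_self (ht2 i)
  refine ⟨t, hinj, hsurj, fun i => ⟨fun x => if x = 1 ∨ x = t i then 1 else -1, by simp, by simp, ?_, ?_⟩⟩
  · intro j hj
    show (if _ then (1 : ℤ) else -1) = -1
    rw [if_neg]
    rintro (h | h)
    · have := ht2 j; rw [h, orderOf_one] at this; omega
    · exact hj (hinj h)
  · intro x y hx hy
    have huzu : u * (z * u) = (z : X) := by rw [hzu, ← mul_assoc, huu, one_mul]
    have hzzu : (z : X) * (z * u) = u := by rw [← mul_assoc, hzz, one_mul]
    have hzuz : (z : X) * u * z = u := by rw [hzu, mul_assoc, hzz, mul_one]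
    have hzuu : (z : X) * u * u = z := by rw [mul_assoc, huu, mul_one]
    have hne1 : u ≠ 1 := fun h => by rw [h, orderOf_one] at hu; omega
    have hne2 : (z : X) ≠ 1 := fun h => by rw [h, orderOf_one] at hz; omega
    rcases (hsurj x).1 hx with rfl | ⟨a, rfl⟩
    · simp
    rcases (hsurj y).1 hy with rfl | ⟨b, rfl⟩
    · simp
    fin_cases i <;> fin_cases a <;> fin_cases b <;>
      simp [t, hzz, huu, hw2, huzu, hzzu, hzuz, hzuu, hne1, hne2, hw1, hwz, hwu, huz, huz.symm, hwz.symm,
        hwu.symm, ← hzu]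

/-- A perfect group acting on an elementary abelian `2`-group preserving an anisotropic quadratic map
into a four-group is trivial. -/
theorem quad_trivial {V : Type u} [CommGroup V] [Finite V] (φ : L →* MulAut V) (hL : commutator L = ⊤)
    (hexp : ∀ v : V, v ^ 2 = 1) (q : V → Fin 4) (hq : ∀ a v, q (φ a v) = q v) (h1 : ∀ v, v = 1 ↔ q v = 3)
    (hchar : ∀ i : Fin 4, i ≠ 3 → ∃ b : V → V → ℤ, (∀ v r, b v r = 1 ∨ b v r = -1) ∧
      (∀ u v r, b (u * v) r = b u r * b v r) ∧ (∀ v r s, b v (r * s) = b v r * b v s) ∧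
      ∀ v r, (if q (v * r) = 3 ∨ q (v * r) = i then (1 : ℤ) else -1) =
        (if q v = 3 ∨ q v = i then 1 else -1) * (if q r = 3 ∨ q r = i then 1 else -1) * b v r)
    (a : L) (v : V) : φ a v = v := by
  classical
  haveI : Fintype V := Fintype.ofFinite V
  haveI : Fact (Nat.Prime 2) := ⟨Nat.prime_two⟩
  have hp : IsPGroup 2 V := fun v => ⟨1, by simpa using hexp v⟩
  obtain ⟨n, hn⟩ := IsPGroup.iff_card.1 hp
  have hn' : Fintype.card V = 2 ^ n := Nat.card_eq_fintype_card.symm.trans hn
  let N : Fin 3 → ℕ := fun i => ((Finset.univ : Finset V).filter fun v => q v = i.castSucc).card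
  have hNcard : ∀ i : Fin 3, Nat.card {v // q v = i.castSucc} = N i := fun i => by
    rw [Nat.card_eq_fintype_card, Fintype.card_subtype]
  have h3 : ((Finset.univ : Finset V).filter fun v => q v = 3).card = 1 := by
    rw [Finset.card_eq_one]
    exact ⟨1, by ext v; simp [h1 v]⟩
  have hall : (Finset.univ : Finset V).card = ∑ i : Fin 4, (Finset.univ.filter fun v => q v = i).card :=
    Finset.card_eq_sum_card_fiberwise fun v _ => Finset.mem_univ _
  have hsum : N 0 + N 1 + N 2 + 1 = 2 ^ n := by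
    rw [Finset.card_univ, hn', Fin.sum_univ_four, h3] at hall
    exact hall.symm
  have hg : ∀ i : Fin 3, ((2 ^ n : ℕ) : ℤ) ∣ (2 + 2 * (N i : ℤ) - 2 ^ n) ^ 2 ∧
      ((2 + 2 * (N i : ℤ) - 2 ^ n) ^ 2 = (2 ^ n : ℤ) ^ 2 ∨
        2 * (2 + 2 * (N i : ℤ) - 2 ^ n) ^ 2 ≤ (2 ^ n : ℤ) ^ 2) := by
    intro i
    have hi3 : i.castSucc ≠ 3 := (Fin.castSucc_lt_last i).ne
    obtain ⟨b, hb, hbm, hbm', hbq⟩ := hchar _ hi3
    have hg' := gauss (fun v => if q v = 3 ∨ q v = i.castSucc then (1 : ℤ) else -1) b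
      (by simp [(h1 1).1 rfl]) (fun v => by split_ifs <;> simp) hb hbm hbm' hbq
    have hsumg : (∑ v, if q v = 3 ∨ q v = i.castSucc then (1 : ℤ) else -1) = 2 + 2 * (N i : ℤ) - 2 ^ n := by
      have e1 : ∀ v, (if q v = 3 ∨ q v = i.castSucc then (1 : ℤ) else -1) =
          2 * (if q v = 3 then 1 else 0) + 2 * (if q v = i.castSucc then 1 else 0) - 1 := fun v => by
        by_cases ha : q v = 3
        · rw [if_pos (Or.inl ha), if_pos ha, if_neg (fun h => hi3 (h.symm.trans ha))]; norm_num
        · by_cases hb' : q v = i.castSucc <;> simp [ha, hb', hi3]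
      simp only [e1, Finset.sum_sub_distrib, Finset.sum_add_distrib, ← Finset.mul_sum, Finset.sum_boole, h3]
      simp [N, hn']
    rw [hsumg, hn'] at hg'
    push_cast at hg' ⊢
    exact hg'
  obtain ⟨hn4, hf4, hf3⟩ := count_facts n hn' N hsum (fun i => (hg i).1) (fun i => (hg i).2)
  -- fixed points
  let W : Subgroup V :=
    { carrier := {v | ∀ a, φ a v = v}
      one_mem' := fun a => map_one _
      mul_mem' := fun hx hy a => by rw [map_mul, hx a, hy a]
      inv_mem' := fun hx a => by rw [map_inv, hx a] }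
  have hsmall : ∀ i : Fin 3, N i ≤ 4 → ∀ v, q v = i.castSucc → v ∈ W := fun i hi v hv a =>
    fixed_of_small_set φ hL {v | q v = i.castSucc} (fun a v hv => (hq a v).trans hv)
      (by rw [← hNcard i] at hi; exact hi) a hv
  have hcls : ∀ v : V, v ≠ 1 → ∃ i : Fin 3, q v = i.castSucc := fun v hv => by
    have h := (h1 v).not.1 hv
    revert h; generalize q v = j; revert j; decide
  by_contra hva
  -- if `W` has index at most four everything is fixed
  have hW : 4 * Nat.card W < Nat.card V := by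
    by_contra hc
    apply hva
    have hWm : ∀ a, W.map (φ a).toMonoidHom = W := fun a => by
      refine le_antisymm ?_ fun x hx => ⟨x, hx, hx a⟩
      rintro _ ⟨x, hx, rfl⟩
      show φ a x ∈ W
      rw [hx a]; exact hx
    let f : L →* Equiv.Perm (V ⧸ W) :=
      { toFun := fun a => (QuotientGroup.congr W W (φ a) (hWm a)).toEquiv
        map_one' := Equiv.ext fun x => QuotientGroup.induction_on x fun y => by simp
        map_mul' := fun a b => Equiv.ext fun x => QuotientGroup.induction_on x fun y =>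
          congrArg (fun v : V => (v : V ⧸ W)) (by rw [map_mul]; rfl : φ (a * b) y = φ a (φ b y)) }
    have hidx : Nat.card (V ⧸ W) ≤ 4 := by
      have := W.card_mul_index
      rw [Subgroup.index_eq_card] at this
      have hpos : 0 < Nat.card W := Nat.card_pos
      by_contra h5
      have : Nat.card W * 5 ≤ Nat.card W * Nat.card (V ⧸ W) := Nat.mul_le_mul_left _ (by omega)
      omega
    refine fixed_of_div φ hL (fun a b => ?_) a
    have := congrArg (fun σ : Equiv.Perm (V ⧸ W) => σ (v : V ⧸ W)) (perm_eq_one hidx hL f b)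
    exact (QuotientGroup.eq.1 (this : ((φ b v : V) : V ⧸ W) = v).symm) a
  have hVcard : Nat.card V = 2 ^ n := hn
  -- the classes inside `W`
  have hWlb : ∀ s : Finset (Fin 3), (∀ i ∈ s, N i ≤ 4) → ∑ i ∈ s, N i + 1 ≤ Nat.card W := by
    intro s hs
    have hsub : (insert 1 (s.biUnion fun i => Finset.univ.filter fun v => q v = i.castSucc)) ⊆
        Finset.univ.filter fun v => v ∈ W := by
      intro v hv
      simp only [Finset.mem_insert, Finset.mem_biUnion, Finset.mem_filter, Finset.mem_univ, true_and] at hv ⊢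
      rcases hv with rfl | ⟨i, hi, hv⟩
      · exact W.one_mem
      · exact hsmall i (hs i hi) v hv
    have h := Finset.card_le_card hsub
    rw [Finset.card_insert_of_notMem (by
      simp only [Finset.mem_biUnion, Finset.mem_filter, Finset.mem_univ, true_and, not_exists, not_and]
      exact fun i _ h => (Fin.castSucc_lt_last i).ne (h.symm.trans ((h1 1).1 rfl))),
      Finset.card_biUnion (fun i _ j _ hij => Finset.disjoint_filter.2 fun v _ h h' =>
        hij (Fin.castSucc_injective _ (h.symm.trans h')))] at h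
    rw [Nat.card_eq_fintype_card, Fintype.card_subtype]
    exact h
  obtain ⟨m, hm⟩ := IsPGroup.iff_card.1 (hp.to_subgroup W)
  rw [hVcard, hm] at hW
  simp only [hm] at hWlb
  have hWpow : 2 ^ m ≤ 3 → 2 ^ m ≤ 2 := fun h => by
    rcases m with _ | _ | m
    · simp
    · simp
    · exact absurd h (by simp [pow_succ]; have := Nat.one_le_two_pow (n := m); omega)
  have hpos : 0 < 2 ^ m := by positivity
  have hbig : n = 3 ∨ n = 4 := by
    by_contra h
    have : n ≤ 2 := by omega
    interval_cases n <;> omega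
  rcases hbig with rfl | rfl
  · have := hf3 rfl 0; have := hf3 rfl 1; have := hf3 rfl 2
    norm_num at hW hsum
    have := hWlb {0}; have := hWlb {1}; have := hWlb {2}
    simp only [Finset.sum_singleton, Finset.mem_singleton, forall_eq] at *
    omega
  · have := hf4 rfl 0; have := hf4 rfl 1; have := hf4 rfl 2
    norm_num at hW hsum
    have := hWlb {0}; have := hWlb {1}; have := hWlb {2}
    simp only [Finset.sum_singleton, Finset.mem_singleton, forall_eq] at *
    have hN : ∀ i, N i = 5 := by intro i; fin_cases i <;> simp <;> omega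
    have h5 : ∀ j : Fin 4, j ≠ 3 → Nat.card {v // q v = j} = 5 := fun j hj => by
      obtain ⟨i, rfl⟩ : ∃ i : Fin 3, j = i.castSucc := by revert hj; revert j; decide
      rw [hNcard, hN]
    obtain ⟨i, hi⟩ := hcls v (fun h => hva (h ▸ map_one _))
    -- rename the classes so that `v` is in class zero
    let σ : Equiv.Perm (Fin 4) := Equiv.swap 0 i.castSucc
    have hσ3 : σ 3 = 3 := Equiv.swap_apply_of_ne_of_ne (by decide) (Fin.castSucc_lt_last i).ne'
    refine hva (five_class φ hL (σ ∘ q) (fun a w => congrArg σ (hq a w)) (fun w => ?_) (fun j hj => ?_) v ?_ a)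
    · rw [h1, Function.comp_apply]
      exact ⟨fun h => by rw [h, hσ3], fun h => σ.injective (h.trans hσ3.symm)⟩
    · rw [← h5 (σ j) (fun h => hj (σ.injective (h.trans hσ3.symm)))]
      exact Nat.card_congr (Equiv.subtypeEquivRight fun w => by
        show σ (q w) = j ↔ q w = σ j
        rw [← Equiv.apply_eq_iff_eq σ (x := q w) (y := σ j)]; simp [σ])
    · simp [σ, hi]

/-- If X is a finite 2-group containing exactly three involutions, then the automorphism group of X is solvable. -/
theorem result {X : Type*} [Group X] [Finite X] (h2 : IsPGroup 2 X) (h3 : Nat.card {x : X // orderOf x = 2} = 3) : Group.IsSolvable (MulAut X) := by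
  classical
  haveI : Fact (Nat.Prime 2) := ⟨Nat.prime_two⟩
  haveI := h2.isNilpotent
  haveI : Finite (MulAut X) := Finite.of_injective (fun e : MulAut X => (e : X → X)) DFunLike.coe_injective
  -- a perfect subgroup
  obtain ⟨M, ⟨n, rfl⟩, hmin⟩ := Set.Finite.exists_minimal (s := Set.range (derivedSeries (MulAut X)))
    (Set.toFinite _) (Set.range_nonempty _)
  have hperf : derivedSeries (MulAut X) (n + 1) = derivedSeries (MulAut X) n :=
    le_antisymm (derivedSeries_antitone _ n.le_succ) (hmin ⟨n + 1, rfl⟩ (derivedSeries_antitone _ n.le_succ))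
  refine ⟨⟨n, ?_⟩⟩
  set A := derivedSeries (MulAut X) n
  rw [derivedSeries_succ] at hperf
  have hL : commutator A = ⊤ := by
    apply Subgroup.map_injective A.subtype_injective
    rw [Subgroup.map_subtype_commutator, hperf, ← MonoidHom.range_eq_map, Subgroup.range_subtype]
  let φ : A →* MulAut X := A.subtype
  suffices hfix : ∀ (a : A) (x : X), φ a x = x by
    rw [Subgroup.eq_bot_iff_forall]
    exact fun a ha => MulEquiv.ext fun x => hfix ⟨a, ha⟩ x
  obtain ⟨t, htinj, ht, hχ⟩ := four_group h2 h3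
  -- the involutions are fixed
  have hE : ∀ a : A, ∀ x : X, x * x = 1 → φ a x = x := by
    intro a x hx
    refine fixed_of_small_set φ hL {x : X | x * x = 1} (fun a x (hx : x * x = 1) => ?_) ?_ a hx
    · show φ a x * φ a x = 1
      rw [← map_mul, hx, map_one]
    · have hsub : {x : X | x * x = 1} ⊆ Set.range (Fin.cons 1 t : Fin 4 → X) := by
        intro x hx
        rcases (ht x).1 hx with rfl | ⟨i, rfl⟩
        · exact ⟨0, rfl⟩
        · exact ⟨i.succ, by simp⟩
      refine (Nat.card_mono (Set.finite_range _) hsub).trans ?_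
      exact (Finite.card_range_le _).trans (by simp)
  -- a critical subgroup
  obtain ⟨C, hCc, hCΦ, hCcomm, hCC⟩ := CfsgLib.PGroups.exists_critical h2
  have hCmem : ∀ (a : A) {x : X}, x ∈ C → φ a x ∈ C := fun a x hx =>
    (Subgroup.characteristic_iff_map_le.mp hCc (φ a)) ⟨x, hx, rfl⟩
  have hsq : ∀ x ∈ C, ∀ y ∈ C, Commute (x * x) y := fun x hx y hy => by
    have h := hCΦ ⟨⟨x, hx⟩ * ⟨x, hx⟩, S4401.squares_le_frattini (h2.to_subgroup C) _, rfl⟩
    exact (Subgroup.mem_centralizer_iff.1 h y hy).symm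
  have hcm : ∀ x ∈ C, ∀ y ∈ C, x * y * x⁻¹ * y⁻¹ ∈ C ∧ ∀ w ∈ C, Commute (x * y * x⁻¹ * y⁻¹) w :=
    fun x hx y hy => by
      obtain ⟨h4, h5⟩ := hCcomm (Subgroup.commutator_mem_commutator hx (Subgroup.mem_top y))
      exact ⟨h4, fun w hw => (Subgroup.mem_centralizer_iff.1 h5 w hw).symm⟩
  have hc2 : ∀ x ∈ C, ∀ y ∈ C, (x * y * x⁻¹ * y⁻¹) * (x * y * x⁻¹ * y⁻¹) = 1 := by
    intro x hx y hy
    set c := x * y * x⁻¹ * y⁻¹ with hc
    have hxy : x * y = c * (y * x) := by rw [hc]; group
    have hcx : x * c = c * x := ((hcm x hx y hy).2 x hx).eq.symm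
    have h : (x * x) * y = (c * c) * (y * (x * x)) := by
      calc (x * x) * y = x * (x * y) := mul_assoc _ _ _
        _ = x * (c * (y * x)) := by rw [hxy]
        _ = (x * c) * y * x := by simp only [mul_assoc]
        _ = c * (x * y) * x := by rw [hcx]; simp only [mul_assoc]
        _ = c * (c * (y * x)) * x := by rw [hxy]
        _ = (c * c) * (y * (x * x)) := by simp only [mul_assoc]
    rw [(hsq x hx y hy).eq] at h
    exact mul_eq_right.1 h.symm
  -- the centre is fixed
  have hZ : ∀ m, ∀ y ∈ C, (∀ w ∈ C, Commute y w) → y ^ 2 ^ m = 1 → ∀ a : A, φ a y = y := by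
    intro m
    induction m with
    | zero => intro y _ _ h a; simp only [pow_zero, pow_one] at h; subst h; exact map_one _
    | succ m ih =>
      intro y hy hc hpow a
      refine fixed_of_div φ hL (fun a b => hE a _ ?_) a
      have hc' : Commute y⁻¹ (φ b y) := (hc _ (hCmem b hy)).inv_left
      have h2y : φ b (y * y) = y * y := ih _ (C.mul_mem hy hy) (fun w hw => (hc w hw).mul_left (hc w hw))
        (by rw [← pow_two, ← pow_mul, ← pow_succ']; exact hpow) b
      rw [map_mul] at h2y
      calc y⁻¹ * φ b y * (y⁻¹ * φ b y) = y⁻¹ * (φ b y * y⁻¹) * φ b y := by simp only [mul_assoc]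
        _ = y⁻¹ * y⁻¹ * (φ b y * φ b y) := by rw [← hc'.eq]; simp only [mul_assoc]
        _ = 1 := by rw [h2y]; group
  have hZ' : ∀ y ∈ C, (∀ w ∈ C, Commute y w) → ∀ a : A, φ a y = y := fun y hy hc => by
    obtain ⟨m, hm⟩ := h2 y
    exact hZ m y hy hc hm
  have hsqfix : ∀ (a : A), ∀ x ∈ C, φ a (x * x) = x * x := fun a x hx =>
    hZ' _ (C.mul_mem hx hx) (fun w hw => hsq x hx w hw) a
  -- squaring a product
  have hmulsq : ∀ x ∈ C, ∀ y ∈ C, (x * y) * (x * y) = (x * x) * (y * y) * (y * x * y⁻¹ * x⁻¹) := by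
    intro x hx y hy
    obtain ⟨c, hc⟩ : ∃ c, c = y * x * y⁻¹ * x⁻¹ := ⟨_, rfl⟩
    rw [← hc]
    have hyx : y * x = c * (x * y) := by rw [hc]; group
    have hcc := (hcm y hy x hx).2
    rw [← hc] at hcc
    calc (x * y) * (x * y) = x * (y * x) * y := by simp only [mul_assoc]
      _ = (x * c) * x * (y * y) := by rw [hyx]; simp only [mul_assoc]
      _ = c * (x * x * (y * y)) := by rw [← (hcc x hx).eq]; simp only [mul_assoc]
      _ = _ := (hcc _ (C.mul_mem (C.mul_mem hx hx) (C.mul_mem hy hy))).eq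
  have hfour : ∀ x ∈ C, ∀ y ∈ C, (x * y) * (x * y) * ((x * y) * (x * y)) =
      (x * x * (x * x)) * (y * y * (y * y)) := by
    intro x hx y hy
    rw [hmulsq x hx y hy]
    set c := y * x * y⁻¹ * x⁻¹
    have hcc := (hcm y hy x hx).2
    have e1 : Commute c (x * x * (y * y)) := hcc _ (C.mul_mem (C.mul_mem hx hx) (C.mul_mem hy hy))
    have e2 : Commute (x * x) (y * y) := hsq x hx _ (C.mul_mem hy hy)
    rw [e1.mul_mul_mul_comm, hc2 y hy x hx, mul_one, e2.symm.mul_mul_mul_comm]
  -- elements of order at most four centralising the involutions of `C`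
  let D : Subgroup X :=
    { carrier := {x | x ∈ C ∧ x * x * (x * x) = 1 ∧ ∀ e ∈ C, e * e = 1 → Commute x e}
      one_mem' := ⟨C.one_mem, by simp, fun e _ _ => Commute.one_left e⟩
      mul_mem' := fun {x y} hx hy => ⟨C.mul_mem hx.1 hy.1, by
        rw [hfour x hx.1 y hy.1, hx.2.1, hy.2.1, one_mul], fun e he he' => (hx.2.2 e he he').mul_left (hy.2.2 e he he')⟩
      inv_mem' := fun {x} hx => ⟨C.inv_mem hx.1, by
        rw [← mul_inv_rev, ← mul_inv_rev, hx.2.1, inv_one], fun e he he' => (hx.2.2 e he he').inv_left⟩ }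
  have hDmem : ∀ (a : A) {x : X}, x ∈ D → φ a x ∈ D := fun a x hx =>
    ⟨hCmem a hx.1, by rw [← map_mul, ← map_mul, hx.2.1, map_one], fun e he he' => by
      have h := (hx.2.2 e he he').map (φ a)
      rwa [hE a e he'] at h⟩
  -- it is enough that `D` is fixed
  suffices hD : ∀ (a : A), ∀ x ∈ D, φ a x = x by
    have hC4 : ∀ x ∈ C, x * x * (x * x) = 1 → ∀ a : A, φ a x = x := by
      intro x hx hx4 a
      refine fixed_of_div φ hL (fun a b => hD a _ ⟨C.mul_mem (C.inv_mem hx) (hCmem b hx), ?_, ?_⟩) a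
      · rw [hfour _ (C.inv_mem hx) _ (hCmem b hx), ← map_mul, ← map_mul, hx4, map_one, mul_one,
          ← mul_inv_rev, ← mul_inv_rev, hx4, inv_one]
      · intro e he he'
        have h1 := hcm x hx e he
        have h4 := hZ' _ h1.1 h1.2 b
        rw [map_mul, map_mul, map_mul, map_inv, map_inv, hE b e he'] at h4
        have h5 : φ b x * e * (φ b x)⁻¹ = x * e * x⁻¹ := mul_right_cancel h4
        show x⁻¹ * φ b x * e = e * (x⁻¹ * φ b x)
        rw [mul_inv_eq_iff_eq_mul] at h5
        rw [mul_assoc, h5]; group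
    have hCfix : ∀ (a : A), ∀ x ∈ C, φ a x = x := by
      intro a x hx
      refine fixed_of_div φ hL (fun a b => hC4 _ (C.mul_mem (C.inv_mem hx) (hCmem b hx)) ?_ a) a
      rw [hfour _ (C.inv_mem hx) _ (hCmem b hx), ← map_mul, ← map_mul, map_mul, hsqfix b x hx]
      group
    intro a x
    haveI : C.Normal := inferInstance
    refine fixed_of_div φ hL (fun a b => hCfix a _ (hCC ?_)) a
    rw [Subgroup.mem_centralizer_iff]
    intro c hc
    have h4 := hCfix b _ (Subgroup.Normal.conj_mem inferInstance c hc x)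
    rw [map_mul, map_mul, map_inv, hCfix b c hc] at h4
    calc c * (x⁻¹ * φ b x) = x⁻¹ * (x * c * x⁻¹) * φ b x := by group
      _ = x⁻¹ * (φ b x * c * (φ b x)⁻¹) * φ b x := by rw [h4]
      _ = _ := by group
  -- the quotient of `D` by its involutions
  let F : Subgroup D :=
    { carrier := {x | (x : X) * x = 1}
      one_mem' := by simp
      mul_mem' := fun {x y} (hx : (x : X) * x = 1) (hy : (y : X) * y = 1) => by
        show ((x : X) * y) * (x * y) = 1
        rw [(x.2.2.2 y y.2.1 hy).symm.mul_mul_mul_comm, hx, hy, one_mul]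
      inv_mem' := fun {x} (hx : (x : X) * x = 1) => by
        show (x : X)⁻¹ * (x : X)⁻¹ = 1
        rw [← mul_inv_rev, hx, inv_one] }
  haveI hFn : F.Normal := ⟨fun x (hx : (x : X) * x = 1) y => by
    show ((y : X) * x * (y : X)⁻¹) * (y * x * (y : X)⁻¹) = 1
    rw [(y.2.2.2 x x.2.1 hx).eq, mul_inv_cancel_right, hx]⟩
  have hexp : ∀ v : D ⧸ F, v * v = 1 := fun v => QuotientGroup.induction_on v fun x => by
    rw [← QuotientGroup.mk_mul, QuotientGroup.eq_one_iff]
    exact x.2.2.1
  letI : CommGroup (D ⧸ F) :=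
    { (inferInstance : Group (D ⧸ F)) with
      mul_comm := fun v w => by
        have hi : ∀ u : D ⧸ F, u⁻¹ = u := fun u => inv_eq_of_mul_eq_one_right (hexp u)
        rw [← hi (v * w), mul_inv_rev, hi, hi] }
  let sq : D ⧸ F → X := Quotient.lift (fun x : D => (x : X) * x) fun x y (h : (QuotientGroup.leftRel F) x y) => by
    rw [QuotientGroup.leftRel_apply] at h
    obtain ⟨f, hf, rfl⟩ : ∃ f ∈ F, y = x * f := ⟨x⁻¹ * y, h, by group⟩
    show (x : X) * x = ((x : X) * f) * (x * f)
    rw [(x.2.2.2 f f.2.1 hf).symm.mul_mul_mul_comm, show (f : X) * f = 1 from hf, mul_one]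
  have hsq_mk : ∀ x : D, sq (x : D ⧸ F) = (x : X) * x := fun x => rfl
  have hsq1 : ∀ v, sq v * sq v = 1 := fun v => QuotientGroup.induction_on v fun x => x.2.2.1
  have hsqeq : ∀ v, sq v = 1 ↔ v = 1 := fun v => QuotientGroup.induction_on v fun x => by
    rw [hsq_mk, QuotientGroup.eq_one_iff]; rfl
  -- labels
  let lab : X → Fin 4 := fun x => if x = t 0 then 0 else if x = t 1 then 1 else if x = t 2 then 2 else 3
  have hlab : ∀ i : Fin 3, lab (t i) = i.castSucc := by
    intro i; fin_cases i <;> simp [lab, htinj.eq_iff]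
  have hlab1 : ∀ x, x * x = 1 → (lab x = 3 ↔ x = 1) := by
    intro x hx
    rcases (ht x).1 hx with rfl | ⟨i, rfl⟩
    · have hne : ∀ i, (1 : X) ≠ t i := fun i h => by
        obtain ⟨χ, h1', h2', h3', -⟩ := hχ i
        obtain ⟨j, hj⟩ : ∃ j, j ≠ i := exists_ne i
        obtain ⟨χ', h1'', -, h3'', -⟩ := hχ j
        have := h3'' i hj.symm
        rw [← h, h1''] at this
        exact absurd this (by norm_num)
      simp [lab, hne]
    · rw [hlab]
      refine iff_of_false (Fin.castSucc_lt_last i).ne fun h => ?_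
      obtain ⟨j, hj⟩ : ∃ j, j ≠ i := exists_ne i
      obtain ⟨χ, h1', -, h3', -⟩ := hχ j
      have := h3' i hj.symm
      rw [h, h1'] at this
      exact absurd this (by norm_num)
  let ψ : A →* MulAut (D ⧸ F) :=
    MonoidHom.mk' (fun a =>
      QuotientGroup.congr F F
        { toFun := fun x => ⟨φ a x, hDmem a x.2⟩
          invFun := fun x => ⟨φ a⁻¹ x, hDmem _ x.2⟩
          left_inv := fun x => Subtype.ext (by simp [φ])
          right_inv := fun x => Subtype.ext (by simp [φ])
          map_mul' := fun x y => Subtype.ext (map_mul _ _ _) }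
        (by
          ext x
          constructor
          · rintro ⟨y, hy, rfl⟩
            show φ a (y : X) * φ a (y : X) = 1
            rw [← map_mul, show (y : X) * y = 1 from hy, map_one]
          · intro hx
            exact ⟨x, hx, Subtype.ext (hE a _ hx)⟩))
      (fun a b => MulEquiv.ext fun v => QuotientGroup.induction_on v fun x => rfl)
  have htriv := quad_trivial ψ hL (fun v => by rw [pow_two]; exact hexp v) (fun v => lab (sq v))
    (fun a v => QuotientGroup.induction_on v fun x => by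
      show lab (φ a (x : X) * φ a (x : X)) = lab ((x : X) * x)
      rw [← map_mul, hsqfix a x x.2.1])
    (fun v => by rw [hlab1 _ (hsq1 v), hsqeq]) (fun j hj => ?_)
  · intro a x hx
    refine fixed_of_div φ hL (fun a b => hE a _ ?_) a
    have h := htriv b ((⟨x, hx⟩ : D) : D ⧸ F)
    exact (QuotientGroup.eq.1 h.symm : ((⟨x, hx⟩ : D)⁻¹ * ⟨φ b x, hDmem b hx⟩) ∈ F)
  obtain ⟨i, rfl⟩ : ∃ i : Fin 3, j = i.castSucc := by revert hj; revert j; decide
  obtain ⟨χ, hχ1, hχi, hχn, hχm⟩ := hχ i
  have hval : ∀ x, x * x = 1 → (if lab x = 3 ∨ lab x = i.castSucc then (1 : ℤ) else -1) = χ x := by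
    intro x hx
    rcases (ht x).1 hx with rfl | ⟨k, rfl⟩
    · rw [hχ1, if_pos (Or.inl ((hlab1 1 hx).2 rfl))]
    · rw [hlab]
      rcases eq_or_ne k i with rfl | hk
      · rw [hχi, if_pos (Or.inr rfl)]
      · rw [hχn k hk, if_neg]
        rintro (h | h)
        · exact (Fin.castSucc_lt_last k).ne h
        · exact hk (Fin.castSucc_injective _ h)
  have hmul : ∀ v w, sq v * sq w * sq (v * w) * (sq v * sq w * sq (v * w)) = 1 ∧
      ∀ x y : D, v = (x : D ⧸ F) → w = (y : D ⧸ F) →
        sq v * sq w * sq (v * w) = (y : X) * x * (y : X)⁻¹ * (x : X)⁻¹ := by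
    intro v w
    obtain ⟨x, rfl⟩ := QuotientGroup.mk_surjective v
    obtain ⟨y, rfl⟩ := QuotientGroup.mk_surjective w
    have key : ∀ x y : D, sq (x : D ⧸ F) * sq (y : D ⧸ F) * sq ((x : D ⧸ F) * (y : D ⧸ F)) =
        (y : X) * x * (y : X)⁻¹ * (x : X)⁻¹ := by
      intro x y
      show (x : X) * x * (y * y) * ((x * y) * (x * y)) = _
      rw [hmulsq x x.2.1 y y.2.1, ← mul_assoc,
        (hsq x x.2.1 _ (C.mul_mem y.2.1 y.2.1)).symm.mul_mul_mul_comm, x.2.2.1, y.2.2.1, one_mul, one_mul]
    refine ⟨?_, fun x' y' h h' => ?_⟩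
    · rw [key]; exact hc2 y y.2.1 x x.2.1
    · rw [h, h', key]
  have hχ2 : ∀ x, x * x = 1 → χ x * χ x = 1 := fun x hx => by rw [← hχm x x hx hx, hx, hχ1]
  refine ⟨fun v w => χ (sq v * sq w * sq (v * w)), fun v w => ?_, fun u v w => ?_, fun u v w => ?_, fun v w => ?_⟩
  · exact mul_self_eq_one_iff.1 (hχ2 _ (hmul v w).1)
  · obtain ⟨x, rfl⟩ := QuotientGroup.mk_surjective u
    obtain ⟨y, rfl⟩ := QuotientGroup.mk_surjective v
    obtain ⟨z, rfl⟩ := QuotientGroup.mk_surjective w
    show χ _ = χ _ * χ _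
    rw [← QuotientGroup.mk_mul, (hmul _ _).2 (x * y) z rfl rfl, (hmul _ _).2 x z rfl rfl, (hmul _ _).2 y z rfl rfl,
      ← hχm _ _ (hc2 z z.2.1 x x.2.1) (hc2 z z.2.1 y y.2.1)]
    congr 1
    have hc := (hcm z z.2.1 y y.2.1).2 x x.2.1
    show (z : X) * (x * y) * (z : X)⁻¹ * ((x : X) * y)⁻¹ = _
    calc (z : X) * (x * y) * (z : X)⁻¹ * ((x : X) * y)⁻¹
        = (z : X) * x * (z : X)⁻¹ * ((z : X) * y * (z : X)⁻¹ * (y : X)⁻¹) * (x : X)⁻¹ := by group
      _ = _ := by rw [mul_assoc, hc.inv_right.eq, ← mul_assoc]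
  · obtain ⟨x, rfl⟩ := QuotientGroup.mk_surjective u
    obtain ⟨y, rfl⟩ := QuotientGroup.mk_surjective v
    obtain ⟨z, rfl⟩ := QuotientGroup.mk_surjective w
    show χ _ = χ _ * χ _
    rw [← QuotientGroup.mk_mul, (hmul _ _).2 x (y * z) rfl rfl, (hmul _ _).2 x y rfl rfl, (hmul _ _).2 x z rfl rfl, mul_comm (χ _),
      ← hχm _ _ (hc2 z z.2.1 x x.2.1) (hc2 y y.2.1 x x.2.1)]
    congr 1
    have hc := (hcm z z.2.1 x x.2.1).2 _ y.2.1
    show (y : X) * z * x * ((y : X) * z)⁻¹ * (x : X)⁻¹ = _
    calc (y : X) * z * x * ((y : X) * z)⁻¹ * (x : X)⁻¹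
        = (y : X) * ((z : X) * x * (z : X)⁻¹ * (x : X)⁻¹) * x * (y : X)⁻¹ * (x : X)⁻¹ := by group
      _ = _ := by rw [← hc.eq]; simp only [mul_assoc]
  · beta_reduce
    rw [hval _ (hsq1 _), hval _ (hsq1 _), hval _ (hsq1 _),
      hχm _ _ (by
        obtain ⟨x, rfl⟩ := QuotientGroup.mk_surjective v
        obtain ⟨y, rfl⟩ := QuotientGroup.mk_surjective w
        rw [hsq_mk, hsq_mk, (hsq x x.2.1 _ (C.mul_mem y.2.1 y.2.1)).symm.mul_mul_mul_comm, x.2.2.1,
          y.2.2.1, one_mul]) (hsq1 _), hχm _ _ (hsq1 v) (hsq1 w)]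
    have e1 := hχ2 _ (hsq1 v); have e2 := hχ2 _ (hsq1 w)
    linear_combination (-(χ (sq (v * w))) * (χ (sq w) * χ (sq w))) * e1 + (-(χ (sq (v * w)))) * e2

end Cfsg.Agent.S3117
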