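import Cfsg.Statements.S3125
import Cfsg.Agent.Lib.FTCons.SelfNormalizingSylow

set_option autoImplicit false
open Cfsg

namespace Cfsg.Agent.S3125

/-- Let G be a finite group such that, for every prime p dividing the order of G, every Sylow p-subgroup of G is its own normalizer. Then G is not a non-abelian simple group. -/
theorem result {G : Type*} [Group G] [Finite G]
    (h : ∀ p : ℕ, p.Prime → p ∣ Nat.card G → ∀ P : Sylow p G, Subgroup.normalizer ((P : Subgroup G) : Set G) = P) :
    ¬ (IsSimpleGroup G ∧ ¬ IsMulCommutative G) := by
  exact CfsgLib.FTCons.SelfNormalizing.not_simple_of_selfNormalizing h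

end Cfsg.Agent.S3125
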