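import Cfsg.Statements.S3153
import Cfsg.Agent.Lib.Techniques.PCompTransfer
import Cfsg.Agent.Lib.Coprime.Action2

set_option autoImplicit false
open Cfsg

namespace Cfsg.Agent.S3153

open scoped commutatorElement

theorem aux {X : Type*} [Group X] [Finite X] (P : Subgroup X) (hP : Cfsg.IsStandardSubgroup P)
    (hr : Cfsg.PRankLE 2 1 ↥(Subgroup.centralizer (P : Set X))) (hZ : Odd (Nat.card ↥(Subgroup.center ↥P)))
    (T : Subgroup X) (hTN : T ≤ Subgroup.normalizer (P : Set X)) (hT2 : IsPGroup 2 T)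
    (hmax : ∀ R : Subgroup X, IsPGroup 2 R → R ≤ Subgroup.normalizer (P : Set X) → T ≤ R → R = T)
    (t : X) (ht : orderOf t = 2) (htS : t ∈ T) (htP : t ∈ Subgroup.centralizer (P : Set X))
    (g : X) (hgN : ∀ s ∈ T, g * s * g⁻¹ ∈ T) (hgS : g ∉ T) (hg2 : g ^ 2 ∈ T)
    (hgt : g * t * g⁻¹ ∈ P ⊔ Subgroup.centralizer (P : Set X)) :
    ⁅P, Cfsg.oddCore X⁆ = ⊥ ∧
      ∀ L : Subgroup X, Cfsg.IsPComponent 2 L → P ≤ L → (∀ l ∈ L, t * l * t⁻¹ ∈ L) → Cfsg.IsQuasisimple ↥L := by
  classical
  set C := Subgroup.centralizer (P : Set X) with hC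
  set NP := Subgroup.normalizer (P : Set X) with hNP
  obtain ⟨hq, htight, -, hNC⟩ := hP
  haveI := hq.1
  have htC : t ∈ C := htP
  have ht2 : t * t = 1 := by rw [← pow_two, ← ht, pow_orderOf_eq_one]
  have ht1 : t ≠ 1 := fun h => by rw [h, orderOf_one] at ht; omega
  -- two commuting involutions of `C` coincide
  have hrank : ∀ u v : X, u ∈ C → v ∈ C → u * u = 1 → v * v = 1 → u * v = v * u →
      u ≠ 1 → v ≠ 1 → u = v := by
    intro u v hu hv hu2 hv2 huv hu1 hv1
    by_contra hne
    let U : Subgroup ↥C := Subgroup.closure {⟨u, hu⟩, ⟨v, hv⟩}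
    have hUc : IsMulCommutative U := Subgroup.isMulCommutative_closure (by
      intro x hx y hy
      simp only [Set.mem_insert_iff, Set.mem_singleton_iff] at hx hy
      rcases hx with rfl | rfl <;> rcases hy with rfl | rfl <;>
        first | rfl | exact Subtype.ext huv | exact Subtype.ext huv.symm)
    have hU2 : ∀ a ∈ U, a ^ 2 = 1 := by
      intro a ha
      induction ha using Subgroup.closure_induction with
      | mem x hx =>
        rcases hx with rfl | rfl
        · exact Subtype.ext (by simpa [pow_two] using hu2)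
        · exact Subtype.ext (by simpa [pow_two] using hv2)
      | one => exact one_pow 2
      | mul x y hx hy ihx ihy =>
        have hxy : x * y = y * x := congrArg Subtype.val (hUc.is_comm.comm ⟨x, hx⟩ ⟨y, hy⟩)
        rw [(show Commute x y from hxy).mul_pow, ihx, ihy, one_mul]
      | inv x _ ihx => rw [inv_pow, ihx, inv_one]
    have h2 := hr U hUc hU2
    have hle : ({1, ⟨u, hu⟩, ⟨v, hv⟩} : Finset ↥C).card ≤ Nat.card U := by
      haveI := Fintype.ofFinite U
      rw [Nat.card_eq_fintype_card, ← Finset.card_univ,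
        ← Finset.card_map (Function.Embedding.subtype _) (s := (Finset.univ : Finset U))]
      refine Finset.card_le_card fun z hz => ?_
      refine Finset.mem_map.2 ⟨⟨z, ?_⟩, Finset.mem_univ _, rfl⟩
      simp only [Finset.mem_insert, Finset.mem_singleton] at hz
      rcases hz with rfl | rfl | rfl
      · exact one_mem _
      · exact Subgroup.subset_closure (Or.inl rfl)
      · exact Subgroup.subset_closure (Or.inr rfl)
    have h3 : ({1, ⟨u, hu⟩, ⟨v, hv⟩} : Finset ↥C).card = 3 := by
      rw [Finset.card_insert_of_notMem, Finset.card_insert_of_notMem, Finset.card_singleton]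
      · simp [hne]
      · simp only [Finset.mem_insert, Finset.mem_singleton, Subtype.ext_iff, not_or]
        exact ⟨Ne.symm hu1, Ne.symm hv1⟩
    omega
  -- `t` is the only involution of `T ⊓ C`, hence central in `T`
  have hTC : ∀ s ∈ T, ∀ c ∈ C, s * c * s⁻¹ ∈ C := fun s hs c hc => by
    have := hTN hs
    rw [hNP, hNC, Subgroup.mem_normalizer_iff] at this
    exact (this c).1 hc
  have huniq : ∀ u ∈ T, u ∈ C → u * u = 1 → u ≠ 1 → u = t := by
    intro u huT huC hu2 hu1
    haveI : Nontrivial ↥(T ⊓ C) := ⟨⟨⟨t, htS, htC⟩, 1, fun h => ht1 (congrArg Subtype.val h)⟩⟩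
    obtain ⟨z, hz1, hzc⟩ : ∃ z : ↥(T ⊓ C), orderOf z = 2 ∧ z ∈ Subgroup.center ↥(T ⊓ C) := by
      have hp := hT2.to_le (inf_le_left : T ⊓ C ≤ T)
      haveI := hp.center_nontrivial
      obtain ⟨n, hn0, hn⟩ := (hp.to_subgroup (Subgroup.center ↥(T ⊓ C))).nontrivial_iff_card.1 inferInstance
      obtain ⟨⟨z, hzc⟩, hz⟩ := exists_prime_orderOf_dvd_card' (G := Subgroup.center ↥(T ⊓ C)) 2
        (by rw [hn]; exact dvd_pow_self 2 hn0.ne')
      exact ⟨z, by rwa [Subgroup.orderOf_mk] at hz, hzc⟩
    have hz2 : (z : X) * z = 1 := by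
      have h := pow_orderOf_eq_one z
      rw [hz1, pow_two] at h
      exact congrArg Subtype.val h
    have hz1' : (z : X) ≠ 1 := fun h => by
      rw [show z = 1 from Subtype.ext h, orderOf_one] at hz1
      omega
    have h1 := hrank u z huC z.2.2 hu2 hz2
      (congrArg Subtype.val (Subgroup.mem_center_iff.1 hzc ⟨u, huT, huC⟩)) hu1 hz1'
    have h2 := hrank t z htC z.2.2 ht2 hz2
      (congrArg Subtype.val (Subgroup.mem_center_iff.1 hzc ⟨t, htS, htC⟩)) ht1 hz1'
    rw [h1, h2]
  have htcen : ∀ s ∈ T, s * t = t * s := by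
    intro s hs
    have h := huniq (s * t * s⁻¹) (mul_mem (mul_mem hs htS) (inv_mem hs)) (hTC s hs t htC)
      (by rw [show s * t * s⁻¹ * (s * t * s⁻¹) = s * (t * t) * s⁻¹ by group, ht2]; group)
      (fun h => ht1 (conj_eq_one_iff.1 h))
    exact mul_inv_eq_iff_eq_mul.1 h
  -- `g` lies outside `N(P)` and moves `t`
  have hgT : ∀ s ∈ T, g⁻¹ * s * g ∈ T := by
    intro s hs
    have h := hgN _ (mul_mem (mul_mem (inv_mem hg2) hs) hg2)
    rwa [show g * ((g ^ 2)⁻¹ * s * g ^ 2) * g⁻¹ = g⁻¹ * s * g by rw [pow_two]; group] at h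
  have hgNP : g ∉ NP := by
    intro hg
    have hnorm : Subgroup.zpowers g ≤ Subgroup.normalizer (T : Set X) :=
      Subgroup.zpowers_le.2 (Subgroup.mem_normalizer_fintype hgN)
    have hpg : IsPGroup 2 (Subgroup.zpowers g) := by
      rintro ⟨_, j, rfl⟩
      obtain ⟨k, hk⟩ := hT2 ⟨_, hg2⟩
      refine ⟨k + 1, Subtype.ext ?_⟩
      show (g ^ j) ^ 2 ^ (k + 1) = 1
      rw [← zpow_natCast, ← zpow_mul, mul_comm, zpow_mul, zpow_natCast, pow_succ', pow_mul,
        show (g ^ 2) ^ 2 ^ k = 1 from congrArg Subtype.val hk, one_zpow]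
    have h1 := hmax _ (hpg.to_sup_of_normal_right' hT2 hnorm)
      (sup_le (Subgroup.zpowers_le.2 hg) hTN) le_sup_right
    exact hgS (h1.le (Subgroup.mem_sup_left (Subgroup.mem_zpowers g)))
  have hcent : Subgroup.centralizer ({t} : Set X) ≤ NP := by
    intro x hx
    rw [hNP, hNC]
    by_contra hxN
    have h1 := htight.2 x hxN
    have hmem : t ∈ C ⊓ C.map (MulAut.conj x).toMonoidHom := by
      refine ⟨htC, t, htC, ?_⟩
      show x * t * x⁻¹ = t
      rw [Subgroup.mem_centralizer_singleton_iff.1 hx, mul_inv_cancel_right]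
    exact (Nat.not_even_iff_odd.2 h1)
      (even_iff_two_dvd.2 (ht ▸ Subgroup.orderOf_dvd_natCard _ hmem))
  set t' := g * t * g⁻¹ with ht'def
  have ht'T : t' ∈ T := hgN t htS
  have ht'ne : t' ≠ t := fun h =>
    hgNP (hcent (Subgroup.mem_centralizer_singleton_iff.2 (mul_inv_eq_iff_eq_mul.1 h)))
  have ht'1 : t' ≠ 1 := fun h => ht1 (conj_eq_one_iff.1 h)
  have ht'2 : t' * t' = 1 := by
    rw [ht'def, show g * t * g⁻¹ * (g * t * g⁻¹) = g * (t * t) * g⁻¹ by group, ht2]; group
  have htt' : t' * t = t * t' := htcen t' ht'T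
  -- `t'` is the product of an involution of `P` and a power of `t`
  have hPC : ∀ a ∈ P, ∀ b ∈ C, a * b = b * a := fun a ha b hb =>
    Subgroup.mem_centralizer_iff.1 hb a ha
  obtain ⟨p₀, hp₀, c₀, hc₀, hpc⟩ : ∃ a ∈ P, ∃ b ∈ C, a * b = t' := by
    have h : t' ∈ ((P ⊔ C : Subgroup X) : Set X) := hgt
    rw [Subgroup.coe_mul_of_right_le_normalizer_left P C (Subgroup.centralizer_le_normalizer _)] at h
    exact h
  set m := orderOf (p₀ * p₀)
  have hpc' : Commute p₀ c₀ := hPC _ hp₀ _ hc₀
  have hsq : p₀ * p₀ = (c₀ * c₀)⁻¹ := by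
    rw [eq_inv_iff_mul_eq_one, show p₀ * p₀ * (c₀ * c₀) = p₀ * (p₀ * c₀) * c₀ by group, hpc'.eq,
      show p₀ * (c₀ * p₀) * c₀ = p₀ * c₀ * (p₀ * c₀) by group, hpc, ht'2]
  have hm : Odd m := by
    have hmem : (⟨p₀ * p₀, mul_mem hp₀ hp₀⟩ : P) ∈ Subgroup.center P := Subgroup.mem_center_iff.2 fun a =>
      Subtype.ext (hPC a a.2 (p₀ * p₀) (hsq ▸ inv_mem (mul_mem hc₀ hc₀)))
    have h := Subgroup.orderOf_dvd_natCard _ hmem
    rw [← Subgroup.orderOf_coe] at h
    exact Odd.of_dvd_nat hZ h
  set u := p₀ ^ m with hudef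
  set c := c₀ ^ m with hcdef
  have huP : u ∈ P := pow_mem hp₀ m
  have hcC : c ∈ C := pow_mem hc₀ m
  have huc : u * c = t' := by
    obtain ⟨k, hk⟩ := hm
    rw [hudef, hcdef, ← hpc'.mul_pow, hpc, hk, pow_succ, pow_mul, pow_two, ht'2, one_pow, one_mul]
  have hu2 : u * u = 1 := by
    rw [hudef, ← (Commute.refl p₀).mul_pow]; exact pow_orderOf_eq_one _
  have hc2 : c * c = 1 := by
    have h := hu2
    rw [← (Commute.refl p₀).mul_pow, hsq, inv_pow, inv_eq_one] at h
    rw [hcdef, ← (Commute.refl c₀).mul_pow]; exact h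
  have hut : u * t = t * u := hPC u huP t htC
  have hct : c * t = t * c := by
    have h : c = u⁻¹ * t' := by rw [← huc, inv_mul_cancel_left]
    rw [h]
    exact ((Commute.inv_left hut).mul_left htt').eq
  have hc_or : c = 1 ∨ c = t := by
    by_cases h : c = 1
    · exact Or.inl h
    · exact Or.inr (hrank c t hcC htC hc2 ht2 hct h ht1)
  have hu1 : u ≠ 1 := by
    intro h
    rw [h, one_mul] at huc
    rcases hc_or with h1 | h1
    · exact ht'1 (huc.symm.trans h1)
    · exact ht'ne (huc.symm.trans h1)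
  -- the fixed points of `t` on the odd core centralise `P`
  set K := oddCore X with hK
  haveI hKn : K.Normal := inferInstance
  have hKodd : Odd (Nat.card K) := Nat.coprime_two_right.1 (CfsgLib.Base.pPrimeCore_coprime 2 X)
  have huK : u ∉ K := fun h => by
    have h2 : orderOf u = 2 := orderOf_eq_prime (by rw [pow_two]; exact hu2) hu1
    have h3 := Subgroup.orderOf_dvd_natCard K h
    rw [h2] at h3
    exact (Nat.not_even_iff_odd.2 hKodd) (even_iff_two_dvd.2 h3)
  have hPne : ¬ P ≤ K := fun h => huK (h huP)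
  have hcomm : ∀ d ∈ K ⊓ Subgroup.centralizer ({t} : Set X), d ∈ C := by
    intro d hd
    have hdN : d ∈ NP := hcent hd.2
    let Z := Subgroup.center ↥P
    have hKP : K.subgroupOf P ≤ Z :=
      (CfsgLib.Components.quasisimple_normal_eq_top_or_le_center hq (K.subgroupOf P)).resolve_left
        fun h => hPne (Subgroup.subgroupOf_eq_top.1 h)
    have hd' : ∀ x : P, ⁅(x : X), d⁆ ∈ K ∧ ⁅(x : X), d⁆ ∈ P := fun x => by
      constructor
      · rw [commutatorElement_def]
        exact mul_mem (hKn.conj_mem d hd.1 x) (inv_mem hd.1)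
      · rw [show ⁅(x : X), d⁆ = x * (d * (x : X)⁻¹ * d⁻¹) by rw [commutatorElement_def]; group]
        exact mul_mem x.2 ((Subgroup.mem_normalizer_iff.1 hdN _).1 (inv_mem x.2))
    have hcz : ∀ x : P, (⟨⁅(x : X), d⁆, (hd' x).2⟩ : P) ∈ Z := fun x =>
      hKP (Subgroup.mem_subgroupOf.2 (hd' x).1)
    let φ : P →* Z := MonoidHom.mk' (fun x => ⟨⟨⁅(x : X), d⁆, (hd' x).2⟩, hcz x⟩) fun x y => by
      refine Subtype.ext (Subtype.ext ?_)
      show ⁅((x * y : P) : X), d⁆ = ⁅(x : X), d⁆ * ⁅(y : X), d⁆
      have h1 : (x : X) * ⁅(y : X), d⁆ = ⁅(y : X), d⁆ * (x : X) :=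
        congrArg Subtype.val (Subgroup.mem_center_iff.1 (hcz y) x)
      have h2 : ⁅(y : X), d⁆ * ⁅(x : X), d⁆ = ⁅(x : X), d⁆ * ⁅(y : X), d⁆ :=
        congrArg Subtype.val (Subgroup.mem_center_iff.1 (hcz x) ⟨_, (hd' y).2⟩)
      rw [Subgroup.coe_mul, show ⁅(x : X) * y, d⁆ = (x : X) * ⁅(y : X), d⁆ * (x : X)⁻¹ * ⁅(x : X), d⁆ by
        simp only [commutatorElement_def]; group, h1, mul_inv_cancel_right, h2]
    have hker : φ.ker = ⊤ := top_le_iff.1 (by
      rw [← Group.IsPerfect.commutator_eq_top (G := P), commutator_def, Subgroup.commutator_le]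
      intro a _ b _
      rw [MonoidHom.mem_ker, map_commutatorElement, commutatorElement_eq_one_iff_mul_comm]
      exact Subtype.ext (Subgroup.mem_center_iff.1 (φ b).2 (φ a)))
    refine Subgroup.mem_centralizer_iff.2 fun x hx => ?_
    have h := congrArg (fun z : Z => ((z : P) : X))
      (MonoidHom.mem_ker.1 (hker ▸ Subgroup.mem_top (⟨x, hx⟩ : P)))
    exact commutatorElement_eq_one_iff_mul_comm.1 h
  set D := K ⊓ Subgroup.centralizer ({t} : Set X) with hD
  set D' := K ⊓ Subgroup.centralizer ({t'} : Set X) with hD'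
  have hDD' : D ≤ D' := fun d hd => ⟨hd.1, Subgroup.mem_centralizer_singleton_iff.2 (by
    have h1 : Commute d u := (hPC u huP d (hcomm d hd)).symm
    have h2 : Commute d c := by
      rcases hc_or with h | h
      · rw [h]; exact Commute.one_right d
      · rw [h]; exact Subgroup.mem_centralizer_singleton_iff.1 hd.2
    rw [← huc]; exact (h1.mul_right h2).eq)⟩
  have hD'D : D' ≤ D := by
    refine (Subgroup.eq_of_le_of_card_ge hDD' ?_).ge
    have : D' ≤ D.map (MulAut.conj g).toMonoidHom := fun d hd =>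
      ⟨g⁻¹ * d * g, ⟨by simpa using hKn.conj_mem d hd.1 g⁻¹, Subgroup.mem_centralizer_singleton_iff.2 (by
        have h : d * (g * t * g⁻¹) = g * t * g⁻¹ * d := Subgroup.mem_centralizer_singleton_iff.1 hd.2
        calc g⁻¹ * d * g * t = g⁻¹ * (d * (g * t * g⁻¹)) * g := by group
          _ = t * (g⁻¹ * d * g) := by rw [h]; group)⟩, by simp [mul_assoc]⟩
    refine (Subgroup.card_le_of_le this).trans (le_of_eq ?_)
    exact Subgroup.card_map_of_injective (K := D) (MulAut.conj g).injective
  -- the product `w = t t'` centralises the odd core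
  set w := t * t' with hwdef
  have hw : K ≤ Subgroup.centralizer ({w} : Set X) := by
    let V : Subgroup X :=
      { carrier := {1, t, t', w}
        one_mem' := by simp
        mul_mem' := by
          simp only [Set.mem_insert_iff, Set.mem_singleton_iff]
          have e1 : t * w = t' := by rw [hwdef, ← mul_assoc, ht2, one_mul]
          have e2 : w * t = t' := by rw [hwdef, mul_assoc, htt', ← mul_assoc, ht2, one_mul]
          have e3 : t' * w = t := by rw [hwdef, ← mul_assoc, htt', mul_assoc, ht'2, mul_one]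
          have e4 : w * t' = t := by rw [hwdef, mul_assoc, ht'2, mul_one]
          have e5 : w * w = 1 := by
            rw [hwdef, show t * t' * (t * t') = t * (t' * t) * t' by group, htt',
              show t * (t * t') * t' = (t * t) * (t' * t') by group, ht2, ht'2, one_mul]
          have e6 : t * t' = w := hwdef.symm
          have e7 : t' * t = w := htt'.trans hwdef.symm
          intro x y hx hy
          rcases hx with h | h | h | h <;> rcases hy with h' | h' | h' | h' <;> subst x <;> subst y <;>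
            simp [ht2, ht'2, e1, e2, e3, e4, e5, e6, e7]
        inv_mem' := by
          simp only [Set.mem_insert_iff, Set.mem_singleton_iff]
          intro x hx
          rcases hx with rfl | rfl | rfl | rfl
          · simp
          · exact Or.inr (Or.inl (inv_eq_of_mul_eq_one_right ht2))
          · exact Or.inr (Or.inr (Or.inl (inv_eq_of_mul_eq_one_right ht'2)))
          · refine Or.inr (Or.inr (Or.inr ?_))
            rw [hwdef, mul_inv_rev, inv_eq_of_mul_eq_one_right ht2, inv_eq_of_mul_eq_one_right ht'2, htt'] }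
    have hw1 : w ≠ 1 := fun h => ht'ne ((eq_inv_of_mul_eq_one_right h).trans (inv_eq_of_mul_eq_one_right ht2))
    have hwt : w ≠ t := fun h => ht'1 (mul_eq_left.1 h)
    have hwt' : w ≠ t' := fun h => ht1 (mul_eq_right.1 h)
    have hw2 : w * w = 1 := by
      rw [hwdef, show t * t' * (t * t') = t * (t' * t) * t' by group, htt',
        show t * (t * t') * t' = (t * t) * (t' * t') by group, ht2, ht'2, one_mul]
    have hVmem : ∀ v : X, v ∈ V ↔ v = 1 ∨ v = t ∨ v = t' ∨ v = w := fun v => Iff.rfl
    have hVsq : ∀ v ∈ V, v * v = 1 := fun v hv => by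
      rcases (hVmem v).1 hv with rfl | rfl | rfl | rfl
      exacts [one_mul 1, ht2, ht'2, hw2]
    haveI : IsMulCommutative V := ⟨⟨fun x y => Subtype.ext (by
      have h1 := hVsq _ (V.mul_mem x.2 y.2)
      show (x : X) * y = y * x
      rw [eq_inv_of_mul_eq_one_left h1, mul_inv_rev, ← eq_inv_of_mul_eq_one_left (hVsq _ x.2),
        ← eq_inv_of_mul_eq_one_left (hVsq _ y.2)])⟩⟩
    have hVcard : Nat.card V = 4 := by
      rw [show Nat.card V = (V : Set X).ncard from Nat.card_coe_set_eq _,
        show (V : Set X) = (({1, t, t', w} : Finset X) : Set X) by simp [V], Set.ncard_coe_finset]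
      rw [Finset.card_insert_of_notMem, Finset.card_insert_of_notMem, Finset.card_insert_of_notMem,
        Finset.card_singleton]
      · simp [hwt'.symm]
      · simp [ht'ne.symm, hwt.symm]
      · simp [ht1.symm, ht'1.symm, hw1.symm]
    have hVnc : ¬ IsCyclic V := by
      intro h
      obtain ⟨z, hz⟩ := IsCyclic.exists_ofOrder_eq_natCard (α := V)
      have h2 : z ^ 2 = 1 := Subtype.ext (by simpa [pow_two] using hVsq _ z.2)
      have := Nat.le_of_dvd two_pos (orderOf_dvd_of_pow_eq_one h2)
      omega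
    refine CfsgLib.Coprime.le_of_centralizer_le_of_not_isCyclic (A := V) hVnc
      (Subgroup.normalizer_eq_top (H := K) ▸ le_top) ?_ fun v hv hv1 => ?_
    · rw [hVcard, show (4 : ℕ) = 2 ^ 2 from rfl]
      exact (Nat.coprime_two_left.2 hKodd).pow_left 2
    · have hDw : D ≤ Subgroup.centralizer ({w} : Set X) := fun d hd =>
        Subgroup.mem_centralizer_singleton_iff.2 ((show Commute d t from
          Subgroup.mem_centralizer_singleton_iff.1 hd.2).mul_right
          (Subgroup.mem_centralizer_singleton_iff.1 (hDD' hd).2 : Commute d t')).eq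
      rcases (hVmem v).1 hv with rfl | rfl | rfl | rfl
      · exact absurd rfl hv1
      · exact hDw
      · exact hD'D.trans hDw
      · exact inf_le_right
  have hPK : ⁅P, K⁆ = ⊥ := by
    refine Subgroup.commutator_eq_bot_iff_le_centralizer.2 ?_
    haveI : (Subgroup.centralizer (K : Set X)).Normal := inferInstance
    rcases CfsgLib.Components.quasisimple_normal_eq_top_or_le_center hq
      ((Subgroup.centralizer (K : Set X)).subgroupOf P) with h | h
    · exact Subgroup.subgroupOf_eq_top.1 h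
    exfalso
    have hwK : w ∈ Subgroup.centralizer (K : Set X) := Subgroup.mem_centralizer_iff.2 fun k hk =>
      Subgroup.mem_centralizer_singleton_iff.1 (hw hk)
    set uP : P := ⟨u, huP⟩
    have hcz : ∀ x : P, ⁅x, uP⁆ ∈ Subgroup.center P := fun x => h (by
      have hxv : Commute (x : X) (t * c) := hPC _ x.2 _ (mul_mem htC hcC)
      have hwe : w = u * (t * c) := by rw [hwdef, ← huc, ← mul_assoc, ← mul_assoc, hut]
      have e : ((⁅x, uP⁆ : P) : X) = ⁅(x : X), w⁆ := by
        show ⁅(x : X), u⁆ = _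
        rw [hwe, show ⁅(x : X), u * (t * c)⁆ = ⁅(x : X), u⁆ * (u * ⁅(x : X), t * c⁆ * u⁻¹) by
          simp only [commutatorElement_def]; group,
          commutatorElement_eq_one_iff_mul_comm.2 hxv.eq]
        group
      rw [Subgroup.mem_subgroupOf, e, commutatorElement_def]
      exact mul_mem ((inferInstance : (Subgroup.centralizer (K : Set X)).Normal).conj_mem w hwK _)
        (inv_mem hwK))
    let φ : P →* Subgroup.center P := MonoidHom.mk' (fun x => ⟨⁅x, uP⁆, hcz x⟩) fun x y => by
      refine Subtype.ext ?_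
      show ⁅x * y, uP⁆ = ⁅x, uP⁆ * ⁅y, uP⁆
      rw [show ⁅x * y, uP⁆ = x * ⁅y, uP⁆ * x⁻¹ * ⁅x, uP⁆ by simp only [commutatorElement_def]; group,
        Subgroup.mem_center_iff.1 (hcz y) x, mul_inv_cancel_right, Subgroup.mem_center_iff.1 (hcz x)]
    have hker : φ.ker = ⊤ := top_le_iff.1 (by
      rw [← Group.IsPerfect.commutator_eq_top (G := P), commutator_def, Subgroup.commutator_le]
      intro a _ b _
      rw [MonoidHom.mem_ker, map_commutatorElement, commutatorElement_eq_one_iff_mul_comm]
      exact Subtype.ext (Subgroup.mem_center_iff.1 (φ b).2 (φ a)))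
    have huz : uP ∈ Subgroup.center P := Subgroup.mem_center_iff.2 fun x =>
      commutatorElement_eq_one_iff_mul_comm.1
        (congrArg Subtype.val (MonoidHom.mem_ker.1 (hker ▸ Subgroup.mem_top x) : φ x = 1))
    have h2 : orderOf uP = 2 := orderOf_eq_prime (Subtype.ext (by
      show u ^ 2 = 1
      rw [pow_two]; exact hu2)) (fun h => hu1 (congrArg Subtype.val h))
    have h3 := Subgroup.orderOf_dvd_natCard _ huz
    rw [h2] at h3
    exact (Nat.not_even_iff_odd.2 hZ) (even_iff_two_dvd.2 h3)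
  refine ⟨hPK, fun L hL hPL _ => ?_⟩
  -- `C_L(O(X))` already covers `L` modulo the odd core
  let CL := L ⊓ Subgroup.centralizer (K : Set X)
  have hCLn : (CL.subgroupOf L).Normal :=
    Subgroup.normal_subgroupOf_iff inf_le_left |>.2 fun x l hx hl =>
      ⟨L.mul_mem (L.mul_mem hl hx.1) (L.inv_mem hl), (inferInstance : (Subgroup.centralizer (K : Set X)).Normal).conj_mem x hx.2 l⟩
  set π := QuotientGroup.mk' (pPrimeCore 2 X)
  have hPCL : P ≤ CL := le_inf hPL (Subgroup.commutator_eq_bot_iff_le_centralizer.1 hPK)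
  have hCL : CL = L := by
    refine hL.2.2 CL (Subgroup.IsSubnormal.step _ L inf_le_left hL.1 hCLn) inf_le_left ?_
    refine le_antisymm (Subgroup.map_mono inf_le_left) ?_
    haveI hn : ((CL.map π).subgroupOf (L.map π)).Normal := by
      refine Subgroup.normal_subgroupOf_iff (Subgroup.map_mono inf_le_left) |>.2 ?_
      rintro _ _ ⟨x, hx, rfl⟩ ⟨l, hl, rfl⟩
      exact ⟨l * x * l⁻¹, Subgroup.normal_subgroupOf_iff inf_le_left |>.1 hCLn x l hx hl, by simp⟩
    rcases CfsgLib.Components.quasisimple_normal_eq_top_or_le_center hL.2.1.2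
      ((CL.map π).subgroupOf (L.map π)) with h | h
    · exact Subgroup.subgroupOf_eq_top.1 h
    · exfalso
      refine hPne ?_
      intro x hx
      have hmem : ∀ y ∈ P, π y ∈ L.map π := fun y hy => Subgroup.mem_map_of_mem π (hPL hy)
      let f : P →* ↥(L.map π) := (π.comp P.subtype).codRestrict (L.map π) fun y => hmem y y.2
      have hab : ∀ a b : P, f a * f b = f b * f a := fun a b =>
        Subgroup.mem_center_iff.1 (h (Subgroup.mem_map_of_mem π (hPCL b.2) : f b ∈ (CL.map π).subgroupOf (L.map π))) (f a)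
      have hker : f.ker = ⊤ := top_le_iff.1 (by
        rw [← Group.IsPerfect.commutator_eq_top (G := P), commutator_def, Subgroup.commutator_le]
        intro a _ b _
        rw [MonoidHom.mem_ker, map_commutatorElement, commutatorElement_eq_one_iff_mul_comm]
        exact hab a b)
      exact (QuotientGroup.eq_one_iff x).1 (congrArg Subtype.val
        (MonoidHom.mem_ker.1 (hker ▸ Subgroup.mem_top (⟨x, hx⟩ : P)) : f ⟨x, hx⟩ = 1))
  rw [CfsgLib.Components.pComponent_isQuasisimple_iff hL]
  refine Subgroup.commutator_eq_bot_iff_le_centralizer.2 (le_trans hCL.ge (inf_le_right.trans ?_))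
  exact Subgroup.centralizer_le (CfsgLib.Base.map_pPrimeCore_le_of_isSubnormal hL.1)


/-- Let X be a finite group and P a standard subgroup of X whose centralizer has 2-rank at most 1 and whose centre has odd order. Let S be a Sylow 2-subgroup of N_X(P) and t an involution of S centralizing P. Suppose some element g of X normalizes S, does not lie in S, has its square in S, and conjugates t into P·C_X(P). Then P commutes elementwise with the largest normal odd-order subgroup O(X) of X; consequently every t-invariant 2-component of X containing P is quasisimple. -/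
theorem result {X : Type*} [Group X] [Finite X] (P : Subgroup X) (hP : Cfsg.IsStandardSubgroup P)
    (hr : Cfsg.PRankLE 2 1 ↥(Subgroup.centralizer (P : Set X))) (hZ : Odd (Nat.card ↥(Subgroup.center ↥P)))
    (S : Sylow 2 ↥(Subgroup.normalizer (P : Set X))) (t : X) (ht : orderOf t = 2) (htS : t ∈ (S : Subgroup ↥(Subgroup.normalizer (P : Set X))).map (Subgroup.normalizer (P : Set X)).subtype)
    (htP : t ∈ Subgroup.centralizer (P : Set X))
    (g : X) (hgN : ∀ s ∈ (S : Subgroup ↥(Subgroup.normalizer (P : Set X))).map (Subgroup.normalizer (P : Set X)).subtype, g * s * g⁻¹ ∈ (S : Subgroup ↥(Subgroup.normalizer (P : Set X))).map (Subgroup.normalizer (P : Set X)).subtype)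
    (hgS : g ∉ (S : Subgroup ↥(Subgroup.normalizer (P : Set X))).map (Subgroup.normalizer (P : Set X)).subtype) (hg2 : g ^ 2 ∈ (S : Subgroup ↥(Subgroup.normalizer (P : Set X))).map (Subgroup.normalizer (P : Set X)).subtype)
    (hgt : g * t * g⁻¹ ∈ P ⊔ Subgroup.centralizer (P : Set X)) :
    ⁅P, Cfsg.oddCore X⁆ = ⊥ ∧
      ∀ L : Subgroup X, Cfsg.IsPComponent 2 L → P ≤ L → (∀ l ∈ L, t * l * t⁻¹ ∈ L) → Cfsg.IsQuasisimple ↥L := by
  refine aux P hP hr hZ _ (Subgroup.map_subtype_le _) (S.isPGroup'.map _) (fun R hR hRN hSR => ?_)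
    t ht htS htP g hgN hgS hg2 hgt
  have h1 : R.subgroupOf (Subgroup.normalizer (P : Set X)) = S := by
    refine S.3 (hR.comap_of_injective _ (Subgroup.subtype_injective _)) ?_
    exact fun x hx => hSR (Subgroup.mem_map_of_mem _ hx)
  rw [← h1, Subgroup.map_subgroupOf_eq_of_le hRN]

end Cfsg.Agent.S3153
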