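import Cfsg.Statements.S3154
import Cfsg.Agent.Lib.Schur.PSLThreeFour
import Cfsg.Agent.Lib.Coprime.Gaschutz
import Cfsg.Agent.Lib.Recog.SL2Char2
import Cfsg.Agent.Lib.PSL2.Congr

/-!
Maximal elementary abelian `2`-subgroups of covers of `PSL(3,4)` with elementary abelian kernel.
-/

set_option autoImplicit false
open Cfsg Matrix

namespace Cfsg.Agent.S3154

open CfsgLib.Schur.LThreeFour

section Abstract

variable {X S V P : Type*} [Group X] [Finite X] [Group S] [AddCommGroup V] [Group P]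
  {π : X →* S} (hπ : Function.Surjective π) (hz : ∀ x, π x = 1 → x * x = 1 ∧ ∀ y, Commute x y)

include hπ hz in
/-- Lifts of a group of involutions with transitive normaliser square to one. -/
theorem lifts_sq (M : V → S) (hadd : ∀ v w, M (v + w) = M v * M w)
    (h2 : ∀ v : V, v + v = 0) (hM0 : M 0 = 1)
    (htr : ∀ v w : V, v ≠ 0 → w ≠ 0 → ∃ g : S, g * M v * g⁻¹ = M w)
    (hbig : ∀ a b : V, ∃ w : V, w ≠ 0 ∧ w ≠ a ∧ w ≠ b ∧ w ≠ a + b)
    {v : V} {x : X} (hx : π x = M v) : x * x = 1 := by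
  by_cases hv : v = 0
  · exact (hz x (by rw [hx, hv, hM0])).1
  obtain ⟨u, hu0, huv, -, -⟩ := hbig v v
  obtain ⟨y, hy⟩ := hπ (M u)
  have key : ∀ (w : V) (z : X), w ≠ 0 → π z = M w → z * z = x * x := by
    intro w z hw hz'
    obtain ⟨g, hg⟩ := htr v w hv hw
    obtain ⟨g₀, rfl⟩ := hπ g
    have hk : π ((g₀ * x * g₀⁻¹)⁻¹ * z) = 1 := by
      rw [map_mul, map_inv, map_mul, map_mul, map_inv, hx, hz', hg, inv_mul_cancel]
    obtain ⟨hk2, hkc⟩ := hz _ hk
    set k := (g₀ * x * g₀⁻¹)⁻¹ * z with hkdef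
    have hzk : z = g₀ * x * g₀⁻¹ * k := by rw [hkdef, mul_inv_cancel_left]
    have hxx : π (x * x) = 1 := by rw [map_mul, hx, ← hadd, h2, hM0]
    calc z * z = g₀ * x * g₀⁻¹ * (k * (g₀ * x * g₀⁻¹)) * k := by rw [hzk]; group
      _ = g₀ * (x * x) * g₀⁻¹ * (k * k) := by rw [(hkc _).eq]; group
      _ = x * x := by
          rw [hk2, mul_one, ← ((hz _ hxx).2 g₀).eq, mul_inv_cancel_right]
  have hxy : v + u ≠ 0 := fun e => huv (by
    have e' := congrArg (v + ·) e
    simp only [add_zero, ← add_assoc, h2, zero_add] at e'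
    exact e')
  have hc : Commute x y := lifts_commute hπ hz M hadd h2 hM0 htr hbig hx hy
  have h1 := key u y hu0 hy
  have h3 := key (v + u) (x * y) hxy (by rw [map_mul, hx, hy, hadd])
  rw [mul_assoc x, ← mul_assoc y, ← hc.eq, mul_assoc x y, h1, ← mul_assoc] at h3
  exact mul_eq_left.1 h3

variable {R : Subgroup S} (T : Sylow 2 X) (H K : Subgroup X)

include hπ hz in
/-- The normaliser of the preimage of `R` splits with complement isomorphic to `P`. -/
theorem split_normalizer [Fact (Nat.Prime 2)]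
    (hH : H = R.comap π) (hab : ∀ x ∈ H, ∀ y ∈ H, Commute x y) (h2H : ∀ x ∈ H, x * x = 1)
    (hTN : (T : Subgroup X) ≤ Subgroup.normalizer (H : Set X))
    (hKT : K ≤ T) (hKab : ∀ x ∈ K, ∀ y ∈ K, Commute x y) (hK2 : ∀ x ∈ K, x * x = 1)
    (hHK : H ⊔ K = T)
    (j : P →* S) (hj : ∀ A, j A ∈ R → A = 1)
    (hjN : ∀ A, j A ∈ Subgroup.normalizer (R : Set S))
    (hN : ∀ g ∈ Subgroup.normalizer (R : Set S), ∃ A, (j A)⁻¹ * g ∈ R) :
    ∃ C : Subgroup X, C ≤ Subgroup.normalizer (H : Set X) ∧ C ⊓ H = ⊥ ∧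
      H ⊔ C = Subgroup.normalizer (H : Set X) ∧ Nonempty (↥C ≃* P) := by
  classical
  -- a complement of `H` in `T` inside `K`
  have : Nonempty {A : Subgroup X // A ≤ K ∧ A ⊓ H = ⊥} := ⟨⟨⊥, bot_le, bot_inf_eq _⟩⟩
  obtain ⟨A, hA⟩ := Finite.exists_max
    (fun A : {A : Subgroup X // A ≤ K ∧ A ⊓ H = ⊥} => Nat.card A.1)
  obtain ⟨⟨A, hAK, hAH⟩, hmax⟩ : ∃ A : {A : Subgroup X // A ≤ K ∧ A ⊓ H = ⊥},
      ∀ B, Nat.card (B : {A : Subgroup X // A ≤ K ∧ A ⊓ H = ⊥}).1 ≤ Nat.card A.1 := ⟨A, hA⟩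
  have hAT : H ⊔ A = (T : Subgroup X) := by
    refine le_antisymm (sup_le (hHK ▸ le_sup_left) (hAK.trans hKT)) ?_
    rw [← hHK]
    refine sup_le le_sup_left fun x hx => ?_
    by_contra hxn
    let B : Subgroup X :=
      { carrier := {b | b ∈ A ∨ ∃ a ∈ A, b = a * x}
        one_mem' := Or.inl A.one_mem
        mul_mem' := by
          rintro b c (hb | ⟨a, ha, rfl⟩) (hc | ⟨a', ha', rfl⟩)
          · exact Or.inl (A.mul_mem hb hc)
          · exact Or.inr ⟨b * a', A.mul_mem hb ha', (mul_assoc _ _ _).symm⟩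
          · exact Or.inr ⟨a * c, A.mul_mem ha hc, by
              rw [mul_assoc, (hKab x hx c (hAK hc)).eq, ← mul_assoc]⟩
          · refine Or.inl ?_
            rw [mul_assoc, ← mul_assoc x, (hKab x hx a' (hAK ha')).eq, mul_assoc a', hK2 x hx,
              mul_one]
            exact A.mul_mem ha ha'
        inv_mem' := by
          rintro b (hb | ⟨a, ha, rfl⟩)
          · exact Or.inl (A.inv_mem hb)
          · refine Or.inr ⟨a⁻¹, A.inv_mem ha, ?_⟩
            rw [inv_eq_of_mul_eq_one_right]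
            rw [mul_assoc, ← mul_assoc x, (hKab x hx _ (hAK (A.inv_mem ha))).eq, mul_assoc a⁻¹,
              hK2 x hx, mul_one, mul_inv_cancel] }
    have hBK : B ≤ K := by
      rintro b (hb | ⟨a, ha, rfl⟩)
      · exact hAK hb
      · exact K.mul_mem (hAK ha) hx
    have hBH : B ⊓ H = ⊥ := by
      rw [eq_bot_iff]
      rintro b ⟨hb | ⟨a, ha, rfl⟩, hbH⟩
      · exact hAH ▸ Subgroup.mem_inf.2 ⟨hb, hbH⟩
      · exfalso
        apply hxn
        rw [show x = a⁻¹ * (a * x) by group]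
        exact Subgroup.mul_mem _ (Subgroup.mem_sup_right (A.inv_mem ha))
          (Subgroup.mem_sup_left hbH)
    have hAB : A ≤ B := fun a ha => Or.inl ha
    have hlt : A < B := lt_of_le_of_ne hAB fun e => hxn (Subgroup.mem_sup_right (by
      rw [e]; exact Or.inr ⟨1, A.one_mem, (one_mul x).symm⟩))
    have h1 := hmax ⟨B, hBK, hBH⟩
    exact hlt.ne (Subgroup.eq_of_le_of_card_ge hAB h1)
  -- Gaschütz
  set N := Subgroup.normalizer (H : Set X) with hNdef
  have hHN : H ≤ N := Subgroup.le_normalizer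
  have : (H.subgroupOf N).Normal := Subgroup.normal_in_normalizer
  have : IsMulCommutative (H.subgroupOf N) :=
    ⟨⟨fun a b => Subtype.ext (Subtype.ext (hab _ a.2 _ b.2).eq)⟩⟩
  have hcop : (Nat.card (H.subgroupOf N)).Coprime ((T : Subgroup X).subgroupOf N).index := by
    rw [Nat.card_congr (Subgroup.subgroupOfEquivOfLe hHN).toEquiv]
    have hp : IsPGroup 2 H := T.2.to_le (hHK ▸ le_sup_left)
    obtain ⟨n, hn⟩ := IsPGroup.iff_card.1 hp
    rw [hn]
    refine Nat.Coprime.pow_left n ((Nat.prime_two.coprime_iff_not_dvd).2 fun hd => ?_)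
    exact T.not_dvd_index (hd.trans (Dvd.intro _ (Subgroup.relIndex_mul_index hTN)))
  obtain ⟨C₀, hC₀⟩ := CfsgLib.Coprime.gaschutz_exists (H.subgroupOf N)
    ((T : Subgroup X).subgroupOf N) (fun x hx => (hAT ▸ (le_sup_left : H ≤ H ⊔ A)) hx) hcop
    (A.subgroupOf N) (fun x hx => (hAT ▸ (le_sup_right : A ≤ H ⊔ A)) hx)
    (by rw [eq_bot_iff]; intro x hx
        exact Subtype.ext ((Subgroup.mem_bot).1 (hAH ▸ Subgroup.mem_inf.2 ⟨hx.1, hx.2⟩)))
    (by rw [← Subgroup.subgroupOf_sup hHN ((hAK.trans hKT).trans hTN), hAT])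
  set C := C₀.map N.subtype with hCdef
  have hCN : C ≤ N := Subgroup.map_subtype_le C₀
  have hCH : C ⊓ H = ⊥ := by
    rw [eq_bot_iff]
    rintro _ ⟨⟨c, hc, rfl⟩, hcH⟩
    have := hC₀.disjoint.le_bot (Subgroup.mem_inf.2 ⟨show c ∈ H.subgroupOf N from hcH, hc⟩)
    rw [Subgroup.mem_bot] at this ⊢
    rw [this]; rfl
  have hHC : H ⊔ C = N := by
    refine le_antisymm (sup_le hHN hCN) fun x hx => ?_
    have hmem : (⟨x, hx⟩ : N) ∈ H.subgroupOf N ⊔ C₀ := by rw [hC₀.sup_eq_top]; trivial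
    obtain ⟨h, hh, c, hc, e⟩ := Subgroup.mem_sup_of_normal_left.1 hmem
    rw [show x = (h : X) * (c : X) from (congrArg Subtype.val e).symm]
    exact Subgroup.mul_mem _ (Subgroup.mem_sup_left hh)
      (Subgroup.mem_sup_right ⟨c, hc, rfl⟩)
  refine ⟨C, hCN, hCH, hHC, ?_⟩
  -- the isomorphism
  have hπN : ∀ x ∈ N, π x ∈ Subgroup.normalizer (R : Set S) := by
    intro x hx
    rw [Subgroup.mem_normalizer_iff]
    intro r
    obtain ⟨y, rfl⟩ := hπ r
    have := Subgroup.mem_normalizer_iff.1 hx y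
    rw [hH, Subgroup.mem_comap, Subgroup.mem_comap, map_mul, map_mul, map_inv] at this
    exact this
  choose f hf using fun c : C => hN (π c) (hπN c (hCN c.2))
  have huniq : ∀ (c : C) (B : P), (j B)⁻¹ * π c ∈ R → f c = B := by
    intro c B hB
    have := R.mul_mem hB (R.inv_mem (hf c))
    rw [_root_.mul_inv_rev, inv_inv, mul_assoc, mul_inv_cancel_left, ← map_inv, ← map_mul] at this
    exact (inv_mul_eq_one.1 (hj _ this)).symm
  let φ : C →* P := MonoidHom.mk' f fun c d => huniq _ _ (by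
    rw [Subgroup.coe_mul, map_mul, map_mul, _root_.mul_inv_rev]
    have h1 := (Subgroup.mem_normalizer_iff.1 (Subgroup.inv_mem _ (hjN (f d))) _).1 (hf c)
    have h2 := R.mul_mem h1 (hf d)
    rw [inv_inv] at h2
    convert h2 using 1
    group)
  have hinj : Function.Injective φ := by
    rw [injective_iff_map_eq_one]
    intro c hc
    have h1 := hf c
    rw [show f c = 1 from hc, map_one, inv_one, one_mul] at h1
    have : (c : X) ∈ C ⊓ H := ⟨c.2, hH ▸ h1⟩
    rw [hCH, Subgroup.mem_bot] at this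
    exact Subtype.ext this
  have hsurj : Function.Surjective φ := by
    intro B
    obtain ⟨x, hx⟩ := hπ (j B)
    have hxN : x ∈ N := by
      rw [hNdef, Subgroup.mem_normalizer_iff]
      intro y
      have := Subgroup.mem_normalizer_iff.1 (hjN B) (π y)
      rw [← hx, ← map_inv, ← map_mul, ← map_mul] at this
      rw [hH]
      exact this
    rw [← hHC] at hxN
    have : H.Normal ∨ C ≤ Subgroup.normalizer (H : Set X) := Or.inr hCN
    obtain ⟨h, hh, c, hc, rfl⟩ : ∃ h ∈ H, ∃ c ∈ C, h * c = x := by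
      rw [← SetLike.mem_coe, Subgroup.coe_mul_of_right_le_normalizer_left H C hCN,
        Set.mem_mul] at hxN
      exact hxN
    refine ⟨⟨c, hc⟩, huniq _ _ ?_⟩
    have hπh : π h ∈ R := by rw [hH] at hh; exact hh
    have h1 := (Subgroup.mem_normalizer_iff.1 (Subgroup.inv_mem _ (hjN B)) _).1 (R.inv_mem hπh)
    convert h1 using 1
    rw [show π c = (π h)⁻¹ * j B by rw [← hx, map_mul, inv_mul_cancel_left], inv_inv]
    group
  exact ⟨MulEquiv.ofBijective φ ⟨hinj, hsurj⟩⟩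

end Abstract

section Model

variable {F : Type} [Field F]

/-- The block embedding in the upper left corner. -/
def jCol : Matrix.SpecialLinearGroup (Fin 2) F →* Matrix.SpecialLinearGroup (Fin 3) F :=
  MonoidHom.mk' (fun A => ⟨!![A.1 0 0, A.1 0 1, 0; A.1 1 0, A.1 1 1, 0; 0, 0, 1], by
    have h := A.2
    rw [Matrix.det_fin_two] at h
    simp [Matrix.det_fin_three]
    linear_combination h⟩) fun A B => by
    refine Subtype.ext ?_
    show _ = (_ * _ : Matrix (Fin 3) (Fin 3) F)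
    have hAB : ∀ i k, (A * B).1 i k = (A.1 * B.1) i k := fun i k => by
      rw [← Matrix.SpecialLinearGroup.coe_mul]
    ext i k
    fin_cases i <;> fin_cases k <;>
      simp [hAB, Matrix.mul_apply, Fin.sum_univ_three, Fin.sum_univ_two]

/-- The block embedding in the lower right corner. -/
def jRow : Matrix.SpecialLinearGroup (Fin 2) F →* Matrix.SpecialLinearGroup (Fin 3) F :=
  MonoidHom.mk' (fun A => ⟨!![1, 0, 0; 0, A.1 0 0, A.1 0 1; 0, A.1 1 0, A.1 1 1], by
    have h := A.2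
    rw [Matrix.det_fin_two] at h
    simp [Matrix.det_fin_three]
    linear_combination h⟩) fun A B => by
    refine Subtype.ext ?_
    show _ = (_ * _ : Matrix (Fin 3) (Fin 3) F)
    have hAB : ∀ i k, (A * B).1 i k = (A.1 * B.1) i k := fun i k => by
      rw [← Matrix.SpecialLinearGroup.coe_mul]
    ext i k
    fin_cases i <;> fin_cases k <;>
      simp [hAB, Matrix.mul_apply, Fin.sum_univ_three, Fin.sum_univ_two]

theorem coe_jCol (A : Matrix.SpecialLinearGroup (Fin 2) F) :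
    (jCol A).1 = !![A.1 0 0, A.1 0 1, 0; A.1 1 0, A.1 1 1, 0; 0, 0, 1] := rfl

theorem coe_jRow (A : Matrix.SpecialLinearGroup (Fin 2) F) :
    (jRow A).1 = !![1, 0, 0; 0, A.1 0 0, A.1 0 1; 0, A.1 1 0, A.1 1 1] := rfl

/-- The column transvection group. -/
def colR : Subgroup (ProjectiveSpecialLinearGroup (Fin 3) F) :=
  (MonoidHom.mk' (fun v : Multiplicative (F × F) => colT v.toAdd)
    fun v w => colT_add v.toAdd w.toAdd).range

/-- The row transvection group. -/
def rowR : Subgroup (ProjectiveSpecialLinearGroup (Fin 3) F) :=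
  (MonoidHom.mk' (fun v : Multiplicative (F × F) => rowT v.toAdd)
    fun v w => rowT_add v.toAdd w.toAdd).range

theorem mem_colR {g : ProjectiveSpecialLinearGroup (Fin 3) F} :
    g ∈ colR ↔ ∃ v : F × F, colT v = g :=
  ⟨fun ⟨v, hv⟩ => ⟨v.toAdd, hv⟩, fun ⟨v, hv⟩ => ⟨Multiplicative.ofAdd v, hv⟩⟩

theorem mem_rowR {g : ProjectiveSpecialLinearGroup (Fin 3) F} :
    g ∈ rowR ↔ ∃ v : F × F, rowT v = g :=
  ⟨fun ⟨v, hv⟩ => ⟨v.toAdd, hv⟩, fun ⟨v, hv⟩ => ⟨Multiplicative.ofAdd v, hv⟩⟩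

theorem mk_eq_iff (g g' : Matrix.SpecialLinearGroup (Fin 3) F)
    (h : (QuotientGroup.mk g : ProjectiveSpecialLinearGroup (Fin 3) F) = QuotientGroup.mk g') :
    ∃ r : F, (g' : Matrix (Fin 3) (Fin 3) F) = r • (g : Matrix (Fin 3) (Fin 3) F) := by
  have hz := QuotientGroup.eq.1 h
  obtain ⟨r, -, hr⟩ := Matrix.SpecialLinearGroup.mem_center_iff.1 hz
  refine ⟨r, ?_⟩
  have e : g' = g * (g⁻¹ * g') := (mul_inv_cancel_left _ _).symm
  rw [e, Matrix.SpecialLinearGroup.coe_mul, ← hr]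
  ext i k
  simp [Matrix.scalar_apply, mul_comm]

theorem jCol_conj (A : Matrix.SpecialLinearGroup (Fin 2) F) (v : F × F) :
    ∃ w : F × F, (QuotientGroup.mk (jCol A) : ProjectiveSpecialLinearGroup (Fin 3) F) * colT v *
      (QuotientGroup.mk (jCol A))⁻¹ = colT w := by
  refine ⟨(A.1 0 0 * v.1 + A.1 0 1 * v.2, A.1 1 0 * v.1 + A.1 1 1 * v.2), ?_⟩
  rw [mul_inv_eq_iff_eq_mul]
  show QuotientGroup.mk (jCol A * uni _ _ _) = QuotientGroup.mk (uni _ _ _ * jCol A)
  congr 1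
  refine Subtype.ext ?_
  rw [Matrix.SpecialLinearGroup.coe_mul, Matrix.SpecialLinearGroup.coe_mul]
  ext i k
  fin_cases i <;> fin_cases k <;> simp [coe_jCol, uni, Matrix.mul_apply, Fin.sum_univ_three]

theorem jRow_conj (A : Matrix.SpecialLinearGroup (Fin 2) F) (v : F × F) :
    ∃ w : F × F, (QuotientGroup.mk (jRow A) : ProjectiveSpecialLinearGroup (Fin 3) F) * rowT v *
      (QuotientGroup.mk (jRow A))⁻¹ = rowT w := by
  refine ⟨(A.1 1 1 * v.1 - A.1 1 0 * v.2, A.1 0 0 * v.2 - A.1 0 1 * v.1), ?_⟩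
  rw [mul_inv_eq_iff_eq_mul]
  show QuotientGroup.mk (jRow A * uni _ _ _) = QuotientGroup.mk (uni _ _ _ * jRow A)
  congr 1
  refine Subtype.ext ?_
  have h := A.2
  rw [Matrix.det_fin_two] at h
  rw [Matrix.SpecialLinearGroup.coe_mul, Matrix.SpecialLinearGroup.coe_mul]
  ext i k
  fin_cases i <;> fin_cases k <;> simp [coe_jRow, uni, Matrix.mul_apply, Fin.sum_univ_three]
  · linear_combination -v.1 * h
  · linear_combination -v.2 * h

theorem mem_normalizer_of_conj {S : Type*} [Group S] [Finite S] {R : Subgroup S} {g : S}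
    (h : ∀ r ∈ R, g * r * g⁻¹ ∈ R) : g ∈ Subgroup.normalizer (R : Set S) := by
  rw [Subgroup.mem_normalizer_iff]
  intro r
  refine ⟨h r, fun hr => ?_⟩
  have hmap : R.map (MulAut.conj g).toMonoidHom = R :=
    Subgroup.eq_of_le_of_card_ge (by rintro _ ⟨x, hx, rfl⟩; exact h x hx)
      (by rw [Subgroup.card_map_of_injective (MulAut.conj g).injective])
  rw [← hmap] at hr
  obtain ⟨x, hx, hx'⟩ := hr
  obtain rfl : x = r := (MulAut.conj g).injective hx'
  exact hx

variable [Finite F]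

theorem jCol_normalizes (A : Matrix.SpecialLinearGroup (Fin 2) F) :
    (QuotientGroup.mk (jCol A) : ProjectiveSpecialLinearGroup (Fin 3) F) ∈
      Subgroup.normalizer (colR (F := F) : Set (ProjectiveSpecialLinearGroup (Fin 3) F)) :=
  mem_normalizer_of_conj fun r hr => by
    obtain ⟨v, rfl⟩ := mem_colR.1 hr
    obtain ⟨w, hw⟩ := jCol_conj A v
    exact mem_colR.2 ⟨w, hw.symm⟩

theorem jRow_normalizes (A : Matrix.SpecialLinearGroup (Fin 2) F) :
    (QuotientGroup.mk (jRow A) : ProjectiveSpecialLinearGroup (Fin 3) F) ∈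
      Subgroup.normalizer (rowR (F := F) : Set (ProjectiveSpecialLinearGroup (Fin 3) F)) :=
  mem_normalizer_of_conj fun r hr => by
    obtain ⟨v, rfl⟩ := mem_rowR.1 hr
    obtain ⟨w, hw⟩ := jRow_conj A v
    exact mem_rowR.2 ⟨w, hw.symm⟩

omit [Finite F] in
theorem jCol_mem (A : Matrix.SpecialLinearGroup (Fin 2) F)
    (h : (QuotientGroup.mk (jCol A) : ProjectiveSpecialLinearGroup (Fin 3) F) ∈ colR) : A = 1 := by
  obtain ⟨v, hv⟩ := mem_colR.1 h
  obtain ⟨r, hr⟩ := mk_eq_iff _ _ hv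
  have e22 := congrFun (congrFun hr 2) 2
  have e00 := congrFun (congrFun hr 0) 0
  have e01 := congrFun (congrFun hr 0) 1
  have e10 := congrFun (congrFun hr 1) 0
  have e11 := congrFun (congrFun hr 1) 1
  simp [coe_jCol, uni] at e22 e00 e01 e10 e11
  subst e22
  refine Subtype.ext ?_
  ext i k
  fin_cases i <;> fin_cases k <;> simp_all

omit [Finite F] in
theorem jRow_mem (A : Matrix.SpecialLinearGroup (Fin 2) F)
    (h : (QuotientGroup.mk (jRow A) : ProjectiveSpecialLinearGroup (Fin 3) F) ∈ rowR) : A = 1 := by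
  obtain ⟨v, hv⟩ := mem_rowR.1 h
  obtain ⟨r, hr⟩ := mk_eq_iff _ _ hv
  have e22 := congrFun (congrFun hr 2) 2
  have e00 := congrFun (congrFun hr 0) 0
  have e12 := congrFun (congrFun hr 1) 2
  have e21 := congrFun (congrFun hr 2) 1
  have e11 := congrFun (congrFun hr 1) 1
  simp [coe_jRow, uni] at e22 e00 e12 e21 e11
  subst e00
  refine Subtype.ext ?_
  ext i k
  fin_cases i <;> fin_cases k <;> simp_all

variable (hF : Nat.card F = 4)

include hF in
theorem pow_three {a : F} (ha : a ≠ 0) : a ^ 3 = 1 := by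
  have := Fintype.ofFinite F
  have h := FiniteField.pow_card_sub_one_eq_one a ha
  rwa [← Nat.card_eq_fintype_card, hF] at h

include hF in
/-- Rescaling does not change the image. -/
theorem mk_smul (g g' : Matrix.SpecialLinearGroup (Fin 3) F) {a : F} (ha : a ≠ 0)
    (hg' : (g' : Matrix (Fin 3) (Fin 3) F) = a • (g : Matrix (Fin 3) (Fin 3) F)) :
    (QuotientGroup.mk g : ProjectiveSpecialLinearGroup (Fin 3) F) = QuotientGroup.mk g' := by
  rw [QuotientGroup.eq, Matrix.SpecialLinearGroup.mem_center_iff]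
  refine ⟨a, by rw [Fintype.card_fin]; exact pow_three hF ha, ?_⟩
  rw [Matrix.SpecialLinearGroup.coe_mul, hg']
  have hi : ((g⁻¹ : Matrix.SpecialLinearGroup (Fin 3) F) : Matrix (Fin 3) (Fin 3) F) * g = 1 := by
    rw [← Matrix.SpecialLinearGroup.coe_mul, inv_mul_cancel, Matrix.SpecialLinearGroup.coe_one]
  show _ = ((g⁻¹ : Matrix.SpecialLinearGroup (Fin 3) F) : Matrix (Fin 3) (Fin 3) F) *
    (a • (g : Matrix (Fin 3) (Fin 3) F))
  rw [mul_smul_comm, hi]
  ext i k
  simp [Matrix.scalar_apply, Matrix.diagonal_apply, Matrix.one_apply]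

include hF in
theorem normalizer_col (g : ProjectiveSpecialLinearGroup (Fin 3) F)
    (hg : g ∈ Subgroup.normalizer (colR (F := F) : Set (ProjectiveSpecialLinearGroup (Fin 3) F))) :
    ∃ A : Matrix.SpecialLinearGroup (Fin 2) F, (QuotientGroup.mk (jCol A))⁻¹ * g ∈ colR := by
  obtain ⟨g, rfl⟩ := QuotientGroup.mk_surjective g
  have key : ∀ c b : F, g.1 2 0 * c + g.1 2 1 * b = 0 ∨ (g.1 2 0 = 0 ∧ g.1 2 1 = 0) := by
    intro c b
    obtain ⟨⟨c', b'⟩, hv⟩ := mem_colR.1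
      ((Subgroup.mem_normalizer_iff.1 hg (colT (c, b))).1 (mem_colR.2 ⟨_, rfl⟩))
    rw [eq_mul_inv_iff_mul_eq] at hv
    obtain ⟨r, hr⟩ := mk_eq_iff (uni 0 b' c' * g) (g * uni 0 b c) hv
    rw [Matrix.SpecialLinearGroup.coe_mul, Matrix.SpecialLinearGroup.coe_mul] at hr
    have e0 := congrFun (congrFun hr 2) 0
    have e1 := congrFun (congrFun hr 2) 1
    have e2 := congrFun (congrFun hr 2) 2
    simp [uni, Matrix.mul_apply, Matrix.vecMul, dotProduct, Fin.sum_univ_three] at e0 e1 e2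
    by_cases hr1 : r = 1
    · subst hr1
      left
      linear_combination e2
    · right
      have k : ∀ t : F, t = r * t → t = 0 := fun t ht => by
        by_contra ht0
        exact hr1 ((mul_eq_right₀ ht0).1 ht.symm)
      exact ⟨k _ e0, k _ e1⟩
  have h20 : g.1 2 0 = 0 := by
    rcases key 1 0 with h | h
    · simpa using h
    · exact h.1
  have h21 : g.1 2 1 = 0 := by
    rcases key 0 1 with h | h
    · simpa using h
    · exact h.2
  have hdet := g.2
  rw [Matrix.det_fin_three, h20, h21] at hdet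
  simp at hdet
  have hd : g.1 2 2 ≠ 0 := fun e => by simp [e] at hdet
  set a := (g.1 2 2)⁻¹ with ha
  have ha0 : a ≠ 0 := inv_ne_zero hd
  have had : a * g.1 2 2 = 1 := inv_mul_cancel₀ hd
  have hs : (a • g.1).det = 1 := by
    rw [Matrix.det_smul, g.2, mul_one, Fintype.card_fin, pow_three hF ha0]
  have hA : Matrix.det !![a * g.1 0 0, a * g.1 0 1; a * g.1 1 0, a * g.1 1 1] = 1 := by
    rw [Matrix.det_fin_two_of]
    have := pow_three hF ha0
    linear_combination (norm := ring_nf) (a ^ 3) * hdet + this -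
      (a ^ 2 * (g.1 0 0 * g.1 1 1 - g.1 0 1 * g.1 1 0)) * had
  refine ⟨⟨_, hA⟩, ?_⟩
  set J := jCol (⟨_, hA⟩ : Matrix.SpecialLinearGroup (Fin 2) F) with hJ
  have hmem : (QuotientGroup.mk (uni 0 (a * g.1 1 2) (a * g.1 0 2)) :
      ProjectiveSpecialLinearGroup (Fin 3) F) ∈ colR := mem_colR.2 ⟨(_, _), rfl⟩
  have hJ1 : (J : Matrix (Fin 3) (Fin 3) F) =
      !![a * g.1 0 0, a * g.1 0 1, 0; a * g.1 1 0, a * g.1 1 1, 0; 0, 0, 1] := by rw [hJ]; rfl
  have hj := jCol_normalizes (⟨_, hA⟩ : Matrix.SpecialLinearGroup (Fin 2) F)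
  have e : (QuotientGroup.mk g : ProjectiveSpecialLinearGroup (Fin 3) F) =
      QuotientGroup.mk (uni 0 (a * g.1 1 2) (a * g.1 0 2) * J) := by
    rw [mk_smul hF g ⟨_, hs⟩ ha0 rfl]
    congr 1
    refine Subtype.ext ?_
    rw [Matrix.SpecialLinearGroup.coe_mul]
    ext i k
    fin_cases i <;> fin_cases k <;>
      simp [hJ1, uni, Matrix.mul_apply, Fin.sum_univ_three, h20, h21, had]
  rw [e, QuotientGroup.mk_mul]
  have := (Subgroup.mem_normalizer_iff.1 (Subgroup.inv_mem _ hj) _).1 hmem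
  rwa [inv_inv, mul_assoc] at this

include hF in
theorem normalizer_row (g : ProjectiveSpecialLinearGroup (Fin 3) F)
    (hg : g ∈ Subgroup.normalizer (rowR (F := F) : Set (ProjectiveSpecialLinearGroup (Fin 3) F))) :
    ∃ A : Matrix.SpecialLinearGroup (Fin 2) F, (QuotientGroup.mk (jRow A))⁻¹ * g ∈ rowR := by
  obtain ⟨g, rfl⟩ := QuotientGroup.mk_surjective g
  have key : ∀ a c : F, a * g.1 1 0 + c * g.1 2 0 = 0 ∨ (g.1 1 0 = 0 ∧ g.1 2 0 = 0) := by
    intro a c
    have hg' := Subgroup.inv_mem _ hg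
    obtain ⟨⟨a', c'⟩, hv⟩ := mem_rowR.1
      ((Subgroup.mem_normalizer_iff.1 hg' (rowT (a, c))).1 (mem_rowR.2 ⟨_, rfl⟩))
    rw [inv_inv, eq_comm, mul_assoc, inv_mul_eq_iff_eq_mul] at hv
    obtain ⟨r, hr⟩ := mk_eq_iff (g * uni a' 0 c') (uni a 0 c * g) hv.symm
    rw [Matrix.SpecialLinearGroup.coe_mul, Matrix.SpecialLinearGroup.coe_mul] at hr
    have e0 := congrFun (congrFun hr 0) 0
    have e1 := congrFun (congrFun hr 1) 0
    have e2 := congrFun (congrFun hr 2) 0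
    simp [uni, Matrix.mul_apply, Matrix.vecMul, dotProduct, Fin.sum_univ_three] at e0 e1 e2
    by_cases hr1 : r = 1
    · subst hr1
      left
      linear_combination e0
    · right
      have k : ∀ t : F, t = r * t → t = 0 := fun t ht => by
        by_contra ht0
        exact hr1 ((mul_eq_right₀ ht0).1 ht.symm)
      exact ⟨k _ e1, k _ e2⟩
  have h10 : g.1 1 0 = 0 := by
    rcases key 1 0 with h | h
    · simpa using h
    · exact h.1
  have h20 : g.1 2 0 = 0 := by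
    rcases key 0 1 with h | h
    · simpa using h
    · exact h.2
  have hdet := g.2
  rw [Matrix.det_fin_three, h10, h20] at hdet
  simp at hdet
  have hd : g.1 0 0 ≠ 0 := fun e => by simp [e] at hdet
  set a := (g.1 0 0)⁻¹ with ha
  have ha0 : a ≠ 0 := inv_ne_zero hd
  have had : a * g.1 0 0 = 1 := inv_mul_cancel₀ hd
  have hs : (a • g.1).det = 1 := by
    rw [Matrix.det_smul, g.2, mul_one, Fintype.card_fin, pow_three hF ha0]
  have hA : Matrix.det !![a * g.1 1 1, a * g.1 1 2; a * g.1 2 1, a * g.1 2 2] = 1 := by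
    rw [Matrix.det_fin_two_of]
    have := pow_three hF ha0
    linear_combination (norm := ring_nf) (a ^ 3) * hdet + this -
      (a ^ 2 * (g.1 1 1 * g.1 2 2 - g.1 1 2 * g.1 2 1)) * had
  refine ⟨⟨_, hA⟩, mem_rowR.2 ⟨(a * g.1 0 1, a * g.1 0 2), ?_⟩⟩
  rw [eq_inv_mul_iff_mul_eq]
  set J := jRow (⟨_, hA⟩ : Matrix.SpecialLinearGroup (Fin 2) F) with hJ
  have hJ1 : (J : Matrix (Fin 3) (Fin 3) F) =
      !![1, 0, 0; 0, a * g.1 1 1, a * g.1 1 2; 0, a * g.1 2 1, a * g.1 2 2] := by rw [hJ]; rfl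
  show QuotientGroup.mk (J * uni _ _ _) = _
  rw [mk_smul hF g ⟨_, hs⟩ ha0 rfl]
  congr 1
  refine Subtype.ext ?_
  rw [Matrix.SpecialLinearGroup.coe_mul]
  ext i k
  fin_cases i <;> fin_cases k <;>
    simp [hJ1, uni, Matrix.mul_apply, Fin.sum_univ_three, h10, h20, had]

end Model

section Main

variable {F : Type} [Field F] [Finite F] (h2 : (2 : F) = 0) (hF : Nat.card F = 4)

/-- The unitriangular Sylow subgroup. -/
def ub (F : Type) [Field F] : Subgroup (ProjectiveSpecialLinearGroup (Fin 3) F) :=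
  (uniGroup F).map (QuotientGroup.mk' (Subgroup.center (Matrix.SpecialLinearGroup (Fin 3) F)))

omit [Finite F] in
theorem mem_ub {g : ProjectiveSpecialLinearGroup (Fin 3) F} :
    g ∈ ub F ↔ ∃ a b c : F, pu a b c = g := by
  constructor
  · rintro ⟨_, ⟨⟨a, b, c⟩, rfl⟩, rfl⟩; exact ⟨a, b, c, rfl⟩
  · rintro ⟨a, b, c, rfl⟩; exact ⟨_, ⟨(a, b, c), rfl⟩, rfl⟩

include hF in
omit [Finite F] in
theorem card_ub : Nat.card (ub F) = 64 := by
  let f : F × F × F → ub F := fun t => ⟨pu t.1 t.2.1 t.2.2, mem_ub.2 ⟨_, _, _, rfl⟩⟩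
  have hf : Function.Bijective f := by
    refine ⟨fun s t e => ?_, ?_⟩
    · obtain ⟨e1, e2, e3⟩ := pu_injective (congrArg Subtype.val e)
      exact Prod.ext e1 (Prod.ext e2 e3)
    · rintro ⟨g, hg⟩
      obtain ⟨a, b, c, rfl⟩ := mem_ub.1 hg
      exact ⟨(a, b, c), rfl⟩
  rw [← Nat.card_eq_of_bijective f hf, Nat.card_prod, Nat.card_prod, hF]

include h2 hF in
/-- The elementary abelian subgroups of order `16` of the unitriangular group. -/
theorem eq_colR_or_rowR (A : Subgroup (ProjectiveSpecialLinearGroup (Fin 3) F)) (hA : A ≤ ub F)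
    (hsq : ∀ x ∈ A, x ^ 2 = 1) (hcard : Nat.card A = 16) : A = colR ∨ A = rowR := by
  have hab : ∀ x ∈ A, ∀ a b c : F, pu a b c = x → a = 0 ∨ b = 0 := by
    intro x hx a b c e
    have h := hsq x hx
    rw [← e, pow_two, pu_mul, ← pu_one] at h
    obtain ⟨-, -, h3⟩ := pu_injective h
    exact mul_eq_zero.1 (by linear_combination h3 - c * h2)
  have hc : Nat.card (colR (F := F)) = 16 ∧ Nat.card (rowR (F := F)) = 16 := by
    constructor
    · let f : F × F → colR (F := F) := fun v => ⟨colT v, mem_colR.2 ⟨v, rfl⟩⟩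
      have hf : Function.Bijective f := ⟨fun s t e => by
          obtain ⟨-, e2, e3⟩ := pu_injective (congrArg Subtype.val e); exact Prod.ext e3 e2,
        fun ⟨g, hg⟩ => by obtain ⟨v, rfl⟩ := mem_colR.1 hg; exact ⟨v, rfl⟩⟩
      rw [← Nat.card_eq_of_bijective f hf, Nat.card_prod, hF]
    · let f : F × F → rowR (F := F) := fun v => ⟨rowT v, mem_rowR.2 ⟨v, rfl⟩⟩
      have hf : Function.Bijective f := ⟨fun s t e => by
          obtain ⟨e1, -, e3⟩ := pu_injective (congrArg Subtype.val e); exact Prod.ext e1 e3,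
        fun ⟨g, hg⟩ => by obtain ⟨v, rfl⟩ := mem_rowR.1 hg; exact ⟨v, rfl⟩⟩
      rw [← Nat.card_eq_of_bijective f hf, Nat.card_prod, hF]
  by_cases h : A ≤ colR
  · exact Or.inl (Subgroup.eq_of_le_of_card_ge h (by rw [hcard, hc.1]))
  right
  refine Subgroup.eq_of_le_of_card_ge (fun x hx => ?_) (by rw [hcard, hc.2])
  obtain ⟨y, hy, hyC⟩ := SetLike.not_le_iff_exists.1 h
  obtain ⟨a, b, c, rfl⟩ := mem_ub.1 (hA hy)
  have ha : a ≠ 0 := fun e => hyC (mem_colR.2 ⟨(c, b), by rw [colT, e]⟩)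
  have hb : b = 0 := (hab _ hy a b c rfl).resolve_left ha
  obtain ⟨a', b', c', rfl⟩ := mem_ub.1 (hA hx)
  have hb' : b' = 0 := by
    by_contra hb'
    have ha' : a' = 0 := (hab _ hx a' b' c' rfl).resolve_right hb'
    have hm := A.mul_mem hy hx
    rw [pu_mul] at hm
    rcases hab _ hm _ _ _ rfl with e | e
    · exact ha (by rwa [ha', add_zero] at e)
    · exact hb' (by rwa [hb, zero_add] at e)
  exact mem_rowR.2 ⟨(a', c'), by rw [rowT, hb']⟩

include h2 in
omit [Finite F] in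
theorem ub_le_normalizer_col [Finite F] :
    ub F ≤ Subgroup.normalizer (colR (F := F) : Set (ProjectiveSpecialLinearGroup (Fin 3) F)) := by
  intro g hg
  refine mem_normalizer_of_conj fun r hr => ?_
  obtain ⟨a, b, c, rfl⟩ := mem_ub.1 hg
  obtain ⟨⟨c', b'⟩, rfl⟩ := mem_colR.1 hr
  refine mem_colR.2 ⟨(c' + a * b', b'), ?_⟩
  rw [eq_mul_inv_iff_mul_eq, colT, colT, pu_mul, pu_mul]
  congr 1 <;> simp <;> ring

include h2 in
omit [Finite F] in
theorem ub_le_normalizer_row [Finite F] :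
    ub F ≤ Subgroup.normalizer (rowR (F := F) : Set (ProjectiveSpecialLinearGroup (Fin 3) F)) := by
  intro g hg
  refine mem_normalizer_of_conj fun r hr => ?_
  obtain ⟨a, b, c, rfl⟩ := mem_ub.1 hg
  obtain ⟨⟨a', c'⟩, rfl⟩ := mem_rowR.1 hr
  refine mem_rowR.2 ⟨(a', c' - a' * b), ?_⟩
  rw [eq_mul_inv_iff_mul_eq, rowT, rowT, pu_mul, pu_mul]
  congr 1 <;> simp <;> ring

variable {X : Type*} [Group X] [Finite X] {π : X →* ProjectiveSpecialLinearGroup (Fin 3) F}
  (hπ : Function.Surjective π) (hz : ∀ x, π x = 1 → x * x = 1 ∧ ∀ y, Commute x y)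

include h2 hF hπ hz in
/-- The statement for the model. -/
theorem main (T : Sylow 2 X) (hT : (T : Subgroup X).map π = ub F) (H K : Subgroup X)
    (hH : H = (colR (F := F)).comap π) (hK : K = (rowR (F := F)).comap π) :
    Cfsg.IsElementaryAbelian 2 H ∧ Cfsg.IsElementaryAbelian 2 K ∧
      H ⊓ K = (Subgroup.center ↥(H ⊔ K)).map (H ⊔ K).subtype ∧
      (∃ C : Subgroup X, C ≤ Subgroup.normalizer (H : Set X) ∧ C ⊓ H = ⊥ ∧ H ⊔ C = Subgroup.normalizer (H : Set X) ∧
        Nonempty (↥C ≃* Matrix.SpecialLinearGroup (Fin 2) F)) ∧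
      (∃ C : Subgroup X, C ≤ Subgroup.normalizer (K : Set X) ∧ C ⊓ K = ⊥ ∧ K ⊔ C = Subgroup.normalizer (K : Set X) ∧
        Nonempty (↥C ≃* Matrix.SpecialLinearGroup (Fin 2) F)) := by
  haveI : Fact (Nat.Prime 2) := ⟨Nat.prime_two⟩
  have v2 : ∀ v : F × F, v + v = 0 := fun v => Prod.ext (add_self' h2 _) (add_self' h2 _)
  have trans : ∀ M : F × F → ProjectiveSpecialLinearGroup (Fin 3) F,
      (∀ v, v ≠ 0 → ∃ g, g * M (1, 0) * g⁻¹ = M v) →
      ∀ v w, v ≠ 0 → w ≠ 0 → ∃ g, g * M v * g⁻¹ = M w := by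
    intro M hM v w hv hw
    obtain ⟨g, hg⟩ := hM v hv
    obtain ⟨k, hk⟩ := hM w hw
    exact ⟨k * g⁻¹, by rw [← hg, ← hk]; group⟩
  have habH : ∀ x ∈ H, ∀ y ∈ H, Commute x y := by
    intro x hx y hy
    rw [hH, Subgroup.mem_comap, mem_colR] at hx hy
    obtain ⟨v, hv⟩ := hx
    obtain ⟨w, hw⟩ := hy
    exact lifts_commute hπ hz colT colT_add v2 colT_zero (trans _ (colT_orbit h2))
      (big_pair hF) hv.symm hw.symm
  have habK : ∀ x ∈ K, ∀ y ∈ K, Commute x y := by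
    intro x hx y hy
    rw [hK, Subgroup.mem_comap, mem_rowR] at hx hy
    obtain ⟨v, hv⟩ := hx
    obtain ⟨w, hw⟩ := hy
    exact lifts_commute hπ hz rowT rowT_add v2 rowT_zero (trans _ (rowT_orbit h2))
      (big_pair hF) hv.symm hw.symm
  have hsqH : ∀ x ∈ H, x * x = 1 := by
    intro x hx
    rw [hH, Subgroup.mem_comap, mem_colR] at hx
    obtain ⟨v, hv⟩ := hx
    exact lifts_sq hπ hz colT colT_add v2 colT_zero (trans _ (colT_orbit h2)) (big_pair hF) hv.symm
  have hsqK : ∀ x ∈ K, x * x = 1 := by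
    intro x hx
    rw [hK, Subgroup.mem_comap, mem_rowR] at hx
    obtain ⟨v, hv⟩ := hx
    exact lifts_sq hπ hz rowT rowT_add v2 rowT_zero (trans _ (rowT_orbit h2)) (big_pair hF) hv.symm
  have hker : π.ker ≤ (T : Subgroup X) := by
    have hp : IsPGroup 2 π.ker := fun x => ⟨1, Subtype.ext (by
      rw [pow_one, pow_two]; exact (hz x.1 x.2).1)⟩
    obtain ⟨Q, hQ⟩ := hp.exists_le_sylow
    obtain ⟨g, rfl⟩ := MulAction.exists_smul_eq X Q T
    intro x hx
    rw [Sylow.coe_subgroup_smul]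
    refine ⟨x, hQ hx, ?_⟩
    show g * x * g⁻¹ = x
    rw [← ((hz x hx).2 g).eq, mul_inv_cancel_right]
  have hTc : (T : Subgroup X) = (ub F).comap π := by
    rw [← hT, Subgroup.comap_map_eq, sup_eq_left.2 hker]
  have hcol : colR ≤ ub F := by
    intro g hg
    obtain ⟨v, rfl⟩ := mem_colR.1 hg
    exact mem_ub.2 ⟨0, v.2, v.1, rfl⟩
  have hrow : rowR ≤ ub F := by
    intro g hg
    obtain ⟨v, rfl⟩ := mem_rowR.1 hg
    exact mem_ub.2 ⟨v.1, 0, v.2, rfl⟩
  have hHT : H ≤ T := hH ▸ hTc ▸ Subgroup.comap_mono hcol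
  have hKT : K ≤ T := hK ▸ hTc ▸ Subgroup.comap_mono hrow
  have hsup : H ⊔ K = T := by
    refine le_antisymm (sup_le hHT hKT) fun x hx => ?_
    rw [hTc, Subgroup.mem_comap, mem_ub] at hx
    obtain ⟨a, b, c, e⟩ := hx
    obtain ⟨y, hy⟩ := hπ (colT (c, b))
    rw [show x = y * (y⁻¹ * x) by group]
    refine Subgroup.mul_mem _ (Subgroup.mem_sup_left ?_) (Subgroup.mem_sup_right ?_)
    · rw [hH, Subgroup.mem_comap, hy]; exact mem_colR.2 ⟨_, rfl⟩
    · rw [hK, Subgroup.mem_comap, map_mul, map_inv, hy, ← e]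
      refine mem_rowR.2 ⟨(a, 0), ?_⟩
      rw [eq_inv_mul_iff_mul_eq, colT, rowT, pu_mul]
      congr 1 <;> simp
  have hnorm : ∀ R : Subgroup (ProjectiveSpecialLinearGroup (Fin 3) F),
      ub F ≤ Subgroup.normalizer (R : Set (ProjectiveSpecialLinearGroup (Fin 3) F)) →
      (T : Subgroup X) ≤ Subgroup.normalizer ((R.comap π : Subgroup X) : Set X) := by
    intro R hR x hx
    rw [hTc] at hx
    rw [Subgroup.mem_normalizer_iff]
    intro y
    simpa [map_mul, map_inv] using Subgroup.mem_normalizer_iff.1 (hR hx) (π y)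
  refine ⟨⟨⟨⟨fun x y => Subtype.ext (habH _ x.2 _ y.2).eq⟩⟩,
      fun a ha => by rw [pow_two]; exact hsqH a ha⟩,
    ⟨⟨⟨fun x y => Subtype.ext (habK _ x.2 _ y.2).eq⟩⟩,
      fun a ha => by rw [pow_two]; exact hsqK a ha⟩, ?_, ?_, ?_⟩
  · ext x
    constructor
    · rintro ⟨hxH, hxK⟩
      refine ⟨⟨x, Subgroup.mem_sup_left hxH⟩, ?_, rfl⟩
      have hle : H ⊔ K ≤ Subgroup.centralizer ({x} : Set X) := sup_le
        (fun y hy => Subgroup.mem_centralizer_singleton_iff.2 (habH y hy x hxH).eq)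
        (fun y hy => Subgroup.mem_centralizer_singleton_iff.2 (habK y hy x hxK).eq)
      exact Subgroup.mem_center_iff.2 fun y =>
        Subtype.ext (Subgroup.mem_centralizer_singleton_iff.1 (hle y.2))
    · rintro ⟨⟨y, hy⟩, hyc, rfl⟩
      have hyT : y ∈ (ub F).comap π := hTc ▸ hsup ▸ hy
      rw [Subgroup.mem_comap, mem_ub] at hyT
      obtain ⟨a, b, c, e⟩ := hyT
      have hcomm : ∀ z ∈ H ⊔ K, π z * π y = π y * π z := fun z hz' => by
        rw [← map_mul, ← map_mul]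
        exact congrArg π (congrArg Subtype.val (Subgroup.mem_center_iff.1 hyc ⟨z, hz'⟩))
      obtain ⟨u, hu⟩ := hπ (colT (0, 1))
      obtain ⟨w, hw⟩ := hπ (rowT (1, 0))
      have h1 := hcomm u (Subgroup.mem_sup_left (by
        rw [hH, Subgroup.mem_comap, hu]; exact mem_colR.2 ⟨_, rfl⟩))
      have h3 := hcomm w (Subgroup.mem_sup_right (by
        rw [hK, Subgroup.mem_comap, hw]; exact mem_rowR.2 ⟨_, rfl⟩))
      rw [hu, ← e, colT, pu_mul, pu_mul] at h1
      rw [hw, ← e, rowT, pu_mul, pu_mul] at h3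
      have ha : a = 0 := by
        have := (pu_injective h1).2.2
        simpa using this.symm
      have hb : b = 0 := by
        have := (pu_injective h3).2.2
        simpa using this
      refine ⟨?_, ?_⟩
      · refine (le_of_eq hH.symm : _ ≤ H) ?_
        rw [Subgroup.mem_comap]
        exact mem_colR.2 ⟨(c, b), show colT (c, b) = π y by rw [colT, ← e, ha]⟩
      · refine (le_of_eq hK.symm : _ ≤ K) ?_
        rw [Subgroup.mem_comap]
        exact mem_rowR.2 ⟨(a, c), show rowT (a, c) = π y by rw [rowT, ← e, hb]⟩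
  · exact split_normalizer hπ hz T H K hH habH hsqH (hH ▸ hnorm _ (ub_le_normalizer_col h2))
      hKT habK hsqK hsup ((QuotientGroup.mk' _).comp jCol) jCol_mem jCol_normalizes
      (normalizer_col hF)
  · exact split_normalizer hπ hz T K H hK habK hsqK (hK ▸ hnorm _ (ub_le_normalizer_row h2))
      hHT habH hsqH (sup_comm H K ▸ hsup) ((QuotientGroup.mk' _).comp jRow) jRow_mem jRow_normalizes
      (normalizer_row hF)

end Main

theorem result {X : Type*} [Group X] [Finite X] (hq : Cfsg.IsQuasisimple X) (hZ : Cfsg.IsElementaryAbelian 2 (Subgroup.center X))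
    {F : Type*} [Field F] [Fintype F] (hF : Fintype.card F = 4) (hXL : Nonempty ((X ⧸ Subgroup.center X) ≃* Matrix.ProjectiveSpecialLinearGroup (Fin 3) F))
    (T : Sylow 2 X) (H K : Subgroup X) (hHK : H ≠ K) (hHT : H ≤ T) (hKT : K ≤ T) (hZH : Subgroup.center X ≤ H) (hZK : Subgroup.center X ≤ K)
    (hH : Cfsg.IsElementaryAbelian 2 (H.map (QuotientGroup.mk' (Subgroup.center X))) ∧ Nat.card ↥(H.map (QuotientGroup.mk' (Subgroup.center X))) = 16)
    (hK : Cfsg.IsElementaryAbelian 2 (K.map (QuotientGroup.mk' (Subgroup.center X))) ∧ Nat.card ↥(K.map (QuotientGroup.mk' (Subgroup.center X))) = 16) :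
    Cfsg.IsElementaryAbelian 2 H ∧ Cfsg.IsElementaryAbelian 2 K ∧
      H ⊓ K = (Subgroup.center ↥(H ⊔ K)).map (H ⊔ K).subtype ∧
      (∃ C : Subgroup X, C ≤ Subgroup.normalizer (H : Set X) ∧ C ⊓ H = ⊥ ∧ H ⊔ C = Subgroup.normalizer (H : Set X) ∧
        Nonempty (↥C ≃* Matrix.ProjectiveSpecialLinearGroup (Fin 2) F)) ∧
      (∃ C : Subgroup X, C ≤ Subgroup.normalizer (K : Set X) ∧ C ⊓ K = ⊥ ∧ K ⊔ C = Subgroup.normalizer (K : Set X) ∧
        Nonempty (↥C ≃* Matrix.ProjectiveSpecialLinearGroup (Fin 2) F)) := by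
  classical
  haveI : Fact (Nat.Prime 2) := ⟨Nat.prime_two⟩
  let F₀ := GaloisField 2 2
  haveI : Fintype F₀ := Fintype.ofFinite F₀
  have hF₀ : Nat.card F₀ = 4 := by rw [GaloisField.card 2 2 two_ne_zero]; norm_num
  have h2 : (2 : F₀) = 0 := CharP.cast_eq_zero F₀ 2
  let ee : F ≃+* F₀ := FiniteField.ringEquivOfCardEq (by
    rw [← Nat.card_eq_fintype_card, ← Nat.card_eq_fintype_card, hF₀, Nat.card_eq_fintype_card, hF])
  obtain ⟨e₀⟩ := hXL
  obtain ⟨e₁⟩ := CfsgLib.PSL2.nonempty_psl_congr (n := Fin 3) ee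
  obtain ⟨e₂⟩ := CfsgLib.PSL2.nonempty_psl_congr (n := Fin 2) ee
  let π₀ : X →* ProjectiveSpecialLinearGroup (Fin 3) F₀ :=
    (e₀.trans e₁).toMonoidHom.comp (QuotientGroup.mk' (Subgroup.center X))
  have hπ₀ : Function.Surjective π₀ :=
    (e₀.trans e₁).surjective.comp (QuotientGroup.mk'_surjective _)
  have hcard : Nat.card (ProjectiveSpecialLinearGroup (Fin 3) F₀) = 20160 := by
    rw [CfsgLib.Classical.card_PSL_fin 3 (by norm_num), CfsgLib.Classical.card_SL_fin', hF₀]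
    decide
  obtain ⟨P, hP⟩ : ∃ P : Sylow 2 (ProjectiveSpecialLinearGroup (Fin 3) F₀),
      (P : Subgroup (ProjectiveSpecialLinearGroup (Fin 3) F₀)) = ub F₀ := by
    refine ⟨Sylow.ofCard (ub F₀) ?_, rfl⟩
    rw [card_ub hF₀, hcard, Nat.factorization_def _ Nat.prime_two,
      show (20160 : ℕ) = 2 ^ 6 * 315 by norm_num,
      padicValNat.mul (by norm_num) (by norm_num), padicValNat.prime_pow,
      padicValNat.eq_zero_of_not_dvd (by norm_num : ¬ 2 ∣ 315)]
    norm_num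
  obtain ⟨g, hg⟩ := MulAction.exists_smul_eq (ProjectiveSpecialLinearGroup (Fin 3) F₀)
    (T.mapSurjective hπ₀) P
  let π : X →* ProjectiveSpecialLinearGroup (Fin 3) F₀ := (MulAut.conj g).toMonoidHom.comp π₀
  have hπ : Function.Surjective π := (MulAut.conj g).surjective.comp hπ₀
  have hker : ∀ x, π x = 1 ↔ x ∈ Subgroup.center X := fun x => by
    simp only [π, π₀, MonoidHom.comp_apply, MulEquiv.toMonoidHom_eq_coe, MonoidHom.coe_coe,
      map_eq_one_iff _ (MulEquiv.injective _), QuotientGroup.mk'_apply, QuotientGroup.eq_one_iff]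
  have hz : ∀ x, π x = 1 → x * x = 1 ∧ ∀ y, Commute x y := fun x hx =>
    ⟨by rw [← pow_two]; exact hZ.2 x ((hker x).1 hx),
      fun y => (Subgroup.mem_center_iff.1 ((hker x).1 hx) y).symm⟩
  have hT : (T : Subgroup X).map π = ub F₀ := by
    rw [← Subgroup.map_map, ← hP, ← hg]
    rfl
  have himg : ∀ L : Subgroup X, L ≤ (T : Subgroup X) → Subgroup.center X ≤ L →
      Cfsg.IsElementaryAbelian 2 (L.map (QuotientGroup.mk' (Subgroup.center X))) →
      Nat.card ↥(L.map (QuotientGroup.mk' (Subgroup.center X))) = 16 →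
      (L = (colR (F := F₀)).comap π ∨ L = (rowR (F := F₀)).comap π) := by
    intro L hLT hLZ hel h16
    have hLc : L = (L.map π).comap π := by
      rw [Subgroup.comap_map_eq, sup_eq_left.2 (fun x hx => hLZ ((hker x).1 hx))]
    have hmap : L.map π = (L.map (QuotientGroup.mk' (Subgroup.center X))).map
        ((e₀.trans e₁).trans (MulAut.conj g)).toMonoidHom := by
      rw [Subgroup.map_map]; rfl
    rcases eq_colR_or_rowR h2 hF₀ (L.map π) (hT ▸ Subgroup.map_mono hLT) (by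
        rintro _ ⟨x, hx, rfl⟩
        have := hel.2 _ (Subgroup.mem_map_of_mem (QuotientGroup.mk' (Subgroup.center X)) hx)
        show (((e₀.trans e₁).trans (MulAut.conj g)) (QuotientGroup.mk' _ x)) ^ 2 = 1
        rw [← map_pow, this, map_one]) (by
        rw [hmap, Subgroup.card_map_of_injective (MulEquiv.injective _), h16]) with e | e
    · exact Or.inl (hLc.trans (by rw [e]))
    · exact Or.inr (hLc.trans (by rw [e]))
  haveI : CharP F₀ 2 := inferInstance
  let eP : Matrix.SpecialLinearGroup (Fin 2) F₀ ≃* ProjectiveSpecialLinearGroup (Fin 2) F :=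
    CfsgLib.Recog.pslEquivSL.trans e₂.symm
  rcases himg H hHT hZH hH.1 hH.2 with hHe | hHe <;> rcases himg K hKT hZK hK.1 hK.2 with hKe | hKe
  · exact absurd (hHe.trans hKe.symm) hHK
  · obtain ⟨h1, h3, h4, ⟨C, a, b, c, ⟨i⟩⟩, ⟨D, a', b', c', ⟨i'⟩⟩⟩ :=
      main h2 hF₀ hπ hz T hT H K hHe hKe
    exact ⟨h1, h3, h4, ⟨C, a, b, c, ⟨i.trans eP⟩⟩, ⟨D, a', b', c', ⟨i'.trans eP⟩⟩⟩
  · obtain ⟨h1, h3, h4, ⟨C, a, b, c, ⟨i⟩⟩, ⟨D, a', b', c', ⟨i'⟩⟩⟩ :=
      main h2 hF₀ hπ hz T hT K H hKe hHe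
    exact ⟨h3, h1, by rw [inf_comm, sup_comm H K]; exact h4,
      ⟨D, a', b', c', ⟨i'.trans eP⟩⟩, ⟨C, a, b, c, ⟨i.trans eP⟩⟩⟩
  · exact absurd (hHe.trans hKe.symm) hHK

end Cfsg.Agent.S3154
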