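import Cfsg.Statements.S3155
import Mathlib

set_option autoImplicit false
open Cfsg

namespace Cfsg.Agent.S3155

/-- Let B be the direct product of three cyclic groups of order 4. Then the automorphism of B inverting every element is not the square of any automorphism of B. -/
theorem result {B : Type*} [CommGroup B] [Finite B] (hB : Nonempty (B ≃* Multiplicative (ZMod 4 × ZMod 4 × ZMod 4)))
    (τ : B ≃* B) : τ.trans τ ≠ MulEquiv.inv B := by
  intro h
  obtain ⟨e⟩ := hB
  let f : (ZMod 4 × ZMod 4 × ZMod 4) →+ (ZMod 4 × ZMod 4 × ZMod 4) :=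
    { toFun := fun v => Multiplicative.toAdd (e (τ (e.symm (Multiplicative.ofAdd v))))
      map_zero' := by simp
      map_add' := fun u v => by simp }
  have hf : ∀ v, f (f v) = -v := by
    intro v
    have h2 := DFunLike.congr_fun h (e.symm (Multiplicative.ofAdd v))
    simp only [MulEquiv.trans_apply, MulEquiv.inv_apply] at h2
    show Multiplicative.toAdd (e (τ (e.symm (Multiplicative.ofAdd (Multiplicative.toAdd
      (e (τ (e.symm (Multiplicative.ofAdd v))))))))) = -v
    simp [h2]
  let L : (ZMod 4 × ZMod 4 × ZMod 4) →ₗ[ZMod 4] (ZMod 4 × ZMod 4 × ZMod 4) :=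
    f.toZModLinearMap 4
  have hL : L ∘ₗ L = -LinearMap.id := LinearMap.ext hf
  have hdet := congrArg LinearMap.det hL
  rw [LinearMap.det_comp, ← neg_one_smul (ZMod 4) LinearMap.id, LinearMap.det_smul,
    LinearMap.det_id, mul_one] at hdet
  rw [show Module.finrank (ZMod 4) (ZMod 4 × ZMod 4 × ZMod 4) = 3 by
      have : Fact (1 < 4) := ⟨by norm_num⟩
      simp [Module.finrank_prod, Module.finrank_self]] at hdet
  generalize LinearMap.det L = d at hdet
  revert hdet
  revert d
  decide

end Cfsg.Agent.S3155
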