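import Cfsg.Statements.S3156
import Cfsg.Agent.Lib.Small.SUThreeAut

set_option autoImplicit false
open Cfsg

namespace Cfsg.Agent.S3156

/-- If a finite group T is isomorphic to a Sylow 2-subgroup of the projective special unitary group of dimension 3 with parameter 4 (realised over the field with 16 elements), then no subgroup of the automorphism group of T is isomorphic to the symmetric group of degree 3. -/
theorem result {T : Type*} [Group T] [Finite T] (hT : (∃ (F : Type) (_ : Field F) (_ : Fintype F), Fintype.card F = 16 ∧ ∃ S : Sylow 2 (Cfsg.PSU 3 F 4), Nonempty (T ≃* ↥(S : Subgroup (Cfsg.PSU 3 F 4))))) (H : Subgroup (MulAut T)) : ¬ Nonempty (↥H ≃* Equiv.Perm (Fin 3)) := by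
  obtain ⟨F, _, _, hF, P, ⟨e⟩⟩ := hT
  have hcard : Nat.card F = 4 ^ 2 := by rw [Nat.card_eq_fintype_card, hF]; norm_num
  obtain ⟨σ, h, ⟨d⟩, -⟩ := CfsgLib.Involutions.U34.exists_param hcard P
  have h2 : (2 : F) = 0 := CfsgLib.Small.SUThree.two_eq_zero (n := 2) two_ne_zero hcard
  rintro ⟨j⟩
  obtain ⟨R, hR⟩ : ∃ R : Equiv.Perm (Fin 3), R = Equiv.swap 0 1 * Equiv.swap 1 2 := ⟨_, rfl⟩
  obtain ⟨X, hX⟩ : ∃ X : Equiv.Perm (Fin 3), X = Equiv.swap 0 1 := ⟨_, rfl⟩
  let Φ : Equiv.Perm (Fin 3) →* MulAut ↥(P : Subgroup (Cfsg.PSU 3 F 4)) :=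
    (MulAut.congr e).toMonoidHom.comp (H.subtype.comp j.symm.toMonoidHom)
  have hΦ : Function.Injective Φ :=
    (MulAut.congr e).injective.comp (Subtype.val_injective.comp j.symm.injective)
  obtain ⟨A, B, hA, hB, hN, hfst, hsnd⟩ := CfsgLib.Small.SUThree.exists_pair d h2 h (Φ R)
  have hR3 : ∀ t, Φ R (Φ R (Φ R t)) = t := fun t => by
    rw [← MulAut.mul_apply, ← MulAut.mul_apply, ← map_mul, ← map_mul,
      show R * R * R = 1 by rw [hR]; decide, map_one, MulAut.one_apply]
  have hX2 : ∀ t, Φ X (Φ X t) = t := fun t => by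
    rw [← MulAut.mul_apply, ← map_mul, show X * X = 1 by rw [hX]; decide, map_one,
      MulAut.one_apply]
  have hXfix : ∀ z ∈ Subgroup.center ↥(P : Subgroup (Cfsg.PSU 3 F 4)), Φ X z = z := fun z hz =>
    CfsgLib.Small.SUThree.fix_center d h2 h hcard (Φ X) (fun t => by rw [hX2]) hz
  have hRcen : ∀ z ∈ Subgroup.center ↥(P : Subgroup (Cfsg.PSU 3 F 4)),
      Φ R z ∈ Subgroup.center ↥(P : Subgroup (Cfsg.PSU 3 F 4)) := fun z hz => by
    rw [← Subgroup.centerCharacteristic.fixed (Φ R), Subgroup.mem_comap] at hz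
    exact hz
  have hRfix : ∀ z ∈ Subgroup.center ↥(P : Subgroup (Cfsg.PSU 3 F 4)), Φ R z = z := by
    intro z hz
    have h1 : Φ X (Φ R (Φ X z)) = Φ (R * R) z := by
      rw [← MulAut.mul_apply, ← MulAut.mul_apply, ← map_mul, ← map_mul,
        show X * R * X = R * R by rw [hR, hX]; decide]
    rw [hXfix z hz, hXfix _ (hRcen z hz), map_mul, MulAut.mul_apply] at h1
    exact ((Φ R).injective h1).symm
  obtain ⟨x, hx⟩ := CfsgLib.Classical.Unitary.exists_trace h
  have hsq : ∀ c, A c * σ (A c) = c * σ c := fun c => by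
    have hw : σ (c * σ c) = c * σ c := by rw [map_mul, h.invol, mul_comm]
    have hz : c * σ c + σ (c * σ c) = 0 * σ 0 := by
      rw [hw]; linear_combination (c * σ c) * h2
    have hc0 := (CfsgLib.Small.SUThree.coords_el d 0 (c * σ c) hz)
    have h1 := hsnd _ hc0.1
    rw [hRfix _ ((CfsgLib.Small.SUThree.mem_center d h2 h).2 hc0.1), hc0.2] at h1
    rw [hN, ← h1]
  have hA3 : ∀ c, A (A (A c)) = c := fun c => by
    have hh : c * σ c * x + σ (c * σ c * x) = c * σ c := by
      simp only [map_mul, h.invol]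
      linear_combination (c * σ c) * hx
    have := hfst (Φ R (Φ R (d.el c _ hh)))
    rw [hR3, hfst, hfst, (CfsgLib.Small.SUThree.coords_el d _ _ _).1] at this
    exact this.symm
  have hid := CfsgLib.Small.SUThree.isometry_cube_trivial h2 h hcard (by norm_num) (by norm_num)
    A hA hsq hA3
  have hone : Φ R = 1 := by
    refine MulEquiv.ext fun t => ?_
    rw [MulAut.one_apply]
    set z := t⁻¹ * Φ R t with hz
    have hz0 : CfsgLib.Small.SUThree.fstC d z = 0 := by
      rw [hz, CfsgLib.Small.SUThree.fst_mul, CfsgLib.Small.SUThree.fst_inv d h2, hfst, hid]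
      linear_combination CfsgLib.Small.SUThree.fstC d t * h2
    have hzc := (CfsgLib.Small.SUThree.mem_center d h2 h).2 hz0
    have e1 : Φ R t = t * z := by rw [hz, mul_inv_cancel_left]
    have e3 : Φ R (Φ R (Φ R t)) = t * (z * z * z) := by
      simp only [e1, map_mul, hRfix z hzc, mul_assoc]
    rw [hR3, eq_comm, mul_eq_left] at e3
    have hzz : z * z = 1 := by
      obtain ⟨h0, h1⟩ := CfsgLib.Small.SUThree.sq_coords d h2 z
      refine CfsgLib.Small.SUThree.eq_of_coords d (by rw [h0, CfsgLib.Small.SUThree.fst_one]) ?_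
      rw [h1, hz0, zero_mul]
      have := CfsgLib.Small.SUThree.snd_mul d (s := 1) (t := 1) (CfsgLib.Small.SUThree.fst_one d)
      rw [one_mul] at this
      linear_combination this
    rw [hzz, one_mul] at e3
    rw [e1, e3, mul_one]
  exact absurd (hΦ (hone.trans (map_one Φ).symm)) (by rw [hR]; decide)

end Cfsg.Agent.S3156
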