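import Cfsg.Statements.S3161
import Cfsg.Agent.Lib.Small.Singer.Forms
-- import your own Cfsg.Agent.* helpers here

set_option autoImplicit false
open Cfsg

namespace Cfsg.Agent.S3161

/-- Let Q be a non-abelian finite 2-group admitting commuting automorphisms α of order 2 and ρ of order 2^n − 1, where n ≥ 2, such that the fixed points of α form an elementary abelian subgroup of order 2^n on whose nonidentity elements the group generated by ρ acts transitively. Then Q is isomorphic to a Sylow 2-subgroup of the projective special unitary group of dimension 3 with parameter 2^n (realised over the field with 4^n elements) or of the projective special linear group of dimension 3 over the field with 2^n elements. -/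
theorem result {Q : Type*} [Group Q] [Finite Q] (hQ : IsPGroup 2 Q) (hna : ¬ IsMulCommutative Q) (n : ℕ) (hn : 2 ≤ n)
    (α ρ : MulAut Q) (hα : orderOf α = 2) (hρ : orderOf ρ = 2 ^ n - 1) (hc : Commute α ρ)
    (C : Subgroup Q) (hC : ∀ x : Q, x ∈ C ↔ α x = x) (hCE : Cfsg.IsElementaryAbelian 2 C ∧ Nat.card ↥C = 2 ^ n)
    (htr : ∀ x y : Q, x ∈ C → y ∈ C → x ≠ 1 → y ≠ 1 → ∃ k : ℕ, (ρ ^ k) x = y) :
    (∃ (F : Type) (_ : Field F) (_ : Fintype F), Fintype.card F = 4 ^ n ∧
        ∃ S : Sylow 2 (Cfsg.PSU 3 F (2 ^ n)), Nonempty (Q ≃* ↥(S : Subgroup (Cfsg.PSU 3 F (2 ^ n))))) ∨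
      (∃ (F : Type) (_ : Field F) (_ : Fintype F), Fintype.card F = 2 ^ n ∧
        ∃ S : Sylow 2 (Matrix.ProjectiveSpecialLinearGroup (Fin 3) F), Nonempty (Q ≃* ↥(S : Subgroup (Matrix.ProjectiveSpecialLinearGroup (Fin 3) F)))) := by
  classical
  haveI : Fact (Nat.Prime 2) := ⟨Nat.prime_two⟩
  obtain ⟨⟨-, hC2⟩, hC4⟩ := hCE
  have hna' : ∃ x y : Q, x * y ≠ y * x := by
    by_contra hall
    push Not at hall
    exact hna ⟨⟨hall⟩⟩
  have D : CfsgLib.Small.Singer.Dat n C α ρ := by
    refine ⟨hn, hQ, hC4, fun v hv => (pow_two v).symm.trans (hC2 v hv), fun x => ?_,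
      fun x => DFunLike.congr_fun hc.eq x, fun x => (hC x).symm, hρ ▸ pow_orderOf_eq_one ρ, fun x hx y hy => htr x y hx hy⟩
    have h := pow_orderOf_eq_one α
    rw [hα, pow_two] at h
    exact DFunLike.congr_fun h x
  rcases CfsgLib.Small.Singer.exists_form D hna' with h | ⟨b, hb, h⟩
  · obtain ⟨S, hS⟩ := CfsgLib.Small.Singer.form_psl n (by omega)
    letI : Fintype (GaloisField 2 n) := Fintype.ofFinite _
    exact Or.inr ⟨GaloisField 2 n, inferInstance, inferInstance,
      by rw [← Nat.card_eq_fintype_card, GaloisField.card 2 n (by omega)], S, h.nonempty_mulEquiv hS⟩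
  · obtain ⟨S, b', hb', hS⟩ := CfsgLib.Small.Singer.form_psu n (by omega)
    letI : Fintype (GaloisField 2 (2 * n)) := Fintype.ofFinite _
    refine Or.inl ⟨GaloisField 2 (2 * n), inferInstance, inferInstance, ?_, S,
      (CfsgLib.Small.Singer.ani_change hb hb' h).nonempty_mulEquiv hS⟩
    rw [← Nat.card_eq_fintype_card, GaloisField.card 2 (2 * n) (by omega), pow_mul]
    norm_num

end Cfsg.Agent.S3161
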