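import Cfsg.Statements.S3162
import Cfsg.Agent.Lib.Techniques.AutSUThreeSylow

set_option autoImplicit false
open Cfsg

namespace Cfsg.Agent.S3162

/-- Let S be a Sylow 2-subgroup of the special unitary group of dimension 3 with parameter q = 2^n (n ≥ 2; realised over the field with q² elements). Then the largest normal 2-subgroup of the automorphism group of S is elementary abelian of order 2^(2n²), and the automorphism group has order 2^(2n²) · 2n(q² − 1). -/
theorem result {S : Type*} [Group S] [Finite S] (n : ℕ) (hn : 2 ≤ n) {F : Type*} [Field F] [Fintype F] (hF : Fintype.card F = 4 ^ n)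
    (P : Sylow 2 ↥(Cfsg.SU 3 F (2 ^ n))) (hS : Nonempty (S ≃* ↥(P : Subgroup ↥(Cfsg.SU 3 F (2 ^ n))))) :
    Cfsg.IsElementaryAbelian 2 (Cfsg.pCore 2 (MulAut S)) ∧ Nat.card ↥(Cfsg.pCore 2 (MulAut S)) = 2 ^ (2 * n ^ 2) ∧
      Nat.card (MulAut S) = 2 ^ (2 * n ^ 2) * (2 * n * ((2 ^ n) ^ 2 - 1)) := by
  have hq : Nat.card F = (2 ^ n) ^ 2 := by
    rw [Nat.card_eq_fintype_card, hF, ← pow_mul, mul_comm, pow_mul]
    norm_num
  obtain ⟨σ, hσ, ⟨d⟩⟩ := CfsgLib.Small.SUThree.exists_param (by omega) hq P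
  obtain ⟨e⟩ := hS
  have d' : CfsgLib.Involutions.U34.Param σ S :=
    { el := fun c b h => e.symm (d.el c b h)
      surj := fun t => by
        obtain ⟨c, b, h, ht⟩ := d.surj (e t)
        exact ⟨c, b, h, by rw [ht, MulEquiv.symm_apply_apply]⟩
      inj := fun c b h c' b' h' he => d.inj _ _ _ _ _ _ (e.symm.injective he)
      mul := fun c b h c' b' h' => by
        obtain ⟨h'', he⟩ := d.mul c b h c' b' h'
        exact ⟨h'', by rw [← map_mul, he]⟩ }
  exact CfsgLib.Techniques.AutSU3Syl.main d' (by omega) hq hσ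

end Cfsg.Agent.S3162
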