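import Cfsg.Statements.S3163
import Mathlib

set_option autoImplicit false
open Cfsg

namespace Cfsg.Agent.S3163

/-- Let S be a non-abelian finite 2-group which is the product S = AB of two elementary abelian subgroups A and B, and suppose that the centralizer in S of every element of A outside B is exactly A. Then the centralizer of every element of B outside A is exactly B; A and B are maximal elementary abelian subgroups of S and the only ones; the centre of S is A ∩ B; and every element of S outside A ∪ B has centralizer of order at most min(|A|, |B|). -/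
theorem result {S : Type*} [Group S] [Finite S] (hS : IsPGroup 2 S) (hna : ¬ IsMulCommutative S) (A B : Subgroup S)
    (hA : Cfsg.IsElementaryAbelian 2 A) (hB : Cfsg.IsElementaryAbelian 2 B) (hAB : ∀ s : S, ∃ a ∈ A, ∃ b ∈ B, s = a * b)
    (hC : ∀ a ∈ A, a ∉ B → Subgroup.centralizer ({a} : Set S) = A) :
    (∀ b ∈ B, b ∉ A → Subgroup.centralizer ({b} : Set S) = B) ∧
      (∀ E : Subgroup S, Cfsg.IsElementaryAbelian 2 E → (∀ E' : Subgroup S, Cfsg.IsElementaryAbelian 2 E' → E ≤ E' → E' = E) → E = A ∨ E = B) ∧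
      (∀ E' : Subgroup S, Cfsg.IsElementaryAbelian 2 E' → A ≤ E' → E' = A) ∧ (∀ E' : Subgroup S, Cfsg.IsElementaryAbelian 2 E' → B ≤ E' → E' = B) ∧
      Subgroup.center S = A ⊓ B ∧
      (∀ x : S, x ∉ A → x ∉ B → Nat.card ↥(Subgroup.centralizer ({x} : Set S)) ≤ min (Nat.card ↥A) (Nat.card ↥B)) := by
  classical
  have hcom : ∀ (E : Subgroup S), Cfsg.IsElementaryAbelian 2 E → ∀ x ∈ E, ∀ y ∈ E, x * y = y * x :=
    fun E hE x hx y hy => congrArg Subtype.val (hE.1.is_comm.comm ⟨x, hx⟩ ⟨y, hy⟩)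
  have hCa : ∀ a ∈ A, a ∉ B → ∀ s : S, s * a = a * s → s ∈ A := fun a ha haB s hs => by
    rw [← hC a ha haB]; exact Subgroup.mem_centralizer_singleton_iff.2 hs
  have hBnA : ¬ B ≤ A := fun h => hna ⟨⟨fun u v => by
    obtain ⟨a, ha, b, hb, rfl⟩ := hAB u
    obtain ⟨c, hc, d, hd, rfl⟩ := hAB v
    exact hcom A hA _ (A.mul_mem ha (h hb)) _ (A.mul_mem hc (h hd))⟩⟩
  have hAnB : ¬ A ≤ B := fun h => hna ⟨⟨fun u v => by
    obtain ⟨a, ha, b, hb, rfl⟩ := hAB u
    obtain ⟨c, hc, d, hd, rfl⟩ := hAB v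
    exact hcom B hB _ (B.mul_mem (h ha) hb) _ (B.mul_mem (h hc) hd)⟩⟩
  obtain ⟨a₁, ha₁, ha₁B⟩ := SetLike.not_le_iff_exists.1 hAnB
  obtain ⟨b₁, hb₁, hb₁A⟩ := SetLike.not_le_iff_exists.1 hBnA
  have hCb : ∀ b ∈ B, b ∉ A → Subgroup.centralizer ({b} : Set S) = B := by
    intro b hb hbA
    refine le_antisymm (fun x hx => ?_) (fun x hx => Subgroup.mem_centralizer_singleton_iff.2
      (hcom B hB x hx b hb))
    obtain ⟨a, ha, c, hc, rfl⟩ := hAB x
    have h := Subgroup.mem_centralizer_singleton_iff.1 hx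
    have hab : b * a = a * b := by
      refine mul_right_cancel (b := c) ?_
      rw [mul_assoc b a c, ← h, mul_assoc, hcom B hB c hc b hb, ← mul_assoc]
    by_cases haB : a ∈ B
    · exact B.mul_mem haB hc
    · exact absurd (hCa a ha haB b hab) hbA
  -- an element squaring to `1` lies in `A` or in `B`
  have hinv : ∀ x : S, x * x = 1 → x ∈ A ∨ x ∈ B := by
    intro x hx
    obtain ⟨a, ha, b, hb, rfl⟩ := hAB x
    by_cases haB : a ∈ B
    · exact Or.inr (B.mul_mem haB hb)
    refine Or.inl (A.mul_mem ha (hCa a ha haB b ?_))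
    have h1 : a * a = 1 := by rw [← sq]; exact hA.2 a ha
    have h2 : b * b = 1 := by rw [← sq]; exact hB.2 b hb
    calc b * a = (a * b)⁻¹ * (a * b) * (b * a) := by group
      _ = (a * b) * (a * b) * (b * a) := by rw [inv_eq_of_mul_eq_one_left hx]
      _ = (a * b) * (a * (b * b) * a) := by group
      _ = a * b := by rw [h2, mul_one, h1, mul_one]
  have hE : ∀ E : Subgroup S, Cfsg.IsElementaryAbelian 2 E → E ≤ A ∨ E ≤ B := by
    intro E hE
    by_contra h
    push Not at h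
    obtain ⟨u, hu, huA⟩ := SetLike.not_le_iff_exists.1 h.1
    obtain ⟨v, hv, hvB⟩ := SetLike.not_le_iff_exists.1 h.2
    have huB : u ∈ B := (hinv u (by rw [← sq]; exact hE.2 u hu)).resolve_left huA
    have hvA : v ∈ A := (hinv v (by rw [← sq]; exact hE.2 v hv)).resolve_right hvB
    exact huA (hCa v hvA hvB u (hcom E hE u hu v hv))
  have hAmax : ∀ E' : Subgroup S, Cfsg.IsElementaryAbelian 2 E' → A ≤ E' → E' = A :=
    fun E' hE' h => le_antisymm ((hE E' hE').resolve_right fun h' => hAnB (h.trans h')) h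
  have hBmax : ∀ E' : Subgroup S, Cfsg.IsElementaryAbelian 2 E' → B ≤ E' → E' = B :=
    fun E' hE' h => le_antisymm ((hE E' hE').resolve_left fun h' => hBnA (h.trans h')) h
  refine ⟨hCb, fun E hEe hm => (hE E hEe).imp (fun h => (hm A hA h).symm) (fun h => (hm B hB h).symm),
    hAmax, hBmax, ?_, ?_⟩
  · refine le_antisymm (fun z hz => ?_) (fun z hz => ?_)
    · refine ⟨?_, ?_⟩
      · exact hCa a₁ ha₁ ha₁B z (Subgroup.mem_center_iff.1 hz a₁).symm
      · show z ∈ B
        rw [← hCb b₁ hb₁ hb₁A]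
        exact Subgroup.mem_centralizer_singleton_iff.2 (Subgroup.mem_center_iff.1 hz b₁).symm
    · refine Subgroup.mem_center_iff.2 fun s => ?_
      obtain ⟨a, ha, b, hb, rfl⟩ := hAB s
      rw [mul_assoc, hcom B hB b hb z hz.2, ← mul_assoc, hcom A hA a ha z hz.1, mul_assoc]
  intro x hxA hxB
  set C := Subgroup.centralizer ({x} : Set S)
  obtain ⟨a, ha, b, hb, rfl⟩ := hAB x
  have haB : a ∉ B := fun h => hxB (B.mul_mem h hb)
  have hbA : b ∉ A := fun h => hxA (A.mul_mem ha h)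
  have hCA : A ⊓ C = A ⊓ B := le_antisymm (fun c hc => ⟨hc.1, by
      show c ∈ B
      rw [← hCb b hb hbA]
      refine Subgroup.mem_centralizer_singleton_iff.2 (mul_left_cancel (a := a) ?_)
      rw [← mul_assoc, hcom A hA a ha c hc.1, mul_assoc,
        Subgroup.mem_centralizer_singleton_iff.1 hc.2, mul_assoc]⟩)
    (fun c hc => ⟨hc.1, Subgroup.mem_centralizer_singleton_iff.2 (by
      rw [← mul_assoc, hcom A hA c hc.1 a ha, mul_assoc, hcom B hB c hc.2 b hb, mul_assoc])⟩)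
  have hCB : B ⊓ C = A ⊓ B := le_antisymm (fun c hc => ⟨hCa a ha haB c (by
      refine mul_right_cancel (b := b) ?_
      rw [mul_assoc c a b, Subgroup.mem_centralizer_singleton_iff.1 hc.2, mul_assoc,
        hcom B hB b hb c hc.1, ← mul_assoc]), hc.1⟩)
    (fun c hc => ⟨hc.2, Subgroup.mem_centralizer_singleton_iff.2 (by
      rw [← mul_assoc, hcom A hA c hc.1 a ha, mul_assoc, hcom B hB c hc.2 b hb, mul_assoc])⟩)
  -- `|X : X ∩ Y| ≥ |S : Y|` when `S = XY`
  have key : ∀ X Y : Subgroup S, (∀ s : S, ∃ u ∈ X, ∃ v ∈ Y, s = u * v) → Y.index ≤ Y.relIndex X := by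
    intro X Y h
    refine Nat.card_le_card_of_surjective
      (fun q : X ⧸ Y.subgroupOf X => Quotient.liftOn' q (fun u => ((u : S) : S ⧸ Y)) fun u v huv => ?_) ?_
    · rw [QuotientGroup.leftRel_apply] at huv
      exact QuotientGroup.eq.2 huv
    · intro q
      obtain ⟨s, rfl⟩ := QuotientGroup.mk_surjective q
      obtain ⟨u, hu, v, hv, rfl⟩ := h s
      refine ⟨QuotientGroup.mk ⟨u, hu⟩, QuotientGroup.eq.2 ?_⟩
      simpa using hv
  have hBA : ∀ s : S, ∃ u ∈ B, ∃ v ∈ A, s = u * v := fun s => by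
    obtain ⟨u, hu, v, hv, h⟩ := hAB s⁻¹
    exact ⟨v⁻¹, B.inv_mem hv, u⁻¹, A.inv_mem hu, by rw [← mul_inv_rev, ← h, inv_inv]⟩
  have hcard : ∀ X Y : Subgroup S, Nat.card ↥(Y ⊓ X) * Y.relIndex X = Nat.card X := fun X Y => by
    rw [← Subgroup.relIndex_bot_left, ← Subgroup.relIndex_bot_left X, ← Subgroup.inf_relIndex_right Y X,
      Subgroup.relIndex_mul_relIndex _ _ _ bot_le inf_le_right]
  have bound : ∀ X Y : Subgroup S, (∀ s : S, ∃ u ∈ X, ∃ v ∈ Y, s = u * v) → Y ⊓ X = A ⊓ B →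
      Y ⊓ C = A ⊓ B → Nat.card C ≤ Nat.card X := fun X Y h hXY hYC => by
    rw [← hcard C Y, ← hcard X Y, hXY, hYC]
    refine Nat.mul_le_mul_left _ (le_trans ?_ (key X Y h))
    exact (Subgroup.relIndex_le_of_le_right le_top (by
      rw [Subgroup.relIndex_top_right]; exact Subgroup.index_ne_zero_of_finite)).trans_eq
      (Subgroup.relIndex_top_right Y)
  refine le_min (bound A B hAB (inf_comm B A) hCB) (bound B A hBA rfl hCA)

end Cfsg.Agent.S3163
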