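import Cfsg.Statements.S3166
import Mathlib

set_option autoImplicit false
open Cfsg

namespace Cfsg.Agent.S3166

/-- Let q = 2^n with n ≥ 1. If q⁴ − q³ + q² − q + 1 is a power p^m of a prime p, then m = 1: the value is never a prime power with exponent greater than 1. -/
theorem result (n p m : ℕ) (hn : 1 ≤ n) (hp : p.Prime) (h : (2 ^ n) ^ 4 - (2 ^ n) ^ 3 + (2 ^ n) ^ 2 - 2 ^ n + 1 = p ^ m) : m = 1 := by
  obtain ⟨q, hq⟩ : ∃ q, q = 2 ^ n := ⟨_, rfl⟩
  rw [← hq] at h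
  have hq2 : 2 ≤ q := by
    rw [hq]
    calc 2 = 2 ^ 1 := rfl
      _ ≤ 2 ^ n := Nat.pow_le_pow_right two_pos hn
  have hN : (p : ℤ) ^ m = (q : ℤ) ^ 4 - (q : ℤ) ^ 3 + (q : ℤ) ^ 2 - q + 1 := by
    have h34 : q ^ 3 ≤ q ^ 4 := Nat.pow_le_pow_right (by omega) (by omega)
    have h1 : q ≤ q ^ 4 - q ^ 3 + q ^ 2 := le_add_left (Nat.le_self_pow two_ne_zero q)
    have hc : ((q ^ 4 - q ^ 3 + q ^ 2 - q + 1 : ℕ) : ℤ) = ((p ^ m : ℕ) : ℤ) := by rw [h]
    push_cast [Nat.cast_sub h34, Nat.cast_sub h1] at hc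
    linarith
  have hqz : (2 : ℤ) ≤ q := by exact_mod_cast hq2
  rcases Nat.even_or_odd m with ⟨k, hk⟩ | ⟨k, hk⟩
  · exfalso
    set a : ℤ := (p : ℤ) ^ k with ha
    have hsq : a ^ 2 = (q : ℤ) ^ 4 - (q : ℤ) ^ 3 + (q : ℤ) ^ 2 - q + 1 := by
      rw [ha, ← pow_mul, show k * 2 = m by omega, hN]
    have ha0 : 0 ≤ a := by positivity
    have hlo : 2 * (q : ℤ) ^ 2 - q < 2 * a := by nlinarith
    have hhi : 2 * a < 2 * (q : ℤ) ^ 2 - q + 1 := by
      by_contra hle
      push Not at hle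
      have := mul_self_le_mul_self (show (0 : ℤ) ≤ 2 * (q : ℤ) ^ 2 - q + 1 by nlinarith) hle
      nlinarith
    omega
  · rcases Nat.eq_zero_or_pos k with hk0 | hk0
    · omega
    exfalso
    have hp2 : 2 ≤ p := hp.two_le
    have hgeom := geom_sum_mul (p : ℤ) m
    have hodd : Odd (∑ i ∈ Finset.range m, (p : ℤ) ^ i) := by
      have hpodd : Odd (p : ℤ) := by
        have he : Even (q : ℤ) := by
          rw [hq]; push_cast; exact (Int.even_pow.mpr ⟨even_two, by omega⟩)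
        have : Odd ((p : ℤ) ^ m) := by
          rw [hN]
          obtain ⟨r, hr⟩ := he
          exact ⟨8 * r ^ 4 - 4 * r ^ 3 + 2 * r ^ 2 - r, by rw [hr]; ring⟩
        exact Int.Odd.of_mul_left (by rw [show m = k * 2 + 1 by omega, pow_succ'] at this; exact this)
      have key : ∀ j : ℕ, Odd (∑ i ∈ Finset.range (2 * j + 1), (p : ℤ) ^ i) := by
        intro j
        induction j with
        | zero => simp
        | succ j ih =>
          rw [show 2 * (j + 1) + 1 = (2 * j + 1) + 1 + 1 by ring, Finset.sum_range_succ,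
            Finset.sum_range_succ]
          exact (ih.add_odd hpodd.pow).add_odd hpodd.pow
      rw [show m = 2 * k + 1 by omega]
      exact key k
    have hdvd : (q : ℤ) ∣ (∑ i ∈ Finset.range m, (p : ℤ) ^ i) * ((p : ℤ) - 1) :=
      ⟨(q : ℤ) ^ 3 - (q : ℤ) ^ 2 + q - 1, by rw [hgeom, hN]; ring⟩
    have hcop : IsCoprime (q : ℤ) (∑ i ∈ Finset.range m, (p : ℤ) ^ i) := by
      rw [hq]; push_cast
      refine IsCoprime.pow_left ?_
      obtain ⟨r, hr⟩ := hodd
      rw [hr]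
      exact ⟨-r, 1, by ring⟩
    obtain ⟨j, hj⟩ := hcop.dvd_of_dvd_mul_left hdvd
    have hj1 : 1 ≤ j := by
      by_contra hlt
      have : (2 : ℤ) ≤ p := by exact_mod_cast hp2
      nlinarith
    have hlt4 : (p : ℤ) ^ m < (q : ℤ) ^ 4 := by rw [hN]; nlinarith
    have hm3 : m = 3 := by
      by_contra hne
      have : (p : ℤ) ^ 4 ≤ (p : ℤ) ^ m :=
        pow_le_pow_right₀ (by exact_mod_cast hp.one_le) (by omega)
      have : (q : ℤ) ^ 4 ≤ (p : ℤ) ^ 4 := pow_le_pow_left₀ (by omega) (by nlinarith) 4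
      omega
    rw [hm3, show (p : ℤ) = q * j + 1 by linarith] at hN
    have hj3 : j ^ 3 < q := by
      rw [hm3, show (p : ℤ) = q * j + 1 by linarith] at hlt4
      by_contra hle
      push Not at hle
      nlinarith [pow_le_pow_left₀ (by omega : (0:ℤ) ≤ q) (le_refl (q:ℤ)) 3,
        mul_le_mul_of_nonneg_left hle (by positivity : (0:ℤ) ≤ (q:ℤ) ^ 3)]
    have hq0 : (q : ℤ) ≠ 0 := by omega
    have heq : j ^ 3 * (q : ℤ) ^ 2 + 3 * j ^ 2 * q + 3 * j + 1 = (q : ℤ) ^ 3 - (q : ℤ) ^ 2 + q := by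
      apply mul_left_cancel₀ hq0
      linear_combination hN
    have hd : (q : ℤ) ∣ 3 * j + 1 :=
      ⟨(q : ℤ) ^ 2 - q + 1 - j ^ 3 * q - 3 * j ^ 2, by linear_combination heq⟩
    have hle := Int.le_of_dvd (by omega) hd
    have hj2 : j ≤ 2 := by nlinarith [mul_le_mul hj3.le (le_refl (1:ℤ)) zero_le_one (by omega)]
    interval_cases j
    · have : (q : ℤ) ≤ 4 := by omega
      interval_cases (q : ℤ) <;> omega
    · omega

end Cfsg.Agent.S3166
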