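import Cfsg.Statements.S3169
import Cfsg.Agent.Lib.M24Quot.Main
-- import your own Cfsg.Agent.* helpers here

set_option autoImplicit false
open Cfsg

namespace Cfsg.Agent.S3169

/-- Let P be a Sylow 2-subgroup of the Mathieu group of degree 24 and let G be a finite group with no nontrivial normal subgroup of odd order whose Sylow 2-subgroup S is isomorphic to the quotient of P by its centre. If A is an abelian subgroup of S of order 64 and is the only abelian subgroup of S of that order, then A is normal in G. -/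
theorem result {G : Type*} [Group G] [Finite G]
    (hO : Cfsg.oddCore G = ⊥) (S : Sylow 2 G) (P : Sylow 2 ↥Cfsg.M24)
    (hS : Nonempty (↥(S : Subgroup G) ≃* (↥(P : Subgroup ↥Cfsg.M24) ⧸ Subgroup.center ↥(P : Subgroup ↥Cfsg.M24))))
    (A : Subgroup G) (hA : A ≤ (S : Subgroup G)) (hAc : IsMulCommutative ↥A) (hA64 : Nat.card ↥A = 64)
    (huniq : ∀ B : Subgroup G, B ≤ (S : Subgroup G) → IsMulCommutative ↥B → Nat.card ↥B = 64 → B = A) :
    A.Normal := by
  haveI : Fact (Nat.Prime 2) := ⟨Nat.prime_two⟩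
  open CfsgLib.LocalEven.M24Syl CfsgLib.Spor in
  have hQ : Nonempty ((↥(P : Subgroup ↥Cfsg.M24) ⧸ Subgroup.center ↥(P : Subgroup ↥Cfsg.M24)) ≃* CfsgLib.LocalEven.M24Syl.Q) := by
    have hc0 : Nat.card ↥(T.subgroupOf M24) = 2 ^ 10 := by
      rw [Nat.card_congr (Subgroup.subgroupOfEquivOfLe (genGroup_le _)).toEquiv,
        natCard_genGroup syl2_listed]
      norm_num
    let P0 : Sylow 2 ↥Cfsg.M24 := (IsPGroup.of_card hc0).toSylow (by
      have h := (T.subgroupOf M24).card_mul_index
      rw [hc0, natCard_M24] at h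
      omega)
    let φ : ↥(P : Subgroup ↥Cfsg.M24) ≃* ↥T :=
      (Sylow.equiv P P0).trans (Subgroup.subgroupOfEquivOfLe (genGroup_le _))
    exact ⟨QuotientGroup.congr _ _ φ (by
      ext x
      rw [Subgroup.mem_map, Subgroup.mem_center_iff]
      constructor
      · rintro ⟨y, hy, rfl⟩ g
        rw [Subgroup.mem_center_iff] at hy
        obtain ⟨g, rfl⟩ := φ.surjective g
        exact (map_mul φ g y).symm.trans ((congrArg φ (hy g)).trans (map_mul φ y g))
      · intro h
        exact ⟨φ.symm x, Subgroup.mem_center_iff.2 fun g => φ.injective (by simpa using h (φ g)),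
          φ.apply_symm_apply x⟩)⟩
  obtain ⟨e₁⟩ := hS
  obtain ⟨e₂⟩ := hQ
  obtain ⟨E, f⟩ := CfsgLib.M24Quot.exists_fr S (e₁.trans e₂) A hA hAc hA64 huniq
  exact f.normal hO

end Cfsg.Agent.S3169
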