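import Cfsg.Statements.S3170
import Cfsg.Agent.S3169
import Cfsg.Agent.S3171
-- import your own Cfsg.Agent.* helpers here

set_option autoImplicit false
open Cfsg

namespace Cfsg.Agent.S3170

/-- Let H be a finite group with no nontrivial normal subgroup of odd order whose Sylow 2-subgroup T is isomorphic to a Sylow 2-subgroup of the Mathieu group of degree 24, and suppose that the centre of T lies in the centre of H. If E is a subgroup of T that is normal in T and extraspecial of order 2^7, and E is the only such subgroup of T, then E is normal in H. -/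
theorem result {H : Type*} [Group H] [Finite H]
    (hO : Cfsg.oddCore H = ⊥) (T : Sylow 2 H) (P : Sylow 2 ↥Cfsg.M24)
    (hT : Nonempty (↥(T : Subgroup H) ≃* ↥(P : Subgroup ↥Cfsg.M24)))
    (hZ : ∀ z ∈ (T : Subgroup H), (∀ t ∈ (T : Subgroup H), z * t = t * z) → z ∈ Subgroup.center H)
    (E : Subgroup H) (hE : E ≤ (T : Subgroup H)) (hEn : (E.subgroupOf (T : Subgroup H)).Normal)
    (hEx : Cfsg.IsExtraspecial 2 ↥E) (hE7 : Nat.card ↥E = 2 ^ 7)
    (huniq : ∀ E' : Subgroup H, E' ≤ (T : Subgroup H) → (E'.subgroupOf (T : Subgroup H)).Normal →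
      Cfsg.IsExtraspecial 2 ↥E' → Nat.card ↥E' = 2 ^ 7 → E' = E) :
    E.Normal := by
  classical
  haveI : Fact (Nat.Prime 2) := ⟨Nat.prime_two⟩
  open CfsgLib.LocalEven.M24Syl CfsgLib.Spor in
  have hQ : Nat.card ↥(Subgroup.center ↥(P : Subgroup ↥Cfsg.M24)) = 2 := by
    have hc0 : Nat.card ↥(CfsgLib.LocalEven.M24Syl.T.subgroupOf M24) = 2 ^ 10 := by
      rw [Nat.card_congr (Subgroup.subgroupOfEquivOfLe (genGroup_le _)).toEquiv,
        natCard_genGroup syl2_listed]
      norm_num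
    let P0 : Sylow 2 ↥Cfsg.M24 := (IsPGroup.of_card hc0).toSylow (by
      have h := (CfsgLib.LocalEven.M24Syl.T.subgroupOf M24).card_mul_index
      rw [hc0, natCard_M24] at h
      omega)
    let φ : ↥(P : Subgroup ↥Cfsg.M24) ≃* ↥CfsgLib.LocalEven.M24Syl.T :=
      (Sylow.equiv P P0).trans (Subgroup.subgroupOfEquivOfLe (genGroup_le _))
    rw [Nat.card_congr (Subgroup.centerCongr φ).toEquiv]
    obtain ⟨ζ, hζ, hc⟩ := exists_zeta
    have hne : (1 : ↥CfsgLib.LocalEven.M24Syl.T) ≠ ζ := by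
      intro e
      have h := CfsgLib.LocalEven.M24Syl.natCard_Q
      have hb : Subgroup.center ↥CfsgLib.LocalEven.M24Syl.T = ⊥ := by
        refine (Subgroup.eq_bot_iff_forall _).2 fun σ hσ => ?_
        rcases (hc σ).1 hσ with h1 | h1
        · exact h1
        · exact h1.trans e.symm
      have hcard := Subgroup.card_eq_card_quotient_mul_card_subgroup
        (Subgroup.center ↥CfsgLib.LocalEven.M24Syl.T)
      rw [show Nat.card ↥CfsgLib.LocalEven.M24Syl.T = 1024 from natCard_genGroup syl2_listed] at hcard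
      change 1024 = Nat.card CfsgLib.LocalEven.M24Syl.Q * _ at hcard
      rw [h, hb, Subgroup.card_bot] at hcard
      omega
    have e : ((Subgroup.center ↥CfsgLib.LocalEven.M24Syl.T : Subgroup _) : Set _) = {1, ζ} :=
      Set.ext fun σ => by simpa using hc σ
    rw [← SetLike.coe_sort_coe, Nat.card_coe_set_eq, e, Set.ncard_pair hne]
  obtain ⟨eT⟩ := hT
  have hZT : Nat.card ↥(Subgroup.center ↥(T : Subgroup H)) = 2 :=
    (Nat.card_congr (Subgroup.centerCongr eT).toEquiv).trans hQ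
  obtain ⟨⟨⟨⟨z, hzT⟩, hzc⟩, hzne⟩⟩ : Nonempty {x : ↥(Subgroup.center ↥(T : Subgroup H)) // x ≠ 1} := by
    have : Nontrivial ↥(Subgroup.center ↥(T : Subgroup H)) :=
      Finite.one_lt_card_iff_nontrivial.1 (by rw [hZT]; norm_num)
    obtain ⟨x, hx⟩ := exists_ne (1 : ↥(Subgroup.center ↥(T : Subgroup H)))
    exact ⟨⟨x, hx⟩⟩
  have hz1 : z ≠ 1 := fun h => hzne (Subtype.ext (Subtype.ext h))
  have hzH : z ∈ Subgroup.center H := hZ z hzT fun t ht =>
    (congrArg Subtype.val (Subgroup.mem_center_iff.1 hzc ⟨t, ht⟩)).symm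
  have hcenT : ∀ x : ↥(T : Subgroup H), x ∈ Subgroup.center ↥(T : Subgroup H) →
      (x : H) = 1 ∨ (x : H) = z := by
    intro x hx
    obtain ⟨a, b, -, huniv⟩ := Nat.card_eq_two_iff.1 hZT
    have h1 : (1 : ↥(Subgroup.center ↥(T : Subgroup H))) ∈ ({a, b} : Set _) := huniv ▸ Set.mem_univ _
    have h2 : (⟨⟨z, hzT⟩, hzc⟩ : ↥(Subgroup.center ↥(T : Subgroup H))) ∈ ({a, b} : Set _) :=
      huniv ▸ Set.mem_univ _
    have h3 : (⟨x, hx⟩ : ↥(Subgroup.center ↥(T : Subgroup H))) ∈ ({a, b} : Set _) :=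
      huniv ▸ Set.mem_univ _
    simp only [Set.mem_insert_iff, Set.mem_singleton_iff] at h1 h2 h3
    have hcases : (⟨x, hx⟩ : ↥(Subgroup.center ↥(T : Subgroup H))) = 1 ∨
        (⟨x, hx⟩ : ↥(Subgroup.center ↥(T : Subgroup H))) = ⟨⟨z, hzT⟩, hzc⟩ := by
      rcases h1 with h1 | h1 <;> rcases h2 with h2 | h2 <;> rcases h3 with h3 | h3 <;>
        first
          | exact absurd (h2.trans h1.symm) hzne
          | exact Or.inl (h3.trans h1.symm)
          | exact Or.inr (h3.trans h2.symm)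
    rcases hcases with h | h
    · exact Or.inl (congrArg (fun y : ↥(Subgroup.center ↥(T : Subgroup H)) => ((y : ↥(T : Subgroup H)) : H)) h)
    · exact Or.inr (congrArg (fun y : ↥(Subgroup.center ↥(T : Subgroup H)) => ((y : ↥(T : Subgroup H)) : H)) h)
  have hzz : z * z = 1 := by
    rcases hcenT (⟨z, hzT⟩ * ⟨z, hzT⟩) (mul_mem hzc hzc) with h | h
    · exact h
    · exact absurd (by simpa using h) hz1
  -- the quotient
  haveI hN : (Subgroup.zpowers z).Normal := ⟨fun x hx g => by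
    have : g * x * g⁻¹ = x := by
      rw [Subgroup.mem_center_iff.1 (Subgroup.zpowers_le.2 hzH hx) g, mul_inv_cancel_right]
    rwa [this]⟩
  let f : H →* H ⧸ Subgroup.zpowers z := QuotientGroup.mk' (Subgroup.zpowers z)
  have hf : Function.Surjective f := QuotientGroup.mk'_surjective _
  have hker : ∀ x, f x = 1 ↔ (x = 1 ∨ x = z) := by
    intro x
    rw [QuotientGroup.mk'_apply, QuotientGroup.eq_one_iff]
    refine ⟨fun h => CfsgLib.StrongTwoClasses.mem_zpowers_of_sq hzz h, ?_⟩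
    rintro (rfl | rfl)
    exacts [one_mem _, Subgroup.mem_zpowers x]
  have hkP : IsPGroup 2 f.ker := fun x => ⟨1, by
    rcases (hker x).1 (MonoidHom.mem_ker.1 x.2) with h | h <;>
      exact Subtype.ext (by simp [sq, h, hzz])⟩
  have hkc : f.ker ≤ Subgroup.center H := fun x hx => by
    rcases (hker x).1 (MonoidHom.mem_ker.1 hx) with rfl | rfl
    exacts [one_mem _, hzH]
  have hOq : Cfsg.oddCore (H ⧸ Subgroup.zpowers z) = ⊥ := by
    rw [Subgroup.eq_bot_iff_forall]
    intro y hy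
    obtain ⟨x, rfl⟩ := hf y
    obtain ⟨o, ho, he⟩ := CfsgLib.StrongTwoClasses.exists_core_lift f hf hkP hkc hy
    rw [hO, Subgroup.mem_bot] at ho
    rw [← he, ho, map_one]
  have hgker : (f.subgroupMap (T : Subgroup H)).ker = Subgroup.center ↥(T : Subgroup H) := by
    ext x
    rw [MonoidHom.mem_ker]
    constructor
    · intro h
      rcases (hker x).1 (congrArg Subtype.val h) with h | h
      · rw [show x = 1 from Subtype.ext h]; exact one_mem _
      · rw [show x = ⟨z, hzT⟩ from Subtype.ext h]; exact hzc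
    · intro h
      exact Subtype.ext ((hker x).2 (hcenT x h))
  let eQ : (↥(P : Subgroup ↥Cfsg.M24) ⧸ Subgroup.center ↥(P : Subgroup ↥Cfsg.M24)) ≃*
      ↥((T : Subgroup H).map f) :=
    ((QuotientGroup.congr _ _ eT.symm (by
      ext x
      rw [Subgroup.mem_map, Subgroup.mem_center_iff]
      constructor
      · rintro ⟨y, hy, rfl⟩ g
        rw [Subgroup.mem_center_iff] at hy
        obtain ⟨g, rfl⟩ := eT.symm.surjective g
        exact (map_mul eT.symm g y).symm.trans ((congrArg eT.symm (hy g)).trans (map_mul eT.symm y g))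
      · intro h
        exact ⟨eT x, Subgroup.mem_center_iff.2 fun g => eT.symm.injective (by simpa using h (eT.symm g)),
          eT.symm_apply_apply x⟩)).trans (QuotientGroup.quotientMulEquivOfEq hgker.symm)).trans
      (QuotientGroup.quotientKerEquivOfSurjective _ (f.subgroupMap_surjective _))
  -- the centre of `E`
  have hzE : z ∈ E ∧ ∀ c : ↥E, c ∈ Subgroup.center ↥E → (c : H) = 1 ∨ (c : H) = z := by
    have hcE : ∀ c : ↥E, c ∈ Subgroup.center ↥E → ∀ t ∈ (T : Subgroup H), t * c = c * t := by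
      intro c hc t ht
      have hmemE : ∀ e ∈ E, t * e * t⁻¹ ∈ E := fun e he =>
        Subgroup.mem_subgroupOf.1 (hEn.conj_mem ⟨e, hE he⟩ (Subgroup.mem_subgroupOf.2 he) ⟨t, ht⟩)
      have hmemE' : ∀ e ∈ E, t⁻¹ * e * t ∈ E := fun e he => by
        have h : t⁻¹ * e * t⁻¹⁻¹ ∈ E := Subgroup.mem_subgroupOf.1
          (hEn.conj_mem ⟨e, hE he⟩ (Subgroup.mem_subgroupOf.2 he) ⟨t, ht⟩⁻¹)
        simpa using h
      have hc' : (⟨t * c * t⁻¹, hmemE _ c.2⟩ : ↥E) ∈ Subgroup.center ↥E := by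
        rw [Subgroup.mem_center_iff]
        intro g
        refine Subtype.ext ?_
        have h := congrArg Subtype.val (Subgroup.mem_center_iff.1 hc ⟨_, hmemE' _ g.2⟩)
        change t⁻¹ * (g : H) * t * c = c * (t⁻¹ * g * t) at h
        show (g : H) * (t * c * t⁻¹) = t * c * t⁻¹ * g
        calc (g : H) * (t * c * t⁻¹) = t * (t⁻¹ * g * t * c) * t⁻¹ := by group
          _ = t * (c * (t⁻¹ * g * t)) * t⁻¹ := by rw [h]
          _ = _ := by group
      obtain ⟨a, b, -, huniv⟩ := Nat.card_eq_two_iff.1 hEx.2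
      have e1 : (1 : ↥(Subgroup.center ↥E)) ∈ ({a, b} : Set _) := huniv ▸ Set.mem_univ _
      have e2 : (⟨c, hc⟩ : ↥(Subgroup.center ↥E)) ∈ ({a, b} : Set _) := huniv ▸ Set.mem_univ _
      have e3 : (⟨_, hc'⟩ : ↥(Subgroup.center ↥E)) ∈ ({a, b} : Set _) := huniv ▸ Set.mem_univ _
      simp only [Set.mem_insert_iff, Set.mem_singleton_iff] at e1 e2 e3
      by_cases hc1 : (c : H) = 1
      · rw [hc1]; simp
      have hne : (⟨c, hc⟩ : ↥(Subgroup.center ↥E)) ≠ 1 := fun h =>
        hc1 (congrArg (fun y : ↥(Subgroup.center ↥E) => ((y : ↥E) : H)) h)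
      have hne' : (⟨_, hc'⟩ : ↥(Subgroup.center ↥E)) ≠ 1 := fun h => by
        have h' : t * c * t⁻¹ = 1 :=
          congrArg (fun y : ↥(Subgroup.center ↥E) => ((y : ↥E) : H)) h
        exact hc1 (by simpa [mul_inv_eq_one] using h')
      have heq : (⟨_, hc'⟩ : ↥(Subgroup.center ↥E)) = ⟨c, hc⟩ := by
        rcases e1 with e1 | e1 <;> rcases e2 with e2 | e2 <;> rcases e3 with e3 | e3 <;>
          first
            | exact e3.trans e2.symm
            | exact absurd (e2.trans e1.symm) hne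
            | exact absurd (e3.trans e1.symm) hne'
      have h' : t * c * t⁻¹ = c :=
        congrArg (fun y : ↥(Subgroup.center ↥E) => ((y : ↥E) : H)) heq
      exact mul_inv_eq_iff_eq_mul.1 h'
    have hsub : ∀ c : ↥E, c ∈ Subgroup.center ↥E → (c : H) = 1 ∨ (c : H) = z := fun c hc =>
      hcenT ⟨c, hE c.2⟩ (Subgroup.mem_center_iff.2 fun t => Subtype.ext (hcE c hc t t.2))
    have : Nontrivial ↥(Subgroup.center ↥E) :=
      Finite.one_lt_card_iff_nontrivial.1 (by rw [hEx.2]; norm_num)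
    obtain ⟨c, hc⟩ := exists_ne (1 : ↥(Subgroup.center ↥E))
    rcases hsub c.1 c.2 with h | h
    · exact absurd (Subtype.ext (Subtype.ext h)) hc
    · exact ⟨h ▸ c.1.2, hsub⟩
  obtain ⟨hzE, hcenE⟩ := hzE
  set A := E.map f with hA
  have hA64 : Nat.card ↥A = 64 := by
    have hk2 : Nat.card ↥(f.subgroupMap E).ker = 2 := by
      have e : (((f.subgroupMap E).ker : Subgroup ↥E) : Set ↥E) = {1, ⟨z, hzE⟩} := Set.ext fun x => by
        simp only [SetLike.mem_coe, MonoidHom.mem_ker, Set.mem_insert_iff, Set.mem_singleton_iff,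
          Subtype.ext_iff]
        exact hker x
      rw [← SetLike.coe_sort_coe, Nat.card_coe_set_eq, e, Set.ncard_pair]
      exact fun h => hz1 (congrArg Subtype.val h).symm
    have h := Subgroup.card_eq_card_quotient_mul_card_subgroup (f.subgroupMap E).ker
    rw [hk2, hE7, Nat.card_congr (QuotientGroup.quotientKerEquivOfSurjective _
      (f.subgroupMap_surjective E)).toEquiv] at h
    rw [hA]; omega
  have hAc : IsMulCommutative ↥A := by
    refine ⟨⟨?_⟩⟩
    rintro ⟨_, x, hx, rfl⟩ ⟨_, y, hy, rfl⟩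
    refine Subtype.ext ?_
    show f x * f y = f y * f x
    have hmem : (⟨x, hx⟩ : ↥E) * ⟨y, hy⟩ * (⟨x, hx⟩)⁻¹ * (⟨y, hy⟩)⁻¹ ∈ Subgroup.center ↥E := by
      rw [← hEx.1.2.2]
      exact Subgroup.commutator_mem_commutator (Subgroup.mem_top _) (Subgroup.mem_top _)
    have h1 : f (x * y * x⁻¹ * y⁻¹) = 1 := (hker _).2 (hcenE _ hmem)
    rw [map_mul, map_mul, map_mul, map_inv, map_inv] at h1
    calc f x * f y = f x * f y * (f x)⁻¹ * (f y)⁻¹ * (f y * f x) := by group
      _ = f y * f x := by rw [h1, one_mul]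
  let S : Sylow 2 (H ⧸ Subgroup.zpowers z) := T.mapSurjective hf
  have hScoe : (S : Subgroup (H ⧸ Subgroup.zpowers z)) = (T : Subgroup H).map f :=
    Sylow.coe_mapSurjective hf T
  have hAS : A ≤ (S : Subgroup (H ⧸ Subgroup.zpowers z)) := hScoe ▸ Subgroup.map_mono hE
  have huniqA : ∀ B : Subgroup (H ⧸ Subgroup.zpowers z), B ≤ (S : Subgroup (H ⧸ Subgroup.zpowers z)) →
      IsMulCommutative ↥B → Nat.card ↥B = 64 → B = A := by
    intro B hB hBc hB64
    rw [hScoe] at hB
    have key : ∀ C : Subgroup (H ⧸ Subgroup.zpowers z), C ≤ (T : Subgroup H).map f →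
        IsMulCommutative ↥C → Nat.card ↥C = 64 →
        IsMulCommutative ↥((C.subgroupOf ((T : Subgroup H).map f)).map eQ.symm.toMonoidHom) ∧
        Nat.card ↥((C.subgroupOf ((T : Subgroup H).map f)).map eQ.symm.toMonoidHom) = 64 := by
      intro C hC hCc hC64
      refine ⟨⟨⟨?_⟩⟩, (Subgroup.card_map_of_injective eQ.symm.injective).trans
        ((Nat.card_congr (Subgroup.subgroupOfEquivOfLe hC).toEquiv).trans hC64)⟩
      rintro ⟨_, x, hx, rfl⟩ ⟨_, y, hy, rfl⟩
      refine Subtype.ext ?_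
      have h : x * y = y * x := Subtype.ext (congrArg Subtype.val
        (hCc.is_comm.comm (⟨_, Subgroup.mem_subgroupOf.1 hx⟩ : ↥C) ⟨_, Subgroup.mem_subgroupOf.1 hy⟩) :)
      exact (map_mul eQ.symm x y).symm.trans ((congrArg eQ.symm h).trans (map_mul eQ.symm y x))
    obtain ⟨hB1, hB2⟩ := key B hB hBc hB64
    obtain ⟨hA1, hA2⟩ := key A (Subgroup.map_mono hE) hAc hA64
    have h := (Cfsg.Agent.S3171.result P).2.2 _ _ hB1 hB2 hA1 hA2
    have h' := Subgroup.map_injective eQ.symm.injective h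
    have := congrArg (fun K : Subgroup ↥((T : Subgroup H).map f) => K.map ((T : Subgroup H).map f).subtype) h'
    simp only [Subgroup.subgroupOf_map_subtype] at this
    rw [inf_eq_left.2 hB, inf_eq_left.2 (hScoe ▸ hAS)] at this
    exact this
  have hnorm := Cfsg.Agent.S3169.result hOq S P
    ⟨(MulEquiv.subgroupCongr hScoe).trans eQ.symm⟩ A hAS hAc hA64 huniqA
  refine ⟨fun e he h => ?_⟩
  obtain ⟨e', he', heq⟩ := hnorm.conj_mem (f e) ⟨e, he, rfl⟩ (f h)
  have h1 : f (e'⁻¹ * (h * e * h⁻¹)) = 1 := by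
    rw [map_mul, map_inv, heq, map_mul, map_mul, map_inv]; group
  have h2 : e'⁻¹ * (h * e * h⁻¹) ∈ E := by
    rcases (hker _).1 h1 with h | h <;> rw [h]
    exacts [one_mem E, hzE]
  simpa using mul_mem he' h2

end Cfsg.Agent.S3170
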