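import Cfsg.Statements.S3174
import Cfsg.Agent.Lib.PGroups.WideFourteenCenter


set_option autoImplicit false
set_option linter.style.haveILetI false
open Cfsg

namespace Cfsg.Agent.S3174

/-- Let T be a finite 2-group of order at least 2^14 in which the fourth term of the upper central series has order 16. Let W be the centralizer in T of the third term Z₃(T), and suppose the Frattini subgroup of W has order at most 8 and lies in every subgroup of W of index at most 16. Then T has order exactly 2^14; the derived subgroup of W and the Frattini subgroup of W both equal Z₃(T), which is elementary abelian of order 8; the centre of W has order 8; W is normal in T with quotient dihedral of order 8; and W modulo its derived subgroup is elementary abelian of order 2^8. -/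
theorem result {T : Type*} [Group T] [Finite T]
    (hT : IsPGroup 2 T) (ha : 2 ^ 14 ≤ Nat.card T) (hb : Nat.card ↥(Subgroup.upperCentralSeries T 4) = 16)
    (W : Subgroup T) (hW : W = Subgroup.centralizer ((Subgroup.upperCentralSeries T 3 : Subgroup T) : Set T))
    (hc : Nat.card ↥(frattini ↥W) ≤ 8) (hd : ∀ U : Subgroup ↥W, U.index ≤ 16 → frattini ↥W ≤ U) :
    Nat.card T = 2 ^ 14 ∧
      (commutator ↥W).map W.subtype = Subgroup.upperCentralSeries T 3 ∧
      (frattini ↥W).map W.subtype = Subgroup.upperCentralSeries T 3 ∧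
      Nat.card ↥(Subgroup.center ↥W) = 8 ∧
      Nat.card ↥(Subgroup.upperCentralSeries T 3) = 8 ∧ (∀ z ∈ Subgroup.upperCentralSeries T 3, z ^ 2 = 1) ∧
      (∃ (_ : W.Normal), Nonempty (T ⧸ W ≃* DihedralGroup 4)) ∧
      Nat.card (↥W ⧸ commutator ↥W) = 2 ^ 8 ∧ (∀ x : ↥W ⧸ commutator ↥W, x ^ 2 = 1) := by
  have h : CfsgLib.PGroups.WideFourteen.Hyp W := ⟨hT, ha, hb, hW, hc, hd⟩
  haveI := h.normalW
  obtain ⟨hi, hF8, hF, hT14, -⟩ := h.structure_W
  obtain ⟨D, -⟩ := h.exists_dihedral
  have hcm := h.commutator_eq
  refine ⟨hT14, by rw [hcm, hF], hF, ?_, by rw [h.card_Z 3 (by norm_num)]; norm_num, fun z hz => by rw [pow_two]; exact h.Z3_sq hz,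
    ⟨inferInstance, ⟨D.symm⟩⟩, ?_, fun x => ?_⟩
  · rw [← Subgroup.card_subtype W, h.center_W, h.card_Z 3 (by norm_num)]; norm_num
  · have hW11 := W.card_mul_index
    have h2 := (commutator ↥W).card_eq_card_quotient_mul_card_subgroup
    rw [hi, hT14] at hW11
    have hk : Nat.card ↥W = 2 ^ 11 := by omega
    rw [hk] at h2
    have h3 : Nat.card ↥(commutator ↥W) = 8 := by rw [hcm, hF8]
    rw [h3] at h2
    omega
  · obtain ⟨y, rfl⟩ := QuotientGroup.mk_surjective x
    haveI : Fact (Nat.Prime 2) := ⟨Nat.prime_two⟩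
    rw [← QuotientGroup.mk_pow, QuotientGroup.eq_one_iff, hcm]
    exact CfsgLib.PGroups.pow_mem_frattini (hT.to_subgroup W) y

end Cfsg.Agent.S3174
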