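import Cfsg.Statements.S3175
import Cfsg.Agent.Lib.PGroups.WideFourteenAut
import Cfsg.Agent.Lib.Coprime.Action2


set_option autoImplicit false
set_option linter.style.haveILetI false
open Cfsg

namespace Cfsg.Agent.S3175

/-- Let G be a finite group whose Sylow 2-subgroup T has order at least 2^14 and whose upper central series has fourth term of order 16; let W be the centralizer in T of the third term, and suppose the Frattini subgroup of W has order at most 8 and lies in every subgroup of W of index at most 16. Then the normalizer of T in G has a normal 2-complement, and W is weakly closed in T with respect to G. -/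
theorem result {G : Type*} [Group G] [Finite G]
    (T : Sylow 2 G) (ha : 2 ^ 14 ≤ Nat.card ↥(T : Subgroup G))
    (hb : Nat.card ↥(Subgroup.upperCentralSeries ↥(T : Subgroup G) 4) = 16)
    (W : Subgroup ↥(T : Subgroup G))
    (hW : W = Subgroup.centralizer ((Subgroup.upperCentralSeries ↥(T : Subgroup G) 3 : Subgroup ↥(T : Subgroup G)) : Set ↥(T : Subgroup G)))
    (hc : Nat.card ↥(frattini ↥W) ≤ 8)
    (hd : ∀ U : Subgroup ↥W, U.index ≤ 16 → frattini ↥W ≤ U) :
    Cfsg.HasNormalPComplement 2 ↥(Subgroup.normalizer ((T : Subgroup G) : Set G)) ∧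
      Cfsg.IsWeaklyClosed (W.map (T : Subgroup G).subtype) (T : Subgroup G) := by
  have h : CfsgLib.PGroups.WideFourteen.Hyp W := ⟨T.2, ha, hb, hW, hc, hd⟩
  haveI : Fact (Nat.Prime 2) := ⟨Nat.prime_two⟩
  refine ⟨?_, Subgroup.map_subtype_le W, fun g hg => ?_⟩
  · set N := Subgroup.normalizer ((T : Subgroup G) : Set G)
    let P : Sylow 2 ↥N := T.subtype Subgroup.le_normalizer
    haveI : (P : Subgroup ↥N).Normal := Subgroup.normal_in_normalizer
    have hPcop := P.card_coprime_index
    obtain ⟨K, hK⟩ := Subgroup.exists_left_complement'_of_coprime hPcop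
    refine ⟨P, K, ?_, hK⟩
    have hKodd : Odd (Nat.card K) := by
      have h1 : (P : Subgroup ↥N).index = Nat.card K := hK.index_eq_card
      rw [← h1]
      exact Nat.not_even_iff_odd.1 fun he => P.not_dvd_index (even_iff_two_dvd.1 he)
    have hcen : ∀ k ∈ K, ∀ t ∈ (T : Subgroup G), t * (k : G) = (k : G) * t := by
      have hA := CfsgLib.Coprime.le_centralizer_of_trivial_mod_frattini (A := K.map N.subtype) (K := (T : Subgroup G))
        (by
          rintro _ ⟨k, -, rfl⟩
          exact k.2)
        (by
          rw [Subgroup.card_map_of_injective Subtype.val_injective]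
          obtain ⟨n, hn⟩ := IsPGroup.iff_card.1 (T.2.to_subgroup (frattini ↥(T : Subgroup G)))
          rw [hn]
          exact (Nat.coprime_two_right.2 hKodd).pow_right n)
        (by
          rintro _ ⟨k, hk, rfl⟩ t ht
          let α : MulAut ↥(T : Subgroup G) := Subgroup.normalizerMonoidHom (T : Subgroup G) k
          have hα : α ^ Nat.card K = 1 := by
            rw [← map_pow]
            have e : k ^ Nat.card K = 1 :=
              congrArg Subtype.val (pow_card_eq_one' (x := (⟨k, hk⟩ : K)))
            rw [e, map_one]
          have h1 := h.aut_mod_frattini hKodd hα ⟨t, ht⟩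
          have h2 := (inferInstance : (frattini ↥(T : Subgroup G)).Normal).conj_mem _ h1 ⟨t, ht⟩
          rw [mul_inv_cancel_left] at h2
          exact ⟨_, h2, rfl⟩)
      exact fun k hk t ht => (Subgroup.mem_centralizer_iff.1 (hA ⟨k, hk, rfl⟩) t ht)
    have htop : K ⊔ (P : Subgroup ↥N) ≤ Subgroup.normalizer (K : Set ↥N) := by
      refine sup_le Subgroup.le_normalizer fun p hp => ?_
      refine Subgroup.centralizer_le_normalizer (K : Set ↥N) (Subgroup.mem_centralizer_iff.2 fun k hk => Subtype.ext ?_)
      exact (hcen k hk (p : G) hp).symm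
    rw [hK.sup_eq_top] at htop
    exact Subgroup.normalizer_eq_top_iff.1 (top_le_iff.1 htop)
  · rw [Subgroup.map_map] at hg ⊢
    exact h.map_eq_of_le Subtype.val_injective ((MulAut.conj g).injective.comp Subtype.val_injective)
      (hg.trans_eq (Subgroup.range_subtype _).symm)

end Cfsg.Agent.S3175
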