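import Cfsg.Statements.S3179
import Cfsg.Agent.Lib.Classical.Order
import Cfsg.Agent.Lib.Classical.UnitarySU
import Cfsg.Agent.Lib.Classical.UnitaryOrder
import Cfsg.Agent.Lib.KnownA.Suzuki.Rows

/-!
Sections of `GL(5,2)` of Bender type: only `PSL(2,4)`.
-/

set_option autoImplicit false
open Cfsg

namespace Cfsg.Agent.S3179

open Matrix

theorem card_GL52 : Nat.card (GL (Fin 5) (ZMod 2)) = 9999360 := by
  haveI : Fact (Nat.Prime 2) := ⟨Nat.prime_two⟩
  rw [CfsgLib.Classical.card_GL_fin, Nat.card_zmod]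
  simp [Fin.prod_univ_five]

theorem card_section_dvd {H : Subgroup (GL (Fin 5) (ZMod 2))} {K : Subgroup ↥H} [K.Normal] :
    Nat.card (↥H ⧸ K) ∣ 9999360 := by
  rw [← card_GL52]
  exact (Subgroup.card_quotient_dvd_card K).trans (Subgroup.card_subgroup_dvd_card H)

def blockA : Matrix (Fin 5) (Fin 5) (ZMod 2) :=
  !![0,1,0,0,0; 1,1,0,0,0; 0,0,1,0,0; 0,0,0,1,0; 0,0,0,0,1]

def blockB : Matrix (Fin 5) (Fin 5) (ZMod 2) :=
  !![1,0,0,0,0; 0,1,0,0,0; 0,0,0,1,0; 0,0,1,1,0; 0,0,0,0,1]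

theorem blockA_cube : blockA * (blockA * blockA) = 1 := by decide

theorem blockB_cube : blockB * (blockB * blockB) = 1 := by decide

theorem block_comm : blockA * blockB = blockB * blockA := by decide

theorem block_indep : ∀ i j : Fin 3, blockA ^ (i : ℕ) * blockB ^ (j : ℕ) = 1 → i = 0 ∧ j = 0 := by
  intro i j
  fin_cases i <;> fin_cases j <;> simp only [pow_zero, pow_one, pow_two, one_mul, mul_one] <;>
    decide

/-- The first generator of a Sylow 3-subgroup. -/
def genA : GL (Fin 5) (ZMod 2) :=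
  ⟨blockA, blockA * blockA, blockA_cube, by rw [Matrix.mul_assoc]; exact blockA_cube⟩

/-- The second generator of a Sylow 3-subgroup. -/
def genB : GL (Fin 5) (ZMod 2) :=
  ⟨blockB, blockB * blockB, blockB_cube, by rw [Matrix.mul_assoc]; exact blockB_cube⟩

theorem genA_cube : genA ^ 3 = 1 := by
  rw [pow_succ', pow_two]; exact Units.ext blockA_cube

theorem genB_cube : genB ^ 3 = 1 := by
  rw [pow_succ', pow_two]; exact Units.ext blockB_cube

theorem gen_comm : Commute genA genB := Units.ext block_comm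

theorem gen_indep (i j : Fin 3) (h : genA ^ (i : ℕ) * genB ^ (j : ℕ) = 1) : i = 0 ∧ j = 0 := by
  refine block_indep i j ?_
  have := congrArg (fun u : GL (Fin 5) (ZMod 2) => (u : Matrix (Fin 5) (Fin 5) (ZMod 2))) h
  simpa [genA, genB] using this

theorem orderOf_ne_nine (g : GL (Fin 5) (ZMod 2)) : orderOf g ≠ 9 := by
  haveI : Fact (Nat.Prime 3) := ⟨Nat.prime_three⟩
  intro hg
  set A : Subgroup (GL (Fin 5) (ZMod 2)) := Subgroup.closure {genA, genB} with hAdef
  have hcl : ∀ x ∈ A, x ^ 3 = 1 := by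
    have key : ∀ x ∈ A, x ^ 3 = 1 ∧ Commute x genA ∧ Commute x genB := by
      intro x hx
      have hc : ∀ y ∈ A, ∀ z ∈ A, Commute y z := by
        have := Subgroup.isMulCommutative_closure (k := ({genA, genB} : Set (GL (Fin 5) (ZMod 2)))) ?_
        · intro y hy z hz
          exact congrArg Subtype.val (this.is_comm.comm ⟨y, hy⟩ ⟨z, hz⟩)
        · rintro y (rfl | rfl) z (rfl | rfl)
          · rfl
          · exact gen_comm
          · exact gen_comm.symm
          · rfl
      refine ⟨?_, hc _ hx _ (Subgroup.subset_closure (by simp)),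
        hc _ hx _ (Subgroup.subset_closure (by simp))⟩
      induction hx using Subgroup.closure_induction with
      | mem y hy =>
        rcases hy with rfl | rfl
        · exact genA_cube
        · exact genB_cube
      | one => exact one_pow _
      | mul y z hy hz h1 h2 => rw [(hc y hy z hz).mul_pow, h1, h2, one_mul]
      | inv y hy h1 => rw [inv_pow, h1, inv_one]
    exact fun x hx => (key x hx).1
  have hcard9 : 9 ≤ Nat.card A := by
    let f : Fin 3 × Fin 3 → A := fun p =>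
      ⟨genA ^ (p.1 : ℕ) * genB ^ (p.2 : ℕ),
        mul_mem (pow_mem (Subgroup.subset_closure (by simp)) _)
          (pow_mem (Subgroup.subset_closure (by simp)) _)⟩
    have hf : Function.Injective f := by
      rintro ⟨i, j⟩ ⟨k, l⟩ hp
      have hp' : genA ^ (i : ℕ) * genB ^ (j : ℕ) = genA ^ (k : ℕ) * genB ^ (l : ℕ) :=
        congrArg Subtype.val hp
      have h3 : ∀ n : ℕ, genA ^ n = genA ^ (n % 3) := fun n => pow_eq_pow_mod n genA_cube
      have h3' : ∀ n : ℕ, genB ^ n = genB ^ (n % 3) := fun n => pow_eq_pow_mod n genB_cube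
      have e : genA ^ (((i - k : Fin 3)) : ℕ) * genB ^ (((j - l : Fin 3)) : ℕ) = 1 := by
        rw [Fin.val_sub, Fin.val_sub, ← h3, ← h3', add_comm (3 - (l : ℕ)), pow_add, pow_add,
          mul_assoc, ← mul_assoc (genA ^ (i : ℕ)), hp', mul_assoc (genA ^ (k : ℕ)),
          ← mul_assoc, ← pow_add, ← pow_add, Nat.sub_add_cancel k.isLt.le,
          Nat.add_sub_cancel' l.isLt.le, genA_cube, genB_cube, one_mul]
      obtain ⟨h1, h2⟩ := gen_indep _ _ e
      rw [sub_eq_zero] at h1 h2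
      rw [h1, h2]
    simpa using Nat.card_le_card_of_injective f hf
  have hAp : IsPGroup 3 A := fun x => ⟨1, Subtype.ext (by simpa using hcl x.1 x.2)⟩
  obtain ⟨Q, hAQ⟩ := hAp.exists_le_sylow
  have hQcard : Nat.card Q = 9 := by
    rw [Q.card_eq_multiplicity, card_GL52]
    have : (9999360 : ℕ).factorization 3 = 2 := by
      rw [show (9999360 : ℕ) = 3 ^ 2 * 1111040 by norm_num,
        Nat.factorization_mul (by norm_num) (by norm_num), Nat.Prime.factorization_pow (by norm_num)]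
      simp [Nat.factorization_eq_zero_iff]
    rw [this]; norm_num
  have hAeq : A = (Q : Subgroup (GL (Fin 5) (ZMod 2))) :=
    Subgroup.eq_of_le_of_card_ge hAQ (by rw [hQcard]; exact hcard9)
  have hP : IsPGroup 3 (Subgroup.zpowers g) :=
    IsPGroup.of_card (n := 2) (by rw [Nat.card_zpowers, hg]; norm_num)
  obtain ⟨R, hgR⟩ := hP.exists_le_sylow
  obtain ⟨c, hc⟩ := MulAction.exists_smul_eq (GL (Fin 5) (ZMod 2)) R Q
  have hcg : c * g * c⁻¹ ∈ A := by
    rw [hAeq, ← hc]
    exact Subgroup.smul_mem_pointwise_smul g (MulAut.conj c) _ (hgR (Subgroup.mem_zpowers g))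
  have := hcl _ hcg
  rw [conj_pow, conj_eq_one_iff] at this
  have := orderOf_dvd_of_pow_eq_one this
  rw [hg] at this
  omega

/-- `SL(2,8)` has an element of order nine. -/
theorem exists_orderOf_nine {F : Type} [Field F] [Fintype F] (hF : Fintype.card F = 8) :
    ∃ x : Matrix.ProjectiveSpecialLinearGroup (Fin 2) F, orderOf x = 9 := by
  haveI : CharP F 2 := by
    obtain ⟨p, hp⟩ := CharP.exists F
    obtain ⟨n, hpp, hn⟩ := FiniteField.card F p
    have : p ∣ 2 ^ 3 := by
      rw [show (2 : ℕ) ^ 3 = Fintype.card F by rw [hF]; norm_num, hn]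
      exact dvd_pow_self p n.ne_zero
    have := (Nat.prime_dvd_prime_iff_eq hpp Nat.prime_two).mp (hpp.dvd_of_dvd_pow this)
    exact this ▸ hp
  have h2 : (2 : F) = 0 := CharP.cast_eq_zero F 2
  obtain ⟨u, hu0, hu1⟩ : ∃ u : F, u ≠ 0 ∧ u ≠ 1 := by
    classical
    by_contra hcon
    push Not at hcon
    have : (Finset.univ : Finset F) ⊆ {0, 1} := fun x _ => by
      by_cases hx : x = 0 <;> simp [hx, hcon x]
    have := Finset.card_le_card this
    simp [hF] at this
  have hu7 : u ^ 7 = 1 := by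
    have := FiniteField.pow_card_sub_one_eq_one u hu0
    rwa [hF] at this
  obtain ⟨t, ht⟩ : ∃ t : F, t ^ 3 = t + 1 := by
    have hfac : (u - 1) * (u ^ 3 + u + 1) * (u ^ 3 + u ^ 2 + 1) = 0 := by
      linear_combination hu7 + (u ^ 6 + u ^ 5 + u ^ 4 + u ^ 3 + u ^ 2 + u) * (h2 * 0) +
        (u ^ 4 - u ^ 3) * h2
    rcases mul_eq_zero.mp hfac with h | h
    · rcases mul_eq_zero.mp h with h | h
      · exact absurd (sub_eq_zero.mp h) hu1
      · exact ⟨u, by linear_combination h - (u + 1) * h2⟩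
    · refine ⟨u⁻¹, ?_⟩
      field_simp
      linear_combination h - (u ^ 3 + u ^ 2) * h2
  let M : Matrix.SpecialLinearGroup (Fin 2) F :=
    ⟨!![0, 1; 1, t], by simp [Matrix.det_fin_two_of]; linear_combination h2 * (-1 : F)⟩
  have hM3 : ((M ^ 3 : Matrix.SpecialLinearGroup (Fin 2) F) : Matrix (Fin 2) (Fin 2) F) =
      !![t, t ^ 2 + 1; t ^ 2 + 1, t + 1 + 2 * t] := by
    have ec : ((M ^ 3 : Matrix.SpecialLinearGroup (Fin 2) F) : Matrix (Fin 2) (Fin 2) F) =
        !![0, 1; 1, t] * !![0, 1; 1, t] * !![0, 1; 1, t] := by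
      rw [pow_succ, pow_two, Matrix.SpecialLinearGroup.coe_mul,
        Matrix.SpecialLinearGroup.coe_mul]
    rw [ec]
    ext i j
    fin_cases i <;> fin_cases j <;> simp [Matrix.mul_apply, Fin.sum_univ_two] <;> grind
  have h9 : M ^ 9 = 1 := by
    rw [show (9 : ℕ) = 3 * 3 from rfl, pow_mul]
    apply Subtype.ext
    rw [pow_succ (M ^ 3), pow_two, Matrix.SpecialLinearGroup.coe_mul,
      Matrix.SpecialLinearGroup.coe_mul, hM3, Matrix.SpecialLinearGroup.coe_one]
    ext i j
    fin_cases i <;> fin_cases j <;> simp [Matrix.mul_apply, Fin.sum_univ_two] <;> grind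
  have h3 : M ^ 3 ∉ Subgroup.center (Matrix.SpecialLinearGroup (Fin 2) F) := by
    intro hmem
    obtain ⟨r, -, hr⟩ := Matrix.SpecialLinearGroup.mem_center_iff.mp hmem
    rw [hM3] at hr
    have h00 := congrFun (congrFun hr 0) 0
    have h11 := congrFun (congrFun hr 1) 1
    simp at h00 h11
    grind
  refine ⟨QuotientGroup.mk' _ M, ?_⟩
  have hd : orderOf (QuotientGroup.mk' (Subgroup.center _) M) ∣ 3 ^ (1 + 1) :=
    orderOf_dvd_of_pow_eq_one (by rw [← map_pow]; norm_num [h9])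
  have hn : ¬ (QuotientGroup.mk' (Subgroup.center _) M) ^ 3 ^ 1 = 1 := by
    rw [pow_one, ← map_pow, QuotientGroup.mk'_apply, QuotientGroup.eq_one_iff]
    exact h3
  haveI : Fact (Nat.Prime 3) := ⟨Nat.prime_three⟩
  simpa using orderOf_eq_prime_pow hn (orderOf_dvd_iff_pow_eq_one.mp hd)

/-- Let X be a section of the general linear group GL(5, 2), that is, a quotient of a subgroup of it. If X is isomorphic to PSL(2, 2^n) for some n ≥ 2, to a Suzuki group over the field with 2^(2m+1) elements for some m ≥ 1, or to PSU(3, 2^n) for some n ≥ 2, then X is isomorphic to PSL(2, 4). -/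
theorem result {H : Subgroup (GL (Fin 5) (ZMod 2))}
    {K : Subgroup ↥H} [K.Normal]
    (hX : (∃ (n : ℕ) (F : Type) (_ : Field F) (_ : Fintype F), 2 ≤ n ∧ Fintype.card F = 2 ^ n ∧
        Nonempty (↥H ⧸ K ≃* Matrix.ProjectiveSpecialLinearGroup (Fin 2) F)) ∨
      (∃ (m : ℕ) (F : Type) (_ : Field F) (_ : Fintype F), 1 ≤ m ∧ Fintype.card F = 2 ^ (2 * m + 1) ∧
        Nonempty (↥H ⧸ K ≃* ↥(Cfsg.Lie.Sz F (2 ^ (m + 1))))) ∨
      (∃ (n : ℕ) (F : Type) (_ : Field F) (_ : Fintype F), 2 ≤ n ∧ Fintype.card F = 4 ^ n ∧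
        Nonempty (↥H ⧸ K ≃* Cfsg.PSU 3 F (2 ^ n)))) :
    ∃ (F : Type) (_ : Field F) (_ : Fintype F), Fintype.card F = 4 ∧
      Nonempty (↥H ⧸ K ≃* Matrix.ProjectiveSpecialLinearGroup (Fin 2) F) := by
  have hdvd := card_section_dvd (H := H) (K := K)
  have hN : ∀ k, 2 ^ k ∣ 9999360 → k ≤ 10 := by
    intro k hk
    by_contra hcon
    have := (Nat.pow_dvd_pow 2 (show 11 ≤ k by omega)).trans hk
    norm_num at this
  rcases hX with ⟨n, F, iF, iFF, hn, hF, ⟨e⟩⟩ | ⟨m, F, iF, iFF, hm, hF, ⟨e⟩⟩ |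
      ⟨n, F, iF, iFF, hn, hF, ⟨e⟩⟩
  · by_cases h2 : n = 2
    · subst h2; exact ⟨F, iF, iFF, hF, ⟨e⟩⟩
    exfalso
    have hc : Nat.card F = 2 ^ n := by rw [Nat.card_eq_fintype_card, hF]
    have hodd : Nat.gcd 2 (Nat.card F - 1) = 1 := by
      rw [hc]
      refine Nat.Coprime.gcd_eq_one ?_
      rw [Nat.coprime_two_left, Nat.odd_iff]
      have : 2 ∣ 2 ^ n := dvd_pow_self 2 (by omega)
      have := Nat.one_le_two_pow (n := n)
      omega
    have hP := CfsgLib.Classical.card_PSL_two_mul (F := F)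
    rw [hodd, one_mul, hc] at hP
    rw [Nat.card_congr e.toEquiv, hP] at hdvd
    have hle : n ≤ 10 := hN n ((dvd_mul_right _ _).trans hdvd)
    have h3 : n = 3 := by
      interval_cases n <;> first | rfl | omega | (norm_num at hdvd)
    subst h3
    obtain ⟨x, hx⟩ := exists_orderOf_nine (F := F) (by rw [hF]; norm_num)
    obtain ⟨h, hh⟩ := QuotientGroup.mk'_surjective K (e.symm x)
    have h9 : 9 ∣ orderOf (h : GL (Fin 5) (ZMod 2)) := by
      rw [Subgroup.orderOf_coe]
      have := orderOf_map_dvd (QuotientGroup.mk' K) h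
      rwa [hh, MulEquiv.orderOf_eq, hx] at this
    obtain ⟨k, hk⟩ := h9
    refine orderOf_ne_nine ((h : GL (Fin 5) (ZMod 2)) ^ k) ?_
    have hpos := orderOf_pos (h : GL (Fin 5) (ZMod 2))
    rw [orderOf_pow_of_dvd (by rintro rfl; simp [hk] at hpos) ⟨9, by rw [hk]; ring⟩, hk,
      Nat.mul_div_cancel _ (Nat.pos_of_ne_zero (by rintro rfl; simp [hk] at hpos))]
  · exfalso
    rw [Nat.card_congr e.toEquiv,
      CfsgLib.KnownA.Suzuki.natCard_Sz (CfsgLib.KnownA.Suzuki.titsField_of_card hF), hF] at hdvd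
    have hle : (2 * m + 1) * 2 ≤ 10 := hN _ (by
      rw [pow_mul]
      exact ((dvd_mul_right _ _).trans (dvd_mul_left _ _)).trans hdvd)
    have : m ≤ 2 := by omega
    interval_cases m <;> norm_num at hdvd
  · exfalso
    have hc : Nat.card F = (2 ^ n) ^ 2 := by
      rw [Nat.card_eq_fintype_card, hF, show (4 : ℕ) = 2 ^ 2 by norm_num, ← pow_mul, ← pow_mul,
        mul_comm]
    have hP := CfsgLib.Classical.card_PSU_mul (F := F) (n := 3) hc (by norm_num)
    rw [CfsgLib.Classical.card_GU hc] at hP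
    simp only [Finset.prod_range_succ, Finset.prod_range_zero, one_mul, zero_add, Even.zero,
      ↓reduceIte, Nat.not_even_one, even_two, pow_one, Nat.reduceAdd, Nat.reduceSub,
      Nat.reduceMul, Nat.reduceDiv] at hP
    rw [← Nat.card_congr e.toEquiv] at hP
    have hg : Nat.gcd 3 (2 ^ n + 1) ∣ 3 := Nat.gcd_dvd_left _ _
    have hall : (2 ^ n) ^ 3 * ((2 ^ n + 1) * ((2 ^ n) ^ 2 - 1) * ((2 ^ n) ^ 3 + 1)) ∣
        3 * ((2 ^ n + 1) * 9999360) := by
      rw [← hP]; exact Nat.mul_dvd_mul hg (Nat.mul_dvd_mul_left _ hdvd)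
    have hle : n * 3 ≤ 10 := by
      apply hN
      rw [pow_mul]
      have h1 := (dvd_mul_right _ _).trans hall
      have hc1 : Nat.Coprime ((2 ^ n) ^ 3) (3 * (2 ^ n + 1)) := by
        refine Nat.Coprime.pow_left 3 (Nat.Coprime.pow_left n ?_)
        rw [Nat.coprime_two_left, Nat.odd_mul]
        exact ⟨by decide, ((Nat.even_pow.mpr ⟨even_two, by omega⟩).add_one)⟩
      rw [← mul_assoc] at h1
      exact hc1.dvd_of_dvd_mul_left h1
    have : n ≤ 3 := by omega
    interval_cases n <;> norm_num at hall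

end Cfsg.Agent.S3179
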