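import Cfsg.Statements.S3180
import Mathlib

set_option autoImplicit false
open Cfsg

namespace Cfsg.Agent.S3180

/-- Let P be a Sylow p-subgroup of a finite group J and P₁ a subgroup of P that is weakly closed in P with respect to J. If J acts on a set and two points, each fixed by every element of P₁, lie in one J-orbit, then they lie in one orbit of the normalizer of P₁ in J. -/
theorem result {J : Type*} [Group J] [Finite J]
    {p : ℕ} [Fact p.Prime] (P : Sylow p J) (P₁ : Subgroup J) (hW : Cfsg.IsWeaklyClosed P₁ (P : Subgroup J))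
    {Ω : Type*} [MulAction J Ω] (x y : Ω) (hx : ∀ g ∈ P₁, g • x = x) (hy : ∀ g ∈ P₁, g • y = y)
    (hc : ∃ g : J, g • x = y) :
    ∃ g ∈ Subgroup.normalizer (P₁ : Set J), g • x = y := by
  obtain ⟨g, hg⟩ := hc
  obtain ⟨hle, hw⟩ := hW
  set H := MulAction.stabilizer J y with hH
  have h1 : P₁ ≤ H := fun a ha => hy a ha
  have h2 : P₁.map (MulAut.conj g).toMonoidHom ≤ H := by
    rintro _ ⟨a, ha, rfl⟩
    show (g * a * g⁻¹) • y = y
    rw [← hg, mul_smul, mul_smul, inv_smul_smul, hx a ha]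
  have hp1 : IsPGroup p ↥P₁ := P.2.to_le hle
  obtain ⟨S₁, hS₁⟩ := (hp1.comap_subtype (K := H)).exists_le_sylow
  obtain ⟨S₂, hS₂⟩ := ((hp1.map (MulAut.conj g).toMonoidHom).comap_subtype (K := H)).exists_le_sylow
  obtain ⟨h, hh⟩ := MulAction.exists_smul_eq ↥H S₂ S₁
  obtain ⟨Q, hQ⟩ := (S₁.2.map H.subtype).exists_le_sylow
  obtain ⟨a, ha⟩ := MulAction.exists_smul_eq J Q P
  have hQ1 : P₁ ≤ (Q : Subgroup J) := fun b hb =>
    hQ ⟨⟨b, h1 hb⟩, hS₁ hb, rfl⟩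
  have hQ2 : P₁.map (MulAut.conj ((h : J) * g)).toMonoidHom ≤ (Q : Subgroup J) := by
    rintro _ ⟨b, hb, rfl⟩
    have hb2 : (⟨g * b * g⁻¹, h2 ⟨b, hb, rfl⟩⟩ : H) ∈ (S₂ : Subgroup H) := hS₂ ⟨b, hb, rfl⟩
    have hb3 : h * ⟨g * b * g⁻¹, h2 ⟨b, hb, rfl⟩⟩ * h⁻¹ ∈ (S₁ : Subgroup H) := by
      rw [← hh]
      exact ⟨_, hb2, rfl⟩
    refine hQ ⟨_, hb3, ?_⟩
    simp [mul_assoc]
  have conjP : ∀ u : J, P₁.map (MulAut.conj u).toMonoidHom ≤ (Q : Subgroup J) →
      P₁.map (MulAut.conj (a * u)).toMonoidHom = P₁ := by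
    intro u hu
    refine hw _ ?_
    rintro _ ⟨b, hb, rfl⟩
    rw [← ha]
    exact ⟨u * b * u⁻¹, hu ⟨b, hb, rfl⟩, by simp [mul_assoc]⟩
  have hm : ∀ u : J, P₁.map (MulAut.conj u).toMonoidHom = P₁ →
      u ∈ Subgroup.normalizer (P₁ : Set J) := by
    intro u hu b
    constructor
    · intro hb
      exact (le_of_eq hu) ⟨b, hb, rfl⟩
    · intro hb
      obtain ⟨c, hc, hcb⟩ := (le_of_eq hu.symm) hb
      simp only [MulEquiv.coe_toMonoidHom, MulAut.conj_apply, mul_left_inj, mul_right_inj] at hcb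
      exact hcb ▸ hc
  have hna := hm _ (conjP 1 (by
    rintro _ ⟨b, hb, rfl⟩
    simpa using hQ1 hb))
  rw [mul_one] at hna
  have hnb := hm _ (conjP _ hQ2)
  refine ⟨(h : J) * g, by simpa using mul_mem (inv_mem hna) hnb, ?_⟩
  rw [mul_smul, hg]
  exact h.2

end Cfsg.Agent.S3180
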