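import Cfsg.Statements.S3183
import Mathlib
import Cfsg.Agent.Lib.Involutions.Basic

set_option autoImplicit false
open Cfsg

namespace Cfsg.Agent.S3183

/-- Let G be a finite group in which the intersection of any two distinct Sylow 2-subgroups is contained in the centre of some Sylow 2-subgroup, and let S be a Sylow 2-subgroup. Then for every x in S the centralizer of x in S is a Sylow 2-subgroup of the centralizer of x in G (no 2-subgroup centralizing x is larger), and for every other Sylow 2-subgroup T the intersection S ∩ T lies in both the centre of S and the centre of T. -/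
theorem result {G : Type*} [Group G] [Finite G]
    (hCI : ∀ S T : Sylow 2 G, S ≠ T → ∃ U : Sylow 2 G,
      (S : Subgroup G) ⊓ (T : Subgroup G) ≤ (Subgroup.center ↥(U : Subgroup G)).map (U : Subgroup G).subtype)
    (S : Sylow 2 G) :
    (∀ x ∈ (S : Subgroup G), ∀ P : Subgroup G, IsPGroup 2 ↥P → P ≤ Subgroup.centralizer ({x} : Set G) →
        Nat.card ↥P ≤ Nat.card ↥((S : Subgroup G) ⊓ Subgroup.centralizer ({x} : Set G))) ∧
    (∀ T : Sylow 2 G, T ≠ S →
        (S : Subgroup G) ⊓ (T : Subgroup G) ≤
          (Subgroup.center ↥(S : Subgroup G)).map (S : Subgroup G).subtype ⊓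
            (Subgroup.center ↥(T : Subgroup G)).map (T : Subgroup G).subtype) := by
  classical
  have hcard : ∀ U V : Sylow 2 G, Nat.card (U : Subgroup G) = Nat.card (V : Subgroup G) :=
    fun U V => Nat.card_congr (U.equiv V).toEquiv
  -- centre of a Sylow 2-subgroup as a subgroup of `G`
  have hmemZ : ∀ (U : Sylow 2 G) (w : G),
      w ∈ (Subgroup.center ↥(U : Subgroup G)).map (U : Subgroup G).subtype ↔
        w ∈ (U : Subgroup G) ∧ ∀ u ∈ (U : Subgroup G), u * w = w * u := fun U w => by
    constructor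
    · rintro ⟨⟨v, hv⟩, hv', rfl⟩
      exact ⟨hv, fun u hu => congrArg Subtype.val (Subgroup.mem_center_iff.1 hv' ⟨u, hu⟩)⟩
    · exact fun h => ⟨⟨w, h.1⟩, Subgroup.mem_center_iff.2 fun u => Subtype.ext (h.2 u u.2), rfl⟩
  have hZcard : ∀ U V : Sylow 2 G,
      Nat.card ↥((Subgroup.center ↥(U : Subgroup G)).map (U : Subgroup G).subtype) =
        Nat.card ↥((Subgroup.center ↥(V : Subgroup G)).map (V : Subgroup G).subtype) := fun U V => by
    rw [Subgroup.card_map_of_injective (Subgroup.subtype_injective _),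
      Subgroup.card_map_of_injective (Subgroup.subtype_injective _)]
    exact Nat.card_congr (Subgroup.centerCongr (U.equiv V)).toEquiv
  have partA : ∀ (S : Sylow 2 G), ∀ x ∈ (S : Subgroup G), ∀ P : Subgroup G, IsPGroup 2 ↥P →
      P ≤ Subgroup.centralizer ({x} : Set G) →
      Nat.card ↥P ≤ Nat.card ↥((S : Subgroup G) ⊓ Subgroup.centralizer ({x} : Set G)) := by
    intro S x hx P hP hPC
    set C := (S : Subgroup G) ⊓ Subgroup.centralizer ({x} : Set G) with hCdef
    set K := Subgroup.centralizer ({x} : Set G) with hK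
    obtain ⟨Q, hQ⟩ := ((S.isPGroup'.to_le (inf_le_left : C ≤ _)).comap_subtype (K := K)).exists_le_sylow (P := C.subgroupOf K)
    obtain ⟨R, hR⟩ := (Q.isPGroup'.map K.subtype).exists_le_sylow
    have hPQ : Nat.card P ≤ Nat.card ((Q : Subgroup K).map K.subtype) := by
      obtain ⟨Q', hQ'⟩ := (hP.comap_subtype (K := K)).exists_le_sylow
      rw [Subgroup.card_map_of_injective K.subtype_injective, Nat.card_congr (Q.equiv Q').toEquiv]
      calc Nat.card P = Nat.card (P.subgroupOf K) :=
            (Nat.card_congr (Subgroup.subgroupOfEquivOfLe hPC).toEquiv).symm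
        _ ≤ _ := Subgroup.card_le_of_le hQ'
    have hCR : C ≤ (R : Subgroup G) := fun c hc => hR ⟨⟨c, hc.2⟩, hQ (Subgroup.mem_subgroupOf.2 hc), rfl⟩
    have hxC : x ∈ C := ⟨hx, Subgroup.mem_centralizer_singleton_iff.2 rfl⟩
    by_cases hRS : R = S
    · refine hPQ.trans (Subgroup.card_le_of_le (le_inf (hRS ▸ hR) (Subgroup.map_subtype_le _)))
    exfalso
    obtain ⟨U, hU⟩ := hCI S R (Ne.symm hRS)
    have hZC : (Subgroup.center ↥(S : Subgroup G)).map (S : Subgroup G).subtype ≤ C := fun w hw =>
      ⟨((hmemZ S w).1 hw).1,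
        Subgroup.mem_centralizer_singleton_iff.2 (((hmemZ S w).1 hw).2 x hx).symm⟩
    have heq : (Subgroup.center ↥(S : Subgroup G)).map (S : Subgroup G).subtype = C :=
      Subgroup.eq_of_le_of_card_ge hZC ((Subgroup.card_le_of_le
        ((le_inf inf_le_left hCR).trans hU)).trans_eq (hZcard U S))
    have hxZ := (hmemZ S x).1 (heq ▸ hxC)
    have hSC : (S : Subgroup G) ≤ C := le_inf le_rfl fun s hs =>
      Subgroup.mem_centralizer_singleton_iff.2 (hxZ.2 s hs)
    exact hRS (Sylow.ext (Subgroup.eq_of_le_of_card_ge (hSC.trans hCR) (hcard R S).le).symm)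
  refine ⟨partA S, fun T hT => ?_⟩
  have hcentral : ∀ S T : Sylow 2 G, T ≠ S → (S : Subgroup G) ⊓ (T : Subgroup G) ≤
      (Subgroup.center ↥(S : Subgroup G)).map (S : Subgroup G).subtype := by
    intro S T hT w hw
    obtain ⟨U, hU⟩ := hCI S T (Ne.symm hT)
    have hwU := (hmemZ U w).1 (hU hw)
    have hle := partA S w hw.1 (U : Subgroup G) U.isPGroup' fun u hu =>
      Subgroup.mem_centralizer_singleton_iff.2 (hwU.2 u hu)
    rw [hcard U S] at hle
    have heq : (S : Subgroup G) ⊓ Subgroup.centralizer ({w} : Set G) = (S : Subgroup G) :=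
      Subgroup.eq_of_le_of_card_ge inf_le_left hle
    exact (hmemZ S w).2 ⟨hw.1, fun u hu => Subgroup.mem_centralizer_singleton_iff.1
      (inf_le_right (a := (S : Subgroup G)) (heq.symm ▸ hu))⟩
  exact le_inf (hcentral S T hT) (inf_comm (a := (S : Subgroup G)) (b := (T : Subgroup G)) ▸ hcentral T S (Ne.symm hT))

end Cfsg.Agent.S3183
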