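import Cfsg.Statements.S3184
import Cfsg.Agent.S3183
import Cfsg.Agent.S0215
import Mathlib

set_option autoImplicit false
open Cfsg

namespace Cfsg.Agent.S3184

/-- Let G be a finite group in which the intersection of any two distinct Sylow 2-subgroups is contained in the centre of some Sylow 2-subgroup, and let S be a Sylow 2-subgroup. If C is a nontrivial cyclic characteristic subgroup of S, then the involution of C is central modulo the largest normal subgroup of odd order of G: each of its conjugates has the same image in G/O(G). -/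
theorem result {G : Type*} [Group G] [Finite G]
    (hCI : ∀ S T : Sylow 2 G, S ≠ T → ∃ U : Sylow 2 G,
      (S : Subgroup G) ⊓ (T : Subgroup G) ≤ (Subgroup.center ↥(U : Subgroup G)).map (U : Subgroup G).subtype)
    (S : Sylow 2 G) (C : Subgroup ↥(S : Subgroup G)) (hC : C ≠ ⊥) (hCc : IsCyclic ↥C) (hCh : C.Characteristic)
    (c : ↥(S : Subgroup G)) (hc : c ∈ C) (hc2 : orderOf c = 2) :
    ∀ g : G, (QuotientGroup.mk (s := Cfsg.oddCore G) (g * (c : G) * g⁻¹)) =
      QuotientGroup.mk (s := Cfsg.oddCore G) (c : G) := by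
  classical
  obtain ⟨-, hI⟩ := Cfsg.Agent.S3183.result hCI S
  have hcu : ∀ φ : ↥(S : Subgroup G) ≃* ↥(S : Subgroup G), φ c = c := by
    intro φ
    have hm : φ c ∈ C := by
      rw [← hCh.fixed φ] at hc
      exact hc
    have : Fintype C := Fintype.ofFinite _
    have hinj := IsCyclic.card_orderOf_eq_totient (α := ↥C) (d := 2)
    have h1 : orderOf (⟨c, hc⟩ : C) = 2 := by rw [Subgroup.orderOf_mk]; exact hc2
    have h2 : orderOf (⟨φ c, hm⟩ : C) = 2 := by
      rw [Subgroup.orderOf_mk, MulEquiv.orderOf_eq]; exact hc2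
    have hcard := hinj ((dvd_of_eq h1.symm).trans orderOf_dvd_card)
    rw [Nat.totient_two] at hcard
    have := Finset.card_le_one.mp hcard.le ⟨φ c, hm⟩ (by simp [h2]) ⟨c, hc⟩ (by simp [h1])
    exact congrArg Subtype.val this
  have hcS : ∀ s ∈ (S : Subgroup G), s * (c : G) = (c : G) * s := fun s hs => by
    have := congrArg Subtype.val (hcu (MulAut.conj (⟨s, hs⟩ : ↥(S : Subgroup G))))
    simp only [MulAut.conj_apply, Subgroup.coe_mul, Subgroup.coe_inv] at this
    exact mul_inv_eq_iff_eq_mul.mp this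
  have hfix : ∀ n ∈ Subgroup.normalizer ((S : Subgroup G) : Set G), n * (c : G) * n⁻¹ = c := by
    intro n hn
    exact congrArg Subtype.val (hcu ((MulDistribMulAction.toMulEquiv ↥(S : Subgroup G)
      (⟨n, hn⟩ : Subgroup.normalizer ((S : Subgroup G) : Set G)))))
  have hiso : ∀ g : G, g * (c : G) * g⁻¹ ∈ (S : Subgroup G) → g * (c : G) * g⁻¹ = c := by
    intro g hg
    by_cases hT : g • S = S
    · exact hfix g (Sylow.smul_eq_iff_mem_normalizer.mp hT)
    have hxT : g * (c : G) * g⁻¹ ∈ ((g • S : Sylow 2 G) : Subgroup G) :=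
      ⟨c, c.2, rfl⟩
    obtain ⟨⟨z, hz, hzx⟩, -⟩ := hI (g • S) hT ⟨hg, hxT⟩
    have hxZ : g * (c : G) * g⁻¹ ∈ Subgroup.centralizer ((S : Subgroup G) : Set G) := by
      rw [← hzx]
      exact fun s hs => congrArg Subtype.val (Subgroup.mem_center_iff.mp hz ⟨s, hs⟩)
    obtain ⟨n, hn, he⟩ := S.conj_eq_normalizer_conj_of_mem_centralizer (c : G) g⁻¹
      (fun s hs => hcS s hs) (by rw [inv_inv]; exact hxZ)
    rw [inv_inv] at he
    rw [he]
    have := hfix n⁻¹ (inv_mem hn)
    rwa [inv_inv] at this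
  intro g
  obtain ⟨N, hN, hodd, hcomm⟩ := Cfsg.Agent.S0215.result S (c : G)
    ((orderOf_submonoid c).trans hc2) c.2 hiso
  have hle : N ≤ Cfsg.oddCore G := by
    have := hN
    apply CfsgLib.Base.le_oddCore
    exact hodd
  rw [QuotientGroup.eq]
  have h := hle (hcomm g)
  have h2 : (c : G) * (c : G) = 1 := by
    have := pow_orderOf_eq_one (c : G)
    rwa [orderOf_submonoid, hc2, sq] at this
  have hc' : (c : G)⁻¹ = c := inv_eq_of_mul_eq_one_right h2
  have hNn : (Cfsg.oddCore G).Normal := Cfsg.pPrimeCore_normal 2 G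
  have h3 := hNn.conj_mem _ h (c : G)
  convert h3 using 1
  simp only [mul_inv_rev, inv_inv, hc', mul_assoc]
  rw [← mul_assoc (c : G) (c : G), h2, one_mul]

end Cfsg.Agent.S3184
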