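import Cfsg.Statements.S3190
import Mathlib
import Cfsg.Agent.Lib.PGroups.Basic

set_option autoImplicit false
open Cfsg

namespace Cfsg.Agent.S3190

/-- Let p be an odd prime and, inside a finite group, let P be a p-subgroup normalized by a Klein four-group T. Let R be a subgroup of P, normal in P and normalized by T, such that P is the product of R with the centralizer of T in P. If T centralizes the centre of P, then T centralizes the centre of R. -/
theorem result {X : Type*} [Group X] [Finite X]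
    {p : ℕ} (hp : p.Prime) (hodd : Odd p) (P T R : Subgroup X) (hP : IsPGroup p ↥P) (hT : IsKleinFour ↥T)
    (hTP : T ≤ Subgroup.normalizer (P : Set X)) (hRP : R ≤ P) (hRn : (R.subgroupOf P).Normal)
    (hTR : T ≤ Subgroup.normalizer (R : Set X)) (hfac : R ⊔ (P ⊓ Subgroup.centralizer (T : Set X)) = P)
    (hZ : T ≤ Subgroup.centralizer (((Subgroup.center ↥P).map P.subtype : Subgroup X) : Set X)) :
    T ≤ Subgroup.centralizer (((Subgroup.center ↥R).map R.subtype : Subgroup X) : Set X) := by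
  classical
  haveI := Fact.mk hp
  intro t ht
  haveI := hT
  have htt : t * t = 1 := by
    have := Monoid.pow_exponent_eq_one (⟨t, ht⟩ : T)
    rw [IsKleinFour.exponent_two, sq] at this
    exact congrArg Subtype.val this
  have hti : t⁻¹ = t := inv_eq_of_mul_eq_one_left htt
  refine Subgroup.mem_centralizer_iff.2 ?_
  rintro _ ⟨⟨z, hzR⟩, hz, rfl⟩
  set ZR := (Subgroup.center ↥R).map R.subtype with hZR
  have hmem : ∀ w, w ∈ ZR ↔ w ∈ R ∧ ∀ r ∈ R, r * w = w * r := fun w => by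
    constructor
    · rintro ⟨⟨v, hv⟩, hv', rfl⟩
      exact ⟨hv, fun r hr => congrArg Subtype.val (Subgroup.mem_center_iff.1 hv' ⟨r, hr⟩)⟩
    · exact fun h => ⟨⟨w, h.1⟩, Subgroup.mem_center_iff.2 fun r => Subtype.ext (h.2 r r.2), rfl⟩
  have hzZ : z ∈ ZR := ⟨⟨z, hzR⟩, hz, rfl⟩
  have hnorm : ∀ g : X, g ∈ Subgroup.normalizer (R : Set X) → ∀ w ∈ ZR, g * w * g⁻¹ ∈ ZR := by
    intro g hg w hw
    obtain ⟨h1, h2⟩ := (hmem w).1 hw
    refine (hmem _).2 ⟨(Subgroup.mem_normalizer_iff.1 hg w).1 h1, fun r hr => ?_⟩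
    have h3 := h2 (g⁻¹ * r * g) ((Subgroup.mem_normalizer_iff''.1 hg r).1 hr)
    calc r * (g * w * g⁻¹) = g * ((g⁻¹ * r * g) * w) * g⁻¹ := by group
      _ = g * (w * (g⁻¹ * r * g)) * g⁻¹ := by rw [h3]
      _ = g * w * g⁻¹ * r := by group
  -- the elements of `Z(R)` inverted by `t`
  let I : Subgroup X :=
    { carrier := {w | w ∈ ZR ∧ t * w * t⁻¹ = w⁻¹}
      one_mem' := ⟨one_mem _, by group⟩
      mul_mem' := fun {a b} ha hb => ⟨mul_mem ha.1 hb.1, by
        have hab : a * b = b * a := ((hmem b).1 hb.1).2 a ((hmem a).1 ha.1).1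
        rw [show t * (a * b) * t⁻¹ = (t * a * t⁻¹) * (t * b * t⁻¹) by group, ha.2, hb.2,
          ← mul_inv_rev, hab]⟩
      inv_mem' := fun {a} ha => ⟨inv_mem ha.1, by rw [← conj_inv, ha.2]⟩ }
  have hIP : I ≤ P := fun w hw => hRP ((hmem w).1 hw.1).1
  have hIn : (I.subgroupOf P).Normal := by
    refine Subgroup.normal_subgroupOf_of_le_normalizer ?_
    rw [← hfac]
    have h1 : ∀ g ∈ R, ∀ w ∈ I, g * w * g⁻¹ ∈ I := fun g hg w hw => by
      rw [((hmem w).1 hw.1).2 g hg, mul_inv_cancel_right]; exact hw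
    have h2 : ∀ g ∈ P ⊓ Subgroup.centralizer (T : Set X), ∀ w ∈ I, g * w * g⁻¹ ∈ I := fun g hg w hw => by
      have hgR : g ∈ Subgroup.normalizer (R : Set X) :=
        (Subgroup.normal_subgroupOf_iff_le_normalizer hRP).1 hRn hg.1
      have hgt : t * g = g * t := Subgroup.mem_centralizer_iff.1 hg.2 t ht
      refine ⟨hnorm g hgR w hw.1, ?_⟩
      calc t * (g * w * g⁻¹) * t⁻¹ = (t * g) * w * (t * g)⁻¹ := by group
        _ = g * (t * w * t⁻¹) * g⁻¹ := by rw [hgt]; group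
        _ = (g * w * g⁻¹)⁻¹ := by rw [hw.2]; group
    have hsub : ∀ U : Subgroup X, (∀ g ∈ U, ∀ w ∈ I, g * w * g⁻¹ ∈ I) → U ≤ Subgroup.normalizer (I : Set X) :=
      fun U hU g hg => Subgroup.mem_normalizer_iff.2 fun w => ⟨hU g hg w, fun h => by
        have := hU g⁻¹ (inv_mem hg) _ h
        rwa [show g⁻¹ * (g * w * g⁻¹) * g⁻¹⁻¹ = w by group] at this⟩
    exact sup_le (hsub R h1) (hsub _ h2)
  by_contra hne
  have hgoal : z * t ≠ t * z := hne
  set w := z * (t * z * t⁻¹)⁻¹ with hw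
  have htN : t ∈ Subgroup.normalizer (R : Set X) := hTR ht
  have hwI : w ∈ I := by
    refine ⟨mul_mem hzZ (inv_mem (hnorm t htN z hzZ)), ?_⟩
    rw [hw, hti]
    calc t * (z * (t * z * t)⁻¹) * t = (t * z * t⁻¹) * z⁻¹ := by group
      _ = (z * (t * z * t)⁻¹)⁻¹ := by rw [hti]; group
  have hw1 : w ≠ 1 := fun h => hgoal (by
    rw [hw, mul_inv_eq_one] at h
    calc z * t = t * z * t⁻¹ * t := by rw [← h]
      _ = t * z := inv_mul_cancel_right _ _)
  haveI := hIn
  have hIbot : I.subgroupOf P ≠ ⊥ := fun h => hw1 (by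
    have : (⟨w, hIP hwI⟩ : P) ∈ I.subgroupOf P := hwI
    rw [h, Subgroup.mem_bot] at this
    exact congrArg Subtype.val this)
  obtain ⟨u, ⟨huI, huZ⟩, hu1⟩ := (Subgroup.bot_or_exists_ne_one _).resolve_left
    (CfsgLib.PGroups.inf_center_ne_bot hP hIbot)
  have h3 : t * (u : X) = (u : X) * t := (Subgroup.mem_centralizer_iff.1 (hZ ht) (u : X) ⟨u, huZ, rfl⟩).symm
  have huI' : t * (u : X) * t⁻¹ = (u : X)⁻¹ := (Subgroup.mem_subgroupOf.1 huI).2
  rw [h3, mul_inv_cancel_right, eq_inv_iff_mul_eq_one] at huI'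
  have h4 : (u : X) ^ 2 = 1 := by rw [sq]; exact huI'
  obtain ⟨k, hk⟩ := IsPGroup.iff_orderOf.1 hP u
  have h5 := Nat.dvd_gcd (orderOf_dvd_of_pow_eq_one h4) (dvd_of_eq ((Subgroup.orderOf_coe u).trans hk))
  rw [(Nat.Coprime.pow_right k (Nat.coprime_two_left.2 hodd)).gcd_eq_one] at h5
  exact hu1 (Subtype.ext (orderOf_eq_one_iff.1 (Nat.dvd_one.1 h5)))

end Cfsg.Agent.S3190
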