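import Cfsg.Statements.S3200
import Cfsg.Agent.Lib.SolvStruct.KegelWielandt.General
import Cfsg.Agent.Lib.Coprime.Hall

set_option autoImplicit false
open Cfsg

namespace Cfsg.Agent.S3200

/-- Let H be a finite group in which a Sylow 2-subgroup has an abelian complement (an abelian subgroup meeting it trivially whose product with it is all of H). Then H is solvable, and every subgroup and every quotient group of H again has a Sylow 2-subgroup with an abelian complement. -/
theorem result {H : Type*} [Group H] [Finite H]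
    (S : Sylow 2 H) (C : Subgroup H) (hC : IsMulCommutative ↥C) (hSC : Subgroup.IsComplement' (S : Subgroup H) C) :
    Group.IsSolvable H ∧
    (∀ L : Subgroup H, ∃ (P : Sylow 2 ↥L) (D : Subgroup ↥L), IsMulCommutative ↥D ∧ Subgroup.IsComplement' (P : Subgroup ↥L) D) ∧
    (∀ (N : Subgroup H) [N.Normal], ∃ (P : Sylow 2 (H ⧸ N)) (D : Subgroup (H ⧸ N)),
      IsMulCommutative ↥D ∧ Subgroup.IsComplement' (P : Subgroup (H ⧸ N)) D) := by
  classical
  have hcard : Nat.card (S : Subgroup H) * Nat.card C = Nat.card H := hSC.card_mul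
  have hCi : Nat.card C = (S : Subgroup H).index := hSC.symm.index_eq_card.symm
  have hCodd : (Nat.card C).Coprime 2 := by
    rw [hCi]
    exact ((Nat.prime_two.coprime_iff_not_dvd).2 S.not_dvd_index).symm
  have hmem : ∀ g : H, ∃ a ∈ (S : Subgroup H), ∃ c ∈ C, g = a * c := fun g => by
    obtain ⟨⟨⟨a, ha⟩, ⟨c, hc⟩⟩, rfl⟩ := (show Function.Bijective _ from hSC).2 g
    exact ⟨a, ha, c, hc, rfl⟩
  haveI := hC
  have hsol : Group.IsSolvable H := CfsgLib.SolvStruct.KW.isSolvable_of_nilpotent_mul _ rfl (S : Subgroup H) C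
    S.isPGroup'.isNilpotent (by letI : CommGroup C := { (inferInstance : Group C) with mul_comm := hC.is_comm.comm }; infer_instance) hmem
  refine ⟨hsol, fun L => ?_, fun N _ => ?_⟩
  · haveI := hsol
    have hCHall : Cfsg.IsPiHall {2}ᶜ C := by
      refine (CfsgLib.Coprime.piHall_compl_iff Nat.prime_two).2 ⟨hCodd, ?_⟩
      obtain ⟨n, hn⟩ := IsPGroup.iff_card.1 S.isPGroup'
      refine ⟨n, ?_⟩
      rw [← hn]
      refine Nat.eq_of_mul_eq_mul_left (Nat.card_pos (α := C)) ?_
      rw [C.card_mul_index, ← hcard, mul_comm]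
    obtain ⟨D, hD, -⟩ := CfsgLib.Coprime.hallD_of_solvable (G := L) ({2}ᶜ)
    obtain ⟨hDo, n, hn⟩ := (CfsgLib.Coprime.piHall_compl_iff Nat.prime_two).1 hD
    obtain ⟨P⟩ : Nonempty (Sylow 2 L) := inferInstance
    refine ⟨P, D, ?_, ?_⟩
    · obtain ⟨g, hg⟩ := (CfsgLib.Coprime.hallD_of_solvable (G := H) ({2}ᶜ)).conj_le (U := D.map L.subtype)
        (by
          refine (CfsgLib.Coprime.piSubgroup_compl_iff Nat.prime_two).2 ?_
          rw [Subgroup.card_map_of_injective L.subtype_injective]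
          exact hDo) hCHall
      refine ⟨⟨fun a b => ?_⟩⟩
      have hm : ∀ d : D, g * ((d : L) : H) * g⁻¹ ∈ C := fun d => hg ⟨_, ⟨_, d.2, rfl⟩, rfl⟩
      have h := congrArg Subtype.val (hC.is_comm.comm (⟨_, hm a⟩ : C) ⟨_, hm b⟩)
      change g * ((a : L) : H) * g⁻¹ * (g * ((b : L) : H) * g⁻¹) = g * ((b : L) : H) * g⁻¹ * (g * ((a : L) : H) * g⁻¹) at h
      rw [show g * ((a : L) : H) * g⁻¹ * (g * ((b : L) : H) * g⁻¹) = g * (((a : L) : H) * ((b : L) : H)) * g⁻¹ by group,
        show g * ((b : L) : H) * g⁻¹ * (g * ((a : L) : H) * g⁻¹) = g * (((b : L) : H) * ((a : L) : H)) * g⁻¹ by group] at h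
      exact Subtype.ext (Subtype.ext (mul_left_cancel (mul_right_cancel h)))
    · obtain ⟨m, hm⟩ := IsPGroup.iff_card.1 P.isPGroup'
      refine Subgroup.isComplement'_of_coprime ?_ (by rw [hm]; exact hDo.symm.pow_left m)
      have h1 : Nat.card D * 2 ^ n = Nat.card L := hn ▸ D.card_mul_index
      have h2 : Nat.card (P : Subgroup L) * (P : Subgroup L).index = Nat.card L := Subgroup.card_mul_index _
      rw [hm] at h2 ⊢
      have h3 : Nat.card D = (P : Subgroup L).index := by
        refine Nat.dvd_antisymm ?_ ?_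
        · exact (hDo.pow_right m).dvd_of_dvd_mul_left ⟨2 ^ n, by rw [h2, h1]⟩
        · exact (((Nat.prime_two.coprime_iff_not_dvd).2 P.not_dvd_index).symm.pow_right n).dvd_of_dvd_mul_right
            ⟨2 ^ m, by rw [h1, ← h2, mul_comm]⟩
      rw [h3, h2]
  · set f := QuotientGroup.mk' N
    refine ⟨S.mapSurjective (QuotientGroup.mk'_surjective N), C.map f, inferInstance, ?_⟩
    have hcop : (Nat.card ↥((S : Subgroup H).map f)).Coprime (Nat.card ↥(C.map f)) := by
      obtain ⟨n, hn⟩ := IsPGroup.iff_card.1 (S.isPGroup'.map f)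
      rw [hn]
      exact (hCodd.coprime_dvd_left (Subgroup.card_dvd_of_surjective (f.subgroupMap C) (f.subgroupMap_surjective C))).symm.pow_left n
    rw [Sylow.coe_mapSurjective]
    refine Subgroup.isComplement'_of_coprime (Nat.dvd_antisymm ?_ ?_) hcop
    · exact hcop.mul_dvd_of_dvd_of_dvd (Subgroup.card_subgroup_dvd_card _) (Subgroup.card_subgroup_dvd_card _)
    · have hle : Nat.card (H ⧸ N) ≤ Nat.card ↥((S : Subgroup H).map f) * Nat.card ↥(C.map f) := by
        rw [← Nat.card_prod]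
        refine Nat.card_le_card_of_surjective (fun u => (u.1 : H ⧸ N) * u.2) fun q => ?_
        obtain ⟨g, rfl⟩ := QuotientGroup.mk'_surjective N q
        obtain ⟨a, ha, c, hc, rfl⟩ := hmem g
        exact ⟨(⟨f a, a, ha, rfl⟩, ⟨f c, c, hc, rfl⟩), (map_mul f a c).symm⟩
      have hd := hcop.mul_dvd_of_dvd_of_dvd (Subgroup.card_subgroup_dvd_card ((S : Subgroup H).map f)) (Subgroup.card_subgroup_dvd_card (C.map f))
      exact (Nat.eq_of_dvd_of_lt_two_mul Nat.card_pos.ne' hd (by
        have := Nat.card_pos (α := ↥((S : Subgroup H).map f))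
        have := Nat.card_pos (α := ↥(C.map f))
        nlinarith)).dvd

end Cfsg.Agent.S3200
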