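import Cfsg.Statements.S3201
import Cfsg.Agent.Lib.Involutions.QuaternionCentralExt

set_option autoImplicit false
open Cfsg

namespace Cfsg.Agent.S3201

/-- Let S be a finite 2-group whose centre Z(S) has n ≥ 2 distinct maximal subgroups C₁, …, Cₙ with trivial intersection such that each quotient S/Cᵢ is a non-abelian group with exactly one involution (a generalized quaternion group). Then S is the internal direct product of an elementary abelian subgroup and a non-abelian subgroup with exactly one involution. -/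
theorem result {S : Type*} [Group S] [Finite S]
    (hS : IsPGroup 2 S) (n : ℕ) (hn : 2 ≤ n) (C : Fin n → Subgroup ↥(Subgroup.center S))
    (hCmax : ∀ i, IsCoatom (C i)) (hCinj : Function.Injective C) (hCint : ⨅ i, C i = ⊥)
    (hCq : ∀ i, ∃ (_ : ((C i).map (Subgroup.center S).subtype).Normal),
      ¬ IsMulCommutative (S ⧸ (C i).map (Subgroup.center S).subtype) ∧
      ∃! x : S ⧸ (C i).map (Subgroup.center S).subtype, orderOf x = 2) :
    ∃ E Q : Subgroup S, Cfsg.IsInternalDirectProduct E Q ⊤ ∧ Cfsg.IsElementaryAbelian 2 E ∧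
      ¬ IsMulCommutative ↥Q ∧ ∃! x : ↥Q, orderOf x = 2 := by
  have hsq : ∀ i (x : S), x ^ 2 ∈ (C i).map (Subgroup.center S).subtype → x ∈ Subgroup.center S := by
    intro i x hx
    obtain ⟨hi, -, hu⟩ := hCq i
    exact CfsgLib.Involutions.QuatExt.mem_center_of_sq hS (hCmax i) hu hx
  obtain ⟨h0, hna, hu⟩ := hCq ⟨0, by omega⟩
  obtain ⟨a, b, M, h⟩ := CfsgLib.Involutions.QuatExt.exists_gens hS (hCmax _) hna hu
  obtain ⟨E, Q, hEZ, hE2, hinf, hsup, haQ, hbQ, hne, ζ, hζQ, hζ2, hζu⟩ :=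
    CfsgLib.Involutions.QuatExt.exists_split C (by omega) hS hCmax hCint hsq h
  refine ⟨E, Q, ⟨le_top, le_top, fun x hx y _ => (Subgroup.mem_center_iff.1 (hEZ x hx) y).symm, hinf, hsup⟩,
    ⟨⟨⟨fun x y => Subtype.ext (Subgroup.mem_center_iff.1 (hEZ y y.2) x)⟩⟩, hE2⟩,
    fun hc => hne (congrArg Subtype.val (hc.1.1 (⟨a, haQ⟩ : Q) ⟨b, hbQ⟩)), ⟨ζ, hζQ⟩, ?_, ?_⟩
  · exact (Subgroup.orderOf_mk ..).trans hζ2
  · intro x hx
    have h1 : (x : S) ^ 2 = 1 := by
      rw [← hx, ← Subgroup.orderOf_coe, pow_orderOf_eq_one]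
    refine Subtype.ext ((hζu x x.2 h1).resolve_left fun he => ?_)
    rw [← Subgroup.orderOf_coe, he, orderOf_one] at hx
    omega

end Cfsg.Agent.S3201
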