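import Cfsg.Statements.S3203
import Mathlib
import Cfsg.Agent.Lib.Transfer.Fusion

set_option autoImplicit false
open Cfsg

namespace Cfsg.Agent.S3203

/-- Let S be a Sylow 2-subgroup of a finite group G having exactly two subgroups A ≠ B that are maximal among its elementary abelian subgroups, with S = AB. Then A and B are each weakly closed in S with respect to G, and the normalizer of S normalizes both A and B. -/
theorem result {G : Type*} [Group G] [Finite G] (S : Sylow 2 G)
    (A B : Subgroup ↥(S : Subgroup G)) (hAB : A ≠ B)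
    (hA : Cfsg.IsElementaryAbelian 2 A ∧ ∀ C : Subgroup ↥(S : Subgroup G), Cfsg.IsElementaryAbelian 2 C → A ≤ C → C = A)
    (hB : Cfsg.IsElementaryAbelian 2 B ∧ ∀ C : Subgroup ↥(S : Subgroup G), Cfsg.IsElementaryAbelian 2 C → B ≤ C → C = B)
    (honly : ∀ C : Subgroup ↥(S : Subgroup G), Cfsg.IsElementaryAbelian 2 C →
      (∀ D : Subgroup ↥(S : Subgroup G), Cfsg.IsElementaryAbelian 2 D → C ≤ D → D = C) → C = A ∨ C = B)
    (hprod : ∀ s : ↥(S : Subgroup G), ∃ a ∈ A, ∃ b ∈ B, a * b = s)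
    (A' B' : Subgroup G) (hA' : A' = A.map (S : Subgroup G).subtype) (hB' : B' = B.map (S : Subgroup G).subtype) :
    Cfsg.IsWeaklyClosed A' (S : Subgroup G) ∧ Cfsg.IsWeaklyClosed B' (S : Subgroup G) ∧
      Subgroup.normalizer ((S : Subgroup G) : Set G) ≤ Subgroup.normalizer (A' : Set G) ⊓ Subgroup.normalizer (B' : Set G) := by
  classical
  -- existence of maximal elementary abelian subgroups
  have hmax : ∀ C : Subgroup (S : Subgroup G), Cfsg.IsElementaryAbelian 2 C → C ≤ A ∨ C ≤ B := by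
    intro C hC
    obtain ⟨D, hCD, hD⟩ := Finite.exists_le_maximal (p := fun D : Subgroup (S : Subgroup G) => Cfsg.IsElementaryAbelian 2 D) hC
    rcases honly D hD.prop (fun E hE hDE => le_antisymm (hD.le_of_ge hE hDE) hDE) with h | h
    · exact Or.inl (h ▸ hCD)
    · exact Or.inr (h ▸ hCD)
  have hcA : ∀ a ∈ A, ∀ b ∈ A, a * b = b * a :=
    fun a ha b hb => congrArg Subtype.val (hA.1.1.is_comm.comm ⟨a, ha⟩ ⟨b, hb⟩)
  have hcB : ∀ a ∈ B, ∀ b ∈ B, a * b = b * a :=
    fun a ha b hb => congrArg Subtype.val (hB.1.1.is_comm.comm ⟨a, ha⟩ ⟨b, hb⟩)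
  -- conjugation preserves maximality
  have hconj : ∀ s : (S : Subgroup G), A.map (MulAut.conj s).toMonoidHom = A ∧ B.map (MulAut.conj s).toMonoidHom = B := by
    have he : ∀ (s : (S : Subgroup G)) (D : Subgroup (S : Subgroup G)), Cfsg.IsElementaryAbelian 2 D →
        Cfsg.IsElementaryAbelian 2 (D.map (MulAut.conj s).toMonoidHom) := fun s D hD =>
      ⟨haveI := hD.1; inferInstance, by
        rintro _ ⟨d, hd, rfl⟩
        rw [← map_pow, hD.2 d hd, map_one]⟩
    have key : ∀ (X Y : Subgroup (S : Subgroup G)), Cfsg.IsElementaryAbelian 2 X →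
        (∀ C : Subgroup (S : Subgroup G), Cfsg.IsElementaryAbelian 2 C → X ≤ C → C = X) →
        (∀ C : Subgroup (S : Subgroup G), Cfsg.IsElementaryAbelian 2 C → C ≤ X ∨ C ≤ Y) →
        (∀ x ∈ X, ∀ x' ∈ X, x * x' = x' * x) → (∀ x ∈ Y, ∀ x' ∈ Y, x * x' = x' * x) → X ≠ Y →
        (∀ s : (S : Subgroup G), ∃ x ∈ X, ∃ y ∈ Y, x * y = s) → Cfsg.IsElementaryAbelian 2 Y →
        (∀ C : Subgroup (S : Subgroup G), Cfsg.IsElementaryAbelian 2 C → Y ≤ C → C = Y) →
        ∀ s : (S : Subgroup G), X.map (MulAut.conj s).toMonoidHom = X := by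
      intro X Y hX hXm hXY hcX hcY hne hp hY hYm s
      obtain ⟨x, hx, y, hy, rfl⟩ := hp s
      have h1 : X.map (MulAut.conj x).toMonoidHom = X := by
        refine Subgroup.eq_of_le_of_card_ge ?_ (Subgroup.card_map_of_injective (MulAut.conj x).injective).ge
        rintro _ ⟨u, hu, rfl⟩
        exact X.mul_mem (X.mul_mem hx hu) (X.inv_mem hx)
      have h2 : X.map (MulAut.conj y).toMonoidHom = X := by
        rcases hXY _ (he y X hX) with h | h
        · exact Subgroup.eq_of_le_of_card_ge h (Subgroup.card_map_of_injective (MulAut.conj y).injective).ge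
        · exfalso
          have hle : X ≤ Y := fun u hu => by
            have hu' : y * u * y⁻¹ ∈ Y := h ⟨u, hu, rfl⟩
            have := Y.mul_mem (Y.mul_mem (Y.inv_mem hy) hu') hy
            rwa [show y⁻¹ * (y * u * y⁻¹) * y = u by group] at this
          exact hne (hXm Y hY hle).symm
      rw [map_mul, show ((MulAut.conj x * MulAut.conj y : MulAut (S : Subgroup G))).toMonoidHom =
        (MulAut.conj x).toMonoidHom.comp (MulAut.conj y).toMonoidHom from rfl, ← Subgroup.map_map, h2, h1]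
    exact fun s => ⟨key A B hA.1 hA.2 hmax hcA hcB hAB hprod hB.1 hB.2 s,
      key B A hB.1 hB.2 (fun C hC => (hmax C hC).symm) hcB hcA (Ne.symm hAB)
        (fun t => by
          obtain ⟨a, ha, b, hb, h⟩ := hprod t⁻¹
          exact ⟨b⁻¹, B.inv_mem hb, a⁻¹, A.inv_mem ha, by rw [← mul_inv_rev, h, inv_inv]⟩) hA.1 hA.2 s⟩
  have hTN : ∀ (X : Subgroup (S : Subgroup G)), (∀ s : (S : Subgroup G), X.map (MulAut.conj s).toMonoidHom = X) →
      (S : Subgroup G) ≤ Subgroup.normalizer ((X.map (S : Subgroup G).subtype : Subgroup G) : Set G) := by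
    intro X hX s hs
    refine Subgroup.mem_normalizer_iff.2 fun u => ⟨?_, ?_⟩
    · rintro ⟨v, hv, rfl⟩
      exact ⟨⟨s, hs⟩ * v * ⟨s, hs⟩⁻¹, (hX ⟨s, hs⟩).le ⟨v, hv, rfl⟩, rfl⟩
    · rintro ⟨v, hv, e⟩
      refine ⟨⟨s, hs⟩⁻¹ * v * ⟨s, hs⟩, (hX ⟨s, hs⟩⁻¹).le ⟨v, hv, by simp⟩, ?_⟩
      show s⁻¹ * (v : G) * s = u
      rw [show (v : G) = s * u * s⁻¹ from e]
      group
  have hAN := hTN A fun s => (hconj s).1
  have hBN := hTN B fun s => (hconj s).2
  -- `N(S)` fixes `A` and `B`
  have himage : ∀ n ∈ Subgroup.normalizer ((S : Subgroup G) : Set G), ∀ (X : Subgroup (S : Subgroup G)), Cfsg.IsElementaryAbelian 2 X →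
      (X.map (S : Subgroup G).subtype).map (MulAut.conj n).toMonoidHom ≤ A' ∨
      (X.map (S : Subgroup G).subtype).map (MulAut.conj n).toMonoidHom ≤ B' := by
    intro n hn X hX
    have hle : (X.map (S : Subgroup G).subtype).map (MulAut.conj n).toMonoidHom ≤ (S : Subgroup G) := by
      rintro _ ⟨_, ⟨v, -, rfl⟩, rfl⟩
      exact (Subgroup.mem_normalizer_iff.1 hn _).1 v.2
    rw [← Subgroup.map_subgroupOf_eq_of_le hle, hA', hB']
    haveI := hX.1
    refine (hmax _ ⟨inferInstance, ?_⟩).imp (fun h => Subgroup.map_mono h) (fun h => Subgroup.map_mono h)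
    intro v hv
    obtain ⟨_, ⟨w, hw, rfl⟩, e⟩ := Subgroup.mem_subgroupOf.1 hv
    refine Subtype.ext ?_
    show (v : G) ^ 2 = 1
    rw [← e, ← map_pow, ← map_pow, hX.2 w hw, map_one, map_one]
  have hcard' : ∀ (n : G) (X : Subgroup G), Nat.card (X.map (MulAut.conj n).toMonoidHom) = Nat.card X :=
    fun n X => Subgroup.card_map_of_injective (MulAut.conj n).injective
  have hne' : A' ≠ B' := fun h => hAB (Subgroup.map_injective (S : Subgroup G).subtype_injective (hA' ▸ hB' ▸ h))
  have hnotle : ¬ A' ≤ B' ∧ ¬ B' ≤ A' := ⟨fun h => hAB (hA.2 B hB.1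
      ((Subgroup.map_le_map_iff_of_injective (S : Subgroup G).subtype_injective).1 (hA' ▸ hB' ▸ h))).symm,
    fun h => hAB (hB.2 A hA.1
      ((Subgroup.map_le_map_iff_of_injective (S : Subgroup G).subtype_injective).1 (hA' ▸ hB' ▸ h)))⟩
  have hN : ∀ n ∈ Subgroup.normalizer ((S : Subgroup G) : Set G),
      A'.map (MulAut.conj n).toMonoidHom = A' ∧ B'.map (MulAut.conj n).toMonoidHom = B' := by
    intro n hn
    -- `n` either fixes or swaps; a swap would have even order on `{A', B'}`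
    have hcase : ∀ n ∈ Subgroup.normalizer ((S : Subgroup G) : Set G),
        (A'.map (MulAut.conj n).toMonoidHom ≤ A' ∧ B'.map (MulAut.conj n).toMonoidHom ≤ B') ∨
        (A'.map (MulAut.conj n).toMonoidHom ≤ B' ∧ B'.map (MulAut.conj n).toMonoidHom ≤ A') := by
      intro n hn
      have h1 := himage n hn A hA.1
      have h2 := himage n hn B hB.1
      rw [← hA'] at h1
      rw [← hB'] at h2
      have hback : ∀ X Y Z : Subgroup G, X.map (MulAut.conj n).toMonoidHom ≤ Z →
          Y.map (MulAut.conj n).toMonoidHom ≤ Z → Z = A' ∨ Z = B' → X = A' → Y = B' → False := by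
        intro X Y Z hX hY hZ eX eY
        rw [eX] at hX
        rw [eY] at hY
        rcases hZ with hZ | hZ <;> rw [hZ] at hX hY
        · refine hnotle.2 ((Subgroup.map_le_map_iff_of_injective (f := (MulAut.conj n).toMonoidHom) (MulAut.conj n).injective).1 ?_)
          rw [show A'.map (MulAut.conj n).toMonoidHom = A' from
            Subgroup.eq_of_le_of_card_ge hX (hcard' n A').ge]
          exact hY
        · refine hnotle.1 ((Subgroup.map_le_map_iff_of_injective (f := (MulAut.conj n).toMonoidHom) (MulAut.conj n).injective).1 ?_)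
          rw [show B'.map (MulAut.conj n).toMonoidHom = B' from
            Subgroup.eq_of_le_of_card_ge hY (hcard' n B').ge]
          exact hX
      rcases h1 with h1 | h1 <;> rcases h2 with h2 | h2
      · exact (hback A' B' A' h1 h2 (Or.inl rfl) rfl rfl).elim
      · exact Or.inl ⟨h1, h2⟩
      · exact Or.inr ⟨h1, h2⟩
      · exact (hback A' B' B' h1 h2 (Or.inr rfl) rfl rfl).elim
    rcases hcase n hn with h | h
    · exact ⟨Subgroup.eq_of_le_of_card_ge h.1 (hcard' n A').ge, Subgroup.eq_of_le_of_card_ge h.2 (hcard' n B').ge⟩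
    exfalso
    have e1 : A'.map (MulAut.conj n).toMonoidHom = B' := Subgroup.eq_of_le_of_card_ge h.1 (by
      rw [hcard']; exact (Subgroup.card_le_of_le h.2).trans_eq' (hcard' n B'))
    -- split `n` into its 2-part, which lies in `S`, and its odd part
    obtain ⟨u, hu, v, hv, huv, ⟨k, hk⟩, hv2⟩ := CfsgLib.Transfer.exists_pPart_mul (p := 2) n
    have huN : u ∈ Subgroup.normalizer ((S : Subgroup G) : Set G) := Subgroup.zpowers_le.2 hn hu
    have hvN : v ∈ Subgroup.normalizer ((S : Subgroup G) : Set G) := Subgroup.zpowers_le.2 hn hv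
    have huT : u ∈ (S : Subgroup G) := by
      have hp : IsPGroup 2 ↥((S : Subgroup G) ⊔ Subgroup.zpowers u) := by
        refine IsPGroup.to_sup_of_normal_left' S.isPGroup' ?_ (Subgroup.zpowers_le.2 huN)
        obtain ⟨i, -, hi⟩ := (Nat.dvd_prime_pow Nat.prime_two).1 hk
        exact IsPGroup.of_card (n := i) (by rw [Nat.card_zpowers, hi])
      rw [← S.is_maximal' hp le_sup_left]
      exact (le_sup_right : Subgroup.zpowers u ≤ (S : Subgroup G) ⊔ Subgroup.zpowers u) (Subgroup.mem_zpowers u)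
    have hmm : ∀ a b : G, ∀ X : Subgroup G, X.map (MulAut.conj (a * b)).toMonoidHom =
        (X.map (MulAut.conj b).toMonoidHom).map (MulAut.conj a).toMonoidHom := fun a b X => by
      rw [Subgroup.map_map, map_mul]; rfl
    have hfix : ∀ X : Subgroup G, (S : Subgroup G) ≤ Subgroup.normalizer (X : Set G) → X.map (MulAut.conj u).toMonoidHom = X :=
      fun X hX => by
        ext w
        rw [Subgroup.mem_map_equiv, MulAut.conj_symm_apply]
        exact ((Subgroup.mem_normalizer_iff''.1 (hX huT)) w).symm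
    have ev : A'.map (MulAut.conj v).toMonoidHom = B' := by
      rcases hcase v hvN with h' | h'
      · have e2 := Subgroup.eq_of_le_of_card_ge h'.1 (hcard' v A').ge
        rw [← huv, hmm, e2, hfix A' (hA' ▸ hAN)] at e1
        exact absurd e1 hne'
      · exact Subgroup.eq_of_le_of_card_ge h'.1 (by
          rw [hcard']; exact (Subgroup.card_le_of_le h'.2).trans_eq' (hcard' v B'))
    have ev' : B'.map (MulAut.conj v).toMonoidHom = A' := by
      rcases hcase v hvN with h' | h'
      · exact absurd ((Subgroup.eq_of_le_of_card_ge h'.1 (hcard' v A').ge).symm.trans ev) hne'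
      · exact Subgroup.eq_of_le_of_card_ge h'.2 (by
          rw [hcard']; exact (Subgroup.card_le_of_le h'.1).trans_eq' (hcard' v A'))
    have hper : ∀ i : ℕ, A'.map (MulAut.conj (v ^ (2 * i + 1))).toMonoidHom = B' := by
      intro i
      induction i with
      | zero => simpa using ev
      | succ i ih =>
        rw [show 2 * (i + 1) + 1 = (2 * i + 1) + 2 by ring, pow_add, pow_two, hmm, hmm, ev, ev', ih]
    obtain ⟨i, hi⟩ : Odd (orderOf v) := Nat.coprime_two_left.1 hv2.symm
    have h1 := hper i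
    rw [← hi, pow_orderOf_eq_one, map_one] at h1
    exact hne' ((Subgroup.map_id A').symm.trans h1)
  -- weak closure
  have weak : ∀ (X Y : Subgroup G), X ≤ (S : Subgroup G) → Y ≤ (S : Subgroup G) → (S : Subgroup G) ≤ Subgroup.normalizer (X : Set G) →
      (S : Subgroup G) ≤ Subgroup.normalizer (Y : Set G) → X ≠ Y → IsPGroup 2 Y →
      (∀ g : G, X.map (MulAut.conj g).toMonoidHom ≤ (S : Subgroup G) →
        X.map (MulAut.conj g).toMonoidHom ≤ X ∨ X.map (MulAut.conj g).toMonoidHom ≤ Y) →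
      (∀ t ∈ (S : Subgroup G), t ∈ Subgroup.centralizer (X : Set G) → t ∈ X) →
      (∀ a ∈ Y, ∀ b ∈ Y, a * b = b * a) →
      (∀ n ∈ Subgroup.normalizer ((S : Subgroup G) : Set G), X.map (MulAut.conj n).toMonoidHom = X) →
      Cfsg.IsWeaklyClosed X (S : Subgroup G) := by
    intro X Y hXT hYT hXN hYN hne hY2 hcase hself hYc hNX
    refine ⟨hXT, fun g hg => ?_⟩
    rcases hcase g hg with h | h
    · exact Subgroup.eq_of_le_of_card_ge h (hcard' g X).ge
    exfalso
    set Y₀ := Y.map (MulAut.conj g⁻¹).toMonoidHom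
    have hY₀C : Y₀ ≤ Subgroup.centralizer (X : Set G) := by
      rintro _ ⟨w, hw, rfl⟩
      refine Subgroup.mem_centralizer_iff.2 fun a ha => ?_
      have h1 : g * a * g⁻¹ ∈ Y := h ⟨a, ha, rfl⟩
      show a * (g⁻¹ * w * g⁻¹⁻¹) = g⁻¹ * w * g⁻¹⁻¹ * a
      calc a * (g⁻¹ * w * g⁻¹⁻¹) = g⁻¹ * ((g * a * g⁻¹) * w) * g := by group
        _ = g⁻¹ * (w * (g * a * g⁻¹)) * g := by rw [hYc _ h1 _ hw]
        _ = _ := by group
    have hCN : Subgroup.centralizer (X : Set G) ≤ Subgroup.normalizer (X : Set G) :=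
      Subgroup.centralizer_le_normalizer _
    obtain ⟨k, hk, hkY⟩ := CfsgLib.Transfer.exists_conj_le_of_isPGroup (p := 2) S.isPGroup' hXN
      (fun hd => S.not_dvd_index (hd.trans (Subgroup.relIndex_dvd_index_of_le hXN)))
      (hY2.map _) (hY₀C.trans hCN)
    have hle : Y₀.map (MulAut.conj k⁻¹).toMonoidHom ≤ X := by
      rintro _ ⟨w, hw, rfl⟩
      refine hself _ (by simpa using hkY w hw) (Subgroup.mem_centralizer_iff.2 fun a ha => ?_)
      have h1 := Subgroup.mem_centralizer_iff.1 (hY₀C hw) _ ((Subgroup.mem_normalizer_iff.1 hk a).1 ha)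
      show a * (k⁻¹ * w * k⁻¹⁻¹) = k⁻¹ * w * k⁻¹⁻¹ * a
      calc a * (k⁻¹ * w * k⁻¹⁻¹) = k⁻¹ * ((k * a * k⁻¹) * w) * k := by group
        _ = k⁻¹ * (w * (k * a * k⁻¹)) * k := by rw [h1]
        _ = _ := by group
    have hXY : X.map (MulAut.conj g).toMonoidHom = Y := Subgroup.eq_of_le_of_card_ge h (by
      rw [hcard']
      exact (Subgroup.card_le_of_le hle).trans_eq' ((hcard' k⁻¹ Y₀).trans (hcard' g⁻¹ Y)))
    obtain ⟨n, hn, hnX, -⟩ := CfsgLib.Transfer.exists_mem_normalizer_image_eq S (X := (X : Set G)) (Y := (Y : Set G))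
      hXN hYN (g := g) (by rw [← hXY]; rfl)
    exact hne ((hNX n hn).symm.trans (SetLike.coe_injective (by simpa using hnX)))
  have hself : ∀ (X Y : Subgroup (S : Subgroup G)), Cfsg.IsElementaryAbelian 2 X →
      (∀ C : Subgroup (S : Subgroup G), Cfsg.IsElementaryAbelian 2 C → X ≤ C → C = X) →
      (∀ s : (S : Subgroup G), ∃ x ∈ X, ∃ y ∈ Y, x * y = s) → Cfsg.IsElementaryAbelian 2 Y →
      ∀ t ∈ (S : Subgroup G), t ∈ Subgroup.centralizer ((X.map (S : Subgroup G).subtype : Subgroup G) : Set G) → t ∈ X.map (S : Subgroup G).subtype := by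
    intro X Y hX hXm hp hY t ht htC
    obtain ⟨x, hx, y, hy, e⟩ := hp ⟨t, ht⟩
    have hyX : ∀ w ∈ X, w * y = y * w := fun w hw => by
      have h1 : w * (x * y) = (x * y) * w := Subtype.ext (by
        rw [e]; exact Subgroup.mem_centralizer_iff.1 htC _ ⟨w, hw, rfl⟩)
      have h3 : w * x = x * w := congrArg Subtype.val (hX.1.is_comm.comm ⟨w, hw⟩ ⟨x, hx⟩)
      refine mul_left_cancel (a := x) ?_
      rw [← mul_assoc, ← h3, mul_assoc, h1, mul_assoc]
    have hgen : ∀ a ∈ (X : Set (S : Subgroup G)) ∪ {y}, ∀ b ∈ (X : Set (S : Subgroup G)) ∪ {y}, a * b = b * a := by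
      rintro a (ha | ha) b (hb | hb)
      · exact congrArg Subtype.val (hX.1.is_comm.comm ⟨a, ha⟩ ⟨b, hb⟩)
      · rw [Set.mem_singleton_iff.1 hb]; exact hyX a ha
      · rw [Set.mem_singleton_iff.1 ha]; exact (hyX b hb).symm
      · rw [Set.mem_singleton_iff.1 ha, Set.mem_singleton_iff.1 hb]
    haveI := Subgroup.isMulCommutative_closure hgen
    have hel : Cfsg.IsElementaryAbelian 2 (Subgroup.closure ((X : Set (S : Subgroup G)) ∪ {y})) := by
      refine ⟨inferInstance, fun w hw => ?_⟩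
      induction hw using Subgroup.closure_induction with
      | mem w hw =>
        rcases hw with hw | hw
        · exact hX.2 w hw
        · rw [Set.mem_singleton_iff.1 hw]; exact hY.2 y hy
      | one => exact one_pow _
      | mul a b ha hb ha2 hb2 =>
        have hc : Commute a b := congrArg Subtype.val (IsMulCommutative.is_comm.comm
          (⟨a, ha⟩ : Subgroup.closure ((X : Set (S : Subgroup G)) ∪ {y})) ⟨b, hb⟩)
        rw [hc.mul_pow, ha2, hb2, one_mul]
      | inv a _ ha2 => rw [inv_pow, ha2, inv_one]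
    have he := hXm _ hel fun w hw => Subgroup.subset_closure (Or.inl hw)
    have hyX' : y ∈ X := he.le (Subgroup.subset_closure (Or.inr rfl))
    exact ⟨⟨t, ht⟩, e ▸ X.mul_mem hx hyX', rfl⟩
  have hcaseW : ∀ (X : Subgroup (S : Subgroup G)), Cfsg.IsElementaryAbelian 2 X → ∀ g : G,
      (X.map (S : Subgroup G).subtype).map (MulAut.conj g).toMonoidHom ≤ (S : Subgroup G) →
      (X.map (S : Subgroup G).subtype).map (MulAut.conj g).toMonoidHom ≤ A' ∨
      (X.map (S : Subgroup G).subtype).map (MulAut.conj g).toMonoidHom ≤ B' := by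
    intro X hX g hg
    rw [← Subgroup.map_subgroupOf_eq_of_le hg, hA', hB']
    haveI := hX.1
    refine (hmax _ ⟨inferInstance, ?_⟩).imp (fun h => Subgroup.map_mono h) (fun h => Subgroup.map_mono h)
    intro v hv
    obtain ⟨_, ⟨w, hw, rfl⟩, e⟩ := Subgroup.mem_subgroupOf.1 hv
    refine Subtype.ext ?_
    show (v : G) ^ 2 = 1
    rw [← e, ← map_pow, ← map_pow, hX.2 w hw, map_one, map_one]
  have hp2 : ∀ X : Subgroup (S : Subgroup G), IsPGroup 2 (X.map (S : Subgroup G).subtype) := fun X => S.isPGroup'.to_le (Subgroup.map_subtype_le X)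
  have hcmap : ∀ (X : Subgroup (S : Subgroup G)), (∀ a ∈ X, ∀ b ∈ X, a * b = b * a) →
      ∀ a ∈ X.map (S : Subgroup G).subtype, ∀ b ∈ X.map (S : Subgroup G).subtype, a * b = b * a := by
    rintro X hX _ ⟨a, ha, rfl⟩ _ ⟨b, hb, rfl⟩
    rw [← map_mul, ← map_mul, hX a ha b hb]
  refine ⟨?_, ?_, fun n hn => ⟨?_, ?_⟩⟩
  · subst hA' hB'
    exact weak _ _ (Subgroup.map_subtype_le A) (Subgroup.map_subtype_le B) hAN hBN hne' (hp2 B)
      (hcaseW A hA.1) (hself A B hA.1 hA.2 hprod hB.1) (hcmap B hcB) fun n hn => (hN n hn).1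
  · subst hA' hB'
    refine weak _ _ (Subgroup.map_subtype_le B) (Subgroup.map_subtype_le A) hBN hAN hne'.symm (hp2 A)
      (fun g hg => (hcaseW B hB.1 g hg).symm) (hself B A hB.1 hB.2 (fun t => ?_) hA.1) (hcmap A hcA)
      fun n hn => (hN n hn).2
    obtain ⟨a, ha, b, hb, h⟩ := hprod t⁻¹
    exact ⟨b⁻¹, B.inv_mem hb, a⁻¹, A.inv_mem ha, by rw [← mul_inv_rev, h, inv_inv]⟩
  · refine Subgroup.mem_normalizer_iff.2 fun w => ?_
    conv_rhs => rw [← (hN n hn).1, Subgroup.mem_map_equiv, MulAut.conj_symm_apply]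
    simp [mul_assoc]
  · refine Subgroup.mem_normalizer_iff.2 fun w => ?_
    conv_rhs => rw [← (hN n hn).2, Subgroup.mem_map_equiv, MulAut.conj_symm_apply]
    simp [mul_assoc]

end Cfsg.Agent.S3203
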