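import Cfsg.Statements.S3206
import Cfsg.Agent.Lib.Involutions.JankoReeCover

set_option autoImplicit false
open Cfsg

namespace Cfsg.Agent.S3206

/-- Let G be a non-abelian finite simple group with abelian Sylow 2-subgroups, and let t be an involution of G whose centralizer is a maximal subgroup of G and is the direct product of the subgroup generated by t with a subgroup E having a normal subgroup isomorphic to PSL(2, q), q odd and greater than 3, with trivial centralizer in E. Then every finite perfect group having a central 2-subgroup with quotient isomorphic to G has that central subgroup trivial (G has no nontrivial perfect central extension by a 2-group), and every automorphism of G of 2-power order that fixes every element of some Sylow 2-subgroup of G is inner. -/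
theorem result {G : Type*} [Group G] [Finite G] [IsSimpleGroup G]
    (hG : ¬ IsMulCommutative G) (hab : ∀ S : Sylow 2 G, IsMulCommutative ↥(S : Subgroup G))
    (t : G) (ht : orderOf t = 2) (hmax : IsCoatom (Subgroup.centralizer ({t} : Set G)))
    (E : Subgroup G) (hE : Cfsg.IsInternalDirectProduct (Subgroup.zpowers t) E (Subgroup.centralizer ({t} : Set G)))
    {F : Type*} [Field F] [Fintype F] (hFo : Odd (Fintype.card F)) (hF3 : 3 < Fintype.card F)
    (N : Subgroup ↥E) [N.Normal] (hN : Nonempty (↥N ≃* Matrix.ProjectiveSpecialLinearGroup (Fin 2) F))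
    (hNc : Subgroup.centralizer (N : Set ↥E) = ⊥) :
    (∀ (L : Type) (_ : Group L) (_ : Finite L) (Z : Subgroup L) (_ : Z.Normal), commutator L = ⊤ → Z ≤ Subgroup.center L →
        IsPGroup 2 ↥Z → Nonempty (L ⧸ Z ≃* G) → Z = ⊥) ∧
    (∀ (φ : G ≃* G) (k : ℕ), φ ^ (2 ^ k) = 1 → (∃ S : Sylow 2 G, ∀ s ∈ (S : Subgroup G), φ s = s) →
        ∃ g : G, ∀ x : G, φ x = g * x * g⁻¹) := by
  haveI : Fact (Nat.Prime 2) := ⟨Nat.prime_two⟩
  refine ⟨fun L _ _ Z _ hperf hZc hZ2 ⟨ψ⟩ => ?_, fun φ k hφ ⟨S, hS⟩ => ?_⟩
  · obtain ⟨S, M, P, hM, hMC, hPM, hPS, htS, hKl, hSle⟩ :=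
      CfsgLib.JankoRee.sylow_structure hab t ht E hE hFo hF3 N hN hNc
    haveI := hKl
    set π : L →* G := ψ.toMonoidHom.comp (QuotientGroup.mk' Z) with hπdef
    have hker : π.ker = Z := by
      ext x
      rw [MonoidHom.mem_ker, hπdef]
      exact (ψ.map_eq_one_iff).trans (QuotientGroup.eq_one_iff x)
    rw [← hker] at hZc hZ2 ⊢
    exact CfsgLib.JankoRee.no_cover hG t ht S (hab S) M P hM hMC hPM hPS htS hSle π
      (ψ.surjective.comp (QuotientGroup.mk'_surjective Z)) hZc hZ2 hperf
  · have hZ : Subgroup.center G = ⊥ :=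
      (Subgroup.Normal.eq_bot_or_eq_top inferInstance).resolve_right fun h =>
        hG ⟨⟨fun a b => Subgroup.mem_center_iff.1 (h.symm ▸ Subgroup.mem_top b) a⟩⟩
    have hj : ∃ j : ℕ, orderOf (show MulAut G from φ) = 2 ^ j := by
      obtain ⟨j, -, hj⟩ := (Nat.dvd_prime_pow Nat.prime_two).1 (orderOf_dvd_of_pow_eq_one hφ)
      exact ⟨j, hj⟩
    refine CfsgLib.Blocks.exists_inner_of_fix_abelian_sylow hZ (fun K hK hodd => ?_) S
      (fun a b => (hab S).is_comm.comm a b) φ hj hS
    refine hK.eq_bot_or_eq_top.resolve_right fun h => ?_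
    subst h
    rw [Subgroup.card_top] at hodd
    exact Nat.not_even_iff_odd.2 hodd (even_iff_two_dvd.2 (ht ▸ orderOf_dvd_natCard t))

end Cfsg.Agent.S3206
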