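import Cfsg.Statements.S3208
import Mathlib

set_option autoImplicit false
open Cfsg

namespace Cfsg.Agent.S3208

/-- Let j be an involution of a finite group G, H a subgroup of G, and T a Sylow 2-subgroup of H ∩ C_G(j) containing j such that ⟨j⟩ is a characteristic subgroup of T. Then T is a Sylow 2-subgroup of H. -/
theorem result {G : Type*} [Group G] [Finite G]
    (j : G) (hj : orderOf j = 2) (H T : Subgroup G) (hT : T ≤ H ⊓ Subgroup.centralizer ({j} : Set G)) (h2 : IsPGroup 2 ↥T)
    (hSyl : ¬ 2 ∣ T.relIndex (H ⊓ Subgroup.centralizer ({j} : Set G))) (hjT : j ∈ T)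
    (hchar : ((Subgroup.zpowers j).subgroupOf T).Characteristic) :
    ¬ 2 ∣ T.relIndex H := by
  intro hdvd
  have := Fact.mk Nat.prime_two
  have hTH : T ≤ H := hT.trans inf_le_left
  have hTC : T ≤ Subgroup.centralizer ({j} : Set G) := hT.trans inf_le_right
  set T' := T.subgroupOf H with hT'
  obtain ⟨S, hS⟩ := (h2.comap_subtype (K := H)).exists_le_sylow
  have hlt : T' < (S : Subgroup H) := by
    refine lt_of_le_of_ne hS fun he => ?_
    have := S.not_dvd_index
    rw [← he] at this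
    exact this hdvd
  have := S.2.isNilpotent
  have hlt2 : T'.subgroupOf (S : Subgroup H) <
      Subgroup.normalizer ((T'.subgroupOf (S : Subgroup H)) : Set ↥(S : Subgroup H)) :=
    Group.normalizerCondition_of_isNilpotent _ (lt_top_iff_ne_top.mpr
      (fun h => hlt.not_ge (Subgroup.subgroupOf_eq_top.mp h)))
  obtain ⟨y, hy, hyT⟩ := SetLike.exists_of_lt hlt2
  set g : G := ((y : H) : G) with hg
  have hconj : ∀ t ∈ T, g * t * g⁻¹ ∈ T ∧ g⁻¹ * t * g ∈ T := by
    intro t ht
    let u : ↥(S : Subgroup H) := ⟨⟨t, hTH ht⟩, hS ht⟩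
    have hu : u ∈ T'.subgroupOf (S : Subgroup H) := ht
    refine ⟨(hy u).mp hu, ?_⟩
    have h3 := ((inv_mem hy) u).mp hu
    simpa [g, Subgroup.mem_subgroupOf, T', u] using h3
  have hgj : g * j * g⁻¹ = j := by
    let φ : T ≃* T :=
      { toFun := fun t => ⟨g * t * g⁻¹, (hconj _ t.2).1⟩
        invFun := fun t => ⟨g⁻¹ * t * g, (hconj _ t.2).2⟩
        left_inv := fun t => Subtype.ext (by simp [mul_assoc])
        right_inv := fun t => Subtype.ext (by simp [mul_assoc])
        map_mul' := fun a b => Subtype.ext (by simp [mul_assoc]) }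
    have hz : (⟨j, hjT⟩ : T) ∈ (Subgroup.zpowers j).subgroupOf T := Subgroup.mem_zpowers j
    rw [← hchar.fixed φ] at hz
    obtain ⟨k, hk⟩ := hz
    change j ^ k = g * j * g⁻¹ at hk
    rcases Int.emod_two_eq_zero_or_one k with h | h <;>
      rw [← zpow_mod_orderOf, hj, Nat.cast_ofNat, h] at hk
    · rw [zpow_zero] at hk
      have : j = 1 := conj_eq_one_iff.mp hk.symm
      simp [this] at hj
    · rw [zpow_one] at hk
      exact hk.symm
  have hgC : g ∈ Subgroup.centralizer ({j} : Set G) := by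
    rw [Subgroup.mem_centralizer_singleton_iff]
    calc g * j = g * j * g⁻¹ * g := by group
      _ = j * g := by rw [hgj]
  set L := H ⊓ Subgroup.centralizer ({j} : Set G) with hL
  -- the group generated by `T` and `g` is a 2-group inside `L` normalising `T`
  set U := T ⊔ Subgroup.zpowers g with hU
  have hUS : U ≤ (S : Subgroup H).map H.subtype :=
    sup_le (fun t ht => ⟨⟨t, hTH ht⟩, hS ht, rfl⟩)
      ((Subgroup.zpowers_le).mpr ⟨(y : H), y.2, rfl⟩)
  have hUL : U ≤ L := sup_le hT ((Subgroup.zpowers_le).mpr ⟨(y : H).2, hgC⟩)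
  obtain ⟨k, hk⟩ := ((S.2.map H.subtype).to_le hUS).exists_card_eq
  have hTU : T ≤ U := le_sup_left
  have hne : T.relIndex U ≠ 1 := fun h1 => hyT
    ((Subgroup.relIndex_eq_one.mp h1) (Subgroup.mem_sup_right (Subgroup.mem_zpowers g)))
  have hd : T.relIndex U ∣ 2 ^ k := hk ▸ Subgroup.relIndex_dvd_card _ _
  obtain ⟨i, -, hi⟩ := (Nat.dvd_prime_pow Nat.prime_two).mp hd
  apply hSyl
  have h2d : 2 ∣ T.relIndex U := by
    rw [hi] at hne ⊢
    exact dvd_pow_self 2 (fun h0 => hne (by rw [h0, pow_zero]))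
  exact h2d.trans ⟨_, (Subgroup.relIndex_mul_relIndex T U L hTU hUL).symm⟩

end Cfsg.Agent.S3208
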