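import Cfsg.Statements.S3209
import Cfsg.Agent.Lib.GLTwo.Classes
import Cfsg.Agent.Lib.Classical.SL2Sylow

set_option autoImplicit false
open Cfsg CfsgLib.Classical CfsgLib.GLTwo

namespace Cfsg.Agent.S3209

theorem factor {G : Type*} [Group G] [Finite G] {F : Type*} [Field F] [Fintype F]
    (hF : Odd (Fintype.card F)) (j : G) (hj : orderOf j = 2) (L : Subgroup G)
    (e : ↥L ≃* Matrix.SpecialLinearGroup (Fin 2) F) (hjL : j ∈ L) :
    (∀ a ∈ L, a * a = 1 → a = 1 ∨ a = j) ∧ (∃ a ∈ L, a * a = j) ∧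
      (∀ a ∈ L, ∀ b ∈ L, a * a = j → b * b = j → ∃ g ∈ L, g * a * g⁻¹ = b) := by
  classical
  have hchar : ringChar F ≠ 2 := fun h =>
    absurd ((FiniteField.even_card_iff_char_two).1 h) (by rw [Nat.odd_iff.1 hF]; norm_num)
  have h2 : (2 : F) ≠ 0 := Ring.two_ne_zero hchar
  have hej : e ⟨j, hjL⟩ = negOneSL F := by
    have hsq : (e ⟨j, hjL⟩) ^ 2 = 1 := by
      rw [← map_pow, show (⟨j, hjL⟩ : L) ^ 2 = 1 from Subtype.ext (by
        show j ^ 2 = 1
        rw [← hj, pow_orderOf_eq_one]), map_one]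
    refine (sl2_eq_one_or_of_sq h2 (negOneSL_coe (F := F)) hsq).resolve_left fun h => ?_
    have h1 : (⟨j, hjL⟩ : L) = 1 := e.injective (h.trans (map_one e).symm)
    have h1' : j = 1 := congrArg Subtype.val h1
    rw [h1', orderOf_one] at hj
    exact absurd hj (by norm_num)
  have hiff : ∀ a : L, (a : G) * a = j ↔ e a * e a = negOneSL F := fun a => by
    rw [← hej, ← map_mul, e.injective.eq_iff]
    exact ⟨fun h => Subtype.ext h, fun h => congrArg Subtype.val h⟩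
  refine ⟨fun a ha haa => ?_, ?_, fun a ha b hb haj hbj => ?_⟩
  · have hsq : (e ⟨a, ha⟩) ^ 2 = 1 := by
      rw [← map_pow, show (⟨a, ha⟩ : L) ^ 2 = 1 from Subtype.ext (by
        show a ^ 2 = 1
        rw [sq, haa]), map_one]
    rcases sl2_eq_one_or_of_sq h2 (negOneSL_coe (F := F)) hsq with h | h
    · exact Or.inl (congrArg Subtype.val (e.injective (h.trans (map_one e).symm)))
    · exact Or.inr (congrArg Subtype.val (e.injective (h.trans hej.symm)))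
  · refine ⟨e.symm (mkSL !![0, 1; -1, 0] (by simp [Matrix.det_fin_two])), SetLike.coe_mem _, ?_⟩
    rw [hiff, e.apply_symm_apply]
    apply Subtype.ext
    ext i k
    show ((mkSL _ _ : Matrix.SpecialLinearGroup (Fin 2) F) * mkSL _ _).1 i k = (negOneSL F).1 i k
    rw [Matrix.SpecialLinearGroup.coe_mul, coe_mkSL, negOneSL_coe]
    fin_cases i <;> fin_cases k <;> simp
  · have key : ∀ c : Matrix.SpecialLinearGroup (Fin 2) F, c * c = negOneSL F →
        ¬ IsScalar2 (c : Matrix (Fin 2) (Fin 2) F) ∧ (c : Matrix (Fin 2) (Fin 2) F).trace = 0 := by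
      intro c hc
      have hm : (c : Matrix (Fin 2) (Fin 2) F) * (c : Matrix (Fin 2) (Fin 2) F) = -1 :=
        (congrArg Subtype.val hc).trans (negOneSL_coe (F := F))
      have hns : ¬ IsScalar2 (c : Matrix (Fin 2) (Fin 2) F) := fun hs => by
        obtain ⟨s1, s2, s3⟩ := hs
        have hdet := c.2
        rw [Matrix.det_fin_two, s1, s2, ← s3] at hdet
        have h00 := congrFun (congrFun hm 0) 0
        simp [Matrix.mul_apply, Fin.sum_univ_two, s1, s2] at h00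
        exact h2 (by linear_combination h00 - hdet)
      refine ⟨hns, ?_⟩
      by_contra ht
      refine hns ?_
      have h := sq_eq (c : Matrix (Fin 2) (Fin 2) F)
      rw [hm, c.2, one_smul] at h
      have h0 : (c : Matrix (Fin 2) (Fin 2) F).trace • (c : Matrix (Fin 2) (Fin 2) F) = 0 := by
        rw [eq_sub_iff_add_eq] at h; rw [← h]; simp
      have hc0 := (smul_eq_zero.1 h0).resolve_left ht
      rw [hc0]
      exact ⟨rfl, rfl, rfl⟩
    obtain ⟨hna, hta⟩ := key _ ((hiff ⟨a, ha⟩).1 haj)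
    obtain ⟨hnb, htb⟩ := key _ ((hiff ⟨b, hb⟩).1 hbj)
    have h4 : (4 : F) ≠ 0 := by
      rw [show (4 : F) = 2 * 2 by norm_num]
      exact mul_ne_zero h2 h2
    obtain ⟨c, hc⟩ := isConj_iff.1 (sl_isConj_of_norm_surj hna hnb (hta.trans htb.symm)
      (norm_surj_odd hchar (by rw [hta]; simpa using h4.symm)))
    refine ⟨e.symm c, SetLike.coe_mem _, ?_⟩
    have h5 : e.symm c * ⟨a, ha⟩ * (e.symm c)⁻¹ = ⟨b, hb⟩ := e.injective (by simp [hc])
    exact congrArg Subtype.val h5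

/-- Let L₁ ≅ SL₂(q₁) and L₂ ≅ SL₂(q₂), q₁ and q₂ odd, be elementwise-commuting subgroups of a finite group meeting in ⟨j⟩ for an involution j. Then L₁L₂ has exactly two conjugacy classes of involutions: the central involution j, and one further class (there is an involution x ≠ j in L₁L₂, and every involution of L₁L₂ other than j is conjugate to x by an element of L₁L₂). -/
theorem result {G : Type*} [Group G] [Finite G]
    {F₁ : Type*} [Field F₁] [Fintype F₁] {F₂ : Type*} [Field F₂] [Fintype F₂]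
    (hF₁ : Odd (Fintype.card F₁)) (hF₂ : Odd (Fintype.card F₂)) (L₁ L₂ : Subgroup G)
    (e₁ : ↥L₁ ≃* Matrix.SpecialLinearGroup (Fin 2) F₁) (e₂ : ↥L₂ ≃* Matrix.SpecialLinearGroup (Fin 2) F₂)
    (hc : ∀ x ∈ L₁, ∀ y ∈ L₂, x * y = y * x) (j : G) (hj : orderOf j = 2) (hm : L₁ ⊓ L₂ = Subgroup.zpowers j) :
    ∃ x ∈ L₁ ⊔ L₂, orderOf x = 2 ∧ x ≠ j ∧
      ∀ y ∈ L₁ ⊔ L₂, orderOf y = 2 → y = j ∨ ∃ g ∈ L₁ ⊔ L₂, g * x * g⁻¹ = y := by
  classical
  have hj12 : j ∈ L₁ ⊓ L₂ := hm ▸ Subgroup.mem_zpowers j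
  obtain ⟨hu₁, ⟨a₁, ha₁, ha₁j⟩, hk₁⟩ := factor hF₁ j hj L₁ e₁ hj12.1
  obtain ⟨hu₂, ⟨a₂, ha₂, ha₂j⟩, hk₂⟩ := factor hF₂ j hj L₂ e₂ hj12.2
  have hjj : j * j = 1 := by rw [← sq, ← hj, pow_orderOf_eq_one]
  have hj1 : j ≠ 1 := fun h => by rw [h, orderOf_one] at hj; exact absurd hj (by norm_num)
  have hinter : ∀ z ∈ L₁, z ∈ L₂ → z = 1 ∨ z = j := fun z h1 h2 => by
    have hz : z ∈ Subgroup.zpowers j := hm ▸ (⟨h1, h2⟩ : z ∈ L₁ ⊓ L₂)
    obtain ⟨k, rfl⟩ := hz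
    rcases Int.even_or_odd' k with ⟨i, rfl | rfl⟩
    · exact Or.inl (by simp [zpow_mul, sq, hjj])
    · exact Or.inr (by simp [zpow_add, zpow_mul, sq, hjj])
  have hsq : a₁ * a₂ * (a₁ * a₂) = 1 := by
    calc a₁ * a₂ * (a₁ * a₂) = a₁ * (a₂ * a₁) * a₂ := by group
      _ = a₁ * (a₁ * a₂) * a₂ := by rw [hc a₁ ha₁ a₂ ha₂]
      _ = (a₁ * a₁) * (a₂ * a₂) := by group
      _ = 1 := by rw [ha₁j, ha₂j, hjj]
  have hnot : a₁ * a₂ ≠ 1 ∧ a₁ * a₂ ≠ j := by
    have : ∀ z ∈ L₁ ⊓ L₂, a₁ * a₂ ≠ z := fun z hz h => by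
      have ha2 : a₂ ∈ L₁ := by
        have : a₂ = a₁⁻¹ * z := by rw [← h, inv_mul_cancel_left]
        rw [this]; exact L₁.mul_mem (L₁.inv_mem ha₁) hz.1
      rcases hinter a₂ ha2 ha₂ with rfl | rfl
      · exact hj1 (by rw [← ha₂j, one_mul])
      · exact hj1 (by rw [← ha₂j, hjj])
    exact ⟨this 1 (one_mem _), this j hj12⟩
  have hsup : L₂ ≤ Subgroup.centralizer (L₁ : Set G) := fun y hy =>
    Subgroup.mem_centralizer_iff.2 fun x hx => hc x hx y hy
  have hmem : ∀ y ∈ L₁ ⊔ L₂, ∃ a ∈ L₁, ∃ b ∈ L₂, y = a * b := by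
    intro y hy
    rw [← SetLike.mem_coe, Subgroup.coe_mul_of_right_le_normalizer_left L₁ L₂
      (hsup.trans (Subgroup.centralizer_le_normalizer _))] at hy
    obtain ⟨a, ha, b, hb, rfl⟩ := Set.mem_mul.1 hy
    exact ⟨a, ha, b, hb, rfl⟩
  refine ⟨a₁ * a₂, Subgroup.mul_mem_sup ha₁ ha₂, orderOf_eq_prime (by rw [sq]; exact hsq) hnot.1,
    hnot.2, fun y hy hy2 => ?_⟩
  obtain ⟨a, ha, b, hb, rfl⟩ := hmem y hy
  have hyy : a * a * (b * b) = 1 := by
    have h := pow_orderOf_eq_one (a * b)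
    rw [hy2, sq] at h
    rw [← h]
    calc a * a * (b * b) = a * (a * b) * b := by group
      _ = a * (b * a) * b := by rw [hc a ha b hb]
      _ = a * b * (a * b) := by group
  have hab : a * a = (b * b)⁻¹ := eq_inv_of_mul_eq_one_left hyy
  have hne1 : a * b ≠ 1 := fun h => by rw [h, orderOf_one] at hy2; exact absurd hy2 (by norm_num)
  rcases hinter (a * a) (L₁.mul_mem ha ha) (hab ▸ L₂.inv_mem (L₂.mul_mem hb hb)) with h | h
  · left
    have hb1 : b * b = 1 := by rw [h, one_mul] at hyy; exact hyy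
    rcases hu₁ a ha h with rfl | rfl <;> rcases hu₂ b hb hb1 with rfl | rfl
    · exact absurd (one_mul 1) hne1
    · exact one_mul _
    · exact mul_one _
    · exact absurd hjj hne1
  · right
    have hb1 : b * b = j := by
      rw [h] at hyy
      rw [← inv_eq_of_mul_eq_one_right hyy, inv_eq_of_mul_eq_one_left hjj]
    obtain ⟨g, hg, hga⟩ := hk₁ a₁ ha₁ a ha ha₁j h
    obtain ⟨k, hk, hkb⟩ := hk₂ a₂ ha₂ b hb ha₂j hb1
    refine ⟨g * k, Subgroup.mul_mem_sup hg hk, ?_⟩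
    rw [← hga, ← hkb]
    have h1 : k * a₁ = a₁ * k := (hc a₁ ha₁ k hk).symm
    have h2 : g * (k * a₂ * k⁻¹) = (k * a₂ * k⁻¹) * g :=
      hc g hg _ (L₂.mul_mem (L₂.mul_mem hk ha₂) (L₂.inv_mem hk))
    calc g * k * (a₁ * a₂) * (g * k)⁻¹ = g * (k * a₁) * a₂ * k⁻¹ * g⁻¹ := by group
      _ = g * a₁ * g⁻¹ * (g * (k * a₂ * k⁻¹)) * g⁻¹ := by rw [h1]; group
      _ = g * a₁ * g⁻¹ * (k * a₂ * k⁻¹) := by rw [h2]; group

end Cfsg.Agent.S3209
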