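import Cfsg.Statements.S3210
import Cfsg.Agent.Lib.Involutions.SLTwoPair

set_option autoImplicit false
open Cfsg

namespace Cfsg.Agent.S3210

/-- Let G be a finite group with subgroups L₁ ≅ SL₂(q₁) and L₂ ≅ SL₂(q₂), q₁ and q₂ odd prime powers, which commute elementwise and meet in ⟨j⟩ for an involution j, and suppose L₁L₂ has index 2 in C_G(j). Then every element n of C_G(j) outside L₁L₂ either normalizes both L₁ and L₂, or conjugates L₁ onto L₂; in the second case q₁ = q₂ and there is an element n′ of C_G(j) outside L₁L₂ conjugating L₁ onto L₂ with n′² ∈ ⟨j⟩. -/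
theorem result {G : Type*} [Group G] [Finite G]
    {F₁ : Type*} [Field F₁] [Fintype F₁] {F₂ : Type*} [Field F₂] [Fintype F₂]
    (hF₁ : Odd (Fintype.card F₁)) (hF₂ : Odd (Fintype.card F₂)) (L₁ L₂ : Subgroup G)
    (e₁ : ↥L₁ ≃* Matrix.SpecialLinearGroup (Fin 2) F₁) (e₂ : ↥L₂ ≃* Matrix.SpecialLinearGroup (Fin 2) F₂)
    (hc : ∀ x ∈ L₁, ∀ y ∈ L₂, x * y = y * x) (j : G) (hj : orderOf j = 2) (hm : L₁ ⊓ L₂ = Subgroup.zpowers j)
    (hle : L₁ ⊔ L₂ ≤ Subgroup.centralizer ({j} : Set G)) (hi : (L₁ ⊔ L₂).relIndex (Subgroup.centralizer ({j} : Set G)) = 2) (n : G) (hn : n ∈ Subgroup.centralizer ({j} : Set G)) (hn' : n ∉ L₁ ⊔ L₂) :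
    (L₁.map (MulAut.conj n).toMonoidHom = L₁ ∧ L₂.map (MulAut.conj n).toMonoidHom = L₂) ∨
      (L₁.map (MulAut.conj n).toMonoidHom = L₂ ∧ Fintype.card F₁ = Fintype.card F₂ ∧
        ∃ n' ∈ Subgroup.centralizer ({j} : Set G), n' ∉ L₁ ⊔ L₂ ∧ L₁.map (MulAut.conj n').toMonoidHom = L₂ ∧ n' ^ 2 ∈ Subgroup.zpowers j) := by
  classical
  have hjc : j ∈ L₁ ∧ j ∈ L₂ := by
    have : j ∈ L₁ ⊓ L₂ := hm ▸ Subgroup.mem_zpowers j
    exact this
  have hzj : ∀ x ∈ Subgroup.zpowers j, x = 1 ∨ x = j := fun x hx =>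
    CfsgLib.Involutions.SLTwoPair.mem_zpowers_invol hj hx
  -- conjugation by `n` stabilises the product
  have hnor : ∀ g ∈ Subgroup.centralizer ({j} : Set G), ∀ x ∈ L₁ ⊔ L₂, g * x * g⁻¹ ∈ L₁ ⊔ L₂ := by
    intro g hg x hx
    have : ((L₁ ⊔ L₂).subgroupOf (Subgroup.centralizer ({j} : Set G))).Normal :=
      Subgroup.normal_of_index_eq_two hi
    exact this.conj_mem ⟨x, hle hx⟩ hx ⟨g, hg⟩
  have hprod := @CfsgLib.Involutions.SLTwoPair.exists_mul_of_sup G _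
  have key₁ := CfsgLib.Involutions.SLTwoPair.pair_le (CfsgLib.Involutions.SLTwoPair.two_ne_zero_of_odd hF₁) hj L₁ L₂ e₁ hc hm
  have key₂ := CfsgLib.Involutions.SLTwoPair.pair_le (CfsgLib.Involutions.SLTwoPair.two_ne_zero_of_odd hF₂) hj L₂ L₁ e₂
    (fun a ha b hb => (hc b hb a ha).symm) (by rw [inf_comm, hm])
  have hnj : n * j * n⁻¹ = j := by
    rw [Subgroup.mem_centralizer_singleton_iff.1 hn, mul_inv_cancel_right]
  set M₁ := L₁.map (MulAut.conj n).toMonoidHom with hM₁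
  set M₂ := L₂.map (MulAut.conj n).toMonoidHom with hM₂
  have hjM₁ : j ∈ M₁ := ⟨j, hjc.1, hnj⟩
  have hjM₂ : j ∈ M₂ := ⟨j, hjc.2, hnj⟩
  have hMc : ∀ a ∈ M₁, ∀ b ∈ M₂, a * b = b * a := by
    rintro _ ⟨a, ha, rfl⟩ _ ⟨b, hb, rfl⟩
    rw [← map_mul, hc a ha b hb, map_mul]
  have hMle₁ : M₁ ≤ L₁ ⊔ L₂ := by
    rintro _ ⟨a, ha, rfl⟩; exact hnor n hn a (Subgroup.mem_sup_left ha)
  have hMle₂ : M₂ ≤ L₁ ⊔ L₂ := by
    rintro _ ⟨a, ha, rfl⟩; exact hnor n hn a (Subgroup.mem_sup_right ha)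
  have hgen : ∀ g ∈ L₁ ⊔ L₂, ∃ a ∈ M₁, ∃ b ∈ M₂, g = a * b := by
    intro g hg
    obtain ⟨a, ha, b, hb, he⟩ := hprod L₁ L₂ hc _ (hnor n⁻¹ (Subgroup.inv_mem _ hn) g hg)
    refine ⟨_, ⟨a, ha, rfl⟩, _, ⟨b, hb, rfl⟩, ?_⟩
    rw [← map_mul, ← he]
    simp [mul_assoc]
  have k1 := key₁ M₁ M₂ hjM₁ hjM₂ hMc hMle₁ hMle₂
    fun g hg => hgen g (Subgroup.mem_sup_left hg)
  have k2 := key₂ M₁ M₂ hjM₁ hjM₂
    hMc (sup_comm L₁ L₂ ▸ hMle₁) (sup_comm L₁ L₂ ▸ hMle₂) fun g hg => hgen g (Subgroup.mem_sup_right hg)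
  have hcard₁ : Nat.card M₁ = Nat.card L₁ := Subgroup.card_map_of_injective (MulAut.conj n).injective
  have hcard₂ : Nat.card M₂ = Nat.card L₂ := Subgroup.card_map_of_injective (MulAut.conj n).injective
  have hsmall : ∀ M : Subgroup G, M ≤ L₂ → M ≤ L₁ → Nat.card M ≤ 2 := by
    intro M h2' h1'
    have := Subgroup.card_le_of_le (show M ≤ Subgroup.zpowers j from hm ▸ le_inf h1' h2')
    rwa [Nat.card_zpowers, hj] at this
  rcases k1 with h1 | h1 <;> rcases k2 with h2 | h2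
  · have := hsmall M₁ h1 h2
    rw [hcard₁] at this
    exact absurd this (not_le.2 (CfsgLib.Involutions.SLTwoPair.two_lt_card L₁ e₁))
  · -- the swap
    right
    have hle₁ : Nat.card L₁ ≤ Nat.card L₂ := hcard₁ ▸ Subgroup.card_le_of_le h1
    have hle₂ : Nat.card L₂ ≤ Nat.card L₁ := hcard₂ ▸ Subgroup.card_le_of_le h2
    have hmap : M₁ = L₂ := Subgroup.eq_of_le_of_card_ge h1 (hcard₁ ▸ hle₂)
    have hmap₂ : M₂ = L₁ := Subgroup.eq_of_le_of_card_ge h2 (hcard₂ ▸ hle₁)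
    refine ⟨hmap, ?_, ?_⟩
    · have e := le_antisymm hle₁ hle₂
      rw [CfsgLib.Involutions.SLTwoPair.card_eq L₁ e₁, CfsgLib.Involutions.SLTwoPair.card_eq L₂ e₂] at e
      by_contra hne
      have hmono : ∀ {a b : ℕ}, 1 ≤ a → a < b → a * (a ^ 2 - 1) < b * (b ^ 2 - 1) := by
        intro a b ha hab
        have h3 : a ^ 2 < b ^ 2 := Nat.pow_lt_pow_left hab (by norm_num)
        have h4 : 1 ≤ a ^ 2 := Nat.one_le_pow _ _ ha
        calc a * (a ^ 2 - 1) ≤ b * (a ^ 2 - 1) := Nat.mul_le_mul_right _ hab.le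
          _ < b * (b ^ 2 - 1) := Nat.mul_lt_mul_of_pos_left (by omega) (by omega)
      rcases lt_or_gt_of_ne hne with h | h
      · exact absurd e (hmono Fintype.card_pos h).ne
      · exact absurd e (hmono Fintype.card_pos h).ne'
    · have hn2 : n * n ∈ L₁ ⊔ L₂ := by
        have : ((L₁ ⊔ L₂).subgroupOf (Subgroup.centralizer ({j} : Set G))).index = 2 := hi
        exact Subgroup.mul_self_mem_of_index_two this (⟨n, hn⟩ : ↥(Subgroup.centralizer ({j} : Set G)))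
      obtain ⟨a, ha, b, hb, hab⟩ := hprod L₁ L₂ hc _ hn2
      have haC : a⁻¹ ∈ Subgroup.centralizer ({j} : Set G) := hle (Subgroup.mem_sup_left (L₁.inv_mem ha))
      have hout : n * a⁻¹ ∉ L₁ ⊔ L₂ := fun h =>
        hn' ((Subgroup.mul_mem_cancel_right _ (Subgroup.mem_sup_left (L₁.inv_mem ha))).1 h)
      have hconj : L₁.map (MulAut.conj (n * a⁻¹)).toMonoidHom = L₂ := by
        refine Subgroup.eq_of_le_of_card_ge ?_ (by
          rw [Subgroup.card_map_of_injective (MulAut.conj (n * a⁻¹)).injective]; exact hle₂)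
        rintro _ ⟨x, hx, rfl⟩
        rw [← hmap]
        exact ⟨a⁻¹ * x * a, L₁.mul_mem (L₁.mul_mem (L₁.inv_mem ha) hx) ha, by simp [mul_assoc]⟩
      refine ⟨n * a⁻¹, Subgroup.mul_mem _ hn haC, hout, hconj, ?_⟩
      -- compare the two factors of the square
      have hna : n * a * n⁻¹ ∈ L₂ := hmap ▸ ⟨a, ha, rfl⟩
      have hnb : n * b * n⁻¹ ∈ L₁ := hmap₂ ▸ ⟨b, hb, rfl⟩
      have e1 : n * a * n⁻¹ * (n * b * n⁻¹) = a * b := by
        rw [← hab]
        calc n * a * n⁻¹ * (n * b * n⁻¹) = n * (a * b) * n⁻¹ := by group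
          _ = _ := by rw [← hab]; group
      have e2 : a⁻¹ * (n * b * n⁻¹) = b * (n * a * n⁻¹)⁻¹ := by
        rw [eq_mul_inv_iff_mul_eq, mul_assoc, (hc _ hnb _ hna), e1, inv_mul_cancel_left]
      have hz : a⁻¹ * (n * b * n⁻¹) ∈ Subgroup.zpowers j := by
        rw [← hm]
        exact ⟨L₁.mul_mem (L₁.inv_mem ha) hnb, e2 ▸ L₂.mul_mem hb (L₂.inv_mem hna)⟩
      have hzn : (n * a⁻¹) ^ 2 = (a⁻¹ * (n * b * n⁻¹)) := by
        have hn2c : n * n * b * (n * n)⁻¹ = b := by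
          rw [hab]
          calc a * b * b * (a * b)⁻¹ = a * b * a⁻¹ := by group
            _ = b := by rw [hc a ha b hb, mul_inv_cancel_right]
        have hba : n⁻¹ * a⁻¹ * n ∈ L₂ := by
          obtain ⟨x, hx, he⟩ := (hmap₂.symm ▸ L₁.inv_mem ha : a⁻¹ ∈ M₂)
          rw [← he]; simpa [mul_assoc] using hx
        have hzc : n⁻¹ * (a⁻¹ * (n * b * n⁻¹)) * n = a⁻¹ * (n * b * n⁻¹) := by
          rcases hzj _ hz with h | h <;> rw [h]
          · group
          · calc n⁻¹ * j * n = n⁻¹ * (n * j * n⁻¹) * n := by rw [hnj]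
              _ = j := by group
        calc (n * a⁻¹) ^ 2 = n * n * ((n⁻¹ * a⁻¹ * n) * a⁻¹) := by rw [pow_two]; group
          _ = a * b * (a⁻¹ * (n⁻¹ * a⁻¹ * n)) := by rw [hab, hc _ (L₁.inv_mem ha) _ hba]
          _ = b * (n⁻¹ * a⁻¹ * n) := by rw [hc a ha b hb]; group
          _ = n⁻¹ * a⁻¹ * n * b := by
            have e3 : n⁻¹ * a⁻¹ * n * b = n⁻¹ * (a⁻¹ * (n * b * n⁻¹)) * n := by group
            have e4 : b * (n⁻¹ * a⁻¹ * n) = n⁻¹ * (n * b * n⁻¹ * a⁻¹) * n := by group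
            rw [e3, e4]
            congr 2
            rcases hzj _ hz with h | h
            · rw [inv_mul_eq_one.1 h, inv_mul_cancel, mul_inv_cancel]
            · rw [inv_mul_eq_iff_eq_mul.1 h,
                show a * j = j * a from Subgroup.mem_centralizer_singleton_iff.1 (hle (Subgroup.mem_sup_left ha)),
                mul_inv_cancel_right, show j * a = a * j from
                  (Subgroup.mem_centralizer_singleton_iff.1 (hle (Subgroup.mem_sup_left ha))).symm,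
                inv_mul_cancel_left]
          _ = n⁻¹ * (a⁻¹ * (n * b * n⁻¹)) * n := by group
          _ = _ := hzc
      rw [hzn]
      exact hz
  · left
    exact ⟨Subgroup.eq_of_le_of_card_ge h2 hcard₁.ge, Subgroup.eq_of_le_of_card_ge h1 hcard₂.ge⟩
  · have := hsmall M₂ h1 h2
    rw [hcard₂] at this
    exact absurd this (not_le.2 (CfsgLib.Involutions.SLTwoPair.two_lt_card L₂ e₂))

end Cfsg.Agent.S3210
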