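import Cfsg.Statements.S3211
import Cfsg.Agent.Lib.InvolTwo.SwappedPair
import Cfsg.Agent.Lib.GLTwo.Basic

set_option autoImplicit false
open Cfsg

namespace Cfsg.Agent.S3211

open CfsgLib.GLTwo Matrix in
/-- Facts about `SL₂` over a finite field of odd order. -/
private theorem sl_facts {F : Type*} [Field F] [Fintype F] (hF : Odd (Fintype.card F)) :
    ((-1 : SpecialLinearGroup (Fin 2) F) ≠ 1) ∧
    (∀ g : SpecialLinearGroup (Fin 2) F, g * g = 1 → g = 1 ∨ g = -1) ∧
    (∀ a b : SpecialLinearGroup (Fin 2) F, a * a = -1 → b * b = -1 → IsConj a b) ∧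
    (∀ a : SpecialLinearGroup (Fin 2) F, a * a = -1 → ∀ x y : SpecialLinearGroup (Fin 2) F,
      Commute x a → Commute y a → Commute x y) ∧
    (∃ a : SpecialLinearGroup (Fin 2) F, a * a = -1) := by
  have h2 : (2 : F) ≠ 0 := by
    have hc : ringChar F ≠ 2 := fun h => by
      have := FiniteField.even_card_iff_char_two.1 h
      exact absurd this (Nat.odd_iff.1 hF ▸ one_ne_zero)
    exact Ring.two_ne_zero hc
  have hne : (-1 : SpecialLinearGroup (Fin 2) F) ≠ 1 := fun h => by
    have h' := congrFun (congrFun (congrArg Subtype.val h) 0) 0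
    simp at h'
    exact h2 (by linear_combination -h')
  have hns : ∀ a : SpecialLinearGroup (Fin 2) F, a * a = -1 →
      ¬ IsScalar2 (a : Matrix (Fin 2) (Fin 2) F) ∧ (a : Matrix (Fin 2) (Fin 2) F).trace = 0 := by
    intro a ha
    have ha' : (a : Matrix (Fin 2) (Fin 2) F) * a = -1 := by
      have := congrArg Subtype.val ha
      simpa using this
    have h00 := congrFun (congrFun ha' 0) 0
    have h01 := congrFun (congrFun ha' 0) 1
    have h10 := congrFun (congrFun ha' 1) 0
    have hd : (a : Matrix (Fin 2) (Fin 2) F).det = 1 := a.2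
    simp [Matrix.mul_apply, Fin.sum_univ_two] at h00 h01 h10
    rw [det_fin_two] at hd
    constructor
    · rintro ⟨e1, e2, e3⟩
      rw [e1, e2] at hd h00
      rw [← e3] at hd
      exact h2 (by linear_combination h00 - hd)
    · rw [trace_fin_two]
      by_contra ht
      have e1 : (a : Matrix (Fin 2) (Fin 2) F) 0 1 = 0 :=
        (mul_eq_zero.1 (show _ * ((a : Matrix (Fin 2) (Fin 2) F) 0 0 +
          (a : Matrix (Fin 2) (Fin 2) F) 1 1) = 0 by linear_combination h01)).resolve_right ht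
      have e4 : (a : Matrix (Fin 2) (Fin 2) F) 0 0 * ((a : Matrix (Fin 2) (Fin 2) F) 0 0 +
          (a : Matrix (Fin 2) (Fin 2) F) 1 1) = 0 := by linear_combination h00 + hd
      have e5 := (mul_eq_zero.1 e4).resolve_right ht
      rw [e1, e5] at hd
      simp at hd
  refine ⟨hne, fun g hg => ?_, fun a b ha hb => ?_, fun a ha x y hx hy => ?_, ?_⟩
  · have hg' : (g : Matrix (Fin 2) (Fin 2) F) * g = 1 := congrArg Subtype.val hg
    have h00 := congrFun (congrFun hg' 0) 0
    have h01 := congrFun (congrFun hg' 0) 1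
    have h10 := congrFun (congrFun hg' 1) 0
    have h11 := congrFun (congrFun hg' 1) 1
    have hd : (g : Matrix (Fin 2) (Fin 2) F).det = 1 := g.2
    simp [Matrix.mul_apply, Fin.sum_univ_two] at h00 h01 h10 h11
    rw [det_fin_two] at hd
    set t := (g : Matrix (Fin 2) (Fin 2) F) 0 0 + (g : Matrix (Fin 2) (Fin 2) F) 1 1 with ht
    have ht0 : t ≠ 0 := fun h => h2 (by
      have : (g : Matrix (Fin 2) (Fin 2) F) 0 0 * t = 2 := by rw [ht]; linear_combination h00 + hd
      rw [h, mul_zero] at this; exact this.symm)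
    have e1 : (g : Matrix (Fin 2) (Fin 2) F) 0 1 = 0 :=
      (mul_eq_zero.1 (show _ * t = 0 by rw [ht]; linear_combination h01)).resolve_right ht0
    have e2 : (g : Matrix (Fin 2) (Fin 2) F) 1 0 = 0 :=
      (mul_eq_zero.1 (show _ * t = 0 by rw [ht]; linear_combination h10)).resolve_right ht0
    rw [e1] at hd h00
    rw [e2] at hd
    simp at hd h00
    rcases mul_self_eq_one_iff.1 h00 with h | h
    · left; apply Subtype.ext; ext i k
      fin_cases i <;> fin_cases k <;> simp [e1, e2, h]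
      rw [h, one_mul] at hd; exact hd
    · right; apply Subtype.ext; ext i k
      fin_cases i <;> fin_cases k <;> simp [e1, e2, h]
      rw [h] at hd; linear_combination -hd
  · refine sl_isConj_of_norm_surj (hns a ha).1 (hns b hb).1 ((hns a ha).2.trans (hns b hb).2.symm)
      fun r => ?_
    obtain ⟨x, y, hxy⟩ := FiniteField.exists_root_sum_quadratic
      (f := (Polynomial.X ^ 2 : Polynomial F)) (g := Polynomial.X ^ 2 - Polynomial.C r)
      (by rw [Polynomial.degree_X_pow]; rfl) (by rw [Polynomial.degree_X_pow_sub_C two_pos]; rfl)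
      (Nat.odd_iff.1 hF)
    refine ⟨x, y, ?_⟩
    simp at hxy
    rw [(hns a ha).2, (a.2 : (a : Matrix (Fin 2) (Fin 2) F).det = 1)]
    linear_combination hxy
  · obtain ⟨p, q, hpq⟩ := eq_add_smul_of_comm (hns a ha).1 (congrArg Subtype.val hx.eq)
    obtain ⟨r, s, hrs⟩ := eq_add_smul_of_comm (hns a ha).1 (congrArg Subtype.val hy.eq)
    apply Subtype.ext
    show (x : Matrix (Fin 2) (Fin 2) F) * y = (y : Matrix (Fin 2) (Fin 2) F) * x
    rw [hpq, hrs]
    simp only [add_mul, mul_add, smul_mul_assoc, mul_smul_comm, one_mul, mul_one, smul_add, smul_smul]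
    rw [mul_comm r p, mul_comm r q, mul_comm s p, mul_comm s q]
    abel
  · refine ⟨⟨!![0, -1; 1, 0], by simp [det_fin_two]⟩, ?_⟩
    apply Subtype.ext
    show (!![0, -1; 1, 0] : Matrix (Fin 2) (Fin 2) F) * !![0, -1; 1, 0] = -1
    ext i k
    fin_cases i <;> fin_cases k <;> simp [Matrix.mul_apply, Fin.sum_univ_two]


/-- Let G be a finite group with subgroups L₁ ≅ SL₂(q₁) and L₂ ≅ SL₂(q₂), q₁ and q₂ odd prime powers, which commute elementwise and meet in ⟨j⟩ for an involution j, and suppose L₁L₂ has index 2 in C_G(j). If some n ∈ C_G(j) with n² = j interchanges L₁ and L₂ under conjugation (so that C_G(j) = L₁L₂⟨n⟩), then G = C_G(j)O(G). -/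
theorem result {G : Type*} [Group G] [Finite G]
    {F₁ : Type*} [Field F₁] [Fintype F₁] {F₂ : Type*} [Field F₂] [Fintype F₂]
    (hF₁ : Odd (Fintype.card F₁)) (hF₂ : Odd (Fintype.card F₂)) (L₁ L₂ : Subgroup G)
    (e₁ : ↥L₁ ≃* Matrix.SpecialLinearGroup (Fin 2) F₁) (e₂ : ↥L₂ ≃* Matrix.SpecialLinearGroup (Fin 2) F₂)
    (hc : ∀ x ∈ L₁, ∀ y ∈ L₂, x * y = y * x) (j : G) (hj : orderOf j = 2) (hm : L₁ ⊓ L₂ = Subgroup.zpowers j)
    (hle : L₁ ⊔ L₂ ≤ Subgroup.centralizer ({j} : Set G)) (hi : (L₁ ⊔ L₂).relIndex (Subgroup.centralizer ({j} : Set G)) = 2) (n : G) (hn : n ∈ Subgroup.centralizer ({j} : Set G))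
    (hn2 : n ^ 2 = j) (hswap : L₁.map (MulAut.conj n).toMonoidHom = L₂) :
    Subgroup.centralizer ({j} : Set G) ⊔ Cfsg.oddCore G = ⊤ := by
  classical
  obtain ⟨hne, hinv, hconj, habel, a0, ha0⟩ := sl_facts hF₁
  have hjL₁ : j ∈ L₁ := (hm.ge (Subgroup.mem_zpowers j)).1
  have hjL₂ : j ∈ L₂ := (hm.ge (Subgroup.mem_zpowers j)).2
  have hj1 : j ≠ 1 := fun h => by rw [h, orderOf_one] at hj; exact absurd hj (by norm_num)
  have hj2 : j * j = 1 := by
    have := pow_orderOf_eq_one j
    rwa [hj, pow_two] at this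
  -- `e₁ j = -1`
  have hej : e₁ ⟨j, hjL₁⟩ = -1 := by
    refine (hinv _ ?_).resolve_left fun h => hj1 ?_
    · rw [← map_mul, show (⟨j, hjL₁⟩ : L₁) * ⟨j, hjL₁⟩ = 1 from Subtype.ext hj2, map_one]
    · exact congrArg Subtype.val ((EmbeddingLike.map_eq_one_iff (f := e₁)).1 h)
  have hmem : ∀ x, x ∈ L₁ ⊓ L₂ → x = 1 ∨ x = j := by
    intro x hx
    rw [hm] at hx
    obtain ⟨k, rfl⟩ := hx
    have h2 : j ^ (2 : ℤ) = 1 := by rw [zpow_two]; exact hj2
    rcases Int.even_or_odd' k with ⟨l, rfl | rfl⟩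
    · left; show j ^ _ = _; rw [zpow_mul, h2, one_zpow]
    · right; show j ^ _ = _; rw [zpow_add, zpow_mul, h2, one_zpow, one_mul, zpow_one]
  have hn2' : n * n = j := by rw [← pow_two]; exact hn2
  have hnL : ∀ b ∈ L₁, n * b * n⁻¹ ∈ L₂ := fun b hb => hswap ▸ ⟨b, hb, rfl⟩
  have hnL' : ∀ c ∈ L₂, ∃ b ∈ L₁, n * b * n⁻¹ = c := fun c hc' => by
    rw [← hswap] at hc'
    obtain ⟨b, hb, rfl⟩ := hc'
    exact ⟨b, hb, rfl⟩
  have he : ∀ a : L₁, (a : G) * a = j ↔ e₁ a * e₁ a = -1 := by
    intro a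
    rw [← map_mul, ← hej, EmbeddingLike.apply_eq_iff_eq]
    exact ⟨fun h => Subtype.ext h, fun h => congrArg Subtype.val h⟩
  -- the element `n` does not normalise `L₁`
  have hnY : n ∉ L₁ ⊔ L₂ := by
    intro hnY
    have hle' : L₁ ⊔ L₂ ≤ Subgroup.normalizer (L₁ : Set G) :=
      sup_le Subgroup.le_normalizer fun x hx => Subgroup.mem_normalizer_iff.2 fun y => by
        constructor
        · intro hy; rw [← hc y hy x hx, mul_inv_cancel_right]; exact hy
        · intro hy
          have := hc _ hy x hx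
          have hy' : y = x * y * x⁻¹ := by
            calc y = x⁻¹ * (x * y * x⁻¹ * x) := by group
              _ = x⁻¹ * (x * (x * y * x⁻¹)) := by rw [this]
              _ = x * y * x⁻¹ := by group
          rw [hy']; exact hy
    set a := e₁.symm a0 with hadef
    have haj : (a : G) * a = j := (he a).2 (by rw [hadef, MulEquiv.apply_symm_apply, ha0])
    have h1 : n * (a : G) * n⁻¹ ∈ L₁ ⊓ L₂ :=
      ⟨(Subgroup.mem_normalizer_iff.1 (hle' hnY) _).1 a.2, hnL _ a.2⟩
    have h2 : n * (a : G) * n⁻¹ * (n * (a : G) * n⁻¹) = n * j * n⁻¹ := by rw [← haj]; group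
    have h3 : n * j * n⁻¹ = j := by rw [← hn2']; group
    rcases hmem _ h1 with h | h <;> rw [h, h3] at h2
    · exact hj1 (by rw [← h2, one_mul])
    · exact hj1 (by rw [← h2, hj2])
  let D : CfsgLib.InvolTwo.SwappedPair.Data L₁ j n :=
    { jL := hjL₁
      j_ne := hj1
      j_sq := hj2
      n_sq := hn2'
      comm := fun a ha b hb => hc a ha _ (hnL b hb)
      inter := fun a ha hmem' => by
        have hnj : n * j * n⁻¹ = j := by rw [← hn2']; group
        rcases hmem _ ⟨hmem', hnL a ha⟩ with h | h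
        · exact Or.inl (conj_eq_one_iff.1 h)
        · exact Or.inr (mul_left_cancel (mul_right_cancel (h.trans hnj.symm)))
      invol := fun a ha haa => by
        rcases hinv (e₁ ⟨a, ha⟩) (by
          rw [← map_mul, show (⟨a, ha⟩ : L₁) * ⟨a, ha⟩ = 1 from Subtype.ext haa, map_one]) with h | h
        · exact Or.inl (congrArg Subtype.val ((EmbeddingLike.map_eq_one_iff (f := e₁)).1 h))
        · exact Or.inr (congrArg Subtype.val (e₁.injective (h.trans hej.symm)))
      conj := fun a ha b hb haa hbb => by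
        obtain ⟨c, hc'⟩ := isConj_iff.1 (hconj _ _ ((he ⟨a, ha⟩).1 haa) ((he ⟨b, hb⟩).1 hbb))
        refine ⟨(e₁.symm c : G), (e₁.symm c).2, ?_⟩
        have := congrArg e₁.symm hc'
        simp only [map_mul, map_inv, MulEquiv.symm_apply_apply] at this
        exact congrArg Subtype.val this
      abel := fun a ha haa x hx y hy hxa hya => by
        have h := habel _ ((he ⟨a, ha⟩).1 haa) (e₁ ⟨x, hx⟩) (e₁ ⟨y, hy⟩)
          ((show Commute (⟨x, hx⟩ : L₁) ⟨a, ha⟩ from Subtype.ext hxa.eq).map e₁)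
          ((show Commute (⟨y, hy⟩ : L₁) ⟨a, ha⟩ from Subtype.ext hya.eq).map e₁)
        have h' := h.map e₁.symm
        simp only [MulEquiv.symm_apply_apply] at h'
        exact congrArg Subtype.val h'.eq
      root := ⟨(e₁.symm a0 : G), (e₁.symm a0).2,
        (he _).2 (by rw [MulEquiv.apply_symm_apply, ha0])⟩
      cent := fun x hx => by
        have hprod : ∀ y ∈ L₁ ⊔ L₂, ∃ a ∈ L₁, ∃ b ∈ L₁, y = a * (n * b * n⁻¹) := by
          intro y hy
          have hnorm : L₂ ≤ Subgroup.normalizer (L₁ : Set G) := fun z hz =>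
            Subgroup.mem_normalizer_iff.2 fun w => by
              constructor
              · intro hw; rw [← hc w hw z hz, mul_inv_cancel_right]; exact hw
              · intro hw
                have := hc _ hw z hz
                have hw' : w = z * w * z⁻¹ := by
                  calc w = z⁻¹ * (z * w * z⁻¹ * z) := by group
                    _ = z⁻¹ * (z * (z * w * z⁻¹)) := by rw [this]
                    _ = z * w * z⁻¹ := by group
                rw [hw']; exact hw
          rw [← SetLike.mem_coe, Subgroup.coe_mul_of_right_le_normalizer_left L₁ L₂ hnorm] at hy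
          obtain ⟨a, ha, c, hc', rfl⟩ := Set.mem_mul.1 hy
          obtain ⟨b, hb, rfl⟩ := hnL' c hc'
          exact ⟨a, ha, b, hb, rfl⟩
        have hxC : x ∈ Subgroup.centralizer ({j} : Set G) :=
          Subgroup.mem_centralizer_singleton_iff.2 hx.eq
        by_cases hxY : x ∈ L₁ ⊔ L₂
        · obtain ⟨a, ha, b, hb, h⟩ := hprod x hxY
          exact ⟨a, ha, b, hb, Or.inl h⟩
        · have hindex : ((L₁ ⊔ L₂).subgroupOf (Subgroup.centralizer ({j} : Set G))).index = 2 := hi
          have h2 := (Subgroup.mul_mem_iff_of_index_two hindex (a := ⟨x, hxC⟩) (b := ⟨n, hn⟩⁻¹)).2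
            (iff_of_false hxY (fun h => hnY ((inv_mem_iff (H := L₁ ⊔ L₂)).1 h)))
          obtain ⟨a, ha, b, hb, h⟩ := hprod (x * n⁻¹) h2
          exact ⟨a, ha, b, hb, Or.inr (by rw [← h, inv_mul_cancel_right])⟩ }
  rw [eq_top_iff]
  intro g _
  obtain ⟨a, ha, c, hc', rfl⟩ :=
    CfsgLib.Involutions.ZStar.exists_mul_centralizer (CfsgLib.InvolTwo.SwappedPair.Data.isolated D) g
  exact mul_mem (Subgroup.mem_sup_right ha) (Subgroup.mem_sup_left hc')

end Cfsg.Agent.S3211
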