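import Cfsg.Statements.S3221
import Cfsg.Agent.Lib.U42.Main
import Cfsg.Agent.Lib.U42.Target

set_option autoImplicit false
open Cfsg

namespace Cfsg.Agent.S3221

/-- Let F be the field with 3 elements and t₀ an involution of PSp₄(3) = PSp₄(F) lying in the centre of a Sylow 2-subgroup. If G is a finite group of even order that has no subgroup of index 2 and contains an involution t whose centralizer C_G(t) is isomorphic to C_{PSp₄(3)}(t₀), then G ≅ PSp₄(3). -/
theorem result {G : Type*} [Group G] [Finite G] (hev : Even (Nat.card G))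
    (hG : ∀ H : Subgroup G, H.index ≠ 2) {F : Type*} [Field F] [Fintype F] (hF : Fintype.card F = 3)
    (U : Sylow 2 (Cfsg.PSp 2 F)) (t₀ : Cfsg.PSp 2 F) (ht₀ : orderOf t₀ = 2) (ht₀U : t₀ ∈ (U : Subgroup (Cfsg.PSp 2 F)))
    (ht₀c : ∀ u ∈ (U : Subgroup (Cfsg.PSp 2 F)), u * t₀ = t₀ * u) (t : G) (ht : orderOf t = 2)
    (e : ↥(Subgroup.centralizer ({t} : Set G)) ≃* ↥(Subgroup.centralizer ({t₀} : Set (Cfsg.PSp 2 F)))) :
    Nonempty (G ≃* Cfsg.PSp 2 F) := by
  obtain ⟨E⟩ := CfsgLib.U42.exists_cen_psp hF U t₀ ht₀ ht₀U ht₀c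
  haveI : IsSimpleGroup (Cfsg.PSp 2 F) := CfsgLib.Classical.isSimpleGroup_psp (by simp)
    (CfsgLib.Classical.sp_commutator_eq_top' (Or.inr (Or.inl ⟨by simp, by
      rw [Nat.card_eq_fintype_card, hF]⟩)))
  refine CfsgLib.U42.unique hG (fun K hK => ?_) (E.transport ht e) E
  haveI := Subgroup.normal_of_index_eq_two hK
  rcases IsSimpleGroup.eq_bot_or_eq_top_of_normal K inferInstance with h | h
  · rw [h, Subgroup.index_bot] at hK
    have hU : Nat.card (Subgroup.centralizer ({t₀} : Set (Cfsg.PSp 2 F))) ≤ Nat.card (Cfsg.PSp 2 F) :=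
      Subgroup.card_le_card_group _
    rw [E.card_cent, hK] at hU
    norm_num at hU
  · rw [h, Subgroup.index_top] at hK
    norm_num at hK

end Cfsg.Agent.S3221
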