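import Cfsg.Statements.S3239
import Cfsg.Agent.S1644
import Cfsg.Agent.Lib.JanWeak.Recog

set_option autoImplicit false
open Cfsg

namespace Cfsg.Agent.S3239


/-- Let t be an involution of a finite group G lying in the centre of a Sylow 2-subgroup of G, and suppose the weak closure of t in C_G(t) — the subgroup generated by all G-conjugates of t that commute with t — is isomorphic to Z₂ × A₅. Then the normal closure ⟨t^G⟩ of t in G is isomorphic to the first Janko group J₁. -/
theorem result {G : Type*} [Group G] [Finite G]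
    (t : G) (ht : orderOf t = 2) (S : Sylow 2 G) (htS : t ∈ (S : Subgroup G)) (htc : ∀ s ∈ (S : Subgroup G), s * t = t * s)
    (hW : Nonempty (↥(Subgroup.closure {x : G | ∃ g : G, x = g * t * g⁻¹ ∧ x * t = t * x}) ≃*
      (Multiplicative (ZMod 2) × ↥(alternatingGroup (Fin 5))))) :
    Cfsg.Spor.IsoJ1 ↥(Subgroup.normalClosure ({t} : Set G)) := by
  obtain ⟨e⟩ := hW
  haveI : Fact (Nat.Prime 2) := ⟨Nat.prime_two⟩
  have hset : {x : G | IsConj t x ∧ x * t = t * x} =
      {x : G | ∃ g : G, x = g * t * g⁻¹ ∧ x * t = t * x} := by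
    ext x
    constructor
    · rintro ⟨h, h2⟩
      obtain ⟨g, hg⟩ := isConj_iff.1 h
      exact ⟨g, hg.symm, h2⟩
    · rintro ⟨g, rfl, h2⟩
      exact ⟨isConj_iff.2 ⟨g, rfl⟩, h2⟩
  let D : CfsgLib.JanWeak.Wk t :=
    { ord := ht
      odd := by
        rw [← Nat.not_even_iff_odd, even_iff_two_dvd]
        intro h2
        set C := Subgroup.centralizer ({t} : Set G)
        have hSC : (S : Subgroup G) ≤ C := fun s hs => Subgroup.mem_centralizer_singleton_iff.2 (htc s hs)
        have hci := CfsgLib.Chars.card_isConj_mul_card_centralizer t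
        have hidx : Nat.card {x : G // IsConj t x} = C.index := by
          have h2' := C.card_mul_index
          rw [mul_comm] at hci
          exact Nat.eq_of_mul_eq_mul_left Nat.card_pos (hci.trans h2'.symm)
        rw [hidx] at h2
        exact S.not_dvd_index (h2.trans (Subgroup.index_dvd_of_le hSC))
      e := (MulEquiv.subgroupCongr (by rw [CfsgLib.JanWeak.wc, hset])).trans e }
  refine D.normalClosure_isoJ1 ?_
  obtain ⟨hsimple, hcard, -, -, hcent⟩ := D.quotient_facts
  haveI := hsimple
  obtain ⟨eC⟩ := hcent ⟨t, Subgroup.subset_closure (CfsgLib.JanWeak.comp_self t)⟩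
    (CfsgLib.JanWeak.comp_self t)
  obtain ⟨P, hP, h8⟩ := CfsgLib.JanWeak.exists_sylow_of_mdl hcard eC
  refine Cfsg.Agent.S1644.result P hP h8 _ ?_ eC
  rw [orderOf_eq_prime_iff]
  refine ⟨?_, fun h => ?_⟩
  · rw [pow_two, ← QuotientGroup.mk_mul, QuotientGroup.eq_one_iff]
    have h1 : (⟨t, Subgroup.subset_closure (CfsgLib.JanWeak.comp_self t)⟩ : CfsgLib.JanWeak.Hc t) *
        ⟨t, Subgroup.subset_closure (CfsgLib.JanWeak.comp_self t)⟩ = 1 := Subtype.ext D.tt
    rw [h1]
    exact one_mem _
  · rw [QuotientGroup.eq_one_iff, D.mem_center_iff] at h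
    exact D.ne_one (D.wc_inf_rt D.self_mem h)

end Cfsg.Agent.S3239
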