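import Cfsg.Statements.S3244
import Cfsg.Agent.Lib.Signalizer2.SylowCores
import Cfsg.Agent.Lib.Involutions.ZStar.Main
import Cfsg.Agent.Lib.Involutions.Isolated
import Cfsg.Agent.Lib.LocalEven.JCompUnique

/-!
Simple groups of characteristic 2 type: some maximal 2-local `M` has `Z(O₂(M))` non-cyclic.

Otherwise the odd cores of all 2-locals are trivial and every maximal 2-local with a Sylow subgroup
inside a Sylow subgroup `P` is the centraliser of the involution of `Z(P)`; looking at commuting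
conjugates of that involution with largest joint 2-group shows that it is isolated.
-/

set_option autoImplicit false
set_option linter.unusedSectionVars false
set_option linter.style.haveILetI false
open Cfsg

namespace Cfsg.Agent.S3244

open Subgroup CfsgLib.Base CfsgLib.Signalizer2

universe u

variable {G : Type u} [Group G] [Finite G]

theorem mem_smul_coe {H : Type*} [Group H] {g x : H} {P : Sylow 2 H} :
    x ∈ ((g • P : Sylow 2 H) : Subgroup H) ↔ g⁻¹ * x * g ∈ (P : Subgroup H) :=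
  CfsgLib.Involutions.mem_smul_sylow_iff'

/-- `x` is an involution in the centre of the Sylow subgroup `P`. -/
structure Cen (P : Sylow 2 G) (x : G) : Prop where
  mem : x ∈ (P : Subgroup G)
  comm : ∀ s ∈ (P : Subgroup G), Commute s x
  sq : x * x = 1
  ne : x ≠ 1

theorem isTwoLocal_centralizer {x : G} (h2 : x * x = 1) (h1 : x ≠ 1) :
    IsTwoLocal (centralizer ({x} : Set G)) :=
  ⟨zpowers x, isPGroup_zpowers (n := 1) (by rw [pow_one, _root_.sq, h2]), zpowers_ne_bot.2 h1,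
    (normalizer_zpowers_of_sq h2 h1).symm⟩

/-- All cores of centralisers of involutions are trivial. -/
theorem core_eq_bot (h2c : LocalsConstrained G) (S : Sylow 2 G) (A : Subgroup G)
    (hA : IsSCN (S : Subgroup G) A) (hA3 : ¬ PRankLE 2 2 ↥A)
    (hinv : ∀ X : Subgroup G, Odd (Nat.card ↥X) → (S : Subgroup G) ≤ normalizer (X : Set G) → X = ⊥)
    {t : G} (ht : orderOf t = 2) : centralizerPPrimeCore 2 t = ⊥ := by
  haveI : Fact (Nat.Prime 2) := ⟨Nat.prime_two⟩
  obtain ⟨hAS, hSA, hAC⟩ := hA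
  have hab : ∀ x ∈ A, ∀ y ∈ A, x * y = y * x := fun x hx y hy => by
    have hxC : x ∈ centralizer (A : Set G) := (mem_inf.1 (hAC.ge hx)).2
    exact (mem_centralizer_iff.1 hxC y hy).symm
  set A' := A.subgroupOf (S : Subgroup G) with hA'
  have hA'n : A'.Normal := normal_subgroupOf_of_le_normalizer hSA
  have hA'ab : IsMulCommutative ↥A' := ⟨⟨fun x y => Subtype.ext (Subtype.ext (hab _ x.2 _ y.2))⟩⟩
  have hA'3 : ¬ PRankLE 2 2 ↥A' := fun h => hA3 ((pRankLE_congr (subgroupOfEquivOfLe hAS)).1 h)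
  obtain ⟨W, hWodd, hW⟩ := exists_core_generated h2c S A' hA'n hA'ab hA'3 S
  have hr : ¬ PRankLE 2 1 ↥(S : Subgroup G) := fun h =>
    hA'3 (pRankLE_subgroup (pRankLE_mono two_pos one_le_two h) A')
  obtain ⟨hWeq, hWn⟩ := hW (S : Subgroup G) le_rfl hr
  have hW0 : W = ⊥ := hinv W hWodd (le_normalizer.trans hWn)
  obtain ⟨g, hg⟩ := CfsgLib.Involutions.exists_conj_mem_sylow_one S ht
  have ht1 : t ≠ 1 := fun e => by rw [e, orderOf_one] at ht; omega
  have h : centralizerPPrimeCore 2 (g * t * g⁻¹) = ⊥ := by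
    refine le_bot_iff.1 (le_trans ?_ hW0.le)
    rw [hWeq]
    exact le_iSup_of_le ⟨g * t * g⁻¹, hg, fun e => ht1 (conj_eq_one_iff.1 e)⟩ le_rfl
  have h2 := CfsgLib.Components.map_centralizerPPrimeCore_le (p := 2) (MulAut.conj g) t
  rw [MulAut.conj_apply, h, le_bot_iff] at h2
  exact (Subgroup.map_eq_bot_iff_of_injective _ (MulAut.conj g).injective).1 h2

/-- All cores of 2-locals are trivial. -/
theorem local_core_eq_bot (h2c : LocalsConstrained G)
    (hcore : ∀ t : G, orderOf t = 2 → centralizerPPrimeCore 2 t = ⊥)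
    {T : Subgroup G} (hT : IsPGroup 2 ↥T) (hT1 : T ≠ ⊥) :
    pPrimeCore 2 ↥(normalizer (T : Set G)) = ⊥ := by
  haveI : Fact (Nat.Prime 2) := ⟨Nat.prime_two⟩
  set N := normalizer (T : Set G) with hN
  haveI : Nontrivial ↥T := (nontrivial_iff_ne_bot T).2 hT1
  haveI := hT.center_nontrivial
  obtain ⟨⟨t0, ht0⟩, ht01⟩ := exists_prime_orderOf_dvd_card' (G := center ↥T) 2
    (by
      obtain ⟨k, hk⟩ := IsPGroup.iff_card.1 (hT.to_subgroup (center ↥T))
      have : 1 < Nat.card (center ↥T) := Finite.one_lt_card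
      rcases k with _ | k
      · omega
      · exact hk ▸ dvd_pow_self 2 (Nat.succ_ne_zero k))
  set t : G := (t0 : G) with htdef
  have ht : orderOf t = 2 := by
    have h := ht01
    rw [← orderOf_coe] at h
    rw [htdef, orderOf_coe]
    exact h
  have ht2 : t * t = 1 := by rw [← _root_.sq, ← ht, pow_orderOf_eq_one]
  have ht1 : t ≠ 1 := fun e => by rw [e, orderOf_one] at ht; omega
  set X := centralizer ({t} : Set G) with hX
  have hTX : T ≤ X := fun x hx => mem_centralizer_singleton_iff.2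
    (congrArg Subtype.val (mem_center_iff.1 ht0 ⟨x, hx⟩))
  set Y := (pPrimeCore 2 ↥N).map N.subtype with hY
  have hYN : Y ≤ N := map_subtype_le _
  have hYcop : (Nat.card Y).Coprime 2 := coprime_card_map_pPrimeCore _
  -- the core centralises `T`
  have hYX : Y ≤ X := by
    have htN : t ∈ N := le_normalizer (t0 : ↥T).2
    rintro _ ⟨y, hy, rfl⟩
    have hTn : (T.subgroupOf N).Normal := normal_subgroupOf_of_le_normalizer le_rfl
    have hdis : Disjoint (pPrimeCore 2 ↥N) (T.subgroupOf N) := by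
      rw [disjoint_iff]
      refine CfsgLib.Base.inf_eq_bot_of_coprime ?_
      rw [card_subgroupOf le_normalizer]
      obtain ⟨k, hk⟩ := IsPGroup.iff_card.1 hT
      rw [hk]
      exact (pPrimeCore_coprime 2 ↥N).pow_right k
    have h := commute_of_normal_of_disjoint _ _ (Cfsg.pPrimeCore_normal 2 ↥N) hTn hdis y ⟨t, htN⟩ hy
      (mem_subgroupOf.2 (t0 : ↥T).2)
    exact mem_centralizer_singleton_iff.2 (congrArg Subtype.val h.eq)
  have hXc : IsPConstrained 2 ↥X := by
    have := h2c (zpowers t) (isPGroup_zpowers (n := 1) (by rw [pow_one, _root_.sq, ht2]))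
      (zpowers_ne_bot.2 ht1)
    rwa [normalizer_zpowers_of_sq ht2 ht1] at this
  have hX0 : pPrimeCore 2 ↥X = ⊥ :=
    (Subgroup.map_eq_bot_iff_of_injective _ X.subtype_injective).1 (hcore t ht)
  set P := T.subgroupOf X with hP
  have hP2 : IsPGroup 2 ↥P := hT.of_equiv (subgroupOfEquivOfLe hTX).symm
  have hYP : Y.subgroupOf X ≤
      (pPrimeCore 2 ↥(normalizer (P : Set X))).map (normalizer (P : Set X)).subtype := by
    refine le_map_pPrimeCore (fun y hy => mem_normalizer_iff.2 fun x => ?_) ?_ ?_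
    · exact mem_normalizer_iff.1 (hYN (mem_subgroupOf.1 hy)) (x : G)
    · intro g hg
      have hgT : (g : G) ∈ N := by
        refine mem_normalizer_iff.2 fun x => ⟨fun hx => ?_, fun hx => ?_⟩
        · exact (mem_normalizer_iff.1 hg ⟨x, hTX hx⟩).1 hx
        · have h' := hTX hx
          have hxX : x ∈ X := by
            have := mul_mem (mul_mem (inv_mem g.2) h') g.2
            simpa [mul_assoc] using this
          exact (mem_normalizer_iff.1 hg ⟨x, hxX⟩).2 hx
      have hgY : (g : G) ∈ normalizer (Y : Set G) := le_normalizer_map_pPrimeCore _ hgT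
      exact mem_normalizer_iff.2 fun x => mem_normalizer_iff.1 hgY (x : G)
    · rwa [card_subgroupOf hYX]
  rw [CfsgLib.PLocal.map_pPrimeCore_normalizer hXc hP2, hX0, bot_inf_eq, le_bot_iff,
    subgroupOf_eq_bot, disjoint_iff, inf_eq_left.2 hYX] at hYP
  exact (Subgroup.map_eq_bot_iff_of_injective _ N.subtype_injective).1 hYP

/-- A finite cyclic group has at most one involution. -/
theorem eq_of_sq_cyclic {H : Type*} [Group H] [Finite H] [IsCyclic H] {a b : H} (ha : a * a = 1)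
    (hb : b * b = 1) (ha1 : a ≠ 1) (hb1 : b ≠ 1) : a = b := by
  classical
  haveI := Fintype.ofFinite H
  by_contra hne
  have h := IsCyclic.card_pow_eq_one_le (α := H) two_pos
  have hs : ({1, a, b} : Finset H) ⊆ Finset.univ.filter fun x : H => x ^ 2 = 1 := by
    intro x hx
    simp only [Finset.mem_insert, Finset.mem_singleton] at hx
    simp only [Finset.mem_filter, Finset.mem_univ, true_and]
    rcases hx with rfl | rfl | rfl
    · exact one_pow 2
    · rw [_root_.sq, ha]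
    · rw [_root_.sq, hb]
  have h3 : ({1, a, b} : Finset H).card = 3 := by
    rw [Finset.card_insert_of_notMem (by simp [Ne.symm ha1, Ne.symm hb1]),
      Finset.card_pair hne]
  have := Finset.card_le_card hs
  omega

/-- The only involution in a cyclic `Z(O₂(M))`. -/
theorem eq_of_centres {M : Subgroup G} [IsCyclic ↥(center ↥(pCore 2 ↥M))] {a b : ↥M}
    (ha : a ∈ pCore 2 ↥M) (hb : b ∈ pCore 2 ↥M) (hac : ∀ q ∈ pCore 2 ↥M, q * a = a * q)
    (hbc : ∀ q ∈ pCore 2 ↥M, q * b = b * q) (ha2 : (a : G) * a = 1) (hb2 : (b : G) * b = 1)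
    (ha1 : (a : G) ≠ 1) (hb1 : (b : G) ≠ 1) : (a : G) = b := by
  let ac : center ↥(pCore 2 ↥M) := ⟨⟨a, ha⟩, mem_center_iff.2 fun q => Subtype.ext (hac q q.2)⟩
  let bc : center ↥(pCore 2 ↥M) := ⟨⟨b, hb⟩, mem_center_iff.2 fun q => Subtype.ext (hbc q q.2)⟩
  have h : ac = bc := eq_of_sq_cyclic (Subtype.ext (Subtype.ext (Subtype.ext ha2)))
    (Subtype.ext (Subtype.ext (Subtype.ext hb2)))
    (fun e => ha1 (congrArg (fun w : center ↥(pCore 2 ↥M) => ((w : ↥(pCore 2 ↥M)) : ↥M).val) e))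
    (fun e => hb1 (congrArg (fun w : center ↥(pCore 2 ↥M) => ((w : ↥(pCore 2 ↥M)) : ↥M).val) e))
  exact congrArg (fun w : center ↥(pCore 2 ↥M) => ((w : ↥(pCore 2 ↥M)) : ↥M).val) h

/-- A maximal 2-local with Sylow subgroup inside `P` is the centraliser of the involution of `Z(P)`. -/
theorem maximal_eq (h2c : LocalsConstrained G)
    (hcore : ∀ t : G, orderOf t = 2 → centralizerPPrimeCore 2 t = ⊥)
    (hcyc : ∀ M : Subgroup G, IsMaximalTwoLocal M → IsCyclic ↥(center ↥(pCore 2 ↥M)))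
    {P : Sylow 2 G} {x : G} (hx : Cen P x) {M : Subgroup G} (hM : IsMaximalTwoLocal M)
    {R : Subgroup G} (hRP : R ≤ (P : Subgroup G)) (hR : IsSylowTwoIn R M) :
    M = centralizer ({x} : Set G) ∧ ∃ hxM : x ∈ M, (⟨x, hxM⟩ : ↥M) ∈ pCore 2 ↥M := by
  haveI : Fact (Nat.Prime 2) := ⟨Nat.prime_two⟩
  obtain ⟨⟨T, hT2, hT1, hMT⟩, -⟩ := id hM
  obtain ⟨hRM, hR2, hRi⟩ := hR
  have hTM : T ≤ M := hMT ▸ le_normalizer
  have hRsyl : ∀ K : Subgroup G, R ≤ K → K ≤ M → IsPGroup 2 ↥K → K ≤ R := by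
    intro K hRK hKM hK
    rw [← relIndex_eq_one]
    obtain ⟨k, hk⟩ := hK.index (R.subgroupOf K)
    change R.relIndex K = 2 ^ k at hk
    have hdvd : R.relIndex K ∣ R.relIndex M := Dvd.intro _ (relIndex_mul_relIndex R K M hRK hKM)
    rw [hk] at hdvd ⊢
    rcases k with _ | k
    · rw [pow_zero]
    · exact absurd ((dvd_pow_self 2 k.succ_ne_zero).trans hdvd) fun h => Nat.not_even_iff_odd.2 hRi (even_iff_two_dvd.2 h)
  -- the 2-core lies in `R`
  set Q := (pCore 2 ↥M).map M.subtype with hQ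
  have hQ2 : IsPGroup 2 ↥Q := (isPGroup_pCore 2 ↥M).map _
  have hQR : Q ≤ R := by
    have hRQn : R ≤ normalizer (Q : Set G) := hRM.trans (le_normalizer_map_pCore _)
    refine le_sup_right.trans (hRsyl (R ⊔ Q) le_sup_left (sup_le hRM (map_subtype_le _)) ?_)
    exact hR2.to_sup_of_normal_right' hQ2 hRQn
  have hTQ : T ≤ Q := by
    intro y hy
    haveI : (T.subgroupOf M).Normal := normal_subgroupOf_of_le_normalizer hMT.le
    exact ⟨⟨y, hTM hy⟩, CfsgLib.Base.le_pCore (hT2.of_equiv (subgroupOfEquivOfLe hTM).symm)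
      (show (⟨y, hTM hy⟩ : ↥M) ∈ T.subgroupOf M from hy), rfl⟩
  have hxM : x ∈ M := by
    rw [hMT]
    refine centralizer_le_normalizer _ (mem_centralizer_iff.2 fun y hy => ?_)
    exact (hx.comm y (hRP (hQR (hTQ hy)))).eq
  have hc : centralizer (pCore 2 ↥M : Set ↥M) ≤ pCore 2 ↥M := by
    have h := h2c T hT2 hT1
    rw [← hMT] at h
    have h0 : pPrimeCore 2 ↥M = ⊥ := by rw [hMT]; exact local_core_eq_bot h2c hcore hT2 hT1
    exact (CfsgLib.PLocal.isPConstrained_iff_of_eq_bot h0).mp h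
  have hxQ : (⟨x, hxM⟩ : ↥M) ∈ pCore 2 ↥M := hc (mem_centralizer_iff.2 fun y hy =>
    Subtype.ext (hx.comm y (hRP (hQR ⟨y, hy, rfl⟩))).eq)
  refine ⟨?_, hxM, hxQ⟩
  haveI := hcyc M hM
  refine (hM.2 _ (isTwoLocal_centralizer hx.sq hx.ne) fun g hg => ?_).symm
  have hn : (pCore 2 ↥M).Normal := pCore_normal 2 ↥M
  have hxc : ∀ q ∈ pCore 2 ↥M, q * ⟨x, hxM⟩ = ⟨x, hxM⟩ * q := fun q hq =>
    Subtype.ext (hx.comm _ (hRP (hQR ⟨q, hq, rfl⟩))).eq
  set g' : ↥M := ⟨g, hg⟩
  have h := eq_of_centres (a := g' * ⟨x, hxM⟩ * g'⁻¹) (b := ⟨x, hxM⟩) (hn.conj_mem _ hxQ g') hxQ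
    (fun q hq => ?_) hxc ?_ hx.sq ?_ hx.ne
  · rw [coe_mul, coe_mul, coe_inv] at h
    exact mem_centralizer_singleton_iff.2 (mul_inv_eq_iff_eq_mul.1 h)
  · have h1 : g'⁻¹ * q * g' ∈ pCore 2 ↥M := by simpa using hn.conj_mem q hq g'⁻¹
    have h2 : g'⁻¹ * q * g' * ⟨x, hxM⟩ = ⟨x, hxM⟩ * (g'⁻¹ * q * g') :=
      Subtype.ext (hx.comm _ (hRP (hQR ⟨_, h1, rfl⟩))).eq
    calc q * (g' * ⟨x, hxM⟩ * g'⁻¹) = g' * ((g'⁻¹ * q * g') * ⟨x, hxM⟩) * g'⁻¹ := by group
      _ = g' * (⟨x, hxM⟩ * (g'⁻¹ * q * g')) * g'⁻¹ := by rw [h2]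
      _ = _ := by group
  · show g * x * g⁻¹ * (g * x * g⁻¹) = 1
    calc g * x * g⁻¹ * (g * x * g⁻¹) = g * (x * x) * g⁻¹ := by group
      _ = 1 := by rw [hx.sq, mul_one, mul_inv_cancel]
  · exact fun e => hx.ne (conj_eq_one_iff.1 e)

/-- Two conjugate involutions in the centre of one Sylow subgroup are equal. -/
theorem central_eq (h2c : LocalsConstrained G)
    (hcore : ∀ t : G, orderOf t = 2 → centralizerPPrimeCore 2 t = ⊥)
    (hcyc : ∀ M : Subgroup G, IsMaximalTwoLocal M → IsCyclic ↥(center ↥(pCore 2 ↥M)))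
    {P : Sylow 2 G} {x y : G} (hx : Cen P x) (hy : Cen P y) {M : Subgroup G}
    (hM : IsMaximalTwoLocal M) (hP : IsSylowTwoIn (P : Subgroup G) M) : x = y := by
  obtain ⟨hMx, hxM, hxQ⟩ := maximal_eq h2c hcore hcyc hx hM le_rfl hP
  obtain ⟨hMy, hyM, hyQ⟩ := maximal_eq h2c hcore hcyc hy hM le_rfl hP
  haveI := hcyc M hM
  exact eq_of_centres hxQ hyQ
    (fun q _ => Subtype.ext (mem_centralizer_singleton_iff.1 (hMx.le q.2)))
    (fun q _ => Subtype.ext (mem_centralizer_singleton_iff.1 (hMy.le q.2))) hx.sq hy.sq hx.ne hy.ne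

/-- A 2-subgroup of the centraliser of `x ∈ Z(P)` lies in a Sylow subgroup with `x` in its centre. -/
theorem exists_cen_ge {P : Sylow 2 G} {x : G} (hx : Cen P x) {K : Subgroup G}
    (hK : IsPGroup 2 ↥K) (hKx : K ≤ centralizer ({x} : Set G)) :
    ∃ P' : Sylow 2 G, K ≤ (P' : Subgroup G) ∧ Cen P' x := by
  haveI : Fact (Nat.Prime 2) := ⟨Nat.prime_two⟩
  set C := centralizer ({x} : Set G)
  have hPC : (P : Subgroup G) ≤ C := fun s hs => mem_centralizer_singleton_iff.2 (hx.comm s hs).eq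
  obtain ⟨Q, hQ⟩ := (hK.comap_subtype : IsPGroup 2 (K.subgroupOf C)).exists_le_sylow
  obtain ⟨c, hc⟩ := MulAction.exists_smul_eq C (P.subtype hPC) Q
  refine ⟨(c : G) • P, ?_, ?_⟩
  · intro k hk
    have hkQ : (⟨k, hKx hk⟩ : C) ∈ (Q : Subgroup C) := hQ hk
    rw [← hc, mem_smul_coe] at hkQ
    rw [mem_smul_coe]
    exact hkQ
  · have hcx : Commute (c : G) x := mem_centralizer_singleton_iff.1 c.2
    have e : (c : G)⁻¹ * x * (c : G) = x := by rw [mul_assoc, ← hcx.eq, inv_mul_cancel_left]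
    refine ⟨?_, fun s hs => ?_, hx.sq, hx.ne⟩
    · rw [mem_smul_coe, e]
      exact hx.mem
    · rw [mem_smul_coe] at hs
      have h := hx.comm _ hs
      have hs' : s = (c : G) * ((c : G)⁻¹ * s * (c : G)) * (c : G)⁻¹ := by group
      rw [hs']
      exact (hcx.mul_left h).mul_left hcx.inv_left

/-- Two commuting conjugate 2-central involutions are equal. -/
theorem no_pair (h2c : LocalsConstrained G)
    (hcore : ∀ t : G, orderOf t = 2 → centralizerPPrimeCore 2 t = ⊥)
    (hcyc : ∀ M : Subgroup G, IsMaximalTwoLocal M → IsCyclic ↥(center ↥(pCore 2 ↥M))) :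
    ∀ (k : ℕ) (P : Sylow 2 G) (x y : G), Cen P x → y ∈ (P : Subgroup G) → IsConj x y →
      Nat.card G ≤ Nat.card ↥((P : Subgroup G) ⊓ centralizer ({y} : Set G)) + k → x = y := by
  haveI : Fact (Nat.Prime 2) := ⟨Nat.prime_two⟩
  intro k
  induction k using Nat.strong_induction_on with
  | _ k ih =>
    intro P x y hx hyP hconj hk
    by_contra hne
    set R := (P : Subgroup G) ⊓ centralizer ({y} : Set G) with hR
    have hR2 : IsPGroup 2 ↥R := P.isPGroup'.to_le inf_le_left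
    -- `y` is central in some Sylow subgroup containing `R`
    obtain ⟨g, rfl⟩ := isConj_iff.1 hconj
    have hy : Cen (g • P) (g * x * g⁻¹) := by
      refine ⟨?_, fun s hs => ?_, ?_, fun e => hx.ne (conj_eq_one_iff.1 e)⟩
      · rw [mem_smul_coe]
        convert hx.mem using 1
        group
      · rw [mem_smul_coe] at hs
        have h := (hx.comm _ hs).eq
        calc s * (g * x * g⁻¹) = g * (g⁻¹ * s * g * x) * g⁻¹ := by group
          _ = g * (x * (g⁻¹ * s * g)) * g⁻¹ := by rw [h]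
          _ = _ := by group
      · calc g * x * g⁻¹ * (g * x * g⁻¹) = g * (x * x) * g⁻¹ := by group
          _ = 1 := by rw [hx.sq, mul_one, mul_inv_cancel]
    set y := g * x * g⁻¹ with hydef
    obtain ⟨P', hRP', hy'⟩ := exists_cen_ge hy hR2 inf_le_right
    have hxy : Commute y x := hx.comm y hyP
    have hxR : x ∈ R := mem_inf.2 ⟨hx.mem, mem_centralizer_singleton_iff.2 hxy.eq.symm⟩
    have hR1 : R ≠ ⊥ := fun e => hx.ne (mem_bot.1 (e ▸ hxR))
    obtain ⟨M, hM, hNM⟩ := CfsgLib.LocalEven.JComp.exists_maximalTwoLocal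
      (N := normalizer (R : Set G)) ⟨R, hR2, hR1, rfl⟩
    -- for both Sylow subgroups, `M` is the centraliser of the central involution
    have key : ∀ (P₁ : Sylow 2 G) (x₁ y₁ : G), Cen P₁ x₁ → IsConj x x₁ → IsConj x₁ y₁ → x₁ ≠ y₁ →
        y₁ ∈ R → R ≤ (P₁ : Subgroup G) → R ≤ centralizer ({y₁} : Set G) →
        M = centralizer ({x₁} : Set G) ∧ ∃ h : x₁ ∈ M, (⟨x₁, h⟩ : ↥M) ∈ pCore 2 ↥M := by
      intro P₁ x₁ y₁ hx₁ hxx₁ hconj₁ hne₁ hy₁R hRP₁ hRy₁
      set K := (P₁ : Subgroup G) ⊓ normalizer (R : Set G) with hK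
      have hK2 : IsPGroup 2 ↥K := P₁.isPGroup'.to_le inf_le_left
      obtain ⟨R₁, hKR₁, hR₁⟩ := CfsgLib.LocalEven.JComp.exists_isSylowTwoIn hK2 (inf_le_right.trans hNM)
      obtain ⟨P₂, hP₂⟩ := hR₁.2.1.exists_le_sylow
      obtain ⟨c, rfl⟩ := MulAction.exists_smul_eq G P₁ P₂
      -- the central involution of `P₂`
      have hz : Cen (c • P₁) (c * x₁ * c⁻¹) := by
        refine ⟨?_, fun s hs => ?_, ?_, fun e => hx₁.ne (conj_eq_one_iff.1 e)⟩
        · rw [mem_smul_coe]
          convert hx₁.mem using 1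
          group
        · rw [mem_smul_coe] at hs
          calc s * (c * x₁ * c⁻¹) = c * (c⁻¹ * s * c * x₁) * c⁻¹ := by group
            _ = c * (x₁ * (c⁻¹ * s * c)) * c⁻¹ := by rw [(hx₁.comm _ hs).eq]
            _ = _ := by group
        · calc c * x₁ * c⁻¹ * (c * x₁ * c⁻¹) = c * (x₁ * x₁) * c⁻¹ := by group
            _ = 1 := by rw [hx₁.sq, mul_one, mul_inv_cancel]
      obtain ⟨hMz, hzmem⟩ := maximal_eq h2c hcore hcyc hz hM hP₂ hR₁
      suffices hzx : c * x₁ * c⁻¹ = x₁ by rw [← hzx]; exact ⟨hMz, hzmem⟩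
      by_contra hzx
      set z := c * x₁ * c⁻¹ with hzdef
      -- `z` centralises `K`, which is larger than `R`
      have hKz : K ≤ centralizer ({z} : Set G) := (inf_le_right.trans hNM).trans hMz.le
      have hRK : R < K := by
        refine lt_of_le_of_ne (le_inf hRP₁ le_normalizer) fun e => ?_
        have htop : (R.subgroupOf (P₁ : Subgroup G)) = ⊤ := by
          haveI : Group.IsNilpotent ↥(P₁ : Subgroup G) := P₁.isPGroup'.isNilpotent
          by_contra hlt
          have hlt' := Group.normalizerCondition_of_isNilpotent _ (lt_top_iff_ne_top.2 hlt)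
          obtain ⟨w, hw, hwR⟩ := SetLike.exists_of_lt hlt'
          apply hwR
          rw [mem_subgroupOf, e]
          refine mem_inf.2 ⟨w.2, mem_normalizer_iff.2 fun v => ⟨fun hv => ?_, fun hv => ?_⟩⟩
          · exact (mem_normalizer_iff.1 hw ⟨v, hRP₁ hv⟩).1 hv
          · have hvP : v ∈ (P₁ : Subgroup G) := by
              have := mul_mem (mul_mem (inv_mem w.2) (hRP₁ hv)) w.2
              simpa [mul_assoc] using this
            exact (mem_normalizer_iff.1 hw ⟨v, hvP⟩).2 hv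
        -- `P₁ ≤ R` centralises `y₁`, so `y₁` is central and equals `x₁`
        have hPR : (P₁ : Subgroup G) ≤ R := subgroupOf_eq_top.1 htop
        obtain ⟨M₁, hM₁, hNM₁⟩ := CfsgLib.LocalEven.JComp.exists_maximalTwoLocal
          (N := normalizer ((P₁ : Subgroup G) : Set G))
          ⟨_, P₁.isPGroup', fun e' => hx₁.ne (mem_bot.1 (e' ▸ hx₁.mem)), rfl⟩
        have hS₁ : IsSylowTwoIn (P₁ : Subgroup G) M₁ := ⟨le_normalizer.trans hNM₁, P₁.isPGroup',
          Nat.not_even_iff_odd.1 fun h => P₁.not_dvd_index ((even_iff_two_dvd.1 h).trans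
            (relIndex_dvd_index_of_le (le_normalizer.trans hNM₁)))⟩
        have hy₁ : Cen P₁ y₁ := by
          obtain ⟨d, rfl⟩ := isConj_iff.1 hconj₁
          refine ⟨hRP₁ hy₁R, fun s hs => mem_centralizer_singleton_iff.1 (hRy₁ (hPR hs)), ?_,
            fun e => hx₁.ne (conj_eq_one_iff.1 e)⟩
          calc d * x₁ * d⁻¹ * (d * x₁ * d⁻¹) = d * (x₁ * x₁) * d⁻¹ := by group
            _ = 1 := by rw [hx₁.sq, mul_one, mul_inv_cancel]
        exact hne₁ (central_eq h2c hcore hcyc hx₁ hy₁ hM₁ hS₁)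
      -- a Sylow subgroup of `C(x₁)` containing `K` and `z`
      have hKx : K ≤ centralizer ({x₁} : Set G) := fun s hs =>
        mem_centralizer_singleton_iff.2 (hx₁.comm s hs.1).eq
      have hx₁K : x₁ ∈ K := mem_inf.2 ⟨hx₁.mem, by
        refine centralizer_le_normalizer _ (mem_centralizer_iff.2 fun v hv => ?_)
        exact (hx₁.comm v (hRP₁ hv)).eq⟩
      have hzx₁ : z ∈ centralizer ({x₁} : Set G) := mem_centralizer_singleton_iff.2
        (mem_centralizer_singleton_iff.1 (hKz hx₁K)).symm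
      have hJ2 : IsPGroup 2 ↥(K ⊔ zpowers z) := hK2.to_sup_of_normal_right'
        (isPGroup_zpowers (n := 1) (by rw [pow_one, _root_.sq, hz.sq]))
        (hKz.trans (normalizer_zpowers_of_sq hz.sq hz.ne).ge)
      obtain ⟨P₃, hJP₃, hx₃⟩ := exists_cen_ge hx₁ hJ2 (sup_le hKx (zpowers_le.2 hzx₁))
      have hlt : Nat.card ↥R < Nat.card ↥((P₃ : Subgroup G) ⊓ centralizer ({z} : Set G)) :=
        (lt_of_le_of_ne (card_le_of_le hRK.le) fun e => hRK.ne (eq_of_le_of_card_ge hRK.le e.ge)).trans_le (card_le_of_le (le_inf (le_sup_left.trans hJP₃) hKz))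
      have hle := card_le_card_group ((P₃ : Subgroup G) ⊓ centralizer ({z} : Set G))
      refine hzx (ih (k - 1) ?_ P₃ x₁ z hx₃ ((le_sup_right.trans hJP₃) (mem_zpowers z))
        (isConj_iff.2 ⟨c, rfl⟩) ?_).symm
      · omega
      · omega
    have hyR : y ∈ R := mem_inf.2 ⟨hyP, mem_centralizer_singleton_iff.2 rfl⟩
    obtain ⟨hMx, hxM, hxQ⟩ := key P x y hx (IsConj.refl x) (isConj_iff.2 ⟨g, rfl⟩) hne hyR inf_le_left
      inf_le_right
    obtain ⟨hMy, hyM, hyQ⟩ := key P' y x hy' (isConj_iff.2 ⟨g, rfl⟩)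
      (IsConj.symm (isConj_iff.2 ⟨g, rfl⟩)) (Ne.symm hne) hxR hRP'
      (fun s hs => mem_centralizer_singleton_iff.2 (hx.comm s hs.1).eq)
    haveI := hcyc M hM
    exact hne (eq_of_centres hxQ hyQ
      (fun q _ => Subtype.ext (mem_centralizer_singleton_iff.1 (hMx.le q.2)))
      (fun q _ => Subtype.ext (mem_centralizer_singleton_iff.1 (hMy.le q.2))) hx.sq hy.sq hx.ne hy.ne)

/-- Say that a finite group G is of characteristic 2 type in the early sense when a Sylow 2-subgroup S of G has a self-centralizing normal subgroup of rank at least 3, S normalizes no nontrivial subgroup of odd order, and every 2-local subgroup of G is 2-constrained. If G is a non-abelian simple group of characteristic 2 type in this sense, then for some maximal 2-local subgroup M of G the centre of O₂(M) is not cyclic. -/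
theorem result {G : Type*} [Group G] [Finite G] [IsSimpleGroup G]
    (hG : ¬ IsMulCommutative G) (S : Sylow 2 G) (A : Subgroup G) (hA : Cfsg.IsSCN (S : Subgroup G) A) (hA3 : ¬ Cfsg.PRankLE 2 2 ↥A)
    (hinv : ∀ X : Subgroup G, Odd (Nat.card ↥X) → (S : Subgroup G) ≤ Subgroup.normalizer (X : Set G) → X = ⊥)
    (hcon : ∀ T : Subgroup G, IsPGroup 2 ↥T → T ≠ ⊥ → Cfsg.IsPConstrained 2 ↥(Subgroup.normalizer (T : Set G))) :
    ∃ M : Subgroup G, Cfsg.IsMaximalTwoLocal M ∧ ¬ IsCyclic ↥(Subgroup.center ↥(Cfsg.pCore 2 ↥M)) := by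
  haveI : Fact (Nat.Prime 2) := ⟨Nat.prime_two⟩
  by_contra hne
  push Not at hne
  have hcore : ∀ t : G, orderOf t = 2 → centralizerPPrimeCore 2 t = ⊥ := fun t ht =>
    core_eq_bot hcon S A hA hA3 hinv ht
  have hS1 : (S : Subgroup G) ≠ ⊥ := fun e => hA3 (pRankLE_of_card_le (by
    have h1 : A ≤ ⊥ := e ▸ hA.1
    rw [le_bot_iff.1 h1, Subgroup.card_bot]
    norm_num))
  haveI : Nontrivial ↥(S : Subgroup G) := (nontrivial_iff_ne_bot _).2 hS1
  haveI := S.isPGroup'.center_nontrivial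
  obtain ⟨⟨z0, hz0⟩, hz01⟩ := exists_prime_orderOf_dvd_card' (G := center ↥(S : Subgroup G)) 2
    (by
      obtain ⟨k, hk⟩ := IsPGroup.iff_card.1 (S.isPGroup'.to_subgroup (center ↥(S : Subgroup G)))
      have : 1 < Nat.card (center ↥(S : Subgroup G)) := Finite.one_lt_card
      rcases k with _ | k
      · omega
      · exact hk ▸ dvd_pow_self 2 (Nat.succ_ne_zero k))
  have hz : orderOf (z0 : G) = 2 := by
    rw [← orderOf_coe] at hz01
    rw [orderOf_coe]
    exact hz01
  have hCen : Cen S (z0 : G) := ⟨z0.2, fun s hs => congrArg Subtype.val (mem_center_iff.1 hz0 ⟨s, hs⟩),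
    (_root_.sq (z0 : G)).symm.trans ((congrArg ((z0 : G) ^ ·) hz).symm.trans (pow_orderOf_eq_one _)),
    fun e => by rw [e, orderOf_one] at hz; omega⟩
  have hiso : ∀ g : G, g * (z0 : G) * g⁻¹ ∈ (S : Subgroup G) → g * (z0 : G) * g⁻¹ = z0 := fun g hg =>
    (no_pair hcon hcore hne (Nat.card G) S _ _ hCen hg (isConj_iff.2 ⟨g, rfl⟩) (Nat.le_add_left _ _)).symm
  have hcm := CfsgLib.Involutions.ZStar.centralModCore
    (CfsgLib.Involutions.isolated_of_sylow S hz hiso)
  haveI : (oddCore G).Normal := Cfsg.pPrimeCore_normal 2 G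
  rcases IsSimpleGroup.eq_bot_or_eq_top_of_normal (oddCore G) inferInstance with h | h
  · have hzc : (z0 : G) ∈ center G := mem_center_iff.2 fun g => by
      have := hcm g
      rw [h, mem_bot, mul_inv_eq_one, mul_inv_eq_iff_eq_mul] at this
      exact this.symm
    rcases IsSimpleGroup.eq_bot_or_eq_top_of_normal (center G) inferInstance with hc | hc
    · exact hCen.ne (mem_bot.1 (hc ▸ hzc))
    · exact hG ⟨⟨fun a b => (mem_center_iff.1 (hc ▸ Subgroup.mem_top b : b ∈ center G) a)⟩⟩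
  · have hodd := odd_card_oddCore G
    rw [h, Subgroup.card_top] at hodd
    exact Nat.not_even_iff_odd.2 hodd (even_iff_two_dvd.2 (hz ▸ orderOf_dvd_natCard _))

end Cfsg.Agent.S3244
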