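import Cfsg.Statements.S3246
import Cfsg.Agent.Lib.Involutions.ConstrainedLocal
import Cfsg.Agent.Lib.PGroups.Basic
import Cfsg.Agent.Lib.Components.Signalizer
import Cfsg.Agent.Lib.Signalizer2.Basic

set_option autoImplicit false
open Cfsg

namespace Cfsg.Agent.S3246

open Subgroup CfsgLib.Signalizer2
open scoped commutatorElement

theorem exists_central_involution {G : Type*} [Group G] [Finite G] {T : Subgroup G}
    (hT : IsPGroup 2 T) (hT1 : T ≠ ⊥) :
    ∃ z ∈ T, orderOf z = 2 ∧ T ≤ centralizer ({z} : Set G) := by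
  haveI : Fact (Nat.Prime 2) := ⟨Nat.prime_two⟩
  haveI : Nontrivial T := (nontrivial_iff_ne_bot _).2 hT1
  haveI := hT.center_nontrivial
  obtain ⟨z, hz⟩ := exists_prime_orderOf_dvd_card' 2 (G := center T)
    (CfsgLib.PGroups.dvd_card_of_ne_bot hT ((nontrivial_iff_ne_bot (center T)).1 inferInstance))
  refine ⟨((z : T) : G), (z : T).2, by rw [orderOf_coe, orderOf_coe, hz], fun t ht => ?_⟩
  exact mem_centralizer_singleton_iff.2 (congrArg Subtype.val (mem_center_iff.1 z.2 ⟨t, ht⟩))

/-- Centralizers of involutions when the maximal 2-locals are constrained with trivial core. -/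
theorem centralizer_of_maximal {G : Type*} [Group G] [Finite G]
    (h : ∀ M : Subgroup G, Cfsg.IsMaximalTwoLocal M → Cfsg.IsPConstrained 2 ↥M ∧ Cfsg.oddCore ↥M = ⊥)
    {t : G} (ht : orderOf t = 2) :
    Cfsg.IsPConstrained 2 ↥(centralizer ({t} : Set G)) ∧
      Cfsg.oddCore ↥(centralizer ({t} : Set G)) = ⊥ := by
  haveI : Fact (Nat.Prime 2) := ⟨Nat.prime_two⟩
  have hp : IsPGroup 2 (zpowers t) :=
    IsPGroup.of_card (n := 1) (by rw [Nat.card_zpowers, ht]; rfl)
  have h1 : zpowers t ≠ ⊥ := fun e => by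
    rw [zpowers_eq_bot] at e; rw [e, orderOf_one] at ht; exact absurd ht (by norm_num)
  have hN : normalizer (zpowers t : Set G) = centralizer ({t} : Set G) := by
    refine le_antisymm (fun g hg => ?_) ?_
    · obtain ⟨k, hk⟩ := mem_zpowers_iff.1 ((mem_normalizer_iff.1 hg t).1 (mem_zpowers t))
      have hk2 : g * t * g⁻¹ = 1 ∨ g * t * g⁻¹ = t := by
        rw [← hk]
        have := zpow_mod_orderOf t k
        rw [ht] at this
        rcases Int.emod_two_eq_zero_or_one k with e | e
        · left; rw [← this, show ((2 : ℕ) : ℤ) = 2 from rfl, e, zpow_zero]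
        · right; rw [← this, show ((2 : ℕ) : ℤ) = 2 from rfl, e, zpow_one]
      rcases hk2 with e | e
      · exfalso
        have : t = 1 := by simpa [mul_assoc] using congrArg (fun x => g⁻¹ * x * g) e
        rw [this, orderOf_one] at ht; exact absurd ht (by norm_num)
      · rw [mem_centralizer_singleton_iff, ← mul_inv_eq_iff_eq_mul]; exact e
    · rw [← CfsgLib.Signalizer.centralizer_singleton_eq]
      exact centralizer_le_normalizer _
  obtain ⟨M, hle, hM⟩ := Finite.exists_le_maximal (p := fun M : Subgroup G => Cfsg.IsTwoLocal M)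
    (a := normalizer (zpowers t : Set G)) ⟨_, hp, h1, rfl⟩
  obtain ⟨hMc, hMO⟩ := h M ⟨hM.prop, fun N hN hMN => le_antisymm (hM.le_of_ge hN hMN) hMN⟩
  have htM : zpowers t ≤ M := le_normalizer.trans hle
  have hP : IsPGroup 2 ((zpowers t).subgroupOf M) := hp.comap_subtype
  let e : ↥(normalizer (((zpowers t).subgroupOf M : Subgroup M) : Set M)) ≃*
      ↥(centralizer ({t} : Set G)) :=
    ((MulEquiv.subgroupCongr (CfsgLib.Involutions.subgroupOf_normalizer_eq htM)).trans
      (subgroupOfEquivOfLe hle)).trans (MulEquiv.subgroupCongr hN)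
  refine ⟨(CfsgLib.PLocal.isPConstrained_congr e).1 (CfsgLib.PLocal.isPConstrained_normalizer hMc hP), ?_⟩
  have h2 := CfsgLib.PLocal.map_pPrimeCore_normalizer hMc hP
  rw [show Cfsg.pPrimeCore 2 ↥M = ⊥ from hMO, bot_inf_eq, map_eq_bot_iff_of_injective _ (subtype_injective _)] at h2
  rw [Cfsg.oddCore, ← CfsgLib.Base.map_pPrimeCore_mulEquiv e, h2, Subgroup.map_bot]

/-- The core argument: an `S`-invariant subgroup of odd order is trivial. -/
theorem eq_bot_of_invariant {G : Type*} [Group G] [Finite G] (S : Sylow 2 G) {A : Subgroup G}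
    (hA : Cfsg.IsSCN (S : Subgroup G) A) (hA3 : ¬ Cfsg.PRankLE 2 2 ↥A)
    (hc : ∀ t : G, orderOf t = 2 → Cfsg.IsPConstrained 2 ↥(centralizer ({t} : Set G)) ∧
      Cfsg.oddCore ↥(centralizer ({t} : Set G)) = ⊥)
    {X : Subgroup G} (hX : Odd (Nat.card X)) (hSX : (S : Subgroup G) ≤ normalizer (X : Set G)) :
    X = ⊥ := by
  classical
  haveI : Fact (Nat.Prime 2) := ⟨Nat.prime_two⟩
  obtain ⟨hAS, hSA, hAC⟩ := hA
  -- the involutions of `A`
  have hAcomm : ∀ a ∈ A, ∀ b ∈ A, a * b = b * a := fun a ha b hb =>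
    mem_centralizer_iff.1 ((hAC.ge hb).2) a ha
  let E : Subgroup G :=
    { carrier := {x | x ∈ A ∧ x ^ 2 = 1}
      one_mem' := ⟨one_mem _, one_pow 2⟩
      mul_mem' := fun {x y} hx hy => ⟨mul_mem hx.1 hy.1, by
        rw [Commute.mul_pow (hAcomm x hx.1 y hy.1), hx.2, hy.2, one_mul]⟩
      inv_mem' := fun {x} hx => ⟨inv_mem hx.1, by rw [inv_pow, hx.2, inv_one]⟩ }
  have hE2 : ∀ x ∈ E, x ≠ 1 → orderOf x = 2 := fun x hx h1 => orderOf_eq_prime hx.2 h1
  have hES : E ≤ (S : Subgroup G) := fun x hx => hAS hx.1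
  have hEn : (S : Subgroup G) ≤ normalizer (E : Set G) := by
    intro s hs
    have key : ∀ g ∈ (S : Subgroup G), ∀ x ∈ E, g * x * g⁻¹ ∈ E := fun g hg x hx =>
      ⟨(mem_normalizer_iff.1 (hSA hg) x).1 hx.1, by rw [conj_pow, hx.2, mul_one, mul_inv_cancel]⟩
    exact mem_normalizer_iff.2 fun x => ⟨key s hs x, fun hx => by
      simpa [mul_assoc] using key s⁻¹ (inv_mem hs) _ hx⟩
  have hEcard : 4 < Nat.card E := by
    simp only [Cfsg.PRankLE, not_forall, not_le] at hA3
    obtain ⟨B, -, hB2, hcard⟩ := hA3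
    refine lt_of_lt_of_le (by norm_num at hcard ⊢; exact hcard) ?_
    rw [← CfsgLib.Base.card_map_subtype B]
    exact card_le_of_le (by
      rintro _ ⟨b, hb, rfl⟩
      exact ⟨b.2, by simpa using congrArg Subtype.val (hB2 b hb)⟩)
  -- `z ∈ E ∩ Z(S)`
  have hS2 : IsPGroup 2 (S : Subgroup G) := S.isPGroup'
  set E' := E.subgroupOf (S : Subgroup G) with hE'
  haveI : E'.Normal := normal_subgroupOf_of_le_normalizer hEn
  have hE'1 : E' ≠ ⊥ := fun e => by
    rw [hE', subgroupOf_eq_bot, disjoint_iff, inf_eq_left.2 hES] at e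
    rw [e, Subgroup.card_bot] at hEcard; omega
  obtain ⟨z', hz', hz'1⟩ := (bot_or_exists_ne_one _).resolve_left
    (CfsgLib.PGroups.inf_center_ne_bot hS2 hE'1)
  set z : G := (z' : G) with hzdef
  have hzE : z ∈ E := hz'.1
  have hz1 : z ≠ 1 := fun e => hz'1 (Subtype.ext e)
  have hzS : ∀ s ∈ (S : Subgroup G), s * z = z * s := fun s hs =>
    congrArg Subtype.val (mem_center_iff.1 hz'.2 ⟨s, hs⟩)
  -- `u ∈ E` central modulo `⟨z⟩`
  haveI : (zpowers z').Normal := CfsgLib.Base.normal_of_le_center (zpowers_le.2 hz'.2)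
  set q := QuotientGroup.mk' (zpowers z') with hq
  have hz'2 : orderOf z' = 2 := by rw [← orderOf_coe]; exact hE2 z hzE hz1
  have hne : E'.map q ≠ ⊥ := fun e => by
    rw [Subgroup.map_eq_bot_iff, QuotientGroup.ker_mk'] at e
    have := card_le_of_le e
    rw [CfsgLib.Base.card_subgroupOf hES, Nat.card_zpowers, hz'2] at this
    omega
  haveI : (E'.map q).Normal := Normal.map inferInstance _ (QuotientGroup.mk'_surjective _)
  obtain ⟨w, ⟨⟨u', hu', rfl⟩, hwc⟩, hw1⟩ := (bot_or_exists_ne_one _).resolve_left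
    (CfsgLib.PGroups.inf_center_ne_bot (hS2.to_quotient _) hne)
  set u : G := (u' : G) with hudef
  have huE : u ∈ E := hu'
  have hsu : ∀ s ∈ (S : Subgroup G), s * u * s⁻¹ = u ∨ s * u * s⁻¹ = u * z := by
    intro s hs
    have h1 : q ⟨s, hs⟩ * q u' = q u' * q ⟨s, hs⟩ := mem_center_iff.1 hwc _
    rw [← map_mul, ← map_mul, QuotientGroup.mk'_apply, QuotientGroup.mk'_apply, QuotientGroup.eq] at h1
    obtain ⟨k, hk⟩ := mem_zpowers_iff.1 h1
    have hk' : z ^ k = (s * u)⁻¹ * (u * s) := by
      simpa [hzdef, hudef] using congrArg Subtype.val hk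
    have hcz : s * z = z * s := hzS s hs
    rcases Int.emod_two_eq_zero_or_one k with e | e
    · left
      rw [← zpow_mod_orderOf z k, hE2 z hzE hz1, show ((2 : ℕ) : ℤ) = 2 from rfl, e, zpow_zero] at hk'
      calc s * u * s⁻¹ = (s * u) * 1 * s⁻¹ := by group
        _ = u := by rw [hk']; group
    · right
      rw [← zpow_mod_orderOf z k, hE2 z hzE hz1, show ((2 : ℕ) : ℤ) = 2 from rfl, e, zpow_one] at hk'
      have h3 : u * s = s * u * z := by rw [hk']; group
      have hzz : z * z = 1 := by rw [← sq]; exact hzE.2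
      calc s * u * s⁻¹ = (s * u * z) * (z * s⁻¹) := by
            rw [show s * u * z * (z * s⁻¹) = s * u * (z * z) * s⁻¹ by group, hzz, mul_one]
        _ = (u * s) * (z * s⁻¹) := by rw [h3]
        _ = u * (s * z) * s⁻¹ := by group
        _ = u * z := by rw [hcz]; group
  -- `C_X(v) = 1`
  have key : ∀ v ∈ E, v ≠ 1 → (∀ s ∈ (S : Subgroup G), s * v * s⁻¹ = v ∨ s * v * s⁻¹ = v * z) →
      X ⊓ centralizer ({v} : Set G) = ⊥ := by
    intro v hv hv1 hsv
    set C := centralizer ({v} : Set G) with hC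
    obtain ⟨hCc, hCO⟩ := hc v (hE2 v hv hv1)
    have hQ := (CfsgLib.PLocal.isPConstrained_iff_of_eq_bot hCO).1 hCc
    set Q := (Cfsg.pCore 2 ↥C).map C.subtype with hQdef
    have hQp : IsPGroup 2 Q := CfsgLib.Base.isPGroup_map_pCore 2 C
    set Y := X ⊓ C with hY
    have hYQ : Y ≤ normalizer (Q : Set G) := inf_le_right.trans (CfsgLib.Base.le_normalizer_map_pCore C)
    set CS := (S : Subgroup G) ⊓ C with hCS
    have hidx : Nat.card (S : Subgroup G) ≤ 2 * Nat.card CS := by
      by_cases hall : (S : Subgroup G) ≤ C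
      · rw [hCS, inf_eq_left.2 hall]; omega
      obtain ⟨s₀, hs₀, hs₀C⟩ := SetLike.not_le_iff_exists.1 hall
      have hs₀' : s₀ * v * s₀⁻¹ = v * z := (hsv s₀ hs₀).resolve_left fun e =>
        hs₀C (mem_centralizer_singleton_iff.2 (mul_inv_eq_iff_eq_mul.1 e))
      let ψ : ↥(S : Subgroup G) → CS × Bool := fun s =>
        if h : (s : G) ∈ C then (⟨s, mem_inf.2 ⟨s.2, h⟩⟩, true)
        else (⟨s₀⁻¹ * s, mem_inf.2 ⟨mul_mem (inv_mem hs₀) s.2, by
          have hs' : (s : G) * v * (s : G)⁻¹ = v * z := (hsv _ s.2).resolve_left fun e =>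
            h (mem_centralizer_singleton_iff.2 (mul_inv_eq_iff_eq_mul.1 e))
          rw [mem_centralizer_singleton_iff, ← mul_inv_eq_iff_eq_mul]
          calc s₀⁻¹ * s * v * (s₀⁻¹ * s)⁻¹ = s₀⁻¹ * (s * v * (s : G)⁻¹) * s₀ := by group
            _ = s₀⁻¹ * (s₀ * v * s₀⁻¹) * s₀ := by rw [hs', hs₀']
            _ = v := by group⟩⟩, false)
      have hψ : Function.Injective ψ := by
        intro a b hab
        simp only [ψ] at hab
        split at hab <;> split at hab <;> simp_all
      refine (Nat.card_le_card_of_injective ψ hψ).trans ?_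
      rw [Nat.card_prod]; simp [Nat.card_eq_fintype_card, mul_comm]
    obtain ⟨T, hT⟩ := ((hS2.to_le (inf_le_left : CS ≤ _)).comap_subtype (K := C)).exists_le_sylow
    have hQT : Q ≤ (T : Subgroup C).map C.subtype := map_mono (CfsgLib.Base.pCore_le_sylow T)
    have hCST : CS ≤ (T : Subgroup C).map C.subtype := by
      intro x hx
      exact ⟨⟨x, hx.2⟩, hT (show (⟨x, hx.2⟩ : C) ∈ CS.subgroupOf C from hx), rfl⟩
    have hTcard : Nat.card ↥((T : Subgroup C).map C.subtype) ≤ 2 * Nat.card CS := by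
      refine le_trans ?_ hidx
      obtain ⟨R, hR⟩ := (T.isPGroup'.map C.subtype).exists_le_sylow
      exact (card_le_of_le hR).trans (le_of_eq (Nat.card_congr (Sylow.equiv R S).toEquiv))
    set Q₀ := Q ⊓ CS with hQ₀
    have hQ₀Y : ∀ a ∈ Q₀, ∀ y ∈ Y, a * y = y * a := by
      intro a ha y hy
      refine commute_of_normalize (X := Q) (Y := Y) ?_ ha.1 hy ?_ (hYQ hy)
      · exact CfsgLib.Base.inf_eq_bot_of_isPGroup_of_coprime hQp
          (Nat.coprime_two_right.2 (card_odd_of_le inf_le_left hX))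
      · refine inf_normalizer_le_normalizer_inf (mem_inf.2 ⟨hSX ha.2.1, ?_⟩)
        exact le_normalizer ha.2.2
    rw [eq_bot_iff]
    intro y hy
    have hyQ : y ∈ centralizer (Q : Set G) := by
      refine mem_centralizer_iff.2 fun a ha => ?_
      by_cases haC : a ∈ Q₀
      · exact hQ₀Y a haC y hy
      -- index two
      have hcl : ∀ b ∈ Q, b ∉ Q₀ → a⁻¹ * b ∈ Q₀ := by
        intro b hb hbC
        refine mem_inf.2 ⟨mul_mem (inv_mem ha) hb, ?_⟩
        by_contra hab
        have h1 : ∀ c ∈ Q, c ∉ Q₀ → c ∈ (T : Subgroup C).map C.subtype ∧ c ∉ CS := fun c hc hcn =>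
          ⟨hQT hc, fun e => hcn (mem_inf.2 ⟨hc, e⟩)⟩
        set U := (T : Subgroup C).map C.subtype
        let g : CS × Fin 3 → U := fun p => ⟨![1, a, b] p.2 * (p.1 : G), by
          refine mul_mem ?_ (hCST p.1.2)
          match p.2 with
          | 0 => exact one_mem _
          | 1 => exact (h1 a ha haC).1
          | 2 => exact (h1 b hb hbC).1⟩
        have hg : Function.Injective g := by
          rintro ⟨c, i⟩ ⟨d, j⟩ e
          have e' : ![1, a, b] i * (c : G) = ![1, a, b] j * (d : G) := congrArg Subtype.val e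
          have hq : (![1, a, b] i)⁻¹ * ![1, a, b] j ∈ CS := by
            have : (![1, a, b] i)⁻¹ * ![1, a, b] j = (c : G) * (d : G)⁻¹ := by
              calc (![1, a, b] i)⁻¹ * ![1, a, b] j
                  = (![1, a, b] i)⁻¹ * (![1, a, b] j * (d : G)) * (d : G)⁻¹ := by group
                _ = _ := by rw [← e']; group
            rw [this]; exact mul_mem c.2 (inv_mem d.2)
          have hij : i = j := by
            by_contra hne
            have hna := (h1 a ha haC).2
            have hnb := (h1 b hb hbC).2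
            have hab' : b⁻¹ * a ∉ CS := fun e => hab (by simpa using inv_mem e)
            fin_cases i <;> fin_cases j <;>
              first
              | exact hne rfl
              | exact hna (by simpa using hq)
              | exact hnb (by simpa using hq)
              | exact hab (by simpa using hq)
              | exact hab' (by simpa using hq)
          subst hij
          exact Prod.ext (Subtype.ext (mul_left_cancel e')) rfl
        have := Nat.card_le_card_of_injective g hg
        rw [Nat.card_prod, Nat.card_eq_fintype_card (α := Fin 3), Fintype.card_fin] at this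
        have hpos : 0 < Nat.card CS := Nat.card_pos
        omega
      have hy' : y * a * y⁻¹ ∈ Q := (mem_normalizer_iff.1 (hYQ hy) a).1 ha
      have hq0 : a⁻¹ * (y * a * y⁻¹) ∈ Q₀ := by
        refine hcl _ hy' fun e => haC ?_
        have := hQ₀Y _ e y hy
        have ea : y * a * y⁻¹ = a := mul_left_cancel
          (a := y) (by rw [← this]; group)
        rwa [ea] at e
      set d := a⁻¹ * (y * a * y⁻¹) with hd
      have hdy : Commute y d := (hQ₀Y d hq0 y hy).symm
      have hpow : ∀ n : ℕ, y ^ n * a * (y ^ n)⁻¹ = a * d ^ n := by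
        intro n
        induction n with
        | zero => simp
        | succ n ih =>
          calc y ^ (n + 1) * a * (y ^ (n + 1))⁻¹ = y * (y ^ n * a * (y ^ n)⁻¹) * y⁻¹ := by
                rw [pow_succ']; group
            _ = y * (a * d ^ n) * y⁻¹ := by rw [ih]
            _ = (y * a * y⁻¹) * (y * d ^ n * y⁻¹) := by group
            _ = (a * d) * d ^ n := by rw [(hdy.pow_right n).eq, hd]; group
            _ = _ := by rw [pow_succ']; group
      have hdn : d ^ orderOf y = 1 := by
        have := hpow (orderOf y)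
        rw [pow_orderOf_eq_one] at this
        simpa using this
      obtain ⟨k, hk⟩ := hQp ⟨d, hq0.1⟩
      have hk' : d ^ 2 ^ k = 1 := congrArg Subtype.val hk
      have hd1 : d = 1 := by
        have := pow_gcd_eq_one.2 ⟨hdn, hk'⟩
        rwa [Nat.Coprime.gcd_eq_one (Nat.Coprime.pow_right k (Nat.coprime_two_right.2 (odd_orderOf hX hy.1))),
          pow_one] at this
      rw [hd, inv_mul_eq_one] at hd1
      exact mul_inv_eq_iff_eq_mul.1 hd1.symm |>.symm
    have hyC : y ∈ C := hy.2
    have : (⟨y, hyC⟩ : C) ∈ Cfsg.pCore 2 ↥C := hQ (mem_centralizer_iff.2 fun r hr => Subtype.ext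
      (mem_centralizer_iff.1 hyQ r ⟨r, hr, rfl⟩))
    exact (CfsgLib.Base.inf_eq_bot_of_isPGroup_of_coprime hQp
      (Nat.coprime_two_right.2 hX)).le ⟨⟨_, this, rfl⟩, hy.1⟩
  -- generation
  have hu1 : u ≠ 1 := fun e => hw1 (by rw [show u' = 1 from Subtype.ext e, map_one])
  have huz : u * z ≠ 1 := fun e => hw1 ((QuotientGroup.eq_one_iff u').2 (by
    have hzz : z⁻¹ = z := inv_eq_of_mul_eq_one_right (by rw [← sq]; exact hzE.2)
    have h1 : u = z := by rw [← hzz]; exact eq_inv_of_mul_eq_one_left e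
    rw [show u' = z' from Subtype.ext h1]; exact mem_zpowers _))
  have hzS' : ∀ s ∈ (S : Subgroup G), s * z * s⁻¹ = z := fun s hs => by rw [hzS s hs]; group
  have huzS : ∀ s ∈ (S : Subgroup G), s * (u * z) * s⁻¹ = u * z ∨ s * (u * z) * s⁻¹ = u * z * z := by
    intro s hs
    have e : s * (u * z) * s⁻¹ = (s * u * s⁻¹) * z := by
      calc _ = (s * u * s⁻¹) * (s * z * s⁻¹) := by group
        _ = _ := by rw [hzS' s hs]
    rw [e]
    exact (hsu s hs).imp (fun h => by rw [h]) (fun h => by rw [h])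
  haveI : IsMulCommutative E := ⟨⟨fun a b => Subtype.ext (hAcomm _ a.2.1 _ b.2.1)⟩⟩
  have hcop : (Nat.card E).Coprime (Nat.card X) := by
    obtain ⟨n, hn⟩ := IsPGroup.iff_card.1 (hS2.to_le hES)
    rw [hn]
    exact (Nat.coprime_two_left.2 hX).pow_left n
  rw [eq_bot_iff]
  refine CfsgLib.Coprime.le_of_centralizer_le (q := 2) Nat.prime_two (A := E) (hES.trans hSX) hcop
    (Nat.coprime_two_right.2 hX) huE hzE (by rw [huE.2]; exact one_mem _)
    (by rw [hzE.2]; exact one_mem _) ?_ ?_
  · exact (key z hzE hz1 fun s hs => Or.inl (hzS' s hs)).le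
  · intro i hi
    interval_cases i
    · simpa using (key u huE hu1 hsu).le
    · simpa using (key (u * z) (mul_mem huE hzE) huz huzS).le


/-- Let G be a finite group whose Sylow 2-subgroup S has a self-centralizing normal subgroup of rank at least 3. Suppose that either every maximal 2-local subgroup of G is 2-constrained with no nontrivial normal subgroup of odd order, or the centralizer of every involution of G is 2-constrained with no nontrivial normal subgroup of odd order. Then S normalizes no nontrivial subgroup of G of odd order and every 2-local subgroup of G is 2-constrained. -/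
theorem result {G : Type*} [Group G] [Finite G]
    (S : Sylow 2 G) (A : Subgroup G) (hA : Cfsg.IsSCN (S : Subgroup G) A) (hA3 : ¬ Cfsg.PRankLE 2 2 ↥A)
    (h : (∀ M : Subgroup G, Cfsg.IsMaximalTwoLocal M → Cfsg.IsPConstrained 2 ↥M ∧ Cfsg.oddCore ↥M = ⊥) ∨
      (∀ t : G, orderOf t = 2 → Cfsg.IsPConstrained 2 ↥(Subgroup.centralizer ({t} : Set G)) ∧
        Cfsg.oddCore ↥(Subgroup.centralizer ({t} : Set G)) = ⊥)) :
    (∀ X : Subgroup G, Odd (Nat.card ↥X) → (S : Subgroup G) ≤ Subgroup.normalizer (X : Set G) → X = ⊥) ∧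
      (∀ T : Subgroup G, IsPGroup 2 ↥T → T ≠ ⊥ → Cfsg.IsPConstrained 2 ↥(Subgroup.normalizer (T : Set G))) := by
  classical
  have hc : ∀ t : G, orderOf t = 2 → Cfsg.IsPConstrained 2 ↥(centralizer ({t} : Set G)) ∧
      Cfsg.oddCore ↥(centralizer ({t} : Set G)) = ⊥ := by
    rcases h with h | h
    · exact fun t ht => centralizer_of_maximal h ht
    · exact h
  refine ⟨fun X hX hSX => eq_bot_of_invariant S hA hA3 hc hX hSX, fun T hT hT1 => ?_⟩
  by_cases hTG : normalizer (T : Set G) = ⊤
  · haveI : T.Normal := normalizer_eq_top_iff.1 hTG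
    obtain ⟨z, hzT, hz2, hTC⟩ := exists_central_involution hT hT1
    haveI : (T.subgroupOf (normalizer (T : Set G))).Normal := normal_subgroupOf_of_le_normalizer le_rfl
    refine (CfsgLib.PLocal.isPConstrained_congr ((MulEquiv.subgroupCongr hTG).trans Subgroup.topEquiv)).2 ?_
    refine CfsgLib.Involutions.isPConstrained_of_normal_pSubgroup hT ?_
    have hCn : (centralizer (T : Set G)).subgroupOf (centralizer ({z} : Set G)) =
        centralizer ((T.subgroupOf (centralizer ({z} : Set G)) : Subgroup _) : Set _) :=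
      (CfsgLib.Involutions.subgroupOf_centralizer_eq hTC).symm
    have hC := CfsgLib.PLocal.isPConstrained_centralizer (hc z hz2).1
      (P := T.subgroupOf (centralizer ({z} : Set G))) hT.comap_subtype
    exact (CfsgLib.PLocal.isPConstrained_congr
      ((MulEquiv.subgroupCongr hCn.symm).trans (subgroupOfEquivOfLe
        (centralizer_le (Set.singleton_subset_iff.2 hzT))))).1 hC
  · exact CfsgLib.Involutions.pLocal_isPConstrained (Or.inr fun x hx => (hc x hx).1) hT hT1 hTG

end Cfsg.Agent.S3246
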