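import Cfsg.Statements.S3252
import Cfsg.Agent.Lib.CyclicTimesZ.Final
-- import your own Cfsg.Agent.* helpers here

set_option autoImplicit false
open Cfsg

namespace Cfsg.Agent.S3252

/-- Let G be a finite non-solvable group that is the product G = AB of a cyclic subgroup A and a subgroup B all of whose Sylow subgroups are cyclic. Then the quotient of G by its largest solvable normal subgroup is isomorphic to PGL₂(p) for some prime p > 3. -/
theorem result {G : Type*} [Group G] [Finite G] (hG : ¬ Group.IsSolvable G)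
    (A B : Subgroup G) (hA : IsCyclic ↥A) (hB : ∀ (q : ℕ) [Fact q.Prime] (Q : Sylow q ↥B), IsCyclic ↥(Q : Subgroup ↥B))
    (hAB : ∀ g : G, ∃ a ∈ A, ∃ b ∈ B, g = a * b)
    (R : Subgroup G) [hR : R.Normal] (hRs : Group.IsSolvable ↥R) (hRmax : ∀ N : Subgroup G, N.Normal → Group.IsSolvable ↥N → N ≤ R) :
    ∃ (F : Type) (_ : Field F) (_ : Fintype F) (p : ℕ), p.Prime ∧ 3 < p ∧ Fintype.card F = p ∧
      Nonempty ((G ⧸ R) ≃* (GL (Fin 2) F ⧸ Subgroup.center (GL (Fin 2) F))) := by
  haveI : IsZGroup B := ⟨fun q hq Q => haveI := Fact.mk hq; hB q Q⟩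
  obtain ⟨p, hp, hp3, π, hπ, hπs⟩ := CfsgLib.CyclicTimesZ.conc (Nat.card G) G A B rfl hG ⟨hA, ‹_›, hAB⟩
  haveI := Fact.mk hp
  have hle : π.ker ≤ R := hRmax _ inferInstance hπs
  have hbot : R.map π = ⊥ := by
    by_contra hne
    haveI : (R.map π).Normal := hR.map π hπ
    haveI := hRs
    haveI : Group.IsSolvable (R.map π) :=
      Group.isSolvable_of_surjective (f := π.subgroupMap R) (MonoidHom.subgroupMap_surjective _ _)
    exact CfsgLib.CyclicTimesZ.psl_not_solvable (p := p) hp3 (Group.isSolvable_of_isSolvable_injective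
      (Subgroup.inclusion_injective (CfsgLib.CyclicTimesZ.psl_le_of_normal hp3 _ hne)))
  have heq : R = π.ker := le_antisymm ((Subgroup.map_eq_bot_iff R).1 hbot) hle
  subst heq
  exact ⟨ZMod p, inferInstance, inferInstance, p, hp, hp3, ZMod.card p,
    ⟨QuotientGroup.quotientKerEquivOfSurjective π hπ⟩⟩

end Cfsg.Agent.S3252
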