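import Cfsg.Statements.S3254
import Cfsg.Agent.Lib.DegreeThreeP.Main
import Cfsg.Agent.Lib.DegreeThreeP.Core
import Cfsg.Agent.Lib.DegreeThreeP.Shape
import Cfsg.Agent.Lib.DegreeThreeP.Invol
import Cfsg.Agent.Lib.DegreeThreeP.Cases
import Cfsg.Agent.Lib.DegreeThreeP.Linear
import Cfsg.Agent.Lib.DegreeThreeP.TwoOne
import Cfsg.Agent.Lib.DegreeThreeP.TwoThreeCount
import Cfsg.Agent.Lib.DegreeThreeP.TwoThreeEnd
import Cfsg.Agent.Lib.DegreeThreeP.Bounds
import Cfsg.Agent.Lib.DegreeThreeP.ThreeFive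
import Cfsg.Agent.Lib.DegreeThreeP.Param
import Cfsg.Agent.Lib.DegreeThreeP.DihStructure
import Cfsg.Agent.Lib.DegreeThreeP.Pairs
import Cfsg.Agent.Lib.DegreeThreeP.Imprimitive

set_option autoImplicit false
open Cfsg

namespace Cfsg.Agent.S3254

/-- Let p > 3 be a prime and G a finite non-abelian simple group acting faithfully and transitively on a set Ω of 3p points, such that the normalizer of a Sylow p-subgroup of G has order 2p. If the action is primitive then p = 5 and G ≅ A₆; if it is imprimitive then p = 2^m + 1 for some m and G ≅ PSL₂(2^m). -/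
theorem result {G : Type*} [Group G] [Finite G] [IsSimpleGroup G] (hG : ¬ IsMulCommutative G)
    (p : ℕ) (hp : p.Prime) (hp3 : 3 < p) {Ω : Type*} [Fintype Ω] [MulAction G Ω] [FaithfulSMul G Ω]
    (htr : MulAction.IsPretransitive G Ω) (hΩ : Fintype.card Ω = 3 * p)
    (P : Sylow p G) (hN : Nat.card ↥(Subgroup.normalizer ((P : Subgroup G) : Set G)) = 2 * p) :
    (MulAction.IsPreprimitive G Ω → p = 5 ∧ Nonempty (G ≃* ↥(alternatingGroup (Fin 6)))) ∧
      (¬ MulAction.IsPreprimitive G Ω → ∃ (F : Type) (_ : Field F) (_ : Fintype F) (m : ℕ), Fintype.card F = 2 ^ m ∧ p = 2 ^ m + 1 ∧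
        Nonempty (G ≃* Matrix.ProjectiveSpecialLinearGroup (Fin 2) F)) := by
  classical
  haveI := htr
  have hcard : Nat.card Ω = 3 * p := by rw [Nat.card_eq_fintype_card, hΩ]
  refine ⟨fun hprim => ?_, fun himp => ?_⟩
  · exact CfsgLib.DegreeThreeP.primitive_of CfsgLib.DegreeThreeP.core
      (CfsgLib.DegreeThreeP.cases_of CfsgLib.DegreeThreeP.shape CfsgLib.DegreeThreeP.invol)
      CfsgLib.DegreeThreeP.linear CfsgLib.DegreeThreeP.two_one
      CfsgLib.DegreeThreeP.two_three_count CfsgLib.DegreeThreeP.two_three_end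
      CfsgLib.DegreeThreeP.three_three CfsgLib.DegreeThreeP.three_five
      CfsgLib.DegreeThreeP.param CfsgLib.DegreeThreeP.dih CfsgLib.DegreeThreeP.pairs
      CfsgLib.DegreeThreeP.one_class
      (CfsgLib.DegreeThreeP.two_class CfsgLib.DegreeThreeP.klein_bound)
      CfsgLib.DegreeThreeP.two_class_end
      G Ω p ⟨hp, hp3, inferInstance, hG, inferInstance, hcard, hprim, P, hN⟩
  · exact CfsgLib.DegreeThreeP.imprimitive hG hp hp3 hcard P hN himp

end Cfsg.Agent.S3254
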