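import Cfsg.Statements.S3265
import Cfsg.Agent.Lib.Involutions.OddProductSn
-- import your own Cfsg.Agent.* helpers here

set_option autoImplicit false
open Cfsg

namespace Cfsg.Agent.S3265

/-- Let n ≥ 5 and let X be a conjugacy class of involutions of the symmetric group of degree n. The graph on X joining two distinct involutions whose product has odd order is connected and has diameter exactly 2. -/
theorem result (n : ℕ) (hn : 5 ≤ n) (t : Equiv.Perm (Fin n)) (ht : orderOf t = 2) :
    (SimpleGraph.fromRel fun x y : {x : Equiv.Perm (Fin n) // IsConj t x} =>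
        Odd (orderOf (x.1 * y.1))).Connected ∧
      (SimpleGraph.fromRel fun x y : {x : Equiv.Perm (Fin n) // IsConj t x} =>
        Odd (orderOf (x.1 * y.1))).diam = 2 := by
  classical
  set X := {x : Equiv.Perm (Fin n) // IsConj t x}
  set Γ := SimpleGraph.fromRel fun x y : X => Odd (orderOf (x.1 * y.1)) with hΓ
  have inv : ∀ x : X, x.1 * x.1 = 1 := fun x => by
    obtain ⟨g, hg⟩ := isConj_iff.1 x.2
    have ht2 : t * t = 1 := by rw [← sq, ← ht]; exact pow_orderOf_eq_one t
    rw [← hg, show g * t * g⁻¹ * (g * t * g⁻¹) = g * (t * t) * g⁻¹ by group, ht2]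
    group
  have fixcard : ∀ x : X, (Finset.univ.filter fun v => x.1 v = v).card =
      (Finset.univ.filter fun v => t v = v).card := fun x => by
    obtain ⟨g, hg⟩ := isConj_iff.1 x.2
    symm
    refine Finset.card_bij' (fun v _ => g v) (fun v _ => g⁻¹ v) ?_ ?_ ?_ ?_
    · intro v hv
      simp only [Finset.mem_filter, Finset.mem_univ, true_and] at hv ⊢
      rw [← hg]; simp [hv]
    · intro v hv
      simp only [Finset.mem_filter, Finset.mem_univ, true_and] at hv ⊢
      have h := congrArg (fun w : Equiv.Perm (Fin n) => w v) hg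
      simp only [Equiv.Perm.mul_apply] at h
      rw [hv] at h
      exact g.injective (by rw [h]; simp)
    · intro v _; simp
    · intro v _; simp
  have hadj : ∀ x y : X, x ≠ y → Odd (orderOf (x.1 * y.1)) → Γ.Adj x y := fun x y hne ho => by
    rw [hΓ, SimpleGraph.fromRel_adj]; exact ⟨hne, Or.inl ho⟩
  have hdist : ∀ x y : X, Γ.edist x y ≤ 2 := by
    intro x y
    by_cases hxy : x = y
    · subst hxy; simp
    by_cases ho : Odd (orderOf (x.1 * y.1))
    · calc Γ.edist x y ≤ (hadj x y hxy ho).toWalk.length := SimpleGraph.edist_le _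
        _ ≤ 2 := by simp
    obtain ⟨z, hz, h1, h2⟩ := CfsgLib.Involutions.OddProductSn.exists_common x.1 y.1 (inv x) (inv y)
      (by rw [fixcard x, fixcard y]) (by simpa using hn)
    set z' : X := ⟨z, x.2.trans hz⟩
    have hxz : x ≠ z' := fun e => ho (by rw [show x.1 = z from congrArg Subtype.val e]; exact h2)
    have hzy : z' ≠ y := fun e => ho (by rw [← show z = y.1 from congrArg Subtype.val e]; exact h1)
    calc Γ.edist x y ≤ (SimpleGraph.Walk.cons (hadj x z' hxz h1) (hadj z' y hzy h2).toWalk).length :=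
          SimpleGraph.edist_le _
      _ ≤ 2 := by simp
  obtain ⟨x₀⟩ : Nonempty X := ⟨⟨t, IsConj.refl t⟩⟩
  have : Nonempty X := ⟨x₀⟩
  have hconn : Γ.Connected := SimpleGraph.Connected.mk fun x y =>
    SimpleGraph.reachable_of_edist_ne_top ((hdist x y).trans_lt (WithTop.coe_lt_top _)).ne
  -- a commuting pair
  have hpair : ∃ y : Equiv.Perm (Fin n), IsConj t y ∧ y ≠ t ∧ Commute t y := by
    have ht1 : t ≠ 1 := fun e => by rw [e, orderOf_one] at ht; omega
    obtain ⟨a, ha⟩ : ∃ a, t a ≠ a := by
      by_contra hc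
      push Not at hc
      exact ht1 (Equiv.ext hc)
    have htt : ∀ v, t (t v) = v := fun v =>
      CfsgLib.Involutions.OddProductSn.app_app (inv ⟨t, IsConj.refl t⟩) v
    by_cases hother : ∃ c, t c ≠ c ∧ c ≠ a ∧ c ≠ t a
    · obtain ⟨c, hc, hca, hcb⟩ := hother
      have hab : a ≠ t a := fun e => ha e.symm
      have hcd : c ≠ t c := fun e => hc e.symm
      have had : a ≠ t c := fun e => hcb (by rw [e, htt])
      have hbd : t a ≠ t c := fun e => hca (t.injective e).symm
      set g := Equiv.swap (t a) c with hg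
      have gi : g⁻¹ = g := Equiv.swap_inv _ _
      have ga : g a = a := Equiv.swap_apply_of_ne_of_ne hab hca.symm
      have gb : g (t a) = c := Equiv.swap_apply_left _ _
      have gc : g c = t a := Equiv.swap_apply_right _ _
      have gd : g (t c) = t c := Equiv.swap_apply_of_ne_of_ne hbd.symm hcd.symm
      have hy : ∀ v, (g * t * g⁻¹) v = g (t (g v)) := fun v => by rw [gi]; rfl
      refine ⟨g * t * g⁻¹, isConj_iff.2 ⟨g, rfl⟩, fun e => hcb ?_, Equiv.ext fun v => ?_⟩
      · have h := congrArg (fun w : Equiv.Perm (Fin n) => w a) e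
        simp only [hy, ga, gb] at h
        exact h
      · simp only [Equiv.Perm.mul_apply, gi]
        rcases eq_or_ne v a with rfl | h1
        · simp [ga, gb, gc, gd, htt]
        rcases eq_or_ne v (t a) with rfl | h2
        · simp [ga, gb, gc, gd, htt]
        rcases eq_or_ne v c with rfl | h3
        · simp [ga, gb, gc, gd, htt]
        rcases eq_or_ne v (t c) with rfl | h4
        · simp [ga, gb, gc, gd, htt]
        have gv : g v = v := Equiv.swap_apply_of_ne_of_ne h2 h3
        have t1 : t v ≠ t a := fun e => h1 (t.injective e)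
        have t3 : t v ≠ c := fun e => h4 (by rw [← e, htt])
        have gtv : g (t v) = t v := Equiv.swap_apply_of_ne_of_ne t1 t3
        simp [gv, gtv, htt]
    · push Not at hother
      have hfixed : ∀ v, v ≠ a → v ≠ t a → t v = v := fun v h1 h2 => by
        by_contra hv
        exact h2 (hother v hv h1)
      have htswap : t = Equiv.swap a (t a) := Equiv.ext fun v => by
        rcases eq_or_ne v a with rfl | h1
        · simp
        rcases eq_or_ne v (t a) with rfl | h2
        · simp [htt]
        rw [Equiv.swap_apply_of_ne_of_ne h1 h2, hfixed v h1 h2]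
      obtain ⟨c, hc, d, hd, hcd⟩ : ∃ c ∈ ({a, t a} : Finset (Fin n))ᶜ,
          ∃ d ∈ ({a, t a} : Finset (Fin n))ᶜ, c ≠ d := by
        rw [← Finset.one_lt_card, Finset.card_compl, Fintype.card_fin]
        have : ({a, t a} : Finset (Fin n)).card ≤ 2 := Finset.card_le_two
        omega
      simp only [Finset.mem_compl, Finset.mem_insert, Finset.mem_singleton, not_or] at hc hd
      refine ⟨Equiv.swap c d, ?_, fun e => ?_, ?_⟩
      · rw [htswap]
        exact Equiv.Perm.isConj_swap (fun e => ha e.symm) hcd
      · have h := congrArg (fun w : Equiv.Perm (Fin n) => w c) e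
        simp only [Equiv.swap_apply_left, hfixed c hc.1 hc.2] at h
        exact hcd h.symm
      · rw [htswap]
        refine Equiv.Perm.Disjoint.commute fun v => ?_
        by_cases hv : v = a ∨ v = t a
        · refine Or.inr (Equiv.swap_apply_of_ne_of_ne ?_ ?_) <;> rintro rfl
          exacts [hv.elim hc.1 hc.2, hv.elim hd.1 hd.2]
        · push Not at hv
          exact Or.inl (Equiv.swap_apply_of_ne_of_ne hv.1 hv.2)
  obtain ⟨y, hty, hne, hcomm⟩ := hpair
  have hfar : 2 ≤ Γ.edist (⟨t, IsConj.refl t⟩ : X) ⟨y, hty⟩ := by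
    have hnadj : ¬ Γ.Adj (⟨t, IsConj.refl t⟩ : X) ⟨y, hty⟩ := by
      rw [hΓ, SimpleGraph.fromRel_adj]
      rintro ⟨-, h⟩
      have hodd : Odd (orderOf (t * y)) := by
        rcases h with h | h
        · exact h
        · rw [hcomm.eq]; exact h
      have h2 : (t * y) ^ 2 = 1 := by
        rw [hcomm.mul_pow, sq, sq, inv ⟨t, IsConj.refl t⟩, inv ⟨y, hty⟩, one_mul]
      have : orderOf (t * y) = 1 := by
        rcases (Nat.dvd_prime Nat.prime_two).1 (orderOf_dvd_of_pow_eq_one h2) with h1 | h1
        · exact h1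
        · rw [h1] at hodd; exact absurd hodd (by decide)
      rw [orderOf_eq_one_iff, mul_eq_one_iff_inv_eq,
        inv_eq_of_mul_eq_one_right (inv ⟨t, IsConj.refl t⟩)] at this
      exact hne this.symm
    by_contra hlt
    push Not at hlt
    have h1 : Γ.edist (⟨t, IsConj.refl t⟩ : X) ⟨y, hty⟩ ≤ 1 := ENat.lt_coe_add_one_iff.1 hlt
    rcases eq_or_lt_of_le h1 with h | h
    · exact hnadj (SimpleGraph.edist_eq_one_iff_adj.1 h)
    · rw [ENat.lt_one_iff_eq_zero, SimpleGraph.edist_eq_zero_iff] at h
      exact hne (congrArg Subtype.val h).symm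
  refine ⟨hconn, ?_⟩
  have he : Γ.ediam = 2 := le_antisymm (SimpleGraph.ediam_le_of_edist_le hdist)
    (hfar.trans SimpleGraph.edist_le_ediam)
  rw [SimpleGraph.diam, he]
  rfl

end Cfsg.Agent.S3265
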