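import Cfsg.Statements.S3266
import Cfsg.Agent.Lib.Involutions.PSLTwoOddGraph

set_option autoImplicit false
open Cfsg

namespace Cfsg.Agent.S3266

open CfsgLib.GLTwo CfsgLib.KnownB.SL2Sizes CfsgLib.KnownB.SL2Products CfsgLib.Involutions.SLTwoTori CfsgLib.Involutions.PSLTwoOddGraph

/-- Let F be a finite field with at least 4 elements and let X be a conjugacy class of involutions of PSL(2, F). The graph on X joining two distinct involutions whose product has odd order is connected and has diameter exactly 2. -/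
theorem result {F : Type*} [Field F] [Fintype F] (hF : 4 ≤ Fintype.card F)
    (t : Matrix.ProjectiveSpecialLinearGroup (Fin 2) F) (ht : orderOf t = 2) :
    (SimpleGraph.fromRel fun x y : {x : Matrix.ProjectiveSpecialLinearGroup (Fin 2) F // IsConj t x} =>
        Odd (orderOf (x.1 * y.1))).Connected ∧
      (SimpleGraph.fromRel fun x y : {x : Matrix.ProjectiveSpecialLinearGroup (Fin 2) F // IsConj t x} =>
        Odd (orderOf (x.1 * y.1))).diam = 2 := by
  classical
  have hpr : ∀ {X Y : Matrix.SpecialLinearGroup (Fin 2) F}, pr X = pr Y → X = Y ∨ X = -Y := by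
    intro X Y h
    have h1 : pr (X * Y⁻¹) = 1 := by rw [map_mul, map_inv, h, mul_inv_cancel]
    rcases scalar_eq (pr_eq_one_iff.1 h1) with h2 | h2
    · exact Or.inl (mul_inv_eq_one.1 h2)
    · exact Or.inr (by rw [mul_inv_eq_iff_eq_mul.1 h2, neg_one_mul])
  rcases Nat.even_or_odd (Fintype.card F) with heven | hodd
  · haveI : CharP F 2 := by
      rw [← FiniteField.even_card_iff_char_two.2 (Nat.even_iff.1 heven)]
      exact ringChar.charP F
    have hneg : ∀ X : Matrix.SpecialLinearGroup (Fin 2) F, -X = X := fun X => Subtype.ext (by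
      rw [Matrix.SpecialLinearGroup.coe_neg]; ext i j; simp [CharTwo.neg_eq])
    have hinj : Function.Injective (pr (F := F)) := fun X Y h => (hpr h).elim id fun e => e.trans (hneg Y)
    have hinv : ∀ X : Matrix.SpecialLinearGroup (Fin 2) F, orderOf (pr X) = 2 ↔
        ((X : Matrix (Fin 2) (Fin 2) F).trace = 0 ∧ X ≠ 1) := by
      intro X
      rw [orderOf_injective pr hinj]
      constructor
      · intro h
        have := (CfsgLib.GLTwo.orderOf_eq_char 2 slMat slMat_injective X).1 h
        exact ⟨this.2.1.trans CharTwo.two_eq_zero, fun h1 => by rw [h1, orderOf_one] at h; exact absurd h (by norm_num)⟩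
      · rintro ⟨h0, h1⟩
        refine (CfsgLib.GLTwo.orderOf_eq_char 2 slMat slMat_injective X).2 ⟨fun hs => h1 ?_, h0.trans CharTwo.two_eq_zero.symm, X.2⟩
        rcases scalar_eq hs with e | e
        · exact e
        · rw [e, hneg]
    obtain ⟨A₀, hA₀⟩ := pr_surjective t
    have hA₀' := (hinv A₀).1 (hA₀ ▸ ht)
    have hclass : ∀ X : Matrix.SpecialLinearGroup (Fin 2) F, (X : Matrix (Fin 2) (Fin 2) F).trace = 0 → X ≠ 1 → IsConj t (pr X) := by
      intro X h0 h1
      rw [← hA₀]
      refine MonoidHom.map_isConj pr (sl_isConj_of_norm_surj ?_ ?_ (hA₀'.1.trans h0.symm) fun r => norm_surj_even r)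
      · exact fun hs => hA₀'.2 (by rcases scalar_eq hs with e | e; exacts [e, by rw [e, hneg]])
      · exact fun hs => h1 (by rcases scalar_eq hs with e | e; exacts [e, by rw [e, hneg]])
    have hodd' : ∀ g : Matrix.SpecialLinearGroup (Fin 2) F, (g : Matrix (Fin 2) (Fin 2) F).trace ≠ 0 → Odd (orderOf (pr g)) := by
      intro g hg
      have hns : ¬ IsScalar2 (g : Matrix (Fin 2) (Fin 2) F) := fun hs => hg (by
        rw [Matrix.trace_fin_two, hs.2.2, CharTwo.add_self_eq_zero])
      have hk : Odd (Nat.card (Subgroup.centralizer ({g} : Set (Matrix.SpecialLinearGroup (Fin 2) F)))) := by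
        rw [sl_card_centralizer hns]
        change Odd (Nat.card (NormOne _))
        by_cases hs : Split (g : Matrix (Fin 2) (Fin 2) F).trace
        · rw [card_split hs (fun h => hg ((pow_eq_zero_iff two_ne_zero).1 (h.trans (by
            rw [show (4 : F) = 2 * 2 by norm_num, CharTwo.two_eq_zero, mul_zero])))), Nat.card_units, Nat.card_eq_fintype_card]
          rw [Nat.even_iff] at heven
          exact Nat.odd_iff.2 (by omega)
        · rw [card_nonsplit hs, Nat.card_eq_fintype_card]
          exact heven.add_one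
      refine Odd.of_dvd_nat hk ((orderOf_map_dvd pr g).trans ?_)
      rw [← Subgroup.orderOf_mk g (Subgroup.mem_centralizer_singleton_iff.2 rfl : g ∈ Subgroup.centralizer ({g} : Set (Matrix.SpecialLinearGroup (Fin 2) F)))]
      exact orderOf_dvd_natCard _
    have hadj : ∀ (x y : {x : Matrix.ProjectiveSpecialLinearGroup (Fin 2) F // IsConj t x}) (A B : Matrix.SpecialLinearGroup (Fin 2) F),
        pr A = x.1 → pr B = y.1 → ((A * B : Matrix.SpecialLinearGroup (Fin 2) F) : Matrix (Fin 2) (Fin 2) F).trace ≠ 0 →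
        (SimpleGraph.fromRel fun x y : {x : Matrix.ProjectiveSpecialLinearGroup (Fin 2) F // IsConj t x} => Odd (orderOf (x.1 * y.1))).Adj x y := by
      intro x y A B hA hB hne
      rw [SimpleGraph.fromRel_adj]
      refine ⟨fun hxy => hne ?_, Or.inl (by rw [← hA, ← hB, ← map_mul]; exact hodd' _ hne)⟩
      have hAB : A = B := hinj (by rw [hA, hB, hxy])
      have hA2 := (hinv A).1 (by rw [hA]; obtain ⟨c, hc⟩ := isConj_iff.1 x.2; rw [← hc, ← MulAut.conj_apply, MulEquiv.orderOf_eq, ht])
      rw [← hAB, Matrix.SpecialLinearGroup.coe_mul, sq_eq, A.2, hA2.1]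
      simp [Matrix.trace_one, CharTwo.two_eq_zero]
    have hlift : ∀ x : {x : Matrix.ProjectiveSpecialLinearGroup (Fin 2) F // IsConj t x},
        ∃ A : Matrix.SpecialLinearGroup (Fin 2) F, pr A = x.1 ∧ (A : Matrix (Fin 2) (Fin 2) F).trace = 0 ∧ A ≠ 1 := by
      intro x
      obtain ⟨A, hA⟩ := pr_surjective x.1
      exact ⟨A, hA, (hinv A).1 (by rw [hA]; obtain ⟨c, hc⟩ := isConj_iff.1 x.2; rw [← hc, ← MulAut.conj_apply, MulEquiv.orderOf_eq, ht])⟩
    let U : Matrix.SpecialLinearGroup (Fin 2) F := mkSL !![1, 1; 0, 1] (by simp [Matrix.det_fin_two])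
    let L : Matrix.SpecialLinearGroup (Fin 2) F := mkSL !![1, 0; 1, 1] (by simp [Matrix.det_fin_two])
    have hU : (U : Matrix (Fin 2) (Fin 2) F).trace = 0 ∧ U ≠ 1 := ⟨by simp [U, coe_mkSL, Matrix.trace_fin_two, CharTwo.add_self_eq_zero], fun h => by
      have := congrArg (fun X : Matrix.SpecialLinearGroup (Fin 2) F => (X : Matrix (Fin 2) (Fin 2) F) 0 1) h
      simp [U, coe_mkSL] at this⟩
    have hL : (L : Matrix (Fin 2) (Fin 2) F).trace = 0 ∧ L ≠ 1 := ⟨by simp [L, coe_mkSL, Matrix.trace_fin_two, CharTwo.add_self_eq_zero], fun h => by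
      have := congrArg (fun X : Matrix.SpecialLinearGroup (Fin 2) F => (X : Matrix (Fin 2) (Fin 2) F) 1 0) h
      simp [L, coe_mkSL] at this⟩
    obtain ⟨lam, hl0, hl1⟩ : ∃ lam : F, lam ≠ 0 ∧ lam ≠ 1 := by
      obtain ⟨lam, h⟩ := Finset.card_pos.1 (show 0 < (((Finset.univ : Finset F).erase 0).erase 1).card by
        rw [Finset.card_erase_of_mem (by simp), Finset.card_erase_of_mem (Finset.mem_univ _), Finset.card_univ]; omega)
      simp only [Finset.mem_erase, Finset.mem_univ, and_true] at h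
      exact ⟨lam, h.2, h.1⟩
    let U' : Matrix.SpecialLinearGroup (Fin 2) F := mkSL !![1, lam; 0, 1] (by simp [Matrix.det_fin_two])
    have hU' : (U' : Matrix (Fin 2) (Fin 2) F).trace = 0 ∧ U' ≠ 1 := ⟨by simp [U', coe_mkSL, Matrix.trace_fin_two, CharTwo.add_self_eq_zero], fun h => by
      have := congrArg (fun X : Matrix.SpecialLinearGroup (Fin 2) F => (X : Matrix (Fin 2) (Fin 2) F) 0 1) h
      simp [U', coe_mkSL, hl0] at this⟩
    refine diam_two _ (fun u v huv hna => ?_) (u₀ := ⟨pr U, hclass U hU.1 hU.2⟩) (v₀ := ⟨pr U', hclass U' hU'.1 hU'.2⟩) ?_ ?_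
    · obtain ⟨A, hA, hA0, hA1⟩ := hlift u
      obtain ⟨B, hB, hB0, hB1⟩ := hlift v
      have hAB : ((A * B : Matrix.SpecialLinearGroup (Fin 2) F) : Matrix (Fin 2) (Fin 2) F).trace = 0 := by
        by_contra hne
        exact hna (hadj u v A B hA hB hne)
      have tr : ∀ X : Matrix.SpecialLinearGroup (Fin 2) F, (X : Matrix (Fin 2) (Fin 2) F).trace = 0 →
          ((X * U : Matrix.SpecialLinearGroup (Fin 2) F) : Matrix (Fin 2) (Fin 2) F).trace = (X : Matrix (Fin 2) (Fin 2) F) 1 0 ∧
          ((X * L : Matrix.SpecialLinearGroup (Fin 2) F) : Matrix (Fin 2) (Fin 2) F).trace = (X : Matrix (Fin 2) (Fin 2) F) 0 1 ∧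
          ((U * X : Matrix.SpecialLinearGroup (Fin 2) F) : Matrix (Fin 2) (Fin 2) F).trace = (X : Matrix (Fin 2) (Fin 2) F) 1 0 ∧
          ((L * X : Matrix.SpecialLinearGroup (Fin 2) F) : Matrix (Fin 2) (Fin 2) F).trace = (X : Matrix (Fin 2) (Fin 2) F) 0 1 := by
        intro X hX
        rw [Matrix.trace_fin_two] at hX
        refine ⟨?_, ?_, ?_, ?_⟩ <;>
          simp [U, L, coe_mkSL, Matrix.trace_fin_two, Matrix.mul_apply, Fin.sum_univ_two, Matrix.vecMul, dotProduct] <;> linear_combination hX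
      have hnz : ∀ X : Matrix.SpecialLinearGroup (Fin 2) F, (X : Matrix (Fin 2) (Fin 2) F).trace = 0 → X ≠ 1 →
          (X : Matrix (Fin 2) (Fin 2) F) 0 1 = 0 → (X : Matrix (Fin 2) (Fin 2) F) 1 0 = 0 → False := by
        intro X hX hX1 h01 h10
        have hd := X.2
        rw [Matrix.det_fin_two, h01, zero_mul, sub_zero] at hd
        rw [Matrix.trace_fin_two] at hX
        have he : (X : Matrix (Fin 2) (Fin 2) F) 1 1 = (X : Matrix (Fin 2) (Fin 2) F) 0 0 := CharTwo.add_eq_zero.1 hX |>.symm
        rw [he] at hd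
        have : (X : Matrix (Fin 2) (Fin 2) F) 0 0 = 1 := by
          rcases mul_self_eq_one_iff.1 hd with h | h
          · exact h
          · rw [h, CharTwo.neg_eq]
        exact hX1 (Subtype.ext (by ext i j; fin_cases i <;> fin_cases j <;> simp [h01, h10, he, this]))
      by_cases h10 : (A : Matrix (Fin 2) (Fin 2) F) 1 0 ≠ 0 ∧ (B : Matrix (Fin 2) (Fin 2) F) 1 0 ≠ 0
      · exact ⟨⟨pr U, hclass U hU.1 hU.2⟩, hadj _ _ A U hA rfl (by rw [(tr A hA0).1]; exact h10.1),
          hadj _ _ U B rfl hB (by rw [(tr B hB0).2.2.1]; exact h10.2)⟩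
      · have h01 : (A : Matrix (Fin 2) (Fin 2) F) 0 1 ≠ 0 ∧ (B : Matrix (Fin 2) (Fin 2) F) 0 1 ≠ 0 := by
          have hdA := A.2
          have hdB := B.2
          rw [Matrix.det_fin_two] at hdA hdB
          rw [Matrix.SpecialLinearGroup.coe_mul, Matrix.trace_fin_two, Matrix.mul_apply, Matrix.mul_apply, Fin.sum_univ_two, Fin.sum_univ_two] at hAB
          rw [Matrix.trace_fin_two] at hA0 hB0
          have heA := (CharTwo.add_eq_zero.1 hA0).symm
          have heB := (CharTwo.add_eq_zero.1 hB0).symm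
          have h2 : (2 : F) = 0 := CharTwo.two_eq_zero
          have hsum : (A : Matrix (Fin 2) (Fin 2) F) 0 1 * (B : Matrix (Fin 2) (Fin 2) F) 1 0 +
              (A : Matrix (Fin 2) (Fin 2) F) 1 0 * (B : Matrix (Fin 2) (Fin 2) F) 0 1 = 0 := by
            rw [heA, heB] at hAB
            linear_combination hAB - (A : Matrix (Fin 2) (Fin 2) F) 0 0 * (B : Matrix (Fin 2) (Fin 2) F) 0 0 * h2
          have hA0' : (A : Matrix (Fin 2) (Fin 2) F).trace = 0 := by rw [Matrix.trace_fin_two]; exact hA0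
          have hB0' : (B : Matrix (Fin 2) (Fin 2) F).trace = 0 := by rw [Matrix.trace_fin_two]; exact hB0
          rcases not_and_or.1 h10 with h | h <;> rw [not_not] at h
          · have ha := fun h' => hnz A hA0' hA1 h' h
            rw [h, zero_mul, add_zero] at hsum
            have hb10 := (mul_eq_zero.1 hsum).resolve_left ha
            exact ⟨ha, fun h' => hnz B hB0' hB1 h' hb10⟩
          · have hb := fun h' => hnz B hB0' hB1 h' h
            rw [h, mul_zero, zero_add] at hsum
            have ha10 := (mul_eq_zero.1 hsum).resolve_right hb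
            exact ⟨fun h' => hnz A hA0' hA1 h' ha10, hb⟩
        exact ⟨⟨pr L, hclass L hL.1 hL.2⟩, hadj _ _ A L hA rfl (by rw [(tr A hA0).2.1]; exact h01.1),
          hadj _ _ L B rfl hB (by rw [(tr B hB0).2.2.2]; exact h01.2)⟩
    · intro h
      have := congrArg (fun X : Matrix.SpecialLinearGroup (Fin 2) F => (X : Matrix (Fin 2) (Fin 2) F) 0 1) (hinj (congrArg Subtype.val h))
      simp [U, U', coe_mkSL] at this
      exact hl1 this.symm
    · intro h
      rw [SimpleGraph.fromRel_adj] at h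
      have hne : ∀ X Y : Matrix.SpecialLinearGroup (Fin 2) F, X * Y = Y * X → X ≠ Y → (X : Matrix (Fin 2) (Fin 2) F).trace = 0 → X ≠ 1 →
          (Y : Matrix (Fin 2) (Fin 2) F).trace = 0 → Y ≠ 1 → ¬ Odd (orderOf (pr X * pr Y)) := by
        intro X Y hc hXY hX hX1 hY hY1
        have e1 := (hinv X).2 ⟨hX, hX1⟩
        have e2 := (hinv Y).2 ⟨hY, hY1⟩
        have e3 : orderOf (pr X * pr Y) = 2 := by
          refine orderOf_eq_prime ?_ ?_
          · rw [(show Commute (pr X) (pr Y) from (show Commute X Y from hc).map pr).mul_pow]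
            have a1 := pow_orderOf_eq_one (pr X)
            have a2 := pow_orderOf_eq_one (pr Y)
            rw [e1] at a1; rw [e2] at a2
            rw [a1, a2, one_mul]
          · intro he
            apply hXY
            apply hinj
            rw [mul_eq_one_iff_eq_inv.1 he]
            exact inv_eq_of_mul_eq_one_right (by rw [← pow_two]; exact orderOf_dvd_iff_pow_eq_one.1 (dvd_of_eq e2))
        rw [e3]; decide
      have hcomm : U * U' = U' * U := Subtype.ext (by
        ext i j
        fin_cases i <;> fin_cases j <;> simp [U, U', coe_mkSL, Matrix.mul_apply, Fin.sum_univ_two] <;> ring)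
      have hUU' : U ≠ U' := fun e => h.1 (Subtype.ext (congrArg pr e))
      rcases h.2 with h' | h'
      · exact hne U U' hcomm hUU' hU.1 hU.2 hU'.1 hU'.2 h'
      · exact hne U' U hcomm.symm (Ne.symm hUU') hU'.1 hU'.2 hU.1 hU.2 h'
  · have hsq_odd := @odd_orderOf_pr F _ _ hodd
    have hlift : ∀ x : Matrix.ProjectiveSpecialLinearGroup (Fin 2) F, orderOf x = 2 →
        ∃ A : Matrix.SpecialLinearGroup (Fin 2) F, pr A = x ∧ (A : Matrix (Fin 2) (Fin 2) F).trace = 0 := by
      intro x hx
      obtain ⟨A, rfl⟩ := pr_surjective x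
      have hns : ¬ IsScalar2 (A : Matrix (Fin 2) (Fin 2) F) := fun h => by
        rw [pr_eq_one_iff.2 h, orderOf_one] at hx; exact absurd hx (by norm_num)
      have h2 : pr (A * A) = 1 := by rw [map_mul, ← pow_two]; exact orderOf_dvd_iff_pow_eq_one.1 (dvd_of_eq hx)
      refine ⟨A, rfl, trace_zero_of_sq hns ?_⟩
      rcases scalar_eq (pr_eq_one_iff.1 h2) with h | h
      · exact absurd (scalar_of_sq_eq_one hodd h) hns
      · exact h
    have hord : ∀ A : Matrix.SpecialLinearGroup (Fin 2) F, (A : Matrix (Fin 2) (Fin 2) F).trace = 0 → orderOf (pr A) = 2 := by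
      intro A hA
      refine orderOf_eq_prime ?_ ?_
      · rw [← map_pow, pr_eq_one_iff, pow_two, sq_of_trace_zero hA]
        simp [IsScalar2]
      · intro h
        exact not_scalar_of_trace_sq (trace_sq_ne_four_of_zero hodd hA) (pr_eq_one_iff.1 h)
    obtain ⟨A₀, hA₀, hA₀0⟩ := hlift t ht
    have hclass : ∀ X : Matrix.SpecialLinearGroup (Fin 2) F, (X : Matrix (Fin 2) (Fin 2) F).trace = 0 → IsConj t (pr X) := by
      intro X h0
      rw [← hA₀]
      exact MonoidHom.map_isConj pr (sl_isConj_of_norm_surj (not_scalar_of_trace_sq (trace_sq_ne_four_of_zero hodd hA₀0))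
        (not_scalar_of_trace_sq (trace_sq_ne_four_of_zero hodd h0)) (hA₀0.trans h0.symm)
        (norm_surj_odd (ringChar_ne_two hodd) (trace_sq_ne_four_of_zero hodd hA₀0)))
    obtain ⟨W, hW⟩ := exists_inverting hodd (trace_sq_ne_four_of_zero hodd hA₀0)
    have hW0 := (inverting_sq hodd (trace_sq_ne_four_of_zero hodd hA₀0) hW).1
    refine diam_two _ (fun u v huv hna => ?_) (u₀ := ⟨pr A₀, hclass A₀ hA₀0⟩) (v₀ := ⟨pr W, hclass W hW0⟩) ?_ ?_
    · obtain ⟨A, hA, hA0⟩ := hlift u.1 (by obtain ⟨c, hc⟩ := isConj_iff.1 u.2; rw [← hc, ← MulAut.conj_apply, MulEquiv.orderOf_eq, ht])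
      obtain ⟨B, hB, hB0⟩ := hlift v.1 (by obtain ⟨c, hc⟩ := isConj_iff.1 v.2; rw [← hc, ← MulAut.conj_apply, MulEquiv.orderOf_eq, ht])
      have hboth : ¬ ((((A * B : Matrix.SpecialLinearGroup (Fin 2) F) : Matrix (Fin 2) (Fin 2) F).trace ^ 2 = 4) ∨
          ¬ IsSquare (4 - ((A * B : Matrix.SpecialLinearGroup (Fin 2) F) : Matrix (Fin 2) (Fin 2) F).trace ^ 2)) := fun h => hna (by
        rw [SimpleGraph.fromRel_adj]
        exact ⟨huv, Or.inl (by rw [← hA, ← hB, ← map_mul]; exact hsq_odd h)⟩)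
      rw [not_or, not_not] at hboth
      obtain ⟨C, hC0, hCA, hCB, o1, o2⟩ := exists_neighbour hodd hF hA0 hB0 hboth.1 hboth.2
      refine ⟨⟨pr C, hclass C hC0⟩, ?_, ?_⟩
      · rw [SimpleGraph.fromRel_adj]
        exact ⟨fun h => hCA (by rw [hA]; exact (congrArg Subtype.val h).symm), Or.inl (by rw [← hA, ← map_mul]; exact o1)⟩
      · rw [SimpleGraph.fromRel_adj]
        exact ⟨fun h => hCB (by rw [hB]; exact congrArg Subtype.val h), Or.inr (by rw [← hB, ← map_mul]; exact o2)⟩
    · intro h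
      rcases hpr (congrArg Subtype.val h) with e | e
      · exact inverting_not_mem hodd (trace_sq_ne_four_of_zero hodd hA₀0) hW (by rw [← e]; exact Subgroup.mem_centralizer_singleton_iff.2 rfl)
      · apply inverting_not_mem hodd (trace_sq_ne_four_of_zero hodd hA₀0) hW
        rw [e, Subgroup.mem_centralizer_singleton_iff]
        simp
    · intro h
      rw [SimpleGraph.fromRel_adj] at h
      have hc : pr W * pr A₀ = pr A₀ * pr W := by
        rw [← map_mul, ← map_mul, mul_inv_eq_iff_eq_mul.1 hW, inv_of_trace_zero hA₀0, neg_mul, pr_neg]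
      have hne : pr A₀ ≠ pr W := fun e => h.1 (Subtype.ext e)
      have e1 := hord A₀ hA₀0
      have e2 := hord W hW0
      have key : ∀ a b : Matrix.ProjectiveSpecialLinearGroup (Fin 2) F, a * b = b * a → a ≠ b → orderOf a = 2 → orderOf b = 2 → orderOf (a * b) = 2 := by
        intro a b hab hne ha hb
        have a1 := pow_orderOf_eq_one a
        have b1 := pow_orderOf_eq_one b
        rw [ha] at a1; rw [hb] at b1
        refine orderOf_eq_prime (by rw [(show Commute a b from hab).mul_pow, a1, b1, one_mul]) fun he => hne ?_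
        rw [mul_eq_one_iff_eq_inv.1 he]
        exact inv_eq_of_mul_eq_one_right (by rw [← pow_two, b1])
      rcases h.2 with h' | h'
      · exact absurd (key _ _ hc.symm hne e1 e2 ▸ h') (by decide)
      · exact absurd (key _ _ hc (Ne.symm hne) e2 e1 ▸ h') (by decide)

end Cfsg.Agent.S3266
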