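import Cfsg.Statements.S3269
import Cfsg.Agent.S0215
import Mathlib

set_option autoImplicit false
open Cfsg

namespace Cfsg.Agent.S3269

/-- A decomposition of a group as an internal direct product. -/
def Dec {P : Type*} [Group P] (A B : Subgroup P) : Prop :=
  (∀ a ∈ A, ∀ b ∈ B, a * b = b * a) ∧ A ⊓ B = ⊥ ∧ A ⊔ B = ⊤

theorem Dec.exists_mul {P : Type*} [Group P] {A B : Subgroup P} (h : Dec A B) (x : P) :
    ∃ a ∈ A, ∃ b ∈ B, a * b = x := by
  have hn : A ≤ Subgroup.normalizer (B : Set P) := fun a ha =>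
    Subgroup.mem_normalizer_iff.mpr fun b => ⟨fun hb => by rwa [h.1 a ha b hb, mul_inv_cancel_right],
      fun hb => by
        have := h.1 a ha _ hb
        rw [inv_mul_cancel_right] at this
        have e : a * b * a⁻¹ = b := mul_left_cancel this
        rwa [e] at hb⟩
  have hx : x ∈ ((A ⊔ B : Subgroup P) : Set P) := by rw [h.2.2]; trivial
  rw [Subgroup.coe_mul_of_left_le_normalizer_right A B hn] at hx
  exact hx

theorem Dec.unique {P : Type*} [Group P] {A B : Subgroup P} (h : Dec A B) {a a' b b' : P}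
    (ha : a ∈ A) (ha' : a' ∈ A) (hb : b ∈ B) (hb' : b' ∈ B) (e : a * b = a' * b') :
    a = a' ∧ b = b' := by
  have h1 : a'⁻¹ * a = b' * b⁻¹ := by
    rw [inv_mul_eq_iff_eq_mul, ← mul_assoc, ← e, mul_inv_cancel_right]
  have h2 : a'⁻¹ * a ∈ A ⊓ B :=
    ⟨A.mul_mem (A.inv_mem ha') ha, h1 ▸ B.mul_mem hb' (B.inv_mem hb)⟩
  rw [h.2.1, Subgroup.mem_bot, inv_mul_eq_one] at h2
  exact ⟨h2.symm, by subst h2; exact mul_left_cancel e⟩

variable {n : ℕ}

theorem quat_inv (hn : 1 ≤ n) {q : QuaternionGroup (2 ^ n)} (h : q ^ 2 = 1) :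
    q = 1 ∨ q = QuaternionGroup.a ((2 ^ n : ℕ) : ZMod (2 * 2 ^ n)) := by
  haveI : NeZero (2 ^ n) := ⟨pow_ne_zero _ two_ne_zero⟩
  rcases q with i | i
  · rw [sq, QuaternionGroup.a_mul_a, QuaternionGroup.one_def, QuaternionGroup.a.injEq] at h
    have hi : ((i.val + i.val : ℕ) : ZMod (2 * 2 ^ n)) = 0 := by simp [h]
    rw [ZMod.natCast_eq_zero_iff] at hi
    have hlt := i.val_lt
    obtain ⟨c, hc⟩ := hi
    have : c = 0 ∨ c = 1 := by
      have : c < 2 := by
        by_contra hc2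
        nlinarith
      omega
    rcases this with rfl | rfl
    · left
      rw [QuaternionGroup.one_def, ← ZMod.natCast_zmod_val i, show i.val = 0 by omega, Nat.cast_zero]
    · right
      rw [← ZMod.natCast_zmod_val i, show i.val = 2 ^ n by omega]
  · exfalso
    have ho := QuaternionGroup.orderOf_xa i
    have := Nat.le_of_dvd two_pos (orderOf_dvd_of_pow_eq_one h)
    omega

theorem quat_commutator (hn : 1 ≤ n) : ∃ x y : QuaternionGroup (2 ^ n),
    x * y * x⁻¹ * y⁻¹ = QuaternionGroup.a ((2 ^ n : ℕ) : ZMod (2 * 2 ^ n)) := by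
  obtain ⟨k, rfl⟩ := Nat.exists_eq_add_of_le hn
  refine ⟨QuaternionGroup.a ((2 ^ k : ℕ) : ZMod (2 * 2 ^ (1 + k))), QuaternionGroup.xa 0, ?_⟩
  have e1 : (QuaternionGroup.a ((2 ^ k : ℕ) : ZMod (2 * 2 ^ (1 + k))))⁻¹ =
      QuaternionGroup.a (-((2 ^ k : ℕ) : ZMod (2 * 2 ^ (1 + k)))) := rfl
  rw [mul_inv_eq_iff_eq_mul, e1, QuaternionGroup.a_mul_xa, QuaternionGroup.xa_mul_a,
    QuaternionGroup.a_mul_xa, QuaternionGroup.xa.injEq, pow_add, pow_one]
  push_cast
  ring

theorem quat_a_ne_one (hn : 1 ≤ n) :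
    QuaternionGroup.a ((2 ^ n : ℕ) : ZMod (2 * 2 ^ n)) ≠ 1 := by
  rw [QuaternionGroup.one_def, Ne, QuaternionGroup.a.injEq, ZMod.natCast_eq_zero_iff]
  intro h
  have := Nat.le_of_dvd (pow_pos two_pos n) h
  have := pow_pos (two_pos (α := ℕ)) n
  omega

theorem quat_not_comm (hn : 1 ≤ n) : ∃ x y : QuaternionGroup (2 ^ n), x * y ≠ y * x := by
  obtain ⟨x, y, h⟩ := quat_commutator hn
  refine ⟨x, y, fun e => quat_a_ne_one hn ?_⟩
  rw [← h, e]
  group

theorem quat_isPGroup (n : ℕ) : IsPGroup 2 (QuaternionGroup (2 ^ n)) := by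
  haveI : NeZero (2 ^ n) := ⟨pow_ne_zero _ two_ne_zero⟩
  refine IsPGroup.of_card (n := n + 2) ?_
  rw [Nat.card_eq_fintype_card, QuaternionGroup.card, pow_add]
  ring

/-- The product of the involutions of the direct factors isomorphic to a given generalized
quaternion group is nontrivial and fixed by all automorphisms. -/
theorem canonical_involution {P : Type*} [Group P] [Finite P] (hn : 1 ≤ n) (Q R : Subgroup P)
    (h : Dec Q R) (e : Nonempty (↥Q ≃* QuaternionGroup (2 ^ n)))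
    (hR : ∀ r ∈ R, r ^ 2 = 1 → ∀ s ∈ R, r * s = s * r) :
    ∃ v : P, v ≠ 1 ∧ v ^ 2 = 1 ∧ (∀ x : P, x ^ 2 = 1 → ∀ s : P, s * x = x * s) ∧
      ∀ φ : P ≃* P, φ v = v := by
  classical
  let W : Set P := {w | w ≠ 1 ∧ w ^ 2 = 1 ∧ ∃ A B : Subgroup P, Dec A B ∧
    Nonempty (↥A ≃* QuaternionGroup (2 ^ n)) ∧ w ∈ A}
  -- the involution of a factor
  have hinv : ∀ {A : Subgroup P}, Nonempty (↥A ≃* QuaternionGroup (2 ^ n)) → ∀ {a b : P}, a ∈ A →
      a ≠ 1 → a ^ 2 = 1 → b ∈ A → b ^ 2 = 1 → b = 1 ∨ b = a := by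
    rintro A ⟨f⟩ a b ha ha1 ha2 hb hb2
    have ka : f ⟨a, ha⟩ ^ 2 = 1 := by rw [← map_pow, show (⟨a, ha⟩ : A) ^ 2 = 1 from Subtype.ext ha2, map_one]
    have kb : f ⟨b, hb⟩ ^ 2 = 1 := by rw [← map_pow, show (⟨b, hb⟩ : A) ^ 2 = 1 from Subtype.ext hb2, map_one]
    rcases quat_inv hn kb with kb | kb
    · left
      exact congrArg Subtype.val (f.map_eq_one_iff.mp kb)
    · rcases quat_inv hn ka with ka | ka
      · exact absurd (congrArg Subtype.val (f.map_eq_one_iff.mp ka)) ha1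
      · right
        exact congrArg Subtype.val (f.injective (kb.trans ka.symm))
  have hinvc : ∀ {A : Subgroup P}, Nonempty (↥A ≃* QuaternionGroup (2 ^ n)) → ∀ {a : P}, a ∈ A →
      a ^ 2 = 1 → ∀ s ∈ A, s * a = a * s := by
    intro A hA a ha ha2 s hs
    rcases eq_or_ne a 1 with rfl | ha1
    · simp
    have h2 : (s * a * s⁻¹) ^ 2 = 1 := by rw [conj_pow, ha2]; simp
    rcases hinv hA ha ha1 ha2 (A.mul_mem (A.mul_mem hs ha) (A.inv_mem hs)) h2 with k | k
    · exact absurd (conj_eq_one_iff.mp k) ha1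
    · exact mul_inv_eq_iff_eq_mul.mp k
  have hkey : ∀ w ∈ W, ∀ A B : Subgroup P, Dec A B → Nonempty (↥A ≃* QuaternionGroup (2 ^ n)) →
      ∀ z ∈ A, z ≠ 1 → z ^ 2 = 1 → w = z ∨ w ∈ B := by
    rintro w ⟨hw1, hw2, A', B', h', ⟨f⟩, hwA⟩ A B hAB hA z hzA hz1 hz2
    choose π hπ ρ hρ hπρ using hAB.exists_mul
    have hu : ∀ {a b x : P}, a ∈ A → b ∈ B → a * b = x → π x = a ∧ ρ x = b := fun ha hb he =>
      hAB.unique (hπ _) ha (hρ _) hb ((hπρ _).trans he.symm)
    have hmul : ∀ x y : P, π (x * y) = π x * π y ∧ ρ (x * y) = ρ x * ρ y := fun x y =>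
      hu (A.mul_mem (hπ x) (hπ y)) (B.mul_mem (hρ x) (hρ y)) (by
        conv_rhs => rw [← hπρ x, ← hπρ y]
        rw [mul_assoc, ← mul_assoc (π y), hAB.1 (π y) (hπ y) (ρ x) (hρ x)]
        simp only [mul_assoc])
    let πh : P →* P := MonoidHom.mk' π fun x y => (hmul x y).1
    let ρh : P →* P := MonoidHom.mk' ρ fun x y => (hmul x y).2
    have hπw : (π w) ^ 2 = 1 := by
      have := map_pow πh w 2
      rw [hw2, map_one] at this
      exact this.symm
    rcases hinv hA hzA hz1 hz2 (hπ w) hπw with hp | hp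
    · right
      have := hρ w
      rwa [show ρ w = w by conv_rhs => rw [← hπρ w, hp, one_mul]] at this
    left
    have hker : ∀ a ∈ A', π a = 1 → a = 1 := by
      intro a ha hpa
      by_contra ha1
      let K : Subgroup ↥A' := (πh.comp A'.subtype).ker
      have hK : K ≠ ⊥ := fun hb => ha1 (by
        have : (⟨a, ha⟩ : A') ∈ K := hpa
        rw [hb, Subgroup.mem_bot] at this
        exact congrArg Subtype.val this)
      have hKp : IsPGroup 2 ↥K := ((quat_isPGroup n).of_equiv f.symm).to_subgroup K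
      have : Nontrivial ↥K := (Subgroup.nontrivial_iff_ne_bot K).mpr hK
      obtain ⟨c, hc⟩ := exists_prime_orderOf_dvd_card' (G := ↥K) 2 (by
        obtain ⟨k, hk, hk'⟩ := (hKp.nontrivial_iff_card).mp this
        exact hk' ▸ dvd_pow_self 2 hk.ne')
      have hc1 : (c : P) ≠ 1 := fun e1 => by
        have : c = 1 := Subtype.ext (Subtype.ext e1)
        rw [this, orderOf_one] at hc
        omega
      have hc2 : (c : P) ^ 2 = 1 := by
        have := congrArg (fun x : ↥K => ((x : A') : P)) (hc ▸ pow_orderOf_eq_one c)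
        simpa using this
      rcases hinv ⟨f⟩ hwA hw1 hw2 (c : A').2 hc2 with k | k
      · exact hc1 k
      · exact hz1 (hp.symm.trans (k ▸ c.2))
    have hA'n : ∀ g : P, ∀ a ∈ A', g * a * g⁻¹ ∈ A' := by
      intro g a ha
      obtain ⟨x, hx, y, hy, rfl⟩ := h'.exists_mul g
      have : y * a * y⁻¹ = a := by rw [← h'.1 a ha y hy, mul_inv_cancel_right]
      rw [mul_inv_rev, show x * y * a * (y⁻¹ * x⁻¹) = x * (y * a * y⁻¹) * x⁻¹ by group, this]
      exact A'.mul_mem (A'.mul_mem hx ha) (A'.inv_mem hx)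
    have hcen : ∀ a ∈ A', ∀ r ∈ B, r * ρ a = ρ a * r := by
      intro a ha r hr
      have hπr : π r = 1 ∧ ρ r = r := hu A.one_mem hr (one_mul r)
      have h1 : π (r * a * r⁻¹ * a⁻¹) = 1 := by
        show πh (r * a * r⁻¹ * a⁻¹) = 1
        simp only [map_mul, map_inv, show πh r = 1 from hπr.1]
        group
      have h2 := hker _ (A'.mul_mem (hA'n r a ha) (A'.inv_mem ha)) h1
      have h3 := congrArg ρh h2
      simp only [map_mul, map_inv, map_one, ρh, MonoidHom.mk'_apply, hπr.2, mul_inv_eq_one,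
        mul_inv_eq_iff_eq_mul, one_mul] at h3
      exact h3
    obtain ⟨x, y, hxy⟩ := quat_commutator hn
    have hwxy : ((f.symm x : A') : P) * ((f.symm y : A') : P) * ((f.symm x : A') : P)⁻¹ * ((f.symm y : A') : P)⁻¹ = w := by
      have hfw : f ⟨w, hwA⟩ = x * y * x⁻¹ * y⁻¹ := by
        rw [hxy]
        have : f ⟨w, hwA⟩ ^ 2 = 1 := by
          rw [← map_pow, show (⟨w, hwA⟩ : A') ^ 2 = 1 from Subtype.ext hw2, map_one]
        exact (quat_inv hn this).resolve_left fun k => hw1 (congrArg Subtype.val (f.map_eq_one_iff.mp k))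
      have := congrArg (fun t => ((f.symm t : A') : P)) hfw
      simpa using this.symm
    have hρw : ρ w = 1 := by
      have := congrArg ρh hwxy
      simp only [map_mul, map_inv, ρh, MonoidHom.mk'_apply] at this
      rw [← this, hcen _ (f.symm y).2 _ (hρ _)]
      group
    calc w = π w * ρ w := (hπρ w).symm
      _ = z := by rw [hp, hρw, mul_one]
  obtain ⟨f⟩ := e
  let z : P := (f.symm (QuaternionGroup.a ((2 ^ n : ℕ) : ZMod (2 * 2 ^ n))) : Q)
  have hz2 : z ^ 2 = 1 := by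
    have : (QuaternionGroup.a ((2 ^ n : ℕ) : ZMod (2 * 2 ^ n))) ^ 2 = 1 := by
      rw [sq, QuaternionGroup.a_mul_a, ← Nat.cast_add, QuaternionGroup.one_def,
        QuaternionGroup.a.injEq, ← two_mul, ZMod.natCast_self]
    have := congrArg (fun t => ((f.symm t : Q) : P)) this
    simpa [z] using this
  have hz1 : z ≠ 1 := fun k => quat_a_ne_one hn (f.symm.map_eq_one_iff.mp (Subtype.ext k))
  have hzQ : z ∈ Q := Subtype.coe_prop _
  have hzW : z ∈ W := ⟨hz1, hz2, Q, R, h, ⟨f⟩, hzQ⟩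
  have hall : ∀ x : P, x ^ 2 = 1 → ∀ s : P, s * x = x * s := by
    intro x hx s
    obtain ⟨q, hq, r, hr, rfl⟩ := h.exists_mul x
    obtain ⟨q', hq', r', hr', rfl⟩ := h.exists_mul s
    have he : q * q * (r * r) = 1 := by
      rw [← sq, ← sq, ← Commute.mul_pow (h.1 q hq r hr), hx]
    obtain ⟨eq1, er1⟩ := h.unique (Q.mul_mem hq hq) Q.one_mem (R.mul_mem hr hr) R.one_mem
      (he.trans (one_mul 1).symm)
    have c1 : q' * q = q * q' := hinvc ⟨f⟩ hq (by rwa [sq]) q' hq'
    have c2 : r * r' = r' * r := hR r hr (by rwa [sq]) r' hr'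
    calc q' * r' * (q * r) = q' * (r' * q) * r := by simp only [mul_assoc]
      _ = (q' * q) * (r' * r) := by rw [← h.1 q hq r' hr']; simp only [mul_assoc]
      _ = (q * q') * (r * r') := by rw [c1, c2]
      _ = q * (q' * r) * r' := by simp only [mul_assoc]
      _ = q * r * (q' * r') := by rw [h.1 q' hq' r hr]; simp only [mul_assoc]
  have : Fintype P := Fintype.ofFinite P
  let T : Finset P := W.toFinset
  have hWc : ∀ w ∈ W, w ∈ Subgroup.center P := fun w hw =>
    Subgroup.mem_center_iff.mpr fun s => hall w hw.2.1 s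
  letI : CommGroup ↥(Subgroup.center P) :=
    { (inferInstance : Group ↥(Subgroup.center P)) with
      mul_comm := fun a b => Subtype.ext (Subgroup.mem_center_iff.mp b.2 a) }
  let g : P → Subgroup.center P := fun w => if hw : w ∈ W then ⟨w, hWc w hw⟩ else 1
  let v : Subgroup.center P := ∏ w ∈ T, g w
  refine ⟨v, ?_, ?_, hall, ?_⟩
  · intro hv
    have hzT : z ∈ T := Set.mem_toFinset.mpr hzW
    have hv' : v = g z * ∏ w ∈ T.erase z, g w := (Finset.mul_prod_erase T g hzT).symm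
    have hrest : ((∏ w ∈ T.erase z, g w : Subgroup.center P) : P) ∈ R := by
      have : (∏ w ∈ T.erase z, g w) ∈ R.subgroupOf (Subgroup.center P) := by
        refine Subgroup.prod_mem _ fun w hw => ?_
        obtain ⟨hne, hwT⟩ := Finset.mem_erase.mp hw
        have hwW := Set.mem_toFinset.mp hwT
        rw [Subgroup.mem_subgroupOf]
        simp only [g, dif_pos hwW]
        exact (hkey w hwW Q R h ⟨f⟩ z hzQ hz1 hz2).resolve_left hne
      exact this
    rw [hv', Subgroup.coe_mul] at hv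
    simp only [g, dif_pos hzW] at hv
    exact hz1 (h.unique hzQ Q.one_mem hrest R.one_mem (hv.trans (one_mul 1).symm)).1
  · have : v ^ 2 = 1 := by
      show (∏ w ∈ T, g w) ^ 2 = 1
      rw [← Finset.prod_pow]
      refine Finset.prod_eq_one fun w hw => ?_
      have hwW := Set.mem_toFinset.mp hw
      exact Subtype.ext (by simp only [g, dif_pos hwW]; exact hwW.2.1)
    exact congrArg Subtype.val this
  · intro φ
    have hW : ∀ (ψ : P ≃* P), ∀ w ∈ W, ψ w ∈ W := by
      rintro ψ w ⟨h1, h2, A, B, hAB, ⟨fA⟩, hwA⟩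
      refine ⟨fun k => h1 (ψ.map_eq_one_iff.mp k), by rw [← map_pow, h2, map_one],
        A.map ψ.toMonoidHom, B.map ψ.toMonoidHom, ⟨?_, ?_, ?_⟩,
        ⟨(A.equivMapOfInjective _ ψ.injective).symm.trans fA⟩, ⟨w, hwA, rfl⟩⟩
      · rintro _ ⟨a, ha, rfl⟩ _ ⟨b, hb, rfl⟩
        rw [← map_mul, ← map_mul, hAB.1 a ha b hb]
      · rw [← Subgroup.map_inf _ _ _ ψ.injective, hAB.2.1, Subgroup.map_bot]
      · rw [← Subgroup.map_sup, hAB.2.2, Subgroup.map_top_of_surjective _ ψ.surjective]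
    let φc : Subgroup.center P ≃* Subgroup.center P := Subgroup.centerCongr φ
    have : φc v = v := by
      show φc (∏ w ∈ T, g w) = ∏ w ∈ T, g w
      rw [map_prod]
      refine Finset.prod_bij' (fun w _ => φ w) (fun w _ => φ.symm w) ?_ ?_ ?_ ?_ ?_
      · exact fun w hw => Set.mem_toFinset.mpr (hW φ w (Set.mem_toFinset.mp hw))
      · exact fun w hw => Set.mem_toFinset.mpr (hW φ.symm w (Set.mem_toFinset.mp hw))
      · simp
      · simp
      · intro w hw
        have hwW := Set.mem_toFinset.mp hw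
        refine Subtype.ext ?_
        simp only [g, dif_pos hwW, dif_pos (hW φ w hwW)]
        rfl
    exact congrArg Subtype.val this

/-- Let G be a finite group whose Sylow 2-subgroup S is an internal direct product Q × R with Q generalized quaternion (of order at least 8) and R a subgroup all of whose involutions are central in R. Then G is not simple. In particular no finite simple group has a Sylow 2-subgroup that is a direct product of one or more generalized quaternion groups. -/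
theorem result {G : Type*} [Group G] [Finite G]
    (S : Sylow 2 G) (Q R : Subgroup G) (hQR : Cfsg.IsInternalDirectProduct Q R (S : Subgroup G))
    (n : ℕ) (hn : 1 ≤ n) (eQ : ↥Q ≃* QuaternionGroup (2 ^ n))
    (hR : ∀ r ∈ R, orderOf r = 2 → ∀ s ∈ R, r * s = s * r) :
    ¬ IsSimpleGroup G := by
  classical
  intro hs
  have hm0 : 2 ^ n ≠ 0 := pow_ne_zero _ two_ne_zero
  haveI : NeZero (2 ^ n) := ⟨hm0⟩
  let Q₀ : Subgroup ↥(S : Subgroup G) := Q.subgroupOf S
  let R₀ : Subgroup ↥(S : Subgroup G) := R.subgroupOf S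
  obtain ⟨hQS, hRS, hcomm, hinf, hsup⟩ := hQR
  have hdec : Dec Q₀ R₀ := by
    refine ⟨fun a ha b hb => Subtype.ext (hcomm a ha b hb), ?_, ?_⟩
    · rw [eq_bot_iff]
      intro x hx
      have : (x : G) ∈ Q ⊓ R := ⟨hx.1, hx.2⟩
      rw [hinf, Subgroup.mem_bot] at this
      exact Subgroup.mem_bot.mpr (Subtype.ext this)
    · rw [← Subgroup.subgroupOf_sup hQS hRS, hsup, Subgroup.subgroupOf_self]
  have e₀ : Nonempty (↥Q₀ ≃* QuaternionGroup (2 ^ n)) :=
    ⟨(Subgroup.subgroupOfEquivOfLe hQS).trans eQ⟩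
  have hRc : ∀ r ∈ R₀, r ^ 2 = 1 → ∀ s ∈ R₀, r * s = s * r := by
    intro r hr hr2 s hs
    by_cases h1 : r = 1
    · simp [h1]
    refine Subtype.ext (hR r hr ?_ s hs)
    rw [orderOf_eq_prime_iff]
    exact ⟨by simpa using congrArg Subtype.val hr2, fun h => h1 (Subtype.ext h)⟩
  obtain ⟨v, hv1, hv2, hinv, hfix⟩ := canonical_involution hn Q₀ R₀ hdec e₀ hRc
  have hvG : orderOf (v : G) = 2 :=
    (orderOf_submonoid v).trans (orderOf_eq_prime_iff.mpr ⟨hv2, hv1⟩)
  have hiso : ∀ g : G, g * (v : G) * g⁻¹ ∈ (S : Subgroup G) → g * (v : G) * g⁻¹ = v := by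
    intro g hg
    have hc : ∀ x : ↥(S : Subgroup G), x ^ 2 = 1 →
        (x : G) ∈ Subgroup.centralizer ((S : Subgroup G) : Set G) := fun x hx s hs =>
      congrArg Subtype.val (hinv x hx ⟨s, hs⟩)
    have h2 : (⟨_, hg⟩ : ↥(S : Subgroup G)) ^ 2 = 1 := by
      apply Subtype.ext
      simp only [SubmonoidClass.coe_pow, conj_pow, Subgroup.coe_one]
      rw [← SubmonoidClass.coe_pow, hv2]
      simp
    obtain ⟨m, hm, he⟩ := S.conj_eq_normalizer_conj_of_mem_centralizer (v : G) g⁻¹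
      (hc v hv2) (by rw [inv_inv]; exact hc _ h2)
    rw [inv_inv] at he
    rw [he]
    have := congrArg Subtype.val (hfix (MulDistribMulAction.toMulEquiv ↥(S : Subgroup G)
      (⟨m⁻¹, inv_mem hm⟩ : Subgroup.normalizer ((S : Subgroup G) : Set G))))
    conv_rhs => rw [← this]
    show m⁻¹ * (v : G) * m = m⁻¹ * (v : G) * (m⁻¹)⁻¹
    rw [inv_inv]
  obtain ⟨N, hN, hodd, hc⟩ := Cfsg.Agent.S0215.result S (v : G) hvG v.2 hiso
  rcases hN.eq_bot_or_eq_top with rfl | rfl
  · have hvc : (v : G) ∈ Subgroup.center G := Subgroup.mem_center_iff.mpr fun g => by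
      have := Subgroup.mem_bot.mp (hc g)
      rw [mul_inv_eq_one, mul_inv_eq_iff_eq_mul] at this
      exact this.symm
    rcases (inferInstance : (Subgroup.center G).Normal).eq_bot_or_eq_top with hb | ht
    · rw [hb, Subgroup.mem_bot] at hvc
      exact hv1 (Subtype.ext hvc)
    · obtain ⟨x, y, hxy⟩ : ∃ x y : ↥Q, x * y ≠ y * x := by
        obtain ⟨x, y, hxy⟩ := quat_not_comm hn
        exact ⟨eQ.symm x, eQ.symm y, fun h => hxy (by simpa using congrArg eQ h)⟩
      have hy : (y : G) ∈ Subgroup.center G := ht ▸ Subgroup.mem_top _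
      exact hxy (Subtype.ext (Subgroup.mem_center_iff.mp hy x))
  · rw [Subgroup.card_top, Nat.odd_iff] at hodd
    have : 2 ∣ Nat.card G := hvG ▸ orderOf_dvd_natCard (v : G)
    omega

end Cfsg.Agent.S3269
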