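import Cfsg.Statements.S3276
import Mathlib
import Cfsg.Agent.Lib.Involutions.Basic

set_option autoImplicit false
open Cfsg CfsgLib.Involutions

namespace Cfsg.Agent.S3276

/-- Let x and y be commuting, non-conjugate involutions of a finite group G, and suppose that for every involution u commuting with x, each conjugate of y that commutes with u also commutes with y. Then the normal closure of y is a proper, normal, elementary abelian 2-subgroup of G; and if y is the only involution of that normal closure commuting with x, it has order at most 4. -/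
theorem result {G : Type*} [Group G] [Finite G] (x y : G) (hx : orderOf x = 2) (hy : orderOf y = 2)
    (hxy : Commute x y) (hnc : ¬ IsConj x y)
    (hstar : ∀ u : G, orderOf u = 2 → Commute u x → ∀ g : G, Commute (g * y * g⁻¹) u → Commute (g * y * g⁻¹) y) :
    Subgroup.normalClosure ({y} : Set G) ≠ ⊤ ∧ Cfsg.IsElementaryAbelian 2 (Subgroup.normalClosure ({y} : Set G)) ∧
      ((∀ u ∈ Subgroup.normalClosure ({y} : Set G), orderOf u = 2 → Commute u x → u = y) →
        Nat.card ↥(Subgroup.normalClosure ({y} : Set G)) ≤ 4) := by
  classical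
  have hcomm : ∀ w : G, IsConj y w → Commute w y := by
    intro w hw
    obtain ⟨g, rfl⟩ := isConj_iff.1 hw
    have hw2 : orderOf (g * y * g⁻¹) = 2 := conj_invol g hy
    have heven : Even (orderOf (x * (g * y * g⁻¹))) := by
      rw [← Nat.not_odd_iff_even]
      exact fun h => hnc ((isConj_of_odd_prod hx hw2 h).trans (IsConj.symm (isConj_iff.2 ⟨g, rfl⟩)))
    exact hstar _ (half_invol heven) (half_comm_left hx hw2 heven) g
      (half_comm_right hx hw2 heven).symm
  set Y := Subgroup.normalClosure ({y} : Set G) with hY
  have hgen : Y = Subgroup.closure {w : G | IsConj y w} := by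
    rw [hY, Subgroup.normalClosure]
    congr 1
    ext w
    simp [Group.mem_conjugatesOfSet_iff]
  have hpair : ∀ u ∈ {w : G | IsConj y w}, ∀ v ∈ {w : G | IsConj y w}, u * v = v * u := by
    intro u hu v hv
    obtain ⟨a, rfl⟩ := isConj_iff.1 (show IsConj y u from hu)
    have h := hcomm (a⁻¹ * v * a) ((show IsConj y v from hv).trans (isConj_iff.2 ⟨a⁻¹, by group⟩))
    calc a * y * a⁻¹ * v = a * (y * (a⁻¹ * v * a)) * a⁻¹ := by group
      _ = a * ((a⁻¹ * v * a) * y) * a⁻¹ := by rw [h.eq]
      _ = v * (a * y * a⁻¹) := by group
  have hY2 : Cfsg.IsElementaryAbelian 2 Y := by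
    haveI : IsMulCommutative (Subgroup.closure {w : G | IsConj y w}) :=
      Subgroup.isMulCommutative_closure hpair
    rw [hgen]
    refine ⟨inferInstance, fun w hw => ?_⟩
    induction hw using Subgroup.closure_induction with
    | mem w hw => rw [sq]; exact CfsgLib.Involutions.invol_mul_self (CfsgLib.Involutions.isConj_invol hw hy)
    | one => exact one_pow _
    | mul u v hu hv hu2 hv2 =>
      have hc : Commute u v := congrArg Subtype.val
        (IsMulCommutative.is_comm.comm (⟨u, hu⟩ : Subgroup.closure {w : G | IsConj y w}) ⟨v, hv⟩)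
      rw [hc.mul_pow, hu2, hv2, one_mul]
    | inv u _ hu2 => rw [inv_pow, hu2, inv_one]
  haveI hcommY : IsMulCommutative Y := hY2.1
  refine ⟨fun htop => ?_, hY2, fun honly => ?_⟩
  · rw [htop] at hY2
    have hG : ∀ a b : G, a * b = b * a := fun a b => congrArg Subtype.val
      (hY2.1.is_comm.comm (⟨a, Subgroup.mem_top a⟩ : (⊤ : Subgroup G)) ⟨b, Subgroup.mem_top b⟩)
    have hle : Y ≤ Subgroup.zpowers y := by
      rw [hgen, Subgroup.closure_le]
      intro w hw
      obtain ⟨g, rfl⟩ := isConj_iff.1 (show IsConj y w from hw)
      rw [hG g y, mul_inv_cancel_right]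
      exact Subgroup.mem_zpowers y
    rw [htop] at hle
    have hxm : x ∈ Subgroup.zpowers y := hle (Subgroup.mem_top x)
    have : Subgroup.zpowers x = Subgroup.zpowers y :=
      Subgroup.eq_of_le_of_card_ge (Subgroup.zpowers_le.2 hxm)
        (by rw [Nat.card_zpowers, Nat.card_zpowers, hx, hy])
    obtain ⟨k, hk⟩ := hxm
    rcases Int.even_or_odd' k with ⟨m, rfl | rfl⟩
    · exact CfsgLib.Involutions.invol_ne_one hx (by
        rw [← hk]; simp [zpow_mul, sq, CfsgLib.Involutions.invol_mul_self hy])
    · refine hnc (isConj_iff.2 ⟨1, ?_⟩)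
      rw [← hk]
      simp [zpow_add, zpow_mul, sq, CfsgLib.Involutions.invol_mul_self hy]
  · have hYn : ∀ v ∈ Y, x * v * x ∈ Y := fun v hv => by
      have := (Subgroup.normalClosure_normal (s := ({y} : Set G))).conj_mem v hv x
      rwa [CfsgLib.Involutions.invol_inv hx] at this
    have hfix : ∀ u : Y, Commute (u : G) x → (u : G) = 1 ∨ (u : G) = y := fun u hu => by
      by_cases h1 : (u : G) = 1
      · exact Or.inl h1
      · exact Or.inr (honly u u.2 (orderOf_eq_prime (hY2.2 u u.2) h1) hu)
    let f : Y →* Y :=
      { toFun := fun v => ⟨v * (x * v * x), Y.mul_mem v.2 (hYn v v.2)⟩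
        map_one' := Subtype.ext (by simp [CfsgLib.Involutions.invol_mul_self hx])
        map_mul' := fun u v => Subtype.ext (by
          show (u : G) * v * (x * (u * v) * x) = (u * (x * u * x)) * (v * (x * v * x))
          have h1 : x * ((u : G) * v) * x = (x * u * x) * (x * v * x) := by
            rw [show (x * u * x) * (x * v * x) = x * u * (x * x) * v * x by group,
              CfsgLib.Involutions.invol_mul_self hx, mul_one]
            group
          have h2 : (v : G) * (x * u * x) = (x * u * x) * v := congrArg Subtype.val
            (hcommY.is_comm.comm v ⟨_, hYn u u.2⟩)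
          calc (u : G) * v * (x * (u * v) * x) = u * (v * (x * u * x)) * (x * v * x) := by rw [h1]; group
            _ = _ := by rw [h2]; group) }
    have hsmall : ∀ K : Subgroup Y, (∀ u ∈ K, Commute ((u : Y) : G) x) → Nat.card K ≤ 2 := by
      intro K hK
      have hinj : Function.Injective (fun u : K => decide (((u : Y) : G) = 1)) := by
        intro u v h
        simp only [decide_eq_decide] at h
        rcases hfix u (hK u u.2) with hu | hu <;> rcases hfix v (hK v v.2) with hv | hv
        · exact Subtype.ext (Subtype.ext (hu.trans hv.symm))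
        · exact Subtype.ext (Subtype.ext (hu.trans (h.1 hu).symm))
        · exact Subtype.ext (Subtype.ext ((h.2 hv).trans hv.symm))
        · exact Subtype.ext (Subtype.ext (hu.trans hv.symm))
      exact (Nat.card_le_card_of_injective _ hinj).trans (by simp)
    rw [← Subgroup.card_mul_index f.ker, Subgroup.index_ker]
    refine Nat.mul_le_mul (hsmall _ fun u hu => ?_) (hsmall _ ?_) |>.trans (by norm_num)
    · have h : (u : G) * (x * u * x) = 1 := congrArg Subtype.val hu
      have h' : (u : G) * u = 1 := by rw [← sq]; exact hY2.2 u u.2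
      have h'' : x * u * x = (u : G) := mul_left_cancel (h.trans h'.symm)
      calc (u : G) * x = x * u * x * x := by rw [h'']
        _ = x * u := by rw [mul_assoc, CfsgLib.Involutions.invol_mul_self hx, mul_one]
    · rintro _ ⟨v, rfl⟩
      show Commute ((v : G) * (x * v * x)) x
      have h2 : (v : G) * (x * v * x) = (x * v * x) * v := congrArg Subtype.val
        (hcommY.is_comm.comm v ⟨_, hYn v v.2⟩)
      calc (v : G) * (x * v * x) * x = v * x * v * (x * x) := by group
        _ = x * ((x * v * x) * v) := by
          rw [CfsgLib.Involutions.invol_mul_self hx, mul_one,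
            show x * ((x * v * x) * v) = (x * x) * (v * x * v) by group,
            CfsgLib.Involutions.invol_mul_self hx, one_mul]
        _ = x * ((v : G) * (x * v * x)) := by rw [h2]

end Cfsg.Agent.S3276
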