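import Cfsg.Statements.S3283
import Cfsg.Agent.Lib.NoSixCent.All
import Cfsg.Agent.Lib.Components.FStar

set_option autoImplicit false
open Cfsg

namespace Cfsg.Agent.S3283

/-- Let G be a finite group with an involution z whose centralizer M has Q = O₂(M) extraspecial of order 2⁹ with C_M(Q) ≤ Q, and M/Q isomorphic to S₃ × A₆ or to S₃ × S₆. Then G is not simple. -/
theorem result {G : Type*} [Group G] [Finite G] (z : G) (hz : orderOf z = 2)
    (hQ : Cfsg.IsExtraspecial 2 ↥(Cfsg.pCore 2 ↥(Subgroup.centralizer ({z} : Set G)))) (hQ9 : Nat.card ↥(Cfsg.pCore 2 ↥(Subgroup.centralizer ({z} : Set G))) = 2 ^ 9)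
    (hCQ : Subgroup.centralizer ((Cfsg.pCore 2 ↥(Subgroup.centralizer ({z} : Set G))) : Set ↥(Subgroup.centralizer ({z} : Set G))) ≤ Cfsg.pCore 2 ↥(Subgroup.centralizer ({z} : Set G)))
    (hMQ : Nonempty (↥(Subgroup.centralizer ({z} : Set G)) ⧸ Cfsg.pCore 2 ↥(Subgroup.centralizer ({z} : Set G)) ≃* (Equiv.Perm (Fin 3) × ↥(alternatingGroup (Fin 6)))) ∨
      Nonempty (↥(Subgroup.centralizer ({z} : Set G)) ⧸ Cfsg.pCore 2 ↥(Subgroup.centralizer ({z} : Set G)) ≃* (Equiv.Perm (Fin 3) × Equiv.Perm (Fin 6)))) :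
    ¬ IsSimpleGroup G := by
  intro hS
  obtain ⟨ψ, hinj, hbig, hodd⟩ : ∃ ψ : (↥(Subgroup.centralizer ({z} : Set G)) ⧸
      Cfsg.pCore 2 ↥(Subgroup.centralizer ({z} : Set G))) →* CfsgLib.NoSixCent.P36,
      Function.Injective ψ ∧
      (∀ p q, Equiv.Perm.sign p = 1 → Equiv.Perm.sign q = 1 →
        ((p, q) : CfsgLib.NoSixCent.P36) ∈ ψ.range) ∧
      ∃ h ∈ ψ.range, CfsgLib.NoSixCent.Inv3 h := by
    rcases hMQ with ⟨⟨e⟩⟩ | ⟨⟨e⟩⟩
    · let i := (MonoidHom.id (Equiv.Perm (Fin 3))).prodMap (alternatingGroup (Fin 6)).subtype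
      refine ⟨i.comp e.toMonoidHom, (Function.injective_id.prodMap Subtype.val_injective).comp
        e.injective, fun p q _ hq => ?_, (Equiv.swap 0 1, 1), ?_, ?_⟩
      · exact ⟨e.symm (p, ⟨q, hq⟩), by simp [i]⟩
      · exact ⟨e.symm (Equiv.swap 0 1, 1), by simp [i]⟩
      · show Equiv.Perm.sign (Equiv.swap (0 : Fin 3) 1) = -1
        decide
    · refine ⟨e.toMonoidHom, e.injective, fun p q _ _ => ⟨e.symm (p, q), by simp⟩,
        (Equiv.swap 0 1, 1), ⟨e.symm (Equiv.swap 0 1, 1), by simp⟩, ?_⟩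
      show Equiv.Perm.sign (Equiv.swap (0 : Fin 3) 1) = -1
      decide
  haveI : (Cfsg.pCore 2 ↥(Subgroup.centralizer ({z} : Set G))).Normal := Cfsg.pCore_normal 2 _
  exact (CfsgLib.NoSixCent.pieces).no_centraliser hz _ hQ hQ9 hCQ ψ hinj hbig hodd

end Cfsg.Agent.S3283
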