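import Cfsg.Statements.S3284
import Cfsg.Agent.Lib.NoSixCent.All
import Cfsg.Agent.Lib.Components.FStar

set_option autoImplicit false
open Cfsg

namespace Cfsg.Agent.S3284

/-- There is no non-abelian finite simple group with an involution z whose centralizer M has generalized Fitting subgroup Q = F*(M) extraspecial of order 2⁹ and M/Q isomorphic to the subgroup of S₃ × S₆ consisting of the pairs of permutations with equal sign (a group (3 × A₆)·2 in which an involution outside 3 × A₆ induces S₃ on the first factor and S₆ on the second). -/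
theorem result {G : Type*} [Group G] [Finite G] [IsSimpleGroup G] (hG : ¬ IsMulCommutative G) (z : G) (hz : orderOf z = 2)
    [hn : (Cfsg.generalizedFittingSubgroup ↥(Subgroup.centralizer ({z} : Set G))).Normal]
    (hQ : Cfsg.IsExtraspecial 2 ↥(Cfsg.generalizedFittingSubgroup ↥(Subgroup.centralizer ({z} : Set G)))) (hQ9 : Nat.card ↥(Cfsg.generalizedFittingSubgroup ↥(Subgroup.centralizer ({z} : Set G))) = 2 ^ 9)
    (e : (↥(Subgroup.centralizer ({z} : Set G)) ⧸ Cfsg.generalizedFittingSubgroup ↥(Subgroup.centralizer ({z} : Set G))) ≃*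
      ↥(MonoidHom.ker (Equiv.Perm.sign.comp (MonoidHom.fst (Equiv.Perm (Fin 3)) (Equiv.Perm (Fin 6))) *
          Equiv.Perm.sign.comp (MonoidHom.snd (Equiv.Perm (Fin 3)) (Equiv.Perm (Fin 6)))))) :
    False := by
  have hinj : Function.Injective ((MonoidHom.ker (Equiv.Perm.sign.comp (MonoidHom.fst (Equiv.Perm (Fin 3)) (Equiv.Perm (Fin 6))) *
      Equiv.Perm.sign.comp (MonoidHom.snd (Equiv.Perm (Fin 3)) (Equiv.Perm (Fin 6))))).subtype.comp e.toMonoidHom) :=
    Subtype.val_injective.comp e.injective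
  refine (CfsgLib.NoSixCent.pieces).no_centraliser hz _ hQ hQ9
    (fun a ha => CfsgLib.Components.centralizer_fstar_le ha) _ hinj (fun p q hp hq => ?_)
    ⟨(Equiv.swap 0 1, Equiv.swap 0 1), ?_, ?_⟩
  · exact ⟨e.symm ⟨(p, q), by rw [MonoidHom.mem_ker]; simp [hp, hq]⟩, by simp⟩
  · exact ⟨e.symm ⟨(Equiv.swap 0 1, Equiv.swap 0 1), by rw [MonoidHom.mem_ker]; simp⟩, by simp⟩
  · show Equiv.Perm.sign (Equiv.swap (0 : Fin 3) 1) = -1
    decide

end Cfsg.Agent.S3284
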