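import Cfsg.Statements.S3285
import Cfsg.Agent.S1644
import Cfsg.Agent.Lib.TwoTimesAlt.Four

set_option autoImplicit false
open Cfsg

namespace Cfsg.Agent.S3285


/-- Let G be a finite non-solvable group with no normal subgroup of index 2, and J an involution lying in the centre of a Sylow 2-subgroup of G whose centralizer is the internal direct product of ⟨J⟩ with a subgroup isomorphic to the alternating group of degree m. Then either m = 4 and G is isomorphic to the automorphism group PΓL(2, 8) of PSL(2, 8), or m = 5 and G is isomorphic to the first Janko group. -/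
theorem result {G : Type*} [Group G] [Finite G] (hns : ¬ Group.IsSolvable G) (h2 : ∀ N : Subgroup G, N.Normal → N.index ≠ 2)
    (J : G) (hJ : Cfsg.IsTwoCentralInvolution J) (m : ℕ) (T : Subgroup G)
    (hT : Nonempty (↥T ≃* ↥(alternatingGroup (Fin m))))
    (hd : Cfsg.IsInternalDirectProduct (Subgroup.zpowers J) T (Subgroup.centralizer ({J} : Set G))) :
    (m = 4 ∧ ∃ (F : Type) (_ : Field F) (_ : Fintype F), Fintype.card F = 8 ∧
        Nonempty (G ≃* MulAut (Matrix.ProjectiveSpecialLinearGroup (Fin 2) F))) ∨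
      (m = 5 ∧ Cfsg.Spor.IsoJ1 G) := by
  obtain ⟨e⟩ := hT
  obtain ⟨hord, P, hP, hPc⟩ := hJ
  have D : CfsgLib.TwoTimesAlt.Cfg J T := ⟨hord, P, hP, hPc, hd, h2⟩
  rcases D.degree e with rfl | rfl
  · exact Or.inl ⟨rfl, D.degree_four e hns⟩
  · obtain ⟨hsimple, hcard, ⟨eC⟩⟩ := D.degree_five e
    haveI := hsimple
    have hA : CfsgLib.TwoTimesAlt.SmallAlt T := CfsgLib.TwoTimesAlt.smallAlt_five.of_equiv e
    have h8 : Nat.card D.S = 8 := by
      haveI : Fact (Nat.Prime 2) := ⟨Nat.prime_two⟩
      refine (Sylow.card_eq_multiplicity D.S).trans ?_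
      rw [hcard, show (175560 : ℕ) = 2 ^ 3 * 21945 from rfl, Nat.factorization_mul (by norm_num) (by norm_num),
        Nat.Prime.factorization_pow Nat.prime_two]
      simp [Nat.factorization_eq_zero_of_not_dvd (show ¬ 2 ∣ 21945 by norm_num)]
    exact Or.inr ⟨rfl, Cfsg.Agent.S1644.result D.S ⟨⟨fun a b => Subtype.ext (D.comm_S hA a.2 b.2)⟩⟩ h8 J hord eC⟩

end Cfsg.Agent.S3285
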