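import Cfsg.Statements.S3301
import Cfsg.Agent.Lib.CharsMore.ExtraTransfer.Abelianization

set_option autoImplicit false
open Cfsg

namespace Cfsg.Agent.S3301

/-- Let G be a finite group with no nontrivial 2-group quotient (O^2(G) = G), z an involution of G with H = C_G(z), and suppose E = O_2(H) is extraspecial with C_G(E) ≤ E. Then the Sylow 2-subgroups of H/[H, H] are elementary abelian: every element of 2-power order of the abelianization of H has order at most 2. -/
theorem result {G : Type*} [Group G] [Finite G] (hres : Cfsg.pResidual 2 G = ⊤) (z : G) (hz : orderOf z = 2)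
    (E : Subgroup G) (hE : E = (Cfsg.pCore 2 ↥(Subgroup.centralizer ({z} : Set G))).map (Subgroup.centralizer ({z} : Set G)).subtype)
    (hext : Cfsg.IsExtraspecial 2 ↥E) (hcent : Subgroup.centralizer (E : Set G) ≤ E) :
    ∀ q : Abelianization ↥(Subgroup.centralizer ({z} : Set G)), (∃ k : ℕ, orderOf q = 2 ^ k) → q ^ 2 = 1 := by
  have D := CfsgLib.Involutions.ExtraTransfer.setup_of z hz E hE hext hcent
  intro q hq
  refine CfsgLib.CharsMore.ExtraTransfer.abelianization_sq D hres ?_ ?_ q hq
  · intro P hP hPle hPn x hx
    have : (P.comap (Subgroup.centralizer ({z} : Set G)).subtype).Normal := ⟨fun y hy h => by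
      rw [Subgroup.mem_comap] at hy ⊢
      exact hPn h h.2 y hy⟩
    rw [hE]
    exact ⟨⟨x, hPle hx⟩,
      CfsgLib.Base.le_pCore (hP.comap_subtype (K := Subgroup.centralizer ({z} : Set G))) hx, rfl⟩
  · intro hab
    obtain ⟨⟨-, -, hco⟩, hcard⟩ := hext
    have h : commutator ↥E = ⊥ := by
      rw [commutator_def, Subgroup.commutator_eq_bot_iff_le_centralizer]
      exact fun a _ => Subgroup.mem_centralizer_iff.2 fun b _ => Subtype.ext (hab b b.2 a a.2)
    rw [← hco, h, Subgroup.card_bot] at hcard
    omega

end Cfsg.Agent.S3301
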