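import Cfsg.Statements.S3303
import Cfsg.Agent.Lib.Involutions.CyclicIntersection
import Cfsg.Agent.Lib.PLocal.Constrained

set_option autoImplicit false
open Cfsg

namespace Cfsg.Agent.S3303

/-- Let G be a finite solvable group in which the intersection of any two distinct Sylow 2-subgroups is cyclic. Then G/O(G) has a normal Sylow 2-subgroup, where O(G) is the largest normal subgroup of odd order. -/
theorem result {G : Type*} [Group G] [Finite G] (hs : Group.IsSolvable G)
    (hC : ∀ S T : Sylow 2 G, S ≠ T → IsCyclic ↥((S : Subgroup G) ⊓ (T : Subgroup G))) :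
    ∃ P : Sylow 2 (G ⧸ Cfsg.oddCore G), (P : Subgroup (G ⧸ Cfsg.oddCore G)).Normal := by
  classical
  set X := G ⧸ Cfsg.oddCore G
  haveI : Group.IsSolvable X := Group.isSolvable_of_surjective (QuotientGroup.mk'_surjective (Cfsg.oddCore G))
  have hX : ∀ S T : Sylow 2 X, S ≠ T → IsCyclic ↥((S : Subgroup X) ⊓ (T : Subgroup X)) :=
    CfsgLib.Involutions.cyclic_inter_of_surjective (QuotientGroup.mk'_surjective _) hC
  have hQC : Subgroup.centralizer (Cfsg.pCore 2 X : Set X) ≤ Cfsg.pCore 2 X :=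
    CfsgLib.PLocal.centralizer_pCore_le CfsgLib.PLocal.isPSolvable_of_isSolvable
      (CfsgLib.Base.pPrimeCore_quotient_pPrimeCore 2 G)
  obtain ⟨S⟩ : Nonempty (Sylow 2 X) := inferInstance
  by_contra hno
  push Not at hno
  set Q := Cfsg.pCore 2 X with hQ
  have hQle : ∀ T : Sylow 2 X, Q ≤ T := fun T => CfsgLib.Base.pCore_le_sylow T
  obtain ⟨T, hT⟩ : ∃ T : Sylow 2 X, S ≠ T := by
    by_contra h
    push Not at h
    haveI : Subsingleton (Sylow 2 X) := ⟨fun a b => (h a).symm.trans (h b)⟩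
    exact hno S S.normal_of_subsingleton
  haveI := hX S T hT
  haveI : IsCyclic Q := isCyclic_of_injective _ (Subgroup.inclusion_injective (le_inf (hQle S) (hQle T)))
  have hQp : IsPGroup 2 Q := CfsgLib.Base.isPGroup_pCore 2 X
  obtain ⟨n, hn⟩ := IsPGroup.iff_card.1 hQp
  have hAut : IsPGroup 2 (MulAut Q) := by
    obtain ⟨m, hm⟩ : ∃ m : ℕ, Nat.card (MulAut Q) = 2 ^ m := by
      rw [Nat.card_congr (IsCyclic.mulAutMulEquiv Q).toEquiv, hn]
      haveI : NeZero (2 ^ n) := ⟨by positivity⟩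
      rw [Nat.card_eq_fintype_card, ZMod.card_units_eq_totient]
      rcases Nat.eq_zero_or_pos n with rfl | hpos
      · exact ⟨0, by simp⟩
      · exact ⟨n - 1, by rw [Nat.totient_prime_pow Nat.prime_two hpos]; simp⟩
    exact IsPGroup.of_card hm
  have hker : (MulAut.conjNormal (H := Q)).ker ≤ Q := fun g hg => hQC (Subgroup.mem_centralizer_iff.2 fun u hu => by
    have h := congrArg (fun e : MulAut Q => ((e ⟨u, hu⟩ : Q) : X)) (MonoidHom.mem_ker.1 hg)
    simp only [MulAut.conjNormal_apply, MulAut.one_apply] at h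
    exact (mul_inv_eq_iff_eq_mul.1 h).symm)
  have hXp : IsPGroup 2 X := by
    intro g
    obtain ⟨k, hk⟩ := hAut (MulAut.conjNormal (H := Q) g)
    rw [← map_pow] at hk
    obtain ⟨l, hl⟩ := hQp ⟨_, hker (MonoidHom.mem_ker.2 hk)⟩
    exact ⟨k + l, by rw [pow_add, pow_mul]; exact congrArg Subtype.val hl⟩
  have hcase : ∀ U : Sylow 2 X, (U : Subgroup X) = ⊤ := fun U =>
    (U.is_maximal' (hXp.to_subgroup ⊤) le_top).symm
  exact hT (Sylow.ext ((hcase S).trans (hcase T).symm))

end Cfsg.Agent.S3303
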