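import Cfsg.Statements.S3304
import Cfsg.Agent.Lib.Small.Q8Extension
import Cfsg.Agent.Lib.Transfer.QuaternionComplement
import Cfsg.Agent.Lib.Base.MinimalNormal
import Cfsg.Agent.Lib.Base.Rank
-- import your own Cfsg.Agent.* helpers here

set_option autoImplicit false
open Cfsg

namespace Cfsg.Agent.S3304

open CfsgLib.Small

theorem le_zpowers_of_rank_one {P : Type*} [Group P] [Finite P] (hr : Cfsg.PRankLE 2 1 P) {z : P}
    (hz : orderOf z = 2) (hzc : ∀ y : P, y ^ 2 = 1 → Commute y z) :
    ∀ y : P, y ^ 2 = 1 → y ∈ Subgroup.zpowers z := by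
  intro y hy
  set A : Subgroup P := Subgroup.closure {y, z}
  have hcomm : ∀ a ∈ ({y, z} : Set P), ∀ b ∈ ({y, z} : Set P), a * b = b * a := by
    rintro a (rfl | rfl) b (rfl | rfl)
    · rfl
    · exact (hzc _ hy).eq
    · exact (hzc _ hy).symm.eq
    · rfl
  have hAc : IsMulCommutative A := Subgroup.isMulCommutative_closure hcomm
  have hA2 : ∀ a ∈ A, a ^ 2 = 1 := by
    intro a ha
    induction ha using Subgroup.closure_induction with
    | mem b hb =>
      rcases hb with rfl | rfl
      · exact hy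
      · rw [← hz]; exact pow_orderOf_eq_one _
    | one => exact one_pow _
    | mul b c hb hc h1 h2 =>
      have hbc : Commute b c := congrArg Subtype.val (hAc.is_comm.comm ⟨b, hb⟩ ⟨c, hc⟩)
      rw [hbc.mul_pow, h1, h2, one_mul]
    | inv b hb h1 => rw [inv_pow, h1, inv_one]
  have hle : Subgroup.zpowers z ≤ A :=
    Subgroup.zpowers_le.mpr (Subgroup.subset_closure (by simp))
  have heq : Subgroup.zpowers z = A := Subgroup.eq_of_le_of_card_ge hle (by
    rw [Nat.card_zpowers, hz]; simpa using hr A hAc hA2)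
  rw [heq]
  exact Subgroup.subset_closure (by simp)

theorem cyclic_or_quaternion {P : Type*} [Group P] [Finite P] (hP : IsPGroup 2 P)
    (hr : Cfsg.PRankLE 2 1 P) :
    IsCyclic P ∨ ∃ n : ℕ, 1 ≤ n ∧ Nonempty (P ≃* QuaternionGroup (2 ^ n)) := by
  by_cases hs : Subsingleton P
  · exact Or.inl inferInstance
  have : Nontrivial P := not_subsingleton_iff_nontrivial.mp hs
  have hc := hP.center_nontrivial
  obtain ⟨k, hk0, hk⟩ := (hP.to_subgroup (Subgroup.center P)).nontrivial_iff_card.mp hc
  obtain ⟨z, hz⟩ := exists_prime_orderOf_dvd_card' 2 (G := Subgroup.center P)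
    (by rw [hk]; exact dvd_pow_self 2 (by omega))
  have hz' : orderOf (z : P) = 2 := by rw [Subgroup.orderOf_coe]; exact hz
  rcases CfsgLib.PGroups.isCyclic_or_quaternion_of_unique hP
    (z := (z : P)) (by rw [← hz']; exact pow_orderOf_eq_one _)
    (le_zpowers_of_rank_one hr hz' fun y _ => Subgroup.mem_center_iff.mp z.2 y) with h | ⟨-, h⟩
  · exact Or.inl h
  · exact Or.inr h

theorem isPGroup_of_odd_centralize {X : Type*} [Group X] [Finite X] {Q : Subgroup X}
    (hQ : IsPGroup 2 Q) (hC : Subgroup.centralizer (Q : Set X) ≤ Q)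
    (h : ∀ g : X, Nat.Coprime (orderOf g) 2 → g ∈ Subgroup.centralizer (Q : Set X)) :
    IsPGroup 2 X := by
  intro g
  obtain ⟨k, m, hm, hgm⟩ := Nat.exists_eq_two_pow_mul_odd (orderOf_pos g).ne'
  refine ⟨k, ?_⟩
  have ho : orderOf (g ^ 2 ^ k) = m := by
    rw [orderOf_pow_of_dvd (by positivity) ⟨m, hgm⟩, hgm, Nat.mul_div_cancel_left _ (by positivity)]
  have hmem := hC (h _ (by rw [ho]; exact Nat.coprime_two_right.mpr hm))
  obtain ⟨j, hj⟩ := hQ ⟨_, hmem⟩
  have hd : m ∣ 2 ^ j := by
    rw [← ho]; exact orderOf_dvd_of_pow_eq_one (congrArg Subtype.val hj)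
  have : m = 1 :=
    Nat.eq_one_of_dvd_coprimes ((Nat.coprime_two_right.mpr hm).pow_right j) dvd_rfl hd
  rw [← orderOf_eq_one_iff, ho, this]

theorem exists_normal_sylow {X : Type*} [Group X] [Finite X] (h : IsPGroup 2 X) :
    ∃ P : Sylow 2 X, (P : Subgroup X).Normal := by
  obtain ⟨P⟩ : Nonempty (Sylow 2 X) := inferInstance
  exact ⟨P, by rw [← P.is_maximal' (h.to_subgroup ⊤) le_top]; infer_instance⟩

/-- Two Sylow 2-subgroups of the odd-core quotient force rank one on its 2-core. -/
theorem rank_pCore {G : Type*} [Group G] [Finite G]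
    (hI : ∀ S T : Sylow 2 G, S ≠ T → Cfsg.PRankLE 2 1 ↥((S : Subgroup G) ⊓ (T : Subgroup G)))
    (P₁ P₂ : Sylow 2 (G ⧸ Cfsg.oddCore G)) (hne : P₁ ≠ P₂) :
    Cfsg.PRankLE 2 1 (Cfsg.pCore 2 (G ⧸ Cfsg.oddCore G)) := by
  set π := QuotientGroup.mk' (Cfsg.oddCore G) with hπ
  have hsur : Function.Surjective π := QuotientGroup.mk'_surjective _
  set Q := Cfsg.pCore 2 (G ⧸ Cfsg.oddCore G) with hQdef
  set L := Q.comap π with hL
  have : L.Normal := inferInstanceAs (Q.comap π).Normal
  obtain ⟨Q0⟩ : Nonempty (Sylow 2 L) := inferInstance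
  set R : Subgroup G := (Q0 : Subgroup L).map L.subtype with hR
  have hRp : IsPGroup 2 R := Q0.2.map _
  -- the Sylow subgroup of the preimage maps isomorphically onto the core
  let f : L →* Q := π.subgroupComap Q
  have hf : Function.Surjective f := π.subgroupComap_surjective_of_surjective Q hsur
  have hQ0top : (Q0.mapSurjective hf : Subgroup Q) = ⊤ :=
    ((Q0.mapSurjective hf).is_maximal' ((CfsgLib.Base.isPGroup_pCore 2 _).to_subgroup ⊤) le_top).symm
  have hQR : Nat.card Q = Nat.card R ∧ R.map π = Q := by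
    have hmap : R.map π = Q := by
      have h1 : ((Q0 : Subgroup L).map f).map Q.subtype = R.map π := by
        rw [hR, Subgroup.map_map, Subgroup.map_map]; rfl
      rw [← h1, ← Sylow.coe_mapSurjective hf Q0, hQ0top, ← MonoidHom.range_eq_map,
        Subgroup.range_subtype]
    refine ⟨?_, hmap⟩
    rw [← hmap]
    refine (Nat.card_congr (MulEquiv.ofBijective (π.subgroupMap R)
      ⟨?_, π.subgroupMap_surjective R⟩).toEquiv).symm
    refine (injective_iff_map_eq_one _).mpr fun x hx => ?_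
    have hxK : (x : G) ∈ Cfsg.oddCore G :=
      (QuotientGroup.eq_one_iff _).mp (congrArg Subtype.val hx)
    obtain ⟨k, hk⟩ := hRp x
    have h1 : orderOf x ∣ 2 ^ k := orderOf_dvd_of_pow_eq_one hk
    have h2 : orderOf x ∣ Nat.card (Cfsg.oddCore G) := by
      rw [← Subgroup.orderOf_coe x]; exact Subgroup.orderOf_dvd_natCard _ hxK
    rw [← orderOf_eq_one_iff]
    exact Nat.eq_one_of_dvd_coprimes
      (((CfsgLib.Base.odd_card_oddCore G).coprime_two_right).pow_right k) h2 h1
  -- lift Sylow subgroups into the normaliser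
  set N := Subgroup.normalizer (R : Set G) with hN
  have hNtop : N ⊔ L = ⊤ := Sylow.normalizer_sup_eq_top Q0
  let g : N →* G ⧸ Cfsg.oddCore G := π.comp N.subtype
  have hg : Function.Surjective g := by
    rw [← MonoidHom.range_eq_top, MonoidHom.range_comp, Subgroup.range_subtype]
    have h2 : (N ⊔ L).map π = ⊤ := by rw [hNtop]; exact Subgroup.map_top_of_surjective π hsur
    rw [Subgroup.map_sup] at h2
    rw [← h2, left_eq_sup, Subgroup.map_comap_eq_self_of_surjective hsur, ← hQR.2]
    exact Subgroup.map_mono Subgroup.le_normalizer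
  have lift : ∀ P : Sylow 2 (G ⧸ Cfsg.oddCore G), ∃ S : Sylow 2 G,
      R ≤ S ∧ (P : Subgroup (G ⧸ Cfsg.oddCore G)) ≤ (S : Subgroup G).map π := by
    intro P
    obtain ⟨S0⟩ : Nonempty (Sylow 2 N) := inferInstance
    obtain ⟨x, hx⟩ := MulAction.exists_smul_eq (G ⧸ Cfsg.oddCore G) (S0.mapSurjective hg) P
    obtain ⟨n, hn⟩ := hg x
    obtain ⟨S, hS⟩ := ((n • S0).2.map N.subtype).exists_le_sylow
    refine ⟨S, ?_, ?_⟩
    · refine le_trans ?_ hS
      have hRN : (R.subgroupOf N).Normal := Subgroup.normal_in_normalizer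
      have hRNp : IsPGroup 2 (R.subgroupOf N) :=
        hRp.of_equiv (Subgroup.subgroupOfEquivOfLe Subgroup.le_normalizer).symm
      have := (CfsgLib.Base.le_pCore hRNp).trans (CfsgLib.Base.pCore_le_sylow (n • S0))
      intro r hr
      exact ⟨⟨r, Subgroup.le_normalizer hr⟩, this hr, rfl⟩
    · rintro y hy
      rw [← hx, ← hn] at hy
      obtain ⟨w, hw, rfl⟩ := hy
      obtain ⟨v, hv, rfl⟩ := hw
      exact ⟨((n * v * n⁻¹ : N) : G), hS ⟨n * v * n⁻¹,
        Subgroup.smul_mem_pointwise_smul v (MulAut.conj n) _ hv, rfl⟩, by simp [g]⟩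
  obtain ⟨S₁, hR1, hP1⟩ := lift P₁
  obtain ⟨S₂, hR2, hP2⟩ := lift P₂
  have hS : S₁ ≠ S₂ := by
    rintro rfl
    have hp : IsPGroup 2 ((S₁ : Subgroup G).map π) := S₁.2.map _
    exact hne (Sylow.ext ((P₁.is_maximal' hp hP1).symm.trans (P₂.is_maximal' hp hP2)))
  have hR : Cfsg.PRankLE 2 1 R :=
    CfsgLib.Base.pRankLE_of_injective (Subgroup.inclusion (le_inf hR1 hR2))
      (Subgroup.inclusion_injective _) (hI S₁ S₂ hS)
  refine CfsgLib.Base.pRankLE_of_injective
    ((MulEquiv.ofBijective (π.subgroupMap R) ?_).trans (MulEquiv.subgroupCongr hQR.2)).symm.toMonoidHom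
    (MulEquiv.injective _) hR
  refine (π.subgroupMap_surjective R).bijective_of_nat_card_le ?_
  rw [hQR.2, hQR.1]

/-- Let G be a finite solvable group in which the intersection of any two distinct Sylow 2-subgroups has 2-rank at most 1 (contains no Klein four-group). Write Q = G/O(G), O(G) the largest normal subgroup of odd order. Then Q has a normal Sylow 2-subgroup; or Q is isomorphic to GL(2,3); or Q has order 48, centre of order 2 with central quotient isomorphic to the symmetric group of degree 4, and generalized quaternion Sylow 2-subgroups of order 16 (the binary octahedral group). The last two are the two representation groups of the symmetric group of degree 4. -/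
theorem result {G : Type*} [Group G] [Finite G] (hs : Group.IsSolvable G)
    (hI : ∀ S T : Sylow 2 G, S ≠ T → Cfsg.PRankLE 2 1 ↥((S : Subgroup G) ⊓ (T : Subgroup G))) :
    (∃ P : Sylow 2 (G ⧸ Cfsg.oddCore G), (P : Subgroup (G ⧸ Cfsg.oddCore G)).Normal) ∨
    Nonempty ((G ⧸ Cfsg.oddCore G) ≃* GL (Fin 2) (ZMod 3)) ∨
    (Nat.card (G ⧸ Cfsg.oddCore G) = 48 ∧ Nat.card ↥(Subgroup.center (G ⧸ Cfsg.oddCore G)) = 2 ∧
      Nonempty ((G ⧸ Cfsg.oddCore G) ⧸ Subgroup.center (G ⧸ Cfsg.oddCore G) ≃* Equiv.Perm (Fin 4)) ∧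
      ∀ P : Sylow 2 (G ⧸ Cfsg.oddCore G), Nonempty (↥(P : Subgroup (G ⧸ Cfsg.oddCore G)) ≃* QuaternionGroup 4)) := by
  have : Group.IsSolvable G := hs
  set X := G ⧸ Cfsg.oddCore G
  have hXs : Group.IsSolvable X := inferInstance
  by_cases hnorm : ∃ P : Sylow 2 X, (P : Subgroup X).Normal
  · exact Or.inl hnorm
  refine Or.inr ?_
  obtain ⟨P⟩ : Nonempty (Sylow 2 X) := inferInstance
  obtain ⟨x, hx⟩ : ∃ x : X, x • P ≠ P := by
    by_contra hcon
    push Not at hcon
    refine hnorm ⟨P, Subgroup.normalizer_eq_top_iff.mp ?_⟩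
    rw [eq_top_iff]
    exact fun g _ => Sylow.smul_eq_iff_mem_normalizer.mp (hcon g)
  have hrank := rank_pCore hI _ _ hx
  set Q := Cfsg.pCore 2 X with hQdef
  have hQp : IsPGroup 2 Q := CfsgLib.Base.isPGroup_pCore 2 X
  have hO : Cfsg.pPrimeCore 2 X = ⊥ := CfsgLib.Base.pPrimeCore_quotient_pPrimeCore 2 G
  have hC : Subgroup.centralizer (Q : Set X) ≤ Q := CfsgLib.Base.centralizer_pCore_le_of_isSolvable hO
  have hQn : Q.Normal := inferInstanceAs (Cfsg.pCore 2 X).Normal
  have hmemN : ∀ g : X, g ∈ Subgroup.normalizer (Q : Set X) := fun g => by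
    rw [Subgroup.normalizer_eq_top]; trivial
  have hnp : ¬ IsPGroup 2 X := fun h => hnorm (exists_normal_sylow h)
  rcases cyclic_or_quaternion hQp hrank with hcyc | ⟨m, hm, ⟨e⟩⟩
  · exact absurd (isPGroup_of_odd_centralize hQp hC fun g hg =>
      CfsgLib.Transfer.mem_centralizer_of_isCyclic hQp hcyc (hmemN g) hg) hnp
  obtain hm2 | rfl := (show 2 ≤ m ∨ m = 1 by omega)
  · exact absurd (isPGroup_of_odd_centralize hQp hC fun g hg =>
      CfsgLib.Transfer.eq_one_of_quaternion hm2 e (hmemN g) hg) hnp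
  let e8 : Q ≃* QuaternionGroup 2 := e
  have hker := Q8Ext.card_act_ker (e := e8) hC
  have hQ8 : Nat.card Q = 8 := by
    rw [Nat.card_congr e8.toEquiv, Nat.card_eq_fintype_card, QuaternionGroup.card]
  have hX : Nat.card X = 48 := by
    have h1 := (Q8Ext.act e8).ker.card_mul_index
    rw [hker, Subgroup.index_ker] at h1
    have h2 : Nat.card (Q8Ext.act e8).range ∣ 24 := by
      have := (Q8Ext.act e8).range.card_subgroup_dvd_card
      rwa [Nat.card_perm, Nat.card_fin] at this
    have h8 : 8 ∣ Nat.card X := hQ8 ▸ Q.card_subgroup_dvd_card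
    have hle := Nat.le_of_dvd (by norm_num) h2
    generalize Nat.card (Q8Ext.act e8).range = r at h1 h2 hle
    rw [← h1] at h8
    have hcases : r = 4 ∨ r = 8 ∨ r = 12 ∨ r = 24 := by
      interval_cases r <;> omega
    rcases hcases with rfl | rfl | rfl | rfl
    · exact absurd (IsPGroup.of_card (n := 3) (by rw [← h1]; norm_num)) hnp
    · exact absurd (IsPGroup.of_card (n := 4) (by rw [← h1]; norm_num)) hnp
    · exfalso
      have hPc : Nat.card (P : Subgroup X) = 8 := by
        rw [P.card_eq_multiplicity, ← h1, show (2 * 12 : ℕ) = 2 ^ 3 * 3 from rfl,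
          Nat.factorization_mul (by norm_num) (by norm_num), Nat.Prime.factorization_pow Nat.prime_two]
        simp [Nat.prime_three.factorization]
      have : (P : Subgroup X) = Q :=
        (Subgroup.eq_of_le_of_card_ge (CfsgLib.Base.pCore_le_sylow P) (by rw [hQ8, hPc])).symm
      exact hnorm ⟨P, this ▸ hQn⟩
    · omega
  by_cases hinv : ∃ t : X, t ^ 2 = 1 ∧ t ∉ Q
  · obtain ⟨t, ht, htQ⟩ := hinv
    obtain ⟨e1⟩ := Q8Ext.nonempty_iso e8 hC hX ht htQ
    obtain ⟨e2⟩ := Q8Ext.GLThree.iso_model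
    exact Or.inl ⟨e1.trans e2.symm⟩
  push Not at hinv
  refine Or.inr ⟨hX, ?_, ?_, ?_⟩
  · rw [Q8Ext.center_eq_ker (e := e8) hC hX]; exact hker
  · exact ⟨(QuotientGroup.quotientMulEquivOfEq (Q8Ext.center_eq_ker (e := e8) hC hX)).trans
      (QuotientGroup.quotientKerEquivOfSurjective _ (Q8Ext.act_surjective hC hX))⟩
  · intro S
    have hQS : Q ≤ (S : Subgroup X) := CfsgLib.Base.pCore_le_sylow S
    have hSc : Nat.card (S : Subgroup X) = 16 := by
      rw [S.card_eq_multiplicity, hX, show (48 : ℕ) = 2 ^ 4 * 3 from rfl,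
        Nat.factorization_mul (by norm_num) (by norm_num), Nat.Prime.factorization_pow Nat.prime_two]
      simp [Nat.prime_three.factorization]
    have hSr : Cfsg.PRankLE 2 1 (S : Subgroup X) := by
      intro A hA hA2
      have hle : A.map (S : Subgroup X).subtype ≤ Q := by
        rintro _ ⟨a, ha, rfl⟩
        exact hinv _ (congrArg Subtype.val (hA2 a ha))
      have hB := hrank ((A.map (S : Subgroup X).subtype).subgroupOf Q) ?_ ?_
      · rwa [Nat.card_congr (Subgroup.subgroupOfEquivOfLe hle).toEquiv,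
          Subgroup.card_map_of_injective (Subgroup.subtype_injective _)] at hB
      · refine ⟨⟨fun a b => ?_⟩⟩
        obtain ⟨a', ha', ha⟩ := a.2
        obtain ⟨b', hb', hb⟩ := b.2
        apply Subtype.ext; apply Subtype.ext
        show ((a : Q) : X) * (b : Q) = (b : Q) * (a : Q)
        have h := congrArg (fun z : A => ((z : (S : Subgroup X)) : X))
          (hA.is_comm.comm ⟨a', ha'⟩ ⟨b', hb'⟩)
        have ha' : ((a' : (S : Subgroup X)) : X) = ((a : Q) : X) := ha
        have hb' : ((b' : (S : Subgroup X)) : X) = ((b : Q) : X) := hb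
        rw [← ha', ← hb']
        exact h
      · rintro a ⟨a', ha', ha⟩
        apply Subtype.ext
        show (a : X) ^ 2 = 1
        have ha2 : ((a' : (S : Subgroup X)) : X) = (a : X) := ha
        rw [← ha2]
        exact congrArg Subtype.val (hA2 a' ha')
    rcases cyclic_or_quaternion S.2 hSr with hcy | ⟨n, -, ⟨en⟩⟩
    · exfalso
      have hcomm : IsMulCommutative (S : Subgroup X) := inferInstance
      have h := congrArg Subtype.val (hcomm.is_comm.comm ⟨_, hQS (e8.symm (QuaternionGroup.a 1)).2⟩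
        ⟨_, hQS (e8.symm (QuaternionGroup.xa 0)).2⟩)
      have h' : e8.symm (QuaternionGroup.a 1 * QuaternionGroup.xa 0) =
          e8.symm (QuaternionGroup.xa 0 * QuaternionGroup.a 1) := by
        rw [map_mul, map_mul]; exact Subtype.ext h
      revert h'
      rw [e8.symm.injective.eq_iff]
      decide
    · have hcc := Nat.card_congr en.toEquiv
      rw [hSc, Nat.card_eq_fintype_card (α := QuaternionGroup (2 ^ n)), QuaternionGroup.card] at hcc
      have : n = 2 := Nat.pow_right_injective le_rfl (show 2 ^ n = 2 ^ 2 by omega)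
      subst this
      exact ⟨en⟩

end Cfsg.Agent.S3304
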