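import Cfsg.Statements.S3309
import Cfsg.Agent.Lib.LocalEven.TransferCentral
import Cfsg.Agent.Lib.Transfer.NormalPComplement

set_option autoImplicit false
open Cfsg

namespace Cfsg.Agent.S3309

/-- A finite group whose Sylow 2-subgroups are isomorphic to the direct product of a group of order 2 and the dihedral group of order 8 is not a non-abelian simple group. -/
theorem result {G : Type*} [Group G] [Finite G] (S : Sylow 2 G) (hS : Nonempty (↥(S : Subgroup G) ≃* Multiplicative (ZMod 2) × DihedralGroup 4))
    [IsSimpleGroup G] (hG : ¬ IsMulCommutative G) : False := by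
  classical

  obtain ⟨e⟩ := hS
  rcases CfsgLib.LocalEven.TransferCentral.main S with h | h | ⟨g, hg, x, hx, hne⟩
  · haveI : (Cfsg.pResidual 2 G).Normal := CfsgLib.Transfer.pResidual_normal
    rcases Subgroup.Normal.eq_bot_or_eq_top (H := Cfsg.pResidual 2 G) inferInstance with hb | ht
    · refine hG ?_
      have h2 : IsPGroup 2 G := by
        intro y
        obtain ⟨k, m, hm, hkm⟩ := Nat.exists_eq_two_pow_mul_odd (orderOf_pos y).ne'
        refine ⟨k, ?_⟩
        have h1 : y ^ 2 ^ k ∈ Cfsg.pResidual 2 G := Subgroup.subset_closure (by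
          show Nat.Coprime (orderOf (y ^ 2 ^ k)) 2
          rw [orderOf_pow, hkm, Nat.gcd_mul_right_left, Nat.mul_div_cancel_left _ (by positivity)]
          exact Nat.coprime_two_right.2 hm)
        rwa [hb, Subgroup.mem_bot] at h1
      have : Nontrivial G := IsSimpleGroup.toNontrivial
      have hc := h2.center_nontrivial
      rcases Subgroup.Normal.eq_bot_or_eq_top (H := Subgroup.center G) inferInstance with hcb | hct
      · exact absurd hcb (Subgroup.nontrivial_iff_ne_bot _ |>.1 hc)
      · exact ⟨⟨fun a b => (Subgroup.mem_center_iff.1 (hct ▸ Subgroup.mem_top b) a)⟩⟩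
    · exact h ht
  · let w : ↥(S : Subgroup G) := e.symm (Multiplicative.ofAdd 1, 1)
    have hw : (w : G) ∈ Cfsg.omegaOne 2 ((S : Subgroup G) ⊓ Subgroup.centralizer ((S : Subgroup G) : Set G)) := by
      refine Subgroup.subset_closure ⟨⟨w.2, Subgroup.mem_centralizer_iff.2 fun y hy => ?_⟩, ?_⟩
      · refine congrArg Subtype.val (?_ : (⟨y, hy⟩ : ↥(S : Subgroup G)) * w = w * ⟨y, hy⟩)
        refine e.injective ?_
        rw [map_mul, map_mul, show e w = (Multiplicative.ofAdd 1, 1) from e.apply_symm_apply _]
        exact Prod.ext (mul_comm _ _) (by simp)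
      · have : w ^ 2 = 1 := by
          refine e.injective ?_
          rw [map_pow, map_one, show e w = (Multiplicative.ofAdd 1, 1) from e.apply_symm_apply _]
          decide
        exact congrArg Subtype.val this
    obtain ⟨y, hy, hyw⟩ := h hw
    have : y = w := Subtype.ext hyw
    subst this
    let φ : ↥(S : Subgroup G) →* Multiplicative (ZMod 2) := (MonoidHom.fst _ _).comp e.toMonoidHom
    have hco : IsCoatom φ.ker := by
      have hsurj : Function.Surjective φ := fun a => ⟨e.symm (a, 1), by simp [φ]⟩
      have hidx : φ.ker.index = 2 := by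
        rw [Subgroup.index_ker, MonoidHom.range_eq_top.2 hsurj, Subgroup.card_top]
        simp
      exact ⟨fun ht => by rw [ht, Subgroup.index_top] at hidx; omega, fun K hK => by
        by_contra hne
        have h1 := Subgroup.index_eq_one.not.2 hne
        have h2 := Subgroup.index_dvd_of_le hK.le
        rw [hidx] at h2
        rcases (Nat.dvd_prime Nat.prime_two).1 h2 with h3 | h3
        · exact h1 h3
        · exact hK.ne (Subgroup.eq_of_le_of_card_ge hK.le (by
            have e1 := φ.ker.card_mul_index
            have e2 := K.card_mul_index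
            rw [hidx] at e1; rw [h3] at e2
            omega))⟩
    have := frattini_le_coatom hco hy
    rw [MonoidHom.mem_ker] at this
    simp [φ, w] at this
  · have hstr : ∀ y : G, y ∈ Cfsg.omegaOne 2 ((S : Subgroup G) ⊓ Subgroup.centralizer ((S : Subgroup G) : Set G)) →
        ∃ hy : y ∈ (S : Subgroup G), ∀ b, e ⟨y, hy⟩ * b = b * e ⟨y, hy⟩ := by
      intro y hy
      obtain ⟨hyS, hyc⟩ := (Subgroup.closure_le _).2 (fun z hz => hz.1) hy
      refine ⟨hyS, fun b => ?_⟩
      obtain ⟨b, rfl⟩ := e.surjective b
      rw [← map_mul, ← map_mul]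
      exact congrArg e (Subtype.ext (Subgroup.mem_centralizer_iff.1 hyc (b : G) b.2).symm)
    let N := Subgroup.normalizer ((S : Subgroup G) : Set G)
    -- conjugation by a normalising element, read in the product
    let c : N → (↥(S : Subgroup G) ≃* ↥(S : Subgroup G)) := fun n =>
      { toFun := fun s => ⟨(n : G) * s * (n : G)⁻¹, (Subgroup.mem_normalizer_iff.1 n.2 _).1 s.2⟩
        invFun := fun s => ⟨(n : G)⁻¹ * s * (n : G), by
          have := (Subgroup.mem_normalizer_iff.1 (N.inv_mem n.2) _).1 s.2
          rwa [inv_inv] at this⟩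
        left_inv := fun s => Subtype.ext (by group)
        right_inv := fun s => Subtype.ext (by group)
        map_mul' := fun s t => Subtype.ext (by push_cast; group) }
    let z : Multiplicative (ZMod 2) × DihedralGroup 4 := (1, DihedralGroup.r 2)
    have hcen : ∀ a : Multiplicative (ZMod 2) × DihedralGroup 4, (∀ b, a * b = b * a) →
        a = 1 ∨ a = z ∨ a = (Multiplicative.ofAdd 1, 1) ∨ a = (Multiplicative.ofAdd 1, DihedralGroup.r 2) := by decide
    have hsq : ∀ a : Multiplicative (ZMod 2) × DihedralGroup 4, a * a = 1 ∨ a * a = z := by decide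
    obtain ⟨hxS, hxc⟩ := hstr x hx
    have hfix : ∀ n : N, e (c n (e.symm z)) = z := by
      intro n
      have hz2 : z = (1, DihedralGroup.r 1) * (1, DihedralGroup.r 1) := by decide
      rw [hz2, map_mul, map_mul, map_mul]
      rcases hsq (e (c n (e.symm (1, DihedralGroup.r 1)))) with h | h
      · exfalso
        rw [← map_mul, ← map_mul, ← map_mul, ← hz2, EmbeddingLike.map_eq_one_iff,
          EmbeddingLike.map_eq_one_iff, EmbeddingLike.map_eq_one_iff] at h
        exact absurd h (by decide)
      · exact h.trans hz2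
    have hcenc : ∀ (n : N) (a : ↥(S : Subgroup G)), (∀ b, e a * b = b * e a) → ∀ b, e (c n a) * b = b * e (c n a) := by
      intro n a ha b
      obtain ⟨b, rfl⟩ := e.surjective b
      obtain ⟨b, rfl⟩ := (c n).surjective b
      rw [← map_mul, ← map_mul, ← map_mul, ← map_mul]
      have := ha (e b)
      rw [← map_mul, ← map_mul] at this
      rw [e.injective this]
    have hsqfix : ∀ (n : N) (a : ↥(S : Subgroup G)), (∀ b, e a * b = b * e a) → c n (c n a) = a := by
      intro n a ha
      let f : Multiplicative (ZMod 2) × DihedralGroup 4 ≃* Multiplicative (ZMod 2) × DihedralGroup 4 :=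
        (e.symm.trans (c n)).trans e
      have hf : ∀ u, f (e u) = e (c n u) := fun u => by simp [f]
      have hfz : f z = z := hfix n
      let W : Multiplicative (ZMod 2) × DihedralGroup 4 := (Multiplicative.ofAdd 1, 1)
      have hWc : ∀ b, W * b = b * W := by decide
      have hfW : f W = W ∨ f W = W * z := by
        rcases hcen (f W) (fun b => by
          obtain ⟨b, rfl⟩ := f.surjective b
          rw [← map_mul, ← map_mul, hWc]) with e1 | e1 | e1 | e1
        · exact absurd (f.injective (e1.trans (map_one f).symm)) (by decide)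
        · exact absurd (f.injective (e1.trans hfz.symm)) (by decide)
        · exact Or.inl e1
        · exact Or.inr (e1.trans (by decide))
      have hWW : f (f W) = W := by
        rcases hfW with h0 | h0
        · rw [h0, h0]
        · rw [h0, map_mul, h0, hfz, mul_assoc, show z * z = 1 from by decide, mul_one]
      refine e.injective ?_
      rw [← hf, ← hf]
      rcases hcen _ ha with e0 | e0 | e0 | e0 <;> rw [e0]
      · rw [map_one, map_one]
      · rw [hfz, hfz]
      · exact hWW
      · rw [show ((Multiplicative.ofAdd 1, DihedralGroup.r 2) : Multiplicative (ZMod 2) × DihedralGroup 4) = W * z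
          from by decide, map_mul, map_mul, hWW, hfz, hfz]
    -- the index of `S` in its normaliser is odd
    let P : Sylow 2 N := S.subtype Subgroup.le_normalizer
    haveI : (P : Subgroup N).Normal := Subgroup.normal_in_normalizer
    have hodd : Odd (P : Subgroup N).index := by
      rw [← Nat.not_even_iff_odd, even_iff_two_dvd]
      exact P.not_dvd_index
    have hmem : ∀ n : N, n ∈ (P : Subgroup N) → (n : G) * x * (n : G)⁻¹ = x := by
      intro n hn
      have hnS : (n : G) ∈ (S : Subgroup G) := hn
      obtain ⟨-, hxcz⟩ := (Subgroup.closure_le _).2 (fun z hz => hz.1) hx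
      rw [Subgroup.mem_centralizer_iff.1 hxcz (n : G) hnS, mul_inv_cancel_right]
    obtain ⟨m, hm⟩ := hodd
    have hg2 := hsqfix ⟨g, hg⟩ ⟨x, hxS⟩ hxc
    have hg2' : g * (g * x * g⁻¹) * g⁻¹ = x := congrArg Subtype.val hg2
    have hp : ∀ i : ℕ, g ^ (2 * i) * x * (g ^ (2 * i))⁻¹ = x := by
      intro i
      induction i with
      | zero => simp
      | succ i ih =>
        calc g ^ (2 * (i + 1)) * x * (g ^ (2 * (i + 1)))⁻¹
            = g * (g * (g ^ (2 * i) * x * (g ^ (2 * i))⁻¹) * g⁻¹) * g⁻¹ := by group
          _ = x := by rw [ih, hg2']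
    have h1 := hmem _ (Subgroup.pow_index_mem (P : Subgroup N) ⟨g, hg⟩)
    rw [hm] at h1
    push_cast at h1
    refine hne ?_
    calc g * x * g⁻¹ = g * (g ^ (2 * m) * x * (g ^ (2 * m))⁻¹) * g⁻¹ := by rw [hp m]
      _ = x := by
        rw [show g * (g ^ (2 * m) * x * (g ^ (2 * m))⁻¹) * g⁻¹ =
          g ^ (2 * m + 1) * x * (g ^ (2 * m + 1))⁻¹ by group]
        exact h1

end Cfsg.Agent.S3309
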