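import Cfsg.Agent.Lib.CosetCore.Main
import Cfsg.Statements.S3312
-- import your own Cfsg.Agent.* helpers here

set_option autoImplicit false
open Cfsg

namespace Cfsg.Agent.S3312

open Cfsg Subgroup CfsgLib.Base CfsgLib.CosetCore CfsgLib.Involutions in
private theorem exists_conj_fix {G : Type*} [Group G] [Finite G] {T : Sylow 2 G} {W C : Subgroup G}
    (hW : W ≤ (T : Subgroup G)) (hwc : ∀ g : G, cj g W ≤ (T : Subgroup G) → cj g W = W)
    (hWC : W ≤ C) {g : G} (hg : cj g W ≤ C) : ∃ c ∈ C, cj (c * g) W = W := by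
  haveI : Fact (Nat.Prime 2) := ⟨Nat.prime_two⟩
  have hp : IsPGroup 2 W := T.isPGroup'.to_le hW
  obtain ⟨P, hP⟩ := (hp.comap_of_injective C.subtype C.subtype_injective).exists_le_sylow
  obtain ⟨P', hP'⟩ := ((hp.map (MulAut.conj g).toMonoidHom).comap_of_injective C.subtype
    C.subtype_injective).exists_le_sylow
  obtain ⟨c, rfl⟩ := MulAction.exists_smul_eq C P' P
  refine ⟨c, c.2, ?_⟩
  have hQ : IsPGroup 2 (((c • P' : Sylow 2 C) : Subgroup C).map C.subtype) :=
    (c • P').isPGroup'.map _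
  obtain ⟨Q, hQ'⟩ := hQ.exists_le_sylow
  obtain ⟨z, rfl⟩ := MulAction.exists_smul_eq G T Q
  have hz : ((c • P' : Sylow 2 C) : Subgroup C).map C.subtype ≤ cj z (T : Subgroup G) := by
    intro x hx
    have h0 : z⁻¹ * x * z ∈ T := mem_smul_sylow_iff'.1 (hQ' hx)
    exact mem_cj.2 h0
  have h1 : W ≤ cj z (T : Subgroup G) := fun x hx =>
    hz ⟨⟨x, hWC hx⟩, hP (show (⟨x, hWC hx⟩ : C) ∈ W.comap C.subtype from hx), rfl⟩
  have h2 : cj ((c : G) * g) W ≤ cj z (T : Subgroup G) := by
    intro x hx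
    rw [cj_mul] at hx
    obtain ⟨y, hy, rfl⟩ := hx
    refine hz ⟨c * ⟨y, hg hy⟩ * c⁻¹, ?_, rfl⟩
    refine mem_smul_sylow_iff'.2 ?_
    have : (⟨y, hg hy⟩ : C) ∈ P' := hP' hy
    simpa [mul_assoc] using this
  have h3 := cj_le h2
  rw [← cj_mul] at h3
  have e1 := hwc _ (cj_le h1)
  calc cj ((c : G) * g) W = cj z (cj (z⁻¹ * ((c : G) * g)) W) := by
        rw [← cj_mul, mul_inv_cancel_left]
    _ = cj z (cj z⁻¹ W) := by rw [hwc _ h3, e1]
    _ = W := by rw [← cj_mul, mul_inv_cancel, cj_one]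

open Cfsg Subgroup CfsgLib.Base CfsgLib.CosetCore CfsgLib.Involutions in
/-- A non-simplicity criterion by weak closure. Let T be a Sylow 2-subgroup of a finite group G, W a nontrivial subgroup of the centre of T that is weakly closed in T with respect to G, and t an involution of T outside W. Suppose that for every involution x in the coset Wt, W lies in O_{2',2}(C_G(x)), the preimage of O₂ of C_G(x)/O_{2'}(C_G(x)). Then G is not simple. -/
theorem result {G : Type*} [Group G] [Finite G]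
    (T : Sylow 2 G) (W : Subgroup G) (hW1 : W ≠ ⊥) (hWZ : W ≤ (T : Subgroup G) ⊓ Subgroup.centralizer ((T : Subgroup G) : Set G))
    (hwc : Cfsg.IsWeaklyClosed W (T : Subgroup G)) (t : G) (ht : orderOf t = 2) (htT : t ∈ (T : Subgroup G)) (htW : t ∉ W)
    (hcos : ∀ w ∈ W, orderOf (w * t) = 2 →
      W.subgroupOf (Subgroup.centralizer ({w * t} : Set G)) ≤ Cfsg.pPrimePCore 2 ↥(Subgroup.centralizer ({w * t} : Set G))) :
    ¬ IsSimpleGroup G := by
  haveI : Fact (Nat.Prime 2) := ⟨Nat.prime_two⟩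
  intro hs
  have hWT : W ≤ (T : Subgroup G) := hWZ.trans inf_le_left
  have hWc : ∀ w ∈ W, ∀ x ∈ (T : Subgroup G), x * w = w * x := fun w hw x hx =>
    mem_centralizer_iff.1 (hWZ.trans inf_le_right hw) x hx
  let E : Subgroup G :=
    { carrier := {w | w ∈ W ∧ w * w = 1}
      one_mem' := ⟨one_mem W, one_mul 1⟩
      mul_mem' := by
        rintro a b ⟨ha, ha2⟩ ⟨hb, hb2⟩
        refine ⟨mul_mem ha hb, ?_⟩
        rw [show a * b * (a * b) = a * (b * a) * b by group, hWc a ha b (hWT hb),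
          show a * (a * b) * b = a * a * (b * b) by group, ha2, hb2, one_mul]
      inv_mem' := by
        rintro a ⟨ha, ha2⟩
        exact ⟨inv_mem ha, by rw [← mul_inv_rev, ha2, inv_one]⟩ }
  have hEW : E ≤ W := fun x hx => hx.1
  have hne : E ≠ ⊥ := by
    intro hE
    obtain ⟨k, hk⟩ := IsPGroup.iff_card.1 (T.isPGroup'.to_le hWT)
    have hd : 2 ∣ Nat.card W := by
      rw [hk]
      refine dvd_pow_self 2 fun h0 => hW1 (eq_bot_of_card_eq W ?_)
      rw [hk, h0, pow_zero]
    obtain ⟨w, hw⟩ := exists_prime_orderOf_dvd_card' 2 hd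
    have h2 : orderOf (w : G) = 2 := by rwa [Subgroup.orderOf_coe]
    have : (w : G) ∈ E := ⟨w.2, invol_mul_self h2⟩
    rw [hE] at this
    exact invol_ne_one h2 (Subgroup.mem_bot.1 this)
  have hH : Hyp T E t := by
    refine ⟨⟨⟨⟨fun a b => Subtype.ext ((hWc b b.2.1 a (hWT a.2.1)))⟩⟩, fun a ha => ?_⟩,
      hEW.trans hWT, fun x hx => mem_centralizer_iff.2 fun e he => (hWc e he.1 x hx).symm,
      fun g hg => ?_, ht, htT, fun h => htW (hEW h), fun w hw => ?_⟩
    · rw [pow_two]; exact ha.2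
    · set C := centralizer ((cj g E : Subgroup G) : Set G)
      have hWC : W ≤ C := fun w hw => mem_centralizer_iff.2 fun y hy => hWc w hw y (hg hy)
      have hgC : cj g W ≤ C := by
        rintro _ ⟨w, hw, rfl⟩
        refine mem_centralizer_iff.2 ?_
        rintro _ ⟨e, he, rfl⟩
        rw [← map_mul, ← map_mul, hWc w hw e (hWT (hEW he))]
      obtain ⟨c, hc, hcg⟩ := exists_conj_fix hWT hwc.2 hWC hgC
      have hfix : cj c (cj g E) = cj g E := cj_of_mem_normalizer (centralizer_le_normalizer _ hc)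
      rw [← hfix, ← cj_mul]
      refine cj_of_mem_normalizer (mem_normalizer_of_cj ?_)
      rintro _ ⟨e, he, rfl⟩
      refine ⟨?_, by rw [← map_mul, he.2, map_one]⟩
      have h1 := mem_map_of_mem (MulAut.conj (c * g)).toMonoidHom he.1
      have h2 : cj (c * g) W = W := hcg
      rw [cj] at h2
      rw [h2] at h1
      exact h1
    · have hord : orderOf (w * t) = 2 := by
        refine invol_iff.2 ⟨?_, fun h1 => htW ?_⟩
        · rw [show w * t * (w * t) = w * (t * w) * t by group, hWc w hw.1 t htT,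
            show w * (w * t) * t = w * w * (t * t) by group, hw.2, invol_mul_self ht, one_mul]
        · rw [eq_inv_of_mul_eq_one_right h1]
          exact inv_mem hw.1
      intro e he
      have heC : e ∈ centralizer ({w * t} : Set G) := mem_centralizer_singleton_iff.2
        (hWc e he.1 (w * t) (mul_mem (hWT hw.1) htT)).symm
      exact ⟨⟨e, heC⟩, hcos w hw.1 hord he.1, rfl⟩
  have hmain := le_pPrimePCore hH
  rcases (CfsgLib.PLocal.pPrimePCore_normal 2 G).eq_bot_or_eq_top with h1 | h1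
  · exact hne (le_bot_iff.1 (h1 ▸ hmain))
  rcases (inferInstance : (pPrimeCore 2 G).Normal).eq_bot_or_eq_top with h2 | h2
  · rw [CfsgLib.PLocal.pPrimePCore_eq_pCore h2] at h1
    have hG : IsPGroup 2 G := IsPGroup.of_equiv ((h1 ▸ isPGroup_pCore 2 G :
      IsPGroup 2 (⊤ : Subgroup G))) Subgroup.topEquiv
    haveI := hs.toNontrivial
    haveI := hG.center_nontrivial
    have hc : center G = ⊤ := ((inferInstance : (center G).Normal).eq_bot_or_eq_top).resolve_left
      (Subgroup.nontrivial_iff_ne_bot _ |>.1 inferInstance)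
    haveI : W.Normal := ⟨fun x hx g => by
      rwa [mem_center_iff.1 (show x ∈ center G by rw [hc]; trivial) g, mul_inv_cancel_right]⟩
    exact htW (((‹W.Normal›).eq_bot_or_eq_top.resolve_left hW1).symm ▸ mem_top t)
  · have h3 := Subgroup.orderOf_dvd_natCard (pPrimeCore 2 G) (h2.symm ▸ mem_top t)
    rw [ht] at h3
    exact Nat.prime_two.coprime_iff_not_dvd.1 (pPrimeCore_coprime 2 G).symm h3

end Cfsg.Agent.S3312
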