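import Cfsg.Statements.S3315
import Cfsg.Agent.Lib.Small.SUThreeAut

set_option autoImplicit false
open Cfsg

namespace Cfsg.Agent.S3315

/-- Let S be a Sylow 2-subgroup of SU₃(2ⁿ), n ≥ 2 (realised over the field with 4ⁿ elements). If a finite 2-group R contains a subgroup S' of index 2 isomorphic to S, then the centre of S' is contained in the centre of R. -/
theorem result {R : Type*} [Group R] [Finite R]
    (hR : IsPGroup 2 R) (n : ℕ) (hn : 2 ≤ n) {F : Type*} [Field F] [Fintype F] (hF : Fintype.card F = 4 ^ n)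
    (P : Sylow 2 ↥(Cfsg.SU 3 F (2 ^ n))) (S' : Subgroup R) (hS : Nonempty (↥S' ≃* ↥(P : Subgroup ↥(Cfsg.SU 3 F (2 ^ n)))))
    (hidx : S'.index = 2) :
    (Subgroup.center ↥S').map S'.subtype ≤ Subgroup.center R := by
  have hcard : Nat.card F = (2 ^ n) ^ 2 := by
    rw [Nat.card_eq_fintype_card, hF, ← pow_mul, mul_comm, pow_mul]; norm_num
  have hn0 : n ≠ 0 := by omega
  have h2 := CfsgLib.Small.SUThree.two_eq_zero hn0 hcard
  obtain ⟨σ, h, ⟨d⟩⟩ := CfsgLib.Small.SUThree.exists_param hn0 hcard P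
  obtain ⟨e⟩ := hS
  haveI := Subgroup.normal_of_index_eq_two hidx
  rintro _ ⟨z, hz, rfl⟩
  rw [Subgroup.mem_center_iff]
  intro r
  have hze : e z ∈ Subgroup.center _ := by
    rw [Subgroup.mem_center_iff]
    intro g
    obtain ⟨g, rfl⟩ := e.surjective g
    rw [← map_mul, ← map_mul, Subgroup.mem_center_iff.1 hz g]
  let α : MulAut ↥(P : Subgroup ↥(Cfsg.SU 3 F (2 ^ n))) :=
    (e.symm.trans (MulAut.conjNormal r)).trans e
  have hr2 : r * r ∈ S' := Subgroup.mul_self_mem_of_index_two hidx r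
  have hinv : ∀ t, CfsgLib.Small.SUThree.fstC d (α (α t)) = CfsgLib.Small.SUThree.fstC d t := by
    intro t
    have : α (α t) = e ⟨r * r, hr2⟩ * t * (e ⟨r * r, hr2⟩)⁻¹ := by
      show e (MulAut.conjNormal r (e.symm (e (MulAut.conjNormal r (e.symm t))))) = _
      rw [e.symm_apply_apply, ← MulAut.mul_apply, ← map_mul]
      conv_rhs => rw [← e.apply_symm_apply t, ← map_inv, ← map_mul, ← map_mul]
      congr 1
    rw [this, CfsgLib.Small.SUThree.fst_mul, CfsgLib.Small.SUThree.fst_mul,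
      CfsgLib.Small.SUThree.fst_inv d h2]
    linear_combination CfsgLib.Small.SUThree.fstC d (e ⟨r * r, hr2⟩) * h2
  have hfix := CfsgLib.Small.SUThree.fix_center d h2 h hcard α hinv hze
  have hz' : MulAut.conjNormal r z = z := by
    apply e.injective
    simpa [α] using hfix
  have h' := congrArg Subtype.val hz'
  rw [MulAut.conjNormal_apply, mul_inv_eq_iff_eq_mul] at h'
  exact h'

end Cfsg.Agent.S3315
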