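import Cfsg.Statements.S3334
import Cfsg.Agent.Lib.McLDouble.Main
import Cfsg.Agent.Lib.McLDouble.CentW
import Cfsg.Agent.Lib.McLDouble.CentZ
import Cfsg.Agent.Lib.McLThree.CoverWords
import Cfsg.Agent.Lib.McLThree.Glue
import Cfsg.Agent.Lib.McLThree.Bound
import Cfsg.Agent.Lib.McLThree.Model
import Cfsg.Agent.Lib.McLThree.Census

set_option autoImplicit false
open Cfsg

namespace Cfsg.Agent.S3334

/-- Let G be a finite group with an involution t whose centralizer is a non-split double cover of the alternating group of degree 8. Then either G = C_G(t) O_{2'}(G), or G is isomorphic to the McLaughlin group. -/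
theorem result {G : Type*} [Group G] [Finite G]
    (t : G) (ht : orderOf t = 2)
    (hcov : Cfsg.IsNonsplitDoubleCover (Subgroup.centralizer ({t} : Set G)) (alternatingGroup (Fin 8))) :
    Subgroup.centralizer ({t} : Set G) ⊔ Cfsg.oddCore G = ⊤ ∨ Nonempty (G ≃* Cfsg.Spor.McL) := by
  exact CfsgLib.McLDouble.recognise
    ⟨CfsgLib.McLThree.coverWords, CfsgLib.McLThree.glue, CfsgLib.McLThree.bound,
      CfsgLib.McLThree.bound, CfsgLib.McLThree.model, CfsgLib.McLThree.census⟩
    CfsgLib.McLDouble.cardY CfsgLib.McLDouble.xData t ht hcov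

end Cfsg.Agent.S3334
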