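import Cfsg.Statements.S3339
import Cfsg.Agent.Lib.ANineThree.Setup
import Cfsg.Agent.Lib.ANineThree.Local
import Cfsg.Agent.Lib.ANineThree.CentZ
import Cfsg.Agent.Lib.ANineThree.CaseB
import Cfsg.Agent.Lib.ANineThree.CaseC
import Cfsg.Agent.Lib.ANineThree.CaseCModel
import Cfsg.Agent.Lib.ANineThree.Glue
import Cfsg.Agent.Lib.ANineThree.Trichotomy
import Cfsg.Agent.Lib.ANineThree.NoSeven
import Cfsg.Agent.Lib.ANineThree.NoSmall
import Cfsg.Agent.Lib.ANineThree.Build
import Cfsg.Agent.Lib.ANineThree.Recognise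

set_option autoImplicit false
open Cfsg

namespace Cfsg.Agent.S3339

/-- A 3-local characterization of the alternating group of degree 9. Let G be a finite group and J ≤ G an elementary abelian subgroup of order 27 whose normalizer H = N_G(J) is isomorphic to the normalizer, in the alternating group of degree 9, of the subgroup generated by three disjoint 3-cycles. If O_{3'}(C_G(x)) = 1 for every element x of order 3 in H, then either G = H or G is isomorphic to the alternating group of degree 9. -/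
theorem result {G : Type*} [Group G] [Finite G]
    (J : Subgroup G) (hJcomm : IsMulCommutative J) (hJexp : ∀ a ∈ J, a ^ 3 = 1) (hJcard : Nat.card J = 27)
    (H : Subgroup G) (hH : H = Subgroup.normalizer (J : Set G))
    (J₀ : Subgroup (Equiv.Perm (Fin 9)))
    (hJ₀ : J₀ = Subgroup.closure {Equiv.swap (0 : Fin 9) 1 * Equiv.swap 1 2, Equiv.swap (3 : Fin 9) 4 * Equiv.swap 4 5, Equiv.swap (6 : Fin 9) 7 * Equiv.swap 7 8})
    (eH : H ≃* ↥(alternatingGroup (Fin 9) ⊓ Subgroup.normalizer (J₀ : Set (Equiv.Perm (Fin 9)))))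
    (hcores : ∀ x ∈ H, orderOf x = 3 → Cfsg.pPrimeCore 3 (Subgroup.centralizer ({x} : Set G)) = ⊥) :
    H = ⊤ ∨ Nonempty (G ≃* alternatingGroup (Fin 9)) := by
  obtain ⟨S, hS⟩ :=
    CfsgLib.ANineThree.exists_data J hJcomm hJexp hJcard H hH J₀ hJ₀ eH hcores
  rw [← hS]
  exact CfsgLib.ANineThree.main CfsgLib.ANineThree.local_facts CfsgLib.ANineThree.cent_z_cases
    CfsgLib.ANineThree.case_b (CfsgLib.ANineThree.case_c_of CfsgLib.ANineThree.CaseC.model)
    CfsgLib.ANineThree.exists_glue CfsgLib.ANineThree.trichotomy CfsgLib.ANineThree.no_seven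
    CfsgLib.ANineThree.no_small CfsgLib.ANineThree.exists_emb CfsgLib.ANineThree.recognise S

end Cfsg.Agent.S3339
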