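import Cfsg.Statements.S3343
import Cfsg.Agent.Lib.SNineThree.Setup
import Cfsg.Agent.Lib.SNineThree.Classify
import Cfsg.Agent.Lib.SNineThree.Tools
import Cfsg.Agent.Lib.SNineThree.Facts
import Cfsg.Agent.Lib.SNineThree.Small
import Cfsg.Agent.Lib.SNineThree.Twist
import Cfsg.Agent.Lib.SNineThree.Even
import Cfsg.Agent.Lib.SNineThree.CentTau
import Cfsg.Agent.Lib.SNineThree.Hom
import Cfsg.Agent.Lib.SNineThree.Assembly
import Cfsg.Agent.Lib.ANineThree.Local
import Cfsg.Agent.Lib.ANineThree.CentZ
import Cfsg.Agent.Lib.ANineThree.CaseB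
import Cfsg.Agent.Lib.ANineThree.CaseC
import Cfsg.Agent.Lib.ANineThree.CaseCModel
import Cfsg.Agent.Lib.ANineThree.Glue
import Cfsg.Agent.Lib.ANineThree.Trichotomy
import Cfsg.Agent.Lib.ANineThree.NoSeven
import Cfsg.Agent.Lib.ANineThree.NoSmall
import Cfsg.Agent.Lib.ANineThree.Build
import Cfsg.Agent.Lib.ANineThree.Recognise

set_option autoImplicit false
open Cfsg

namespace Cfsg.Agent.S3343

/-- Let G be a finite group with an element x of order 3 whose centralizer is isomorphic to the centralizer in the symmetric group of degree 9 of a product of three disjoint 3-cycles, and let J ≤ C_G(x) be elementary abelian of order 27 normalizing no non-trivial subgroup of G of order prime to 3. Then either J is normal in G or G is isomorphic to the symmetric group of degree 9. -/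
theorem result {G : Type*} [Group G] [Finite G]
    (x : G) (hx : orderOf x = 3)
    (eC : Subgroup.centralizer ({x} : Set G) ≃*
      Subgroup.centralizer ({Equiv.swap (0 : Fin 9) 1 * Equiv.swap 1 2 * Equiv.swap 3 4 * Equiv.swap 4 5 * Equiv.swap 6 7 * Equiv.swap 7 8} : Set (Equiv.Perm (Fin 9))))
    (J : Subgroup G) (hJC : J ≤ Subgroup.centralizer ({x} : Set G)) (hJcomm : IsMulCommutative J)
    (hJexp : ∀ j ∈ J, j ^ 3 = 1) (hJcard : Nat.card J = 27)
    (hJsig : ∀ K : Subgroup G, (Nat.card K).Coprime 3 → (∀ j ∈ J, K.map (MulAut.conj j).toMonoidHom = K) → K = ⊥) :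
    J.Normal ∨ Nonempty (G ≃* Equiv.Perm (Fin 9)) := by
  have hT : CfsgLib.SNineThree.StmtSelfThree := CfsgLib.SNineThree.self_three
  have hA : CfsgLib.SNineThree.StmtAxis := CfsgLib.SNineThree.axis
  have hF : CfsgLib.SNineThree.StmtFacts := CfsgLib.SNineThree.facts hT hA
  have hE : CfsgLib.SNineThree.StmtEven := CfsgLib.SNineThree.even hF
  exact CfsgLib.SNineThree.main (CfsgLib.SNineThree.setup CfsgLib.SNineThree.classify) hF
    (CfsgLib.SNineThree.small hF hA (CfsgLib.SNineThree.twist hF hA hE) hE)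
    (CfsgLib.SNineThree.hom hF (CfsgLib.SNineThree.cent_tau hF hA hT))
    (fun {H} _ _ S => CfsgLib.ANineThree.main CfsgLib.ANineThree.local_facts
      CfsgLib.ANineThree.cent_z_cases CfsgLib.ANineThree.case_b
      (CfsgLib.ANineThree.case_c_of CfsgLib.ANineThree.CaseC.model)
      CfsgLib.ANineThree.exists_glue CfsgLib.ANineThree.trichotomy CfsgLib.ANineThree.no_seven
      CfsgLib.ANineThree.no_small CfsgLib.ANineThree.exists_emb CfsgLib.ANineThree.recognise S)
    x hx eC J hJC hJcomm hJexp hJcard hJsig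

end Cfsg.Agent.S3343
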