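import Cfsg.Statements.S3349

set_option autoImplicit false
open Cfsg

namespace Cfsg.Agent.S3349

/-- Let Q be a finite extraspecial p-group and α an automorphism of Q fixing every element of some maximal abelian subgroup of Q. Then the order of α is a power of p. -/
theorem result {Q : Type*} [Group Q] [Finite Q]
    (p : ℕ) [Fact p.Prime] (hQ : Cfsg.IsExtraspecial p Q) (α : MulAut Q)
    (A : Subgroup Q) (hA : IsMulCommutative A) (hmax : ∀ B : Subgroup Q, A ≤ B → IsMulCommutative B → B = A)
    (hfix : ∀ a ∈ A, α a = a) :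
    ∃ k : ℕ, orderOf α = p ^ k := by
  obtain ⟨⟨hP, -, hcomm⟩, -⟩ := hQ
  have hZA : Subgroup.center Q ≤ A := by
    have hc : IsMulCommutative (A ⊔ Subgroup.center Q : Subgroup Q) := by
      rw [← Subgroup.le_centralizer_iff_isMulCommutative]
      refine sup_le ?_ ?_
      · refine Subgroup.le_centralizer_iff.2 (sup_le (Subgroup.le_centralizer_iff_isMulCommutative.2 hA) ?_)
        exact Subgroup.center_le_centralizer _
      · exact Subgroup.center_le_centralizer _
    exact le_sup_right.trans (hmax _ le_sup_left hc).le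
  have hcen : ∀ x : Q, (∀ a ∈ A, a * x = x * a) → x ∈ A := by
    intro x hx
    have hc : IsMulCommutative (Subgroup.closure ((A : Set Q) ∪ {x}) : Subgroup Q) := by
      refine Subgroup.isMulCommutative_closure ?_
      rintro u (hu | rfl) v (hv | rfl) <;>
        first
          | exact congrArg Subtype.val (mul_comm' (⟨u, hu⟩ : A) ⟨v, hv⟩)
          | exact hx _ ‹_›
          | exact (hx _ ‹_›).symm
          | rfl
    have he := hmax _ (fun a ha => Subgroup.subset_closure (Or.inl ha)) hc
    rw [← he]
    exact Subgroup.subset_closure (Or.inr rfl)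
  have hdiv : ∀ x : Q, x⁻¹ * α x ∈ A := by
    intro x
    refine hcen _ fun a ha => ?_
    have hconj : x * a * x⁻¹ ∈ A := by
      have h1 : x * a * x⁻¹ * a⁻¹ ∈ Subgroup.center Q := by
        rw [← hcomm, commutator_def]
        exact Subgroup.commutator_mem_commutator (Subgroup.mem_top x) (Subgroup.mem_top a)
      simpa using A.mul_mem (hZA h1) ha
    have h2 : α x * a * (α x)⁻¹ = x * a * x⁻¹ := by
      conv_lhs => rw [← hfix a ha, ← map_inv, ← map_mul, ← map_mul]
      exact hfix _ hconj
    calc a * (x⁻¹ * α x) = x⁻¹ * (x * a * x⁻¹) * α x := by group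
      _ = x⁻¹ * (α x * a * (α x)⁻¹) * α x := by rw [h2]
      _ = x⁻¹ * α x * a := by group
  have hpow : ∀ (n : ℕ) (x : Q), (α ^ n) x = x * (x⁻¹ * α x) ^ n := by
    intro n
    induction n with
    | zero => intro x; simp
    | succ n ih =>
      intro x
      rw [pow_succ', MulAut.mul_apply, ih, map_mul, map_pow, hfix _ (hdiv x), pow_succ', ← mul_assoc,
        mul_inv_cancel_left]
  obtain ⟨k, hk⟩ := hP.exists_card_eq
  have h1 : α ^ (p ^ k) = 1 := MulEquiv.ext fun x => by
    rw [hpow, ← hk, pow_card_eq_one', mul_one]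
    rfl
  obtain ⟨j, -, hj⟩ := (Nat.dvd_prime_pow Fact.out).1 (orderOf_dvd_of_pow_eq_one h1)
  exact ⟨j, hj⟩

end Cfsg.Agent.S3349
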