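import Cfsg.Statements.S3361
import Cfsg.Agent.Lib.Recog.TransLinearRegular

set_option autoImplicit false
open Cfsg

namespace Cfsg.Agent.S3361

/-- Let q be a prime and V a non-trivial finite vector space over the field with q elements, and let G be a finite solvable group acting faithfully and linearly on V and regularly on the non-zero vectors (transitively, with only the identity fixing a non-zero vector). Then either V can be identified with the additive group of a finite field F so that every element of G acts as x ↦ a·σ(x) (a ∈ F, σ a field automorphism), or V has 5^2, 7^2, 11^2 or 23^2 elements. Moreover, if q ≠ 2 then G has a normal subgroup of index 2, except that when V has 25 elements G may be isomorphic to SL(2,3) and when V has 121 elements G may be isomorphic to SL(2,3) × C₅. -/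
theorem result
    (q : ℕ) [Fact q.Prime] {V : Type*} [AddCommGroup V] [Module (ZMod q) V] [Finite V] [Nontrivial V]
    {G : Type*} [Group G] [Finite G] (hsol : Group.IsSolvable G)
    (ρ : G →* (V ≃ₗ[ZMod q] V)) (hρ : Function.Injective ρ)
    (htrans : ∀ v w : V, v ≠ 0 → w ≠ 0 → ∃ g : G, ρ g v = w)
    (hreg : ∀ v : V, v ≠ 0 → ∀ g : G, ρ g v = v → g = 1) :
    ((∃ (F : Type) (_ : Field F) (_ : Fintype F) (e : V ≃+ F),
        ∀ g : G, ∃ (a : F) (σ : F ≃+* F), ∀ v : V, e (ρ g v) = a * σ (e v)) ∨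
      Nat.card V ∈ ({25, 49, 121, 529} : Set ℕ)) ∧
    (q ≠ 2 → (∃ N : Subgroup G, N.Normal ∧ N.index = 2) ∨
      (Nat.card V = 25 ∧ Nonempty (G ≃* Matrix.SpecialLinearGroup (Fin 2) (ZMod 3))) ∨
      (Nat.card V = 121 ∧ Nonempty (G ≃* Matrix.SpecialLinearGroup (Fin 2) (ZMod 3) × Multiplicative (ZMod 5)))) := by
  classical
  let R : G →* Module.End (ZMod q) V :=
    { toFun := fun g => (ρ g).toLinearMap
      map_one' := by rw [map_one]; rfl
      map_mul' := fun a b => by rw [map_mul]; rfl }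
  have hreg' : ∀ v : V, v ≠ 0 → ∀ g : G, R g v = v → g = 1 := hreg
  have htr' : ∀ v w : V, v ≠ 0 → w ≠ 0 → ∃ g : G, R g v = w := htrans
  have hR : Function.Injective R := CfsgLib.Recog.TransLinear.injective_of_regular R hreg'
  have hG : Nat.card G = Nat.card V - 1 := CfsgLib.Recog.TransLinear.card_of_regular R htr' hreg'
  have hq : q.Prime := Fact.out
  obtain ⟨d, hVd⟩ : ∃ d, Nat.card V = q ^ d := ⟨_, by
    have h := Module.natCard_eq_pow_finrank (K := ZMod q) (V := V)
    rwa [Nat.card_zmod] at h⟩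
  have hqd : ∀ a b : ℕ, a.Prime → b ≠ 0 → q ^ d = a ^ b → q = a ∧ d = b := by
    intro a b ha hb he
    have h1 : q ∣ a ^ b := he ▸ dvd_pow_self q (by
      rintro rfl
      exact absurd he (by rw [pow_zero]; exact (Nat.one_lt_pow hb ha.one_lt).ne))
    have h2 := (Nat.prime_dvd_prime_iff_eq hq ha).1 (hq.dvd_of_dvd_pow h1)
    refine ⟨h2, ?_⟩
    rw [h2] at he
    exact Nat.pow_right_injective ha.two_le he
  -- the exceptional orders
  have h9 : Nat.card V = 9 → ∃ (F : Type) (_ : Field F) (_ : Fintype F) (e : V ≃+ F),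
      ∀ g : G, ∃ (a : F) (σ : F ≃+* F), ∀ v : V, e (R g v) = a * σ (e v) := by
    intro h
    obtain ⟨h3, h2⟩ := hqd 3 2 Nat.prime_three (by norm_num) (hVd.symm.trans h)
    exact CfsgLib.Recog.TransLinear.semilinear_nine R htr' hreg'
      (hVd.trans (congrArg (q ^ ·) h2)) h3
  have h81 : Nat.card V = 81 → ∃ (F : Type) (_ : Field F) (_ : Fintype F) (e : V ≃+ F),
      ∀ g : G, ∃ (a : F) (σ : F ≃+* F), ∀ v : V, e (R g v) = a * σ (e v) := by
    intro h
    obtain ⟨h3, h4⟩ := hqd 3 4 Nat.prime_three (by norm_num) (hVd.symm.trans h)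
    obtain ⟨X, hXn, hX⟩ := CfsgLib.Recog.TransLinear.sylow_five_normal R htr' hreg' h
    have : Fact (Nat.Prime 5) := ⟨by norm_num⟩
    have : IsCyclic X := isCyclic_of_prime_card hX
    refine CfsgLib.Recog.TransLinear.semilinear_of_normal R htr' hR hVd X ⟨⟨fun a b => ?_⟩⟩
      fun i hi hid _ hdvd => ?_
    · obtain ⟨g, hg⟩ := IsCyclic.exists_generator (α := X)
      obtain ⟨m, rfl⟩ := hg a
      obtain ⟨n, rfl⟩ := hg b
      exact zpow_mul_comm g m n
    · rw [hX, h4] at *
      have h5 := hdvd.trans (congrArg (fun z : ℕ => z ^ i - 1) h3).dvd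
      interval_cases i <;> norm_num at h5
  refine ⟨?_, fun hq2 => ?_⟩
  · rcases CfsgLib.Recog.TransLinear.semilinear_or_small hR hsol htr' with h | h
    · exact Or.inl h
    · simp only [Set.mem_insert_iff, Set.mem_singleton_iff] at h ⊢
      rcases h with h | h | h | h | h | h
      · exact Or.inl (h9 h)
      · exact Or.inr (Or.inl h)
      · exact Or.inr (Or.inr (Or.inl h))
      · exact Or.inr (Or.inr (Or.inr (Or.inl h)))
      · exact Or.inr (Or.inr (Or.inr (Or.inr h)))
      · exact Or.inl (h81 h)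
  -- subgroups of index two
  obtain ⟨D⟩ := CfsgLib.Recog.TransLinear.exists_frame R htr'
  have : D.C.Normal := Subgroup.normal_centralizer
  have hd0 : d ≠ 0 := by
    rintro rfl
    exact absurd (hVd.trans (pow_zero q)) Finite.one_lt_card.ne'
  have heven : 2 ∣ Nat.card G := by
    rw [hG, hVd]
    obtain ⟨t, ht⟩ := (hq.odd_of_ne_two hq2).pow (n := d)
    exact ⟨t, by omega⟩
  rcases eq_or_lt_of_le D.one_le_m with hm | hm
  · have := (D.index_C hR).2
    have := D.isCyclic_C hR hm.symm
    exact Or.inl (CfsgLib.Recog.TransLinear.exists_index_two_of_cyclic heven D.C)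
  obtain ⟨L⟩ := D.exists_layer htr' hR hsol hm
  have hd : d = D.l * D.m := Nat.pow_right_injective hq.two_le (hVd.symm.trans D.card_eq)
  have hd2 : 2 ≤ D.l * D.m :=
    le_trans hm (Nat.le_mul_of_pos_left _ (Nat.pos_of_ne_zero D.l_ne))
  have : Fact (Nat.Prime 2) := ⟨Nat.prime_two⟩
  have : Fact (Nat.Prime 3) := ⟨Nat.prime_three⟩
  rcases eq_or_lt_of_le hd2 with hdd | hdd
  swap
  · -- degree `81`
    have h := D.small_of_three_le htr' hR hm L hdd
    obtain ⟨X, hXn, hX⟩ := CfsgLib.Recog.TransLinear.sylow_five_normal R htr' hreg' h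
    refine Or.inl (CfsgLib.Recog.TransLinear.exists_index_two_of_order X (m := 8) (r := 2) (j := 3)
      (by norm_num) ?_)
    have h1 := Subgroup.card_mul_index X
    rw [hX, hG, h] at h1
    omega
  obtain ⟨hl, hm2, hs, hn⟩ := D.two_dim_layer htr' hR hm L hdd.symm
  have hp := D.dvd_twentyFour htr' hR hm L hdd.symm
  simp only [Set.mem_insert_iff, Set.mem_singleton_iff] at hp
  have hfull : L.s ^ L.n = D.m * D.m := by rw [hm2, hs, hn]; rfl
  have hC : D.C = ⊤ := Subgroup.index_eq_one.1 (Nat.dvd_one.1 (hl ▸ (D.index_C hR).1))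
  have hV2 : Nat.card V = q ^ 2 := hVd.trans (congrArg (q ^ ·) (hd.trans hdd.symm))
  have he : L.B.index ∣ 6 := by
    let χ : G →* (Module.End (ZMod L.s) (Additive L.Quo))ˣ := L.actLin.toHomUnits
    have hker : χ.ker ≤ L.B := fun c hc =>
      L.mem_B_of_actLin_eq_one hR hfull (hC ▸ Subgroup.mem_top c)
        (congrArg Units.val (MonoidHom.mem_ker.1 hc))
    let b := Module.finBasisOfFinrankEq (ZMod L.s) (Additive L.Quo) L.finrank_eq
    have h1 := Subgroup.card_subgroup_dvd_card χ.range
    rw [Nat.card_congr (Units.mapEquiv (algEquivMatrix b).toMulEquiv).toEquiv,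
      Matrix.card_GL_field, ZMod.card, ← Subgroup.index_ker,
      Fin.prod_univ_eq_prod_range (fun j => L.s ^ L.n - L.s ^ j) L.n] at h1
    have h2 : ∏ i ∈ Finset.range L.n, (L.s ^ L.n - L.s ^ i) = 6 := by rw [hs, hn]; rfl
    exact (Subgroup.index_dvd_of_le hker).trans (h1.trans h2.dvd)
  have hB : Nat.card L.B = Nat.card D.A * 4 := by
    rw [← Subgroup.card_mul_index (D.A.subgroupOf L.B),
      Nat.card_congr (Subgroup.subgroupOfEquivOfLe L.A_le).toEquiv,
      show (D.A.subgroupOf L.B).index = D.A.relIndex L.B from rfl, L.relIndex_eq, hs, hn]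
    rfl
  have hcount : Nat.card D.A * 4 * L.B.index = q ^ 2 - 1 := by
    rw [← hB, Subgroup.card_mul_index, hG, hV2]
  have hAq : Nat.card D.A ∣ q - 1 :=
    (D.card_A_dvd hR).trans (congrArg (fun z : ℕ => q ^ z - 1) hl |>.trans (by rw [pow_one])).dvd
  have he6 : L.B.index ≤ 6 := Nat.le_of_dvd (by norm_num) he
  rcases Nat.even_or_odd L.B.index with hev | hodd
  · left
    rcases (show L.B.index = 2 ∨ L.B.index = 6 by
      obtain ⟨t, ht⟩ := hev
      interval_cases h : L.B.index <;> omega) with h | h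
    · exact ⟨L.B, inferInstance, h⟩
    · exact CfsgLib.Recog.TransLinear.exists_index_two_of_order L.B (m := 3) (r := 3) (j := 1)
        (by norm_num) h
  by_cases hq3 : q = 3
  · -- order eight
    left
    refine CfsgLib.Recog.TransLinear.exists_index_two_of_order ⊥ (m := 4) (r := 2) (j := 2)
      (by norm_num) ?_
    rw [Subgroup.index_bot, hG, hV2]
    exact congrArg (fun z : ℕ => z ^ 2 - 1) hq3
  right
  have hsq : q ^ 2 - 1 = (q + 1) * (q - 1) := by simpa using Nat.sq_sub_sq q 1
  obtain ⟨c, hc⟩ := hAq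
  have hq1 : 0 < q - 1 := by have := hq.two_le; omega
  have hkey : 4 * L.B.index = (q + 1) * c := by
    have h1 : Nat.card D.A * (4 * L.B.index) = Nat.card D.A * ((q + 1) * c) := by
      rw [← mul_assoc, hcount, hsq]
      conv_lhs => rw [hc]
      ring
    exact Nat.eq_of_mul_eq_mul_left Nat.card_pos h1
  have hidx : L.B.index = 1 ∨ L.B.index = 3 := by
    obtain ⟨t, ht⟩ := hodd
    have : L.B.index ≠ 5 := fun e => absurd (e ▸ he) (by norm_num)
    omega
  have hdvd : q + 1 ∣ 4 * L.B.index := ⟨c, hkey⟩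
  have hcases : (q = 5 ∧ L.B.index = 3 ∧ Nat.card D.A = 2) ∨
      (q = 11 ∧ L.B.index = 3 ∧ Nat.card D.A = 10) := by
    have hcard := hcount
    rcases hp with h | h | h | h | h
    · exact absurd h hq3
    all_goals rcases hidx with h' | h'
    all_goals rw [h'] at hdvd hcard
    · exact absurd ((congrArg (· + 1) h).symm.dvd.trans hdvd) (by norm_num)
    · have := congrArg (fun z : ℕ => z ^ 2 - 1) h
      exact Or.inl ⟨h, h', by omega⟩
    · exact absurd ((congrArg (· + 1) h).symm.dvd.trans hdvd) (by norm_num)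
    · exact absurd ((congrArg (· + 1) h).symm.dvd.trans hdvd) (by norm_num)
    · exact absurd ((congrArg (· + 1) h).symm.dvd.trans hdvd) (by norm_num)
    · have := congrArg (fun z : ℕ => z ^ 2 - 1) h
      exact Or.inr ⟨h, h', by omega⟩
    · exact absurd ((congrArg (· + 1) h).symm.dvd.trans hdvd) (by norm_num)
    · exact absurd ((congrArg (· + 1) h).symm.dvd.trans hdvd) (by norm_num)
  rcases hcases with ⟨h5, hidx3, hA⟩ | ⟨h11, hidx3, hA⟩
  · left
    refine ⟨hV2.trans (congrArg (· ^ 2) h5), ?_⟩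
    obtain ⟨H, hH, ⟨e⟩⟩ := D.exists_slTwoThree htr' hreg' L ⟨hl, hm2, hs, hn⟩ hC (k := 1) odd_one
      (by rw [hA]) hidx3 (by norm_num)
    have hG24 : Nat.card G = 24 := by
      rw [hG, hV2]; exact congrArg (fun z : ℕ => z ^ 2 - 1) h5
    have htop : H = ⊤ := Subgroup.eq_top_of_card_eq H (by rw [hH, hG24])
    exact ⟨((MulEquiv.subgroupCongr htop).trans Subgroup.topEquiv).symm.trans e⟩
  · right
    refine ⟨hV2.trans (congrArg (· ^ 2) h11), ?_⟩
    obtain ⟨H, hH, ⟨e⟩⟩ := D.exists_slTwoThree htr' hreg' L ⟨hl, hm2, hs, hn⟩ hC (k := 5)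
      (by decide) (by rw [hA]) hidx3 (by norm_num)
    have hG120 : Nat.card G = 120 := by
      rw [hG, hV2]; exact congrArg (fun z : ℕ => z ^ 2 - 1) h11
    have : Fact (Nat.Prime 5) := ⟨by norm_num⟩
    obtain ⟨a, ha⟩ := exists_prime_orderOf_dvd_card' (G := D.A) 5 (by rw [hA]; norm_num)
    set Z : Subgroup G := Subgroup.zpowers (a : G)
    have hZ : Nat.card Z = 5 := by rw [Nat.card_zpowers, Subgroup.orderOf_coe, ha]
    have hcomm : ∀ (h : H) (y : Z), Commute (h : G) y := fun h y =>
      (D.commute_of_mem (hC ▸ Subgroup.mem_top (h : G)) (Subgroup.zpowers_le.2 a.2 y.2)).symm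
    have hdisj : Disjoint H Z := disjoint_iff.2 (Subgroup.inf_eq_bot_of_coprime (by rw [hH, hZ]; norm_num))
    let f : H × Z →* G := MonoidHom.noncommCoprod H.subtype Z.subtype hcomm
    have hf : Function.Injective f :=
      (MonoidHom.noncommCoprod_injective _ _ _).2 ⟨H.subtype_injective, Z.subtype_injective, by
        rwa [Subgroup.range_subtype, Subgroup.range_subtype]⟩
    have hb : Function.Bijective f := (Nat.bijective_iff_injective_and_card f).2
      ⟨hf, by rw [Nat.card_prod, hH, hZ, hG120]⟩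
    have : IsCyclic Z := Subgroup.isCyclic_zpowers _
    have eZ : Z ≃* Multiplicative (ZMod 5) := mulEquivOfCyclicCardEq (by
      rw [hZ, Nat.card_congr Multiplicative.toAdd, Nat.card_zmod])
    exact ⟨(MulEquiv.ofBijective f hb).symm.trans (MulEquiv.prodCongr e eZ)⟩

end Cfsg.Agent.S3361
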