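import Cfsg.Statements.S3365
import Cfsg.Agent.Lib.FixityFour.Cases
import Cfsg.Agent.Lib.FixityFour.WithFixed
import Cfsg.Agent.Lib.FixityFour.OddFree
import Cfsg.Agent.Lib.FixityFour.Central

set_option autoImplicit false
set_option linter.style.haveILetI false
open Cfsg

namespace Cfsg.Agent.S3365

/-- Finite simple groups acting with fixity 4. Let G be a finite non-abelian simple group acting faithfully and transitively on a finite set so that every non-identity element fixes at most 4 points and some non-identity element fixes exactly 4 (fixity 4). Let P be a Sylow 3-subgroup, S a Sylow 2-subgroup, f the largest number of fixed points of an involution of G, and a a point. Then one of the following holds: (1) f ≥ 1 and G has a strongly embedded subgroup; (2) 1 ≤ f ≤ 3 and S is dihedral or semidihedral; (3) f = 4 and G has sectional 2-rank at most 4; (4) the point stabilizer G_a has odd order divisible by 3 and either G has a strongly 3-embedded subgroup (a proper subgroup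 H of order divisible by 3 such that H ∩ gHg⁻¹ has order prime to 3 for every element g outside H), or |P| = 3 and a Sylow 2-subgroup of N_G(P) has order at most 4, or P is elementary abelian of order 9, or P is extraspecial of order 27 and exponent 3, or P is isomorphic to a Sylow 3-subgroup of Sym(9) (the wreath product C₃ ≀ C₃); (5) G_a has order prime to 6. -/
theorem result {G Ω : Type*} [Group G] [Finite G] [IsSimpleGroup G] (hna : ¬ IsMulCommutative G)
    [MulAction G Ω] [FaithfulSMul G Ω] [Finite Ω] (htrans : MulAction.IsPretransitive G Ω)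
    (hfix : ∀ g : G, g ≠ 1 → Nat.card (MulAction.fixedBy Ω g) ≤ 4)
    (hfix4 : ∃ g : G, g ≠ 1 ∧ Nat.card (MulAction.fixedBy Ω g) = 4)
    (P : Sylow 3 G) (S : Sylow 2 G) (f : ℕ)
    (hf : ∀ g : G, orderOf g = 2 → Nat.card (MulAction.fixedBy Ω g) ≤ f)
    (hf' : ∃ g : G, orderOf g = 2 ∧ Nat.card (MulAction.fixedBy Ω g) = f) (a : Ω) :
    (1 ≤ f ∧ ∃ H : Subgroup G, Cfsg.IsStronglyEmbedded H) ∨
    (1 ≤ f ∧ f ≤ 3 ∧ ((∃ n : ℕ, Nonempty ((S : Subgroup G) ≃* DihedralGroup n)) ∨ Cfsg.IsQuasiDihedral (S : Subgroup G))) ∨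
    (f = 4 ∧ Cfsg.SectionalPRankLE 2 4 G) ∨
    (Odd (Nat.card (MulAction.stabilizer G a)) ∧ 3 ∣ Nat.card (MulAction.stabilizer G a) ∧
      ((∃ H : Subgroup G, H ≠ ⊤ ∧ 3 ∣ Nat.card H ∧ ∀ g : G, g ∉ H → ¬ 3 ∣ Nat.card ↥(H ⊓ H.map (MulAut.conj g).toMonoidHom)) ∨
       (Nat.card P = 3 ∧ ∀ T : Sylow 2 (Subgroup.normalizer ((P : Subgroup G) : Set G)), Nat.card T ≤ 4) ∨
       (Nat.card P = 9 ∧ ∀ x ∈ (P : Subgroup G), x ^ 3 = 1) ∨
       (Nat.card P = 27 ∧ Cfsg.IsExtraspecial 3 (P : Subgroup G) ∧ ∀ x ∈ (P : Subgroup G), x ^ 3 = 1) ∨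
       (∃ T : Sylow 3 (Equiv.Perm (Fin 9)), Nonempty ((P : Subgroup G) ≃* (T : Subgroup (Equiv.Perm (Fin 9))))))) ∨
    (Nat.card (MulAction.stabilizer G a)).Coprime 6 := by
  classical
  haveI : Fact (Nat.Prime 2) := ⟨Nat.prime_two⟩
  simp only [Nat.card_coe_set_eq] at hfix hfix4 hf hf'
  obtain ⟨g₄, hg₄, hg₄f⟩ := hfix4
  have hfive : 5 ≤ Nat.card Ω := by
    by_contra hn
    have hle : (MulAction.fixedBy Ω g₄).ncard ≤ Nat.card Ω := Set.ncard_le_card _
    have huniv : MulAction.fixedBy Ω g₄ = Set.univ :=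
      Set.eq_of_subset_of_ncard_le (Set.subset_univ _) (by rw [Set.ncard_univ]; omega) (Set.toFinite _)
    exact hg₄ (eq_of_smul_eq_smul (α := Ω) fun ω => by
      rw [one_smul]; exact (huniv.symm ▸ Set.mem_univ ω : ω ∈ MulAction.fixedBy Ω g₄))
  have h : CfsgLib.FixityFour.Hyp G Ω := ⟨inferInstance, hna, htrans, hfive, hfix⟩
  obtain ⟨g, hg, hgf⟩ := hf'
  have hf4 : f ≤ 4 := hgf ▸ hfix g (fun h1 => by rw [h1, orderOf_one] at hg; omega)
  rcases Nat.eq_zero_or_pos f with rfl | hfpos
  · -- the stabilisers have odd order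
    have ho : CfsgLib.FixityFour.OddStab G Ω := fun x hx =>
      (Set.ncard_eq_zero (Set.toFinite _)).1 (Nat.le_zero.1 (hf x hx))
    have hodd := ho.odd_card_stabilizer a
    by_cases h3 : 3 ∣ Nat.card (MulAction.stabilizer G a)
    · refine Or.inr (Or.inr (Or.inr (Or.inl ⟨hodd, h3, ?_⟩)))
      haveI : Fact (Nat.Prime 3) := ⟨Nat.prime_three⟩
      obtain ⟨t, ht⟩ := exists_prime_orderOf_dvd_card' 3 h3
      rcases h.odd_case ho P ⟨(t : G), by rw [Subgroup.orderOf_coe, ht], a, t.2⟩
          (fun hP z a b c d e => CfsgLib.FixityFour.false_of_central_moved h ho P hP a b c d e)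
          (fun t a b c d => CfsgLib.FixityFour.extraspecial_of_free_center h ho P a b c d) with
        hs | hs | hs | hs
      · exact Or.inl hs
      · exact Or.inr (Or.inl hs)
      · exact Or.inr (Or.inr (Or.inl hs))
      · exact Or.inr (Or.inr (Or.inr (Or.inl hs)))
    · refine Or.inr (Or.inr (Or.inr (Or.inr ?_)))
      show Nat.Coprime _ (2 * 3)
      exact Nat.Coprime.mul_right (Nat.coprime_two_right.2 hodd)
        (Nat.prime_three.coprime_iff_not_dvd.2 h3).symm
  rcases Nat.lt_or_ge f 4 with hlt | hge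
  · rcases CfsgLib.FixityFour.small_f h hfpos (by omega) hf ⟨g, hg, hgf⟩ S with hs | hs
    · exact Or.inl ⟨hfpos, hs⟩
    · exact Or.inr (Or.inl ⟨hfpos, by omega, hs⟩)
  · obtain rfl : f = 4 := le_antisymm hf4 hge
    rcases h.four_case (fun S hT hm E b c d e f g =>
        CfsgLib.FixityFour.rank_of_fixed_normal_of_central
          (fun {z} a b c {u} d e f => CfsgLib.FixityFour.rank_of_central_fixed hT a b c d e f)
          hT hm E b c d e f g) ⟨g, hg, hgf⟩ with hs | hs
    · exact Or.inl ⟨hfpos, hs⟩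
    · exact Or.inr (Or.inr (Or.inl ⟨rfl, hs⟩))

end Cfsg.Agent.S3365
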