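import Cfsg.Statements.S3366
import Cfsg.Agent.Lib.Rec.PSpCentralThree
import Cfsg.Agent.Lib.Rec.HeisSLThree

set_option autoImplicit false
open Cfsg

namespace Cfsg.Agent.S3366

open CfsgLib.Rec.HeisSLThree CfsgLib.Rec.PSpCentralThree

theorem exists_hom {X : Type*} [Group X] {F : Type*} [Field F] (ι : ZMod 3 ≃+* F)
    (c : W × ZMod 3 → X) (s : S3 →* X)
    (hc : ∀ v a w b, c (v, a) * c (w, b) = c (v + w, a + b - wdet v w))
    (hs : ∀ A v a, s A * c (v, a) * (s A)⁻¹ = c (lin A.1 v, a))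
    (hb : Function.Bijective (fun p : (W × ZMod 3) × S3 => c p.1 * s p.2)) :
    ∃ φ : X →* Matrix.symplecticGroup (Fin 2) F, Function.Injective φ ∧ ∀ g, g ∈ φ.range ↔ g ∈ stab F := by
  let T : (W × ZMod 3) × S3 → Matrix.symplecticGroup (Fin 2) F := fun p =>
    ⟨mat (ι p.1.1.1) (ι p.1.1.2) (ι p.1.2) (ι (p.2.1 0 0)) (ι (p.2.1 0 1)) (ι (p.2.1 1 0)) (ι (p.2.1 1 1)),
      mat_mem _ _ _ _ _ _ _ (by
        rw [← map_mul, ← map_mul, ← map_sub, ← Matrix.det_fin_two, p.2.2, map_one])⟩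
  let Ψ := Equiv.ofBijective _ hb
  have hmul : ∀ p q, T p * T q =
      T ((p.1.1 + lin p.2.1 q.1.1, p.1.2 + q.1.2 - wdet p.1.1 (lin p.2.1 q.1.1)), p.2 * q.2) := by
    intro p q
    refine Subtype.ext ?_
    show mat _ _ _ _ _ _ _ * mat _ _ _ _ _ _ _ = mat _ _ _ _ _ _ _
    rw [mat_mul _ _ _ _ _ _ _ _ _ _ _ _ _ _ (by rw [← map_mul, ← map_mul, ← map_sub, ← Matrix.det_fin_two, p.2.2, map_one])]
    congr 1 <;> simp [lin, wdet, Matrix.mul_apply, Fin.sum_univ_two]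
  have hΨ : ∀ p q, Ψ ((p.1.1 + lin p.2.1 q.1.1, p.1.2 + q.1.2 - wdet p.1.1 (lin p.2.1 q.1.1)), p.2 * q.2) =
      Ψ p * Ψ q := by
    intro p q
    show c _ * s (p.2 * q.2) = c p.1 * s p.2 * (c q.1 * s q.2)
    rw [map_mul, show c p.1 * s p.2 * (c q.1 * s q.2) = c p.1 * (s p.2 * c q.1 * (s p.2)⁻¹) * (s p.2 * s q.2) by group,
      hs p.2 q.1.1 q.1.2, hc]
  let φ : X →* Matrix.symplecticGroup (Fin 2) F := MonoidHom.mk' (fun x => T (Ψ.symm x)) fun x y => by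
    rw [hmul]
    congr 1
    apply Ψ.injective
    rw [hΨ, Equiv.apply_symm_apply, Equiv.apply_symm_apply, Equiv.apply_symm_apply]
  refine ⟨φ, fun x y h => ?_, fun g => ⟨?_, fun hg => ?_⟩⟩
  · apply Ψ.symm.injective
    have h' : (T (Ψ.symm x)).1 = (T (Ψ.symm y)).1 := congrArg Subtype.val h
    generalize Ψ.symm x = p at h'
    generalize Ψ.symm y = q at h'
    obtain ⟨⟨⟨v1, v2⟩, a⟩, A⟩ := p
    obtain ⟨⟨⟨w1, w2⟩, b⟩, B⟩ := q
    have hh := fun i j => congrFun (congrFun h' i) j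
    have e1 := hh (.inl 1) (.inr 0)
    have e2 := hh (.inr 1) (.inr 0)
    have e3 := hh (.inl 0) (.inr 0)
    have e4 := hh (.inl 1) (.inl 1)
    have e5 := hh (.inl 1) (.inr 1)
    have e6 := hh (.inr 1) (.inl 1)
    have e7 := hh (.inr 1) (.inr 1)
    simp [T, mat] at e1 e2 e3 e4 e5 e6 e7
    refine Prod.ext (Prod.ext (Prod.ext e1 e2) e3) (Subtype.ext ?_)
    ext i j
    fin_cases i <;> fin_cases j <;> assumption
  · rintro ⟨x, rfl⟩ i
    fin_cases i <;> simp [φ, T, mat]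
  · obtain ⟨v₁, v₂, a, p, q, r, t, hdet, hgm⟩ := eq_mat_of_fix g.2 hg
    refine ⟨Ψ (((ι.symm v₁, ι.symm v₂), ι.symm a), ⟨!![ι.symm p, ι.symm q; ι.symm r, ι.symm t], ?_⟩), ?_⟩
    · rw [Matrix.det_fin_two_of, ← map_mul, ← map_mul, ← map_sub, hdet, map_one]
    · show T (Ψ.symm (Ψ _)) = g
      rw [Equiv.symm_apply_apply]
      exact Subtype.ext (by rw [hgm]; simp [T])

/-- Let X be a finite group with O₃(X) extraspecial of order 27 and exponent 3, X/O₃(X) isomorphic to SL(2,3), O₂(X) = 1, and a Sylow 3-subgroup of X containing an elementary abelian subgroup of order 27. Then X is isomorphic to the centralizer in PSp(4,3) of a 3-central element of order 3 (an element of order 3 in the centre of a Sylow 3-subgroup). -/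
theorem result {X : Type*} [Group X] [Finite X]
    (hR : Cfsg.IsExtraspecial 3 (Cfsg.pCore 3 X)) (hRcard : Nat.card (Cfsg.pCore 3 X) = 27)
    (hRexp : ∀ r ∈ Cfsg.pCore 3 X, r ^ 3 = 1)
    (e : X ⧸ Cfsg.pCore 3 X ≃* Matrix.SpecialLinearGroup (Fin 2) (ZMod 3))
    (hO2 : Cfsg.pCore 2 X = ⊥)
    (hE : ∃ E : Subgroup X, IsMulCommutative E ∧ (∀ a ∈ E, a ^ 3 = 1) ∧ Nat.card E = 27)
    (F : Type*) [Field F] [Fintype F] (hF : Fintype.card F = 3) :
    ∃ (c : Cfsg.PSp 2 F) (S : Sylow 3 (Cfsg.PSp 2 F)), orderOf c = 3 ∧ c ∈ (S : Subgroup (Cfsg.PSp 2 F)) ∧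
      c ∈ Subgroup.centralizer ((S : Subgroup (Cfsg.PSp 2 F)) : Set (Cfsg.PSp 2 F)) ∧
      Nonempty (X ≃* Subgroup.centralizer ({c} : Set (Cfsg.PSp 2 F))) := by
  obtain ⟨c, s, hc, hs, hb⟩ := exists_splitting hR hRcard hRexp e hO2 hE
  haveI : Fact (Nat.Prime 3) := ⟨Nat.prime_three⟩
  have ι : ZMod 3 ≃+* F := FiniteField.ringEquivOfCardEq (K := ZMod 3) (K' := F) (by rw [ZMod.card, hF])
  obtain ⟨φ, hφ, hr⟩ := exists_hom ι c s hc hs hb
  refine centralizer_iso hF ?_ φ hφ hr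
  rw [← Nat.card_congr (Equiv.ofBijective _ hb), Nat.card_prod, Nat.card_prod, Nat.card_prod,
    Nat.card_zmod, CfsgLib.Transfer.card_slTwoThree]

end Cfsg.Agent.S3366
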