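import Cfsg.Statements.S3374
import Cfsg.Agent.Lib.Recog.PresentationsFive
import Cfsg.Agent.Lib.FgsC.Fpf

set_option autoImplicit false
open Cfsg

namespace Cfsg.Agent.S3374

/-- The only involution of `SL(2,5)` is minus the identity. -/
theorem eq_one_or_eq_neg_one (x : Matrix.SpecialLinearGroup (Fin 2) (ZMod 5)) (hx : x ^ 2 = 1) :
    x = 1 ∨ x = ⟨!![-1, 0; 0, -1], by decide⟩ := by
  have hxx : x⁻¹ = x := inv_eq_of_mul_eq_one_right (by rw [← sq]; exact hx)
  have hadj : ∀ i j, (x : Matrix (Fin 2) (Fin 2) (ZMod 5)).adjugate i j = x i j := fun i j => by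
    rw [← Matrix.SpecialLinearGroup.coe_inv, hxx]
  have k00 := hadj 0 0
  have k01 := hadj 0 1
  have k10 := hadj 1 0
  simp [Matrix.adjugate_fin_two] at k00 k01 k10
  have kd := x.2
  rw [Matrix.det_fin_two] at kd
  have key : ∀ a b c d : ZMod 5, d = a → -b = b → -c = c → a * d - b * c = 1 →
      b = 0 ∧ c = 0 ∧ ((a = 1 ∧ d = 1) ∨ (a = -1 ∧ d = -1)) := by decide
  obtain ⟨kb, kc, k⟩ := key _ _ _ _ k00 k01 k10 kd
  rcases k with ⟨ka, kd'⟩ | ⟨ka, kd'⟩
  · left
    ext i j; fin_cases i <;> fin_cases j <;> simp [ka, kb, kc, kd']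
  · right
    ext i j; fin_cases i <;> fin_cases j <;> simp [ka, kb, kc, kd']

theorem nontrivial_SL_five : Nontrivial (Matrix.SpecialLinearGroup (Fin 2) (ZMod 5)) :=
  ⟨⟨1, ⟨!![1, 1; 0, 1], by decide⟩, fun h => by
    have h01 := congrArg (fun g : Matrix.SpecialLinearGroup (Fin 2) (ZMod 5) =>
      (g : Matrix (Fin 2) (Fin 2) (ZMod 5)) 0 1) h
    simp at h01
    exact absurd h01 (by decide)⟩⟩

/-- SL(2,5) occurs as a Frobenius complement: there is a finite group L with a subgroup H isomorphic to SL(2,5) which is a non-trivial proper subgroup meeting each conjugate gHg⁻¹ with g outside H trivially. -/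
theorem result :
    ∃ (L : Type) (_ : Group L) (_ : Finite L) (H : Subgroup L),
      Cfsg.IsFrobeniusComplement H ∧ Nonempty (H ≃* Matrix.SpecialLinearGroup (Fin 2) (ZMod 5)) := by
  classical
  obtain ⟨e⟩ := CfsgLib.Recog.presentation_SL_five
  let a : Fin 3 → Matrix.SpecialLinearGroup (Fin 2) (ZMod 11) :=
    ![⟨!![7, 1; 9, 3], by decide⟩, ⟨!![3, 0; 0, 4], by decide⟩, ⟨!![-1, 0; 0, -1], by decide⟩]
  let φ : PresentedGroup _ →* Matrix.SpecialLinearGroup (Fin 2) (ZMod 11) :=
    PresentedGroup.toGroup (f := a) (rels := ({FreeGroup.of (0 : Fin 3) ^ 3, FreeGroup.of (1 : Fin 3) ^ 5,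
        FreeGroup.of (2 : Fin 3) ^ 2,
        (FreeGroup.of (2 : Fin 3))⁻¹ * FreeGroup.of 0 * FreeGroup.of 2 * (FreeGroup.of (0 : Fin 3))⁻¹,
        (FreeGroup.of (2 : Fin 3))⁻¹ * FreeGroup.of 1 * FreeGroup.of 2 * (FreeGroup.of (1 : Fin 3))⁻¹,
        (FreeGroup.of (0 : Fin 3) * FreeGroup.of 1) ^ 2 * (FreeGroup.of (2 : Fin 3))⁻¹} :
          Set (FreeGroup (Fin 3)))) (by
      rintro r (rfl | rfl | rfl | rfl | rfl | rfl) <;>
        simp only [map_pow, map_mul, map_inv, FreeGroup.lift_apply_of] <;> decide)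
  let ψ : Matrix.SpecialLinearGroup (Fin 2) (ZMod 5) →* Matrix.SpecialLinearGroup (Fin 2) (ZMod 11) :=
    φ.comp e.symm.toMonoidHom
  haveI : Fact (Nat.Prime 11) := ⟨by norm_num⟩
  haveI : Fact (Nat.Prime 3) := ⟨Nat.prime_three⟩
  haveI : Fact (Nat.Prime 5) := ⟨Nat.prime_five⟩
  have hof : ∀ i, a i ∈ ψ.range := fun i =>
    ⟨e (PresentedGroup.of i), by simp [ψ, φ, PresentedGroup.toGroup.of]⟩
  -- the image is big, so the kernel is central of order at most two
  have h3 : orderOf (a 0) = 3 := orderOf_eq_prime (by decide) (by decide)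
  have h5 : orderOf (a 1) = 5 := orderOf_eq_prime (by decide) (by decide)
  have h4 : orderOf (a 0 * a 1) = 2 ^ (1 + 1) := orderOf_eq_prime_pow (by decide) (by decide)
  have d4 := h4 ▸ ψ.range.orderOf_dvd_natCard (mul_mem (hof 0) (hof 1))
  have d3 := h3 ▸ ψ.range.orderOf_dvd_natCard (hof 0)
  have d5 := h5 ▸ ψ.range.orderOf_dvd_natCard (hof 1)
  have hm := ψ.ker.card_mul_index
  rw [Subgroup.index_ker, CfsgLib.Perm.Zass.card_SL_five] at hm
  have hker2 : ∀ g ∈ ψ.ker, g ^ 2 = 1 := by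
    intro g hg
    have h60 : 60 ∣ Nat.card ψ.range := by omega
    obtain ⟨c, hc⟩ := h60
    rw [hc] at hm
    have hk : Nat.card ψ.ker ∣ 2 := ⟨c, by
      refine Nat.eq_of_mul_eq_mul_left (show 0 < 60 by norm_num) ?_
      linarith [hm]⟩
    exact orderOf_dvd_iff_pow_eq_one.1 ((Subgroup.orderOf_dvd_natCard _ hg).trans hk)
  have hinj : ∀ g, ψ g = 1 → g = 1 := by
    intro g hg
    rcases eq_one_or_eq_neg_one g (hker2 g hg) with h | h
    · exact h
    exfalso
    -- the central involution survives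
    have hz : (e (PresentedGroup.of 2)) ^ 2 = 1 := by
      rw [← map_pow, ← map_one e]
      exact congrArg e (PresentedGroup.one_of_mem (Or.inr (Or.inr (Or.inl rfl))))
    have hψ2 : ψ (e (PresentedGroup.of 2)) = a 2 := by simp [ψ, φ, PresentedGroup.toGroup.of]
    have ha2 : a 2 ≠ 1 := by decide
    rcases eq_one_or_eq_neg_one _ hz with h' | h'
    · exact ha2 (by rw [← hψ2, h', map_one])
    · exact ha2 (by rw [← hψ2, h', ← h, hg])
  haveI := nontrivial_SL_five
  have hfpf : ∀ g : Matrix.SpecialLinearGroup (Fin 2) (ZMod 5), g ≠ 1 →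
      IsUnit (((Matrix.SpecialLinearGroup.toGL.comp ψ) g : Matrix (Fin 2) (Fin 2) (ZMod 11)) - 1).det := by
    intro g hg
    rw [isUnit_iff_ne_zero]
    intro h0
    apply hg
    apply hinj
    -- an element with eigenvalue one is unipotent
    set M : Matrix (Fin 2) (Fin 2) (ZMod 11) := (ψ g : Matrix (Fin 2) (Fin 2) (ZMod 11)) with hM
    change (M - 1).det = 0 at h0
    have h1 : M.det = 1 := (ψ g).2
    rw [Matrix.det_fin_two] at h0 h1
    simp at h0
    have htr : M 0 0 + M 1 1 = 2 := by linear_combination h1 - h0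
    have hsq : (M - 1) * (M - 1) = 0 := by
      ext i j
      fin_cases i <;> fin_cases j <;> simp [Matrix.mul_apply, Fin.sum_univ_two] <;>
        first
          | linear_combination (M 0 0 - 1) * htr - h0
          | linear_combination (M 0 1) * htr
          | linear_combination (M 1 0) * htr
          | linear_combination (M 1 1 - 1) * htr - h0
    haveI : CharP (Matrix (Fin 2) (Fin 2) (ZMod 11)) 11 :=
      charP_of_injective_ringHom (f := Matrix.scalar (Fin 2)) (fun x y h => Matrix.scalar_inj.1 h) 11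
    have h11 : M ^ 11 = 1 := by
      have := sub_pow_char_of_commute (p := 11) (x := M) (y := 1) (Commute.one_right M)
      rw [one_pow, pow_succ, pow_succ, mul_assoc, hsq, mul_zero] at this
      exact (sub_eq_zero.1 this.symm)
    have hord : (ψ g) ^ 11 = 1 := Subtype.ext (by
      rw [Matrix.SpecialLinearGroup.coe_pow]
      exact h11)
    have h120 : orderOf g ∣ 120 := CfsgLib.Perm.Zass.card_SL_five ▸ orderOf_dvd_natCard g
    have : orderOf (ψ g) ∣ Nat.gcd 120 11 :=
      Nat.dvd_gcd ((orderOf_map_dvd ψ g).trans h120) (orderOf_dvd_of_pow_eq_one hord)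
    exact orderOf_eq_one_iff.1 (Nat.dvd_one.1 this)
  obtain ⟨L, i1, i2, H, h1, -, ⟨h3'⟩⟩ := CfsgLib.FgsC.exists_frobenius_of_matrix
    (R := ZMod 11) (d := 2) (by norm_num) (Matrix.SpecialLinearGroup (Fin 2) (ZMod 5))
    ((Units.coeHom _).comp (Matrix.SpecialLinearGroup.toGL.comp ψ)) hfpf
  exact ⟨L, i1, i2, H, h1, ⟨h3'.symm⟩⟩

end Cfsg.Agent.S3374
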