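import Cfsg.Statements.S3375

set_option autoImplicit false
open Cfsg

namespace Cfsg.Agent.S3375

/-- Let γ be an automorphism of order 2 of a finite group H. (i) If γ fixes only the identity, then H is abelian and γ inverts every element. (ii) If γ has exactly two fixed points and H has a subgroup of index 2, then H has a γ-invariant abelian subgroup of index 2 on which γ acts by inversion. -/
theorem result {H : Type*} [Group H] [Finite H] (γ : MulAut H) (hγ : orderOf γ = 2) :
    ((∀ h : H, γ h = h → h = 1) → (∀ a b : H, a * b = b * a) ∧ ∀ h : H, γ h = h⁻¹) ∧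
    ((Nat.card {h : H // γ h = h} = 2 ∧ ∃ M : Subgroup H, M.index = 2) →
      ∃ A : Subgroup H, A.index = 2 ∧ IsMulCommutative A ∧ (∀ a ∈ A, γ a ∈ A) ∧ ∀ a ∈ A, γ a = a⁻¹) := by
  have hinv : ∀ h, γ (γ h) = h := fun h => by
    rw [← MulAut.mul_apply, ← pow_two, ← hγ, pow_orderOf_eq_one, MulAut.one_apply]
  have himg : ∀ h : H, γ (h⁻¹ * γ h) = (h⁻¹ * γ h)⁻¹ := fun h => by
    rw [map_mul, map_inv, hinv, mul_inv_rev, inv_inv]
  refine ⟨fun hfix => ?_, fun ⟨hcard, M, hM⟩ => ?_⟩
  · have hinj : Function.Injective fun h : H => h⁻¹ * γ h := by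
      intro a b hab
      simp only at hab
      have h1 : γ (a * b⁻¹) = a * b⁻¹ := by
        rw [map_mul, map_inv, mul_inv_eq_iff_eq_mul, mul_assoc, ← hab]
        group
      exact mul_inv_eq_one.1 (hfix _ h1)
    have hall : ∀ h : H, γ h = h⁻¹ := fun h => by
      obtain ⟨x, rfl⟩ := (Finite.injective_iff_surjective.1 hinj) h
      exact himg x
    refine ⟨fun a b => ?_, hall⟩
    have h := hall (a⁻¹ * b⁻¹)
    rw [map_mul, hall, hall, inv_inv, inv_inv, mul_inv_rev, inv_inv, inv_inv] at h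
    exact h
  classical
  -- an invariant subgroup of index two
  obtain ⟨A, hA, hAinv⟩ : ∃ A : Subgroup H, A.index = 2 ∧ ∀ a ∈ A, γ a ∈ A := by
    by_cases hM' : ∀ a ∈ M, γ a ∈ M
    · exact ⟨M, hM, hM'⟩
    push_neg at hM'
    obtain ⟨c, hc, hcM⟩ := hM'
    let N : Subgroup H :=
      { carrier := {h | h ∈ M ↔ γ h ∈ M}
        one_mem' := by simp
        mul_mem' := fun {a b} ha hb => by
          simp only [Set.mem_setOf_eq] at ha hb ⊢
          rw [map_mul, Subgroup.mul_mem_iff_of_index_two hM, Subgroup.mul_mem_iff_of_index_two hM,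
            ha, hb]
        inv_mem' := fun {a} ha => by
          simp only [Set.mem_setOf_eq] at ha ⊢
          rw [map_inv, inv_mem_iff, inv_mem_iff, ha] }
    refine ⟨N, Subgroup.index_eq_two_iff.2 ⟨c, fun b => ?_⟩, fun a ha => ?_⟩
    · change Xor' (b * c ∈ M ↔ γ (b * c) ∈ M) (b ∈ M ↔ γ b ∈ M)
      rw [map_mul, Subgroup.mul_mem_iff_of_index_two hM, Subgroup.mul_mem_iff_of_index_two hM]
      simp only [Xor', hc, hcM]
      tauto
    · change γ a ∈ M ↔ γ (γ a) ∈ M
      rw [hinv]
      exact (show a ∈ M ↔ γ a ∈ M from ha).symm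
  haveI : Fintype H := Fintype.ofFinite H
  -- the commutators with `γ` fill `A`
  have hsub : ∀ h : H, h⁻¹ * γ h ∈ A := fun h => by
    rw [Subgroup.mul_mem_iff_of_index_two hA, inv_mem_iff]
    exact ⟨fun hh => hAinv h hh, fun hh => hinv h ▸ hAinv _ hh⟩
  have hall : ∀ a ∈ A, γ a = a⁻¹ := by
    have hfib : ∀ a ∈ (Finset.univ : Finset H).image (fun h => h⁻¹ * γ h),
        ((Finset.univ : Finset H).filter fun h => h⁻¹ * γ h = a).card ≤ 2 := by
      intro a ha
      obtain ⟨b, -, rfl⟩ := Finset.mem_image.1 ha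
      rw [← hcard, Nat.card_eq_fintype_card, Fintype.card_subtype]
      refine Finset.card_le_card_of_injOn (fun h => h * b⁻¹) (fun h hh => ?_)
        (fun x _ y _ hxy => mul_right_cancel hxy)
      have h1 : h⁻¹ * γ h = b⁻¹ * γ b := (Finset.mem_filter.1 hh).2
      refine Finset.mem_filter.2 ⟨Finset.mem_univ _, ?_⟩
      rw [map_mul, map_inv, mul_inv_eq_iff_eq_mul, mul_assoc, ← h1]
      group
    have hle := Finset.card_le_mul_card_image (Finset.univ : Finset H) 2 hfib
    have hA2 := A.card_mul_index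
    rw [hA, Nat.card_eq_fintype_card (α := H)] at hA2
    rw [Finset.card_univ] at hle
    have heq : (Finset.univ : Finset H).image (fun h => h⁻¹ * γ h) =
        Finset.univ.filter fun a => a ∈ A := by
      refine Finset.eq_of_subset_of_card_le (fun a ha => ?_) ?_
      · obtain ⟨b, -, rfl⟩ := Finset.mem_image.1 ha
        exact Finset.mem_filter.2 ⟨Finset.mem_univ _, hsub b⟩
      · rw [← Fintype.card_subtype, ← Nat.card_eq_fintype_card]
        omega
    intro a ha
    have : a ∈ (Finset.univ : Finset H).image (fun h => h⁻¹ * γ h) := by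
      rw [heq]; exact Finset.mem_filter.2 ⟨Finset.mem_univ _, ha⟩
    obtain ⟨b, -, rfl⟩ := Finset.mem_image.1 this
    exact himg b
  refine ⟨A, hA, ⟨⟨fun a b => Subtype.ext ?_⟩⟩, hAinv, hall⟩
  have h := hall _ (A.mul_mem (A.inv_mem a.2) (A.inv_mem b.2))
  rw [map_mul, hall _ (A.inv_mem a.2), hall _ (A.inv_mem b.2), inv_inv, inv_inv, mul_inv_rev,
    inv_inv, inv_inv] at h
  exact h

end Cfsg.Agent.S3375
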