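import Cfsg.Statements.S3379

set_option autoImplicit false
open Cfsg

namespace Cfsg.Agent.S3379

/-- Let G be a finite group all of whose Sylow subgroups are cyclic. Then G is generated by two elements x and y of coprime orders n and m with x⁻¹yx = y^r, where gcd(r − 1, m) = 1 and r^n ≡ 1 (mod m). -/
theorem result {G : Type*} [Group G] [Finite G]
    (hZ : ∀ (p : ℕ) [Fact p.Prime] (P : Sylow p G), IsCyclic (P : Subgroup G)) :
    ∃ (x y : G) (n m r : ℕ), Subgroup.closure {x, y} = ⊤ ∧ orderOf x = n ∧ orderOf y = m ∧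
      x⁻¹ * y * x = y ^ r ∧ Nat.Coprime (r - 1) m ∧ Nat.Coprime n m ∧ 1 ≤ r ∧ r ^ n % m = 1 % m := by
  haveI hz : IsZGroup G := ⟨fun p hp P => @hZ p ⟨hp⟩ P⟩
  haveI := IsZGroup.isCyclic_commutator (G := G)
  have hcop := IsZGroup.coprime_commutator_index (G := G)
  obtain ⟨⟨y, hy⟩, hgen⟩ := IsCyclic.exists_generator (α := commutator G)
  obtain ⟨K, hK⟩ := Subgroup.exists_right_complement'_of_coprime (N := commutator G) hcop
  -- `K` is cyclic
  have hKc : IsCyclic K := by
    refine isCyclic_of_injective ((Abelianization.of (G := G)).comp K.subtype) ?_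
    rw [injective_iff_map_eq_one]
    intro k hk
    have hmem : (k : G) ∈ commutator G := by
      rw [← Abelianization.ker_of]
      exact hk
    have h : (k : G) ∈ commutator G ⊓ K := ⟨hmem, k.2⟩
    rw [hK.disjoint.eq_bot, Subgroup.mem_bot] at h
    exact Subtype.ext h
  obtain ⟨⟨x, hx⟩, hxgen⟩ := IsCyclic.exists_generator (α := K)
  have hcl : Subgroup.closure {x, y} = ⊤ := by
    rw [eq_top_iff, ← hK.sup_eq_top, sup_le_iff]
    constructor
    · intro a ha
      obtain ⟨k, hk⟩ := Subgroup.mem_zpowers_iff.1 (hgen ⟨a, ha⟩)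
      have : y ^ k = a := congrArg Subtype.val hk
      exact this ▸ Subgroup.zpow_mem _ (Subgroup.subset_closure (by simp)) k
    · intro a ha
      obtain ⟨k, hk⟩ := Subgroup.mem_zpowers_iff.1 (hxgen ⟨a, ha⟩)
      have : x ^ k = a := congrArg Subtype.val hk
      exact this ▸ Subgroup.zpow_mem _ (Subgroup.subset_closure (by simp)) k
  have hm0 : 0 < orderOf y := orderOf_pos y
  have hcomm : Subgroup.zpowers y = commutator G := by
    refine le_antisymm ((Subgroup.zpowers_le).2 hy) fun a ha => ?_
    obtain ⟨k, hk⟩ := Subgroup.mem_zpowers_iff.1 (hgen ⟨a, ha⟩)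
    exact ⟨k, congrArg Subtype.val hk⟩
  obtain ⟨j, hj, hjr⟩ : ∃ j, j < orderOf y ∧ x⁻¹ * y * x = y ^ j := by
    have hmem : x⁻¹ * y * x ∈ Submonoid.powers y := by
      rw [mem_powers_iff_mem_zpowers, hcomm]
      simpa using (inferInstance : (commutator G).Normal).conj_mem y hy x⁻¹
    obtain ⟨k, hk⟩ := hmem
    exact ⟨k % orderOf y, Nat.mod_lt _ hm0, by rw [pow_mod_orderOf]; exact hk.symm⟩
  -- a representative `r ≥ 1`
  obtain ⟨r, hr1, hr⟩ : ∃ r, 1 ≤ r ∧ x⁻¹ * y * x = y ^ r := by
    refine ⟨j + orderOf y, by omega, ?_⟩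
    rw [pow_add, pow_orderOf_eq_one, mul_one, hjr]
  have hconj : ∀ k : ℕ, x⁻¹ ^ k * y * x ^ k = y ^ (r ^ k) := by
    intro k
    induction k with
    | zero => simp
    | succ k ih =>
      calc x⁻¹ ^ (k + 1) * y * x ^ (k + 1) = x⁻¹ * (x⁻¹ ^ k * y * x ^ k) * x := by
            rw [pow_succ', pow_succ]; group
        _ = (x⁻¹ * y * x) ^ (r ^ k) := by
            rw [ih, show x⁻¹ * y * x = x⁻¹ * y * (x⁻¹)⁻¹ by rw [inv_inv], conj_pow, inv_inv]
        _ = y ^ (r ^ (k + 1)) := by rw [hr, ← pow_mul, pow_succ']
  have hn : orderOf x = (commutator G).index := by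
    rw [← Nat.card_zpowers, hK.symm.index_eq_card]
    congr 1
    have : Subgroup.zpowers x = K := by
      refine le_antisymm ((Subgroup.zpowers_le).2 hx) fun a ha => ?_
      obtain ⟨k, hk⟩ := Subgroup.mem_zpowers_iff.1 (hxgen ⟨a, ha⟩)
      exact ⟨k, congrArg Subtype.val hk⟩
    rw [this]
  have hm : orderOf y = Nat.card (commutator G) := by rw [← hcomm, Nat.card_zpowers]
  refine ⟨x, y, orderOf x, orderOf y, r, hcl, rfl, rfl, hr, ?_, ?_, hr1, ?_⟩
  · -- the powers of `y ^ (r - 1)` form a normal subgroup with abelian quotient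
    set z := y ^ (r - 1) with hz'
    have hzc : (x⁻¹ * z * x) ∈ Subgroup.zpowers z := by
      refine ⟨(r : ℤ), ?_⟩
      change z ^ (r : ℤ) = _
      rw [zpow_natCast, hz', show x⁻¹ * y ^ (r - 1) * x = x⁻¹ * y ^ (r - 1) * (x⁻¹)⁻¹ by rw [inv_inv],
        ← conj_pow, inv_inv, hr, ← pow_mul, ← pow_mul, mul_comm]
    let N := Subgroup.zpowers z
    have hNn : N.Normal := by
      constructor
      intro a ha g
      obtain ⟨k, rfl⟩ := ha
      have hzg : g * z * g⁻¹ ∈ N := by
        have hset : g ∈ Subgroup.normalizer (N : Set G) := by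
          have : Subgroup.closure {x, y} ≤ Subgroup.normalizer (N : Set G) := by
            rw [Subgroup.closure_le]
            rintro w (rfl | rfl)
            · have hle : ∀ a ∈ N, w⁻¹ * a * w ∈ N := by
                rintro a ⟨k, rfl⟩
                change w⁻¹ * z ^ k * w ∈ N
                rw [show w⁻¹ * z ^ k * w = (w⁻¹ * z * w) ^ k by
                  rw [show w⁻¹ * z * w = w⁻¹ * z * (w⁻¹)⁻¹ by rw [inv_inv], conj_zpow, inv_inv]]
                exact N.zpow_mem hzc k
              have heq : N.map (MulAut.conj w⁻¹).toMonoidHom = N := by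
                refine Subgroup.eq_of_le_of_card_ge ?_ ?_
                · rintro _ ⟨a, ha, rfl⟩
                  simpa using hle a ha
                · rw [Subgroup.card_map_of_injective (MulAut.conj w⁻¹).injective]
              rw [SetLike.mem_coe, Subgroup.mem_normalizer_iff]
              intro a
              constructor
              · intro ha
                rw [← heq] at ha
                obtain ⟨b, hb, rfl⟩ := ha
                simpa [mul_assoc] using hb
              · intro ha
                simpa [mul_assoc] using hle _ ha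
            · rw [SetLike.mem_coe, Subgroup.mem_normalizer_iff]
              intro a
              constructor
              · rintro ⟨k, rfl⟩
                have hc : Commute w (z ^ k) := ((Commute.refl w).pow_right _).zpow_right k
                exact ⟨k, show z ^ k = w * z ^ k * w⁻¹ by rw [hc.eq, mul_inv_cancel_right]⟩
              · rintro ⟨k, hk⟩
                refine ⟨k, ?_⟩
                have h : a = w⁻¹ * z ^ k * w := by rw [show z ^ k = w * a * w⁻¹ from hk]; group
                have hc : Commute w (z ^ k) := ((Commute.refl w).pow_right _).zpow_right k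
                rw [h, mul_assoc, ← hc.eq, inv_mul_cancel_left]
          exact this (hcl ▸ Subgroup.mem_top g)
        exact (Subgroup.mem_normalizer_iff.1 hset z).1 (Subgroup.mem_zpowers z)
      change g * z ^ k * g⁻¹ ∈ N
      rw [← conj_zpow]
      exact N.zpow_mem hzg k
    have hle : commutator G ≤ N := by
      rw [commutator_def]
      haveI := hNn
      suffices h : ∀ a b : G ⧸ N, a * b = b * a by
        rw [Subgroup.commutator_le]
        intro a _ b _
        rw [← QuotientGroup.eq_one_iff, commutatorElement_def]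
        change ((a : G ⧸ N) * b * (a : G ⧸ N)⁻¹ * (b : G ⧸ N)⁻¹) = 1
        rw [h (a : G ⧸ N) b]; group
      have hxy : Commute (QuotientGroup.mk' N x) (QuotientGroup.mk' N y) := by
        change _ = _
        rw [← map_mul, ← map_mul, QuotientGroup.mk'_eq_mk']
        refine ⟨(x * y)⁻¹ * (y * x), ?_, by group⟩
        have : (x * y)⁻¹ * (y * x) = y⁻¹ * (x⁻¹ * y * x) := by group
        rw [this, hr]
        exact ⟨1, by
          simp only [zpow_one, hz']
          rw [eq_inv_mul_iff_mul_eq, ← pow_succ', Nat.sub_add_cancel hr1]⟩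
      have hclq : Subgroup.closure {QuotientGroup.mk' N x, QuotientGroup.mk' N y} = ⊤ := by
        rw [← Set.image_pair, ← MonoidHom.map_closure, hcl,
          Subgroup.map_top_of_surjective _ (QuotientGroup.mk'_surjective N)]
      have hcq := Subgroup.isMulCommutative_closure
        (k := {QuotientGroup.mk' N x, QuotientGroup.mk' N y})
        (by rintro a (rfl | rfl) b (rfl | rfl) <;> first | rfl | exact hxy | exact hxy.symm)
      intro a b
      have ha : a ∈ Subgroup.closure {QuotientGroup.mk' N x, QuotientGroup.mk' N y} :=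
        hclq ▸ Subgroup.mem_top a
      have hb : b ∈ Subgroup.closure {QuotientGroup.mk' N x, QuotientGroup.mk' N y} :=
        hclq ▸ Subgroup.mem_top b
      exact congrArg Subtype.val (hcq.is_comm.comm ⟨a, ha⟩ ⟨b, hb⟩)
    have hcardle : orderOf y ≤ orderOf z := by
      rw [hm, ← Nat.card_zpowers z]
      exact Subgroup.card_le_of_le hle
    have hzo : orderOf z = orderOf y / Nat.gcd (orderOf y) (r - 1) := by
      rw [hz', orderOf_pow]
    rw [hzo] at hcardle
    have hg : Nat.gcd (orderOf y) (r - 1) = 1 := by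
      by_contra hne
      have hpos : 0 < Nat.gcd (orderOf y) (r - 1) := Nat.gcd_pos_of_pos_left _ hm0
      have := Nat.div_lt_self hm0 (show 1 < Nat.gcd (orderOf y) (r - 1) by omega)
      omega
    rw [Nat.coprime_comm]
    exact hg
  · rw [hn, hm]
    exact hcop.symm
  · have h := hconj (orderOf x)
    rw [pow_orderOf_eq_one, mul_one, inv_pow, pow_orderOf_eq_one, inv_one, one_mul] at h
    exact (pow_eq_pow_iff_modEq.1 ((pow_one y).trans h)).symm

end Cfsg.Agent.S3379
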