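import Cfsg.Statements.S3380
import Cfsg.Agent.Lib.Involutions.AbelianNormalCyclic
import Cfsg.Agent.Lib.PGroups.UniqueOrderP
import Cfsg.Agent.Lib.PGroups.Basic

open Subgroup
open scoped commutatorElement

theorem exists_normal_plane {G : Type*} [Group G] [Finite G] {p : ℕ} [Fact p.Prime]
    (hG : IsPGroup p G) (hnc : ¬ IsCyclic G)
    (hnq : ∀ n : ℕ, ¬ Nonempty (G ≃* QuaternionGroup n))
    (hnd : ∀ n : ℕ, ¬ Nonempty (G ≃* DihedralGroup n)) (hnsd : ¬ Cfsg.IsQuasiDihedral G) :
    ∃ A : Subgroup G, A.Normal ∧ Nat.card A = p ^ 2 ∧ (∀ a ∈ A, a ^ p = 1) ∧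
      ∀ a ∈ A, ∀ b ∈ A, a * b = b * a := by
  have hp : p.Prime := Fact.out
  haveI : Nontrivial G := not_subsingleton_iff_nontrivial.mp fun h => hnc isCyclic_of_subsingleton
  obtain ⟨B, hBn, hBa, hBc⟩ : ∃ B : Subgroup G, B.Normal ∧ IsMulCommutative B ∧ ¬ IsCyclic B := by
    by_contra hcon
    push Not at hcon
    have hm : ∃ B : Subgroup G, IsMulCommutative B ∧ ¬ IsCyclic B := by
      by_contra hm
      push Not at hm
      obtain ⟨c, hc⟩ := exists_prime_orderOf_dvd_card' p
        (CfsgLib.PGroups.dvd_card_of_ne_bot hG (CfsgLib.PGroups.inf_center_ne_bot hG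
          (N := (⊤ : Subgroup G)) top_ne_bot))
      have hzc : (c : G) ∈ center G := c.2.2
      have hzo : orderOf (c : G) = p := by rw [Subgroup.orderOf_coe, hc]
      rcases CfsgLib.PGroups.isCyclic_or_quaternion_of_unique hG (z := (c : G))
        (by rw [← hzo]; exact pow_orderOf_eq_one _) (fun y hy => by
          by_contra hyz
          have hy1 : y ≠ 1 := fun h => hyz (h ▸ one_mem _)
          have hyo : orderOf y = p := orderOf_eq_prime hy hy1
          haveI hK : IsMulCommutative (closure ({(c : G), y} : Set G)) :=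
            isMulCommutative_closure (by
              intro a ha b hb
              rcases ha with rfl | rfl <;> rcases hb with rfl | rfl
              · rfl
              · exact (mem_center_iff.mp hzc _).symm
              · exact mem_center_iff.mp hzc _
              · rfl)
          haveI := hm _ hK
          have hcm : (c : G) ∈ closure ({(c : G), y} : Set G) := subset_closure (Set.mem_insert _ _)
          have hym : y ∈ closure ({(c : G), y} : Set G) :=
            subset_closure (Set.mem_insert_of_mem _ rfl)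
          classical
          haveI := Fintype.ofFinite ↥(closure ({(c : G), y} : Set G))
          have hzs : orderOf (⟨(c : G), hcm⟩ : closure ({(c : G), y} : Set G)) = p := by
            rw [Subgroup.orderOf_mk, hzo]
          have h2 : (⟨y, hym⟩ : closure ({(c : G), y} : Set G)) ∈ zpowers ⟨(c : G), hcm⟩ := by
            let R : Set ↥(closure ({(c : G), y} : Set G)) :=
              ↑(zpowers (⟨(c : G), hcm⟩ : closure ({(c : G), y} : Set G)))
            have hsub : R.toFinset ⊆ Finset.univ.filter fun w => w ^ p = 1 := by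
              intro w hw
              rw [Set.mem_toFinset, SetLike.mem_coe, mem_zpowers_iff] at hw
              obtain ⟨k, rfl⟩ := hw
              rw [Finset.mem_filter]
              refine ⟨Finset.mem_univ _, ?_⟩
              rw [← zpow_natCast, ← zpow_mul, mul_comm, zpow_mul, zpow_natCast, ← hzs,
                pow_orderOf_eq_one, one_zpow]
            have heq := Finset.eq_of_subset_of_card_le hsub (by
              refine (IsCyclic.card_pow_eq_one_le hp.pos).trans ?_
              rw [← Set.ncard_eq_toFinset_card', ← Nat.card_coe_set_eq]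
              exact (Nat.card_zpowers _).trans hzs |>.ge)
            rw [← SetLike.mem_coe, ← Set.mem_toFinset, heq, Finset.mem_filter]
            exact ⟨Finset.mem_univ _, Subtype.ext hy⟩
          obtain ⟨i, hi⟩ := mem_zpowers_iff.mp h2
          exact hyz (mem_zpowers_iff.mpr ⟨i, by simpa using congrArg Subtype.val hi⟩)) with
        h | ⟨-, n, -, hn⟩
      · exact hnc h
      · exact hnq _ hn
    rcases (CfsgLib.Involutions.abelianNormalCyclic_main hG (fun A h1 h2 => hcon A h1 h2) hm).2 with
      ⟨n, hn⟩ | ⟨n, -, hn⟩ | h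
    · exact hnq n hn
    · exact hnd n hn
    · exact hnsd h
  haveI := hBn
  haveI := hBa
  have hcomm : ∀ a ∈ B, ∀ b ∈ B, a * b = b * a := fun a ha b hb =>
    congrArg Subtype.val (hBa.is_comm.comm ⟨a, ha⟩ ⟨b, hb⟩)
  let O : Subgroup G :=
    { carrier := {a | a ∈ B ∧ a ^ p = 1}
      mul_mem' := fun {a b} ha hb => ⟨mul_mem ha.1 hb.1, by
        rw [Commute.mul_pow (hcomm a ha.1 b hb.1), ha.2, hb.2, mul_one]⟩
      one_mem' := ⟨one_mem _, one_pow p⟩
      inv_mem' := fun {a} ha => ⟨inv_mem ha.1, by rw [inv_pow, ha.2, inv_one]⟩ }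
  haveI hOn : O.Normal := ⟨fun a ha g => ⟨hBn.conj_mem a ha.1 g, by
    rw [conj_pow, ha.2, mul_one, mul_inv_cancel]⟩⟩
  have hO : p ^ 2 ≤ Nat.card O := by
    obtain ⟨n, hn⟩ := CfsgLib.PGroups.card_subgroup_eq_pow hG O
    by_contra hlt
    push Not at hlt
    rw [hn] at hlt
    have hn2 : n < 2 := (Nat.pow_lt_pow_iff_right hp.one_lt).mp hlt
    haveI : IsCyclic O := by
      interval_cases n
      · rw [pow_zero, Subgroup.card_eq_one] at hn
        rw [hn]; infer_instance
      · exact isCyclic_of_prime_card (p := p) (by rw [hn, pow_one])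
    obtain ⟨o, ho⟩ := IsCyclic.exists_generator (α := O)
    refine hBc (CfsgLib.PGroups.isCyclic_of_abelian_of_unique (hG.to_subgroup B)
      (z := ⟨(o : G), o.2.1⟩) (fun y hy => ?_) (Subtype.ext (by simpa using o.2.2)))
    obtain ⟨i, hi⟩ := mem_zpowers_iff.mp (ho ⟨(y : G), y.2, by simpa using congrArg Subtype.val hy⟩)
    exact mem_zpowers_iff.mpr ⟨i, Subtype.ext (by simpa using congrArg Subtype.val hi)⟩
  obtain ⟨A, hAn, -, hAO, hAc⟩ := CfsgLib.PGroups.exists_normal_card_eq hG (N := ⊥) (M := O)
    bot_le (k := 2) (by simp [Nat.one_le_pow, hp.pos]) hO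
  exact ⟨A, hAn, hAc, fun a ha => (hAO ha).2, fun a ha b hb => hcomm a (hAO ha).1 b (hAO hb).1⟩

theorem orderOf_addRight {α : Type*} [AddGroup α] {p : ℕ} [Fact p.Prime] {c : α} (hc : c ≠ 0)
    (hpc : p • c = 0) : orderOf (Equiv.addRight c : Equiv.Perm α) = p := by
  have hpow : ∀ (n : ℕ) (x : α), ((Equiv.addRight c : Equiv.Perm α) ^ n) x = x + n • c := by
    intro n
    induction n with
    | zero => simp
    | succ n ih =>
      intro x
      rw [pow_succ', Equiv.Perm.mul_apply, ih, succ_nsmul, Equiv.coe_addRight]; exact add_assoc _ _ _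
  refine orderOf_eq_prime ?_ fun h => hc ?_
  · ext x
    rw [hpow, hpc, add_zero, Equiv.Perm.one_apply]
  · simpa using congrArg (fun e : Equiv.Perm α => e 0) h

set_option autoImplicit false
open Cfsg

namespace Cfsg.Agent.S3380

/-- Let a finite p-group G act faithfully and irreducibly on a non-trivial finite vector space V over the field with q elements (q prime), and suppose G is not cyclic, generalized quaternion, dihedral or semidihedral. Then G has a subgroup H of index p and V is the direct sum of p subspaces, each invariant under H, on none of which H acts faithfully, and which every element of G outside H permutes in a single p-cycle. -/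
theorem result
    (q : ℕ) [Fact q.Prime] {V : Type*} [AddCommGroup V] [Module (ZMod q) V] [Finite V] [Nontrivial V]
    {G : Type*} [Group G] [Finite G] (p : ℕ) [Fact p.Prime] (hG : IsPGroup p G)
    (ρ : G →* (V ≃ₗ[ZMod q] V)) (hρ : Function.Injective ρ)
    (hirr : ∀ W : Submodule (ZMod q) V, (∀ g : G, ∀ w ∈ W, ρ g w ∈ W) → W = ⊥ ∨ W = ⊤)
    (hnc : ¬ IsCyclic G) (hnq : ∀ n : ℕ, ¬ Nonempty (G ≃* QuaternionGroup n))
    (hnd : ∀ n : ℕ, ¬ Nonempty (G ≃* DihedralGroup n)) (hnsd : ¬ Cfsg.IsQuasiDihedral G) :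
    ∃ (H : Subgroup G) (W : Fin p → Submodule (ZMod q) V), H.index = p ∧
      iSup W = ⊤ ∧ iSupIndep W ∧
      (∀ h ∈ H, ∀ i, ∀ w ∈ W i, ρ h w ∈ W i) ∧
      (∀ i, ∃ h ∈ H, h ≠ 1 ∧ ∀ w ∈ W i, ρ h w = w) ∧
      ∀ g : G, g ∉ H → ∃ σ : Equiv.Perm (Fin p), orderOf σ = p ∧ ∀ i, (W i).map (ρ g : V →ₗ[ZMod q] V) = W (σ i) := by
  classical
  have hp : p.Prime := Fact.out
  haveI : NeZero p := ⟨hp.ne_zero⟩
  obtain ⟨A, hAn, hAc, hAe, hAab⟩ := exists_normal_plane hG hnc hnq hnd hnsd
  haveI := hAn
  let E : G →* Module.End (ZMod q) V :=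
    { toFun := fun g => (ρ g : V →ₗ[ZMod q] V)
      map_one' := by ext v; simp
      map_mul' := fun a b => by ext v; simp }
  have hEap : ∀ (g : G) (v : V), E g v = ρ g v := fun _ _ => rfl
  -- q ≠ p
  have hqp : q ≠ p := by
    intro hqp
    letI : MulAction G V := MulAction.compHom V ρ
    have hsm : ∀ (g : G) (v : V), g • v = ρ g v := fun _ _ => rfl
    have hdvd : p ∣ Nat.card V := by
      subst hqp
      have hsc : (q : ZMod q) = 0 := ZMod.natCast_self q
      obtain ⟨v, hv⟩ := exists_ne (0 : V)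
      have hvo : addOrderOf v = q := addOrderOf_eq_prime (by
        rw [← Nat.cast_smul_eq_nsmul (ZMod q), hsc, zero_smul]) hv
      exact hvo ▸ addOrderOf_dvd_natCard v
    obtain ⟨w, hw, hw0⟩ := hG.exists_fixed_point_of_prime_dvd_card_of_fixed_point V hdvd
      (a := (0 : V)) (fun g => by rw [hsm]; exact map_zero _)
    let W0 : Submodule (ZMod q) V :=
      { carrier := {v | ∀ g : G, ρ g v = v}
        add_mem' := fun {a b} ha hb g => by rw [map_add, ha g, hb g]
        zero_mem' := fun g => map_zero _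
        smul_mem' := fun c {a} ha g => by rw [map_smul, ha g] }
    rcases hirr W0 (fun g v hv => fun g' => by rw [hv g]; exact hv g') with h | h
    · have hmem : w ∈ W0 := fun g => by rw [← hsm]; exact hw g
      rw [h, Submodule.mem_bot] at hmem
      exact hw0 hmem.symm
    · apply hnc
      haveI : Subsingleton G := ⟨fun a b => hρ (LinearEquiv.ext fun v => by
        have hv : v ∈ W0 := h ▸ Submodule.mem_top
        rw [hv a, hv b])⟩
      exact isCyclic_of_subsingleton
  have hpq : (p : ZMod q) ≠ 0 := fun h => by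
    rw [ZMod.natCast_eq_zero_iff] at h
    exact hqp ((Nat.prime_dvd_prime_iff_eq Fact.out hp).mp h)
  -- fixed spaces
  let Fx : G → Submodule (ZMod q) V := fun a => LinearMap.ker (E a - 1)
  have hFx : ∀ (a : G) (v : V), v ∈ Fx a ↔ ρ a v = v := fun a v => by
    simp [Fx, LinearMap.mem_ker, sub_eq_zero, hEap]
  let T : G → Module.End (ZMod q) V := fun a => ∑ k ∈ Finset.range p, E a ^ k
  have hTfix : ∀ (a : G) (v : V), ρ a v = v → T a v = (p : ZMod q) • v := by
    intro a v hv
    have : ∀ k : ℕ, (E a ^ k) v = v := by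
      intro k
      induction k with
      | zero => rfl
      | succ k ih => rw [pow_succ', Module.End.mul_apply, ih, hEap, hv]
    simp [T, LinearMap.sum_apply, this, Nat.cast_smul_eq_nsmul]
  have hTmem : ∀ (a : G), a ^ p = 1 → ∀ v : V, T a v ∈ Fx a := by
    intro a ha v
    rw [hFx, ← hEap]
    have h := LinearMap.congr_fun (mul_geom_sum (E a) p) v
    rw [← map_pow, ha, map_one, sub_self, LinearMap.zero_apply, Module.End.mul_apply,
      LinearMap.sub_apply, Module.End.one_apply, sub_eq_zero] at h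
    exact h
  have hTcen : ∀ a : G, a ∈ Subgroup.center G → a ≠ 1 → a ^ p = 1 → T a = 0 := by
    intro a ha ha1 hap
    rcases hirr (Fx a) (fun g v hv => by
      rw [hFx] at hv ⊢
      have : ρ a (ρ g v) = ρ g (ρ a v) := by
        rw [← LinearEquiv.mul_apply, ← map_mul, ← Subgroup.mem_center_iff.mp ha g, map_mul,
          LinearEquiv.mul_apply]
      rw [this, hv]) with h | h
    · exact LinearMap.ext fun v => (Submodule.mem_bot _).mp (h ▸ hTmem a hap v)
    · exact absurd (hρ (LinearEquiv.ext fun v => by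
        rw [map_one]; exact (hFx a v).mp (h ▸ Submodule.mem_top))) ha1
  -- generators z, a1
  have hAne : A ≠ ⊥ := fun h => by
    rw [h, Subgroup.card_bot] at hAc; exact absurd hAc.symm (by
      simp [hp.ne_one])
  obtain ⟨⟨z, hzA, hzC⟩, hz⟩ : ∃ z : ↥(A ⊓ Subgroup.center G), z ≠ 1 := by
    haveI := Subgroup.nontrivial_iff_ne_bot _ |>.mpr (CfsgLib.PGroups.inf_center_ne_bot hG hAne)
    exact exists_ne 1
  have hz1 : z ≠ 1 := fun h => hz (Subtype.ext h)
  have hzo : orderOf z = p := orderOf_eq_prime (hAe z hzA) hz1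
  obtain ⟨a, haA, haz⟩ : ∃ a ∈ A, a ∉ Subgroup.zpowers z := by
    refine SetLike.not_le_iff_exists.mp fun hle => ?_
    have := Subgroup.card_le_of_le hle
    rw [hAc, Nat.card_zpowers, hzo] at this
    nlinarith [hp.two_le]
  -- exponent map
  let ze : ZMod p → G := fun i => z ^ i.val
  have hzeA : ∀ i, ze i ∈ A := fun i => pow_mem hzA _
  have hzeC : ∀ i, ze i ∈ Subgroup.center G := fun i => pow_mem hzC _
  have hadd : ∀ i j, ze (i + j) = ze i * ze j := fun i j => by
    show z ^ (i + j).val = z ^ i.val * z ^ j.val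
    rw [← pow_add, ZMod.val_add]
    conv_rhs => rw [← pow_mod_orderOf, hzo]
  have hze1 : ∀ i, ze i = 1 → i = 0 := fun i h => by
    have h2 := orderOf_dvd_of_pow_eq_one (h : z ^ i.val = 1)
    rw [hzo] at h2
    exact (ZMod.val_eq_zero i).mp (Nat.eq_zero_of_dvd_of_lt h2 (ZMod.val_lt i))
  let b : ZMod p → G := fun i => ze i * a
  have hbA : ∀ i, b i ∈ A := fun i => mul_mem (hzeA i) haA
  have hb1 : ∀ i, b i ≠ 1 := fun i h => haz (by
    rw [eq_inv_of_mul_eq_one_right h]; exact inv_mem (pow_mem (Subgroup.mem_zpowers z) _))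
  have hbadd : ∀ i c, b (i + c) = ze c * b i := fun i c => by
    show ze (i + c) * a = ze c * (ze i * a)
    rw [add_comm, hadd, mul_assoc]
  let W : ZMod p → Submodule (ZMod q) V := fun i => Fx (b i)
  -- independence
  have hind : iSupIndep W := by
    intro i
    rw [Submodule.disjoint_def]
    intro v hv hv'
    have hker : (⨆ (j) (_ : j ≠ i), W j) ≤ LinearMap.ker (T (b i)) := by
      refine iSup₂_le fun j hj w hw => ?_
      rw [LinearMap.mem_ker]
      have hw' : ρ (b j) w = w := (hFx _ _).mp hw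
      have hd : b i = ze (i - j) * b j := by rw [← hbadd, add_sub_cancel]
      have hkj : ∀ k : ℕ, (E (b j) ^ k) w = w := by
        intro k
        induction k with
        | zero => rfl
        | succ k ih => rw [pow_succ', Module.End.mul_apply, ih, hEap, hw']
      have heq : ∀ k : ℕ, (E (b i) ^ k) w = (E (ze (i - j)) ^ k) w := by
        intro k
        rw [hd, map_mul, Commute.mul_pow (by
          show E _ * E _ = E _ * E _
          rw [← map_mul, ← map_mul, Subgroup.mem_center_iff.mp (hzeC (i - j)) (b j)]),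
          Module.End.mul_apply, hkj]
      have hT := LinearMap.congr_fun (hTcen (ze (i - j)) (hzeC _)
        (fun h => hj (sub_eq_zero.mp (hze1 _ h)).symm) (hAe _ (hzeA _))) w
      simpa [T, LinearMap.sum_apply, heq] using hT
    have h1 := hTfix (b i) v ((hFx _ _).mp hv)
    rw [LinearMap.mem_ker.mp (hker hv')] at h1
    exact (smul_eq_zero.mp h1.symm).resolve_left hpq
  -- spanning
  have htop : iSup W = ⊤ := by
    rw [eq_top_iff]
    intro v _
    have key : (∑ i, T (b i)) v = (p : ZMod q) • v := by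
      simp only [T, LinearMap.sum_apply]
      rw [Finset.sum_comm, Finset.sum_eq_single 0]
      · simp [Nat.cast_smul_eq_nsmul]
      · intro k hk hk0
        rw [Finset.mem_range] at hk
        have hze : ∀ i : ZMod p, (E (b i) ^ k) v = (E (z ^ k) ^ i.val) ((E a ^ k) v) := by
          intro i
          rw [show E (b i) = E (ze i) * E a from map_mul E _ _, Commute.mul_pow (by
            show E _ * E _ = E _ * E _
            rw [← map_mul, ← map_mul, Subgroup.mem_center_iff.mp (hzeC i) a]),
            Module.End.mul_apply, ← map_pow, ← map_pow E (z ^ k), ← pow_mul,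
            mul_comm i.val k, pow_mul]
        rw [Finset.sum_congr rfl fun i _ => hze i]
        have hzk : z ^ k ≠ 1 := fun h => by
          have h2 := Nat.le_of_dvd (Nat.pos_of_ne_zero hk0) (orderOf_dvd_of_pow_eq_one h)
          omega
        have h0 : T (z ^ k) = 0 := hTcen _ (pow_mem hzC k) hzk (hAe _ (pow_mem hzA k))
        have h1 := LinearMap.congr_fun h0 ((E a ^ k) v)
        simp only [T, LinearMap.sum_apply, LinearMap.zero_apply] at h1
        rw [← h1]
        refine Finset.sum_bij' (fun i _ => i.val) (fun n _ => (n : ZMod p))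
          (fun i _ => Finset.mem_range.mpr (ZMod.val_lt i)) (fun n _ => Finset.mem_univ _)
          (fun i _ => ZMod.natCast_zmod_val i)
          (fun n hn => ZMod.val_cast_of_lt (Finset.mem_range.mp hn)) (fun i _ => rfl)
      · intro h; exact absurd (Finset.mem_range.mpr hp.pos) h
    have hmem : (∑ i, T (b i)) v ∈ iSup W := by
      rw [LinearMap.sum_apply]
      exact Submodule.sum_mem _ fun i _ =>
        Submodule.mem_iSup_of_mem i (hTmem (b i) (hAe _ (hbA i)) v)
    rw [key] at hmem
    exact (Submodule.smul_mem_iff _ hpq).mp hmem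
  -- the commutator homomorphism
  have hcm : ∀ g : G, g * a * g⁻¹ * a⁻¹ ∈ Subgroup.zpowers z := by
    intro g
    set N := Subgroup.zpowers z with hN
    haveI : N.Normal := CfsgLib.PGroups.normal_of_le_center (Subgroup.zpowers_le.mpr hzC)
    haveI : (A.map (QuotientGroup.mk' N)).Normal :=
      hAn.map _ (QuotientGroup.mk'_surjective N)
    have hmem : QuotientGroup.mk' N a ∈ A.map (QuotientGroup.mk' N) := ⟨a, haA, rfl⟩
    have hne : A.map (QuotientGroup.mk' N) ≠ ⊥ := fun h => haz (by
      rw [h, Subgroup.mem_bot] at hmem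
      exact (QuotientGroup.eq_one_iff a).mp hmem)
    have hbnd : Nat.card (A.map (QuotientGroup.mk' N)) = p := by
      have h := Subgroup.relIndex_ker (QuotientGroup.mk' N) (K := A)
      rw [QuotientGroup.ker_mk'] at h
      have h2 : Nat.card (N.subgroupOf A) * N.relIndex A = Nat.card A :=
        (N.subgroupOf A).card_mul_index
      rw [Nat.card_congr (Subgroup.subgroupOfEquivOfLe (Subgroup.zpowers_le.mpr hzA)).toEquiv,
        Nat.card_zpowers, hzo, hAc, sq] at h2
      rw [← h]
      exact Nat.eq_of_mul_eq_mul_left hp.pos h2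
    have hle : A.map (QuotientGroup.mk' N) ≤ Subgroup.center (G ⧸ N) := by
      have h1 := CfsgLib.PGroups.inf_center_ne_bot (hG.to_quotient N) hne
      have h2 : A.map (QuotientGroup.mk' N) ⊓ Subgroup.center (G ⧸ N) =
          A.map (QuotientGroup.mk' N) := by
        refine Subgroup.eq_of_le_of_card_ge inf_le_left ?_
        rcases (Nat.dvd_prime hp).mp (hbnd ▸ Subgroup.card_dvd_of_le inf_le_left) with h | h
        · exact absurd (Subgroup.card_eq_one.mp h) h1
        · rw [h, hbnd]
      exact inf_eq_left.mp h2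
    rw [← QuotientGroup.eq_one_iff (N := N)]
    have h3 := Subgroup.mem_center_iff.mp (hle hmem) (QuotientGroup.mk' N g)
    rw [QuotientGroup.mk'_apply, QuotientGroup.mk'_apply] at h3
    rw [QuotientGroup.mk_mul, QuotientGroup.mk_mul, QuotientGroup.mk_mul, h3,
      QuotientGroup.mk_inv, QuotientGroup.mk_inv, mul_inv_cancel_right, mul_inv_cancel]
  have hzcm : ∀ g : G, ∀ x ∈ Subgroup.zpowers z, g * x = x * g := fun g x hx =>
    Subgroup.mem_center_iff.mp (Subgroup.zpowers_le.mpr hzC hx) g
  let φ : G →* ↥(Subgroup.zpowers z) := MonoidHom.mk' (fun g => ⟨g * a * g⁻¹ * a⁻¹, hcm g⟩)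
    fun g h => Subtype.ext (by
      show g * h * a * (g * h)⁻¹ * a⁻¹ = g * a * g⁻¹ * a⁻¹ * (h * a * h⁻¹ * a⁻¹)
      calc g * h * a * (g * h)⁻¹ * a⁻¹
          = g * (h * a * h⁻¹ * a⁻¹) * a * g⁻¹ * a⁻¹ := by group
        _ = h * a * h⁻¹ * a⁻¹ * g * a * g⁻¹ * a⁻¹ := by rw [hzcm g _ (hcm h)]
        _ = (h * a * h⁻¹ * a⁻¹) * (g * a * g⁻¹ * a⁻¹) := by group
        _ = _ := by rw [hzcm _ _ (hcm g)])
  have hφ : ∀ g : G, ((φ g : G)) * a = g * a * g⁻¹ := fun g => by
    show g * a * g⁻¹ * a⁻¹ * a = _
    group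
  have hker : ∀ g : G, g ∈ φ.ker ↔ g * a = a * g := fun g => by
    rw [MonoidHom.mem_ker, Subtype.ext_iff]
    show g * a * g⁻¹ * a⁻¹ = 1 ↔ _
    rw [mul_inv_eq_one, mul_inv_eq_iff_eq_mul]
  have hidx : φ.ker.index = p := by
    rw [Subgroup.index_ker]
    rcases (Nat.dvd_prime hp).mp (show Nat.card φ.range ∣ p by
      have := Subgroup.card_subgroup_dvd_card φ.range
      rwa [Nat.card_zpowers, hzo] at this) with h | h
    · exfalso
      have hbot : φ.range = ⊥ := Subgroup.card_eq_one.mp h
      have hall : ∀ g, g ∈ φ.ker := fun g => by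
        rw [MonoidHom.mem_ker, ← Subgroup.mem_bot, ← hbot]
        exact ⟨g, rfl⟩
      have haC : a ∈ Subgroup.center G := Subgroup.mem_center_iff.mpr fun g => (hker g).mp (hall g)
      have hsub : ∀ i, Fx (b i) = ⊥ := fun i => by
        have h0 : T (b i) = 0 := hTcen _ (mul_mem (hzeC i) haC) (hb1 i) (hAe _ (hbA i))
        rw [Submodule.eq_bot_iff]
        intro v hv
        have := hTfix (b i) v ((hFx _ _).mp hv)
        rw [h0, LinearMap.zero_apply] at this
        exact (smul_eq_zero.mp this.symm).resolve_left hpq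
      obtain ⟨v, hv⟩ := exists_ne (0 : V)
      apply hv
      rw [← Submodule.mem_bot (ZMod q)]
      have : iSup W = ⊥ := by simp [W, hsub]
      rw [← this, htop]
      exact Submodule.mem_top
    · exact h
  let e : Fin p ≃+* ZMod p := ZMod.finEquiv p
  have hconj : ∀ g : G, ∀ c : ZMod p, ze c = (φ g : G) → ∀ i, g * b i * g⁻¹ = b (i + c) := by
    intro g c hc i
    rw [hbadd, hc]
    show g * (ze i * a) * g⁻¹ = (φ g : G) * (ze i * a)
    calc g * (ze i * a) * g⁻¹ = (g * ze i) * a * g⁻¹ := by group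
      _ = ze i * (g * a * g⁻¹) := by rw [Subgroup.mem_center_iff.mp (hzeC i) g]; group
      _ = ze i * ((φ g : G) * a) := by rw [hφ]
      _ = (φ g : G) * (ze i * a) := by
        rw [← mul_assoc, ← mul_assoc, Subgroup.mem_center_iff.mp (hzeC i) (φ g : G)]
  refine ⟨φ.ker, W ∘ e, hidx, ?_, hind.comp e.injective, ?_, ?_, ?_⟩
  · rw [← htop]
    exact e.toEquiv.iSup_congr fun _ => rfl
  · intro h hh i w hw
    show ρ h w ∈ Fx (b (e i))
    rw [hFx]
    have hw' : ρ (b (e i)) w = w := (hFx _ _).mp hw
    have hc : b (e i) * h = h * b (e i) := by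
      show ze (e i) * a * h = h * (ze (e i) * a)
      rw [mul_assoc, ← (hker h).mp hh, ← mul_assoc, ← mul_assoc,
        Subgroup.mem_center_iff.mp (hzeC (e i)) h]
    rw [← LinearEquiv.mul_apply, ← map_mul, hc, map_mul, LinearEquiv.mul_apply, hw']
  · intro i
    refine ⟨b (e i), (hker _).mpr (hAab _ (hbA _) _ haA), hb1 _, fun w hw => (hFx _ _).mp hw⟩
  · intro g hg
    obtain ⟨n, hn⟩ : ∃ n : ℕ, z ^ n = (φ g : G) :=
      (mem_powers_iff_mem_zpowers.mpr (φ g).2)
    set c : ZMod p := (n : ZMod p) with hcdef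
    have hc : ze c = (φ g : G) := by
      show z ^ (n : ZMod p).val = _
      rw [ZMod.val_natCast, ← hn]
      conv_rhs => rw [← pow_mod_orderOf, hzo]
    have hc0 : c ≠ 0 := fun h => hg (by
      rw [h] at hc
      rw [MonoidHom.mem_ker]
      exact Subtype.ext (by rw [← hc]; simp [ze]))
    refine ⟨Equiv.addRight (e.symm c), orderOf_addRight
      (fun h => hc0 (by simpa using congrArg e h)) (e.injective (by simp [map_nsmul])), fun i => ?_⟩
    show (Fx (b (e i))).map _ = Fx (b (e (i + e.symm c)))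
    rw [map_add, e.apply_symm_apply, ← hconj g c hc]
    ext w
    rw [Submodule.mem_map, hFx]
    constructor
    · rintro ⟨u, hu, rfl⟩
      rw [hFx] at hu
      show ρ _ (ρ g u) = ρ g u
      rw [← LinearEquiv.mul_apply, ← map_mul, inv_mul_cancel_right, map_mul,
        LinearEquiv.mul_apply, hu]
    · intro hw
      refine ⟨ρ g⁻¹ w, (hFx _ _).mpr ?_, ?_⟩
      · rw [map_mul, map_mul, LinearEquiv.mul_apply, LinearEquiv.mul_apply] at hw
        have := congrArg (ρ g⁻¹) hw
        rwa [← LinearEquiv.mul_apply (ρ g⁻¹) (ρ g), ← map_mul, inv_mul_cancel, map_one] at this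
      · show ρ g (ρ g⁻¹ w) = w
        rw [← LinearEquiv.mul_apply, ← map_mul, mul_inv_cancel, map_one]
        rfl

end Cfsg.Agent.S3380
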