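import Cfsg.Statements.S3381
import Mathlib

set_option autoImplicit false
open Cfsg

namespace CfsgLib.Rec.OrderTwoStab

variable {q : ℕ} [Fact q.Prime] {V : Type*} [AddCommGroup V] [Module (ZMod q) V] [Finite V]
    {G : Type*} [Group G] [Finite G] (ρ : G →* (V ≃ₗ[ZMod q] V))

/-- fixed space -/
def fix (g : G) : Submodule (ZMod q) V where
  carrier := {v | ρ g v = v}
  add_mem' := by intro a b ha hb; simp only [Set.mem_ofPred_eq] at *; rw [map_add, ha, hb]
  zero_mem' := by simp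
  smul_mem' := by intro c a ha; simp only [Set.mem_ofPred_eq] at *; rw [map_smul, ha]

omit [Finite V] [Finite G] in
lemma mem_fix (g : G) (v : V) : v ∈ fix ρ g ↔ ρ g v = v := Iff.rfl

omit [Finite V] [Finite G] in
lemma rho_mul_apply (a b : G) (v : V) : ρ (a * b) v = ρ a (ρ b v) := by
  rw [map_mul]; rfl

omit [Finite V] in
lemma stab_unique (hstab : ∀ v : V, v ≠ 0 → Nat.card {g : G // ρ g v = v} = 2)
    {v : V} (hv : v ≠ 0) {a b : G} (ha : ρ a v = v) (hb : ρ b v = v) (ha1 : a ≠ 1) (hb1 : b ≠ 1) :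
    a = b := by
  have h := hstab v hv
  rw [Nat.card_eq_two_iff] at h
  obtain ⟨x, y, hxy, huniv⟩ := h
  have h1 : ρ (1 : G) v = v := by rw [map_one]; rfl
  have hmem : ∀ u : {g : G // ρ g v = v}, u = x ∨ u = y := by
    intro u
    have : u ∈ ({x, y} : Set _) := huniv ▸ Set.mem_univ u
    simpa using this
  have e1 := hmem ⟨1, h1⟩
  have e2 := hmem ⟨a, ha⟩
  have e3 := hmem ⟨b, hb⟩
  rcases e1 with e1 | e1 <;> rcases e2 with e2 | e2 <;> rcases e3 with e3 | e3 <;>
    simp only [← e1, ← e2, Subtype.mk.injEq] at * <;> aesop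

omit [Finite V] in
lemma exists_stab (hstab : ∀ v : V, v ≠ 0 → Nat.card {g : G // ρ g v = v} = 2)
    {v : V} (hv : v ≠ 0) : ∃ g : G, ρ g v = v ∧ g ≠ 1 ∧ orderOf g = 2 := by
  have h := hstab v hv
  rw [Nat.card_eq_two_iff] at h
  obtain ⟨x, y, hxy, huniv⟩ := h
  have hg : ∃ g : G, ρ g v = v ∧ g ≠ 1 := by
    by_cases hx1 : x.1 = 1
    · exact ⟨y.1, y.2, fun hy1 => hxy (Subtype.ext (hx1.trans hy1.symm))⟩
    · exact ⟨x.1, x.2, hx1⟩
  obtain ⟨g, hgv, hg1⟩ := hg
  refine ⟨g, hgv, hg1, ?_⟩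
  have hgg : ρ (g * g) v = v := by rw [rho_mul_apply, hgv, hgv]
  have hgg1 : g * g = 1 := by
    by_contra hne
    have := stab_unique ρ hstab hv hgg hgv hne hg1
    exact hg1 (by simpa using this)
  exact orderOf_eq_prime (by rw [pow_two]; exact hgg1) hg1

theorem main (hρ : Function.Injective ρ) [Nontrivial V]
    (hstab : ∀ v : V, v ≠ 0 → Nat.card {g : G // ρ g v = v} = 2)
    (z : G) (hz : orderOf z = 2) (hzc : z ∈ Subgroup.center G) :
    ∃ r : ℕ, Nat.card V = q ^ (2 * r) ∧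
      Nat.card {g : G // orderOf g = 2 ∧ g ∉ Subgroup.center G} = q ^ r + 1 := by
  classical
  have hinv : ∀ a : G, orderOf a = 2 → a * a = 1 := fun a ha => by
    have := pow_orderOf_eq_one a; rw [ha, pow_two] at this; exact this
  have hne1 : ∀ a : G, orderOf a = 2 → a ≠ 1 := fun a ha h => by simp [h] at ha
  have hinvapp : ∀ a : G, orderOf a = 2 → ∀ v, ρ a (ρ a v) = v := fun a ha v => by
    rw [← rho_mul_apply, hinv a ha, map_one]; rfl
  have hcomm : ∀ c ∈ Subgroup.center G, ∀ g : G, ∀ v, ρ g (ρ c v) = ρ c (ρ g v) := fun c hc g v => by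
    rw [← rho_mul_apply, ← rho_mul_apply, Subgroup.mem_center_iff.mp hc g]
  -- q is odd
  have hq2 : q ≠ 2 := by
    intro hq; subst hq
    have htwo : ∀ v : V, v + v = 0 := fun v => by
      rw [← two_smul (ZMod 2) v, show (2 : ZMod 2) = 0 from rfl, zero_smul]
    obtain ⟨v₀, hv₀⟩ : ∃ v : V, ρ z v ≠ v := by
      by_contra h; push_neg at h
      exact hne1 z hz (hρ (by rw [map_one]; ext v; exact h v))
    have hw : ρ z (ρ z v₀ + v₀) = ρ z v₀ + v₀ := by rw [map_add, hinvapp z hz, add_comm]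
    have hw0 : ρ z v₀ + v₀ ≠ 0 := fun h => hv₀ (by
      rw [eq_neg_of_add_eq_zero_left h]; exact (eq_neg_of_add_eq_zero_left (htwo v₀)).symm)
    have hv00 : v₀ ≠ 0 := fun h => hv₀ (by rw [h, map_zero])
    obtain ⟨g, hgv, hg1, -⟩ := exists_stab ρ hstab hv00
    have hgw : ρ g (ρ z v₀ + v₀) = ρ z v₀ + v₀ := by rw [map_add, hcomm z hzc g, hgv]
    have hgz := stab_unique ρ hstab hw0 hgw hw hg1 (hne1 z hz)
    exact hv₀ (hgz ▸ hgv)
  have h2ne : (2 : ZMod q) ≠ 0 := by
    intro h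
    have hq : q.Prime := Fact.out
    have : q ∣ 2 := (ZMod.natCast_eq_zero_iff 2 q).mp (by exact_mod_cast h)
    exact hq2 ((Nat.prime_dvd_prime_iff_eq hq Nat.prime_two).mp this)
  have hdouble : ∀ v : V, v + v = 0 → v = 0 := fun v h => by
    rw [← two_smul (ZMod q) v] at h
    exact (smul_eq_zero.mp h).resolve_left h2ne
  -- central involutions act as -1
  have hcent : ∀ c ∈ Subgroup.center G, orderOf c = 2 → ∀ v, ρ c v = -v := by
    intro c hc hco v
    by_contra hne
    have hw0 : ρ c v + v ≠ 0 := fun h => hne (eq_neg_of_add_eq_zero_left h)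
    have hw : ρ c (ρ c v + v) = ρ c v + v := by rw [map_add, hinvapp c hco, add_comm]
    obtain ⟨u₀, hu₀⟩ : ∃ u, ρ c u ≠ u := by
      by_contra h; push_neg at h
      exact hne1 c hco (hρ (by rw [map_one]; ext w; exact h w))
    have hu : ρ c (ρ c u₀ - u₀) = -(ρ c u₀ - u₀) := by rw [map_sub, hinvapp c hco, neg_sub]
    set w := ρ c v + v with hwdef
    set u := ρ c u₀ - u₀ with hudef
    have hu0 : u ≠ 0 := fun h => hu₀ (sub_eq_zero.mp h)
    have hsum : w + u ≠ 0 := fun h => by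
      have := congrArg (ρ c) h
      rw [map_add, hw, hu, map_zero] at this
      have : u + u = 0 := by
        have e : (w + u) - (w + -u) = 0 := by rw [h, this, sub_zero]
        rw [show u + u = (w + u) - (w + -u) by abel, e]
      exact hu0 (hdouble u this)
    obtain ⟨g, hgv, hg1, -⟩ := exists_stab ρ hstab hsum
    have hgc : ρ g (ρ c (w + u)) = ρ c (w + u) := by rw [hcomm c hc g, hgv]
    rw [map_add, hw, hu] at hgc
    have hgw2 : ρ g (w + w) = w + w := by
      have e : w + w = (w + u) + (w + -u) := by abel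
      rw [e, map_add, hgv, hgc]
    have hww : w + w ≠ 0 := fun h => hw0 (hdouble w h)
    have hcw2 : ρ c (w + w) = w + w := by rw [map_add, hw]
    have hgeq := stab_unique ρ hstab hww hgw2 hcw2 hg1 (hne1 c hco)
    subst hgeq
    rw [map_add, hw, hu, add_right_inj] at hgv
    exact hu0 (hdouble u (add_eq_zero_iff_neg_eq.mpr hgv))
  have hzneg := hcent z hzc hz
  let T : Set G := {g | orderOf g = 2 ∧ g ∉ Subgroup.center G}
  have hcover : ∀ v : V, v ≠ 0 → ∃ t ∈ T, v ∈ fix ρ t := by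
    intro v hv
    obtain ⟨g, hgv, hg1, hg2⟩ := exists_stab ρ hstab hv
    refine ⟨g, ⟨hg2, fun hgc => hv (hdouble v ?_)⟩, hgv⟩
    have h := hcent g hgc hg2 v
    rw [hgv] at h
    exact add_eq_zero_iff_eq_neg.mpr h
  have huniq : ∀ s ∈ T, ∀ t ∈ T, ∀ v, v ≠ 0 → v ∈ fix ρ s → v ∈ fix ρ t → s = t :=
    fun s hs t ht v hv h1 h2 => stab_unique ρ hstab hv h1 h2 (hne1 s hs.1) (hne1 t ht.1)
  have hzc' : ∀ g : G, g * z = z * g := fun g => Subgroup.mem_center_iff.mp hzc g
  have hzt : ∀ t ∈ T, z * t ∈ T := by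
    intro t ht
    have hnc : z * t ∉ Subgroup.center G := fun h => ht.2 (by
      have := Subgroup.mul_mem _ (Subgroup.inv_mem _ hzc) h; simpa using this)
    refine ⟨orderOf_eq_prime ?_ (fun h => hnc (h ▸ Subgroup.one_mem _)), hnc⟩
    rw [pow_two, mul_assoc, ← mul_assoc t z t, hzc' t, mul_assoc z t t, hinv t ht.1, mul_one,
      hinv z hz]
  have hztfix : ∀ t : G, ∀ v, v ∈ fix ρ (z * t) ↔ ρ t v = -v := by
    intro t v
    rw [mem_fix, rho_mul_apply, hzneg]
    exact ⟨fun h => by rw [← neg_neg (ρ t v), h], fun h => by rw [h, neg_neg]⟩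
  have hcompl : ∀ t ∈ T, IsCompl (fix ρ t) (fix ρ (z * t)) := by
    intro t ht
    refine ⟨?_, ?_⟩
    · rw [Submodule.disjoint_def]
      intro v h1 h2
      rw [hztfix, (mem_fix ρ t v).mp h1] at h2
      exact hdouble v (add_eq_zero_iff_eq_neg.mpr h2)
    · rw [codisjoint_iff, eq_top_iff]
      intro v _
      have hd : v = (2 : ZMod q)⁻¹ • (v + ρ t v) + (2 : ZMod q)⁻¹ • (v - ρ t v) := by
        rw [← smul_add, show v + ρ t v + (v - ρ t v) = (2 : ZMod q) • v by rw [two_smul]; abel,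
          smul_smul, inv_mul_cancel₀ h2ne, one_smul]
      rw [hd]
      refine Submodule.add_mem_sup ?_ ?_
      · rw [mem_fix, map_smul, map_add, hinvapp t ht.1, add_comm]
      · rw [hztfix, map_smul, map_sub, hinvapp t ht.1, ← smul_neg, neg_sub]
  let d : G → ℕ := fun t => Module.finrank (ZMod q) (fix ρ t)
  let n := Module.finrank (ZMod q) V
  have hfd : FiniteDimensional (ZMod q) V := Module.Finite.of_finite
  have hdsum : ∀ t ∈ T, d t + d (z * t) = n := fun t ht =>
    Submodule.finrank_add_eq_of_isCompl (hcompl t ht)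
  have hdle : ∀ s ∈ T, ∀ t ∈ T, s ≠ t → d s + d t ≤ n := by
    intro s hs t ht hst
    refine Submodule.finrank_add_finrank_le_of_disjoint ?_
    rw [Submodule.disjoint_def]
    intro v h1 h2
    by_contra hv
    exact hst (huniq s hs t ht v hv h1 h2)
  have hzz : ∀ t, z * (z * t) = t := fun t => by rw [← mul_assoc, hinv z hz, one_mul]
  have hztne : ∀ t : G, z * t ≠ t := fun t h => hne1 z hz (by simpa using h)
  -- fixed spaces nonzero
  have hpos : ∀ t ∈ T, fix ρ t ≠ ⊥ := by
    intro t ht hbot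
    have htneg : ∀ v, ρ t v = -v := fun v => by
      have hm : ρ t v + v ∈ fix ρ t := by rw [mem_fix, map_add, hinvapp t ht.1, add_comm]
      rw [hbot, Submodule.mem_bot] at hm
      exact eq_neg_of_add_eq_zero_left hm
    have : t = z := hρ (by ext v; rw [htneg, hzneg])
    exact ht.2 (this ▸ hzc)
  have hthird : ∀ t ∈ T, ∃ s ∈ T, s ≠ t ∧ s ≠ z * t := by
    intro t ht
    obtain ⟨a, ha, ha0⟩ := Submodule.exists_mem_ne_zero_of_ne_bot (hpos t ht)
    obtain ⟨b, hb, hb0⟩ := Submodule.exists_mem_ne_zero_of_ne_bot (hpos _ (hzt t ht))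
    have hab : a + b ≠ 0 := fun h => by
      have hd := Submodule.disjoint_def.mp (hcompl t ht).1 b
        (by rw [eq_neg_of_add_eq_zero_right h]; exact Submodule.neg_mem _ ha) hb
      exact hb0 hd
    obtain ⟨s, hs, hsab⟩ := hcover _ hab
    refine ⟨s, hs, fun h => ?_, fun h => ?_⟩
    · subst h
      exact hb0 (Submodule.disjoint_def.mp (hcompl s ht).1 b
        (by have := Submodule.sub_mem _ hsab ha; simpa using this) hb)
    · subst h
      exact ha0 (Submodule.disjoint_def.mp (hcompl t ht).1 a ha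
        (by have := Submodule.sub_mem _ hsab hb; simpa using this))
  have heq : ∀ t ∈ T, ∀ s ∈ T, s ≠ t → s ≠ z * t → d s = d t := by
    intro t ht s hs h1 h2
    have a1 := hdle s hs _ (hzt t ht) h2
    have a2 := hdle t ht _ (hzt s hs) (fun h => h2 (by rw [h, hzz]))
    have b1 := hdsum t ht
    have b2 := hdsum s hs
    omega
  have hhalf : ∀ t ∈ T, d t + d t = n := by
    intro t ht
    obtain ⟨s, hs, h1, h2⟩ := hthird t ht
    have e1 := heq t ht s hs h1 h2
    have e2 := heq t ht (z * s) (hzt s hs) (fun h => h2 (by rw [← h, hzz]))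
      (fun h => h1 (mul_left_cancel h))
    have := hdsum s hs
    omega
  obtain ⟨v₁, hv₁⟩ := exists_ne (0 : V)
  obtain ⟨t₀, ht₀, -⟩ := hcover v₁ hv₁
  set r := d t₀ with hr
  have hn : n = 2 * r := by have := hhalf t₀ ht₀; omega
  have hdr : ∀ t ∈ T, d t = r := fun t ht => by have := hhalf t ht; omega
  have hcardV : Nat.card V = q ^ (2 * r) := by
    rw [← hn, Module.natCard_eq_pow_finrank (K := ZMod q), Nat.card_zmod]
  refine ⟨r, hcardV, ?_⟩
  -- count
  have hrpos : 1 ≤ r := Submodule.one_le_finrank_iff.mpr (hpos t₀ ht₀)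
  let e : (Σ t : T, {v : fix ρ t.1 // v ≠ 0}) → {v : V // v ≠ 0} := fun p =>
    ⟨(p.2.1 : V), fun h => p.2.2 (Subtype.ext h)⟩
  have hebij : Function.Bijective e := by
    constructor
    · rintro ⟨⟨s, hs⟩, ⟨⟨v, hv⟩, hv0⟩⟩ ⟨⟨t, ht⟩, ⟨⟨w, hw⟩, hw0⟩⟩ h
      simp only [e, Subtype.mk.injEq] at h
      subst h
      obtain rfl := huniq s hs t ht v (fun h => hv0 (Subtype.ext h)) hv hw
      rfl
    · rintro ⟨v, hv⟩
      obtain ⟨t, ht, hvt⟩ := hcover v hv
      exact ⟨⟨⟨t, ht⟩, ⟨⟨v, hvt⟩, fun h => hv (congrArg Subtype.val h)⟩⟩, rfl⟩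
  have hcount := Nat.card_eq_of_bijective e hebij
  have hne0 : ∀ (W : Type _) [Zero W] [Finite W], Nat.card {v : W // v ≠ 0} = Nat.card W - 1 := by
    intro W _ _
    haveI := Fintype.ofFinite W
    rw [Nat.card_eq_fintype_card, Nat.card_eq_fintype_card, Fintype.card_subtype_compl]
    simp
  haveI := Fintype.ofFinite T
  rw [Nat.card_sigma, hne0 V] at hcount
  have : ∀ t : T, Nat.card {v : fix ρ t.1 // v ≠ 0} = q ^ r - 1 := fun t => by
    rw [hne0, Module.natCard_eq_pow_finrank (K := ZMod q), Nat.card_zmod]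
    show q ^ d t.1 - 1 = _
    rw [hdr t.1 t.2]
  rw [Finset.sum_congr rfl (fun t _ => this t), Finset.sum_const, smul_eq_mul, Finset.card_univ,
    ← Nat.card_eq_fintype_card, hcardV] at hcount
  show Nat.card T = _
  have hq1 : 1 < q ^ r := Nat.one_lt_pow (by omega) (Fact.out : q.Prime).one_lt
  have hsq : q ^ (2 * r) - 1 = (q ^ r + 1) * (q ^ r - 1) := by
    rw [two_mul, pow_add]
    have := Nat.sq_sub_sq (q ^ r) 1
    simpa [pow_two] using this
  rw [hsq] at hcount
  exact Nat.eq_of_mul_eq_mul_right (by omega) hcount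

end CfsgLib.Rec.OrderTwoStab

namespace Cfsg.Agent.S3381

/-- Let G be a finite group acting faithfully and linearly on a non-trivial finite vector space V over the field with q elements (q prime) so that every non-zero vector has a stabilizer of order 2, and suppose G has a central involution. Then V has q^(2r) elements for some r and G contains exactly q^r + 1 non-central involutions. -/
theorem result
    (q : ℕ) [Fact q.Prime] {V : Type*} [AddCommGroup V] [Module (ZMod q) V] [Finite V] [Nontrivial V]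
    {G : Type*} [Group G] [Finite G] (ρ : G →* (V ≃ₗ[ZMod q] V)) (hρ : Function.Injective ρ)
    (hstab : ∀ v : V, v ≠ 0 → Nat.card {g : G // ρ g v = v} = 2)
    (z : G) (hz : orderOf z = 2) (hzc : z ∈ Subgroup.center G) :
    ∃ r : ℕ, Nat.card V = q ^ (2 * r) ∧
      Nat.card {g : G // orderOf g = 2 ∧ g ∉ Subgroup.center G} = q ^ r + 1 :=
  CfsgLib.Rec.OrderTwoStab.main ρ hρ hstab z hz hzc

end Cfsg.Agent.S3381
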