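import Cfsg.Statements.S3382

set_option autoImplicit false
set_option maxHeartbeats 400000
open Cfsg

namespace Cfsg.Agent.S3382

/-- An element fixed up to a fixed two-element stays fixed. -/
theorem fixed_of_odd {T : Type*} [Group T] (hT : IsPGroup 2 T) {r : ℕ} (hr : Odd r) (φ : MulAut T)
    (hφ : φ ^ r = 1) (w x : T) (hx : φ x = x) (hw : φ w = w * x) : φ w = w := by
  have hn : ∀ n : ℕ, (φ ^ n) w = w * x ^ n := by
    intro n
    induction n with
    | zero => simp
    | succ n ih => rw [pow_succ', MulAut.mul_apply, ih, map_mul, map_pow, hx, hw, pow_succ', mul_assoc]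
  have h1 := hn r
  rw [hφ, MulAut.one_apply, left_eq_mul] at h1
  obtain ⟨j, hj⟩ := hT x
  have : orderOf x ∣ Nat.gcd r (2 ^ j) :=
    Nat.dvd_gcd (orderOf_dvd_of_pow_eq_one h1) (orderOf_dvd_of_pow_eq_one hj)
  rw [Nat.Coprime.gcd_eq_one ((Nat.coprime_two_right.2 hr).pow_right j), Nat.dvd_one,
    orderOf_eq_one_iff] at this
  rw [hw, this, mul_one]

/-- The rigidity of the monomial group, stated with generators. -/
theorem eq_one_of_odd {T : Type*} [Group T] (hT : IsPGroup 2 T) (g d w : T) (m : ℕ) (hm : 3 ≤ m)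
    (hg : orderOf g = 2 ^ m) (hd : d ^ 2 = 1) (hgd : Commute g d) (hdg : d ∉ Subgroup.zpowers g)
    (hcov : ∀ x, ∃ k e : ℕ, x = g ^ k * d ^ e ∨ x = w * (g ^ k * d ^ e))
    (h4 : ∀ k e : ℕ, (w * (g ^ k * d ^ e)) ^ 4 = 1) (hinv : w * g = g⁻¹ * w)
    (φ : MulAut T) (r : ℕ) (hr : Odd r) (hφ : φ ^ r = 1) : φ = 1 := by
  have hpow : ∀ n : ℕ, g ^ n = 1 ↔ 2 ^ m ∣ n := fun n => hg ▸ orderOf_dvd_iff_pow_eq_one.symm
  have hd1 : d ≠ 1 := fun h => hdg (h ▸ one_mem _)
  have hAg : ∀ (k e n : ℕ), Commute (g ^ k * d ^ e) (g ^ n) := fun k e n =>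
    ((Commute.refl g).pow_pow k n).mul_left (hgd.symm.pow_pow e n)
  have hwn : ∀ n : ℕ, w * g ^ n = (g ^ n)⁻¹ * w := fun n => by
    rw [← inv_pow]
    exact (SemiconjBy.pow_right (show SemiconjBy w g g⁻¹ from hinv) n).eq
  have hwout : ∀ k e n : ℕ, Commute (w * (g ^ k * d ^ e)) (g ^ n) → g ^ (2 * n) = 1 := by
    intro k e n h
    have h1 := h.eq
    rw [mul_assoc, (hAg k e n).eq, ← mul_assoc, hwn n, ← mul_assoc (g ^ n) w, mul_assoc _ w,
      mul_assoc (g ^ n) w] at h1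
    have h2 := mul_right_cancel h1
    rw [two_mul, pow_add]
    nth_rewrite 2 [← h2]
    rw [mul_inv_cancel]
  -- the image of `g`
  obtain ⟨k, e, hge | hge⟩ := hcov (φ g)
  swap
  · exfalso
    have h1 : (φ g) ^ 4 = 1 := hge ▸ h4 k e
    rw [← map_pow, EmbeddingLike.map_eq_one_iff, hpow] at h1
    have h2 := Nat.le_of_dvd (by norm_num) h1
    have : 2 ^ 3 ≤ 2 ^ m := Nat.pow_le_pow_right (by norm_num) hm
    omega
  set M := 2 ^ (m - 1) with hM
  have h2M : 2 * M = 2 ^ m := by rw [hM, ← pow_succ']; congr 1; omega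
  have hM2 : Even M := Nat.even_pow.2 ⟨even_two, by omega⟩
  have hgeM : (φ g) ^ M = g ^ (k * M) := by
    obtain ⟨c, hc⟩ := hM2
    rw [hge, (hgd.pow_pow k e).mul_pow, ← pow_mul, ← pow_mul, hc, ← two_mul, mul_left_comm e,
      pow_mul d, hd, one_pow, mul_one]
  have hgM : g ^ M ≠ 1 := fun h => by
    have := Nat.le_of_dvd (by positivity) ((hpow M).1 h)
    have : 0 < M := by positivity
    omega
  have hk : Odd k := by
    by_contra hk
    obtain ⟨c, rfl⟩ := Nat.not_odd_iff_even.1 hk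
    apply hgM
    apply φ.injective
    rw [map_pow, hgeM, map_one, hpow]
    exact ⟨c, by rw [← h2M]; ring⟩
  obtain ⟨c, hc⟩ := hk
  have hzk : g ^ (k * M) = g ^ M := by
    rw [hc, add_mul, one_mul, pow_add,
      (hpow (2 * c * M)).2 ⟨c, by rw [← h2M]; ring⟩, one_mul]
  -- the image of `d`
  have hzfix : φ (g ^ M) = g ^ M := by rw [map_pow, hgeM, hzk]
  have hdfix : φ d = d := by
    obtain ⟨i, j, hdj | hdj⟩ := hcov (φ d)
    swap
    · exfalso
      have h1 : Commute (φ d) (φ g ^ 2) := ((hgd.symm.map φ).pow_right 2)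
      rw [hge, (hgd.pow_pow k e).mul_pow, ← pow_mul, ← pow_mul, mul_comm e, pow_mul d, hd, one_pow,
        mul_one, hdj] at h1
      have h2 := (hpow _).1 (hwout _ _ _ h1)
      obtain ⟨t, ht⟩ : 2 ^ 3 ∣ 2 * (k * 2) := (pow_dvd_pow 2 hm).trans h2
      omega
    have hsq : g ^ (i * 2) = 1 := by
      have h1 : (φ d) ^ 2 = 1 := by rw [← map_pow, hd, map_one]
      rwa [hdj, (hgd.pow_pow i j).mul_pow, ← pow_mul, ← pow_mul, mul_comm j, pow_mul d, hd, one_pow,
        mul_one] at h1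
    obtain ⟨t, ht⟩ : M ∣ i := by
      have := (hpow _).1 hsq
      rw [← h2M, mul_comm i] at this
      exact Nat.dvd_of_mul_dvd_mul_left (by norm_num) this
    have hz : φ (g ^ (M * t)) = g ^ (M * t) := by rw [pow_mul, map_pow, hzfix]
    rcases Nat.even_or_odd j with ⟨u, hu⟩ | ⟨u, hu⟩
    · exfalso
      rw [ht, hu, ← two_mul, pow_mul d, hd, one_pow, mul_one, ← hz] at hdj
      exact hdg (φ.injective hdj ▸ pow_mem (Subgroup.mem_zpowers g) _)
    · rw [hu, pow_succ, pow_mul d, hd, one_pow, one_mul, ht] at hdj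
      exact fixed_of_odd hT hr φ hφ d (g ^ (M * t)) hz (by rw [hdj]; exact (hgd.pow_left _).eq)
  -- `g` is fixed
  have hn : ∀ n : ℕ, (φ ^ n) g = g ^ (k ^ n) * (d ^ e) ^ n := by
    intro n
    induction n with
    | zero => simp
    | succ n ih =>
      have hkn : Odd (k ^ n) := Odd.pow ⟨c, hc⟩
      obtain ⟨v, hv⟩ := hkn
      have hde : (d ^ e) ^ (k ^ n) = d ^ e := by
        rw [hv, pow_succ, pow_mul, ← pow_mul d, mul_comm e, pow_mul d, hd, one_pow, one_pow, one_mul]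
      rw [pow_succ', MulAut.mul_apply, ih, map_mul, map_pow, map_pow, map_pow, hdfix, hge,
        (hgd.pow_pow k e).mul_pow, hde, ← pow_mul, ← pow_succ', mul_assoc, ← pow_succ']
  have h1 := hn r
  rw [hφ, MulAut.one_apply] at h1
  have hde : d ^ e = 1 := by
    rcases Nat.even_or_odd e with ⟨u, hu⟩ | ⟨u, hu⟩
    · rw [hu, ← two_mul, pow_mul, hd, one_pow]
    · exfalso
      apply hdg
      obtain ⟨v, hv⟩ := hr
      have hde' : (d ^ e) ^ r = d := by
        rw [hu, pow_succ, pow_mul d, hd, one_pow, one_mul, hv, pow_succ, pow_mul, hd, one_pow,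
          one_mul]
      rw [hde'] at h1
      rw [show d = (g ^ k ^ r)⁻¹ * g from eq_inv_mul_iff_mul_eq.2 h1.symm]
      exact mul_mem (inv_mem (pow_mem (Subgroup.mem_zpowers g) _)) (Subgroup.mem_zpowers g)
  rw [hde, one_pow, mul_one] at h1
  have hkm : k ≡ 1 [MOD 2 ^ m] := by
    have h2 : k ^ r ≡ 1 [MOD 2 ^ m] := by
      rw [← hg, ← pow_eq_pow_iff_modEq, pow_one]
      exact h1.symm
    have hcop : Nat.Coprime k (2 ^ m) :=
      (Nat.coprime_two_right.2 ⟨c, hc⟩).pow_right m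
    let u := ZMod.unitOfCoprime k hcop
    have hu : u ^ r = 1 := Units.ext (by
      simpa [u] using (ZMod.natCast_eq_natCast_iff _ _ _).2 h2)
    have hφ2 : Nat.card (ZMod (2 ^ m))ˣ = 2 ^ (m - 1) := by
      rw [Nat.card_eq_fintype_card, ZMod.card_units_eq_totient,
        Nat.totient_prime_pow Nat.prime_two (by omega)]
      ring
    have h3 : orderOf u ∣ Nat.gcd r (2 ^ (m - 1)) :=
      Nat.dvd_gcd (orderOf_dvd_of_pow_eq_one hu) (hφ2 ▸ orderOf_dvd_natCard u)
    rw [Nat.Coprime.gcd_eq_one ((Nat.coprime_two_right.2 hr).pow_right _), Nat.dvd_one,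
      orderOf_eq_one_iff] at h3
    exact (ZMod.natCast_eq_natCast_iff _ _ _).1 (by simpa [u] using congrArg Units.val h3)
  have hgfix : φ g = g := by
    rw [hge, hde, mul_one]
    conv_rhs => rw [← pow_one g]
    rw [pow_eq_pow_iff_modEq, hg]
    exact hkm
  have hAfix : ∀ i j : ℕ, φ (g ^ i * d ^ j) = g ^ i * d ^ j := fun i j => by
    rw [map_mul, map_pow, map_pow, hgfix, hdfix]
  have hwfix : φ w = w := by
    obtain ⟨i, j, hw | hw⟩ := hcov (φ w)
    · exfalso
      have h2 : Commute (φ w) (φ (g ^ 1)) := by rw [pow_one, hgfix, hw]; simpa using hAg i j 1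
      have h3 : Commute w (g ^ 1) := φ.injective (by rw [map_mul, map_mul]; exact h2.eq)
      have h5 := (hpow _).1 (hwout 0 0 1 (by simpa using h3))
      have := Nat.le_of_dvd (by norm_num) h5
      have : 2 ^ 3 ≤ 2 ^ m := Nat.pow_le_pow_right (by norm_num) hm
      omega
    · exact fixed_of_odd hT hr φ hφ w _ (hAfix i j) hw
  refine MulEquiv.ext fun x => ?_
  obtain ⟨i, j, rfl | rfl⟩ := hcov x
  · exact hAfix i j
  · rw [MulAut.one_apply, map_mul, hwfix, hAfix]

/-- The rigidity of the dihedral group of order eight, stated with generators. -/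
theorem eq_one_of_odd_eight {T : Type*} [Group T] (hT : IsPGroup 2 T) (g d w : T)
    (hg : g ^ 2 = 1) (hg1 : g ≠ 1) (hd : d ^ 2 = 1) (hgd : Commute g d) (hgw : Commute g w)
    (hw : w ^ 2 = 1) (hc : (w * d) ^ 2 = g) (hdg : d ∉ Subgroup.zpowers g)
    (hcov : ∀ x, ∃ k e : ℕ, x = g ^ k * d ^ e ∨ x = w * (g ^ k * d ^ e))
    (φ : MulAut T) (r : ℕ) (hr : Odd r) (hφ : φ ^ r = 1) : φ = 1 := by
  have hcases : ∀ x, ∃ k : ℕ, x = g ^ k ∨ x = g ^ k * d ∨ x = w * g ^ k ∨ x = w * d * g ^ k := by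
    intro x
    obtain ⟨k, e, h⟩ := hcov x
    refine ⟨k, ?_⟩
    rcases Nat.even_or_odd e with ⟨u, hu⟩ | ⟨u, hu⟩
    · rw [hu, ← two_mul, pow_mul, hd, one_pow, mul_one] at h
      tauto
    · rw [hu, pow_succ, pow_mul, hd, one_pow, one_mul] at h
      rcases h with h | h
      · tauto
      · rw [(hgd.pow_left k).eq, ← mul_assoc] at h
        tauto
  have hg2 : ∀ k : ℕ, (g ^ k) ^ 2 = 1 := fun k => by rw [pow_right_comm, hg, one_pow]
  have hcfix : φ (w * d) = w * d := by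
    have hne : (φ (w * d)) ^ 2 ≠ 1 := by
      rw [← map_pow, hc, ne_eq, EmbeddingLike.map_eq_one_iff]
      exact hg1
    obtain ⟨k, h | h | h | h⟩ := hcases (φ (w * d))
    · exact absurd (h ▸ hg2 k) hne
    · exfalso
      apply hne
      rw [h, (hgd.pow_left k).mul_pow, hg2, hd, one_mul]
    · exfalso
      apply hne
      rw [h, (hgw.pow_left k).symm.mul_pow, hg2, hw, one_mul]
    · have hgfix : φ g = g := by
        have hck : Commute (w * d) (g ^ k) := (hgw.symm.mul_left hgd.symm).pow_right k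
        conv_lhs => rw [← hc, map_pow, h, hck.mul_pow, hg2, mul_one, hc]
      exact fixed_of_odd hT hr φ hφ _ _ (by rw [map_pow, hgfix]) h
  have hgfix : φ g = g := by rw [← hc, map_pow, hcfix]
  have hgkfix : ∀ k : ℕ, φ (g ^ k) = g ^ k := fun k => by rw [map_pow, hgfix]
  have hwfix : φ w = w := by
    obtain ⟨k, h | h | h | h⟩ := hcases (φ w)
    · exfalso
      have h1 : w = g ^ k := φ.injective (h.trans (hgkfix k).symm)
      apply hg1
      rw [← hc, h1, (hgd.pow_left k).mul_pow, hg2, hd, one_mul]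
    · refine fixed_of_odd hT hr φ hφ w (w * d * g ^ k) (by rw [map_mul, hcfix, hgkfix]) ?_
      rw [h, ← mul_assoc, ← mul_assoc, ← sq, hw, one_mul]
      exact (hgd.pow_left k).eq
    · exact fixed_of_odd hT hr φ hφ w _ (hgkfix k) h
    · exfalso
      have h1 : w = w * d * g ^ k := φ.injective (h.trans (by rw [map_mul φ (w * d), hcfix, hgkfix]))
      rw [mul_assoc, left_eq_mul] at h1
      apply hdg
      rw [show d = (g ^ k)⁻¹ from eq_inv_of_mul_eq_one_left h1]
      exact inv_mem (pow_mem (Subgroup.mem_zpowers g) k)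
  have hdfix : φ d = d := mul_left_cancel (by rw [← hcfix, map_mul, hwfix] : w * φ d = w * d)
  refine MulEquiv.ext fun x => ?_
  obtain ⟨i, j, rfl | rfl⟩ := hcov x
  · rw [MulAut.one_apply, map_mul, hgkfix, map_pow, hdfix]
  · rw [MulAut.one_apply, map_mul, map_mul, hwfix, hgkfix, map_pow, hdfix]

section monomial

variable {X : Type*} [Field X]

/-- The diagonal map with multipliers `u` and `s / u`. -/
def diag : Xˣ × Xˣ →* ((Fin 2 → X) ≃ₗ[X] (Fin 2 → X)) where
  toFun p := LinearEquiv.piCongrRight fun i => LinearEquiv.smulOfUnit ((![p.1, p.2 * p.1⁻¹] : Fin 2 → Xˣ) i)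
  map_one' := LinearEquiv.ext fun v => funext fun i => by
    fin_cases i <;> simp [LinearEquiv.smulOfUnit, Units.smul_def]
  map_mul' p p' := LinearEquiv.ext fun v => funext fun i => by
    fin_cases i <;> simp [LinearEquiv.smulOfUnit, Units.smul_def] <;> ring

/-- The swap of the two coordinates. -/
def swap2 : (Fin 2 → X) ≃ₗ[X] (Fin 2 → X) := LinearEquiv.funCongrLeft X X (Equiv.swap 0 1)

theorem diag_apply (p : Xˣ × Xˣ) (v : Fin 2 → X) :
    diag p v = ![(p.1 : X) * v 0, (p.2 : X) * (p.1 : X)⁻¹ * v 1] :=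
  funext fun i => by fin_cases i <;> simp [diag, LinearEquiv.smulOfUnit, Units.smul_def]

theorem swap2_apply (v : Fin 2 → X) : swap2 v = ![v 1, v 0] :=
  funext fun i => by fin_cases i <;> simp [swap2]

theorem swap2_diag_apply (p : Xˣ × Xˣ) (v : Fin 2 → X) :
    ((swap2 : (Fin 2 → X) ≃ₗ[X] (Fin 2 → X)) * diag p) v = ![(p.2 : X) * (p.1 : X)⁻¹ * v 1, (p.1 : X) * v 0] := by
  rw [LinearEquiv.mul_apply, diag_apply, swap2_apply]
  simp

@[simp]
theorem diag_one_one : diag ((1 : Xˣ), (1 : Xˣ)) = 1 := map_one diag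

theorem diag_inj {p p' : Xˣ × Xˣ} (h : diag p = diag p') : p = p' := by
  have h0 := congrFun (LinearEquiv.congr_fun h ![1, 1]) 0
  have h1 := congrFun (LinearEquiv.congr_fun h ![1, 1]) 1
  simp [diag_apply] at h0 h1
  refine Prod.ext (Units.ext h0) (Units.ext ?_)
  rw [h0] at h1
  exact mul_right_cancel₀ (inv_ne_zero p'.1.ne_zero) h1

theorem swap2_sq : (swap2 : (Fin 2 → X) ≃ₗ[X] (Fin 2 → X)) ^ 2 = 1 :=
  LinearEquiv.ext fun v => funext fun i => by
    rw [sq, LinearEquiv.mul_apply, swap2_apply, swap2_apply]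
    fin_cases i <;> simp

theorem swap2_mul_diag (a : Xˣ) :
    (swap2 : (Fin 2 → X) ≃ₗ[X] (Fin 2 → X)) * diag (a, 1) = diag ((a, 1)⁻¹) * swap2 :=
  LinearEquiv.ext fun v => funext fun i => by
    rw [swap2_diag_apply, LinearEquiv.mul_apply, swap2_apply, diag_apply]
    fin_cases i <;> simp

theorem swap2_diag_sq (p : Xˣ × Xˣ) (hs : p.2 ^ 2 = 1) : ((swap2 : (Fin 2 → X) ≃ₗ[X] (Fin 2 → X)) * diag p) ^ 2 = diag (p.2, 1) := by
  have hs' : (p.2 : X) * p.2 = 1 := by rw [← sq, ← Units.val_pow_eq_pow_val, hs, Units.val_one]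
  refine LinearEquiv.ext fun v => funext fun i => ?_
  rw [sq, LinearEquiv.mul_apply, swap2_diag_apply, swap2_diag_apply, diag_apply]
  fin_cases i
  · simp; field_simp
  · simp [inv_eq_of_mul_eq_one_right hs']; field_simp

end monomial

/-- Let q = 2^m + 1 be a prime other than 5. Then the automorphism group of the group of linear maps of F_q² of the forms (x, y) ↦ (a x, ± a⁻¹ y) and (x, y) ↦ (± a⁻¹ y, a x) with a ≠ 0 is itself a 2-group. -/
theorem result (q m : ℕ) [Fact q.Prime] (hq : q = 2 ^ m + 1) (hq5 : q ≠ 5)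
    (T : Subgroup ((Fin 2 → ZMod q) ≃ₗ[ZMod q] (Fin 2 → ZMod q)))
    (hT : ∀ f, f ∈ T ↔ ∃ a s : ZMod q, a ≠ 0 ∧ (s = 1 ∨ s = -1) ∧
      ((∀ v, f v = ![a * v 0, s * a⁻¹ * v 1]) ∨ (∀ v, f v = ![s * a⁻¹ * v 1, a * v 0]))) :
    IsPGroup 2 (MulAut T) := by
  classical
  have hq2 : q.Prime := Fact.out
  obtain ⟨γ, hγ⟩ := IsCyclic.exists_generator (α := (ZMod q)ˣ)
  have hγo : orderOf γ = 2 ^ m := by
    rw [orderOf_eq_card_of_forall_mem_zpowers hγ, Nat.card_eq_fintype_card, ZMod.card_units]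
    subst hq
    exact Nat.add_sub_cancel ..
  have hmem : ∀ p : (ZMod q)ˣ × (ZMod q)ˣ, p.2 ^ 2 = 1 → diag p ∈ T ∧ swap2 * diag p ∈ T := by
    intro p hp
    have hp' : ((p.2 : ZMod q) = 1 ∨ (p.2 : ZMod q) = -1) := by
      rw [← sq_eq_one_iff, ← Units.val_pow_eq_pow_val, hp, Units.val_one]
    exact ⟨(hT _).2 ⟨_, _, p.1.ne_zero, hp', Or.inl (diag_apply p)⟩,
      (hT _).2 ⟨_, _, p.1.ne_zero, hp', Or.inr (swap2_diag_apply p)⟩⟩
  let g : T := ⟨diag (γ, 1), (hmem _ (one_pow 2)).1⟩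
  let d : T := ⟨diag (1, -1), (hmem (1, -1) neg_one_sq).1⟩
  let w : T := ⟨swap2, by simpa using (hmem (1 : (ZMod q)ˣ × (ZMod q)ˣ) (one_pow 2)).2⟩
  have hgd' : ∀ k e : ℕ, ((g ^ k * d ^ e : T) : (Fin 2 → ZMod q) ≃ₗ[ZMod q] (Fin 2 → ZMod q)) =
      diag (γ ^ k, (-1) ^ e) := fun k e => by
    simp [g, d, ← map_pow, ← map_mul]
  have hcov : ∀ x : T, ∃ k e : ℕ, x = g ^ k * d ^ e ∨ x = w * (g ^ k * d ^ e) := by
    rintro ⟨f, hf⟩
    obtain ⟨a, s, ha, hs, h⟩ := (hT f).1 hf
    obtain ⟨k, hk⟩ := mem_powers_iff_mem_zpowers.2 (hγ (Units.mk0 a ha))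
    obtain ⟨e, he⟩ : ∃ e : ℕ, (((-1 : (ZMod q)ˣ) ^ e : (ZMod q)ˣ) : ZMod q) = s := by
      rcases hs with rfl | rfl
      · exact ⟨0, by simp⟩
      · exact ⟨1, by simp⟩
    have hk' : ((γ ^ k : (ZMod q)ˣ) : ZMod q) = a := congrArg Units.val hk
    refine ⟨k, e, ?_⟩
    rcases h with h | h
    · left
      refine Subtype.ext (LinearEquiv.ext fun v => ?_)
      rw [hgd' k e, diag_apply]
      simp only [hk', he]
      exact h v
    · right
      refine Subtype.ext (LinearEquiv.ext fun v => ?_)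
      rw [Subgroup.coe_mul, hgd' k e, show (w : (Fin 2 → ZMod q) ≃ₗ[ZMod q] (Fin 2 → ZMod q)) = swap2 from rfl,
        swap2_diag_apply]
      simp only [hk', he]
      exact h v
  have hinv : w * g = g⁻¹ * w := Subtype.ext (by
    rw [Subgroup.coe_mul, Subgroup.coe_mul, Subgroup.coe_inv]
    change swap2 * diag (γ, 1) = (diag (γ, 1))⁻¹ * swap2
    rw [← map_inv]
    exact swap2_mul_diag γ)
  have hd2 : d ^ 2 = 1 := Subtype.ext (by simp [d, ← map_pow])
  have hgd : Commute g d := Subtype.ext (by simp [g, d, ← map_mul])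
  have hcard : IsPGroup 2 T := by
    intro x
    refine ⟨m + 2, ?_⟩
    obtain ⟨k, e, rfl | rfl⟩ := hcov x
    · have hg0 : g ^ 2 ^ m = 1 := Subtype.ext (by
        simp [g, ← map_pow, hγo ▸ pow_orderOf_eq_one γ])
      rw [(hgd.pow_pow k e).mul_pow, ← pow_mul, ← pow_mul, mul_comm k, mul_comm e, pow_mul, pow_mul,
        pow_add, pow_mul, hg0, one_pow, one_pow, one_mul, mul_comm, pow_mul,
        show (2 : ℕ) ^ 2 = 2 * 2 from rfl, pow_mul, hd2, one_pow, one_pow, one_pow]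
    · have h4 : (w * (g ^ k * d ^ e)) ^ 4 = 1 := Subtype.ext (by
        rw [Subgroup.coe_pow, Subgroup.coe_mul, hgd', show (4 : ℕ) = 2 * 2 from rfl, pow_mul]
        change ((swap2 * diag (γ ^ k, (-1) ^ e)) ^ 2) ^ 2 = _
        rw [swap2_diag_sq _ (by rw [pow_right_comm, neg_one_sq, one_pow]), ← map_pow]
        simp [pow_right_comm _ e])
      rw [pow_add, mul_comm, pow_mul, show (2 : ℕ) ^ 2 = 4 from rfl, h4, one_pow]
  have : Finite ((Fin 2 → ZMod q) ≃ₗ[ZMod q] (Fin 2 → ZMod q)) :=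
    Finite.of_injective (fun f => (f : (Fin 2 → ZMod q) → (Fin 2 → ZMod q))) DFunLike.coe_injective
  haveI : Finite (MulAut T) :=
    Finite.of_injective (fun f => (f : T → T)) DFunLike.coe_injective
  refine IsPGroup.iff_card.2 ⟨(Nat.card (MulAut T)).primeFactorsList.length,
    Nat.eq_prime_pow_of_unique_prime_dvd Nat.card_pos.ne' fun {r} hr hrd => ?_⟩
  by_contra hr2
  haveI := Fact.mk hr
  obtain ⟨φ, hφ⟩ := exists_prime_orderOf_dvd_card' r hrd
  have hrodd : Odd r := hr.odd_of_ne_two hr2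
  have hφr : φ ^ r = 1 := hφ ▸ pow_orderOf_eq_one φ
  have hgval : ∀ k : ℕ, g ^ k = 1 ↔ γ ^ k = 1 := fun k => by
    refine ⟨fun h => ?_, fun h => Subtype.ext (by simp [g, ← map_pow, h])⟩
    have h1 := congrArg Subtype.val h
    simp [g, ← map_pow] at h1
    simpa using diag_inj (h1.trans (map_one diag).symm)
  have hgo : orderOf g = 2 ^ m := by
    rw [← hγo]
    exact orderOf_eq_orderOf_iff.2 hgval
  suffices φ = 1 by
    rw [this, orderOf_one] at hφ
    exact hr.one_lt.ne hφ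
  rcases Nat.eq_zero_or_pos m with rfl | hm0
  · -- two elements
    have hg1 : g = 1 := orderOf_eq_one_iff.1 hgo
    have hd1 : d = 1 := Subtype.ext (by
      have : (-1 : (ZMod q)ˣ) = 1 := by
        obtain ⟨k, hk⟩ := hγ (-1)
        rw [← hk, orderOf_eq_one_iff.1 (hγo.trans (pow_zero 2))]
        exact one_zpow k
      simp [d, this])
    have hTw : ∀ x : T, x = 1 ∨ x = w := fun x => by
      obtain ⟨k, e, rfl | rfl⟩ := hcov x <;> simp [hg1, hd1]
    refine MulEquiv.ext fun x => ?_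
    rcases hTw x with rfl | rfl
    · simp
    · rcases hTw (φ w) with h | h
      · rw [EmbeddingLike.map_eq_one_iff] at h
        simp [h]
      · exact h
  have hne : (-1 : (ZMod q)ˣ) ≠ 1 := fun h => by
    have h' : ((-1 : ℤ) : ZMod q) = ((1 : ℤ) : ZMod q) := by simpa using congrArg Units.val h
    rw [ZMod.intCast_eq_intCast_iff_dvd_sub] at h'
    have := Int.le_of_dvd (by norm_num) h'
    have : 2 ^ 1 ≤ 2 ^ m := Nat.pow_le_pow_right (by norm_num) hm0
    omega
  have hdg : d ∉ Subgroup.zpowers g := by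
    rintro ⟨k, hk⟩
    have h1 := congrArg Subtype.val hk
    simp [g, d, ← map_zpow] at h1
    exact hne (congrArg Prod.snd (diag_inj h1)).symm
  rcases Nat.lt_or_ge m 3 with hm3 | hm3
  · interval_cases m
    · -- the dihedral group of order eight
      have hγ1 : γ = -1 := by
        have hγ2 : γ ^ 2 = 1 := by rw [show (2 : ℕ) = 2 ^ 1 from rfl, ← hγo]; exact pow_orderOf_eq_one γ
        have hγne : γ ≠ 1 := fun h => by rw [h, orderOf_one] at hγo; norm_num at hγo
        have h' : (γ : ZMod q) ^ 2 = 1 := by rw [← Units.val_pow_eq_pow_val, hγ2, Units.val_one]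
        rcases sq_eq_one_iff.1 h' with h'' | h''
        · exact absurd (Units.ext h'') hγne
        · exact Units.ext (by simpa using h'')
      refine eq_one_of_odd_eight hcard g d w ((hgval 2).2 ?_) ?_ hd2 hgd ?_ ?_ ?_ hdg hcov φ r hrodd hφr
      · rw [hγ1, neg_one_sq]
      · intro h
        rw [h, orderOf_one] at hgo
        norm_num at hgo
      · have hgi : g⁻¹ = g := inv_eq_of_mul_eq_one_right (by
          rw [← sq, hgval, hγ1, neg_one_sq])
        rw [hgi] at hinv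
        exact hinv.symm
      · exact Subtype.ext (by rw [Subgroup.coe_pow]; exact swap2_sq)
      · refine Subtype.ext ?_
        rw [Subgroup.coe_pow, Subgroup.coe_mul]
        change (swap2 * diag (1, -1)) ^ 2 = diag (γ, 1)
        rw [swap2_diag_sq _ neg_one_sq, hγ1]
    · exact absurd hq hq5
  refine eq_one_of_odd hcard g d w m hm3 hgo hd2 hgd hdg hcov (fun k e => Subtype.ext ?_) hinv φ r hrodd hφr
  rw [Subgroup.coe_pow, Subgroup.coe_mul, hgd', show (4 : ℕ) = 2 * 2 from rfl, pow_mul]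
  change ((swap2 * diag (γ ^ k, (-1) ^ e)) ^ 2) ^ 2 = _
  rw [swap2_diag_sq _ (by rw [pow_right_comm, neg_one_sq, one_pow]), ← map_pow]
  simp [pow_right_comm _ e]

end Cfsg.Agent.S3382
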