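import Cfsg.Statements.S3383
import Cfsg.Agent.Lib.Base.Frobenius

set_option autoImplicit false
open Cfsg

namespace Cfsg.Agent.S3383

/-- Let H be a Frobenius complement in a finite group L and K the Frobenius kernel (as a subgroup). Then K is characteristic in L, and every normal subgroup of L either contains K or is contained in K. -/
theorem result {L : Type*} [Group L] [Finite L]
    (H : Subgroup L) (hH : Cfsg.IsFrobeniusComplement H)
    (K : Subgroup L) (hK : (K : Set L) = Cfsg.frobeniusKernel H) :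
    K.Characteristic ∧ ∀ N : Subgroup L, N.Normal → K ≤ N ∨ N ≤ K := by
  have key : ∀ N : Subgroup L, N.Normal → K ≤ N ∨ N ≤ K := by
    intro N hN
    by_contra hcon
    push_neg at hcon
    obtain ⟨y, hyN, hyK⟩ := SetLike.not_le_iff_exists.1 hcon.2
    have hy : y ∉ Cfsg.frobeniusKernel H := by rw [← hK]; exact hyK
    simp only [Cfsg.frobeniusKernel, Set.mem_setOf_eq, not_or, not_forall, not_not] at hy
    obtain ⟨hy1, g, hg⟩ := hy
    rw [CfsgLib.Base.Frobenius.mem_conj_iff] at hg
    set x := g⁻¹ * y * g with hx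
    have hxN : x ∈ N := by simpa [hx] using hN.conj_mem y hyN g⁻¹
    have hx1 : x ≠ 1 := fun h => hy1 <| by
      calc y = g * x * g⁻¹ := by rw [hx]; group
        _ = 1 := by rw [h]; group
    have hKn : K.Normal := by
      refine ⟨fun k hk a => ?_⟩
      rw [← SetLike.mem_coe, hK] at hk ⊢
      rcases hk with hk | hk
      · exact Or.inl (by rw [hk]; group)
      · refine Or.inr fun b hb => hk (a⁻¹ * b) ?_
        rw [CfsgLib.Base.Frobenius.mem_conj_iff] at hb ⊢
        simpa [mul_assoc] using hb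
    let f : K → K := fun k => ⟨(k : L) * (x * (k : L)⁻¹ * x⁻¹), K.mul_mem k.2
      (hKn.conj_mem _ (inv_mem k.2) x)⟩
    have hf : Function.Injective f := fun k k' hkk => by
      have h1 : (k : L) * (x * (k : L)⁻¹ * x⁻¹) = (k' : L) * (x * (k' : L)⁻¹ * x⁻¹) :=
        congrArg Subtype.val hkk
      have h2 : ((k' : L)⁻¹ * k) * x = x * ((k' : L)⁻¹ * k) := by
        calc ((k' : L)⁻¹ * k) * x = (k' : L)⁻¹ * ((k : L) * (x * (k : L)⁻¹ * x⁻¹)) * x * k := by group
          _ = (k' : L)⁻¹ * ((k' : L) * (x * (k' : L)⁻¹ * x⁻¹)) * x * k := by rw [h1]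
          _ = x * ((k' : L)⁻¹ * k) := by group
      have h3 := CfsgLib.Base.Frobenius.mem_of_commute hH hg hx1 h2
      have h4 : (k' : L)⁻¹ * k ∈ Cfsg.frobeniusKernel H := by
        rw [← hK]; exact K.mul_mem (inv_mem k'.2) k.2
      rcases h4 with h4 | h4
      · exact Subtype.ext (inv_mul_eq_one.1 h4).symm
      · exact absurd (CfsgLib.Base.Frobenius.mem_conj_iff.2 (by simpa using h3)) (h4 1)
    refine hcon.1 fun k hk => ?_
    obtain ⟨k', hk'⟩ := (Finite.injective_iff_surjective.1 hf) ⟨k, hk⟩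
    have h5 : (k' : L) * (x * (k' : L)⁻¹ * x⁻¹) = k := congrArg Subtype.val hk'
    rw [← h5]
    have h6 := N.mul_mem (hN.conj_mem x hxN k') (inv_mem hxN)
    simpa [mul_assoc] using h6
  refine ⟨⟨fun φ => ?_⟩, key⟩
  have hKn : K.Normal := by
    refine ⟨fun k hk a => ?_⟩
    rw [← SetLike.mem_coe, hK] at hk ⊢
    rcases hk with hk | hk
    · exact Or.inl (by rw [hk]; group)
    · refine Or.inr fun b hb => hk (a⁻¹ * b) ?_
      rw [CfsgLib.Base.Frobenius.mem_conj_iff] at hb ⊢
      simpa [mul_assoc] using hb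
  have hn : (K.comap φ.toMonoidHom).Normal := hKn.comap _
  have hc : Nat.card (K.comap φ.toMonoidHom) = Nat.card K :=
    Nat.card_congr (φ.toEquiv.subtypeEquiv fun _ => Iff.rfl)
  rcases key _ hn with h | h
  · exact (Subgroup.eq_of_le_of_card_ge h hc.le).symm
  · exact Subgroup.eq_of_le_of_card_ge h hc.ge

end Cfsg.Agent.S3383
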