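import Cfsg.Statements.S3385
import Cfsg.Agent.Lib.Recog.Sims.Trivalent

set_option autoImplicit false
open Cfsg

namespace Cfsg.Agent.S3385

/-- Sims' Theorem on primitive groups with a suborbit of length 3. Let G be a finite group acting faithfully and primitively on a set Ω, and suppose the stabilizer of a point a has an orbit of length 3 on Ω. Then the stabilizer of a has order 2^k · 3 for some k ≤ 4. -/
theorem result {G : Type*} [Group G] [Finite G] {Ω : Type*} [MulAction G Ω] [FaithfulSMul G Ω]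
    (hprim : MulAction.IsPreprimitive G Ω) (a b : Ω)
    (h3 : Nat.card (MulAction.orbit (MulAction.stabilizer G a) b) = 3) :
    ∃ k : ℕ, k ≤ 4 ∧ Nat.card ↥(MulAction.stabilizer G a) = 2 ^ k * 3 := by
  haveI := hprim
  haveI : Finite Ω := Finite.of_surjective (fun g : G => g • a)
    (fun x => (hprim.toIsPretransitive).exists_smul_eq a x)
  have hS3 : Nat.card (Equiv.Perm (Fin 3)) = 6 := by rw [Nat.card_perm, Nat.card_fin]; rfl
  have hS4 : Nat.card (Equiv.Perm (Fin 4)) = 24 := by rw [Nat.card_perm, Nat.card_fin]; rfl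
  rcases CfsgLib.Recog.Sims.trivalent_cases (G := G) a b h3 with ⟨e⟩ | ⟨e⟩ | ⟨e⟩ | ⟨e⟩ | ⟨e⟩
  · exact ⟨0, by omega, by rw [Nat.card_congr e.some.toEquiv]; simp⟩
  · exact ⟨1, by omega, by rw [Nat.card_congr e.some.toEquiv, hS3]; norm_num⟩
  · exact ⟨2, by omega, by rw [Nat.card_congr e.some.toEquiv, DihedralGroup.nat_card]; norm_num⟩
  · exact ⟨3, by omega, by rw [Nat.card_congr e.some.toEquiv, hS4]; norm_num⟩
  · exact ⟨4, by omega, by rw [Nat.card_congr e.some.toEquiv, Nat.card_prod, hS4]; simp⟩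

end Cfsg.Agent.S3385
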