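import Cfsg.Statements.S3389
import Cfsg.Agent.Lib.Recog.Fixity
import Cfsg.Agent.Lib.Base.Frobenius

set_option autoImplicit false
open Cfsg

namespace Cfsg.Agent.S3389

/-- Let G be a finite group acting faithfully and transitively on a finite set Ω with fixity k ≥ 1: every non-identity element fixes at most k points and some non-identity element fixes exactly k points. Then |Z(G)| divides k; if k = 2 then |G| is even; and for every prime p > k dividing |G| and every point α, either p does not divide |G_α| or G_α contains a Sylow p-subgroup of G. -/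
theorem result {G : Type*} [Group G] [Finite G] {Ω : Type*} [Fintype Ω] [MulAction G Ω] [FaithfulSMul G Ω]
    (htr : MulAction.IsPretransitive G Ω) (k : ℕ) (hk : 1 ≤ k)
    (hfix : ∀ g : G, g ≠ 1 → Nat.card (MulAction.fixedBy Ω g) ≤ k) (hex : ∃ g : G, g ≠ 1 ∧ Nat.card (MulAction.fixedBy Ω g) = k) :
    Nat.card (Subgroup.center G) ∣ k ∧ (k = 2 → 2 ∣ Nat.card G) ∧
      ∀ (p : ℕ), p.Prime → k < p → p ∣ Nat.card G → ∀ α : Ω,
        ¬ p ∣ Nat.card (MulAction.stabilizer G α) ∨ ¬ p ∣ (MulAction.stabilizer G α).index := by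
  classical
  obtain ⟨g, hg1, hgk⟩ := hex
  have hSle : ∀ (P : Subgroup G), P ≠ ⊥ → ∀ S : Set Ω,
      (∀ x ∈ S, P ≤ MulAction.stabilizer G x) → S.ncard ≤ k := by
    intro P hP S hS
    obtain ⟨a, ha, ha1⟩ := (Subgroup.bot_or_exists_ne_one P).resolve_left hP
    refine le_trans ?_ (hfix a ha1)
    rw [Nat.card_coe_set_eq]
    exact Set.ncard_le_ncard (fun x hx => hS x hx ha) (Set.toFinite _)
  refine ⟨?_, ?_, ?_⟩
  · rw [← hgk]
    letI : SMul (Subgroup.center G) (MulAction.fixedBy Ω g) := ⟨fun z x => ⟨(z : G) • (x : Ω), by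
      rw [MulAction.mem_fixedBy, smul_smul, Subgroup.mem_center_iff.1 z.2 g, ← smul_smul, x.2]⟩⟩
    letI : MulAction (Subgroup.center G) (MulAction.fixedBy Ω g) :=
      { one_smul := fun x => Subtype.ext (one_smul G (x : Ω))
        mul_smul := fun a b x => Subtype.ext (mul_smul (a : G) (b : G) (x : Ω)) }
    refine CfsgLib.Base.card_dvd_of_free fun z x hzx => Subtype.ext ?_
    refine FaithfulSMul.eq_of_smul_eq_smul fun y : Ω => ?_
    obtain ⟨h, rfl⟩ := MulAction.exists_smul_eq G (x : Ω) y
    rw [Subgroup.coe_one, one_smul, smul_smul, ← Subgroup.mem_center_iff.1 z.2 h, ← smul_smul,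
      show (z : G) • (x : Ω) = x from congrArg Subtype.val hzx]
  · intro hk2
    by_contra h2
    rw [hk2, Nat.card_coe_set_eq, Set.ncard_eq_two] at hgk
    obtain ⟨a, b, hab, hfx⟩ := hgk
    have hgD : g ∈ MulAction.stabilizer G a ⊓ MulAction.stabilizer G b := by
      have h1 : a ∈ MulAction.fixedBy Ω g ∧ b ∈ MulAction.fixedBy Ω g := by rw [hfx]; simp
      exact h1
    have hne : Nat.card (MulAction.stabilizer G a ⊓ MulAction.stabilizer G b : Subgroup G) ≠ 1 :=
      fun h => hg1 (by rw [Subgroup.card_eq_one] at h; rw [h] at hgD; exact hgD)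
    obtain ⟨p, hp, hpD⟩ := Nat.exists_prime_and_dvd hne
    have hp2 : p ≠ 2 := fun h => h2 (h ▸ hpD.trans (Subgroup.card_subgroup_dvd_card _))
    haveI := Fact.mk hp
    obtain ⟨P₀⟩ : Nonempty (Sylow p (MulAction.stabilizer G a ⊓ MulAction.stabilizer G b : Subgroup G)) :=
      inferInstance
    set n := (Nat.card (MulAction.stabilizer G a ⊓ MulAction.stabilizer G b : Subgroup G)).factorization p
      with hn
    set P := (P₀ : Subgroup (MulAction.stabilizer G a ⊓ MulAction.stabilizer G b : Subgroup G)).map
      (MulAction.stabilizer G a ⊓ MulAction.stabilizer G b).subtype with hPdef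
    have hP : Nat.card P = p ^ n := by
      rw [hPdef, Subgroup.card_map_of_injective (Subgroup.subtype_injective _)]
      exact P₀.card_eq_multiplicity
    have hPle : P ≤ MulAction.stabilizer G a ⊓ MulAction.stabilizer G b := Subgroup.map_subtype_le _
    have hn1 : 1 ≤ n := (hp.factorization_pos_of_dvd Nat.card_pos.ne' hpD)
    have hPbot : P ≠ ⊥ := fun h => by
      rw [h, Subgroup.card_bot] at hP
      exact absurd hP.symm (Nat.one_lt_pow (by omega) hp.one_lt).ne'
    have hmax : ¬ p ^ (n + 1) ∣ Nat.card (MulAction.stabilizer G a ⊓ MulAction.stabilizer G b : Subgroup G) :=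
      Nat.pow_succ_factorization_not_dvd Nat.card_pos.ne' hp
    have hnd : ¬ p ^ (n + 1) ∣ Nat.card (MulAction.stabilizer G a) := fun hd => by
      obtain ⟨S, hS, -, hSP⟩ := CfsgLib.Recog.exists_orbit_fixed hP (hPle.trans inf_le_left) hd
        (hPle.trans inf_le_right) hmax
      have := hSle P hPbot S hSP
      have := hp.two_le
      omega
    obtain ⟨h, hh⟩ := MulAction.exists_smul_eq G a b
    have hca : ∀ {Q : Subgroup G}, Q ≤ MulAction.stabilizer G a → Nat.card Q = p ^ n →
        Nat.card (Q.subgroupOf (MulAction.stabilizer G a)) =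
          p ^ (Nat.card (MulAction.stabilizer G a)).factorization p := by
      intro Q hQ hQc
      rw [Nat.card_congr (Subgroup.subgroupOfEquivOfLe hQ).toEquiv, hQc]
      congr 1
      refine le_antisymm ?_ ?_
      · rw [← hp.pow_dvd_iff_le_factorization Nat.card_pos.ne', ← hQc]
        exact Subgroup.card_dvd_of_le hQ
      · by_contra hlt
        exact hnd ((hp.pow_dvd_iff_le_factorization Nat.card_pos.ne').2 (by omega))
    set Q := P.comap (MulAut.conj h).toMonoidHom with hQ
    have hQle : Q ≤ MulAction.stabilizer G a := fun x hx => by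
      have h1 : (h * x * h⁻¹) • b = b := (hPle hx).2
      rw [MulAction.mem_stabilizer_iff, ← smul_left_cancel_iff h]
      conv_rhs => rw [hh, ← h1, ← hh, smul_smul, inv_mul_cancel_right]
      rw [smul_smul]
    have hQc : Nat.card Q = p ^ n := by
      rw [← hP]
      exact Nat.card_congr ((MulAut.conj h).toEquiv.subtypeEquiv fun _ => Iff.rfl)
    obtain ⟨u, hu⟩ := MulAction.exists_smul_eq (MulAction.stabilizer G a)
      (Sylow.ofCard _ (hca (hPle.trans inf_le_left) hP)) (Sylow.ofCard _ (hca hQle hQc))
    -- `h u` normalises `P` and moves `a` to `b`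
    have hy : ∀ x ∈ P, (h * (u : G)) * x * (h * (u : G))⁻¹ ∈ P := by
      intro x hx
      have h1 : (MulAut.conj u) (⟨x, (hPle hx).1⟩ : MulAction.stabilizer G a) ∈
          Q.subgroupOf (MulAction.stabilizer G a) := by
        have h2 := congrArg (fun R : Sylow p (MulAction.stabilizer G a) =>
          (R : Subgroup (MulAction.stabilizer G a))) hu
        rw [Sylow.coe_subgroup_smul] at h2
        simp only [Sylow.coe_ofCard] at h2
        rw [← h2]
        exact Subgroup.smul_mem_pointwise_smul _ (MulAut.conj u) _ hx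
      have h3 : h * ((u : G) * x * (u : G)⁻¹) * h⁻¹ ∈ P := h1
      simpa [mul_assoc] using h3
    set y := h * (u : G) with hydef
    have hya : y • a = b := by rw [hydef, ← smul_smul, u.2, hh]
    have hPy : ∀ x ∈ P, x • (y • b) = y • b := by
      intro x hx
      let f : P → P := fun z => ⟨y * z * y⁻¹, hy z z.2⟩
      have hf : Function.Injective f := fun z z' hz => Subtype.ext (by
        simpa [f] using congrArg Subtype.val hz)
      obtain ⟨x', hx'⟩ := Finite.injective_iff_surjective.1 hf ⟨x, hx⟩
      rw [← show y * (x' : G) * y⁻¹ = x from congrArg Subtype.val hx', smul_smul,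
        inv_mul_cancel_right, ← smul_smul, (hPle x'.2).2]
    have hyb : y • b = a := by
      by_contra hne'
      have hyb' : y • b ≠ b := fun h' => hab (MulAction.injective y (hya.trans h'.symm))
      have h3 := hSle P hPbot {a, b, y • b} (by
        rintro z (rfl | rfl | rfl)
        · exact hPle.trans inf_le_left
        · exact hPle.trans inf_le_right
        · exact fun x hx => hPy x hx)
      rw [Set.ncard_eq_three.2 ⟨a, b, y • b, hab, Ne.symm hne', Ne.symm hyb', rfl⟩] at h3
      omega
    apply h2
    refine dvd_trans ?_ (orderOf_dvd_natCard y)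
    by_contra hodd
    have hco : (2 : ℕ).Coprime (orderOf y) := Nat.prime_two.coprime_iff_not_dvd.2 hodd
    obtain ⟨m, hm⟩ := exists_pow_eq_self_of_coprime hco
    have hfy : y ^ 2 ∈ MulAction.stabilizer G a := by
      rw [MulAction.mem_stabilizer_iff, sq, ← smul_smul, hya, hyb]
    have := (MulAction.stabilizer G a).pow_mem hfy m
    rw [hm, MulAction.mem_stabilizer_iff, hya] at this
    exact hab this.symm
  · intro p hp hkp hpG a
    haveI := Fact.mk hp
    refine or_iff_not_imp_left.2 fun hpd => ?_
    rw [not_not] at hpd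
    obtain ⟨P₀⟩ : Nonempty (Sylow p (MulAction.stabilizer G a)) := inferInstance
    set n := (Nat.card (MulAction.stabilizer G a)).factorization p with hn
    set P := (P₀ : Subgroup (MulAction.stabilizer G a)).map (MulAction.stabilizer G a).subtype with hPdef
    have hP : Nat.card P = p ^ n := by
      rw [hPdef, Subgroup.card_map_of_injective (Subgroup.subtype_injective _)]
      exact P₀.card_eq_multiplicity
    have hn1 : 1 ≤ n := hp.factorization_pos_of_dvd Nat.card_pos.ne' hpd
    have hPbot : P ≠ ⊥ := fun h => by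
      rw [h, Subgroup.card_bot] at hP
      exact absurd hP.symm (Nat.one_lt_pow (by omega) hp.one_lt).ne'
    intro hidx
    have hd : p ^ (n + 1) ∣ Nat.card (⊤ : Subgroup G) := by
      rw [Subgroup.card_top, ← (MulAction.stabilizer G a).card_mul_index, pow_succ]
      exact mul_dvd_mul (Nat.ordProj_dvd _ _) hidx
    obtain ⟨S, hS, -, hSP⟩ := CfsgLib.Recog.exists_orbit_fixed hP le_top hd (β := a)
      (Subgroup.map_subtype_le _) (by
        rw [top_inf_eq]; exact Nat.pow_succ_factorization_not_dvd Nat.card_pos.ne' hp)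
    have := hSle P hPbot S hSP
    omega

end Cfsg.Agent.S3389
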