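import Cfsg.Statements.S3391
import Cfsg.Agent.Lib.KnownA.Suzuki.Fixity

set_option autoImplicit false
open Cfsg

namespace Cfsg.Agent.S3391

/-- Let q = 2^{2m+1} ≥ 8 and let G be isomorphic to the Suzuki group Sz(q). If G acts faithfully and transitively on a finite set Ω with fixity 2 (every non-identity element fixes at most two points, and some fixes exactly two), then either |Ω| = q² + 1 and the action is 2-transitive, or |Ω| = q²(q² + 1) and the point stabilizers have order q − 1. -/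
theorem result {G : Type*} [Group G] [Finite G] (F : Type) [Field F] [Fintype F] (m : ℕ) (hm : 1 ≤ m) (hF : Fintype.card F = 2 ^ (2 * m + 1))
    (e : G ≃* ↥(Cfsg.Lie.Sz F (2 ^ (m + 1)))) {Ω : Type*} [Fintype Ω] [MulAction G Ω] [FaithfulSMul G Ω] (htr : MulAction.IsPretransitive G Ω)
    (hfix : ∀ g : G, g ≠ 1 → Nat.card (MulAction.fixedBy Ω g) ≤ 2) (hex : ∃ g : G, g ≠ 1 ∧ Nat.card (MulAction.fixedBy Ω g) = 2) :
    (Fintype.card Ω = Fintype.card F ^ 2 + 1 ∧ MulAction.IsMultiplyPretransitive G Ω 2) ∨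
    (Fintype.card Ω = Fintype.card F ^ 2 * (Fintype.card F ^ 2 + 1) ∧ ∀ α : Ω, Nat.card (MulAction.stabilizer G α) = Fintype.card F - 1) := by
  classical
  have H := CfsgLib.KnownA.Suzuki.titsField_of_card hF
  let L := ↥(Cfsg.Lie.Sz F (2 ^ (m + 1)))
  letI : MulAction L Ω := MulAction.compHom Ω e.symm.toMonoidHom
  have hsm : ∀ (l : L) (ω : Ω), l • ω = e.symm l • ω := fun _ _ => rfl
  haveI : FaithfulSMul L Ω := ⟨fun h => e.symm.injective
    (FaithfulSMul.eq_of_smul_eq_smul (α := Ω) fun ω => h ω)⟩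
  haveI : MulAction.IsPretransitive L Ω := ⟨fun x y => by
    obtain ⟨g, hg⟩ := htr.exists_smul_eq x y
    exact ⟨e g, by rw [hsm, MulEquiv.symm_apply_apply, hg]⟩⟩
  have hfb : ∀ l : L, MulAction.fixedBy Ω l = MulAction.fixedBy Ω (e.symm l) := fun l => rfl
  obtain ⟨g₀, hg₀, hg₀'⟩ := hex
  obtain ⟨α⟩ : Nonempty Ω := by
    obtain ⟨ω, -⟩ := (Nat.card_pos_iff.1 (by omega : 0 < Nat.card (MulAction.fixedBy Ω g₀))).1
    exact ⟨ω⟩
  have hcase : ∀ α : Ω, (∃ k : L, MulAction.stabilizer L α =
      (CfsgLib.KnownA.Suzuki.borel H).map (MulAut.conj k).toMonoidHom) ∨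
      Nat.card (MulAction.stabilizer L α) = Fintype.card F - 1 :=
    CfsgLib.KnownA.Suzuki.stabilizer_cases H hm hF rfl
      (fun l hl => by rw [hfb]; exact hfix _ (fun h => hl (e.symm.injective (h.trans (map_one _).symm))))
      ⟨e g₀, fun h => hg₀ (e.injective (h.trans (map_one _).symm)), by
        rw [hfb, MulEquiv.symm_apply_apply]; exact hg₀'⟩
  have hcardL : Nat.card L = (Fintype.card F ^ 2 + 1) * (Fintype.card F ^ 2 * (Fintype.card F - 1)) :=
    CfsgLib.KnownA.Suzuki.natCard_Sz H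
  have hG : ∀ ω : Ω, Nat.card (MulAction.stabilizer G ω) = Nat.card (MulAction.stabilizer L ω) := fun ω =>
    Nat.card_congr (e.toEquiv.subtypeEquiv fun g => by
      simp only [MulAction.mem_stabilizer_iff]
      show g • ω = ω ↔ e g • ω = ω
      rw [hsm, MulEquiv.symm_apply_apply])
  have hcardΩ : ∀ ω : Ω, Fintype.card Ω * Nat.card (MulAction.stabilizer L ω) = Nat.card L := by
    intro ω
    rw [← (MulAction.stabilizer L ω).card_mul_index, MulAction.index_stabilizer_of_transitive,
      Nat.card_eq_fintype_card (α := Ω), mul_comm]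
  have hF2 : 2 ≤ Fintype.card F := Fintype.one_lt_card
  have hpos : 0 < Fintype.card F ^ 2 * (Fintype.card F - 1) := Nat.mul_pos (by positivity) (by omega)
  by_cases hb : ∃ (ω : Ω) (k : L), MulAction.stabilizer L ω =
      (CfsgLib.KnownA.Suzuki.borel H).map (MulAut.conj k).toMonoidHom
  · obtain ⟨ω, k, hk⟩ := hb
    set β := k⁻¹ • ω with hβ
    have hstab : MulAction.stabilizer L β = CfsgLib.KnownA.Suzuki.borel H := by
      ext l
      rw [MulAction.mem_stabilizer_iff, hβ, eq_inv_smul_iff, ← mul_smul, ← mul_smul,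
        ← MulAction.mem_stabilizer_iff, hk, Subgroup.mem_map_equiv]
      simp [mul_assoc]
    refine Or.inl ⟨?_, ?_⟩
    · have h := hcardΩ β
      rw [hstab, CfsgLib.KnownA.Suzuki.natCard_borel H, hcardL, Nat.card_eq_fintype_card] at h
      exact Nat.eq_of_mul_eq_mul_right hpos h
    · rw [MulAction.is_two_pretransitive_iff]
      intro a b c d hab hcd
      obtain ⟨la, rfl⟩ := MulAction.exists_smul_eq L β a
      obtain ⟨lb, rfl⟩ := MulAction.exists_smul_eq L β b
      obtain ⟨lc, rfl⟩ := MulAction.exists_smul_eq L β c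
      obtain ⟨ld, rfl⟩ := MulAction.exists_smul_eq L β d
      have heq : ∀ x y : L, (QuotientGroup.mk x : L ⧸ CfsgLib.KnownA.Suzuki.borel H) = QuotientGroup.mk y ↔
          x • β = y • β := fun x y => by
        rw [QuotientGroup.eq, ← hstab, MulAction.mem_stabilizer_iff, mul_smul, inv_smul_eq_iff, eq_comm]
      have h2 := (CfsgLib.KnownA.Suzuki.two_pretransitive H)
      rw [MulAction.is_two_pretransitive_iff] at h2
      obtain ⟨g, hg1, hg2⟩ := h2 (a := QuotientGroup.mk la) (b := QuotientGroup.mk lb)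
        (c := QuotientGroup.mk lc) (d := QuotientGroup.mk ld)
        (fun h => hab ((heq _ _).1 h)) (fun h => hcd ((heq _ _).1 h))
      refine ⟨e.symm g, ?_, ?_⟩
      · rw [← hsm, ← mul_smul]
        exact (heq _ _).1 hg1
      · rw [← hsm, ← mul_smul]
        exact (heq _ _).1 hg2
  · push Not at hb
    have hsize : ∀ ω : Ω, Nat.card (MulAction.stabilizer L ω) = Fintype.card F - 1 := fun ω =>
      (hcase ω).resolve_left fun ⟨k, hk⟩ => hb ω k hk
    refine Or.inr ⟨?_, fun ω => by rw [hG, hsize]⟩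
    have h := hcardΩ α
    rw [hsize, hcardL] at h
    refine Nat.eq_of_mul_eq_mul_right (show 0 < Fintype.card F - 1 by omega) ?_
    rw [h]; ring

end Cfsg.Agent.S3391
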