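import Cfsg.Statements.S3412
import Cfsg.Agent.Lib.Small.L33.SLFacts
import Cfsg.Agent.Lib.Small.L33.CentralizerRecog
import Cfsg.Agent.Lib.Small.L33.Simple

set_option autoImplicit false
open Cfsg

namespace Cfsg.Agent.S3412

open Subgroup CfsgLib.Small.L33

local notation "SL33" => Matrix.SpecialLinearGroup (Fin 3) (ZMod 3)

theorem central_facts : ∀ b ∈ CfsgLib.Small.GL23.els,
    (∀ a ∈ CfsgLib.Small.GL23.els, b * a = a * b) → b = 1 ∨ b = negOne := by decide +kernel

theorem pResidual_eq_top {H : Type*} [Group H] [Finite H] (hH : Nat.card H = 5616) {x : H}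
    (hx : orderOf x = 13) (hC : Nat.card (centralizer ({x} : Set H)) = 13) :
    Cfsg.pResidual 2 H = ⊤ := by
  haveI : Fact (Nat.Prime 13) := ⟨by norm_num⟩
  set N := Cfsg.pResidual 2 H with hN
  haveI : N.Normal := by
    refine ⟨fun n hn g => ?_⟩
    have h : N.map (MulAut.conj g).toMonoidHom ≤ N := by
      rw [hN, Cfsg.pResidual, MonoidHom.map_closure, closure_le]
      rintro _ ⟨a, ha, rfl⟩
      exact subset_closure (show Nat.Coprime (orderOf ((MulAut.conj g) a)) 2 by
        rwa [MulEquiv.orderOf_eq])
    exact h ⟨n, hn, rfl⟩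
  obtain ⟨P, hP⟩ := (IsPGroup.of_card (p := 13) (n := 1)
    (by rw [Nat.card_zpowers, hx, pow_one]) : IsPGroup 13 (zpowers x)).exists_le_sylow
  have hP13 : Nat.card (P : Subgroup H) = 13 := by
    rw [P.card_eq_multiplicity, hH, show (5616 : ℕ) = 13 ^ 1 * 432 from rfl,
      Nat.factorization_mul (by norm_num) (by norm_num),
      Nat.Prime.factorization_pow (by norm_num : Nat.Prime 13)]
    simp [show (432 : ℕ).factorization 13 = 0 from Nat.factorization_eq_zero_of_not_dvd (by norm_num)]
  have hPx : (P : Subgroup H) = zpowers x :=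
    (eq_of_le_of_card_ge hP (by rw [hP13, Nat.card_zpowers, hx])).symm
  set M := normalizer ((P : Subgroup H) : Set H) with hM
  have hM39 : Nat.card M = 39 := by
    have h1 := (normalizerMonoidHom (P : Subgroup H)).ker.card_mul_index
    rw [index_ker, normalizerMonoidHom_ker,
      Nat.card_congr (subgroupOfEquivOfLe (centralizer_le_normalizer _)).toEquiv] at h1
    have hc : Nat.card (centralizer ((P : Subgroup H) : Set H)) = 13 := by
      rw [hPx, zpowers_eq_closure, centralizer_closure, hC]
    rw [hc] at h1
    have hr := (normalizerMonoidHom (P : Subgroup H)).range.card_subgroup_dvd_card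
    haveI : IsCyclic (P : Subgroup H) := isCyclic_of_prime_card hP13
    rw [IsCyclic.card_mulAut, hP13, Nat.totient_prime (by norm_num)] at hr
    have hrle := Nat.le_of_dvd (by norm_num) hr
    have h2 := M.card_mul_index
    rw [hH] at h2
    have hi : M.index % 13 = 1 := by
      have h := card_sylow_modEq_one 13 H
      rwa [Sylow.card_eq_index_normalizer P] at h
    change _ = Nat.card M at h1
    rw [← h1] at h2 ⊢
    generalize Nat.card (normalizerMonoidHom (P : Subgroup H)).range = r at hr hrle h2 ⊢
    interval_cases r <;> omega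
  have hMN : M ≤ N := fun m hm => subset_closure (show Nat.Coprime (orderOf m) 2 from
    ((show Nat.Coprime 39 2 by norm_num).of_dvd_left (hM39 ▸ Subgroup.orderOf_dvd_natCard _ hm)))
  have := Sylow.normalizer_sup_eq_top' P (N := N) (Subgroup.le_normalizer.trans hMN)
  rwa [sup_eq_right.2] at this
  exact hMN

/-- Let H be a finite group whose commuting graph (vertices the non-identity elements, two joined when they commute) is isomorphic to that of PSL_3(3): there is a bijection between the non-identity elements of H and of PSL_3(3) under which two elements commute exactly when their images do. Then H ≅ PSL_3(3). -/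
theorem result {H : Type*} [Group H] [Finite H]
    (f : {h : H // h ≠ 1} ≃ {g : Matrix.ProjectiveSpecialLinearGroup (Fin 3) (ZMod 3) // g ≠ 1})
    (hf : ∀ x y : {h : H // h ≠ 1}, (x : H) * y = y * x ↔ ((f x) : Matrix.ProjectiveSpecialLinearGroup (Fin 3) (ZMod 3)) * (f y) = (f y) * (f x)) :
    Nonempty (H ≃* Matrix.ProjectiveSpecialLinearGroup (Fin 3) (ZMod 3)) := by
  classical
  obtain ⟨π⟩ := nonempty_PSL
  let e₀ : H ≃ Matrix.ProjectiveSpecialLinearGroup (Fin 3) (ZMod 3) :=
    (Equiv.optionSubtypeNe (1 : H)).symm.trans
      ((Equiv.optionCongr f).trans (Equiv.optionSubtypeNe 1))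
  have he1 : e₀ 1 = 1 := by simp [e₀]
  have he : ∀ (x : H) (hx : x ≠ 1), e₀ x = f ⟨x, hx⟩ := fun x hx => by
    simp [e₀, Equiv.optionSubtypeNe_symm_of_ne hx]
  have hcomm₀ : ∀ x y : H, x * y = y * x ↔ e₀ x * e₀ y = e₀ y * e₀ x := by
    intro x y
    by_cases hx : x = 1
    · subst hx; simp [he1]
    by_cases hy : y = 1
    · subst hy; simp [he1]
    rw [he x hx, he y hy]
    exact hf ⟨x, hx⟩ ⟨y, hy⟩
  let e : H ≃ SL33 := e₀.trans π.symm.toEquiv
  have e_one : e 1 = 1 := by simp [e, he1]
  have hcomm : ∀ x y : H, x * y = y * x ↔ e x * e y = e y * e x := fun x y => by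
    rw [hcomm₀, ← π.symm.injective.eq_iff, map_mul, map_mul]
    rfl
  have hH : Nat.card H = 5616 := (Nat.card_congr e).trans card_SL33
  have hcent : ∀ x : H, Nat.card (centralizer ({x} : Set H)) =
      Nat.card (centralizer ({e x} : Set SL33)) := fun x =>
    Nat.card_congr (e.subtypeEquiv fun z => by
      rw [mem_centralizer_singleton_iff, mem_centralizer_singleton_iff, hcomm])
  set v := e.symm (block negOne) with hv
  have hev : e v = block negOne := e.apply_symm_apply _
  have hCv : ∀ z : H, z * v = v * z ↔ e z ∈ block.range := fun z => by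
    rw [hcomm, hev, commute_block]
  -- the preimages of the involutions are involutions
  have hinv : ∀ k : H, ∀ g : CfsgLib.Small.GL23.H, g * g = 1 → e k = block g → k * k = 1 := by
    intro k g hg hk
    by_cases hg1 : g = 1
    · rw [hg1, map_one, ← e_one] at hk
      rw [e.injective hk, one_mul]
    obtain ⟨w, hw⟩ := block_invol_conj hg hg1
    have hz : ∀ z : H, (∀ y : H, y * k = k * y → z * y = y * z) → z = 1 ∨ z = k := by
      intro z hzc
      have h1 : ∀ M : SL33, M * e k = e k * M → e z * M = M * e z := fun M hM => by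
        obtain ⟨y, rfl⟩ := e.surjective M
        exact (hcomm z y).1 (hzc y ((hcomm y k).2 hM))
      have h2 : ∀ a : CfsgLib.Small.GL23.H,
          (w * e z * w⁻¹) * block a = block a * (w * e z * w⁻¹) := fun a => by
        have hM := h1 (w⁻¹ * block a * w) (by
          rw [hk]
          have hb : block a * block negOne = block negOne * block a :=
            commute_block.2 ⟨a, rfl⟩
          rw [← hw] at hb
          calc w⁻¹ * block a * w * block g = w⁻¹ * (block a * (w * block g * w⁻¹)) * w := by group
            _ = w⁻¹ * ((w * block g * w⁻¹) * block a) * w := by rw [hb]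
            _ = block g * (w⁻¹ * block a * w) := by group)
        calc w * e z * w⁻¹ * block a = w * (e z * (w⁻¹ * block a * w)) * w⁻¹ := by group
          _ = w * ((w⁻¹ * block a * w) * e z) * w⁻¹ := by rw [hM]
          _ = block a * (w * e z * w⁻¹) := by group
      obtain ⟨b, hb⟩ := commute_block.1 (h2 negOne)
      have hb' : ∀ a, b * a = a * b := fun a => block_injective (by
        rw [map_mul, map_mul, hb]; exact h2 a)
      rcases central_facts b
        (CfsgLib.Small.GL23.mem_els b) (fun a _ => hb' a) with rfl | rfl
      · left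
        rw [map_one, eq_comm, conj_eq_one_iff] at hb
        exact e.injective (hb.trans e_one.symm)
      · right
        rw [← hw] at hb
        exact e.injective ((mul_left_cancel (mul_right_cancel hb)).symm.trans hk.symm)
    rcases hz (k * k) fun y hy => ((show Commute y k from hy).mul_right hy).eq.symm with h | h
    · exact h
    · rw [mul_eq_right.1 h, one_mul]
  have hv2 : orderOf v = 2 := by
    refine orderOf_eq_prime (by rw [sq]; exact hinv v negOne basic_facts.2.2.2.2.2.2 hev) fun h => ?_
    rw [h, e_one, ← map_one block] at hev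
    exact negOne_ne (block_injective hev).symm
  set K := centralizer ({v} : Set H) with hK
  let φ : K ≃ CfsgLib.Small.GL23.H :=
    (e.subtypeEquiv fun z => by rw [mem_centralizer_singleton_iff, hCv] : K ≃ block.range).trans
      (MonoidHom.ofInjective block_injective).symm.toEquiv
  have hφ : ∀ k : K, block (φ k) = e k := fun k => by
    have := MonoidHom.apply_ofInjective_symm block_injective
      (⟨e k, (hCv k).1 (mem_centralizer_singleton_iff.1 k.2)⟩ : block.range)
    exact this
  obtain ⟨eK⟩ : Nonempty (K ≃* CfsgLib.Small.GL23.H) := by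
    refine iso_GL23_of_commuting φ (fun a b => ?_) ?_ fun k hk => ?_
    · rw [← block_injective.eq_iff, map_mul, map_mul, hφ, hφ, ← hcomm, Subtype.ext_iff]
      rfl
    · exact block_injective (by rw [hφ, map_one]; exact e_one)
    · exact Subtype.ext (hinv _ (φ k) hk (hφ k).symm)
  set x := e.symm singer with hx
  have hCx : Nat.card (centralizer ({x} : Set H)) = 13 := by
    rw [hcent, hx, e.apply_symm_apply, card_centralizer_singer]
  have hox : orderOf x = 13 := by
    have h := hCx ▸ Subgroup.orderOf_dvd_natCard (centralizer ({x} : Set H))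
      (mem_centralizer_singleton_iff.2 rfl : x ∈ _)
    rcases (Nat.dvd_prime (by norm_num : Nat.Prime 13)).1 h with h | h
    · exfalso
      rw [orderOf_eq_one_iff.1 h] at hx
      have h1 : singer = 1 := by rw [← e_one, hx, e.apply_symm_apply]
      have := orderOf_singer
      rw [h1, orderOf_one] at this
      omega
    · exact h
  haveI := isSimpleGroup_of_centralizer (pResidual_eq_top hH hox hCx) hv2 eK
  haveI := Fintype.ofFinite H
  obtain ⟨u, s, B⟩ := exists_base hH hv2 eK
  exact iso_PSL B

end Cfsg.Agent.S3412
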