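import Cfsg.Statements.S3413
import Cfsg.Agent.Lib.Small.Order7920Recog

set_option autoImplicit false
open Cfsg

namespace Cfsg.Agent.S3413

/-- Let H be a finite group whose commuting graph (vertices the non-identity elements, two joined when they commute) is isomorphic to that of the Mathieu group M_11: there is a bijection between the non-identity elements of H and of M_11 under which two elements commute exactly when their images do. Then H ≅ M_11. -/
theorem result {H : Type*} [Group H] [Finite H]
    (f : {h : H // h ≠ 1} ≃ {g : ↥Cfsg.Spor.M11 // g ≠ 1})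
    (hf : ∀ x y : {h : H // h ≠ 1}, (x : H) * y = y * x ↔ ((f x) : ↥Cfsg.Spor.M11) * (f y) = (f y) * (f x)) :
    Nonempty (H ≃* ↥Cfsg.Spor.M11) := by
  classical
  haveI := CfsgLib.Small.O7920.isSimpleGroup_M11
  let e : H ≃ ↥Cfsg.Spor.M11 :=
    (Equiv.optionSubtypeNe (1 : H)).symm.trans
      ((Equiv.optionCongr f).trans (Equiv.optionSubtypeNe 1))
  have he1 : e 1 = 1 := by simp [e]
  have he : ∀ (x : H) (hx : x ≠ 1), e x = (f ⟨x, hx⟩ : ↥Cfsg.Spor.M11) := fun x hx => by
    simp [e, Equiv.optionSubtypeNe_symm_of_ne hx]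
  have hcomm : ∀ x y : H, x * y = y * x ↔ e x * e y = e y * e x := by
    intro x y
    by_cases hx : x = 1
    · subst hx; simp [he1]
    by_cases hy : y = 1
    · subst hy; simp [he1]
    rw [he x hx, he y hy]
    exact hf ⟨x, hx⟩ ⟨y, hy⟩
  have hH : Nat.card H = 7920 := (Nat.card_congr e).trans CfsgLib.MathieuOut.natCard_M11
  obtain ⟨u, hu, hC, -⟩ := CfsgLib.Small.O7920.exists_eleven_M11
  set v := e.symm u with hv
  have hev : e v = u := e.apply_symm_apply u
  have hCv : Nat.card (Subgroup.centralizer ({v} : Set H)) = 11 := by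
    rw [← hC]
    refine Nat.card_congr (e.subtypeEquiv fun x => ?_)
    rw [Subgroup.mem_centralizer_singleton_iff, Subgroup.mem_centralizer_singleton_iff, hcomm, hev]
  have hv1 : v ≠ 1 := fun h => by
    rw [h, he1] at hev
    rw [← hev, orderOf_one] at hu
    omega
  have hov : orderOf v = 11 := by
    have h := hCv ▸ Subgroup.orderOf_dvd_natCard (Subgroup.centralizer ({v} : Set H))
      (Subgroup.mem_centralizer_singleton_iff.2 rfl : v ∈ _)
    rcases (Nat.dvd_prime (by norm_num : Nat.Prime 11)).1 h with h | h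
    exacts [absurd (orderOf_eq_one_iff.1 h) hv1, h]
  haveI := CfsgLib.Small.O7920.isSimpleGroup_of_centralizer hH hov hCv
  exact CfsgLib.Small.O7920.iso_M11 hH

end Cfsg.Agent.S3413
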