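import Cfsg.Statements.S3419
import Cfsg.Agent.Lib.Recog.AltHall
import Cfsg.Agent.Lib.Coprime.Hall

set_option autoImplicit false
open Cfsg

namespace Cfsg.Agent.S3419

/-- Let n ≥ 5 and let G be a finite group with the same order and the same set of element orders as the alternating group of degree n. Then G is not solvable. -/
theorem result {G : Type*} [Group G] [Finite G] (n : ℕ) (hn : 5 ≤ n)
    (hcard : Nat.card G = Nat.card ↥(alternatingGroup (Fin n)))
    (hspec : Set.range (orderOf : G → ℕ) = Set.range (orderOf : ↥(alternatingGroup (Fin n)) → ℕ)) :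
    ¬ Group.IsSolvable G := by
  intro hsol
  have hA : Nat.card G * 2 = n.factorial := by
    haveI : Nontrivial (Fin n) := Fin.nontrivial_iff_two_le.2 (by omega)
    rw [hcard, mul_comm, two_mul_nat_card_alternatingGroup, Nat.card_perm, Nat.card_eq_fintype_card,
      Fintype.card_fin]
  -- a pair of primes
  obtain ⟨p, q, hp, hq, hpq, hsum, hple, hqle, hq2, huniq⟩ : ∃ p q : ℕ, p.Prime ∧ q.Prime ∧
      q < p ∧ n < p + q ∧ p ≤ n ∧ q ≤ n ∧ 3 ≤ q ∧
      ∀ h : ℕ, h ∣ Nat.card G → (∀ r : ℕ, r.Prime → r ∣ h → r = p ∨ r = q) →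
        ∀ d, d ∣ h → (d % p = 1 → d = 1) ∧ (d % q = 1 → d = 1) := by
    have small : ∀ (p q e f : ℕ), p.Prime → q.Prime → q < p → n < p + q → p ≤ n → q ≤ n → 3 ≤ q →
        ¬ p ^ (e + 1) ∣ n.factorial → ¬ q ^ (f + 1) ∣ n.factorial →
        (∀ i ≤ e, ∀ j ≤ f, (p ^ i * q ^ j % p = 1 → p ^ i * q ^ j = 1) ∧
          (p ^ i * q ^ j % q = 1 → p ^ i * q ^ j = 1)) →
        ∃ p q : ℕ, p.Prime ∧ q.Prime ∧ q < p ∧ n < p + q ∧ p ≤ n ∧ q ≤ n ∧ 3 ≤ q ∧
          ∀ h : ℕ, h ∣ Nat.card G → (∀ r : ℕ, r.Prime → r ∣ h → r = p ∨ r = q) →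
            ∀ d, d ∣ h → (d % p = 1 → d = 1) ∧ (d % q = 1 → d = 1) := by
      intro p q e f hp hq hqp hsum hpn hqn hq3 hpe hqf hcases
      refine ⟨p, q, hp, hq, hqp, hsum, hpn, hqn, hq3, fun h hh hr d hd => ?_⟩
      have hdn : d ∣ n.factorial := hd.trans (hh.trans (Dvd.intro 2 hA))
      have hd0 : d ≠ 0 := ne_zero_of_dvd_ne_zero n.factorial_ne_zero hdn
      have hdeq : d = p ^ d.factorization p * q ^ d.factorization q := by
        conv_lhs => rw [← Nat.prod_factorization_pow_eq_self hd0]
        rw [Finsupp.prod_of_support_subset d.factorization (s := {p, q}) ?_ _ (fun i _ => pow_zero i),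
          Finset.prod_pair hqp.ne']
        intro r hr'
        rw [Nat.support_factorization, Nat.mem_primeFactors] at hr'
        rcases hr r hr'.1 (hr'.2.1.trans hd) with h | h <;> simp [h]
      have hi : d.factorization p ≤ e := by
        by_contra hc
        exact hpe ((pow_dvd_pow p (by omega)).trans ((Nat.ordProj_dvd d p).trans hdn))
      have hj : d.factorization q ≤ f := by
        by_contra hc
        exact hqf ((pow_dvd_pow q (by omega)).trans ((Nat.ordProj_dvd d q).trans hdn))
      rw [hdeq]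
      exact hcases _ hi _ hj
    have big : ∀ p q : ℕ, p.Prime → q.Prime → q < p → p ≤ n → n < 2 * q → 3 ≤ q →
        ∃ p q : ℕ, p.Prime ∧ q.Prime ∧ q < p ∧ n < p + q ∧ p ≤ n ∧ q ≤ n ∧ 3 ≤ q ∧
          ∀ h : ℕ, h ∣ Nat.card G → (∀ r : ℕ, r.Prime → r ∣ h → r = p ∨ r = q) →
            ∀ d, d ∣ h → (d % p = 1 → d = 1) ∧ (d % q = 1 → d = 1) := by
      intro p q hp hq hqp hpn hn2 hq3
      refine small p q 1 1 hp hq hqp (by omega) hpn (by omega) hq3
        (CfsgLib.Recog.not_sq_dvd_factorial hp (by omega))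
        (CfsgLib.Recog.not_sq_dvd_factorial hq (by omega)) ?_
      intro i hi j hj
      have hqm : q % p = q := Nat.mod_eq_of_lt hqp
      have hpm : p % q = p - q := by
        rw [Nat.mod_eq_sub_mod hqp.le, Nat.mod_eq_of_lt (by omega)]
      have hne : p - q ≠ 1 := fun h => by
        have h1 := hp.eq_two_or_odd
        have h2 := hq.eq_two_or_odd
        omega
      interval_cases i <;> interval_cases j <;> refine ⟨fun hm => ?_, fun hm => ?_⟩ <;>
        simp [Nat.mul_mod, hqm, hpm] at hm ⊢ <;> omega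
    rcases Nat.lt_or_ge n 12 with hlt | hge
    · interval_cases n
      · exact small 5 3 1 1 (by norm_num) (by norm_num) (by norm_num) (by norm_num) (by norm_num)
          (by norm_num) (by norm_num) (by decide) (by decide) (by decide)
      · exact small 5 3 1 2 (by norm_num) (by norm_num) (by norm_num) (by norm_num) (by norm_num)
          (by norm_num) (by norm_num) (by decide) (by decide) (by decide)
      · exact big 7 5 (by norm_num) (by norm_num) (by norm_num) (by norm_num) (by norm_num) (by norm_num)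
      · exact big 7 5 (by norm_num) (by norm_num) (by norm_num) (by norm_num) (by norm_num) (by norm_num)
      · exact big 7 5 (by norm_num) (by norm_num) (by norm_num) (by norm_num) (by norm_num) (by norm_num)
      · exact small 7 5 1 2 (by norm_num) (by norm_num) (by norm_num) (by norm_num) (by norm_num)
          (by norm_num) (by norm_num) (by decide) (by decide) (by decide)
      · exact big 11 7 (by norm_num) (by norm_num) (by norm_num) (by norm_num) (by norm_num) (by norm_num)
    · obtain ⟨a, b, ha, hb, hm, hab, hbm⟩ := CfsgLib.Recog.exists_two_primes (m := n / 2) (by omega)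
      exact big b a hb ha hab (by omega) (by omega) (by omega)
  have hdvd : ∀ r : ℕ, r.Prime → r ≤ n → 3 ≤ r → r ∣ Nat.card G := fun r hr hrn hr3 => by
    rcases hr.dvd_mul.1 (hA ▸ (Nat.dvd_factorial hr.pos hrn : r ∣ n.factorial)) with h | h
    · exact h
    · exact absurd (Nat.le_of_dvd (by norm_num) h) (by omega)
  haveI := hsol
  obtain ⟨H, hH, -⟩ := CfsgLib.Coprime.hallD_of_solvable (G := G) {p, q}
  have hHd : Nat.card H ∣ Nat.card G := Subgroup.card_subgroup_dvd_card H
  have hin : ∀ r : ℕ, r.Prime → r ∣ Nat.card G → r ∈ ({p, q} : Set ℕ) → r ∣ Nat.card H := by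
    intro r hr hrG hrS
    rw [← H.card_mul_index] at hrG
    exact (hr.dvd_mul.1 hrG).resolve_right (hH.2 r hr hrS)
  have hu := huniq _ hHd (fun r hr hrd => by simpa using hH.1 r hr hrd)
  obtain ⟨x, hx⟩ := CfsgLib.Recog.exists_orderOf_mul_of_sylow_unique hp hq hpq.ne'
    (hin p hp (hdvd p hp hple (by omega)) (by simp)) (hin q hq (hdvd q hq hqle hq2) (by simp))
    (fun d hd => (hu d hd).1) (fun d hd => (hu d hd).2)
  have hmem : p * q ∈ Set.range (orderOf : G → ℕ) := ⟨(x : G), by rw [Subgroup.orderOf_coe, hx]⟩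
  rw [hspec] at hmem
  obtain ⟨σ, hσ⟩ := hmem
  exact CfsgLib.Recog.not_mul_dvd_orderOf hp hq hpq.ne' hsum (σ : Equiv.Perm (Fin n))
    (by rw [Subgroup.orderOf_coe, hσ])

end Cfsg.Agent.S3419
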