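import Cfsg.Statements.S3420
import Cfsg.Agent.Lib.Recog.AltHall
import Cfsg.Agent.Lib.Maximal.CharSimple
import Cfsg.Agent.Lib.Base.MinimalNormal

set_option autoImplicit false
open Cfsg

namespace Cfsg.Agent.S3420

/-- Let n ≥ 11 and let G be a finite group with the same order and the same set of element orders as the alternating group of degree n. Then G has normal subgroups N < H such that H/N is a non-abelian simple group whose order is divisible by every prime p with n/2 < p ≤ n. -/
theorem result {G : Type*} [Group G] [Finite G] (n : ℕ) (hn : 11 ≤ n)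
    (hcard : Nat.card G = Nat.card ↥(alternatingGroup (Fin n)))
    (hspec : Set.range (orderOf : G → ℕ) = Set.range (orderOf : ↥(alternatingGroup (Fin n)) → ℕ)) :
    ∃ (N H : Subgroup G) (_ : N.Normal), H.Normal ∧ N < H ∧
      IsSimpleGroup (↥H ⧸ N.subgroupOf H) ∧ ¬ IsMulCommutative (↥H ⧸ N.subgroupOf H) ∧
      ∀ p : ℕ, p.Prime → n < 2 * p → p ≤ n → p ∣ Nat.card (↥H ⧸ N.subgroupOf H) := by
  classical
  haveI : Nontrivial (Fin n) := Fin.nontrivial_iff_two_le.2 (by omega)
  have hA : Nat.card G * 2 = n.factorial := by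
    rw [hcard, mul_comm, two_mul_nat_card_alternatingGroup, Nat.card_perm, Nat.card_eq_fintype_card,
      Fintype.card_fin]
  -- the large primes
  set π : Set ℕ := {p | p.Prime ∧ n < 2 * p ∧ p ≤ n} with hπ
  have hdvdG : ∀ p ∈ π, p ∣ Nat.card G := by
    rintro p ⟨hp, h1, h2⟩
    rcases hp.dvd_mul.1 (hA ▸ (Nat.dvd_factorial hp.pos h2 : p ∣ n.factorial)) with h | h
    · exact h
    · exact absurd (Nat.le_of_dvd (by norm_num) h) (by omega)
  have hsq : ∀ p ∈ π, ¬ p ^ 2 ∣ Nat.card G := fun p hp h =>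
    CfsgLib.Recog.not_sq_dvd_factorial hp.1 hp.2.1 (h.trans (Dvd.intro 2 hA))
  have hcop : ∀ p ∈ π, ∀ q ∈ π, p ≠ q → q.Coprime (p - 1) := by
    intro p hp q hq hne
    rw [hq.1.coprime_iff_not_dvd]
    rintro ⟨c, hc⟩
    obtain ⟨hp1, hp2, hp3⟩ := hp
    obtain ⟨hq1, hq2, hq3⟩ := hq
    rcases c with _ | _ | c
    · omega
    · rcases hp1.eq_two_or_odd with h | h <;> rcases hq1.eq_two_or_odd with h' | h' <;> omega
    · nlinarith [Nat.sub_le p 1]
  -- no two of them are adjacent in a section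
  have noAdj : ∀ (K : Subgroup G) [K.Normal], ∀ p ∈ π, ∀ q ∈ π, p ≠ q → ∀ (x y : G ⧸ K),
      orderOf x = p → orderOf y = q → ∀ j : ℕ, y * x * y⁻¹ = x ^ j → False := by
    intro K _ p hp q hq hne x y hx hy j hj
    haveI := Fact.mk hp.1
    have hk : ∀ k : ℕ, y ^ k * x * (y ^ k)⁻¹ = x ^ (j ^ k) := by
      intro k
      induction k with
      | zero => simp
      | succ k ih =>
        calc y ^ (k + 1) * x * (y ^ (k + 1))⁻¹ = y * (y ^ k * x * (y ^ k)⁻¹) * y⁻¹ := by
              rw [pow_succ']; group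
          _ = (y * x * y⁻¹) ^ (j ^ k) := by rw [ih, conj_pow]
          _ = x ^ (j ^ (k + 1)) := by rw [hj, ← pow_mul, pow_succ']
    have hq' := hk q
    rw [← hy, pow_orderOf_eq_one, inv_one, one_mul, mul_one, hy] at hq'
    have hjq : (j : ZMod p) ^ q = 1 := by
      rw [← Nat.cast_pow, ← Nat.cast_one, ZMod.natCast_eq_natCast_iff, ← hx]
      exact pow_eq_pow_iff_modEq.1 (hq'.symm.trans (pow_one x).symm)
    have hj0 : (j : ZMod p) ≠ 0 := by
      intro h
      rw [h, zero_pow hq.1.ne_zero] at hjq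
      exact zero_ne_one hjq
    have hj1 : (j : ZMod p) = 1 := by
      rw [← orderOf_eq_one_iff]
      exact Nat.eq_one_of_dvd_coprimes (hcop p hp q hq hne) (orderOf_dvd_of_pow_eq_one hjq)
        (ZMod.orderOf_dvd_card_sub_one hj0)
    have hcomm : Commute y x := by
      rw [← Nat.cast_one, ZMod.natCast_eq_natCast_iff, ← hx] at hj1
      have h1 : x ^ j = x := (pow_eq_pow_iff_modEq.2 hj1).trans (pow_one x)
      exact mul_inv_eq_iff_eq_mul.1 (hj.trans h1)
    have hyx : orderOf (y * x) = q * p := by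
      rw [hcomm.orderOf_mul_eq_mul_orderOf_of_coprime, hx, hy]
      rw [hx, hy]
      exact (Nat.coprime_primes hq.1 hp.1).2 hne.symm
    obtain ⟨g, hg⟩ := QuotientGroup.mk'_surjective K (y * x)
    have hd : q * p ∣ orderOf g := by
      rw [← hyx, ← hg]
      exact orderOf_map_dvd _ g
    obtain ⟨z, hz⟩ : ∃ z : G, orderOf z = q * p := ⟨_, orderOf_pow_orderOf_div (orderOf_pos g).ne' hd⟩
    have hmem : q * p ∈ Set.range (orderOf : G → ℕ) := ⟨z, hz⟩
    rw [hspec] at hmem
    obtain ⟨σ, hσ⟩ := hmem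
    exact CfsgLib.Recog.not_mul_dvd_orderOf hq.1 hp.1 hne.symm
      (by have := hp.2.1; have := hq.2.1; omega) (σ : Equiv.Perm (Fin n))
      (by rw [Subgroup.orderOf_coe, hσ])
  obtain ⟨a, b, haπ, hbπ, hab⟩ : ∃ a b : ℕ, a ∈ π ∧ b ∈ π ∧ a ≠ b := by
    rcases Nat.lt_or_ge n 12 with hlt | hge
    · exact ⟨7, 11, ⟨by norm_num, by omega, by omega⟩, ⟨by norm_num, by omega, by omega⟩, by norm_num⟩
    · obtain ⟨a, b, ha, hb, hm, hab, hbm⟩ := CfsgLib.Recog.exists_two_primes (m := n / 2) (by omega)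
      exact ⟨a, b, ⟨ha, by omega, by omega⟩, ⟨hb, by omega, by omega⟩, hab.ne⟩
  -- a maximal normal subgroup of order prime to all of them
  obtain ⟨K, ⟨hKn, hKπ⟩, hKmax⟩ := Set.Finite.exists_maximal
    (s := {K : Subgroup G | K.Normal ∧ ∀ p ∈ π, ¬ p ∣ Nat.card K}) (Set.toFinite _)
    ⟨⊥, inferInstance, fun p hp h => hp.1.ne_one (Nat.dvd_one.1 (by simpa using h))⟩
  haveI := hKn
  have hcardQ : ∀ p ∈ π, p ∣ Nat.card (G ⧸ K) ∧ ¬ p ^ 2 ∣ Nat.card (G ⧸ K) := by
    intro p hp
    have h := hdvdG p hp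
    rw [Subgroup.card_eq_card_quotient_mul_card_subgroup K] at h
    refine ⟨(hp.1.dvd_mul.1 h).resolve_right (hKπ p hp), fun h2 => hsq p hp ?_⟩
    rw [Subgroup.card_eq_card_quotient_mul_card_subgroup K]
    exact h2.mul_right _
  haveI : Nontrivial (G ⧸ K) := by
    rw [← Finite.one_lt_card_iff_nontrivial]
    exact lt_of_lt_of_le haπ.1.one_lt (Nat.le_of_dvd Nat.card_pos (hcardQ a haπ).1)
  obtain ⟨M, hM⟩ := CfsgLib.Base.exists_isMinimalNormal (G := G ⧸ K)
  haveI := hM.normal
  -- some large prime divides `M`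
  obtain ⟨p, hpπ, hpM⟩ : ∃ p ∈ π, p ∣ Nat.card M := by
    by_contra hno
    push_neg at hno
    have hle : K ≤ M.comap (QuotientGroup.mk' K) := fun k hk => by
      rw [Subgroup.mem_comap, show QuotientGroup.mk' K k = 1 from (QuotientGroup.eq_one_iff k).2 hk]
      exact M.one_mem
    have hmem : M.comap (QuotientGroup.mk' K) ∈
        {K : Subgroup G | K.Normal ∧ ∀ p ∈ π, ¬ p ∣ Nat.card K} := by
      refine ⟨inferInstance, fun p hp hd => ?_⟩
      have e : Nat.card (M.comap (QuotientGroup.mk' K)) ∣ Nat.card M * Nat.card K := by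
        have h1 := (M.comap (QuotientGroup.mk' K)).card_mul_index
        rw [Subgroup.index_comap_of_surjective _ (QuotientGroup.mk'_surjective K),
          Subgroup.card_eq_card_quotient_mul_card_subgroup K, ← M.card_mul_index] at h1
        refine ⟨1, ?_⟩
        have h0 : 0 < M.index := Nat.pos_of_ne_zero Subgroup.index_ne_zero_of_finite
        rw [mul_one]
        apply Nat.eq_of_mul_eq_mul_right h0
        rw [h1]; ring
      rcases hp.1.dvd_mul.1 (hd.trans e) with h | h
      · exact hno p hp h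
      · exact hKπ p hp h
    have heq := hKmax hmem hle
    apply hM.ne_bot
    rw [← Subgroup.map_comap_eq_self_of_surjective (QuotientGroup.mk'_surjective K) M, eq_bot_iff]
    rintro _ ⟨g, hg, rfl⟩
    rw [Subgroup.mem_bot]
    exact (QuotientGroup.eq_one_iff g).2 (heq hg)
  haveI := Fact.mk hpπ.1
  -- `M` is simple
  haveI : Nontrivial M := M.nontrivial_iff_ne_bot.2 hM.ne_bot
  obtain ⟨T, _, m, hT, hm, ⟨e⟩⟩ := CfsgLib.Maximal.charSimple_decomp (X := M) (fun L hL => by
    haveI := hL
    have hn : (L.map M.subtype).Normal := ConjAct.normal_of_characteristic_of_normal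
    rcases hM.eq_bot_or_eq hn (Subgroup.map_subtype_le L) with h | h
    · exact Or.inl ((L.map_eq_bot_iff_of_injective M.subtype_injective).1 h)
    · exact Or.inr (Subgroup.map_injective M.subtype_injective (by
        rw [h, ← MonoidHom.range_eq_map, Subgroup.range_subtype])))
  haveI : IsSimpleGroup M := by
    have hc : Nat.card M = Nat.card T ^ m := by
      rw [Nat.card_congr e.toEquiv, Nat.card_fun, Nat.card_eq_fintype_card (α := Fin m), Fintype.card_fin]
    have hpT : p ∣ Nat.card T := hpπ.1.dvd_of_dvd_pow (hc ▸ hpM)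
    have hm1 : m = 1 := by
      by_contra hne
      refine (hcardQ p hpπ).2 ?_
      refine dvd_trans ?_ (Subgroup.card_subgroup_dvd_card M)
      rw [hc]
      exact (pow_dvd_pow p (show 2 ≤ m by omega)).trans (pow_dvd_pow_of_dvd hpT m)
    subst hm1
    exact (e.trans (MulEquiv.funUnique (Fin 1) T)).isSimpleGroup
  -- a Sylow `p`-subgroup of `M`
  obtain ⟨P⟩ : Nonempty (Sylow p M) := inferInstance
  have hPc : Nat.card P = p := by
    obtain ⟨k, hk⟩ := P.isPGroup'.exists_card_eq
    have h1 : p ∣ Nat.card P := P.dvd_card_of_dvd_card hpM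
    have h2 : ¬ p ^ 2 ∣ Nat.card P := fun h => (hcardQ p hpπ).2
      ((h.trans (Subgroup.card_subgroup_dvd_card _)).trans (Subgroup.card_subgroup_dvd_card M))
    rw [hk] at h1 h2 ⊢
    rcases k with _ | _ | k
    · exact absurd (Nat.dvd_one.1 (by simpa using h1)) hpπ.1.ne_one
    · exact pow_one p
    · exact absurd (pow_dvd_pow p (by omega)) h2
  have hall : ∀ q : ℕ, q ∈ π → q ∣ Nat.card M := by
    intro q hqπ
    by_contra hqM
    have hne : p ≠ q := fun h => hqM (h ▸ hpM)
    haveI := Fact.mk hqπ.1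
    set P' : Subgroup (G ⧸ K) := (P : Subgroup M).map M.subtype with hP'
    have hP'c : Nat.card P' = p := by
      rw [hP', Subgroup.card_map_of_injective M.subtype_injective, hPc]
    have hsup : Subgroup.normalizer (P' : Set (G ⧸ K)) ⊔ M = ⊤ := Sylow.normalizer_sup_eq_top P
    have hqN : q ∣ Nat.card (Subgroup.normalizer (P' : Set (G ⧸ K))) := by
      have h1 := (hcardQ q hqπ).1
      rw [← M.card_mul_index] at h1
      refine ((hqπ.1.dvd_mul.1 h1).resolve_left hqM).trans ?_
      rw [← Subgroup.relIndex_top_right, ← hsup, sup_comm, Subgroup.relIndex_sup_left]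
      exact Subgroup.index_dvd_card _
    obtain ⟨y, hy⟩ := exists_prime_orderOf_dvd_card' q hqN
    obtain ⟨x, hx⟩ := exists_prime_orderOf_dvd_card' (G := P') p hP'c.symm.dvd
    have hgen : Subgroup.zpowers x = ⊤ :=
      Subgroup.eq_top_of_card_eq _ (by rw [Nat.card_zpowers, hx, hP'c])
    have hconj : (y : G ⧸ K) * x * (y : G ⧸ K)⁻¹ ∈ P' :=
      (Subgroup.mem_normalizer_iff.1 y.2 x).1 x.2
    obtain ⟨j, hj⟩ : (⟨_, hconj⟩ : P') ∈ Submonoid.powers x := by
      rw [mem_powers_iff_mem_zpowers, hgen]; exact Subgroup.mem_top _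
    exact noAdj K p hpπ q hqπ hne x y (by rw [Subgroup.orderOf_coe, hx])
      (by rw [Subgroup.orderOf_coe, hy]) j (by
        have := congrArg Subtype.val hj
        simpa using this.symm)
  refine ⟨K, M.comap (QuotientGroup.mk' K), hKn, inferInstance, ?_, ?_⟩
  · refine lt_of_le_of_ne (fun k hk => ?_) fun h => hM.ne_bot ?_
    · rw [Subgroup.mem_comap, show QuotientGroup.mk' K k = 1 from (QuotientGroup.eq_one_iff k).2 hk]
      exact M.one_mem
    · rw [← Subgroup.map_comap_eq_self_of_surjective (QuotientGroup.mk'_surjective K) M, ← h,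
        QuotientGroup.map_mk'_self]
  set H := M.comap (QuotientGroup.mk' K) with hH
  let f : H →* M := (QuotientGroup.mk' K).subgroupComap M
  have hfs : Function.Surjective f := by
    rintro ⟨x, hx⟩
    obtain ⟨g, rfl⟩ := QuotientGroup.mk'_surjective K x
    exact ⟨⟨g, hx⟩, rfl⟩
  have hker : K.subgroupOf H = f.ker := by
    ext g
    rw [Subgroup.mem_subgroupOf, MonoidHom.mem_ker, Subtype.ext_iff]
    exact (QuotientGroup.eq_one_iff (g : G)).symm
  let e' : H ⧸ K.subgroupOf H ≃* M :=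
    (QuotientGroup.quotientMulEquivOfEq hker).trans (QuotientGroup.quotientKerEquivOfSurjective f hfs)
  refine ⟨e'.isSimpleGroup, fun hc => ?_, fun q hq h1 h2 => ?_⟩
  · -- otherwise `M` has order `p`
    have hMc : ∀ u v : M, u * v = v * u := fun u v => by
      obtain ⟨u', rfl⟩ := e'.surjective u
      obtain ⟨v', rfl⟩ := e'.surjective v
      rw [← map_mul, hc.is_comm.comm, map_mul]
    letI : CommGroup M := { (inferInstance : Group M) with mul_comm := hMc }
    have hpr : (Nat.card M).Prime := IsSimpleGroup.prime_card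
    rcases (Nat.dvd_prime hpr).1 (hall a haπ) with h | h
    · exact haπ.1.ne_one h
    rcases (Nat.dvd_prime hpr).1 (hall b hbπ) with h' | h'
    · exact hbπ.1.ne_one h'
    · exact hab (h.trans h'.symm)
  · rw [Nat.card_congr e'.toEquiv]
    exact hall q ⟨hq, h1, h2⟩

end Cfsg.Agent.S3420
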