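import Cfsg.Statements.S3427
import Cfsg.Agent.Lib.Recog.G2TwoSpec.Identify
import Cfsg.Agent.Lib.Recog.G2TwoSpec.Model

set_option autoImplicit false
open Cfsg

namespace Cfsg.Agent.S3427

/-- Let F be the field with 2 elements and let M be the Chevalley group of type G₂ over F (a non-simple group of order 12096 whose derived subgroup, of index 2, is isomorphic to PSU(3, 3)). A finite group G is isomorphic to M if and only if G has the same set of element orders and the same order as M. -/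
theorem result {G : Type*} [Group G] [Finite G] {F : Type*} [Field F] [Fintype F] (hF : Fintype.card F = 2) :
    Nonempty (G ≃* ↥(Cfsg.Lie.chevG2.group F)) ↔
      (Set.range (orderOf : G → ℕ) = Set.range (orderOf : ↥(Cfsg.Lie.chevG2.group F) → ℕ) ∧ Nat.card G = Nat.card ↥(Cfsg.Lie.chevG2.group F)) := by
  have hM := CfsgLib.Recog.G2TwoSpec.hyp_chev (F := F) hF
  haveI := hM.finite
  constructor
  · rintro ⟨e⟩
    refine ⟨?_, Nat.card_congr e.toEquiv⟩
    ext n
    constructor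
    · rintro ⟨g, rfl⟩
      exact ⟨e g, orderOf_injective e.toMonoidHom e.injective g⟩
    · rintro ⟨g, rfl⟩
      exact ⟨e.symm g, orderOf_injective e.symm.toMonoidHom e.symm.injective g⟩
  · rintro ⟨hspec, hcard⟩
    have hmem : ∀ n : ℕ, n ∈ Set.range (orderOf : G → ℕ) → n ∈ Set.range (orderOf : ↥(Cfsg.Lie.chevG2.group F) → ℕ) :=
      fun n hn => hspec ▸ hn
    have hG : CfsgLib.Recog.G2TwoSpec.Hyp G := by
      refine ⟨hcard.trans hM.card, fun g hg => ?_, fun g hg => ?_, fun g hg => ?_, ?_⟩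
      · obtain ⟨m, hm⟩ := hmem 9 ⟨g, hg⟩
        exact hM.no9 m hm
      · obtain ⟨m, hm⟩ := hmem 14 ⟨g, hg⟩
        exact hM.no14 m hm
      · obtain ⟨m, hm⟩ := hmem 21 ⟨g, hg⟩
        exact hM.no21 m hm
      · obtain ⟨m, hm⟩ := hM.has12
        obtain ⟨g, hg⟩ := (hspec.symm ▸ (⟨m, hm⟩ : (12 : ℕ) ∈ Set.range (orderOf : ↥(Cfsg.Lie.chevG2.group F) → ℕ)) :
          (12 : ℕ) ∈ Set.range (orderOf : G → ℕ))
        exact ⟨g, hg⟩
    obtain ⟨e1⟩ := CfsgLib.Recog.G2TwoSpec.iso_KG hG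
    obtain ⟨e2⟩ := CfsgLib.Recog.G2TwoSpec.iso_KG hM
    exact ⟨e1.trans e2.symm⟩

end Cfsg.Agent.S3427
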