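import Cfsg.Statements.S3433
import Cfsg.Agent.Lib.Recog.OrdersFive.Main

set_option autoImplicit false
open Cfsg

namespace Cfsg.Agent.S3433

/-- A finite group whose set of element orders is exactly {1, 2, 3, 4, 5} is isomorphic to the alternating group of degree 6, or has a normal elementary abelian 2-subgroup with quotient isomorphic to the alternating group of degree 5. -/
theorem result {G : Type*} [Group G] [Finite G] (h : Set.range (orderOf : G → ℕ) = {k : ℕ | 1 ≤ k ∧ k ≤ 5}) :
    Nonempty (G ≃* ↥(alternatingGroup (Fin 6))) ∨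
      ∃ (N : Subgroup G) (_ : N.Normal), Cfsg.IsElementaryAbelian 2 N ∧ Nonempty (G ⧸ N ≃* ↥(alternatingGroup (Fin 5))) := by
  have hle : CfsgLib.Recog.OrdersFive.LeFive G := fun g =>
    (h.le ⟨g, rfl⟩ : orderOf g ∈ {k : ℕ | 1 ≤ k ∧ k ≤ 5}).2
  have hns : ¬ Group.IsSolvable G := fun hs => by
    haveI := hs
    have hsub : ({2, 3, 5} : Finset ℕ) ⊆ (Nat.card G).primeFactors := fun p hp => by
      have hp' : p.Prime ∧ 1 ≤ p ∧ p ≤ 5 := by
        simp only [Finset.mem_insert, Finset.mem_singleton] at hp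
        rcases hp with rfl | rfl | rfl <;> norm_num
      obtain ⟨g, hg⟩ := h.ge (show p ∈ {k : ℕ | 1 ≤ k ∧ k ≤ 5} from hp'.2)
      exact Nat.mem_primeFactors.2 ⟨hp'.1, hg ▸ orderOf_dvd_natCard g, Nat.card_pos.ne'⟩
    have := (Finset.card_le_card hsub).trans hle.card_primeFactors_solvable
    norm_num at this
  by_cases h9 : 9 ∣ Nat.card G
  · exact Or.inl (CfsgLib.Recog.OrdersFive.six hle h9 hns)
  · exact Or.inr (hle.small hns h9)

end Cfsg.Agent.S3433
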