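import Cfsg.Statements.S3438
import Cfsg.Agent.Lib.Rec.FrobCertData
import Cfsg.Agent.Lib.Rec.ThreeSpectrum

set_option autoImplicit false
open Cfsg

namespace Cfsg.Agent.S3438

/-- There is a finite solvable group with exactly the same set of element orders as the simple group PSU(3,3) (realised over the field with 9 elements). -/
theorem result {F : Type*} [Field F] [Fintype F] (hF : Fintype.card F = 9) :
    ∃ (H : Type) (_ : Group H) (_ : Fintype H), Group.IsSolvable H ∧ Set.range (orderOf : H → ℕ) = Set.range (orderOf : Cfsg.PSU 3 F 3 → ℕ) := by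
  haveI hp : Fact (CfsgLib.Rec.FrobCertData.met).p.Prime :=
    ⟨show Nat.Prime 7 by norm_num⟩
  haveI : NeZero (CfsgLib.Rec.FrobCertData.met).p := ⟨hp.out.ne_zero⟩
  obtain ⟨K, hK, hR⟩ := CfsgLib.Rec.FrobCert.exists_group CfsgLib.Rec.FrobCertData.met_valid
  let φ := CfsgLib.Recog.mulVecAct.comp K.subtype
  haveI := hK
  haveI : Finite (Multiplicative (Fin 4 → ZMod (CfsgLib.Rec.FrobCertData.met).p) ⋊[φ] K) :=
    Finite.of_equiv _ SemidirectProduct.equivProd.symm
  refine ⟨Multiplicative (Fin 4 → ZMod (CfsgLib.Rec.FrobCertData.met).p) ⋊[φ] K, inferInstance,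
    Fintype.ofFinite _, ?_, ?_⟩
  · exact Group.isSolvable_of_ker_le_range
      (SemidirectProduct.inl (φ := φ)) (SemidirectProduct.rightHom (φ := φ))
      SemidirectProduct.range_inl_eq_ker_rightHom.ge
  · rw [hR, CfsgLib.Rec.ThreeSpectrum.range_orderOf_PSU hF]
    ext n
    have hb : n ∈ ({n | n ∣ 7 ∨ n ∣ 8 ∨ n ∣ 12} : Set ℕ) ↔
        n ∈ [1, 2, 3, 4, 6, 7, 8, 12] := by
      constructor
      · intro h
        have hle : n ≤ 13 := by
          rcases h with h | h | h <;>
          · have := Nat.le_of_dvd (by norm_num) h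
            omega
        revert h
        interval_cases n <;> decide
      · intro h
        fin_cases h <;> decide
    rw [hb]
    constructor
    · rintro (rfl | ⟨i, rfl⟩)
      · decide
      · revert i; decide +kernel
    · intro h
      by_cases hn : n = 7
      · exact Or.inl hn
      · refine Or.inr ?_
        fin_cases h <;> first | omega | decide +kernel

end Cfsg.Agent.S3438
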