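import Cfsg.Statements.S3448
import Cfsg.Agent.Lib.Recog.AltSpectrum

set_option autoImplicit false
open Cfsg

namespace Cfsg.Agent.S3448

/-- The set of element orders of the direct product of two copies of the alternating group of degree 5 is {1, 2, 3, 5, 6, 10, 15}. (It is shared by the direct product of two Frobenius groups of orders 50 and 75, so this direct product is not determined by its element orders.) -/
theorem result : Set.range (orderOf : alternatingGroup (Fin 5) × alternatingGroup (Fin 5) → ℕ) = {1, 2, 3, 5, 6, 10, 15} := by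
  ext k
  rw [Set.mem_range]
  constructor
  · rintro ⟨⟨a, b⟩, rfl⟩
    rw [Prod.orderOf_mk]
    have ha : orderOf a ∈ ({1, 2, 3, 5} : Set ℕ) :=
      CfsgLib.Recog.range_orderOf_alternating_five ▸ ⟨a, rfl⟩
    have hb : orderOf b ∈ ({1, 2, 3, 5} : Set ℕ) :=
      CfsgLib.Recog.range_orderOf_alternating_five ▸ ⟨b, rfl⟩
    simp only [Set.mem_insert_iff, Set.mem_singleton_iff] at ha hb ⊢
    rcases ha with ha | ha | ha | ha <;> rcases hb with hb | hb | hb | hb <;> rw [ha, hb] <;> decide
  · intro hk
    have key : ∀ i j : ℕ, i ∈ ({1, 2, 3, 5} : Set ℕ) → j ∈ ({1, 2, 3, 5} : Set ℕ) →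
        ∃ z : alternatingGroup (Fin 5) × alternatingGroup (Fin 5), orderOf z = Nat.lcm i j := by
      intro i j hi hj
      rw [← CfsgLib.Recog.range_orderOf_alternating_five] at hi hj
      obtain ⟨a, rfl⟩ := hi
      obtain ⟨b, rfl⟩ := hj
      exact ⟨(a, b), Prod.orderOf_mk⟩
    simp only [Set.mem_insert_iff, Set.mem_singleton_iff] at hk key
    rcases hk with rfl | rfl | rfl | rfl | rfl | rfl | rfl
    · exact (key 1 1 (by simp) (by simp)).imp fun z hz => hz.trans (by decide)
    · exact (key 2 1 (by simp) (by simp)).imp fun z hz => hz.trans (by decide)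
    · exact (key 3 1 (by simp) (by simp)).imp fun z hz => hz.trans (by decide)
    · exact (key 5 1 (by simp) (by simp)).imp fun z hz => hz.trans (by decide)
    · exact (key 2 3 (by simp) (by simp)).imp fun z hz => hz.trans (by decide)
    · exact (key 2 5 (by simp) (by simp)).imp fun z hz => hz.trans (by decide)
    · exact (key 3 5 (by simp) (by simp)).imp fun z hz => hz.trans (by decide)

end Cfsg.Agent.S3448
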