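import Cfsg.Statements.S3449
import Cfsg.Agent.Lib.Recog.AltSpectrum

set_option autoImplicit false
open Cfsg

namespace Cfsg.Agent.S3449

/-- The direct product of three copies of the alternating group of degree 5 has exactly the same set of element orders as the cyclic group of order 30, namely the divisors of 30; in particular a direct power of a non-abelian simple group need not be determined by its element orders. -/
theorem result : Set.range (orderOf : alternatingGroup (Fin 5) × alternatingGroup (Fin 5) × alternatingGroup (Fin 5) → ℕ) =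
      Set.range (orderOf : Multiplicative (ZMod 30) → ℕ) := by
  ext k
  rw [Set.mem_range, Set.mem_range]
  have hzmod : ∀ d : ℕ, d ∣ 30 → ∃ z : Multiplicative (ZMod 30), orderOf z = d := by
    intro d hd
    obtain ⟨g, hg⟩ := IsCyclic.exists_generator (α := Multiplicative (ZMod 30))
    have hg' : orderOf g = 30 := by
      rw [orderOf_eq_card_of_forall_mem_zpowers hg]
      simp
    obtain ⟨c, hc⟩ := hd
    refine ⟨g ^ c, ?_⟩
    have hc0 : c ≠ 0 := by rintro rfl; simp at hc
    rw [orderOf_pow' g hc0, hg', hc, Nat.gcd_mul_left_left, Nat.mul_div_cancel _ (Nat.pos_of_ne_zero hc0)]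
  constructor
  · rintro ⟨⟨a, b, c⟩, rfl⟩
    have hd : ∀ x : alternatingGroup (Fin 5), orderOf x ∣ 30 := by
      intro x
      have hx : orderOf x ∈ ({1, 2, 3, 5} : Set ℕ) :=
        CfsgLib.Recog.range_orderOf_alternating_five ▸ ⟨x, rfl⟩
      simp only [Set.mem_insert_iff, Set.mem_singleton_iff] at hx
      rcases hx with h | h | h | h <;> rw [h] <;> norm_num
    rw [Prod.orderOf_mk, Prod.orderOf_mk]
    exact hzmod _ (Nat.lcm_dvd (hd a) (Nat.lcm_dvd (hd b) (hd c)))
  · rintro ⟨z, rfl⟩
    have hz : orderOf z ∣ 30 := (orderOf_dvd_natCard z).trans (by simp)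
    have h : ∀ i : ℕ, i ∈ ({1, 2, 3, 5} : Set ℕ) → ∃ x : alternatingGroup (Fin 5), orderOf x = i :=
      fun i hi => by rwa [← CfsgLib.Recog.range_orderOf_alternating_five] at hi
    have key : ∀ i j l : ℕ, i ∈ ({1, 2, 3, 5} : Set ℕ) → j ∈ ({1, 2, 3, 5} : Set ℕ) →
        l ∈ ({1, 2, 3, 5} : Set ℕ) → ∃ w : alternatingGroup (Fin 5) × alternatingGroup (Fin 5) ×
          alternatingGroup (Fin 5), orderOf w = Nat.lcm i (Nat.lcm j l) := by
      intro i j l hi hj hl
      obtain ⟨a, rfl⟩ := h i hi
      obtain ⟨b, rfl⟩ := h j hj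
      obtain ⟨c, rfl⟩ := h l hl
      exact ⟨(a, b, c), by rw [Prod.orderOf_mk, Prod.orderOf_mk]⟩
    simp only [Set.mem_insert_iff, Set.mem_singleton_iff] at key
    have hcases : orderOf z = 1 ∨ orderOf z = 2 ∨ orderOf z = 3 ∨ orderOf z = 5 ∨ orderOf z = 6 ∨
        orderOf z = 10 ∨ orderOf z = 15 ∨ orderOf z = 30 := by
      have hmem : orderOf z ∈ Nat.divisors 30 := Nat.mem_divisors.2 ⟨hz, by norm_num⟩
      rw [show Nat.divisors 30 = ({1, 2, 3, 5, 6, 10, 15, 30} : Finset ℕ) from by decide] at hmem
      simpa only [Finset.mem_insert, Finset.mem_singleton] using hmem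
    rcases hcases with e | e | e | e | e | e | e | e <;> rw [e]
    · exact (key 1 1 1 (by simp) (by simp) (by simp)).imp fun z hz => hz.trans (by decide)
    · exact (key 2 1 1 (by simp) (by simp) (by simp)).imp fun z hz => hz.trans (by decide)
    · exact (key 3 1 1 (by simp) (by simp) (by simp)).imp fun z hz => hz.trans (by decide)
    · exact (key 5 1 1 (by simp) (by simp) (by simp)).imp fun z hz => hz.trans (by decide)
    · exact (key 2 3 1 (by simp) (by simp) (by simp)).imp fun z hz => hz.trans (by decide)
    · exact (key 2 5 1 (by simp) (by simp) (by simp)).imp fun z hz => hz.trans (by decide)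
    · exact (key 3 5 1 (by simp) (by simp) (by simp)).imp fun z hz => hz.trans (by decide)
    · exact (key 2 3 5 (by simp) (by simp) (by simp)).imp fun z hz => hz.trans (by decide)

end Cfsg.Agent.S3449
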