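import Cfsg.Statements.S3452
import Cfsg.Agent.Lib.Recog.ConicSpectrum
import Cfsg.Agent.Lib.Recog.Frob40
import Cfsg.Agent.Lib.Chars.Burnside
import Cfsg.Agent.S3444

set_option autoImplicit false
open Cfsg

namespace Cfsg.Agent.S3452

/-- For F a finite field whose number of elements is a prime or equals 9, the group PGL(2,F) = GL(2,F)/Z(GL(2,F)) is not determined by its set of element orders: for every bound N there is a finite group of order greater than N with exactly the same set of element orders as PGL(2,F). -/
theorem result {F : Type*} [Field F] [Fintype F] (hF : (Fintype.card F).Prime ∨ Fintype.card F = 9) (N : ℕ) :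
    ∃ (H : Type) (_ : Group H) (_ : Fintype H), N < Fintype.card H ∧
      Set.range (orderOf : H → ℕ) = Set.range (orderOf : Matrix.GeneralLinearGroup (Fin 2) F ⧸ Subgroup.center (Matrix.GeneralLinearGroup (Fin 2) F) → ℕ) := by
  classical
  obtain ⟨p, hp⟩ := CharP.exists F
  haveI : Fact p.Prime := ⟨CharP.char_is_prime F p⟩
  obtain ⟨a, hpp, ha⟩ := FiniteField.card F p
  have hspec := CfsgLib.Recog.range_orderOf_PGL_two (F := F) p
  rcases hF with hq | hq
  · haveI := Fact.mk hq
    have hpq : p = Fintype.card F := by
      have h1 : p ∣ Fintype.card F := ha ▸ dvd_pow_self p a.pos.ne'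
      exact (Nat.prime_dvd_prime_iff_eq hpp hq).1 h1
    by_cases h5 : 5 ≤ p
    · have h2 : ringChar F ≠ 2 := by rw [ringChar.eq F p]; omega
      obtain ⟨ν, hν⟩ := FiniteField.exists_nonsquare h2
      have hV : Nontrivial (CfsgLib.Recog.Conic.ModV p ν) := by
        by_contra hne
        rw [not_nontrivial_iff_subsingleton] at hne
        obtain ⟨x, hx⟩ := CfsgLib.Recog.exists_orderOf_eq_card_sub_one_PSL (F := F)
        have hd : CfsgLib.Recog.dTwo F = 2 := by
          rw [CfsgLib.Recog.dTwo, if_neg]
          rw [← hpq]
          exact fun he => absurd (hpp.even_iff.1 he) (by omega)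
        rw [← hpq, hd] at hx
        obtain ⟨y, hy⟩ := CfsgLib.Recog.Conic.exists_orderOf_two_mul p ν h5 hpq.symm hν (x := x)
          (fun h => by rw [h, orderOf_one] at hx; omega) (by omega)
        have hy2 := CfsgLib.Recog.orderOf_eq_of_fixedPointFree _ y
          (fun v _ => Subsingleton.elim _ _)
        have hyr : orderOf y.right ∣ orderOf y := CfsgLib.Recog.orderOf_right_dvd _ y
        have hsub : orderOf y.right ∈ Set.range
            (orderOf : Matrix.ProjectiveSpecialLinearGroup (Fin 2) F → ℕ) := ⟨_, rfl⟩
        rw [CfsgLib.Recog.range_orderOf_PSL_two p, ← hpq, hd] at hsub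
        have hodd : Odd p := hpp.odd_of_ne_two (by omega)
        obtain ⟨k, hk⟩ := hodd
        rcases hsub with h | h | h
        · omega
        · have := Nat.le_of_dvd (by omega) h; omega
        · have hle := Nat.le_of_dvd (by omega) h
          omega
      haveI : Finite (CfsgLib.Recog.Conic.Pts ν) := Subtype.finite
      haveI : Finite (CfsgLib.Recog.Conic.ModV p ν) :=
        Finite.of_equiv _ (Multiplicative.ofAdd)
      obtain ⟨H, hG, hH, hN, hS⟩ := CfsgLib.Recog.exists_large_isospectral
        (CfsgLib.Recog.Conic.actPSL p ν) Nat.prime_two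
        (CfsgLib.Recog.Conic.pow_two_eq_one p ν) N
      refine ⟨H, hG, hH, hN, hS.trans ?_⟩
      rw [CfsgLib.Recog.Conic.range_orderOf p ν h5 hpq.symm hν, hspec, ← hpq]
    · have hq23 : p = 2 ∨ p = 3 := by
        have := hpp.two_le
        interval_cases p
        all_goals first
          | exact Or.inl rfl
          | exact Or.inr rfl
          | exact absurd hpp (by norm_num)
      have hsol : Group.IsSolvable
          (Matrix.GeneralLinearGroup (Fin 2) F ⧸ Subgroup.center (Matrix.GeneralLinearGroup (Fin 2) F)) := by
        refine CfsgLib.Chars.isSolvable_of_primeFactors_pair 2 3 (fun r hr hdvd => ?_)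
        haveI := Fact.mk hr
        obtain ⟨x, hx⟩ := exists_prime_orderOf_dvd_card' r hdvd
        have hmem : orderOf x ∈ Set.range (orderOf :
          Matrix.GeneralLinearGroup (Fin 2) F ⧸ Subgroup.center (Matrix.GeneralLinearGroup (Fin 2) F) → ℕ) :=
          ⟨x, rfl⟩
        rw [hspec, hx, ← hpq] at hmem
        have hr2 := hr.two_le
        rcases hq23 with h | h <;> subst h <;> rcases hmem with h | h | h
        all_goals first
          | omega
          | (have := Nat.le_of_dvd (by norm_num) h
             interval_cases r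
             all_goals first
               | exact Or.inl rfl
               | exact Or.inr rfl
               | exact absurd hr (by norm_num)
               | exact absurd h (by norm_num))
      have hnt : (⊤ : Subgroup (Matrix.GeneralLinearGroup (Fin 2) F ⧸
          Subgroup.center (Matrix.GeneralLinearGroup (Fin 2) F))) ≠ ⊥ := by
        intro h
        obtain ⟨x, hx⟩ := CfsgLib.Recog.exists_orderOf_eq_char_PGL (F := F) p
        have hx1 : x = 1 := Subgroup.mem_bot.1 (h ▸ Subgroup.mem_top x)
        rw [hx1, orderOf_one] at hx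
        exact hpp.ne_one hx.symm
      haveI := hsol
      exact Cfsg.Agent.S3444.result ⊤ hnt inferInstance N
  · have hp3 : p = 3 := by
      have h1 : p ∣ 3 ^ 2 := by
        rw [show (3 : ℕ) ^ 2 = Fintype.card F by rw [hq]; norm_num, ha]
        exact dvd_pow_self p a.pos.ne'
      exact (Nat.prime_dvd_prime_iff_eq hpp Nat.prime_three).1 (hpp.dvd_of_dvd_pow h1)
    haveI : Finite CfsgLib.Recog.Frob40.C := inferInstance
    obtain ⟨H, hG, hH, hN, hS⟩ := CfsgLib.Recog.exists_large_isospectral
      CfsgLib.Recog.Frob40.act Nat.prime_three (CfsgLib.Recog.pow_char_eq_one 3) N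
    refine ⟨H, hG, hH, hN, hS.trans ?_⟩
    rw [CfsgLib.Recog.Frob40.range_orderOf, hspec, hq, hp3]

end Cfsg.Agent.S3452
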