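import Cfsg.Statements.S3466
import Cfsg.Agent.Lib.CharsMore.SpectrumPSp4.Three
import Cfsg.Agent.Lib.CharsMore.SpectrumPSp4.Witness
import Cfsg.Agent.Lib.KnownA.SolvablePSpSpectrum

set_option autoImplicit false
set_option linter.style.haveILetI false
open Cfsg

namespace Cfsg.Agent.S3466

open CfsgLib.CharsMore.SpectrumPSp4

theorem range_PSp {F : Type*} [Field F] [Fintype F] (p m : ℕ) [Fact p.Prime] [CharP F p]
    (hcard : Fintype.card F = p ^ m) :
    Set.range (orderOf : Cfsg.PSp 2 F → ℕ) = {n | Om p (p ^ m) n} := by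
  haveI : Finite (Cfsg.PSp 2 F) := Quotient.finite _
  ext n
  constructor
  · rintro ⟨x, rfl⟩
    rw [← hcard]
    exact orderOf_mem p x
  · intro hn
    have key : ∀ x : Cfsg.PSp 2 F, n ∣ orderOf x → n ∈ Set.range (orderOf : Cfsg.PSp 2 F → ℕ) :=
      fun x hx => ⟨x ^ (orderOf x / n), orderOf_pow_orderOf_div (orderOf_pos x).ne' hx⟩
    rcases hn with h | h | h | h | ⟨hp, h⟩ | ⟨hp, h⟩
    · obtain ⟨x, hx⟩ := exists_torus (F := F) (p := p) (N := Fintype.card F ^ 2 + 1) (.inr rfl)
      exact key x (by rw [hx, hcard]; exact h)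
    · obtain ⟨x, hx⟩ := exists_torus (F := F) (p := p) (N := Fintype.card F ^ 2 - 1) (.inl rfl)
      exact key x (by rw [hx, hcard]; exact h)
    · obtain ⟨x, hx⟩ := exists_mixed (F := F) (p := p) (n := Fintype.card F + 1) (.inr rfl)
      exact key x (by rw [hx, hcard]; exact h)
    · obtain ⟨x, hx⟩ := exists_mixed (F := F) (p := p) (n := Fintype.card F - 1) (.inl rfl)
      exact key x (by rw [hx, hcard]; exact h)
    · obtain ⟨x, hx⟩ := exists_regular (F := F) (p := p) (.inl hp)
      exact key x (by rw [hx, hp]; exact h)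
    · obtain ⟨x, hx⟩ := exists_regular (F := F) (p := p) (.inr hp)
      exact key x (by rw [hx, hp]; exact h)

theorem exists_three {F : Type*} [Field F] [Fintype F] (hF : Fintype.card F = 3) (N : ℕ) :
    ∃ (H : Type) (_ : Group H) (_ : Fintype H), N < Fintype.card H ∧
      Set.range (orderOf : H → ℕ) = Set.range (orderOf : Cfsg.PSp 2 F → ℕ) := by
  classical
  open CfsgLib.KnownA.SolvablePSpSpectrum in
  haveI : Fact (Nat.Prime 3) := ⟨Nat.prime_three⟩
  haveI : Fact (Nat.Prime 5) := ⟨Nat.prime_five⟩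
  have hn0 : 4 * (N + 1) ≠ 0 := by omega
  let k := GaloisField 3 (4 * (N + 1))
  have hk : Nat.card k = 3 ^ (4 * (N + 1)) := GaloisField.card 3 _ hn0
  obtain ⟨ζ, hζ⟩ : ∃ ζ : kˣ, orderOf ζ = 5 := by
    refine exists_prime_orderOf_dvd_card' 5 ?_
    rw [Nat.card_units, hk, pow_mul]
    exact (show 5 ∣ 3 ^ 4 - 1 by norm_num).trans (Nat.sub_one_dvd_pow_sub_one _ _)
  have hpow : (ζ : k) ^ 5 = 1 := by
    rw [← Units.val_pow_eq_pow_val, ← hζ, pow_orderOf_eq_one, Units.val_one]
  let χ : AddChar (ZMod 5) k := AddChar.zmodChar 5 hpow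
  have hχ : CfsgLib.KnownA.SolvablePSpSpectrum.Faithful χ := by
    intro a ha
    have h1 : ζ ^ a.val = 1 := Units.ext (by simpa [χ, AddChar.zmodChar_apply] using ha)
    have h2 := orderOf_dvd_of_pow_eq_one h1
    rw [hζ] at h2
    exact (ZMod.val_eq_zero a).1 (Nat.eq_zero_of_dvd_of_lt h2 a.val_lt)
  haveI : Finite k := Nat.finite_of_card_ne_zero (by rw [hk]; positivity)
  haveI : Finite (CfsgLib.KnownA.SolvablePSpSpectrum.Grp χ) :=
    Finite.of_equiv _ SemidirectProduct.equivProd.symm
  haveI := Fintype.ofFinite (CfsgLib.KnownA.SolvablePSpSpectrum.Grp χ)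
  refine ⟨CfsgLib.KnownA.SolvablePSpSpectrum.Grp χ, inferInstance, inferInstance, ?_, ?_⟩
  · rw [← Nat.card_eq_fintype_card]
    calc N < 3 ^ N := Nat.lt_pow_self (by norm_num)
      _ ≤ 3 ^ (4 * (N + 1)) := Nat.pow_le_pow_right (by norm_num) (by omega)
      _ ≤ _ := hk ▸ Nat.card_le_card_of_injective
        (fun c : k => (SemidirectProduct.inl
          { (1 : CfsgLib.KnownA.SolvablePSpSpectrum.Ker k) with r := fun _ => c } :
            CfsgLib.KnownA.SolvablePSpSpectrum.Grp χ))
        (fun a b h => congrFun (congrArg CfsgLib.KnownA.SolvablePSpSpectrum.Ker.r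
          (SemidirectProduct.inl_injective h)) 1)
  · rw [CfsgLib.KnownA.PSpFourThreeSpectrum.range_orderOf_PSp hF]
    obtain ⟨h12, h9, h5⟩ := CfsgLib.KnownA.SolvablePSpSpectrum.witnesses (χ := χ)
    exact CfsgLib.KnownA.PSpFourThreeSpectrum.range_orderOf_eq
      (CfsgLib.KnownA.SolvablePSpSpectrum.upper hχ) h12 h9 h5

/-- Let F be a finite field with q ≥ 3 elements such that q is not of the form 3^(2t+1) with t ≥ 1. Then PSp(4,F) is not determined by its set of element orders, not even up to finitely many groups: for every bound N there is a finite group of order greater than N with exactly the same set of element orders as PSp(4,F). -/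
theorem result {F : Type*} [Field F] [Fintype F] (h3 : 3 ≤ Fintype.card F) (hq : ∀ t : ℕ, 1 ≤ t → Fintype.card F ≠ 3 ^ (2 * t + 1)) (N : ℕ) :
    ∃ (H : Type) (_ : Group H) (_ : Fintype H), N < Fintype.card H ∧ Set.range (orderOf : H → ℕ) = Set.range (orderOf : Cfsg.PSp 2 F → ℕ) := by
  obtain ⟨p, hc⟩ := CharP.exists F
  obtain ⟨⟨m, hm⟩, hp, hcard⟩ := FiniteField.card F p
  haveI : Fact p.Prime := ⟨hp⟩
  replace hcard : Fintype.card F = p ^ m := hcard
  by_cases hF3 : Fintype.card F = 3
  · exact exists_three hF3 N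
  let K := GaloisField p (2 * m)
  haveI : Finite K := Nat.finite_of_card_ne_zero (by
    rw [GaloisField.card p _ (by omega)]; exact pow_ne_zero _ hp.ne_zero)
  haveI : Fintype K := Fintype.ofFinite K
  have hK : Fintype.card K = (p ^ m) ^ 2 := by
    rw [← Nat.card_eq_fintype_card, GaloisField.card p _ (by omega), ← pow_mul, mul_comm]
  rw [range_PSp p m hcard]
  rcases eq_or_ne p 2 with h2 | h2
  · exact exists_model_two (K := K) h2 hK hm N
  rcases eq_or_ne p 3 with rfl | h3'
  · have heven : Even m := by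
      rcases Nat.even_or_odd' m with ⟨t, rfl | rfl⟩
      · exact even_two_mul t
      · rcases Nat.eq_zero_or_pos t with rfl | ht
        · exact absurd hcard (by simpa using hF3)
        · exact absurd hcard (hq t ht)
    exact Three.exists_model (K := K) hK hm heven N
  · have h4 : p ≠ 4 := fun h => by subst h; norm_num at hp
    have := hp.two_le
    exact exists_model_odd (K := K) (by omega) hK hm N

end Cfsg.Agent.S3466
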