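import Cfsg.Statements.S3487
import Cfsg.Agent.Lib.Recog.Spec3D4.Witness

set_option autoImplicit false
open Cfsg

namespace Cfsg.Agent.S3487

open CfsgLib.Recog.Spec3D4 CfsgLib.Geometry.Oct

variable {K : Type*} [Field K] [CharP K 2]

/-- The action on several copies of the module. -/
noncomputable def semiAct (N : ℕ) :
    ↥(Cfsg.Lie.twistedD4 K 2) →* MulAut (Multiplicative (Fin (N + 1) → V K)) where
  toFun g := AddEquiv.toMultiplicative (LinearEquiv.piCongrRight fun _ => act g).toAddEquiv
  map_one' := MulEquiv.ext fun w => congrArg Multiplicative.ofAdd (funext fun _ => act_one _)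
  map_mul' g h := MulEquiv.ext fun w => congrArg Multiplicative.ofAdd (funext fun _ => act_mul g h _)

theorem semiAct_apply (N : ℕ) (g : ↥(Cfsg.Lie.twistedD4 K 2)) (w : Multiplicative (Fin (N + 1) → V K))
    (j : Fin (N + 1)) : Multiplicative.toAdd (semiAct N g w) j = act g (Multiplicative.toAdd w j) := rfl

theorem left_pow {N : ℕ} (x : Multiplicative (Fin (N + 1) → V K) ⋊[semiAct N] ↥(Cfsg.Lie.twistedD4 K 2))
    (k : ℕ) (j : Fin (N + 1)) : Multiplicative.toAdd (x ^ k).left j = nrm (actE x.right) k (Multiplicative.toAdd x.left j) := by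
  induction k with
  | zero => simp [nrm]
  | succ k ih =>
    have hr : (x ^ k).right = x.right ^ k := map_pow SemidirectProduct.rightHom x k
    rw [pow_succ, SemidirectProduct.mul_left, toAdd_mul, Pi.add_apply, ih, semiAct_apply, hr,
      show nrm (actE x.right) (k + 1) = nrm (actE x.right) k + actE x.right ^ k from Finset.sum_range_succ _ _,
      LinearMap.add_apply, ← map_pow]
    rfl

theorem range_orderOf [Fintype K] (hK : Fintype.card K = 8) (N : ℕ) :
    Set.range (orderOf : (Multiplicative (Fin (N + 1) → V K) ⋊[semiAct N] ↥(Cfsg.Lie.twistedD4 K 2)) → ℕ) =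
      Set.range (orderOf : ↥(Cfsg.Lie.twistedD4 K 2) → ℕ) := by
  refine Set.Subset.antisymm ?_ ?_
  · rintro _ ⟨x, rfl⟩
    set n := orderOf x.right with hn
    have hpos : 0 < n := orderOf_pos _
    have h1 : n ∣ orderOf x := orderOf_map_dvd SemidirectProduct.rightHom x
    have hr : (x ^ n).right = 1 := by
      show SemidirectProduct.rightHom (x ^ n) = 1
      rw [map_pow]
      exact pow_orderOf_eq_one x.right
    have hxn : x ^ n = SemidirectProduct.inl (x ^ n).left :=
      SemidirectProduct.ext (by simp) (by simp [hr])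
    have h2 : orderOf x ∣ n * 2 := by
      refine orderOf_dvd_of_pow_eq_one ?_
      rw [pow_mul, hxn, ← map_pow]
      refine (congrArg _ ?_).trans (map_one _)
      rw [sq]
      exact congrArg Multiplicative.ofAdd (funext fun j => two_zero _)
    obtain ⟨d, hd⟩ := h1
    have hd2 : d ∣ 2 := (Nat.mul_dvd_mul_iff_left hpos).1 (hd ▸ h2)
    rcases (Nat.dvd_prime Nat.prime_two).1 hd2 with rfl | rfl
    · exact ⟨x.right, by rw [hd, mul_one]⟩
    have hne : nrm (actE x.right) n ≠ 0 := fun h0 => by
      have : x ^ n = 1 := by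
        rw [hxn]
        refine (congrArg _ ?_).trans (map_one _)
        refine Multiplicative.toAdd.injective (funext fun j => ?_)
        rw [left_pow, h0]
        rfl
      have := Nat.le_of_dvd hpos (orderOf_dvd_of_pow_eq_one this)
      omega
    have hmem := norm_orders hK x.right hne
    rw [← hn, mul_comm, ← hd] at hmem
    have hdiv : ∃ n' ∈ ({8, 12, 18, 28} : Finset ℕ), orderOf x ∣ n' := by
      simp only [Finset.mem_insert, Finset.mem_singleton] at hmem
      rcases hmem with h | h | h | h | h | h | h <;> rw [h] <;> decide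
    obtain ⟨n', hn', hdvd⟩ := hdiv
    obtain ⟨g, rfl⟩ := exists_orders hK n' hn'
    exact ⟨g ^ (orderOf g / orderOf x), orderOf_pow_orderOf_div (orderOf_pos g).ne' hdvd⟩
  · rintro _ ⟨g, rfl⟩
    exact ⟨SemidirectProduct.inr g, orderOf_injective _ SemidirectProduct.inr_injective g⟩

/-- A bare finite type. -/
structure Bare (c : ℕ) : Type where
  /-- the code -/
  code : Fin c

/-- The codes of a bare type. -/
def bareEquiv (c : ℕ) : Bare c ≃ Fin c := ⟨Bare.code, Bare.mk, fun _ => rfl, fun _ => rfl⟩

/-- A finite group transported to a type of the lowest universe. -/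
theorem exists_small_copy (G : Type*) [Group G] [Finite G] : ∃ (H : Type) (_ : Group H) (_ : Fintype H),
    Fintype.card H = Nat.card G ∧ Set.range (orderOf : H → ℕ) = Set.range (orderOf : G → ℕ) := by
  obtain ⟨c, ⟨e⟩⟩ := Finite.exists_equiv_fin G
  let f : Bare c ≃ G := (bareEquiv c).trans e.symm
  letI : Group (Bare c) := f.group
  letI : Fintype (Bare c) := Fintype.ofEquiv (Fin c) (bareEquiv c).symm
  let m : Bare c ≃* G := MulEquiv.mk' f fun a b => f.apply_symm_apply (f a * f b)
  refine ⟨Bare c, inferInstance, inferInstance, by rw [← Nat.card_eq_fintype_card, Nat.card_congr f], ?_⟩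
  refine Set.Subset.antisymm ?_ ?_
  · rintro _ ⟨x, rfl⟩
    exact ⟨m x, m.orderOf_eq x⟩
  · rintro _ ⟨x, rfl⟩
    exact ⟨m.symm x, m.symm.orderOf_eq x⟩

/-- The triality group ³D₄(2) is not determined by its set of element orders, not even up to finitely many groups: for K the field with 8 elements and every bound N there is a finite group of order greater than N with exactly the same set of element orders as ³D₄(2) (realised over K). -/
theorem result {K : Type*} [Field K] [Fintype K] (hK : Fintype.card K = 8) (N : ℕ) : ∃ (H : Type) (_ : Group H) (_ : Fintype H), N < Fintype.card H ∧ Set.range (orderOf : H → ℕ) = Set.range (orderOf : Cfsg.Lie.twistedD4 K 2 → ℕ) := by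
  classical
  haveI : Fact (Nat.Prime 2) := ⟨Nat.prime_two⟩
  haveI : CharP K 2 := charP_of_card_eq_prime_pow (f := 3) (by rw [hK]; norm_num)
  let H₀ := Multiplicative (Fin (N + 1) → V K) ⋊[semiAct N] ↥(Cfsg.Lie.twistedD4 K 2)
  haveI : Finite H₀ := Finite.of_equiv _ SemidirectProduct.equivProd.symm
  obtain ⟨H, iH, iF, hcard, hord⟩ := exists_small_copy H₀
  refine ⟨H, iH, iF, ?_, hord.trans (range_orderOf hK N)⟩
  rw [hcard, SemidirectProduct.card, Nat.card_congr (Multiplicative.toAdd (α := Fin (N + 1) → V K))]
  refine lt_of_lt_of_le ?_ (Nat.le_mul_of_pos_right _ Nat.card_pos)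
  rw [Nat.card_fun, Nat.card_eq_fintype_card (α := Fin (N + 1)), Fintype.card_fin]
  have h2 : 1 < Nat.card (V K) := Finite.one_lt_card
  exact lt_of_lt_of_le (Nat.lt_succ_self N) (Nat.lt_pow_self h2).le

end Cfsg.Agent.S3487
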