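import Cfsg.Statements.S3488
import Cfsg.Agent.Lib.Recog.SL2Four
import Cfsg.Agent.Lib.Recog.AltSpectrum

set_option autoImplicit false
open Cfsg

namespace Cfsg.Agent.S3488

/-- Let F be the field with four elements. The affine group F² ⋊ SL(2,F), realised as the subgroup of SL(3,F) of matrices with last row (0, 0, 1), has exactly the same set of element orders as the alternating group of degree 6 (namely {1, 2, 3, 4, 5}); so the alternating group of degree 6 is not determined by its element orders. -/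
theorem result {F : Type*} [Field F] [Fintype F] (hF : Fintype.card F = 4) :
    Set.range (orderOf : Subgroup.closure {M : Matrix.SpecialLinearGroup (Fin 3) F |
        (M : Matrix (Fin 3) (Fin 3) F) 2 0 = 0 ∧ (M : Matrix (Fin 3) (Fin 3) F) 2 1 = 0 ∧ (M : Matrix (Fin 3) (Fin 3) F) 2 2 = 1} → ℕ) =
      Set.range (orderOf : alternatingGroup (Fin 6) → ℕ) := by
  haveI : CharP F 2 := CfsgLib.Recog.charP_two_of_card_four hF
  set S : Set (Matrix.SpecialLinearGroup (Fin 3) F) := {M : Matrix.SpecialLinearGroup (Fin 3) F |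
    (M : Matrix (Fin 3) (Fin 3) F) 2 0 = 0 ∧ (M : Matrix (Fin 3) (Fin 3) F) 2 1 = 0 ∧
      (M : Matrix (Fin 3) (Fin 3) F) 2 2 = 1} with hS
  let f0 : Multiplicative (Fin 2 → F) ⋊[CfsgLib.Recog.slAct (F := F)]
      Matrix.SpecialLinearGroup (Fin 2) F → Matrix.SpecialLinearGroup (Fin 3) F := fun x =>
    ⟨!![(x.right : Matrix (Fin 2) (Fin 2) F) 0 0, (x.right : Matrix (Fin 2) (Fin 2) F) 0 1, x.left.toAdd 0;
        (x.right : Matrix (Fin 2) (Fin 2) F) 1 0, (x.right : Matrix (Fin 2) (Fin 2) F) 1 1, x.left.toAdd 1;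
        0, 0, 1], by
      have hd : (x.right : Matrix (Fin 2) (Fin 2) F).det = 1 := x.right.2
      rw [Matrix.det_fin_two] at hd
      simp [Matrix.det_fin_three]
      linear_combination hd⟩
  have hf0 : ∀ x, (f0 x : Matrix (Fin 3) (Fin 3) F) =
      !![(x.right : Matrix (Fin 2) (Fin 2) F) 0 0, (x.right : Matrix (Fin 2) (Fin 2) F) 0 1, x.left.toAdd 0;
        (x.right : Matrix (Fin 2) (Fin 2) F) 1 0, (x.right : Matrix (Fin 2) (Fin 2) F) 1 1, x.left.toAdd 1;
        0, 0, 1] := fun x => rfl
  have hf01 : f0 1 = 1 := by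
    apply Subtype.ext
    rw [hf0, Matrix.SpecialLinearGroup.coe_one]
    ext i j
    fin_cases i <;> fin_cases j <;> simp
  have hf0m : ∀ x y, f0 (x * y) = f0 x * f0 y := fun x y => by
    apply Subtype.ext
    rw [Matrix.SpecialLinearGroup.coe_mul, hf0, hf0, hf0]
    ext i j
    fin_cases i <;> fin_cases j <;>
      simp [Matrix.mul_apply, Fin.sum_univ_three, Fin.sum_univ_two, CfsgLib.Recog.slAct_apply,
        Matrix.mulVec, dotProduct, add_comm, add_left_comm, add_assoc]
  let f : Multiplicative (Fin 2 → F) ⋊[CfsgLib.Recog.slAct (F := F)]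
      Matrix.SpecialLinearGroup (Fin 2) F →* Matrix.SpecialLinearGroup (Fin 3) F :=
    { toFun := f0, map_one' := hf01, map_mul' := hf0m }
  have hff : ∀ x, (f x : Matrix (Fin 3) (Fin 3) F) =
      !![(x.right : Matrix (Fin 2) (Fin 2) F) 0 0, (x.right : Matrix (Fin 2) (Fin 2) F) 0 1, x.left.toAdd 0;
        (x.right : Matrix (Fin 2) (Fin 2) F) 1 0, (x.right : Matrix (Fin 2) (Fin 2) F) 1 1, x.left.toAdd 1;
        0, 0, 1] := fun x => rfl
  have hf : Function.Injective f := by
    intro x y hxy
    have h : ∀ i j, (f x : Matrix (Fin 3) (Fin 3) F) i j = (f y : Matrix (Fin 3) (Fin 3) F) i j :=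
      fun i j => by rw [hxy]
    refine SemidirectProduct.ext (Multiplicative.toAdd.injective (funext fun i => ?_))
      (Subtype.ext ?_)
    · fin_cases i
      · simpa [hff] using h 0 2
      · simpa [hff] using h 1 2
    · ext i j
      fin_cases i <;> fin_cases j
      · simpa [hff] using h 0 0
      · simpa [hff] using h 0 1
      · simpa [hff] using h 1 0
      · simpa [hff] using h 1 1
  have hrange : f.range = Subgroup.closure S := by
    refine le_antisymm ?_ ((Subgroup.closure_le _).2 ?_)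
    · rintro _ ⟨x, rfl⟩
      exact Subgroup.subset_closure ⟨by simp [hff], by simp [hff], by simp [hff]⟩
    · rintro M ⟨h0, h1, h2⟩
      have hd : (M : Matrix (Fin 3) (Fin 3) F).det = 1 := M.2
      refine ⟨⟨Multiplicative.ofAdd ![(M : Matrix (Fin 3) (Fin 3) F) 0 2, (M : Matrix (Fin 3) (Fin 3) F) 1 2],
        ⟨!![(M : Matrix (Fin 3) (Fin 3) F) 0 0, (M : Matrix (Fin 3) (Fin 3) F) 0 1;
            (M : Matrix (Fin 3) (Fin 3) F) 1 0, (M : Matrix (Fin 3) (Fin 3) F) 1 1], ?_⟩⟩, ?_⟩
      · rw [Matrix.det_fin_three, h0, h1, h2] at hd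
        simp [Matrix.det_fin_two]
        linear_combination hd
      · apply Subtype.ext
        rw [hff]
        ext i j
        fin_cases i <;> fin_cases j <;> simp [h0, h1, h2]
  rw [← hrange, ← CfsgLib.Recog.orderOf_equiv_range (MonoidHom.ofInjective hf),
    CfsgLib.Recog.range_orderOf_affine_SL_two_four hF, CfsgLib.Recog.range_orderOf_alternating_six]

end Cfsg.Agent.S3488
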