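import Cfsg.Statements.S3489
import Cfsg.Agent.Lib.Recog.A10Model

set_option autoImplicit false
open Cfsg

namespace Cfsg.Agent.S3489

/-- The alternating group of degree 10 is not determined by its set of element orders, not even up to finitely many groups: for every bound N there is a finite group of order greater than N with exactly the same set of element orders as the alternating group of degree 10. -/
theorem result (N : ℕ) : ∃ (H : Type) (_ : Group H) (_ : Fintype H), N < Fintype.card H ∧ Set.range (orderOf : H → ℕ) = Set.range (orderOf : alternatingGroup (Fin 10) → ℕ) := by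
  haveI : Fact (Nat.Prime 7) := ⟨by norm_num⟩
  haveI : CharP (ZMod 7) 7 := ZMod.charP 7
  haveI : Finite (Multiplicative CfsgLib.Recog.A10Model.oddFun ⋊[CfsgLib.Recog.A10Model.wAct] CfsgLib.Recog.BinaryS5.C) :=
    Finite.of_equiv _ SemidirectProduct.equivProd.symm
  obtain ⟨H, hG, hH, hN, hS⟩ := CfsgLib.Recog.exists_large_isospectral
    CfsgLib.Recog.A10Model.vAct (by norm_num : Nat.Prime 7) (CfsgLib.Recog.pow_char_eq_one 7) N
  refine ⟨H, hG, hH, hN, hS.trans ?_⟩
  rw [CfsgLib.Recog.A10Model.range_orderOf_model, CfsgLib.Recog.A10Model.range_orderOf_alternating_ten]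

end Cfsg.Agent.S3489
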