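import Cfsg.Statements.S3493
import Cfsg.Agent.Lib.Recog.ExtremelyPrimitiveSocle

set_option autoImplicit false
set_option maxHeartbeats 800000
open Cfsg

namespace Cfsg.Agent.S3493

/-- An extremely primitive permutation group is of affine type or almost simple. Let a finite group G act faithfully and primitively on a finite set Ω with at least two points, in such a way that every point stabilizer acts primitively on each of its own orbits in Ω (an orbit of size one counts as primitive). Then either G has a non-trivial abelian normal subgroup whose elements other than the identity fix no point (affine type), or G has a non-abelian simple normal subgroup with trivial centralizer (almost simple). -/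
theorem result {G : Type*} [Group G] [Finite G] {Ω : Type*} [Fintype Ω] [MulAction G Ω] [FaithfulSMul G Ω] (hΩ : 2 ≤ Fintype.card Ω) (hprim : MulAction.IsPreprimitive G Ω) (hep : ∀ (α : Ω) (ω : Ω), MulAction.IsPreprimitive (MulAction.stabilizer G α) (MulAction.orbit (MulAction.stabilizer G α) ω)) :
    (∃ N : Subgroup G, N.Normal ∧ N ≠ ⊥ ∧ IsMulCommutative N ∧ ∀ ω : Ω, MulAction.stabilizer N ω = ⊥) ∨ (∃ T : Subgroup G, T.Normal ∧ IsSimpleGroup T ∧ ¬ IsMulCommutative T ∧ Subgroup.centralizer (T : Set G) = ⊥) := by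
  classical
  haveI := hprim
  haveI : Nontrivial Ω := Fintype.one_lt_card_iff_nontrivial.1 (by omega)
  rcases CfsgLib.Recog.affine_or_socleFactor (G := G) (Ω := Ω) with
    ⟨N, r, -, hN, hN1, hc, -, -, hreg⟩ | ⟨N, T, h⟩
  · exact Or.inl ⟨N, hN, hN1, hc, hreg⟩
  right
  haveI := h.isMinimalNormal.normal
  haveI := h.isPretransitive (Ω := Ω)
  obtain ⟨a⟩ : Nonempty Ω := inferInstance
  set A := MulAction.stabilizer G a with hA
  have hsmul : ∀ {d : G}, d • a = a → ∀ y : G, d • y • a = (d * y * d⁻¹) • a := fun {d} hd y => by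
    rw [mul_smul, mul_smul, show d⁻¹ • a = a by rw [inv_smul_eq_iff, hd]]
  have hconjA : ∀ k ∈ A, ∀ y : G, y • a = a → (k⁻¹ * y * k) • a = a := fun k hk y hy => by
    rw [mul_smul, mul_smul, MulAction.mem_stabilizer_iff.1 hk, hy, inv_smul_eq_iff,
      MulAction.mem_stabilizer_iff.1 hk]
  rcases h.diagonal_or_product a with ⟨h1, h2⟩ | hprod
  · exfalso
    refine CfsgLib.Recog.false_of_diagonal h a (fun b => hep a b)
      (fun x hx hxa => Subgroup.mem_bot.1 (h1 ▸ Subgroup.mem_inf.2 ⟨hx, hxa⟩)) fun t ht => ?_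
    obtain ⟨x, -, hxa, hxt⟩ := h2 t ht
    exact ⟨x, hxa, hxt⟩
  by_cases hAS : T = N ∧ Subgroup.centralizer (N : Set G) = ⊥
  · exact h.almostSimple hAS.1 hAS.2
  exfalso
  by_cases hTa : ∀ x ∈ T, x • a = a → x = 1
  · -- `N` is regular
    have hreg : ∀ x ∈ N, x • a = a → x = 1 := by
      intro x hx hxa
      refine h.ext hx (one_mem N) fun g => ?_
      rw [(h.map_conj g).comp_self (one_mem _)]
      obtain ⟨k, hk, hkg⟩ := h.exists_conjSub_eq_stabilizer g a
      have h1 := hprod x hx hxa g
      have hm := CfsgLib.Recog.IsSocleFactor.comp_mem (CfsgLib.Recog.conjSub g T) x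
      generalize CfsgLib.Recog.IsSocleFactor.comp (CfsgLib.Recog.conjSub g T) x = c at h1 hm ⊢
      rw [hkg, CfsgLib.Recog.mem_conjSub] at hm
      have := hTa _ hm (hconjA k hk c h1)
      calc c = k * (k⁻¹ * c * k) * k⁻¹ := by group
        _ = 1 := by rw [this, mul_one, mul_inv_cancel]
    by_cases hC : Subgroup.centralizer (N : Set G) = ⊥
    · -- twisted wreath type
      have hTN : T ≠ N := fun e => hAS ⟨e, hC⟩
      obtain ⟨k₀, hk₀, hk₀T⟩ : ∃ k ∈ A, CfsgLib.Recog.conjSub k T ≠ T := by
        by_contra hc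
        push_neg at hc
        apply hTN
        conv_rhs => rw [← h.iSup_conj_eq]
        refine le_antisymm (le_iSup_of_le 1 (CfsgLib.Recog.conjSub_one T).ge) (iSup_le fun g => ?_)
        obtain ⟨k, hk, hkg⟩ := h.exists_conjSub_eq_stabilizer g a
        rw [hkg, hc k hk]
      have hstab : ∀ x ∈ T, x ≠ 1 → ∀ g : G, g • a = a → g • x • a = x • a →
          CfsgLib.Recog.conjSub g T = T := by
        intro x hx hx1 g hga hgx
        rw [hsmul hga] at hgx
        have e : g * x * g⁻¹ = x := by
          refine (inv_mul_eq_one.1 (hreg _ (mul_mem (inv_mem (h.le hx)) ?_) ?_)).symm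
          · exact Subgroup.Normal.conj_mem inferInstance _ (h.le hx) g
          · rw [mul_smul, hgx, inv_smul_smul]
        by_contra hne
        exact hx1 (h.eq_one_of_centralizer hx ((h.map_conj g).commute_of_ne h hne
          (e ▸ CfsgLib.Recog.conj_mem_conjSub hx)))
      -- the subgroup fixing the factor centralises it
      let K : Subgroup G :=
        { carrier := {g | g • a = a ∧ CfsgLib.Recog.conjSub g T = T}
          one_mem' := ⟨one_smul _ a, CfsgLib.Recog.conjSub_one T⟩
          mul_mem' := fun {g g'} hg hg' => ⟨by rw [mul_smul, hg'.1, hg.1],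
            by rw [CfsgLib.Recog.conjSub_mul, hg'.2, hg.2]⟩
          inv_mem' := fun {g} hg => ⟨by rw [inv_smul_eq_iff, hg.1], by
            conv_lhs => rw [← hg.2]
            rw [← CfsgLib.Recog.conjSub_mul, inv_mul_cancel, CfsgLib.Recog.conjSub_one]⟩ }
      have hK : ∀ g : G, g • a = a → CfsgLib.Recog.conjSub g T = T → ∀ x ∈ T, g * x * g⁻¹ = x := by
        intro g hga hgT x hx
        rcases eq_or_ne x 1 with rfl | hx1
        · simp
        have hmove : ∃ u ∈ A, u • x • a ≠ x • a := ⟨k₀, hk₀, fun e => hk₀T (hstab x hx hx1 k₀ hk₀ e)⟩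
        rcases CfsgLib.Recog.eq_or_eq_of_between (B := K) (hep a (x • a)) hmove
          (fun u hu => ⟨(Subgroup.mem_inf.1 hu).1,
            hstab x hx hx1 u (Subgroup.mem_inf.1 hu).1 (Subgroup.mem_inf.1 hu).2⟩)
          (fun u hu => hu.1) with e | e
        · have hgS : g ∈ A ⊓ MulAction.stabilizer G (x • a) := e ▸ (show g ∈ K from ⟨hga, hgT⟩)
          have h3 : g • x • a = x • a := (Subgroup.mem_inf.1 hgS).2
          rw [hsmul hga] at h3
          refine (inv_mul_eq_one.1 (hreg _ (mul_mem (inv_mem (h.le hx)) ?_) ?_)).symm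
          · exact Subgroup.Normal.conj_mem inferInstance _ (h.le hx) g
          · rw [mul_smul, h3, inv_smul_smul]
        · exact absurd (show k₀ ∈ K from e ▸ hk₀).2 hk₀T
      obtain ⟨t, ht, ht1⟩ := T.bot_or_exists_ne_one.resolve_left h.ne_bot
      -- a fixed point of the stabiliser
      let f : Subgroup G → G := fun L =>
        if hL : ∃ k, k • a = a ∧ L = CfsgLib.Recog.conjSub k T then hL.choose * t * hL.choose⁻¹ else 1
      have hf : ∀ k : G, k • a = a → f (CfsgLib.Recog.conjSub k T) = k * t * k⁻¹ := by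
        intro k hk
        have hL : ∃ k', k' • a = a ∧ CfsgLib.Recog.conjSub k T = CfsgLib.Recog.conjSub k' T := ⟨k, hk, rfl⟩
        obtain ⟨hk', he⟩ := hL.choose_spec
        simp only [f, dif_pos hL]
        generalize hL.choose = k' at hk' he
        have h3 := hK (k⁻¹ * k') (by rw [mul_smul, hk', inv_smul_eq_iff, hk]) (by
          rw [CfsgLib.Recog.conjSub_mul, ← he, ← CfsgLib.Recog.conjSub_mul, inv_mul_cancel,
            CfsgLib.Recog.conjSub_one]) t ht
        calc k' * t * k'⁻¹ = k * ((k⁻¹ * k') * t * (k⁻¹ * k')⁻¹) * k⁻¹ := by group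
          _ = k * t * k⁻¹ := by rw [h3]
      obtain ⟨z, hz, hzc⟩ := h.exists_assemble f fun g => by
        obtain ⟨k, hk, hkg⟩ := h.exists_conjSub_eq_stabilizer g a
        rw [hkg, hf k hk]
        exact CfsgLib.Recog.conj_mem_conjSub ht
      have hzN : z ∈ N := (Subgroup.mem_inf.1 hz).1
      have hzA : ∀ k ∈ A, k * z * k⁻¹ = z := by
        intro k hk
        refine h.ext (Subgroup.Normal.conj_mem inferInstance _ hzN k) hzN fun g => ?_
        obtain ⟨l, hl, hlg⟩ := h.exists_conjSub_eq_stabilizer (k⁻¹ * g) a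
        have hg : CfsgLib.Recog.conjSub g T = CfsgLib.Recog.conjSub k (CfsgLib.Recog.conjSub (k⁻¹ * g) T) := by
          rw [← CfsgLib.Recog.conjSub_mul, mul_inv_cancel_left]
        rw [hg, (h.map_conj _).comp_conj hzN k, hzc, ← hg, hzc, hg, hlg, ← CfsgLib.Recog.conjSub_mul,
          hf l hl, hf (k * l) (by rw [mul_smul, MulAction.mem_stabilizer_iff.1 hl, MulAction.mem_stabilizer_iff.1 hk])]
        group
      have hzN' : z ∈ Subgroup.normalizer (A : Set G) := by
        rw [Subgroup.mem_normalizer_iff]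
        intro u
        constructor
        · intro hu
          have h3 : z * u * z⁻¹ = u := by
            calc z * u * z⁻¹ = (u * z * u⁻¹) * u * z⁻¹ := by rw [hzA u hu]
              _ = u := by group
          rwa [h3]
        · intro hu
          have h3 : z * u * z⁻¹ * z * (z * u * z⁻¹)⁻¹ = z := hzA _ hu
          have h4 : u * z * u⁻¹ = z := by
            calc u * z * u⁻¹ = z⁻¹ * (z * u * z⁻¹ * z * (z * u * z⁻¹)⁻¹) * z := by group
              _ = z := by rw [h3]; group
          have h5 : z * u * z⁻¹ = u := by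
            calc z * u * z⁻¹ = (u * z * u⁻¹) * u * z⁻¹ := by rw [h4]
              _ = u := by group
          rwa [h5] at hu
      rcases ((MulAction.isCoatom_stabilizer_iff_preprimitive G a).2 hprim).le_iff.1
        (Subgroup.le_normalizer (H := A)) with e | e
      · have hAn : A.Normal := Subgroup.normalizer_eq_top_iff.1 e
        have hk1 : k₀ = 1 := FaithfulSMul.eq_of_smul_eq_smul fun b : Ω => by
          obtain ⟨u, rfl⟩ := MulAction.exists_smul_eq G a b
          have h3 : (u⁻¹ * k₀ * u) • a = a := by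
            have := hAn.conj_mem k₀ hk₀ u⁻¹
            rw [inv_inv] at this
            exact this
          rw [mul_smul, mul_smul, inv_smul_eq_iff] at h3
          rw [one_smul, h3]
        exact hk₀T (hk1 ▸ CfsgLib.Recog.conjSub_one T)
      · rw [e] at hzN'
        have h3 := hzc 1
        rw [hreg z hzN hzN', (h.map_conj 1).comp_self (one_mem _), hf 1 (one_smul _ a)] at h3
        exact ht1 (by simpa using h3.symm)
    · -- two minimal normal subgroups
      refine CfsgLib.Recog.false_of_diagonal h a (fun b => hep a b) hTa fun t ht => ?_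
      haveI := CfsgLib.Recog.isPretransitive_of_normal_ne_bot (Ω := Ω) (Subgroup.centralizer (N : Set G)) hC
      obtain ⟨⟨m, hm⟩, hmt⟩ := MulAction.exists_smul_eq (Subgroup.centralizer (N : Set G)) (t • a) a
      refine ⟨m * t, by rw [mul_smul]; exact hmt, fun y hy => ?_⟩
      have h3 := Subgroup.mem_centralizer_iff.1 hm (t * y * t⁻¹)
        (mul_mem (mul_mem (h.le ht) (h.le hy)) (inv_mem (h.le ht)))
      calc m * t * y * (m * t)⁻¹ = m * (t * y * t⁻¹) * m⁻¹ := by group
        _ = t * y * t⁻¹ := by rw [← h3, mul_inv_cancel_right]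
  · -- product action type
    push_neg at hTa
    obtain ⟨x₀, hx₀, hx₀a, hx₀1⟩ := hTa
    have hC : Subgroup.centralizer (N : Set G) = ⊥ := by
      by_contra hC
      exact hx₀1 (h.semiregular_of_centralizer hC (h.le hx₀) hx₀a)
    have hTN : T ≠ N := fun e => hAS ⟨e, hC⟩
    obtain ⟨x, hx, hxa, u, hu, hua, hux⟩ : ∃ x ∈ T, x • a ≠ a ∧
        ∃ u ∈ T, u • a = a ∧ (x⁻¹ * u * x) • a ≠ a := by
      by_contra hc
      push_neg at hc
      have hnorm : ∀ x ∈ T, ∀ u ∈ T, u • a = a → (x⁻¹ * u * x) • a = a := by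
        intro x hx u hu hua
        by_cases hxa : x • a = a
        · exact hconjA x hxa u hua
        · exact hc x hx hxa u hu hua
      rcases h.eq_bot_or_eq_of_conj_mem (K := T ⊓ A) (fun x hx y hy => by
        obtain ⟨hy1, hy2⟩ := Subgroup.mem_inf.1 hy
        refine Subgroup.mem_inf.2 ⟨mul_mem (mul_mem hx hy1) (inv_mem hx), ?_⟩
        have h3 := hnorm x⁻¹ (inv_mem hx) y hy1 hy2
        rw [inv_inv] at h3
        exact h3) with e | e
      · rw [← inf_assoc, inf_idem] at e
        exact hx₀1 (Subgroup.mem_bot.1 (e ▸ Subgroup.mem_inf.2 ⟨hx₀, hx₀a⟩))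
      · obtain ⟨t, ht, htd⟩ := h.exists_derangement ⟨x₀, hx₀, hx₀1, hx₀a⟩
        exact htd a (Subgroup.mem_inf.1 (e ht)).2
    have hNA : N ⊓ A ≤ A := inf_le_right
    rcases CfsgLib.Recog.fixed_or_transitive_on_orbit (hep a (x • a)) hNA (fun k hk => by
      rw [Subgroup.mem_normalizer_iff]
      refine fun y => ⟨fun hy => Subgroup.mem_inf.2
          ⟨Subgroup.Normal.conj_mem inferInstance _ (Subgroup.mem_inf.1 hy).1 k,
            mul_mem (mul_mem hk (Subgroup.mem_inf.1 hy).2) (inv_mem hk)⟩, fun hy => ?_⟩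
      obtain ⟨h3, h4⟩ := Subgroup.mem_inf.1 hy
      refine Subgroup.mem_inf.2 ⟨?_, ?_⟩
      · simpa [mul_assoc] using Subgroup.Normal.conj_mem inferInstance _ h3 k⁻¹
      · have h5 := mul_mem (mul_mem (inv_mem hk) h4) hk
        rwa [show k⁻¹ * (k * y * k⁻¹) * k = y by group] at h5) with hfix | htrans
    · have h3 := hfix _ (MulAction.mem_orbit_self _) u (Subgroup.mem_inf.2 ⟨h.le hu, hua⟩)
      refine hux ?_
      rw [mul_smul, mul_smul, h3, inv_smul_smul]
    · apply hTN
      conv_rhs => rw [← h.iSup_conj_eq]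
      refine le_antisymm (le_iSup_of_le 1 (CfsgLib.Recog.conjSub_one T).ge) (iSup_le fun g => ?_)
      obtain ⟨k, hk, hkg⟩ := h.exists_conjSub_eq_stabilizer g a
      rw [hkg]
      refine le_of_eq ?_
      by_contra hne
      obtain ⟨n, hn, hnx⟩ := htrans (k • x • a) ⟨⟨k, hk⟩, rfl⟩
      obtain ⟨hnN, hna⟩ := Subgroup.mem_inf.1 hn
      rw [hsmul hna, hsmul hk] at hnx
      have hy : n * x * n⁻¹ ∈ T := h.conj_mem n hnN x hx
      have hw : k * x * k⁻¹ ∈ CfsgLib.Recog.conjSub k T := CfsgLib.Recog.conj_mem_conjSub hx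
      have hfixed : ((n * x * n⁻¹)⁻¹ * (k * x * k⁻¹)) • a = a := by
        rw [mul_smul, ← hnx, inv_smul_smul]
      have h3 := hprod _ (mul_mem (inv_mem (h.le hy)) ((h.map_conj k).le hw)) hfixed k
      rw [(h.map_conj k).comp_mul (inv_mem (h.le hy)) ((h.map_conj k).le hw),
        (h.map_conj k).comp_of_ne h hne (inv_mem hy), (h.map_conj k).comp_self hw, one_mul] at h3
      apply hxa
      have := hconjA k hk _ h3
      simpa [mul_assoc] using this

end Cfsg.Agent.S3493
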