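import Cfsg.Statements.S3495
import Cfsg.Agent.Lib.Recog.ExtremelyPrimitive

set_option autoImplicit false
open Cfsg

namespace Cfsg.Agent.S3495

/-- Let a finite group G act faithfully and primitively on a finite set Ω with non-trivial point stabilizers, each acting primitively on every one of its orbits (an extremely primitive group), and suppose G has an elementary abelian normal p-subgroup N acting regularly on Ω (affine type). Then every non-trivial subgroup M of a point stabilizer G_α that is normal in G_α has the same orbits on Ω as G_α, and normalizes no subgroup of N other than 1 and N. -/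
theorem result {G : Type*} [Group G] [Finite G] {Ω : Type*} [Fintype Ω] [MulAction G Ω] [FaithfulSMul G Ω] (hprim : MulAction.IsPreprimitive G Ω) (hH : ∀ α : Ω, MulAction.stabilizer G α ≠ ⊥) (hep : ∀ (α : Ω) (ω : Ω), MulAction.IsPreprimitive (MulAction.stabilizer G α) (MulAction.orbit (MulAction.stabilizer G α) ω))
    (N : Subgroup G) [N.Normal] (hNc : IsMulCommutative N) (p : ℕ) (hp : p.Prime) (hNp : ∀ n ∈ N, n ^ p = 1)
    (hNtr : MulAction.IsPretransitive N Ω) (hNreg : ∀ ω : Ω, MulAction.stabilizer N ω = ⊥) (α : Ω) (M : Subgroup G) (hM : M ≠ ⊥) (hMle : M ≤ MulAction.stabilizer G α)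
    (hMn : MulAction.stabilizer G α ≤ Subgroup.normalizer (M : Set G)) :
    (∀ ω : Ω, MulAction.orbit M ω = MulAction.orbit (MulAction.stabilizer G α) ω) ∧
    (∀ L : Subgroup G, L ≤ N → M ≤ Subgroup.normalizer (L : Set G) → L = ⊥ ∨ L = N) := by
  haveI := hprim
  have horb : ∀ ω : Ω, MulAction.orbit M ω = MulAction.orbit (MulAction.stabilizer G α) ω := by
    intro ω
    refine Set.Subset.antisymm ?_ fun x hx => ?_
    · rintro _ ⟨m, rfl⟩; exact ⟨⟨m, hMle m.2⟩, rfl⟩
    rcases CfsgLib.Recog.fixed_or_transitive_on_orbit (hep α ω) hMle hMn with h | h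
    · by_cases hω : ω = α
      · subst hω
        obtain ⟨a, rfl⟩ := hx
        exact ⟨1, by simp [a.2]; exact a.2.symm⟩
      · refine absurd ((Subgroup.eq_bot_iff_forall _).2 fun m hm => ?_) hM
        exact CfsgLib.Recog.eq_one_of_fixes_orbit hH hep hω (hMle hm) fun y hy => h y hy m hm
    · obtain ⟨k, hk, rfl⟩ := h x hx
      exact ⟨⟨k, hk⟩, rfl⟩
  refine ⟨horb, fun L hLN hML => ?_⟩
  have hreg : ∀ n ∈ N, n • α = α → n = 1 := fun n hn h => by
    have h1 : (⟨n, hn⟩ : N) ∈ MulAction.stabilizer N α := h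
    rw [hNreg, Subgroup.mem_bot] at h1
    exact congrArg Subtype.val h1
  have hstab : ∀ a ∈ MulAction.stabilizer G α, ∀ l ∈ L, a * l * a⁻¹ ∈ L := by
    intro a ha l hl
    have hx : a • l • α ∈ MulAction.orbit M (l • α) := by
      rw [horb]; exact ⟨⟨a, ha⟩, rfl⟩
    obtain ⟨m, hm⟩ := hx
    have hmL : (m : G) * l * (m : G)⁻¹ ∈ L := (Subgroup.mem_normalizer_iff.1 (hML m.2) l).1 hl
    have he : (a * l * a⁻¹)⁻¹ * ((m : G) * l * (m : G)⁻¹) = 1 := by
      refine hreg _ (N.mul_mem (N.inv_mem (Subgroup.Normal.conj_mem inferInstance l (hLN hl) a)) (hLN hmL)) ?_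
      rw [← smul_smul, inv_smul_eq_iff, ← smul_smul, ← smul_smul, ← smul_smul, ← smul_smul,
        inv_smul_eq_iff.2 (hMle m.2).symm, inv_smul_eq_iff.2 ha.symm]
      exact hm
    rw [inv_mul_eq_one] at he
    rwa [he]
  haveI hLn : L.Normal := by
    refine ⟨fun l hl g => ?_⟩
    obtain ⟨n, hn⟩ := MulAction.exists_smul_eq N α (g • α)
    have ha : (n : G)⁻¹ * g ∈ MulAction.stabilizer G α := by
      rw [MulAction.mem_stabilizer_iff, ← smul_smul, inv_smul_eq_iff]
      exact hn.symm
    have h1 := hstab _ ha l hl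
    rw [show g * l * g⁻¹ = (n : G) * ((n : G)⁻¹ * g * l * ((n : G)⁻¹ * g)⁻¹) * (n : G)⁻¹ by group]
    rw [show (n : G) * ((n : G)⁻¹ * g * l * ((n : G)⁻¹ * g)⁻¹) =
      ((n : G)⁻¹ * g * l * ((n : G)⁻¹ * g)⁻¹) * n from
      congrArg Subtype.val (mul_comm' n (⟨_, hLN h1⟩ : N)), mul_inv_cancel_right]
    exact h1
  by_cases hf : MulAction.fixedPoints L Ω = Set.univ
  · refine Or.inl ((Subgroup.eq_bot_iff_forall _).2 fun l hl => hreg l (hLN hl) ?_)
    exact (hf ▸ Set.mem_univ α : α ∈ MulAction.fixedPoints L Ω) ⟨l, hl⟩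
  · refine Or.inr (le_antisymm hLN fun n hn => ?_)
    haveI := MulAction.IsQuasiPreprimitive.isPretransitive_of_normal hf
    obtain ⟨l, hl⟩ := MulAction.exists_smul_eq L α (n • α)
    have h1 := hreg _ (N.mul_mem (N.inv_mem hn) (hLN l.2))
      (by rw [← smul_smul, inv_smul_eq_iff]; exact hl)
    rw [inv_mul_eq_one] at h1
    exact h1 ▸ l.2

end Cfsg.Agent.S3495
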