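import Cfsg.Statements.S3496
import Cfsg.Agent.Lib.Recog.StabilizerFitting
import Cfsg.Agent.Lib.Recog.IrreducibleCyclic
import Cfsg.Agent.Lib.Recog.PrimitiveSocle
import Cfsg.Agent.S3495

set_option autoImplicit false
open Cfsg

namespace Cfsg.Agent.S3496

/-- The soluble extremely primitive groups. Let a finite solvable group G act faithfully and primitively on a finite set Ω with p ^ d points (p prime), with non-trivial point stabilizers each acting primitively on every one of its orbits. Then there is a prime q such that every orbit of a point stabilizer G_α other than {α} has exactly q points, q divides p ^ d − 1 but no p ^ i − 1 with 0 < i < d, and G_α has a normal subgroup T of order q with G_α generated by T and one further element and the order of G_α dividing q·d (so G_α is cyclic of order q, or an extension of T by a cyclic group of order dividing d). -/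
theorem result {G : Type*} [Group G] [Finite G] {Ω : Type*} [Fintype Ω] [MulAction G Ω] [FaithfulSMul G Ω] [Group.IsSolvable G] (p d : ℕ) (hp : p.Prime) (hcard : Fintype.card Ω = p ^ d)
    (hprim : MulAction.IsPreprimitive G Ω) (hH : ∀ α : Ω, MulAction.stabilizer G α ≠ ⊥) (hep : ∀ (α : Ω) (ω : Ω), MulAction.IsPreprimitive (MulAction.stabilizer G α) (MulAction.orbit (MulAction.stabilizer G α) ω)) (α : Ω) :
    ∃ q : ℕ, q.Prime ∧ (∀ ω : Ω, ω ≠ α → Nat.card (MulAction.orbit (MulAction.stabilizer G α) ω) = q) ∧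
      q ∣ p ^ d - 1 ∧ (∀ i : ℕ, 0 < i → i < d → ¬ q ∣ p ^ i - 1) ∧
      ∃ T : Subgroup G, T ≤ MulAction.stabilizer G α ∧ MulAction.stabilizer G α ≤ Subgroup.normalizer (T : Set G) ∧ Nat.card T = q ∧
        (∃ h : G, MulAction.stabilizer G α = T ⊔ Subgroup.zpowers h) ∧ Nat.card (MulAction.stabilizer G α) ∣ q * d := by
  classical
  haveI := hprim
  haveI := Fact.mk hp
  obtain ⟨ω₀, hω₀⟩ := CfsgLib.Recog.exists_moved hH hep α
  haveI : Nontrivial G := by
    obtain ⟨g, hg, hg1⟩ := (Subgroup.bot_or_exists_ne_one _).resolve_left (hH α)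
    exact ⟨⟨g, 1, hg1⟩⟩
  -- the regular normal subgroup
  obtain ⟨p', hp', hNc, hNexp, hNt, hNreg⟩ : ∃ p' : ℕ, p'.Prime ∧
      IsMulCommutative ↥(sSup {V : Subgroup G | CfsgLib.Base.IsMinimalNormal V}) ∧
      (∀ x : ↥(sSup {V : Subgroup G | CfsgLib.Base.IsMinimalNormal V}), x ^ p' = 1) ∧
      MulAction.IsPretransitive ↥(sSup {V : Subgroup G | CfsgLib.Base.IsMinimalNormal V}) Ω ∧
      ∀ ω : Ω, MulAction.stabilizer ↥(sSup {V : Subgroup G | CfsgLib.Base.IsMinimalNormal V}) ω = ⊥ := by
    refine (CfsgLib.Recog.primitive_socle (G := G) (Ω := Ω)).resolve_right ?_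
    rintro ⟨T, iT, m, hm, hT, hTc, ⟨e⟩⟩
    let π : ↥(sSup {V : Subgroup G | CfsgLib.Base.IsMinimalNormal V}) →* T :=
      (Pi.evalMonoidHom (fun _ : Fin m => T) ⟨0, hm⟩).comp e.toMonoidHom
    have hπ : Function.Surjective π := fun t => ⟨e.symm fun _ => t, by simp [π]⟩
    haveI : Group.IsSolvable T := Group.isSolvable_of_surjective hπ
    exact hTc ⟨⟨fun a b => (IsSimpleGroup.comm_iff_isSolvable.2 inferInstance) a b⟩⟩
  set N := sSup {V : Subgroup G | CfsgLib.Base.IsMinimalNormal V} with hN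
  haveI hNn : N.Normal := by
    rw [hN, sSup_eq_iSup', Subgroup.iSup_eq_closure]
    refine ⟨fun n hn g => ?_⟩
    induction hn using Subgroup.closure_induction with
    | mem x hx =>
      obtain ⟨V, hxV⟩ := Set.mem_iUnion.1 hx
      exact Subgroup.subset_closure (Set.mem_iUnion.2 ⟨V, V.2.normal.conj_mem x hxV g⟩)
    | one => simp
    | mul a b _ _ ha hb => simpa [mul_assoc] using mul_mem ha hb
    | inv a _ ha => simpa [mul_assoc] using inv_mem ha
  haveI := hNt
  haveI := hNc
  have hNcard : Nat.card N = p ^ d := by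
    rw [← hcard, ← Nat.card_eq_fintype_card, ← MulAction.index_stabilizer_of_transitive N α, hNreg,
      Subgroup.index_bot]
  have hNexp' : ∀ x ∈ N, x ^ p' = 1 := fun x hx => congrArg Subtype.val (hNexp ⟨x, hx⟩)
  have hd0 : d ≠ 0 := by
    rintro rfl
    rw [pow_zero, Fintype.card_eq_one_iff] at hcard
    obtain ⟨z, hz⟩ := hcard
    exact hω₀ ((hz ω₀).trans (hz α).symm)
  have hpp : p' = p := by
    obtain ⟨x, hx⟩ := exists_prime_orderOf_dvd_card' (G := N) p (hNcard ▸ dvd_pow_self p hd0)
    exact ((Nat.prime_dvd_prime_iff_eq hp hp').1 (hx ▸ orderOf_dvd_of_pow_eq_one (hNexp x))).symm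
  subst p'
  -- an abelian self-centralising normal subgroup of the stabiliser
  set H := MulAction.stabilizer G α with hHdef
  haveI : Nontrivial H := (Subgroup.nontrivial_iff_ne_bot H).2 (hH α)
  obtain ⟨T, hTn, hTc, hT1, q, hq, hTexp, hTC⟩ : ∃ T : Subgroup H, T.Normal ∧ IsMulCommutative T ∧
      T ≠ ⊥ ∧ ∃ q : ℕ, q.Prime ∧ (∀ x ∈ T, x ^ q = 1) ∧ Subgroup.centralizer (T : Set H) ≤ T := by
    obtain ⟨q, hq, hc, -, hexp, hC⟩ := CfsgLib.Recog.fittingSubgroup_stabilizer hH hep
      (CfsgLib.Base.fittingSubgroup_ne_bot (G := H))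
    exact ⟨_, CfsgLib.Base.fittingSubgroup_normal' H, hc, CfsgLib.Base.fittingSubgroup_ne_bot, q, hq,
      hexp, hC⟩
  haveI := hTn
  haveI := hTc
  -- the linear representation
  letI : CommGroup N := { (inferInstance : Group N) with mul_comm := hNc.is_comm.comm }
  letI : Module (ZMod p) (Additive N) := AddCommGroup.zmodModule (n := p) hNexp
  let ρ : H →* Module.End (ZMod p) (Additive N) :=
    { toFun := fun h => ((MulAut.conjNormal (h : G) : MulAut N).toMonoidHom.toAdditive).toZModLinearMap p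
      map_one' := by
        rw [Subgroup.coe_one, map_one]; rfl
      map_mul' := fun a b => by
        rw [Subgroup.coe_mul, map_mul]; rfl }
  have hρ : ∀ (h : H) (v : N), ((Additive.toMul (ρ h (Additive.ofMul v)) : N) : G) =
      (h : G) * v * (h : G)⁻¹ := fun h v => MulAut.conjNormal_apply (h : G) v
  haveI : Nontrivial (Additive N) :=
    Finite.one_lt_card_iff_nontrivial.1 (by
      rw [show Nat.card (Additive N) = p ^ d from hNcard]; exact Nat.one_lt_pow hd0 hp.one_lt)
  have hTM : MulAction.stabilizer G α ≤ Subgroup.normalizer ((T.map H.subtype : Subgroup G) : Set G) := by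
    have := Subgroup.le_normalizer_map H.subtype (H := T)
    rwa [Subgroup.normalizer_eq_top, ← MonoidHom.range_eq_map, Subgroup.range_subtype] at this
  obtain ⟨horb, hirrN⟩ := Cfsg.Agent.S3495.result hprim hH hep N hNc p hp hNexp' hNt hNreg α
    (T.map H.subtype) (fun h => hT1 ((Subgroup.map_eq_bot_iff_of_injective _ H.subtype_injective).1 h))
    (Subgroup.map_subtype_le T) hTM
  have hirr : ∀ W : Submodule (ZMod p) (Additive N),
      (∀ t ∈ T, ∀ w ∈ W, ρ t w ∈ W) → W = ⊥ ∨ W = ⊤ := by
    intro W hW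
    let L : Subgroup G := (AddSubgroup.toSubgroup' W.toAddSubgroup).map N.subtype
    have hL : ∀ v : N, (v : G) ∈ L ↔ Additive.ofMul v ∈ W := fun v =>
      ⟨fun ⟨u, hu, hue⟩ => (Subtype.ext hue : u = v) ▸ hu, fun hv => ⟨v, hv, rfl⟩⟩
    have hLn : T.map H.subtype ≤ Subgroup.normalizer (L : Set G) := by
      have key : ∀ t ∈ T, ∀ y ∈ L, (t : G) * y * (t : G)⁻¹ ∈ L := by
        rintro t ht _ ⟨u, hu, rfl⟩
        rw [Subgroup.coe_subtype, ← hρ]
        exact (hL _).2 (hW t ht _ hu)
      rintro _ ⟨t, ht, rfl⟩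
      refine Subgroup.mem_normalizer_iff.2 fun y => ⟨key t ht y, fun hy => ?_⟩
      have h1 := key t⁻¹ (T.inv_mem ht) _ hy
      simpa [mul_assoc] using h1
    rcases hirrN L (Subgroup.map_subtype_le _) hLn with h | h
    · refine Or.inl ((Submodule.eq_bot_iff _).2 fun w hw => ?_)
      have h1 : ((Additive.toMul w : N) : G) ∈ L := (hL _).2 hw
      rw [h, Subgroup.mem_bot] at h1
      exact Additive.toMul.injective (Subtype.ext h1)
    · refine Or.inr (eq_top_iff.2 fun w _ => (hL (Additive.toMul w)).1 ?_)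
      rw [h]
      exact (Additive.toMul w).2
  have hinj : ∀ t ∈ T, ρ t = 1 → t = 1 := by
    intro t _ ht
    refine Subtype.ext (FaithfulSMul.eq_of_smul_eq_smul fun x : Ω => ?_)
    obtain ⟨v, rfl⟩ := MulAction.exists_smul_eq N α x
    have h1 := hρ t v
    rw [ht] at h1
    change (v : G) = (t : G) * v * (t : G)⁻¹ at h1
    change (t : G) • (v : G) • α = (1 : G) • (v : G) • α
    rw [one_smul, smul_smul, mul_inv_eq_iff_eq_mul.1 h1.symm, ← smul_smul, t.2]
  obtain ⟨hcyc, hqcyc, hidx, hdvd, hno⟩ := CfsgLib.Recog.semilinear_of_irreducible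
    (V := Additive N) hNcard ρ T hirr hinj hTC
  have hTq : Nat.card T = q := by
    haveI := hcyc
    obtain ⟨t, ht⟩ := IsCyclic.exists_generator (α := T)
    have ho : orderOf t = Nat.card T := orderOf_eq_card_of_forall_mem_zpowers ht
    have hd : orderOf t ∣ q := orderOf_dvd_of_pow_eq_one (Subtype.ext (hTexp t t.2))
    rcases hq.eq_one_or_self_of_dvd _ hd with h | h
    · rw [ho, Subgroup.card_eq_one] at h
      exact absurd h hT1
    · rw [← ho, h]
  refine ⟨q, hq, fun ω hω => ?_, hTq ▸ hdvd, fun i hi hid => hTq ▸ hno i hi hid, T.map H.subtype,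
    Subgroup.map_subtype_le T, hTM, by rw [Subgroup.card_map_of_injective H.subtype_injective, hTq],
    ?_, ?_⟩
  · rw [← horb ω, Nat.card_coe_set_eq, ← MulAction.index_stabilizer]
    refine (hq.eq_one_or_self_of_dvd _ ?_).resolve_left fun h => hT1 ?_
    · rw [show q = Nat.card (T.map H.subtype) by
        rw [Subgroup.card_map_of_injective H.subtype_injective, hTq]]
      exact Subgroup.index_dvd_card _
    · rw [Subgroup.index_eq_one] at h
      refine (Subgroup.eq_bot_iff_forall _).2 fun t ht => ?_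
      exact (CfsgLib.Recog.mem_and_eq_one_of_centralizes hH hep hω T hT1
        (Subgroup.le_centralizer_iff_isMulCommutative.2 hTc ht)).2
        (h.ge (Subgroup.mem_top (⟨t, t, ht, rfl⟩ : T.map H.subtype)))
  · haveI := hqcyc
    obtain ⟨c, hc⟩ := IsCyclic.exists_generator (α := H ⧸ T)
    obtain ⟨h, rfl⟩ := QuotientGroup.mk'_surjective T c
    refine ⟨(h : G), le_antisymm (fun x hx => ?_) (sup_le (Subgroup.map_subtype_le T) (Subgroup.zpowers_le.2 h.2))⟩
    obtain ⟨k, hk⟩ := Subgroup.mem_zpowers_iff.1 (hc (QuotientGroup.mk' T ⟨x, hx⟩))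
    rw [← map_zpow, QuotientGroup.mk'_eq_mk'] at hk
    obtain ⟨t, ht, hte⟩ := hk
    rw [show x = (h : G) ^ k * (t : G) from (congrArg (fun z : H => (z : G)) hte).symm]
    exact mul_mem (Subgroup.mem_sup_right (zpow_mem (Subgroup.mem_zpowers _) k))
      (Subgroup.mem_sup_left ⟨t, ht, rfl⟩)
  · rw [← T.card_mul_index, hTq]
    exact Nat.mul_dvd_mul_left q hidx

end Cfsg.Agent.S3496
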