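import Cfsg.Statements.S3497
import Cfsg.Agent.Lib.Recog.StabilizerFitting
import Cfsg.Agent.Lib.Recog.AutToGL

set_option autoImplicit false
open Cfsg

namespace Cfsg.Agent.S3497

/-- Restrictions on the point stabilizer of an extremely primitive group. Let a finite group G act faithfully and primitively on a finite set Ω with point stabilizers H = G_α whose order is neither 1 nor a prime, each acting primitively on every one of its orbits. Then H has trivial center, the Fitting subgroup F(H) is an elementary abelian p-group for some prime p, and if F(H) ≠ 1 has order p ^ e then p ^ e divides the number of points minus one and H / F(H) embeds in GL_e(p) (there is a homomorphism from H to GL_e(p) with kernel exactly F(H)). -/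
theorem result {G : Type*} [Group G] [Finite G] {Ω : Type*} [Fintype Ω] [MulAction G Ω] [FaithfulSMul G Ω] (hprim : MulAction.IsPreprimitive G Ω) (hep : ∀ (α : Ω) (ω : Ω), MulAction.IsPreprimitive (MulAction.stabilizer G α) (MulAction.orbit (MulAction.stabilizer G α) ω)) (α : Ω)
    (hH1 : MulAction.stabilizer G α ≠ ⊥) (hHp : ¬ (Nat.card (MulAction.stabilizer G α)).Prime) :
    Subgroup.center (MulAction.stabilizer G α) = ⊥ ∧
    IsMulCommutative (Cfsg.fittingSubgroup (MulAction.stabilizer G α)) ∧
    ∃ p e : ℕ, p.Prime ∧ Nat.card (Cfsg.fittingSubgroup (MulAction.stabilizer G α)) = p ^ e ∧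
      (∀ x ∈ Cfsg.fittingSubgroup (MulAction.stabilizer G α), x ^ p = 1) ∧
      (Cfsg.fittingSubgroup (MulAction.stabilizer G α) ≠ ⊥ →
        p ^ e ∣ Fintype.card Ω - 1 ∧
        ∃ φ : MulAction.stabilizer G α →* GL (Fin e) (ZMod p), φ.ker = Cfsg.fittingSubgroup (MulAction.stabilizer G α)) := by
  haveI := hprim
  have hH : ∀ β : Ω, MulAction.stabilizer G β ≠ ⊥ := fun β h => hH1 <| by
    rw [← Subgroup.card_eq_one, CfsgLib.Recog.card_stabilizer_eq α β, h, Subgroup.card_bot]
  refine ⟨CfsgLib.Recog.center_stabilizer_eq_bot hH hep α hHp, ?_⟩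
  by_cases hF : Cfsg.fittingSubgroup (MulAction.stabilizer G α) = ⊥
  · rw [hF]
    exact ⟨inferInstance, 2, 0, Nat.prime_two, by simp, by simp, fun h => absurd rfl h⟩
  obtain ⟨p, hp, hcomm, hpg, hexp, hC⟩ := CfsgLib.Recog.fittingSubgroup_stabilizer hH hep hF
  haveI := Fact.mk hp
  haveI := CfsgLib.Base.fittingSubgroup_normal' (MulAction.stabilizer G α)
  haveI := hcomm
  obtain ⟨e, he⟩ := hpg.exists_card_eq
  refine ⟨hcomm, p, e, hp, he, hexp, fun _ => ⟨he ▸ CfsgLib.Recog.card_dvd_pred hH hep _ hF, ?_⟩⟩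
  letI : CommGroup (Cfsg.fittingSubgroup (MulAction.stabilizer G α)) :=
    { (inferInstance : Group (Cfsg.fittingSubgroup (MulAction.stabilizer G α))) with
      mul_comm := hcomm.is_comm.comm }
  obtain ⟨ψ, hψ⟩ := CfsgLib.Recog.exists_injective_mulAut_to_GL
    (A := Cfsg.fittingSubgroup (MulAction.stabilizer G α)) (fun x => Subtype.ext (hexp x x.2)) he
  refine ⟨ψ.comp MulAut.conjNormal, ?_⟩
  ext h
  rw [MonoidHom.mem_ker, MonoidHom.comp_apply, ← map_one ψ, hψ.eq_iff]
  refine ⟨fun h1 => hC (Subgroup.mem_centralizer_iff.2 fun x hx => ?_), fun hh => ?_⟩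
  · have h2 := congrArg Subtype.val (DFunLike.congr_fun h1
      (⟨x, hx⟩ : Cfsg.fittingSubgroup (MulAction.stabilizer G α)))
    rw [MulAut.conjNormal_apply] at h2
    change h * x * h⁻¹ = x at h2
    exact (mul_inv_eq_iff_eq_mul.1 h2).symm
  · refine MulEquiv.ext fun x => Subtype.ext ?_
    rw [MulAut.conjNormal_apply]
    change h * (x : MulAction.stabilizer G α) * h⁻¹ = x
    rw [mul_inv_eq_iff_eq_mul]
    exact congrArg Subtype.val (hcomm.is_comm.comm ⟨h, hh⟩ x)

end Cfsg.Agent.S3497
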