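import Cfsg.Statements.S3498
import Cfsg.Agent.Lib.Base.ThompsonFPF

set_option autoImplicit false
open Cfsg

namespace Cfsg.Agent.S3498

/-- A maximal subgroup of a finite almost simple group does not have prime order. Here G is almost simple in the sense that it has a non-abelian simple normal subgroup T with trivial centralizer. -/
theorem result {G : Type*} [Group G] [Finite G] (T : Subgroup G) [T.Normal] (hT : IsSimpleGroup T) (hTc : ¬ IsMulCommutative T)
    (hC : Subgroup.centralizer (T : Set G) = ⊥) (H : Subgroup G) (hmax : IsCoatom H) : ¬ (Nat.card H).Prime := by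
  intro hp
  haveI := hT
  haveI : Fact (Nat.card H).Prime := ⟨hp⟩
  haveI : IsCyclic H := isCyclic_of_prime_card rfl
  have hHc : IsMulCommutative H := IsCyclic.isMulCommutative
  have hTne : ¬ T ≤ H := fun hle => hTc ⟨⟨fun a b => Subtype.ext (congrArg (fun z : H => (z : G))
    (mul_comm' (⟨a, hle a.2⟩ : H) ⟨b, hle b.2⟩))⟩⟩
  have hHne : H ≠ ⊥ := fun h => hp.ne_one (by rw [h, Subgroup.card_bot])
  by_cases hint : H ≤ T
  · have hTtop : T = ⊤ := hmax.2 T (lt_of_le_of_ne hint fun he => hTne he.ge)
    subst hTtop
    haveI : IsSimpleGroup G := (Subgroup.topEquiv (G := G)).symm.isSimpleGroup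
    have hGc : ¬ IsMulCommutative G := fun h => hTc ⟨⟨fun a b => Subtype.ext (mul_comm' (a : G) b)⟩⟩
    set r := Nat.card H with hr
    haveI := Fact.mk hp
    have hdvd : ¬ r ^ 2 ∣ Nat.card G := by
      intro hd
      obtain ⟨K, hK, hHK⟩ := Sylow.exists_subgroup_card_pow_succ (n := 1) hd (by rw [pow_one])
      have hKtop : K = ⊤ := hmax.2 K (lt_of_le_of_ne hHK fun he => by
        rw [← he, ← hr, show 1 + 1 = 2 from rfl, sq] at hK
        nlinarith [hp.two_le])
      haveI : IsMulCommutative K := IsPGroup.isMulCommutative_of_card_eq_prime_sq (p := r) hK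
      exact hGc ⟨⟨fun a b => congrArg Subtype.val
        (mul_comm' (⟨a, hKtop ▸ Subgroup.mem_top a⟩ : K) ⟨b, hKtop ▸ Subgroup.mem_top b⟩)⟩⟩
    have hfac : (Nat.card G).factorization r = 1 := by
      refine le_antisymm ?_ (hp.factorization_pos_of_dvd Nat.card_pos.ne' (Subgroup.card_subgroup_dvd_card H))
      by_contra h
      exact hdvd ((hp.pow_dvd_iff_le_factorization Nat.card_pos.ne').2 (by omega))
    let P : Sylow r G := Sylow.ofCard H (by rw [hfac, pow_one])
    have hN : Subgroup.normalizer (H : Set G) = H := by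
      by_contra hne
      have := hmax.2 _ (lt_of_le_of_ne Subgroup.le_normalizer (Ne.symm hne))
      rcases (IsSimpleGroup.eq_bot_or_eq_top_of_normal H (Subgroup.normalizer_eq_top_iff.1 this)) with h | h
      · exact hHne h
      · exact hmax.1 h
    have hP : Subgroup.normalizer ((P : Subgroup G) : Set G) ≤ Subgroup.centralizer ((P : Subgroup G) : Set G) := by
      rw [Sylow.coe_ofCard, hN]
      exact Subgroup.le_centralizer_iff_isMulCommutative.2 hHc
    have hcompl := MonoidHom.ker_transferSylow_isComplement' P hP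
    rcases IsSimpleGroup.eq_bot_or_eq_top_of_normal _ (MonoidHom.normal_ker (MonoidHom.transferSylow P hP))
      with h | h
    · rw [h, Subgroup.isComplement'_bot_left] at hcompl
      exact hmax.1 hcompl
    · rw [h, Subgroup.isComplement'_top_left] at hcompl
      exact hHne hcompl
  · obtain ⟨h, hh, hh1⟩ := (Subgroup.bot_or_exists_ne_one H).resolve_left hHne
    have hHT : ∀ t ∈ T, t ∈ H → t = 1 := by
      intro t ht htH
      by_contra h1
      refine hint ?_
      have : Subgroup.zpowers t = H := Subgroup.eq_of_le_of_card_ge (Subgroup.zpowers_le.2 htH) (by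
        rw [Nat.card_zpowers]
        exact ((hp.eq_one_or_self_of_dvd _ (Subgroup.orderOf_dvd_natCard H htH)).resolve_left
          (by rwa [orderOf_eq_one_iff])).ge)
      rw [← this]
      exact Subgroup.zpowers_le.2 ht
    set φ : MulAut T := MulAut.conjNormal h with hφ
    have hC : Subgroup.centralizer ({h} : Set G) = H := by
      have hle : H ≤ Subgroup.centralizer ({h} : Set G) := fun x hx => by
        rw [Subgroup.mem_centralizer_iff]
        rintro y (rfl : y = h)
        exact congrArg Subtype.val (mul_comm' (⟨y, hh⟩ : H) ⟨x, hx⟩)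
      by_contra hne
      have htop := hmax.2 _ (lt_of_le_of_ne hle (Ne.symm hne))
      have : h ∈ Subgroup.centralizer (T : Set G) := Subgroup.mem_centralizer_iff.2 fun t _ =>
        (Subgroup.mem_centralizer_iff.1 (htop.ge (Subgroup.mem_top t)) h rfl).symm
      rw [hC, Subgroup.mem_bot] at this
      exact hh1 this
    have hfpf : MonoidHom.FixedPointFree (φ : T → T) := by
      intro t ht
      have h1 : h * (t : G) * h⁻¹ = t := congrArg Subtype.val ht
      refine Subtype.ext (hHT t t.2 ?_)
      rw [← hC, Subgroup.mem_centralizer_iff]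
      rintro y (rfl : y = h)
      exact mul_inv_eq_iff_eq_mul.1 h1
    have hpow : φ ^ Nat.card H = 1 := by
      rw [hφ, ← map_pow, show h ^ Nat.card H = 1 from congrArg Subtype.val (pow_card_eq_one' (x := (⟨h, hh⟩ : H))),
        map_one]
    haveI := CfsgLib.Base.isNilpotent_of_fixedPointFree φ hfpf hp hpow
    haveI : Group.IsSolvable T := inferInstance
    exact hTc ⟨⟨fun a b => (IsSimpleGroup.comm_iff_isSolvable.2 inferInstance) a b⟩⟩

end Cfsg.Agent.S3498
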