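import Cfsg.Statements.S3501
import Cfsg.Agent.Lib.Recog.DerangementClasses

set_option autoImplicit false
set_option maxHeartbeats 800000
open Cfsg

namespace Cfsg.Agent.S3501

/-- Let a finite group G act faithfully and primitively on a finite set Ω with at least two points, and suppose G is not almost simple (it has no non-abelian simple normal subgroup with trivial centralizer). Then the derangements of G form a single conjugacy class if and only if G is sharply 2-transitive (2-transitive, and no non-identity element fixes two points). -/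
theorem result {G : Type*} [Group G] [Finite G] {Ω : Type*} [Fintype Ω] [MulAction G Ω] [FaithfulSMul G Ω] (hΩ : 2 ≤ Fintype.card Ω) (hprim : MulAction.IsPreprimitive G Ω) (hnas : ¬ ∃ T : Subgroup G, T.Normal ∧ IsSimpleGroup T ∧ ¬ IsMulCommutative T ∧ Subgroup.centralizer (T : Set G) = ⊥) :
    Nat.card {c : ConjClasses G // ∃ g : G, ConjClasses.mk g = c ∧ ∀ ω : Ω, g • ω ≠ ω} = 1 ↔ (MulAction.IsMultiplyPretransitive G Ω 2 ∧ ∀ g : G, g ≠ 1 → ∀ a b : Ω, a ≠ b → g • a = a → g • b ≠ b) := by
  classical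
  haveI := hprim
  haveI : Nontrivial Ω := Fintype.one_lt_card_iff_nontrivial.1 (by omega)
  haveI := Fintype.ofFinite G
  obtain ⟨a⟩ : Nonempty Ω := inferInstance
  have hsum := CfsgLib.Recog.sum_fixed_eq_card (G := G) (Ω := Ω)
  have hone : Nat.card (MulAction.fixedBy Ω (1 : G)) = Nat.card Ω := by simp [MulAction.fixedBy]
  have hzero : ∀ g : G, Nat.card (MulAction.fixedBy Ω g) = 0 ↔ ∀ ω : Ω, g • ω ≠ ω := fun g =>
    ⟨fun h b hb => by
      haveI : Nonempty (MulAction.fixedBy Ω g) := ⟨⟨b, hb⟩⟩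
      exact (Nat.card_pos (α := MulAction.fixedBy Ω g)).ne' h,
      fun h => @Nat.card_of_isEmpty _ ⟨fun b => h b b.2⟩⟩
  have hsplit : ∀ (s : Finset G), 1 ∈ s → (∀ g ∈ s, g ≠ 1 → ∀ ω : Ω, g • ω ≠ ω) →
      Nat.card Ω + ∑ g ∈ sᶜ, Nat.card (MulAction.fixedBy Ω g) = Nat.card G := by
    intro s h1 hs
    rw [← hsum, ← Finset.sum_add_sum_compl s, Finset.sum_eq_single_of_mem 1 h1 fun g hg hg1 =>
      (hzero g).2 (hs g hg hg1), hone]
  constructor
  · intro hκ
    have hconj : ∀ x y : G, (∀ ω : Ω, x • ω ≠ ω) → (∀ ω : Ω, y • ω ≠ ω) → IsConj x y := by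
      intro x y hx hy
      haveI := (Nat.card_eq_one_iff_unique.1 hκ).1
      exact ConjClasses.mk_eq_mk_iff_isConj.1 (congrArg Subtype.val (Subsingleton.elim
        (⟨_, x, rfl, hx⟩ : {c : ConjClasses G // ∃ g : G, ConjClasses.mk g = c ∧ ∀ ω : Ω, g • ω ≠ ω})
        ⟨_, y, rfl, hy⟩))
    rcases CfsgLib.Recog.affine_or_socleFactor (G := G) (Ω := Ω) with
      ⟨N, r, -, hN, hN1, hc, -, ht, hreg⟩ | ⟨N, T, h⟩
    swap
    · obtain ⟨x, y, z, hx, hy, -, hxy, -, -⟩ := h.exists_three_derangements Ω fun hTN =>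
        hnas (h.almostSimple hTN.1 hTN.2)
      exact absurd (hconj x y hx hy) hxy
    haveI := hN
    haveI := ht
    have hNfix : ∀ x ∈ N, x ≠ 1 → ∀ b : Ω, x • b ≠ b := fun x hx hx1 b hb => hx1
      (congrArg Subtype.val ((Subgroup.eq_bot_iff_forall _).1 (hreg b) ⟨x, hx⟩ hb))
    obtain ⟨x, hxN, hx1⟩ := N.bot_or_exists_ne_one.resolve_left hN1
    have hin : ∀ g : G, (∀ ω : Ω, g • ω ≠ ω) → g ∈ N := fun g hg => by
      obtain ⟨c, rfl⟩ := isConj_iff.1 (hconj x g (hNfix x hxN hx1) hg)
      exact hN.conj_mem x hxN c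
    refine ⟨MulAction.is_two_pretransitive_iff.2 fun {p q u v} hpq huv => ?_, ?_⟩
    · have key : ∀ b c : Ω, b ≠ c → ∃ k : G, k • a = b ∧ k • (x • a) = c := by
        intro b c hbc
        obtain ⟨g, hg⟩ := MulAction.exists_smul_eq G a b
        obtain ⟨⟨n, hn⟩, hn'⟩ := MulAction.exists_smul_eq N a (g⁻¹ • c)
        change n • a = g⁻¹ • c at hn'
        have hn1 : n ≠ 1 := fun e => hbc (by
          rw [e, one_smul, eq_inv_smul_iff] at hn'; exact hg.symm.trans hn')
        obtain ⟨d, hd⟩ := isConj_iff.1 (hconj x n (hNfix x hxN hx1) (hNfix n hn hn1))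
        obtain ⟨⟨m, hm⟩, hm'⟩ := MulAction.exists_smul_eq N a (d • a)
        change m • a = d • a at hm'
        refine ⟨g * (m⁻¹ * d), by rw [mul_smul, mul_smul, ← hm', inv_smul_smul, hg], ?_⟩
        have e : (m⁻¹ * d) • x • a = n • a := by
          have hcm : m⁻¹ * n = n * m⁻¹ :=
            congrArg Subtype.val (hc.is_comm.comm (⟨m, hm⟩ : N)⁻¹ ⟨n, hn⟩)
          calc (m⁻¹ * d) • x • a = (m⁻¹ * (d * x * d⁻¹) * d) • a := by
                rw [← mul_smul]; congr 1; group
            _ = n • a := by rw [hd, hcm, mul_smul, mul_smul, ← hm', inv_smul_smul]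
        rw [mul_smul, e, hn', smul_inv_smul]
      obtain ⟨k, hk1, hk2⟩ := key p q hpq
      obtain ⟨l, hl1, hl2⟩ := key u v huv
      exact ⟨l * k⁻¹, by rw [mul_smul, ← hk1, inv_smul_smul, hl1], by rw [mul_smul, ← hk2, inv_smul_smul, hl2]⟩
    · intro g hg1 b c hbc hgb hgc
      -- elements outside `N` fix exactly one point
      have hgN : g ∉ N := fun hgN => hNfix g hgN hg1 b hgb
      have h1 := hsplit (Finset.univ.filter (· ∈ N)) (by simp [one_mem]) fun u hu hu1 =>
        hNfix u (Finset.mem_filter.1 hu).2 hu1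
      have hcard : Nat.card Ω + ∑ _u ∈ (Finset.univ.filter (· ∈ N) : Finset G)ᶜ, 1 = Nat.card G := by
        rw [Finset.sum_const, smul_eq_mul, mul_one, ← Nat.card_eq_of_bijective (fun n : N => (n : G) • a)
          ⟨fun u v huv => Subtype.ext (inv_mul_eq_one.1 (by
            by_contra hne
            refine hNfix _ (mul_mem (inv_mem u.2) v.2) hne a ?_
            change (u : G) • a = (v : G) • a at huv
            rw [mul_smul, ← huv, inv_smul_smul])), fun b => MulAction.exists_smul_eq N a b⟩,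
          Nat.card_eq_fintype_card, Fintype.card_subtype, Finset.card_add_card_compl,
          Nat.card_eq_fintype_card]
      have hlt : ∑ _u ∈ (Finset.univ.filter (· ∈ N) : Finset G)ᶜ, 1 <
          ∑ u ∈ (Finset.univ.filter (· ∈ N) : Finset G)ᶜ, Nat.card (MulAction.fixedBy Ω u) := by
        refine Finset.sum_lt_sum (fun u hu => ?_) ⟨g, by simpa using hgN, ?_⟩
        · refine Nat.one_le_iff_ne_zero.2 fun h0 => ?_
          simp at hu
          exact hu (hin u ((hzero u).1 h0))
        · haveI : Nontrivial (MulAction.fixedBy Ω g) :=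
            ⟨⟨⟨b, hgb⟩, ⟨c, hgc⟩, fun e => hbc (congrArg Subtype.val e)⟩⟩
          exact Finite.one_lt_card
      omega
  · rintro ⟨h2, hsharp⟩
    have hle : ∀ g : G, g ≠ 1 → Nat.card (MulAction.fixedBy Ω g) ≤ 1 := fun g hg => by
      refine Finite.card_le_one_iff_subsingleton.2 ⟨fun b c => Subtype.ext ?_⟩
      by_contra hne
      exact hsharp g hg b c hne b.2 c.2
    have hfree : ∀ (x : G), (∀ ω : Ω, x • ω ≠ ω) → ∀ k ∈ MulAction.stabilizer G a, k * x * k⁻¹ = x → k = 1 := by
      intro x hx k hk hkx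
      by_contra hk1
      refine hsharp k hk1 a (x • a) (Ne.symm (hx a)) hk ?_
      conv_rhs => rw [← hkx, mul_smul, mul_smul,
        show k⁻¹ • a = a by rw [inv_smul_eq_iff, MulAction.mem_stabilizer_iff.1 hk]]
    -- the number of derangements
    set D : Finset G := Finset.univ.filter fun g => ∀ ω : Ω, g • ω ≠ ω with hD
    have h1D : (1 : G) ∉ D := fun h => (Finset.mem_filter.1 h).2 a (one_smul G a)
    have hDcard : D.card + 1 = Nat.card Ω := by
      have h1 := hsplit (insert 1 D) (Finset.mem_insert_self _ _) fun g hg hg1 =>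
        (Finset.mem_filter.1 ((Finset.mem_insert.1 hg).resolve_left hg1)).2
      rw [Finset.sum_congr rfl fun g hg => le_antisymm (hle g fun e => by
          simp [e] at hg) (Nat.one_le_iff_ne_zero.2 fun h0 => by
            simp only [Finset.mem_compl, Finset.mem_insert, hD, Finset.mem_filter, Finset.mem_univ, true_and] at hg
            exact hg (Or.inr ((hzero g).1 h0))),
        Finset.sum_const, smul_eq_mul, mul_one, Finset.card_compl, Finset.card_insert_of_notMem h1D,
        ← Nat.card_eq_fintype_card] at h1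
      have : D.card + 1 ≤ Nat.card G := by
        rw [Nat.card_eq_fintype_card, ← Finset.card_insert_of_notMem h1D]
        exact Finset.card_le_univ _
      omega
    have hH : Nat.card Ω ≤ Nat.card (MulAction.stabilizer G a) + 1 := by
      obtain ⟨b, hb⟩ := exists_ne a
      choose f hf1 hf2 using fun c : {c : Ω // c ≠ a} =>
        MulAction.is_two_pretransitive_iff.1 h2 (Ne.symm hb) (Ne.symm c.2)
      have hinj : Function.Injective (fun c : {c : Ω // c ≠ a} => (⟨f c, hf1 c⟩ : MulAction.stabilizer G a)) := by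
        intro c c' h
        refine Subtype.ext ((hf2 c).symm.trans ?_)
        rw [show f c = f c' from congrArg Subtype.val h, hf2 c']
      have := Nat.card_le_card_of_injective _ hinj
      rw [Nat.card_eq_fintype_card (α := {c : Ω // c ≠ a}), Fintype.card_subtype_compl,
        Fintype.card_subtype_eq] at this
      rw [Nat.card_eq_fintype_card (α := Ω)]
      omega
    obtain ⟨x, hx⟩ : ∃ x : G, ∀ ω : Ω, x • ω ≠ ω := by
      obtain ⟨x, hx⟩ := Finset.card_pos.1 (show 0 < D.card by
        rw [Nat.card_eq_fintype_card] at hDcard; omega)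
      exact ⟨x, (Finset.mem_filter.1 hx).2⟩
    haveI : Nonempty {c : ConjClasses G // ∃ g : G, ConjClasses.mk g = c ∧ ∀ ω : Ω, g • ω ≠ ω} :=
      ⟨⟨_, x, rfl, hx⟩⟩
    refine Nat.card_eq_one_iff_unique.2 ⟨⟨fun c c' => Subtype.ext ?_⟩, inferInstance⟩
    suffices hall : ∀ g : G, (∀ ω : Ω, g • ω ≠ ω) → IsConj x g by
      obtain ⟨g, hg1, hg⟩ := c.2
      obtain ⟨g', hg1', hg'⟩ := c'.2
      rw [← hg1, ← hg1', ConjClasses.mk_eq_mk_iff_isConj]
      exact (hall g hg).symm.trans (hall g' hg')
    have himage : Finset.univ.image (fun k : MulAction.stabilizer G a => (k : G) * x * (k : G)⁻¹) = D := by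
      refine Finset.eq_of_subset_of_card_le (fun g hg => ?_) ?_
      · obtain ⟨k, -, rfl⟩ := Finset.mem_image.1 hg
        refine Finset.mem_filter.2 ⟨Finset.mem_univ _, fun ω hω => hx ((k : G)⁻¹ • ω) ?_⟩
        rw [mul_smul, mul_smul, ← eq_inv_smul_iff] at hω
        exact hω
      · rw [Finset.card_image_of_injective _ (fun k l hkl => Subtype.ext (inv_mul_eq_one.1
          (hfree x hx _ (mul_mem (inv_mem k.2) l.2) ?_))), Finset.card_univ, ← Nat.card_eq_fintype_card]
        · omega
        · change (k : G) * x * (k : G)⁻¹ = (l : G) * x * (l : G)⁻¹ at hkl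
          calc ((k : G)⁻¹ * l) * x * ((k : G)⁻¹ * l)⁻¹ = (k : G)⁻¹ * ((l : G) * x * (l : G)⁻¹) * k := by group
            _ = x := by rw [← hkl]; group
    intro g hg
    have hgD : g ∈ D := Finset.mem_filter.2 ⟨Finset.mem_univ g, hg⟩
    rw [← himage] at hgD
    obtain ⟨k, -, hk⟩ := Finset.mem_image.1 hgD
    exact isConj_iff.2 ⟨k, hk⟩

end Cfsg.Agent.S3501
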