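import Cfsg.Statements.S3504

set_option autoImplicit false
open Cfsg

namespace Cfsg.Agent.S3504

/-- For n ≥ 5, the fixed-point-free permutations of prime order in the symmetric group of degree n form a single conjugacy class if and only if n is a prime power. -/
theorem result (n : ℕ) (hn : 5 ≤ n) :
    Nat.card {c : ConjClasses (Equiv.Perm (Fin n)) // ∃ g : Equiv.Perm (Fin n), ConjClasses.mk g = c ∧ (orderOf g).Prime ∧ ∀ i : Fin n, g i ≠ i} = 1 ↔ IsPrimePow n := by
  classical
  have key : ∀ (g : Equiv.Perm (Fin n)), (orderOf g).Prime → (∀ i, g i ≠ i) →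
      orderOf g ∣ n ∧ g.cycleType = Multiset.replicate (n / orderOf g) (orderOf g) := by
    intro g hp hf
    obtain ⟨j, hj⟩ := Equiv.Perm.cycleType_prime_order hp
    have hs : g.support = Finset.univ := by ext i; simp [hf i]
    have h1 := g.sum_cycleType
    rw [hj, hs, Multiset.sum_replicate, smul_eq_mul, Finset.card_univ, Fintype.card_fin] at h1
    have hdiv : n / orderOf g = j + 1 := Nat.div_eq_of_eq_mul_left hp.pos h1.symm
    exact ⟨⟨j + 1, by rw [mul_comm, h1]⟩, by rw [hdiv]; exact hj⟩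
  have hex : ∀ p : n.primeFactors, ∃ g : Equiv.Perm (Fin n),
      orderOf g = p.1 ∧ ∀ i, g i ≠ i := by
    rintro ⟨p, hpn⟩
    obtain ⟨hp, hd, -⟩ := Nat.mem_primeFactors.1 hpn
    obtain ⟨g, hg⟩ := (Equiv.Perm.exists_with_cycleType_iff (Fin n)).2
      (show (Multiset.replicate (n / p) p).sum ≤ Fintype.card (Fin n) ∧
        ∀ a ∈ Multiset.replicate (n / p) p, 2 ≤ a from
        ⟨by rw [Multiset.sum_replicate, smul_eq_mul, Fintype.card_fin, Nat.div_mul_cancel hd],
          fun a ha => by rw [Multiset.eq_of_mem_replicate ha]; exact hp.two_le⟩)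
    refine ⟨g, ?_, fun i hi => ?_⟩
    · rw [← Equiv.Perm.lcm_cycleType, hg]
      have h0 : n / p ≠ 0 := (Nat.div_pos (Nat.le_of_dvd (by omega) hd) hp.pos).ne'
      obtain ⟨j, hj⟩ := Nat.exists_eq_succ_of_ne_zero h0
      rw [hj]
      refine Nat.dvd_antisymm (Multiset.lcm_dvd.2 fun a ha => (Multiset.eq_of_mem_replicate ha).dvd) ?_
      exact Multiset.dvd_lcm (Multiset.mem_replicate.2 ⟨Nat.succ_ne_zero _, rfl⟩)
    · have hs : g.support = Finset.univ := by
        refine Finset.eq_univ_of_card _ ?_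
        rw [← Equiv.Perm.sum_cycleType, hg, Multiset.sum_replicate, smul_eq_mul, Fintype.card_fin,
          Nat.div_mul_cancel hd]
      exact Equiv.Perm.mem_support.1 (hs ▸ Finset.mem_univ i) hi
  choose f hfo hff using hex
  let F : n.primeFactors → {c : ConjClasses (Equiv.Perm (Fin n)) // ∃ g : Equiv.Perm (Fin n),
      ConjClasses.mk g = c ∧ (orderOf g).Prime ∧ ∀ i : Fin n, g i ≠ i} :=
    fun p => ⟨ConjClasses.mk (f p), f p, rfl,
      by rw [hfo]; exact Nat.prime_of_mem_primeFactors p.2, hff p⟩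
  have hF : Function.Bijective F := by
    refine ⟨fun p q h => ?_, ?_⟩
    · have h1 := ConjClasses.mk_eq_mk_iff_isConj.1 (congrArg Subtype.val h)
      rw [Equiv.Perm.isConj_iff_cycleType_eq] at h1
      exact Subtype.ext (by rw [← hfo p, ← hfo q, ← Equiv.Perm.lcm_cycleType, h1, Equiv.Perm.lcm_cycleType])
    · rintro ⟨c, g, rfl, hp, hf⟩
      obtain ⟨hd, hct⟩ := key g hp hf
      refine ⟨⟨orderOf g, Nat.mem_primeFactors.2 ⟨hp, hd, by omega⟩⟩, Subtype.ext ?_⟩
      refine ConjClasses.mk_eq_mk_iff_isConj.2 (Equiv.Perm.isConj_iff_cycleType_eq.2 ?_)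
      rw [(key _ (by rw [hfo]; exact hp) (hff _)).2, hfo, hct]
  rw [← Nat.card_eq_of_bijective F hF, Nat.card_eq_fintype_card, Fintype.card_coe,
    isPrimePow_iff_card_primeFactors_eq_one]

end Cfsg.Agent.S3504
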