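import Cfsg.Statements.S3508
import Cfsg.Agent.Lib.Recog.AffineElementOrder

set_option autoImplicit false
open Cfsg

namespace Cfsg.Agent.S3508

/-- Let a finite group G act faithfully on a set Ω with p ^ m points (p prime) and have an elementary abelian normal p-subgroup N acting regularly on Ω (so G is a group of affine transformations of an m-dimensional space over the field with p elements). If G contains an element of order p ^ r with r ≥ 1, then p ^ (r − 1) ≤ m. In particular an element of order p ^ m forces m ≤ 2, and m ≤ 1 when p is odd. -/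
theorem result {G : Type*} [Group G] [Finite G] {Ω : Type*} [Fintype Ω] [MulAction G Ω] [FaithfulSMul G Ω] (p m : ℕ) (hp : p.Prime) (hcard : Fintype.card Ω = p ^ m)
    (N : Subgroup G) [N.Normal] (hNc : IsMulCommutative N) (hNp : ∀ n ∈ N, n ^ p = 1)
    (hNtr : MulAction.IsPretransitive N Ω) (hNreg : ∀ ω : Ω, MulAction.stabilizer N ω = ⊥)
    (g : G) (r : ℕ) (hr : 1 ≤ r) (hg : orderOf g = p ^ r) :
    p ^ (r - 1) ≤ m ∧ (r = m → m ≤ 2 ∧ (2 < p → m ≤ 1)) := by
  haveI := Fact.mk hp
  suffices hmain : p ^ (r - 1) ≤ m by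
    refine ⟨hmain, fun hrm => ?_⟩
    subst hrm
    have h2 : r ≤ 2 := by
      by_contra h
      have h1 : 2 ^ (r - 1) ≤ r := le_trans (Nat.pow_le_pow_left hp.two_le _) hmain
      obtain ⟨j, rfl⟩ : ∃ j, r = j + 3 := ⟨r - 3, by omega⟩
      have h3 : ∀ i : ℕ, i + 3 < 2 ^ (i + 2) := by
        intro i
        induction i with
        | zero => norm_num
        | succ i ih => rw [show i + 1 + 2 = (i + 2) + 1 from rfl, pow_succ]; omega
      exact absurd h1 (by have := h3 j; rw [show j + 3 - 1 = j + 2 from rfl]; omega)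
    refine ⟨h2, fun hp2 => ?_⟩
    by_contra h
    obtain rfl : r = 2 := by omega
    simp at hmain
    omega
  by_contra hlt
  push_neg at hlt
  have hne : Nonempty Ω := Fintype.card_pos_iff.1 (by rw [hcard]; exact pow_pos hp.pos m)
  obtain ⟨α⟩ := hne
  have hNcard : Nat.card N = p ^ m := by
    rw [← hcard, ← Nat.card_eq_fintype_card, ← MulAction.index_stabilizer_of_transitive N α, hNreg,
      Subgroup.index_bot]
  letI : CommGroup N := { (inferInstance : Group N) with mul_comm := hNc.is_comm.comm }
  obtain ⟨n, hn⟩ := MulAction.exists_smul_eq N α (g • α)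
  set h := (n : G)⁻¹ * g with hh
  have hhα : h • α = α := by
    rw [hh, ← smul_smul, inv_smul_eq_iff]
    exact hn.symm
  have hgh : g = (n : G) * h := by rw [hh, mul_inv_cancel_left]
  have hAg : (MulAut.conjNormal h : MulAut N) = MulAut.conjNormal g := by
    refine MulEquiv.ext fun v => Subtype.ext ?_
    rw [MulAut.conjNormal_apply, MulAut.conjNormal_apply]
    have hv : g * (v : G) * g⁻¹ ∈ N := Subgroup.Normal.conj_mem inferInstance _ v.2 g
    have hc : g * (v : G) * g⁻¹ * n = n * (g * (v : G) * g⁻¹) :=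
      congrArg (fun z : N => (z : G)) (hNc.is_comm.comm ⟨_, hv⟩ n)
    calc h * (v : G) * h⁻¹ = (n : G)⁻¹ * (g * (v : G) * g⁻¹ * n) := by rw [hh]; group
      _ = g * (v : G) * g⁻¹ := by rw [hc]; group
  obtain ⟨hnorm, hpow⟩ := CfsgLib.Recog.mulAut_norm_eq_one_of_lt (M := N)
    (fun x => Subtype.ext (hNp x x.2)) hNcard (φ := MulAut.conjNormal h) (r := r) (k := r - 1)
    (by rw [hAg, ← map_pow, ← hg, pow_orderOf_eq_one, map_one]) hlt
  have hk : ∀ j : ℕ, g ^ j =
      ((∏ i ∈ Finset.range j, ((MulAut.conjNormal h : MulAut N) ^ i) n : N) : G) * h ^ j := by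
    intro j
    induction j with
    | zero => simp
    | succ j ih =>
      rw [pow_succ, ih, Finset.prod_range_succ, Subgroup.coe_mul, ← map_pow, MulAut.conjNormal_apply,
        pow_succ]
      conv_lhs => rw [hgh]
      group
  have hq : h ^ p ^ (r - 1) = 1 := by
    refine FaithfulSMul.eq_of_smul_eq_smul fun x : Ω => ?_
    obtain ⟨v, rfl⟩ := MulAction.exists_smul_eq N α x
    rw [← map_pow] at hpow
    have h1 := congrArg (fun f : MulAut N => (f v : G)) hpow
    simp only [MulAut.conjNormal_apply, MulAut.one_apply] at h1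
    have hfixp : ∀ j : ℕ, h ^ j • α = α := fun j => by
      induction j with
      | zero => simp
      | succ j ih => rw [pow_succ, ← smul_smul, hhα, ih]
    change h ^ p ^ (r - 1) • (v : G) • α = (1 : G) • (v : G) • α
    rw [one_smul, smul_smul, mul_inv_eq_iff_eq_mul.1 h1, ← smul_smul, hfixp]
  have hone := hk (p ^ (r - 1))
  rw [hnorm, hq, Subgroup.coe_one, one_mul] at hone
  have hd := orderOf_dvd_of_pow_eq_one hone
  rw [hg, Nat.pow_dvd_pow_iff_le_right hp.one_lt] at hd
  omega

end Cfsg.Agent.S3508
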