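import Cfsg.Statements.S3511

set_option autoImplicit false
open Cfsg

namespace Cfsg.Agent.S3511

/-- Let a finite group G act faithfully on a set Ω. If every element of G of square-free order has a regular cycle (an orbit of the cyclic group it generates with trivial stabilizer), then every element of G has a regular cycle. -/
theorem result {G : Type*} [Group G] [Finite G] {Ω : Type*} [MulAction G Ω] [FaithfulSMul G Ω]
    (h : ∀ g : G, Squarefree (orderOf g) → ∃ ω : Ω, MulAction.stabilizer (Subgroup.zpowers g) ω = ⊥) (g : G) :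
    ∃ ω : Ω, MulAction.stabilizer (Subgroup.zpowers g) ω = ⊥ := by
  set n := orderOf g with hn
  have hn0 : n ≠ 0 := (orderOf_pos g).ne'
  set r := ∏ p ∈ n.primeFactors, p with hr
  have hrd : r ∣ n := Nat.prod_primeFactors_dvd n
  have hr0 : r ≠ 0 := ne_zero_of_dvd_ne_zero hn0 hrd
  have hg' : orderOf (g ^ (n / r)) = r := by
    rw [orderOf_pow' g (Nat.div_ne_zero_iff_of_dvd hrd |>.2 ⟨hn0, hr0⟩), ← hn,
      Nat.gcd_eq_right (Nat.div_dvd_of_dvd hrd), Nat.div_div_self hrd hn0]
  obtain ⟨ω, hω⟩ := h (g ^ (n / r)) (by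
    rw [hg', hr]
    refine Finset.squarefree_prod_of_pairwise_isCoprime (fun a ha b hb hab => ?_)
      (fun a ha => (Nat.prime_of_mem_primeFactors ha).squarefree)
    exact Nat.coprime_iff_isRelPrime.1 ((Nat.coprime_primes (Nat.prime_of_mem_primeFactors ha)
      (Nat.prime_of_mem_primeFactors hb)).2 hab))
  refine ⟨ω, ?_⟩
  by_contra hne
  haveI : Nontrivial (MulAction.stabilizer (Subgroup.zpowers g) ω) :=
    (Subgroup.nontrivial_iff_ne_bot _).2 hne
  obtain ⟨q, hq, hqd⟩ := Nat.exists_prime_and_dvd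
    (n := Nat.card (MulAction.stabilizer (Subgroup.zpowers g) ω)) Finite.one_lt_card.ne'
  haveI := Fact.mk hq
  obtain ⟨x, hx⟩ := exists_prime_orderOf_dvd_card' q hqd
  obtain ⟨k, hk⟩ := (mem_powers_iff_mem_zpowers (x := g)).2 x.1.2
  simp only at hk
  have hxo : orderOf (x.1.1) = q := by rw [Subgroup.orderOf_coe, Subgroup.orderOf_coe, hx]
  have hqn : q ∣ n := by
    rw [hn, ← hxo, ← hk]
    exact orderOf_pow_dvd k
  have hkd : n / r ∣ k := by
    have h1 : g ^ (k * q) = 1 := by rw [pow_mul, hk, ← hxo, pow_orderOf_eq_one]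
    rw [← orderOf_dvd_iff_pow_eq_one, ← hn] at h1
    obtain ⟨s, hs⟩ : q ∣ r := Finset.dvd_prod_of_mem _
      (Nat.mem_primeFactors.2 ⟨hq, hqn, hn0⟩)
    have h2 : n / r * s * q ∣ k * q := by
      rw [mul_assoc, mul_comm s q, ← hs, Nat.div_mul_cancel hrd]
      exact h1
    exact (Dvd.intro s rfl).trans (Nat.dvd_of_mul_dvd_mul_right hq.pos h2)
  obtain ⟨s, hs⟩ := hkd
  have hmem : x.1.1 ∈ Subgroup.zpowers (g ^ (n / r)) := by
    rw [← hk, hs, pow_mul]
    exact Subgroup.npow_mem_zpowers _ _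
  have hst : (⟨x.1.1, hmem⟩ : Subgroup.zpowers (g ^ (n / r))) ∈
      MulAction.stabilizer (Subgroup.zpowers (g ^ (n / r))) ω := x.2
  rw [hω, Subgroup.mem_bot] at hst
  have h1 : x.1.1 = 1 := congrArg Subtype.val hst
  rw [h1, orderOf_one] at hxo
  exact hq.ne_one hxo.symm

end Cfsg.Agent.S3511
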