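import Cfsg.Statements.S3514
import Cfsg.Agent.Lib.Recog.OrbitDivides

set_option autoImplicit false
open Cfsg

namespace Cfsg.Agent.S3514

/-- Let p be a prime, V a finite vector space over the field with p elements, and H a group of linear transformations of V all of whose orbits on V have size coprime to p. (i) Every normal subgroup K of H has all its orbits on V of size coprime to p. (ii) If N is a group of linear transformations of V of order coprime to p that is normalized by H, then the group generated by N and H has all its orbits on V of size coprime to p. -/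
theorem result (p : ℕ) [Fact p.Prime] {V : Type*} [AddCommGroup V] [Module (ZMod p) V] [Finite V]
    (H : Subgroup (V ≃ₗ[ZMod p] V)) (hH : ∀ v : V, ¬ p ∣ Nat.card {u : V | ∃ h ∈ H, h v = u}) :
    (∀ K : Subgroup (V ≃ₗ[ZMod p] V), K ≤ H → H ≤ Subgroup.normalizer (K : Set (V ≃ₗ[ZMod p] V)) →
        ∀ v : V, ¬ p ∣ Nat.card {u : V | ∃ k ∈ K, k v = u}) ∧
    (∀ N : Subgroup (V ≃ₗ[ZMod p] V), ¬ p ∣ Nat.card N → H ≤ Subgroup.normalizer (N : Set (V ≃ₗ[ZMod p] V)) →
        ∀ v : V, ¬ p ∣ Nat.card {u : V | ∃ x ∈ N ⊔ H, x v = u}) := by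
  haveI : Finite (V ≃ₗ[ZMod p] V) := Finite.of_injective (fun f => (f : V → V)) DFunLike.coe_injective
  have horb : ∀ (K : Subgroup (V ≃ₗ[ZMod p] V)) (v : V), {u : V | ∃ k ∈ K, k v = u} = MulAction.orbit K v := by
    intro K v
    ext u
    exact ⟨fun ⟨k, hk, h⟩ => ⟨⟨k, hk⟩, h⟩, fun ⟨k, h⟩ => ⟨k, k.2, h⟩⟩
  refine ⟨fun K hKH hn v => ?_, fun N hN hn v => ?_⟩
  · rw [horb]
    refine fun hd => hH v ?_
    rw [horb]
    exact hd.trans (CfsgLib.Recog.card_orbit_dvd_of_le_normalizer hKH hn v)
  · have h0 := hH v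
    rw [horb, CfsgLib.Recog.card_orbit_subgroup] at h0 ⊢
    set S := MulAction.stabilizer (V ≃ₗ[ZMod p] V) v
    set M := N ⊔ H with hM
    have hNM : Nat.card M ∣ Nat.card N * Nat.card H := by
      haveI : (N.subgroupOf M).Normal := (Subgroup.normal_subgroupOf_iff_le_normalizer le_sup_left).2
        (sup_le Subgroup.le_normalizer hn)
      rw [← (N.subgroupOf M).card_mul_index,
        Nat.card_congr (Subgroup.subgroupOfEquivOfLe (le_sup_left : N ≤ M)).toEquiv]
      refine Nat.mul_dvd_mul_left _ ?_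
      rw [← Nat.card_congr (Subgroup.subgroupOfEquivOfLe (le_sup_right : H ≤ M)).toEquiv,
        ← Subgroup.relIndex_top_right,
        show (⊤ : Subgroup M) = H.subgroupOf M ⊔ N.subgroupOf M by
          rw [← Subgroup.subgroupOf_sup le_sup_right le_sup_left, Subgroup.subgroupOf_eq_top.2 (by rw [sup_comm])],
        Subgroup.relIndex_sup_right]
      exact Subgroup.relIndex_dvd_card _ _
    intro hd
    have h1 : p ∣ (S ⊓ H).relIndex M :=
      hd.trans (Subgroup.relIndex_dvd_of_le_left _ inf_le_left)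
    have hle : S ⊓ H ≤ M := inf_le_right.trans le_sup_right
    have h2 := ((S ⊓ H).subgroupOf M).card_mul_index
    have h3 := ((S ⊓ H).subgroupOf H).card_mul_index
    rw [Nat.card_congr (Subgroup.subgroupOfEquivOfLe hle).toEquiv] at h2
    rw [Nat.card_congr (Subgroup.subgroupOfEquivOfLe (inf_le_right : S ⊓ H ≤ H)).toEquiv,
      ← Subgroup.relIndex, Subgroup.inf_relIndex_right] at h3
    rw [← h2, ← h3, mul_left_comm] at hNM
    rcases (Nat.Prime.dvd_mul Fact.out).1
      (h1.trans (Nat.dvd_of_mul_dvd_mul_left Nat.card_pos hNM)) with h4 | h4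
    · exact hN h4
    · exact h0 h4

end Cfsg.Agent.S3514
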