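import Cfsg.Statements.S3515
import Cfsg.Agent.Lib.Recog.AffineClosure

set_option autoImplicit false
open Cfsg

namespace Cfsg.Agent.S3515

/-- Every primitive affine permutation group of degree p² is 3-closed. Let p be a prime and G a group of permutations of the plane V = F_p² consisting of affine maps x ↦ Ax + b, containing all translations, and acting primitively on V. Then any permutation σ of V that agrees on every triple of points with some element of G (σ preserves every G-orbit on ordered triples) already lies in G. -/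
theorem result (p : ℕ) [Fact p.Prime] (G : Subgroup (Equiv.Perm (Fin 2 → ZMod p)))
    (haff : (G : Set (Equiv.Perm (Fin 2 → ZMod p))) ⊆ {τ : Equiv.Perm (Fin 2 → ZMod p) | ∃ (A : (Fin 2 → ZMod p) ≃ₗ[ZMod p] (Fin 2 → ZMod p)) (b : Fin 2 → ZMod p), ∀ x, τ x = A x + b})
    (htrans : ∀ b : Fin 2 → ZMod p, ∃ g ∈ G, ∀ x, g x = x + b) (hprim : MulAction.IsPreprimitive G (Fin 2 → ZMod p))
    (σ : Equiv.Perm (Fin 2 → ZMod p)) (hσ : (∀ t : Fin 3 → (Fin 2 → ZMod p), ∃ g ∈ G, ∀ i, σ (t i) = g (t i))) : σ ∈ G := by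
  have hσa : CfsgLib.Recog.IsAffineMap σ := by
    by_cases hp : p = 2
    · subst hp; exact CfsgLib.Recog.isAffineMap_two_two σ
    · exact CfsgLib.Recog.isAffineMap_of_triples hp fun t => by
        obtain ⟨g, hg, h⟩ := hσ t
        exact ⟨g, haff hg, h⟩
  obtain ⟨A, b, hA⟩ := hσa
  obtain ⟨g, hg, h⟩ := hσ ![0, Pi.single 0 1, Pi.single 1 1]
  obtain ⟨B, c, hB⟩ := haff hg
  have h0 := h 0
  have h1 := h 1
  have h2 := h 2
  simp only [Matrix.cons_val_zero, Matrix.cons_val_one, Matrix.cons_val_two, Matrix.tail_cons,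
    Matrix.head_cons, hA, hB, map_zero, zero_add] at h0 h1 h2
  subst h0
  have hAB : A = B := by
    refine LinearEquiv.toLinearMap_injective ((Pi.basisFun (ZMod p) (Fin 2)).ext fun i => ?_)
    fin_cases i
    · simpa using h1
    · simpa using h2
  have hσg : σ = g := Equiv.ext fun x => by rw [hA, hB, hAB]
  rwa [hσg]

end Cfsg.Agent.S3515
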