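import Cfsg.Statements.S3517
import Cfsg.Agent.Lib.Recog.LinExtend

set_option autoImplicit false
open Cfsg

namespace Cfsg.Agent.S3517

/-- For d ≥ 3, the 3-closure of the affine group AGL_d(2) acting on F_2^d is the full symmetric group: every permutation of F_2^d agrees on every ordered triple of points with some affine map (AGL_d(2) is 3-transitive). -/
theorem result (d : ℕ) (hd : 3 ≤ d) (σ : Equiv.Perm (Fin d → ZMod 2)) (t : Fin 3 → (Fin d → ZMod 2)) :
    ∃ (A : (Fin d → ZMod 2) ≃ₗ[ZMod 2] (Fin d → ZMod 2)) (b : Fin d → ZMod 2), ∀ i, σ (t i) = A (t i) + b := by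
  classical
  -- a triple of distinct points covering the values
  obtain ⟨u, hu, hcov⟩ : ∃ u : Fin 3 → (Fin d → ZMod 2), Function.Injective u ∧
      ∀ i, ∃ j, u j = t i := by
    obtain ⟨s, hs1, -, hs2⟩ := Finset.exists_subsuperset_card_eq
      (s := Finset.univ.image t) (t := Finset.univ) (n := 3) (Finset.subset_univ _)
      (Finset.card_image_le.trans (by simp))
      (by
        rw [Finset.card_univ, Fintype.card_fun, ZMod.card, Fintype.card_fin]
        calc 3 ≤ 2 ^ 3 := by norm_num
          _ ≤ 2 ^ d := Nat.pow_le_pow_right (by norm_num) hd)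
    let e := s.equivFinOfCardEq hs2
    refine ⟨fun j => (e.symm j).1, fun a b h => e.symm.injective (Subtype.ext h), fun i => ?_⟩
    exact ⟨e ⟨t i, hs1 (Finset.mem_image_of_mem _ (Finset.mem_univ i))⟩, by simp⟩
  -- differences are independent
  have hli : ∀ w : Fin 3 → (Fin d → ZMod 2), Function.Injective w →
      LinearIndependent (ZMod 2) ![w 1 - w 0, w 2 - w 0] := by
    intro w hw
    have h1 : w 1 - w 0 ≠ 0 := sub_ne_zero.2 (hw.ne (by decide))
    have h2 : w 2 - w 0 ≠ 0 := sub_ne_zero.2 (hw.ne (by decide))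
    have h3 : w 2 - w 0 ≠ w 1 - w 0 := fun h => hw.ne (show (2 : Fin 3) ≠ 1 by decide)
      (sub_left_inj.1 h)
    rw [linearIndependent_fin2]
    refine ⟨by simpa using h2, fun a => ?_⟩
    have ha : a = 0 ∨ a = 1 := by revert a; decide
    rcases ha with rfl | rfl
    · simpa using h1.symm
    · simpa using h3
  obtain ⟨A, hA⟩ := CfsgLib.Recog.exists_linearEquiv_map_eq (hli u hu)
    (hli (σ ∘ u) (σ.injective.comp hu))
  refine ⟨A, σ (u 0) - A (u 0), fun i => ?_⟩
  obtain ⟨j, hj⟩ := hcov i
  rw [← hj]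
  have h1 := hA 0
  have h2 := hA 1
  simp [map_sub] at h1 h2
  fin_cases j
  · simp
  · linear_combination (norm := (simp; abel)) -h1
  · linear_combination (norm := (simp; abel)) -h2

end Cfsg.Agent.S3517
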