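import Cfsg.Statements.S3518
import Cfsg.Agent.Lib.Recog.Directions

set_option autoImplicit false
open Cfsg

namespace Cfsg.Agent.S3518

/-- Closures of subgroups of the one-dimensional affine group. Let p be a prime and G a group of permutations of F_p lying in the affine group AGL₁(p) = {x ↦ ax + b, a ≠ 0} and containing all translations. (1) If G is a proper subgroup of AGL₁(p), then G is 2-closed: a permutation of F_p agreeing on every ordered pair of points with some element of G lies in G. (2) Every permutation of F_p agrees on every ordered pair with some element of AGL₁(p) (the 2-closure of AGL₁(p) is the symmetric group). (3) AGL₁(p) is 3-closed: a permutation agreeing on every ordered triple with some affine map is affine. -/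
theorem result (p : ℕ) [Fact p.Prime] (G : Subgroup (Equiv.Perm (ZMod p))) (hG : G ≤ Cfsg.affineGroup (ZMod p))
    (htrans : ∀ b : ZMod p, ∃ g ∈ G, ∀ x, g x = x + b) :
    (G ≠ Cfsg.affineGroup (ZMod p) → ∀ σ : Equiv.Perm (ZMod p), (∀ t : Fin 2 → ZMod p, ∃ g ∈ G, ∀ i, σ (t i) = g (t i)) → σ ∈ G) ∧
    (∀ σ : Equiv.Perm (ZMod p), (∀ t : Fin 2 → ZMod p, ∃ g ∈ Cfsg.affineGroup (ZMod p), ∀ i, σ (t i) = g (t i))) ∧
    (∀ σ : Equiv.Perm (ZMod p), (∀ t : Fin 3 → ZMod p, ∃ g ∈ Cfsg.affineGroup (ZMod p), ∀ i, σ (t i) = g (t i)) → σ ∈ Cfsg.affineGroup (ZMod p)) := by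
  refine ⟨fun hne σ hσ => ?_, fun σ t => ?_, fun σ hσ => ?_⟩
  · classical
    let S : Subgroup (ZMod p)ˣ :=
      { carrier := {a | ∃ g ∈ G, ∃ b : ZMod p, ∀ x, g x = (a : ZMod p) * x + b}
        one_mem' := ⟨1, G.one_mem, 0, fun x => by simp⟩
        mul_mem' := by
          rintro a c ⟨g, hg, b, hgb⟩ ⟨h, hh, d, hhd⟩
          refine ⟨g * h, G.mul_mem hg hh, (a : ZMod p) * d + b, fun x => ?_⟩
          rw [Equiv.Perm.mul_apply, hhd, hgb, Units.val_mul]
          ring
        inv_mem' := by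
          rintro a ⟨g, hg, b, hgb⟩
          refine ⟨g⁻¹, G.inv_mem hg, -((a⁻¹ : (ZMod p)ˣ) : ZMod p) * b, fun x => ?_⟩
          apply g.injective
          rw [Equiv.Perm.inv_def, Equiv.apply_symm_apply, hgb]
          rw [mul_add, ← mul_assoc, Units.mul_inv, ← mul_assoc, mul_neg, Units.mul_inv]
          ring }
    -- `G` consists of all affine maps with linear part in `S`
    have hall : ∀ (a : (ZMod p)ˣ) (b : ZMod p), a ∈ S → ∀ τ : Equiv.Perm (ZMod p),
        (∀ x, τ x = (a : ZMod p) * x + b) → τ ∈ G := by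
      rintro a b ⟨g, hg, c, hgc⟩ τ hτ
      obtain ⟨t, ht, htb⟩ := htrans (b - c)
      have : τ = t * g := Equiv.ext fun x => by
        rw [Equiv.Perm.mul_apply, htb, hgc, hτ]; ring
      rw [this]
      exact G.mul_mem ht hg
    have hS : S ≠ ⊤ := fun hS => hne (le_antisymm hG (by
      rintro τ ⟨a, b, hτ⟩
      exact hall a b (hS ▸ Subgroup.mem_top a) τ hτ))
    let S' : Finset (ZMod p) := (Finset.univ.filter fun a : (ZMod p)ˣ => a ∈ S).image Units.val
    have hcard : 2 * S'.card ≤ p - 1 := by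
      have h1 : S'.card ≤ Nat.card S := by
        refine Finset.card_image_le.trans ?_
        rw [Nat.card_eq_fintype_card, Fintype.card_subtype]
      have h2 : S.index ≠ 1 := fun h => hS (Subgroup.index_eq_one.1 h)
      have h3 := S.card_mul_index
      rw [Nat.card_units, Nat.card_zmod] at h3
      have h4 : 2 ≤ S.index := by
        have : S.index ≠ 0 := Subgroup.index_ne_zero_of_finite
        omega
      have h5 : Nat.card S * 2 ≤ Nat.card S * S.index := Nat.mul_le_mul_left _ h4
      omega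
    have hslope : ∀ x y, x ≠ y → ∃ a ∈ S', σ x - σ y = a * (x - y) := by
      intro x y _
      obtain ⟨g, hg, hgt⟩ := hσ ![x, y]
      obtain ⟨a, b, hab⟩ := hG hg
      refine ⟨a, Finset.mem_image.2 ⟨a, Finset.mem_filter.2 ⟨Finset.mem_univ _, g, hg, b, hab⟩, rfl⟩, ?_⟩
      have h0 := hgt 0
      have h1 := hgt 1
      simp only [Matrix.cons_val_zero, Matrix.cons_val_one] at h0 h1
      rw [h0, h1, hab, hab]
      ring
    obtain ⟨a, b, hσab⟩ := CfsgLib.Recog.affine_of_few_slopes σ S' hcard hslope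
    obtain ⟨a', ha', hdiff⟩ := hslope 1 0 one_ne_zero
    obtain ⟨u, hu, rfl⟩ := Finset.mem_image.1 ha'
    refine hall u b (Finset.mem_filter.1 hu).2 σ fun x => ?_
    have haa : a = (u : ZMod p) := by
      rw [hσab, hσab] at hdiff
      linear_combination hdiff
    rw [hσab, haa]
  · by_cases h : t 0 = t 1
    · refine ⟨Equiv.addRight (σ (t 0) - t 0), ⟨1, σ (t 0) - t 0, fun x => by simp⟩, fun i => ?_⟩
      fin_cases i <;> simp [← h]
    · have hne : (σ (t 0) - σ (t 1)) / (t 0 - t 1) ≠ 0 :=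
        div_ne_zero (sub_ne_zero.2 (σ.injective.ne h)) (sub_ne_zero.2 h)
      set a : (ZMod p)ˣ := Units.mk0 _ hne with ha
      refine ⟨(Equiv.mulLeft₀ _ hne).trans (Equiv.addRight (σ (t 0) - (a : ZMod p) * t 0)),
        ⟨a, _, fun x => rfl⟩, fun i => ?_⟩
      fin_cases i
      · simp [ha]
      · have hd : t 0 - t 1 ≠ 0 := sub_ne_zero.2 h
        simp [ha]
        field_simp
        ring
  · obtain ⟨g, ⟨a, b, hab⟩, hgt⟩ := hσ ![0, 1, 0]
    refine ⟨a, b, fun x => ?_⟩
    obtain ⟨g', ⟨a', b', hab'⟩, hgt'⟩ := hσ ![0, 1, x]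
    have e0 := (hgt 0).symm.trans (hgt' 0)
    have e1 := (hgt 1).symm.trans (hgt' 1)
    have e2 := hgt' 2
    simp [hab, hab'] at e0 e1 e2
    subst e0
    rw [e2, add_right_cancel e1]

end Cfsg.Agent.S3518
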