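import Cfsg.Statements.S3520
import Cfsg.Agent.Lib.Recog.DerangementClasses

set_option autoImplicit false
set_option maxHeartbeats 800000
open Cfsg

namespace Cfsg.Agent.S3520

/-- Let a finite group G act faithfully and primitively on a finite set Ω with at least two points, suppose G is not almost simple (no non-abelian simple normal subgroup with trivial centralizer), and suppose the derangements of G form exactly two conjugacy classes. Then either Ω has 3 points and G has order 3; or G has a non-trivial abelian normal subgroup N acting regularly, every non-identity element of G fixes at most one point (so, when n > 3, G is a Frobenius group with kernel N), the number n of points is odd and a point stabilizer has order (n − 1)/2; or G is 2-transitive with a non-trivial abelian regular normal subgroup and some non-identity element fixes at least two points (a non-Frobenius 2-transitive affine group). -/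
theorem result {G : Type*} [Group G] [Finite G] {Ω : Type*} [Fintype Ω] [MulAction G Ω] [FaithfulSMul G Ω] (hΩ : 2 ≤ Fintype.card Ω) (hprim : MulAction.IsPreprimitive G Ω) (hnas : ¬ ∃ T : Subgroup G, T.Normal ∧ IsSimpleGroup T ∧ ¬ IsMulCommutative T ∧ Subgroup.centralizer (T : Set G) = ⊥)
    (hκ : Nat.card {c : ConjClasses G // ∃ g : G, ConjClasses.mk g = c ∧ ∀ ω : Ω, g • ω ≠ ω} = 2) (α : Ω) :
    (Fintype.card Ω = 3 ∧ Nat.card G = 3) ∨
    ((∃ N : Subgroup G, N.Normal ∧ N ≠ ⊥ ∧ IsMulCommutative N ∧ ∀ ω : Ω, MulAction.stabilizer N ω = ⊥) ∧ (∀ g : G, g ≠ 1 → Nat.card (MulAction.fixedBy Ω g) ≤ 1) ∧ ¬ 2 ∣ Fintype.card Ω ∧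
        2 * Nat.card (MulAction.stabilizer G α) = Fintype.card Ω - 1) ∨
    ((∃ N : Subgroup G, N.Normal ∧ N ≠ ⊥ ∧ IsMulCommutative N ∧ ∀ ω : Ω, MulAction.stabilizer N ω = ⊥) ∧ MulAction.IsMultiplyPretransitive G Ω 2 ∧ ∃ g : G, g ≠ 1 ∧ 2 ≤ Nat.card (MulAction.fixedBy Ω g)) := by
  classical
  haveI := hprim
  haveI : Nontrivial Ω := Fintype.one_lt_card_iff_nontrivial.1 (by omega)
  haveI := Fintype.ofFinite G
  -- three pairwise non-conjugate derangements are impossible
  have hthree : ∀ x y z : G, (∀ ω : Ω, x • ω ≠ ω) → (∀ ω : Ω, y • ω ≠ ω) → (∀ ω : Ω, z • ω ≠ ω) →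
      ¬ IsConj x y → ¬ IsConj x z → ¬ IsConj y z → False := by
    intro x y z hx hy hz hxy hxz hyz
    let F : Fin 3 → {c : ConjClasses G // ∃ g : G, ConjClasses.mk g = c ∧ ∀ ω : Ω, g • ω ≠ ω} :=
      ![⟨_, x, rfl, hx⟩, ⟨_, y, rfl, hy⟩, ⟨_, z, rfl, hz⟩]
    have hF : Function.Injective F := by
      intro i j hij
      fin_cases i <;> fin_cases j <;>
        simp [F, Subtype.ext_iff, ConjClasses.mk_eq_mk_iff_isConj] at hij ⊢ <;>
        first
          | exact hxy (isConj_iff.2 hij) | exact hxz (isConj_iff.2 hij) | exact hyz (isConj_iff.2 hij)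
          | exact hxy (isConj_iff.2 hij).symm | exact hxz (isConj_iff.2 hij).symm
          | exact hyz (isConj_iff.2 hij).symm
    have := Nat.card_le_card_of_injective F hF
    rw [hκ, Nat.card_fin] at this
    omega
  rcases CfsgLib.Recog.affine_or_socleFactor (G := G) (Ω := Ω) with
    ⟨N, r, -, hN, hN1, hc, -, ht, hreg⟩ | ⟨N, T, h⟩
  swap
  · exfalso
    obtain ⟨x, y, z, hx, hy, hz, h1, h2, h3⟩ := h.exists_three_derangements Ω fun hTN =>
      hnas (h.almostSimple hTN.1 hTN.2)
    exact hthree x y z hx hy hz h1 h2 h3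
  -- the affine case
  right
  haveI := hN
  haveI := ht
  haveI := hc
  have haff : ∃ N : Subgroup G, N.Normal ∧ N ≠ ⊥ ∧ IsMulCommutative N ∧
      ∀ ω : Ω, MulAction.stabilizer N ω = ⊥ := ⟨N, hN, hN1, hc, hreg⟩
  have hNfix : ∀ x ∈ N, ∀ b : Ω, x • b = b → x = 1 := fun x hx b hb =>
    congrArg Subtype.val ((Subgroup.eq_bot_iff_forall _).1 (hreg b) ⟨x, hx⟩ hb)
  have hNconj : ∀ x ∈ N, ∀ y : G, IsConj x y → ∃ k ∈ MulAction.stabilizer G α, k * x * k⁻¹ = y := by
    intro x hx y hxy
    obtain ⟨c, rfl⟩ := isConj_iff.1 hxy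
    obtain ⟨n, hn⟩ := MulAction.exists_smul_eq N α (c • α)
    refine ⟨(n : G)⁻¹ * c, ?_, ?_⟩
    · rw [MulAction.mem_stabilizer_iff, mul_smul, ← hn, Subgroup.smul_def, inv_smul_smul]
    · have hm : c * x * c⁻¹ ∈ N := hN.conj_mem x hx c
      have h1 : (n : G) * (c * x * c⁻¹) = c * x * c⁻¹ * n :=
        congrArg Subtype.val (hc.is_comm.comm n ⟨_, hm⟩)
      calc (n : G)⁻¹ * c * x * ((n : G)⁻¹ * c)⁻¹ = (n : G)⁻¹ * ((c * x * c⁻¹) * n) := by group
        _ = _ := by rw [← h1]; group
  have hcardN : Nat.card N = Nat.card Ω := by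
    refine Nat.card_eq_of_bijective (fun n : N => (n : G) • α) ⟨fun x y hxy => ?_, fun b => ?_⟩
    · refine Subtype.ext (inv_mul_eq_one.1 (hNfix _ (mul_mem (inv_mem x.2) y.2) α ?_))
      change (x : G) • α = (y : G) • α at hxy
      rw [mul_smul, ← hxy, inv_smul_smul]
    · exact MulAction.exists_smul_eq N α b
  -- counting fixed points
  have hsum := CfsgLib.Recog.sum_fixed_eq_card (G := G) (Ω := Ω)
  have hNsum : ∀ f : G → ℕ, (∀ x ∈ N, x ≠ 1 → f x = 0) →
      ∑ g ∈ Finset.univ.filter (· ∈ N), f g = f 1 := fun f hf => by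
    rw [Finset.sum_eq_single_of_mem 1 (by simp [one_mem])]
    intro x hx hx1
    exact hf x (Finset.mem_filter.1 hx).2 hx1
  have hone : Nat.card (MulAction.fixedBy Ω (1 : G)) = Nat.card Ω := by
    simp [MulAction.fixedBy]
  have hzero : ∀ g : G, (∀ ω : Ω, g • ω ≠ ω) → Nat.card (MulAction.fixedBy Ω g) = 0 := fun g hg => by
    haveI : IsEmpty (MulAction.fixedBy Ω g) := ⟨fun b => hg b b.2⟩
    exact Nat.card_of_isEmpty
  have hsplit : Nat.card Ω + ∑ g ∈ Finset.univ.filter (· ∉ N), Nat.card (MulAction.fixedBy Ω g) =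
      Nat.card G := by
    rw [← hsum, ← Finset.sum_filter_add_sum_filter_not Finset.univ (· ∈ N), hNsum _ fun x hx hx1 =>
      hzero x fun b hb => hx1 (hNfix x hx b hb), hone]
  have hcount : Nat.card Ω + (Finset.univ.filter fun g : G => g ∉ N).card = Nat.card G := by
    rw [← hcardN, Nat.card_eq_fintype_card, Nat.card_eq_fintype_card (α := G), ← Finset.card_univ (α := G),
      ← Finset.card_filter_add_card_filter_not (s := (Finset.univ : Finset G)) (· ∈ N),
      Fintype.card_subtype]
  obtain ⟨x, hxN, hx1⟩ := N.bot_or_exists_ne_one.resolve_left hN1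
  have hxd : ∀ ω : Ω, x • ω ≠ ω := fun b hb => hx1 (hNfix x hxN b hb)
  by_cases hone_class : ∀ y ∈ N, y ≠ 1 → IsConj x y
  · -- one class in `N`: the group is doubly transitive
    right
    refine ⟨haff, MulAction.is_two_pretransitive_iff.2 fun {a b c d} hab hcd => ?_, ?_⟩
    · have key : ∀ a b : Ω, a ≠ b → ∃ k : G, k • α = a ∧ k • (x • α) = b := by
        intro a b hab
        obtain ⟨u, hu⟩ := MulAction.exists_smul_eq G α a
        obtain ⟨⟨n, hn⟩, hn'⟩ := MulAction.exists_smul_eq N α (u⁻¹ • b)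
        change n • α = u⁻¹ • b at hn'
        have hn1 : n ≠ 1 := fun e => hab (by
          rw [e, one_smul, eq_inv_smul_iff] at hn'; exact hu.symm.trans hn')
        obtain ⟨k, hk, hkn⟩ := hNconj x hxN n (hone_class n hn hn1)
        refine ⟨u * k, by rw [mul_smul, MulAction.mem_stabilizer_iff.1 hk, hu], ?_⟩
        have e : k • x • α = n • α := by
          rw [← hkn, mul_smul, mul_smul]
          congr 2
          rw [eq_inv_smul_iff, MulAction.mem_stabilizer_iff.1 hk]
        rw [mul_smul, e, hn', smul_inv_smul]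
      obtain ⟨k, hk1, hk2⟩ := key a b hab
      obtain ⟨l, hl1, hl2⟩ := key c d hcd
      exact ⟨l * k⁻¹, by rw [mul_smul, ← hk1, inv_smul_smul, hl1], by rw [mul_smul, ← hk2, inv_smul_smul, hl2]⟩
    · -- otherwise there is a single class of derangements
      by_contra hfr
      push_neg at hfr
      have hle : ∀ g : G, g ∉ N → Nat.card (MulAction.fixedBy Ω g) ≤ 1 := fun g hg => by
        have := hfr g (fun e => hg (e ▸ one_mem N))
        omega
      have hall : ∀ g : G, g ∉ N → Nat.card (MulAction.fixedBy Ω g) = 1 := by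
        intro g hg
        have heq : ∑ g ∈ Finset.univ.filter (· ∉ N), Nat.card (MulAction.fixedBy Ω g) =
            ∑ g ∈ Finset.univ.filter (fun g : G => g ∉ N), 1 := by
          rw [← Finset.card_eq_sum_ones]; omega
        exact (Finset.sum_eq_sum_iff_of_le fun g hg => hle g (Finset.mem_filter.1 hg).2).1 heq g
          (Finset.mem_filter.2 ⟨Finset.mem_univ _, hg⟩)
      have hsub : Subsingleton {c : ConjClasses G // ∃ g : G, ConjClasses.mk g = c ∧ ∀ ω : Ω, g • ω ≠ ω} := by
        have hin : ∀ g : G, (∀ ω : Ω, g • ω ≠ ω) → IsConj x g := by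
          intro g hg
          have hgN : g ∈ N := by
            by_contra hgN
            have := hall g hgN
            rw [hzero g hg] at this
            omega
          exact hone_class g hgN fun e => hg α (by rw [e, one_smul])
        refine ⟨fun c c' => Subtype.ext ?_⟩
        obtain ⟨g, hg1, hg⟩ := c.2
        obtain ⟨g', hg1', hg'⟩ := c'.2
        rw [← hg1, ← hg1', ConjClasses.mk_eq_mk_iff_isConj]
        exact (hin g hg).symm.trans (hin g' hg')
      have := Finite.card_le_one_iff_subsingleton.2 hsub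
      omega
  -- two classes in `N`: a Frobenius group
  left
  push_neg at hone_class
  obtain ⟨y, hyN, hy1, hxy⟩ := hone_class
  have hyd : ∀ ω : Ω, y • ω ≠ ω := fun b hb => hy1 (hNfix y hyN b hb)
  have hder : ∀ g : G, (∀ ω : Ω, g • ω ≠ ω) → IsConj x g ∨ IsConj y g := by
    intro g hg
    by_contra hc
    push_neg at hc
    exact hthree x y g hxd hyd hg hxy hc.1 hc.2
  have hall : ∀ g : G, g ∉ N → Nat.card (MulAction.fixedBy Ω g) = 1 := by
    intro g hg
    have hge : ∀ g : G, g ∉ N → 1 ≤ Nat.card (MulAction.fixedBy Ω g) := by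
      intro g hg
      by_contra h0
      have hgd : ∀ ω : Ω, g • ω ≠ ω := fun b hb => h0 (by
        haveI : Nonempty (MulAction.fixedBy Ω g) := ⟨⟨b, hb⟩⟩
        exact Nat.card_pos)
      rcases hder g hgd with e | e <;> obtain ⟨c, rfl⟩ := isConj_iff.1 e
      · exact hg (hN.conj_mem x hxN c)
      · exact hg (hN.conj_mem y hyN c)
    have heq : ∑ g ∈ Finset.univ.filter (fun g : G => g ∉ N), 1 =
        ∑ g ∈ Finset.univ.filter (· ∉ N), Nat.card (MulAction.fixedBy Ω g) := by
      rw [← Finset.card_eq_sum_ones]; omega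
    exact ((Finset.sum_eq_sum_iff_of_le fun g hg => hge g (Finset.mem_filter.1 hg).2).1 heq g
      (Finset.mem_filter.2 ⟨Finset.mem_univ _, hg⟩)).symm
  have hfix : ∀ g : G, g ≠ 1 → Nat.card (MulAction.fixedBy Ω g) ≤ 1 := by
    intro g hg
    by_cases hgN : g ∈ N
    · rw [hzero g fun b hb => hg (hNfix g hgN b hb)]; omega
    · rw [hall g hgN]
  -- the stabiliser acts regularly on both classes
  have hfree : ∀ z ∈ N, z ≠ 1 → ∀ k ∈ MulAction.stabilizer G α, k * z * k⁻¹ = z → k = 1 := by
    intro z hz hz1 k hk hkz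
    by_contra hk1
    have h1 := hfix k hk1
    haveI : Subsingleton (MulAction.fixedBy Ω k) := Finite.card_le_one_iff_subsingleton.1 h1
    have e : k • (z • α) = z • α := by
      conv_rhs => rw [← hkz, mul_smul, mul_smul,
        show k⁻¹ • α = α by rw [inv_smul_eq_iff, MulAction.mem_stabilizer_iff.1 hk]]
    have := congrArg Subtype.val
      (Subsingleton.elim (⟨α, hk⟩ : MulAction.fixedBy Ω k) ⟨z • α, e⟩)
    exact hz1 (hNfix z hz α this.symm)
  let f : MulAction.stabilizer G α × Bool → {z : N // z ≠ 1} := fun p =>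
    ⟨⟨(p.1 : G) * (if p.2 then x else y) * (p.1 : G)⁻¹,
      hN.conj_mem _ (by split_ifs <;> assumption) _⟩, fun e => by
      have := congrArg Subtype.val e
      simp only [OneMemClass.coe_one, conj_eq_one_iff] at this
      split_ifs at this <;> contradiction⟩
  have hf : Function.Bijective f := by
    refine ⟨?_, ?_⟩
    · rintro ⟨k, i⟩ ⟨l, j⟩ hkl
      have e := congrArg (fun z : {z : N // z ≠ 1} => ((z : N) : G)) hkl
      have hij : i = j := by
        rcases i <;> rcases j <;> simp [f] at e ⊢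
        · exact hxy (isConj_iff.2 ⟨(k : G)⁻¹ * l, by
            rw [mul_inv_rev, inv_inv]
            calc (k : G)⁻¹ * l * x * ((l : G)⁻¹ * k) = (k : G)⁻¹ * ((l : G) * x * (l : G)⁻¹) * k := by group
              _ = y := by rw [← e]; group⟩)
        · exact hxy (isConj_iff.2 ⟨(l : G)⁻¹ * k, by
            rw [mul_inv_rev, inv_inv]
            calc (l : G)⁻¹ * k * x * ((k : G)⁻¹ * l) = (l : G)⁻¹ * ((k : G) * x * (k : G)⁻¹) * l := by group
              _ = y := by rw [e]; group⟩)
      subst hij
      have hm : (l : G)⁻¹ * k ∈ MulAction.stabilizer G α := mul_mem (inv_mem l.2) k.2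
      have h1 := hfree (if i then x else y) (by split_ifs <;> assumption) (by split_ifs <;> assumption)
        ((l : G)⁻¹ * k) hm (by
          simp only [f] at e
          calc (l : G)⁻¹ * k * (if i then x else y) * ((l : G)⁻¹ * k)⁻¹
              = (l : G)⁻¹ * ((k : G) * (if i then x else y) * (k : G)⁻¹) * l := by group
            _ = (if i then x else y) := by rw [e]; group)
      exact Prod.ext (Subtype.ext (inv_mul_eq_one.1 h1).symm) rfl
    · rintro ⟨⟨z, hz⟩, hz1⟩
      have hzd : ∀ ω : Ω, z • ω ≠ ω := fun b hb => hz1 (Subtype.ext (hNfix z hz b hb))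
      rcases hder z hzd with e | e
      · obtain ⟨k, hk, hkz⟩ := hNconj x hxN z e
        exact ⟨(⟨k, hk⟩, true), Subtype.ext (Subtype.ext (by simpa [f] using hkz))⟩
      · obtain ⟨k, hk, hkz⟩ := hNconj y hyN z e
        exact ⟨(⟨k, hk⟩, false), Subtype.ext (Subtype.ext (by simpa [f] using hkz))⟩
  have hcard : 2 * Nat.card (MulAction.stabilizer G α) = Fintype.card Ω - 1 := by
    have := Nat.card_eq_of_bijective f hf
    rw [Nat.card_prod, Nat.card_eq_fintype_card (α := Bool), Fintype.card_bool] at this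
    rw [← Nat.card_eq_fintype_card (α := Ω), ← hcardN, mul_comm, this]
    simp [Nat.card_eq_fintype_card, Fintype.card_subtype_compl]
  refine ⟨haff, hfix, ?_, hcard⟩
  have : 0 < Nat.card (MulAction.stabilizer G α) := Nat.card_pos
  omega

end Cfsg.Agent.S3520
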