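import Cfsg.Statements.S3524

set_option autoImplicit false
open Cfsg

namespace Cfsg.Agent.S3524

/-- A permutation group with a base is closed at one level above the base size. Let G be a group of permutations of a set Ω and suppose some k points α₁, …, α_k are fixed simultaneously only by the identity of G (a base of size k). Then G is (k+1)-closed: a permutation of Ω that agrees on every (k+1)-tuple of points with some element of G belongs to G. -/
theorem result {Ω : Type*} (G : Subgroup (Equiv.Perm Ω)) (k : ℕ) (α : Fin k → Ω)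
    (hbase : ∀ g ∈ G, (∀ i, g (α i) = α i) → g = 1) (σ : Equiv.Perm Ω)
    (hσ : ∀ t : Fin (k + 1) → Ω, ∃ g ∈ G, ∀ i, σ (t i) = g (t i)) : σ ∈ G := by
  obtain ⟨g₀, hg₀, -⟩ : ∃ g ∈ G, True := ⟨1, G.one_mem, trivial⟩
  by_cases hΩ : Nonempty Ω
  · obtain ⟨x₀⟩ := hΩ
    obtain ⟨g, hg, hgt⟩ := hσ (Fin.cons x₀ α)
    suffices h : σ = g by rw [h]; exact hg
    refine Equiv.ext fun x => ?_
    obtain ⟨h, hh, hht⟩ := hσ (Fin.cons x α)
    have hgh : g⁻¹ * h = 1 := hbase _ (G.mul_mem (G.inv_mem hg) hh) fun i => by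
      have h1 := hgt i.succ
      have h2 := hht i.succ
      rw [Fin.cons_succ] at h1 h2
      rw [Equiv.Perm.mul_apply, ← h2, h1, Equiv.Perm.inv_def, Equiv.symm_apply_apply]
    have h0 := hht 0
    rw [Fin.cons_zero] at h0
    rw [h0, inv_mul_eq_one.1 hgh]
  · rw [not_nonempty_iff] at hΩ
    rw [Subsingleton.elim σ 1]
    exact G.one_mem

end Cfsg.Agent.S3524
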