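import Cfsg.Statements.S3532
import Cfsg.Agent.Lib.Recog.ProjSpectrum
import Cfsg.Agent.Lib.Recog.AffineLine

set_option autoImplicit false
open Cfsg

namespace Cfsg.Agent.S3532

/-- Let q ≥ 4 be a prime power and L = PSL(2,q). There is a finite solvable group with the same set of element orders as L × L (so L × L is not determined by its spectrum). -/
theorem result {F : Type*} [Field F] [Fintype F] (hF : 4 ≤ Fintype.card F) :
    ∃ (H : Type) (_ : Group H) (_ : Finite H), Group.IsSolvable H ∧
      Set.range (orderOf : H → ℕ) = Set.range (orderOf : Matrix.ProjectiveSpecialLinearGroup (Fin 2) F × Matrix.ProjectiveSpecialLinearGroup (Fin 2) F → ℕ) := by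
  obtain ⟨p, hp⟩ := CharP.exists F
  haveI : Fact p.Prime := ⟨CharP.char_is_prime F p⟩
  haveI : CharP (FiniteField.Extension F p 2) p :=
    charP_of_injective_algebraMap (FaithfulSMul.algebraMap_injective F _) p
  obtain ⟨u, hu⟩ := CfsgLib.Recog.exists_units_orderOf (L := F)
    (m := (Fintype.card F - 1) / CfsgLib.Recog.dTwo F)
    (by rw [Nat.card_eq_fintype_card]; exact Nat.div_dvd_of_dvd CfsgLib.Recog.dTwo_dvd_card_sub_one)
  obtain ⟨w, hw⟩ := CfsgLib.Recog.exists_units_orderOf (L := FiniteField.Extension F p 2)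
    (m := (Fintype.card F + 1) / CfsgLib.Recog.dTwo F)
    (by
      rw [FiniteField.natCard_extension, Nat.card_eq_fintype_card]
      refine (Nat.div_dvd_of_dvd CfsgLib.Recog.dTwo_dvd_card_add_one).trans ?_
      exact ⟨Fintype.card F - 1, by rw [← Nat.sq_sub_sq, one_pow]⟩)
  let T := (Multiplicative F ⋊[CfsgLib.Recog.scaleAct.comp (Subgroup.zpowers u).subtype]
      Subgroup.zpowers u) ×
    (Multiplicative (FiniteField.Extension F p 2)
      ⋊[CfsgLib.Recog.scaleAct.comp (Subgroup.zpowers w).subtype] Subgroup.zpowers w)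
  haveI := CfsgLib.Recog.isSolvable_affineLine (Subgroup.zpowers u)
  haveI := CfsgLib.Recog.isSolvable_affineLine (Subgroup.zpowers w)
  haveI : Group.IsSolvable T := inferInstance
  haveI : Finite (Multiplicative F ⋊[CfsgLib.Recog.scaleAct.comp (Subgroup.zpowers u).subtype]
      Subgroup.zpowers u) := Finite.of_equiv _ SemidirectProduct.equivProd.symm
  haveI : Finite (Multiplicative (FiniteField.Extension F p 2)
      ⋊[CfsgLib.Recog.scaleAct.comp (Subgroup.zpowers w).subtype] Subgroup.zpowers w) :=
    Finite.of_equiv _ SemidirectProduct.equivProd.symm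
  obtain ⟨H, hG, hH, ⟨e⟩⟩ := Finite.exists_type_univ_nonempty_mulEquiv T
  refine ⟨H, hG, inferInstance,
    Group.isSolvable_of_surjective (f := e.toMonoidHom) e.surjective, ?_⟩
  rw [← CfsgLib.Recog.orderOf_equiv_range e, CfsgLib.Recog.range_orderOf_prod,
    CfsgLib.Recog.range_orderOf_prod, CfsgLib.Recog.range_orderOf_affineLine p hu,
    CfsgLib.Recog.range_orderOf_affineLine p hw, CfsgLib.Recog.range_orderOf_PSL_two p]
  exact CfsgLib.Recog.lcm_set_eq _ _ p

end Cfsg.Agent.S3532
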