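import Cfsg.Statements.S3548
import Cfsg.Agent.Lib.Derangements.Basic

set_option autoImplicit false
open Cfsg MulAction CfsgLib.Derangements

namespace Cfsg.Agent.S3548


/-- Let G act faithfully and transitively on a finite set with n ≥ 2 points and let D be the subgroup generated by the derangements. Then the index of D in G divides n − 1, and if it equals n − 1 then n is a prime power. -/
theorem result {G Ω : Type*} [Group G] [Finite G] [MulAction G Ω] [FaithfulSMul G Ω] [Finite Ω]
    (htrans : MulAction.IsPretransitive G Ω) (hΩ : 2 ≤ Nat.card Ω) :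
    (Subgroup.closure {g : G | ∀ ω : Ω, g • ω ≠ ω}).index ∣ Nat.card Ω - 1 ∧
    ((Subgroup.closure {g : G | ∀ ω : Ω, g • ω ≠ ω}).index = Nat.card Ω - 1 → IsPrimePow (Nat.card Ω)) := by
  classical
  change (derSubgroup G Ω).index ∣ _ ∧ ((derSubgroup G Ω).index = _ → _)
  have hne : Nonempty Ω := (Nat.card_pos_iff.mp (by omega)).1
  obtain ⟨ω⟩ := hne
  have hY : ∀ s ∈ stabilizer G ω, ∀ y ∈ ({ω}ᶜ : Set Ω), s • y ∈ ({ω}ᶜ : Set Ω) := by
    intro s hs y hy h
    refine hy ((MulAction.injective s) ?_)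
    show s • y = s • ω
    rw [mem_stabilizer_iff.mp hs]; exact h
  have hcard : ({ω}ᶜ : Set Ω).ncard = Nat.card Ω - 1 := by
    rw [Set.ncard_compl, Set.ncard_singleton]
  refine ⟨hcard ▸ index_dvd_card {ω}ᶜ (fun h => h rfl) hY, fun heq => ?_⟩
  set N := derSubgroup G Ω with hN
  have hNn : N.Normal := derSubgroup_normal G Ω
  have horb : ∀ {α : Ω}, α ≠ ω → Nat.card (orbit (stabilizer G ω) α) = N.index ∧
      orbit (stabilizer G ω) α = ({ω}ᶜ : Set Ω) := by
    intro α hα
    have hsub : orbit (stabilizer G ω) α ⊆ ({ω}ᶜ : Set Ω) := by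
      rintro _ ⟨s, rfl⟩
      exact hY s.1 s.2 α hα
    have h1 : Nat.card (orbit (stabilizer G ω) α) ≤ N.index := by
      rw [heq, ← hcard, Nat.card_coe_set_eq]
      exact Set.ncard_le_ncard hsub
    have h2 : N.index ≤ Nat.card (orbit (stabilizer G ω) α) :=
      Nat.le_of_dvd (by
        rw [Nat.card_pos_iff]
        exact ⟨⟨⟨α, mem_orbit_self α⟩⟩, inferInstance⟩) (index_dvd_orbit hα)
    refine ⟨le_antisymm h1 h2, Set.eq_of_subset_of_ncard_le hsub ?_⟩
    rw [hcard, ← heq, ← Nat.card_coe_set_eq]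
    exact h2
  -- the derangement subgroup is regular
  have hreg : ∀ {a b : G}, a ∈ N → b ∈ N → a • ω = b • ω → a = b := by
    intro a b ha hb hab
    rw [← inv_mul_eq_one]
    have hn : a⁻¹ * b ∈ N := N.mul_mem (N.inv_mem ha) hb
    have hω : (a⁻¹ * b) • ω = ω := by rw [mul_smul, ← hab, inv_smul_smul]
    refine eq_of_smul_eq_smul (α := Ω) fun α => ?_
    rw [one_smul]
    by_cases hα : α = ω
    · rwa [hα]
    have hle : stabilizer (stabilizer G ω) α ≤ N.subgroupOf (stabilizer G ω) := by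
      intro s hs
      rw [Subgroup.mem_subgroupOf]
      by_contra h
      exact hα (eq_of_fix h (mem_stabilizer_iff.mp hs) (mem_stabilizer_iff.mp s.2))
    have heq2 : (N.subgroupOf (stabilizer G ω)).index = (stabilizer (stabilizer G ω) α).index := by
      rw [index_stabilizer, ← Nat.card_coe_set_eq, (horb hα).1, hN, index_eq_relIndex ω]
      rfl
    have hge : N.subgroupOf (stabilizer G ω) ≤ stabilizer (stabilizer G ω) α := by
      refine (Subgroup.eq_of_le_of_card_ge hle ?_).ge
      have h1 := (N.subgroupOf (stabilizer G ω)).card_mul_index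
      rw [heq2, ← (stabilizer (stabilizer G ω) α).card_mul_index] at h1
      exact (Nat.eq_of_mul_eq_mul_right (Nat.pos_of_ne_zero Subgroup.index_ne_zero_of_finite) h1).le
    exact mem_stabilizer_iff.mp
      (hge (show (⟨a⁻¹ * b, hω⟩ : stabilizer G ω) ∈ N.subgroupOf (stabilizer G ω) from hn))
  have hbij : Function.Bijective (fun n : N => (n : G) • ω) := by
    refine ⟨fun a b h => Subtype.ext (hreg a.2 b.2 h), fun β => ?_⟩
    obtain ⟨n, hn, h⟩ := exists_smul_der (G := G) ω β
    exact ⟨⟨n, hn⟩, h⟩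
  have hcardN : Nat.card N = Nat.card Ω := Nat.card_eq_of_bijective _ hbij
  obtain ⟨p, hp, hpd⟩ := Nat.exists_prime_and_dvd (show Nat.card Ω ≠ 1 by omega)
  haveI := Fact.mk hp
  obtain ⟨a, ha⟩ := exists_prime_orderOf_dvd_card' (G := N) p (hcardN.symm ▸ hpd)
  have hall : ∀ b : N, b ≠ 1 → orderOf b = p := by
    intro b hb
    have hne : ∀ c : N, c ≠ 1 → (c : G) • ω ≠ ω := fun c hc h =>
      hc (Subtype.ext (hreg c.2 (1 : N).2 (by rw [h, OneMemClass.coe_one, one_smul])))
    have ha1 : a ≠ 1 := fun h => hp.ne_one (by rw [← ha, h, orderOf_one])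
    have hmem : (b : G) • ω ∈ orbit (stabilizer G ω) ((a : G) • ω) := by
      rw [(horb (hne a ha1)).2]; exact hne b hb
    obtain ⟨h, hh⟩ := hmem
    have hc : (h : G) * a * (h : G)⁻¹ = b := by
      refine hreg (hNn.conj_mem _ a.2 _) b.2 ?_
      rw [mul_smul, mul_smul, inv_smul_eq_iff.mpr (mem_stabilizer_iff.mp h.2).symm]
      exact hh
    rw [← Subgroup.orderOf_coe, ← hc, ← MulAut.conj_apply, MulEquiv.orderOf_eq,
      Subgroup.orderOf_coe, ha]
  have hP : IsPGroup p N := fun b => by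
    refine ⟨1, ?_⟩
    rw [pow_one]
    by_cases hb : b = 1
    · rw [hb, one_pow]
    · rw [← hall b hb, pow_orderOf_eq_one]
  obtain ⟨k, hk⟩ := IsPGroup.iff_card.mp hP
  rw [← hcardN, hk]
  refine hp.isPrimePow.pow ?_
  rintro rfl
  rw [hcardN, pow_zero] at hk
  omega

end Cfsg.Agent.S3548
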