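import Cfsg.Statements.S3549
import Cfsg.Agent.Lib.Derangements.Basic

set_option autoImplicit false
open Cfsg MulAction CfsgLib.Derangements
open scoped Pointwise

namespace Cfsg.Agent.S3549

/-- Let G act faithfully, transitively but imprimitively on a finite set with n points, and let D be the subgroup generated by the derangements. Then the index of D in G is at most √n − 1. -/
theorem result {G Ω : Type*} [Group G] [Finite G] [MulAction G Ω] [FaithfulSMul G Ω] [Finite Ω]
    (htrans : MulAction.IsPretransitive G Ω) (himp : ¬ MulAction.IsPreprimitive G Ω) :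
    ((Subgroup.closure {g : G | ∀ ω : Ω, g • ω ≠ ω}).index : ℝ) ≤ Real.sqrt (Nat.card Ω) - 1 := by
  classical
  change ((derSubgroup G Ω).index : ℝ) ≤ _
  have hex : ∃ B : Set Ω, IsBlock G B ∧ ¬ IsTrivialBlock B := by
    by_contra h
    push Not at h
    exact himp { isTrivialBlock_of_isBlock := fun hB => h _ hB }
  obtain ⟨B, hB, hBt⟩ := hex
  rw [IsTrivialBlock, not_or] at hBt
  obtain ⟨hsub, huniv⟩ := hBt
  obtain ⟨ω, hω, ω', hω', hne⟩ : ∃ a ∈ B, ∃ b ∈ B, a ≠ b := Set.not_subsingleton_iff.mp hsub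
  set M := stabilizer G B with hM
  set N := derSubgroup G Ω with hN
  have hmul := hB.ncard_block_mul_ncard_orbit_eq ⟨ω, hω⟩
  rw [← index_stabilizer, ← hM] at hmul
  have hk : 2 ≤ B.ncard := (Set.one_lt_ncard).mpr ⟨ω, hω, ω', hω', hne⟩
  have hm : 2 ≤ M.index := by
    have h0 : M.index ≠ 0 := Subgroup.index_ne_zero_of_finite
    have h1 : M.index ≠ 1 := by
      intro h
      rw [Subgroup.index_eq_one] at h
      refine huniv (Set.eq_univ_of_forall fun β => ?_)
      obtain ⟨g, rfl⟩ := exists_smul_eq G ω β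
      have hg : g ∈ M := by rw [h]; trivial
      rw [← mem_stabilizer_iff.mp hg]
      exact Set.smul_mem_smul_set hω
    omega
  -- the index divides the block size minus one
  have hd1 : N.index ∣ B.ncard - 1 := by
    rw [← Set.ncard_sdiff_singleton_of_mem hω]
    refine index_dvd_card _ (fun h => h.2 rfl) fun s hs y hy => ⟨?_, fun h => hy.2 ?_⟩
    · have hsB : s • B = B := by
        refine hB.smul_eq_of_nonempty ⟨ω, ?_, hω⟩
        exact ⟨ω, hω, mem_stabilizer_iff.mp hs⟩
      rw [← hsB]
      exact Set.smul_mem_smul_set hy.1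
    · rw [Set.mem_singleton_iff] at h ⊢
      exact (MulAction.injective s) (h.trans (mem_stabilizer_iff.mp hs).symm)
  -- and the number of blocks minus one
  have hd2 : N.index ∣ M.index - 1 := by
    have hder : derSubgroup G (G ⧸ M) ≤ N := by
      refine (Subgroup.closure_le _).mpr fun g hg => Subgroup.subset_closure fun α hα => ?_
      obtain ⟨h, rfl⟩ := exists_smul_eq G ω α
      refine hg (h : G ⧸ M) ?_
      show ((g * h : G) : G ⧸ M) = _
      rw [eq_comm, QuotientGroup.eq, hM, mem_stabilizer_iff]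
      refine hB.smul_eq_of_nonempty ⟨ω, ⟨ω, hω, ?_⟩, hω⟩
      show (h⁻¹ * (g * h)) • ω = ω
      rw [mul_smul, mul_smul, hα, inv_smul_smul]
    refine (Subgroup.index_dvd_of_le hder).trans ?_
    have hY : ∀ s ∈ stabilizer G ((1 : G) : G ⧸ M), ∀ y ∈ ({((1 : G) : G ⧸ M)}ᶜ : Set (G ⧸ M)),
        s • y ∈ ({((1 : G) : G ⧸ M)}ᶜ : Set (G ⧸ M)) := fun s hs y hy h =>
      hy ((MulAction.injective s) (h.trans (mem_stabilizer_iff.mp hs).symm))
    have := index_dvd_card {((1 : G) : G ⧸ M)}ᶜ (fun h => h rfl) hY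
    rwa [Set.ncard_compl, Set.ncard_singleton, ← Subgroup.index_eq_card] at this
  have h1 : N.index ≤ B.ncard - 1 := Nat.le_of_dvd (by omega) hd1
  have h2 : N.index ≤ M.index - 1 := Nat.le_of_dvd (by omega) hd2
  have h3 : (N.index + 1) ^ 2 ≤ Nat.card Ω := by
    rw [← hmul, sq]
    exact Nat.mul_le_mul (by omega) (by omega)
  rw [le_sub_iff_add_le, Real.le_sqrt (by positivity) (by positivity)]
  exact_mod_cast h3

end Cfsg.Agent.S3549
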