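import Cfsg.Statements.S3550
import Cfsg.Agent.Lib.Derangements.IndexBound

set_option autoImplicit false
open Cfsg

namespace Cfsg.Agent.S3550

/-- Let G act faithfully and primitively on a finite set with n ≥ 2 points and suppose G has no non-trivial abelian normal subgroup (G is not of affine type). Let D be the subgroup generated by the derangements. Then the index of D in G is at most √n − 1. -/
theorem result {G Ω : Type*} [Group G] [Finite G] [MulAction G Ω] [FaithfulSMul G Ω] [Finite Ω]
    (hprim : MulAction.IsPreprimitive G Ω) (hΩ : 2 ≤ Nat.card Ω) (hna : ∀ N : Subgroup G, N.Normal → IsMulCommutative ↥N → N = ⊥) :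
    ((Subgroup.closure {g : G | ∀ ω : Ω, g • ω ≠ ω}).index : ℝ) ≤ Real.sqrt (Nat.card Ω) - 1 := by
  haveI : MulAction.IsPretransitive G Ω := hprim.toIsPretransitive
  haveI : Nontrivial Ω := Finite.one_lt_card_iff_nontrivial.mp hΩ
  set D := Subgroup.closure {g : G | ∀ ω : Ω, g • ω ≠ ω} with hD
  by_cases hb : (D.index + 1) ^ 2 ≤ Nat.card Ω
  · have h1 : ((D.index : ℝ) + 1) ≤ Real.sqrt (Nat.card Ω) := by
      rw [Real.le_sqrt (by positivity) (by positivity)]
      exact_mod_cast hb
    linarith
  exfalso
  rcases le_or_gt 2 D.index with hm | hm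
  · obtain ⟨p, P, a, cfg⟩ := CfsgLib.Derangements.exists_regularConfig (G := G) (Ω := Ω) hm hb
    refine cfg.false_of_two_fixed hm hb (Or.inl fun hn => ?_)
    have hbot : P = ⊥ := hna P hn ⟨⟨fun x y => Subtype.ext (cfg.comm x x.2 y y.2)⟩⟩
    have h := cfg.card_eq
    rw [hbot, Subgroup.card_bot] at h
    omega
  · have hsq : (D.index + 1) ^ 2 ≤ 2 ^ 2 := Nat.pow_le_pow_left (by omega) 2
    have hn3 : Nat.card Ω ≤ 3 := by
      by_contra h
      exact hb (hsq.trans (by omega))
    classical
    haveI := Fintype.ofFinite Ω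
    set φ := MulAction.toPermHom G Ω
    have hφ : Function.Injective φ := MulAction.toPerm_injective
    set N := (Equiv.Perm.sign.comp φ).ker with hN
    have hNcard : Nat.card N ≤ 3 := by
      have hle : N.map φ ≤ alternatingGroup Ω := by
        rintro _ ⟨g, hg, rfl⟩
        exact hg
      have h1 := Subgroup.card_le_of_le hle
      have h2 := nat_card_alternatingGroup (α := Ω)
      rw [Nat.card_congr (N.equivMapOfInjective φ hφ).toEquiv]
      refine h1.trans ?_
      rw [h2]
      interval_cases Nat.card Ω <;> decide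
    have hNbot : N = ⊥ := hna N inferInstance ⟨⟨fun x y => by
      obtain h | h | h : Nat.card N = 1 ∨ Nat.card N = 2 ∨ Nat.card N = 3 := by
        have := Nat.card_pos (α := N); omega
      · exact @Subsingleton.elim _ (Nat.card_eq_one_iff_unique.mp h).1 _ _
      · haveI : Fact (Nat.Prime 2) := ⟨Nat.prime_two⟩
        haveI := isCyclic_of_prime_card h
        exact IsCyclic.commGroup.mul_comm x y
      · haveI : Fact (Nat.Prime 3) := ⟨Nat.prime_three⟩
        haveI := isCyclic_of_prime_card h
        exact IsCyclic.commGroup.mul_comm x y⟩⟩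
    have hinj : Function.Injective (Equiv.Perm.sign.comp φ) := (MonoidHom.ker_eq_bot_iff _).mp hNbot
    have htop : (⊤ : Subgroup G) = ⊥ := hna ⊤ inferInstance ⟨⟨fun x y => Subtype.ext (hinj (by
      rw [Subgroup.coe_mul, Subgroup.coe_mul, map_mul, map_mul, mul_comm]))⟩⟩
    obtain ⟨a, b, hab⟩ := exists_pair_ne Ω
    obtain ⟨g, hg⟩ := MulAction.exists_smul_eq G a b
    have hg1 : g = 1 := Subgroup.mem_bot.mp (htop ▸ Subgroup.mem_top g)
    exact hab (by rw [← hg, hg1, one_smul])

end Cfsg.Agent.S3550
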