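import Cfsg.Statements.S3554

set_option autoImplicit false
open Cfsg

namespace Cfsg.Agent.S3554

/-- Let G act faithfully and transitively on a finite set and suppose G has a non-trivial cyclic normal subgroup. Then some element of G of prime order fixes no point. -/
theorem result {G Ω : Type*} [Group G] [Finite G] [MulAction G Ω] [FaithfulSMul G Ω] [Finite Ω]
    (htrans : MulAction.IsPretransitive G Ω) (C : Subgroup G) (hC : C.Normal) (hC1 : C ≠ ⊥) (hcyc : IsCyclic ↥C) :
    ∃ g : G, (orderOf g).Prime ∧ ∀ ω : Ω, g • ω ≠ ω := by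
  haveI := hcyc
  haveI : Nontrivial C := C.nontrivial_iff_ne_bot.2 hC1
  obtain ⟨r, hr, hrd⟩ := Nat.exists_prime_and_dvd (n := Nat.card C) Finite.one_lt_card.ne'
  haveI := Fact.mk hr
  obtain ⟨c, hc⟩ := exists_prime_orderOf_dvd_card' r hrd
  refine ⟨(c : G), by rw [Subgroup.orderOf_coe, hc]; exact hr, fun ω hω => ?_⟩
  have key : ∀ g : G, ∃ m : ℤ, g * (c : G) * g⁻¹ = (c : G) ^ m := by
    intro g
    obtain ⟨m, hm⟩ := MonoidHom.map_cyclic
      ((MulAut.conjNormal g : MulAut C).toMonoidHom)
    refine ⟨m, ?_⟩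
    have h := congrArg Subtype.val (hm c)
    simpa using h
  have hone : (c : G) = 1 := by
    refine eq_of_smul_eq_smul (α := Ω) fun x => ?_
    obtain ⟨g, hg⟩ := MulAction.exists_smul_eq G x ω
    obtain ⟨m, hm⟩ := key g
    have hfix : (g * (c : G) * g⁻¹) • ω = ω := by
      rw [hm]
      exact Subgroup.zpow_mem (MulAction.stabilizer G ω) hω m
    rw [one_smul]
    rw [← hg, mul_smul, mul_smul, inv_smul_smul] at hfix
    exact smul_left_cancel g hfix
  have h1 : c = 1 := Subtype.ext hone
  rw [h1, orderOf_one] at hc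
  exact hr.ne_one hc.symm

end Cfsg.Agent.S3554
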