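import Cfsg.Statements.S3555
import Cfsg.Agent.Lib.CharsMore.Frobenius

set_option autoImplicit false
set_option linter.style.haveILetI false
open Cfsg

namespace Cfsg.Agent.S3555

open scoped Pointwise

/-- Number of swappers of a pair is at most the order of the pair stabiliser. -/
lemma swappers_le {G Ω : Type*} [Group G] [Fintype G] [MulAction G Ω] [DecidableEq Ω] (a b : Ω) :
    (Finset.univ.filter fun g : G => g • a = b ∧ g • b = a).card ≤
      (Finset.univ.filter fun g : G => g • a = a ∧ g • b = b).card := by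
  rcases (Finset.univ.filter fun g : G => g • a = b ∧ g • b = a).eq_empty_or_nonempty with h | ⟨g₀, hg₀⟩
  · simp [h]
  · simp only [Finset.mem_filter, Finset.mem_univ, true_and] at hg₀
    refine Finset.card_le_card_of_injOn (fun g => g₀⁻¹ * g) ?_ ?_
    · intro g hg
      simp only [Finset.coe_filter, Finset.mem_univ, true_and, Set.mem_ofPred_eq] at hg ⊢
      simp only [mul_smul, hg.1, hg.2]
      constructor
      · rw [inv_smul_eq_iff, hg₀.1]
      · rw [inv_smul_eq_iff, hg₀.2]
    · intro x _ y _ hxy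
      exact mul_left_cancel hxy

/-- The number of fixed points of `g * g`, summed over the group, is at most the sum of squares
of the numbers of fixed points. -/
lemma sum_fix_sq_le {G Ω : Type*} [Group G] [Fintype G] [MulAction G Ω] [Fintype Ω] [DecidableEq Ω] :
    ∑ g : G, (Finset.univ.filter fun a : Ω => (g * g) • a = a).card ≤
      ∑ g : G, (Finset.univ.filter fun a : Ω => g • a = a).card ^ 2 := by
  have h1 : ∀ g : G, (Finset.univ.filter fun a : Ω => (g * g) • a = a).card =
      ∑ p : Ω × Ω, if g • p.1 = p.2 ∧ g • p.2 = p.1 then 1 else 0 := by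
    intro g
    rw [Finset.sum_boole, Nat.cast_id]
    refine Finset.card_bij' (fun a _ => (a, g • a)) (fun p _ => p.1) ?_ ?_ ?_ ?_
    · intro a ha
      simp only [Finset.mem_filter, Finset.mem_univ, true_and, mul_smul] at ha ⊢
      exact ha
    · intro p hp
      simp only [Finset.mem_filter, Finset.mem_univ, true_and, mul_smul] at hp ⊢
      rw [hp.1, hp.2]
    · intro a _; rfl
    · intro p hp
      simp only [Finset.mem_filter, Finset.mem_univ, true_and] at hp
      ext
      · rfl
      · exact hp.1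
  have h2 : ∀ g : G, (Finset.univ.filter fun a : Ω => g • a = a).card ^ 2 =
      ∑ p : Ω × Ω, if g • p.1 = p.1 ∧ g • p.2 = p.2 then 1 else 0 := by
    intro g
    rw [Finset.sum_boole, Nat.cast_id, sq, ← Finset.card_product]
    congr 1
    ext p
    simp
  rw [Finset.sum_congr rfl (fun g _ => h1 g), Finset.sum_congr rfl (fun g _ => h2 g),
    Finset.sum_comm, Finset.sum_comm (f := fun g (p : Ω × Ω) =>
      if g • p.1 = p.1 ∧ g • p.2 = p.2 then 1 else 0)]
  refine Finset.sum_le_sum fun p _ => ?_
  simp only [Finset.sum_boole, Nat.cast_id]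
  exact swappers_le p.1 p.2

/-- Burnside's lemma for a transitive action. -/
lemma sum_fix_eq {G Ω : Type*} [Group G] [Fintype G] [MulAction G Ω] [Fintype Ω] [DecidableEq Ω]
    [MulAction.IsPretransitive G Ω] [Nonempty Ω] :
    ∑ g : G, (Finset.univ.filter fun a : Ω => g • a = a).card = Fintype.card G := by
  classical
  haveI : Subsingleton (Quotient (MulAction.orbitRel G Ω)) :=
    MulAction.pretransitive_iff_subsingleton_quotient G Ω |>.1 inferInstance
  obtain ⟨a₀⟩ := ‹Nonempty Ω›
  have h := MulAction.sum_card_fixedBy_eq_card_orbits_mul_card_group G Ω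
  rw [Fintype.card_eq_one_iff.2 ⟨Quotient.mk _ a₀, fun x => Subsingleton.elim _ _⟩, one_mul] at h
  refine (Finset.sum_congr rfl fun g _ => ?_).trans h
  rw [← Set.toFinset_card]
  congr 1
  ext a
  simp

/-- Let G act faithfully and transitively on a finite set and suppose every element of G fixing no point is an involution. Then either G is an elementary abelian 2-group, or G is a Frobenius group whose Frobenius kernel is an elementary abelian 2-group: G has a Frobenius complement H, and the elements lying in no conjugate of H, together with the identity, pairwise commute and square to the identity. -/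
theorem result {G Ω : Type*} [Group G] [Finite G] [MulAction G Ω] [FaithfulSMul G Ω] [Finite Ω]
    (htrans : MulAction.IsPretransitive G Ω) (hinv : ∀ g : G, (∀ ω : Ω, g • ω ≠ ω) → orderOf g = 2) :
    (IsMulCommutative G ∧ ∀ g : G, g ^ 2 = 1) ∨
    (∃ H : Subgroup G, Cfsg.IsFrobeniusComplement H ∧
      (∀ x ∈ Cfsg.frobeniusKernel H, x ^ 2 = 1) ∧
      ∀ x ∈ Cfsg.frobeniusKernel H, ∀ y ∈ Cfsg.frobeniusKernel H, x * y = y * x) := by
  classical
  haveI := htrans
  haveI := Fintype.ofFinite G
  haveI := Fintype.ofFinite Ω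
  have hne : Nonempty Ω := by
    by_contra h
    have := hinv 1 (fun ω => absurd ⟨ω⟩ h)
    simp at this
  set f : G → ℕ := fun g => (Finset.univ.filter fun a : Ω => g • a = a).card with hf
  have hle : ∀ g : G, f g ≤ Fintype.card Ω := fun g => Finset.card_le_univ _
  have hzero : ∀ g : G, f g = 0 → ∀ ω : Ω, g • ω ≠ ω := by
    intro g hg ω hω
    have : ω ∈ Finset.univ.filter fun a : Ω => g • a = a := by simpa using hω
    rw [Finset.card_eq_zero.1 hg] at this
    simp at this
  have hsq0 : ∀ g : G, f g = 0 → g * g = 1 := by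
    intro g hg
    rw [← sq, ← hinv g (hzero g hg), pow_orderOf_eq_one]
  set n : ℤ := (Fintype.card Ω : ℤ) with hn
  have hlow : ∀ g : G, (f g : ℤ) + (if f g = 0 then n else 0) ≤ (f (g * g) : ℤ) := by
    intro g
    split_ifs with h
    · have : f (g * g) = Fintype.card Ω := by simp [hf, hsq0 g h]
      rw [this, h]; simp [hn]
    · have : f g ≤ f (g * g) := Finset.card_le_card (fun a ha => by
        simp only [Finset.mem_filter, Finset.mem_univ, true_and, mul_smul] at ha ⊢
        rw [ha, ha])
      simpa using this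
  have hS : ∑ g : G, (f (g * g) : ℤ) ≤ ∑ g : G, (f g : ℤ) ^ 2 := by
    exact_mod_cast sum_fix_sq_le (G := G) (Ω := Ω)
  have hB : ∑ g : G, (f g : ℤ) = (Fintype.card G : ℤ) := by
    exact_mod_cast sum_fix_eq (G := G) (Ω := Ω)
  have hterm : ∀ g : G, ((f g : ℤ) - 1) * ((f g : ℤ) - n) - (if f g = 0 then n else 0) ≤ 0 := by
    intro g
    split_ifs with h
    · simp [h]
    · have h1 : (1 : ℤ) ≤ f g := by exact_mod_cast Nat.one_le_iff_ne_zero.2 h
      have h2 : (f g : ℤ) ≤ n := by rw [hn]; exact_mod_cast hle g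
      nlinarith [mul_nonpos_iff.2 (Or.inl ⟨sub_nonneg.2 h1, sub_nonpos.2 h2⟩)]
  have htot : 0 ≤ ∑ g : G, (((f g : ℤ) - 1) * ((f g : ℤ) - n) - (if f g = 0 then n else 0)) := by
    have e : ∑ g : G, (((f g : ℤ) - 1) * ((f g : ℤ) - n) - (if f g = 0 then n else 0)) =
        ∑ g : G, (f g : ℤ) ^ 2 - (n + 1) * ∑ g : G, (f g : ℤ) + (Fintype.card G : ℤ) * n
          - ∑ g : G, (if f g = 0 then n else 0) := by
      rw [Finset.mul_sum, ← Finset.card_univ (α := G), ← smul_eq_mul (Finset.univ.card : ℤ) n]
      simp only [← Finset.sum_sub_distrib, smul_eq_mul]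
      rw [← nsmul_eq_mul, ← Finset.sum_const, ← Finset.sum_add_distrib, ← Finset.sum_sub_distrib]
      exact Finset.sum_congr rfl fun g _ => by ring
    have := Finset.sum_le_sum (fun g (_ : g ∈ Finset.univ) => hlow g)
    rw [Finset.sum_add_distrib] at this
    rw [e, hB]
    linarith
  have hall := (Finset.sum_eq_zero_iff_of_nonpos (fun g _ => hterm g)).1
    (le_antisymm (Finset.sum_nonpos fun g _ => hterm g) htot)
  have huniq : ∀ g : G, g ≠ 1 → ∀ a b : Ω, g • a = a → g • b = b → a = b := by
    intro g hg a b ha hb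
    have h := hall g (Finset.mem_univ g)
    have hne0 : f g ≠ 0 := fun h0 => hzero g h0 a ha
    rw [if_neg hne0, sub_zero, mul_eq_zero, sub_eq_zero, sub_eq_zero] at h
    rcases h with h | h
    · have h1 : f g = 1 := by exact_mod_cast h
      exact Finset.card_le_one.1 h1.le a (by simpa using ha) b (by simpa using hb)
    · have h1 : f g = Fintype.card Ω := by rw [hn] at h; exact_mod_cast h
      refine absurd (eq_of_smul_eq_smul (α := Ω) (fun c => ?_)) hg
      rw [one_smul]
      have : c ∈ Finset.univ.filter fun a : Ω => g • a = a := by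
        rw [Finset.eq_univ_of_card _ h1]; exact Finset.mem_univ c
      simpa using this
  by_cases hreg : ∀ g : G, g ≠ 1 → ∀ ω : Ω, g • ω ≠ ω
  · left
    have hsq : ∀ g : G, g ^ 2 = 1 := by
      intro g
      by_cases hg : g = 1
      · simp [hg]
      · rw [← hinv g (hreg g hg), pow_orderOf_eq_one]
    refine ⟨⟨⟨fun a b => ?_⟩⟩, hsq⟩
    have hinv' : ∀ x : G, x⁻¹ = x := fun x => inv_eq_of_mul_eq_one_right (by rw [← sq, hsq])
    rw [← hinv' (a * b), mul_inv_rev, hinv' a, hinv' b]
  · right
    push Not at hreg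
    obtain ⟨g₁, hg₁, ω₀, hω₀⟩ := hreg
    set H := MulAction.stabilizer G ω₀ with hH
    have hconj : ∀ g x : G, x ∈ MulAut.conj g • H ↔ x • (g • ω₀) = g • ω₀ := by
      intro g x
      rw [Subgroup.mem_pointwise_smul_iff_inv_smul_mem, hH, MulAction.mem_stabilizer_iff]
      simp [MulAut.smul_def, mul_smul, inv_smul_eq_iff]
    have hFC : Cfsg.IsFrobeniusComplement H := by
      refine ⟨?_, ?_, fun g hg => ?_⟩
      · intro h
        exact hg₁ (Subgroup.mem_bot.1 (h ▸ (show g₁ ∈ H from hω₀)))
      · intro h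
        refine hg₁ (eq_of_smul_eq_smul (α := Ω) (fun c => ?_))
        obtain ⟨k, rfl⟩ := MulAction.exists_smul_eq G ω₀ c
        have hk : k • ω₀ = ω₀ := (h.symm ▸ Subgroup.mem_top k : k ∈ H)
        rw [one_smul, hk, hω₀]
      · rw [eq_bot_iff]
        intro x hx
        rw [Subgroup.mem_inf] at hx
        rw [Subgroup.mem_bot]
        by_contra hx1
        exact hg (huniq x hx1 _ _ ((hconj g x).1 hx.2) hx.1)
    have hsq : ∀ x ∈ Cfsg.frobeniusKernel H, x ^ 2 = 1 := by
      intro x hx
      rcases hx with rfl | hx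
      · simp
      · rw [← hinv x (fun ω hω => ?_), pow_orderOf_eq_one]
        obtain ⟨k, rfl⟩ := MulAction.exists_smul_eq G ω₀ ω
        exact hx k ((hconj k x).2 hω)
    obtain ⟨N, hN, -, -⟩ := CfsgLib.CharsMore.exists_frobenius_kernel_of_complement H hFC
    refine ⟨H, hFC, hsq, fun x hx y hy => ?_⟩
    have hinv' : ∀ z ∈ N, z⁻¹ = z := fun z hz =>
      inv_eq_of_mul_eq_one_right (by rw [← sq, hsq z (hN ▸ hz)])
    have hxN : x ∈ N := by rw [← SetLike.mem_coe, hN]; exact hx
    have hyN : y ∈ N := by rw [← SetLike.mem_coe, hN]; exact hy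
    rw [← hinv' (x * y) (N.mul_mem hxN hyN), mul_inv_rev, hinv' x hxN, hinv' y hyN]

end Cfsg.Agent.S3555
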