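import Cfsg.Statements.S3556
import Cfsg.Agent.Lib.Recog.SocleTypes

set_option autoImplicit false
open Cfsg

namespace Cfsg.Agent.S3556

/-- Let G act faithfully and primitively on a finite set with at least two points, and suppose that for some fixed prime p every element of G fixing no point has order a power of p. Then G is of affine type (it has a regular normal subgroup that is an elementary abelian r-group for some prime r) or almost simple (it has a non-abelian simple normal subgroup with trivial centralizer). -/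
theorem result {G Ω : Type*} [Group G] [Finite G] [MulAction G Ω] [FaithfulSMul G Ω] [Finite Ω]
    (hprim : MulAction.IsPreprimitive G Ω) (hΩ : 2 ≤ Nat.card Ω) (p : ℕ) (hp : p.Prime)
    (hder : ∀ g : G, (∀ ω : Ω, g • ω ≠ ω) → ∃ k : ℕ, orderOf g = p ^ k) :
    (∃ (N : Subgroup G) (r : ℕ), r.Prime ∧ N.Normal ∧ Cfsg.IsElementaryAbelian r N ∧
      MulAction.IsPretransitive N Ω ∧ ∀ a : Ω, MulAction.stabilizer N a = ⊥) ∨
    (∃ T : Subgroup G, T.Normal ∧ IsSimpleGroup ↥T ∧ ¬ IsMulCommutative ↥T ∧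
      Subgroup.centralizer (T : Set G) = ⊥) := by
  classical
  haveI := hprim
  haveI := Fact.mk hp
  haveI : Nontrivial Ω := Finite.one_lt_card_iff_nontrivial.1 hΩ
  rcases CfsgLib.Recog.affine_or_socleFactor (G := G) (Ω := Ω) with
    ⟨N, r, hr, hN, -, hc, hexp, ht, hreg⟩ | ⟨N, T, h⟩
  · exact Or.inl ⟨N, r, hr, hN, ⟨hc, hexp⟩, ht, hreg⟩
  right
  -- a semiregular factor would be a `p`-group
  have hsemi : ¬ ∀ (b : Ω) (x : G), x ∈ T → x • b = b → x = 1 := by
    intro hs
    have h3 := h.two_lt_card_primeFactors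
    have hle : (Nat.card T).primeFactors ⊆ {p} := by
      intro q hq
      obtain ⟨hq, hqd, -⟩ := Nat.mem_primeFactors.1 hq
      haveI := Fact.mk hq
      obtain ⟨x, hx⟩ := exists_prime_orderOf_dvd_card' q hqd
      have hx1 : (x : G) ≠ 1 := fun e => hq.one_lt.ne (by
        rw [← hx, ← Subgroup.orderOf_coe, e, orderOf_one])
      obtain ⟨k, hk⟩ := hder x fun b hb => hx1 (hs b x x.2 hb)
      rw [Subgroup.orderOf_coe, hx] at hk
      exact Finset.mem_singleton.2 ((Nat.prime_dvd_prime_iff_eq hq hp).1 (hq.dvd_of_dvd_pow (n := k) (by rw [← hk])))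
    have := Finset.card_le_card hle
    rw [Finset.card_singleton] at this
    omega
  by_cases hTN : T = N ∧ Subgroup.centralizer (N : Set G) = ⊥
  · exact h.almostSimple hTN.1 hTN.2
  exfalso
  push_neg at hsemi
  obtain ⟨a, x₀, hx₀, hx₀a, hx₀1⟩ := hsemi
  have hC : Subgroup.centralizer (N : Set G) = ⊥ := by
    by_contra hC
    exact hx₀1 (h.semiregular_of_centralizer hC (h.le hx₀) hx₀a)
  have hTN' : T ≠ N := fun e => hTN ⟨e, hC⟩
  rcases h.semiregular_or_product Ω with hs | hprod
  · exact hx₀1 (hs 1 a x₀ (by rwa [CfsgLib.Recog.conjSub_one]) hx₀a)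
  obtain ⟨t, ht, htd⟩ := h.exists_derangement ⟨x₀, hx₀, hx₀1, hx₀a⟩
  -- a second factor
  obtain ⟨g, hg⟩ : ∃ g, CfsgLib.Recog.conjSub g T ≠ T := by
    by_contra hc
    push_neg at hc
    apply hTN'
    conv_rhs => rw [← h.iSup_conj_eq]
    simp [hc]
  have hL := h.map_conj g
  obtain ⟨k, hk⟩ := hder t htd
  -- an element of the second factor of order prime to `p`
  obtain ⟨q, hq, hqp⟩ : ∃ q ∈ (Nat.card T).primeFactors, q ≠ p := by
    by_contra hc
    push_neg at hc
    have := Finset.card_le_card (fun q hq => Finset.mem_singleton.2 (hc q hq) :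
      (Nat.card T).primeFactors ⊆ {p})
    rw [Finset.card_singleton] at this
    have := h.two_lt_card_primeFactors
    omega
  obtain ⟨hqp', hqd, -⟩ := Nat.mem_primeFactors.1 hq
  haveI := Fact.mk hqp'
  obtain ⟨s, hs⟩ := exists_prime_orderOf_dvd_card' q hqd
  have hsL : g * (s : G) * g⁻¹ ∈ CfsgLib.Recog.conjSub g T := CfsgLib.Recog.conj_mem_conjSub s.2
  have hso : orderOf (g * (s : G) * g⁻¹) = q := by
    rw [← MulAut.conj_apply, MulEquiv.orderOf_eq, Subgroup.orderOf_coe, hs]
  have hcomm : Commute t (g * (s : G) * g⁻¹) :=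
    (Subgroup.mem_centralizer_iff.1 (h.le_centralizer_of_ne (Ne.symm hg) ht) _ hsL).symm
  obtain ⟨k', hk'⟩ := hder (t * (g * (s : G) * g⁻¹)) fun b hb => by
    have h1 := hprod b _ (mul_mem (h.le ht) (hL.le hsL)) hb 1
    rw [CfsgLib.Recog.conjSub_one, h.comp_mul (h.le ht) (hL.le hsL), h.comp_self ht,
      h.comp_of_ne hL (Ne.symm hg) hsL, mul_one] at h1
    exact htd b h1
  have hcop : Nat.Coprime (orderOf t) (orderOf (g * (s : G) * g⁻¹)) := by
    rw [hk, hso]
    exact ((Nat.coprime_primes hp hqp').2 (Ne.symm hqp)).pow_left _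
  rw [hcomm.orderOf_mul_eq_mul_orderOf_of_coprime hcop, hso] at hk'
  exact hqp ((Nat.prime_dvd_prime_iff_eq hqp' hp).1 (hqp'.dvd_of_dvd_pow (Dvd.intro_left _ hk')))

end Cfsg.Agent.S3556
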