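import Cfsg.Statements.S3557
import Cfsg.Agent.Lib.PGroups.Basic

set_option autoImplicit false
open Cfsg Subgroup
open scoped Pointwise commutatorElement

namespace Cfsg.Agent.S3557

section
variable {G Ω : Type*} [Group G] [MulAction G Ω]

/-- An element centralised by a transitive set fixing one point fixes all of them. -/
theorem fix_orbit {P : Subgroup G} {z : G} (hz : ∀ g ∈ P, ∀ x : Ω, g • z • x = z • g • x) {a : Ω}
    (ha : z • a = a) : ∀ x ∈ MulAction.orbit P a, z • x = x := by
  rintro x ⟨⟨g, hg⟩, rfl⟩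
  show z • g • a = g • a
  rw [← hz g hg, ha]

/-- A nontrivial normal subgroup of a finite `p`-group contains a central element of order `p`. -/
theorem exists_central {P : Type*} [Group P] [Finite P] {p : ℕ} [Fact p.Prime] (hP : IsPGroup p P)
    (K : Subgroup P) [K.Normal] (hK : K ≠ ⊥) :
    ∃ z ∈ K, z ∈ Subgroup.center P ∧ orderOf z = p := by
  have h := CfsgLib.PGroups.inf_center_ne_bot hP hK
  haveI := (Subgroup.nontrivial_iff_ne_bot _).2 h
  obtain ⟨n, hn⟩ := IsPGroup.iff_card.1 (hP.to_subgroup (K ⊓ Subgroup.center P))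
  have hd : p ∣ Nat.card ↥(K ⊓ Subgroup.center P) := by
    rw [hn]
    refine dvd_pow_self p fun h0 => ?_
    rw [h0, pow_zero] at hn
    exact (Finite.one_lt_card (α := ↥(K ⊓ Subgroup.center P))).ne' hn
  obtain ⟨z, hz⟩ := exists_prime_orderOf_dvd_card' p hd
  exact ⟨z, (Subgroup.mem_inf.1 z.2).1, (Subgroup.mem_inf.1 z.2).2, by rw [Subgroup.orderOf_coe, hz]⟩

/-- The kernel on an orbit. -/
def ker (P : Subgroup G) (a : Ω) : Subgroup P where
  carrier := {g | ∀ x ∈ MulAction.orbit P a, g • x = x}
  mul_mem' {g h} hg hh x hx := by rw [mul_smul, hh x hx, hg x hx]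
  one_mem' x _ := one_smul _ x
  inv_mem' {g} hg x hx := by rw [inv_smul_eq_iff, hg x hx]

instance ker_normal (P : Subgroup G) (a : Ω) : (ker P a).Normal :=
  ⟨fun g hg h x hx => by
    rw [mul_smul, mul_smul, hg (h⁻¹ • x) ((MulAction.mem_orbit_symm).1 (MulAction.mem_orbit_symm.2
      (MulAction.mem_orbit_of_mem_orbit h⁻¹ hx))), smul_inv_smul]⟩

theorem central_comm {P : Subgroup G} {z : P} (hz : z ∈ Subgroup.center P) :
    ∀ g ∈ P, ∀ x : Ω, g • (z : G) • x = (z : G) • g • x := fun g hg x => by
  have h := congrArg Subtype.val (Subgroup.mem_center_iff.1 hz ⟨g, hg⟩)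
  rw [smul_smul, smul_smul]
  exact congrArg (· • x) h

/-- The case of two orbits, the kernel on the second being trivial. -/
theorem two_orbits [Finite G] [Finite Ω] [FaithfulSMul G Ω] {p : ℕ} [Fact p.Prime]
    (hcl : ∀ σ : Equiv.Perm Ω, (∀ a b : Ω, ∃ g : G, σ a = g • a ∧ σ b = g • b) → ∃ g : G, ∀ a : Ω, σ a = g • a)
    (P : Subgroup G) (hP : IsPGroup p P) (a b : Ω)
    (ha : Nat.card (MulAction.orbit P a) = p ^ 2) (hb : Nat.card (MulAction.orbit P b) = p ^ 2)
    (hcov : ∀ x : Ω, x ∈ MulAction.orbit P a ∨ x ∈ MulAction.orbit P b)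
    (hdis : ∀ x : Ω, x ∈ MulAction.orbit P a → x ∉ MulAction.orbit P b)
    (hka : ker P a ≠ ⊥) (hkb : ker P b = ⊥) :
    ∃ g : G, orderOf g = p ∧ ∀ ω : Ω, g • ω ≠ ω := by
  classical
  have hp : p.Prime := Fact.out
  obtain ⟨z, hzK, hzc, hzo⟩ := exists_central hP (ker P a) hka
  have hz1 : z ≠ 1 := fun h => hp.ne_one (by rw [← hzo, h, orderOf_one])
  have hzb : ∀ x ∈ MulAction.orbit P b, (z : G) • x ≠ x := fun x hx h => by
    have : z ∈ ker P b := fun w hw =>
      fix_orbit (central_comm hzc) h w (by rwa [MulAction.orbit_eq_iff.2 hx])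
    rw [hkb] at this
    exact hz1 this
  set H : Subgroup P := ker P a ⊔ MulAction.stabilizer P b with hH
  have hsi : (MulAction.stabilizer P b).index = p ^ 2 := by
    rw [MulAction.index_stabilizer]; exact hb
  have hHi : H.index ∣ p := by
    have hlt : MulAction.stabilizer P b < H := lt_of_le_of_ne le_sup_right fun h => by
      have : z ∈ MulAction.stabilizer P b := h ▸ Subgroup.mem_sup_left hzK
      exact hzb b (MulAction.mem_orbit_self b) this
    have hmul := Subgroup.relIndex_mul_index hlt.le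
    rw [hsi] at hmul
    obtain ⟨i, hi, hii⟩ := (Nat.dvd_prime_pow hp).1 (Dvd.intro_left _ hmul)
    have : i ≠ 2 := fun e => by
      rw [hii, e] at hmul
      have h1 := Nat.eq_of_mul_eq_mul_right (pow_pos hp.pos 2) (hmul.trans (one_mul _).symm)
      exact hlt.not_ge (Subgroup.relIndex_eq_one.1 h1)
    rw [hii]
    exact (pow_dvd_pow p (show i ≤ 1 by omega)).trans (by rw [pow_one])
  haveI : H.Normal := by
    rcases (Nat.dvd_prime hp).1 hHi with h | h
    · rw [Subgroup.index_eq_one.1 h]; infer_instance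
    · obtain ⟨n, hn⟩ := IsPGroup.iff_card.1 hP
      refine Subgroup.normal_of_index_eq_minFac_card ?_
      have hn0 : n ≠ 0 := fun e => by
        have := H.card_mul_index
        rw [hn, e, pow_zero, h] at this
        exact hp.ne_one (Nat.eq_one_of_mul_eq_one_left this)
      rw [h, hn, Nat.pow_minFac hn0, hp.minFac_eq]
  have hstab : ∀ x ∈ MulAction.orbit P b, MulAction.stabilizer P x ≤ H := by
    rintro x ⟨g, rfl⟩
    intro s hs
    have h' : g⁻¹ * s * g ∈ MulAction.stabilizer P b := by
      show (g⁻¹ * s * g) • b = b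
      rw [mul_smul, mul_smul, show s • g • b = g • b from hs, inv_smul_smul]
    have := Subgroup.Normal.conj_mem ‹H.Normal› _ (show g⁻¹ * s * g ∈ H from Subgroup.mem_sup_right h') g
    simpa [mul_assoc] using this
  have hdec : ∀ x ∈ MulAction.orbit P b, ∀ h ∈ H, ∃ s : P, (∃ k ∈ ker P a, h = k * s) ∧ s • x = x := by
    intro x hx h hh
    have hx' := hx
    obtain ⟨g, rfl⟩ := hx
    have h1 : g⁻¹ * h * g ∈ H := by simpa using Subgroup.Normal.conj_mem ‹H.Normal› _ hh g⁻¹
    obtain ⟨k, hk, s, hs, hks⟩ := Subgroup.mem_sup_of_normal_left.1 (hH ▸ h1)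
    refine ⟨g * s * g⁻¹, ⟨g * k * g⁻¹, Subgroup.Normal.conj_mem (ker_normal P a) _ hk g, ?_⟩, ?_⟩
    · rw [show g * k * g⁻¹ * (g * s * g⁻¹) = g * (k * s) * g⁻¹ by group, hks]; group
    · show (g * s * g⁻¹) • g • b = g • b
      rw [mul_smul, inv_smul_smul, mul_smul, show s • b = b from hs]
  -- an element of `H` central modulo the kernel
  obtain ⟨w, hwH, hwc, hwo⟩ := exists_central (hP.to_quotient (ker P a)) (H.map (QuotientGroup.mk' (ker P a))) (by
    rw [Ne, Subgroup.map_eq_bot_iff, QuotientGroup.ker_mk']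
    intro h
    have h1 : (ker P a).index ∣ p := by
      rw [show ker P a = H from le_antisymm le_sup_left h]
      exact hHi
    have h2 : (MulAction.stabilizer P a).index ∣ p :=
      (Subgroup.index_dvd_of_le (show ker P a ≤ MulAction.stabilizer P a from
        fun k hk => hk a (MulAction.mem_orbit_self a))).trans h1
    rw [MulAction.index_stabilizer, show (MulAction.orbit P a).ncard = p ^ 2 from ha] at h2
    have := Nat.le_of_dvd hp.pos h2
    nlinarith [hp.two_le])
  obtain ⟨h, hhH, rfl⟩ := hwH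
  have hhp : h ^ p ∈ ker P a := by
    rw [← QuotientGroup.eq_one_iff, ← QuotientGroup.mk'_apply, map_pow, ← hwo, pow_orderOf_eq_one]
  have hha : ∀ x ∈ MulAction.orbit P a, h • x ≠ x := by
    intro x hx hfix
    have : h ∈ ker P a := by
      intro y hy
      obtain ⟨g, rfl⟩ := (MulAction.orbit_eq_iff.2 hx).symm ▸ hy
      have hc := Subgroup.mem_center_iff.1 hwc (QuotientGroup.mk' _ g)
      rw [← map_mul, ← map_mul] at hc
      have hmem : (g * h)⁻¹ * (h * g) ∈ ker P a := QuotientGroup.eq.1 hc
      calc h • g • x = (g * h) • ((g * h)⁻¹ * (h * g)) • x := by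
            rw [smul_smul, smul_smul]; congr 1; group
        _ = g • x := by rw [hmem x hx, mul_smul, hfix]
    have h1 : QuotientGroup.mk' (ker P a) h = 1 := (QuotientGroup.eq_one_iff h).2 this
    rw [h1, orderOf_one] at hwo
    exact hp.ne_one hwo.symm
  let f : Ω → Ω := fun x => if x ∈ MulAction.orbit P a then h • x else x
  have hf : Function.Injective f := by
    intro x y hxy
    simp only [f] at hxy
    split_ifs at hxy with h1 h2 h2
    · exact smul_left_cancel h hxy
    · exact absurd (hxy ▸ MulAction.mem_orbit_of_mem_orbit h h1) h2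
    · exact absurd (hxy.symm ▸ MulAction.mem_orbit_of_mem_orbit h h2) h1
    · exact hxy
  let σ : Equiv.Perm Ω := Equiv.ofBijective f ⟨hf, Finite.surjective_of_injective hf⟩
  have hσa : ∀ x ∈ MulAction.orbit P a, σ x = h • x := fun x hx => if_pos hx
  have hσb : ∀ x ∈ MulAction.orbit P b, σ x = x := fun x hx => if_neg fun h' => hdis x h' hx
  obtain ⟨g, hg⟩ := hcl σ fun x y => by
    have key : ∀ u ∈ MulAction.orbit P a, ∀ v ∈ MulAction.orbit P b,
        ∃ g : G, σ u = g • u ∧ σ v = g • v := by
      intro u hu v hv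
      obtain ⟨s, ⟨k, hk, hks⟩, hs⟩ := hdec v hv h hhH
      refine ⟨s, ?_, ?_⟩
      · rw [hσa u hu, hks, mul_smul]
        exact hk _ (MulAction.mem_orbit_of_mem_orbit s hu)
      · rw [hσb v hv]; exact hs.symm
    rcases hcov x with hx | hx <;> rcases hcov y with hy | hy
    · exact ⟨h, hσa x hx, hσa y hy⟩
    · exact key x hx y hy
    · obtain ⟨g, h1, h2⟩ := key y hy x hx; exact ⟨g, h2, h1⟩
    · exact ⟨1, by rw [hσb x hx, one_smul], by rw [hσb y hy, one_smul]⟩
  have hga : ∀ x ∈ MulAction.orbit P a, (g * z) • x = h • x := fun x hx => by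
    rw [mul_smul, show (z : G) • x = x from hzK x hx, ← hg, hσa x hx]
  have hgb : ∀ x ∈ MulAction.orbit P b, (g * z) • x = z • x := fun x hx => by
    rw [mul_smul, ← hg, show (z : G) • x = z • x from rfl,
      hσb _ (MulAction.mem_orbit_of_mem_orbit z hx)]
  have hfree : ∀ x : Ω, (g * (z : G)) • x ≠ x := fun x => by
    rcases hcov x with hx | hx
    · rw [hga x hx]; exact hha x hx
    · rw [hgb x hx]; exact hzb x hx
  have hpw : ∀ n : ℕ, ∀ x : Ω,
      (x ∈ MulAction.orbit P a → ((g * z) ^ n) • x = (h ^ n) • x) ∧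
      (x ∈ MulAction.orbit P b → ((g * z) ^ n) • x = (z ^ n) • x) := by
    intro n
    induction n with
    | zero => intro x; simp
    | succ n ih =>
      intro x
      refine ⟨fun hx => ?_, fun hx => ?_⟩
      · rw [pow_succ, pow_succ, mul_smul _ (g * (z : G)), mul_smul (h ^ n) h, hga x hx,
          (ih _).1 (MulAction.mem_orbit_of_mem_orbit h hx)]
      · rw [pow_succ, pow_succ, mul_smul _ (g * (z : G)), mul_smul (z ^ n) z, hgb x hx,
          (ih _).2 (MulAction.mem_orbit_of_mem_orbit z hx)]
  refine ⟨g * z, orderOf_eq_prime (eq_of_smul_eq_smul fun x : Ω => ?_) fun e => hfree a (by rw [e, one_smul]), hfree⟩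
  rw [one_smul]
  rcases hcov x with hx | hx
  · rw [(hpw p x).1 hx]; exact hhp x hx
  · rw [(hpw p x).2 hx, ← hzo, pow_orderOf_eq_one, one_smul]

end

/-- Let G act faithfully and transitively on a finite set with 2p² points, p a prime, and suppose G is 2-closed: every permutation of the set which, on each ordered pair of points, agrees with some element of G, is itself induced by an element of G. Then some element of G of prime order fixes no point. -/
theorem result {G Ω : Type*} [Group G] [Finite G] [MulAction G Ω] [FaithfulSMul G Ω] [Finite Ω]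
    (htrans : MulAction.IsPretransitive G Ω) (p : ℕ) (hp : p.Prime) (hcard : Nat.card Ω = 2 * p ^ 2)
    (hcl : ∀ σ : Equiv.Perm Ω, (∀ a b : Ω, ∃ g : G, σ a = g • a ∧ σ b = g • b) → ∃ g : G, ∀ a : Ω, σ a = g • a) :
    ∃ g : G, (orderOf g).Prime ∧ ∀ ω : Ω, g • ω ≠ ω := by
  haveI := Fact.mk hp
  haveI := htrans
  obtain ⟨P⟩ : Nonempty (Sylow p G) := inferInstance
  haveI : Nonempty Ω := (Nat.card_pos_iff.1 (by rw [hcard]; exact Nat.mul_pos two_pos (pow_pos hp.pos 2))).1
  have hdvd : ∀ x : Ω, p ^ 2 ∣ Nat.card (MulAction.orbit (P : Subgroup G) x) := by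
    intro x
    obtain ⟨i, hi⟩ := P.isPGroup'.index (MulAction.stabilizer (P : Subgroup G) x)
    have h2 : Nat.card (MulAction.orbit (P : Subgroup G) x) = p ^ i := by
      rw [← hi, MulAction.index_stabilizer]; rfl
    rw [h2]
    refine pow_dvd_pow p (Nat.le_of_not_lt fun hlt => ?_)
    have h3 : (MulAction.stabilizer G x).index ∣
        ((MulAction.stabilizer (P : Subgroup G) x).map (P : Subgroup G).subtype).index :=
      Subgroup.index_dvd_of_le (by rintro _ ⟨g, hg, rfl⟩; exact hg)
    rw [Subgroup.index_map_subtype, hi, MulAction.index_stabilizer_of_transitive, hcard] at h3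
    have h4 : p ^ 2 ∣ p ^ i * (P : Subgroup G).index := (Dvd.intro_left 2 rfl).trans h3
    rcases (show i = 0 ∨ i = 1 by omega) with rfl | rfl
    · rw [pow_zero, one_mul] at h4
      exact P.not_dvd_index ((dvd_pow_self p two_ne_zero).trans h4)
    · rw [pow_one, pow_two] at h4
      exact P.not_dvd_index (Nat.dvd_of_mul_dvd_mul_left hp.pos h4)
  obtain ⟨a⟩ := ‹Nonempty Ω›
  set O1 := MulAction.orbit (P : Subgroup G) a
  have hle : ∀ x : Ω, p ^ 2 ≤ Nat.card (MulAction.orbit (P : Subgroup G) x) := fun x =>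
    Nat.le_of_dvd (Nat.card_pos_iff.2 ⟨⟨⟨x, MulAction.mem_orbit_self x⟩⟩, inferInstance⟩) (hdvd x)
  have hPnt : ∀ x : Ω, ker (P : Subgroup G) x ≠ ⊤ := by
    intro x h
    have h1 : MulAction.orbit (P : Subgroup G) x ⊆ {x} := by
      rintro _ ⟨g, rfl⟩
      exact (h ▸ Subgroup.mem_top g : g ∈ ker _ x) x (MulAction.mem_orbit_self x)
    have := (hle x).trans ((Set.ncard_le_ncard h1).trans (Set.ncard_singleton x).le)
    nlinarith [hp.two_le]
  by_cases htr : ∀ x : Ω, x ∈ O1
  · -- one orbit
    have hne : (⊤ : Subgroup (P : Subgroup G)) ≠ ⊥ := fun h => hPnt a ((eq_bot_iff.2 (le_top.trans h.le)).trans h.symm)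
    obtain ⟨z, -, hzc, hzo⟩ := exists_central P.isPGroup' ⊤ hne
    refine ⟨(z : G), by rw [Subgroup.orderOf_coe, hzo]; exact hp, fun x hx => ?_⟩
    have h1 : (z : G) = 1 := eq_of_smul_eq_smul fun y : Ω => by
      rw [one_smul]
      exact fix_orbit (central_comm hzc) hx y (by rw [MulAction.orbit_eq_iff.2 (htr x)]; exact htr y)
    exact hp.ne_one (by rw [← hzo, ← Subgroup.orderOf_coe, h1, orderOf_one])
  · push Not at htr
    obtain ⟨b, hb⟩ := htr
    set O2 := MulAction.orbit (P : Subgroup G) b
    have hdis : ∀ x : Ω, x ∈ O1 → x ∉ O2 := fun x h1 h2 => hb (by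
      have e := (MulAction.orbit_eq_iff.2 h2).symm.trans (MulAction.orbit_eq_iff.2 h1)
      show b ∈ MulAction.orbit (P : Subgroup G) a
      rw [← e]; exact MulAction.mem_orbit_self b)
    have hu : (O1 ∪ O2).ncard = O1.ncard + O2.ncard :=
      Set.ncard_union_eq (Set.disjoint_left.2 hdis) (Set.toFinite _) (Set.toFinite _)
    have hle' : (O1 ∪ O2).ncard ≤ 2 * p ^ 2 := hcard ▸ Set.ncard_le_card _
    have h1 : p ^ 2 ≤ O1.ncard := hle a
    have h2 : p ^ 2 ≤ O2.ncard := hle b
    have hun : O1 ∪ O2 = Set.univ :=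
      Set.eq_of_subset_of_ncard_le (Set.subset_univ _) (by rw [Set.ncard_univ, hcard]; omega) (Set.toFinite _)
    have ha2 : Nat.card O1 = p ^ 2 := by
      show O1.ncard = p ^ 2
      omega
    have hb2 : Nat.card O2 = p ^ 2 := by
      show O2.ncard = p ^ 2
      omega
    have hcov : ∀ x : Ω, x ∈ O1 ∨ x ∈ O2 := fun x => (hun.symm ▸ Set.mem_univ x : x ∈ O1 ∪ O2)
    suffices h : ∃ g : G, orderOf g = p ∧ ∀ ω : Ω, g • ω ≠ ω by
      obtain ⟨g, hg, hg'⟩ := h
      exact ⟨g, hg.symm ▸ hp, hg'⟩
    by_cases hka : ker (P : Subgroup G) a = ⊥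
    · by_cases hkb : ker (P : Subgroup G) b = ⊥
      · have hne : (⊤ : Subgroup (P : Subgroup G)) ≠ ⊥ := fun h => hPnt a ((eq_bot_iff.2 (le_top.trans h.le)).trans h.symm)
        obtain ⟨z, -, hzc, hzo⟩ := exists_central P.isPGroup' ⊤ hne
        refine ⟨(z : G), by rw [Subgroup.orderOf_coe, hzo], fun x hx => hp.ne_one ?_⟩
        rw [← hzo, orderOf_eq_one_iff]
        rcases hcov x with h | h
        · have : z ∈ ker (P : Subgroup G) a := fun w hw =>
            fix_orbit (central_comm hzc) hx w (by rwa [MulAction.orbit_eq_iff.2 h])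
          rwa [hka] at this
        · have : z ∈ ker (P : Subgroup G) b := fun w hw =>
            fix_orbit (central_comm hzc) hx w (by rwa [MulAction.orbit_eq_iff.2 h])
          rwa [hkb] at this
      · exact two_orbits hcl _ P.isPGroup' b a hb2 ha2 (fun x => (hcov x).symm) (fun x h h' => hdis x h' h) hkb hka
    · by_cases hkb : ker (P : Subgroup G) b = ⊥
      · exact two_orbits hcl _ P.isPGroup' a b ha2 hb2 hcov hdis hka hkb
      · obtain ⟨u, huK, huc, huo⟩ := exists_central P.isPGroup' (ker (P : Subgroup G) a) hka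
        obtain ⟨v, hvK, hvc, hvo⟩ := exists_central P.isPGroup' (ker (P : Subgroup G) b) hkb
        have hfree : ∀ x : Ω, (((u * v : (P : Subgroup G))) : G) • x ≠ x := by
          intro x hx
          rcases hcov x with h | h
          · have hvx : (v : G) • x = x := by
              have e : u • (v • x) = v • x := huK _ (MulAction.mem_orbit_of_mem_orbit v h)
              have : (u * v) • x = x := hx
              rwa [mul_smul, e] at this
            apply hp.ne_one
            rw [← hvo, ← Subgroup.orderOf_coe, orderOf_eq_one_iff]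
            refine eq_of_smul_eq_smul fun y : Ω => ?_
            rw [one_smul]
            rcases hcov y with hy | hy
            · exact fix_orbit (central_comm hvc) hvx y (by rwa [MulAction.orbit_eq_iff.2 h])
            · exact hvK y hy
          · have hux : (u : G) • x = x := by
              have : (u * v) • x = x := hx
              rwa [mul_smul, hvK x h] at this
            apply hp.ne_one
            rw [← huo, ← Subgroup.orderOf_coe, orderOf_eq_one_iff]
            refine eq_of_smul_eq_smul fun y : Ω => ?_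
            rw [one_smul]
            rcases hcov y with hy | hy
            · exact huK y hy
            · exact fix_orbit (central_comm huc) hux y (by rwa [MulAction.orbit_eq_iff.2 h])
        refine ⟨((u * v : (P : Subgroup G)) : G), ?_, hfree⟩
        rw [Subgroup.orderOf_coe]
        refine orderOf_eq_prime ?_ fun e => hfree a (by rw [e, OneMemClass.coe_one, one_smul])
        rw [(show Commute u v from (Subgroup.mem_center_iff.1 huc v).symm).mul_pow]
        rw [orderOf_dvd_iff_pow_eq_one.1 huo.dvd, orderOf_dvd_iff_pow_eq_one.1 hvo.dvd, mul_one]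


end Cfsg.Agent.S3557
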