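import Cfsg.Statements.S3560
import Cfsg.Agent.Lib.Recog.HammingAction

set_option autoImplicit false
open Cfsg

namespace Cfsg.Agent.S3560

/-- Let K be a finite group isomorphic to a direct product of r ≥ 2 groups all of the same order m ≥ 3. Then K is not a B-group: there is a primitive but not doubly transitive permutation group (on some finite set) containing a regular subgroup isomorphic to K. -/
theorem result {K : Type*} [Group K] [Finite K] {ι : Type*} [Fintype ι] (F : ι → Type*) [∀ i, Group (F i)]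
    (hr : 2 ≤ Fintype.card ι) (m : ℕ) (hm : 3 ≤ m) (hcard : ∀ i, Nat.card (F i) = m) (e : K ≃* (∀ i, F i)) :
    ∃ (n : ℕ) (G R : Subgroup (Equiv.Perm (Fin n))), R ≤ G ∧ Nonempty (↥R ≃* K) ∧
      MulAction.IsPretransitive ↥R (Fin n) ∧ (∀ a : Fin n, MulAction.stabilizer ↥R a = ⊥) ∧
      MulAction.IsPreprimitive ↥G (Fin n) ∧ ¬ MulAction.IsMultiplyPretransitive ↥G (Fin n) 2 := by
  classical
  haveI : NeZero m := ⟨by omega⟩
  haveI : ∀ i, Finite (F i) := fun i => Nat.finite_of_card_ne_zero (by rw [hcard]; omega)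
  let φ : ∀ i, F i ≃ ZMod m := fun i =>
    (Finite.equivFinOfCardEq (hcard i)).trans (ZMod.finEquiv m).toEquiv
  let ψ := Finite.equivFin K
  let Θ : Fin (Nat.card K) ≃ (ι → ZMod m) :=
    ψ.symm.trans (e.toEquiv.trans (Equiv.piCongrRight φ))
  let ρ : K →* Equiv.Perm (Fin (Nat.card K)) :=
    ψ.permCongrHom.toMonoidHom.comp (MulAction.toPermHom K K)
  have hρ : ∀ k a, ρ k a = ψ (k * ψ.symm a) := fun k a => rfl
  have hinj : Function.Injective ρ := fun k l h => by
    have h1 := congrArg (fun f : Equiv.Perm (Fin (Nat.card K)) => f (ψ 1)) h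
    simpa [hρ] using h1
  refine ⟨Nat.card K, CfsgLib.Recog.hammingGroup Θ, ρ.range, ?_, ⟨(MonoidHom.ofInjective hinj).symm⟩,
    ⟨fun a b => ⟨⟨_, ψ.symm b * (ψ.symm a)⁻¹, rfl⟩, ?_⟩⟩, fun a => ?_,
    CfsgLib.Recog.hammingGroup_isPreprimitive Θ hm, CfsgLib.Recog.hammingGroup_not_two_transitive Θ (by omega) hr⟩
  · rintro _ ⟨k, rfl⟩
    have h : ρ k = Θ.trans ((Equiv.piCongrRight fun i =>
        (φ i).symm.trans ((Equiv.mulLeft (e k i)).trans (φ i))).trans Θ.symm) := by
      refine Equiv.ext fun a => Θ.injective ?_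
      rw [hρ]
      funext i
      simp [Θ, Pi.map_apply]
    rw [h]
    exact CfsgLib.Recog.piCongrRight_mem Θ _
  · change ρ (ψ.symm b * (ψ.symm a)⁻¹) a = b
    rw [hρ, inv_mul_cancel_right, Equiv.apply_symm_apply]
  · refine (Subgroup.eq_bot_iff_forall _).2 ?_
    rintro ⟨_, k, rfl⟩ hk
    have h1 : ψ (k * ψ.symm a) = a := hk
    rw [← Equiv.eq_symm_apply, mul_eq_right] at h1
    subst h1
    exact Subtype.ext (map_one ρ)

end Cfsg.Agent.S3560
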