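import Cfsg.Statements.S3571
import Cfsg.Agent.Lib.Perm.AltDerangement
import Cfsg.Agent.Lib.KnownA.AutAlt


set_option autoImplicit false
set_option linter.style.haveILetI false
open Cfsg
open scoped Pointwise

namespace Cfsg.Agent.S3571

/-- Let G be an almost simple group whose socle is an alternating group of degree m ≥ 5 (G has a normal subgroup T isomorphic to that alternating group with trivial centralizer), acting faithfully and primitively on a finite set Ω with at least two points, and let r be the largest prime divisor of the number of points. Then G contains an element of order r fixing no point. -/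
theorem result {G Ω : Type*} [Group G] [Finite G] [MulAction G Ω] [FaithfulSMul G Ω] [Finite Ω]
    (T : Subgroup G) (hT : T.Normal) (hTc : Subgroup.centralizer (T : Set G) = ⊥) (m : ℕ) (hm : 5 ≤ m)
    (eT : ↥T ≃* ↥(alternatingGroup (Fin m))) (hprim : MulAction.IsPreprimitive G Ω) (hΩ : 2 ≤ Nat.card Ω)
    (r : ℕ) (hr : r.Prime) (hrd : r ∣ Nat.card Ω) (hmax : ∀ s : ℕ, s.Prime → s ∣ Nat.card Ω → s ≤ r) :
    ∃ g : G, orderOf g = r ∧ ∀ ω : Ω, g • ω ≠ ω := by
  classical
  haveI := hT
  haveI := hprim
  haveI : Nontrivial Ω := Finite.one_lt_card_iff_nontrivial.1 (by omega)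
  have hm' : Fintype.card (Fin m) = m := Fintype.card_fin m
  have hT1 : T ≠ ⊥ := by
    intro e
    have h1 : Nat.card ↥T = 1 := by rw [e, Subgroup.card_bot]
    rw [Nat.card_congr eT.toEquiv] at h1
    haveI : Nontrivial (alternatingGroup (Fin m)) := alternatingGroup.nontrivial_of_three_le_card (by rw [Nat.card_fin]; omega)
    exact absurd h1 (Finite.one_lt_card (α := alternatingGroup (Fin m))).ne'
  haveI : MulAction.IsPretransitive ↥T Ω := by
    refine MulAction.IsQuasiPreprimitive.isPretransitive_of_normal (G := G) fun e => hT1 ?_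
    refine (Subgroup.eq_bot_iff_forall _).2 fun t ht => FaithfulSMul.eq_of_smul_eq_smul (α := Ω) fun ω => ?_
    have hω : ω ∈ MulAction.fixedPoints ↥T Ω := e ▸ Set.mem_univ ω
    rw [one_smul]
    exact hω ⟨t, ht⟩
  obtain ⟨ω⟩ : Nonempty Ω := inferInstance
  set H := MulAction.stabilizer ↥T ω with hH
  set K := H.map eT.toMonoidHom with hK
  have hidx : K.index = Nat.card Ω := by
    rw [hK, ← MulAction.index_stabilizer_of_transitive ↥T (x := ω)]
    exact Subgroup.index_map_equiv H eT
  have hKtop : K ≠ ⊤ := fun e => by rw [e, Subgroup.index_top] at hidx; omega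
  have hMco : IsCoatom (MulAction.stabilizer G ω) := (MulAction.isCoatom_stabilizer_iff_preprimitive (G := G) (X := Ω) ω).2 hprim
  obtain ⟨x, hx, hxc⟩ := CfsgLib.Perm.AltDerange.exists_no_conj (by omega) K hKtop hr (hidx ▸ hrd)
    (fun s hs hsd => hmax s hs (hidx ▸ hsd)) (fun h6 a hbig hne => by
      set Δ := MulAction.orbit K a with hΔ
      set P := (MulAction.stabilizer (alternatingGroup (Fin m)) Δ).comap eT.toMonoidHom with hP
      have hKP : K ≤ MulAction.stabilizer (alternatingGroup (Fin m)) Δ := by
        intro w hw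
        rw [MulAction.mem_stabilizer_iff]
        exact MulAction.smul_orbit (⟨w, hw⟩ : K) a
      have hconj : ∀ g ∈ MulAction.stabilizer G ω, ∀ p ∈ P, MulAut.conjNormal g p ∈ P := by
        intro g hg p hp
        let ψ : MulAut (alternatingGroup (Fin m)) := (eT.symm.trans (MulAut.conjNormal g)).trans eT
        obtain ⟨σ, hσ⟩ := CfsgLib.KnownA.exists_conj_aut (by omega) h6 ψ
        have hψ : ∀ w, ((ψ w : alternatingGroup (Fin m)) : Equiv.Perm (Fin m)) = σ * w * σ⁻¹ := fun w => by
          rw [← hσ, MulAut.conjNormal_apply]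
        have hψK : ∀ w ∈ K, ψ w ∈ K := by
          rintro _ ⟨h, hh, rfl⟩
          refine ⟨MulAut.conjNormal g h, ?_, by simp [ψ]⟩
          show MulAut.conjNormal g h • ω = ω
          have hgi : g⁻¹ • ω = ω := by rw [inv_smul_eq_iff]; exact hg.symm
          rw [Subgroup.smul_def, MulAut.conjNormal_apply, mul_smul, mul_smul, hgi,
            show (h : G) • ω = ω from hh]
          exact hg
        have hsub : σ '' Δ ⊆ MulAction.orbit K (σ a) := by
          rintro _ ⟨_, ⟨w, rfl⟩, rfl⟩
          refine ⟨⟨ψ w.1, hψK _ w.2⟩, ?_⟩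
          show ((ψ w.1 : alternatingGroup (Fin m)) : Equiv.Perm (Fin m)) (σ a) = σ (((w.1 : Equiv.Perm (Fin m))) a)
          rw [hψ, Equiv.Perm.mul_apply, Equiv.Perm.mul_apply, Equiv.Perm.inv_def, Equiv.symm_apply_apply]
        have hcard : (σ '' Δ).ncard = Δ.ncard := Set.ncard_image_of_injective _ σ.injective
        obtain ⟨z, hz1, hz2⟩ : (σ '' Δ ∩ Δ).Nonempty := by
          rw [Set.nonempty_iff_ne_empty]
          intro e
          have h1 := Set.ncard_union_eq (Set.disjoint_iff_inter_eq_empty.2 e) (Set.toFinite _) (Set.toFinite _)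
          have h2 := Set.ncard_le_ncard (Set.subset_univ (σ '' Δ ∪ Δ)) (Set.toFinite _)
          rw [Set.ncard_univ, Nat.card_fin, h1, hcard] at h2
          omega
        have horb : MulAction.orbit K (σ a) = Δ :=
          (MulAction.orbit_eq_iff.2 (hsub hz1)).symm.trans (MulAction.orbit_eq_iff.2 hz2)
        have hσΔ : σ '' Δ = Δ := Set.eq_of_subset_of_ncard_le (horb ▸ hsub) hcard.ge (Set.toFinite _)
        have hp' : eT p ∈ MulAction.stabilizer (alternatingGroup (Fin m)) Δ := hp
        have hp'' : ((eT p : alternatingGroup (Fin m)) : Equiv.Perm (Fin m)) '' Δ = Δ := hp'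
        show eT (MulAut.conjNormal g p) ∈ MulAction.stabilizer (alternatingGroup (Fin m)) Δ
        have e : eT (MulAut.conjNormal g p) = ψ (eT p) := by simp [ψ]
        rw [e, MulAction.mem_stabilizer_iff]
        show ((ψ (eT p) : alternatingGroup (Fin m)) : Equiv.Perm (Fin m)) '' Δ = Δ
        have hσi : (⇑σ⁻¹) '' Δ = Δ := by
          conv_lhs => rw [← hσΔ]
          rw [← Set.image_comp]
          simp
        rw [hψ, Equiv.Perm.coe_mul, Equiv.Perm.coe_mul, Set.image_comp, Set.image_comp, hσi, hp'', hσΔ]
      set M := MulAction.stabilizer G ω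
      set PG := P.map T.subtype with hPG
      have hnorm : M ≤ Subgroup.normalizer (PG : Set G) := by
        intro g hg
        rw [Subgroup.mem_normalizer_iff]
        refine fun z => ⟨?_, fun hz => ?_⟩
        · rintro ⟨p, hp, rfl⟩
          exact ⟨_, hconj g hg p hp, by simp⟩
        · obtain ⟨p, hp, e⟩ := hz
          refine ⟨MulAut.conjNormal g⁻¹ p, hconj g⁻¹ (inv_mem hg) p hp, ?_⟩
          rw [Subgroup.coe_subtype] at e
          simp [e, mul_assoc]
      have hPH : P ≤ H := by
        rcases hMco.2 (M ⊔ PG) |> fun h => (eq_or_lt_of_le (le_sup_left : M ≤ M ⊔ PG)).imp_right h with e | e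
        · intro p hp
          have h1 : (p : G) ∈ M := e ▸ Subgroup.mem_sup_right ⟨p, hp, rfl⟩
          exact h1
        · intro t _
          exfalso
          have hall : ∀ t : ↥T, t ∈ P := fun t => by
            have h1 : (t : G) ∈ ((M ⊔ PG : Subgroup G) : Set G) := by rw [e]; exact Set.mem_univ _
            rw [Subgroup.coe_mul_of_left_le_normalizer_right M PG hnorm] at h1
            obtain ⟨g, hg, _, ⟨p, hp, rfl⟩, hgp⟩ := h1
            have h2 : t * p⁻¹ ∈ H := by
              show ((t * p⁻¹ : ↥T) : G) • ω = ω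
              rw [Subgroup.coe_mul, InvMemClass.coe_inv, ← hgp, Subgroup.coe_subtype, mul_inv_cancel_right]
              exact hg
            have h3 : t * p⁻¹ ∈ P := hKP ⟨_, h2, rfl⟩
            simpa using P.mul_mem h3 hp
          refine hne (Set.eq_univ_of_forall fun z => ?_)
          haveI := alternatingGroup.isPretransitive_of_three_le_card (Fin m) (by rw [Nat.card_fin]; omega)
          obtain ⟨w, hw⟩ := MulAction.exists_smul_eq (alternatingGroup (Fin m)) a z
          have h4 : w • Δ = Δ := by
            have := hall (eT.symm w)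
            rw [hP, Subgroup.mem_comap, MulEquiv.coe_toMonoidHom, MulEquiv.apply_symm_apply] at this
            exact this
          rw [← h4, ← hw]
          exact ⟨a, MulAction.mem_orbit_self a, rfl⟩
      intro w hw
      exact ⟨eT.symm w, hPH (show eT (eT.symm w) ∈ MulAction.stabilizer (alternatingGroup (Fin m)) Δ by rw [MulEquiv.apply_symm_apply]; exact hw), by simp⟩)
  refine ⟨((eT.symm x : ↥T) : G), by rw [Subgroup.orderOf_coe, MulEquiv.orderOf_eq, hx], fun ω' hfix => ?_⟩
  obtain ⟨t, rfl⟩ := MulAction.exists_smul_eq ↥T ω ω'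
  refine hxc (eT t)⁻¹ ⟨t⁻¹ * eT.symm x * t, ?_, by simp⟩
  show (t⁻¹ * eT.symm x * t) • ω = ω
  rw [mul_smul, mul_smul, inv_smul_eq_iff]
  exact hfix

end Cfsg.Agent.S3571
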