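import Cfsg.Statements.S3575
import Cfsg.Agent.Lib.Recog.PartitionFixed

set_option autoImplicit false
open Cfsg

namespace Cfsg.Agent.S3575

open CfsgLib.Recog.PartitionFixed in
/-- Each admissible cycle number is attained iff the intervals cover `[1, (a * b) / r]`. -/
theorem every_fixes_iff (a b : ℕ) (ha : 2 ≤ a) (r : ℕ) (hr : r.Prime) (hrn : r ≤ a * b) :
    (∀ σ : Equiv.Perm (Fin (a * b)), orderOf σ = r → Fixes a b σ) ↔
      (r ≤ a ∧ (b % r) * (a % r) < r ∧ (b < r ∨ a % r ≤ (b % r) * (a / r) + 1)) := by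
  classical
  obtain ⟨q, hq⟩ : ∃ q, q = a / r := ⟨_, rfl⟩
  obtain ⟨l, hl⟩ : ∃ l, l = a % r := ⟨_, rfl⟩
  obtain ⟨Q, hQ⟩ : ∃ Q, Q = b / r := ⟨_, rfl⟩
  obtain ⟨k, hk⟩ : ∃ k, k = b % r := ⟨_, rfl⟩
  have hAeq : a = q * r + l := by rw [hq, hl, Nat.div_add_mod']
  have hBeq : b = Q * r + k := by rw [hQ, hk, Nat.div_add_mod']
  have hlr : l < r := hl ▸ Nat.mod_lt a hr.pos
  have hkr : k < r := hk ▸ Nat.mod_lt b hr.pos
  have hab : a * b = (Q * a + k * q) * r + k * l := by rw [hAeq, hBeq]; ring
  have hR : ∀ c, c * r ≤ b → c * a + (b - c * r) * (a / r) = b * q + c * l := by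
    intro c hc
    obtain ⟨d, hd⟩ := Nat.exists_eq_add_of_le hc
    rw [← hq, hd, Nat.add_sub_cancel_left, hAeq]; ring
  have hcQ : ∀ c, c * r ≤ b ↔ c ≤ Q := fun c => by rw [hQ, Nat.le_div_iff_mul_le hr.pos]
  -- a permutation with `m` cycles
  have hmk : ∀ m, 1 ≤ m → m * r ≤ a * b → ∃ σ : Equiv.Perm (Fin (a * b)),
      orderOf σ = r ∧ σ.support.card = m * r := by
    intro m hm hmr
    obtain ⟨σ, hσ, hσs⟩ := exists_perm_support r hr m (a * b) hmr
    haveI : Fact r.Prime := ⟨hr⟩
    refine ⟨σ, orderOf_eq_prime hσ fun h => ?_, hσs⟩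
    rw [h, Equiv.Perm.support_one, Finset.card_empty] at hσs
    have := Nat.mul_pos hm hr.pos
    omega
  rw [← hl, ← hk, ← hq]
  constructor
  · intro h
    have hbad : ∀ m, 1 ≤ m → m * r ≤ a * b → ∃ c, c ≤ Q ∧ c * a ≤ m ∧ m ≤ b * q + c * l := by
      intro m hm hmr
      obtain ⟨σ, hσ, hσs⟩ := hmk m hm hmr
      obtain ⟨c, h1, h2, h3⟩ := fixes_bounds hr (by omega) (hσ ▸ pow_orderOf_eq_one σ) hσs (h σ hσ)
      exact ⟨c, (hcQ c).1 h1, h2, hR c h1 ▸ h3⟩
    have hra : r ≤ a := by
      by_contra hlt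
      have hq0 : q = 0 := by rw [hq]; exact Nat.div_eq_of_lt (by omega)
      obtain ⟨c, -, h2, h3⟩ := hbad 1 le_rfl (by omega)
      have hc : c = 0 := by
        by_contra hc
        have : a ≤ c * a := Nat.le_mul_of_pos_left a (by omega)
        omega
      subst hc
      rw [hq0, mul_zero, zero_mul] at h3
      omega
    refine ⟨hra, ?_, ?_⟩
    · by_contra hkl
      obtain ⟨c, h1, -, h3⟩ := hbad (Q * a + k * q + 1) (by omega) (by rw [hab, add_mul, one_mul]; omega)
      have : b * q + c * l ≤ b * q + Q * l := Nat.add_le_add_left (Nat.mul_le_mul_right l h1) _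
      have e1 : b * q + Q * l = Q * a + k * q := by rw [hAeq, hBeq]; ring
      omega
    · by_contra hne
      push Not at hne
      obtain ⟨Q', hQ'⟩ : ∃ Q', Q = Q' + 1 := ⟨Q - 1, by
        have : 1 ≤ Q := (hcQ 1).1 (by omega)
        omega⟩
      have e1 : b * q + Q' * l + l = Q * a + k * q := by rw [hAeq, hBeq, hQ']; ring
      have hlt : b * q + Q' * l + 1 < Q * a := by omega
      obtain ⟨c, h1, h2, h3⟩ := hbad (b * q + Q' * l + 1) (by omega) (by
        rw [hab]
        exact le_trans (Nat.mul_le_mul_right r (by omega : b * q + Q' * l + 1 ≤ Q * a + k * q))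
          (Nat.le_add_right _ _))
      rcases Nat.lt_or_ge c Q with hcQ' | hcQ'
      · have : c * l ≤ Q' * l := Nat.mul_le_mul_right l (by omega)
        omega
      · have : Q * a ≤ c * a := Nat.mul_le_mul_right a hcQ'
        omega
  · rintro ⟨hra, hkl, hor⟩ σ hσ
    have hσr : σ ^ r = 1 := hσ ▸ pow_orderOf_eq_one σ
    obtain ⟨m, hm⟩ := dvd_card_support hr hσr
    replace hm : σ.support.card = m * r := hm.trans (Nat.mul_comm r m)
    have hmax : m * r ≤ a * b := by
      rw [← hm]
      exact le_trans σ.support.card_le_univ (by rw [Fintype.card_fin])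
    have hm0 : m ≤ Q * a + k * q := by
      by_contra hlt
      have : (Q * a + k * q + 1) * r ≤ m * r := Nat.mul_le_mul_right r (by omega)
      rw [add_mul, one_mul] at this
      omega
    have key : ∀ c, c * r ≤ b → c * a ≤ m → m ≤ b * q + c * l → Fixes a b σ := by
      intro c hc h1 h2
      have h3 : m - c * a ≤ (b - c * r) * (a / r) := by have := hR c hc; omega
      obtain ⟨τ, hτ, hτs, hfix⟩ := exists_fixes a b r c (m - c * a) hr hc h3 (n := a * b) rfl
      rw [Nat.add_sub_cancel' h1] at hτs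
      exact hfix.of_isConj (isConj_of_support_card hr hτ hσr (hτs.trans hm.symm))
    rcases Nat.lt_or_ge (m / a) Q with hc | hc
    · have h1 : m / a * a ≤ m := Nat.div_mul_le_self m a
      have h2 : m < (m / a + 1) * a := by rw [mul_comm]; exact Nat.lt_mul_div_succ m (by omega)
      refine key (m / a) ((hcQ _).2 hc.le) h1 ?_
      have hlk : l ≤ k * q + 1 := by
        rcases hor with hbr | h
        · have hQ0 : Q = 0 := by rw [hQ]; exact Nat.div_eq_of_lt hbr
          rw [hQ0] at hc
          exact absurd hc (Nat.not_lt_zero _)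
        · exact h
      generalize m / a = u at hc h2 ⊢
      obtain ⟨d, hd⟩ : ∃ d, Q = u + 1 + d := ⟨Q - (u + 1), by omega⟩
      have e1 : b * q + u * l + l = (u + 1) * a + d * (q * r) + k * q := by
        rw [hAeq, hBeq, hd]; ring
      have := Nat.zero_le (d * (q * r))
      omega
    · refine key Q ((hcQ Q).2 le_rfl) ?_ ?_
      · exact le_trans (Nat.mul_le_mul_right a hc) (Nat.div_mul_le_self m a)
      · have e1 : b * q + Q * l = Q * a + k * q := by rw [hAeq, hBeq]; ring
        omega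

/-- Let a, b ≥ 2 and consider the symmetric group of degree a·b acting on the partitions of an (a·b)-set into b parts of size a (encoded as maps onto a b-element set all of whose fibres have a elements; a permutation fixes such a partition when it permutes the fibres). Let r be a prime dividing the number (ab)!/((a!)^b·b!) of such partitions, and let ℓ and k be the remainders of a and b modulo r. Then every permutation of order r fixes some such partition if and only if r ≤ a and one of the following holds: ℓ = 0; or k = 0 and ℓ = 1; or ℓ and k are non-zero, k·ℓ < r, and either b < r or (k + r)·ℓ ≤ k·a + r. -/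
theorem result (a b : ℕ) (ha : 2 ≤ a) (hb : 2 ≤ b) (r : ℕ) (hr : r.Prime)
    (hrd : r ∣ (a * b).factorial / (a.factorial ^ b * b.factorial)) :
    (∀ σ : Equiv.Perm (Fin (a * b)), orderOf σ = r →
        ∃ f : Fin (a * b) → Fin b, (∀ j : Fin b, Nat.card {x : Fin (a * b) // f x = j} = a) ∧
          ∃ π : Equiv.Perm (Fin b), ∀ x : Fin (a * b), f (σ x) = π (f x)) ↔
      (r ≤ a ∧ (a % r = 0 ∨ (b % r = 0 ∧ a % r = 1) ∨
        (a % r ≠ 0 ∧ b % r ≠ 0 ∧ (b % r) * (a % r) < r ∧ (b < r ∨ (b % r + r) * (a % r) ≤ (b % r) * a + r)))) := by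
  have hrn : r ≤ a * b := by
    have h1 : r ∣ (a * b).factorial :=
      hrd.trans (Nat.div_dvd_of_dvd (Dvd.intro_left (Nat.uniformBell b a) (by
        rw [← mul_assoc, Nat.uniformBell_mul_eq b (by omega), mul_comm a b])))
    exact (Nat.Prime.dvd_factorial hr).1 h1
  refine (every_fixes_iff a b ha r hr hrn).trans ?_
  constructor
  · rintro ⟨hra, hkl, hor⟩
    refine ⟨hra, ?_⟩
    rcases Nat.eq_zero_or_pos (a % r) with hl | hl
    · exact Or.inl hl
    rcases Nat.eq_zero_or_pos (b % r) with hk | hk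
    · refine Or.inr (Or.inl ⟨hk, ?_⟩)
      rcases hor with h | h
      · rw [Nat.mod_eq_of_lt h] at hk; omega
      · rw [hk, zero_mul] at h; omega
    refine Or.inr (Or.inr ⟨by omega, by omega, hkl, hor.imp_right fun h => ?_⟩)
    calc (b % r + r) * (a % r) = (b % r) * (a % r) + r * (a % r) := by ring
      _ ≤ (b % r) * (a % r) + r * ((b % r) * (a / r) + 1) := by gcongr
      _ = (b % r) * (a / r * r + a % r) + r := by ring
      _ = (b % r) * a + r := by rw [Nat.div_add_mod']
  · rintro ⟨hra, hcase⟩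
    refine ⟨hra, ?_⟩
    rcases hcase with hl | ⟨hk, hl⟩ | ⟨-, -, hkl, hor⟩
    · exact ⟨by rw [hl, mul_zero]; exact hr.pos, Or.inr (by omega)⟩
    · exact ⟨by rw [hk, zero_mul]; exact hr.pos, Or.inr (by omega)⟩
    refine ⟨hkl, hor.imp_right fun h => ?_⟩
    refine Nat.le_of_mul_le_mul_left ?_ hr.pos
    have e1 : (b % r) * a + r = (b % r) * (a % r) + r * ((b % r) * (a / r) + 1) := by
      conv_lhs => rw [← Nat.div_add_mod' a r]
      ring
    rw [e1, add_mul] at h
    exact Nat.le_of_add_le_add_left h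

end Cfsg.Agent.S3575
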