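import Cfsg.Statements.S3580
import Cfsg.Agent.Lib.Perm.PraegerSylow

set_option autoImplicit false
open Cfsg

namespace Cfsg.Agent.S3580

/-- Let G act faithfully and transitively on a finite set Ω, let p be an odd prime dividing the order of G and P a Sylow p-subgroup of G. Then the number of orbits of P on Ω is at most (p/(2p − 1))·(number of points). -/
theorem result {G Ω : Type*} [Group G] [Finite G] [MulAction G Ω] [FaithfulSMul G Ω] [Finite Ω]
    (htrans : MulAction.IsPretransitive G Ω) (p : ℕ) [Fact p.Prime] (hp2 : p ≠ 2) (hpG : p ∣ Nat.card G)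
    (P : Sylow p G) :
    (2 * p - 1) * Nat.card (MulAction.orbitRel.Quotient ↥(P : Subgroup G) Ω) ≤ p * Nat.card Ω := by
  classical
  haveI := Fintype.ofFinite Ω
  set K : Subgroup G := CfsgLib.Perm.Praeger.genBy p (⊤ : Subgroup G) with hKdef
  have hsylK : CfsgLib.Perm.Praeger.syl p K = CfsgLib.Perm.Praeger.syl p (⊤ : Subgroup G) :=
    CfsgLib.Perm.Praeger.syl_genBy _
  have hKgen : K ≤ CfsgLib.Perm.Praeger.genBy p K :=
    CfsgLib.Perm.Praeger.genBy_mono_syl hsylK.ge
  have hKn : ∀ a : Ω, ¬ K ≤ MulAction.stabilizer G a := by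
    intro a hle
    have hbot : K = ⊥ := by
      refine (Subgroup.eq_bot_iff_forall K).2 fun x hx => ?_
      refine FaithfulSMul.eq_of_smul_eq_smul (α := Ω) fun b => ?_
      obtain ⟨g, rfl⟩ := MulAction.exists_smul_eq G a b
      have h1 : g⁻¹ * x * g ∈ K := by
        rw [← CfsgLib.Perm.Praeger.mem_cj, hKdef, ← CfsgLib.Perm.Praeger.genBy_cj,
          CfsgLib.Perm.Praeger.cj_eq_self (Subgroup.mem_top g)]
        exact hx
      have h2 := hle h1
      rw [MulAction.mem_stabilizer_iff, mul_smul, mul_smul, inv_smul_eq_iff] at h2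
      rw [one_smul]; exact h2
    have hPK : (P : Subgroup G) ≤ K := CfsgLib.Perm.Praeger.le_genBy le_top
    rw [hbot, le_bot_iff] at hPK
    exact P.ne_bot_of_dvd_card hpG hPK
  set f : ℕ := (Finset.univ.filter fun a : Ω => (P : Subgroup G) ≤ MulAction.stabilizer G a).card
    with hf
  have hconst : ∀ Q : Sylow p G,
      (Finset.univ.filter fun a : Ω => (Q : Subgroup G) ≤ MulAction.stabilizer G a).card = f := by
    intro Q
    obtain ⟨g, rfl⟩ := MulAction.exists_smul_eq G P Q
    refine (Finset.card_bij (fun a _ => g • a) ?_ ?_ ?_).symm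
    · intro a ha
      rw [Finset.mem_filter] at ha ⊢
      refine ⟨Finset.mem_univ _, fun y hy => ?_⟩
      rw [CfsgLib.Perm.Praeger.coe_smul_eq, CfsgLib.Perm.Praeger.mem_cj] at hy
      have h := ha.2 hy
      rw [MulAction.mem_stabilizer_iff, mul_smul, mul_smul, inv_smul_eq_iff] at h
      rw [MulAction.mem_stabilizer_iff]; exact h
    · intro a _ b _ h; exact smul_left_cancel g h
    · intro b hb
      refine ⟨g⁻¹ • b, ?_, smul_inv_smul g b⟩
      rw [Finset.mem_filter] at hb ⊢
      refine ⟨Finset.mem_univ _, fun y hy => ?_⟩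
      have h1 : g * y * g⁻¹ ∈ ((g • P : Sylow p G) : Subgroup G) := by
        rw [CfsgLib.Perm.Praeger.coe_smul_eq, CfsgLib.Perm.Praeger.mem_cj]
        simpa [mul_assoc] using hy
      have h := hb.2 h1
      rw [MulAction.mem_stabilizer_iff, mul_smul, mul_smul] at h
      rw [MulAction.mem_stabilizer_iff]
      exact eq_inv_smul_iff.2 h
  have hfix : (2 * p - 1) * f ≤ (p - 1) * Fintype.card Ω := by
    set S := CfsgLib.Perm.Praeger.syl p K with hS
    have hSpos : 0 < S.card :=
      Finset.card_pos.2 ⟨P, CfsgLib.Perm.Praeger.mem_syl.2 (CfsgLib.Perm.Praeger.le_genBy le_top)⟩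
    have hsum : ∑ a : Ω, (CfsgLib.Perm.Praeger.syl p (MulAction.stabilizer G a ⊓ K)).card =
        S.card * f := by
      have h1 : ∀ a : Ω, CfsgLib.Perm.Praeger.syl p (MulAction.stabilizer G a ⊓ K) =
          S.filter fun Q : Sylow p G => (Q : Subgroup G) ≤ MulAction.stabilizer G a := by
        intro a; ext Q; simp [hS, CfsgLib.Perm.Praeger.mem_syl, and_comm]
      simp_rw [h1, Finset.card_filter]
      rw [Finset.sum_comm]
      calc ∑ Q ∈ S, ∑ a : Ω, (if (Q : Subgroup G) ≤ MulAction.stabilizer G a then 1 else 0)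
          = ∑ _Q ∈ S, f := Finset.sum_congr rfl fun Q _ => by rw [← Finset.card_filter, hconst Q]
        _ = S.card * f := by simp
    have hle : (2 * p - 1) * (S.card * f) ≤ Fintype.card Ω * ((p - 1) * S.card) := by
      rw [← hsum, Finset.mul_sum]
      refine (Finset.sum_le_card_nsmul _ _ ((p - 1) * S.card) fun a _ => ?_).trans (by simp)
      exact CfsgLib.Perm.Praeger.bound K hKgen (MulAction.stabilizer G a) (hKn a)
    refine Nat.le_of_mul_le_mul_left ?_ hSpos
    calc S.card * ((2 * p - 1) * f) = (2 * p - 1) * (S.card * f) := by ring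
      _ ≤ Fintype.card Ω * ((p - 1) * S.card) := hle
      _ = S.card * ((p - 1) * Fintype.card Ω) := by ring
  haveI := Fintype.ofFinite (MulAction.orbitRel.Quotient ↥(P : Subgroup G) Ω)
  set O := MulAction.orbitRel.Quotient ↥(P : Subgroup G) Ω with hO
  have hsize : ∀ q : O, p ≤ Nat.card q.orbit + (p - 1) * (if Nat.card q.orbit = 1 then 1 else 0) := by
    intro q
    obtain ⟨a, rfl⟩ := Quotient.exists_rep q
    have hp1 := (Fact.out : p.Prime).one_lt
    rw [show MulAction.orbitRel.Quotient.orbit (Quotient.mk'' a) = MulAction.orbit (P : Subgroup G) a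
      from MulAction.orbitRel.Quotient.orbit_mk a]
    obtain ⟨n, hn⟩ := P.isPGroup'.card_orbit a
    rw [hn]
    rcases Nat.eq_zero_or_pos n with h | h
    · subst h; simp; omega
    · have h2 : p ≤ p ^ n := Nat.le_self_pow h.ne' p
      omega
  have hones : (Finset.univ.filter fun q : O => Nat.card q.orbit = 1).card ≤ f := by
    refine Finset.card_le_card_of_injOn (fun q => Quotient.out q) ?_ ?_
    · intro q hq
      rw [Finset.mem_coe, Finset.mem_filter] at hq
      rw [Finset.mem_coe, Finset.mem_filter]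
      refine ⟨Finset.mem_univ _, fun y hy => ?_⟩
      have h1 : Subsingleton ↥q.orbit := (Nat.card_eq_one_iff_unique.1 hq.2).1
      have ha : Quotient.out q ∈ q.orbit := by
        rw [MulAction.orbitRel.Quotient.mem_orbit]
        exact Quotient.out_eq' q
      have hb : (⟨y, hy⟩ : (P : Subgroup G)) • Quotient.out q ∈ q.orbit := by
        rw [MulAction.orbitRel.Quotient.mem_orbit] at ha ⊢
        refine Eq.trans ?_ ha
        exact Quotient.sound' (MulAction.mem_orbit _ _)
      exact congrArg Subtype.val (@Subsingleton.elim _ h1 ⟨_, hb⟩ ⟨_, ha⟩)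
    · intro a _ b _ h
      exact Quotient.out_injective h
  have hcardΩ : Fintype.card Ω = ∑ q : O, Nat.card q.orbit := by
    rw [← Nat.card_eq_fintype_card,
      Nat.card_congr (MulAction.selfEquivSigmaOrbits' (↥(P : Subgroup G)) Ω), Nat.card_sigma]
  have hcount : p * Fintype.card O ≤ Fintype.card Ω + (p - 1) * f := by
    calc p * Fintype.card O = ∑ _q : O, p := by simp [mul_comm]
      _ ≤ ∑ q : O, (Nat.card q.orbit + (p - 1) * (if Nat.card q.orbit = 1 then 1 else 0)) :=
          Finset.sum_le_sum fun q _ => hsize q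
      _ ≤ Fintype.card Ω + (p - 1) * f := by
          rw [Finset.sum_add_distrib, ← hcardΩ, ← Finset.mul_sum, ← Finset.card_filter]
          exact Nat.add_le_add_left (Nat.mul_le_mul_left _ hones) _
  rw [Nat.card_eq_fintype_card, Nat.card_eq_fintype_card]
  have hp1 : 1 ≤ p := (Fact.out : p.Prime).one_lt.le
  obtain ⟨r, hr⟩ := Nat.exists_eq_add_of_le hp1
  rw [show 2 * p - 1 = 2 * r + 1 by omega] at hfix ⊢
  rw [show p - 1 = r by omega] at hfix hcount
  subst hr
  refine Nat.le_of_mul_le_mul_left ?_ (show 0 < 1 + r by omega)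
  calc (1 + r) * ((2 * r + 1) * Fintype.card O)
      = (2 * r + 1) * ((1 + r) * Fintype.card O) := by ring
    _ ≤ (2 * r + 1) * (Fintype.card Ω + r * f) := Nat.mul_le_mul_left _ hcount
    _ = (2 * r + 1) * Fintype.card Ω + r * ((2 * r + 1) * f) := by ring
    _ ≤ (2 * r + 1) * Fintype.card Ω + r * (r * Fintype.card Ω) :=
        Nat.add_le_add_left (Nat.mul_le_mul_left _ hfix) _
    _ = (1 + r) * ((1 + r) * Fintype.card Ω) := by ring

end Cfsg.Agent.S3580
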