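import Cfsg.Statements.S3592
import Cfsg.Agent.Lib.Small.Order7920Recog

set_option autoImplicit false
open Cfsg

namespace Cfsg.Agent.S3592

/-- Let M be the Mathieu group M₁₁ (order 7920). If a finite group G has the same order as M and the same set of values of the function 'number of elements of order n' (taken over the element orders n that occur), then G is isomorphic to M. -/
theorem result {G : Type*} [Group G] [Finite G]
    (hcard : Nat.card G = Nat.card ↥Cfsg.Spor.M11)
    (hnse : {c : ℕ | 0 < c ∧ ∃ n : ℕ, c = Nat.card {g : G // orderOf g = n}} =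
      {c : ℕ | 0 < c ∧ ∃ n : ℕ, c = Nat.card {g : ↥Cfsg.Spor.M11 // orderOf g = n}}) :
    Nonempty (G ≃* ↥Cfsg.Spor.M11) := by
  have hG : Nat.card G = 7920 := hcard.trans CfsgLib.MathieuOut.natCard_M11
  haveI := CfsgLib.Small.O7920.isSimpleGroup_of_counts hG fun n hn => by
    obtain ⟨-, m, hm⟩ := (Set.ext_iff.1 hnse _).1 ⟨hn, n, rfl⟩
    rw [hm]
    exact CfsgLib.Small.O7920.count_M11 m
  exact CfsgLib.Small.O7920.iso_M11 hG

end Cfsg.Agent.S3592
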