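import Cfsg.Statements.S3595
import Cfsg.Agent.Lib.M23Nse.Wiring
import Cfsg.Agent.Lib.M23Nse.Counts
import Cfsg.Agent.Lib.M23Nse.Local
import Cfsg.Agent.Lib.M23Nse.HeptadProof
import Cfsg.Agent.Lib.M23Nse.NearProof
import Cfsg.Agent.Lib.M23Nse.FarProof
import Cfsg.Agent.Lib.M23Nse.SteinerProof
import Cfsg.Agent.Lib.M23Nse.Target

set_option autoImplicit false
open Cfsg

namespace Cfsg.Agent.S3595

/-- Let M be the Mathieu group M₂₃ (order 10200960). If a finite group G has the same order as M and the same set of values of the function 'number of elements of order n' (taken over the element orders n that occur), then G is isomorphic to M. -/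
theorem result {G : Type*} [Group G] [Finite G]
    (hcard : Nat.card G = Nat.card ↥Cfsg.Spor.M23)
    (hnse : {c : ℕ | 0 < c ∧ ∃ n : ℕ, c = Nat.card {g : G // orderOf g = n}} =
      {c : ℕ | 0 < c ∧ ∃ n : ℕ, c = Nat.card {g : ↥Cfsg.Spor.M23 // orderOf g = n}}) :
    Nonempty (G ≃* ↥Cfsg.Spor.M23) := by
  have hK := CfsgLib.M23Nse.hyp_M23
  have hG := CfsgLib.M23Nse.hyp_of_nse hK hcard hnse
  obtain ⟨V, _, _, B, hV, hB, ⟨e⟩⟩ := CfsgLib.M23Nse.exists_steiner_equiv
    CfsgLib.M23Nse.facts CfsgLib.M23Nse.counts CfsgLib.M23Nse.heptad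
    CfsgLib.M23Nse.NearProof.near CfsgLib.M23Nse.FarProof.far CfsgLib.M23Nse.steiner hG
  obtain ⟨W, _, _, C, hW, hC, ⟨f⟩⟩ := CfsgLib.M23Nse.exists_steiner_equiv
    CfsgLib.M23Nse.facts CfsgLib.M23Nse.counts CfsgLib.M23Nse.heptad
    CfsgLib.M23Nse.NearProof.near CfsgLib.M23Nse.FarProof.far CfsgLib.M23Nse.steiner hK
  exact CfsgLib.M23Nse.nonempty_mulEquiv hV hB e hW hC f

end Cfsg.Agent.S3595
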