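import Cfsg.Statements.S3596
import Cfsg.Agent.Lib.M24Nse.Main
import Cfsg.Agent.Lib.M24Nse.Target
import Cfsg.Agent.Lib.M24Nse.Counts
import Cfsg.Agent.Lib.M24Nse.Five
import Cfsg.Agent.Lib.M24Nse.Order11520
import Cfsg.Agent.Lib.M24Nse.Seven
import Cfsg.Agent.Lib.M24Nse.Closed
import Cfsg.Agent.Lib.M24Nse.Centre
import Cfsg.Agent.Lib.M24Nse.Extra

set_option autoImplicit false
open Cfsg

namespace Cfsg.Agent.S3596

/-- Let M be the Mathieu group M₂₄ (order 244823040). If a finite group G has the same order as M and the same set of values of the function 'number of elements of order n' (taken over the element orders n that occur), then G is isomorphic to M. -/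
theorem result {G : Type*} [Group G] [Finite G]
    (hcard : Nat.card G = Nat.card ↥Cfsg.M24)
    (hnse : {c : ℕ | 0 < c ∧ ∃ n : ℕ, c = Nat.card {g : G // orderOf g = n}} =
      {c : ℕ | 0 < c ∧ ∃ n : ℕ, c = Nat.card {g : ↥Cfsg.M24 // orderOf g = n}}) :
    Nonempty (G ≃* ↥Cfsg.M24) :=
  CfsgLib.M24Nse.nonempty_mulEquiv_of_pieces CfsgLib.M24Nse.counts CfsgLib.M24Nse.seven
    CfsgLib.M24Nse.five CfsgLib.M24Nse.not_closed CfsgLib.M24Nse.centre CfsgLib.M24Nse.extra
    (CfsgLib.M24Nse.hyp_of_nse CfsgLib.M24Nse.hyp_M24 hcard hnse)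

end Cfsg.Agent.S3596
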