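import Cfsg.Statements.S3599
import Mathlib

set_option autoImplicit false
open Cfsg

namespace Cfsg.Agent.S3599

/-- The automorphisms of the additive group of a field by multiplication. -/
def act (K : Type) [Field K] (C : Subgroup Kˣ) : C →* MulAut (Multiplicative K) where
  toFun c := AddEquiv.toMultiplicative
    { toFun := fun x => ((c : Kˣ) : K) * x
      invFun := fun x => (((c : Kˣ)⁻¹ : Kˣ) : K) * x
      left_inv := fun x => by simp
      right_inv := fun x => by simp
      map_add' := fun x y => mul_add _ _ _ }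
  map_one' := by
    ext x
    show Multiplicative.ofAdd (((1 : C) : Kˣ).1 * x.toAdd) = x
    simp
  map_mul' a b := by
    ext x
    show Multiplicative.ofAdd (((a * b : C) : Kˣ).1 * x.toAdd) =
      Multiplicative.ofAdd (((a : Kˣ) : K) * (((b : Kˣ) : K) * x.toAdd))
    simp [mul_assoc]

abbrev Frob (K : Type) [Field K] (C : Subgroup Kˣ) := Multiplicative K ⋊[act K C] C

theorem act_apply {K : Type} [Field K] {C : Subgroup Kˣ} (c : C) (x : Multiplicative K) :
    (act K C c x).toAdd = ((c : Kˣ) : K) * x.toAdd := rfl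

open SemidirectProduct in
theorem pow_toAdd {K : Type} [Field K] {C : Subgroup Kˣ} (x : Frob K C) (k : ℕ) :
    (x ^ k).left.toAdd = (∑ i ∈ Finset.range k, ((x.right : Kˣ) : K) ^ i) * x.left.toAdd ∧
      (x ^ k).right = x.right ^ k := by
  induction k with
  | zero => simp
  | succ k ih =>
    refine ⟨?_, by rw [pow_succ, mul_right, ih.2, pow_succ]⟩
    rw [pow_succ, mul_left, toAdd_mul, act_apply, ih.1, ih.2, Finset.sum_range_succ, add_mul]
    simp

open SemidirectProduct in
/-- For primes `p ≠ q` there is a group of order `p ^ d q` with element orders `1, p, q`, without proper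
sections of order divisible by `p q`. -/
theorem exists_frob (p q : ℕ) (hp : p.Prime) (hq : q.Prime) (hne : p ≠ q) :
    ∃ (F : Type) (_ : Group F) (_ : Fintype F) (d : ℕ), 1 ≤ d ∧ Nat.card F = p ^ d * q ∧ (d = 1 → q ∣ p - 1) ∧
      (∀ n, n ∈ Set.range (orderOf : F → ℕ) ↔ n = 1 ∨ n = p ∨ n = q) ∧
      (∀ H : Subgroup F, p ∣ Nat.card H → q ∣ Nat.card H → H = ⊤) ∧
      ∀ N : Subgroup F, N.Normal → N ≠ ⊥ → p ^ d ∣ Nat.card N := by
  haveI := Fact.mk hp
  haveI := Fact.mk hq
  have hunit : IsUnit (p : ZMod q) := by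
    rw [isUnit_iff_ne_zero, Ne, ZMod.natCast_eq_zero_iff]
    exact fun h => hne ((Nat.prime_dvd_prime_iff_eq hq hp).1 h).symm
  set d := orderOf (p : ZMod q) with hd
  have hd0 : 1 ≤ d := by
    rw [hd]
    exact (IsOfFinOrder.orderOf_pos (isOfFinOrder_iff_pow_eq_one.2 ⟨q - 1, by
      have := hq.two_le; omega, ZMod.pow_card_sub_one_eq_one hunit.ne_zero⟩))
  have hpow : ∀ e : ℕ, q ∣ p ^ e - 1 ↔ d ∣ e := fun e => by
    rw [hd, orderOf_dvd_iff_pow_eq_one, ← ZMod.natCast_eq_zero_iff,
      Nat.cast_sub (Nat.one_le_pow _ _ hp.pos), Nat.cast_pow, Nat.cast_one, sub_eq_zero]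
  let K := GaloisField p d
  haveI : Fintype K := Fintype.ofFinite _
  have hK : Nat.card K = p ^ d := GaloisField.card p d (by omega)
  have hKu : q ∣ Nat.card Kˣ := by
    rw [Nat.card_units, hK]; exact (hpow d).2 dvd_rfl
  obtain ⟨ζ, hζ⟩ := exists_prime_orderOf_dvd_card' q hKu
  let C := Subgroup.zpowers ζ
  have hC : Nat.card C = q := by rw [Nat.card_zpowers, hζ]
  have hgen : ∀ t : C, t ≠ 1 → orderOf t = q := fun t ht => by
    rcases (Nat.dvd_prime hq).1 (hC ▸ orderOf_dvd_natCard t) with h | h
    · exact absurd (orderOf_eq_one_iff.1 h) ht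
    · exact h
  haveI : Finite (Frob K C) := Finite.of_injective (fun x => (x.left, x.right)) (fun x y h => by
    exact SemidirectProduct.ext (congrArg Prod.fst h) (congrArg Prod.snd h))
  haveI : Fintype (Frob K C) := Fintype.ofFinite _
  have hcard : Nat.card (Frob K C) = p ^ d * q := by
    rw [SemidirectProduct.card, hC]
    congr 1
  -- orders
  have hv : ∀ x : Frob K C, x.right = 1 → x ^ p = 1 := fun x hx => by
    obtain ⟨h1, h2⟩ := pow_toAdd x p
    refine SemidirectProduct.ext ?_ ?_
    · apply Multiplicative.toAdd.injective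
      rw [h1, hx]
      simp [CharP.cast_eq_zero]
    · rw [h2, hx, one_pow]; rfl
  have ht : ∀ x : Frob K C, x.right ≠ 1 → orderOf x = q := fun x hx => by
    have h1 : x ^ q = 1 := by
      obtain ⟨h1, h2⟩ := pow_toAdd x q
      refine SemidirectProduct.ext ?_ ?_
      · apply Multiplicative.toAdd.injective
        have hq1 : x.right ^ q = 1 := by rw [← hgen _ hx]; exact pow_orderOf_eq_one _
        have hne1 : ((x.right : Kˣ) : K) ≠ 1 := fun h => hx (Subtype.ext (Units.ext h))
        have hg := geom_sum_mul ((x.right : Kˣ) : K) q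
        have hq2 : ((x.right : Kˣ) : K) ^ q = 1 := by
          rw [← Units.val_pow_eq_pow_val, ← Subgroup.coe_pow, hq1]; rfl
        rw [hq2, sub_self, mul_eq_zero, or_iff_left (sub_ne_zero.2 hne1)] at hg
        rw [h1, hg, zero_mul]; rfl
      · rw [h2, ← hgen _ hx, pow_orderOf_eq_one]; rfl
    exact orderOf_eq_prime h1 (fun h => hx (by rw [h]; rfl))
  -- invariant subgroups of the kernel
  have hW : ∀ (H : Subgroup (Frob K C)) (t : C), t ≠ 1 →
      (∀ a : Multiplicative K, (inl a : Frob K C) ∈ H → (inl (act K C t a) : Frob K C) ∈ H) →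
      (∃ a : Multiplicative K, a ≠ 1 ∧ (inl a : Frob K C) ∈ H) → p ^ d ∣ Nat.card H := by
    intro H t ht1 hinv ⟨a, ha1, haH⟩
    let W : Subgroup (Multiplicative K) := H.comap inl
    have hWcard : Nat.card W ∣ Nat.card H := Subgroup.card_comap_dvd_of_injective H inl inl_injective
    obtain ⟨e, he, hcardW⟩ := (Nat.dvd_prime_pow hp).1 (show Nat.card W ∣ p ^ d by
      rw [← hK]; exact Subgroup.card_subgroup_dvd_card W)
    -- `t` permutes the non-trivial elements of `W` without fixed points
    let σ : Equiv.Perm W :=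
      Equiv.ofBijective (fun w => (⟨act K C t w.1, hinv _ w.2⟩ : W))
        (Finite.injective_iff_bijective.1 fun u v h =>
          Subtype.ext ((act K C t).injective (congrArg Subtype.val h)))
    have hσ : ∀ (w : W) (k : ℕ), ((σ ^ k) w : Multiplicative K) = act K C (t ^ k) w := fun w k => by
      induction k with
      | zero => simp
      | succ k ih =>
        rw [pow_succ', Equiv.Perm.mul_apply, pow_succ', map_mul, MulAut.mul_apply, ← ih]
        rfl
    have hσq : σ ^ q = 1 := by
      ext w
      rw [hσ, ← hgen t ht1, pow_orderOf_eq_one, map_one]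
      rfl
    have hfix : ∀ w : W, σ w = w → w = 1 := fun w hw => by
      have h := congrArg (fun u : W => (u : Multiplicative K).toAdd) hw
      change ((t : Kˣ) : K) * (w : Multiplicative K).toAdd = (w : Multiplicative K).toAdd at h
      rcases mul_left_eq_self₀.1 h with h' | h'
      · exact absurd (Subtype.ext (Units.ext h')) ht1
      · exact Subtype.ext (Multiplicative.toAdd.injective h')
    classical
    haveI : Fintype W := Fintype.ofFinite _
    have hmod := Equiv.Perm.card_compl_support_modEq (n := 1) (p := q) (σ := σ) (by rwa [pow_one])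
    have hsupp : σ.supportᶜ = {1} := by
      ext w
      simp only [Finset.mem_compl, Equiv.Perm.mem_support, not_not, Finset.mem_singleton]
      refine ⟨hfix w, fun h => Subtype.ext ?_⟩
      subst h
      exact map_one (act K C t)
    rw [hsupp, Finset.card_singleton, ← Nat.card_eq_fintype_card, hcardW] at hmod
    have hde : d ∣ e := (hpow e).1 ((Nat.modEq_iff_dvd' (Nat.one_le_pow _ _ hp.pos)).1 hmod)
    have he0 : e ≠ 0 := fun h => by
      subst h
      rw [pow_zero, Subgroup.card_eq_one] at hcardW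
      exact ha1 (Subgroup.mem_bot.1 (hcardW ▸ (haH : a ∈ W)))
    have hed : e = d := by have := Nat.le_of_dvd (by omega) hde; omega
    rw [hcardW, hed] at hWcard
    exact hWcard
  refine ⟨Frob K C, inferInstance, inferInstance, d, hd0, hcard, fun h => ?_, fun n => ?_, ?_, ?_⟩
  · simpa using (hpow 1).2 (h ▸ dvd_rfl)
  · constructor
    · rintro ⟨x, rfl⟩
      by_cases hx : x.right = 1
      · rcases (Nat.dvd_prime hp).1 (orderOf_dvd_of_pow_eq_one (hv x hx)) with h | h
        · exact Or.inl h
        · exact Or.inr (Or.inl h)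
      · exact Or.inr (Or.inr (ht x hx))
    · rintro (rfl | rfl | rfl)
      · exact ⟨1, orderOf_one⟩
      · exact exists_prime_orderOf_dvd_card' _ (hcard ▸ dvd_mul_of_dvd_left (dvd_pow_self _ (by omega)) _)
      · exact exists_prime_orderOf_dvd_card' _ (hcard ▸ dvd_mul_left _ _)
  · intro H hpH hqH
    obtain ⟨v, hvo⟩ := exists_prime_orderOf_dvd_card' (G := H) p hpH
    obtain ⟨h, hho⟩ := exists_prime_orderOf_dvd_card' (G := H) q hqH
    rw [← Subgroup.orderOf_coe] at hvo hho
    have hvr : (v : Frob K C).right = 1 := by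
      by_contra hc; exact hne (hvo.symm.trans (ht _ hc))
    have hhr : (h : Frob K C).right ≠ 1 := fun hc => by
      have := orderOf_dvd_of_pow_eq_one (hv _ hc)
      rw [hho] at this
      exact hne ((Nat.prime_dvd_prime_iff_eq hq hp).1 this).symm
    have hveq : (v : Frob K C) = inl (v : Frob K C).left := SemidirectProduct.ext rfl hvr
    have hd2 := hW H _ hhr (fun a ha => by
        have := H.mul_mem (H.mul_mem h.2 ha) (H.inv_mem h.2)
        convert this using 1
        rw [eq_mul_inv_iff_mul_eq]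
        refine SemidirectProduct.ext ?_ ?_
        · apply Multiplicative.toAdd.injective
          simp [act_apply, add_comm]
        · simp)
      ⟨(v : Frob K C).left, fun hc => hp.one_lt.ne' (by rw [← hvo, hveq, hc, map_one, orderOf_one]),
        hveq ▸ v.2⟩
    refine Subgroup.eq_top_of_card_eq _ (Nat.dvd_antisymm (Subgroup.card_subgroup_dvd_card H) ?_)
    rw [hcard]
    exact Nat.Coprime.mul_dvd_of_dvd_of_dvd (((Nat.coprime_primes hp hq).2 hne).pow_left d) hd2 hqH
  · intro N hN hN1
    obtain ⟨n, hn, hn1⟩ := (Subgroup.bot_or_exists_ne_one N).resolve_left hN1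
    let t : C := ⟨ζ, Subgroup.mem_zpowers ζ⟩
    have ht1 : t ≠ 1 := fun h => hq.one_lt.ne' (by
      rw [← hζ, show ζ = 1 from congrArg Subtype.val h, orderOf_one])
    refine hW N t ht1 (fun a ha => ?_) ?_
    · rw [inl_aut]
      simpa using hN.conj_mem _ ha (inr t)
    · by_cases hr : n.right = 1
      · have hneq : n = inl n.left := SemidirectProduct.ext rfl hr
        exact ⟨n.left, fun hc => hn1 (by rw [hneq, hc, map_one]), hneq ▸ hn⟩
      · refine ⟨act K C n.right (Multiplicative.ofAdd 1) * (Multiplicative.ofAdd 1)⁻¹, fun hc => hr ?_, ?_⟩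
        · have h := congrArg Multiplicative.toAdd (mul_inv_eq_one.1 hc)
          rw [act_apply] at h
          exact Subtype.ext (Units.ext (by simpa using h))
        · have h := N.mul_mem hn (hN.conj_mem _ (N.inv_mem hn) (inl (Multiplicative.ofAdd (1 : K))))
          convert h using 1
          refine SemidirectProduct.ext ?_ ?_
          · apply Multiplicative.toAdd.injective
            simp [act_apply]
            ring
          · simp

theorem orderOf_pi {ι : Type} [Fintype ι] {F : ι → Type} [∀ i, Group (F i)] (x : ∀ i, F i)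
    (hc : Pairwise fun i j => (orderOf (x i)).Coprime (orderOf (x j))) :
    orderOf x = ∏ i, orderOf (x i) := by
  refine Nat.dvd_antisymm (orderOf_dvd_of_pow_eq_one (funext fun i => ?_)) ?_
  · rw [Pi.pow_apply, Pi.one_apply, ← orderOf_dvd_iff_pow_eq_one]
    exact Finset.dvd_prod_of_mem _ (Finset.mem_univ i)
  · refine Fintype.prod_dvd_of_isRelPrime (fun i j hij => Nat.coprime_iff_isRelPrime.1 (hc hij))
      (fun i => orderOf_dvd_of_pow_eq_one ?_)
    rw [← Pi.pow_apply, pow_orderOf_eq_one, Pi.one_apply]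

/-- A finite group is critical with respect to a set Ω of natural numbers when its set of element orders is Ω while no proper section H/N (H a subgroup, N normal in H, (H, N) ≠ (whole group, 1)) has Ω as its set of element orders. Let s ≥ 1 and let p(j,0), p(j,1) (j < s) be 2s pairwise distinct primes, and let Ω be the set of all products c(0)·…·c(s−1) with each c(j) ∈ {1, p(j,0), p(j,1)}. Then there are 2^s pairwise non-isomorphic finite groups critical with respect to Ω. -/
theorem result (s : ℕ) (hs : 1 ≤ s) (p : Fin s → Fin 2 → ℕ)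
    (hp : ∀ j i, (p j i).Prime) (hinj : ∀ j i j' i', p j i = p j' i' → j = j' ∧ i = i') :
    ∃ (G : Fin (2 ^ s) → Type) (_ : ∀ a, Group (G a)) (_ : ∀ a, Fintype (G a)),
      (∀ a b, a ≠ b → ¬ Nonempty (G a ≃* G b)) ∧
      ∀ a, Set.range (orderOf : (G a) → ℕ) = {m : ℕ | ∃ c : Fin s → ℕ, (∀ j, c j = 1 ∨ c j = p j 0 ∨ c j = p j 1) ∧ m = ∏ j, c j} ∧
      ∀ (H : Subgroup (G a)) (N : Subgroup ↥H) [N.Normal], (H ≠ ⊤ ∨ N ≠ ⊥) → Set.range (orderOf : (↥H ⧸ N) → ℕ) ≠ {m : ℕ | ∃ c : Fin s → ℕ, (∀ j, c j = 1 ∨ c j = p j 0 ∨ c j = p j 1) ∧ m = ∏ j, c j} := by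
  classical
  have hne : ∀ j b, p j b ≠ p j (1 - b) := fun j b h => by
    have := (hinj j b j _ h).2
    revert this; fin_cases b <;> decide
  choose F instG instF d hd hcard hd1 hord hsub hnor using
    fun j b => exists_frob (p j b) (p j (1 - b)) (hp j b) (hp j _) (hne j b)
  let e : Fin (2 ^ s) ≃ (Fin s → Fin 2) := finFunctionFinEquiv.symm
  refine ⟨fun a => ∀ j, F j (e a j), fun a => inferInstance, fun a => Fintype.ofFinite _, ?_, ?_⟩
  · -- the orders differ
    rintro a b hab ⟨φ⟩
    apply hab
    apply e.injective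
    funext j
    by_contra hj
    have hcop : ∀ i, i ≠ j → ∀ k, (Nat.card (F i (e k i))).Coprime (p j (e a j)) := fun i hi k => by
      rw [hcard]
      exact Nat.Coprime.mul_left (((Nat.coprime_primes (hp _ _) (hp _ _)).2 fun h => hi (hinj _ _ _ _ h).1).pow_left _)
        ((Nat.coprime_primes (hp _ _) (hp _ _)).2 fun h => hi (hinj _ _ _ _ h).1)
    have h := Nat.card_congr φ.toEquiv
    rw [Nat.card_pi, Nat.card_pi, Fintype.prod_eq_mul_prod_compl j, Fintype.prod_eq_mul_prod_compl j] at h
    have hc : ∀ k, ((∏ i ∈ ({j} : Finset (Fin s))ᶜ, Nat.card (F i (e k i)))).Coprime (p j (e a j)) :=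
      fun k => Nat.Coprime.prod_left fun i hi => hcop i (by simpa using hi) k
    have hb : e b j = 1 - e a j := by
      revert hj; generalize e a j = u; generalize e b j = v; fin_cases u <;> fin_cases v <;> decide
    have hfac := congrArg (fun n => n.factorization (p j (e a j))) h
    have hA : ∀ k, (∏ i ∈ ({j} : Finset (Fin s))ᶜ, Nat.card (F i (e k i))).factorization (p j (e a j)) = 0 :=
      fun k => Nat.factorization_eq_zero_of_not_dvd fun h' =>
        (hp j (e a j)).ne_one (Nat.eq_one_of_dvd_coprimes (hc k) h' dvd_rfl)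
    have hpos : ∀ i u, Nat.card (F i u) ≠ 0 := fun i u => Nat.card_pos.ne'
    simp only [Nat.factorization_mul (hpos _ _) (Finset.prod_ne_zero_iff.2 fun i _ => hpos _ _),
      Finsupp.add_apply, hA, add_zero] at hfac
    have hb' : (1 : Fin 2) - (1 - e a j) = e a j := by generalize e a j = u; fin_cases u <;> decide
    have hneq := hne j (e a j)
    rw [hcard, hb, hcard, hb', Nat.factorization_mul (pow_ne_zero _ (hp _ _).ne_zero) (hp _ _).ne_zero,
      Nat.factorization_mul (pow_ne_zero _ (hp _ _).ne_zero) (hp _ _).ne_zero] at hfac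
    simp only [Finsupp.add_apply, Nat.Prime.factorization_pow (hp _ _), (hp _ _).factorization,
      Finsupp.single_eq_same, Finsupp.single_eq_of_ne hneq, add_zero, zero_add] at hfac
    -- now `d j a = 1`; symmetric for the other prime
    have h1 : p j (1 - e a j) ∣ p j (e a j) - 1 := hd1 j _ hfac
    have hA' : ∀ k, (∏ i ∈ ({j} : Finset (Fin s))ᶜ, Nat.card (F i (e k i))).factorization (p j (1 - e a j)) = 0 :=
      fun k => Nat.factorization_eq_zero_of_not_dvd fun h' => (hp j (1 - e a j)).ne_one
        (Nat.eq_one_of_dvd_coprimes (Nat.Coprime.prod_left fun i hi => by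
          rw [hcard]
          exact Nat.Coprime.mul_left (((Nat.coprime_primes (hp _ _) (hp _ _)).2 fun h => (by simpa using hi : i ≠ j) (hinj _ _ _ _ h).1).pow_left _)
            ((Nat.coprime_primes (hp _ _) (hp _ _)).2 fun h => (by simpa using hi : i ≠ j) (hinj _ _ _ _ h).1)) h' dvd_rfl)
    have hfac' := congrArg (fun n => n.factorization (p j (1 - e a j))) h
    simp only [Nat.factorization_mul (hpos _ _) (Finset.prod_ne_zero_iff.2 fun i _ => hpos _ _),
      Finsupp.add_apply, hA', add_zero] at hfac'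
    rw [hcard, hb, hcard, hb', Nat.factorization_mul (pow_ne_zero _ (hp _ _).ne_zero) (hp _ _).ne_zero,
      Nat.factorization_mul (pow_ne_zero _ (hp _ _).ne_zero) (hp _ _).ne_zero] at hfac'
    simp only [Finsupp.add_apply, Nat.Prime.factorization_pow (hp _ _), (hp _ _).factorization,
      Finsupp.single_eq_same, Finsupp.single_eq_of_ne hneq.symm, add_zero, zero_add] at hfac'
    have h2 := hd1 j (1 - e a j) hfac'.symm
    rw [hb'] at h2
    have := Nat.le_of_dvd (by have := (hp j (e a j)).two_le; omega) h1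
    have := Nat.le_of_dvd (by have := (hp j (1 - e a j)).two_le; omega) h2
    omega
  intro a
  set b := e a with hb
  have hprimes : ∀ j, ({p j (b j), p j (1 - b j)} : Set ℕ) = {p j 0, p j 1} := fun j => by
    generalize b j = u; fin_cases u <;> simp [Set.pair_comm]
  have hmem : ∀ j n, (n = 1 ∨ n = p j (b j) ∨ n = p j (1 - b j)) ↔ (n = 1 ∨ n = p j 0 ∨ n = p j 1) :=
    fun j n => or_congr_right (by have := Set.ext_iff.1 (hprimes j) n; simpa using this)
  have hdiv : ∀ i (x : F i (b i)) n, n ∣ orderOf x → n.Prime → n = p i 0 ∨ n = p i 1 := by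
    intro i x n hn hnp
    rcases (hmem i _).1 ((hord i (b i) _).1 ⟨x, rfl⟩) with h | h | h
    · rw [h, Nat.dvd_one] at hn; exact absurd hn hnp.ne_one
    · left; rw [h] at hn; exact (Nat.prime_dvd_prime_iff_eq hnp (hp _ _)).1 hn
    · right; rw [h] at hn; exact (Nat.prime_dvd_prime_iff_eq hnp (hp _ _)).1 hn
  constructor
  · ext m
    constructor
    · rintro ⟨x, rfl⟩
      refine ⟨fun j => orderOf (x j), fun j => (hmem j _).1 ((hord j (b j) _).1 ⟨x j, rfl⟩), ?_⟩
      refine orderOf_pi x fun i k hik => Nat.coprime_of_dvd fun r hr h1 h2 => hik ?_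
      rcases hdiv i _ r h1 hr with e1 | e1 <;> rcases hdiv k _ r h2 hr with e2 | e2 <;>
        exact (hinj _ _ _ _ (e1.symm.trans e2)).1
    · rintro ⟨c, hc, rfl⟩
      choose x hx using fun j => (hord j (b j) (c j)).2 ((hmem j _).2 (hc j))
      refine ⟨x, (orderOf_pi x ?_).trans (Finset.prod_congr rfl fun j _ => hx j)⟩
      intro i k hik
      refine Nat.coprime_of_dvd fun r hr h1 h2 => hik ?_
      rcases hdiv i _ r h1 hr with e1 | e1 <;> rcases hdiv k _ r h2 hr with e2 | e2 <;>
        exact (hinj _ _ _ _ (e1.symm.trans e2)).1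
  intro H N hN hprop heq
  -- all primes divide the order of the section
  have hall : ∀ j i, p j i ∣ Nat.card (H ⧸ N) := fun j i => by
    have : p j i ∈ Set.range (orderOf : (↥H ⧸ N) → ℕ) := by
      rw [heq]
      refine ⟨Function.update (fun _ => 1) j (p j i), fun k => ?_, ?_⟩
      · rcases eq_or_ne k j with rfl | hk
        · right; fin_cases i <;> simp
        · left; simp [hk]
      · rw [Fintype.prod_eq_single j (fun k hk => by simp [hk])]; simp
    obtain ⟨x, hx⟩ := this
    exact hx ▸ orderOf_dvd_natCard x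
  have hallH : ∀ j i, p j i ∣ Nat.card H := fun j i =>
    (hall j i).trans (Subgroup.card_quotient_dvd_card N)
  let π : ∀ j, (∀ i, F i (b i)) →* F j (b j) := fun j => Pi.evalMonoidHom _ j
  -- only the component `j` carries the primes of `j`
  have hproj : ∀ (K : Subgroup (∀ i, F i (b i))) j i, p j i ∣ Nat.card K → p j i ∣ Nat.card (K.map (π j)) := by
    intro K j i hdvd
    haveI := Fact.mk (hp j i)
    obtain ⟨x, hx⟩ := exists_prime_orderOf_dvd_card' (G := K) _ hdvd
    rw [← Subgroup.orderOf_coe] at hx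
    have hxj : orderOf ((x : ∀ i, F i (b i)) j) = p j i := by
      refine orderOf_eq_prime (by rw [← Pi.pow_apply, ← hx, pow_orderOf_eq_one]; rfl) fun h1 => ?_
      have hone : (x : ∀ i, F i (b i)) = 1 := funext fun k => by
        rcases eq_or_ne k j with rfl | hk
        · exact h1
        · rw [Pi.one_apply, ← orderOf_eq_one_iff]
          have hk' : orderOf ((x : ∀ i, F i (b i)) k) ∣ p j i := orderOf_dvd_of_pow_eq_one (by
            rw [← Pi.pow_apply, ← hx, pow_orderOf_eq_one]; rfl)
          rcases (Nat.dvd_prime (hp j i)).1 hk' with h | h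
          · exact h
          · rcases hdiv k _ (p j i) (by rw [h]) (hp j i) with e' | e' <;>
              exact absurd (hinj _ _ _ _ e').1.symm hk
      rw [hone, orderOf_one] at hx
      exact (hp j i).ne_one hx.symm
    rw [← hxj]
    exact (Subgroup.orderOf_mk _ (Subgroup.mem_map_of_mem (π j) x.2)).symm.dvd.trans (orderOf_dvd_natCard _)
  have hH : H = ⊤ := by
    have hHj : ∀ j, H.map (π j) = ⊤ := fun j => hsub j (b j) _ (hproj H j _ (hallH j _)) (hproj H j _ (hallH j _))
    refine Subgroup.eq_top_of_card_eq _ (Nat.dvd_antisymm (Subgroup.card_subgroup_dvd_card H) ?_)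
    rw [Nat.card_pi]
    refine Fintype.prod_dvd_of_isRelPrime (fun i k hik => Nat.coprime_iff_isRelPrime.1 ?_) fun j => ?_
    · have hco : ∀ u v, (p i u).Coprime (p k v) := fun u v =>
        (Nat.coprime_primes (hp _ _) (hp _ _)).2 fun h => hik (hinj _ _ _ _ h).1
      show Nat.Coprime (Nat.card (F i (b i))) (Nat.card (F k (b k)))
      rw [hcard, hcard]
      exact Nat.Coprime.mul_left
        (Nat.Coprime.mul_right ((hco _ _).pow _ _) ((hco _ _).pow_left _))
        (Nat.Coprime.mul_right ((hco _ _).pow_right _) (hco _ _))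
    · have := H.card_map_dvd (π j)
      rwa [hHj j, Subgroup.card_top] at this
  obtain hN1 : N ≠ ⊥ := hprop.resolve_left (not_not.2 hH)
  subst hH
  let N' : Subgroup (∀ i, F i (b i)) := N.map (⊤ : Subgroup _).subtype
  have hN' : N'.Normal := Subgroup.Normal.map hN _ (fun x => ⟨⟨x, trivial⟩, rfl⟩)
  obtain ⟨j, hj⟩ : ∃ j, N'.map (π j) ≠ ⊥ := by
    by_contra hc
    push Not at hc
    refine hN1 ((Subgroup.map_eq_bot_iff_of_injective N (Subgroup.subtype_injective _)).1 ?_)
    rw [Subgroup.eq_bot_iff_forall]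
    exact fun x hx => funext fun j => Subgroup.mem_bot.1 (hc j ▸ Subgroup.mem_map_of_mem (π j) hx)
  have h1 := hnor j (b j) _ (Subgroup.Normal.map hN' _ (fun y => ⟨Pi.mulSingle j y, by simp [π]⟩)) hj
  have h2 : p j (b j) ^ d j (b j) ∣ Nat.card N := by
    have := (h1.trans (N'.card_map_dvd (π j)))
    rwa [Subgroup.card_map_of_injective (Subgroup.subtype_injective _)] at this
  have h3 : Nat.card N * Nat.card (_ ⧸ N) = Nat.card (∀ i, F i (b i)) := by
    rw [mul_comm, ← Subgroup.card_eq_card_quotient_mul_card_subgroup, Subgroup.card_top]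
  have h4 : p j (b j) ^ (d j (b j) + 1) ∣ Nat.card (∀ i, F i (b i)) := by
    rw [← h3, pow_succ]; exact Nat.mul_dvd_mul h2 (hall j _)
  rw [Nat.card_pi, Fintype.prod_eq_mul_prod_compl j, hcard, mul_assoc, pow_succ,
    Nat.mul_dvd_mul_iff_left (Nat.pow_pos (hp _ _).pos)] at h4
  rcases (hp _ _).dvd_mul.1 h4 with h5 | h5
  · exact hne j (b j) ((Nat.prime_dvd_prime_iff_eq (hp _ _) (hp _ _)).1 h5)
  · obtain ⟨i, hi, h6⟩ := (hp j (b j)).prime.exists_mem_finset_dvd h5
    rw [hcard] at h6
    have hij : i ≠ j := by simpa using hi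
    rcases (hp _ _).dvd_mul.1 h6 with h7 | h7
    · exact hij (hinj _ _ _ _ ((Nat.prime_dvd_prime_iff_eq (hp _ _) (hp _ _)).1 ((hp _ _).dvd_of_dvd_pow h7))).1.symm
    · exact hij (hinj _ _ _ _ ((Nat.prime_dvd_prime_iff_eq (hp _ _) (hp _ _)).1 h7)).1.symm

end Cfsg.Agent.S3599
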