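import Cfsg.Statements.S3600
import Cfsg.Agent.S3433
import Cfsg.Agent.Lib.Recog.OrdersFive.Critical
import Cfsg.Agent.Lib.Recog.SL2Four
import Cfsg.Agent.Lib.Classical.Order
import Cfsg.Agent.Lib.Recog.AltSpectrum

set_option autoImplicit false
open Cfsg

namespace Cfsg.Agent.S3600

/-- A finite group is critical with respect to a set Ω of natural numbers when its set of element orders is Ω while no proper section has Ω as its set of element orders. A finite group critical with respect to {1, 2, 3, 4, 5} (the set of element orders of the alternating group of degree 6) is isomorphic either to the alternating group of degree 6 or to the affine group F² ⋊ SL(2,F) over the field F with four elements (realised as the matrices of SL(3,F) with last row (0, 0, 1)). -/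
theorem result {G : Type*} [Group G] [Finite G]
    (hcrit : Set.range (orderOf : G → ℕ) = ({1, 2, 3, 4, 5} : Set ℕ) ∧
      ∀ (H : Subgroup G) (N : Subgroup ↥H) [N.Normal], (H ≠ ⊤ ∨ N ≠ ⊥) → Set.range (orderOf : (↥H ⧸ N) → ℕ) ≠ ({1, 2, 3, 4, 5} : Set ℕ)) :
    Nonempty (G ≃* alternatingGroup (Fin 6)) ∨
      ∃ (F : Type) (_ : Field F) (_ : Fintype F), Fintype.card F = 4 ∧
        Nonempty (G ≃* ↥(Subgroup.closure {M : Matrix.SpecialLinearGroup (Fin 3) F |
          (M : Matrix (Fin 3) (Fin 3) F) 2 0 = 0 ∧ (M : Matrix (Fin 3) (Fin 3) F) 2 1 = 0 ∧ (M : Matrix (Fin 3) (Fin 3) F) 2 2 = 1})) := by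
  classical
  obtain ⟨hrange, hcr⟩ := hcrit
  have hset : ({1, 2, 3, 4, 5} : Set ℕ) = {k : ℕ | 1 ≤ k ∧ k ≤ 5} := by
    ext k
    simp only [Set.mem_insert_iff, Set.mem_singleton_iff]
    exact ⟨fun hk => ⟨by omega, by omega⟩, fun ⟨h1, h2⟩ => by omega⟩
  have hle : CfsgLib.Recog.OrdersFive.LeFive G := fun g =>
    ((hrange.trans hset).le ⟨g, rfl⟩ : orderOf g ∈ {k : ℕ | 1 ≤ k ∧ k ≤ 5}).2
  rcases Cfsg.Agent.S3433.result (hrange.trans hset) with h | ⟨N, hN, hel, ⟨e⟩⟩
  · exact Or.inl h
  letI : Fintype (GaloisField 2 2) := Fintype.ofFinite _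
  have hF : Fintype.card (GaloisField 2 2) = 4 := by
    rw [← Nat.card_eq_fintype_card, GaloisField.card 2 2 (by norm_num)]
    rfl
  refine Or.inr ⟨GaloisField 2 2, inferInstance, inferInstance, hF, ?_⟩
  haveI := hN
  -- every proper quotient by a subgroup of `N` has all five element orders unless it is `A₅`
  have hmin : ∀ D : Subgroup G, D.Normal → D ≤ N → D ≠ ⊥ → D = N := by
    intro D hD hDN hne
    haveI := hD
    by_contra hne'
    set E := N.map (QuotientGroup.mk' D)
    haveI : E.Normal := hN.map _ (QuotientGroup.mk'_surjective D)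
    have hEel : Cfsg.IsElementaryAbelian 2 E := by
      refine ⟨⟨⟨?_⟩⟩, ?_⟩
      · rintro ⟨_, a, ha, rfl⟩ ⟨_, b, hb, rfl⟩
        refine Subtype.ext ?_
        show QuotientGroup.mk' D a * QuotientGroup.mk' D b = _ * _
        rw [← map_mul, ← map_mul]
        exact congrArg _ (congrArg Subtype.val (hel.1.is_comm.comm (⟨a, ha⟩ : N) ⟨b, hb⟩))
      · rintro _ ⟨a, ha, rfl⟩
        rw [← map_pow, hel.2 a ha, map_one]
    have hEne : E ≠ ⊥ := by
      rw [Ne, Subgroup.map_eq_bot_iff, QuotientGroup.ker_mk']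
      exact fun hND => hne' (le_antisymm hDN hND)
    have hqD := hle.quotient D
    obtain ⟨g₄, hg₄⟩ := CfsgLib.Recog.OrdersFive.exists_four hqD E hEel hEne
      ((QuotientGroup.quotientQuotientEquivQuotient D N hDN).trans e)
    -- the section `G / D`
    set D' := D.subgroupOf (⊤ : Subgroup G)
    let φ : ↥(⊤ : Subgroup G) ⧸ D' ≃* G ⧸ D := QuotientGroup.congr D' D Subgroup.topEquiv (by
      ext x
      simp [D', Subgroup.mem_map, Subgroup.mem_subgroupOf])
    refine hcr ⊤ D' (Or.inr ?_) ?_
    · rw [Ne, Subgroup.subgroupOf_eq_bot, disjoint_iff, inf_top_eq]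
      exact hne
    rw [← CfsgLib.Recog.orderOf_equiv_range φ.symm]
    refine Set.Subset.antisymm ?_ ?_
    · rintro _ ⟨g, rfl⟩
      rw [hset]
      exact ⟨orderOf_pos g, hqD g⟩
    · have hns : ¬ Group.IsSolvable (G ⧸ D) := fun hs => by
        haveI := hs
        haveI : Group.IsSolvable (alternatingGroup (Fin 5)) := Group.isSolvable_of_surjective
          (f := (((QuotientGroup.quotientQuotientEquivQuotient D N hDN).trans e).toMonoidHom.comp
            (QuotientGroup.mk' E)))
          (((QuotientGroup.quotientQuotientEquivQuotient D N hDN).trans e).surjective.comp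
            (QuotientGroup.mk'_surjective E))
        exact CfsgLib.Recog.OrdersFive.not_isSolvable_five inferInstance
      obtain ⟨h2, h3, h5⟩ := hqD.dvd_of_not_solvable hns
      haveI : Fact (Nat.Prime 2) := ⟨Nat.prime_two⟩
      haveI : Fact (Nat.Prime 3) := ⟨Nat.prime_three⟩
      haveI : Fact (Nat.Prime 5) := ⟨by norm_num⟩
      intro k hk
      simp only [Set.mem_insert_iff, Set.mem_singleton_iff] at hk
      rcases hk with rfl | rfl | rfl | rfl | rfl
      · exact ⟨1, orderOf_one⟩
      · exact exists_prime_orderOf_dvd_card' 2 h2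
      · exact exists_prime_orderOf_dvd_card' 3 h3
      · exact ⟨g₄, hg₄⟩
      · exact exists_prime_orderOf_dvd_card' 5 h5
  have hne : N ≠ ⊥ := by
    intro hb
    obtain ⟨g, hg⟩ : (4 : ℕ) ∈ Set.range (orderOf : G → ℕ) := by rw [hrange]; simp
    let f : G ≃* alternatingGroup (Fin 5) :=
      ((QuotientGroup.quotientMulEquivOfEq hb).trans QuotientGroup.quotientBot).symm.trans e
    rw [← f.orderOf_eq] at hg
    have h2 := CfsgLib.Recog.OrdersFive.five_no_four (f g) (hg ▸ pow_orderOf_eq_one (f g))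
    have := Nat.le_of_dvd (by norm_num) (orderOf_dvd_of_pow_eq_one (x := f g) (n := 2) (by rw [pow_two]; exact h2))
    omega
  obtain ⟨e₁⟩ := CfsgLib.Recog.OrdersFive.equiv_model hle N hel hne hmin e
  obtain ⟨e₂⟩ := CfsgLib.Recog.OrdersFive.affine_equiv_model (F := GaloisField 2 2) hF
  exact ⟨e₁.trans e₂.symm⟩

end Cfsg.Agent.S3600
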