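import Cfsg.Statements.S3611
import Cfsg.Agent.Lib.Perm.PrimeDegreeOrbits

set_option autoImplicit false
open Cfsg

namespace Cfsg.Agent.S3611

/-- Let G be an insoluble group acting faithfully and transitively on a finite set of prime size p, and suppose the normalizer of a Sylow p-subgroup of G has order p(p-1)/2. If p ≡ 3 (mod 4), then G is triply transitive, or for any two distinct points the stabilizer of both has exactly four orbits on the set (the two fixed points and exactly two orbits on the remaining p - 2 points). -/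
theorem result {G Ω : Type*} [Group G] [Finite G] [MulAction G Ω] [FaithfulSMul G Ω] [Finite Ω]
    (p : ℕ) (hp : p.Prime) (hΩ : Nat.card Ω = p) (htrans : MulAction.IsPretransitive G Ω)
    (hins : ¬ Group.IsSolvable G) (P : Sylow p G)
    (hN : 2 * Nat.card ↥(Subgroup.normalizer ((P : Subgroup G) : Set G)) = p * (p - 1))
    (hp3 : p % 4 = 3) :
    MulAction.IsMultiplyPretransitive G Ω 3 ∨
    ∀ α β : Ω, α ≠ β →
      Nat.card (MulAction.orbitRel.Quotient ↥(MulAction.stabilizer G α ⊓ MulAction.stabilizer G β) Ω) = 4 := by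
  classical
  haveI := Fact.mk hp
  haveI : Fintype Ω := Fintype.ofFinite Ω
  let φ : G →* Equiv.Perm Ω := MulAction.toPermHom G Ω
  have hφinj : Function.Injective φ := fun a b h =>
    FaithfulSMul.eq_of_smul_eq_smul fun x : Ω => congrArg (fun π : Equiv.Perm Ω => π x) h
  let f : G ≃* φ.range := φ.ofInjective hφinj
  have hf : ∀ (g : G) (x : Ω), f g • x = g • x := fun g x => rfl
  haveI : MulAction.IsPretransitive φ.range Ω := ⟨fun a b => by
    obtain ⟨g, hg⟩ := htrans.exists_smul_eq a b
    exact ⟨f g, hg⟩⟩
  have hα : Fintype.card Ω = p := by rw [← Nat.card_eq_fintype_card, hΩ]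
  have hG : ¬ Group.IsSolvable φ.range := fun h => hins (by
    haveI := h
    exact solvable_of_solvable_injective (f := f.toMonoidHom) f.injective)
  have hp5 := CfsgLib.Perm.five_le hα hG
  let P' : Sylow p φ.range := P.mapSurjective (f := f.toMonoidHom) f.surjective
  have hN' : 2 * Nat.card (Subgroup.normalizer ((P' : Subgroup φ.range) : Set φ.range)) =
      p * (p - 1) := by
    rw [← hN]
    congr 1
    rw [show (P' : Subgroup φ.range) = (P : Subgroup G).map f.toMonoidHom from rfl,
      ← Subgroup.map_equiv_normalizer_eq]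
    exact Subgroup.card_map_of_injective f.injective
  obtain ⟨σ, s, e, c, he, hc, hs⟩ := CfsgLib.PrimeHalf.exists_dilation hα (by omega) P' hN'
  have h6 := CfsgLib.PrimeHalf.card_orbits_triples_le_six hα hG σ s e he c hc hs
  have h6' : Nat.card (MulAction.orbitRel.Quotient G (Ω × Ω × Ω)) ≤ 6 := by
    refine le_trans (le_of_eq (Nat.card_congr (Quotient.congr (Equiv.refl _) fun a b => ?_))) h6
    constructor
    · rintro ⟨g, hg⟩
      exact ⟨f g, hg⟩
    · rintro ⟨⟨π, g, rfl⟩, hg⟩
      exact ⟨g, hg⟩
  have h2 : MulAction.IsMultiplyPretransitive G Ω 2 := by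
    rw [MulAction.is_two_pretransitive_iff]
    intro a b a' b' hab hab'
    obtain ⟨⟨π, g, rfl⟩, ha, hb⟩ :=
      MulAction.is_two_pretransitive_iff.1 (CfsgLib.Perm.two_transitive hα hG) hab hab'
    exact ⟨g, ha, hb⟩
  exact CfsgLib.PrimeHalf.three_transitive_or h2 fun α β h =>
    CfsgLib.PrimeHalf.card_quotient_le_four h6' h

end Cfsg.Agent.S3611
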