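import Cfsg.Statements.S3612
import Cfsg.Agent.Lib.Perm.PrimeDegreeLines

set_option autoImplicit false
open Cfsg
open scoped Pointwise

namespace Cfsg.Agent.S3612

/-- Let G be an insoluble group acting faithfully and transitively on a finite set of prime size p, and suppose the normalizer of a Sylow p-subgroup of G has order p(p-1)/2. If p > 7, then the stabilizer of a point acts primitively on the remaining p - 1 points. -/
theorem result {G Ω : Type*} [Group G] [Finite G] [MulAction G Ω] [FaithfulSMul G Ω] [Finite Ω]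
    (p : ℕ) (hp : p.Prime) (hΩ : Nat.card Ω = p) (htrans : MulAction.IsPretransitive G Ω)
    (hins : ¬ Group.IsSolvable G) (P : Sylow p G)
    (hN : 2 * Nat.card ↥(Subgroup.normalizer ((P : Subgroup G) : Set G)) = p * (p - 1))
    (hp7 : 7 < p) (α : Ω) :
    MulAction.IsPreprimitive ↥(MulAction.stabilizer G α) ↥(SubMulAction.ofStabilizer G α) := by
  classical
  have := Fact.mk hp
  have : Fintype Ω := Fintype.ofFinite Ω
  let φ : G →* Equiv.Perm Ω := MulAction.toPermHom G Ω
  have hφinj : Function.Injective φ := fun a b h =>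
    FaithfulSMul.eq_of_smul_eq_smul fun x : Ω => congrArg (fun π : Equiv.Perm Ω => π x) h
  let f : G ≃* φ.range := φ.ofInjective hφinj
  have hf : ∀ (g : G) (x : Ω), f g • x = g • x := fun g x => rfl
  have : MulAction.IsPretransitive φ.range Ω := ⟨fun a b => by
    obtain ⟨g, hg⟩ := htrans.exists_smul_eq a b
    exact ⟨f g, hg⟩⟩
  have hα : Fintype.card Ω = p := by rw [← Nat.card_eq_fintype_card, hΩ]
  have hG : ¬ Group.IsSolvable φ.range := fun h => hins (by
    have := h
    exact Group.isSolvable_of_isSolvable_injective (f := f.toMonoidHom) f.injective)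
  have hp5 := CfsgLib.Perm.five_le hα hG
  let P' : Sylow p φ.range := P.mapSurjective (f := f.toMonoidHom) f.surjective
  have hN' : 2 * Nat.card (Subgroup.normalizer ((P' : Subgroup φ.range) : Set φ.range)) =
      p * (p - 1) := by
    rw [← hN]
    congr 1
    rw [show (P' : Subgroup φ.range) = (P : Subgroup G).map f.toMonoidHom from rfl,
      ← Subgroup.map_equiv_normalizer_eq]
    exact Subgroup.card_map_of_injective f.injective
  obtain ⟨σ, s, e, c, he, hc, hs⟩ := CfsgLib.PrimeHalf.exists_dilation hα (by omega) P' hN'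
  have h2 : MulAction.IsMultiplyPretransitive G Ω 2 := by
    rw [MulAction.is_two_pretransitive_iff]
    intro a b a' b' hab hab'
    obtain ⟨⟨π, g, rfl⟩, ha, hb⟩ :=
      MulAction.is_two_pretransitive_iff.1 (CfsgLib.Perm.two_transitive hα hG) hab hab'
    exact ⟨g, ha, hb⟩
  have : MulAction.IsPretransitive ↥(MulAction.stabilizer G α) ↥(SubMulAction.ofStabilizer G α) := by
    refine ⟨fun x y => ?_⟩
    obtain ⟨g, ga, gb⟩ := MulAction.is_two_pretransitive_iff.1 h2 (Ne.symm x.2) (Ne.symm y.2)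
    exact ⟨⟨g, ga⟩, Subtype.ext gb⟩
  obtain ⟨β, hβ⟩ : ∃ β : Ω, β ≠ α := Fintype.exists_ne_of_one_lt_card (by omega) α
  refine MulAction.IsPreprimitive.of_isTrivialBlock_base (⟨β, hβ⟩ : SubMulAction.ofStabilizer G α) ?_
  intro B hβB hB
  have key := CfsgLib.PrimeHalf.stabilizer_block_trivial (G := φ.range) hα hG hp7 σ s e he c hc hs
    (α := α) (β := β) (Ne.symm hβ) (B := Subtype.val '' B)
    (fun ⟨x, _, hx⟩ => x.2 hx) ⟨⟨β, hβ⟩, hβB, rfl⟩ ?_
  · rcases key with h | h
    · refine Or.inl fun x hx y hy => Subtype.ext ?_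
      rw [h _ ⟨x, hx, rfl⟩, h _ ⟨y, hy, rfl⟩]
    · refine Or.inr (Set.eq_univ_of_forall fun x => ?_)
      obtain ⟨y, hy, hyx⟩ := h x x.2
      rwa [← Subtype.ext hyx]
  · rintro ⟨π, g, rfl⟩ hgα _ ⟨x, hx, rfl⟩ ⟨x', hx', hxx⟩ _ ⟨y, hy, rfl⟩
    let g' : ↥(MulAction.stabilizer G α) := ⟨g, hgα⟩
    have hmem : g' • x ∈ g' • B := Set.smul_mem_smul_set hx
    have heq : g' • x = x' := Subtype.ext hxx.symm
    have hBB : g' • B = B := (hB.smul_eq_or_disjoint g').resolve_right fun hd =>
      Set.disjoint_left.1 hd hmem (heq ▸ hx')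
    exact ⟨g' • y, hBB ▸ Set.smul_mem_smul_set hy, rfl⟩

end Cfsg.Agent.S3612
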