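import Cfsg.Statements.S3613
import Cfsg.Agent.Lib.Perm.PrimeTwinFive

set_option autoImplicit false
open Cfsg

namespace Cfsg.Agent.S3613

/-- Let G be an insoluble group acting faithfully and transitively on a finite set of prime size p, and suppose the normalizer of a Sylow p-subgroup of G has order p(p-1)/2. If p = q + 2 for a prime q > 5, then G is 5-fold transitive. -/
theorem result {G Ω : Type*} [Group G] [Finite G] [MulAction G Ω] [FaithfulSMul G Ω] [Finite Ω]
    (p : ℕ) (hp : p.Prime) (hΩ : Nat.card Ω = p) (htrans : MulAction.IsPretransitive G Ω)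
    (hins : ¬ Group.IsSolvable G) (P : Sylow p G)
    (hN : 2 * Nat.card ↥(Subgroup.normalizer ((P : Subgroup G) : Set G)) = p * (p - 1))
    (q : ℕ) (hq : q.Prime) (hq5 : 5 < q) (hpq : p = q + 2) :
    MulAction.IsMultiplyPretransitive G Ω 5 := by
  classical
  have := Fact.mk hp
  have := Fact.mk hq
  have : Fintype Ω := Fintype.ofFinite Ω
  let φ : G →* Equiv.Perm Ω := MulAction.toPermHom G Ω
  have hφinj : Function.Injective φ := fun a b h =>
    FaithfulSMul.eq_of_smul_eq_smul fun x : Ω => congrArg (fun π : Equiv.Perm Ω => π x) h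
  let f : G ≃* φ.range := φ.ofInjective hφinj
  have : MulAction.IsPretransitive φ.range Ω := ⟨fun a b => by
    obtain ⟨g, hg⟩ := htrans.exists_smul_eq a b
    exact ⟨f g, hg⟩⟩
  have hα : Fintype.card Ω = p := by rw [← Nat.card_eq_fintype_card, hΩ]
  have hG : ¬ Group.IsSolvable φ.range := fun h => hins (by
    have := h
    exact Group.isSolvable_of_isSolvable_injective (f := f.toMonoidHom) f.injective)
  let P' : Sylow p φ.range := P.mapSurjective (f := f.toMonoidHom) f.surjective
  have hN' : 2 * Nat.card (Subgroup.normalizer ((P' : Subgroup φ.range) : Set φ.range)) =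
      p * (p - 1) := by
    rw [← hN]
    congr 1
    rw [show (P' : Subgroup φ.range) = (P : Subgroup G).map f.toMonoidHom from rfl,
      ← Subgroup.map_equiv_normalizer_eq]
    exact Subgroup.card_map_of_injective f.injective
  have h5 := CfsgLib.PrimeHalf.five_transitive hα hG P' hN' hpq hq5
  rw [MulAction.isMultiplyPretransitive_iff] at h5 ⊢
  intro x y
  obtain ⟨⟨π, g, rfl⟩, hg⟩ := h5 x y
  exact ⟨g, Function.Embedding.ext fun i => DFunLike.congr_fun hg i⟩

end Cfsg.Agent.S3613
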