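import Cfsg.Statements.S3614
import Cfsg.Agent.Lib.Perm.PrimeTwinAlternating

set_option autoImplicit false
open Cfsg

namespace Cfsg.Agent.S3614

/-- Let G be an insoluble group acting faithfully and transitively on a finite set of prime size p, and suppose the normalizer of a Sylow p-subgroup of G has order p(p-1)/2. If p = q + 2 = 2r + 3 > 9 or p = q + 2 = 3r + 4 > 13 with q and r prime, then G is isomorphic to the alternating group of degree p. -/
theorem result {G Ω : Type*} [Group G] [Finite G] [MulAction G Ω] [FaithfulSMul G Ω] [Finite Ω]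
    (p : ℕ) (hp : p.Prime) (hΩ : Nat.card Ω = p) (htrans : MulAction.IsPretransitive G Ω)
    (hins : ¬ Group.IsSolvable G) (P : Sylow p G)
    (hN : 2 * Nat.card ↥(Subgroup.normalizer ((P : Subgroup G) : Set G)) = p * (p - 1))
    (q r : ℕ) (hq : q.Prime) (hr : r.Prime)
    (hcases : (p = q + 2 ∧ p = 2 * r + 3 ∧ 9 < p) ∨ (p = q + 2 ∧ p = 3 * r + 4 ∧ 13 < p)) :
    Nonempty (G ≃* alternatingGroup (Fin p)) := by
  classical
  have := Fact.mk hp
  have := Fact.mk hq
  have := Fact.mk hr
  have hq5 : 5 < q := by rcases hcases with h | h <;> omega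
  have hpq : p = q + 2 := by rcases hcases with h | h <;> exact h.1
  have : Fintype Ω := Fintype.ofFinite Ω
  let φ : G →* Equiv.Perm Ω := MulAction.toPermHom G Ω
  have hφinj : Function.Injective φ := fun a b h =>
    FaithfulSMul.eq_of_smul_eq_smul fun x : Ω => congrArg (fun π : Equiv.Perm Ω => π x) h
  let f : G ≃* φ.range := φ.ofInjective hφinj
  have : MulAction.IsPretransitive φ.range Ω := ⟨fun a b => by
    obtain ⟨g, hg⟩ := htrans.exists_smul_eq a b
    exact ⟨f g, hg⟩⟩
  have hα : Fintype.card Ω = p := by rw [← Nat.card_eq_fintype_card, hΩ]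
  have hG : ¬ Group.IsSolvable φ.range := fun h => hins (by
    have := h
    exact Group.isSolvable_of_isSolvable_injective (f := f.toMonoidHom) f.injective)
  let P' : Sylow p φ.range := P.mapSurjective (f := f.toMonoidHom) f.surjective
  have hN' : 2 * Nat.card (Subgroup.normalizer ((P' : Subgroup φ.range) : Set φ.range)) =
      p * (p - 1) := by
    rw [← hN]
    congr 1
    rw [show (P' : Subgroup φ.range) = (P : Subgroup G).map f.toMonoidHom from rfl,
      ← Subgroup.map_equiv_normalizer_eq]
    exact Subgroup.card_map_of_injective f.injective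
  have h5 := CfsgLib.PrimeHalf.five_transitive hα hG P' hN' hpq hq5
  have hA : alternatingGroup Ω ≤ φ.range := by
    have hr5 : 5 ≤ r := by
      have := hr.two_le
      by_contra h
      have hr4 : r ≤ 4 := by omega
      rcases hcases with h | h <;> interval_cases r <;> first | omega | norm_num at hr
    rcases hcases with ⟨-, h, -⟩ | ⟨-, h, -⟩
    · exact CfsgLib.PrimeHalf.alternating_le_of_five_transitive (r := r) (k := 2) hr5 le_rfl
        (by norm_num) (by omega) h5
    · exact CfsgLib.PrimeHalf.alternating_le_of_five_transitive (r := r) (k := 3) hr5 (by norm_num)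
        le_rfl (by omega) h5
  have heven : φ.range ≤ alternatingGroup Ω := by
    intro x hx
    by_contra hodd
    rw [Equiv.Perm.mem_alternatingGroup] at hodd
    have hx1 : Equiv.Perm.sign x = -1 := (Int.units_eq_one_or _).resolve_left hodd
    have htop : φ.range = ⊤ := by
      rw [eq_top_iff]
      intro y _
      by_cases hy : Equiv.Perm.sign y = 1
      · exact hA (Equiv.Perm.mem_alternatingGroup.2 hy)
      · have hy1 : Equiv.Perm.sign y = -1 := (Int.units_eq_one_or _).resolve_left hy
        have h := φ.range.mul_mem hx (hA (Equiv.Perm.mem_alternatingGroup.2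
          (show Equiv.Perm.sign (x⁻¹ * y) = 1 by rw [map_mul, map_inv, hx1, hy1]; rfl)))
        rwa [mul_inv_cancel_left] at h
    have hcard : Nat.card φ.range = p * ((p - 1) * (p - 2).factorial) := by
      rw [htop, Subgroup.card_top, Nat.card_perm, Nat.card_eq_fintype_card, hα,
        ← Nat.mul_factorial_pred hp.ne_zero, ← Nat.mul_factorial_pred (show p - 1 ≠ 0 by omega),
        show p - 1 - 1 = p - 2 by omega]
    set N := Nat.card (Subgroup.normalizer ((P' : Subgroup φ.range) : Set φ.range)) with hNdef
    have hn : Nat.card (Sylow p φ.range) = 2 * (p - 2).factorial := by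
      have hsy := (Subgroup.normalizer ((P' : Subgroup φ.range) : Set φ.range)).card_mul_index
      rw [← hNdef, hcard, ← mul_assoc, ← hN'] at hsy
      rw [P'.card_eq_index_normalizer]
      refine Nat.eq_of_mul_eq_mul_left (Nat.card_pos : 0 < N) ?_
      refine hsy.trans ?_
      ring
    have hmod := card_sylow_modEq_one p φ.range
    rw [hn] at hmod
    have h := (ZMod.natCast_eq_natCast_iff _ _ _).2 hmod
    have hw : ((p - 2).factorial : ZMod p) = 1 := by
      have h1 := ZMod.wilsons_lemma p
      rw [← Nat.mul_factorial_pred (show p - 1 ≠ 0 by omega), show p - 1 - 1 = p - 2 by omega,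
        Nat.cast_mul, Nat.cast_sub (by omega), ZMod.natCast_self] at h1
      push_cast at h1
      linear_combination -h1
    push_cast at h
    rw [hw] at h
    exact one_ne_zero (α := ZMod p) (by linear_combination h)
  exact ⟨f.trans ((MulEquiv.subgroupCongr (le_antisymm heven hA)).trans
    (Equiv.altCongrHom ((Fintype.equivFinOfCardEq hα))))⟩

end Cfsg.Agent.S3614
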