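import Cfsg.Statements.S3616
import Cfsg.Agent.Lib.Perm.PrimeSuccOverPSL

set_option autoImplicit false
open Cfsg

namespace Cfsg.Agent.S3616

/-- Let p > 7 be prime and let X be a finite group acting faithfully on a set of p + 1 points by even permutations. Suppose X has a proper subgroup isomorphic to PSL(2, p) that acts doubly transitively on the set (such an action is necessarily the natural one on the projective line). Then X is 4-fold transitive. -/
theorem result {X Ω : Type*} [Group X] [Finite X] [MulAction X Ω] [FaithfulSMul X Ω] [Fintype Ω] [DecidableEq Ω]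
    (p : ℕ) (hp : p.Prime) (hp7 : 7 < p) (hΩ : Fintype.card Ω = p + 1)
    (heven : ∀ x : X, Equiv.Perm.sign (MulAction.toPerm x : Equiv.Perm Ω) = 1)
    (L : Subgroup X) (hL : Nonempty (↥L ≃* Matrix.ProjectiveSpecialLinearGroup (Fin 2) (ZMod p)))
    (hLt : MulAction.IsMultiplyPretransitive ↥L Ω 2) (hLX : L ≠ ⊤) :
    MulAction.IsMultiplyPretransitive X Ω 4 := by
  classical
  have := Fact.mk hp
  obtain ⟨eL⟩ := hL
  have hsimp : IsSimpleGroup ↥L := by
    have := CfsgLib.Small.isSimple_PSL_two (F := ZMod p) (ZMod.card p) (by omega)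
    exact eL.isSimpleGroup
  refine CfsgLib.PrimeHalf.four_transitive_of_over_simple hp7 hΩ heven L hsimp ?_ hLt hLX
  rw [Nat.card_congr eL.toEquiv]
  exact CfsgLib.Small.card_PSL_two_prime (ZMod.card p) (hp.odd_of_ne_two (by omega))

end Cfsg.Agent.S3616
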