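import Cfsg.Statements.S3619

set_option autoImplicit false
open Cfsg
open scoped Pointwise

namespace Cfsg.Agent.S3619

/-- Let G act faithfully on a finite set in such a way that every non-trivial normal subgroup of G is transitive (G is quasiprimitive). Let Γ be a subset with more than one point and not the whole set, such that the pointwise stabilizer of the complement of Γ acts transitively on Γ (a Jordan set). If that pointwise stabilizer acts primitively on Γ, then G is k-fold transitive where k is one more than the number of points outside Γ (the Jordan set is a trivial one). -/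
theorem result {G Ω : Type*} [Group G] [Finite G] [MulAction G Ω] [FaithfulSMul G Ω] [Finite Ω]
    (hqp : ∀ N : Subgroup G, N.Normal → N ≠ ⊥ → MulAction.IsPretransitive ↥N Ω)
    (Γ : Set Ω) (hΓ1 : 1 < Γ.ncard) (hΓ2 : Γ.ncard < Nat.card Ω)
    (hJ : MulAction.IsPretransitive ↥(fixingSubgroup G Γᶜ) ↥(SubMulAction.ofFixingSubgroup G Γᶜ))
    (hJp : MulAction.IsPreprimitive ↥(fixingSubgroup G Γᶜ) ↥(SubMulAction.ofFixingSubgroup G Γᶜ)) :
    MulAction.IsMultiplyPretransitive G Ω (Nat.card Ω - Γ.ncard + 1) := by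
  classical
  haveI : Nonempty Ω := by
    obtain ⟨x, -⟩ := Set.nonempty_of_ncard_ne_zero (show Γ.ncard ≠ 0 by omega)
    exact ⟨x⟩
  obtain ⟨x₀, hx₀, y₀, hy₀, hxy₀⟩ := (Set.one_lt_ncard (Set.toFinite Γ)).1 hΓ1
  have hfix : ∀ h ∈ fixingSubgroup G Γᶜ, ∀ z ∉ Γ, h • z = z := fun h hh z hz =>
    (mem_fixingSubgroup_iff G).1 hh z hz
  have hmove : ∀ x ∈ Γ, ∀ y ∈ Γ, ∃ h ∈ fixingSubgroup G Γᶜ, h • x = y := by
    intro x hx y hy
    obtain ⟨h, hh⟩ := hJ.exists_smul_eq ⟨x, not_not.2 hx⟩ ⟨y, not_not.2 hy⟩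
    exact ⟨h.1, h.2, congrArg Subtype.val hh⟩
  -- the non-trivial part of the action is transitive
  haveI htr : MulAction.IsPretransitive G Ω := by
    have hne : fixingSubgroup G Γᶜ ≠ ⊥ := by
      intro h
      obtain ⟨g, hg, hgx⟩ := hmove x₀ hx₀ y₀ hy₀
      rw [h, Subgroup.mem_bot] at hg
      rw [hg, one_smul] at hgx
      exact hxy₀ hgx
    have htop : (⊤ : Subgroup G) ≠ ⊥ := fun h => hne (eq_bot_iff.2 (h ▸ le_top))
    have := hqp ⊤ inferInstance htop
    exact ⟨fun a b => (this.exists_smul_eq a b).elim fun g hg => ⟨g.1, hg⟩⟩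
  have hprim : MulAction.IsPreprimitive G Ω := by
    refine MulAction.IsPreprimitive.mk fun {B} hB => ?_
    by_contra hnt
    rw [MulAction.IsTrivialBlock, not_or, Set.not_subsingleton_iff] at hnt
    obtain ⟨hBnt, hBuniv⟩ := hnt
    -- replace `B` by the translate through `x₀`
    obtain ⟨g, hg⟩ := MulAction.exists_smul_eq G hBnt.nonempty.some x₀
    set C := g • B with hC
    have hCblock : MulAction.IsBlock G C := hB.translate g
    have hxC : x₀ ∈ C := ⟨_, hBnt.nonempty.some_mem, hg⟩
    have hCnt : C.Nontrivial := hBnt.image (MulAction.injective g)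
    have hCuniv : C ≠ Set.univ := fun h => hBuniv (by
      rw [← inv_smul_smul g B, ← hC, h, Set.smul_set_univ])
    have key : ∀ (h : fixingSubgroup G Γᶜ), ∀ z ∈ C, z ∉ Γ → h.1 • C = C := by
      intro h z hz hzΓ
      refine hCblock.smul_eq_of_mem hz ?_
      rw [hfix h.1 h.2 z hzΓ]
      exact hz
    -- `Γ` lies in `C`
    have hΓC : Γ ⊆ C := by
      intro y hy
      by_contra hyC
      obtain ⟨h, hh, hhx⟩ := hmove x₀ hx₀ y hy
      have hne : h • C ≠ C := fun he => hyC (hhx ▸ he ▸ Set.smul_mem_smul_set hxC)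
      have hsub : C ⊆ Γ := fun z hz => by_contra fun hzΓ => hne (key ⟨h, hh⟩ z hz hzΓ)
      -- `C` is a block of the primitive group on `Γ`
      let D : Set ↥(SubMulAction.ofFixingSubgroup G Γᶜ) := Subtype.val ⁻¹' C
      have hD : MulAction.IsBlock ↥(fixingSubgroup G Γᶜ) D := by
        rw [MulAction.isBlock_iff_smul_eq_of_mem]
        intro k z hz hkz
        have he : k.1 • C = C := hCblock.smul_eq_of_mem hz hkz
        ext w
        rw [Set.mem_smul_set_iff_inv_smul_mem]
        change (k.1⁻¹ • w.1 ∈ C) ↔ w.1 ∈ C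
        rw [← Set.mem_smul_set_iff_inv_smul_mem, he]
      rcases hJp.isTrivialBlock_of_isBlock hD with hs | hu
      · obtain ⟨a, ha, b, hb, hab⟩ := hCnt
        exact hab (congrArg Subtype.val (hs (x := ⟨a, not_not.2 (hsub ha)⟩) ha
          (y := ⟨b, not_not.2 (hsub hb)⟩) hb))
      · exact hyC (Set.eq_univ_iff_forall.1 hu ⟨y, not_not.2 hy⟩)
    -- the kernel of the action on the blocks
    have hstab : fixingSubgroup G Γᶜ ≤ (MulAction.stabilizer G C).normalCore := by
      intro h hh k
      rw [MulAction.mem_stabilizer_iff, mul_smul, mul_smul]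
      suffices he : h • (k⁻¹ • C) = k⁻¹ • C by rw [he, smul_inv_smul]
      rcases hCblock.smul_eq_or_disjoint k⁻¹ with he | hd
      · rw [he]
        obtain ⟨a, ha, b, hb, hab⟩ := hCnt
        by_cases hfixall : ∀ z ∈ C, z ∈ Γ
        · refine hCblock.smul_eq_of_mem hxC ?_
          by_contra hn
          exact hn (hΓC (by
            by_contra hnΓ
            have := hfix h⁻¹ (Subgroup.inv_mem _ hh) _ hnΓ
            rw [inv_smul_smul] at this
            rw [← this] at hnΓ
            exact hnΓ hx₀))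
        · push_neg at hfixall
          obtain ⟨z, hz, hzΓ⟩ := hfixall
          exact key ⟨h, hh⟩ z hz hzΓ
      · have hout : ∀ z ∈ k⁻¹ • C, h • z = z := fun z hz => hfix h hh z fun hzΓ =>
          Set.disjoint_left.1 hd hz (hΓC hzΓ)
        ext z
        constructor
        · rintro ⟨w, hw, rfl⟩
          simpa only [hout w hw] using hw
        · exact fun hz => ⟨z, hz, hout z hz⟩
    have hne : (MulAction.stabilizer G C).normalCore ≠ ⊥ := by
      intro h
      obtain ⟨g', hg', hgx⟩ := hmove x₀ hx₀ y₀ hy₀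
      have := hstab hg'
      rw [h, Subgroup.mem_bot] at this
      rw [this, one_smul] at hgx
      exact hxy₀ hgx
    have htrans := hqp _ (Subgroup.normalCore_normal _) hne
    refine hCuniv (Set.eq_univ_of_forall fun z => ?_)
    obtain ⟨⟨n, hn⟩, hnz⟩ := htrans.exists_smul_eq x₀ z
    have := Subgroup.normalCore_le _ hn
    rw [MulAction.mem_stabilizer_iff] at this
    rw [← this]
    exact ⟨x₀, hxC, hnz⟩
  have hcompl := Set.ncard_add_ncard_compl Γ
  obtain ⟨t, ht⟩ : ∃ t, Γᶜ.ncard = t + 1 := ⟨Γᶜ.ncard - 1, by omega⟩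
  have h := MulAction.IsPreprimitive.isMultiplyPreprimitive hprim ht (by omega) hJp
  have hk : Nat.card Ω - Γ.ncard + 1 = t + 2 := by omega
  rw [hk]
  exact h.isMultiplyPretransitive

end Cfsg.Agent.S3619
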