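import Cfsg.Statements.S3620
import Cfsg.Agent.Lib.Perm.Marggraf

open MulAction in
theorem even_fix_mem {α : Type*} [Fintype α] [DecidableEq α] {w a b c : α} (hab : a ≠ b) (hac : a ≠ c)
    (hbc : b ≠ c) (hwa : w ≠ a) (hwb : w ≠ b) (hwc : w ≠ c) {K : Subgroup (Equiv.Perm α)}
    (hK : ∀ u : Equiv.Perm α, Equiv.Perm.sign u = 1 → u w = w → ∀ v ∈ K, u * v * u⁻¹ ∈ K)
    (h0 : Equiv.swap a c * Equiv.swap a b ∈ K) :
    ∀ σ : Equiv.Perm α, Equiv.Perm.sign σ = 1 → σ w = w → σ ∈ K := by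
  have hcyc : (Equiv.swap a c * Equiv.swap a b).IsThreeCycle :=
    Equiv.Perm.isThreeCycle_swap_mul_swap_same hac hab (Ne.symm hbc)
  have h0w : (Equiv.swap a c * Equiv.swap a b) w = w := by
    simp [Equiv.swap_apply_of_ne_of_ne hwa hwb, Equiv.swap_apply_of_ne_of_ne hwa hwc]
  have hswap : Equiv.swap a b * (Equiv.swap a c * Equiv.swap a b) * (Equiv.swap a b)⁻¹ =
      (Equiv.swap a c * Equiv.swap a b)⁻¹ := by
    rw [mul_inv_rev, Equiv.swap_inv, Equiv.swap_inv, mul_assoc, mul_assoc, Equiv.swap_mul_self, mul_one]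
  have hthree : ∀ τ : Equiv.Perm α, τ.IsThreeCycle → τ w = w → τ ∈ K := by
    intro τ hτ hτw
    obtain ⟨g, hg⟩ := isConj_iff.1 (Equiv.Perm.isConj_iff_cycleType_eq.2 (hcyc.trans hτ.symm))
    have hgw : τ (g w) = g w := by
      rw [← hg]
      simp only [Equiv.Perm.mul_apply] at h0w ⊢
      simp [h0w]
    have hcomm : τ * Equiv.swap (g w) w * τ⁻¹ = Equiv.swap (g w) w := by
      rw [← Equiv.swap_apply_apply, hgw, hτw]
    set g' := Equiv.swap (g w) w * g with hg'
    have hg'w : g' w = w := by simp [hg']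
    have hg'τ : g' * (Equiv.swap a c * Equiv.swap a b) * g'⁻¹ = τ := by
      rw [hg', mul_inv_rev, Equiv.swap_inv,
        show ∀ s x y z : Equiv.Perm α, s * g * x * (y * z) = s * (g * x * y) * z from fun s x y z => by group,
        hg]
      have : Equiv.swap (g w) w * τ = τ * Equiv.swap (g w) w := by
        conv_lhs => rw [← hcomm]
        rw [inv_mul_cancel_right]
      rw [this, mul_assoc, Equiv.swap_mul_self, mul_one]
    rcases Int.units_eq_one_or (Equiv.Perm.sign g') with h | h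
    · rw [← hg'τ]
      exact hK g' h hg'w _ h0
    · have hs : Equiv.Perm.sign (g' * Equiv.swap a b) = 1 := by
        rw [map_mul, h, Equiv.Perm.sign_swap hab]; rfl
      have hw : (g' * Equiv.swap a b) w = w := by
        simp [Equiv.swap_apply_of_ne_of_ne hwa hwb, hg'w]
      have h1 := hK _ hs hw _ h0
      have h2 : g' * Equiv.swap a b * (Equiv.swap a c * Equiv.swap a b) * (g' * Equiv.swap a b)⁻¹ =
          τ⁻¹ := by
        rw [mul_inv_rev, show ∀ x s y : Equiv.Perm α,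
          g' * s * x * (y * g'⁻¹) = g' * (s * x * y) * g'⁻¹ from fun x s y => by group,
          hswap, ← hg'τ]
        group
      rw [h2] at h1
      exact inv_mem_iff.1 h1
  intro σ hσ hσw
  have hsub : ∀ x, σ x ≠ w ↔ x ≠ w := fun x => not_congr
    ⟨fun h => σ.injective (h.trans hσw.symm), fun h => h.symm ▸ hσw⟩
  have he : Equiv.Perm.ofSubtype (σ.subtypePerm hsub) = σ :=
    Equiv.Perm.ofSubtype_subtypePerm (p := fun x => x ≠ w) hsub fun x hx e => hx (by rw [e, hσw])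
  have hs : σ.subtypePerm hsub ∈ alternatingGroup {x // x ≠ w} := by
    rw [Equiv.Perm.mem_alternatingGroup, ← Equiv.Perm.sign_ofSubtype]
    exact (congrArg Equiv.Perm.sign he).trans hσ
  rw [← Equiv.Perm.closure_three_cycles_eq_alternating] at hs
  have hle : Subgroup.closure {τ : Equiv.Perm {x // x ≠ w} | τ.IsThreeCycle} ≤
      K.comap (Equiv.Perm.ofSubtype : Equiv.Perm {x // x ≠ w} →* Equiv.Perm α) := by
    rw [Subgroup.closure_le]
    intro τ hτ
    exact hthree _ (Equiv.Perm.cycleType_ofSubtype.trans hτ)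
      (Equiv.Perm.ofSubtype_apply_of_not_mem τ (by simp))
  have := hle hs
  rw [Subgroup.mem_comap] at this
  exact he ▸ this

set_option autoImplicit false
open Cfsg

namespace Cfsg.Agent.S3620

/-- Let G act faithfully on a finite set in such a way that every non-trivial normal subgroup of G is transitive (G is quasiprimitive). Let Γ be a subset with more than one point and fewer than half of the points, such that the pointwise stabilizer of the complement of Γ acts transitively on Γ. Then G induces every even permutation of the set (G is the alternating or the symmetric group). -/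
theorem result {G Ω : Type*} [Group G] [Finite G] [MulAction G Ω] [FaithfulSMul G Ω] [Fintype Ω] [DecidableEq Ω]
    (hqp : ∀ N : Subgroup G, N.Normal → N ≠ ⊥ → MulAction.IsPretransitive ↥N Ω)
    (Γ : Set Ω) (hΓ1 : 1 < Γ.ncard) (hΓ2 : 2 * Γ.ncard < Fintype.card Ω)
    (hJ : MulAction.IsPretransitive ↥(fixingSubgroup G Γᶜ) ↥(SubMulAction.ofFixingSubgroup G Γᶜ)) :
    ∀ σ : Equiv.Perm Ω, Equiv.Perm.sign σ = 1 → ∃ x : G, (MulAction.toPerm x : Equiv.Perm Ω) = σ := by
  classical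
  haveI : Finite G := inferInstance
  haveI := Fintype.ofFinite G
  have hn : 4 < Fintype.card Ω := by omega
  obtain ⟨x, hx, x', hx', hxx'⟩ := (Set.one_lt_ncard (Set.toFinite Γ)).1 hΓ1
  have hJ' : ∀ u ∈ Γ, ∀ v ∈ Γ, ∃ g : G, (∀ z ∉ Γ, g • z = z) ∧ g • u = v := by
    intro u hu v hv
    obtain ⟨g, hg⟩ := hJ.exists_smul_eq (⟨u, not_not.2 hu⟩) (⟨v, not_not.2 hv⟩)
    exact ⟨g.1, (mem_fixingSubgroup_iff G).1 g.2, congrArg Subtype.val hg⟩
  obtain ⟨h₀, hh₀, hh₀x⟩ := hJ' x hx x' hx'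
  have hh1 : h₀ ≠ 1 := fun e => hxx' (by rw [← hh₀x, e, one_smul])
  haveI htr : MulAction.IsPretransitive G Ω := by
    have htop := hqp ⊤ inferInstance (fun e => hh1 (Subgroup.mem_bot.1 (e ▸ Subgroup.mem_top h₀)))
    exact ⟨fun u v => by obtain ⟨g, hg⟩ := htop.exists_smul_eq u v; exact ⟨g.1, hg⟩⟩
  haveI : Nontrivial Ω := ⟨⟨x, x', hxx'⟩⟩
  suffices hprim : MulAction.IsPreprimitive G Ω by
    refine CfsgLib.Perm.Marggraf.alternating_le (Γ := Γ.toFinite.toFinset) inferInstance hprim ?_ ?_ ?_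
    · intro u hu v hv
      simp only [Set.Finite.coe_toFinset] at hu hv ⊢
      exact hJ' u hu v hv
    · rwa [← Set.ncard_eq_toFinset_card]
    · rwa [← Set.ncard_eq_toFinset_card]
  obtain ⟨M, hMc, hMx⟩ : ∃ M : Subgroup G, IsCoatom M ∧ MulAction.stabilizer G x ≤ M := by
    rcases eq_top_or_exists_le_coatom (MulAction.stabilizer G x) with h | h
    · exfalso
      obtain ⟨g, hg⟩ := MulAction.exists_smul_eq G x x'
      have : g ∈ MulAction.stabilizer G x := h ▸ Subgroup.mem_top g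
      exact hxx' ((MulAction.mem_stabilizer_iff.1 this).symm.trans hg)
    · exact h
  -- the block map
  obtain ⟨π, hπ⟩ : ∃ π : Ω → G ⧸ M, ∀ g : G, π (g • x) = (g : G ⧸ M) := by
    choose f hf using fun y => MulAction.exists_smul_eq G x y
    refine ⟨fun y => (f y : G ⧸ M), fun g => QuotientGroup.eq.2 (hMx ?_)⟩
    rw [MulAction.mem_stabilizer_iff, mul_smul, inv_smul_eq_iff, hf]
  have hπe : ∀ (g : G) (y : Ω), π (g • y) = g • π y := by
    intro g y
    obtain ⟨k, rfl⟩ := MulAction.exists_smul_eq G x y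
    rw [← mul_smul, hπ, hπ]
    rfl
  have hπs : Function.Surjective π := fun w => by
    obtain ⟨g, rfl⟩ := QuotientGroup.mk_surjective w
    exact ⟨g • x, hπ g⟩
  haveI : Fintype (G ⧸ M) := Fintype.ofFinite _
  haveI hprimQ : MulAction.IsPreprimitive G (G ⧸ M) := by
    haveI : Nontrivial (G ⧸ M) := by
      obtain ⟨g, hg⟩ : ∃ g, g ∉ M := by
        by_contra! h
        exact hMc.1 ((Subgroup.eq_top_iff' M).2 h)
      exact ⟨⟨(g : G ⧸ M), ((1 : G) : G ⧸ M),
        fun e => hg (by simpa using QuotientGroup.eq.1 e.symm)⟩⟩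
    rw [← MulAction.isCoatom_stabilizer_iff_preprimitive G ((1 : G) : G ⧸ M),
      MulAction.stabilizer_quotient]
    exact hMc
  -- the kernel is trivial
  have hfaith : ∀ g : G, (∀ w : G ⧸ M, g • w = w) → g = 1 := by
    intro g hg
    by_contra hne
    have hker : ∀ k ∈ (MulAction.toPermHom G (G ⧸ M)).ker, ∀ w : G ⧸ M, k • w = w := fun k hk w =>
      DFunLike.congr_fun (MonoidHom.mem_ker.1 hk) w
    have hmem : g ∈ (MulAction.toPermHom G (G ⧸ M)).ker := MonoidHom.mem_ker.2 (Equiv.ext hg)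
    have ht := hqp _ inferInstance
      (fun e => hne (Subgroup.mem_bot.1 (e ▸ hmem : g ∈ (⊥ : Subgroup G))))
    refine hMc.1 ((Subgroup.eq_top_iff' M).2 fun u => ?_)
    obtain ⟨k, hk⟩ := ht.exists_smul_eq x (u • x)
    have h1 := congrArg π (hk : (k : G) • x = u • x)
    rw [hπ u, show π (k • x) = (k : G) • π x from hπe _ _, hker _ k.2, show π x = ((1 : G) : G ⧸ M) by simpa using hπ 1] at h1
    simpa using QuotientGroup.eq.1 h1
  haveI : FaithfulSMul G (G ⧸ M) := ⟨fun {g k} h => by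
    have := hfaith (k⁻¹ * g) fun w => by rw [mul_smul, h, inv_smul_smul]
    rwa [inv_mul_eq_one, eq_comm] at this⟩
  -- `Γ` is a union of fibres
  have hfixw : ∀ g : G, (∀ z ∉ Γ, g • z = z) → ∀ w : G ⧸ M, (∃ z, π z = w ∧ z ∉ Γ) → g • w = w := by
    rintro g hg w ⟨z, rfl, hz⟩
    rw [← hπe, hg z hz]
  have hfib : ∀ u ∈ Γ, ∀ z, π z = π u → z ∈ Γ := by
    intro u hu z hzu
    by_contra hz
    have hconst : ∀ v ∈ Γ, π v = π u := fun v hv => by
      obtain ⟨g, hg, rfl⟩ := hJ' u hu v hv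
      rw [hπe, hfixw g hg _ ⟨z, hzu, hz⟩]
    refine hh1 (hfaith h₀ fun w => ?_)
    obtain ⟨y, rfl⟩ := hπs w
    by_cases hy : y ∈ Γ
    · rw [hconst y hy, hfixw h₀ hh₀ _ ⟨z, hzu, hz⟩]
    · exact hfixw h₀ hh₀ _ ⟨y, rfl, hy⟩
  obtain ⟨Δ, hΔ⟩ : ∃ Δ : Finset (G ⧸ M), ∀ w, w ∈ Δ ↔ ∀ z, π z = w → z ∈ Γ :=
    ⟨Finset.univ.filter fun w => ∀ z, π z = w → z ∈ Γ, fun w => by simp⟩
  have hmem : ∀ z, π z ∈ Δ ↔ z ∈ Γ := fun z =>
    ⟨fun h => (hΔ _).1 h z rfl, fun h => (hΔ _).2 (hfib z h)⟩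
  have hΔJ : CfsgLib.Perm.Marggraf.IsJordan G (Δ : Set (G ⧸ M)) := by
    intro u hu v hv
    obtain ⟨y, rfl⟩ := hπs u
    obtain ⟨y', rfl⟩ := hπs v
    obtain ⟨g, hg, rfl⟩ := hJ' y ((hmem y).1 hu) y' ((hmem y').1 hv)
    refine ⟨g, fun w hw => ?_, (hπe g y).symm⟩
    obtain ⟨z, rfl⟩ := hπs w
    exact hfixw g hg _ ⟨z, rfl, fun h => hw ((hmem z).2 h)⟩
  have hfixout : ∀ w : G ⧸ M, w ∉ Δ → h₀ • w = w := fun w hw => by
    obtain ⟨z, rfl⟩ := hπs w
    exact hfixw h₀ hh₀ _ ⟨z, rfl, fun h => hw ((hmem z).2 h)⟩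
  obtain ⟨a, haΔ, hab⟩ : ∃ a ∈ Δ, h₀ • a ≠ a := by
    by_contra! h
    exact hh1 (hfaith h₀ fun w => if hw : w ∈ Δ then h w hw else hfixout w hw)
  obtain ⟨b, hb⟩ : ∃ b, h₀ • a = b := ⟨_, rfl⟩
  rw [hb] at hab
  have hbΔ : b ∈ Δ := by
    by_contra hbn
    exact hab ((MulAction.injective h₀) (hb.trans (hfixout b hbn).symm)).symm
  have hΔ2 : 1 < Δ.card := Finset.one_lt_card.2 ⟨a, haΔ, b, hbΔ, Ne.symm hab⟩
  have hΔn : 2 * Δ.card < Fintype.card (G ⧸ M) := by
    have hr : ∀ w : G ⧸ M, (Finset.univ.filter fun z => π z = w).card =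
        (Finset.univ.filter fun z => π z = π x).card := fun w => by
      obtain ⟨g, hg⟩ := MulAction.exists_smul_eq G (π x) w
      refine (Finset.card_bij (fun z _ => g • z) (fun z hz => ?_)
        (fun _ _ _ _ h => MulAction.injective g h) fun z hz => ⟨g⁻¹ • z, ?_, smul_inv_smul g z⟩).symm
      · simp only [Finset.mem_filter, Finset.mem_univ, true_and] at hz ⊢
        rw [hπe, hz, hg]
      · simp only [Finset.mem_filter, Finset.mem_univ, true_and] at hz ⊢
        rw [hπe, hz, ← hg, inv_smul_smul]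
    have h1 : Fintype.card Ω =
        Fintype.card (G ⧸ M) * (Finset.univ.filter fun z => π z = π x).card := by
      rw [← Finset.card_univ, Finset.card_eq_sum_card_fiberwise (f := π) (t := Finset.univ)
        (fun z _ => Finset.mem_univ _), Finset.sum_congr rfl fun w _ => hr w, Finset.sum_const,
        smul_eq_mul, Finset.card_univ]
    have h2 : Γ.ncard = Δ.card * (Finset.univ.filter fun z => π z = π x).card := by
      rw [show Γ = ((Finset.univ.filter fun z => π z ∈ Δ : Finset Ω) : Set Ω) by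
          ext z; simp [hmem z], Set.ncard_coe_finset,
        Finset.card_eq_sum_card_fiberwise (f := π) (t := Δ) (fun z hz => by simpa using hz),
        Finset.sum_congr rfl fun w hw => ?_, Finset.sum_const, smul_eq_mul]
      rw [← hr w, Finset.filter_filter]
      exact congrArg Finset.card (Finset.filter_congr fun z _ =>
        ⟨fun h => h.2, fun h => ⟨h.symm ▸ hw, h⟩⟩)
    rw [h1, h2] at hΓ2
    nlinarith
  have hAlt := CfsgLib.Perm.Marggraf.alternating_le inferInstance hprimQ hΔJ hΔ2 hΔn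
  -- a point outside and two more
  have hout : 3 ≤ Δᶜ.card := by rw [Finset.card_compl]; omega
  obtain ⟨w, hw, c, hc, d, hd, hwc, hwd, hcd⟩ :=
    Finset.two_lt_card.1 (show 2 < Δᶜ.card by omega)
  rw [Finset.mem_compl] at hw hc hd
  obtain ⟨y, rfl⟩ := hπs w
  let φ := MulAction.toPermHom G (G ⧸ M)
  have hφ : ∀ (g : G) (v : G ⧸ M), φ g v = g • v := fun g v => rfl
  let K : Subgroup (Equiv.Perm (G ⧸ M)) := (fixingSubgroup G {z | π z = π y}).map φ
  have hK : ∀ u : Equiv.Perm (G ⧸ M), Equiv.Perm.sign u = 1 → u (π y) = π y →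
      ∀ v ∈ K, u * v * u⁻¹ ∈ K := by
    rintro u hu huw _ ⟨g, hg, rfl⟩
    obtain ⟨k, rfl⟩ := hAlt u hu
    refine ⟨k * g * k⁻¹, (mem_fixingSubgroup_iff G).2 fun z hz => ?_, by simp [φ, map_mul, map_inv]⟩
    have hz' : π (k⁻¹ • z) = π y := by
      rw [hπe, (hz : π z = π y), inv_smul_eq_iff]
      exact huw.symm
    rw [mul_smul, mul_smul, (mem_fixingSubgroup_iff G).1 hg _ hz', smul_inv_smul]
  have hh₀K : φ h₀ ∈ K := ⟨h₀, (mem_fixingSubgroup_iff G).2 fun z hz => hh₀ z fun h =>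
    hw ((hz : π z = π y) ▸ (hmem z).2 h), rfl⟩
  have haw : π y ≠ a := fun e => hw (e ▸ haΔ)
  have hbw : π y ≠ b := fun e => hw (e ▸ hbΔ)
  have hac : a ≠ c := fun e => hc (e ▸ haΔ)
  have had : a ≠ d := fun e => hd (e ▸ haΔ)
  have hbc : b ≠ c := fun e => hc (e ▸ hbΔ)
  have hbd : b ≠ d := fun e => hd (e ▸ hbΔ)
  have h0 : Equiv.swap a c * Equiv.swap a b ∈ K := by
    have hs : Equiv.Perm.sign (Equiv.swap a d * Equiv.swap a c) = 1 := by
      rw [map_mul, Equiv.Perm.sign_swap had, Equiv.Perm.sign_swap hac]; rfl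
    have hsw : (Equiv.swap a d * Equiv.swap a c) (π y) = π y := by
      simp [Equiv.swap_apply_of_ne_of_ne haw hwc, Equiv.swap_apply_of_ne_of_ne haw hwd]
    have key : φ h₀ * (Equiv.swap a d * Equiv.swap a c * (φ h₀)⁻¹ *
        (Equiv.swap a d * Equiv.swap a c)⁻¹) = Equiv.swap a c * Equiv.swap a b := by
      have e1 : φ h₀ * (Equiv.swap a d * Equiv.swap a c) * (φ h₀)⁻¹ =
          Equiv.swap b d * Equiv.swap b c := by
        rw [show φ h₀ * (Equiv.swap a d * Equiv.swap a c) * (φ h₀)⁻¹ =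
          (φ h₀ * Equiv.swap a d * (φ h₀)⁻¹) * (φ h₀ * Equiv.swap a c * (φ h₀)⁻¹) by group,
          ← Equiv.swap_apply_apply, ← Equiv.swap_apply_apply]
        simp only [hφ, hb, hfixout d hd, hfixout c hc]
      rw [show φ h₀ * (Equiv.swap a d * Equiv.swap a c * (φ h₀)⁻¹ *
          (Equiv.swap a d * Equiv.swap a c)⁻¹) =
          φ h₀ * (Equiv.swap a d * Equiv.swap a c) * (φ h₀)⁻¹ *
          (Equiv.swap a d * Equiv.swap a c)⁻¹ by group, e1, mul_inv_rev, Equiv.swap_inv, Equiv.swap_inv]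
      ext z
      simp only [Equiv.Perm.mul_apply, Equiv.swap_apply_def]
      have := Ne.symm hab
      have := Ne.symm hac
      have := Ne.symm had
      have := Ne.symm hbc
      have := Ne.symm hbd
      have := Ne.symm hcd
      split_ifs <;> simp_all
    rw [← key]
    exact mul_mem hh₀K (hK _ hs hsw _ (inv_mem hh₀K))
  have hC : ∀ g : G, Equiv.Perm.sign (φ g) = 1 → g • π y = π y → g • y = y := by
    intro g hg hgw
    obtain ⟨k, hk, hkg⟩ := even_fix_mem (Ne.symm hab) hac hbc haw hbw hwc hK h0 (φ g) hg hgw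
    have hkeq : k = g :=
      FaithfulSMul.eq_of_smul_eq_smul (α := G ⧸ M) fun v => DFunLike.congr_fun hkg v
    exact hkeq ▸ (mem_fixingSubgroup_iff G).1 hk y rfl
  -- the even permutations are transitive on `Ω`
  let N : Subgroup G := (Equiv.Perm.sign.comp φ).ker
  have hN : N ≠ ⊥ := by
    obtain ⟨k, hk⟩ := hAlt (Equiv.swap a d * Equiv.swap a c)
      (by rw [map_mul, Equiv.Perm.sign_swap had, Equiv.Perm.sign_swap hac]; rfl)
    intro e
    have hk1 : k ∈ N := by
      show Equiv.Perm.sign (φ k) = 1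
      rw [show φ k = Equiv.swap a d * Equiv.swap a c from hk, map_mul, Equiv.Perm.sign_swap had,
        Equiv.Perm.sign_swap hac]
      rfl
    rw [e, Subgroup.mem_bot] at hk1
    have := DFunLike.congr_fun hk a
    simp [hk1, Equiv.swap_apply_of_ne_of_ne (Ne.symm hac) hcd] at this
    exact hac this
  have hNt := hqp N inferInstance hN
  have hinj : Function.Injective π := by
    intro u v huv
    obtain ⟨g, rfl⟩ := hNt.exists_smul_eq y u
    obtain ⟨k, rfl⟩ := hNt.exists_smul_eq y v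
    change π ((g : G) • y) = π ((k : G) • y) at huv
    rw [hπe, hπe] at huv
    have := hC ((k : G)⁻¹ * g) (mul_mem (inv_mem k.2) g.2 : ((k : G)⁻¹ * g) ∈ N)
      (by rw [mul_smul, huv, inv_smul_smul])
    rw [mul_smul, inv_smul_eq_iff] at this
    exact this
  rw [← MulAction.isCoatom_stabilizer_iff_preprimitive G x]
  have : MulAction.stabilizer G x = M := le_antisymm hMx fun g hg => by
    refine MulAction.mem_stabilizer_iff.2 (hinj ?_)
    rw [hπ, show π x = ((1 : G) : G ⧸ M) by simpa using hπ 1, QuotientGroup.eq, mul_one]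
    exact inv_mem hg
  rw [this]
  exact hMc

end Cfsg.Agent.S3620
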