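import Cfsg.Statements.S3626
import Cfsg.Agent.S2515
import Cfsg.Agent.S1159
import Cfsg.Agent.S3444

set_option autoImplicit false
open Cfsg

namespace Cfsg.Agent.S3626

/-- Let R be the small Ree group over the field with q = 3^(2m+1) ≥ 27 elements. Then there are finite groups of arbitrarily large order with exactly the same set of element orders as R × R × R. -/
theorem result {K : Type*} [Field K] [Fintype K] {m : ℕ} (hm : 1 ≤ m) (hK : Fintype.card K = 3 ^ (2 * m + 1)) (N : ℕ) :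
    ∃ (H : Type) (_ : Group H) (_ : Fintype H), N < Fintype.card H ∧
      Set.range (orderOf : H → ℕ) = Set.range (orderOf : ↥(Cfsg.Lie.twistedG2 K (3 ^ m)) × ↥(Cfsg.Lie.twistedG2 K (3 ^ m)) × ↥(Cfsg.Lie.twistedG2 K (3 ^ m)) → ℕ) := by
  classical
  obtain ⟨H, hHg, hHf, ⟨P, hPn, hP1, hP3⟩, hμ⟩ :=
    Cfsg.Agent.S2515.result (2 * m + 1) (by omega) ⟨m, rfl⟩
  letI := hHg
  haveI : Finite H := hHf.finite
  let R := ↥(Cfsg.Lie.twistedG2 K (3 ^ m))
  haveI : Finite R := inferInstance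
  have hR := Cfsg.Agent.S1159.result (K := K) hm hK
  -- every element order of `H` divides a maximal one
  have hdiv : ∀ c ∈ Set.range (orderOf : H → ℕ), c ∣ 6 ∨ c ∣ 9 ∨ c ∣ 3 ^ (2 * m + 1) - 1 ∨
      c ∣ (3 ^ (2 * m + 1) + 1) / 2 := by
    intro c hc
    obtain ⟨n, ⟨hnr, hcn⟩, hmax⟩ := Set.Finite.exists_maximalFor id
      {n : ℕ | n ∈ Set.range (orderOf : H → ℕ) ∧ c ∣ n}
      ((Set.finite_range _).subset fun n hn => hn.1) ⟨c, hc, dvd_rfl⟩
    have hn : n ∈ ({6, 9, 3 ^ (2 * m + 1) - 1, (3 ^ (2 * m + 1) + 1) / 2} : Set ℕ) := by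
      rw [← hμ]
      refine ⟨hnr, fun k hk hnk => ?_⟩
      have hkpos : 0 < k := by obtain ⟨x, rfl⟩ := hk; exact orderOf_pos x
      exact le_antisymm (hmax ⟨hk, hcn.trans hnk⟩ (Nat.le_of_dvd hkpos hnk)) (Nat.le_of_dvd hkpos hnk)
    rcases hn with rfl | rfl | rfl | rfl <;> simp [hcn]
  have hdown : ∀ c, (c ∣ 6 ∨ c ∣ 9 ∨ c ∣ 3 ^ (2 * m + 1) - 1 ∨ c ∣ (3 ^ (2 * m + 1) + 1) / 2) →
      c ∈ Set.range (orderOf : H → ℕ) := by
    intro c hc
    have hmem : ∀ n ∈ ({6, 9, 3 ^ (2 * m + 1) - 1, (3 ^ (2 * m + 1) + 1) / 2} : Set ℕ),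
        c ∣ n → c ∈ Set.range (orderOf : H → ℕ) := by
      intro n hn hcn
      rw [← hμ] at hn
      obtain ⟨x, rfl⟩ := hn.1
      exact ⟨x ^ (orderOf x / c), orderOf_pow_orderOf_div (orderOf_pos x).ne' hcn⟩
    rcases hc with h | h | h | h <;> exact hmem _ (by simp) h
  have hone : (1 : ℕ) ∈ Set.range (orderOf : H → ℕ) := ⟨1, orderOf_one⟩
  have hHR : ∀ c ∈ Set.range (orderOf : H → ℕ), ∃ g : R, orderOf g = c := fun c hc =>
    (hR c).2 (by rcases hdiv c hc with h | h | h | h <;> simp [h])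
  -- the two products have the same element orders
  have hG : Set.range (orderOf : R × R × H → ℕ) = Set.range (orderOf : R × R × R → ℕ) := by
    ext n
    constructor
    · rintro ⟨⟨x, y, z⟩, rfl⟩
      obtain ⟨w, hw⟩ := hHR _ ⟨z, rfl⟩
      exact ⟨(x, y, w), by simp only [Prod.orderOf_mk, hw]⟩
    · rintro ⟨⟨x, y, z⟩, rfl⟩
      have key : ∀ a b c : R, orderOf c ∈ Set.range (orderOf : H → ℕ) →
          Nat.lcm (orderOf a) (Nat.lcm (orderOf b) (orderOf c)) ∈ Set.range (orderOf : R × R × H → ℕ) := by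
        rintro a b c ⟨w, hw⟩
        exact ⟨(a, b, w), by simp only [Prod.orderOf_mk, hw]⟩
      have pair : ∀ a b c : R, ∀ q : ℕ, (∀ d, d ∣ q → ∃ g : R, orderOf g = d) → orderOf a ∣ q → orderOf b ∣ q →
          Nat.lcm (orderOf a) (Nat.lcm (orderOf b) (orderOf c)) ∈ Set.range (orderOf : R × R × H → ℕ) := by
        intro a b c q hq ha hb
        obtain ⟨g, hg⟩ := hq _ (Nat.lcm_dvd ha hb)
        refine ⟨(g, c, 1), ?_⟩
        simp only [Prod.orderOf_mk, hg, orderOf_one, Nat.lcm_one_right, Nat.lcm_assoc]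
      simp only [Prod.orderOf_mk]
      set q₁ := 3 ^ (2 * m + 1) - 3 ^ (m + 1) + 1
      set q₂ := 3 ^ (2 * m + 1) + 3 ^ (m + 1) + 1
      have hq₁ : ∀ d, d ∣ q₁ → ∃ g : R, orderOf g = d := fun d hd => (hR d).2 (by simp [hd])
      have hq₂ : ∀ d, d ∣ q₂ → ∃ g : R, orderOf g = d := fun d hd => (hR d).2 (by simp [hd])
      have split : ∀ a : R, orderOf a ∈ Set.range (orderOf : H → ℕ) ∨ orderOf a ∣ q₁ ∨ orderOf a ∣ q₂ := by
        intro a
        rcases (hR (orderOf a)).1 ⟨a, rfl⟩ with h | h | h | h | h | h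
        · exact Or.inl (hdown _ (Or.inl h))
        · exact Or.inl (hdown _ (Or.inr (Or.inl h)))
        · exact Or.inl (hdown _ (Or.inr (Or.inr (Or.inl h))))
        · exact Or.inl (hdown _ (Or.inr (Or.inr (Or.inr h))))
        · exact Or.inr (Or.inl h)
        · exact Or.inr (Or.inr h)
      rcases split z with hz | hz | hz
      · exact key x y z hz
      all_goals rcases split y with hy | hy | hy
      all_goals first
        | (rw [Nat.lcm_comm (orderOf y)]; exact key x z y hy)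
        | skip
      all_goals rcases split x with hx | hx | hx
      all_goals first
        | (rw [Nat.lcm_comm, Nat.lcm_assoc]; exact key y z x hx)
        | exact pair x y z _ hq₁ hx hy
        | exact pair x y z _ hq₂ hx hy
        | (rw [Nat.lcm_comm (orderOf y)]; exact pair x z y _ hq₁ hx hz)
        | (rw [Nat.lcm_comm (orderOf y)]; exact pair x z y _ hq₂ hx hz)
        | (rw [Nat.lcm_comm, Nat.lcm_assoc]; exact pair y z x _ hq₁ hy hz)
        | (rw [Nat.lcm_comm, Nat.lcm_assoc]; exact pair y z x _ hq₂ hy hz)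
  let P' : Subgroup (R × R × H) := (⊥ : Subgroup R).prod ((⊥ : Subgroup R).prod P)
  haveI : P.Normal := hPn
  haveI : P'.Normal := inferInstance
  have hP'1 : P' ≠ ⊥ := by
    obtain ⟨x, hx, hx1⟩ := (Subgroup.ne_bot_iff_exists_ne_one.mp hP1).imp fun x hx => And.intro x.2 hx
    intro h
    have h' : ((1 : R), (1 : R), (x : H)) ∈ P' := ⟨Subgroup.mem_bot.mpr rfl, Subgroup.mem_bot.mpr rfl, hx⟩
    rw [h, Subgroup.mem_bot] at h'
    exact hx1 (Subtype.ext (congrArg (fun t : R × R × H => t.2.2) h'))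
  have hs : Group.IsSolvable P' := by
    have hsP : IsPGroup 3 ↥P' := by
      rintro ⟨⟨a, b, c⟩, ha, hb, hc⟩
      obtain ⟨k, hk⟩ := hP3 ⟨c, hc⟩
      refine ⟨k, Subtype.ext ?_⟩
      have ha' : a = 1 := Subgroup.mem_bot.1 ha
      have hb' : b = 1 := Subgroup.mem_bot.1 hb
      have hk' : c ^ 3 ^ k = 1 := congrArg Subtype.val hk
      subst ha' hb'
      change ((1 : R), (1 : R), c) ^ 3 ^ k = 1
      simp [hk']
    haveI : Fact (Nat.Prime 3) := ⟨by norm_num⟩
    haveI := hsP.isNilpotent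
    infer_instance
  obtain ⟨H', i1, i2, hN, hS⟩ := Cfsg.Agent.S3444.result P' hP'1 hs N
  exact ⟨H', i1, i2, hN, hS.trans hG⟩

end Cfsg.Agent.S3626
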