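import Cfsg.Agent.Lib.J1Group.Classes
import Cfsg.Agent.Lib.J1Group.SplitExample
import Cfsg.Statements.S3627

set_option autoImplicit false

namespace Cfsg.Agent.S3627

open CfsgLib.J1Group

/-- lcms of four element orders are proper divisors of the product -/
theorem four_lcm : ∀ a b c d : Fin 15,
    Nat.lcm (repOrd a) (Nat.lcm (repOrd b) (Nat.lcm (repOrd c) (repOrd d))) ∣ 43890 ∧
    Nat.lcm (repOrd a) (Nat.lcm (repOrd b) (Nat.lcm (repOrd c) (repOrd d))) ≠ 43890 := by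
  have h : ([1, 2, 3, 5, 6, 7, 10, 11, 15, 19].all fun a =>
      [1, 2, 3, 5, 6, 7, 10, 11, 15, 19].all fun b =>
      [1, 2, 3, 5, 6, 7, 10, 11, 15, 19].all fun c =>
      [1, 2, 3, 5, 6, 7, 10, 11, 15, 19].all fun d : ℕ =>
        Nat.beq (43890 % Nat.lcm a (Nat.lcm b (Nat.lcm c d))) 0 &&
          !Nat.beq (Nat.lcm a (Nat.lcm b (Nat.lcm c d))) 43890) = true := by
    decide +kernel
  have hm : ∀ i : Fin 15, repOrd i ∈ ([1, 2, 3, 5, 6, 7, 10, 11, 15, 19] : List ℕ) := by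
    decide +kernel
  intro a b c d
  simp only [List.all_eq_true, Bool.and_eq_true, Bool.not_eq_true', ← Bool.not_eq_true,
    Nat.beq_eq] at h
  exact ⟨Nat.dvd_of_mod_eq_zero (h _ (hm a) _ (hm b) _ (hm c) _ (hm d)).1,
    (h _ (hm a) _ (hm b) _ (hm c) _ (hm d)).2⟩

theorem five_prime_witness (p : ℕ)
    (hp : p = 2 ∨ p = 3 ∨ p = 5 ∨ p = 7 ∨ p = 11 ∨ p = 19) : ∃ a b c d : Fin 15,
    Nat.lcm (repOrd a) (Nat.lcm (repOrd b) (Nat.lcm (repOrd c) (repOrd d))) = 43890 / p := by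
  rcases hp with rfl | rfl | rfl | rfl | rfl | rfl
  · exact ⟨10, 6, 9, 12, by decide +kernel⟩
  · exact ⟨7, 6, 9, 12, by decide +kernel⟩
  · exact ⟨5, 6, 9, 12, by decide +kernel⟩
  · exact ⟨5, 3, 9, 12, by decide +kernel⟩
  · exact ⟨5, 3, 6, 12, by decide +kernel⟩
  · exact ⟨5, 3, 6, 9, by decide +kernel⟩

theorem range_fourth :
    Set.range (orderOf : ↥Cfsg.Spor.J1 × ↥Cfsg.Spor.J1 × ↥Cfsg.Spor.J1 × ↥Cfsg.Spor.J1 → ℕ) =
      {n : ℕ | n ∣ 43890 ∧ n ≠ 43890} := by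
  have hall : ∀ a b c d : Fin 15,
      Nat.lcm (repOrd a) (Nat.lcm (repOrd b) (Nat.lcm (repOrd c) (repOrd d))) ∣ 43890 ∧
      Nat.lcm (repOrd a) (Nat.lcm (repOrd b) (Nat.lcm (repOrd c) (repOrd d))) ≠ 43890 :=
    four_lcm
  ext n
  constructor
  · rintro ⟨⟨x, y, z, w⟩, rfl⟩
    have hx : ∀ g : Cfsg.Spor.J1, ∃ i, repOrd i = orderOf g := fun g => by
      have : orderOf g ∈ Set.range repOrd := range_orderOf_J1 ▸ Set.mem_range_self g
      exact this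
    obtain ⟨a, ha⟩ := hx x
    obtain ⟨b, hb⟩ := hx y
    obtain ⟨c, hc⟩ := hx z
    obtain ⟨d, hd⟩ := hx w
    simp only [Prod.orderOf, Set.mem_setOf_eq, ← ha, ← hb, ← hc, ← hd]
    exact hall a b c d
  · rintro ⟨hn, hne⟩
    obtain ⟨p, hp, hnp⟩ := exists_prime_omitted hn hne
    obtain ⟨a, b, c, d, he⟩ := five_prime_witness p hp
    obtain ⟨k, hk⟩ := hnp
    refine Set.mem_range.2 ⟨(rep a, rep b, rep c, rep d) ^ k, ?_⟩
    have ho : orderOf (rep a, rep b, rep c, rep d) = n * k := by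
      simp only [Prod.orderOf, orderOf_rep]
      exact he.trans hk
    have hk0 : 0 < k := Nat.pos_of_ne_zero fun h0 => by
      rw [h0, mul_zero] at hk
      rcases hp with rfl | rfl | rfl | rfl | rfl | rfl <;> norm_num at hk
    rw [orderOf_pow_of_dvd hk0.ne' (ho ▸ dvd_mul_left k n), ho, Nat.mul_div_cancel _ hk0]

theorem result (N : ℕ) : ∃ (H : Type) (_ : Group H) (_ : Fintype H), N < Fintype.card H ∧
      Set.range (orderOf : H → ℕ) = Set.range (orderOf : ↥Cfsg.Spor.J1 × ↥Cfsg.Spor.J1 × ↥Cfsg.Spor.J1 × ↥Cfsg.Spor.J1 → ℕ) := by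
  obtain ⟨H, hG, hF, hN, hH⟩ := exists_solvable_example N
  exact ⟨H, hG, hF, hN, hH.trans range_fourth.symm⟩

end Cfsg.Agent.S3627
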