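import Cfsg.Statements.S3633
import Cfsg.Agent.Lib.Recog.ThreePrimes

set_option autoImplicit false
open Cfsg

namespace Cfsg.Agent.S3633

/-- Let G be a finite group and ρ a set of at least three prime divisors of the order of G that are pairwise non-adjacent in the prime graph (no element of order rs for distinct r, s ∈ ρ). Then at most one prime of ρ divides the order of any given solvable normal subgroup of G; in particular G is not solvable. -/
theorem result {G : Type*} [Group G] [Finite G] (ρ : Finset ℕ) (hρ : 3 ≤ ρ.card) (hc : ((∀ r ∈ ρ, r.Prime ∧ r ∣ Nat.card G) ∧ (∀ r ∈ ρ, ∀ s ∈ ρ, r ≠ s → ¬ ∃ x : G, orderOf x = r * s)))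
    (K : Subgroup G) [K.Normal] (hK : Group.IsSolvable ↥K) :
    (∀ r ∈ ρ, ∀ s ∈ ρ, r ∣ Nat.card ↥K → s ∣ Nat.card ↥K → r = s) ∧ ¬ Group.IsSolvable G := by
  obtain ⟨hcp, hca⟩ := hc
  have hno : ∀ a ∈ ρ, ∀ b ∈ ρ, a ≠ b → ¬ ∃ x : G, orderOf x = a * b := hca
  refine ⟨fun r hr s hs hrK hsK => ?_, fun hG => ?_⟩
  · by_contra hne
    obtain ⟨t, ht, htrs⟩ : ∃ t ∈ ρ, t ∉ ({r, s} : Finset ℕ) :=
      Finset.exists_mem_notMem_of_card_lt_card (lt_of_le_of_lt Finset.card_le_two hρ)
    simp only [Finset.mem_insert, Finset.mem_singleton, not_or] at htrs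
    obtain ⟨hrp, -⟩ := hcp r hr
    obtain ⟨hsp, -⟩ := hcp s hs
    obtain ⟨htp, htG⟩ := hcp t ht
    have key : (∃ g : G, orderOf g = r * s) ∨ (∃ g : G, orderOf g = r * t) ∨
        (∃ g : G, orderOf g = s * t) := by
      rw [← K.card_mul_index] at htG
      rcases htp.dvd_mul.1 htG with htK | htI
      · haveI := hK
        rcases CfsgLib.Recog.adjacent_of_isSolvable hK hrp hsp htp hne (Ne.symm htrs.1)
          (Ne.symm htrs.2) hrK hsK htK with ⟨g, hg⟩ | ⟨g, hg⟩ | ⟨g, hg⟩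
        · exact Or.inl ⟨g, by rwa [Subgroup.orderOf_coe]⟩
        · exact Or.inr (Or.inl ⟨g, by rwa [Subgroup.orderOf_coe]⟩)
        · exact Or.inr (Or.inr ⟨g, by rwa [Subgroup.orderOf_coe]⟩)
      · exact CfsgLib.Recog.adjacent_of_solvable_normal K hK hrp hsp htp hne (Ne.symm htrs.1)
          (Ne.symm htrs.2) hrK hsK htI
    rcases key with h | h | h
    · exact hno r hr s hs hne h
    · exact hno r hr t ht (Ne.symm htrs.1) h
    · exact hno s hs t ht (Ne.symm htrs.2) h
  · obtain ⟨r, s, t, hr, hs, ht, hrs, hrt, hst⟩ := (Finset.two_lt_card_iff).1 (show 2 < ρ.card by omega)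
    rcases CfsgLib.Recog.adjacent_of_isSolvable hG (hcp r hr).1 (hcp s hs).1 (hcp t ht).1 hrs hrt hst
      (hcp r hr).2 (hcp s hs).2 (hcp t ht).2 with h | h | h
    · exact hno r hr s hs hrs h
    · exact hno r hr t ht hrt h
    · exact hno s hs t ht hst h

end Cfsg.Agent.S3633
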