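import Cfsg.Statements.S3639
import Cfsg.Agent.Lib.Recog.SzFixed
import Cfsg.Agent.Lib.Recog.Unbounded

set_option autoImplicit false
open Cfsg

namespace Cfsg.Agent.S3639

/-- Let S be the Suzuki group over the field with q = 2^(2m+1) ≥ 8 elements. Then there are finite groups of arbitrarily large order with the same prime graph as S. -/
theorem result {F : Type*} [Field F] [Fintype F] {m : ℕ} (hm : 1 ≤ m) (hF : Fintype.card F = 2 ^ (2 * m + 1)) (N : ℕ) :
    ∃ (H : Type) (_ : Group H) (_ : Fintype H), N < Fintype.card H ∧ ((∀ r : ℕ, r.Prime → (r ∣ Nat.card ↥(Cfsg.Lie.Sz F (2 ^ (m + 1))) ↔ r ∣ Nat.card H)) ∧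
      (∀ r s : ℕ, r.Prime → s.Prime → r ≠ s → ((∃ x : ↥(Cfsg.Lie.Sz F (2 ^ (m + 1))), orderOf x = r * s) ↔ (∃ y : H, orderOf y = r * s)))) := by
  haveI : CharP F 2 := by
    haveI : Fact (Nat.Prime 2) := ⟨Nat.prime_two⟩
    exact charP_of_card_eq_prime_pow hF
  obtain ⟨t, ht⟩ := CfsgLib.Recog.exists_involution_Sz (F := F) (e := 2 ^ (m + 1)) (by positivity)
  refine CfsgLib.Recog.exists_large_primeGraph
    (CfsgLib.Recog.mulVecAct.comp (Cfsg.Lie.Sz F (2 ^ (m + 1))).subtype) Nat.prime_two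
    (CfsgLib.Recog.pow_char_eq_one 2) (by have h := orderOf_dvd_natCard t; rwa [ht] at h) ?_ N
  rintro g hg hg2 ⟨v, hv, hfix⟩
  have h4 : orderOf g ∣ 2 ^ 2 := CfsgLib.Recog.orderOf_dvd_four_of_fixed rfl hv hfix
  exact absurd ((Nat.prime_dvd_prime_iff_eq hg Nat.prime_two).1 (hg.dvd_of_dvd_pow h4)) hg2

end Cfsg.Agent.S3639
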