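import Cfsg.Statements.S3641
import Cfsg.Agent.Lib.Involutions.EighteenPoint
import Cfsg.Agent.Lib.Base.Nilpotent

set_option autoImplicit false
open Cfsg

namespace Cfsg.Agent.S3641

open Subgroup MulAction

theorem relIndex_sup_of_normal {G : Type*} [Group G] [Finite G] (H K : Subgroup G) [K.Normal] :
    H.relIndex (H ⊔ K) = H.relIndex K := by
  have h1 := Subgroup.relIndex_mul_relIndex (H ⊓ K) H (H ⊔ K) inf_le_left le_sup_left
  have h2 := Subgroup.relIndex_mul_relIndex (H ⊓ K) K (H ⊔ K) inf_le_right le_sup_right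
  rw [Subgroup.inf_relIndex_left] at h1
  rw [Subgroup.inf_relIndex_right, Subgroup.relIndex_sup_right, ← h1, mul_comm] at h2
  exact (Nat.eq_of_mul_eq_mul_left (Nat.pos_of_ne_zero Subgroup.index_ne_zero_of_finite) h2).symm

universe u

variable {G : Type u} [Group G] [Finite G]

instance fact17 : Fact (Nat.Prime 17) := ⟨by norm_num⟩

/-- The Sylow numbers are 18, 136, 153 for the possible primes. -/
theorem sylow_values
    (h : {c : ℕ | ∃ r : ℕ, r.Prime ∧ r ∣ Nat.card G ∧ c = Nat.card (Sylow r G)} = ({18, 136, 153} : Set ℕ))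
    {r : ℕ} (hr : r.Prime) (hd : r ∣ Nat.card G) :
    (r = 17 ∧ Nat.card (Sylow r G) = 18) ∨ ((r = 3 ∨ r = 5) ∧ Nat.card (Sylow r G) = 136) ∨
      ((r = 2 ∨ r = 19) ∧ Nat.card (Sylow r G) = 153) := by
  have := Fact.mk hr
  have hm : Nat.card (Sylow r G) ∈ ({18, 136, 153} : Set ℕ) := h ▸ ⟨r, hr, hd, rfl⟩
  have h1 := card_sylow_modEq_one r G
  simp only [Set.mem_insert_iff, Set.mem_singleton_iff] at hm
  rcases hm with e | e | e
  · refine Or.inl ⟨?_, e⟩
    rw [e] at h1
    have h2 : r ∣ 17 := (Nat.modEq_iff_dvd' (by norm_num)).1 h1.symm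
    exact (Nat.prime_dvd_prime_iff_eq hr (by norm_num)).1 h2
  · refine Or.inr (Or.inl ⟨?_, e⟩)
    rw [e] at h1
    have h2 : r ∣ 3 ^ 3 * 5 := (Nat.modEq_iff_dvd' (by norm_num)).1 h1.symm
    rcases (hr.dvd_mul).1 h2 with h | h
    · exact Or.inl ((Nat.prime_dvd_prime_iff_eq hr Nat.prime_three).1 (hr.dvd_of_dvd_pow h))
    · exact Or.inr ((Nat.prime_dvd_prime_iff_eq hr Nat.prime_five).1 h)
  · refine Or.inr (Or.inr ⟨?_, e⟩)
    rw [e] at h1
    have h2 : r ∣ 2 ^ 3 * 19 := (Nat.modEq_iff_dvd' (by norm_num)).1 h1.symm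
    rcases (hr.dvd_mul).1 h2 with h | h
    · exact Or.inl ((Nat.prime_dvd_prime_iff_eq hr Nat.prime_two).1 (hr.dvd_of_dvd_pow h))
    · exact Or.inr ((Nat.prime_dvd_prime_iff_eq hr (by norm_num)).1 h)

/-- An element centralised by a Sylow subgroup for every prime is central. -/
theorem mem_center_of_sylows (z : G)
    (h : ∀ r : ℕ, r.Prime → r ∣ Nat.card G → ∃ Q : Sylow r G, ∀ y ∈ (Q : Subgroup G), Commute y z) :
    z ∈ center G := by
  have htop : centralizer ({z} : Set G) = ⊤ := by
    rw [← index_eq_one]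
    by_contra hne
    obtain ⟨r, hr, hd⟩ := Nat.exists_prime_and_dvd hne
    have := Fact.mk hr
    obtain ⟨Q, hQ⟩ := h r hr (hd.trans (index_dvd_card _))
    exact Q.not_dvd_index (hd.trans (index_dvd_of_le (fun y hy =>
      mem_centralizer_singleton_iff.2 (hQ y hy))))
  exact mem_center_iff.2 fun y => mem_centralizer_singleton_iff.1 (htop ▸ mem_top y)

/-- A normal subgroup whose `r`-subgroups are centralised by Sylow subgroups is central. -/
theorem eq_bot_of_centralised (hZ : center G = ⊥) {M : Subgroup G} [M.Normal] {p : ℕ}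
    [hp : Fact p.Prime] (hM : IsPGroup p M)
    (h : ∀ r : ℕ, r.Prime → r ≠ p → r ∣ Nat.card G →
      ∃ Q : Sylow r G, ∀ y ∈ (Q : Subgroup G), ∀ m ∈ M, Commute y m) : M = ⊥ := by
  by_contra hne
  obtain ⟨P, hMP⟩ := hM.exists_le_sylow
  have := P.isPGroup'.isNilpotent
  have hin : (M.subgroupOf (P : Subgroup G) ⊓ center (P : Subgroup G)) ≠ ⊥ := by
    refine CfsgLib.Base.inf_center_ne_bot_of_isNilpotent ?_
    rwa [Ne, Subgroup.subgroupOf_eq_bot, disjoint_iff, inf_eq_left.2 hMP]
  obtain ⟨⟨w, hw⟩, hw1⟩ := Subgroup.ne_bot_iff_exists_ne_one.1 hin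
  have hwc : (w : G) ∈ center G := mem_center_of_sylows _ fun r hr hd => by
    by_cases hrp : r = p
    · subst hrp
      exact ⟨P, fun y hy => congrArg Subtype.val (mem_center_iff.1 hw.2 ⟨y, hy⟩)⟩
    · obtain ⟨Q, hQ⟩ := h r hr hrp hd
      exact ⟨Q, fun y hy => hQ y hy _ (mem_subgroupOf.1 hw.1)⟩
  rw [hZ, Subgroup.mem_bot] at hwc
  exact hw1 (Subtype.ext (Subtype.ext hwc))

/-- Elements of two subgroups normalising each other with trivial meet commute. -/
theorem commute_of_normalize {A B : Subgroup G} [B.Normal]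
    (hA : B ≤ normalizer (A : Set G)) (hAB : A ⊓ B = ⊥) {y m : G} (hy : y ∈ A) (hm : m ∈ B) :
    Commute y m := by
  have h1 : y * m * y⁻¹ * m⁻¹ ∈ A := by
    rw [mul_assoc y m, mul_assoc y]
    exact mul_mem hy ((mem_normalizer_iff.1 (hA hm) _).1 (inv_mem hy))
  have h2 : y * m * y⁻¹ * m⁻¹ ∈ B := mul_mem (Normal.conj_mem ‹_› m hm y) (inv_mem hm)
  have h3 : y * m * y⁻¹ * m⁻¹ = 1 := Subgroup.mem_bot.1 (hAB ▸ (⟨h1, h2⟩ : _ ∈ A ⊓ B))
  show y * m = m * y
  calc y * m = (y * m * y⁻¹ * m⁻¹) * (m * y) := by group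
    _ = m * y := by rw [h3, one_mul]

theorem main (hZ : center G = ⊥)
    (h : {c : ℕ | ∃ r : ℕ, r.Prime ∧ r ∣ Nat.card G ∧ c = Nat.card (Sylow r G)} = ({18, 136, 153} : Set ℕ))
    {F : Type*} [Field F] [Fintype F] (hF : Fintype.card F = 17) :
    Nonempty (G ≃* Matrix.ProjectiveSpecialLinearGroup (Fin 2) F) ∨
      Nonempty (G ≃* (GL (Fin 2) F ⧸ Subgroup.center (GL (Fin 2) F))) := by
  classical
  have : Fact (Nat.Prime 3) := ⟨Nat.prime_three⟩
  have : Fact (Nat.Prime 2) := ⟨Nat.prime_two⟩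
  have hdvd : ∀ r : ℕ, ∀ [Fact r.Prime], Nat.card (Sylow r G) ∣ Nat.card G := fun r _ =>
    ((default : Sylow r G).card_dvd_index).trans (index_dvd_card _)
  have hex : ∀ v ∈ ({18, 136, 153} : Set ℕ),
      ∃ r : ℕ, r.Prime ∧ r ∣ Nat.card G ∧ v = Nat.card (Sylow r G) := fun v hv => by
    rw [← h] at hv; exact hv
  obtain ⟨r₁, hr₁, hr₁d, e₁⟩ := hex 136 (by simp)
  have := Fact.mk hr₁
  have h136 : 136 ∣ Nat.card G := e₁ ▸ hdvd r₁
  obtain ⟨r₂, hr₂, hr₂d, e₂⟩ := hex 153 (by simp)
  have := Fact.mk hr₂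
  have h153 : 153 ∣ Nat.card G := e₂ ▸ hdvd r₂
  have d17 : 17 ∣ Nat.card G := (by norm_num : 17 ∣ 136).trans h136
  have d2 : 2 ∣ Nat.card G := (by norm_num : 2 ∣ 136).trans h136
  have d3 : 3 ∣ Nat.card G := (by norm_num : 3 ∣ 153).trans h153
  have n17 : Nat.card (Sylow 17 G) = 18 := by
    rcases sylow_values h Fact.out d17 with ⟨-, e⟩ | ⟨e, -⟩ | ⟨e, -⟩ <;> omega
  have n3 : Nat.card (Sylow 3 G) = 136 := by
    rcases sylow_values h Fact.out d3 with ⟨e, -⟩ | ⟨-, e⟩ | ⟨e, -⟩ <;> omega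
  have n2 : Nat.card (Sylow 2 G) = 153 := by
    rcases sylow_values h Fact.out d2 with ⟨e, -⟩ | ⟨e, -⟩ | ⟨-, e⟩ <;> omega
  -- the action on the Sylow 17-subgroups
  let φ : G →* Equiv.Perm (Sylow 17 G) := MulAction.toPermHom G (Sylow 17 G)
  set K := φ.ker with hK
  let f : G →* φ.range := φ.rangeRestrict
  have hf : Function.Surjective f := φ.rangeRestrict_surjective
  have hker : f.ker = K := φ.ker_rangeRestrict
  have hfix : ∀ k ∈ K, ∀ Q : Sylow 17 G, k • Q = Q := fun k hk Q =>
    congrArg (fun σ : Equiv.Perm (Sylow 17 G) => σ Q) (MonoidHom.mem_ker.1 hk)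
  have hact : ∀ (g : G) (Q : Sylow 17 G), f g • Q = g • Q := fun _ _ => rfl
  -- Setup for the image
  have hcardker : ∀ P : Sylow 17 G, Nat.card ((P : Subgroup G).map f) = 17 ∧
      ∀ y z : Sylow 17 G, y ≠ P → z ≠ P → ∃ u ∈ (P : Subgroup G).map f, u • y = z := by
    intro P
    let Δ : SubMulAction (P : Subgroup G) (Sylow 17 G) :=
      { carrier := {Q | Q ≠ P}
        smul_mem' := fun u Q hQ e => hQ (by
          have e' : (u : G) • Q = P := e
          rw [← eq_inv_smul_iff] at e'
          rw [e']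
          exact Sylow.smul_eq_iff_mem_normalizer.2 (inv_mem (le_normalizer u.2))) }
    have hΔ : Nat.card Δ = 17 := by
      show Nat.card {Q // Q ≠ P} = 17
      have := Fintype.ofFinite (Sylow 17 G)
      rw [Nat.card_eq_fintype_card, Fintype.card_subtype_compl, Fintype.card_subtype_eq,
        ← Nat.card_eq_fintype_card, n17]
    have horb : ∀ Q : Δ, orbit (P : Subgroup G) Q = Set.univ := by
      intro Q
      obtain ⟨j, hj⟩ := P.isPGroup'.card_orbit Q
      have hle : Nat.card (orbit (P : Subgroup G) Q) ≤ 17 :=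
        (Nat.card_le_card_of_injective (fun x : orbit (P : Subgroup G) Q => (x : Δ)) Subtype.val_injective).trans hΔ.le
      have hne : j ≠ 0 := by
        intro hj0
        rw [hj0, pow_zero] at hj
        have hall : ∀ u : (P : Subgroup G), u • Q = Q := fun u => congrArg Subtype.val
          ((Nat.card_eq_one_iff_unique.1 hj).1.elim ⟨u • Q, mem_orbit _ _⟩ ⟨Q, mem_orbit_self _⟩)
        have hle' : (P : Subgroup G) ≤ (P : Subgroup G) ⊓
            normalizer ((Q : Sylow 17 G) : Set G) := fun u hu =>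
          ⟨hu, Sylow.smul_eq_iff_mem_normalizer.1 (congrArg Subtype.val (hall ⟨u, hu⟩) :)⟩
        rw [P.isPGroup'.inf_normalizer_sylow (Q : Sylow 17 G)] at hle'
        exact Q.2 (Sylow.ext (P.3 (Q : Sylow 17 G).isPGroup' (hle'.trans inf_le_right)))
      refine Set.eq_of_subset_of_ncard_le (Set.subset_univ _) ?_ (Set.toFinite _)
      rw [Set.ncard_univ, hΔ, ← Nat.card_coe_set_eq, hj]
      exact le_self_pow₀ (by norm_num) hne
    refine ⟨?_, fun y z hy hz => ?_⟩
    · have hp : IsPGroup 17 ((P : Subgroup G).map f) := P.isPGroup'.map f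
      obtain ⟨j, hj⟩ := IsPGroup.iff_card.1 hp
      have hd : Nat.card ((P : Subgroup G).map f) ∣ Nat.card (Equiv.Perm (Sylow 17 G)) :=
        (Subgroup.card_subgroup_dvd_card _).trans (Subgroup.card_subgroup_dvd_card φ.range)
      rw [Nat.card_perm, n17, hj] at hd
      have hj2 : j ≤ 1 := by
        by_contra hj2
        exact absurd ((pow_dvd_pow 17 (by omega : 2 ≤ j)).trans hd) (by decide)
      have hj1 : j ≠ 0 := by
        intro hj0
        rw [hj0, pow_zero, Subgroup.card_eq_one] at hj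
        obtain ⟨Q, hQ⟩ : ∃ Q : Sylow 17 G, Q ≠ P := by
          have : Nontrivial (Sylow 17 G) := Finite.one_lt_card_iff_nontrivial.1 (by omega)
          exact exists_ne P
        have h1 := horb ⟨Q, hQ⟩
        have : Nat.card (orbit (P : Subgroup G) (⟨Q, hQ⟩ : Δ)) ≤ 1 := by
          rw [Finite.card_le_one_iff_subsingleton]
          refine ⟨fun x y => Subtype.ext ?_⟩
          have hfx : ∀ x : orbit (P : Subgroup G) (⟨Q, hQ⟩ : Δ), (x : Δ) = ⟨Q, hQ⟩ := by
            rintro ⟨_, u, rfl⟩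
            refine Subtype.ext ?_
            show (u : G) • Q = Q
            rw [← hact, (Subgroup.eq_bot_iff_forall _).1 hj _ ⟨u, u.2, rfl⟩, one_smul]
          rw [hfx x, hfx y]
        rw [h1, Nat.card_univ, hΔ] at this
        omega
      rw [hj, show j = 1 by omega, pow_one]
    · obtain ⟨u, hu⟩ : (⟨z, hz⟩ : Δ) ∈ orbit (P : Subgroup G) (⟨y, hy⟩ : Δ) :=
        (horb _).symm ▸ Set.mem_univ _
      exact ⟨f u, ⟨u, u.2, rfl⟩, (hact u y).trans (congrArg Subtype.val hu)⟩
  have S : CfsgLib.Involutions.Eighteen.Setup φ.range (Sylow 17 G) := by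
    refine ⟨⟨fun {x y} e => Subtype.ext (Equiv.ext e)⟩, n17, fun P Q => ?_, fun P => ?_⟩
    · obtain ⟨g, hg⟩ := exists_smul_eq G P Q
      exact ⟨f g, hg⟩
    · refine ⟨(P : Subgroup G).map f, ?_, (hcardker P).1, ?_, (hcardker P).2⟩
      · rintro _ ⟨u, hu, rfl⟩
        exact (hact u P).trans (Sylow.smul_eq_iff_mem_normalizer.2 (le_normalizer hu))
      · rintro g hg _ ⟨u, hu, rfl⟩
        obtain ⟨g₀, rfl⟩ := hf g
        refine ⟨g₀ * u * g₀⁻¹, ?_, by simp⟩
        exact (mem_normalizer_iff.1 (Sylow.smul_eq_iff_mem_normalizer.1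
          ((hact g₀ P).symm.trans hg)) u).1 hu
  have hquot : ∀ r : ℕ, ∀ [Fact r.Prime], ∀ R : Sylow r G,
      Nat.card (Sylow r φ.range) ∣ Nat.card (Sylow r G) ∧
      (Nat.card (Sylow r φ.range) = Nat.card (Sylow r G) →
        K ≤ normalizer ((R : Subgroup G) : Set G)) := by
    intro r _ R
    set N := normalizer ((R : Subgroup G) : Set G) with hN
    let R' := R.mapSurjective hf
    have h1 : N.map f ≤ normalizer ((R' : Subgroup φ.range) : Set φ.range) := le_normalizer_map f
    have e1 : Nat.card (Sylow r φ.range) ∣ (N.map f).index := by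
      rw [R'.card_eq_index_normalizer]
      exact index_dvd_of_le h1
    have e2 : (N.map f).index = (N ⊔ K).index := by
      rw [Subgroup.index_map, hker, MonoidHom.range_eq_top.2 hf, index_top, mul_one]
    have e3 : (N ⊔ K).index ∣ Nat.card (Sylow r G) := by
      rw [R.card_eq_index_normalizer]; exact index_dvd_of_le le_sup_left
    refine ⟨e1.trans (e2 ▸ e3), fun he => ?_⟩
    have e4 : (N ⊔ K).index = N.index := by
      refine Nat.dvd_antisymm (index_dvd_of_le le_sup_left) ?_
      have := e2 ▸ e1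
      rwa [he, R.card_eq_index_normalizer] at this
    refine le_sup_right.trans (le_of_eq (?_ : N ⊔ K = N))
    refine (Subgroup.eq_of_le_of_card_ge le_sup_left (le_of_eq ?_)).symm
    have i1 := (N ⊔ K).card_mul_index
    have i2 := N.card_mul_index
    rw [e4] at i1
    exact Nat.eq_of_mul_eq_mul_right (Nat.pos_of_ne_zero N.index_ne_zero_of_finite) (i1.trans i2.symm)
  have s3 : Nat.card (Sylow 3 φ.range) = 136 :=
    S.card_three (n3 ▸ (hquot 3 (default : Sylow 3 G)).1) S.three_ne_one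
  have s2 : Nat.card (Sylow 2 φ.range) = 153 :=
    S.card_two (n3 ▸ (hquot 3 (default : Sylow 3 G)).1) (n2 ▸ (hquot 2 (default : Sylow 2 G)).1)
  have hK2 : ∀ R : Sylow 2 G, K ≤ normalizer ((R : Subgroup G) : Set G) := fun R =>
    (hquot 2 R).2 (s2.trans n2.symm)
  have hK3 : ∀ R : Sylow 3 G, K ≤ normalizer ((R : Subgroup G) : Set G) := fun R =>
    (hquot 3 R).2 (s3.trans n3.symm)
  -- the 17-part of `K`
  obtain ⟨P⟩ : Nonempty (Sylow 17 G) := inferInstance
  set T := (P : Subgroup G) ⊓ K with hT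
  have hTle : ∀ Q : Sylow 17 G, T ≤ (Q : Subgroup G) := by
    intro Q
    have h1 : T ≤ T ⊓ normalizer ((Q : Subgroup G) : Set G) :=
      le_inf le_rfl fun k hk => Sylow.smul_eq_iff_mem_normalizer.1 (hfix k hk.2 Q)
    have hTp : IsPGroup 17 T := P.isPGroup'.to_le inf_le_left
    exact (h1.trans (hTp.inf_normalizer_sylow Q).le).trans inf_le_right
  have hTn : T.Normal := ⟨fun k hk g => by
    refine ⟨?_, (MonoidHom.normal_ker φ).conj_mem k hk.2 g⟩
    have hm := hTle (g⁻¹ • P) hk
    rw [Sylow.coe_subgroup_smul, mem_pointwise_smul_iff_inv_smul_mem] at hm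
    simp [MulAut.smul_def, MulAut.conj_apply, MulAut.conj_inv_apply] at hm ⊢
    exact hm⟩
  have hTp : IsPGroup 17 T := P.isPGroup'.to_le inf_le_left
  have hTK : ¬ 17 ∣ T.relIndex K := by
    rw [hT, Subgroup.inf_relIndex_right, ← relIndex_sup_of_normal]
    exact fun hd => P.not_dvd_index (hd.trans (relIndex_dvd_index_of_le le_sup_left))
  have hno : ∀ r : ℕ, r.Prime → r ∣ Nat.card G → r ≠ 5 ∧ r ≠ 19 := by
    intro r hr hd
    by_contra hh
    have hr' : r = 5 ∨ r = 19 := by omega
    have := Fact.mk hr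
    obtain ⟨R⟩ : Nonempty (Sylow r G) := inferInstance
    have hRK : (R : Subgroup G) ≤ K := by
      intro x hx
      rw [← hker, MonoidHom.mem_ker]
      obtain ⟨j, hj⟩ := IsPGroup.iff_orderOf.1 R.isPGroup' ⟨x, hx⟩
      rw [Subgroup.orderOf_mk] at hj
      rw [← orderOf_eq_one_iff]
      by_contra hne
      obtain ⟨q, hq, hqd⟩ := Nat.exists_prime_and_dvd hne
      have hq1 : q ∣ r ^ j := hj ▸ hqd.trans (orderOf_map_dvd f x)
      have hqr : q = r := (Nat.prime_dvd_prime_iff_eq hq hr).1 (hq.dvd_of_dvd_pow hq1)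
      rcases S.prime_dvd hq (hqd.trans (orderOf_dvd_natCard _)) with e | e | e <;> omega
    set N := normalizer ((R : Subgroup G) : Set G) with hN
    have hi' : Nat.card (Sylow r G) = N.index := R.card_eq_index_normalizer
    have h17 : 17 ∣ N.index := by
      rw [← hi']
      rcases sylow_values h hr hd with ⟨e, -⟩ | ⟨-, e⟩ | ⟨-, e⟩
      · omega
      · rw [e]; norm_num
      · rw [e]; norm_num
    have htop : K ⊔ N = ⊤ := by
      have : Finite K := inferInstance
      rw [sup_comm, hN]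
      have h1 := Sylow.normalizer_sup_eq_top (R.subtype hRK)
      rw [Sylow.coe_subtype, Subgroup.subgroupOf_map_subtype, inf_of_le_left hRK] at h1
      exact h1
    have hidx : N.index = N.relIndex K := by
      rw [← Subgroup.relIndex_top_right, ← htop, sup_comm, relIndex_sup_of_normal]
    set C := N ⊓ T with hC
    have hCd : C.relIndex T ∣ N.index := by
      rw [hC, Subgroup.inf_relIndex_right, ← relIndex_sup_of_normal]
      exact relIndex_dvd_index_of_le le_sup_left
    obtain ⟨j, hj⟩ := IsPGroup.iff_card.1 hTp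
    have hCT : Nat.card C * C.relIndex T = Nat.card T := by
      rw [← Subgroup.relIndex_bot_left C, Subgroup.relIndex_mul_relIndex _ _ _ bot_le inf_le_right,
        Subgroup.relIndex_bot_left]
    obtain ⟨i, -, hi⟩ := (Nat.dvd_prime_pow (Fact.out : Nat.Prime 17)).1
      (hj ▸ Dvd.intro_left _ hCT : C.relIndex T ∣ 17 ^ j)
    have hidx2 : ¬ 17 ^ 2 ∣ N.index := by
      rw [← hi']
      rcases sylow_values h hr hd with ⟨-, e⟩ | ⟨-, e⟩ | ⟨-, e⟩ <;> rw [e] <;> norm_num
    rcases Nat.lt_or_ge i 1 with hi0 | hi1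
    · -- `T` normalises `R`
      have hTN : T ≤ N ⊓ K := by
        refine le_inf ?_ inf_le_right
        rw [show i = 0 by omega, pow_zero, Subgroup.relIndex_eq_one] at hi
        exact hi.trans inf_le_left
      refine hTK (h17.trans ?_)
      rw [hidx, ← Subgroup.inf_relIndex_right]
      exact relIndex_dvd_of_le_left K hTN
    · have hi2 : i = 1 := by
        by_contra hne
        exact hidx2 ((pow_dvd_pow 17 (by omega : 2 ≤ i)).trans (hi ▸ hCd))
      rw [hi2, pow_one] at hi
      rw [hi] at hCT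
      let ψ : (R : Subgroup G) →* MulAut T := (MulAut.conjNormal (H := T)).comp (R : Subgroup G).subtype
      let _ : MulAction (R : Subgroup G) T := MulAction.compHom _ ψ
      have hRT : (R : Subgroup G) ⊓ T = ⊥ :=
        Subgroup.eq_bot_of_card_eq _ (Nat.eq_one_of_dvd_coprimes
          (IsPGroup.coprime_card_of_ne r 17 (by omega) _ _ R.isPGroup' hTp)
          (Subgroup.card_dvd_of_le inf_le_left) (Subgroup.card_dvd_of_le inf_le_right))
      have hfp : ∀ t : T, t ∈ fixedPoints (R : Subgroup G) T ↔ (t : G) ∈ C := by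
        intro t
        constructor
        · intro ht
          refine ⟨?_, t.2⟩
          show (t : G) ∈ normalizer ((R : Subgroup G) : Set G)
          rw [mem_normalizer_iff]
          intro x
          have hcomm : ∀ y ∈ (R : Subgroup G), y * (t : G) = t * y := fun y hy =>
            mul_inv_eq_iff_eq_mul.1 (congrArg Subtype.val (ht ⟨y, hy⟩) : y * (t : G) * y⁻¹ = t)
          constructor
          · intro hx
            rwa [← hcomm x hx, mul_inv_cancel_right]
          · intro hx
            have e := hcomm _ hx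
            rw [show x = (t : G) * x * (t : G)⁻¹ by
              have : (t : G) * x * (t : G)⁻¹ * t = t * ((t : G) * x * (t : G)⁻¹) := e
              rw [inv_mul_cancel_right] at this
              exact mul_left_cancel this]
            exact hx
        · intro ht y
          refine Subtype.ext ?_
          show (y : G) * t * (y : G)⁻¹ = t
          have h1 : (y : G) * t * (y : G)⁻¹ * (t : G)⁻¹ ∈ (R : Subgroup G) := by
            rw [mul_assoc (y : G) t, mul_assoc (y : G)]
            exact mul_mem y.2 ((mem_normalizer_iff.1 ht.1 _).1 (inv_mem y.2))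
          have h2 : (y : G) * t * (y : G)⁻¹ * (t : G)⁻¹ ∈ T :=
            mul_mem (hTn.conj_mem t t.2 y) (inv_mem t.2)
          exact mul_inv_eq_one.1 (Subgroup.mem_bot.1 (hRT ▸ (⟨h1, h2⟩ : _ ∈ (R : Subgroup G) ⊓ T)))
      have hcfp : Nat.card (fixedPoints (R : Subgroup G) T) = Nat.card C := Nat.card_congr
        { toFun := fun t => ⟨(t : T), (hfp t.1).1 t.2⟩
          invFun := fun c => ⟨⟨c, c.2.2⟩, (hfp _).2 c.2⟩
          left_inv := fun t => rfl
          right_inv := fun c => rfl }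
      have hm := R.isPGroup'.card_modEq_card_fixedPoints T
      rw [hcfp, ← hCT] at hm
      have hd16 : r ∣ Nat.card C * 17 - Nat.card C := (Nat.modEq_iff_dvd' (by omega)).1 hm.symm
      rw [show Nat.card C * 17 - Nat.card C = Nat.card C * 2 ^ 4 by omega] at hd16
      rcases (hr.dvd_mul).1 hd16 with hd' | hd'
      · have h5 : r ∣ 17 ^ j := hj ▸ hCT ▸ hd'.mul_right 17
        have := (Nat.prime_dvd_prime_iff_eq hr (Fact.out : Nat.Prime 17)).1 (hr.dvd_of_dvd_pow h5)
        omega
      · have := (Nat.prime_dvd_prime_iff_eq hr Nat.prime_two).1 (hr.dvd_of_dvd_pow hd')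
        omega
  have hprimes : ∀ r : ℕ, r.Prime → r ∣ Nat.card G → r = 2 ∨ r = 3 ∨ r = 17 := by
    intro r hr hd
    obtain ⟨h5, h19⟩ := hno r hr hd
    rcases sylow_values h hr hd with ⟨e, -⟩ | ⟨e | e, -⟩ | ⟨e | e, -⟩ <;> omega
  have hTbot : T = ⊥ := by
    refine eq_bot_of_centralised hZ hTp fun r hr hne hd => ?_
    rcases hprimes r hr hd with rfl | rfl | rfl
    · obtain ⟨R⟩ : Nonempty (Sylow 2 G) := inferInstance
      exact ⟨R, fun y hy m hm => commute_of_normalize (inf_le_right.trans (hK2 R))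
        (Subgroup.eq_bot_of_card_eq _ (Nat.eq_one_of_dvd_coprimes
          (IsPGroup.coprime_card_of_ne 2 17 (by omega) _ _ R.isPGroup' hTp)
          (Subgroup.card_dvd_of_le inf_le_left) (Subgroup.card_dvd_of_le inf_le_right))) hy hm⟩
    · obtain ⟨R⟩ : Nonempty (Sylow 3 G) := inferInstance
      exact ⟨R, fun y hy m hm => commute_of_normalize (inf_le_right.trans (hK3 R))
        (Subgroup.eq_bot_of_card_eq _ (Nat.eq_one_of_dvd_coprimes
          (IsPGroup.coprime_card_of_ne 3 17 (by omega) _ _ R.isPGroup' hTp)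
          (Subgroup.card_dvd_of_le inf_le_left) (Subgroup.card_dvd_of_le inf_le_right))) hy hm⟩
    · exact absurd rfl hne
  -- `K` is trivial
  have hKbot : K = ⊥ := by
    rw [← Subgroup.card_eq_one]
    by_contra hne
    obtain ⟨q, hq, hqd⟩ := Nat.exists_prime_and_dvd hne
    have := Fact.mk hq
    have hqG := hqd.trans (Subgroup.card_subgroup_dvd_card K)
    rcases hprimes q hq hqG with h2 | h3 | h17
    all_goals
      obtain ⟨⟨x, hxK⟩, hx⟩ := exists_prime_orderOf_dvd_card' (G := K) q hqd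
      rw [Subgroup.orderOf_mk] at hx
      have hxp : IsPGroup q (zpowers x) := IsPGroup.of_card (n := 1) (by rw [Nat.card_zpowers, hx, pow_one])
      obtain ⟨R, hR⟩ := hxp.exists_le_sylow
      have hne1 : (R : Subgroup G) ⊓ K ≠ ⊥ := fun e => hq.ne_one (by
        have hx1 : x = 1 := Subgroup.mem_bot.1 (e ▸ (⟨hR (mem_zpowers x), hxK⟩ : x ∈ (R : Subgroup G) ⊓ K))
        rw [← hx, hx1, orderOf_one])
    · subst h2
      have hle : ∀ R' : Sylow 2 G, (R : Subgroup G) ⊓ K ≤ (R' : Subgroup G) := fun R' => by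
        have h1 : (R : Subgroup G) ⊓ K ≤
            ((R : Subgroup G) ⊓ K) ⊓ normalizer ((R' : Subgroup G) : Set G) :=
          le_inf le_rfl (inf_le_right.trans (hK2 R'))
        exact (h1.trans ((R.isPGroup'.to_le inf_le_left : IsPGroup 2 ((R : Subgroup G) ⊓ K : Subgroup G)).inf_normalizer_sylow R').le).trans inf_le_right
      have hMn : ((R : Subgroup G) ⊓ K).Normal := ⟨fun k hk g => by
        refine ⟨?_, (MonoidHom.normal_ker φ).conj_mem k hk.2 g⟩
        have hm := hle (g⁻¹ • R) hk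
        rw [Sylow.coe_subgroup_smul, mem_pointwise_smul_iff_inv_smul_mem] at hm
        simp [MulAut.smul_def, MulAut.conj_apply, MulAut.conj_inv_apply] at hm ⊢
        exact hm⟩
      refine hne1 (eq_bot_of_centralised hZ (R.isPGroup'.to_le inf_le_left) fun r hr hne hd => ?_)
      rcases hprimes r hr hd with rfl | rfl | rfl
      · exact absurd rfl hne
      · obtain ⟨S'⟩ : Nonempty (Sylow 3 G) := inferInstance
        exact ⟨S', fun y hy m hm => commute_of_normalize (inf_le_right.trans (hK3 S'))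
          (Subgroup.eq_bot_of_card_eq _ (Nat.eq_one_of_dvd_coprimes
            (IsPGroup.coprime_card_of_ne 3 2 (by omega) _ _ S'.isPGroup' (R.isPGroup'.to_le inf_le_left))
            (Subgroup.card_dvd_of_le inf_le_left) (Subgroup.card_dvd_of_le inf_le_right))) hy hm⟩
      · exact ⟨P, fun y hy m hm => commute_of_normalize
          (fun k hk => Sylow.smul_eq_iff_mem_normalizer.1 (hfix k (Subgroup.mem_inf.1 hk).2 P))
          (Subgroup.eq_bot_of_card_eq _ (Nat.eq_one_of_dvd_coprimes
            (IsPGroup.coprime_card_of_ne 17 2 (by omega) _ _ P.isPGroup' (R.isPGroup'.to_le inf_le_left))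
            (Subgroup.card_dvd_of_le inf_le_left) (Subgroup.card_dvd_of_le inf_le_right))) hy hm⟩
    · subst h3
      have hle : ∀ R' : Sylow 3 G, (R : Subgroup G) ⊓ K ≤ (R' : Subgroup G) := fun R' => by
        have h1 : (R : Subgroup G) ⊓ K ≤
            ((R : Subgroup G) ⊓ K) ⊓ normalizer ((R' : Subgroup G) : Set G) :=
          le_inf le_rfl (inf_le_right.trans (hK3 R'))
        exact (h1.trans ((R.isPGroup'.to_le inf_le_left : IsPGroup 3 ((R : Subgroup G) ⊓ K : Subgroup G)).inf_normalizer_sylow R').le).trans inf_le_right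
      have hMn : ((R : Subgroup G) ⊓ K).Normal := ⟨fun k hk g => by
        refine ⟨?_, (MonoidHom.normal_ker φ).conj_mem k hk.2 g⟩
        have hm := hle (g⁻¹ • R) hk
        rw [Sylow.coe_subgroup_smul, mem_pointwise_smul_iff_inv_smul_mem] at hm
        simp [MulAut.smul_def, MulAut.conj_apply, MulAut.conj_inv_apply] at hm ⊢
        exact hm⟩
      refine hne1 (eq_bot_of_centralised hZ (R.isPGroup'.to_le inf_le_left) fun r hr hne hd => ?_)
      rcases hprimes r hr hd with rfl | rfl | rfl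
      · obtain ⟨S'⟩ : Nonempty (Sylow 2 G) := inferInstance
        exact ⟨S', fun y hy m hm => commute_of_normalize (inf_le_right.trans (hK2 S'))
          (Subgroup.eq_bot_of_card_eq _ (Nat.eq_one_of_dvd_coprimes
            (IsPGroup.coprime_card_of_ne 2 3 (by omega) _ _ S'.isPGroup' (R.isPGroup'.to_le inf_le_left))
            (Subgroup.card_dvd_of_le inf_le_left) (Subgroup.card_dvd_of_le inf_le_right))) hy hm⟩
      · exact absurd rfl hne
      · exact ⟨P, fun y hy m hm => commute_of_normalize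
          (fun k hk => Sylow.smul_eq_iff_mem_normalizer.1 (hfix k (Subgroup.mem_inf.1 hk).2 P))
          (Subgroup.eq_bot_of_card_eq _ (Nat.eq_one_of_dvd_coprimes
            (IsPGroup.coprime_card_of_ne 17 3 (by omega) _ _ P.isPGroup' (R.isPGroup'.to_le inf_le_left))
            (Subgroup.card_dvd_of_le inf_le_left) (Subgroup.card_dvd_of_le inf_le_right))) hy hm⟩
    · subst h17
      refine hTK ?_
      rw [hTbot, Subgroup.relIndex_bot_left]
      exact hqd
  have hinj : Function.Injective f := by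
    rw [← MonoidHom.ker_eq_bot_iff, hker, hKbot]
  let e : G ≃* φ.range := MulEquiv.ofBijective f ⟨hinj, hf⟩
  rcases S.identify (n3 ▸ (hquot 3 (default : Sylow 3 G)).1) hF with h' | h'
  · obtain ⟨e'⟩ := h'; exact Or.inl ⟨e.trans e'⟩
  · obtain ⟨e'⟩ := h'; exact Or.inr ⟨e.trans e'⟩

/-- Let G be a finite group with trivial centre whose set of Sylow numbers (numbers of Sylow r-subgroups, r over the prime divisors of its order) is exactly {18, 136, 153}. Then G is isomorphic to PSL(2, 17) or to PGL(2, 17). -/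
theorem result {G : Type*} [Group G] [Finite G] (hZ : Subgroup.center G = ⊥) (hNS : {c : ℕ | ∃ r : ℕ, r.Prime ∧ r ∣ Nat.card G ∧ c = Nat.card (Sylow r G)} = ({18, 136, 153} : Set ℕ))
    {F : Type*} [Field F] [Fintype F] (hF : Fintype.card F = 17) :
    Nonempty (G ≃* Matrix.ProjectiveSpecialLinearGroup (Fin 2) F) ∨ Nonempty (G ≃* (GL (Fin 2) F ⧸ Subgroup.center (GL (Fin 2) F))) := by
  exact main hZ hNS hF

end Cfsg.Agent.S3641
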