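import Cfsg.Statements.S3648
import Cfsg.Agent.Lib.NsePgl.Sharp
import Cfsg.Agent.Lib.NsePgl.Model

set_option autoImplicit false
open Cfsg

namespace Cfsg.Agent.S3648

open CfsgLib.NsePgl

/-- For a finite group X let nse(X) be the set of values of the function 'number of elements of order k' over the element orders k that occur. Let F be a finite field of odd order q > 3 and P = PGL(2, F) = GL(2, F) modulo its centre. If G is a finite group with the same order as P and nse(G) = nse(P), then G is isomorphic to P. -/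
theorem result {F : Type*} [Field F] [Fintype F] (hodd : Odd (Fintype.card F)) (h3 : 3 < Fintype.card F)
    {G : Type*} [Group G] [Finite G] (hcard : Nat.card G = Nat.card (GL (Fin 2) F ⧸ Subgroup.center (GL (Fin 2) F)))
    (hnse : {c : ℕ | 0 < c ∧ ∃ n : ℕ, c = Nat.card {g : G // orderOf g = n}} = {c : ℕ | 0 < c ∧ ∃ n : ℕ, c = Nat.card {g : (GL (Fin 2) F ⧸ Subgroup.center (GL (Fin 2) F)) // orderOf g = n}}) :
    Nonempty (G ≃* (GL (Fin 2) F ⧸ Subgroup.center (GL (Fin 2) F))) := by
  classical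
  obtain ⟨p, hchar⟩ := CharP.exists F
  obtain ⟨f, hp, hq⟩ := FiniteField.card F p
  have : Fact p.Prime := ⟨hp⟩
  set q := Fintype.card F with hqdef
  have hp2 : p ≠ 2 := by
    rintro rfl
    rw [hq, Nat.odd_pow_iff f.pos.ne'] at hodd
    exact absurd hodd (by decide)
  have h2 : (2 : F) ≠ 0 := fun h => hp2 ((Nat.prime_dvd_prime_iff_eq hp Nat.prime_two).1
    ((CharP.cast_eq_zero_iff F p 2).1 (by exact_mod_cast h)))
  have hcP : Nat.card (GL (Fin 2) F ⧸ Subgroup.center (GL (Fin 2) F)) = q * (q ^ 2 - 1) := by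
    show Nat.card (Matrix.ProjGenLinGroup (Fin 2) F) = _
    rw [CfsgLib.Classical.card_PGL_eq_card_SL, CfsgLib.Classical.card_SL_two, Nat.card_eq_fintype_card]
  have hG : Nat.card G = q * (q ^ 2 - 1) := hcard.trans hcP
  have hG2 : 2 ∣ Nat.card G := by
    rw [hG]
    refine Dvd.dvd.mul_left ?_ q
    obtain ⟨m, hm⟩ := (hodd.pow (n := 2))
    exact ⟨m, by omega⟩
  have hP : ∀ n, ordCount G n ≠ 0 → ∃ m, ordCount G n = ordCount (GL (Fin 2) F ⧸ Subgroup.center (GL (Fin 2) F)) m := by
    intro n hn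
    obtain ⟨-, m, hm⟩ := (Set.ext_iff.1 hnse (ordCount G n)).1 ⟨Nat.pos_of_ne_zero hn, n, rfl⟩
    exact ⟨m, hm⟩
  have hsq1 : q ^ 2 ≠ 1 := by nlinarith
  have htwo : ordCount G 2 = q ^ 2 := by
    obtain ⟨-, n, hn⟩ := (Set.ext_iff.1 hnse (q ^ 2)).2 ⟨by positivity, 2, (ordCount_two h2).symm⟩
    rcases lt_or_ge n 3 with h | h
    · interval_cases n
      · exact absurd (hn.trans ordCount_zero) (by positivity)
      · exact absurd (hn.trans ordCount_one) hsq1
      · exact hn.symm
    · have := even_ordCount (G := G) h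
      rw [show ordCount G n = q ^ 2 from hn.symm, ← Nat.not_odd_iff_even] at this
      exact absurd hodd.pow this
  have hbig : ∀ k, 3 ≤ k → ordCount G k = q ^ 2 - 1 ∨ q ∣ ordCount G k := by
    intro k hk
    by_cases h0 : ordCount G k = 0
    · exact Or.inr (h0 ▸ dvd_zero q)
    obtain ⟨m, hm⟩ := hP k h0
    rw [hm] at h0 ⊢
    have hm1 : m ≠ 1 := fun h => by
      subst h
      have := even_ordCount (G := G) hk
      rw [hm, ordCount_one] at this
      simp at this
    by_cases hpm : p ∣ m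
    · rcases (ordCount_big p h2 m).1 hpm with h | h
      · exact Or.inl (h ▸ ordCount_p p h2)
      · exact absurd h h0
    · exact Or.inr ((ordCount_big p h2 m).2 hpm hm1)
  have D : Data G p f q := ⟨hp, hp2, hq, h3, hG, htwo, hbig⟩
  obtain ⟨K, hK, hK', hcK, ⟨e⟩⟩ := D.exists_pgl
  let r : K ≃+* F := FiniteField.ringEquivOfCardEq (by rw [← Nat.card_eq_fintype_card, hcK])
  let ψ : GL (Fin 2) K ≃* GL (Fin 2) F := Units.mapEquiv r.mapMatrix.toMulEquiv
  have hψ : (Subgroup.center (GL (Fin 2) K)).map ψ.toMonoidHom = Subgroup.center (GL (Fin 2) F) := by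
    ext x
    simp only [Subgroup.mem_map, Subgroup.mem_center_iff]
    constructor
    · rintro ⟨y, hy, rfl⟩ g
      obtain ⟨g, rfl⟩ := ψ.surjective g
      exact congrArg ψ (hy g) |> fun h => by simpa using h
    · intro hx
      exact ⟨ψ.symm x, fun g => ψ.injective (by simpa using hx (ψ g)), ψ.apply_symm_apply x⟩
  exact ⟨e.trans (QuotientGroup.congr _ _ ψ hψ)⟩

end Cfsg.Agent.S3648
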