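import Cfsg.Statements.S3660
import Cfsg.Agent.Lib.Recog.SL2Char2

set_option autoImplicit false
open Cfsg

namespace Cfsg.Agent.S3660

/-- The prime graph of a finite group has the prime divisors of its order as vertices, two distinct primes p, q being joined when the group has an element of order pq; two groups have the same prime graph when they have the same prime divisors and the same joined pairs. Let F be a finite field of characteristic 2 with at least 4 elements. Then there are finite groups of arbitrarily large order with the same prime graph as PSL(2,F); in particular PSL(2,F) is not determined by its prime graph. -/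
theorem result {F : Type*} [Field F] [Fintype F] [CharP F 2] (hF : 4 ≤ Fintype.card F) (N : ℕ) :
    ∃ (H : Type) (_ : Group H) (_ : Finite H), N < Nat.card H ∧
      ((∀ p : ℕ, p.Prime → (p ∣ Nat.card (Matrix.ProjectiveSpecialLinearGroup (Fin 2) F) ↔ p ∣ Nat.card H)) ∧
      (∀ p q : ℕ, p.Prime → q.Prime → p ≠ q → ((∃ g : (Matrix.ProjectiveSpecialLinearGroup (Fin 2) F), orderOf g = p * q) ↔ (∃ g : H, orderOf g = p * q)))) := by
  obtain ⟨t, ht⟩ := CfsgLib.Recog.exists_involution_SL_two (F := F)
  obtain ⟨H, hG, hFin, hN, hp, hpq⟩ := CfsgLib.Recog.exists_large_primeGraph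
    (CfsgLib.Recog.slAct (F := F)) Nat.prime_two
    (CfsgLib.Recog.pow_char_eq_one 2) (by have h := orderOf_dvd_natCard t; rwa [ht] at h) (fun g hg hg2 hfix => by
      obtain ⟨v, hv, hfix⟩ := hfix
      exact absurd ((Nat.prime_dvd_prime_iff_eq hg Nat.prime_two).1
        (CfsgLib.Recog.orderOf_dvd_two_of_fixed hv hfix)) hg2) N
  refine ⟨H, hG, Finite.of_fintype H, by rwa [Nat.card_eq_fintype_card],
    fun r hr => ?_, fun r s hr hs hrs => ?_⟩
  · rw [← Nat.card_congr (CfsgLib.Recog.pslEquivSL (F := F)).toEquiv]
    exact hp r hr
  · rw [← hpq r s hr hs hrs]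
    exact CfsgLib.Recog.exists_orderOf_eq_iff
      (CfsgLib.Recog.orderOf_equiv_range (CfsgLib.Recog.pslEquivSL (F := F))).symm _

end Cfsg.Agent.S3660
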