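import Cfsg.Statements.S3663
import Cfsg.Agent.Lib.CharsMore.U34.Model
import Cfsg.Agent.Lib.CharsMore.U34.Module
import Mathlib

set_option autoImplicit false
set_option linter.style.haveILetI false
open Cfsg

namespace Cfsg.Agent.S3663

/-- The prime graph of a finite group has the prime divisors of its order as vertices, two distinct primes p, q being joined when the group has an element of order pq; two groups have the same prime graph when they have the same prime divisors and the same joined pairs. Let F be the field with 16 elements and L = PSU(3,4) realised over F. There are finite groups of arbitrarily large order with the same prime graph as L. -/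
theorem result {F : Type*} [Field F] [Fintype F] (hF : Fintype.card F = 16) (N : ℕ) :
    ∃ (H : Type) (_ : Group H) (_ : Finite H), N < Nat.card H ∧
      ((∀ p : ℕ, p.Prime → (p ∣ Nat.card (Cfsg.PSU 3 F 4) ↔ p ∣ Nat.card H)) ∧
      (∀ p q : ℕ, p.Prime → q.Prime → p ≠ q → ((∃ g : (Cfsg.PSU 3 F 4), orderOf g = p * q) ↔ (∃ g : H, orderOf g = p * q)))) := by
  classical
  haveI : Finite (Cfsg.PSU 3 F 4) := Nat.finite_of_card_ne_zero (by
    rw [CfsgLib.CharsMore.U34.card_PSU hF]; norm_num)
  haveI := CfsgLib.CharsMore.U34.isSimple hF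
  have hord := CfsgLib.CharsMore.U34.order_cases hF
  have hC : ∀ x : Cfsg.PSU 3 F 4, orderOf x = 13 →
      Nat.card (Subgroup.centralizer ({x} : Set (Cfsg.PSU 3 F 4))) = 13 := by
    intro x hx
    haveI : Fact (Nat.Prime 13) := ⟨by norm_num⟩
    have hp : IsPGroup 13 (Subgroup.centralizer ({x} : Set (Cfsg.PSU 3 F 4))) := by
      intro y
      obtain ⟨y, hy⟩ := y
      refine ⟨1, Subtype.ext ?_⟩
      show y ^ 13 ^ 1 = 1
      rw [pow_one, ← orderOf_dvd_iff_pow_eq_one]
      by_contra hnd
      obtain ⟨r, hr, hry, hr13⟩ : ∃ r, r.Prime ∧ r ∣ orderOf y ∧ r ≠ 13 := by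
        rcases hord y with h | h | h | h
        all_goals first
          | exact absurd h hnd
          | (have hn1 : orderOf y ≠ 1 := fun h1 => hnd (h1 ▸ one_dvd _)
             obtain ⟨r, hr, hry⟩ := Nat.exists_prime_and_dvd hn1
             refine ⟨r, hr, hry, ?_⟩
             rintro rfl
             have := hry.trans h
             norm_num at this)
      obtain ⟨c, hc⟩ := hry
      have hc0 : c ≠ 0 := fun h => (orderOf_pos y).ne' (by rw [hc, h, mul_zero])
      have ho : orderOf (y ^ c) = r := by
        rw [orderOf_pow_of_dvd hc0 ⟨r, by rw [hc, mul_comm]⟩, hc, Nat.mul_div_cancel _ (Nat.pos_of_ne_zero hc0)]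
      have hcomm : Commute (y ^ c) x := Commute.pow_left (Subgroup.mem_centralizer_singleton_iff.1 hy) c
      have h13 : orderOf (y ^ c * x) = r * 13 := by
        rw [hcomm.orderOf_mul_eq_mul_orderOf_of_coprime, ho, hx]
        rw [ho, hx]
        exact (Nat.coprime_primes hr (by norm_num)).2 hr13
      have h' := hord (y ^ c * x)
      rw [h13] at h'
      rcases h' with h | h | h | h
      · exact absurd ((Dvd.intro_left r rfl).trans h) (by norm_num)
      · exact absurd ((Dvd.intro_left r rfl).trans h) (by norm_num)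
      · exact hr.ne_one (Nat.dvd_one.1 (Nat.dvd_of_mul_dvd_mul_right (by norm_num : 0 < 13) (by simpa using h)))
      · exact absurd ((Dvd.intro_left r rfl).trans h) (by norm_num)
    obtain ⟨k, hk⟩ := hp.exists_card_eq
    have h1 : 13 ^ k ∣ 62400 := by
      rw [← hk, ← CfsgLib.CharsMore.U34.card_PSU hF]
      exact Subgroup.card_subgroup_dvd_card _
    have h2 : 13 ∣ Nat.card (Subgroup.centralizer ({x} : Set (Cfsg.PSU 3 F 4))) := by
      rw [← hx]
      exact (Subgroup.centralizer _).orderOf_dvd_natCard (Subgroup.mem_centralizer_singleton_iff.2 rfl)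
    rw [hk] at h2 ⊢
    rcases k with _ | _ | k
    · norm_num at h2
    · norm_num
    · exact absurd (dvd_trans ⟨13 ^ k, by ring⟩ h1 : 13 ^ 2 ∣ 62400) (by norm_num)
  obtain ⟨χ, hχ⟩ := CfsgLib.CharsMore.U34.exists_fpf_char (CfsgLib.CharsMore.U34.card_PSU hF) hC
  obtain ⟨n, ρ, hρi, hρ⟩ := χ.2
  haveI : NeZero n := ⟨by
    rintro rfl
    refine CfsgLib.CharApps.deg_ne_zero χ ?_
    rw [← hρ]; simp⟩
  obtain ⟨r, μ, hr, hμ⟩ := CfsgLib.CharsMore.U34.exists_modular_hom ρ 5
  refine CfsgLib.CharsMore.U34.exists_extension hr μ (fun x hx => hμ _ _ ?_)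
    (by rw [CfsgLib.CharsMore.U34.card_PSU hF]; norm_num)
    (CfsgLib.CharsMore.U34.exists_order_wit hF 0) (CfsgLib.CharsMore.U34.exists_order_wit hF 1) hord N
  refine CfsgLib.CharsMore.U34.sum_pow_eq_zero ρ hx (by norm_num) ?_
  rw [hρ]
  exact hχ x hx

end Cfsg.Agent.S3663
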