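import Cfsg.Statements.S3669
import Cfsg.Agent.Lib.Recog.OrderSixty

set_option autoImplicit false
open Cfsg

namespace Cfsg.Agent.S3669

/-- The character degree graph of a finite group has as vertices the primes dividing some irreducible complex character degree, two distinct primes being joined when their product divides some irreducible character degree; two groups have the same character degree graph when they have the same vertices and the same joined pairs. A finite group of order 60 with the same character degree graph as the alternating group A₅ (whose character degrees are 1, 3, 4, 5, so the graph has vertices 2, 3, 5 and no edges) is isomorphic to A₅. -/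
theorem result {G : Type*} [Group G] [Finite G] (hcard : Nat.card G = 60)
    (hΓ : Cfsg.degreePrimes G = Cfsg.degreePrimes (alternatingGroup (Fin 5)) ∧ Cfsg.degreeGraph G = Cfsg.degreeGraph (alternatingGroup (Fin 5))) : Nonempty (G ≃* alternatingGroup (Fin 5)) := by
  have h5 : 5 ∈ Cfsg.degreePrimes (alternatingGroup (Fin 5)) := by
    have hA : Nat.card (alternatingGroup (Fin 5)) = 60 := by
      rw [nat_card_alternatingGroup, Nat.card_fin]; rfl
    haveI := Fact.mk Nat.prime_five
    rw [CfsgLib.Recog.five_mem_degreePrimes_iff hA]
    refine (CfsgLib.Recog.card_sylow_five hA).2.resolve_left fun h1 => ?_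
    haveI : Subsingleton (Sylow 5 (alternatingGroup (Fin 5))) := (Nat.card_eq_one_iff_unique.1 h1).1
    haveI : IsSimpleGroup (alternatingGroup (Fin 5)) := alternatingGroup.isSimpleGroup_five
    obtain ⟨P⟩ : Nonempty (Sylow 5 (alternatingGroup (Fin 5))) := inferInstance
    have hP := (CfsgLib.Recog.card_sylow_five hA).1 P
    rcases IsSimpleGroup.eq_bot_or_eq_top_of_normal _ P.normal_of_subsingleton with h | h
    · rw [h, Subgroup.card_bot] at hP; omega
    · rw [h, Subgroup.card_top, hA] at hP; omega
  rw [← hΓ.1, CfsgLib.Recog.five_mem_degreePrimes_iff hcard] at h5
  haveI := CfsgLib.Recog.isSimpleGroup_of_six hcard h5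
  exact CfsgLib.Small.equiv_alternating_five hcard

end Cfsg.Agent.S3669
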