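import Cfsg.Statements.S3668
import Cfsg.Agent.Lib.Small.Orders3640
import Cfsg.Agent.Lib.Small.DegreeGraphTargets
import Cfsg.Agent.Lib.Small.Order5616
import Cfsg.Agent.Lib.Small.DegreeGraphSimple
import Cfsg.Agent.S0254
import Cfsg.Agent.S0494
import Cfsg.Agent.S0495
import Cfsg.Agent.S0497
import Cfsg.Agent.S0498
import Cfsg.Agent.S0981
import Cfsg.Agent.S0984
import Cfsg.Agent.S1011
import Cfsg.Agent.S1020
import Cfsg.Agent.S1021
import Cfsg.Agent.S3669

set_option autoImplicit false
set_option linter.style.haveILetI false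
open Cfsg

namespace Cfsg.Agent.S3668

open CfsgLib.Small CfsgLib.Small.GraphTargets

universe u

theorem nonempty_trans {G S X : Type*} [Group G] [Group S] [Group X] (h1 : Nonempty (G ≃* X))
    (h2 : Nonempty (S ≃* X)) : Nonempty (G ≃* S) :=
  h1.elim fun e1 => h2.elim fun e2 => ⟨e1.trans e2.symm⟩

/-- The sieve of orders below 6000. -/
theorem sieve : DegGraph.Sieve.{u} := fun _ _ _ _ h h' => Below6000.card_simple_lt_6000 h h'

/-- The character degree graph of a finite group has as vertices the primes dividing some irreducible complex character degree, two distinct primes being joined when their product divides some irreducible character degree; two groups have the same character degree graph when they have the same vertices and the same joined pairs. Let S be a finite non-abelian simple group of order less than 6000. If a finite group G has the same order as S and the same character degree graph as S, then G is isomorphic to S. -/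
theorem result {S : Type*} [Group S] [Finite S] [IsSimpleGroup S] (hS : ¬ IsMulCommutative S)
    (hlt : Nat.card S < 6000) {G : Type*} [Group G] [Finite G] (hcard : Nat.card G = Nat.card S) (hΓ : Cfsg.degreePrimes G = Cfsg.degreePrimes S ∧ Cfsg.degreeGraph G = Cfsg.degreeGraph S) :
    Nonempty (G ≃* S) := by
  obtain ⟨N, hN⟩ : ∃ N, Nat.card S = N := ⟨_, rfl⟩
  have hmem := Below6000.card_simple_lt_6000 hS hlt
  rw [hN] at hmem hcard
  by_cases h60 : N = 60
  · subst h60
    obtain ⟨e⟩ := Agent.S0494.result (G := S) hN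
    obtain ⟨f⟩ := Agent.S3669.result hcard
      ⟨hΓ.1.trans (degreePrimes_congr e), hΓ.2.trans (degreeGraph_congr e)⟩
    exact ⟨f.trans e.symm⟩
  simp only [List.mem_cons, List.not_mem_nil, or_false] at hmem
  rcases hmem with rfl | rfl | rfl | rfl | rfl | rfl | rfl | rfl | rfl | rfl | rfl
  · exact absurd rfl h60
  · haveI : Fact (Nat.Prime 7) := ⟨by norm_num⟩
    obtain ⟨hp, -⟩ := lin_odd (S := S) (t := 7) (by norm_num) (ZMod.card 7) (by norm_num)
      (N := 168) (by norm_num) (Agent.S0495.result (G := S) hN (F := ZMod 7) (ZMod.card 7))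
    obtain ⟨hG, -⟩ := DegGraph.isSimpleGroup_of_degreeGraph sieve (G := G) (N := 168) (by decide) hcard
      (fun r hr hd _ _ => hΓ.1 ▸ hp r hr hd) (fun h => absurd h (by norm_num))
      (fun h => absurd h (by norm_num))
    exact nonempty_trans (Agent.S0495.result (G := G) hcard (F := ZMod 7) (ZMod.card 7))
      (Agent.S0495.result (G := S) hN (F := ZMod 7) (ZMod.card 7))
  · haveI : Fintype (GaloisField 3 2) := Fintype.ofFinite _
    have hF : Fintype.card (GaloisField 3 2) = 9 := by
      rw [← Nat.card_eq_fintype_card, GaloisField.card 3 2 two_ne_zero]; rfl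
    obtain ⟨f⟩ := Agent.S0254.result hF
    obtain ⟨e⟩ := Agent.S0497.result (G := S) hN
    obtain ⟨hp, hadj⟩ := lin_odd (S := S) (t := 3) (by norm_num) hF (by norm_num)
      (N := 360) (by norm_num) ⟨e.trans f.symm⟩
    obtain ⟨hG, -⟩ := DegGraph.isSimpleGroup_of_degreeGraph sieve (G := G) (N := 360) (by decide) hcard
      (fun r hr hd _ _ => hΓ.1 ▸ hp r hr hd)
      (fun _ => by rw [hΓ.2, hadj, hadj]; norm_num)
      (fun h => absurd h (by norm_num))
    exact nonempty_trans (Agent.S0497.result (G := G) hcard) ⟨e⟩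
  · haveI : Fintype (GaloisField 2 3) := Fintype.ofFinite _
    have hF : Fintype.card (GaloisField 2 3) = 8 := by
      rw [← Nat.card_eq_fintype_card, GaloisField.card 2 3 three_ne_zero]; rfl
    obtain ⟨hp, hadj⟩ := lin_even (S := S) hF (by norm_num) (N := 504) (by norm_num)
      (Agent.S1011.result hN hF)
    obtain ⟨hG, -⟩ := DegGraph.isSimpleGroup_of_degreeGraph sieve (G := G) (N := 504) (by decide) hcard
      (fun r hr hd _ _ => hΓ.1 ▸ hp r hr hd) (fun h => absurd h (by norm_num))
      (fun _ => by rw [hΓ.2, hadj]; norm_num)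
    exact nonempty_trans (Agent.S1011.result hcard hF) (Agent.S1011.result hN hF)
  · haveI : Fact (Nat.Prime 11) := ⟨by norm_num⟩
    have hS' := Agent.S0498.result (G := S) 11 (Or.inl rfl) (by rw [hN]; norm_num) (F := ZMod 11) (ZMod.card 11)
    obtain ⟨hp, -⟩ := lin_odd (S := S) (t := 11) (by norm_num) (ZMod.card 11) (by norm_num)
      (N := 660) (by norm_num) hS'
    obtain ⟨hG, -⟩ := DegGraph.isSimpleGroup_of_degreeGraph sieve (G := G) (N := 660) (by decide) hcard
      (fun r hr hd _ _ => hΓ.1 ▸ hp r hr hd) (fun h => absurd h (by norm_num))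
      (fun h => absurd h (by norm_num))
    exact nonempty_trans
      (Agent.S0498.result (G := G) 11 (Or.inl rfl) (by rw [hcard]; norm_num) (F := ZMod 11) (ZMod.card 11)) hS'
  · haveI : Fact (Nat.Prime 13) := ⟨by norm_num⟩
    have hS' := Agent.S0498.result (G := S) 13 (Or.inr rfl) (by rw [hN]; norm_num) (F := ZMod 13) (ZMod.card 13)
    obtain ⟨hp, -⟩ := lin_odd (S := S) (t := 13) (by norm_num) (ZMod.card 13) (by norm_num)
      (N := 1092) (by norm_num) hS'
    obtain ⟨hG, -⟩ := DegGraph.isSimpleGroup_of_degreeGraph sieve (G := G) (N := 1092) (by decide) hcard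
      (fun r hr hd _ _ => hΓ.1 ▸ hp r hr hd) (fun h => absurd h (by norm_num))
      (fun h => absurd h (by norm_num))
    exact nonempty_trans
      (Agent.S0498.result (G := G) 13 (Or.inr rfl) (by rw [hcard]; norm_num) (F := ZMod 13) (ZMod.card 13)) hS'
  · haveI : Fact (Nat.Prime 17) := ⟨by norm_num⟩
    have hS' := Agent.S1020.result (G := S) hN (F := ZMod 17) (ZMod.card 17)
    obtain ⟨hp, -⟩ := lin_odd (S := S) (t := 17) (by norm_num) (ZMod.card 17) (by norm_num)
      (N := 2448) (by norm_num) hS'
    obtain ⟨hG, -⟩ := DegGraph.isSimpleGroup_of_degreeGraph sieve (G := G) (N := 2448) (by decide) hcard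
      (fun r hr hd _ _ => hΓ.1 ▸ hp r hr hd) (fun h => absurd h (by norm_num))
      (fun h => absurd h (by norm_num))
    exact nonempty_trans (Agent.S1020.result (G := G) hcard (F := ZMod 17) (ZMod.card 17)) hS'
  · obtain ⟨hG, -⟩ := DegGraph.isSimpleGroup_of_degreeGraph sieve (G := G) (N := 2520) (by decide) hcard
      (fun r hr hd _ h5 => hΓ.1 ▸ of_card_2520 hN hr hd (h5 rfl)) (fun h => absurd h (by norm_num))
      (fun h => absurd h (by norm_num))
    exact nonempty_trans (Agent.S0984.result hcard) (Agent.S0984.result hN)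
  · haveI : Fact (Nat.Prime 19) := ⟨by norm_num⟩
    have hS' := Agent.S1021.result (G := S) hN (F := ZMod 19) (ZMod.card 19)
    obtain ⟨hp, -⟩ := lin_odd (S := S) (t := 19) (by norm_num) (ZMod.card 19) (by norm_num)
      (N := 3420) (by norm_num) hS'
    obtain ⟨hG, -⟩ := DegGraph.isSimpleGroup_of_degreeGraph sieve (G := G) (N := 3420) (by decide) hcard
      (fun r hr hd _ _ => hΓ.1 ▸ hp r hr hd) (fun h => absurd h (by norm_num))
      (fun h => absurd h (by norm_num))
    exact nonempty_trans (Agent.S1021.result (G := G) hcard (F := ZMod 19) (ZMod.card 19)) hS'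
  · haveI : Fintype (GaloisField 2 4) := Fintype.ofFinite _
    have hF : Fintype.card (GaloisField 2 4) = 16 := by
      rw [← Nat.card_eq_fintype_card, GaloisField.card 2 4 four_ne_zero]; rfl
    obtain ⟨hp, -⟩ := lin_even (S := S) hF (by norm_num) (N := 4080) (by norm_num)
      (Agent.S0981.result hN hF)
    obtain ⟨hG, -⟩ := DegGraph.isSimpleGroup_of_degreeGraph sieve (G := G) (N := 4080) (by decide) hcard
      (fun r hr hd _ _ => hΓ.1 ▸ hp r hr hd) (fun h => absurd h (by norm_num))
      (fun h => absurd h (by norm_num))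
    exact nonempty_trans (Agent.S0981.result hcard hF) (Agent.S0981.result hN hF)
  · obtain ⟨h3, h13⟩ := degreePrimes_5616 hN
    obtain ⟨hG, -⟩ := DegGraph.isSimpleGroup_of_degreeGraph sieve (G := G) (N := 5616) (by decide) hcard
      (fun r hr hd h2 _ => by
        rw [hΓ.1]
        rw [show 5616 = 2 ^ 4 * 3 ^ 3 * 13 by norm_num] at hd
        rcases hr.dvd_mul.1 hd with hd | hd
        · rcases hr.dvd_mul.1 hd with hd | hd
          · exact absurd ((Nat.prime_dvd_prime_iff_eq hr Nat.prime_two).1 (hr.dvd_of_dvd_pow hd))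
              (h2 rfl)
          · rwa [(Nat.prime_dvd_prime_iff_eq hr Nat.prime_three).1 (hr.dvd_of_dvd_pow hd)]
        · rwa [(Nat.prime_dvd_prime_iff_eq hr (by norm_num : Nat.Prime 13)).1 hd])
      (fun h => absurd h (by norm_num))
      (fun h => absurd h (by norm_num))
    exact iso_of_card_5616 hcard hN

end Cfsg.Agent.S3668
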