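import Cfsg.Statements.S3670
import Cfsg.Agent.Lib.CharsMore.U33.Model
import Cfsg.Agent.Lib.CharsMore.U33.Examples
import Cfsg.Agent.Lib.CharsMore.U33.Chars
import Mathlib

set_option autoImplicit false
set_option linter.style.haveILetI false
open Cfsg

namespace Cfsg.Agent.S3670

/-- The character degree graph of a finite group has as vertices the primes dividing some irreducible complex character degree, two distinct primes being joined when their product divides some irreducible character degree; two groups have the same character degree graph when they have the same vertices and the same joined pairs. Let F be the field with 9 elements and L = PSU(3,3) realised over F (order 6048). There is a finite solvable group of order 6048 with the same character degree graph as L; so L is not determined by its order together with its character degree graph. -/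
theorem result {F : Type*} [Field F] [Fintype F] (hF : Fintype.card F = 9) :
    ∃ (H : Type) (_ : Group H) (_ : Fintype H), Group.IsSolvable H ∧ Nat.card H = 6048 ∧ Cfsg.degreePrimes H = Cfsg.degreePrimes (Cfsg.PSU 3 F 3) ∧ Cfsg.degreeGraph H = Cfsg.degreeGraph (Cfsg.PSU 3 F 3) := by
  classical
  have hF' : Nat.card F = 3 ^ 2 := by rw [Nat.card_eq_fintype_card, hF]; norm_num
  have hcard : Nat.card (Cfsg.PSU 3 F 3) = 6048 := by
    have h := CfsgLib.Classical.card_PSU_mul (n := 3) hF' (by norm_num)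
    rw [CfsgLib.Classical.card_GU hF', Finset.prod_range_succ, Finset.prod_range_succ,
      Finset.prod_range_succ, Finset.prod_range_zero] at h
    norm_num [-Nat.card_eq_fintype_card] at h
    omega
  haveI : Finite (Cfsg.PSU 3 F 3) := Nat.finite_of_card_ne_zero (by rw [hcard]; norm_num)
  haveI : IsSimpleGroup (Cfsg.PSU 3 F 3) :=
    CfsgLib.Classical.Unitary.isSimpleGroup_PSU hF' le_rfl (fun _ => le_rfl)
  have hord : ∀ g : Cfsg.PSU 3 F 3, orderOf g ∣ 7 ∨ orderOf g ∣ 8 ∨ orderOf g ∣ 12 := fun g => by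
    have h := Set.mem_range_self (f := (orderOf : Cfsg.PSU 3 F 3 → ℕ)) g
    rw [CfsgLib.Rec.ThreeSpectrum.range_orderOf_PSU hF] at h
    exact h
  have hC : ∀ x : Cfsg.PSU 3 F 3, orderOf x = 7 →
      Nat.card (Subgroup.centralizer ({x} : Set (Cfsg.PSU 3 F 3))) = 7 := by
    intro x hx
    haveI : Fact (Nat.Prime 7) := ⟨by norm_num⟩
    have hp : IsPGroup 7 (Subgroup.centralizer ({x} : Set (Cfsg.PSU 3 F 3))) := by
      intro y
      obtain ⟨y, hy⟩ := y
      refine ⟨1, Subtype.ext ?_⟩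
      show y ^ 7 ^ 1 = 1
      rw [pow_one, ← orderOf_dvd_iff_pow_eq_one]
      by_contra hnd
      obtain ⟨r, hr, hry, hr7⟩ : ∃ r, r.Prime ∧ r ∣ orderOf y ∧ r ≠ 7 := by
        rcases hord y with h | h | h
        all_goals first
          | exact absurd h hnd
          | (have hn1 : orderOf y ≠ 1 := fun h1 => hnd (h1 ▸ one_dvd _)
             obtain ⟨r, hr, hry⟩ := Nat.exists_prime_and_dvd hn1
             refine ⟨r, hr, hry, ?_⟩
             rintro rfl
             have := hry.trans h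
             norm_num at this)
      obtain ⟨c, hc⟩ := hry
      have hc0 : c ≠ 0 := fun h => (orderOf_pos y).ne' (by rw [hc, h, mul_zero])
      have ho : orderOf (y ^ c) = r := by
        rw [orderOf_pow_of_dvd hc0 ⟨r, by rw [hc, mul_comm]⟩, hc, Nat.mul_div_cancel _ (Nat.pos_of_ne_zero hc0)]
      have hcomm : Commute (y ^ c) x := Commute.pow_left (Subgroup.mem_centralizer_singleton_iff.1 hy) c
      have h7 : orderOf (y ^ c * x) = r * 7 := by
        rw [hcomm.orderOf_mul_eq_mul_orderOf_of_coprime, ho, hx]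
        rw [ho, hx]
        exact (Nat.coprime_primes hr (by norm_num)).2 hr7
      have h' := hord (y ^ c * x)
      rw [h7] at h'
      rcases h' with h | h | h
      · exact hr.ne_one (Nat.dvd_one.1 (Nat.dvd_of_mul_dvd_mul_right (by norm_num : 0 < 7) (by simpa using h)))
      · exact absurd ((Dvd.intro_left r rfl).trans h) (by norm_num)
      · exact absurd ((Dvd.intro_left r rfl).trans h) (by norm_num)
    obtain ⟨k, hk⟩ := hp.exists_card_eq
    have h1 : 7 ^ k ∣ 6048 := by
      rw [← hk, ← hcard]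
      exact Subgroup.card_subgroup_dvd_card _
    have h2 : 7 ∣ Nat.card (Subgroup.centralizer ({x} : Set (Cfsg.PSU 3 F 3))) := by
      rw [← hx]
      exact (Subgroup.centralizer _).orderOf_dvd_natCard (Subgroup.mem_centralizer_singleton_iff.2 rfl)
    rw [hk] at h2 ⊢
    rcases k with _ | _ | k
    · norm_num at h2
    · norm_num
    · exact absurd (dvd_trans ⟨7 ^ k, by ring⟩ h1 : 7 ^ 2 ∣ 6048) (by norm_num)
  obtain ⟨g, hg8, hC8⟩ := CfsgLib.CharsMore.U33.exists_orderOf_eight hF
  obtain ⟨⟨χ6, h6⟩, ⟨χ14, h14⟩⟩ := CfsgLib.CharsMore.U33.two_edges hcard hC hg8 hC8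
  have hP6 : ∃ d ∈ Cfsg.charDegrees (Cfsg.PSU 3 F 3), 6 ∣ d := ⟨_, ⟨χ6, rfl⟩, h6⟩
  have hP14 : ∃ d ∈ Cfsg.charDegrees (Cfsg.PSU 3 F 3), 14 ∣ d := ⟨_, ⟨χ14, rfl⟩, h14⟩
  have hprimes : ∀ p : ℕ, p.Prime → p ∣ 6048 → p = 2 ∨ p = 3 ∨ p = 7 := by
    intro p hp h
    rw [show 6048 = 2 ^ 5 * 3 ^ 3 * 7 by norm_num] at h
    rcases hp.dvd_mul.1 h with h | h
    · rcases hp.dvd_mul.1 h with h | h
      · exact Or.inl ((Nat.prime_dvd_prime_iff_eq hp Nat.prime_two).1 (hp.dvd_of_dvd_pow h))
      · exact Or.inr (Or.inl ((Nat.prime_dvd_prime_iff_eq hp Nat.prime_three).1 (hp.dvd_of_dvd_pow h)))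
    · exact Or.inr (Or.inr ((Nat.prime_dvd_prime_iff_eq hp (by norm_num)).1 h))
  have huniq : ∀ (A : Type) [Group A] [Finite A], Nat.card A = 6048 →
      (∃ d ∈ Cfsg.charDegrees A, 6 ∣ d) → (∃ d ∈ Cfsg.charDegrees A, 14 ∣ d) →
      ((∃ d ∈ Cfsg.charDegrees A, 21 ∣ d) ↔ ∃ d ∈ Cfsg.charDegrees (Cfsg.PSU 3 F 3), 21 ∣ d) →
      Cfsg.degreePrimes A = Cfsg.degreePrimes (Cfsg.PSU 3 F 3) ∧
        Cfsg.degreeGraph A = Cfsg.degreeGraph (Cfsg.PSU 3 F 3) := by
    intro A _ _ hA h6A h14A h21
    have hdA : ∀ d ∈ Cfsg.charDegrees A, d ∣ 6048 := fun d hd =>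
      hA ▸ (CfsgLib.CharsMore.U33.sq_le_of_mem hd).2
    have hdP : ∀ d ∈ Cfsg.charDegrees (Cfsg.PSU 3 F 3), d ∣ 6048 := fun d hd =>
      hcard ▸ (CfsgLib.CharsMore.U33.sq_le_of_mem hd).2
    refine ⟨Set.ext fun p => and_congr_right fun hp => ?_, SimpleGraph.ext (funext₂ fun p q => propext ?_)⟩
    · constructor
      · rintro ⟨d, hd, hpd⟩
        rcases hprimes p hp (hpd.trans (hdA d hd)) with rfl | rfl | rfl
        · exact hP6.imp fun d hd => ⟨hd.1, (by norm_num : 2 ∣ 6).trans hd.2⟩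
        · exact hP6.imp fun d hd => ⟨hd.1, (by norm_num : 3 ∣ 6).trans hd.2⟩
        · exact hP14.imp fun d hd => ⟨hd.1, (by norm_num : 7 ∣ 14).trans hd.2⟩
      · rintro ⟨d, hd, hpd⟩
        rcases hprimes p hp (hpd.trans (hdP d hd)) with rfl | rfl | rfl
        · exact h6A.imp fun d hd => ⟨hd.1, (by norm_num : 2 ∣ 6).trans hd.2⟩
        · exact h6A.imp fun d hd => ⟨hd.1, (by norm_num : 3 ∣ 6).trans hd.2⟩
        · exact h14A.imp fun d hd => ⟨hd.1, (by norm_num : 7 ∣ 14).trans hd.2⟩
    · show (p ≠ q ∧ p.Prime ∧ q.Prime ∧ _) ↔ (p ≠ q ∧ p.Prime ∧ q.Prime ∧ _)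
      refine and_congr_right fun hpq => and_congr_right fun hp => and_congr_right fun hq => ?_
      constructor
      · rintro ⟨d, hd, hpd⟩
        rcases hprimes p hp ((Dvd.intro q rfl).trans (hpd.trans (hdA d hd))) with rfl | rfl | rfl <;>
          rcases hprimes q hq ((Dvd.intro_left _ rfl).trans (hpd.trans (hdA d hd))) with rfl | rfl | rfl <;>
          first
            | exact absurd rfl hpq
            | exact hP6
            | exact hP14
            | exact h21.1 ⟨d, hd, hpd⟩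
      · rintro ⟨d, hd, hpd⟩
        rcases hprimes p hp ((Dvd.intro q rfl).trans (hpd.trans (hdP d hd))) with rfl | rfl | rfl <;>
          rcases hprimes q hq ((Dvd.intro_left _ rfl).trans (hpd.trans (hdP d hd))) with rfl | rfl | rfl <;>
          first
            | exact absurd rfl hpq
            | exact h6A
            | exact h14A
            | exact h21.2 ⟨d, hd, hpd⟩
  by_cases h21 : ∃ d ∈ Cfsg.charDegrees (Cfsg.PSU 3 F 3), 21 ∣ d
  · obtain ⟨d, hd, h42⟩ := CfsgLib.CharsMore.U33.H1_degree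
    refine ⟨CfsgLib.CharsMore.U33.H1, inferInstance, Fintype.ofFinite _,
      CfsgLib.CharsMore.U33.solvable_H1, CfsgLib.CharsMore.U33.card_H1, ?_⟩
    exact huniq _ CfsgLib.CharsMore.U33.card_H1 ⟨d, hd, (by norm_num : 6 ∣ 42).trans h42⟩
      ⟨d, hd, (by norm_num : 14 ∣ 42).trans h42⟩
      (iff_of_true ⟨d, hd, (by norm_num : 21 ∣ 42).trans h42⟩ h21)
  · obtain ⟨e6, e14, e21⟩ := CfsgLib.CharsMore.U33.H2_degrees
    refine ⟨CfsgLib.CharsMore.U33.H2, inferInstance, Fintype.ofFinite _,
      CfsgLib.CharsMore.U33.solvable_H2, CfsgLib.CharsMore.U33.card_H2, ?_⟩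
    exact huniq _ CfsgLib.CharsMore.U33.card_H2 e6 e14 (iff_of_false e21 h21)

end Cfsg.Agent.S3670
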