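import Cfsg.Statements.S3678
import Cfsg.Agent.Lib.Recog.ProjSpectrum
import Cfsg.Agent.Lib.Recog.SL2Char2

set_option autoImplicit false
open Cfsg

namespace Cfsg.Agent.S3678

/-- The prime graph of a finite group has the prime divisors of its order as vertices, two distinct primes p, q being joined when the group has an element of order pq; two groups have the same prime graph when they have the same prime divisors and the same joined pairs. Let F be the field with 7 elements. There are finite groups of arbitrarily large order with the same prime graph as PSL(2,F) (the graph on {2, 3, 7} with no edges, which is also the prime graph of PSL(2,8)). -/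
theorem result {F : Type*} [Field F] [Fintype F] (hF : Fintype.card F = 7) (N : ℕ) :
    ∃ (H : Type) (_ : Group H) (_ : Finite H), N < Nat.card H ∧
      ((∀ p : ℕ, p.Prime → (p ∣ Nat.card (Matrix.ProjectiveSpecialLinearGroup (Fin 2) F) ↔ p ∣ Nat.card H)) ∧
      (∀ p q : ℕ, p.Prime → q.Prime → p ≠ q → ((∃ g : (Matrix.ProjectiveSpecialLinearGroup (Fin 2) F), orderOf g = p * q) ↔ (∃ g : H, orderOf g = p * q)))) := by
  haveI : Fact (Nat.Prime 2) := ⟨Nat.prime_two⟩
  haveI : Fintype (GaloisField 2 3) := Fintype.ofFinite _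
  have h8 : Fintype.card (GaloisField 2 3) = 8 := by
    rw [← Nat.card_eq_fintype_card, GaloisField.card 2 3 (by norm_num)]
    norm_num
  haveI : Fact (Nat.Prime 7) := ⟨by norm_num⟩
  haveI : CharP F 7 := charP_of_card_eq_prime hF
  have hd7 : CfsgLib.Recog.dTwo F = 2 := by rw [CfsgLib.Recog.dTwo, hF]; decide
  have hd8 : CfsgLib.Recog.dTwo (GaloisField 2 3) = 1 := by rw [CfsgLib.Recog.dTwo, h8]; decide
  have hP := CfsgLib.Recog.range_orderOf_PSL_two (F := F) 7
  have hS := (CfsgLib.Recog.orderOf_equiv_range CfsgLib.Recog.pslEquivSL).trans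
    (CfsgLib.Recog.range_orderOf_PSL_two (F := GaloisField 2 3) 2)
  rw [hF, hd7] at hP
  rw [h8, hd8] at hS
  norm_num at hP hS
  have small : ∀ n : ℕ, n ∣ 3 ∨ n ∣ 4 → n = 1 ∨ n = 2 ∨ n = 3 ∨ n = 4 := by
    intro n hn
    have : n ≤ 4 := by
      rcases hn with h | h <;> have := Nat.le_of_dvd (by norm_num) h <;> omega
    interval_cases n <;> simp_all
  have small' : ∀ n : ℕ, n ∣ 7 ∨ n ∣ 9 → n = 1 ∨ n = 3 ∨ n = 7 ∨ n = 9 := by
    intro n hn
    have : n ≤ 9 := by
      rcases hn with h | h <;> have := Nat.le_of_dvd (by norm_num) h <;> omega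
    interval_cases n <;> simp_all
  have hPr : ∀ r : ℕ, r.Prime →
      (r ∣ Nat.card (Matrix.ProjectiveSpecialLinearGroup (Fin 2) F) ↔ r = 2 ∨ r = 3 ∨ r = 7) := by
    intro r hr
    haveI := Fact.mk hr
    constructor
    · intro h
      obtain ⟨x, hx⟩ := exists_prime_orderOf_dvd_card' r h
      have hmem : r ∈ Set.range (orderOf : Matrix.ProjectiveSpecialLinearGroup (Fin 2) F → ℕ) :=
        ⟨x, hx⟩
      rw [hP] at hmem
      rcases hmem with h | h
      · exact Or.inr (Or.inr h)
      · rcases small r h with h | h | h | h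
        · exact absurd h hr.ne_one
        · exact Or.inl h
        · exact Or.inr (Or.inl h)
        · rw [h] at hr; norm_num at hr
    · intro h
      have hmem : r ∈ Set.range (orderOf : Matrix.ProjectiveSpecialLinearGroup (Fin 2) F → ℕ) := by
        rw [hP]; rcases h with rfl | rfl | rfl <;> norm_num
      obtain ⟨x, hx⟩ := hmem
      exact hx ▸ orderOf_dvd_natCard x
  have hSr : ∀ r : ℕ, r.Prime →
      (r ∣ Nat.card (Matrix.SpecialLinearGroup (Fin 2) (GaloisField 2 3)) ↔
        r = 2 ∨ r = 3 ∨ r = 7) := by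
    intro r hr
    haveI := Fact.mk hr
    constructor
    · intro h
      obtain ⟨x, hx⟩ := exists_prime_orderOf_dvd_card' r h
      have hmem : r ∈ Set.range
          (orderOf : Matrix.SpecialLinearGroup (Fin 2) (GaloisField 2 3) → ℕ) := ⟨x, hx⟩
      rw [hS] at hmem
      rcases hmem with h | h
      · exact Or.inl h
      · rcases small' r h with h | h | h | h
        · exact absurd h hr.ne_one
        · exact Or.inr (Or.inl h)
        · exact Or.inr (Or.inr h)
        · rw [h] at hr; norm_num at hr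
    · intro h
      have hmem : r ∈ Set.range
          (orderOf : Matrix.SpecialLinearGroup (Fin 2) (GaloisField 2 3) → ℕ) := by
        rw [hS]; rcases h with rfl | rfl | rfl <;> norm_num
      obtain ⟨x, hx⟩ := hmem
      exact hx ▸ orderOf_dvd_natCard x
  have notP : ∀ r s : ℕ, r.Prime → s.Prime → r ≠ s →
      r * s ≠ 1 ∧ r * s ≠ 2 ∧ r * s ≠ 3 ∧ r * s ≠ 4 ∧ r * s ≠ 7 ∧ r * s ≠ 9 := by
    intro r s hr hs hrs
    have h1 := hr.two_le
    have h2 := hs.two_le
    refine ⟨?_, ?_, ?_, ?_, ?_, ?_⟩ <;> intro h <;>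
      have hr' := Nat.le_of_dvd (by norm_num) (h ▸ dvd_mul_right r s) <;>
      have hs' := Nat.le_of_dvd (by norm_num) (h ▸ dvd_mul_left s r) <;>
      interval_cases r <;> interval_cases s <;> omega
  have noP : ∀ r s : ℕ, r.Prime → s.Prime → r ≠ s →
      ¬∃ g : Matrix.ProjectiveSpecialLinearGroup (Fin 2) F, orderOf g = r * s := by
    rintro r s hr hs hrs ⟨g, hg⟩
    have hmem : r * s ∈ Set.range (orderOf : Matrix.ProjectiveSpecialLinearGroup (Fin 2) F → ℕ) :=
      ⟨g, hg⟩
    rw [hP] at hmem
    obtain ⟨a, b, c, d, e, f⟩ := notP r s hr hs hrs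
    rcases hmem with h | h
    · exact e h
    · rcases small _ h with h | h | h | h <;> contradiction
  have noS : ∀ r s : ℕ, r.Prime → s.Prime → r ≠ s →
      ¬∃ g : Matrix.SpecialLinearGroup (Fin 2) (GaloisField 2 3), orderOf g = r * s := by
    rintro r s hr hs hrs ⟨g, hg⟩
    have hmem : r * s ∈ Set.range
        (orderOf : Matrix.SpecialLinearGroup (Fin 2) (GaloisField 2 3) → ℕ) := ⟨g, hg⟩
    rw [hS] at hmem
    obtain ⟨a, b, c, d, e, f⟩ := notP r s hr hs hrs
    rcases hmem with h | h
    · exact b h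
    · rcases small' _ h with h | h | h | h <;> contradiction
  obtain ⟨H, hG, hH, hN, hr, hg⟩ := CfsgLib.Recog.exists_large_primeGraph
    (CfsgLib.Recog.slAct (F := GaloisField 2 3)) Nat.prime_two
    (CfsgLib.Recog.pow_char_eq_one 2) ((hSr 2 Nat.prime_two).2 (Or.inl rfl))
    (fun g hg hne ⟨v, hv, hfix⟩ => absurd
      (((Nat.dvd_prime Nat.prime_two).1 (CfsgLib.Recog.orderOf_dvd_two_of_fixed hv hfix)).resolve_left
        hg.ne_one) hne) N
  refine ⟨H, hG, inferInstance, by rwa [Nat.card_eq_fintype_card], fun p hp => ?_,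
    fun p q hp hq hpq => ?_⟩
  · rw [hPr p hp, ← hSr p hp, hr p hp]
  · rw [← hg p q hp hq hpq]
    exact iff_of_false (noP p q hp hq hpq) (noS p q hp hq hpq)

end Cfsg.Agent.S3678
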