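import Cfsg.Statements.S3681

set_option autoImplicit false
open Cfsg

namespace Cfsg.Agent.S3681

/-- Bochert's bound for primitive groups. Let a finite group G act faithfully and primitively on a finite set Ω with n elements, and suppose the image of G in the symmetric group of Ω does not contain the alternating group of Ω. Then |G| · ⌊(n + 1)/2⌋! ≤ n!, that is, the index of G in the symmetric group is at least ⌊(n + 1)/2⌋!. -/
theorem result {G Ω : Type*} [Group G] [Finite G] [MulAction G Ω] [FaithfulSMul G Ω] [Fintype Ω] [DecidableEq Ω]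
    (hprim : MulAction.IsPreprimitive G Ω) (hA : ¬ alternatingGroup Ω ≤ (MulAction.toPermHom G Ω).range) :
    Nat.card G * Nat.factorial ((Fintype.card Ω + 1) / 2) ≤ Nat.factorial (Fintype.card Ω) := by
  classical
  set K := (MulAction.toPermHom G Ω).range with hKdef
  have hK : Nat.card K = Nat.card G := (Nat.card_congr
    (MonoidHom.ofInjective (f := MulAction.toPermHom G Ω) MulAction.toPerm_injective).toEquiv).symm
  haveI : MulAction.IsPreprimitive K Ω := by
    let f : Ω →ₑ[(MulAction.toPermHom G Ω).rangeRestrict] Ω :=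
      { toFun := id, map_smul' := fun g x => rfl }
    exact MulAction.IsPreprimitive.of_surjective (f := f) Function.surjective_id
  -- the bound from a set supporting no non-trivial element
  have bound : ∀ Γ : Finset Ω, (∀ g ∈ K, (∀ x ∉ Γ, g x = x) → g = 1) →
      (Fintype.card Ω + 1) / 2 ≤ Γ.card →
      Nat.card G * Nat.factorial ((Fintype.card Ω + 1) / 2) ≤ Nat.factorial (Fintype.card Ω) := by
    intro Γ hΓ hle
    have hinj : Function.Injective (fun z : K × Equiv.Perm {x // x ∈ Γ} =>
        (z.1 : Equiv.Perm Ω) * Equiv.Perm.ofSubtype z.2) := by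
      rintro ⟨g, s⟩ ⟨g', s'⟩ h
      simp only at h
      have h1 : (g' : Equiv.Perm Ω)⁻¹ * g = Equiv.Perm.ofSubtype (s' * s⁻¹) := by
        rw [map_mul, map_inv, eq_mul_inv_iff_mul_eq, mul_assoc, inv_mul_eq_iff_eq_mul]
        exact h
      have h2 : (g' : Equiv.Perm Ω)⁻¹ * g = 1 := hΓ _ (K.mul_mem (K.inv_mem g'.2) g.2) fun x hx => by
        rw [h1]; exact Equiv.Perm.ofSubtype_apply_of_not_mem _ hx
      have hg : g = g' := Subtype.ext (inv_mul_eq_one.1 h2).symm
      subst hg
      rw [mul_left_cancel_iff] at h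
      rw [Equiv.Perm.ofSubtype_injective h]
    have := Nat.card_le_card_of_injective _ hinj
    rw [Nat.card_prod, hK, Nat.card_perm, Nat.card_perm, Nat.card_eq_finsetCard,
      Nat.card_eq_fintype_card (α := Ω)] at this
    exact le_trans (Nat.mul_le_mul_left _ (Nat.factorial_le hle)) this
  obtain ⟨Γ, hΓ, hmax⟩ := Finset.exists_max_image
    ((Finset.univ : Finset (Finset Ω)).filter fun Γ => ∀ g ∈ K, (∀ x ∉ Γ, g x = x) → g = 1)
    Finset.card ⟨∅, Finset.mem_filter.2 ⟨Finset.mem_univ _, fun g _ h =>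
      Equiv.ext fun x => h x (Finset.notMem_empty x)⟩⟩
  rw [Finset.mem_filter] at hΓ
  by_cases hle : (Fintype.card Ω + 1) / 2 ≤ Γ.card
  · exact bound Γ hΓ.2 hle
  refine bound Γᶜ (fun h hh hfix => ?_) (by rw [Finset.card_compl]; omega)
  by_contra hne
  obtain ⟨b, hb⟩ : ∃ b, h b ≠ b := by
    by_contra hall
    push_neg at hall
    exact hne (Equiv.ext hall)
  have hbΓ : b ∉ Γ := fun hbΓ => hb (hfix b (by simpa using hbΓ))
  obtain ⟨g, hg, hgfix, hg1⟩ : ∃ g ∈ K, (∀ x ∉ insert b Γ, g x = x) ∧ g ≠ 1 := by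
    by_contra hall
    push_neg at hall
    have := hmax (insert b Γ) (Finset.mem_filter.2 ⟨Finset.mem_univ _, hall⟩)
    rw [Finset.card_insert_of_notMem hbΓ] at this
    omega
  have hfix' : ∀ x ∈ Γ, h x = x := fun x hx => hfix x (by simpa using hx)
  have hgΔ : ∀ x ∉ Γ, x ≠ b → g x = x := fun x hx hxb =>
    hgfix x (by simp [hx, hxb])
  have hgb : g b ≠ b := fun hgb => hg1 (hΓ.2 g hg fun x hx => by
    by_cases hxb : x = b
    · rw [hxb]; exact hgb
    · exact hgΔ x hx hxb)
  have hgbΓ : g b ∈ Γ := by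
    by_contra hn
    exact hgb (g.injective (hgΔ _ hn hgb))
  have hhbΓ : h b ∉ Γ := fun hn => hb (h.injective (hfix' _ hn))
  apply hA
  refine Equiv.Perm.alternatingGroup_le_of_isPreprimitive_of_isThreeCycle_mem (G := K) inferInstance (g := g * h * g⁻¹ * h⁻¹) ?_
    (K.mul_mem (K.mul_mem (K.mul_mem hg hh) (K.inv_mem hg)) (K.inv_mem hh))
  have hswap : g * h * g⁻¹ * h⁻¹ = Equiv.swap b (h b) * Equiv.swap b (g b) := by
    have hgi : ∀ x ∉ Γ, x ≠ b → g⁻¹ x = x := fun x hx hxb => by
      rw [Equiv.Perm.inv_eq_iff_eq, hgΔ x hx hxb]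
    have hhi : ∀ x ∈ Γ, h⁻¹ x = x := fun x hx => by
      rw [Equiv.Perm.inv_eq_iff_eq, hfix' x hx]
    refine Equiv.ext fun x => ?_
    simp only [Equiv.Perm.mul_apply]
    by_cases hxb : x = b
    · subst hxb
      have h1 : h⁻¹ x ∉ Γ := fun hn => hbΓ (by
        have := hfix' _ hn
        simp at this
        rw [this]; exact hn)
      have h2 : h⁻¹ x ≠ x := fun hn => hb (by
        conv_lhs => rw [← hn]
        simp)
      rw [hgi _ h1 h2, Equiv.swap_apply_left,
        Equiv.swap_apply_of_ne_of_ne hgb (fun he => hhbΓ (by rw [← he]; exact hgbΓ))]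
      simp
    by_cases hxg : x = g b
    · subst hxg
      rw [hhi _ hgbΓ, Equiv.swap_apply_right, Equiv.swap_apply_left]
      simp [hgΔ _ hhbΓ hb]
    rw [Equiv.swap_apply_of_ne_of_ne hxb hxg]
    by_cases hxh : x = h b
    · subst hxh
      rw [Equiv.swap_apply_right]
      have h1 : g⁻¹ b ∈ Γ := by
        by_contra hn
        have hne' : g⁻¹ b ≠ b := fun he => hgb (by
          conv_lhs => rw [← he]
          simp)
        have := hgΔ _ hn hne'
        simp at this
        exact hne' this.symm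
      rw [show h⁻¹ (h b) = b from Equiv.symm_apply_apply h b, hfix' _ h1]
      simp
    rw [Equiv.swap_apply_of_ne_of_ne hxb hxh]
    by_cases hxΓ : x ∈ Γ
    · rw [hhi x hxΓ]
      have h1 : g⁻¹ x ∈ Γ := by
        by_contra hn
        by_cases he : g⁻¹ x = b
        · exact hxg (by rw [← he]; simp)
        · have h3 : g (g⁻¹ x) = x := by simp
          rw [hgΔ _ hn he] at h3
          exact hn (by rw [h3]; exact hxΓ)
      rw [hfix' _ h1]
      simp
    · have h1 : h⁻¹ x ∉ Γ := fun hn => hxΓ (by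
        have := hfix' _ hn
        simp at this
        rw [this]; exact hn)
      have h2 : h⁻¹ x ≠ b := fun hn => hxh (by rw [← hn]; simp)
      rw [hgi _ h1 h2]
      simp [hgΔ x hxΓ hxb]
  rw [hswap]
  exact Equiv.Perm.isThreeCycle_swap_mul_swap_same hb.symm hgb.symm fun he => hhbΓ (he ▸ hgbΓ)

end Cfsg.Agent.S3681
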