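import Cfsg.Statements.S3682
import Cfsg.Agent.Lib.Recog.ThompsonWielandtBound
import Cfsg.Agent.Lib.Recog.ThompsonWielandtResidual

open CfsgLib.Recog.TW CfsgLib.Components CfsgLib.Base in
theorem exists_of_subgroup {G Ω : Type*} [Group G] [Finite G] [MulAction G Ω] [Finite Ω]
    [MulAction.IsPretransitive G Ω] (a b : Ω) (d : ℕ)
    (hd : Nat.card (MulAction.orbit (MulAction.stabilizer G a) b) = d) (p : ℕ)
    (Q : Subgroup G) (hQI : Q ≤ MulAction.stabilizer G a ⊓ MulAction.stabilizer G b)
    (hQn : MulAction.stabilizer G a ≤ Subgroup.normalizer (Q : Set G)) (hQp : IsPGroup p Q)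
    (hdvd : Nat.card (MulAction.stabilizer G a) ∣
      d.factorial * (d - 1).factorial ^ d * Nat.card Q) :
    ∃ P : Subgroup (MulAction.stabilizer G a), P.Normal ∧ IsPGroup p P ∧
      (∀ g : P, ((g : MulAction.stabilizer G a) : G) • b = b) ∧
      P.index ∣ d.factorial * (d - 1).factorial ^ d := by
  refine ⟨Q.subgroupOf _, Subgroup.normal_subgroupOf_of_le_normalizer hQn,
    hQp.comap_of_injective _ (MulAction.stabilizer G a).subtype_injective,
    fun g => (hQI (Subgroup.mem_subgroupOf.mp g.2)).2, ?_⟩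
  rw [← Subgroup.card_mul_index (Q.subgroupOf (MulAction.stabilizer G a)),
    card_subgroupOf (hQI.trans inf_le_left), mul_comm (Nat.card Q)] at hdvd
  exact Nat.dvd_of_mul_dvd_mul_right Nat.card_pos hdvd

set_option autoImplicit false
open Cfsg

namespace Cfsg.Agent.S3682

/-- Wielandt's bound toward the Sims conjecture. Let a finite group G act faithfully and primitively on a set Ω, let a and b be points, and suppose the orbit of b under the stabilizer of a has length d ≥ 2. Then there are a prime p and a normal p-subgroup P of the stabilizer of a, all of whose elements fix b, such that the index of P in the stabilizer of a divides d! · ((d - 1)!)^d. -/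
theorem result {G Ω : Type*} [Group G] [Finite G] [MulAction G Ω] [FaithfulSMul G Ω] [Finite Ω]
    (hprim : MulAction.IsPreprimitive G Ω) (a b : Ω) (d : ℕ) (hd : Nat.card (MulAction.orbit (MulAction.stabilizer G a) b) = d) (h2 : 2 ≤ d) :
    ∃ p : ℕ, p.Prime ∧ ∃ P : Subgroup (MulAction.stabilizer G a), P.Normal ∧ IsPGroup p P ∧ (∀ g : P, ((g : MulAction.stabilizer G a) : G) • b = b) ∧
      P.index ∣ Nat.factorial d * (Nat.factorial (d - 1)) ^ d := by
  haveI := hprim
  have hM := CfsgLib.Recog.TW.hyp_stabilizer (G := G) (h2.trans hd.ge)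
  by_cases h0 : CfsgLib.Recog.TW.cA2 (MulAction.stabilizer G a) (MulAction.stabilizer G b) = ⊥ ∨
      CfsgLib.Recog.TW.cA2 (MulAction.stabilizer G b) (MulAction.stabilizer G a) = ⊥
  · exact ⟨2, Nat.prime_two, exists_of_subgroup a b d hd 2 ⊥ bot_le
      Subgroup.le_normalizer_of_normal IsPGroup.of_bot (by
        simpa using CfsgLib.Recog.TW.card_stabilizer_dvd_of_cA2 a b d hd h0)⟩
  push Not at h0
  obtain ⟨r, hr, -, -, -, -, hA, hB⟩ := hM.exists_prime h0.1 h0.2
  haveI := Fact.mk hr
  refine ⟨r, hr, ?_⟩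
  have hp := hM.isPGroup_cA2 hA
  refine exists_of_subgroup a b d hd r _ ?_ (CfsgLib.Recog.TW.le_normalizer_nCore _ _) hp ?_
  · exact (CfsgLib.Recog.TW.cA2_le_cA _ _).trans (CfsgLib.Recog.TW.nCore_le _ _)
  · rw [← hd, mul_assoc]
    exact (CfsgLib.Recog.TW.card_stabilizer_dvd a b).trans
      (mul_dvd_mul_left _ (CfsgLib.Recog.TW.card_orbitKer_dvd a b _ rfl))

end Cfsg.Agent.S3682
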