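import Cfsg.Statements.S3683
import Cfsg.Agent.Lib.Recog.PrimitiveSmallOrbit

set_option autoImplicit false
open Cfsg

namespace Cfsg.Agent.S3683

/-- Let a finite group G act faithfully and primitively on a set Ω, and suppose the stabilizer of a point a fixes a second point b ≠ a (a suborbit of length 1 other than {a}). Then the stabilizer of a is trivial and G is cyclic of prime order. -/
theorem result {G Ω : Type*} [Group G] [Finite G] [MulAction G Ω] [FaithfulSMul G Ω] [Finite Ω]
    (hprim : MulAction.IsPreprimitive G Ω) (a b : Ω) (hab : a ≠ b) (hfix : ∀ g : G, g • a = a → g • b = b) :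
    MulAction.stabilizer G a = ⊥ ∧ IsCyclic G ∧ (Nat.card G).Prime := by
  have hle : MulAction.stabilizer G a ≤ MulAction.stabilizer G b := fun g hg => hfix g hg
  have he : MulAction.stabilizer G a = MulAction.stabilizer G b :=
    Subgroup.eq_of_le_of_card_ge hle (CfsgLib.Recog.card_stabilizer_eq b a).le
  have hbot := CfsgLib.Recog.stabilizer_eq_bot_of_eq hab he
  haveI : Nontrivial Ω := ⟨⟨a, b, hab⟩⟩
  have hc := MulAction.IsPreprimitive.isCoatom_stabilizer_of_isPreprimitive G a
  rw [hbot] at hc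
  obtain ⟨g, hg⟩ := MulAction.exists_smul_eq G a b
  haveI : Nontrivial G := ⟨⟨g, 1, fun h => hab (by rw [← hg, h, one_smul])⟩⟩
  have hgen : ∀ x : G, x ≠ 1 → Subgroup.zpowers x = ⊤ := fun x hx =>
    hc.2 _ (bot_lt_iff_ne_bot.2 (Subgroup.zpowers_ne_bot.2 hx))
  have hp : (Nat.card G).Prime := by
    rw [Nat.prime_def_minFac]
    refine ⟨Finite.one_lt_card, ?_⟩
    haveI := Fact.mk (Nat.minFac_prime (Finite.one_lt_card (α := G)).ne')
    obtain ⟨x, hx⟩ := exists_prime_orderOf_dvd_card' _ (Nat.minFac_dvd (Nat.card G))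
    have h1 : x ≠ 1 := fun h => (Nat.minFac_prime (Finite.one_lt_card (α := G)).ne').ne_one
      (by rw [← hx, h, orderOf_one])
    rw [← hx, ← Nat.card_zpowers, hgen x h1, Subgroup.card_top]
  haveI := Fact.mk hp
  exact ⟨hbot, isCyclic_of_prime_card rfl, hp⟩

end Cfsg.Agent.S3683
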