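import Cfsg.Statements.S3684
import Cfsg.Agent.Lib.Recog.PrimitiveSmallOrbit
import Cfsg.Agent.S0206

set_option autoImplicit false
open Cfsg

namespace Cfsg.Agent.S3684

/-- Let a finite group G act faithfully and primitively on a set Ω, and suppose the stabilizer of a point a has an orbit of length 2. Then the stabilizer of a has order 2 and G is isomorphic to the dihedral group of order 2p for some prime p. -/
theorem result {G Ω : Type*} [Group G] [Finite G] [MulAction G Ω] [FaithfulSMul G Ω] [Finite Ω]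
    (hprim : MulAction.IsPreprimitive G Ω) (a b : Ω) (h2 : Nat.card (MulAction.orbit (MulAction.stabilizer G a) b) = 2) :
    Nat.card (MulAction.stabilizer G a) = 2 ∧ ∃ p : ℕ, p.Prime ∧ Nonempty (G ≃* DihedralGroup p) := by
  set H := MulAction.stabilizer G a with hH
  set J := MulAction.stabilizer G b with hJ
  have hidx : (MulAction.stabilizer H b).index = 2 := by
    rw [MulAction.index_stabilizer, ← h2]
    exact (Nat.card_coe_set_eq _).symm
  have hKH : (J ⊓ H).relIndex H = 2 := by
    rw [Subgroup.inf_relIndex_right, Subgroup.relIndex, ← hidx]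
    rfl
  set K := J ⊓ H with hK
  have hab : a ≠ b := by
    rintro rfl
    rw [hK, inf_idem, Subgroup.relIndex_self] at hKH
    omega
  haveI : Nontrivial Ω := ⟨⟨a, b, hab⟩⟩
  have hcard : Nat.card H = Nat.card J := CfsgLib.Recog.card_stabilizer_eq a b
  have hKJ : K.relIndex J = 2 := by
    have e1 : Nat.card K * K.relIndex H = Nat.card H := by
      have := (K.subgroupOf H).card_mul_index
      rwa [Nat.card_congr (Subgroup.subgroupOfEquivOfLe (inf_le_right : K ≤ H)).toEquiv] at this
    have e2 : Nat.card K * K.relIndex J = Nat.card J := by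
      have := (K.subgroupOf J).card_mul_index
      rwa [Nat.card_congr (Subgroup.subgroupOfEquivOfLe (inf_le_left : K ≤ J)).toEquiv] at this
    rw [← hcard, ← e1, hKH] at e2
    exact Nat.eq_of_mul_eq_mul_left Nat.card_pos e2
  have hnH : H ≤ Subgroup.normalizer (K : Set G) := by
    haveI : (K.subgroupOf H).Normal := Subgroup.normal_of_index_eq_two hKH
    exact (Subgroup.normal_subgroupOf_iff_le_normalizer inf_le_right).1 inferInstance
  have hnJ : J ≤ Subgroup.normalizer (K : Set G) := by
    haveI : (K.subgroupOf J).Normal := Subgroup.normal_of_index_eq_two hKJ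
    exact (Subgroup.normal_subgroupOf_iff_le_normalizer inf_le_left).1 inferInstance
  obtain ⟨u, huJ, huH⟩ : ∃ u ∈ J, u ∉ H := by
    by_contra hall
    push_neg at hall
    have he : J = H := Subgroup.eq_of_le_of_card_ge hall hcard.le
    rw [hK, he, inf_idem, Subgroup.relIndex_self] at hKH
    omega
  have hKbot : K = ⊥ := CfsgLib.Recog.eq_bot_of_le_normalizer (a := a) inf_le_right hnH
    (g := u) huH (hnJ huJ)
  have hH2 : Nat.card H = 2 := by rwa [hKbot, Subgroup.relIndex_bot_left] at hKH
  refine ⟨hH2, ?_⟩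
  have hJ2 : Nat.card J = 2 := hcard ▸ hH2
  obtain ⟨t, ht⟩ := exists_prime_orderOf_dvd_card' (G := H) 2 (by rw [hH2])
  rw [← Subgroup.orderOf_coe] at ht
  have htH : Subgroup.zpowers (t : G) = H :=
    Subgroup.eq_of_le_of_card_ge (Subgroup.zpowers_le.2 t.2) (by rw [Nat.card_zpowers, ht, hH2])
  have hu1 : u ≠ 1 := fun h => huH (h ▸ H.one_mem)
  have hu2 : orderOf u = 2 := by
    refine (Nat.prime_two.eq_one_or_self_of_dvd _ ?_).resolve_left (by rwa [orderOf_eq_one_iff])
    rw [← hJ2]
    exact Subgroup.orderOf_dvd_natCard J huJ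
  have hne : (t : G) ≠ u := fun h => huH (h ▸ t.2)
  have hc := MulAction.IsPreprimitive.isCoatom_stabilizer_of_isPreprimitive G a
  have htop : Subgroup.closure ({(t : G), u} : Set G) = ⊤ := by
    refine hc.2 _ (lt_of_le_of_ne ?_ fun he => huH (he.ge (Subgroup.subset_closure (by simp))))
    exact htH.symm.trans_le (Subgroup.zpowers_le.2 (Subgroup.subset_closure (by simp)))
  obtain ⟨e⟩ := Cfsg.Agent.S0206.result (t : G) u ht hu2 hne
  let e' : G ≃* DihedralGroup (orderOf ((t : G) * u)) :=
    Subgroup.topEquiv.symm.trans ((MulEquiv.subgroupCongr htop.symm).trans e)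
  set n := orderOf ((t : G) * u) with hn
  refine ⟨n, ?_, ⟨e'⟩⟩
  have hn1 : n ≠ 1 := fun h => hne (by
    rw [hn, orderOf_eq_one_iff] at h
    rw [eq_inv_of_mul_eq_one_left h]
    exact inv_eq_of_mul_eq_one_right (by rw [← sq, ← hu2, pow_orderOf_eq_one]))
  obtain ⟨p, hp, hpn⟩ := Nat.exists_prime_and_dvd hn1
  set r := (t : G) * u with hr
  set z := r ^ (n / p) with hz
  have hzo : orderOf z = p := orderOf_pow_orderOf_div (orderOf_pos r).ne' hpn
  haveI hnor : (Subgroup.zpowers z).Normal := by
    rw [← Subgroup.normalizer_eq_top_iff, ← top_le_iff, ← htop, Subgroup.closure_le]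
    have hinv : ∀ s : G, s * s = 1 → s * r * s⁻¹ = r⁻¹ →
        s ∈ Subgroup.normalizer (Subgroup.zpowers z : Set G) := by
      intro s hs hsr
      have h1 : ∀ x ∈ Subgroup.zpowers z, s * x * s⁻¹ ∈ Subgroup.zpowers z := by
        rintro x ⟨k, rfl⟩
        have : s * z ^ k * s⁻¹ = (z ^ k)⁻¹ := by
          rw [← conj_zpow, hz, ← conj_pow, hsr, inv_pow, inv_zpow]
        simp only
        rw [this]
        exact inv_mem (zpow_mem (Subgroup.mem_zpowers z) k)
      refine Subgroup.mem_normalizer_iff.2 fun x => ⟨h1 x, fun hx => ?_⟩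
      have h2 := h1 _ hx
      rw [inv_eq_of_mul_eq_one_left hs] at h2
      simpa [mul_assoc, hs, ← mul_assoc s s] using h2
    have htt : (t : G) * t = 1 := by rw [← sq, ← ht, pow_orderOf_eq_one]
    have huu : u * u = 1 := by rw [← sq, ← hu2, pow_orderOf_eq_one]
    rintro s (rfl | rfl)
    · refine hinv _ htt ?_
      rw [hr, mul_inv_rev, inv_eq_of_mul_eq_one_left huu, inv_eq_of_mul_eq_one_left htt,
        ← mul_assoc, htt, one_mul]
    · refine hinv _ huu ?_
      rw [hr, mul_inv_rev, inv_eq_of_mul_eq_one_left huu, inv_eq_of_mul_eq_one_left htt,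
        mul_assoc, mul_assoc, huu, mul_one]
  have hzH : ¬ Subgroup.zpowers z ≤ H := fun hle => by
    have hb := CfsgLib.Recog.eq_bot_of_normal_le_stabilizer hle
    rw [Subgroup.zpowers_eq_bot] at hb
    exact hp.ne_one (by rw [← hzo, hb, orderOf_one])
  have hsup : Subgroup.zpowers z ⊔ H = ⊤ := hc.2 _ (right_lt_sup.2 hzH)
  have hi : (Subgroup.zpowers z).index ≤ 2 := by
    rw [← Subgroup.relIndex_top_right, ← hsup, Subgroup.relIndex_sup_left]
    exact Nat.le_of_dvd (by norm_num) (hH2 ▸ Subgroup.index_dvd_card _)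
  have hG : Nat.card G = 2 * n := by
    rw [Nat.card_congr e'.toEquiv, DihedralGroup.nat_card]
  have hmul := (Subgroup.zpowers z).card_mul_index
  rw [Nat.card_zpowers, hzo, hG] at hmul
  have hle : n ≤ p := by nlinarith [hp.pos]
  rwa [le_antisymm hle (Nat.le_of_dvd (orderOf_pos r) hpn)]

end Cfsg.Agent.S3684
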