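import Cfsg.Statements.S3703
import Cfsg.Agent.Lib.Recog.FrobeniusLift
import Cfsg.Agent.Lib.Base.Frobenius
import Cfsg.Agent.Lib.Base.ThompsonFPF

set_option autoImplicit false
open Cfsg

namespace Cfsg.Agent.S3703

/-- Let N be a normal subgroup of the finite group G such that G/N is a Frobenius group with kernel F and cyclic complement H, where the order of F is coprime to that of N and F is not contained in the image of C_G(N) in G/N. Then G has an element of order p·#H for some prime p dividing the order of N. (A standard tool in recognising groups by their element orders.) -/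
theorem result {G : Type*} [Group G] [Finite G] (N : Subgroup G) [N.Normal]
    (Fb Hb : Subgroup (G ⧸ N)) [Fb.Normal] (hHb : Cfsg.IsFrobeniusComplement Hb) (hker : Cfsg.frobeniusKernel Hb = (Fb : Set (G ⧸ N)))
    (hcyc : IsCyclic Hb) (hcop : (Nat.card Fb).Coprime (Nat.card N))
    (hnot : ¬ Fb ≤ (Subgroup.centralizer (N : Set G)).map (QuotientGroup.mk' N)) :
    ∃ p : ℕ, p.Prime ∧ p ∣ Nat.card N ∧ ∃ g : G, orderOf g = p * Nat.card Hb := by
  classical
  set π := QuotientGroup.mk' N with hπ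
  set m := Nat.card Hb with hm
  by_contra hno
  push_neg at hno
  obtain ⟨⟨h, hhH⟩, hgen⟩ := hcyc.exists_generator
  have hoh : orderOf h = m := by
    rw [hm, ← Subgroup.orderOf_mk h hhH, ← orderOf_eq_card_of_forall_mem_zpowers hgen]
  have hm0 : 0 < m := hm ▸ Nat.card_pos
  have hlift : ∀ g : G, π g = h → g ^ m = 1 := fun g hg => by
    by_contra hne
    obtain ⟨p, hp, hpN, z, hz⟩ :=
      CfsgLib.Recog.exists_orderOf_mul_of_lift N hm0 (by rw [← hπ, hg, hoh]) hne
    exact hno p hp hpN z hz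
  have hsolF : Group.IsSolvable Fb := by
    obtain ⟨F', hF', -, -, hnil⟩ := CfsgLib.Base.Frobenius.exists_nilpotent_kernel hHb
    rw [hker] at hF'
    rw [← SetLike.coe_injective hF']
    infer_instance
  have hsemiQ : ∀ i, 0 < i → i < m → ∀ f ∈ Fb, h ^ i * f * (h ^ i)⁻¹ = f → f = 1 := by
    intro i hi0 hi f hf hc
    have hi1 : h ^ i ≠ 1 := pow_ne_one_of_lt_orderOf hi0.ne' (hoh.symm ▸ hi)
    have hfH : f ∈ Hb := CfsgLib.Base.Frobenius.centralizer_le hHb (Hb.pow_mem hhH i) hi1 (by
      rw [Subgroup.mem_centralizer_iff]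
      rintro y (rfl : y = h ^ i)
      exact mul_inv_eq_iff_eq_mul.1 hc)
    have hfK : f ∈ Cfsg.frobeniusKernel Hb := by rw [hker]; exact hf
    rcases hfK with h1 | h1
    · exact h1
    · exact absurd (by rw [map_one, one_smul]; exact hfH) (h1 1)
  obtain ⟨p, hp, P, E, hES, hEc, hEP, hnc⟩ :=
    CfsgLib.Recog.exists_sylow_not_centralized N Fb hcop hsolF hnot
  set PG := (P : Subgroup N).map N.subtype with hPG
  obtain ⟨x, hxL, hxE, hxh⟩ := CfsgLib.Recog.exists_lift_normalizing N Fb hcop hsolF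
    (Subgroup.normalizer (PG : Set G)) (Sylow.normalizer_sup_eq_top P) E hES hEc hEP h
  obtain ⟨hEmap, -⟩ := CfsgLib.Recog.complement_map N hcop hsolF hEc hES
  have hPN : PG ≤ N := Subgroup.map_subtype_le _
  apply hnc
  refine CfsgLib.Recog.le_centralizer_of_norm (P.isPGroup'.map _) hEP
    (hEc ▸ hcop.coprime_dvd_right (Subgroup.card_dvd_of_le hPN)) hm0 hxL hxE ?_ (hlift x hxh)
    fun u hu => hlift _ ?_
  · intro i hi0 hi e he hc
    have h1 : π e = 1 := hsemiQ i hi0 hi _ (hEmap ▸ ⟨e, he, rfl⟩) (by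
      rw [← hxh, ← map_pow, ← map_inv, ← map_mul, ← map_mul, hc])
    have h2 : e ∈ E ⊓ N := ⟨he, (QuotientGroup.eq_one_iff _).1 h1⟩
    rwa [CfsgLib.Coprime.inf_eq_bot_of_coprime (by rw [hEc]; exact hcop), Subgroup.mem_bot] at h2
  · rw [map_mul, hxh, show π u = 1 from (QuotientGroup.eq_one_iff _).2 (hPN hu), one_mul]

end Cfsg.Agent.S3703
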