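import Cfsg.Statements.S3708
import Cfsg.Agent.Lib.Phan.Main
import Cfsg.Agent.Lib.Phan.Strong

set_option autoImplicit false
open Cfsg

namespace Cfsg.Agent.S3708

/-- Phan's recognition of unitary groups. Let F be a finite field with q² elements, q > 4, and n ≥ 2. Let G be a group generated by subgroups U_0, …, U_{n−1}, each isomorphic to the special unitary group SU(2, q²) (determinant-one isometries of the standard Hermitian form in two variables over F), and let D_i ≤ U_i be cyclic subgroups of order q + 1. Suppose that U_i and U_j commute elementwise whenever the indices differ by at least 2, that the subgroup generated by U_i and U_{i+1} is isomorphic to SU(3, q²) for each i, and that D_i and D_j commute elementwise for all i, j. Then G is a homomorphic image of SU(n+1, q²). (Generation of G by the U_i is part of the hypothesis; G is not assumed finite.) -/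
theorem result {G : Type*} [Group G] (n : ℕ) (hn : 2 ≤ n)
    (F : Type*) [Field F] [Fintype F] (q : ℕ) (hq : 4 < q) (hF : Fintype.card F = q ^ 2)
    (U : Fin n → Subgroup G) (e : ∀ i, ↥(Cfsg.SU 2 F q) ≃* ↥(U i)) (hgen : ⨆ i, U i = ⊤)
    (D : Fin n → Subgroup G) (hD : ∀ i, D i ≤ U i ∧ IsCyclic ↥(D i) ∧ Nat.card ↥(D i) = q + 1)
    (h1 : ∀ i j : Fin n, (i : ℕ) + 2 ≤ j → ∀ x ∈ U i, ∀ y ∈ U j, x * y = y * x)
    (h2 : ∀ i j : Fin n, (i : ℕ) + 1 = j → Nonempty (↥(U i ⊔ U j) ≃* ↥(Cfsg.SU 3 F q)))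
    (h3 : ∀ i j : Fin n, i ≠ j → ∀ x ∈ D i, ∀ y ∈ D j, x * y = y * x) :
    ∃ f : ↥(Cfsg.SU (n + 1) F q) →* G, Function.Surjective f := by
  have hF' : Nat.card F = q ^ 2 := by rw [Nat.card_eq_fintype_card, hF]
  obtain ⟨σ, h⟩ := CfsgLib.Classical.Unitary.exists_uFrob hF'
  rcases eq_or_lt_of_le hn with rfl | hn3
  · obtain ⟨ψ⟩ := h2 0 1 rfl
    refine ⟨(U 0 ⊔ U 1).subtype.comp ψ.symm.toMonoidHom, fun g => ?_⟩
    have htop : U 0 ⊔ U 1 = ⊤ := by
      rw [eq_top_iff, ← hgen]
      refine iSup_le fun i => ?_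
      fin_cases i
      · exact le_sup_left
      · exact le_sup_right
    exact ⟨ψ ⟨g, htop ▸ Subgroup.mem_top g⟩, by simp⟩
  have hV : ∀ i j : Fin n, (i : ℕ) + 1 = j →
      Cfsg.IsStandardUnitaryPair (U i ⊔ U j) (U i) (U j) F q := by
    intro i j hij
    obtain ⟨ψ⟩ := h2 i j hij
    have mkr : ∀ k, U k ≤ U i ⊔ U j → ∃ r : Cfsg.SU 2 F q →* Cfsg.SU 3 F q, Function.Injective r ∧
        r.range.map ((U i ⊔ U j).subtype.comp ψ.symm.toMonoidHom) = U k ∧
        ∀ M, ((ψ.symm (r M) : ↥(U i ⊔ U j)) : G) = (e k M : G) := by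
      intro k hk
      let r := ψ.toMonoidHom.comp ((Subgroup.inclusion hk).comp (e k).toMonoidHom)
      have hM : ∀ M, ((ψ.symm (r M) : ↥(U i ⊔ U j)) : G) = (e k M : G) := fun M => by simp [r]
      refine ⟨r, ψ.injective.comp ((Subgroup.inclusion_injective hk).comp (e k).injective), ?_, hM⟩
      rw [MonoidHom.map_range]
      ext g
      constructor
      · rintro ⟨M, rfl⟩
        show ((ψ.symm (r M) : ↥(U i ⊔ U j)) : G) ∈ U k
        rw [hM]; exact (e k M).2
      · intro hg
        refine ⟨(e k).symm ⟨g, hg⟩, ?_⟩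
        show ((ψ.symm (r ((e k).symm ⟨g, hg⟩)) : ↥(U i ⊔ U j)) : G) = g
        rw [hM, MulEquiv.apply_symm_apply]
    obtain ⟨rA, hA, hAr, hAe⟩ := mkr i le_sup_left
    obtain ⟨rB, hB, hBr, hBe⟩ := mkr j le_sup_right
    have hgen' : rA.range ⊔ rB.range = ⊤ := by
      refine Subgroup.map_injective (f := (U i ⊔ U j).subtype.comp ψ.symm.toMonoidHom)
        (Subtype.val_injective.comp ψ.symm.injective) ?_
      rw [Subgroup.map_sup, hAr, hBr, ← MonoidHom.range_eq_map, MonoidHom.range_comp,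
        MonoidHom.range_eq_top.2 ψ.symm.surjective, ← MonoidHom.range_eq_map, Subgroup.range_subtype]
    have hd : ∀ k, ∃ d : Cfsg.SU 2 F q, orderOf d = q + 1 ∧ (e k d : G) ∈ D k := by
      intro k
      obtain ⟨hle, hcyc, hcard⟩ := hD k
      obtain ⟨g, hg⟩ := hcyc.exists_ofOrder_eq_natCard
      refine ⟨(e k).symm ⟨g, hle g.2⟩, ?_, by simp⟩
      rw [← orderOf_injective (e k).toMonoidHom (e k).injective,
        ← orderOf_injective (U k).subtype (U k).subtype_injective, ← hcard, ← hg,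
        ← orderOf_injective (D k).subtype (D k).subtype_injective g]
      simp
    obtain ⟨dA, hdA, hdA'⟩ := hd i
    obtain ⟨dB, hdB, hdB'⟩ := hd j
    obtain ⟨g, eA, eB⟩ := CfsgLib.Phan.standard_of_commuting hF' h (by omega) rA rB hA hB hgen'
      dA dB hdA hdB (ψ.symm.injective (Subtype.ext (by
        simp only [map_mul, Subgroup.coe_mul, hAe, hBe]
        exact h3 i j (fun e => by subst e; omega) _ hdA' _ hdB')))
    refine Or.inl ⟨(MulAut.conj g).trans ψ.symm, ?_, ?_⟩
    · rw [← CfsgLib.Phan.range_sh_left, CfsgLib.Phan.suBlock_eq_range h]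
      refine Eq.trans ?_ hAr
      rw [eA, Subgroup.map_map]
      rfl
    · rw [← CfsgLib.Phan.range_sh_right, CfsgLib.Phan.suBlock_eq_range h]
      refine Eq.trans ?_ hBr
      rw [eB, Subgroup.map_map]
      rfl
  obtain ⟨S, hS⟩ := CfsgLib.Phan.exists_sys hF' h hn U (fun i j => U i ⊔ U j) h1 hV
  obtain ⟨f, hf⟩ := S.exists_hom_of_four_le hF' (by omega) (by omega)
  refine ⟨f, CfsgLib.Phan.surjective_of_charts (U := U) (V := fun i j => U i ⊔ U j) hn hS ?_ hf⟩
  rw [hgen, top_sup_eq]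

end Cfsg.Agent.S3708
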