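import Cfsg.Statements.S3713
import Cfsg.Agent.Lib.CTRecog.Sp.Amalgam

set_option autoImplicit false
open Cfsg Matrix Equiv CfsgLib.Classical CfsgLib.Pres.SpR CfsgLib.Steinberg CfsgLib.Steinberg.R1Data
  CfsgLib.CTRecog.Sp
open scoped MatrixGroups

namespace Cfsg.Agent.S3713

/-- A presentation of the symplectic group as the universal completion of an amalgam of small subgroups. Let F be a field with more than two elements, n ≥ 2, and Sp the group of 2n × 2n matrices over F preserving the standard alternating form, acting on column vectors; write e_k, f_k for the standard basis vectors of the two halves (a hyperbolic basis). For each k let S_k be the subgroup of Sp fixing e_l and f_l for all l ≠ k (a copy of SL(2, F) on the plane of e_k, f_k), and for each i with i + 1 < n let M_i be the subgroup fixing every e_l and fixing f_l for all l other than i, i+1 (an abelian group isomorphic to the additive group of F³). Then Sp is the universal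 completion of the amalgam formed by the S_k, the M_i and the subgroups generated by two of them: for every group H and homomorphisms σ_k : S_k → H, μ_i : M_i → H such that for each pair of these subgroups some homomorphism on the subgroup they generate restricts to the given ones, there is exactly one homomorphism Sp → H restricting to every σ_k and μ_i. -/
theorem result
    (F : Type*) [Field F] (hF : ∃ a : F, a ≠ 0 ∧ a ≠ 1) (n : ℕ) (hn : 2 ≤ n)
    (S M : Fin n → Subgroup ↥(Matrix.symplecticGroup (Fin n) F))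
    (hS : ∀ j : Fin n, S j = Subgroup.closure {A : ↥(Matrix.symplecticGroup (Fin n) F) | ∀ k : Fin n, k ≠ j →
      ((A : ↥(Matrix.symplecticGroup (Fin n) F)) : Matrix (Fin n ⊕ Fin n) (Fin n ⊕ Fin n) F).mulVec (Pi.single (Sum.inl k) (1 : F)) = (Pi.single (Sum.inl k) (1 : F)) ∧ ((A : ↥(Matrix.symplecticGroup (Fin n) F)) : Matrix (Fin n ⊕ Fin n) (Fin n ⊕ Fin n) F).mulVec (Pi.single (Sum.inr k) (1 : F)) = (Pi.single (Sum.inr k) (1 : F))})
    (hM : ∀ i : Fin n, (i : ℕ) + 1 < n → M i = Subgroup.closure {A : ↥(Matrix.symplecticGroup (Fin n) F) |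
      (∀ k : Fin n, ((A : ↥(Matrix.symplecticGroup (Fin n) F)) : Matrix (Fin n ⊕ Fin n) (Fin n ⊕ Fin n) F).mulVec (Pi.single (Sum.inl k) (1 : F)) = (Pi.single (Sum.inl k) (1 : F))) ∧
        ∀ k : Fin n, (k : ℕ) ≠ i → (k : ℕ) ≠ (i : ℕ) + 1 → ((A : ↥(Matrix.symplecticGroup (Fin n) F)) : Matrix (Fin n ⊕ Fin n) (Fin n ⊕ Fin n) F).mulVec (Pi.single (Sum.inr k) (1 : F)) = (Pi.single (Sum.inr k) (1 : F))})
    {H : Type*} [Group H] (σ : ∀ j : Fin n, ↥(S j) →* H) (μ : ∀ i : Fin n, ↥(M i) →* H)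
    (hSS : ∀ j l : Fin n, j ≠ l → ∃ Ψ : ↥(S j ⊔ S l) →* H,
      (∀ (g : ↥(Matrix.symplecticGroup (Fin n) F)) (hg : g ∈ S j), Ψ ⟨g, Subgroup.mem_sup_left hg⟩ = σ j ⟨g, hg⟩) ∧
        (∀ (g : ↥(Matrix.symplecticGroup (Fin n) F)) (hg : g ∈ S l), Ψ ⟨g, Subgroup.mem_sup_right hg⟩ = σ l ⟨g, hg⟩))
    (hMM : ∀ i i' : Fin n, i ≠ i' → (i : ℕ) + 1 < n → (i' : ℕ) + 1 < n → ∃ Ψ : ↥(M i ⊔ M i') →* H,
      (∀ (g : ↥(Matrix.symplecticGroup (Fin n) F)) (hg : g ∈ M i), Ψ ⟨g, Subgroup.mem_sup_left hg⟩ = μ i ⟨g, hg⟩) ∧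
        (∀ (g : ↥(Matrix.symplecticGroup (Fin n) F)) (hg : g ∈ M i'), Ψ ⟨g, Subgroup.mem_sup_right hg⟩ = μ i' ⟨g, hg⟩))
    (hMS : ∀ i j : Fin n, (i : ℕ) + 1 < n → ∃ Ψ : ↥(M i ⊔ S j) →* H,
      (∀ (g : ↥(Matrix.symplecticGroup (Fin n) F)) (hg : g ∈ M i), Ψ ⟨g, Subgroup.mem_sup_left hg⟩ = μ i ⟨g, hg⟩) ∧
        (∀ (g : ↥(Matrix.symplecticGroup (Fin n) F)) (hg : g ∈ S j), Ψ ⟨g, Subgroup.mem_sup_right hg⟩ = σ j ⟨g, hg⟩)) :
    ∃! Φ : ↥(Matrix.symplecticGroup (Fin n) F) →* H,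
      (∀ (j : Fin n) (g : ↥(Matrix.symplecticGroup (Fin n) F)) (hg : g ∈ S j), Φ g = σ j ⟨g, hg⟩) ∧
        (∀ (i : Fin n), (i : ℕ) + 1 < n → ∀ (g : ↥(Matrix.symplecticGroup (Fin n) F)) (hg : g ∈ M i), Φ g = μ i ⟨g, hg⟩) := by
  classical
  obtain ⟨m, rfl⟩ : ∃ m, n = m + 1 + 1 := ⟨n - 2, by omega⟩
  -- the generators lie in the given subgroups
  have hS1 : ∀ j h, embSp j h ∈ S j := fun j h => by
    rw [hS]
    refine Subgroup.subset_closure fun k hk => ⟨?_, ?_⟩
    · simpa [sv] using embSp_fix_sv (F := F) hk h true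
    · simpa [sv] using embSp_fix_sv (F := F) hk h false
  have hM1 : ∀ (i : Fin (m + 1)) (p q : Fin (m + 1 + 1)) (t : F),
      (p = i.castSucc ∨ p = i.succ) → (q = i.castSucc ∨ q = i.succ) →
      E (Sum.inl p) (Sum.inl q) t ∈ M i.castSucc := fun i p q t hp hq => by
    rw [hM _ (by simp; omega)]
    refine Subgroup.subset_closure ⟨fun k => E_mem_fixL p q t k, fun k h1 h2 => ?_⟩
    refine E_apply_of_swap_ne (by simp) t ?_ ?_
    · simp only [Sum.swap_inl, ne_eq, Sum.inr.injEq]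
      rintro rfl
      rcases hp with rfl | rfl <;> simp at h1 h2
    · simp only [Sum.swap_inl, ne_eq, Sum.inr.injEq]
      rintro rfl
      rcases hq with rfl | rfl <;> simp at h1 h2
  have hi : ∀ i : Fin (m + 1), (i.castSucc : ℕ) + 1 < m + 1 + 1 := fun i => by simp; omega
  let Y := ↥(Matrix.symplecticGroup (Fin (m + 1 + 1)) F) × H
  let φ : Fin (m + 1 + 1) → SL(2, F) →* Y := fun j =>
    (embSp j).prod ((σ j).comp ((embSp j).codRestrict (S j) (hS1 j)))
  let a : Fin (m + 1) → F → Y := fun i t =>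
    (E (Sum.inl i.castSucc) (Sum.inl i.succ) t,
      μ i.castSucc ⟨_, hM1 i _ _ t (Or.inl rfl) (Or.inr rfl)⟩)
  have hagree : ∀ (i : Fin (m + 1)) j g (hg : g ∈ M i.castSucc) (hg' : g ∈ S j),
      μ i.castSucc ⟨g, hg⟩ = σ j ⟨g, hg'⟩ := fun i j g hg hg' => by
    obtain ⟨Ψ, h1, h2⟩ := hMS i.castSucc j (hi i)
    rw [← h1 g hg, ← h2 g hg']
  have hA : ∃ A : Amalgam (m + 1) F Y, A.φ = φ ∧ A.a = a ∧ A.π = MonoidHom.fst _ _ := by
    refine ⟨{ π := MonoidHom.fst _ _
              φ := φ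
              a := a
              hφ := fun _ _ => rfl
              ha := fun _ _ => rfl
              good := ?_
              cφ := ?_
              cφa := ?_
              caa := ?_
              big := hF }, rfl, rfl, rfl⟩
    · intro i k
      obtain ⟨Ψ, h1, h2⟩ := hMS i.castSucc (pr i k) (hi i)
      refine good_graph Ψ (sup_le ?_ ?_)
      · rintro _ ⟨h, rfl⟩
        exact ⟨⟨_, Subgroup.mem_sup_right (hS1 _ h)⟩, Prod.ext rfl (h2 _ (hS1 _ h))⟩
      · rw [mSub, Subgroup.closure_le]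
        rintro _ (⟨t, rfl⟩ | ⟨l, t, rfl⟩)
        · exact ⟨⟨_, Subgroup.mem_sup_left (hM1 i _ _ t (Or.inl rfl) (Or.inr rfl))⟩,
            Prod.ext rfl (h1 _ _)⟩
        · have hl : pr i l = i.castSucc ∨ pr i l = i.succ := by
            fin_cases l
            · exact Or.inl (pr_zero i)
            · exact Or.inr (pr_one i)
          have hm : embSp (pr i l) (up t) ∈ M i.castSucc := by
            rw [embSp_up]; exact hM1 i _ _ _ hl hl
          exact ⟨⟨_, Subgroup.mem_sup_left hm⟩,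
            Prod.ext rfl ((h1 _ hm).trans (hagree i _ _ hm (hS1 _ _)))⟩
    · intro k l hkl g h
      obtain ⟨Ψ, h1, h2⟩ := hSS k l hkl
      have hc := pair_commute Ψ (Subgroup.mem_sup_left (hS1 k g))
        (Subgroup.mem_sup_right (hS1 l h)) (embSp_comm hkl g h)
      rw [h1 _ (hS1 k g), h2 _ (hS1 l h)] at hc
      exact Prod.ext (embSp_comm hkl g h).eq hc.eq
    · intro i k h0 h1' h t
      obtain ⟨Ψ, h1, h2⟩ := hMS i.castSucc k (hi i)
      have hc0 : Commute (embSp k h) (E (Sum.inl i.castSucc) (Sum.inl i.succ) t) := by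
        refine mul_inv_eq_iff_eq_mul.1 ?_
        rw [E_conj_any _ (embSp_fix h0.symm h) (embSp_fix h1'.symm h) (by simp) (by simp) Iff.rfl
          (fun _ => rfl), one_mul, one_mul]
      have hc := pair_commute Ψ (Subgroup.mem_sup_right (hS1 k h))
        (Subgroup.mem_sup_left (hM1 i _ _ t (Or.inl rfl) (Or.inr rfl))) hc0
      rw [h2 _ (hS1 k h), h1 _ (hM1 i _ _ t (Or.inl rfl) (Or.inr rfl))] at hc
      exact Prod.ext hc0.eq hc.eq
    · intro i j t u
      have hc0 : Commute (E (Sum.inl i.castSucc) (Sum.inl i.succ) t)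
          (E (Sum.inl j.castSucc) (Sum.inl j.succ) u : Matrix.symplecticGroup _ F) :=
        E_comm (by simp) (by simp) (by simp) (by simp) (by simp) (by simp) t u
      refine Prod.ext hc0.eq ?_
      show Commute (μ i.castSucc _) (μ j.castSucc _)
      rcases eq_or_ne i j with rfl | hij
      · exact (show Commute (⟨_, hM1 i _ _ t (Or.inl rfl) (Or.inr rfl)⟩ : M i.castSucc)
          ⟨_, hM1 i _ _ u (Or.inl rfl) (Or.inr rfl)⟩ from Subtype.ext hc0.eq).map _
      · obtain ⟨Ψ, h1, h2⟩ := hMM i.castSucc j.castSucc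
          (fun e => hij (Fin.castSucc_injective _ e)) (hi i) (hi j)
        have hc := pair_commute Ψ (Subgroup.mem_sup_left (hM1 i _ _ t (Or.inl rfl) (Or.inr rfl)))
          (Subgroup.mem_sup_right (hM1 j _ _ u (Or.inl rfl) (Or.inr rfl))) hc0
        rwa [h1, h2] at hc
  obtain ⟨A, hAφ, hAa, hAπ⟩ := hA
  obtain ⟨Ψ, p0, p1, p2⟩ := A.exists_hom
  rw [hAφ] at p1
  rw [hAa] at p2
  set Φ := (MonoidHom.snd _ H).comp Ψ with hΦdef
  have v1 : ∀ j h, Φ (embSp j h) = σ j ⟨_, hS1 j h⟩ := fun j h => by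
    rw [hΦdef, MonoidHom.comp_apply, p1]; rfl
  have v2 : ∀ (i : Fin (m + 1)) t, Φ (E (Sum.inl i.castSucc) (Sum.inl i.succ) t) =
      μ i.castSucc ⟨_, hM1 i _ _ t (Or.inl rfl) (Or.inr rfl)⟩ := fun i t => by
    rw [hΦdef, MonoidHom.comp_apply, p2]; rfl
  clear_value Φ
  clear hΦdef
  refine ⟨Φ, ⟨?_, ?_⟩, ?_⟩
  · intro j g hg
    obtain ⟨h, rfl⟩ : ∃ h, embSp j h = g := by
      have hle : S j ≤ (embSp j).range := by
        rw [hS, Subgroup.closure_le]
        exact fun A hA => exists_embSp j A hA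
      exact hle hg
    exact v1 j h
  · intro i hi1 g hg
    obtain ⟨i', rfl⟩ : ∃ i' : Fin (m + 1), i = i'.castSucc :=
      ⟨⟨i, by omega⟩, rfl⟩
    have hle : M i'.castSucc ≤
        ((Φ.comp (M i'.castSucc).subtype).eqLocus (μ i'.castSucc)).map (M i'.castSucc).subtype := by
      conv_lhs => rw [hM _ hi1]
      rw [Subgroup.closure_le]
      rintro A ⟨h1, h2⟩
      obtain ⟨x, y, z, rfl⟩ := exists_three (p := i'.castSucc) (q := i'.succ)
        (Fin.castSucc_lt_succ).ne A h1 fun k hp hq =>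
          h2 k (fun e => hp (Fin.ext e)) fun e => hq (Fin.ext (by simpa using e))
      have one : ∀ (p : Fin (m + 1 + 1)) (hp : p = i'.castSucc ∨ p = i'.succ) (t : F),
          Φ (E (Sum.inl p) (Sum.inl p) t) = μ i'.castSucc ⟨_, hM1 i' p p t hp hp⟩ := by
        intro p hp t
        have hm := hM1 i' p p t hp hp
        have e : E (Sum.inl p) (Sum.inl p) t = embSp p (up (-t)) := by rw [embSp_up, neg_neg]
        have hs : E (Sum.inl p) (Sum.inl p) t ∈ S p := by rw [e]; exact hS1 p _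
        rw [hagree i' p _ hm hs]
        refine (congrArg Φ e).trans ((v1 p _).trans ?_)
        exact congrArg (σ p) (Subtype.ext e.symm)
      refine ⟨⟨_, hM1 i' _ _ x (Or.inl rfl) (Or.inl rfl)⟩ *
        ⟨_, hM1 i' _ _ y (Or.inl rfl) (Or.inr rfl)⟩ *
        ⟨_, hM1 i' _ _ z (Or.inr rfl) (Or.inr rfl)⟩, mul_mem (mul_mem ?_ ?_) ?_,
        by simp only [map_mul, Subgroup.subtype_apply]⟩
      · exact one _ (Or.inl rfl) x
      · exact v2 i' y
      · exact one _ (Or.inr rfl) z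
    obtain ⟨x, hx, rfl⟩ := hle hg
    exact hx
  · rintro Φ' ⟨u1, u2⟩
    refine sp_chain_ext (fun k h => ?_) fun i t => ?_
    · rw [u1 k _ (hS1 k h), v1]
    · rw [u2 i.castSucc (hi i) _ (hM1 i _ _ t (Or.inl rfl) (Or.inr rfl)), v2]

end Cfsg.Agent.S3713
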