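import Cfsg.Statements.S3733
open Subgroup

set_option autoImplicit false
open Cfsg

namespace Cfsg.Agent.S3733

/-- Let A and V be subgroups of a finite group with V abelian and nontrivial and A normalizing V. Suppose a nonempty finite family of proper subgroups of A partitions A: every non-identity element of A lies in exactly one member. If the number of members minus one is coprime to the order of V, then some member B of the family has a non-identity fixed point on V, that is V ∩ C(B) ≠ 1. -/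
theorem result {G : Type*} [Group G] [Finite G] (A V : Subgroup G) (hVab : IsMulCommutative V) (hV : V ≠ ⊥) (hAV : A ≤ Subgroup.normalizer (V : Set G)) (𝒜 : Finset (Subgroup G)) (hne : 𝒜.Nonempty) (hprop : ∀ B ∈ 𝒜, B < A) (hpart : ∀ a ∈ A, a ≠ 1 → ∃! B, B ∈ 𝒜 ∧ a ∈ B) (hk : (𝒜.card - 1).Coprime (Nat.card V)) : ∃ B ∈ 𝒜, V ⊓ Subgroup.centralizer (B : Set G) ≠ ⊥ := by
  classical
  haveI := hVab
  letI : CommGroup V := { (inferInstance : Group V) with mul_comm := fun a b => mul_comm' a b }
  by_contra hcon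
  push Not at hcon
  obtain ⟨v, hv1⟩ : ∃ v : V, v ≠ 1 := by
    obtain ⟨x, hx, hx1⟩ := (Subgroup.bot_or_exists_ne_one V).resolve_left hV
    exact ⟨⟨x, hx⟩, fun h => hx1 (congrArg Subtype.val h)⟩
  haveI : Fintype G := Fintype.ofFinite G
  let f : G → V := fun a => if ha : a ∈ A then
    ⟨a * (v : G) * a⁻¹, (mem_normalizer_iff.1 (hAV ha) v).1 v.2⟩ else 1
  have hf1 : f 1 = v := by simp [f, one_mem A]
  -- the product of the conjugates over a set invariant under `B` is centralised by `B`
  have hfix : ∀ (B : Subgroup G) (S : Finset G), B ≤ A → (∀ a ∈ S, a ∈ A) →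
      (∀ b ∈ B, ∀ a ∈ S, b * a ∈ S) → ((∏ a ∈ S, f a : V) : G) ∈ centralizer (B : Set G) := by
    intro B S hBA hSA hinv
    rw [mem_centralizer_iff]
    intro b hb
    let c : V →* V :=
      { toFun := fun w => ⟨b * (w : G) * b⁻¹, (mem_normalizer_iff.1 (hAV (hBA hb)) w).1 w.2⟩
        map_one' := Subtype.ext (by simp)
        map_mul' := fun w w' => Subtype.ext (by simp [mul_assoc]) }
    have h : c (∏ a ∈ S, f a) = ∏ a ∈ S, f a := by
      rw [map_prod]
      refine Finset.prod_bij' (fun a _ => b * a) (fun a _ => b⁻¹ * a) (fun a ha => hinv b hb a ha)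
        (fun a ha => hinv _ (inv_mem hb) a ha) (fun a _ => by simp) (fun a _ => by simp)
        (fun a ha => ?_)
      refine Subtype.ext ?_
      simp only [f, dif_pos (hSA a ha), dif_pos (hSA _ (hinv b hb a ha))]
      show b * (a * (v : G) * a⁻¹) * b⁻¹ = b * a * (v : G) * (b * a)⁻¹
      simp [mul_assoc]
    have h' : b * ((∏ a ∈ S, f a : V) : G) * b⁻¹ = ((∏ a ∈ S, f a : V) : G) :=
      congrArg Subtype.val h
    calc b * ((∏ a ∈ S, f a : V) : G) = b * ((∏ a ∈ S, f a : V) : G) * b⁻¹ * b := by group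
      _ = _ := by rw [h']
  let nz : Subgroup G → Finset G := fun B => (Finset.univ.filter (fun a => a ∈ B ∧ a ≠ 1))
  let al : Subgroup G → Finset G := fun B => (Finset.univ.filter (fun a => a ∈ B))
  have hins : ∀ B : Subgroup G, ∏ a ∈ al B, f a = v * ∏ a ∈ nz B, f a := by
    intro B
    have : al B = insert 1 (nz B) := by
      ext a; simp only [al, nz, Finset.mem_filter, Finset.mem_univ, true_and, Finset.mem_insert]
      by_cases h : a = 1
      · simp [h, one_mem B]
      · simp [h]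
    rw [this, Finset.prod_insert (by simp [nz]), hf1]
  have hzero : ∀ B ∈ 𝒜, ∀ C : Subgroup G, B ≤ C → C ≤ A → ∏ a ∈ al C, f a = 1 := by
    intro B hB C hBC hCA
    have hm : ((∏ a ∈ al C, f a : V) : G) ∈ centralizer (B : Set G) :=
      hfix B (al C) ((hprop B hB).le) (fun a ha => hCA (by simpa [al] using ha))
        (fun b hb a ha => by
          simp only [al, Finset.mem_filter, Finset.mem_univ, true_and] at ha ⊢
          exact mul_mem (hBC hb) ha)
    have h0 := (Subgroup.eq_bot_iff_forall _).1 (hcon B hB) _ ⟨SetLike.coe_mem _, hm⟩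
    exact Subtype.ext h0
  obtain ⟨B₀, hB₀⟩ := hne
  have hA : v * ∏ a ∈ nz A, f a = 1 := by rw [← hins]; exact hzero B₀ hB₀ A (hprop B₀ hB₀).le le_rfl
  have hunion : ∏ a ∈ nz A, f a = ∏ B ∈ 𝒜, ∏ a ∈ nz B, f a := by
    rw [← Finset.prod_biUnion]
    · refine Finset.prod_congr ?_ fun _ _ => rfl
      ext a
      simp only [nz, Finset.mem_filter, Finset.mem_univ, true_and, Finset.mem_biUnion]
      constructor
      · rintro ⟨ha, h1⟩
        obtain ⟨B, ⟨hB, haB⟩, -⟩ := hpart a ha h1
        exact ⟨B, hB, haB, h1⟩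
      · rintro ⟨B, hB, haB, h1⟩
        exact ⟨(hprop B hB).le haB, h1⟩
    · intro B hB C hC hBC
      rw [Function.onFun, Finset.disjoint_left]
      intro a ha ha'
      simp only [nz, Finset.mem_filter, Finset.mem_univ, true_and] at ha ha'
      exact hBC ((hpart a ((hprop B hB).le ha.1) ha.2).unique ⟨hB, ha.1⟩ ⟨hC, ha'.1⟩)
  have hmem : ∀ B ∈ 𝒜, ∏ a ∈ nz B, f a = v⁻¹ := fun B hB => by
    rw [eq_inv_iff_mul_eq_one, mul_comm, ← hins]; exact hzero B hB B le_rfl (hprop B hB).le
  rw [hunion, Finset.prod_congr rfl hmem, Finset.prod_const] at hA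
  have hk1 : v ^ (𝒜.card - 1) = 1 := by
    obtain ⟨m, hm⟩ : ∃ m, 𝒜.card = m + 1 :=
      ⟨𝒜.card - 1, by have := Finset.card_pos.2 ⟨B₀, hB₀⟩; omega⟩
    rw [hm, pow_succ', mul_inv_cancel_left, inv_pow, inv_eq_one] at hA
    rw [hm, Nat.add_sub_cancel]; exact hA
  exact hv1 (orderOf_eq_one_iff.1 (Nat.eq_one_of_dvd_coprimes hk (orderOf_dvd_of_pow_eq_one hk1)
    (orderOf_dvd_natCard v)))

end Cfsg.Agent.S3733
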