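import Cfsg.Statements.S3734
import Cfsg.Agent.Lib.Coprime.Action2

set_option autoImplicit false
open Cfsg CfsgLib.Coprime
open scoped Pointwise commutatorElement

namespace Cfsg.Agent.S3734

/-- Let A and G be subgroups of a finite group with A abelian, A normalizing G and the orders of A and G coprime. Then G is generated by the fixed-point subgroups C_G(B) of those subgroups B of A for which A/B is cyclic (that is, A = ⟨B, a⟩ for some a), and [G, A] is generated by the commutator subgroups [C_G(B), A] over the same subgroups B. -/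
theorem result {X : Type*} [Group X] [Finite X] (A G : Subgroup X) (hAab : IsMulCommutative A) (hAG : A ≤ Subgroup.normalizer (G : Set X)) (hcop : (Nat.card A).Coprime (Nat.card G)) : (⨆ B ∈ {B : Subgroup X | B ≤ A ∧ ∃ a ∈ A, B ⊔ Subgroup.zpowers a = A}, G ⊓ Subgroup.centralizer (B : Set X)) = G ∧ (⨆ B ∈ {B : Subgroup X | B ≤ A ∧ ∃ a ∈ A, B ⊔ Subgroup.zpowers a = A}, ⁅G ⊓ Subgroup.centralizer (B : Set X), A⁆) = ⁅G, A⁆ := by
  set F := {B : Subgroup X | B ≤ A ∧ ∃ a ∈ A, B ⊔ Subgroup.zpowers a = A} with hF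
  have hgen : (⨆ B ∈ F, G ⊓ Subgroup.centralizer (B : Set X)) = G := by
    refine le_antisymm (iSup₂_le fun B _ => inf_le_left)
      (le_of_cyclic_quotient hAG hcop fun B hB hBc => ?_)
    exact le_iSup₂ (f := fun B (_ : B ∈ F) => G ⊓ Subgroup.centralizer (B : Set X)) B ⟨hB, hBc⟩
  refine ⟨hgen, le_antisymm (iSup₂_le fun B _ => Subgroup.commutator_mono inf_le_left le_rfl) ?_⟩
  set R := ⨆ B ∈ F, ⁅G ⊓ Subgroup.centralizer (B : Set X), A⁆ with hR
  set C := G ⊓ Subgroup.centralizer (A : Set X) with hC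
  have hAs : Group.IsSolvable A := Group.isSolvable_of_comm fun u v => mul_comm' u v
  have hAB : ∀ B ∈ F, A ≤ Subgroup.normalizer (B : Set X) := by
    intro B hB
    have h1 : A ≤ Subgroup.centralizer (B : Set X) :=
      (Subgroup.le_centralizer_iff_isMulCommutative.mpr hAab).trans
        (Subgroup.centralizer_le hB.1)
    exact h1.trans (Subgroup.centralizer_le_normalizer _)
  have hnorm : ∀ B ∈ F, A ≤ Subgroup.normalizer
      ((G ⊓ Subgroup.centralizer (B : Set X) : Subgroup X) : Set X) := fun B hB =>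
    le_normalizer_inf_inf hAG (le_normalizer_centralizer (hAB B hB))
  have hAR : A ≤ Subgroup.normalizer (R : Set X) := by
    rw [le_normalizer_iff_conj_smul]
    intro a ha
    rw [hR, conj_smul_eq_map, Subgroup.map_iSup]
    refine iSup_congr fun B => ?_
    rw [Subgroup.map_iSup]
    refine iSup_congr fun hB => ?_
    rw [← conj_smul_eq_map]
    exact conj_smul_eq_self_of_mem_normalizer (Subgroup.normalizer_commutator_ge_right _ A ha)
  have hCR : C ≤ Subgroup.normalizer (R : Set X) := by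
    rw [le_normalizer_iff_conj_smul]
    intro c hc
    rw [hR, conj_smul_eq_map, Subgroup.map_iSup]
    refine iSup_congr fun B => ?_
    rw [Subgroup.map_iSup]
    refine iSup_congr fun hB => ?_
    rw [← conj_smul_eq_map]
    refine conj_smul_eq_self_of_mem_normalizer (Subgroup.normalizer_commutator_ge_left _ A ?_)
    exact ⟨hc.1, Subgroup.centralizer_le hB.1 hc.2⟩
  have hGRC : G ≤ R ⊔ C := by
    rw [← hgen]
    refine iSup₂_le fun B hB => ?_
    have hcopB : (Nat.card A).Coprime (Nat.card ↥(G ⊓ Subgroup.centralizer (B : Set X))) :=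
      hcop.coprime_dvd_right (Subgroup.card_dvd_of_le inf_le_left)
    conv_lhs => rw [← commutator_sup_centralizer (hnorm B hB) hcopB (Or.inl hAs)]
    refine sup_le_sup ?_ (inf_le_inf_right _ inf_le_left)
    exact le_iSup₂ (f := fun B (_ : B ∈ F) => ⁅G ⊓ Subgroup.centralizer (B : Set X), A⁆) B hB
  rw [Subgroup.commutator_le]
  intro g hg a ha
  obtain ⟨c, hc, r, hr, rfl⟩ := (mem_sup_iff_of_le_normalizer hCR).mp (sup_comm R C ▸ hGRC hg)
  have e : ⁅c * r, a⁆ = (c * r * c⁻¹) * (a * (c * r * c⁻¹) * a⁻¹)⁻¹ := by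
    have hca : a * c = c * a := Subgroup.mem_centralizer_iff.mp hc.2 a ha
    calc ⁅c * r, a⁆ = c * r * a * r⁻¹ * (c⁻¹ * a⁻¹) := by rw [commutatorElement_def]; group
      _ = c * r * a * r⁻¹ * (a * c)⁻¹ := by group
      _ = c * r * c⁻¹ * ((c * a) * r⁻¹ * (a * c)⁻¹) := by group
      _ = c * r * c⁻¹ * ((a * c) * r⁻¹ * (a * c)⁻¹) := by rw [hca]
      _ = _ := by group
  rw [e]
  have h1 : c * r * c⁻¹ ∈ R := (Subgroup.mem_normalizer_iff.mp (hCR hc) r).mp hr
  exact R.mul_mem h1 (R.inv_mem ((Subgroup.mem_normalizer_iff.mp (hAR ha) _).mp h1))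

end Cfsg.Agent.S3734
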