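import Cfsg.Statements.S3735
import Mathlib
open scoped commutatorElement

set_option autoImplicit false
open Cfsg

namespace Cfsg.Agent.S3735

/-- Clifford's Theorem for actions on finite abelian groups, first part. Let H and V be subgroups of a finite group with V abelian and H normalizing V, and let A be a normal subgroup of H. If every H-invariant subgroup of V has an H-invariant complement in V, then every A-invariant subgroup of V has an A-invariant complement in V. -/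
theorem result {G : Type*} [Group G] [Finite G] (H A V : Subgroup G) (hVab : IsMulCommutative V) (hHV : H ≤ Subgroup.normalizer (V : Set G)) (hAH : A ≤ H) (hAn : H ≤ Subgroup.normalizer (A : Set G)) (hss : ∀ U : Subgroup G, U ≤ V → H ≤ Subgroup.normalizer (U : Set G) → ∃ W : Subgroup G, W ≤ V ∧ H ≤ Subgroup.normalizer (W : Set G) ∧ U ⊓ W = ⊥ ∧ U ⊔ W = V) (U : Subgroup G) (hUV : U ≤ V) (hAU : A ≤ Subgroup.normalizer (U : Set G)) : ∃ W : Subgroup G, W ≤ V ∧ A ≤ Subgroup.normalizer (W : Set G) ∧ U ⊓ W = ⊥ ∧ U ⊔ W = V := by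
  classical
  have hinv : ∀ {B X : Subgroup G}, B ≤ Subgroup.normalizer (X : Set G) ↔ ∀ b ∈ B, ∀ x ∈ X, b * x * b⁻¹ ∈ X := by
    intro B X
    constructor
    · exact fun h b hb x hx => (Subgroup.mem_normalizer_iff.mp (h hb) x).mp hx
    · intro h b hb
      refine Subgroup.mem_normalizer_iff.mpr fun x => ⟨h b hb x, fun hx => ?_⟩
      simpa [mul_assoc] using h b⁻¹ (inv_mem hb) _ hx
  have hsup : ∀ {B X Y : Subgroup G}, B ≤ Subgroup.normalizer (X : Set G) →
      B ≤ Subgroup.normalizer (Y : Set G) → B ≤ Subgroup.normalizer ((X ⊔ Y : Subgroup G) : Set G) := by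
    intro B X Y hX hY
    refine hinv.mpr fun b hb z hz => ?_
    have h1 : X ⊔ Y ≤ (X ⊔ Y).comap (MulAut.conj b).toMonoidHom := sup_le
      (fun w hw => le_sup_left (b := Y) (hinv.mp hX b hb w hw))
      (fun w hw => le_sup_right (a := X) (hinv.mp hY b hb w hw))
    exact h1 hz
  have hcomm : ∀ u ∈ V, ∀ w ∈ V, u * w = w * u := fun u hu w hw =>
    congrArg (fun t : V => (t : G)) (hVab.is_comm.comm ⟨u, hu⟩ ⟨w, hw⟩)
  let P : Subgroup G → Prop := fun M => M ≤ V ∧ M ≠ ⊥ ∧ A ≤ Subgroup.normalizer (M : Set G)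
  let S : Set (Subgroup G) := {M | Minimal P M}
  set W0 := sSup S with hW0
  have hW0V : W0 ≤ V := sSup_le fun M hM => hM.1.1
  have hW0inv : H ≤ Subgroup.normalizer (W0 : Set G) := by
    refine hinv.mpr fun h hh z hz => ?_
    have h1 : W0 ≤ W0.comap (MulAut.conj h).toMonoidHom := by
      refine sSup_le fun M hM => ?_
      rw [← Subgroup.map_le_iff_le_comap]
      refine le_sSup ?_
      have hP : ∀ {N : Subgroup G} {g : G}, g ∈ H → P N → P (N.map (MulAut.conj g).toMonoidHom) := by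
        rintro N g hg ⟨h1, h2, h3⟩
        refine ⟨?_, ?_, hinv.mpr ?_⟩
        · rintro _ ⟨x, hx, rfl⟩; exact hinv.mp hHV g hg x (h1 hx)
        · intro hb
          exact h2 ((Subgroup.map_eq_bot_iff_of_injective N (MulAut.conj g).injective).mp hb)
        · rintro a ha _ ⟨x, hx, rfl⟩
          refine ⟨(g⁻¹ * a * g) * x * (g⁻¹ * a * g)⁻¹, hinv.mp h3 _ ?_ x hx, by simp [mul_assoc]⟩
          simpa using hinv.mp hAn g⁻¹ (inv_mem hg) a ha
      refine ⟨hP hh hM.1, fun N hN hle => ?_⟩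
      have h2 : N.map (MulAut.conj h⁻¹).toMonoidHom ≤ M := by
        rintro _ ⟨x, hx, rfl⟩
        obtain ⟨m, hm, rfl⟩ := hle hx
        simpa [mul_assoc] using hm
      intro x hx
      obtain ⟨m, hm, rfl⟩ := hx
      obtain ⟨n, hn, rfl⟩ := hM.2 (hP (inv_mem hh) hN) h2 hm
      simpa [mul_assoc] using hn
    exact h1 hz
  have hexmin : ∀ M, P M → ∃ M₀ ≤ M, Minimal P M₀ := fun M hM => exists_minimal_le_of_wellFoundedLT P M hM
  have hW0top : W0 = V := by
    obtain ⟨W, hWV, hWinv, hWinf, hWsup⟩ := hss W0 hW0V hW0inv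
    rcases eq_or_ne W ⊥ with hb | hne
    · rw [hb, sup_bot_eq] at hWsup; exact hWsup
    · obtain ⟨M, hMW, hM⟩ := hexmin W ⟨hWV, hne, hAH.trans hWinv⟩
      exact absurd (le_bot_iff.mp (hWinf ▸ le_inf (le_sSup hM) hMW)) hM.1.2.1
  obtain ⟨W, hW⟩ := Set.Finite.exists_maximal
    (s := {W : Subgroup G | W ≤ V ∧ A ≤ Subgroup.normalizer (W : Set G) ∧ U ⊓ W = ⊥}) (Set.toFinite _)
    ⟨⊥, bot_le, hinv.mpr (fun b _ x hx => by simp [Subgroup.mem_bot.mp hx]), by simp⟩
  obtain ⟨hWV, hWinv, hUW⟩ := hW.1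
  refine ⟨W, hWV, hWinv, hUW, le_antisymm (sup_le hUV hWV) ?_⟩
  conv_lhs => rw [← hW0top, hW0]
  refine sSup_le fun M hM => ?_
  by_contra hnot
  have hXinv := hsup hAU hWinv
  have hint : M ⊓ (U ⊔ W) = ⊥ := by
    by_contra hne
    exact hnot ((hM.2 ⟨inf_le_left.trans hM.1.1, hne, hinv.mpr fun b hb x hx =>
      ⟨hinv.mp hM.1.2.2 b hb x hx.1, hinv.mp hXinv b hb x hx.2⟩⟩ inf_le_left).trans inf_le_right)
  have hdec : ∀ z ∈ W ⊔ M, ∃ w ∈ W, ∃ m ∈ M, z = w * m := by
    intro z hz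
    have h1 : z ∈ ((W ⊔ M : Subgroup G) : Set G) := hz
    rw [Subgroup.coe_mul_of_left_le_normalizer_right W M (fun w hw => Subgroup.mem_normalizer_iff.mpr fun x => by
      constructor
      · intro hx
        rw [hcomm w (hWV hw) x (hM.1.1 hx), mul_inv_cancel_right]; exact hx
      · intro hx
        have := hcomm w⁻¹ (inv_mem (hWV hw)) _ (hM.1.1 hx)
        have h3 : x = w⁻¹ * (w * x * w⁻¹) * w := by simp [mul_assoc]
        rw [this, inv_mul_cancel_right] at h3
        exact h3 ▸ hx)] at h1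
    obtain ⟨w, hw, m, hm, rfl⟩ := Set.mem_mul.mp h1
    exact ⟨w, hw, m, hm, rfl⟩
  have hnew : U ⊓ (W ⊔ M) = ⊥ := by
    rw [eq_bot_iff]
    rintro z ⟨hzU, hzW⟩
    obtain ⟨w, hw, m, hm, rfl⟩ := hdec z hzW
    have hm' : m ∈ M ⊓ (U ⊔ W) := ⟨hm, by
      have := mul_mem (le_sup_right (a := U) (inv_mem hw)) (le_sup_left (b := W) hzU)
      rwa [inv_mul_cancel_left] at this⟩
    rw [hint, Subgroup.mem_bot] at hm'
    subst hm'
    rw [mul_one] at hzU ⊢
    exact hUW ▸ ⟨hzU, hw⟩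
  exact hnot ((le_sup_right.trans (hW.2 ⟨sup_le hWV hM.1.1, hsup hWinv hM.1.2.2, hnew⟩ le_sup_left)).trans le_sup_right)

end Cfsg.Agent.S3735
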