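import Cfsg.Statements.S3738
import Cfsg.Agent.Lib.PGroups.MinimalAction
import Cfsg.Agent.Lib.PGroups.InvolutionSubgroup
import Cfsg.Agent.Lib.PGroups.Extraspecial
open scoped commutatorElement

set_option autoImplicit false
open Cfsg

namespace Cfsg.Agent.S3738

/-- Let d be a non-identity 3-element of a finite group and P a 2-subgroup normalized by d on which ⟨d⟩ acts faithfully (no non-identity power of d centralizes P) and without non-identity fixed points (C_P(d) = 1). If every abelian subgroup of P has 2-rank at most 2, then d has order 3. -/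
theorem result {X : Type*} [Group X] [Finite X] (d : X) (n : ℕ) (hn : 1 ≤ n) (hd : orderOf d = 3 ^ n) (P : Subgroup X) (hP : IsPGroup 2 P) (hdP : d ∈ Subgroup.normalizer (P : Set X)) (hfaith : Subgroup.zpowers d ⊓ Subgroup.centralizer (P : Set X) = ⊥) (hfpf : P ⊓ Subgroup.centralizer {d} = ⊥) (hrank : ∀ V : Subgroup X, V ≤ P → IsMulCommutative V → Cfsg.PRankLE 2 2 V) : orderOf d = 3 := by
  classical
  haveI : Fact (Nat.Prime 2) := ⟨Nat.prime_two⟩
  haveI := Fintype.ofFinite X
  by_contra hne
  obtain ⟨m, rfl⟩ : ∃ m, n = m + 2 := ⟨n - 2, by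
    rcases n with _ | _ | n
    · omega
    · exact absurd hd hne
    · omega⟩
  set f : X := d ^ 3 ^ m with hfdef
  set e : X := f ^ 3 with hedef
  have hf : orderOf f = 9 := by
    rw [hfdef, orderOf_pow_of_dvd (pow_ne_zero _ three_ne_zero) (hd ▸ pow_dvd_pow 3 (by omega)), hd,
      Nat.pow_div (by omega) three_pos]
    norm_num
  have he : orderOf e = 3 := by
    rw [hedef, orderOf_pow_of_dvd three_ne_zero (by rw [hf]; norm_num), hf]
  have hemem : e ∈ Subgroup.zpowers d := by
    rw [hedef, hfdef, ← pow_mul]; exact Subgroup.npow_mem_zpowers d _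
  set B := Subgroup.zpowers d with hB
  set A := Subgroup.zpowers e with hA
  have hBP : B ≤ Subgroup.normalizer (P : Set X) := Subgroup.zpowers_le.mpr hdP
  have hAB : A ≤ B := Subgroup.zpowers_le.mpr hemem
  have hAn : B ≤ Subgroup.normalizer (A : Set X) := by
    refine (Subgroup.zpowers_le.mpr ?_)
    have hcd : d * e = e * d := by
      rw [hedef, hfdef, ← pow_mul]; exact Commute.self_pow d _
    rw [← CfsgLib.Base.map_conj_eq_self_iff, hA, MonoidHom.map_zpowers]
    congr 1
    show d * e * d⁻¹ = e
    rw [hcd, mul_inv_cancel_right]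
  have hAp : (Nat.card A).Coprime 2 := by rw [Nat.card_zpowers, he]; norm_num
  obtain ⟨P1, ⟨hP1le, hP1B, hP1ne⟩, hP1min⟩ := Set.exists_min_image
    {U : Subgroup X | U ≤ P ∧ B ≤ Subgroup.normalizer (U : Set X) ∧ ⁅U, A⁆ ≠ ⊥}
    (fun U => Nat.card U) (Set.toFinite _) ⟨P, le_rfl, hBP, fun h => by
      have h1 : A ≤ Subgroup.centralizer (P : Set X) := CfsgLib.Base.le_centralizer_comm.mp
        (Subgroup.commutator_eq_bot_iff_le_centralizer.mp h)
      have h2 : e ∈ Subgroup.zpowers d ⊓ Subgroup.centralizer (P : Set X) :=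
        ⟨hemem, h1 (Subgroup.mem_zpowers e)⟩
      rw [hfaith, Subgroup.mem_bot] at h2
      rw [h2, orderOf_one] at he
      omega⟩
  have hP1p : IsPGroup 2 P1 := hP.to_le hP1le
  obtain ⟨hP1A, hstr, -, -⟩ := CfsgLib.PGroups.minimal_action (p := 2) B A P1 hP1p hP1B hAB hAn hAp
    hP1ne fun U hU hUB => by
      by_contra h
      exact hU.ne (Subgroup.eq_of_le_of_card_ge hU.le (hP1min U ⟨hU.le.trans hP1le, hUB, h⟩))
  have hfB : f ∈ B := by rw [hfdef]; exact Subgroup.npow_mem_zpowers d _
  have hAP1 : A ≤ Subgroup.normalizer (P1 : Set X) := hAB.trans hP1B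
  -- the free action
  have hdvd : 9 ∣ Nat.card {x : P1 // x ∉ commutator P1} := by
    set H := Subgroup.zpowers f with hH
    have hHP1 : H ≤ Subgroup.normalizer (P1 : Set X) := (Subgroup.zpowers_le.mpr hfB).trans hP1B
    have hinv : ∀ (h : H) (x : P1), x ∉ commutator P1 →
        CfsgLib.PGroups.normConj P1 (hHP1 h.2) x ∉ commutator P1 := by
      intro h x hx hmem
      have hchar : ∀ (g : H) (y : P1), y ∈ commutator P1 →
          CfsgLib.PGroups.normConj P1 (hHP1 g.2) y ∈ commutator P1 := fun g y hy => by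
        have h1 : (commutator P1).map (CfsgLib.PGroups.normConj P1 (hHP1 g.2)) ≤ commutator P1 := by
          rw [commutator_def, Subgroup.map_commutator]
          exact Subgroup.commutator_mono le_top le_top
        exact h1 ⟨y, hy, rfl⟩
      apply hx
      convert hchar h⁻¹ _ hmem using 1
      refine Subtype.ext ?_
      show (x : X) = ((h⁻¹ : H) : X) * ((h : X) * (x : X) * (h : X)⁻¹) * ((h⁻¹ : H) : X)⁻¹
      rw [Subgroup.coe_inv]; group
    letI : MulAction H {x : P1 // x ∉ commutator P1} :=
      { smul := fun h x => ⟨CfsgLib.PGroups.normConj P1 (hHP1 h.2) x.1, hinv h x.1 x.2⟩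
        one_smul := fun x => Subtype.ext (Subtype.ext (by
          show ((1 : H) : X) * (x.1 : X) * ((1 : H) : X)⁻¹ = (x.1 : X)
          simp))
        mul_smul := fun g h x => Subtype.ext (Subtype.ext (by
          show ((g * h : H) : X) * (x.1 : X) * ((g * h : H) : X)⁻¹
            = (g : X) * ((h : X) * (x.1 : X) * (h : X)⁻¹) * (g : X)⁻¹
          simp [mul_assoc])) }
    have hstab : ∀ x : {x : P1 // x ∉ commutator P1}, MulAction.stabilizer H x = ⊥ := by
      intro x
      by_contra hbot
      obtain ⟨s, hs, hs1⟩ := (Subgroup.bot_or_exists_ne_one _).resolve_left hbot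
      have hso : 3 ∣ orderOf s := by
        have h9 : orderOf s ∣ 3 ^ 2 := by
          have h := orderOf_dvd_natCard s
          rwa [Nat.card_zpowers, hf] at h
        obtain ⟨i, -, hi⟩ := (Nat.dvd_prime_pow Nat.prime_three).mp h9
        rcases i with _ | i
        · exact absurd (orderOf_eq_one_iff.mp (by rw [hi, pow_zero])) hs1
        · rw [hi]; exact dvd_pow_self 3 i.succ_ne_zero
      obtain ⟨k, hk⟩ := Subgroup.mem_zpowers_iff.mp s.2
      have hemem' : e ∈ Subgroup.zpowers (s : X) := by
        have hse : orderOf ((s : X) ^ (orderOf s / 3)) = 3 := by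
          rw [orderOf_pow_of_dvd (Nat.div_pos (Nat.le_of_dvd (orderOf_pos s) hso) three_pos).ne'
            (by rw [Subgroup.orderOf_coe]; exact Nat.div_dvd_of_dvd hso), Subgroup.orderOf_coe,
            Nat.div_div_self hso (orderOf_pos s).ne']
        have hsub : Subgroup.zpowers ((s : X) ^ (orderOf s / 3)) = Subgroup.zpowers e := by
          obtain ⟨i, hi⟩ := Subgroup.mem_zpowers_iff.mp (pow_mem s.2 (orderOf s / 3) :
            (s : X) ^ (orderOf s / 3) ∈ Subgroup.zpowers f)
          have h9 : ((orderOf f : ℕ) : ℤ) ∣ i * 3 := by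
            rw [orderOf_dvd_iff_zpow_eq_one, zpow_mul, hi, zpow_ofNat]
            exact orderOf_dvd_iff_pow_eq_one.mp hse.dvd
          rw [hf] at h9
          obtain ⟨j, hj⟩ : (3 : ℤ) ∣ i := by omega
          refine Subgroup.eq_of_le_of_card_ge (Subgroup.zpowers_le.mpr ?_)
            (by rw [Nat.card_zpowers, Nat.card_zpowers, hse, he])
          rw [← hi, hj, zpow_mul, zpow_ofNat, ← hedef]
          exact Subgroup.zpow_mem_zpowers _ _
        have h3 : Subgroup.zpowers ((s : X) ^ (orderOf s / 3)) ≤ Subgroup.zpowers (s : X) :=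
          Subgroup.zpowers_le.mpr (Subgroup.npow_mem_zpowers _ _)
        exact h3 (hsub ▸ Subgroup.mem_zpowers e)
      have hfixs : (s : X) * (x.1 : X) = (x.1 : X) * s := by
        have h := congrArg (fun z : {x : P1 // x ∉ commutator P1} => ((z.1 : P1) : X))
          (MulAction.mem_stabilizer_iff.mp hs)
        exact mul_inv_eq_iff_eq_mul.mp h
      refine x.2 (CfsgLib.PGroups.mem_commutator_of_centralizes hAP1 hP1A ?_ fun a ha => ?_)
      · obtain ⟨j, hj⟩ := IsPGroup.iff_card.mp hP1p
        rw [hj]
        exact hAp.pow_right j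
      · have h1 : a ∈ Subgroup.zpowers (s : X) := (Subgroup.zpowers_le.mpr hemem' : A ≤ _) ha
        obtain ⟨i, rfl⟩ := Subgroup.mem_zpowers_iff.mp h1
        exact (Commute.zpow_left (show Commute (s : X) (x.1 : X) from hfixs) i).eq
    haveI := Fintype.ofFinite (Quotient (MulAction.orbitRel H {x : P1 // x ∉ commutator P1}))
    rw [Nat.card_eq_fintype_card, MulAction.card_eq_sum_card_group_div_card_stabilizer (α := H)]
    refine Finset.dvd_sum fun w _ => ?_
    rw [← Nat.card_eq_fintype_card (α := H), ← Nat.card_eq_fintype_card, hstab, Subgroup.card_bot,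
      Nat.div_one, Nat.card_zpowers, hf]
  have hcount : Nat.card {x : P1 // x ∉ commutator P1} + Nat.card (commutator P1) = Nat.card P1 := by
    have h := Nat.card_congr (Equiv.sumCompl fun x : P1 => x ∈ commutator P1)
    rw [Nat.card_sum] at h
    rw [← h, add_comm]
  -- rank two
  have hrank' : ∀ V : Subgroup X, V ≤ P → IsMulCommutative V → (∀ v ∈ V, v ^ 2 = 1) →
      Nat.card V ≤ 4 := by
    intro V hV hc hexp
    haveI := hc
    have h := hrank V hV hc ⊤ ⟨⟨fun a b => Subtype.ext (hc.is_comm.comm a.1 b.1)⟩⟩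
      fun v _ => Subtype.ext (hexp v v.2)
    simpa using h
  obtain ⟨k, hk⟩ := IsPGroup.iff_card.mp hP1p
  rcases hstr with hel | hsp
  · have h4 := hrank' P1 hP1le hel.1 hel.2
    have hc1 : commutator P1 = ⊥ := by
      rw [commutator_def, Subgroup.commutator_eq_bot_iff_le_centralizer]
      intro a _
      rw [Subgroup.mem_centralizer_iff]
      exact fun b _ => hel.1.is_comm.comm b a
    rw [hc1] at hcount hdvd
    rw [Subgroup.card_bot] at hcount
    rcases Nat.eq_zero_or_pos k with hk0 | hk0
    · refine hP1ne ?_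
      rw [Subgroup.eq_bot_of_card_eq P1 (by rw [hk, hk0, pow_zero]), Subgroup.commutator_bot_left]
    · have : k ≤ 2 := (Nat.pow_le_pow_iff_right one_lt_two).mp (by rw [← hk]; exact h4)
      rw [hk] at hcount
      obtain ⟨t, ht⟩ := hdvd
      rw [ht] at hcount
      interval_cases k <;> omega
  · obtain ⟨-, hΦ, hder⟩ := hsp
    set Z := Subgroup.center P1 with hZ
    have hZexp : ∀ z ∈ Z, z ^ 2 = 1 := fun z hz =>
      CfsgLib.PGroups.pow_eq_one_of_mem_center_of_special ⟨hP1p, hΦ, hder⟩ hz
    set ZX := Z.map P1.subtype with hZX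
    have hZXle : ZX ≤ P1 := Subgroup.map_subtype_le _
    have hZXcard : Nat.card ZX = Nat.card Z := Subgroup.card_map_of_injective P1.subtype_injective
    haveI : Nontrivial P1 := (Subgroup.nontrivial_iff_ne_bot P1).mpr fun h => hP1ne (by
      rw [h, Subgroup.commutator_bot_left])
    have hcomX : IsMulCommutative ZX := ⟨⟨by
      rintro ⟨_, a, ha, rfl⟩ ⟨_, b, hb, rfl⟩
      exact Subtype.ext (congrArg (fun w : P1 => (w : X)) (Subgroup.mem_center_iff.mp hb a))⟩⟩
    have hZ4 : Nat.card Z ≤ 4 := hZXcard ▸ hrank' ZX (hZXle.trans hP1le) hcomX (by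
      rintro _ ⟨a, ha, rfl⟩
      exact congrArg Subtype.val (hZexp a ha))
    have hZ3 : 2 < Nat.card Z := by
      by_contra hle
      haveI : Nontrivial (Subgroup.center P1) := hP1p.center_nontrivial
      have h2 : Nat.card Z = 2 := le_antisymm (by omega) Finite.one_lt_card
      obtain ⟨z, hz, huniq⟩ := (Nat.card_eq_two_iff' (1 : Z)).mp h2
      have hzX : ((z : P1) : X) ∈ P ⊓ Subgroup.centralizer {d} := by
        refine ⟨hP1le (z : P1).2, Subgroup.mem_centralizer_singleton_iff.mpr ?_⟩
        have hmem : d * ((z : P1) : X) * d⁻¹ ∈ ZX :=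
          (Subgroup.mem_normalizer_iff.mp ((hP1B.trans
            (CfsgLib.Base.normalizer_le_normalizer_map_subtype P1 _)) (Subgroup.mem_zpowers d)) _).mp
            ⟨z, z.2, rfl⟩
        obtain ⟨w, hw, hwe⟩ := hmem
        have hw1 : (⟨w, hw⟩ : Z) = z := huniq _ fun h => hz (Subtype.ext (Subtype.ext (by
          have h1 : d * ((z : P1) : X) * d⁻¹ = 1 := by
            rw [← hwe, show w = 1 from congrArg Subtype.val h]; rfl
          exact conj_eq_one_iff.mp h1)))
        have h1 : d * ((z : P1) : X) * d⁻¹ = ((z : P1) : X) := by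
          rw [← hwe, show w = (z : P1) from congrArg Subtype.val hw1]; rfl
        exact (mul_inv_eq_iff_eq_mul.mp h1).symm
      rw [hfpf, Subgroup.mem_bot] at hzX
      exact hz (Subtype.ext (Subtype.ext hzX))
    have hinv : ∀ x : P1, x ^ 2 = 1 → x ∈ Z := by
      intro x hx
      by_contra hxZ
      have hcomm : ∀ z ∈ Z, Commute x z := fun z hz => Subgroup.mem_center_iff.mp hz x
      set V : Subgroup P1 := Subgroup.closure (insert x (Z : Set P1)) with hV
      have hgen : ∀ a ∈ insert x (Z : Set P1), ∀ b ∈ insert x (Z : Set P1), a * b = b * a := by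
        rintro a (rfl | ha) b (rfl | hb)
        · rfl
        · exact hcomm b hb
        · exact (hcomm a ha).symm
        · exact Subgroup.mem_center_iff.mp hb a
      haveI hVc : IsMulCommutative V := Subgroup.isMulCommutative_closure hgen
      have hVexp : ∀ v ∈ V, v ^ 2 = 1 := by
        intro v hv
        induction hv using Subgroup.closure_induction with
        | mem a ha =>
          rcases ha with rfl | ha
          · exact hx
          · exact hZexp a ha
        | one => exact one_pow 2
        | mul a b ha hb iha ihb =>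
          have hab : Commute a b := congrArg Subtype.val (hVc.is_comm.comm ⟨a, ha⟩ ⟨b, hb⟩)
          rw [hab.mul_pow, iha, ihb, one_mul]
        | inv a _ iha => rw [inv_pow, iha, inv_one]
      have hlt : Z < V := lt_of_le_of_ne
        (fun z hz => Subgroup.subset_closure (Set.mem_insert_of_mem _ hz))
        fun h => hxZ (h.symm ▸ Subgroup.subset_closure (Set.mem_insert x _))
      have h4 : Nat.card V ≤ 4 := by
        rw [← Subgroup.card_map_of_injective (K := V) P1.subtype_injective]
        refine hrank' _ ((Subgroup.map_subtype_le _).trans hP1le) ⟨⟨?_⟩⟩ ?_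
        · rintro ⟨_, a, ha, rfl⟩ ⟨_, b, hb, rfl⟩
          exact Subtype.ext (congrArg (fun w : V => ((w : P1) : X))
            (hVc.is_comm.comm ⟨a, ha⟩ ⟨b, hb⟩))
        · rintro _ ⟨a, ha, rfl⟩
          exact congrArg Subtype.val (hVexp a ha)
      have h5 : Nat.card Z < Nat.card V := by
        by_contra hge
        exact hlt.ne (Subgroup.eq_of_le_of_card_ge hlt.le (by omega))
      have h6 := Subgroup.card_dvd_of_le hlt.le
      interval_cases Nat.card Z <;> omega
    have hcube := (CfsgLib.PGroups.card_le_involutions_cube hP1p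
      (by
        rw [Subgroup.lowerCentralSeries_succ, Subgroup.top_lowerCentralSeries_one, hder,
          Subgroup.commutator_eq_bot_iff_le_centralizer]
        exact fun a ha => Subgroup.mem_centralizer_iff.mpr fun b _ => Subgroup.mem_center_iff.mp ha b)
      (fun x => by
        rw [show 4 = 2 * 2 from rfl, pow_mul]
        exact hZexp _ (hΦ ▸ CfsgLib.PGroups.pow_mem_frattini hP1p x))
      (fun x y hx hy => hZexp _ (mul_mem (hinv x hx) (hinv y hy)))).1
    have hN : Nat.card {x : P1 // x ^ 2 = 1} = Nat.card Z :=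
      Nat.card_congr (Equiv.subtypeEquivRight fun x => ⟨hinv x, hZexp x⟩)
    rw [hN] at hcube
    have hZeq : Nat.card Z = 4 := by
      obtain ⟨j, hj⟩ := IsPGroup.iff_card.mp (hP1p.to_subgroup Z)
      rw [hj] at hZ3 hZ4
      have : j ≤ 2 := (Nat.pow_le_pow_iff_right one_lt_two).mp hZ4
      interval_cases j <;> simp_all
    rw [hder] at hcount hdvd
    rw [hZeq] at hcount
    rw [hZeq, hk] at hcube
    have : k ≤ 6 := (Nat.pow_le_pow_iff_right one_lt_two).mp (hcube.trans (by norm_num))
    have hpos : 0 < Nat.card {x : P1 // x ∉ Subgroup.center P1} := by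
      have hne : Subgroup.center P1 ≠ ⊤ := fun h => CfsgLib.PGroups.frattini_ne_top (G := P1) (hΦ.trans h)
      rw [Nat.card_pos_iff]
      refine ⟨?_, inferInstance⟩
      by_contra h
      exact hne (eq_top_iff.mpr fun x _ => by_contra fun hx => h ⟨⟨x, hx⟩⟩)
    rw [hk] at hcount
    obtain ⟨t, ht⟩ := hdvd
    rw [ht] at hpos
    rw [ht] at hcount
    interval_cases k <;> omega

end Cfsg.Agent.S3738
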