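import Cfsg.Statements.S3739
import Cfsg.Agent.S3117
import Cfsg.Agent.Lib.PGroups.InvariantCritical
import Cfsg.Agent.Lib.Base.Cores

set_option autoImplicit false
set_option linter.style.haveILetI false
open Cfsg

namespace Cfsg.Agent.S3739

universe u

open Cfsg.Agent.S3117 (gauss count_facts four_group)

/-- An automorphism of order dividing `3` preserving an anisotropic quadratic map with classes of equal
size is trivial. -/
theorem quad_fixed {V : Type u} [CommGroup V] [Finite V] (a : MulAut V) (ha : a ^ 3 = 1)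
    (hexp : ∀ v : V, v ^ 2 = 1) (q : V → Fin 4) (hq : ∀ v, q (a v) = q v) (h1 : ∀ v, v = 1 ↔ q v = 3)
    (hchar : ∀ i : Fin 3, ∃ b : V → V → ℤ, (∀ v r, b v r = 1 ∨ b v r = -1) ∧
      (∀ u v r, b (u * v) r = b u r * b v r) ∧ (∀ v r s, b v (r * s) = b v r * b v s) ∧
      ∀ v r, (if q (v * r) = 3 ∨ q (v * r) = i.castSucc then (1 : ℤ) else -1) =
        (if q v = 3 ∨ q v = i.castSucc then 1 else -1) * (if q r = 3 ∨ q r = i.castSucc then 1 else -1) * b v r)
    (c : MulAut V) (σ : Fin 3 → Fin 3) (hσne : ∀ i, σ i ≠ i) (hσinj : Function.Injective σ)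
    (hσ : ∀ i v, q v = i.castSucc → q (c v) = (σ i).castSucc)
    (v : V) : a v = v := by
  classical
  haveI : Fintype V := Fintype.ofFinite V
  haveI : Fact (Nat.Prime 2) := ⟨Nat.prime_two⟩
  haveI : Fact (Nat.Prime 3) := ⟨Nat.prime_three⟩
  have hp : IsPGroup 2 V := fun v => ⟨1, by simpa using hexp v⟩
  obtain ⟨n, hn⟩ := IsPGroup.iff_card.1 hp
  have hn' : Fintype.card V = 2 ^ n := Nat.card_eq_fintype_card.symm.trans hn
  let N : Fin 3 → ℕ := fun i => ((Finset.univ : Finset V).filter fun v => q v = i.castSucc).card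
  have h3 : ((Finset.univ : Finset V).filter fun v => q v = 3).card = 1 := by
    rw [Finset.card_eq_one]
    exact ⟨1, by ext v; simp [h1 v]⟩
  have hsum : N 0 + N 1 + N 2 + 1 = 2 ^ n := by
    have hall : (Finset.univ : Finset V).card = ∑ i : Fin 4, (Finset.univ.filter fun v => q v = i).card :=
      Finset.card_eq_sum_card_fiberwise fun v _ => Finset.mem_univ _
    rw [Finset.card_univ, hn', Fin.sum_univ_four, h3] at hall
    exact hall.symm
  have hg : ∀ i : Fin 3, ((2 ^ n : ℕ) : ℤ) ∣ (2 + 2 * (N i : ℤ) - 2 ^ n) ^ 2 ∧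
      ((2 + 2 * (N i : ℤ) - 2 ^ n) ^ 2 = (2 ^ n : ℤ) ^ 2 ∨
        2 * (2 + 2 * (N i : ℤ) - 2 ^ n) ^ 2 ≤ (2 ^ n : ℤ) ^ 2) := by
    intro i
    have hi3 : i.castSucc ≠ 3 := (Fin.castSucc_lt_last i).ne
    obtain ⟨b, hb, hbm, hbm', hbq⟩ := hchar i
    have hg' := gauss (fun v => if q v = 3 ∨ q v = i.castSucc then (1 : ℤ) else -1) b
      (by simp [(h1 1).1 rfl]) (fun v => by split_ifs <;> simp) hb hbm hbm' hbq
    have hsumg : (∑ v, if q v = 3 ∨ q v = i.castSucc then (1 : ℤ) else -1) = 2 + 2 * (N i : ℤ) - 2 ^ n := by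
      have e1 : ∀ v, (if q v = 3 ∨ q v = i.castSucc then (1 : ℤ) else -1) =
          2 * (if q v = 3 then 1 else 0) + 2 * (if q v = i.castSucc then 1 else 0) - 1 := fun v => by
        by_cases ha : q v = 3
        · rw [if_pos (Or.inl ha), if_pos ha, if_neg (fun h => hi3 (h.symm.trans ha))]; norm_num
        · by_cases hb' : q v = i.castSucc <;> simp [ha, hb', hi3]
      simp only [e1, Finset.sum_sub_distrib, Finset.sum_add_distrib, ← Finset.mul_sum, Finset.sum_boole, h3]
      simp [N, hn']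
    rw [hsumg, hn'] at hg'
    push_cast at hg' ⊢
    exact hg'
  obtain ⟨hn4, -, -⟩ := count_facts n hn' N hsum (fun i => (hg i).1) (fun i => (hg i).2)
  -- the classes have equal size
  have hle : ∀ i, N i ≤ N (σ i) := fun i =>
    Finset.card_le_card_of_injOn c (fun v hv => by
      simp only [Finset.coe_filter, Set.mem_setOf_eq, Finset.mem_univ, true_and] at hv ⊢
      exact hσ i v hv) c.injective.injOn
  have heq : N 0 = N 1 ∧ N 1 = N 2 := by
    have a0 := hle 0; have a1 := hle 1; have a2 := hle 2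
    have b0 := hσne 0; have b1 := hσne 1; have b2 := hσne 2
    have c01 := hσinj.ne (show (0 : Fin 3) ≠ 1 by decide)
    have c02 := hσinj.ne (show (0 : Fin 3) ≠ 2 by decide)
    have c12 := hσinj.ne (show (1 : Fin 3) ≠ 2 by decide)
    revert a0 a1 a2 b0 b1 b2 c01 c02 c12
    generalize σ 0 = x; generalize σ 1 = y; generalize σ 2 = z
    fin_cases x <;> fin_cases y <;> fin_cases z <;> simp <;> omega
  let W : Subgroup V :=
    { carrier := {v | a v = v}
      one_mem' := map_one _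
      mul_mem' := fun {x y} (hx : a x = x) (hy : a y = y) => show a (x * y) = x * y by rw [map_mul, hx, hy]
      inv_mem' := fun {x} (hx : a x = x) => show a x⁻¹ = x⁻¹ by rw [map_inv, hx] }
  -- every class contains at least `N mod 3` fixed points
  have hfix : ∀ i : Fin 3, N i % 3 ≤ ((Finset.univ : Finset V).filter fun v => q v = i.castSucc ∧ a v = v).card := by
    intro i
    let σ' : Equiv.Perm {v // q v = i.castSucc} :=
      Equiv.Perm.subtypePerm a.toEquiv (fun v => by show q (a v) = _ ↔ _; rw [hq])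
    have hσ3 : σ' ^ 3 ^ 1 = 1 := by
      ext w
      have h := congrArg (fun f : MulAut V => f (w : V)) ha
      rw [pow_one, pow_succ, pow_two]
      show a (a (a (w : V))) = (w : V)
      simpa [pow_succ] using h
    have hmod := Equiv.Perm.card_compl_support_modEq hσ3
    have hcl : σ'.supportᶜ.card = ((Finset.univ : Finset V).filter fun v => q v = i.castSucc ∧ a v = v).card := by
      refine Finset.card_bij (fun w _ => (w : V)) (fun w hw => ?_) (fun _ _ _ _ h => Subtype.ext h) fun v hv => ?_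
      · simp only [Finset.mem_compl, Equiv.Perm.mem_support, not_not] at hw
        simp only [Finset.mem_filter, Finset.mem_univ, true_and]
        exact ⟨w.2, congrArg Subtype.val hw⟩
      · simp only [Finset.mem_filter, Finset.mem_univ, true_and] at hv
        refine ⟨⟨v, hv.1⟩, ?_, rfl⟩
        simp only [Finset.mem_compl, Equiv.Perm.mem_support, not_not]
        exact Subtype.ext hv.2
    rw [Fintype.card_subtype] at hmod
    have hN : N i % 3 = σ'.supportᶜ.card % 3 := hmod.symm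
    rw [hN, ← hcl]
    exact Nat.mod_le _ _
  have hWlb : N 0 % 3 + N 1 % 3 + N 2 % 3 + 1 ≤ Nat.card W := by
    have h0 := hfix 0; have h1' := hfix 1; have h2' := hfix 2
    have hall : ((Finset.univ : Finset V).filter fun v => a v = v).card =
        ∑ i : Fin 4, (((Finset.univ : Finset V).filter fun v => a v = v).filter fun v => q v = i).card :=
      Finset.card_eq_sum_card_fiberwise fun v _ => Finset.mem_univ _
    have hW : Nat.card W = ((Finset.univ : Finset V).filter fun v => a v = v).card := by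
      rw [Nat.card_eq_fintype_card, Fintype.card_subtype]; rfl
    have hflt : ∀ j : Fin 4, (((Finset.univ : Finset V).filter fun v => a v = v).filter fun v => q v = j) =
        ((Finset.univ : Finset V).filter fun v => q v = j ∧ a v = v) := fun j => by
      ext w; simp [and_comm]
    simp only [hflt, Fin.sum_univ_four] at hall
    have h33 : 1 ≤ ((Finset.univ : Finset V).filter fun v => q v = 3 ∧ a v = v).card :=
      Finset.card_pos.2 ⟨1, by simp [(h1 1).1 rfl]⟩
    change _ = ((Finset.univ : Finset V).filter fun v => q v = (0 : Fin 3).castSucc ∧ a v = v).card +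
      ((Finset.univ : Finset V).filter fun v => q v = (1 : Fin 3).castSucc ∧ a v = v).card +
      ((Finset.univ : Finset V).filter fun v => q v = (2 : Fin 3).castSucc ∧ a v = v).card + _ at hall
    omega
  have hidx : W.index ≤ 2 := by
    have hmul := W.card_mul_index
    rw [hn] at hmul
    have hWle : Nat.card W ≤ 2 ^ n := hn ▸ Subgroup.card_le_card_group W
    by_contra hc
    have : Nat.card W * 3 ≤ 2 ^ n := hmul ▸ Nat.mul_le_mul_left _ (by omega)
    have hpos : 0 < Nat.card W := Nat.card_pos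
    interval_cases n <;> simp only [Nat.reducePow] at * <;> omega
  have hpos : W.index ≠ 0 := Subgroup.index_ne_zero_of_finite
  have hord : (orderOf a).Coprime 2 :=
    Nat.Coprime.coprime_dvd_left (orderOf_dvd_of_pow_eq_one ha) (by norm_num)
  rcases (by omega : W.index = 1 ∨ W.index = 2) with h | h
  · exact (Subgroup.index_eq_one.1 h ▸ Subgroup.mem_top v : v ∈ W)
  refine CfsgLib.PGroups.InvariantCritical.eq_of_fixed_div hp hord ?_
  show v⁻¹ * a v ∈ W
  rw [Subgroup.mul_mem_iff_of_index_two h, inv_mem_iff]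
  refine ⟨fun hv => (show a v = v from hv).symm ▸ hv, fun hv => ?_⟩
  have h' : a (a v) = a v := hv
  exact (a.injective h' : a v = v)

/-- An automorphism of order dividing three of a `2`-group with three involutions fixing them all is trivial
when some automorphism permutes them without fixed point. -/
theorem auto_eq_one {X : Type u} [Group X] [Finite X] (h2 : IsPGroup 2 X)
    (h3 : Nat.card {x : X // orderOf x = 2} = 3) (α : MulAut X) (hα : α ^ 3 = 1)
    (hE : ∀ x : X, x * x = 1 → α x = x) (δ : MulAut X) (hδ : ∀ x : X, x * x = 1 → x ≠ 1 → δ x ≠ x) :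
    α = 1 := by
  classical
  haveI : Fact (Nat.Prime 2) := ⟨Nat.prime_two⟩
  have hord : (orderOf α).Coprime 2 :=
    Nat.Coprime.coprime_dvd_left (orderOf_dvd_of_pow_eq_one hα) (by norm_num)
  have hdiv : ∀ y : X, α (y⁻¹ * α y) = y⁻¹ * α y → α y = y := fun _ h =>
    CfsgLib.PGroups.InvariantCritical.eq_of_fixed_div h2 hord h
  obtain ⟨t, htinj, ht, hχ⟩ := four_group h2 h3
  -- a critical subgroup
  obtain ⟨C, hCc, hCΦ, hCcomm, hCC⟩ := CfsgLib.PGroups.exists_critical h2
  have hCmem : ∀ (a : MulAut X) {x : X}, x ∈ C → a x ∈ C := fun a x hx =>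
    (Subgroup.characteristic_iff_map_le.mp hCc a) ⟨x, hx, rfl⟩
  have hsq : ∀ x ∈ C, ∀ y ∈ C, Commute (x * x) y := fun x hx y hy => by
    have h := hCΦ ⟨⟨x, hx⟩ * ⟨x, hx⟩, S4401.squares_le_frattini (h2.to_subgroup C) _, rfl⟩
    exact (Subgroup.mem_centralizer_iff.1 h y hy).symm
  have hcm : ∀ x ∈ C, ∀ y ∈ C, x * y * x⁻¹ * y⁻¹ ∈ C ∧ ∀ w ∈ C, Commute (x * y * x⁻¹ * y⁻¹) w :=
    fun x hx y hy => by
      obtain ⟨h4, h5⟩ := hCcomm (Subgroup.commutator_mem_commutator hx (Subgroup.mem_top y))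
      exact ⟨h4, fun w hw => (Subgroup.mem_centralizer_iff.1 h5 w hw).symm⟩
  have hc2 : ∀ x ∈ C, ∀ y ∈ C, (x * y * x⁻¹ * y⁻¹) * (x * y * x⁻¹ * y⁻¹) = 1 := by
    intro x hx y hy
    set c := x * y * x⁻¹ * y⁻¹ with hc
    have hxy : x * y = c * (y * x) := by rw [hc]; group
    have hcx : x * c = c * x := ((hcm x hx y hy).2 x hx).eq.symm
    have h : (x * x) * y = (c * c) * (y * (x * x)) := by
      calc (x * x) * y = x * (x * y) := mul_assoc _ _ _
        _ = x * (c * (y * x)) := by rw [hxy]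
        _ = (x * c) * y * x := by simp only [mul_assoc]
        _ = c * (x * y) * x := by rw [hcx]; simp only [mul_assoc]
        _ = c * (c * (y * x)) * x := by rw [hxy]
        _ = (c * c) * (y * (x * x)) := by simp only [mul_assoc]
    rw [(hsq x hx y hy).eq] at h
    exact mul_eq_right.1 h.symm
  -- the centre is fixed
  have hZ : ∀ m, ∀ y ∈ C, (∀ w ∈ C, Commute y w) → y ^ 2 ^ m = 1 → α y = y := by
    intro m
    induction m with
    | zero => intro y _ _ h; simp only [pow_zero, pow_one] at h; subst h; exact map_one _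
    | succ m ih =>
      intro y hy hc hpow
      refine hdiv y (hE _ ?_)
      have hc' : Commute y⁻¹ (α y) := (hc _ (hCmem α hy)).inv_left
      have h2y : α (y * y) = y * y := ih _ (C.mul_mem hy hy) (fun w hw => (hc w hw).mul_left (hc w hw))
        (by rw [← pow_two, ← pow_mul, ← pow_succ']; exact hpow)
      rw [map_mul] at h2y
      calc y⁻¹ * α y * (y⁻¹ * α y) = y⁻¹ * (α y * y⁻¹) * α y := by simp only [mul_assoc]
        _ = y⁻¹ * y⁻¹ * (α y * α y) := by rw [← hc'.eq]; simp only [mul_assoc]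
        _ = 1 := by rw [h2y]; group
  have hZ' : ∀ y ∈ C, (∀ w ∈ C, Commute y w) → α y = y := fun y hy hc => by
    obtain ⟨m, hm⟩ := h2 y
    exact hZ m y hy hc hm
  have hsqfix : ∀ x ∈ C, α (x * x) = x * x := fun x hx =>
    hZ' _ (C.mul_mem hx hx) (fun w hw => hsq x hx w hw)
  -- squaring a product
  have hmulsq : ∀ x ∈ C, ∀ y ∈ C, (x * y) * (x * y) = (x * x) * (y * y) * (y * x * y⁻¹ * x⁻¹) := by
    intro x hx y hy
    obtain ⟨c, hc⟩ : ∃ c, c = y * x * y⁻¹ * x⁻¹ := ⟨_, rfl⟩
    rw [← hc]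
    have hyx : y * x = c * (x * y) := by rw [hc]; group
    have hcc := (hcm y hy x hx).2
    rw [← hc] at hcc
    calc (x * y) * (x * y) = x * (y * x) * y := by simp only [mul_assoc]
      _ = (x * c) * x * (y * y) := by rw [hyx]; simp only [mul_assoc]
      _ = c * (x * x * (y * y)) := by rw [← (hcc x hx).eq]; simp only [mul_assoc]
      _ = _ := (hcc _ (C.mul_mem (C.mul_mem hx hx) (C.mul_mem hy hy))).eq
  have hfour : ∀ x ∈ C, ∀ y ∈ C, (x * y) * (x * y) * ((x * y) * (x * y)) =
      (x * x * (x * x)) * (y * y * (y * y)) := by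
    intro x hx y hy
    rw [hmulsq x hx y hy]
    set c := y * x * y⁻¹ * x⁻¹
    have hcc := (hcm y hy x hx).2
    have e1 : Commute c (x * x * (y * y)) := hcc _ (C.mul_mem (C.mul_mem hx hx) (C.mul_mem hy hy))
    have e2 : Commute (x * x) (y * y) := hsq x hx _ (C.mul_mem hy hy)
    rw [e1.mul_mul_mul_comm, hc2 y hy x hx, mul_one, e2.symm.mul_mul_mul_comm]
  -- elements of order at most four centralising the involutions of `C`
  let D : Subgroup X :=
    { carrier := {x | x ∈ C ∧ x * x * (x * x) = 1 ∧ ∀ e ∈ C, e * e = 1 → Commute x e}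
      one_mem' := ⟨C.one_mem, by simp, fun e _ _ => Commute.one_left e⟩
      mul_mem' := fun {x y} hx hy => ⟨C.mul_mem hx.1 hy.1, by
        rw [hfour x hx.1 y hy.1, hx.2.1, hy.2.1, one_mul], fun e he he' => (hx.2.2 e he he').mul_left (hy.2.2 e he he')⟩
      inv_mem' := fun {x} hx => ⟨C.inv_mem hx.1, by
        rw [← mul_inv_rev, ← mul_inv_rev, hx.2.1, inv_one], fun e he he' => (hx.2.2 e he he').inv_left⟩ }
  have hDmem : ∀ (a : MulAut X) {x : X}, x ∈ D → a x ∈ D := fun a x hx =>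
    ⟨hCmem a hx.1, by rw [← map_mul, ← map_mul, hx.2.1, map_one], fun e he he' => by
      have h := (hx.2.2 (a⁻¹ e) (hCmem _ he) (by rw [← map_mul, he', map_one])).map a
      simpa using h⟩
  -- it is enough that `D` is fixed
  suffices hD : ∀ x ∈ D, α x = x by
    have hC4 : ∀ x ∈ C, x * x * (x * x) = 1 → α x = x := by
      intro x hx hx4
      refine hdiv x (hD _ ⟨C.mul_mem (C.inv_mem hx) (hCmem α hx), ?_, ?_⟩)
      · rw [hfour _ (C.inv_mem hx) _ (hCmem α hx), ← map_mul, ← map_mul, hx4, map_one, mul_one,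
          ← mul_inv_rev, ← mul_inv_rev, hx4, inv_one]
      · intro e he he'
        have h1 := hcm x hx e he
        have h4 := hZ' _ h1.1 h1.2
        rw [map_mul, map_mul, map_mul, map_inv, map_inv, hE e he'] at h4
        have h5 : α x * e * (α x)⁻¹ = x * e * x⁻¹ := mul_right_cancel h4
        show x⁻¹ * α x * e = e * (x⁻¹ * α x)
        rw [mul_inv_eq_iff_eq_mul] at h5
        rw [mul_assoc, h5]; group
    have hCfix : ∀ x ∈ C, α x = x := by
      intro x hx
      refine hdiv x (hC4 _ (C.mul_mem (C.inv_mem hx) (hCmem α hx)) ?_)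
      rw [hfour _ (C.inv_mem hx) _ (hCmem α hx), ← map_mul, ← map_mul, map_mul, hsqfix x hx]
      group
    ext x
    haveI : C.Normal := inferInstance
    refine hdiv x (hCfix _ (hCC ?_))
    rw [Subgroup.mem_centralizer_iff]
    intro c hc
    have h4 := hCfix _ (Subgroup.Normal.conj_mem inferInstance c hc x)
    rw [map_mul, map_mul, map_inv, hCfix c hc] at h4
    calc c * (x⁻¹ * α x) = x⁻¹ * (x * c * x⁻¹) * α x := by group
      _ = x⁻¹ * (α x * c * (α x)⁻¹) * α x := by rw [h4]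
      _ = _ := by group
  -- the quotient of `D` by its involutions
  let F : Subgroup D :=
    { carrier := {x | (x : X) * x = 1}
      one_mem' := by simp
      mul_mem' := fun {x y} (hx : (x : X) * x = 1) (hy : (y : X) * y = 1) => by
        show ((x : X) * y) * (x * y) = 1
        rw [(x.2.2.2 y y.2.1 hy).symm.mul_mul_mul_comm, hx, hy, one_mul]
      inv_mem' := fun {x} (hx : (x : X) * x = 1) => by
        show (x : X)⁻¹ * (x : X)⁻¹ = 1
        rw [← mul_inv_rev, hx, inv_one] }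
  haveI hFn : F.Normal := ⟨fun x (hx : (x : X) * x = 1) y => by
    show ((y : X) * x * (y : X)⁻¹) * (y * x * (y : X)⁻¹) = 1
    rw [(y.2.2.2 x x.2.1 hx).eq, mul_inv_cancel_right, hx]⟩
  have hexp : ∀ v : D ⧸ F, v * v = 1 := fun v => QuotientGroup.induction_on v fun x => by
    rw [← QuotientGroup.mk_mul, QuotientGroup.eq_one_iff]
    exact x.2.2.1
  letI : CommGroup (D ⧸ F) :=
    { (inferInstance : Group (D ⧸ F)) with
      mul_comm := fun v w => by
        have hi : ∀ u : D ⧸ F, u⁻¹ = u := fun u => inv_eq_of_mul_eq_one_right (hexp u)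
        rw [← hi (v * w), mul_inv_rev, hi, hi] }
  let sq : D ⧸ F → X := Quotient.lift (fun x : D => (x : X) * x) fun x y (h : (QuotientGroup.leftRel F) x y) => by
    rw [QuotientGroup.leftRel_apply] at h
    obtain ⟨f, hf, rfl⟩ : ∃ f ∈ F, y = x * f := ⟨x⁻¹ * y, h, by group⟩
    show (x : X) * x = ((x : X) * f) * (x * f)
    rw [(x.2.2.2 f f.2.1 hf).symm.mul_mul_mul_comm, show (f : X) * f = 1 from hf, mul_one]
  have hsq_mk : ∀ x : D, sq (x : D ⧸ F) = (x : X) * x := fun x => rfl
  have hsq1 : ∀ v, sq v * sq v = 1 := fun v => QuotientGroup.induction_on v fun x => x.2.2.1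
  have hsqeq : ∀ v, sq v = 1 ↔ v = 1 := fun v => QuotientGroup.induction_on v fun x => by
    rw [hsq_mk, QuotientGroup.eq_one_iff]; rfl
  -- labels
  let lab : X → Fin 4 := fun x => if x = t 0 then 0 else if x = t 1 then 1 else if x = t 2 then 2 else 3
  have hlab : ∀ i : Fin 3, lab (t i) = i.castSucc := by
    intro i; fin_cases i <;> simp [lab, htinj.eq_iff]
  have hlab1 : ∀ x, x * x = 1 → (lab x = 3 ↔ x = 1) := by
    intro x hx
    rcases (ht x).1 hx with rfl | ⟨i, rfl⟩
    · have hne : ∀ i, (1 : X) ≠ t i := fun i h => by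
        obtain ⟨χ, h1', h2', h3', -⟩ := hχ i
        obtain ⟨j, hj⟩ : ∃ j, j ≠ i := exists_ne i
        obtain ⟨χ', h1'', -, h3'', -⟩ := hχ j
        have := h3'' i hj.symm
        rw [← h, h1''] at this
        exact absurd this (by norm_num)
      simp [lab, hne]
    · rw [hlab]
      refine iff_of_false (Fin.castSucc_lt_last i).ne fun h => ?_
      obtain ⟨j, hj⟩ : ∃ j, j ≠ i := exists_ne i
      obtain ⟨χ, h1', -, h3', -⟩ := hχ j
      have := h3' i hj.symm
      rw [h, h1'] at this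
      exact absurd this (by norm_num)
  let ψ : MulAut X →* MulAut (D ⧸ F) :=
    MonoidHom.mk' (fun a =>
      QuotientGroup.congr F F
        { toFun := fun x => ⟨a x, hDmem a x.2⟩
          invFun := fun x => ⟨a⁻¹ x, hDmem _ x.2⟩
          left_inv := fun x => Subtype.ext (by simp)
          right_inv := fun x => Subtype.ext (by simp)
          map_mul' := fun x y => Subtype.ext (map_mul _ _ _) }
        (by
          ext x
          constructor
          · rintro ⟨y, hy, rfl⟩
            show a (y : X) * a (y : X) = 1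
            rw [← map_mul, show (y : X) * y = 1 from hy, map_one]
          · intro hx
            refine ⟨⟨a⁻¹ x, hDmem _ x.2⟩, ?_, Subtype.ext (by simp)⟩
            show a⁻¹ (x : X) * a⁻¹ (x : X) = 1
            rw [← map_mul, show (x : X) * x = 1 from hx, map_one]))
      (fun a b => MulEquiv.ext fun v => QuotientGroup.induction_on v fun x => rfl)
  have hψsq : ∀ a v, sq (ψ a v) = a (sq v) := fun a v => QuotientGroup.induction_on v fun x =>
    (map_mul a (x : X) x).symm
  suffices htriv : ∀ v, ψ α v = v by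
    intro x hx
    refine hdiv x (hE _ ?_)
    have h := htriv ((⟨x, hx⟩ : D) : D ⧸ F)
    exact (QuotientGroup.eq.1 h.symm : ((⟨x, hx⟩ : D)⁻¹ * ⟨α x, hDmem α hx⟩) ∈ F)
  have ht2 : ∀ i, t i * t i = 1 := fun i => (ht _).2 (Or.inr ⟨i, rfl⟩)
  have htne : ∀ i, t i ≠ 1 := fun i h => (Fin.castSucc_lt_last i).ne
    ((hlab i).symm.trans ((hlab1 _ (ht2 i)).2 h))
  have himg : ∀ i, ∃ j, δ (t i) = t j := fun i =>
    ((ht _).1 (show δ (t i) * δ (t i) = 1 by rw [← map_mul, ht2, map_one])).resolve_left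
      fun h => htne i ((MulEquiv.map_eq_one_iff δ).1 h)
  choose σ hσ using himg
  refine quad_fixed (ψ α) (by rw [← map_pow, hα, map_one]) (fun v => by rw [pow_two]; exact hexp v)
    (fun v => lab (sq v)) (fun v => by rw [hψsq, hE _ (hsq1 v)])
    (fun v => by rw [hlab1 _ (hsq1 v), hsqeq]) (fun i => ?_) (ψ δ) σ
    (fun i h => hδ _ (ht2 i) (htne i) (by rw [hσ, h]))
    (fun i j h => htinj (δ.injective (by rw [hσ, hσ, h]))) (fun i v hv => ?_)
  swap
  · show lab (sq (ψ δ v)) = (σ i).castSucc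
    change lab (sq v) = i.castSucc at hv
    rcases (ht _).1 (hsq1 v) with h | ⟨k, hk⟩
    · exact absurd ((hlab1 _ (hsq1 v)).2 h) (hv ▸ (Fin.castSucc_lt_last i).ne)
    · rw [hk, hlab] at hv
      rw [hψsq, hk, Fin.castSucc_injective _ hv, hσ, hlab]
  obtain ⟨χ, hχ1, hχi, hχn, hχm⟩ := hχ i
  have hval : ∀ x, x * x = 1 → (if lab x = 3 ∨ lab x = i.castSucc then (1 : ℤ) else -1) = χ x := by
    intro x hx
    rcases (ht x).1 hx with rfl | ⟨k, rfl⟩
    · rw [hχ1, if_pos (Or.inl ((hlab1 1 hx).2 rfl))]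
    · rw [hlab]
      rcases eq_or_ne k i with rfl | hk
      · rw [hχi, if_pos (Or.inr rfl)]
      · rw [hχn k hk, if_neg]
        rintro (h | h)
        · exact (Fin.castSucc_lt_last k).ne h
        · exact hk (Fin.castSucc_injective _ h)
  have hmul : ∀ v w, sq v * sq w * sq (v * w) * (sq v * sq w * sq (v * w)) = 1 ∧
      ∀ x y : D, v = (x : D ⧸ F) → w = (y : D ⧸ F) →
        sq v * sq w * sq (v * w) = (y : X) * x * (y : X)⁻¹ * (x : X)⁻¹ := by
    intro v w
    obtain ⟨x, rfl⟩ := QuotientGroup.mk_surjective v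
    obtain ⟨y, rfl⟩ := QuotientGroup.mk_surjective w
    have key : ∀ x y : D, sq (x : D ⧸ F) * sq (y : D ⧸ F) * sq ((x : D ⧸ F) * (y : D ⧸ F)) =
        (y : X) * x * (y : X)⁻¹ * (x : X)⁻¹ := by
      intro x y
      show (x : X) * x * (y * y) * ((x * y) * (x * y)) = _
      rw [hmulsq x x.2.1 y y.2.1, ← mul_assoc,
        (hsq x x.2.1 _ (C.mul_mem y.2.1 y.2.1)).symm.mul_mul_mul_comm, x.2.2.1, y.2.2.1, one_mul, one_mul]
    refine ⟨?_, fun x' y' h h' => ?_⟩
    · rw [key]; exact hc2 y y.2.1 x x.2.1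
    · rw [h, h', key]
  have hχ2 : ∀ x, x * x = 1 → χ x * χ x = 1 := fun x hx => by rw [← hχm x x hx hx, hx, hχ1]
  refine ⟨fun v w => χ (sq v * sq w * sq (v * w)), fun v w => ?_, fun u v w => ?_, fun u v w => ?_, fun v w => ?_⟩
  · exact mul_self_eq_one_iff.1 (hχ2 _ (hmul v w).1)
  · obtain ⟨x, rfl⟩ := QuotientGroup.mk_surjective u
    obtain ⟨y, rfl⟩ := QuotientGroup.mk_surjective v
    obtain ⟨z, rfl⟩ := QuotientGroup.mk_surjective w
    show χ _ = χ _ * χ _
    rw [← QuotientGroup.mk_mul, (hmul _ _).2 (x * y) z rfl rfl, (hmul _ _).2 x z rfl rfl, (hmul _ _).2 y z rfl rfl,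
      ← hχm _ _ (hc2 z z.2.1 x x.2.1) (hc2 z z.2.1 y y.2.1)]
    congr 1
    have hc := (hcm z z.2.1 y y.2.1).2 x x.2.1
    show (z : X) * (x * y) * (z : X)⁻¹ * ((x : X) * y)⁻¹ = _
    calc (z : X) * (x * y) * (z : X)⁻¹ * ((x : X) * y)⁻¹
        = (z : X) * x * (z : X)⁻¹ * ((z : X) * y * (z : X)⁻¹ * (y : X)⁻¹) * (x : X)⁻¹ := by group
      _ = _ := by rw [mul_assoc, hc.inv_right.eq, ← mul_assoc]
  · obtain ⟨x, rfl⟩ := QuotientGroup.mk_surjective u
    obtain ⟨y, rfl⟩ := QuotientGroup.mk_surjective v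
    obtain ⟨z, rfl⟩ := QuotientGroup.mk_surjective w
    show χ _ = χ _ * χ _
    rw [← QuotientGroup.mk_mul, (hmul _ _).2 x (y * z) rfl rfl, (hmul _ _).2 x y rfl rfl, (hmul _ _).2 x z rfl rfl, mul_comm (χ _),
      ← hχm _ _ (hc2 z z.2.1 x x.2.1) (hc2 y y.2.1 x x.2.1)]
    congr 1
    have hc := (hcm z z.2.1 x x.2.1).2 _ y.2.1
    show (y : X) * z * x * ((y : X) * z)⁻¹ * (x : X)⁻¹ = _
    calc (y : X) * z * x * ((y : X) * z)⁻¹ * (x : X)⁻¹
        = (y : X) * ((z : X) * x * (z : X)⁻¹ * (x : X)⁻¹) * x * (y : X)⁻¹ * (x : X)⁻¹ := by group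
      _ = _ := by rw [← hc.eq]; simp only [mul_assoc]
  · beta_reduce
    rw [hval _ (hsq1 _), hval _ (hsq1 _), hval _ (hsq1 _),
      hχm _ _ (by
        obtain ⟨x, rfl⟩ := QuotientGroup.mk_surjective v
        obtain ⟨y, rfl⟩ := QuotientGroup.mk_surjective w
        rw [hsq_mk, hsq_mk, (hsq x x.2.1 _ (C.mul_mem y.2.1 y.2.1)).symm.mul_mul_mul_comm, x.2.2.1,
          y.2.2.1, one_mul]) (hsq1 _), hχm _ _ (hsq1 v) (hsq1 w)]
    have e1 := hχ2 _ (hsq1 v); have e2 := hχ2 _ (hsq1 w)
    linear_combination (-(χ (sq (v * w))) * (χ (sq w) * χ (sq w))) * e1 + (-(χ (sq (v * w)))) * e2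


theorem no_eight {G : Type u} [Group G] [Finite G]
    (hE : ¬ ∃ E : Subgroup G, Cfsg.IsElementaryAbelian 2 E ∧ Nat.card E = 8) {A : Subgroup G}
    (hA : Cfsg.IsElementaryAbelian 2 A) : Nat.card A ≤ 4 := by
  haveI : Fact (Nat.Prime 2) := ⟨Nat.prime_two⟩
  by_contra hc
  obtain ⟨n, hn⟩ := CfsgLib.Base.exists_card_eq_pow_of_isElementaryAbelian hA
  have h3 : 3 ≤ n := by
    by_contra h
    exact hc (hn ▸ Nat.pow_le_pow_right (n := 2) two_pos (show n ≤ 2 by omega))
  obtain ⟨K, hK⟩ := Sylow.exists_subgroup_card_pow_prime (G := A) 2 (n := 3) (hn ▸ pow_dvd_pow 2 h3)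
  exact hE ⟨K.map A.subtype, CfsgLib.Base.isElementaryAbelian_le (Subgroup.map_subtype_le K) hA,
    (CfsgLib.Base.card_map_subtype K).trans (by simpa using hK)⟩

/-- Let G be a finite group with C_G(O₂(G)) ≤ O₂(G) containing an element of order 6, and let d be a non-identity 3-element of G normalizing a nontrivial elementary abelian 2-subgroup W with C_W(d) = 1. Then G has an elementary abelian subgroup of order 8. -/
theorem result {G : Type*} [Group G] [Finite G] (hchar : Subgroup.centralizer (Cfsg.pCore 2 G : Set G) ≤ Cfsg.pCore 2 G) (hsix : ∃ g : G, orderOf g = 6) (d : G) (hd1 : d ≠ 1) (hd : IsPGroup 3 ↥(Subgroup.zpowers d)) (W : Subgroup G) (hW : Cfsg.IsElementaryAbelian 2 W) (hW1 : W ≠ ⊥) (hdW : d ∈ Subgroup.normalizer (W : Set G)) (hfpf : W ⊓ Subgroup.centralizer {d} = ⊥) : ∃ E : Subgroup G, Cfsg.IsElementaryAbelian 2 E ∧ Nat.card E = 8 := by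
  classical
  by_contra hno
  haveI : Fact (Nat.Prime 2) := ⟨Nat.prime_two⟩
  obtain ⟨hWc, hW2⟩ := CfsgLib.Base.isElementaryAbelian_iff.1 hW
  have hmove : ∀ w ∈ W, w ≠ 1 → d * w * d⁻¹ ≠ w := fun w hw hw1 h => hw1 (Subgroup.mem_bot.1 (hfpf ▸
    (⟨hw, Subgroup.mem_centralizer_singleton_iff.2 (mul_inv_eq_iff_eq_mul.1 h).symm⟩ :
      w ∈ W ⊓ Subgroup.centralizer {d})))
  -- `W` is a four-group containing each involution that centralises it
  have habs : ∀ i : G, i * i = 1 → (∀ w ∈ W, Commute i w) → Nat.card W = 4 → i ∈ W := by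
    intro i hi hc h4
    by_contra hiW
    have he := CfsgLib.Base.isElementaryAbelian_sup hW (CfsgLib.Base.isElementaryAbelian_zpowers
      (show i ^ 2 = 1 by rwa [pow_two])) (fun w hw => Subgroup.mem_centralizer_iff.2 fun y hy => by
        obtain ⟨k, rfl⟩ := Subgroup.mem_zpowers_iff.1 hy
        exact ((hc w hw).zpow_left k).eq)
    have h := no_eight hno he
    have := (Subgroup.eq_of_le_of_card_ge (le_sup_left : W ≤ W ⊔ Subgroup.zpowers i) (by omega))
    exact hiW (this ▸ Subgroup.mem_sup_right (Subgroup.mem_zpowers i))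
  have hW4 : Nat.card W = 4 := by
    obtain ⟨n, hn⟩ := CfsgLib.Base.exists_card_eq_pow_of_isElementaryAbelian hW
    have h4 := no_eight hno hW
    obtain ⟨w, hw, hw1⟩ := (Subgroup.bot_or_exists_ne_one W).resolve_left hW1
    rcases n with _ | _ | _ | n
    · exact absurd (Subgroup.card_eq_one.1 (by simpa using hn)) hW1
    · exfalso
      obtain ⟨u, hu, huniq⟩ := (Nat.card_eq_two_iff' (1 : W)).1 (by simpa using hn)
      have h1 := huniq ⟨w, hw⟩ (fun h => hw1 (congrArg Subtype.val h))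
      have h2 := huniq ⟨d * w * d⁻¹, (Subgroup.mem_normalizer_iff.1 hdW w).1 hw⟩
        (fun h => hw1 (conj_eq_one_iff.1 (congrArg Subtype.val h)))
      exact hmove w hw hw1 (congrArg Subtype.val (h2.trans h1.symm))
    · simpa using hn
    · rw [hn] at h4
      have : (2 : ℕ) ^ 3 ≤ 2 ^ (n + 1 + 1 + 1) := Nat.pow_le_pow_right two_pos (by omega)
      omega
  set O := Cfsg.pCore 2 G with hO
  have hOp : IsPGroup 2 O := CfsgLib.Base.isPGroup_pCore 2 G
  haveI hOn : O.Normal := by rw [hO]; infer_instance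
  have hdn : ∀ {w}, w ∈ W → d * w * d⁻¹ ∈ W := fun {w} hw => (Subgroup.mem_normalizer_iff.1 hdW w).1 hw
  -- the involutions of the centre of `O`
  let V : Subgroup G :=
    { carrier := {v | v ∈ O ∧ v * v = 1 ∧ ∀ o ∈ O, Commute v o}
      one_mem' := ⟨O.one_mem, one_mul 1, fun o _ => Commute.one_left o⟩
      mul_mem' := fun {x y} hx hy => ⟨O.mul_mem hx.1 hy.1, by
        rw [(hx.2.2 y hy.1).symm.mul_mul_mul_comm, hx.2.1, hy.2.1, one_mul],
        fun o ho => (hx.2.2 o ho).mul_left (hy.2.2 o ho)⟩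
      inv_mem' := fun {x} hx => ⟨O.inv_mem hx.1, by rw [← mul_inv_rev, hx.2.1, inv_one],
        fun o ho => (hx.2.2 o ho).inv_left⟩ }
  have hVn : V.Normal := ⟨fun v hv g => ⟨hOn.conj_mem v hv.1 g, by
      rw [show g * v * g⁻¹ * (g * v * g⁻¹) = g * (v * v) * g⁻¹ by group, hv.2.1]; group,
    fun o ho => by
      have h := (hv.2.2 _ (hOn.conj_mem o ho g⁻¹)).map (MulAut.conj g)
      simpa [mul_assoc] using h⟩⟩
  have hV1 : V ≠ ⊥ := by
    intro h
    haveI : Nontrivial O := by
      by_contra hn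
      have hbot : O = ⊥ := (Subgroup.eq_bot_iff_forall O).2 fun o ho => by_contra fun h =>
        hn ⟨⟨⟨o, ho⟩, 1, fun e => h (congrArg Subtype.val e)⟩⟩
      have hdC : (d : G) ∈ Subgroup.centralizer (O : Set G) := Subgroup.mem_centralizer_iff.2 fun o ho => by
        rw [hbot, SetLike.mem_coe, Subgroup.mem_bot] at ho
        subst ho; simp
      have h1 := hchar hdC
      rw [hbot, Subgroup.mem_bot] at h1
      exact hd1 h1
    haveI := hOp.center_nontrivial
    obtain ⟨k, hk⟩ := IsPGroup.iff_card.1 (hOp.to_subgroup (Subgroup.center O))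
    obtain ⟨z, hz⟩ := exists_prime_orderOf_dvd_card' (G := Subgroup.center O) 2 (by
      rw [hk]
      rcases k with _ | k
      · rw [pow_zero] at hk; exact absurd hk Finite.one_lt_card.ne'
      · exact dvd_pow_self 2 k.succ_ne_zero)
    rw [← Subgroup.orderOf_coe, ← Subgroup.orderOf_coe] at hz
    have hzV : ((z : O) : G) ∈ V := ⟨(z : O).2, S3117.invol_mul_self hz, fun o ho =>
      (congrArg Subtype.val (Subgroup.mem_center_iff.1 z.2 ⟨o, ho⟩)).symm⟩
    rw [h, Subgroup.mem_bot] at hzV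
    rw [hzV, orderOf_one] at hz
    exact absurd hz (by norm_num)
  obtain ⟨v, hvV, hv1, hvW⟩ : ∃ v ∈ V, v ≠ 1 ∧ ∀ w ∈ W, Commute v w := by
    let T : Subgroup G := W ⊔ O
    have hT : IsPGroup 2 T := (CfsgLib.Base.isPGroup_of_isElementaryAbelian hW).to_sup_of_normal_right hOp
    haveI : (V.subgroupOf T).Normal := hVn.comap _
    have hne := CfsgLib.PGroups.inf_center_ne_bot hT (N := V.subgroupOf T) (fun h => by
      rw [Subgroup.subgroupOf_eq_bot] at h
      exact hV1 (h.eq_bot_of_le fun x hx => Subgroup.mem_sup_right hx.1))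
    obtain ⟨x, hx, hx1⟩ := (Subgroup.bot_or_exists_ne_one _).resolve_left hne
    obtain ⟨hxV, hxc⟩ := Subgroup.mem_inf.1 hx
    exact ⟨x, hxV, fun h => hx1 (Subtype.ext h), fun w hw =>
      (congrArg Subtype.val (Subgroup.mem_center_iff.1 hxc ⟨w, Subgroup.mem_sup_left hw⟩)).symm⟩
  have hvmem : v ∈ W := habs v hvV.2.1 hvW hW4
  have hWV : W ≤ V := by
    have hm : d * v * d⁻¹ ≠ v := hmove v hvmem hv1
    have hle3 : 3 ≤ Nat.card ↥(W ⊓ V) := by
      haveI : Fintype ↥(W ⊓ V) := Fintype.ofFinite _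
      rw [Nat.card_eq_fintype_card]
      let a : ↥(W ⊓ V) := ⟨v, hvmem, hvV⟩
      let b : ↥(W ⊓ V) := ⟨d * v * d⁻¹, hdn hvmem, hVn.conj_mem v hvV d⟩
      have : ({1, a, b} : Finset ↥(W ⊓ V)).card = 3 := by
        rw [Finset.card_eq_three]
        exact ⟨1, a, b, fun h => hv1 (congrArg Subtype.val h).symm,
          fun h => hv1 (conj_eq_one_iff.1 (congrArg Subtype.val h).symm), fun h => hm (congrArg Subtype.val h).symm, rfl⟩
      exact this ▸ Finset.card_le_univ _
    have hd4 : Nat.card ↥(W ⊓ V) ∣ 4 := hW4 ▸ Subgroup.card_dvd_of_le inf_le_left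
    have h4 : 4 ≤ Nat.card ↥(W ⊓ V) := by
      rcases (Nat.le_of_dvd (by norm_num) hd4).lt_or_eq with h | h
      · obtain ⟨k, hk⟩ := hd4
        have h3 : Nat.card ↥(W ⊓ V) = 3 := by omega
        rw [h3] at hk
        omega
      · omega
    exact (Subgroup.eq_of_le_of_card_ge inf_le_left (hW4.le.trans h4)).ge.trans inf_le_right
  have hVW : V = W := le_antisymm (fun x hx => habs x hx.2.1 (fun w hw => hx.2.2 w (hWV hw).1) hW4) hWV
  haveI hWn : W.Normal := hVW ▸ hVn
  have hinvO : ∀ o ∈ O, o * o = 1 → o ∈ W := fun o ho h =>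
    habs o h (fun w hw => ((hWV hw).2.2 o ho).symm) hW4
  have h3O : Nat.card {o : O // orderOf o = 2} = 3 := by
    let e : {o : O // orderOf o = 2} ≃ {w : W // w ≠ 1} :=
      { toFun := fun o => ⟨⟨(o.1 : G), hinvO _ o.1.2 (congrArg Subtype.val (S3117.invol_mul_self o.2))⟩, fun h => by
          have h2 := o.2
          rw [show o.1 = 1 from Subtype.ext (congrArg Subtype.val h :), orderOf_one] at h2
          omega⟩
        invFun := fun w => ⟨⟨(w.1 : G), (hWV w.1.2).1⟩, S3117.orderOf_two (Subtype.ext (hWV w.1.2).2.1)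
          (fun h => w.2 (Subtype.ext (congrArg Subtype.val h :)))⟩
        left_inv := fun o => rfl
        right_inv := fun w => rfl }
    haveI : Fintype W := Fintype.ofFinite _
    rw [Nat.card_congr e, Nat.card_eq_fintype_card, Fintype.card_subtype_compl, Fintype.card_subtype_eq,
      ← Nat.card_eq_fintype_card, hW4]
  -- an element of order six
  obtain ⟨e, he⟩ := hsix
  set x := e ^ 2 with hx
  set t := e ^ 3 with ht
  have hxo : orderOf x = 3 := by rw [hx, orderOf_pow, he]; norm_num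
  have hto : t * t = 1 := by
    rw [ht, ← pow_add, show 3 + 3 = orderOf e by omega]; exact pow_orderOf_eq_one e
  have ht1 : t ≠ 1 := fun h => by
    have h' : orderOf t = 2 := by rw [ht, orderOf_pow, he]; norm_num
    rw [h, orderOf_one] at h'
    omega
  have hx3 : x ^ 3 = 1 := by rw [← hxo]; exact pow_orderOf_eq_one x
  have hxt : Commute x t := (Commute.refl e).pow_pow 2 3
  -- some point of `W` is fixed by `x`
  obtain ⟨w₀, hw₀, hw₀1, hxw₀, hdesc⟩ : ∃ w₀ ∈ W, w₀ ≠ 1 ∧ Commute x w₀ ∧ True := by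
    by_cases htc : ∀ w ∈ W, Commute t w
    · exact ⟨t, habs t hto htc hW4, ht1, hxt, trivial⟩
    push Not at htc
    obtain ⟨u, hu, hut⟩ := htc
    have hu2 : u * u = 1 := by rw [← pow_two]; exact hW2 u hu
    have htu : t * u * t⁻¹ ∈ W := hWn.conj_mem u hu t
    have hti : t⁻¹ = t := inv_eq_of_mul_eq_one_right hto
    -- `u · u^t` is the fixed point
    set w₀ := u * (t * u * t⁻¹) with hw₀def
    have hw₀ : w₀ ∈ W := W.mul_mem hu htu
    have hw₀1 : w₀ ≠ 1 := fun h => hut (mul_inv_eq_iff_eq_mul.1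
      ((eq_inv_of_mul_eq_one_right h).trans (inv_eq_of_mul_eq_one_right hu2)))
    have htw₀ : Commute t w₀ := by
      refine mul_inv_eq_iff_eq_mul.1 ?_
      rw [hw₀def, show t * (u * (t * u * t⁻¹)) * t⁻¹ = (t * u * t⁻¹) * ((t * t) * u * (t * t)⁻¹) by group,
        hto, one_mul, inv_one, mul_one, hWc _ htu _ hu]
    refine ⟨w₀, hw₀, hw₀1, ?_, trivial⟩
    refine mul_inv_eq_iff_eq_mul.1 ?_
    by_contra hne
    have hw' : x * w₀ * x⁻¹ ∈ W := hWn.conj_mem w₀ hw₀ x
    have htw' : Commute t (x * w₀ * x⁻¹) := (hxt.symm.mul_right htw₀).mul_right hxt.symm.inv_right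
    -- then `t` centralises all of `W`
    haveI : Fintype W := Fintype.ofFinite _
    let S : Subgroup W := (Subgroup.centralizer {t}).subgroupOf W
    have hS : 3 ≤ Nat.card S := by
      haveI : Fintype S := Fintype.ofFinite _
      rw [Nat.card_eq_fintype_card]
      let a : S := ⟨⟨w₀, hw₀⟩, Subgroup.mem_centralizer_singleton_iff.2 htw₀.eq.symm⟩
      let b : S := ⟨⟨x * w₀ * x⁻¹, hw'⟩, Subgroup.mem_centralizer_singleton_iff.2 htw'.eq.symm⟩
      have : ({1, a, b} : Finset S).card = 3 := by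
        rw [Finset.card_eq_three]
        exact ⟨1, a, b, fun h => hw₀1 (congrArg (fun s : S => ((s : W) : G)) h).symm,
          fun h => hw₀1 (conj_eq_one_iff.1 (congrArg (fun s : S => ((s : W) : G)) h).symm),
          fun h => hne (congrArg (fun s : S => ((s : W) : G)) h).symm, rfl⟩
      exact this ▸ Finset.card_le_univ _
    have hd4 : Nat.card S ∣ 4 := hW4 ▸ Subgroup.card_subgroup_dvd_card S
    have hS4 : S = ⊤ := by
      refine Subgroup.eq_top_of_card_eq _ ?_
      rw [hW4]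
      obtain ⟨k, hk⟩ := hd4
      rcases k with _ | _ | k
      · omega
      · omega
      · nlinarith
    have : (⟨u, hu⟩ : W) ∈ S := hS4 ▸ Subgroup.mem_top _
    exact hut (Subgroup.mem_centralizer_singleton_iff.1 this).symm
  have hxW : ∀ w ∈ W, Commute x w := by
    intro w hw
    refine mul_inv_eq_iff_eq_mul.1 ?_
    by_contra hne
    have hw1 : w ≠ 1 := fun h => hne (by subst h; group)
    have hwne : w ≠ w₀ := fun h => hne (by subst h; rw [mul_inv_eq_iff_eq_mul]; exact hxw₀)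
    have hfix₀ : x * w₀ * x⁻¹ = w₀ := mul_inv_eq_iff_eq_mul.2 hxw₀
    have h3' : x * (x * (x * w * x⁻¹) * x⁻¹) * x⁻¹ = w := by
      rw [show x * (x * (x * w * x⁻¹) * x⁻¹) * x⁻¹ = x ^ 3 * w * (x ^ 3)⁻¹ by simp [pow_succ, mul_assoc], hx3]; group
    -- the only other point is `w w₀`
    have hfour : ∀ y ∈ W, y = 1 ∨ y = w₀ ∨ y = w ∨ y = w * w₀ := by
      intro y hy
      by_contra hc
      push Not at hc
      haveI : Fintype W := Fintype.ofFinite _
      have h5 : ({1, ⟨w₀, hw₀⟩, ⟨w, hw⟩, ⟨w * w₀, W.mul_mem hw hw₀⟩, ⟨y, hy⟩} : Finset W).card = 5 := by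
        have e1 : w * w₀ ≠ 1 := fun h => hwne (by
          rw [eq_inv_of_mul_eq_one_left h, inv_eq_of_mul_eq_one_right (by rw [← pow_two]; exact hW2 _ hw₀)])
        have e2 : w * w₀ ≠ w₀ := fun h => hw1 (mul_eq_right.1 h)
        have e3 : w * w₀ ≠ w := fun h => hw₀1 (mul_eq_left.1 h)
        simp [Subtype.ext_iff, hw₀1.symm, hw1.symm, hwne.symm, e1.symm, e2.symm, e3.symm, hc.1.symm,
          hc.2.1.symm, hc.2.2.1.symm, hc.2.2.2.symm]
      have := Finset.card_le_univ ({1, ⟨w₀, hw₀⟩, ⟨w, hw⟩, ⟨w * w₀, W.mul_mem hw hw₀⟩, ⟨y, hy⟩} : Finset W)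
      rw [h5, ← Nat.card_eq_fintype_card, hW4] at this
      omega
    rcases hfour _ (hWn.conj_mem w hw x) with h | h | h | h
    · exact hw1 (conj_eq_one_iff.1 h)
    · exact hwne (mul_left_cancel (mul_right_cancel (h.trans hfix₀.symm)))
    · exact hne h
    · have h' : x * (w * w₀) * x⁻¹ = w := by
        rw [show x * (w * w₀) * x⁻¹ = (x * w * x⁻¹) * (x * w₀ * x⁻¹) by group, h, hfix₀, mul_assoc,
          show w₀ * w₀ = 1 by rw [← pow_two]; exact hW2 _ hw₀, mul_one]
      rw [h, h'] at h3'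
      exact hne h3'
  let α : MulAut O := MulAut.conjNormal x
  have hα : α ^ 3 = 1 := by rw [← map_pow, hx3, map_one]
  have hα1 := auto_eq_one hOp h3O α hα
    (fun o ho => Subtype.ext (by
      show x * (o : G) * x⁻¹ = o
      exact mul_inv_eq_iff_eq_mul.2 (hxW _ (hinvO _ o.2 (congrArg Subtype.val ho)))))
    (MulAut.conjNormal d) (fun o ho ho1 h => hmove (o : G) (hinvO _ o.2 (congrArg Subtype.val ho))
      (fun h' => ho1 (Subtype.ext h')) (congrArg Subtype.val h))
  have hxC : x ∈ Subgroup.centralizer (O : Set G) := Subgroup.mem_centralizer_iff.2 fun o ho => by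
    have h := congrArg (fun f : MulAut O => ((f ⟨o, ho⟩ : O) : G)) hα1
    exact (mul_inv_eq_iff_eq_mul.1 h).symm
  obtain ⟨k, hk⟩ := hOp ⟨x, hchar hxC⟩
  have hdvd : 3 ∣ 2 ^ k := hxo ▸ orderOf_dvd_of_pow_eq_one (by simpa using congrArg Subtype.val hk)
  have := Nat.prime_three.dvd_of_dvd_pow hdvd
  omega

end Cfsg.Agent.S3739
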