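import Cfsg.Statements.S3741
import Cfsg.Agent.Lib.PGroups.Extraspecial
open scoped commutatorElement

set_option autoImplicit false
open Cfsg

namespace Cfsg.Agent.S3741

/-- Let A and B be subgroups of a finite p-group with [A, B] ≤ A ∩ B and [A, B] of order at most p. Then |A : C_A(B)| = |B : C_B(A)|. -/
theorem result {G : Type*} [Group G] [Finite G] {p : ℕ} [Fact p.Prime] (hG : IsPGroup p G) (A B : Subgroup G) (hAB : ⁅A, B⁆ ≤ A ⊓ B) (hcard : Nat.card ↥⁅A, B⁆ ≤ p) : (A ⊓ Subgroup.centralizer (B : Set G)).relIndex A = (B ⊓ Subgroup.centralizer (A : Set G)).relIndex B := by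
  have hp : p.Prime := Fact.out
  set C := ⁅A, B⁆ with hCdef
  have hcentral : ∀ (A B : Subgroup G), ⁅A, B⁆ = C → ∀ a ∈ A, ∀ c ∈ C, a * c = c * a := by
    intro A B hC a ha c hc
    -- C has order at most p and is normalized by A and B, hence centralized by both
    let H := A ⊔ B
    have hAn : H ≤ Subgroup.normalizer (C : Set G) := hC ▸
      sup_le (Subgroup.normalizer_commutator_ge_left A B) (Subgroup.normalizer_commutator_ge_right A B)
    haveI : (C.subgroupOf H).Normal := Subgroup.normal_subgroupOf_of_le_normalizer hAn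
    have hCH : C ≤ H := hC ▸ Subgroup.commutator_le_sup A B
    rcases eq_or_ne (C.subgroupOf H) ⊥ with hb | hne 
    · have : (⟨c, hCH hc⟩ : H) ∈ C.subgroupOf H := hc
      rw [hb, Subgroup.mem_bot] at this
      have hc1 : c = 1 := congrArg Subtype.val this
      simp [hc1]
    · have hlt := CfsgLib.PGroups.commutator_top_lt (hG.to_subgroup H) hne
      have hb : ⁅C.subgroupOf H, (⊤ : Subgroup H)⁆ = ⊥ := by
        rw [← Subgroup.card_eq_one]
        obtain ⟨e, he⟩ := CfsgLib.PGroups.card_subgroup_eq_pow (hG.to_subgroup H) (C.subgroupOf H)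
        obtain ⟨e', he'⟩ := CfsgLib.PGroups.card_subgroup_eq_pow (hG.to_subgroup H) (⁅C.subgroupOf H, (⊤ : Subgroup H)⁆ : Subgroup H)
        have h1 : Nat.card ↥⁅C.subgroupOf H, (⊤ : Subgroup H)⁆ < Nat.card (C.subgroupOf H) :=
          lt_of_le_of_ne (Subgroup.card_le_of_le hlt.le)
            (fun h => hlt.ne (Subgroup.eq_of_le_of_card_ge hlt.le h.ge))
        have h2 : Nat.card (C.subgroupOf H) ≤ p ^ 1 := by
          rw [pow_one, Nat.card_congr (Subgroup.subgroupOfEquivOfLe hCH).toEquiv]; exact hcard
        rw [he, he'] at h1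
        rw [he] at h2
        have := (Nat.pow_lt_pow_iff_right hp.one_lt).mp h1
        have := (Nat.pow_le_pow_iff_right hp.one_lt).mp h2
        rw [he', show e' = 0 by omega, pow_zero]
      have h3 := Subgroup.mem_center_iff.mp (Subgroup.commutator_top_right_eq_bot_iff_le_center.mp hb
        (show (⟨c, hCH hc⟩ : H) ∈ C.subgroupOf H from hc)) ⟨a, le_sup_left (b := B) ha⟩
      exact congrArg Subtype.val h3
  have main : ∀ (A B : Subgroup G), ⁅A, B⁆ = C →
      (A ⊓ Subgroup.centralizer (B : Set G)).relIndex A ≤ (B ⊓ Subgroup.centralizer (A : Set G)).relIndex B := by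
    intro A B hC
    have step : ∀ (d : ℕ) (K : Subgroup G), K ≤ B → K.relIndex B = d →
        (A ⊓ Subgroup.centralizer (B : Set G)).relIndex (A ⊓ Subgroup.centralizer (K : Set G)) ≤ d := by
      intro d
      induction d using Nat.strong_induction_on with
      | _ d ih =>
      intro K hKB hd
      by_cases h : B ≤ K
      · rw [← hd, le_antisymm hKB h, Subgroup.relIndex_self, Subgroup.relIndex_self]
      obtain ⟨x, hxB, hxK⟩ := SetLike.not_le_iff_exists.mp h
      have hK'B : K ⊔ Subgroup.zpowers x ≤ B := sup_le hKB (Subgroup.zpowers_le.mpr hxB)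
      have hmul := Subgroup.relIndex_mul_relIndex K (K ⊔ Subgroup.zpowers x) B le_sup_left hK'B
      obtain ⟨e, he⟩ := (hG.to_subgroup (K ⊔ Subgroup.zpowers x)).index (K.subgroupOf (K ⊔ Subgroup.zpowers x))
      have he' : K.relIndex (K ⊔ Subgroup.zpowers x) = p ^ e := he
      have hge : p ≤ p ^ e := by
        rcases e with _ | e
        · exact absurd (Subgroup.relIndex_eq_one.mp (he'.trans (pow_zero p))
            (le_sup_right (a := K) (Subgroup.mem_zpowers x))) hxK
        · exact Nat.le_self_pow (Nat.succ_ne_zero e) p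
      have hpos : 0 < (K ⊔ Subgroup.zpowers x).relIndex B := Nat.pos_of_ne_zero Subgroup.FiniteIndex.index_ne_zero
      have hlt : (K ⊔ Subgroup.zpowers x).relIndex B < d := by
        rw [← hd, ← hmul, he']; exact lt_mul_left hpos (lt_of_lt_of_le hp.one_lt hge)
      have h1 := ih _ hlt _ hK'B rfl
      let L := A ⊓ Subgroup.centralizer (K : Set G)
      let f : L →* C :=
        { toFun := fun a => ⟨⁅(a : G), x⁆, hC ▸ Subgroup.commutator_mem_commutator a.2.1 hxB⟩
          map_one' := Subtype.ext (by simp)
          map_mul' := fun u v => Subtype.ext (by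
            have hv : ⁅(v : G), x⁆ ∈ C := hC ▸ Subgroup.commutator_mem_commutator v.2.1 hxB
            have hu : ⁅(u : G), x⁆ ∈ C := hC ▸ Subgroup.commutator_mem_commutator u.2.1 hxB
            have hc1 := hcentral A B hC u u.2.1 _ hv
            have hc2 : ⁅(v : G), x⁆ * ⁅(u : G), x⁆ = ⁅(u : G), x⁆ * ⁅(v : G), x⁆ := by
              have h5 : C ≤ Subgroup.centralizer (C : Set G) := fun w hw z hz => by
                have hA' : ∀ y ∈ A, y * w = w * y := fun y hy => hcentral A B hC y hy w hw
                have hB' : ∀ y ∈ B, y * w = w * y := fun y hy =>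
                  hcentral B A ((Subgroup.commutator_comm B A).trans hC) y hy w hw
                have : A ⊔ B ≤ Subgroup.centralizer ({w} : Set G) := sup_le
                  (fun y hy => Subgroup.mem_centralizer_singleton_iff.mpr (hA' y hy))
                  (fun y hy => Subgroup.mem_centralizer_singleton_iff.mpr (hB' y hy))
                exact Subgroup.mem_centralizer_singleton_iff.mp (this ((hC ▸ Subgroup.commutator_le_sup A B : C ≤ A ⊔ B) hz))
              exact (h5 hu _ hv)
            show ⁅(u : G) * (v : G), x⁆ = ⁅(u : G), x⁆ * ⁅(v : G), x⁆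
            calc ⁅(u : G) * (v : G), x⁆ = ((u : G) * ⁅(v : G), x⁆ * (u : G)⁻¹) * ⁅(u : G), x⁆ := by
                  simp [commutatorElement_def, mul_assoc]
              _ = ⁅(v : G), x⁆ * ⁅(u : G), x⁆ := by rw [hc1, mul_inv_cancel_right]
              _ = _ := hc2) }
      have h2 : (A ⊓ Subgroup.centralizer ((K ⊔ Subgroup.zpowers x : Subgroup G) : Set G)).relIndex L ≤ p := by
        have hker : (A ⊓ Subgroup.centralizer ((K ⊔ Subgroup.zpowers x : Subgroup G) : Set G)).subgroupOf L = f.ker := by
          ext a
          rw [Subgroup.mem_subgroupOf, MonoidHom.mem_ker, CfsgLib.PGroups.centralizer_sup_zpowers,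
            Subgroup.mem_inf, Subgroup.mem_inf]
          constructor
          · intro ha
            exact Subtype.ext (commutatorElement_eq_one_iff_mul_comm.mpr
              (Subgroup.mem_centralizer_singleton_iff.mp ha.2.2))
          · intro ha
            exact ⟨a.2.1, a.2.2, Subgroup.mem_centralizer_singleton_iff.mpr
              (commutatorElement_eq_one_iff_mul_comm.mp (congrArg Subtype.val ha))⟩
        rw [Subgroup.relIndex, hker, Subgroup.index_ker]
        exact (Subgroup.card_le_card_group _).trans hcard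
      rw [← Subgroup.relIndex_mul_relIndex (A ⊓ Subgroup.centralizer (B : Set G))
        (A ⊓ Subgroup.centralizer ((K ⊔ Subgroup.zpowers x : Subgroup G) : Set G)) L
        (inf_le_inf_left A (Subgroup.centralizer_le hK'B)) (inf_le_inf_left A (Subgroup.centralizer_le
          (le_sup_left : K ≤ K ⊔ Subgroup.zpowers x))), ← hd, ← hmul, he', mul_comm (p ^ e)]
      exact Nat.mul_le_mul h1 (h2.trans hge)
    have h := step _ (B ⊓ Subgroup.centralizer (A : Set G)) inf_le_left rfl
    have e : A ⊓ Subgroup.centralizer ((B ⊓ Subgroup.centralizer (A : Set G) : Subgroup G) : Set G) = A :=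
      inf_eq_left.mpr (fun a ha y hy => (((Subgroup.mem_inf.mp hy).2) a ha).symm)
    rwa [e] at h
  exact le_antisymm (main A B rfl) (main B A (Subgroup.commutator_comm B A))

end Cfsg.Agent.S3741
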