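import Cfsg.Statements.S3743
import Cfsg.Agent.Lib.Base.Cores
import Cfsg.Agent.Lib.Base.Fitting
open CfsgLib.Base

set_option autoImplicit false
open Cfsg

namespace Cfsg.Agent.S3743

/-- In a finite group G, every subnormal nilpotent subgroup lies in the Fitting subgroup F(G), and, for a set of primes π, every subnormal subgroup all of whose prime divisors lie in π lies in O_π(G). -/
theorem result {G : Type*} [Group G] [Finite G] (A : Subgroup G) (hA : A.IsSubnormal) : (Group.IsNilpotent A → A ≤ Cfsg.fittingSubgroup G) ∧ ∀ π : Set ℕ, (∀ p : ℕ, p.Prime → p ∣ Nat.card A → p ∈ π) → A ≤ Cfsg.piCore π G := by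
  refine ⟨fun h => le_fittingSubgroup_of_isSubnormal hA h, fun π hπ => ?_⟩
  have key : ∀ K : Subgroup G, K.IsSubnormal →
      (Cfsg.piCore π ↥K).map K.subtype ≤ Cfsg.piCore π G := by
    intro K hK
    induction hK with
    | top => exact (map_piCore_mulEquiv (Subgroup.topEquiv (G := G))).le
    | step A B hle _ hn ih =>
      refine le_trans (le_map_piCore ((Subgroup.map_subtype_le _).trans hle) ?_ ?_) ih
      · exact ((Subgroup.normal_subgroupOf_iff_le_normalizer hle).1 hn).trans
          (normalizer_le_normalizer_map_subtype A _)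
      · intro q hq hd
        rw [card_map_subtype] at hd
        exact piCore_primes π _ q hq hd
  refine le_trans ?_ (key A hA)
  rw [piCore_eq_top_iff.2 hπ, ← MonoidHom.range_eq_map, Subgroup.range_subtype]

end Cfsg.Agent.S3743
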