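import Cfsg.Statements.S3746
import Cfsg.Agent.Lib.Components.Basic
import Cfsg.Agent.Lib.Components.FStar
import Cfsg.Agent.Lib.Components.PComponents
open Subgroup
open scoped commutatorElement

set_option autoImplicit false
open Cfsg

namespace Cfsg.Agent.S3746

/-- Let Z ≤ Z(G) be a central subgroup of a finite group G and E a subgroup of G containing Z whose image E/Z is a component of G/Z (subnormal and quasisimple). Then the derived subgroup [E, E] is a component of G. -/
theorem result {G : Type*} [Group G] [Finite G] (Z : Subgroup G) (hZ : Z ≤ Subgroup.center G) [Z.Normal] (E : Subgroup G) (hZE : Z ≤ E) (hE : Cfsg.IsComponent (E.map (QuotientGroup.mk' Z))) : Cfsg.IsComponent ⁅E, E⁆ := by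
  obtain ⟨hsub, hq⟩ := hE
  have hEsub : E.IsSubnormal := by
    have h := hsub.comap (QuotientGroup.mk' Z)
    rwa [comap_map_eq, QuotientGroup.ker_mk', sup_eq_left.mpr hZE] at h
  refine ⟨CfsgLib.Components.isSubnormal_commutator_self hEsub, ?_⟩
  have hmap : (⁅E, E⁆).map (QuotientGroup.mk' Z) = E.map (QuotientGroup.mk' Z) := by
    rw [map_commutator, CfsgLib.Components.component_commutator_self ⟨hsub, hq⟩]
  have hdec : ∀ x ∈ E, ∃ d ∈ ⁅E, E⁆, ∃ z ∈ Z, x = d * z := by
    intro x hx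
    have h1 : QuotientGroup.mk' Z x ∈ (⁅E, E⁆).map (QuotientGroup.mk' Z) := by
      rw [hmap]; exact mem_map_of_mem _ hx
    obtain ⟨d, hd, hdx⟩ := h1
    exact ⟨d, hd, d⁻¹ * x, QuotientGroup.eq.mp hdx, (mul_inv_cancel_left d x).symm⟩
  have hperf : ⁅(⁅E, E⁆ : Subgroup G), ⁅E, E⁆⁆ = ⁅E, E⁆ := by
    refine le_antisymm (CfsgLib.Components.commutator_self_le _) ?_
    rw [commutator_le]
    intro a ha b hb
    obtain ⟨d, hd, z, hz, rfl⟩ := hdec a ha
    obtain ⟨d', hd', z', hz', rfl⟩ := hdec b hb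
    have cz : ∀ g : G, z * g = g * z := fun g => ((mem_center_iff.mp (hZ hz)) g).symm
    have cz' : ∀ g : G, z' * g = g * z' := fun g => ((mem_center_iff.mp (hZ hz')) g).symm
    have : ⁅d * z, d' * z'⁆ = ⁅d, d'⁆ := by
      simp only [commutatorElement_def, mul_inv_rev]
      calc d * z * (d' * z') * (z⁻¹ * d⁻¹) * (z'⁻¹ * d'⁻¹)
          = d * (z * d') * z' * z⁻¹ * d⁻¹ * z'⁻¹ * d'⁻¹ := by simp only [mul_assoc]
        _ = d * d' * (z * z') * z⁻¹ * d⁻¹ * z'⁻¹ * d'⁻¹ := by rw [cz d']; simp only [mul_assoc]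
        _ = d * d' * z' * d⁻¹ * z'⁻¹ * d'⁻¹ := by rw [cz z']; simp only [mul_assoc, mul_inv_cancel_left]
        _ = d * d' * (z' * d⁻¹) * z'⁻¹ * d'⁻¹ := by simp only [mul_assoc]
        _ = d * d' * d⁻¹ * d'⁻¹ := by rw [cz' d⁻¹]; simp only [mul_assoc, mul_inv_cancel_left]
    rw [this]
    exact commutator_mem_commutator hd hd'
  let f : ↥⁅E, E⁆ →* G ⧸ Z := (QuotientGroup.mk' Z).comp (⁅E, E⁆ : Subgroup G).subtype
  have hker : f.ker ≤ center ↥⁅E, E⁆ := by
    intro x hx
    rw [mem_center_iff]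
    intro y
    apply Subtype.ext
    have hxZ : (x : G) ∈ Z := (QuotientGroup.eq_one_iff (N := Z) _).mp hx
    exact mem_center_iff.mp (hZ hxZ) y
  have hrange : f.range = E.map (QuotientGroup.mk' Z) := by
    rw [MonoidHom.range_comp, range_subtype, hmap]
  have hq2 : IsQuasisimple (↥⁅E, E⁆ ⧸ f.ker) :=
    CfsgLib.Components.isQuasisimple_of_mulEquiv
      ((QuotientGroup.quotientKerEquivRange f).trans (MulEquiv.subgroupCongr hrange)).symm hq
  refine CfsgLib.Components.isQuasisimple_of_central_extension hker ⟨?_⟩ hq2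
  apply map_injective (⁅E, E⁆ : Subgroup G).subtype_injective
  rw [map_subtype_commutator, ← MonoidHom.range_eq_map, range_subtype, hperf]

end Cfsg.Agent.S3746
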