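import Cfsg.Statements.S3747
import Cfsg.Agent.Lib.Components.Decomposition
import Cfsg.Agent.Lib.Components.FStar

set_option autoImplicit false
open Cfsg

namespace Cfsg.Agent.S3747

/-- Let G be a finite group. (a) If K is a component of G with trivial centre, then the normal closure of K in G is a minimal normal subgroup of G. (b) If the Fitting subgroup of G is trivial, then the layer E(G) is generated by the minimal normal subgroups of G. -/
theorem result {G : Type*} [Group G] [Finite G] : (∀ K : Subgroup G, Cfsg.IsComponent K → Subgroup.center ↥K = ⊥ → (Subgroup.normalClosure (K : Set G) ≠ ⊥ ∧ ∀ N : Subgroup G, N.Normal → N ≤ Subgroup.normalClosure (K : Set G) → N = ⊥ ∨ N = Subgroup.normalClosure (K : Set G))) ∧ (Cfsg.fittingSubgroup G = ⊥ → sSup {N : Subgroup G | N ≠ ⊥ ∧ N.Normal ∧ ∀ N' : Subgroup G, N'.Normal → N' ≤ N → N' = ⊥ ∨ N' = N} = Cfsg.layer G) := by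
  classical
  have key : ∀ K : Subgroup G, Cfsg.IsComponent K → Subgroup.center ↥K = ⊥ →
      (Subgroup.normalClosure (K : Set G) ≠ ⊥ ∧ ∀ N : Subgroup G, N.Normal →
        N ≤ Subgroup.normalClosure (K : Set G) → N = ⊥ ∨ N = Subgroup.normalClosure (K : Set G)) := by
    intro K hK hcK
    set C := Subgroup.normalClosure (K : Set G) with hC
    refine ⟨fun h => CfsgLib.Components.component_ne_bot hK (le_bot_iff.1 (h ▸ Subgroup.le_normalClosure)), ?_⟩
    intro N hN hNC
    haveI := hN
    by_cases hKN : K ≤ N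
    · exact Or.inr (le_antisymm hNC (Subgroup.normalClosure_le_normal hKN))
    left
    have h1 := Subgroup.commutator_eq_bot_iff_le_centralizer.1
      (CfsgLib.Components.component_commutator_eq_bot_of_not_le hK hN.isSubnormal hKN)
    have h2 : N ≤ Subgroup.centralizer (C : Set G) :=
      Subgroup.le_centralizer_iff.1 (Subgroup.normalClosure_le_normal h1)
    let S : Finset (Subgroup G) := (Set.toFinite (Set.range fun g : G => K.map (MulAut.conj g).toMonoidHom)).toFinset
    have hS : ∀ L, L ∈ S ↔ ∃ g : G, K.map (MulAut.conj g).toMonoidHom = L := fun L => by simp [S]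
    have hcomp : ∀ L ∈ S, Cfsg.IsComponent L := fun L hL => by
      obtain ⟨g, rfl⟩ := (hS L).1 hL
      exact CfsgLib.Components.isComponent_conj hK g
    have he : C ≤ S.sup id := by
      show Subgroup.closure _ ≤ _
      rw [Subgroup.closure_le]
      intro x hx
      obtain ⟨a, ha, hax⟩ := Group.mem_conjugatesOfSet_iff.1 hx
      obtain ⟨g, rfl⟩ := isConj_iff.1 hax
      exact Finset.le_sup (f := id) ((hS _).2 ⟨g, rfl⟩) ⟨a, ha, rfl⟩
    have he' : S.sup id ≤ C := by
      refine Finset.sup_le fun L hL => ?_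
      obtain ⟨g, rfl⟩ := (hS L).1 hL
      rintro _ ⟨a, ha, rfl⟩
      exact Subgroup.normalClosure_normal.conj_mem a (Subgroup.le_normalClosure ha) g
    have hp : (↑S : Set (Subgroup G)).Pairwise fun A B => ⁅A, B⁆ = ⊥ := fun A hA B hB hne =>
      CfsgLib.Components.components_commute (hcomp A hA) (hcomp B hB) hne
    rw [eq_bot_iff]
    intro x hx
    have h3 := CfsgLib.Components.mem_iSup_center_of_commuting S hp (he (hNC hx))
      (Subgroup.centralizer_le (SetLike.coe_subset_coe.2 he') (h2 hx))
    refine (Finset.sup_le fun L hL => ?_ : S.sup (fun L => L ⊓ Subgroup.centralizer (L : Set G)) ≤ ⊥) h3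
    obtain ⟨g, rfl⟩ := (hS L).1 hL
    rintro _ ⟨⟨a, ha, rfl⟩, hc⟩
    have hac : (⟨a, ha⟩ : K) ∈ Subgroup.center K := Subgroup.mem_center_iff.2 fun y => Subtype.ext
      ((MulAut.conj g).injective (by
        have := Subgroup.mem_centralizer_iff.1 hc _ ⟨y, y.2, rfl⟩
        simpa using this))
    rw [hcK, Subgroup.mem_bot] at hac
    have : a = 1 := congrArg Subtype.val hac
    simp [this]
  refine ⟨key, fun hF => le_antisymm (sSup_le ?_) (CfsgLib.Components.layer_le_iff.2 ?_)⟩
  · rintro N ⟨hne, hN, hmin⟩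
    haveI := hN
    haveI := CfsgLib.Components.layer_normal (G := G)
    rcases hmin (N ⊓ Cfsg.layer G) inferInstance inf_le_left with h | h
    · exfalso
      refine hne (le_bot_iff.1 (le_trans ?_ (CfsgLib.Components.centralizer_fstar_le_fitting.trans hF.le)))
      have h1 : ⁅N, Cfsg.layer G⁆ = ⊥ := le_bot_iff.1 (h ▸ Subgroup.commutator_le_inf N _)
      rw [show Cfsg.generalizedFittingSubgroup G = Cfsg.layer G ⊔ Cfsg.fittingSubgroup G from rfl, hF, sup_bot_eq]
      exact Subgroup.commutator_eq_bot_iff_le_centralizer.1 h1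
    · exact h.ge.trans inf_le_right
  · intro K hK
    have hcK : Subgroup.center ↥K = ⊥ := by
      refine (Subgroup.map_eq_bot_iff_of_injective _ K.subtype_injective).1 (le_bot_iff.1 ?_)
      have := CfsgLib.Base.map_fittingSubgroup_le_of_isSubnormal hK.1
      rw [hF] at this
      exact (Subgroup.map_mono (CfsgLib.Base.center_le_fittingSubgroup K)).trans this
    obtain ⟨h1, h2⟩ := key K hK hcK
    exact Subgroup.le_normalClosure.trans (le_sSup ⟨h1, inferInstance, h2⟩)

end Cfsg.Agent.S3747
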