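import Cfsg.Statements.S3748
import Cfsg.Agent.Lib.PLocal.SubnormalJoin
import Cfsg.Agent.Lib.Base.Nilpotent
import Cfsg.Agent.Lib.Base.Fitting

set_option autoImplicit false
open Cfsg

namespace Cfsg.Agent.S3748

/-- Call a proper subgroup M of G primitive when M = N_G(N) for every non-trivial normal subgroup N of M. If M is a primitive subgroup of the finite group G, then no non-trivial subnormal subgroup of G is contained in M; in particular M ∩ F(G) = 1. -/
theorem result {G : Type*} [Group G] [Finite G] (M : Subgroup G) (hM : M ≠ ⊤) (hprim : ∀ N : Subgroup G, N ≤ M → M ≤ Subgroup.normalizer (N : Set G) → N ≠ ⊥ → Subgroup.normalizer (N : Set G) = M) : (∀ L : Subgroup G, L.IsSubnormal → L ≤ M → L = ⊥) ∧ M ⊓ Cfsg.fittingSubgroup G = ⊥ := by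
  classical
  have hA : ∀ L : Subgroup G, L.IsSubnormal → L ≤ M → L = ⊥ := by
    intro L hL hLM
    -- a maximal subnormal subgroup inside `M`
    obtain ⟨K, ⟨hKs, hKM⟩, hmax⟩ := Set.exists_max_image {K : Subgroup G | K.IsSubnormal ∧ K ≤ M}
      (fun K => Nat.card K) (Set.toFinite _) ⟨L, hL, hLM⟩
    have hmax' : ∀ K' : Subgroup G, K'.IsSubnormal → K' ≤ M → K' ≤ K := by
      intro K' h1 h2
      have h3 := hmax (K ⊔ K') ⟨CfsgLib.PLocal.isSubnormal_join hKs h1, sup_le hKM h2⟩
      rw [Subgroup.eq_of_le_of_card_ge (le_sup_left : K ≤ K ⊔ K') h3]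
      exact le_sup_right
    by_contra hne
    have hK : K ≠ ⊥ := fun h => hne (le_bot_iff.mp ((hmax' L hL hLM).trans h.le))
    have hMK : M ≤ Subgroup.normalizer (K : Set G) := by
      intro m hm
      have h1 : (K.map (MulAut.conj m).toMonoidHom) ≤ K :=
        hmax' _ (hKs.map (MulAut.conj m).surjective) (by
          rintro _ ⟨k, hk, rfl⟩
          exact mul_mem (mul_mem hm (hKM hk)) (M.inv_mem hm))
      exact CfsgLib.Base.map_conj_eq_self_iff.mp
        (Subgroup.eq_of_le_of_card_ge h1 (by rw [CfsgLib.Base.card_map_conj]))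
    have hN := hprim K hKM hMK hK
    have key : ∀ H : Subgroup G, H.IsSubnormal →
        H = ⊤ ∨ ∃ K' : Subgroup G, H < K' ∧ K'.IsSubnormal ∧ K' ≤ Subgroup.normalizer (H : Set G) := by
      intro H hH
      induction hH with
      | top => exact Or.inl rfl
      | step H K' hle hs hn ih =>
        rcases eq_or_lt_of_le hle with h | h
        · rw [h]; exact ih
        · exact Or.inr ⟨K', h, hs, (Subgroup.normal_subgroupOf_iff_le_normalizer hle).mp hn⟩
    rcases key K hKs with h | ⟨K', hlt, hs, hle⟩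
    · exact hM (top_le_iff.mp (h ▸ hKM))
    · rw [hN] at hle
      exact not_le_of_gt hlt (hmax' K' hs hle)
  refine ⟨hA, hA _ ?_ inf_le_left⟩
  set F := Cfsg.fittingSubgroup G with hF
  haveI hFn : Group.IsNilpotent F := CfsgLib.Base.isNilpotent_fittingSubgroup G
  have hFs : F.IsSubnormal := (CfsgLib.Base.fittingSubgroup_normal' G).isSubnormal
  exact Subgroup.IsSubnormal.trans inf_le_right
    (CfsgLib.Base.isSubnormal_of_isNilpotent ((M ⊓ F).subgroupOf F)) hFs

end Cfsg.Agent.S3748
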