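import Cfsg.Statements.S3749
import Cfsg.Agent.Lib.Coprime.Action
import Cfsg.Agent.Lib.Base.Cores

set_option autoImplicit false
open Cfsg Subgroup CfsgLib.Base

namespace Cfsg.Agent.S3749

/-- Call a proper subgroup M of G primitive when M = N_G(N) for every non-trivial normal subgroup N of M. Let M be a primitive subgroup of the finite group G, p a prime with O_p(M) ≠ 1, and N a normal subgroup of G with M ∩ N = 1. Then p does not divide the order of N; for every prime q there is exactly one Sylow q-subgroup of N normalized by M; and if the order of N has at least two prime divisors then M is not a maximal subgroup of G. -/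
theorem result {G : Type*} [Group G] [Finite G] (M : Subgroup G) (hM : M ≠ ⊤) (hprim : ∀ N : Subgroup G, N ≤ M → M ≤ Subgroup.normalizer (N : Set G) → N ≠ ⊥ → Subgroup.normalizer (N : Set G) = M) {p : ℕ} [Fact p.Prime] (hOp : Cfsg.pCore p ↥M ≠ ⊥) (N : Subgroup G) [N.Normal] (hMN : M ⊓ N = ⊥) : ¬ p ∣ Nat.card N ∧ (∀ q : ℕ, [Fact q.Prime] → ∃! Q : Sylow q ↥N, M ≤ Subgroup.normalizer ((Q : Subgroup ↥N).map N.subtype : Set G)) ∧ ((∃ q r : ℕ, q.Prime ∧ r.Prime ∧ q ≠ r ∧ q ∣ Nat.card N ∧ r ∣ Nat.card N) → ¬ IsCoatom M) := by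
  set P₀ := (pCore p ↥M).map M.subtype with hP₀
  have hne : P₀ ≠ ⊥ := fun h => hOp ((map_eq_bot_iff_of_injective _ M.subtype_injective).mp h)
  have hP₀p : IsPGroup p P₀ := isPGroup_map_pCore p M
  have hP₀M : P₀ ≤ M := map_subtype_le _
  have hNP₀ := hprim P₀ hP₀M (le_normalizer_map_pCore M) hne
  have hC : ∀ n ∈ N, n ∈ centralizer (P₀ : Set G) → n = 1 := by
    intro n hn hc
    have : n ∈ M ⊓ N := ⟨hNP₀ ▸ centralizer_le_normalizer _ hc, hn⟩
    rwa [hMN, mem_bot] at this
  have hpN : ¬ p ∣ Nat.card N := by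
    intro hd
    let _ : MulAction P₀ N := MulAction.compHom N ((MulAut.conjNormal (H := N)).comp P₀.subtype)
    have h1 : (1 : N) ∈ MulAction.fixedPoints P₀ N := fun g => map_one (MulAut.conjNormal (H := N) (g : G))
    obtain ⟨n, hn, hn1⟩ := hP₀p.exists_fixed_point_of_prime_dvd_card_of_fixed_point N hd h1
    refine hn1 (Subtype.ext (hC n n.2 (mem_centralizer_iff.mpr fun g hg => ?_)).symm)
    have h2 : g * (n : G) * g⁻¹ = n := congrArg Subtype.val (hn ⟨g, hg⟩)
    exact mul_inv_eq_iff_eq_mul.mp h2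
  have hcop : (Nat.card P₀).Coprime (Nat.card N) := by
    obtain ⟨k, hk⟩ := IsPGroup.iff_card.mp hP₀p
    rw [hk]
    exact Nat.Coprime.pow_left k (((Fact.out : p.Prime).coprime_iff_not_dvd).mpr hpN)
  have hsol : Group.IsSolvable P₀ := haveI := hP₀p.isNilpotent; inferInstance
  have hq : ∀ q : ℕ, [Fact q.Prime] → ∃! Q : Sylow q ↥N,
      M ≤ normalizer ((Q : Subgroup ↥N).map N.subtype : Set G) := by
    intro q _
    obtain ⟨Q, hQ⟩ := CfsgLib.Coprime.exists_invariant_sylow (p := q) (A := P₀) (K := N)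
      le_normalizer_of_normal hcop (Or.inl hsol)
    have huniq : ∀ Q' : Sylow q ↥N, P₀ ≤ normalizer ((Q' : Subgroup ↥N).map N.subtype : Set G) →
        Q' = Q := by
      intro Q' hQ'
      obtain ⟨c, hc, hcQ⟩ := CfsgLib.Coprime.invariant_sylow_conj le_normalizer_of_normal hcop
        (Or.inl hsol) Q Q' hQ hQ'
      rw [show c = 1 from Subtype.ext (hC c c.2 hc), map_one, one_smul] at hcQ
      exact hcQ.symm
    refine ⟨Q, fun m hm => ?_, fun Q' hQ' => huniq Q' (hP₀M.trans hQ')⟩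
    have hcoe : (((MulAut.conjNormal (H := N) m • Q : Sylow q ↥N) : Subgroup ↥N)).map N.subtype =
        ((Q : Subgroup ↥N).map N.subtype).map (MulAut.conj m).toMonoidHom := by
      show ((Q : Subgroup ↥N).map (MulAut.conjNormal (H := N) m).toMonoidHom).map N.subtype = _
      rw [Subgroup.map_map, Subgroup.map_map]
      congr 1
    have h := huniq (MulAut.conjNormal (H := N) m • Q) (fun g hg => by
      rw [hcoe]
      refine le_normalizer_map _ ⟨m⁻¹ * g * m, hQ ?_, by simp [mul_assoc]⟩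
      have hmn : m⁻¹ ∈ normalizer (P₀ : Set G) := inv_mem (hNP₀.ge hm)
      simpa using (mem_normalizer_iff.mp hmn g).mp hg)
    rw [h] at hcoe
    exact map_conj_eq_self_iff.mp hcoe.symm
  refine ⟨hpN, hq, ?_⟩
  rintro ⟨q, r, hq', hr, hqr, hqd, hrd⟩ hco
  haveI := Fact.mk hq'
  obtain ⟨Q, hQ, -⟩ := hq q
  set V := (Q : Subgroup ↥N).map N.subtype
  have hVne : V ≠ ⊥ := fun h =>
    Q.ne_bot_of_dvd_card hqd ((map_eq_bot_iff_of_injective _ N.subtype_injective).mp h)
  rcases (le_sup_left : M ≤ M ⊔ V).eq_or_lt with h | h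
  · exact hVne (le_bot_iff.mp (hMN ▸ le_inf (h ▸ le_sup_right) (map_subtype_le _)))
  · have htop := hco.2 _ h
    haveI : V.Normal := by
      rw [← normalizer_eq_top_iff, eq_top_iff, ← htop]
      exact sup_le hQ le_normalizer
    have hNV : N ≤ V := by
      intro n hn
      obtain ⟨m, hm, v, hv, rfl⟩ := mem_sup_of_normal_right.mp (htop ▸ mem_top n)
      have hmN : m ∈ N := by simpa using mul_mem hn (inv_mem (map_subtype_le _ hv))
      rw [show m = 1 from mem_bot.mp (hMN ▸ ⟨hm, hmN⟩), one_mul]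
      exact hv
    haveI := Fact.mk hr
    obtain ⟨x, hx⟩ := exists_prime_orderOf_dvd_card' r hrd
    obtain ⟨k, hk⟩ := (Q.2.map N.subtype).exists_orderOf_eq_pow ⟨(x : G), hNV x.2⟩
    rw [orderOf_mk, orderOf_coe, hx] at hk
    exact hqr ((Nat.prime_eq_prime_of_dvd_pow hr hq' (dvd_of_eq hk)).symm)

end Cfsg.Agent.S3749
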