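import Cfsg.Statements.S3750
import Cfsg.Agent.Lib.Components.FStar
import Cfsg.Agent.Lib.Base.MinimalNormal
import Cfsg.Agent.Lib.Base.Fitting

set_option autoImplicit false
open Cfsg Subgroup CfsgLib.Base CfsgLib.Components

namespace Cfsg.Agent.S3750

/-- Call a proper subgroup M of G primitive when M = N_G(N) for every non-trivial normal subgroup N of M. Let M be a primitive subgroup of the finite group G and N a normal subgroup of G with M ∩ F*(N) ≠ 1. Then F(G) = 1 and F*(N) = F*(G) = E(G); in particular every minimal normal subgroup of G is contained in N. -/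
theorem result {G : Type*} [Group G] [Finite G] (M : Subgroup G) (hM : M ≠ ⊤) (hprim : ∀ N : Subgroup G, N ≤ M → M ≤ Subgroup.normalizer (N : Set G) → N ≠ ⊥ → Subgroup.normalizer (N : Set G) = M) (N : Subgroup G) [N.Normal] (hMF : M ⊓ (Cfsg.generalizedFittingSubgroup ↥N).map N.subtype ≠ ⊥) : Cfsg.fittingSubgroup G = ⊥ ∧ (Cfsg.generalizedFittingSubgroup ↥N).map N.subtype = Cfsg.generalizedFittingSubgroup G ∧ Cfsg.generalizedFittingSubgroup G = Cfsg.layer G ∧ ∀ K : Subgroup G, K.Normal → K ≠ ⊥ → (∀ K' : Subgroup G, K'.Normal → K' ≤ K → K' = ⊥ ∨ K' = K) → K ≤ N := by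
  haveI : (generalizedFittingSubgroup G).Normal := inferInstance
  haveI := fittingSubgroup_normal' G
  set D := M ⊓ (generalizedFittingSubgroup ↥N).map N.subtype with hD
  have hF : (generalizedFittingSubgroup ↥N).map N.subtype = generalizedFittingSubgroup G ⊓ N :=
    map_fstar_eq_inf N
  have hDM : M ≤ normalizer (D : Set G) := by
    rw [hD, hF]
    exact (le_inf le_normalizer le_normalizer_of_normal).trans inf_normalizer_le_normalizer_inf
  have hND := hprim D inf_le_left hDM hMF
  -- no nontrivial normal subgroup centralises `D`
  have key : ∀ R : Subgroup G, R.Normal → R ≤ centralizer (D : Set G) → R = ⊥ := by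
    intro R hR hRD
    by_contra hne
    have h := hprim R ((hRD.trans (centralizer_le_normalizer _)).trans hND.le)
      (by haveI := hR; exact le_normalizer_of_normal) hne
    haveI := hR
    rw [normalizer_eq_top] at h
    exact hM h.symm
  have hDF : D ≤ generalizedFittingSubgroup G := inf_le_right.trans (hF.le.trans inf_le_left)
  have hDN : D ≤ N := inf_le_right.trans (map_subtype_le _)
  have hfit : fittingSubgroup G = ⊥ := by
    by_contra hne
    obtain ⟨R, hRF, hR⟩ := exists_isMinimalNormal_le (N := fittingSubgroup G) hne
    haveI : Group.IsNilpotent (fittingSubgroup G) := isNilpotent_fittingSubgroup G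
    have hs : Group.IsSolvable R := Group.isSolvable_of_isSolvable_injective (inclusion_injective hRF)
    have h1 := (hR.le_center_fittingSubgroup hs).trans inf_le_right
    have h2 : R ≤ centralizer (generalizedFittingSubgroup G : Set G) := by
      rw [le_centralizer_iff]
      exact sup_le (layer_le_centralizer_fitting.trans (centralizer_le hRF))
        (le_centralizer_iff.mp h1)
    exact hR.ne_bot (key R hR.normal (h2.trans (centralizer_le hDF)))
  have hCN : centralizer (N : Set G) = ⊥ := key _ inferInstance (centralizer_le hDN)
  have hlay : generalizedFittingSubgroup G = layer G := by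
    show layer G ⊔ fittingSubgroup G = layer G
    rw [hfit, sup_bot_eq]
  refine ⟨hfit, ?_, hlay, fun K hK hKne hKmin => ?_⟩
  · rw [hF, inf_eq_left, hlay]
    refine layer_le_iff.mpr fun L hL => (component_le_or_commutator_eq_bot hL
      (Subgroup.Normal.isSubnormal inferInstance)).resolve_right fun h => component_ne_bot hL ?_
    exact le_bot_iff.mp (hCN ▸ commutator_eq_bot_iff_le_centralizer.mp h)
  · haveI := hK
    rcases hKmin (K ⊓ N) inferInstance inf_le_left with h | h
    · exfalso
      apply hKne
      refine le_bot_iff.mp (hCN ▸ ?_)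
      exact commutator_eq_bot_iff_le_centralizer.mp (le_bot_iff.mp (h ▸ commutator_le_inf K N))
    · exact h ▸ inf_le_right

end Cfsg.Agent.S3750
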