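import Cfsg.Statements.S3751
import Cfsg.Agent.Lib.BlockApps.PrimitivePair

set_option autoImplicit false
open Cfsg

namespace Cfsg.Agent.S3751

/-- Two distinct subgroups M₁, M₂ of G form a primitive pair when, for {i, j} = {1, 2}, every non-trivial normal subgroup A of M_i contained in M₁ ∩ M₂ satisfies N_{M_j}(A) = M₁ ∩ M₂; the pair has characteristic p when moreover C_{M_i}(O_p(M_i)) ≤ O_p(M_i) for both i and O_p(M₁)O_p(M₂) ≤ M₁ ∩ M₂. Let G be a finite group, p a prime dividing its order, with O_p(G) = 1 and every p-local subgroup of characteristic p. Then either G has a primitive pair of characteristic p, or every maximal p-local subgroup M of G is strongly p-embedded in G: M is a proper subgroup, p divides its order, and for every g ∉ M the order of M ∩ gMg⁻¹ is prime to p. -/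
theorem result {G : Type*} [Group G] [Finite G] {p : ℕ} [Fact p.Prime] (hloc : Cfsg.IsOfLocalCharacteristic p G) (hOp : Cfsg.pCore p G = ⊥) : (∃ M₁ M₂ : Subgroup G, M₁ ≠ M₂ ∧ (∀ A : Subgroup G, A ≠ ⊥ → A ≤ M₁ ⊓ M₂ → (M₁ ≤ Subgroup.normalizer (A : Set G) → M₂ ⊓ Subgroup.normalizer (A : Set G) = M₁ ⊓ M₂) ∧ (M₂ ≤ Subgroup.normalizer (A : Set G) → M₁ ⊓ Subgroup.normalizer (A : Set G) = M₁ ⊓ M₂)) ∧ Subgroup.centralizer (Cfsg.pCore p ↥M₁ : Set ↥M₁) ≤ Cfsg.pCore p ↥M₁ ∧ Subgroup.centralizer (Cfsg.pCore p ↥M₂ : Set ↥M₂) ≤ Cfsg.pCore p ↥M₂ ∧ (Cfsg.pCore p ↥M₁).map M₁.subtype ⊔ (Cfsg.pCore p ↥M₂).map M₂.subtype ≤ M₁ ⊓ M₂) ∨ (∀ M : Subgroup G, (∃ T : Subgroup G, IsPGroup p T ∧ T ≠ ⊥ ∧ M = Subgroup.normalizer (T : Set G)) → (∀ L : Subgroup G, (∃ T : Subgroup G, IsPGroup p T ∧ T ≠ ⊥ ∧ L = Subgroup.normalizer (T : Set G)) → M ≤ L → L = M) → M ≠ ⊤ ∧ p ∣ Nat.card M ∧ ∀ g : G, g ∉ M → ¬ p ∣ Nat.card ↥(M ⊓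 M.map (MulAut.conj g).toMonoidHom)) := by
  classical
  by_cases hall : ∀ M L : Subgroup G, CfsgLib.BlockApps.PrimitivePair.Max p M →
      CfsgLib.BlockApps.PrimitivePair.Max p L → M ≠ L → ¬ p ∣ Nat.card ↥(M ⊓ L)
  · refine Or.inr fun M hM hmax => ?_
    have hMax : CfsgLib.BlockApps.PrimitivePair.Max p M := ⟨hM, hmax⟩
    refine ⟨?_, ?_, fun g hg => hall M _ hMax (CfsgLib.BlockApps.PrimitivePair.max_conj hMax g)
      (fun h => hg (CfsgLib.BlockApps.PrimitivePair.mem_of_map_eq hMax h.symm))⟩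
    · obtain ⟨T, hT, hT0, rfl⟩ := hM
      intro h
      haveI : T.Normal := Subgroup.normalizer_eq_top_iff.1 h
      exact hT0 (le_bot_iff.1 (hOp ▸ CfsgLib.Base.le_pCore hT))
    · obtain ⟨T, hT, hT0, rfl⟩ := hM
      haveI : Nontrivial ↥T := T.nontrivial_iff_ne_bot.2 hT0
      obtain ⟨k, hk, hc⟩ := hT.nontrivial_iff_card.1 inferInstance
      exact ((dvd_pow_self p hk.ne').trans hc.symm.dvd).trans (Subgroup.card_dvd_of_le Subgroup.le_normalizer)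
  · push Not at hall
    obtain ⟨M, L, hM, hL, hne, hp⟩ := hall
    obtain ⟨M₁, M₂, h1, h2, h12, hc1, hc2⟩ :=
      CfsgLib.BlockApps.PrimitivePair.exists_pair hM hL hne hp
    have hch : ∀ X : Subgroup G, CfsgLib.BlockApps.PrimitivePair.Max p X →
        Subgroup.centralizer (Cfsg.pCore p ↥X : Set ↥X) ≤ Cfsg.pCore p ↥X := by
      rintro _ ⟨⟨T, hT, hT0, rfl⟩, -⟩
      exact hloc.2 T hT hT0
    refine Or.inl ⟨M₁, M₂, h12, fun A hA0 hA => ⟨fun hn =>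
      CfsgLib.BlockApps.PrimitivePair.primitive h1 (hch _ h1) hA0 hA hn, fun hn => ?_⟩,
      hch _ h1, hch _ h2, sup_le (le_inf (CfsgLib.BlockApps.PrimitivePair.opc_le M₁) hc1)
        (le_inf hc2 (CfsgLib.BlockApps.PrimitivePair.opc_le M₂))⟩
    rw [CfsgLib.BlockApps.PrimitivePair.primitive h2 (hch _ h2) hA0 (inf_comm M₁ M₂ ▸ hA) hn, inf_comm]

end Cfsg.Agent.S3751
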