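import Cfsg.Statements.S3752
import Cfsg.Agent.Lib.Components.Bender

set_option autoImplicit false
set_option linter.style.haveILetI false
open Cfsg

namespace Cfsg.Agent.S3752

open Subgroup CfsgLib.Base CfsgLib.Components
open scoped commutatorElement Pointwise

variable {G : Type*} [Group G] [Finite G]

/-- For `r` and a second prime `q` the `r`-cores agree. -/
theorem coreOf_le_coreOf_pair {r q : ℕ} [Fact r.Prime] [Fact q.Prime] (hqr : q ≠ r) {M N : Subgroup G}
    (h1 : fitOf M ≤ N) (h2 : fitOf N ≤ M) (hM : layer M = ⊥)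
    (hNq : M ⊓ normalizer (coreOf q N : Set G) ≤ N) : coreOf r N ≤ coreOf r M := by
  classical
  set F' : Subgroup G := ⨆ t : {t : Nat.Primes // (t : ℕ) ≠ r}, coreOf ((t : Nat.Primes) : ℕ) M
    with hF'
  set Y : Subgroup G := ⨆ t : {t : Nat.Primes // (t : ℕ) ≠ r}, coreOf ((t : Nat.Primes) : ℕ) N
    with hY
  set C := M ⊓ centralizer (F' : Set G) with hC
  set C₀ := C ⊓ centralizer (Y : Set G) with hC₀
  set R := coreOf r N with hR
  have hRM : R ≤ M := (coreOf_le_fitOf N).trans h2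
  have hMle : ∀ t : ℕ, t.Prime → coreOf t M ≤ N := fun t ht =>
    haveI := Fact.mk ht; (coreOf_le_fitOf M).trans h1
  have hNle : ∀ t : ℕ, t.Prime → coreOf t N ≤ M := fun t ht =>
    haveI := Fact.mk ht; (coreOf_le_fitOf N).trans h2
  have hYM : Y ≤ M := iSup_le fun t => hNle _ t.1.2
  have hF'M : F' ≤ M := iSup_le fun t => map_subtype_le _
  have hMF' : M ≤ normalizer (F' : Set G) := by
    intro g hg
    rw [← map_conj_eq_self_iff, hF', Subgroup.map_iSup]
    exact iSup_congr fun t => map_conj_eq_self_iff.mpr (coreOf_normalizer _ M hg)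
  have hRC₀ : R ≤ C₀ := by
    refine le_inf (le_inf hRM ?_) ?_
    · rw [le_centralizer_iff, hF']
      refine iSup_le fun t => ?_
      haveI := Fact.mk t.1.2
      exact fun y hy => mem_centralizer_iff.mpr fun x hx =>
        (commute_coreOf t.2 (hMle _ t.1.2) hRM hy hx).symm
    · rw [le_centralizer_iff, hY]
      refine iSup_le fun t => ?_
      haveI := Fact.mk t.1.2
      exact fun y hy => mem_centralizer_iff.mpr fun x hx =>
        commute_coreOf (Ne.symm t.2) (map_subtype_le _) (map_subtype_le _) hx hy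
  have hC₀N : C₀ ≤ N := by
    intro x hx
    refine hNq ⟨(mem_inf.mp (mem_inf.mp hx).1).1, ?_⟩
    refine centralizer_le_normalizer _ (mem_centralizer_iff.mpr fun y hy => ?_)
    exact mem_centralizer_iff.mp (mem_inf.mp hx).2 y
      (le_iSup (fun t : {t : Nat.Primes // (t : ℕ) ≠ r} => coreOf ((t : Nat.Primes) : ℕ) N)
        ⟨⟨q, Fact.out⟩, hqr⟩ hy)
  -- commutators of `Y` and `C` lie in `F'`
  have hw : ∀ t : {t : Nat.Primes // (t : ℕ) ≠ r}, ∀ y ∈ coreOf ((t : Nat.Primes) : ℕ) N, ∀ c ∈ C,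
      ⁅y, c⁆ ∈ F' := by
    intro t y hy c hc
    haveI := Fact.mk t.1.2
    obtain ⟨hcM, hcC⟩ := mem_inf.mp hc
    have hyM : y ∈ M := hNle _ t.1.2 hy
    set w := ⁅y, c⁆ with hwdef
    have hwM : w ∈ M := mul_mem (mul_mem (mul_mem hyM hcM) (inv_mem hyM)) (inv_mem hcM)
    have hyr : ∀ x ∈ coreOf r M, x * y = y * x := fun x hx =>
      commute_coreOf (Ne.symm t.2) (hMle r Fact.out) (hNle _ t.1.2) hx hy
    have hwF : w ∈ fitOf M := by
      refine inf_centralizer_fitOf_le hM (mem_inf.mpr ⟨hwM, ?_⟩)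
      have hle : fitOf M ≤ centralizer ({w} : Set G) := by
        rw [fitOf_eq_iSup]
        refine iSup_le fun s x hx => mem_centralizer_singleton_iff.mpr ?_
        by_cases hsr : (s : ℕ) = r
        · rw [hsr] at hx
          have hcx : c⁻¹ * x * c ∈ coreOf r M := by
            simpa using (mem_normalizer_iff.mp (coreOf_normalizer r M (inv_mem hcM)) x).mp hx
          have e1 : y⁻¹ * x * y = x := by rw [mul_assoc, hyr x hx, inv_mul_cancel_left]
          have e2 : y * (c⁻¹ * x * c) * y⁻¹ = c⁻¹ * x * c := by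
            rw [← hyr _ hcx, mul_inv_cancel_right]
          calc x * w = y * (y⁻¹ * x * y) * c * y⁻¹ * c⁻¹ := by rw [hwdef, commutatorElement_def]; group
            _ = y * c * ((c⁻¹ * x * c) * y⁻¹) * c⁻¹ := by rw [e1]; group
            _ = y * c * (y⁻¹ * (y * (c⁻¹ * x * c) * y⁻¹)) * c⁻¹ := by group
            _ = w * x := by rw [e2, hwdef, commutatorElement_def]; group
        · have hxF : x ∈ F' := le_iSup (fun t : {t : Nat.Primes // (t : ℕ) ≠ r} =>
            coreOf ((t : Nat.Primes) : ℕ) M) ⟨s, hsr⟩ hx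
          have hyx : y⁻¹ * x * y ∈ F' := by
            simpa using (mem_normalizer_iff.mp (hMF' (inv_mem hyM)) x).mp hxF
          have e1 : c * (y⁻¹ * x * y) = (y⁻¹ * x * y) * c := (mem_centralizer_iff.mp hcC _ hyx).symm
          have e2 : x * c⁻¹ = c⁻¹ * x :=
            ((Commute.inv_right (mem_centralizer_iff.mp hcC x hxF)) : Commute x c⁻¹).eq
          calc x * w = y * ((y⁻¹ * x * y) * c) * y⁻¹ * c⁻¹ := by
                rw [hwdef, commutatorElement_def]; group
            _ = y * (c * (y⁻¹ * x * y)) * y⁻¹ * c⁻¹ := by rw [e1]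
            _ = y * c * y⁻¹ * (x * c⁻¹) := by group
            _ = y * c * y⁻¹ * (c⁻¹ * x) := by rw [e2]
            _ = w * x := by rw [hwdef, commutatorElement_def]; group
      exact mem_centralizer_iff.mpr fun x hx => mem_centralizer_singleton_iff.mp (hle hx)
    have hsplit : fitOf M ≤ F' ⊔ coreOf r M := by
      rw [fitOf_eq_iSup]
      refine iSup_le fun s => ?_
      by_cases hsr : (s : ℕ) = r
      · rw [hsr]; exact le_sup_right
      · exact le_sup_of_le_left (le_iSup (fun t : {t : Nat.Primes // (t : ℕ) ≠ r} =>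
          coreOf ((t : Nat.Primes) : ℕ) M) ⟨s, hsr⟩)
    have hwset : w ∈ (F' : Set G) * (coreOf r M : Set G) := by
      rw [← coe_mul_of_right_le_normalizer_left F' (coreOf r M) ((map_subtype_le _).trans hMF')]
      exact hsplit hwF
    obtain ⟨f, hf, g, hg, hfg⟩ := Set.mem_mul.mp hwset
    haveI hFn : (F'.subgroupOf M).Normal := normal_subgroupOf_of_le_normalizer hMF'
    set π := QuotientGroup.mk' (F'.subgroupOf M) with hπ
    set ym : M := ⟨y, hyM⟩ with hym
    set cm : M := ⟨c, hcM⟩ with hcm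
    set gm : M := ⟨g, map_subtype_le _ hg⟩ with hgm
    have hcomm : Commute (π ym) (π gm) := by
      show π ym * π gm = π gm * π ym
      rw [← map_mul, ← map_mul]
      exact congrArg π (Subtype.ext (hyr g hg).symm)
    have hyc : π ym * π cm = π gm * π cm * π ym := by
      have e1 : (⟨w, hwM⟩ : M) = ⁅ym, cm⁆ := Subtype.ext rfl
      have e2 : π (⟨w, hwM⟩ : M) = π gm := by
        rw [show (⟨w, hwM⟩ : M) = ⟨f, hF'M hf⟩ * gm from Subtype.ext hfg.symm, map_mul,
          show π (⟨f, hF'M hf⟩ : M) = 1 from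
            (QuotientGroup.eq_one_iff (⟨f, hF'M hf⟩ : M)).mpr (mem_subgroupOf.mpr hf), one_mul]
      rw [← e2, e1, map_commutatorElement, commutatorElement_def]
      group
    have hpow : ∀ n : ℕ, π ym ^ n * π cm = π gm ^ n * π cm * π ym ^ n := by
      intro n
      induction n with
      | zero => simp
      | succ n ih =>
        calc π ym ^ (n + 1) * π cm = π ym * (π ym ^ n * π cm) := by rw [pow_succ']; group
          _ = π ym * π gm ^ n * π cm * π ym ^ n := by rw [ih]; group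
          _ = π gm ^ n * (π ym * π cm) * π ym ^ n := by
            rw [(hcomm.pow_right n).eq]; group
          _ = π gm ^ n * π gm * π cm * (π ym * π ym ^ n) := by rw [hyc]; group
          _ = π gm ^ (n + 1) * π cm * π ym ^ (n + 1) := by rw [← pow_succ, ← pow_succ']
    obtain ⟨i, hi⟩ := ((isPGroup_pCore (t : Nat.Primes) N).map N.subtype) ⟨y, hy⟩
    obtain ⟨j, hj⟩ := ((isPGroup_pCore r M).map M.subtype) ⟨g, hg⟩
    have hyi : π ym ^ ((t : Nat.Primes) : ℕ) ^ i = 1 := by
      rw [← map_pow, show ym ^ ((t : Nat.Primes) : ℕ) ^ i = 1 from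
        Subtype.ext (by simpa [Subtype.ext_iff] using hi), map_one]
    have hgj : π gm ^ r ^ j = 1 := by
      rw [← map_pow, show gm ^ r ^ j = 1 from
        Subtype.ext (by simpa [Subtype.ext_iff] using hj), map_one]
    have hgi : π gm ^ ((t : Nat.Primes) : ℕ) ^ i = 1 := by
      have := hpow (((t : Nat.Primes) : ℕ) ^ i)
      rw [hyi, one_mul, mul_one] at this
      exact mul_eq_right.mp this.symm
    have hg1 : π gm = 1 := by
      rw [← orderOf_eq_one_iff]
      have hco : ((((t : Nat.Primes) : ℕ)) ^ i).Coprime (r ^ j) :=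
        Nat.Coprime.pow _ _ ((Nat.coprime_primes t.1.2 Fact.out).mpr t.2)
      exact Nat.eq_one_of_dvd_coprimes hco (orderOf_dvd_of_pow_eq_one hgi)
        (orderOf_dvd_of_pow_eq_one hgj)
    rw [← hfg]
    exact mul_mem hf (mem_subgroupOf.mp ((QuotientGroup.eq_one_iff gm).mp hg1))
  -- `C₀` is normal in `C`
  have hCn : C ≤ normalizer (C₀ : Set G) := by
    refine le_normalizer_of_conj_mem fun c hc z hz => ?_
    obtain ⟨hzC, hzY⟩ := mem_inf.mp hz
    refine mem_inf.mpr ⟨mul_mem (mul_mem hc hzC) (inv_mem hc), mem_centralizer_iff.mpr ?_⟩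
    intro y hy
    have hle : Y ≤ centralizer ({c * z * c⁻¹} : Set G) := by
      refine iSup_le fun t y hy => mem_centralizer_singleton_iff.mpr ?_
      have h3 := hw t y hy c⁻¹ (inv_mem hc)
      have hzy : y * z = z * y := mem_centralizer_iff.mp hzY y
        (le_iSup (fun t : {t : Nat.Primes // (t : ℕ) ≠ r} => coreOf ((t : Nat.Primes) : ℕ) N) t hy)
      have e : c⁻¹ * y * c = (⁅y, c⁻¹⁆)⁻¹ * y := by group
      have hzd : (⁅y, c⁻¹⁆)⁻¹ * z = z * (⁅y, c⁻¹⁆)⁻¹ :=
        mem_centralizer_iff.mp (mem_inf.mp hzC).2 _ (inv_mem h3)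
      calc y * (c * z * c⁻¹) = c * (c⁻¹ * y * c * z) * c⁻¹ := by group
        _ = c * ((⁅y, c⁻¹⁆)⁻¹ * (y * z)) * c⁻¹ := by rw [e]; group
        _ = c * ((⁅y, c⁻¹⁆)⁻¹ * z * y) * c⁻¹ := by rw [hzy]; group
        _ = c * (z * (⁅y, c⁻¹⁆)⁻¹ * y) * c⁻¹ := by rw [hzd]
        _ = c * z * (c⁻¹ * y * c) * c⁻¹ := by rw [e]; group
        _ = c * z * c⁻¹ * y := by group
    exact mem_centralizer_singleton_iff.mp (hle hy)
  have hC₀C : C₀ ≤ C := inf_le_left
  have h1 : ((R.subgroupOf M)).IsSubnormal := by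
    have hCM : C ≤ M := inf_le_left
    haveI : (C.subgroupOf M).Normal := normal_subgroupOf_of_le_normalizer
      ((le_inf le_normalizer (hMF'.trans (CfsgLib.PLocal.normalizer_le_centralizer_normalizer F'))).trans
        inf_normalizer_le_normalizer_inf)
    have hCs : (C.subgroupOf M).IsSubnormal := Normal.isSubnormal inferInstance
    have hC₀s : (C₀.subgroupOf M).IsSubnormal := by
      exact IsSubnormal.trans (fun x hx => hC₀C hx)
        (normal_subgroupOf_of_le_normalizer (subgroupOf_le_normalizer M hCn)).isSubnormal hCs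
    exact IsSubnormal.trans (fun x hx => hRC₀ hx)
      (normal_subgroupOf_of_le_normalizer
        (subgroupOf_le_normalizer M (hC₀N.trans (coreOf_normalizer r N)))).isSubnormal hC₀s
  have h2 : R.subgroupOf M ≤ pCore r M := le_pCore_of_isSubnormal h1
    (((isPGroup_pCore r N).map N.subtype).comap_of_injective M.subtype M.subtype_injective)
  exact fun x hx => ⟨⟨x, hRM hx⟩, h2 hx, rfl⟩

/-- Let M₁ ≠ M₂ be a primitive pair with F*(M₁) ≤ M₂ and F*(M₂) ≤ M₁: it has characteristic p for some prime p. -/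
theorem result {G : Type*} [Group G] [Finite G] (M₁ M₂ : Subgroup G) (hne : M₁ ≠ M₂) (hP : ∀ A : Subgroup G, A ≠ ⊥ → A ≤ M₁ ⊓ M₂ → (M₁ ≤ Subgroup.normalizer (A : Set G) → M₂ ⊓ Subgroup.normalizer (A : Set G) = M₁ ⊓ M₂) ∧ (M₂ ≤ Subgroup.normalizer (A : Set G) → M₁ ⊓ Subgroup.normalizer (A : Set G) = M₁ ⊓ M₂)) (h₁ : (Cfsg.generalizedFittingSubgroup ↥M₁).map M₁.subtype ≤ M₂) (h₂ : (Cfsg.generalizedFittingSubgroup ↥M₂).map M₂.subtype ≤ M₁) : ∃ p : ℕ, p.Prime ∧ Subgroup.centralizer (Cfsg.pCore p ↥M₁ : Set ↥M₁) ≤ Cfsg.pCore p ↥M₁ ∧ Subgroup.centralizer (Cfsg.pCore p ↥M₂ : Set ↥M₂) ≤ Cfsg.pCore p ↥M₂ ∧ (Cfsg.pCore p ↥M₁).map M₁.subtype ⊔ (Cfsg.pCore p ↥M₂).map M₂.subtype ≤ M₁ ⊓ M₂ := by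
  -- no non-trivial subgroup is normal in both members
  have hboth : ∀ A : Subgroup G, A ≤ M₁ ⊓ M₂ → M₁ ≤ normalizer (A : Set G) → M₂ ≤ normalizer (A : Set G) →
      A = ⊥ := fun A hA hn₁ hn₂ => by
    by_contra h
    have e₁ := (hP A h hA).1 hn₁
    have e₂ := (hP A h hA).2 hn₂
    rw [inf_eq_left.mpr hn₂] at e₁
    rw [inf_eq_left.mpr hn₁] at e₂
    exact hne (e₂.trans e₁.symm)
  have hlayer : (layer M₁).map M₁.subtype = (layer M₂).map M₂.subtype := le_antisymm
    (map_layer_le_of_forall fun L hL => component_transfer ((map_mono layer_le_fstar).trans h₁) h₂ hL)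
    (map_layer_le_of_forall fun L hL => component_transfer ((map_mono layer_le_fstar).trans h₂) h₁ hL)
  have hE : (layer M₁).map M₁.subtype = ⊥ := by
    refine hboth _ (le_inf (map_subtype_le _) ((map_mono layer_le_fstar).trans h₁))
      (le_normalizer.trans (normalizer_le_normalizer_map_subtype M₁ _)) ?_
    rw [hlayer]
    exact le_normalizer.trans (normalizer_le_normalizer_map_subtype M₂ _)
  have hE₁ : layer M₁ = ⊥ := (map_eq_bot_iff_of_injective _ M₁.subtype_injective).mp hE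
  have hE₂ : layer M₂ = ⊥ := (map_eq_bot_iff_of_injective _ M₂.subtype_injective).mp (hlayer ▸ hE)
  have h₁' : fitOf M₁ ≤ M₂ := (map_mono fitting_le_fstar).trans h₁
  have h₂' : fitOf M₂ ≤ M₁ := (map_mono fitting_le_fstar).trans h₂
  have hiff : ∀ t : Nat.Primes, coreOf (t : ℕ) M₁ = ⊥ ↔ coreOf (t : ℕ) M₂ = ⊥ := fun t =>
    haveI := Fact.mk t.2
    ⟨coreOf_le_coreOf_of_ne_bot h₂' h₁' hE₁, coreOf_le_coreOf_of_ne_bot h₁' h₂' hE₂⟩
  -- if all cores are trivial, so is the group
  have hbot : ∀ K : Subgroup G, layer K = ⊥ → (∀ t : Nat.Primes, coreOf (t : ℕ) K = ⊥) → K = ⊥ := by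
    intro K hK h
    have hF : fitOf K = ⊥ := by rw [fitOf_eq_iSup]; exact iSup_eq_bot.mpr h
    have h' := inf_centralizer_fitOf_le hK
    rw [hF] at h'
    refine (eq_bot_iff_forall K).mpr fun x hx => mem_bot.mp (h' ⟨hx, mem_centralizer_iff.mpr fun y hy => ?_⟩)
    rw [coe_bot, Set.mem_singleton_iff] at hy
    simp [hy]
  obtain ⟨⟨p, hp⟩, hp₁⟩ : ∃ t : Nat.Primes, coreOf (t : ℕ) M₁ ≠ ⊥ := by
    by_contra hcon
    push Not at hcon
    exact hne ((hbot _ hE₁ hcon).trans (hbot _ hE₂ fun t => (hiff t).mp (hcon t)).symm)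
  haveI := Fact.mk hp
  have hin₁ : ∀ t : ℕ, t.Prime → coreOf t M₁ ≤ M₁ ⊓ M₂ := fun t ht =>
    haveI := Fact.mk ht
    le_inf (map_subtype_le _) ((coreOf_le_fitOf M₁).trans h₁')
  have hin₂ : ∀ t : ℕ, t.Prime → coreOf t M₂ ≤ M₁ ⊓ M₂ := fun t ht =>
    haveI := Fact.mk ht
    le_inf ((coreOf_le_fitOf M₂).trans h₂') (map_subtype_le _)
  have honly : ∀ t : Nat.Primes, (t : ℕ) ≠ p → coreOf (t : ℕ) M₁ = ⊥ := by
    intro t htp
    by_contra htM
    haveI := Fact.mk t.2
    have h3 : coreOf p M₂ ≤ coreOf p M₁ := coreOf_le_coreOf_pair htp h₁' h₂' hE₁ (by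
      rw [(hP _ (fun h => htM ((hiff t).mpr h)) (hin₂ _ t.2)).2 (coreOf_normalizer _ _)]
      exact inf_le_right)
    have h4 : coreOf p M₁ ≤ coreOf p M₂ := coreOf_le_coreOf_pair htp h₂' h₁' hE₂ (by
      rw [(hP _ htM (hin₁ _ t.2)).1 (coreOf_normalizer _ _)]
      exact inf_le_left)
    exact hp₁ (hboth _ (hin₁ p hp) (coreOf_normalizer p M₁)
      (le_antisymm h4 h3 ▸ coreOf_normalizer p M₂))
  have key : ∀ K : Subgroup G, layer K = ⊥ → (∀ t : Nat.Primes, (t : ℕ) ≠ p → coreOf (t : ℕ) K = ⊥) →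
      centralizer (pCore p K : Set K) ≤ pCore p K := by
    intro K hK hcore
    have hF : generalizedFittingSubgroup K ≤ pCore p K := by
      rw [generalizedFittingSubgroup, hK, bot_sup_eq, fittingSubgroup_eq_iSup_pCore]
      refine iSup_le fun t => ?_
      by_cases htp : (t : ℕ) = p
      · rw [htp]
      · rw [(map_eq_bot_iff_of_injective _ K.subtype_injective).mp (hcore t htp)]; exact bot_le
    exact (centralizer_le hF).trans (centralizer_fstar_le_fitting.trans (fitting_le_fstar.trans hF))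
  exact ⟨p, hp, key M₁ hE₁ honly, key M₂ hE₂ fun t ht => (hiff t).mp (honly t ht),
    sup_le (hin₁ p hp) (hin₂ p hp)⟩

end Cfsg.Agent.S3752
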