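import Cfsg.Statements.S3753
import Cfsg.Agent.Lib.KInf.Overgroup
import Cfsg.Agent.Lib.KInf.Control

set_option autoImplicit false
open Cfsg
open CfsgLib.KInf CfsgLib.Techniques

namespace Cfsg.Agent.S3753

universe v

/-- Facts on the core of a constrained subgroup, read in the ambient group. -/
theorem core_facts {G : Type v} [Group G] [Finite G] (p : ℕ) [Fact p.Prime] (M : Subgroup G) :
    IsPGroup p ↥((Cfsg.pCore p ↥M).map M.subtype) ∧
      M ≤ Subgroup.normalizer (((Cfsg.pCore p ↥M).map M.subtype : Subgroup G) : Set G) := by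
  refine ⟨(CfsgLib.Base.isPGroup_pCore p M).map M.subtype, fun m hm => ?_⟩
  refine Subgroup.mem_normalizer_fintype fun x hx => ?_
  obtain ⟨q, hq, rfl⟩ := hx
  haveI : (Cfsg.pCore p ↥M).Normal := Subgroup.sSup_normal _ fun N hN => hN.1
  exact ⟨⟨m, hm⟩ * q * ⟨m, hm⟩⁻¹, Subgroup.Normal.conj_mem inferInstance q hq _, rfl⟩

/-- The functor of a subgroup between the core and `M` is normalised by `M`. -/
theorem le_normalizer_kInf {G : Type v} [Group G] [Finite G] {p : ℕ} [Fact p.Prime] (hp : p ≠ 2)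
    {M P : Subgroup G} (hab : ∀ T : Sylow 2 ↥M, IsMulCommutative (T : Subgroup ↥M))
    (hc : Subgroup.centralizer (Cfsg.pCore p ↥M : Set ↥M) ≤ Cfsg.pCore p ↥M)
    (hP : IsPGroup p P) (hQP : (Cfsg.pCore p ↥M).map M.subtype ≤ P) (hPM : P ≤ M) :
    M ≤ Subgroup.normalizer ((inducedFunctor Cfsg.kInfLower.{v} P : Subgroup G) : Set G) := by
  have hn := kInfLower_normal_of_pCore_le hp
    (CfsgLib.OddOrder.InvolvesSL2.not_of_abelian_sylow_two hp hab) hc (S := P.subgroupOf M)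
    fun q hq => hQP ⟨q, hq, rfl⟩
  have e := inducedFunctor_map_of_injective (isCharPFunctor_kInfLower.{v} p)
    (hP.comap_subtype (K := M) : IsPGroup p ↥(P.subgroupOf M)) M.subtype_injective
  rw [Subgroup.map_comap_eq, Subgroup.range_subtype, inf_eq_right.mpr hPM] at e
  rw [e]
  intro m hm
  refine Subgroup.mem_normalizer_fintype fun x hx => ?_
  obtain ⟨q, hq, rfl⟩ := hx
  exact ⟨⟨m, hm⟩ * q * ⟨m, hm⟩⁻¹, hn.conj_mem q hq _, rfl⟩

/-- Two distinct subgroups M₁, M₂ of G form a primitive pair when, for {i, j} = {1, 2}, every non-trivial normal subgroup A of M_i contained in M₁ ∩ M₂ satisfies N_{M_j}(A) = M₁ ∩ M₂; the pair has characteristic p when moreover C_{M_i}(O_p(M_i)) ≤ O_p(M_i) for both i and O_p(M₁)O_p(M₂) ≤ M₁ ∩ M₂. If the finite group G has a primitive pair (M₁, M₂) of characteristic p for some prime p, then M₁ or M₂ has non-abelian Sylow 2-subgroups. In particular no group of odd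 order has a primitive pair of characteristic p. -/
theorem result {G : Type*} [Group G] [Finite G] {p : ℕ} [Fact p.Prime] (M₁ M₂ : Subgroup G) (hne : M₁ ≠ M₂) (hP : ∀ A : Subgroup G, A ≠ ⊥ → A ≤ M₁ ⊓ M₂ → (M₁ ≤ Subgroup.normalizer (A : Set G) → M₂ ⊓ Subgroup.normalizer (A : Set G) = M₁ ⊓ M₂) ∧ (M₂ ≤ Subgroup.normalizer (A : Set G) → M₁ ⊓ Subgroup.normalizer (A : Set G) = M₁ ⊓ M₂)) (hc₁ : Subgroup.centralizer (Cfsg.pCore p ↥M₁ : Set ↥M₁) ≤ Cfsg.pCore p ↥M₁) (hc₂ : Subgroup.centralizer (Cfsg.pCore p ↥M₂ : Set ↥M₂) ≤ Cfsg.pCore p ↥M₂) (hO : (Cfsg.pCore p ↥M₁).map M₁.subtype ⊔ (Cfsg.pCore p ↥M₂).map M₂.subtype ≤ M₁ ⊓ M₂) : (∃ S : Sylow 2 ↥M₁, ¬ IsMulCommutative (S : Subgroup ↥M₁)) ∨ (∃ S : Sylow 2 ↥M₂, ¬ IsMulCommutative (S : Subgroup ↥M₂)) := by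
  by_contra hcon
  push Not at hcon
  obtain ⟨hab₁, hab₂⟩ := hcon
  obtain ⟨hQ₁, hn₁⟩ := core_facts p M₁
  obtain ⟨hQ₂, hn₂⟩ := core_facts p M₂
  set Q₁ := (Cfsg.pCore p ↥M₁).map M₁.subtype with hQ₁def
  set Q₂ := (Cfsg.pCore p ↥M₂).map M₂.subtype with hQ₂def
  have hQ₁I : Q₁ ≤ M₁ ⊓ M₂ := le_sup_left.trans hO
  have hQ₂I : Q₂ ≤ M₁ ⊓ M₂ := le_sup_right.trans hO
  have hbot : ∀ M : Subgroup G,
      Subgroup.centralizer (Cfsg.pCore p ↥M : Set ↥M) ≤ Cfsg.pCore p ↥M →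
      (Cfsg.pCore p ↥M).map M.subtype = ⊥ → M = ⊥ := by
    intro M hc h
    rw [Subgroup.map_eq_bot_iff_of_injective _ M.subtype_injective] at h
    rw [h] at hc
    rw [Subgroup.eq_bot_iff_forall]
    intro x hx
    have hmem : (⟨x, hx⟩ : M) ∈ Subgroup.centralizer ((⊥ : Subgroup M) : Set M) := fun y hy => by
      rw [SetLike.mem_coe, Subgroup.mem_bot] at hy
      simp [hy]
    exact congrArg Subtype.val (Subgroup.mem_bot.mp (hc hmem))
  have hQne : Q₁ ⊔ Q₂ ≠ ⊥ := fun h => by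
    rw [sup_eq_bot_iff] at h
    exact hne ((hbot M₁ hc₁ h.1).trans (hbot M₂ hc₂ h.2).symm)
  have hend : ∀ A : Subgroup G, A ≠ ⊥ → A ≤ M₁ ⊓ M₂ → M₁ ≤ Subgroup.normalizer (A : Set G) →
      M₂ ≤ Subgroup.normalizer (A : Set G) → False := by
    intro A hA hAI h1 h2
    obtain ⟨e1, e2⟩ := hP A hA hAI
    have e1' := e1 h1
    have e2' := e2 h2
    rw [inf_eq_left.mpr h2] at e1'
    rw [inf_eq_left.mpr h1] at e2'
    exact hne (e2'.trans e1'.symm)
  rcases eq_or_ne p 2 with rfl | hp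
  · have hcomm : ∀ (M : Subgroup G), (∀ T : Sylow 2 ↥M, IsMulCommutative (T : Subgroup ↥M)) →
        Q₁ ⊔ Q₂ ≤ M → ∀ a ∈ Q₁, ∀ b ∈ Q₂, a * b = b * a := by
      intro M hab hle a ha b hb
      have hp0 : IsPGroup 2 ↥(Q₁ ⊔ Q₂) := hQ₁.to_sup_of_normal_left' hQ₂
        ((hQ₂I.trans inf_le_left).trans hn₁)
      obtain ⟨T, hT⟩ := (hp0.comap_subtype (K := M) :
        IsPGroup 2 ↥((Q₁ ⊔ Q₂).subgroupOf M)).exists_le_sylow
      have := hab T
      exact congrArg Subtype.val (CfsgLib.PLocal.comm_of_mem this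
        (hT (show (⟨a, hle (Subgroup.mem_sup_left ha)⟩ : M) ∈ _ from Subgroup.mem_sup_left ha))
        (hT (show (⟨b, hle (Subgroup.mem_sup_right hb)⟩ : M) ∈ _ from Subgroup.mem_sup_right hb)))
    have hc := hcomm M₁ hab₁ (hO.trans inf_le_left)
    have h21 : Q₂ ≤ Q₁ := fun b hb => by
      refine ⟨⟨b, (hQ₂I hb).1⟩, hc₁ ?_, rfl⟩
      intro q hq
      exact Subtype.ext (hc _ ⟨q, hq, rfl⟩ b hb)
    have h12 : Q₁ ≤ Q₂ := fun a ha => by
      refine ⟨⟨a, (hQ₁I ha).2⟩, hc₂ ?_, rfl⟩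
      intro q hq
      exact Subtype.ext (hc a ha _ ⟨q, hq, rfl⟩).symm
    refine hend Q₁ (fun h => hQne ?_) hQ₁I hn₁ (le_antisymm h12 h21 ▸ hn₂)
    rw [← le_antisymm h12 h21, sup_idem, h]
  · have hp0 : IsPGroup p ↥(Q₁ ⊔ Q₂) := hQ₁.to_sup_of_normal_left' hQ₂
      ((hQ₂I.trans inf_le_left).trans hn₁)
    have hW := isConjugacyFunctor_induced (G := G) (isCharPFunctor_kInfLower p)
    refine hend _ (functor_ne_bot hW hp0 hQne)
      ((inducedFunctor_le _ _).trans hO)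
      (le_normalizer_kInf hp hab₁ hc₁ hp0 le_sup_left (hO.trans inf_le_left))
      (le_normalizer_kInf hp hab₂ hc₂ hp0 le_sup_right (hO.trans inf_le_right))

end Cfsg.Agent.S3753
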