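import Cfsg.Statements.S3754
import Mathlib
import Cfsg.Agent.Lib.PLocal.HyperplaneWitness
import Cfsg.Agent.Lib.FgsC.HallHigmanB
import Cfsg.Agent.Lib.PGroups.Basic

set_option autoImplicit false
open Cfsg

namespace Cfsg.Agent.S3754

/-- Let M be a finite p-soluble group and A a p-subgroup of M with Φ(A) ≤ O_p(M) but A ≰ O_p(M). Then there is x ∈ O_{p,p'}(M) such that L = ⟨A, xAx⁻¹⟩ satisfies: x ∈ O^p(L) and O^p(L) ≤ O_{p,p'}(M); [O^p(L), A] = O^p(L); A ∩ O_p(L) has index p in A; and [A ∩ O_p(L), L] ≤ O_p(M). Here O^p(L) is the subgroup generated by the p'-elements of L and O_{p,p'}(M) the preimage of O_{p'}(M/O_p(M)). -/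
theorem result {M : Type*} [Group M] [Finite M] {p : ℕ} [Fact p.Prime] (hM : Cfsg.IsPSolvable p M) (A : Subgroup M) (hA : IsPGroup p A) (hΦ : (frattini ↥A).map A.subtype ≤ Cfsg.pCore p M) (hnot : ¬ A ≤ Cfsg.pCore p M) : ∃ x ∈ (Cfsg.pPrimeCore p (M ⧸ Cfsg.pCore p M)).comap (QuotientGroup.mk' (Cfsg.pCore p M)), x ∈ (Cfsg.pResidual p ↥(A ⊔ A.map (MulAut.conj x).toMonoidHom)).map (A ⊔ A.map (MulAut.conj x).toMonoidHom).subtype ∧ (Cfsg.pResidual p ↥(A ⊔ A.map (MulAut.conj x).toMonoidHom)).map (A ⊔ A.map (MulAut.conj x).toMonoidHom).subtype ≤ (Cfsg.pPrimeCore p (M ⧸ Cfsg.pCore p M)).comap (QuotientGroup.mk' (Cfsg.pCore p M)) ∧ ⁅(Cfsg.pResidual p ↥(A ⊔ A.map (MulAut.conj x).toMonoidHom)).map (A ⊔ A.map (MulAut.conj x).toMonoidHom).subtype, A⁆ = (Cfsg.pResidual p ↥(A ⊔ A.map (MulAut.conj x).toMonoidHom)).map (A ⊔ A.map (MulAut.conj x).toMonoidHom).subtype ∧ (A ⊓ (Cfsg.pCore p ↥(A ⊔ A.map (MulAut.conj x).toMonoidHom)).map (A ⊔ A.map (MulAut.conj x).toMonoidHom).subtype).relIndex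 A = p ∧ ⁅A ⊓ (Cfsg.pCore p ↥(A ⊔ A.map (MulAut.conj x).toMonoidHom)).map (A ⊔ A.map (MulAut.conj x).toMonoidHom).subtype, A ⊔ A.map (MulAut.conj x).toMonoidHom⁆ ≤ Cfsg.pCore p M := by
  classical
  open scoped commutatorElement in
  have main : ∃ x ∈ (Cfsg.pPrimeCore p (M ⧸ Cfsg.pCore p M)).comap (QuotientGroup.mk' (Cfsg.pCore p M)),
      ∀ (L E : Subgroup M), L = A ⊔ A.map (MulAut.conj x).toMonoidHom →
        E = (Cfsg.pResidual p ↥L).map L.subtype →
        x ∈ E ∧ E ≤ (Cfsg.pPrimeCore p (M ⧸ Cfsg.pCore p M)).comap (QuotientGroup.mk' (Cfsg.pCore p M)) ∧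
        ⁅E, A⁆ = E ∧ (A ⊓ (Cfsg.pCore p ↥L).map L.subtype).relIndex A = p ∧
        ⁅A ⊓ (Cfsg.pCore p ↥L).map L.subtype, L⁆ ≤ Cfsg.pCore p M := by
    have hp : p.Prime := Fact.out
    set O := Cfsg.pCore p M with hO
    haveI : O.Normal := Cfsg.pCore_normal p M
    set π := QuotientGroup.mk' O with hπ
    have hπs : Function.Surjective π := QuotientGroup.mk'_surjective O
    have hker : ∀ z : M, π z = 1 ↔ z ∈ O := fun z => QuotientGroup.eq_one_iff z
    set K := Cfsg.pPrimeCore p (M ⧸ O) with hK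
    haveI : K.Normal := Cfsg.pPrimeCore_normal p _
    set Ab := A.map π with hAb
    have hexp : ∀ a ∈ Ab, a ^ p = 1 := by
      rintro _ ⟨a, ha, rfl⟩
      rw [← map_pow, hker]
      exact hΦ ⟨_, CfsgLib.PGroups.pow_mem_frattini hA ⟨a, ha⟩, rfl⟩
    haveI hAbc : IsMulCommutative Ab := ⟨⟨by
      rintro ⟨_, a, ha, rfl⟩ ⟨_, b, hb, rfl⟩
      refine Subtype.ext ?_
      show π a * π b = π b * π a
      rw [← commutatorElement_eq_one_iff_mul_comm, ← map_commutatorElement, hker]
      refine hΦ ⟨⁅(⟨a, ha⟩ : A), ⟨b, hb⟩⁆, CfsgLib.PGroups.commutator_le_frattini hA ?_, rfl⟩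
      rw [_root_.commutator_def]
      exact Subgroup.commutator_mem_commutator (Subgroup.mem_top _) (Subgroup.mem_top _)⟩⟩
    have hAbp : IsPGroup p Ab := fun a => ⟨1, Subtype.ext (by simpa using hexp _ a.2)⟩
    have hKc : (Nat.card K).Coprime p := CfsgLib.Base.pPrimeCore_coprime p _
    have hcop : ∀ P : Subgroup (M ⧸ O), IsPGroup p P → (Nat.card P).Coprime (Nat.card K) := by
      intro P hP
      obtain ⟨n, hn⟩ := IsPGroup.iff_card.1 hP
      exact hn ▸ Nat.Coprime.pow_left n hKc.symm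
    have hnotc : ¬ Ab ≤ Subgroup.centralizer (K : Set (M ⧸ O)) := by
      intro h
      have h1 : Ab ≤ K := h.trans (CfsgLib.FgsC.HallHigmanB.centralizer_pPrimeCore_le
        (CfsgLib.PLocal.isPSolvable_quotient hM O) (CfsgLib.Base.pCore_quotient_pCore p M))
      exact hnot (CfsgLib.Base.map_mk'_eq_bot_iff.1 (Subgroup.eq_bot_of_card_eq _
        (Nat.eq_one_of_dvd_coprimes (hcop Ab hAbp) dvd_rfl (Subgroup.card_dvd_of_le h1))))
    obtain ⟨B, a, c, hB, ha, haB, hBa, hcard, hc, hne⟩ := CfsgLib.PLocal.exists_hyperplane_witness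
      hexp ((le_top).trans_eq (Subgroup.normalizer_eq_top K).symm) (hcop Ab hAbp) hnotc
    -- a minimal `a`-invariant subgroup on which `a` acts nontrivially
    let S : Set (Subgroup (M ⧸ O)) := {D | D ≤ K ⊓ Subgroup.centralizer (B : Set (M ⧸ O)) ∧
      a ∈ Subgroup.normalizer (D : Set (M ⧸ O)) ∧ ∃ x ∈ D, a * x ≠ x * a}
    have haC : a ∈ Subgroup.centralizer (B : Set (M ⧸ O)) := Subgroup.mem_centralizer_iff.2 fun b hb =>
      congrArg Subtype.val (mul_comm' (⟨b, hB hb⟩ : Ab) ⟨a, ha⟩)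
    have hSne : S.Nonempty := ⟨K ⊓ Subgroup.centralizer (B : Set (M ⧸ O)), le_rfl,
      Subgroup.mem_normalizer_fintype fun z hz =>
        ⟨(inferInstance : K.Normal).conj_mem _ hz.1 a,
          (Subgroup.centralizer (B : Set (M ⧸ O))).mul_mem
            ((Subgroup.centralizer (B : Set (M ⧸ O))).mul_mem haC hz.2)
            ((Subgroup.centralizer (B : Set (M ⧸ O))).inv_mem haC)⟩, c, hc, hne⟩
    obtain ⟨D, ⟨hDle, haD, hDne⟩, hDmin⟩ := Set.Finite.exists_minimalFor id S (Set.toFinite S) hSne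
    have hDK : D ≤ K := hDle.trans inf_le_left
    let cl : M ⧸ O → Subgroup (M ⧸ O) := fun x =>
      Subgroup.closure (Set.range fun i : ℤ => a ^ i * (x * a * x⁻¹ * a⁻¹) * (a ^ i)⁻¹)
    obtain ⟨xb, hxb, hxcl⟩ : ∃ xb ∈ D, cl xb = D := by
      by_contra h
      push Not at h
      obtain ⟨x₀, hx₀, hx₀ne⟩ := hDne
      refine hx₀ne ?_
      have hcl : cl x₀ ≤ D := by
        rw [Subgroup.closure_le]
        rintro _ ⟨i, rfl⟩
        refine (Subgroup.mem_normalizer_iff.1 (zpow_mem haD i) _).1 ?_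
        rw [mul_assoc x₀ a, mul_assoc x₀]
        exact D.mul_mem hx₀ ((Subgroup.mem_normalizer_iff.1 haD _).1 (D.inv_mem hx₀))
      have hclN : a ∈ Subgroup.normalizer (cl x₀ : Set (M ⧸ O)) := by
        refine Subgroup.mem_normalizer_fintype fun z hz => ?_
        have hle : cl x₀ ≤ (cl x₀).comap (MulAut.conj a).toMonoidHom := by
          rw [Subgroup.closure_le]
          rintro _ ⟨i, rfl⟩
          refine Subgroup.subset_closure ⟨i + 1, ?_⟩
          show a ^ (i + 1) * _ * (a ^ (i + 1))⁻¹ = a * (a ^ i * _ * (a ^ i)⁻¹) * a⁻¹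
          rw [show i + 1 = 1 + i by ring, zpow_add, zpow_one]; group
        exact hle hz
      by_contra hne2
      set z := x₀ * a * x₀⁻¹ * a⁻¹ with hz
      have hzc : z ∈ cl x₀ := Subgroup.subset_closure ⟨0, by simp [hz]⟩
      have haz : Commute a z := by
        by_contra hnc
        exact h x₀ hx₀ (le_antisymm hcl (hDmin ⟨hcl.trans hDle, hclN, z, hzc, hnc⟩ hcl))
      have h1 : (z * a) ^ p = 1 := by
        rw [hz, inv_mul_cancel_right, conj_pow, hexp a ha, mul_one, mul_inv_cancel]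
      rw [haz.symm.mul_pow, hexp a ha, mul_one] at h1
      have h2 : z = 1 := orderOf_eq_one_iff.1 (Nat.eq_one_of_dvd_coprimes
        (hKc.coprime_dvd_left ((Subgroup.orderOf_mk z (hDK (hcl hzc))) ▸
          orderOf_dvd_natCard (⟨z, hDK (hcl hzc)⟩ : K))) dvd_rfl (orderOf_dvd_of_pow_eq_one h1))
      rw [hz, mul_inv_eq_one, mul_inv_eq_iff_eq_mul] at h2
      exact hne2 h2.symm
    -- a lift with smallest `L`
    let conjA : M → Subgroup M := fun x => A ⊔ A.map (MulAut.conj x).toMonoidHom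
    have hDL' : ∀ x, π x = xb → D ≤ (conjA x).map π := by
      intro x hx
      have hAL : Ab ≤ (conjA x).map π := Subgroup.map_mono le_sup_left
      have hconjAb : xb * a * xb⁻¹ ∈ (conjA x).map π := by
        obtain ⟨w, hw, hwa⟩ := ha
        exact ⟨x * w * x⁻¹, Subgroup.mem_sup_right ⟨w, hw, rfl⟩, by
          rw [map_mul, map_mul, map_inv, hx, hwa]⟩
      rw [← hxcl, Subgroup.closure_le]
      rintro _ ⟨i, rfl⟩
      exact ((conjA x).map π).mul_mem (((conjA x).map π).mul_mem (((conjA x).map π).zpow_mem (hAL ha) i)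
        (((conjA x).map π).mul_mem hconjAb (((conjA x).map π).inv_mem (hAL ha))))
        (((conjA x).map π).inv_mem (((conjA x).map π).zpow_mem (hAL ha) i))
    obtain ⟨x₀, hx₀, hxmin⟩ := Set.Finite.exists_minimalFor conjA {x : M | π x = xb} (Set.toFinite _)
      (hπs xb)
    replace hx₀ : π x₀ = xb := hx₀
    obtain ⟨y, hy, hyx⟩ := hDL' x₀ hx₀ hxb
    obtain ⟨k, m, hm, hkm⟩ := Nat.exists_eq_pow_mul_and_not_dvd
      (Nat.pos_iff_ne_zero.1 (orderOf_pos y)) p hp.ne_one
    have hcm : (p ^ k).Coprime m := Nat.Coprime.pow_left k (hp.coprime_iff_not_dvd.2 hm)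
    obtain ⟨e, he1, he2⟩ := Nat.chineseRemainder hcm 0 1
    have hxord : (orderOf xb).Coprime p := hKc.coprime_dvd_left
      ((Subgroup.orderOf_mk xb (hDK hxb)) ▸ orderOf_dvd_natCard (⟨xb, hDK hxb⟩ : K))
    have hdm : orderOf xb ∣ m := by
      refine (hxord.pow_right k).dvd_of_dvd_mul_left ?_
      rw [← hkm, ← hyx]
      exact orderOf_map_dvd π y
    set x := y ^ e with hxdef
    have hxc : (orderOf x).Coprime p := by
      refine (hp.coprime_iff_not_dvd.2 fun h => hm (h.trans ?_)).symm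
      refine orderOf_dvd_of_pow_eq_one ?_
      rw [hxdef, ← pow_mul, ← orderOf_dvd_iff_pow_eq_one, hkm]
      exact Nat.mul_dvd_mul_right (Nat.modEq_zero_iff_dvd.1 he1) m
    have hx : π x = xb := by
      rw [hxdef, map_pow, hyx, ← pow_mod_orderOf, show e % orderOf xb = 1 % orderOf xb from
        Nat.ModEq.of_dvd hdm he2, pow_mod_orderOf, pow_one]
    have hxL : x ∈ conjA x := by
      have hx0 : x ∈ conjA x₀ := (conjA x₀).pow_mem hy e
      have hle : conjA x ≤ conjA x₀ := by
        refine sup_le le_sup_left ?_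
        rintro _ ⟨w, hw, rfl⟩
        exact (conjA x₀).mul_mem ((conjA x₀).mul_mem hx0 (Subgroup.mem_sup_left hw))
          ((conjA x₀).inv_mem hx0)
      exact hxmin hx hle hx0
    refine ⟨x, show π x ∈ K from hx.symm ▸ hDK hxb, ?_⟩
    intro L E hL hE
    have hAle : A ≤ L := hL ▸ le_sup_left
    have hAL : Ab ≤ L.map π := Subgroup.map_mono hAle
    have hDL : D ≤ L.map π := hL ▸ hDL' x hx
    have hAbD : Ab ≤ Subgroup.normalizer (D : Set (M ⧸ O)) := by
      rw [← hBa]
      refine sup_le (fun b hb => Subgroup.mem_normalizer_fintype fun z hz => ?_) (Subgroup.zpowers_le.2 haD)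
      rw [Subgroup.mem_centralizer_iff.1 (hDle hz).2 b hb, mul_inv_cancel_right]
      exact hz
    have hLle : L.map π ≤ Ab ⊔ D := by
      rw [hL, Subgroup.map_sup]
      refine sup_le le_sup_left ?_
      rintro _ ⟨_, ⟨w, hw, rfl⟩, rfl⟩
      rw [MulEquiv.coe_toMonoidHom, MulAut.conj_apply, map_mul, map_mul, map_inv, hx]
      exact (Ab ⊔ D).mul_mem ((Ab ⊔ D).mul_mem (Subgroup.mem_sup_right hxb)
        (Subgroup.mem_sup_left ⟨w, hw, rfl⟩)) ((Ab ⊔ D).inv_mem (Subgroup.mem_sup_right hxb))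
    have hBcen : ∀ b ∈ B, ∀ g ∈ L.map π, b * g = g * b := by
      intro b hb g hg
      have hle : Ab ⊔ D ≤ Subgroup.centralizer {b} := sup_le
        (fun w hw => Subgroup.mem_centralizer_singleton_iff.2
          (congrArg Subtype.val (mul_comm' (⟨w, hw⟩ : Ab) ⟨b, hB hb⟩)))
        (fun z hz => Subgroup.mem_centralizer_singleton_iff.2
          (Subgroup.mem_centralizer_iff.1 (hDle hz).2 b hb).symm)
      exact (Subgroup.mem_centralizer_singleton_iff.1 (hle (hLle hg))).symm
    -- the residual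
    have hgen : ∀ g ∈ L, (orderOf g).Coprime p → g ∈ E := by
      intro g hg hgc
      rw [hE]
      exact ⟨⟨g, hg⟩, Subgroup.subset_closure (show (orderOf (⟨g, hg⟩ : L)).Coprime p by
        rwa [Subgroup.orderOf_mk]), rfl⟩
    have hEgen : ∀ (T : Subgroup M), (∀ g ∈ L, (orderOf g).Coprime p → g ∈ T) → E ≤ T := by
      intro T hT
      rw [hE, Subgroup.map_le_iff_le_comap]
      refine (Subgroup.closure_le _).2 fun g hg => hT g g.2 ?_
      rwa [Subgroup.orderOf_coe]
    have hEL : E ≤ L := hE ▸ Subgroup.map_subtype_le _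
    have hxLm : x ∈ L := hL ▸ hxL
    have hxE : x ∈ E := hgen x hxLm hxc
    have hLN : L ≤ Subgroup.normalizer (E : Set M) := by
      intro l hl
      refine Subgroup.mem_normalizer_fintype fun g hg => ?_
      have hle : E ≤ E.comap (MulAut.conj l).toMonoidHom := hEgen _ fun g hg hgc => hgen _
        (L.mul_mem (L.mul_mem hl hg) (L.inv_mem hl)) (by
          show (orderOf (MulAut.conj l g)).Coprime p
          rwa [MulEquiv.orderOf_eq])
      exact hle hg
    -- quotients of `L` that are `p`-groups contain no image of `E`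
    have hres : ∀ (T : Subgroup M), T ≤ L → L ≤ Subgroup.normalizer (T : Set M) → L ≤ T ⊔ A → E ≤ T := by
      intro T hTL hLT hLTA
      refine hEgen T fun g hg hgc => ?_
      haveI : (T.subgroupOf L).Normal := Subgroup.normal_subgroupOf_of_le_normalizer hLT
      set q := QuotientGroup.mk' (T.subgroupOf L)
      have h1 : q ⟨g, hg⟩ ∈ (A.subgroupOf L).map q := by
        have h2 : g ∈ T ⊔ A := hLTA hg
        obtain ⟨t, ht, w, hw, htw⟩ : ∃ t ∈ T, ∃ w ∈ A, t * w = g := by
          rw [sup_comm, CfsgLib.Coprime.mem_sup_iff_of_le_normalizer (hAle.trans hLT)] at h2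
          obtain ⟨w, hw, t, ht, h3⟩ := h2
          exact ⟨w * t * w⁻¹, (Subgroup.mem_normalizer_iff.1 (hLT (hAle hw)) t).1 ht, w, hw,
            by rw [inv_mul_cancel_right, h3]⟩
        refine ⟨⟨w, hAle hw⟩, hw, QuotientGroup.eq.2 ?_⟩
        rw [Subgroup.mem_subgroupOf]
        show w⁻¹ * g ∈ T
        rw [← htw, ← mul_assoc]
        exact (Subgroup.mem_normalizer_iff''.1 (hLT (hAle hw)) t).1 ht
      have h3 : IsPGroup p ((A.subgroupOf L).map q) :=
        (hA.of_equiv (Subgroup.subgroupOfEquivOfLe hAle).symm).map q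
      obtain ⟨n, hn⟩ := h3 ⟨_, h1⟩
      have h4 : q ⟨g, hg⟩ = 1 := orderOf_eq_one_iff.1 (Nat.eq_one_of_dvd_coprimes
        (hgc.pow_right n) ((orderOf_map_dvd q _).trans (by rw [Subgroup.orderOf_mk]))
        (orderOf_dvd_of_pow_eq_one (congrArg Subtype.val hn)))
      have h5 := (QuotientGroup.eq_one_iff _).1 h4
      exact Subgroup.mem_subgroupOf.1 h5
    -- `[E, A] = E`
    have hEA : ⁅E, A⁆ = E := by
      have hle : ⁅E, A⁆ ≤ E := CfsgLib.Coprime.commutator_le_of_le_normalizer (hAle.trans hLN)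
      refine le_antisymm hle (hres _ (hle.trans hEL) ?_ ?_)
      · rw [hL]
        refine sup_le (Subgroup.normalizer_commutator_ge_right E A) ?_
        rintro _ ⟨w, hw, rfl⟩
        have h1 := Subgroup.normalizer_commutator_ge_left E A hxE
        exact (Subgroup.normalizer _).mul_mem ((Subgroup.normalizer _).mul_mem h1
          (Subgroup.normalizer_commutator_ge_right E A hw)) ((Subgroup.normalizer _).inv_mem h1)
      · rw [hL]
        refine sup_le le_sup_right ?_
        rintro _ ⟨w, hw, rfl⟩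
        have h1 := Subgroup.mul_mem_sup (Subgroup.commutator_mem_commutator hxE hw) hw
        rw [commutatorElement_def, inv_mul_cancel_right] at h1
        exact h1
    -- `E ≤ O_{p,p'}(M)`
    have hEK : E ≤ K.comap π := by
      intro z hz
      have h1 : E ≤ L ⊓ K.comap π := by
        refine hres _ inf_le_left ?_ ?_
        · intro l hl
          refine Subgroup.mem_normalizer_fintype fun g hg => ⟨L.mul_mem (L.mul_mem hl hg.1) (L.inv_mem hl), ?_⟩
          exact (inferInstance : (K.comap π).Normal).conj_mem _ hg.2 l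
        · rw [hL]
          refine sup_le le_sup_right ?_
          rintro _ ⟨w, hw, rfl⟩
          have h2 : x * w * x⁻¹ * w⁻¹ ∈ A ⊔ A.map (MulAut.conj x).toMonoidHom :=
            (A ⊔ A.map (MulAut.conj x).toMonoidHom).mul_mem (Subgroup.mem_sup_right ⟨w, hw, rfl⟩)
              (Subgroup.mem_sup_left (A.inv_mem hw))
          have h3 : π (x * w * x⁻¹ * w⁻¹) ∈ K := by
            rw [map_mul, map_mul, map_mul, map_inv, map_inv, hx, mul_assoc xb (π w), mul_assoc xb]
            exact K.mul_mem (hDK hxb) ((inferInstance : K.Normal).conj_mem _ (K.inv_mem (hDK hxb)) _)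
          have h4 := Subgroup.mul_mem_sup (S := (A ⊔ A.map (MulAut.conj x).toMonoidHom) ⊓ K.comap π)
            ⟨h2, h3⟩ hw
          rwa [inv_mul_cancel_right] at h4
      exact (h1 hz).2
    -- `A ∩ O_p(L)`
    set P := (Cfsg.pCore p ↥L).map L.subtype with hP
    have hPB : A ⊓ P = A ⊓ B.comap π := by
      refine le_antisymm ?_ ?_
      · rintro g ⟨hgA, hgP⟩
        refine ⟨hgA, ?_⟩
        have hgAb : π g ∈ B ⊔ Subgroup.zpowers a := hBa.symm ▸ ⟨g, hgA, rfl⟩
        have hBn : Subgroup.zpowers a ≤ Subgroup.normalizer (B : Set (M ⧸ O)) :=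
          Subgroup.zpowers_le.2 (Subgroup.mem_normalizer_fintype fun b hb => by
            rw [← Subgroup.mem_centralizer_iff.1 haC b hb, mul_inv_cancel_right]; exact hb)
        rw [sup_comm, CfsgLib.Coprime.mem_sup_iff_of_le_normalizer hBn] at hgAb
        obtain ⟨_, ⟨j, rfl⟩, b, hb, hjb⟩ := hgAb
        have hPD : ∀ d ∈ D, π g * d = d * π g := by
          intro d hd
          obtain ⟨l, hl, rfl⟩ := hDL hd
          rw [← commutatorElement_eq_one_iff_mul_comm]
          have h1 : ⁅π g, π l⁆ ∈ P.map π := by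
            rw [← map_commutatorElement]
            refine ⟨_, ?_, rfl⟩
            obtain ⟨g', hg', rfl⟩ := hgP
            refine ⟨⁅g', (⟨l, hl⟩ : L)⁆, ?_, rfl⟩
            rw [commutatorElement_def, mul_assoc g', mul_assoc g']
            exact (Cfsg.pCore p ↥L).mul_mem hg' ((Cfsg.pCore_normal p ↥L).conj_mem _ ((Cfsg.pCore p ↥L).inv_mem hg') _)
          have h2 : ⁅π g, π l⁆ ∈ D := by
            rw [commutatorElement_def]
            exact D.mul_mem ((Subgroup.mem_normalizer_iff.1 (hAbD ⟨g, hgA, rfl⟩) _).1 hd) (D.inv_mem hd)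
          have h3 := CfsgLib.Base.inf_eq_bot_of_isPGroup_of_coprime
            (((CfsgLib.Base.isPGroup_pCore p ↥L).map L.subtype).map π)
            (hKc.coprime_dvd_left (Subgroup.card_dvd_of_le hDK))
          exact Subgroup.mem_bot.1 (h3.le ⟨h1, h2⟩)
        show π g ∈ B
        by_cases hj : a ^ j ∈ B
        · rw [← hjb]; exact B.mul_mem hj hb
        · exfalso
          obtain ⟨z, hz, hzne⟩ := hDne
          refine hzne ?_
          have h1 : Commute (a ^ j) z := by
            have h2 : Commute (π g) z := hPD z hz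
            rw [← hjb] at h2
            have h3 : Commute b⁻¹ z :=
              Commute.inv_left (Subgroup.mem_centralizer_iff.1 (hDle hz).2 b hb)
            have := h2.mul_left h3
            simpa [mul_assoc] using this
          have ho : orderOf a = p := orderOf_eq_prime (hexp a ha) fun h => haB (h ▸ B.one_mem)
          have hjc : (orderOf a).Coprime j.natAbs := by
            rw [ho]
            refine hp.coprime_iff_not_dvd.2 fun h => hj ?_
            obtain ⟨q, hq⟩ := Int.natCast_dvd.2 h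
            rw [hq, zpow_mul, zpow_natCast, hexp a ha, one_zpow]
            exact B.one_mem
          have h4 : a ∈ Subgroup.zpowers (a ^ j) := by
            rw [mem_zpowers_zpow_iff]
            exact hjc.symm
          obtain ⟨i, hi⟩ := h4
          exact hi ▸ (h1.zpow_left i).eq
      · refine le_inf inf_le_left fun g hg => ?_
        set Q := (B.comap π).subgroupOf L with hQ
        haveI : Q.Normal := ⟨fun q hq l => by
          rw [hQ, Subgroup.mem_subgroupOf, Subgroup.mem_comap] at hq ⊢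
          rw [Subgroup.coe_mul, Subgroup.coe_mul, Subgroup.coe_inv, map_mul, map_mul, map_inv,
            ← hBcen _ hq _ ⟨l, l.2, rfl⟩, mul_inv_cancel_right]
          exact hq⟩
        have hQp : IsPGroup p Q := by
          have h1 : IsPGroup p (B.comap π) := (hAbp.to_le hB).comap_of_ker_isPGroup π (by
            rw [hπ, QuotientGroup.ker_mk']; exact CfsgLib.Base.isPGroup_pCore p M)
          exact h1.comap_of_injective L.subtype L.subtype_injective
        exact ⟨⟨g, hAle hg.1⟩, CfsgLib.Base.le_pCore hQp (Subgroup.mem_subgroupOf.2 hg.2), rfl⟩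
    refine ⟨hxE, hEK, hEA, ?_, ?_⟩
    · rw [hPB, Subgroup.inf_relIndex_left, Subgroup.relIndex_comap, ← hAb]
      have h1 := B.relIndex_mul_relIndex Ab ⊤ hB le_top
      have h2 := Subgroup.card_mul_index (B.subgroupOf Ab)
      rw [Nat.card_congr (Subgroup.subgroupOfEquivOfLe hB).toEquiv, hcard] at h2
      exact Nat.eq_of_mul_eq_mul_left Nat.card_pos h2
    · rw [hPB, Subgroup.commutator_le]
      intro g hg l hl
      rw [← hker, map_commutatorElement, commutatorElement_eq_one_iff_mul_comm]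
      exact hBcen _ hg.2 _ ⟨l, hl, rfl⟩
  obtain ⟨x, hx, hmain⟩ := main
  obtain ⟨h1, h2, h3, h4, h5⟩ := hmain _ _ rfl rfl
  exact ⟨x, hx, h1, h2, h3, h4, h5⟩

end Cfsg.Agent.S3754
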