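import Cfsg.Statements.S3760


set_option autoImplicit false
open Cfsg

namespace Cfsg.Agent.S3760

/-- Let the group G act transitively on a set X, let x ∈ X with stabilizer H = G_x, and let K ≤ H. Then N_G(K) acts transitively on the set of fixed points of K if and only if every G-conjugate of K contained in H is already an H-conjugate of K. -/
theorem result {G : Type*} [Group G] {X : Type*} [MulAction G X] (htrans : ∀ a b : X, ∃ g : G, g • a = b) (x : X) (K : Subgroup G) (hK : K ≤ MulAction.stabilizer G x) : (∀ a b : X, (∀ k ∈ K, k • a = a) → (∀ k ∈ K, k • b = b) → ∃ g ∈ Subgroup.normalizer (K : Set G), g • a = b) ↔ ∀ g : G, K.map (MulAut.conj g).toMonoidHom ≤ MulAction.stabilizer G x → ∃ h ∈ MulAction.stabilizer G x, K.map (MulAut.conj g).toMonoidHom = K.map (MulAut.conj h).toMonoidHom := by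
  have hmap : ∀ u v : G, (K.map (MulAut.conj v).toMonoidHom).map (MulAut.conj u).toMonoidHom
      = K.map (MulAut.conj (u * v)).toMonoidHom := by
    intro u v
    rw [Subgroup.map_map]; congr 1; ext y; simp [mul_assoc]
  have hfix : ∀ g : G, (K.map (MulAut.conj g).toMonoidHom ≤ MulAction.stabilizer G x) ↔
      ∀ k ∈ K, k • (g⁻¹ • x) = g⁻¹ • x := by
    intro g
    constructor
    · intro h k hk
      have : g * k * g⁻¹ ∈ MulAction.stabilizer G x := h ⟨k, hk, rfl⟩
      rw [MulAction.mem_stabilizer_iff, mul_smul, mul_smul] at this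
      rw [eq_inv_smul_iff, this]
    · rintro h _ ⟨k, hk, rfl⟩
      show g * k * g⁻¹ ∈ MulAction.stabilizer G x
      rw [MulAction.mem_stabilizer_iff, mul_smul, mul_smul, h k hk, smul_inv_smul]
  constructor
  · intro ht g hg
    obtain ⟨n, hn, hnx⟩ := ht x (g⁻¹ • x) (fun k hk => hK hk) ((hfix g).1 hg)
    refine ⟨g * n, ?_, ?_⟩
    · rw [MulAction.mem_stabilizer_iff, mul_smul, hnx, smul_inv_smul]
    · rw [← hmap g n, show K.map (MulAut.conj n).toMonoidHom = K from Subgroup.mem_normalizer_iff_map_conj_eq.1 hn]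
  · intro hf
    have hx : ∀ a : X, (∀ k ∈ K, k • a = a) →
        ∃ g ∈ Subgroup.normalizer (K : Set G), g • x = a := by
      intro a ha
      obtain ⟨g, rfl⟩ := htrans x a
      obtain ⟨h, hh, he⟩ := hf g⁻¹ ((hfix g⁻¹).2 (by simpa using ha))
      refine ⟨g * h, ?_, ?_⟩
      · rw [Subgroup.mem_normalizer_iff_map_conj_eq]
        show K.map (MulAut.conj (g * h)).toMonoidHom = K
        rw [← hmap g h, ← he, hmap, mul_inv_cancel]
        ext y; simp
      · rw [mul_smul, MulAction.mem_stabilizer_iff.1 hh]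
    intro a b ha hb
    obtain ⟨g, hg, rfl⟩ := hx a ha
    obtain ⟨g', hg', rfl⟩ := hx b hb
    exact ⟨g' * g⁻¹, mul_mem hg' (inv_mem hg), by rw [smul_smul, inv_mul_cancel_right]⟩

end Cfsg.Agent.S3760
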