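import Cfsg.Statements.S3763
import Cfsg.Agent.Lib.PGroups.ExtraspecialBasis

set_option autoImplicit false
open Cfsg

namespace Cfsg.Agent.S3763

/-- Let E be an extraspecial 2-group of order 2^(2n+1). Then the largest elementary abelian subgroups of E have order 2^n or 2^(n+1); and two extraspecial 2-groups of the same order whose largest elementary abelian subgroups have the same order are isomorphic. -/
theorem result {E : Type*} [Group E] [Finite E] (hE : Cfsg.IsExtraspecial 2 E) (n : ℕ) (hn : Nat.card E = 2 ^ (2 * n + 1)) : ((Cfsg.PRankLE 2 n E ∧ ¬ Cfsg.PRankLE 2 (n - 1) E) ∨ (Cfsg.PRankLE 2 (n + 1) E ∧ ¬ Cfsg.PRankLE 2 n E)) ∧ ∀ (E' : Type*) [Group E'] [Finite E'], Cfsg.IsExtraspecial 2 E' → Nat.card E' = Nat.card E → (∀ k : ℕ, Cfsg.PRankLE 2 k E ↔ Cfsg.PRankLE 2 k E') → Nonempty (E ≃* E') := by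
  obtain ⟨z, m, hm, S⟩ := CfsgLib.PGroups.exists_isSympGroup hE
  obtain rfl : m = n := by
    have := Nat.pow_right_injective le_rfl (S.card_eq.symm.trans hn)
    omega
  have hup : Cfsg.PRankLE 2 (m + 1) E := fun A hA _ =>
    CfsgLib.PGroups.Extraspecial.card_le_of_abelian hE
      ((CfsgLib.PGroups.isMulCommutative_iff_le_centralizer A).mp hA) hn
  have hiff : CfsgLib.PGroups.HasMaxElem E m ↔ ¬ Cfsg.PRankLE 2 m E := by
    constructor
    · rintro ⟨A, hA, hA2, hAc⟩ h
      have := (hAc.trans (h A hA hA2))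
      rw [Nat.pow_le_pow_iff_right one_lt_two] at this
      omega
    · intro h
      simp only [Cfsg.PRankLE, not_forall, not_le] at h
      obtain ⟨A, hA, hA2, hAc⟩ := h
      refine ⟨A, hA, hA2, ?_⟩
      obtain ⟨k, hk⟩ := CfsgLib.PGroups.card_subgroup_eq_pow hE.1.1 A
      rw [hk] at hAc ⊢
      exact Nat.pow_le_pow_right two_pos ((Nat.pow_lt_pow_iff_right one_lt_two).mp hAc)
  refine ⟨?_, ?_⟩
  · by_cases c : CfsgLib.PGroups.HasMaxElem E m
    · exact Or.inr ⟨hup, hiff.mp c⟩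
    · refine Or.inl ⟨not_not.mp (hiff.not.mp c), fun h => ?_⟩
      obtain ⟨A, hA, hA2, hAc⟩ := (S.classify.2 c).2.2.2
      have := (hAc.trans (h A hA hA2))
      rw [Nat.pow_le_pow_iff_right one_lt_two] at this
      omega
  intro E' _ _ hE' hcard hrank
  obtain ⟨z', m', -, S'⟩ := CfsgLib.PGroups.exists_isSympGroup hE'
  obtain rfl : m = m' := by
    have := Nat.pow_right_injective le_rfl (S.card_eq.symm.trans (hcard.symm.trans S'.card_eq))
    omega
  have hiff' : CfsgLib.PGroups.HasMaxElem E' m ↔ ¬ Cfsg.PRankLE 2 m E' := by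
    constructor
    · rintro ⟨A, hA, hA2, hAc⟩ h
      have := (hAc.trans (h A hA hA2))
      rw [Nat.pow_le_pow_iff_right one_lt_two] at this
      omega
    · intro h
      simp only [Cfsg.PRankLE, not_forall, not_le] at h
      obtain ⟨A, hA, hA2, hAc⟩ := h
      refine ⟨A, hA, hA2, ?_⟩
      obtain ⟨k, hk⟩ := CfsgLib.PGroups.card_subgroup_eq_pow hE'.1.1 A
      rw [hk] at hAc ⊢
      exact Nat.pow_le_pow_right two_pos ((Nat.pow_lt_pow_iff_right one_lt_two).mp hAc)
  by_cases c : CfsgLib.PGroups.HasMaxElem E m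
  · have c' : CfsgLib.PGroups.HasMaxElem E' m := hiff'.mpr (mt (hrank m).mpr (hiff.mp c))
    obtain ⟨a, b, B⟩ := (S.classify.1 c).1
    obtain ⟨a', b', B'⟩ := (S'.classify.1 c').1
    exact CfsgLib.PGroups.nonempty_mulEquiv_of_basis S S' B B'
  · have c' : ¬ CfsgLib.PGroups.HasMaxElem E' m := fun c' =>
      c (hiff.mpr (mt (hrank m).mp (hiff'.mp c')))
    obtain ⟨a, b, B⟩ := (S.classify.2 c).2.1
    obtain ⟨a', b', B'⟩ := (S'.classify.2 c').2.1
    exact CfsgLib.PGroups.nonempty_mulEquiv_of_basis S S' B B'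

end Cfsg.Agent.S3763
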