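import Cfsg.Statements.S3764
import Cfsg.Agent.Lib.FgsC.PrimeFixedPoints
import Cfsg.Agent.Lib.PGroups.Extraspecial

set_option autoImplicit false
open Cfsg

namespace Cfsg.Agent.S3764

/-- Let p, q, r be distinct primes and let X, Q, V be subgroups of a finite group with X of order r, Q an extraspecial q-group normalized by X with C_Q(X) = Z(Q), and V an elementary abelian p-group normalized by X and Q on which XQ acts faithfully ((X ⊔ Q) ∩ C(V) = 1). If C_V(X) = 1, then q = 2, r = 2^n + 1 for some n, and Q has order 2^(2n+1). -/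
theorem result {G : Type*} [Group G] [Finite G] {p q r : ℕ} (hp : p.Prime) (hq : q.Prime) (hr : r.Prime) (hpq : p ≠ q) (hpr : p ≠ r) (hqr : q ≠ r) (X Q V : Subgroup G) (hX : Nat.card X = r) (hQ : Cfsg.IsExtraspecial q ↥Q) (hXQ : X ≤ Subgroup.normalizer (Q : Set G)) (hCQ : Q ⊓ Subgroup.centralizer (X : Set G) = (Subgroup.center ↥Q).map Q.subtype) (hV : Cfsg.IsElementaryAbelian p V) (hXV : X ≤ Subgroup.normalizer (V : Set G)) (hQV : Q ≤ Subgroup.normalizer (V : Set G)) (hfaith : (X ⊔ Q) ⊓ Subgroup.centralizer (V : Set G) = ⊥) (hCV : V ⊓ Subgroup.centralizer (X : Set G) = ⊥) : q = 2 ∧ ∃ n : ℕ, r = 2 ^ n + 1 ∧ Nat.card Q = 2 ^ (2 * n + 1) := by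
  classical
  open scoped commutatorElement in
  have main : ∃ b, 1 ≤ b ∧ r = q ^ b + 1 ∧ Nat.card Q = q * (q ^ b * q ^ b) := by
    haveI : Fact p.Prime := ⟨hp⟩
    haveI : Fact q.Prime := ⟨hq⟩
    haveI : Fact r.Prime := ⟨hr⟩
    haveI : Nontrivial X := Finite.one_lt_card_iff_nontrivial.mp (hX ▸ hr.one_lt)
    obtain ⟨⟨x, hxX⟩, hx1⟩ := exists_ne (1 : X)
    have hx1' : x ≠ 1 := fun h => hx1 (Subtype.ext h)
    have hxr : x ^ r = 1 := congrArg Subtype.val (hX ▸ pow_card_eq_one' (G := X) (x := ⟨x, hxX⟩))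
    have hgenX : X ≤ Subgroup.zpowers x := (Subgroup.eq_of_le_of_card_ge
      (Subgroup.zpowers_le.mpr hxX) (by rw [hX, Nat.card_zpowers, orderOf_eq_prime hxr hx1'])).ge
    set H := X ⊔ Q with hH
    obtain ⟨W, i1, i2, i3, ρ, hinj, hN⟩ := CfsgLib.FgsC.PrimeFixedPoints.exists_norm_rep
      hr X Q V x hxX hgenX hxr hV hXV hQV hfaith hCV
    set z : H := ⟨x, Subgroup.mem_sup_left hxX⟩ with hz
    have hzr : z ^ r = 1 := Subtype.ext hxr
    set R := Q.subgroupOf H with hRdef
    have hQp : IsPGroup q Q := hQ.1.1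
    have hR : IsPGroup q R := hQp.of_equiv (Subgroup.subgroupOfEquivOfLe le_sup_right).symm
    have hRK : (Nat.card R : AlgebraicClosure (ZMod p)) ≠ 0 :=
      CfsgLib.FgsC.FrobeniusConfig.cast_card_ne_zero hp hpq.symm hR
    have hzR : z ∈ Subgroup.normalizer (R : Set H) := Subgroup.mem_normalizer_iff.mpr fun k =>
      (Subgroup.mem_normalizer_iff.mp (hXQ hxX) (k : G))
    have hrK : (r : AlgebraicClosure (ZMod p)) ≠ 0 := by
      rw [Ne, CharP.cast_eq_zero_iff (AlgebraicClosure (ZMod p)) p, Nat.prime_dvd_prime_iff_eq hp hr]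
      exact hpr
    have hcen : ∀ k ∈ Q, x * k = k * x → ∀ g ∈ Q, k * g = g * k := by
      intro k hk hkx g hg
      have h1 : k ∈ Q ⊓ Subgroup.centralizer (X : Set G) := ⟨hk, Subgroup.mem_centralizer_iff.mpr
        fun y hy => by
          obtain ⟨j, rfl⟩ := hgenX hy
          exact ((show Commute x k from hkx).zpow_left j).eq⟩
      rw [hCQ] at h1
      obtain ⟨c, hc, rfl⟩ := h1
      exact (congrArg Subtype.val (Subgroup.mem_center_iff.mp hc ⟨g, hg⟩)).symm
    have hcomm : ∀ a b : Q, ⁅a, b⁆ ∈ Subgroup.center Q := fun a b =>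
      CfsgLib.PGroups.Extraspecial.commutator_mem_center hQ a b
    have hne : ¬ IsMulCommutative Q := CfsgLib.PGroups.Extraspecial.not_isMulCommutative hQ
    have hgen : R ≤ ⁅R, Subgroup.zpowers z⁆ := by
      have h1 : Q ≤ ⁅Q, X⁆ := by
        have hcop : (Nat.card X).Coprime (Nat.card Q) := by
          obtain ⟨m, hm⟩ := IsPGroup.iff_card.mp hQp
          rw [hX, hm]
          exact ((Nat.coprime_primes hr hq).mpr hqr.symm).pow_right m
        haveI : Group.IsNilpotent Q := hQp.isNilpotent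
        have h2 := CfsgLib.Coprime.commutator_sup_centralizer hXQ hcop (Or.inr inferInstance)
        have hle : ⁅Q, X⁆ ≤ Q := CfsgLib.Coprime.commutator_le_of_le_normalizer hXQ
        have h3 : (⁅Q, X⁆).subgroupOf Q ⊔ frattini Q = ⊤ := by
          rw [hQ.1.2.1]
          refine Subgroup.map_injective Q.subtype_injective ?_
          rw [Subgroup.map_sup, ← hCQ, Subgroup.subgroupOf_map_subtype, inf_of_le_left hle,
            ← MonoidHom.range_eq_map, Subgroup.range_subtype]
          exact h2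
        exact Subgroup.subgroupOf_eq_top.mp (frattini_nongenerating h3)
      intro k hk
      have h4 : (k : G) ∈ (⁅R, Subgroup.zpowers z⁆).map H.subtype := by
        rw [Subgroup.map_commutator, hRdef, Subgroup.subgroupOf_map_subtype,
          inf_of_le_left (le_sup_right : Q ≤ H), MonoidHom.map_zpowers]
        exact Subgroup.commutator_mono le_rfl hgenX (h1 hk)
      obtain ⟨k', hk', he⟩ := h4
      exact (Subtype.ext he : k' = k) ▸ hk'
    obtain ⟨b, hb, hrb, hidx⟩ := CfsgLib.FgsC.PrimeFixedPoints.exists_pow_eq_index (ρ := ρ) (p := r) (u := q)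
      hqr.symm hrK (Q := R) hR hRK (by
        by_contra hall
        push Not at hall
        refine hne ⟨⟨fun a b => Subtype.ext ?_⟩⟩
        have h := hall ⟨a, Subgroup.mem_sup_right a.2⟩ a.2
        have h' : (⟨a, Subgroup.mem_sup_right a.2⟩ : H) = 1 := hinj (h.trans (map_one ρ).symm)
        have h'' : (a : G) = 1 := congrArg Subtype.val h'
        show (a : G) * b = b * a
        rw [h'', one_mul, mul_one])
      hzR hzr hN hgen
      (fun a ha c hc d hd => Subtype.ext (congrArg Subtype.val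
        (Subgroup.mem_center_iff.mp (hcomm ⟨_, ha⟩ ⟨_, hc⟩) ⟨_, hd⟩) :
          ((d : H) : G) * ⁅((a : H) : G), ((c : H) : G)⁆ = ⁅((a : H) : G), ((c : H) : G)⁆ * (d : H)))
      (fun k hk hkz g hg => Subtype.ext
        (hcen _ hk (congrArg Subtype.val hkz.eq.symm) _ hg))
      (fun a ha c hc d hd e he hne1 => by
        have h1 : (⁅(⟨_, ha⟩ : Q), ⟨_, hc⟩⁆ : Q) ≠ 1 := fun h =>
          hne1 (Subtype.ext (show ((⁅a, c⁆ : H) : G) = 1 from congrArg (fun w : Q => (w : G)) h))
        haveI : Fact (Nat.card (Subgroup.center Q)).Prime := ⟨hQ.2 ▸ hq⟩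
        have h2 : Subgroup.zpowers (⟨_, hcomm ⟨_, ha⟩ ⟨_, hc⟩⟩ : Subgroup.center Q) = ⊤ := by
          refine ((Subgroup.zpowers _).eq_bot_or_eq_top_of_prime_card).resolve_left ?_
          rw [Subgroup.zpowers_eq_bot]
          exact fun h => h1 (congrArg Subtype.val h)
        obtain ⟨i, hi⟩ := h2.ge (Subgroup.mem_top (⟨_, hcomm ⟨_, hd⟩ ⟨_, he⟩⟩ : Subgroup.center Q))
        exact ⟨i, Subtype.ext (congrArg (fun w : Subgroup.center Q => ((w : Q) : G)) hi)⟩)
    refine ⟨b, hb, hrb, ?_⟩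
    have hcent : R ⊓ Subgroup.centralizer (R : Set H)
        = ((Subgroup.center Q).map Q.subtype).subgroupOf H := by
      ext k
      constructor
      · rintro ⟨hk, hk'⟩
        refine ⟨⟨_, hk⟩, Subgroup.mem_center_iff.mpr fun g => Subtype.ext ?_, rfl⟩
        exact congrArg (fun w : H => (w : G))
          (Subgroup.mem_centralizer_iff.mp hk' ⟨(g : G), Subgroup.mem_sup_right g.2⟩ g.2)
      · rintro ⟨c, hc, he⟩
        have hkQ : (k : G) ∈ Q := (show (c : G) = (k : G) from he) ▸ c.2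
        refine ⟨hkQ, Subgroup.mem_centralizer_iff.mpr fun g hg => Subtype.ext ?_⟩
        have h := congrArg Subtype.val (Subgroup.mem_center_iff.mp hc ⟨(g : G), hg⟩)
        rw [Subgroup.coe_mul, Subgroup.coe_mul, show (k : G) = c from he.symm]
        exact h
    rw [hcent, hRdef, Subgroup.relIndex_subgroupOf le_sup_right, Subgroup.relIndex,
      Subgroup.subgroupOf, Subgroup.comap_map_eq_self_of_injective Q.subtype_injective] at hidx
    rw [← Subgroup.card_mul_index (Subgroup.center Q), hidx, hQ.2]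
  obtain ⟨b, hb, hrb, hcard⟩ := main
  have hq2 : q = 2 := by
    by_contra h
    obtain ⟨m, hm⟩ := (hq.odd_of_ne_two h).pow (n := b)
    have h2 : r = 2 := hr.eq_two_or_odd'.resolve_right fun h3 => by
      obtain ⟨k, hk⟩ := h3
      omega
    have h3 : 2 ≤ q ^ b := le_trans hq.two_le (Nat.le_self_pow (by omega) q)
    omega
  subst hq2
  exact ⟨rfl, b, hrb, by rw [hcard, ← pow_add, ← pow_succ']; ring_nf⟩

end Cfsg.Agent.S3764
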