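import Cfsg.Statements.S3765
import Cfsg.Agent.Lib.FgsC.PrimeFixedPoints

set_option autoImplicit false
open Cfsg

namespace Cfsg.Agent.S3765

/-- Let p, q, r be distinct primes and let X, Q, V be subgroups of a finite group with X of order r normalizing the q-group Q and acting faithfully on it (X ∩ C(Q) = 1), and V a nontrivial elementary abelian p-group normalized by X and Q on which XQ acts faithfully. If q = 2 and r has the form 2^n + 1, assume in addition that Q is abelian. Then C_V(X) ≠ 1. -/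
theorem result {G : Type*} [Group G] [Finite G] {p q r : ℕ} (hp : p.Prime) (hq : q.Prime) (hr : r.Prime) (hpq : p ≠ q) (hpr : p ≠ r) (hqr : q ≠ r) (X Q V : Subgroup G) (hX : Nat.card X = r) (hQ : IsPGroup q Q) (hXQ : X ≤ Subgroup.normalizer (Q : Set G)) (hXfaith : X ⊓ Subgroup.centralizer (Q : Set G) = ⊥) (hV : Cfsg.IsElementaryAbelian p V) (hV1 : V ≠ ⊥) (hXV : X ≤ Subgroup.normalizer (V : Set G)) (hQV : Q ≤ Subgroup.normalizer (V : Set G)) (hfaith : (X ⊔ Q) ⊓ Subgroup.centralizer (V : Set G) = ⊥) (hexc : q = 2 → (∃ n : ℕ, r = 2 ^ n + 1) → IsMulCommutative Q) : V ⊓ Subgroup.centralizer (X : Set G) ≠ ⊥ := by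
  classical
  intro hCV
  haveI : Fact p.Prime := ⟨hp⟩
  haveI : Fact q.Prime := ⟨hq⟩
  haveI : Fact r.Prime := ⟨hr⟩
  haveI : Nontrivial X := Finite.one_lt_card_iff_nontrivial.mp (hX ▸ hr.one_lt)
  obtain ⟨⟨x, hxX⟩, hx1⟩ := exists_ne (1 : X)
  have hx1' : x ≠ 1 := fun h => hx1 (Subtype.ext h)
  have hxr : x ^ r = 1 := congrArg Subtype.val (hX ▸ pow_card_eq_one' (G := X) (x := ⟨x, hxX⟩))
  have hgen : X ≤ Subgroup.zpowers x := (Subgroup.eq_of_le_of_card_ge
    (Subgroup.zpowers_le.mpr hxX) (by rw [hX, Nat.card_zpowers, orderOf_eq_prime hxr hx1'])).ge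
  obtain ⟨W, i1, i2, i3, ρ, hinj, hN⟩ := CfsgLib.FgsC.PrimeFixedPoints.exists_norm_rep
    hr X Q V x hxX hgen hxr hV hXV hQV hfaith hCV
  set H := X ⊔ Q
  set z : H := ⟨x, Subgroup.mem_sup_left hxX⟩
  have hzr : z ^ r = 1 := Subtype.ext hxr
  set R := Q.subgroupOf H
  have hR : IsPGroup q R := hQ.of_equiv (Subgroup.subgroupOfEquivOfLe le_sup_right).symm
  have hRK : (Nat.card R : AlgebraicClosure (ZMod p)) ≠ 0 :=
    CfsgLib.FgsC.FrobeniusConfig.cast_card_ne_zero hp hpq.symm hR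
  have hzR : z ∈ Subgroup.normalizer (R : Set H) := Subgroup.mem_normalizer_iff.mpr fun k =>
    (Subgroup.mem_normalizer_iff.mp (hXQ hxX) (k : G))
  have hrK : (r : AlgebraicClosure (ZMod p)) ≠ 0 := by
    rw [Ne, CharP.cast_eq_zero_iff (AlgebraicClosure (ZMod p)) p, Nat.prime_dvd_prime_iff_eq hp hr]
    exact hpr
  have hcomm : ∀ a ∈ R, Commute a z := by
    by_cases hab : IsMulCommutative Q
    · haveI := hab
      haveI : IsMulCommutative R := ⟨⟨fun a b => Subtype.ext (Subtype.ext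
        (show ((a : H) : G) * (b : H) = (b : H) * (a : H) from
          congrArg Subtype.val (mul_comm' (⟨_, a.2⟩ : Q) ⟨_, b.2⟩)))⟩⟩
      exact CfsgLib.FgsC.PrimeFixedPoints.commute_of_norm_zero_abelian hinj hqr.symm hzr hN hR hRK hzR
    · refine CfsgLib.FgsC.FrobeniusConfig.commute_of_norm_zero hinj hqr.symm ?_ hrK hzr hN hR hRK hzR
      rintro ⟨b, hb, hb'⟩
      have hq2 : q = 2 := by
        by_contra h
        have h1 : Odd (q ^ b) := (hq.odd_of_ne_two h).pow
        have h2 : r = 2 := (hr.eq_two_or_odd').resolve_right fun h3 => by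
          obtain ⟨m, hm⟩ := h1
          obtain ⟨k, hk⟩ := h3
          omega
        have h3 : 2 ≤ q ^ b := le_trans hq.two_le (Nat.le_self_pow (by omega) q)
        omega
      exact hab (hexc hq2 ⟨b, by rw [← hq2]; exact hb'⟩)
  have h1 : x ∈ X ⊓ Subgroup.centralizer (Q : Set G) :=
    ⟨hxX, Subgroup.mem_centralizer_iff.mpr fun k hk =>
      congrArg Subtype.val (hcomm ⟨k, Subgroup.mem_sup_right hk⟩ hk).eq⟩
  rw [hXfaith, Subgroup.mem_bot] at h1
  exact hx1' h1

end Cfsg.Agent.S3765
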