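import Cfsg.Statements.S3766
import Cfsg.Agent.Lib.Base.Fitting
import Cfsg.Agent.Lib.Base.Nilpotent
open Subgroup CfsgLib.Base
open scoped commutatorElement

set_option autoImplicit false
open Cfsg

namespace Cfsg.Agent.S3766

/-- Let G be a finite solvable group and N a normal subgroup of G. Call a pair V < U of normal subgroups of G a chief factor of G when no normal subgroup of G lies strictly between them; an element g centralizes the chief factor U/V when u g u⁻¹ g⁻¹ ∈ V for all u ∈ U. Then an element of G lies in the Fitting subgroup F(N) if and only if it lies in N and centralizes every chief factor of G; and also if and only if it lies in N and centralizes every chief factor U/V of G with U ≤ F(N). -/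
theorem result {G : Type*} [Group G] [Finite G] (hG : Group.IsSolvable G) (N : Subgroup G) [N.Normal] (g : G) : (g ∈ (Cfsg.fittingSubgroup ↥N).map N.subtype ↔ g ∈ N ∧ ∀ U V : Subgroup G, (U.Normal ∧ V.Normal ∧ V < U ∧ ∀ W : Subgroup G, W.Normal → V ≤ W → W ≤ U → W = V ∨ W = U) → ∀ u ∈ U, u * g * u⁻¹ * g⁻¹ ∈ V) ∧ (g ∈ (Cfsg.fittingSubgroup ↥N).map N.subtype ↔ g ∈ N ∧ ∀ U V : Subgroup G, (U.Normal ∧ V.Normal ∧ V < U ∧ ∀ W : Subgroup G, W.Normal → V ≤ W → W ≤ U → W = V ∨ W = U) → U ≤ (Cfsg.fittingSubgroup ↥N).map N.subtype → ∀ u ∈ U, u * g * u⁻¹ * g⁻¹ ∈ V) := by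
  classical
  haveI : (Cfsg.fittingSubgroup N).Normal := fittingSubgroup_normal' N
  set F : Subgroup G := (Cfsg.fittingSubgroup ↥N).map N.subtype with hFdef
  haveI hFchar : (Cfsg.fittingSubgroup ↥N).Characteristic :=
    Subgroup.characteristic_iff_map_eq.2 fun e => map_fittingSubgroup_mulEquiv e
  have hFn : F.Normal := inferInstance
  have hFnil : Group.IsNilpotent F := isNilpotent_map_fittingSubgroup N
  have hFN : F ≤ N := map_subtype_le _
  -- nilpotent normal subgroups centralise every chief factor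
  have hA : ∀ g ∈ F, ∀ U V : Subgroup G, U.Normal → V.Normal → V < U →
      (∀ W : Subgroup G, W.Normal → V ≤ W → W ≤ U → W = V ∨ W = U) →
      ∀ u ∈ U, u * g * u⁻¹ * g⁻¹ ∈ V := by
    intro g hg U V hU hV hlt hmin u hu
    haveI := hV
    let q := QuotientGroup.mk' V
    let Fb : Subgroup (G ⧸ V) := F.map q
    let Ub : Subgroup (G ⧸ V) := U.map q
    haveI : Fb.Normal := hFn.map q (QuotientGroup.mk'_surjective V)
    haveI : Ub.Normal := hU.map q (QuotientGroup.mk'_surjective V)
    haveI : Group.IsNilpotent Fb := isNilpotent_map q hFnil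
    have hminb : ∀ W : Subgroup (G ⧸ V), W.Normal → W ≤ Ub → W = ⊥ ∨ W = Ub := by
      intro W hW hWU
      have h1 : W.comap q ≤ U := by
        calc W.comap q ≤ Ub.comap q := comap_mono hWU
          _ = U := by rw [comap_map_eq, QuotientGroup.ker_mk', sup_eq_left.2 hlt.le]
      rcases hmin (W.comap q) (hW.comap q)
        (fun x hx => by rw [mem_comap, show q x = 1 from (QuotientGroup.eq_one_iff x).2 hx]; exact one_mem W)
        h1 with e | e
      · left
        rw [← map_comap_eq_self_of_surjective (QuotientGroup.mk'_surjective V) W, e]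
        exact (Subgroup.map_eq_bot_iff _).2 (by rw [QuotientGroup.ker_mk'])
      · right
        rw [← map_comap_eq_self_of_surjective (QuotientGroup.mk'_surjective V) W, e]
    suffices h : ⁅Ub, Fb⁆ = ⊥ by
      have h1 : ⁅q u, q g⁆ ∈ ⁅Ub, Fb⁆ :=
        commutator_mem_commutator (mem_map_of_mem q hu) (mem_map_of_mem q hg)
      rw [h, mem_bot, ← map_commutatorElement] at h1
      exact (QuotientGroup.eq_one_iff _).1 h1
    rcases hminb (Ub ⊓ Fb) inferInstance inf_le_left with e | e
    · exact le_bot_iff.1 (e ▸ commutator_le_inf Ub Fb)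
    · have hUF : Ub ≤ Fb := e ▸ inf_le_right
      haveI : (Ub.subgroupOf Fb).Normal := inferInstance
      have hne : Ub.subgroupOf Fb ≠ ⊥ := by
        rw [Ne, subgroupOf_eq_bot, disjoint_iff, inf_eq_left.2 hUF]
        exact fun h => hlt.ne (le_antisymm hlt.le
          ((Subgroup.map_eq_bot_iff _).1 h |>.trans_eq (QuotientGroup.ker_mk' V)))
      have hz := inf_center_ne_bot_of_isNilpotent hne
      let Z : Subgroup (G ⧸ V) := Ub ⊓ centralizer (Fb : Set (G ⧸ V))
      rcases hminb Z inferInstance inf_le_left with e' | e'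
      · refine absurd ?_ hz
        rw [eq_bot_iff]
        rintro x ⟨hx1, hx2⟩
        have : (x : G ⧸ V) ∈ Z := ⟨hx1, mem_centralizer_iff.2 fun y hy =>
          congrArg Subtype.val (mem_center_iff.1 hx2 ⟨y, hy⟩)⟩
        rw [e', mem_bot] at this
        exact Subtype.ext this
      · rw [commutator_eq_bot_iff_le_centralizer]
        exact e' ▸ inf_le_right
  -- the converse, using only the factors below `F`
  have hB : g ∈ N → (∀ U V : Subgroup G, (U.Normal ∧ V.Normal ∧ V < U ∧ ∀ W : Subgroup G, W.Normal →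
      V ≤ W → W ≤ U → W = V ∨ W = U) → U ≤ F → ∀ u ∈ U, u * g * u⁻¹ * g⁻¹ ∈ V) → g ∈ F := by
    intro hgN hg
    let P : G → Prop := fun x => x ∈ N ∧ ∀ U V : Subgroup G, (U.Normal ∧ V.Normal ∧ V < U ∧
      ∀ W : Subgroup G, W.Normal → V ≤ W → W ≤ U → W = V ∨ W = U) → U ≤ F → ∀ u ∈ U, ⁅u, x⁆ ∈ V
    let C : Subgroup G :=
      { carrier := {x | P x}
        one_mem' := ⟨one_mem N, fun U V _ _ u _ => by simp⟩
        mul_mem' := fun {a b} ha hb => ⟨mul_mem ha.1 hb.1, fun U V hUV hUF u hu => by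
          have hVn := hUV.2.1
          rw [show ⁅u, a * b⁆ = ⁅u, a⁆ * (a * ⁅u, b⁆ * a⁻¹) by simp only [commutatorElement_def]; group]
          exact mul_mem (ha.2 U V hUV hUF u hu) (hVn.conj_mem _ (hb.2 U V hUV hUF u hu) a)⟩
        inv_mem' := fun {a} ha => ⟨inv_mem ha.1, fun U V hUV hUF u hu => by
          have hVn := hUV.2.1
          rw [show ⁅u, a⁻¹⁆ = a⁻¹ * ⁅u, a⁆⁻¹ * a⁻¹⁻¹ by simp only [commutatorElement_def]; group]
          exact hVn.conj_mem _ (inv_mem (ha.2 U V hUV hUF u hu)) a⁻¹⟩ }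
    have hgC : g ∈ C := ⟨hgN, fun U V hUV hUF u hu => hg U V hUV hUF u hu⟩
    have hCn : C.Normal := ⟨fun x hx t => ⟨Subgroup.Normal.conj_mem inferInstance x hx.1 t,
      fun U V hUV hUF u hu => by
        rw [show ⁅u, t * x * t⁻¹⁆ = t * ⁅t⁻¹ * u * t⁻¹⁻¹, x⁆ * t⁻¹ by
          simp only [commutatorElement_def]; group]
        exact hUV.2.1.conj_mem _ (hx.2 U V hUV hUF _ (hUV.1.conj_mem u hu t⁻¹)) t⟩⟩
    suffices hCF : C ≤ F from hCF hgC
    by_contra hCF
    let D : ℕ → Subgroup G := fun k => Nat.rec C (fun _ S => ⁅S, S⁆) k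
    have hDn : ∀ k, (D k).Normal := by
      intro k
      induction k with
      | zero => exact hCn
      | succ k ih => exact Subgroup.commutator_normal (h₁ := ih) (h₂ := ih)
    have hDle : ∀ k, D k ≤ C ∧ D k ≤ derivedSeries G k := by
      intro k
      induction k with
      | zero => exact ⟨le_rfl, le_top⟩
      | succ k ih =>
        haveI := hDn k
        refine ⟨(commutator_le_left _ _).trans ih.1, ?_⟩
        rw [derivedSeries_succ]
        exact commutator_mono ih.2 ih.2
    obtain ⟨k₀, hk₀⟩ := hG.solvable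
    have hbot : D k₀ ≤ F := ((hDle k₀).2.trans hk₀.le).trans bot_le
    obtain ⟨k, hk1, hk2⟩ : ∃ k, ¬ D k ≤ F ∧ D (k + 1) ≤ F := by
      by_contra hne
      push Not at hne
      have : ∀ j, ¬ D j ≤ F := fun j => Nat.rec (motive := fun j => ¬ D j ≤ F) hCF hne j
      exact this k₀ hbot
    -- `D k` is nilpotent
    set U₀ := D k with hU₀
    haveI := hDn k
    refine hk1 ?_
    have hstep : ∀ W : Subgroup G, W.Normal → W ≤ F → ∃ n : ℕ,
        ∀ S : Subgroup G, S ≤ W → (Nat.rec S (fun _ T => ⁅T, U₀⁆) n : Subgroup G) = ⊥ := by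
      intro W
      induction W using WellFoundedLT.induction with
      | _ W ih =>
      intro hW hWF
      rcases eq_or_ne W ⊥ with rfl | hne
      · exact ⟨0, fun S hS => le_bot_iff.1 hS⟩
      obtain ⟨V, ⟨hV, hVW⟩, hmax⟩ := (Set.toFinite {V : Subgroup G | V.Normal ∧ V < W}).exists_maximal
        ⟨⊥, inferInstance, bot_lt_iff_ne_bot.2 hne⟩
      obtain ⟨n, hn⟩ := ih V hVW hV (hVW.le.trans hWF)
      refine ⟨n + 1, fun S hS => ?_⟩
      have h1 : ⁅S, U₀⁆ ≤ V := by
        rw [commutator_le]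
        intro s hs x hx
        refine ((hDle k).1 hx).2 W V ⟨hW, hV, hVW, fun T hT hVT hTW => ?_⟩ hWF s (hS hs)
        rcases hTW.eq_or_lt with e | e
        · exact Or.inr e
        · exact Or.inl (le_antisymm (hmax ⟨hT, e⟩ hVT) hVT)
      have key : ∀ m, (Nat.rec S (fun _ T => ⁅T, U₀⁆) (m + 1) : Subgroup G) =
          Nat.rec ⁅S, U₀⁆ (fun _ T => ⁅T, U₀⁆) m := by
        intro m
        induction m with
        | zero => rfl
        | succ m ihm => exact congrArg (fun T => ⁅T, U₀⁆) ihm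
      rw [key]
      exact hn _ h1
    obtain ⟨n, hn⟩ := hstep F hFn le_rfl
    have hlcs : ∀ m, U₀.lowerCentralSeries (m + 1) =
        (Nat.rec ⁅U₀, U₀⁆ (fun _ T => ⁅T, U₀⁆) m : Subgroup G) := by
      intro m
      induction m with
      | zero => rfl
      | succ m ihm => exact congrArg (fun T => ⁅T, U₀⁆) ihm
    have hnil :=
      (Subgroup.isNilpotent_iff_lowerCentralSeries U₀).2 ⟨n + 1, by rw [hlcs]; exact hn _ hk2⟩
    have hUN : U₀ ≤ N := fun x hx => ((hDle k).1 hx).1
    exact le_map_fittingSubgroup hUN (@Subgroup.le_normalizer_of_normal _ _ U₀ _ (hDn k)) hnil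
  refine ⟨⟨fun h => ⟨hFN h, fun U V hUV => hA g h U V hUV.1 hUV.2.1 hUV.2.2.1 hUV.2.2.2⟩,
    fun h => hB h.1 fun U V hUV _ => h.2 U V hUV⟩,
    ⟨fun h => ⟨hFN h, fun U V hUV _ => hA g h U V hUV.1 hUV.2.1 hUV.2.2.1 hUV.2.2.2⟩,
    fun h => hB h.1 h.2⟩⟩

end Cfsg.Agent.S3766
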