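import Cfsg.Statements.S3767
import Cfsg.Agent.Lib.PGroups.ExtraspecialCyclicAction
open Subgroup

set_option autoImplicit false
open Cfsg

namespace Cfsg.Agent.S3767

/-- Let P be an extraspecial p-group of order p^(2n+1) and H a cyclic group of order h prime to p acting on P (inside a common finite group: H normalizes P) so that C_P(x) = Z(P) for every non-identity x ∈ H. Then h divides p^n + 1 or h divides p^n − 1. -/
theorem result {G : Type*} [Group G] [Finite G] {p : ℕ} [Fact p.Prime] (P H : Subgroup G) (hP : Cfsg.IsExtraspecial p ↥P) (n : ℕ) (hn : Nat.card P = p ^ (2 * n + 1)) (hH : IsCyclic H) (hcop : (Nat.card H).Coprime p) (hHP : H ≤ Subgroup.normalizer (P : Set G)) (hfix : ∀ x ∈ H, x ≠ 1 → P ⊓ Subgroup.centralizer {x} = (Subgroup.center ↥P).map P.subtype) : Nat.card H ∣ p ^ n + 1 ∨ Nat.card H ∣ p ^ n - 1 := by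
  obtain ⟨⟨x, hxH⟩, hgen⟩ := hH.exists_generator
  have hord : orderOf x = Nat.card H := by
    rw [← orderOf_eq_card_of_forall_mem_zpowers hgen, Subgroup.orderOf_mk]
  have hmap : P.map (MulAut.conj x).toMonoidHom = P := mem_normalizer_iff_map_conj_eq.mp (hHP hxH)
  let α : MulAut P := ((MulAut.conj x).subgroupMap P).trans (MulEquiv.subgroupCongr hmap)
  have hα : ∀ (j : ℕ) (u : P), ((α ^ j) u : G) = x ^ j * u * (x ^ j)⁻¹ := by
    intro j
    induction j with
    | zero => intro u; simp
    | succ j ih =>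
      intro u
      rw [pow_succ', MulAut.mul_apply]
      show x * ((α ^ j) u : G) * x⁻¹ = _
      rw [ih, pow_succ']
      group
  have hfixj : ∀ j, 0 < j → j < orderOf x → ∀ u : P, (α ^ j) u = u ↔ u ∈ center P := by
    intro j hj0 hj u
    have hne : x ^ j ≠ 1 := fun h => absurd (Nat.le_of_dvd hj0 (orderOf_dvd_of_pow_eq_one h)) (not_le.mpr hj)
    have h := hfix (x ^ j) (pow_mem hxH j) hne
    rw [Subtype.ext_iff, hα, mul_inv_eq_iff_eq_mul]
    constructor
    · intro hu
      have : (u : G) ∈ P ⊓ Subgroup.centralizer ({x ^ j} : Set G) :=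
        ⟨u.2, mem_centralizer_singleton_iff.mpr hu.symm⟩
      rw [h] at this
      exact (mem_map_iff_mem P.subtype_injective).mp this
    · intro hu
      have : (u : G) ∈ P ⊓ Subgroup.centralizer ({x ^ j} : Set G) := h ▸ mem_map_of_mem P.subtype hu
      exact (mem_centralizer_singleton_iff.mp this.2).symm
  have hordα : orderOf α = orderOf x := by
    refine Nat.dvd_antisymm (orderOf_dvd_of_pow_eq_one (MulEquiv.ext fun u => Subtype.ext ?_)) ?_
    · rw [hα, pow_orderOf_eq_one]; simp
    · by_contra hnd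
      set j := orderOf α % orderOf x with hj
      have hj0 : 0 < j := Nat.pos_of_ne_zero fun h0 => hnd (Nat.dvd_of_mod_eq_zero h0)
      have hjlt : j < orderOf x := Nat.mod_lt _ (orderOf_pos x)
      have hid : ∀ u : P, (α ^ j) u = u := fun u => by
        apply Subtype.ext
        rw [hα, hj, pow_mod_orderOf, ← hα, pow_orderOf_eq_one]
        rfl
      apply CfsgLib.PGroups.Extraspecial.not_isMulCommutative hP
      exact ⟨⟨fun a b => mem_center_iff.mp ((hfixj j hj0 hjlt b).mp (hid b)) a⟩⟩
  rw [← hord]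
  rw [← hord] at hcop
  by_cases h1 : orderOf x = 1
  · exact Or.inl (by rw [h1]; exact one_dvd _)
  have hZ : ∀ z ∈ center P, α z = z := fun z hz => by
    have := (hfixj 1 one_pos (by have := orderOf_pos x; omega) z).mpr hz
    rwa [pow_one] at this
  have hmain := CfsgLib.PGroups.extraspecial_cyclic_action hP α (hordα ▸ hcop) hZ
    (fun j hj0 hj u => (hfixj j hj0 (hordα ▸ hj) u).mp) ⊤ n le_top (fun k _ => mem_top _) (by
      rw [top_inf_eq, coe_top, centralizer_univ, Subgroup.card_top, hn, hP.2, pow_succ'])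
  rw [hordα] at hmain
  rcases hmain with h | h
  · right
    rw [← ZMod.natCast_eq_zero_iff, Nat.cast_sub (Nat.one_le_pow _ _ (Fact.out : p.Prime).pos), Nat.cast_pow,
      Nat.cast_one, h, sub_self]
  · left
    rw [← ZMod.natCast_eq_zero_iff, Nat.cast_add, Nat.cast_pow, Nat.cast_one, h, neg_add_cancel]

end Cfsg.Agent.S3767
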