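import Cfsg.Statements.S3769
import Cfsg.Agent.Lib.OddOrder.LinearBridge
import Cfsg.Agent.Lib.Coprime.Basic

set_option autoImplicit false
open Cfsg

namespace Cfsg.Agent.S3769

/-- Let G and V be subgroups of a finite group with G solvable of odd order normalizing V, V an elementary abelian ℓ-group for a prime ℓ not dividing the order of G, and suppose G has a normal Hall subgroup K with a complement R of prime order. If C_V(R) = 1, then [R, K] centralizes V. -/
theorem result {X : Type*} [Group X] [Finite X] (G : Subgroup X) (hsolv : Group.IsSolvable G) (hodd : Odd (Nat.card G)) (V : Subgroup X) {ℓ : ℕ} (hℓ : ℓ.Prime) (hV : Cfsg.IsElementaryAbelian ℓ V) (hℓG : ¬ ℓ ∣ Nat.card G) (hGV : G ≤ Subgroup.normalizer (V : Set X)) (K R : Subgroup X) (hKG : K ≤ G) (hKn : G ≤ Subgroup.normalizer (K : Set X)) (hHall : (Nat.card K).Coprime (K.relIndex G)) (hRG : R ≤ G) (hR : (Nat.card R).Prime) (hKR : K ⊓ R = ⊥) (hKRG : K ⊔ R = G) (hCV : V ⊓ Subgroup.centralizer (R : Set X) = ⊥) : ⁅R, K⁆ ≤ Subgroup.centralizer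 (V : Set X) := by
  have : Fact ℓ.Prime := ⟨hℓ⟩
  have hcard : Nat.card G = Nat.card R * Nat.card K := by
    rw [← hKRG, sup_comm]
    exact CfsgLib.Coprime.card_sup_of_inf_eq_bot (hRG.trans hKn) (by rwa [inf_comm])
  have hrel : K.relIndex G = Nat.card R := by
    have h := Subgroup.relIndex_mul_relIndex ⊥ K G bot_le hKG
    rw [Subgroup.relIndex_bot_left, Subgroup.relIndex_bot_left, hcard, mul_comm (Nat.card R)] at h
    exact Nat.eq_of_mul_eq_mul_left Nat.card_pos h
  refine CfsgLib.OddOrder.LinearBridge.commutator_le_centralizer hV (hKG.trans hGV)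
    (hRG.trans hGV) (hRG.trans hKn) (CfsgLib.Coprime.isSolvable_of_le hKG hsolv)
    (hodd.of_dvd_nat (Subgroup.card_dvd_of_le hKG)) hR ?_ ?_
    (fun h => hℓG (h.trans (Subgroup.card_dvd_of_le hKG))) ?_ hCV
  · intro h
    have := hodd.of_dvd_nat (Subgroup.card_dvd_of_le hRG)
    rw [h] at this
    exact absurd this (by decide)
  · rw [← hR.coprime_iff_not_dvd, ← hrel]
    exact hHall.symm
  · rintro rfl
    exact hℓG (Subgroup.card_dvd_of_le hRG)

end Cfsg.Agent.S3769
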