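import Cfsg.Statements.S3770
import Cfsg.Agent.Lib.OddOrder.FrobeniusAction
import Cfsg.Agent.Lib.Base.FrobeniusConj
import Cfsg.Agent.Lib.Base.Frobenius
open Subgroup
open scoped commutatorElement

set_option autoImplicit false
open Cfsg

namespace Cfsg.Agent.S3770

/-- Let G and V be subgroups of a finite group with G a Frobenius group with complement R of prime order and kernel K, G normalizing V, and V an elementary abelian ℓ-group for a prime ℓ not dividing the order of G. If C_V(R) has order ℓ, then the derived subgroup of K centralizes V. -/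
theorem result {X : Type*} [Group X] [Finite X] (G : Subgroup X) (V : Subgroup X) {ℓ : ℕ} (hℓ : ℓ.Prime) (hV : Cfsg.IsElementaryAbelian ℓ V) (hℓG : ¬ ℓ ∣ Nat.card G) (hGV : G ≤ Subgroup.normalizer (V : Set X)) (R : Subgroup ↥G) (hR : Cfsg.IsFrobeniusComplement R) (hRp : (Nat.card R).Prime) (hCV : Nat.card ↥(V ⊓ Subgroup.centralizer ((R.map G.subtype : Subgroup X) : Set X)) = ℓ) : ⁅Subgroup.closure (Subtype.val '' Cfsg.frobeniusKernel R), Subgroup.closure (Subtype.val '' Cfsg.frobeniusKernel R)⁆ ≤ Subgroup.centralizer (V : Set X) := by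
  have _ := hRp
  haveI : Fact ℓ.Prime := ⟨hℓ⟩
  obtain ⟨N, hNset, hNn, hNc, hN1, hfpfN⟩ := CfsgLib.Base.Frobenius.exists_isFPF hR
  haveI := hNn
  rw [← hNset]
  have hcl : Subgroup.closure (Subtype.val '' (N : Set ↥G)) = N.map G.subtype := by
    rw [show (Subtype.val '' (N : Set ↥G)) = G.subtype '' (N : Set ↥G) from rfl, ← MonoidHom.map_closure,
      closure_eq]
  rw [hcl]
  set K := N.map G.subtype with hK
  set R' := R.map G.subtype with hR'
  have hKG : K ≤ G := map_subtype_le N
  have hRG : R' ≤ G := map_subtype_le R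
  haveI hVc : IsMulCommutative V := hV.1
  haveI : Group.IsNilpotent V := @CommGroup.isNilpotent V
    { (inferInstance : Group V) with mul_comm := fun a b => hVc.is_comm.comm a b }
  have hcopG : (Nat.card G).Coprime (Nat.card V) := by
    have hp : IsPGroup ℓ V := fun v => ⟨1, Subtype.ext (by simpa using hV.2 v v.2)⟩
    obtain ⟨k, hk⟩ := IsPGroup.iff_card.1 hp
    rw [hk]
    exact Nat.Coprime.pow_right k ((hℓ.coprime_iff_not_dvd.2 hℓG).symm)
  have hKV : K ≤ normalizer (V : Set X) := hKG.trans hGV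
  have hcopK : (Nat.card K).Coprime (Nat.card V) := hcopG.coprime_dvd_left (card_dvd_of_le hKG)
  have hsup := CfsgLib.Coprime.commutator_sup_centralizer hKV hcopK (Or.inr inferInstance)
  set M := ⁅V, K⁆ with hM
  have hMV : M ≤ V := CfsgLib.Coprime.commutator_le_of_le_normalizer hKV
  have hGK : G ≤ normalizer (K : Set X) := by
    refine fun g hg => mem_normalizer_fintype ?_
    rintro _ ⟨k, hk, rfl⟩
    exact ⟨⟨g, hg⟩ * k * ⟨g, hg⟩⁻¹, hNn.conj_mem k hk _, rfl⟩
  have hGM : G ≤ normalizer (M : Set X) := by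
    intro g hg
    rw [mem_normalizer_iff_map_conj_eq, hM, map_commutator, mem_normalizer_iff_map_conj_eq.1 (hGV hg),
      mem_normalizer_iff_map_conj_eq.1 (hGK hg)]
  have hsetting : CfsgLib.OddOrder.FrobeniusAction.Setting K R' M := by
    refine ⟨?_, ⟨hRG.trans hGK, ?_⟩, ?_, hKG.trans hGM, hRG.trans hGM,
      hcopK.coprime_dvd_right (card_dvd_of_le hMV),
      (hcopG.coprime_dvd_left (card_dvd_of_le hRG)).coprime_dvd_right (card_dvd_of_le hMV), ?_⟩
    · intro h
      exact hR.1 ((map_eq_bot_iff_of_injective R G.subtype_injective).1 h)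
    · rintro _ ⟨r, hr, rfl⟩ hr1
      rw [eq_bot_iff]
      rintro _ ⟨⟨k, hk, rfl⟩, hc⟩
      have hc' : Commute k r := Subtype.ext (mem_centralizer_singleton_iff.1 hc)
      have h2 := hfpfN.eq_one_of_commute hr (fun h => hr1 (by rw [h]; rfl)) hk hc'.symm
      rw [mem_bot, h2, map_one]
    · exact Group.nilpotent_of_surjective (G := ↥(M.subgroupOf V)) (subgroupOfEquivOfLe hMV).toMonoidHom
        (subgroupOfEquivOfLe hMV).surjective
    · rw [eq_bot_iff, ← CfsgLib.Coprime.centralizer_inf_commutator_eq_bot hKV hcopK]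
      exact fun x hx => ⟨⟨hMV hx.1, hx.2⟩, hx.1⟩
  have hform := CfsgLib.OddOrder.FrobeniusAction.formula _ rfl hsetting
  haveI : IsCyclic ↥(V ⊓ centralizer (R' : Set X)) := isCyclic_of_prime_card hCV
  have hMc : IsCyclic ↥(M ⊓ centralizer (R' : Set X)) :=
    isCyclic_of_injective (inclusion (inf_le_inf_right _ hMV)) (inclusion_injective _)
  have h1 := hform.2 hMc
  rw [← hsup, le_centralizer_iff]
  refine sup_le ?_ ?_ <;> rw [le_centralizer_iff]
  · exact h1
  · refine (CfsgLib.Coprime.commutator_le_of_le_normalizer le_normalizer).trans ?_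
    rw [le_centralizer_iff]
    exact inf_le_right

end Cfsg.Agent.S3770
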