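import Cfsg.Statements.S3774
import Cfsg.Agent.Lib.PGroups.Basic

set_option autoImplicit false
open Cfsg

namespace Cfsg.Agent.S3774

/-- Let G be a nontrivial finite 2-group whose automorphism group permutes the involutions of G transitively. Then every involution of G is central, so that the involutions together with 1 form the subgroup Ω₁(Z(G)), and if this subgroup has order q then |G| is a power of q. -/
theorem result {G : Type*} [Group G] [Finite G] [Nontrivial G] (hG : IsPGroup 2 G) (htrans : ∀ x y : G, x ≠ 1 → x ^ 2 = 1 → y ≠ 1 → y ^ 2 = 1 → ∃ a : MulAut G, a x = y) : (∀ x : G, x ^ 2 = 1 → x ∈ Subgroup.center G) ∧ ∃ m : ℕ, Nat.card G = Nat.card {z : G // z ^ 2 = 1} ^ m := by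
  classical
  haveI : Fact (Nat.Prime 2) := ⟨Nat.prime_two⟩
  haveI := Fintype.ofFinite G
  haveI := Fintype.ofFinite (MulAut G)
  -- a central involution
  obtain ⟨z, hzc, hz1, hz2⟩ : ∃ z ∈ Subgroup.center G, z ≠ 1 ∧ z ^ 2 = 1 := by
    haveI := hG.center_nontrivial
    obtain ⟨k, hk⟩ := IsPGroup.iff_card.mp (hG.to_subgroup (Subgroup.center G))
    have hdvd : 2 ∣ Nat.card (Subgroup.center G) := by
      rcases k with _ | k
      · have := Finite.one_lt_card (α := Subgroup.center G)
        rw [hk, pow_zero] at this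
        exact absurd this (lt_irrefl 1)
      · exact hk ▸ dvd_pow_self 2 k.succ_ne_zero
    obtain ⟨z, hz⟩ := exists_prime_orderOf_dvd_card' 2 hdvd
    refine ⟨z, z.2, fun h => ?_, ?_⟩
    · rw [show z = 1 from Subtype.ext h, orderOf_one] at hz; omega
    · rw [← hz, Subgroup.orderOf_coe z |>.symm, pow_orderOf_eq_one]
  have hcen : ∀ x : G, x ^ 2 = 1 → x ∈ Subgroup.center G := by
    intro x hx
    by_cases h1 : x = 1
    · exact h1 ▸ one_mem _
    obtain ⟨a, ha⟩ := htrans z x hz1 hz2 h1 hx
    rw [← ha, Subgroup.mem_center_iff]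
    intro g
    obtain ⟨g', rfl⟩ := a.surjective g
    rw [← map_mul, Subgroup.mem_center_iff.mp hzc g', map_mul]
  refine ⟨hcen, ?_⟩
  let E : Subgroup G :=
    { carrier := {x | x ^ 2 = 1}
      mul_mem' := fun {a b} ha hb => by
        show (a * b) ^ 2 = 1
        rw [(show Commute a b from (Subgroup.mem_center_iff.mp (hcen b hb) a)).mul_pow,
          show a ^ 2 = 1 from ha, show b ^ 2 = 1 from hb, one_mul]
      one_mem' := one_pow 2
      inv_mem' := fun {a} ha => by
        show a⁻¹ ^ 2 = 1
        rw [inv_pow, show a ^ 2 = 1 from ha, inv_one] }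
  obtain ⟨n, hn⟩ := IsPGroup.iff_card.mp (hG.to_subgroup E)
  obtain ⟨a, ha⟩ := IsPGroup.iff_card.mp hG
  have hn0 : n ≠ 0 := by
    intro h
    rw [h, pow_zero] at hn
    exact hz1 (congrArg Subtype.val
      ((Nat.card_eq_one_iff_unique.mp hn).1.elim (⟨z, hz2⟩ : E) 1))
  have hE : Nat.card {z : G // z ^ 2 = 1} = 2 ^ n := hn
  rw [hE]
  -- every orbit of nontrivial elements has size divisible by `2 ^ n - 1`
  have horb : ∀ x : G, x ≠ 1 →
      2 ^ n - 1 ∣ (MulAction.stabilizer (MulAut G) x).index := by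
    intro x hx
    obtain ⟨j, hj⟩ := IsPGroup.iff_orderOf.mp hG x
    rcases j with _ | j
    · exact absurd (orderOf_eq_one_iff.mp (by rw [hj, pow_zero])) hx
    set y := x ^ 2 ^ j with hy
    have hy1 : y ≠ 1 := fun h => by
      have := Nat.le_of_dvd (by positivity) (orderOf_dvd_of_pow_eq_one h)
      rw [hj, pow_succ] at this
      have := Nat.two_pow_pos j
      omega
    have hy2 : y ^ 2 = 1 := by rw [hy, ← pow_mul, ← pow_succ, ← hj, pow_orderOf_eq_one]
    have hidx : (MulAction.stabilizer (MulAut G) y).index = 2 ^ n - 1 := by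
      rw [MulAction.index_stabilizer]
      have horbit : MulAction.orbit (MulAut G) y = (E : Set G) \ {1} := by
        ext w
        constructor
        · rintro ⟨f, rfl⟩
          refine ⟨?_, fun h => hy1 ?_⟩
          · show (f y) ^ 2 = 1
            rw [← map_pow, hy2, map_one]
          · exact f.injective (h.trans (map_one f).symm)
        · rintro ⟨hw, hw1⟩
          obtain ⟨f, hf⟩ := htrans y w hy1 hy2 hw1 hw
          exact ⟨f, hf⟩
      rw [horbit, Set.ncard_sdiff (by simp), Set.ncard_singleton, ← hn]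
      rfl
    rw [← hidx]
    refine Subgroup.index_dvd_of_le fun f hf => ?_
    rw [MulAction.mem_stabilizer_iff] at hf ⊢
    show f (x ^ 2 ^ j) = x ^ 2 ^ j
    rw [map_pow]
    exact congrArg (· ^ 2 ^ j) hf
  have hdvd : 2 ^ n - 1 ∣ 2 ^ a - 1 := by
    letI : MulAction (MulAut G) {x : G // x ≠ 1} :=
      { smul := fun f x => ⟨f x.1, fun h => x.2 (f.injective (h.trans (map_one f).symm))⟩
        one_smul := fun x => Subtype.ext rfl
        mul_smul := fun f g x => Subtype.ext rfl }
    have hcard : Nat.card {x : G // x ≠ 1} = 2 ^ a - 1 := by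
      rw [← ha, Nat.card_eq_fintype_card, Nat.card_eq_fintype_card, Fintype.card_subtype_compl,
        Fintype.card_subtype_eq]
    rw [← hcard, Nat.card_congr (MulAction.selfEquivSigmaOrbits (MulAut G) {x : G // x ≠ 1})]
    haveI := Fintype.ofFinite (Quotient (MulAction.orbitRel (MulAut G) {x : G // x ≠ 1}))
    rw [Nat.card_sigma]
    refine Finset.dvd_sum fun w _ => ?_
    rw [Nat.card_coe_set_eq, ← MulAction.index_stabilizer]
    have hst : MulAction.stabilizer (MulAut G) w.out = MulAction.stabilizer (MulAut G) w.out.1 := by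
      ext f
      rw [MulAction.mem_stabilizer_iff, MulAction.mem_stabilizer_iff, Subtype.ext_iff]
      rfl
    rw [hst]
    exact horb _ w.out.2
  have hgcd := Nat.pow_sub_one_gcd_pow_sub_one 2 n a
  rw [Nat.gcd_eq_left hdvd] at hgcd
  have hn' : n ∣ a := by
    have h1 : (2 : ℕ) ^ n = 2 ^ n.gcd a := by
      have := Nat.two_pow_pos n
      have := Nat.two_pow_pos (n.gcd a)
      omega
    rw [Nat.pow_right_injective le_rfl h1]
    exact Nat.gcd_dvd_right n a
  obtain ⟨m, rfl⟩ := hn'
  exact ⟨m, by rw [ha, pow_mul]⟩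

end Cfsg.Agent.S3774
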