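import Cfsg.Statements.S3775
import Cfsg.Agent.Lib.PGroups.CoprimeIndecomposable
open CfsgLib.PGroups.Indecomposable

set_option autoImplicit false
open Cfsg

namespace Cfsg.Agent.S3775

/-- Let A be a finite abelian p-group and X a group of automorphisms of A of order prime to p. Call a subgroup of A invariant when every element of X maps it onto itself. Then the following are equivalent: (i) A is not the direct product of two nontrivial invariant subgroups; (ii) every invariant subgroup of A is one of the subgroups Ω_i(A) = {a : a^(p^i) = 1}; (iii) the subgroup Ω₁(A) of elements of order dividing p has no invariant subgroups other than 1 and itself. -/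
theorem result {A : Type*} [CommGroup A] [Finite A] {p : ℕ} [Fact p.Prime] (hA : IsPGroup p A) (X : Subgroup (MulAut A)) (hX : (Nat.card X).Coprime p) : ((¬ ∃ B C : Subgroup A, B ≠ ⊥ ∧ C ≠ ⊥ ∧ (∀ x ∈ X, B.map x.toMonoidHom = B) ∧ (∀ x ∈ X, C.map x.toMonoidHom = C) ∧ B ⊓ C = ⊥ ∧ B ⊔ C = ⊤) ↔ (∀ B : Subgroup A, (∀ x ∈ X, B.map x.toMonoidHom = B) → ∃ i : ℕ, ∀ a : A, a ∈ B ↔ a ^ p ^ i = 1)) ∧ ((∀ B : Subgroup A, (∀ x ∈ X, B.map x.toMonoidHom = B) → ∃ i : ℕ, ∀ a : A, a ∈ B ↔ a ^ p ^ i = 1) ↔ (∀ B : Subgroup A, (∀ x ∈ X, B.map x.toMonoidHom = B) → (∀ b ∈ B, b ^ p = 1) → B = ⊥ ∨ ∀ a : A, a ∈ B ↔ a ^ p = 1)) := by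
  have h31 := eq_omega_of_socle (X := X) hA
  have h12 := socle_irreducible (X := X) hA hX
  constructor
  · constructor
    · intro hind
      exact h31 (fun B hB hBp => h12 hind B hB hBp)
    · rintro hii ⟨B, C, hB, hC, hBi, hCi, hinf, -⟩
      obtain ⟨i, hi⟩ := hii B hBi
      obtain ⟨j, hj⟩ := hii C hCi
      rcases le_total i j with hij | hij
      · have hle : B ≤ C := fun a ha => (hj a).2 (by
          obtain ⟨d, rfl⟩ := Nat.exists_eq_add_of_le hij
          rw [pow_add, pow_mul, (hi a).1 ha, one_pow])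
        exact hB (by rw [← hinf, inf_eq_left.2 hle])
      · have hle : C ≤ B := fun a ha => (hi a).2 (by
          obtain ⟨d, rfl⟩ := Nat.exists_eq_add_of_le hij
          rw [pow_add, pow_mul, (hj a).1 ha, one_pow])
        exact hC (by rw [← hinf, inf_eq_right.2 hle])
  · constructor
    · intro hii B hB hBp
      obtain ⟨i, hi⟩ := hii B hB
      rcases i with _ | i
      · left
        exact eq_bot_iff.2 fun b hb => Subgroup.mem_bot.2 (by simpa using (hi b).1 hb)
      · refine Or.inr fun a => ⟨fun ha => hBp a ha, fun ha => (hi a).2 ?_⟩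
        rw [pow_succ', pow_mul, ha, one_pow]
    · exact fun h3 B hB => h31 h3 B hB

end Cfsg.Agent.S3775
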