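import Cfsg.Statements.S3780
import Cfsg.Agent.Lib.PGroups.Generation

set_option autoImplicit false
open Cfsg

namespace Cfsg.Agent.S3780

/-- Let V be a finite abelian p-group and α an automorphism of V of order p whose fixed-point subgroup has order p^n. Then V can be generated by pn elements: some subset of V with at most pn elements generates V. -/
theorem result {V : Type*} [CommGroup V] [Finite V] {p : ℕ} [Fact p.Prime] (hV : IsPGroup p V) (α : MulAut V) (hα : orderOf α = p) (n : ℕ) (hfix : Nat.card {v : V // α v = v} = p ^ n) : ∃ S : Finset V, S.card ≤ p * n ∧ Subgroup.closure (S : Set V) = ⊤ := by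
  classical
  have hp : p.Prime := Fact.out
  let W : Subgroup V := (powMonoidHom p : V →* V).ker
  have hW : ∀ v : V, v ∈ W ↔ v ^ p = 1 := fun v => Iff.rfl
  have hαW : ∀ v ∈ W, α v ∈ W := fun v hv => by rw [hW, ← map_pow, (hW v).mp hv, map_one]
  let a : AddMonoid.End (Additive W) :=
    { toFun := fun w => Additive.ofMul ⟨α (w.toMul : V), hαW _ w.toMul.2⟩
      map_zero' := congrArg Additive.ofMul (Subtype.ext (map_one α))
      map_add' := fun u w => congrArg Additive.ofMul (Subtype.ext (map_mul α _ _)) }
  set f : AddMonoid.End (Additive W) := a - 1 with hf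
  have ha : ∀ (j : ℕ) (w : Additive W), (((a ^ j) w).toMul : V) = (α ^ j) (w.toMul : V) := by
    intro j
    induction j with
    | zero => intro w; rfl
    | succ j ih =>
      intro w
      rw [pow_succ, pow_succ, AddMonoid.End.coe_mul, Function.comp_apply, ih, MulAut.mul_apply]
      rfl
  have hap : a ^ p = 1 := by
    refine DFunLike.ext _ _ fun w => Additive.toMul.injective (Subtype.ext ?_)
    rw [ha, ← hα, pow_orderOf_eq_one]
    rfl
  have hfp : f ^ p = 0 := by
    obtain ⟨r, hr⟩ := (Commute.one_right f).exists_add_pow_prime_eq hp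
    rw [hf, sub_add_cancel, hap, one_pow, ← hf] at hr
    have hpz : ∀ w : Additive W, p • w = 0 := fun w => Additive.toMul.injective (Subtype.ext w.toMul.2)
    refine DFunLike.ext _ _ fun w => ?_
    have h2 : w = (f ^ p) w + w + ((p : AddMonoid.End (Additive W)) ((f * 1 * r) w)) := by
      have h2 := DFunLike.congr_fun hr w
      rw [mul_assoc (p : AddMonoid.End (Additive W)), mul_assoc (p : AddMonoid.End (Additive W))] at h2
      exact h2
    rw [AddMonoid.End.natCast_apply, hpz, add_zero, right_eq_add] at h2
    exact h2
  let K : ℕ → AddSubgroup (Additive W) := fun j =>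
    { carrier := {w | (f ^ j) w = 0}
      zero_mem' := map_zero _
      add_mem' := fun {u w} hu hw => by
        show (f ^ j) (u + w) = 0
        rw [map_add, show (f ^ j) u = 0 from hu, show (f ^ j) w = 0 from hw, add_zero]
      neg_mem' := fun {u} hu => by
        show (f ^ j) (-u) = 0
        rw [map_neg, show (f ^ j) u = 0 from hu, neg_zero] }
  have hker : Nat.card {w : Additive W // f w = 0} ≤ p ^ n := by
    rw [← hfix]
    refine Nat.card_le_card_of_injective (fun w => ⟨((w : Additive W).toMul : V), ?_⟩) ?_
    · have h0 : a (w : Additive W) - w = 0 := w.2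
      exact congrArg (fun z : Additive W => (z.toMul : V)) (sub_eq_zero.mp h0)
    · intro u w huw
      have h5 : ((u : Additive W).toMul : V) = ((w : Additive W).toMul : V) := congrArg (fun z : {v : V // α v = v} => (z : V)) huw
      exact Subtype.ext (Additive.toMul.injective (Subtype.ext h5))
  have hbound : ∀ j, Nat.card (K j) ≤ (p ^ n) ^ j := by
    intro j
    induction j with
    | zero =>
      haveI : Subsingleton (K 0) := ⟨fun u w => Subtype.ext
        ((show (u : Additive W) = 0 from u.2).trans (show (w : Additive W) = 0 from w.2).symm)⟩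
      rw [pow_zero, Nat.card_unique]
    | succ j ih =>
      let g : K (j + 1) →+ K j :=
        AddMonoidHom.mk' (fun w => ⟨f (w : Additive W), by
            show (f ^ j) (f (w : Additive W)) = 0
            rw [← Function.comp_apply (f := ⇑(f ^ j)), ← AddMonoid.End.coe_mul, ← pow_succ]
            exact w.2⟩)
          (fun u w => Subtype.ext (map_add f _ _))
      rw [AddSubgroup.card_eq_card_quotient_mul_card_addSubgroup g.ker,
        Nat.card_congr (QuotientAddGroup.quotientKerEquivRange g).toEquiv, pow_succ]
      refine Nat.mul_le_mul ((Nat.card_le_card_of_injective _ Subtype.val_injective).trans ih) (le_trans ?_ hker)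
      refine Nat.card_le_card_of_injective (fun w => ⟨((w : K (j+1)) : Additive W),
        congrArg Subtype.val w.2⟩) (fun u w h => Subtype.ext (Subtype.ext (congrArg Subtype.val h :)))
  have hWle : Nat.card W ≤ p ^ (p * n) := by
    have h1 := hbound p
    rw [← pow_mul, mul_comm n p] at h1
    refine le_trans (le_of_eq ?_) h1
    exact Nat.card_congr ⟨fun w => ⟨Additive.ofMul w, DFunLike.congr_fun hfp _⟩,
      fun w => (w : Additive W).toMul, fun w => rfl, fun w => rfl⟩
  have hΦ : (frattini V).index ≤ Nat.card W := by
    have e : (powMonoidHom p : V →* V).range.index = Nat.card W := Subgroup.index_range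
    rw [← e]
    refine Nat.le_of_dvd (Nat.pos_of_ne_zero Subgroup.FiniteIndex.index_ne_zero) (Subgroup.index_dvd_of_le ?_)
    rintro _ ⟨v, rfl⟩
    exact CfsgLib.PGroups.pow_mem_frattini hV v
  obtain ⟨S, hS, hcard⟩ := CfsgLib.PGroups.exists_finset_closure_eq_top hV
  exact ⟨S, (Nat.pow_le_pow_iff_right hp.one_lt).mp (hcard.trans (hΦ.trans hWle)), hS⟩

end Cfsg.Agent.S3780
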