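import Cfsg.Statements.S3783
import Mathlib
import Cfsg.Agent.Lib.PLocal.HallHigmanFrattini

set_option autoImplicit false
open Cfsg

namespace Cfsg.Agent.S3783

/-- Let G be a finite p-soluble group in which, for every prime q ≠ p, the Sylow q-subgroups are abelian. If the Sylow p-subgroups of G have exponent dividing p^n, then G has p-length at most n. -/
theorem result {G : Type*} [Group G] [Finite G] {p : ℕ} [Fact p.Prime] (hG : Cfsg.IsPSolvable p G) (hab : ∀ (q : ℕ) [Fact q.Prime], q ≠ p → ∀ Q : Sylow q G, IsMulCommutative (Q : Subgroup G)) (n : ℕ) (hexp : ∀ (P : Sylow p G), ∀ x ∈ (P : Subgroup G), x ^ p ^ n = 1) : Cfsg.PLengthLE p n G := by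
  classical
  revert G
  induction n with
  | zero =>
    intro G _ _ hG hab hexp
    refine CfsgLib.PLocal.upperPSeries_one_eq_top ((Fact.out : p.Prime).coprime_iff_not_dvd.2
      fun hd => ?_).symm
    obtain ⟨S⟩ : Nonempty (Sylow p G) := inferInstance
    refine S.ne_bot_of_dvd_card hd ((Subgroup.eq_bot_iff_forall _).2 fun x hx => ?_)
    simpa using hexp S x hx
  | succ n ih =>
    intro G _ _ hG hab hexp
    have hpp : p.Prime := Fact.out
    set U := (upperPSeries p G 2).1 with hU
    have h1 : (upperPSeries p G 1).1 = pPrimeCore p G := by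
      rw [CfsgLib.PLocal.upperPSeries_odd p G 0]
      exact CfsgLib.Base.comap_mk'_pPrimeCore (upperPSeries p G 0).1
        (by rw [CfsgLib.PLocal.upperPSeries_zero, Subgroup.card_bot]; exact Nat.coprime_one_left p)
    have hstep : ∀ (N : Subgroup G) [N.Normal], N = pPrimeCore p G →
        ∀ (S : Sylow p G), ∀ y ∈ (S : Subgroup G),
          QuotientGroup.mk' N (y ^ p ^ n) ∈ pCore p (G ⧸ N) := by
      intro N _ hN S y hy
      have hXs : IsPSolvable p (G ⧸ N) := CfsgLib.PLocal.isPSolvable_quotient hG N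
      have hO : pPrimeCore p (G ⧸ N) = ⊥ := by
        subst hN; exact CfsgLib.Base.pPrimeCore_quotient_pPrimeCore p G
      obtain ⟨D⟩ := CfsgLib.PLocal.FrattiniRep.exists_data hXs hO
      have hπ := QuotientGroup.mk'_surjective N
      rw [map_pow]
      set x := QuotientGroup.mk' N y with hx
      have hexpX : ∀ z ∈ ((S.mapSurjective hπ : Sylow p (G ⧸ N)) : Subgroup (G ⧸ N)),
          z ^ p ^ (n + 1) = 1 := by
        rintro _ ⟨w, hw, rfl⟩
        rw [← map_pow, hexp S w hw, map_one]
      have hxS : x ∈ ((S.mapSurjective hπ : Sylow p (G ⧸ N)) : Subgroup (G ⧸ N)) := ⟨y, hy, rfl⟩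
      by_contra hne
      have h1 : D.ρ x ^ p ^ n ≠ 1 := fun h => hne (D.ker ▸ MonoidHom.mem_ker.2 ((map_pow D.ρ x _).trans h))
      have hord : orderOf (D.ρ x) = p ^ (n + 1) :=
        orderOf_eq_prime_pow h1 (by rw [← map_pow, hexpX x hxS, map_one])
      obtain ⟨v, hv⟩ := D.exists_ne_zero hXs (Nat.le_add_left 1 n) hord fun n₀ q k h1 _ hq hk he => by
        haveI : Fact q.Prime := ⟨hq⟩
        have hqp : q ≠ p := by
          rintro rfl
          have h2 : q ∣ q ^ n₀ - 1 := he ▸ dvd_pow_self q (by omega)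
          have h3 : q ∣ q ^ n₀ := dvd_pow_self q (by omega)
          have := Nat.dvd_sub h3 h2
          rw [Nat.sub_sub_self (Nat.one_le_pow _ _ hpp.pos)] at this
          exact hq.not_dvd_one this
        obtain ⟨Q⟩ : Nonempty (Sylow q G) := inferInstance
        haveI := hab q hqp Q
        exact ⟨Q.mapSurjective hπ, Subgroup.map_isMulCommutative _ _⟩
      obtain ⟨r, rfl⟩ := D.proj_surjective v
      obtain ⟨c, hc, hpc⟩ := D.exists_pow_eq x r (p ^ (n + 1))
      rw [hexpX _ (mul_mem (CfsgLib.Base.pCore_le_sylow _ r.2) hxS), hexpX x hxS, mul_one] at hc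
      rw [CfsgLib.PLocal.FrattiniRep.geom_sum_pow,
        show c = 1 from Subtype.ext hc.symm, D.proj_one] at hpc
      exact hv hpc.symm
    have hcomap : (pCore p (G ⧸ (upperPSeries p G 1).1)).comap
        (QuotientGroup.mk' (upperPSeries p G 1).1) = U := by
      rw [hU, show (2 : ℕ) = 2 * 0 + 2 from rfl, CfsgLib.PLocal.upperPSeries_even p G 0]
    have hq := ih (G := G ⧸ U) (CfsgLib.PLocal.isPSolvable_quotient hG U)
      (fun q _ hqp Q => by
        obtain ⟨Q', hQ'⟩ := Sylow.mapSurjective_surjective (QuotientGroup.mk'_surjective U) q Q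
        haveI := hab q hqp Q'
        subst hQ'
        exact Subgroup.map_isMulCommutative _ _)
      (fun T x hx => by
        obtain ⟨S, hS⟩ := Sylow.mapSurjective_surjective (QuotientGroup.mk'_surjective U) p T
        subst hS
        obtain ⟨y, hy, rfl⟩ := hx
        rw [← map_pow, QuotientGroup.mk'_apply, QuotientGroup.eq_one_iff, ← hcomap, Subgroup.mem_comap]
        exact hstep _ h1 S y hy)
    show (upperPSeries p G (2 * (n + 1) + 1)).1 = ⊤
    rw [show 2 * (n + 1) + 1 = (2 * n + 1) + 2 by ring, ← CfsgLib.PLocal.comap_upperPSeries, hq,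
      Subgroup.comap_top]

end Cfsg.Agent.S3783
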