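import Cfsg.Statements.S3785
import Cfsg.Agent.Lib.Base.MinimalNormal
import Cfsg.Agent.Lib.OddOrder.OmegaFixed

set_option autoImplicit false
open Cfsg

namespace Cfsg.Agent.S3785

/-- Let G be a finite solvable group whose Fitting subgroup F(G) has odd order. If an element g of G commutes with every element of prime order of F(G), then g ∈ F(G). -/
theorem result {G : Type*} [Group G] [Finite G] (hG : Group.IsSolvable G) (hodd : Odd (Nat.card (Cfsg.fittingSubgroup G))) (g : G) (hg : ∀ x ∈ Cfsg.fittingSubgroup G, (orderOf x).Prime → g * x = x * g) : g ∈ Cfsg.fittingSubgroup G := by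
  classical
  haveI := hG
  set F := Cfsg.fittingSubgroup G with hF
  haveI hFn : F.Normal := CfsgLib.Base.fittingSubgroup_normal' G
  set H := Subgroup.centralizer {x : G | x ∈ F ∧ (orderOf x).Prime} with hH
  have hgH : g ∈ H := Subgroup.mem_centralizer_iff.mpr fun x hx => (hg x hx.1 hx.2).symm
  haveI hHn : H.Normal := ⟨fun a ha b => Subgroup.mem_centralizer_iff.mpr fun x hx => by
    have h1 : b⁻¹ * x * b ∈ {x : G | x ∈ F ∧ (orderOf x).Prime} := by
      refine ⟨by simpa using hFn.conj_mem x hx.1 b⁻¹, ?_⟩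
      have h2 : b⁻¹ * x * b = MulAut.conj b⁻¹ x := by simp
      rw [h2, (MulAut.conj b⁻¹).orderOf_eq]
      exact hx.2
    have h3 := Subgroup.mem_centralizer_iff.mp ha _ h1
    calc x * (b * a * b⁻¹) = b * ((b⁻¹ * x * b) * a) * b⁻¹ := by group
      _ = b * (a * (b⁻¹ * x * b)) * b⁻¹ := by rw [h3]
      _ = b * a * b⁻¹ * x := by group⟩
  -- prime power elements of `H` centralize the other cores
  have hcent : ∀ r : ℕ, r.Prime → ∀ x ∈ H, (∃ k, orderOf x = r ^ k) → ∀ p : ℕ, p.Prime → p ≠ r →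
      x ∈ Subgroup.centralizer (Cfsg.pCore p G : Set G) := by
    intro r hr x hxH hxr p hp hpr
    haveI := Fact.mk hp
    have hle : Cfsg.pCore p G ≤ F := CfsgLib.Base.pCore_le_fittingSubgroup p G
    rcases eq_or_ne p 2 with h2 | h2
    · have hb : Cfsg.pCore p G = ⊥ := by
        obtain ⟨m, hm⟩ := IsPGroup.iff_card.mp (CfsgLib.Base.isPGroup_pCore p G)
        rcases m with _ | m
        · exact Subgroup.eq_bot_of_card_eq _ (by rw [hm, pow_zero])
        · exfalso
          have h3 : p ∣ Nat.card F := ((dvd_pow_self p m.succ_ne_zero).trans hm.symm.dvd).trans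
            (Subgroup.card_dvd_of_le hle)
          rw [h2] at h3
          exact (Nat.not_even_iff_odd.mpr hodd) (even_iff_two_dvd.mpr h3)
      rw [hb, Subgroup.mem_centralizer_iff]
      intro z hz
      rw [SetLike.mem_coe, Subgroup.mem_bot] at hz
      rw [hz, one_mul, mul_one]
    · obtain ⟨k, hk⟩ := hxr
      refine CfsgLib.OddOrder.le_centralizer_of_fix_order_prime h2 (Cfsg.pCore p G) (Subgroup.zpowers x)
        (CfsgLib.Base.isPGroup_pCore p G) ?_ ?_ ?_ (Subgroup.mem_zpowers x)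
      · rw [Nat.card_zpowers, hk]
        exact Nat.Coprime.pow_left _ ((Nat.coprime_primes hr hp).mpr (Ne.symm hpr))
      · rw [Subgroup.normalizer_eq_top]; exact le_top
      · intro z hz hzp q hq
        by_cases hz1 : z = 1
        · rw [hz1]; exact Commute.one_right q
        have ho : orderOf z = p := orderOf_eq_prime hzp hz1
        have hqH : q ∈ H := (Subgroup.zpowers_le.mpr hxH) hq
        exact (Subgroup.mem_centralizer_iff.mp hqH z ⟨hle hz, ho ▸ hp⟩).symm
  set Z := H ⊓ Subgroup.centralizer (F : Set G) with hZ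
  have hZF : Z ≤ F := inf_le_right.trans CfsgLib.Base.centralizer_fittingSubgroup_le
  have hZcomm : ∀ a ∈ Z, ∀ b ∈ Z, Commute a b := fun a ha b hb =>
    (Subgroup.mem_centralizer_iff.mp ha.2 b (hZF hb)).symm
  haveI : (Subgroup.centralizer (F : Set G)).Normal := inferInstance
  haveI hZn : Z.Normal := inferInstance
  -- elements of coprime prime power order in `H` commute
  have hside : ∀ q : ℕ, q.Prime → ∀ y ∈ H, (∃ k, orderOf y = q ^ k) → ∀ c ∈ Z,
      (∃ k, orderOf (c * y) = q ^ k) → ∃ a, orderOf c ∣ q ^ a := by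
    intro q hq y hy hyq c hc hcy
    set a := (orderOf c).factorization q with ha
    refine ⟨a, ?_⟩
    set w := c ^ q ^ a with hw
    have hwcop : (orderOf w).Coprime q := by
      rw [hw, orderOf_pow, Nat.gcd_eq_right (Nat.ordProj_dvd _ _)]
      exact (Nat.coprime_ordCompl hq (orderOf_pos c).ne').symm
    -- `y` fixes `w`
    set K := ⨆ p : {p : Nat.Primes // (p : ℕ) ≠ q}, Cfsg.pCore ((p : Nat.Primes) : ℕ) G with hK
    haveI hKn : K.Normal := by
      rw [hK]
      haveI : ∀ p : {p : Nat.Primes // (p : ℕ) ≠ q},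
          (Cfsg.pCore ((p : Nat.Primes) : ℕ) G).Normal := fun p => inferInstance
      infer_instance
    have hyK : K ≤ Subgroup.centralizer ({y} : Set G) := by
      refine iSup_le fun p z hz => Subgroup.mem_centralizer_singleton_iff.mpr ?_
      exact Subgroup.mem_centralizer_iff.mp (hcent q hq y hy hyq _ p.1.2 p.2) z hz
    haveI := Fact.mk hq
    have hFK : F ≤ Cfsg.pCore q G ⊔ K := by
      rw [hF, CfsgLib.Base.fittingSubgroup_eq_iSup_pCore]
      refine iSup_le fun p => ?_
      by_cases hp : (p : ℕ) = q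
      · rw [hp]; exact le_sup_left
      · exact le_sup_of_le_right
          (le_iSup (fun p : {p : Nat.Primes // (p : ℕ) ≠ q} => Cfsg.pCore ((p : Nat.Primes) : ℕ) G) ⟨p, hp⟩)
    have hwK : w ∈ K := by
      have hwF : w ∈ F := F.pow_mem (hZF hc) _
      obtain ⟨u, hu, v, hv, huv⟩ := Subgroup.mem_sup_of_normal_right.mp (hFK hwF)
      rw [← QuotientGroup.eq_one_iff, ← orderOf_eq_one_iff]
      refine Nat.eq_one_of_dvd_coprimes ?_ (orderOf_map_dvd (QuotientGroup.mk' K) w)
        (?_ : orderOf ((w : G ⧸ K)) ∣ orderOf u)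
      · obtain ⟨m, hm⟩ := IsPGroup.iff_orderOf.mp (CfsgLib.Base.isPGroup_pCore q G) ⟨u, hu⟩
        rw [Subgroup.orderOf_mk] at hm
        rw [hm]
        exact hwcop.pow_right m
      · have : ((w : G ⧸ K)) = (u : G ⧸ K) := by
          rw [← huv, QuotientGroup.mk_mul, (QuotientGroup.eq_one_iff v).mpr hv, mul_one]
        rw [this]
        exact orderOf_map_dvd (QuotientGroup.mk' K) u
    have hwy : ∀ k : ℕ, y ^ k * w * (y ^ k)⁻¹ = w := fun k => by
      have h1 : Commute w y := Subgroup.mem_centralizer_singleton_iff.mp (hyK hwK)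
      rw [mul_inv_eq_iff_eq_mul]
      exact ((h1.pow_right k).eq).symm
    have hnorm : ∀ k : ℕ, ∃ N ∈ Z, (c * y) ^ k = N * y ^ k ∧ N ^ q ^ a = w ^ k := by
      intro k
      induction k with
      | zero => exact ⟨1, one_mem _, by simp, by simp⟩
      | succ k ih =>
        obtain ⟨N, hN, h1, h2⟩ := ih
        have hd : y ^ k * c * (y ^ k)⁻¹ ∈ Z := hZn.conj_mem c hc _
        refine ⟨N * (y ^ k * c * (y ^ k)⁻¹), mul_mem hN hd, ?_, ?_⟩
        · rw [pow_succ, h1, pow_succ y k]
          group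
        · rw [(hZcomm N hN _ hd).mul_pow, h2, conj_pow, ← hw, hwy, pow_succ]
    obtain ⟨k, hk⟩ := hcy
    obtain ⟨j, hj⟩ := hyq
    obtain ⟨N, -, h1, h2⟩ := hnorm (q ^ (k + j))
    have h3 : (c * y) ^ q ^ (k + j) = 1 :=
      orderOf_dvd_iff_pow_eq_one.mp (hk ▸ pow_dvd_pow q (Nat.le_add_right k j))
    have h4 : y ^ q ^ (k + j) = 1 :=
      orderOf_dvd_iff_pow_eq_one.mp (hj ▸ pow_dvd_pow q (Nat.le_add_left j k))
    rw [h3, h4, mul_one] at h1
    rw [← h1, one_pow] at h2
    have hw1 : w = 1 := orderOf_eq_one_iff.mp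
      (Nat.eq_one_of_dvd_coprimes (hwcop.pow_right (k + j)) dvd_rfl (orderOf_dvd_of_pow_eq_one h2.symm))
    exact orderOf_dvd_of_pow_eq_one hw1
  have hcomm : ∀ r q : ℕ, r.Prime → q.Prime → r ≠ q → ∀ x ∈ H, ∀ y ∈ H, (∃ k, orderOf x = r ^ k) →
      (∃ k, orderOf y = q ^ k) → x * y = y * x := by
    intro r q hr hq hrq x hx y hy hxr hyq
    set c := x * y * x⁻¹ * y⁻¹ with hc
    have hcH : c ∈ H := mul_mem (mul_mem (mul_mem hx hy) (inv_mem hx)) (inv_mem hy)
    have hcC : c ∈ Subgroup.centralizer (F : Set G) := by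
      suffices h : F ≤ Subgroup.centralizer ({c} : Set G) from
        Subgroup.mem_centralizer_iff.mpr fun z hz =>
          Subgroup.mem_centralizer_singleton_iff.mp (h hz)
      rw [hF, CfsgLib.Base.fittingSubgroup_eq_iSup_pCore]
      refine iSup_le fun p => ?_
      have hmem : c ∈ Subgroup.centralizer (Cfsg.pCore (p : ℕ) G : Set G) := by
        by_cases hp : (p : ℕ) = r
        · have h1 := hcent q hq y hy hyq _ p.2 (hp ▸ hrq)
          exact mul_mem ((inferInstance :
            (Subgroup.centralizer (Cfsg.pCore (p : ℕ) G : Set G)).Normal).conj_mem _ h1 x) (inv_mem h1)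
        · have h1 := hcent r hr x hx hxr _ p.2 hp
          rw [hc, mul_assoc x, mul_assoc x]
          exact mul_mem h1 ((inferInstance :
            (Subgroup.centralizer (Cfsg.pCore (p : ℕ) G : Set G)).Normal).conj_mem _ (inv_mem h1) y)
      exact fun z hz => Subgroup.mem_centralizer_singleton_iff.mpr
        (Subgroup.mem_centralizer_iff.mp hmem z hz)
    have hcZ : c ∈ Z := ⟨hcH, hcC⟩
    obtain ⟨a, ha⟩ := hside q hq y hy hyq c hcZ (by
      obtain ⟨k, hk⟩ := hyq
      refine ⟨k, ?_⟩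
      rw [hc, inv_mul_cancel_right, ← MulAut.conj_apply, (MulAut.conj x).orderOf_eq, hk])
    obtain ⟨b, hb⟩ := hside r hr x hx hxr c⁻¹ (inv_mem hcZ) (by
      obtain ⟨k, hk⟩ := hxr
      refine ⟨k, ?_⟩
      rw [hc]
      rw [show (x * y * x⁻¹ * y⁻¹)⁻¹ * x = y * x * y⁻¹ by group, ← MulAut.conj_apply,
        (MulAut.conj y).orderOf_eq, hk])
    rw [orderOf_inv] at hb
    have hc1 : c = 1 := orderOf_eq_one_iff.mp (Nat.eq_one_of_dvd_coprimes
      (Nat.Coprime.pow a b ((Nat.coprime_primes hq hr).mpr (Ne.symm hrq))) ha hb)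
    rw [hc, mul_inv_eq_one, mul_inv_eq_iff_eq_mul] at hc1
    exact hc1
  -- so `H` is nilpotent
  have hnil : Group.IsNilpotent H := by
    refine ((Group.isNilpotent_of_finite_tfae (G := H)).out 0 3).2 ?_
    intro r hrF S
    haveI := hrF
    let r' : Nat.Primes := ⟨r, hrF.out⟩
    let T : ∀ p : Nat.Primes, Sylow (p : ℕ) H := Function.update
      (β := fun p : Nat.Primes => Sylow (p : ℕ) H)
      (fun p : Nat.Primes => Classical.arbitrary (Sylow (p : ℕ) H)) r' S
    have hTr : T r' = S := Function.update_self (β := fun p : Nat.Primes => Sylow (p : ℕ) H) r' S _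
    have hTo : ∀ p, p ≠ r' → T p = Classical.arbitrary (Sylow (p : ℕ) H) := fun p hp =>
      Function.update_of_ne (β := fun p : Nat.Primes => Sylow (p : ℕ) H) hp S _
    rw [← Subgroup.normalizer_eq_top_iff, eq_top_iff, ← CfsgLib.Base.iSup_sylow_eq_top T]
    refine iSup_le fun p => ?_
    by_cases hp : p = r'
    · subst hp
      rw [hTr]
      exact Subgroup.le_normalizer
    rw [hTo p hp]
    intro y hy
    haveI := Fact.mk p.2
    have hyo : ∃ k, orderOf (y : G) = (p : ℕ) ^ k := by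
      obtain ⟨k, hk⟩ := IsPGroup.iff_orderOf.mp
        (Classical.arbitrary (Sylow (p : ℕ) H)).isPGroup' ⟨y, hy⟩
      rw [Subgroup.orderOf_mk] at hk
      exact ⟨k, by rw [Subgroup.orderOf_coe]; exact hk⟩
    refine Subgroup.centralizer_le_normalizer _ (Subgroup.mem_centralizer_iff.mpr fun z hz => ?_)
    obtain ⟨k, hk⟩ := IsPGroup.iff_orderOf.mp S.isPGroup' ⟨z, hz⟩
    rw [Subgroup.orderOf_mk] at hk
    exact Subtype.ext (hcomm r p hrF.out p.2 (fun h => hp (Subtype.ext h.symm)) z z.2 y y.2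
      ⟨k, by rw [Subgroup.orderOf_coe]; exact hk⟩ hyo)
  haveI := hHn
  exact CfsgLib.Base.le_fittingSubgroup hnil hgH

end Cfsg.Agent.S3785
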