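import Cfsg.Statements.S3786
import Mathlib
import Cfsg.Agent.Lib.PLocal.ExpPLength.Main
import Cfsg.Agent.S3784

set_option autoImplicit false
set_option linter.style.haveILetI false

namespace Cfsg.Agent.S3786

open Cfsg CfsgLib.Base

universe u

theorem pLengthLE_of_not_fermat {G : Type u} [Group G] [Finite G] {p : ℕ} [Fact p.Prime]
    (hp2 : p ≠ 2) (hG : IsPSolvable p G)
    (hab : (¬ ∃ k : ℕ, p = 2 ^ k + 1) ∨ ∀ S : Sylow 2 G, IsMulCommutative (S : Subgroup G)) (n : ℕ)
    (hexp : ∀ (P : Sylow p G), ∀ x ∈ (P : Subgroup G), x ^ p ^ n = 1) : PLengthLE p n G := by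
  classical
  revert G
  induction n with
  | zero =>
    intro G _ _ hG hab hexp
    refine CfsgLib.PLocal.upperPSeries_one_eq_top ((Fact.out : p.Prime).coprime_iff_not_dvd.2
      fun hd => ?_).symm
    obtain ⟨S⟩ : Nonempty (Sylow p G) := inferInstance
    refine S.ne_bot_of_dvd_card hd ((Subgroup.eq_bot_iff_forall _).2 fun x hx => ?_)
    simpa using hexp S x hx
  | succ n ih =>
    intro G _ _ hG hab hexp
    have hpp : p.Prime := Fact.out
    set U := (upperPSeries p G 2).1 with hU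
    have h1 : (upperPSeries p G 1).1 = pPrimeCore p G := by
      rw [CfsgLib.PLocal.upperPSeries_odd p G 0]
      exact CfsgLib.Base.comap_mk'_pPrimeCore (upperPSeries p G 0).1
        (by rw [CfsgLib.PLocal.upperPSeries_zero, Subgroup.card_bot]; exact Nat.coprime_one_left p)
    have hstep : ∀ (N : Subgroup G) [N.Normal], N = pPrimeCore p G →
        ∀ (S : Sylow p G), ∀ y ∈ (S : Subgroup G),
          QuotientGroup.mk' N (y ^ p ^ n) ∈ pCore p (G ⧸ N) := by
      intro N _ hN S y hy
      have hXs : IsPSolvable p (G ⧸ N) := CfsgLib.PLocal.isPSolvable_quotient hG N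
      have hO : pPrimeCore p (G ⧸ N) = ⊥ := by
        subst hN; exact CfsgLib.Base.pPrimeCore_quotient_pPrimeCore p G
      obtain ⟨D⟩ := CfsgLib.PLocal.FrattiniRep.exists_data hXs hO
      have hπ := QuotientGroup.mk'_surjective N
      rw [map_pow]
      set x := QuotientGroup.mk' N y with hx
      have hexpX : ∀ z ∈ ((S.mapSurjective hπ : Sylow p (G ⧸ N)) : Subgroup (G ⧸ N)),
          z ^ p ^ (n + 1) = 1 := by
        rintro _ ⟨w, hw, rfl⟩
        rw [← map_pow, hexp S w hw, map_one]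
      have hxS : x ∈ ((S.mapSurjective hπ : Sylow p (G ⧸ N)) : Subgroup (G ⧸ N)) := ⟨y, hy, rfl⟩
      by_contra hne
      have h1 : D.ρ x ^ p ^ n ≠ 1 := fun h => hne (D.ker ▸ MonoidHom.mem_ker.2 ((map_pow D.ρ x _).trans h))
      have hord : orderOf (D.ρ x) = p ^ (n + 1) :=
        orderOf_eq_prime_pow h1 (by rw [← map_pow, hexpX x hxS, map_one])
      obtain ⟨v, hv⟩ := D.exists_ne_zero hXs (Nat.le_add_left 1 n) hord fun n₀ q k h1 _ hq hk he => by
        haveI : Fact q.Prime := ⟨hq⟩
        have hsucc : p ^ n₀ = q ^ k + 1 := by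
          have := Nat.one_le_pow n₀ p hpp.pos
          omega
        rcases Cfsg.Agent.S3784.result p q n₀ k hpp hq h1 hk hsucc with
          ⟨h, -⟩ | ⟨rfl, -, ⟨m, rfl⟩, hb⟩ | ⟨h9, h8⟩
        · exact absurd h hp2
        · rcases hab with hab | hab
          · exact absurd ⟨_, hb⟩ hab
          · obtain ⟨Q⟩ : Nonempty (Sylow 2 G) := inferInstance
            haveI := hab Q
            exact ⟨Q.mapSurjective hπ, Subgroup.map_isMulCommutative _ _⟩
        · have hp3 : p = 3 := by
            have h3 : p ∣ 3 ^ 2 := by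
              rw [show (3 : ℕ) ^ 2 = 9 from rfl, ← h9]
              exact dvd_pow_self p (by omega)
            exact (Nat.prime_dvd_prime_iff_eq hpp Nat.prime_three).1 (hpp.dvd_of_dvd_pow h3)
          have hq2 : q = 2 := by
            have h2 : q ∣ 2 ^ 3 := by
              rw [show (2 : ℕ) ^ 3 = 8 from rfl, ← h8]
              exact dvd_pow_self q (by omega)
            exact (Nat.prime_dvd_prime_iff_eq hq Nat.prime_two).1 (hq.dvd_of_dvd_pow h2)
          subst hq2
          rcases hab with hab | hab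
          · exact absurd ⟨1, by rw [hp3]; rfl⟩ hab
          · obtain ⟨Q⟩ : Nonempty (Sylow 2 G) := inferInstance
            haveI := hab Q
            exact ⟨Q.mapSurjective hπ, Subgroup.map_isMulCommutative _ _⟩
      obtain ⟨r, rfl⟩ := D.proj_surjective v
      obtain ⟨c, hc, hpc⟩ := D.exists_pow_eq x r (p ^ (n + 1))
      rw [hexpX _ (mul_mem (CfsgLib.Base.pCore_le_sylow _ r.2) hxS), hexpX x hxS, mul_one] at hc
      rw [CfsgLib.PLocal.FrattiniRep.geom_sum_pow,
        show c = 1 from Subtype.ext hc.symm, D.proj_one] at hpc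
      exact hv hpc.symm
    have hcomap : (pCore p (G ⧸ (upperPSeries p G 1).1)).comap
        (QuotientGroup.mk' (upperPSeries p G 1).1) = U := by
      rw [hU, show (2 : ℕ) = 2 * 0 + 2 from rfl, CfsgLib.PLocal.upperPSeries_even p G 0]
    have hq := ih (G := G ⧸ U) (CfsgLib.PLocal.isPSolvable_quotient hG U)
      (hab.imp id fun hab Q => by
        obtain ⟨Q', hQ'⟩ := Sylow.mapSurjective_surjective (QuotientGroup.mk'_surjective U) 2 Q
        haveI := hab Q'
        subst hQ'
        exact Subgroup.map_isMulCommutative _ _)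
      (fun T x hx => by
        obtain ⟨S, hS⟩ := Sylow.mapSurjective_surjective (QuotientGroup.mk'_surjective U) p T
        subst hS
        obtain ⟨y, hy, rfl⟩ := hx
        rw [← map_pow, QuotientGroup.mk'_apply, QuotientGroup.eq_one_iff, ← hcomap, Subgroup.mem_comap]
        exact hstep _ h1 S y hy)
    show (upperPSeries p G (2 * (n + 1) + 1)).1 = ⊤
    rw [show 2 * (n + 1) + 1 = (2 * n + 1) + 2 by ring, ← CfsgLib.PLocal.comap_upperPSeries, hq,
      Subgroup.comap_top]

theorem pPrimeCore_eq_upperOne (p : ℕ) [Fact p.Prime] (G : Type u) [Group G] [Finite G] :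
    (upperPSeries p G 1).1 = pPrimeCore p G := by
  rw [CfsgLib.PLocal.upperPSeries_odd p G 0]
  exact comap_mk'_pPrimeCore (upperPSeries p G 0).1
    (by rw [CfsgLib.PLocal.upperPSeries_zero, Subgroup.card_bot]; exact Nat.coprime_one_left p)

theorem top_mem_upperFour {G : Type u} [Group G] [Finite G] {p : ℕ} [Fact p.Prime] (hp2 : p ≠ 2)
    {e : ℕ} (he : 1 ≤ e) (hG : IsPSolvable p G)
    (hexp : ∀ (P : Sylow p G), ∀ x ∈ (P : Subgroup G), x ^ p ^ e = 1) (S : Sylow p G) :
    ∀ y ∈ (S : Subgroup G), QuotientGroup.mk' (upperPSeries p G 2).1 (y ^ p ^ (e - 1)) ∈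
      (upperPSeries p (G ⧸ (upperPSeries p G 2).1) 2).1 := by
  classical
  set N := (upperPSeries p G 1).1 with hN
  set U := (upperPSeries p G 2).1 with hU
  have hN' := pPrimeCore_eq_upperOne p G
  have hπN := QuotientGroup.mk'_surjective N
  have hπU := QuotientGroup.mk'_surjective U
  have hUc : U = (pCore p (G ⧸ N)).comap (QuotientGroup.mk' N) := by
    rw [hU, show (2 : ℕ) = 2 * 0 + 2 from rfl, CfsgLib.PLocal.upperPSeries_even p G 0]
  have hXs : IsPSolvable p (G ⧸ N) := CfsgLib.PLocal.isPSolvable_quotient hG N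
  have hO : pPrimeCore p (G ⧸ N) = ⊥ := by
    have key : ∀ (M : Subgroup G) [M.Normal], M = pPrimeCore p G → pPrimeCore p (G ⧸ M) = ⊥ := by
      intro M _ hM
      subst hM
      exact pPrimeCore_quotient_pPrimeCore p G
    exact key N hN'
  obtain ⟨D⟩ := CfsgLib.PLocal.FrattiniRep.exists_data hXs hO
  obtain ⟨eU, -⟩ := CfsgLib.PLocal.exists_equiv_quotient_comap hπN (pCore p (G ⧸ N))
  let eU' : G ⧸ U ≃* (G ⧸ N) ⧸ pCore p (G ⧸ N) :=
    (QuotientGroup.quotientMulEquivOfEq hUc).trans eU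
  have hOp : pCore p (G ⧸ U) = ⊥ := by
    rw [← map_pCore_mulEquiv eU'.symm, pCore_quotient_pCore, Subgroup.map_bot]
  set ψ := D.ρ.comp (QuotientGroup.mk' N) with hψ
  have hker : U = ψ.ker := by rw [hUc, hψ, ← MonoidHom.comap_ker, D.ker]
  let ι := (QuotientGroup.kerLift ψ).comp (QuotientGroup.quotientMulEquivOfEq hker).toMonoidHom
  have hι : Function.Injective ι :=
    (QuotientGroup.kerLift_injective ψ).comp (QuotientGroup.quotientMulEquivOfEq hker).injective
  have hιmk : ∀ g : G, ι (QuotientGroup.mk' U g) = D.ρ (QuotientGroup.mk' N g) := fun g => rfl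
  have hexpX : ∀ z ∈ ((S.mapSurjective hπN : Sylow p (G ⧸ N)) : Subgroup (G ⧸ N)),
      z ^ p ^ e = 1 := by
    rintro _ ⟨w, hw, rfl⟩
    rw [← map_pow, hexp S w hw, map_one]
  intro y hy
  have h := CfsgLib.PLocal.ExpPLength.top_mem_pPrimePCore hp2 he
    (CfsgLib.PLocal.isPSolvable_quotient hG U) hOp ι hι (S.mapSurjective hπU)
    (by rintro _ ⟨w, hw, rfl⟩; rw [← map_pow, hexp S w hw, map_one]) ?_ _ ⟨y, hy, rfl⟩
  · rw [show (upperPSeries p (G ⧸ U) 2).1 = _ from CfsgLib.PLocal.upperPSeries_even p (G ⧸ U) 0,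
      Subgroup.mem_comap, map_pow]
    have key : ∀ (M : Subgroup (G ⧸ U)) [M.Normal], M = pPrimeCore p (G ⧸ U) →
        QuotientGroup.mk' M ((QuotientGroup.mk' U y) ^ p ^ (e - 1)) ∈ pCore p ((G ⧸ U) ⧸ M) := by
      intro M _ hM
      subst hM
      exact h
    rw [← map_pow]
    exact key _ (pPrimeCore_eq_upperOne p (G ⧸ U))
  · rintro _ ⟨w, hw, rfl⟩
    rw [hιmk]
    set x := QuotientGroup.mk' N w with hx
    refine LinearMap.ext fun v => ?_
    obtain ⟨r, rfl⟩ := D.proj_surjective v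
    obtain ⟨c, hc, hpc⟩ := D.exists_pow_eq x r (p ^ e)
    have hxS : x ∈ ((S.mapSurjective hπN : Sylow p (G ⧸ N)) : Subgroup (G ⧸ N)) := ⟨w, hw, rfl⟩
    rw [hexpX _ (mul_mem (pCore_le_sylow _ r.2) hxS), hexpX x hxS, mul_one] at hc
    rw [CfsgLib.PLocal.FrattiniRep.geom_sum_pow, show c = 1 from Subtype.ext hc.symm,
      D.proj_one] at hpc
    exact hpc.symm

theorem pLengthLE_two_mul {G : Type u} [Group G] [Finite G] {p : ℕ} [Fact p.Prime] (hp2 : p ≠ 2)
    (hG : IsPSolvable p G) (e : ℕ)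
    (hexp : ∀ (P : Sylow p G), ∀ x ∈ (P : Subgroup G), x ^ p ^ e = 1) :
    PLengthLE p (2 * e) G := by
  classical
  revert G
  induction e with
  | zero =>
    intro G _ _ hG hexp
    exact pLengthLE_of_zero hG hexp
  | succ e ih =>
    intro G _ _ hG hexp
    set U := (upperPSeries p G 2).1 with hU
    set U' := (upperPSeries p (G ⧸ U) 2).1 with hU'
    have hq := ih (G := (G ⧸ U) ⧸ U')
      (CfsgLib.PLocal.isPSolvable_quotient (CfsgLib.PLocal.isPSolvable_quotient hG U) U')
      (fun T x hx => by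
        obtain ⟨T', rfl⟩ := Sylow.mapSurjective_surjective (QuotientGroup.mk'_surjective U') p T
        obtain ⟨S, rfl⟩ := Sylow.mapSurjective_surjective (QuotientGroup.mk'_surjective U) p T'
        obtain ⟨_, ⟨y, hy, rfl⟩, rfl⟩ := hx
        rw [← map_pow, ← map_pow]
        refine (QuotientGroup.eq_one_iff _).2 ?_
        exact top_mem_upperFour hp2 (Nat.le_add_left 1 e) hG hexp S y hy)
    show (upperPSeries p G (2 * (2 * (e + 1)) + 1)).1 = ⊤
    have h1 : (upperPSeries p (G ⧸ U) (2 * (2 * e) + 1 + 2)).1 = ⊤ := by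
      rw [← CfsgLib.PLocal.comap_upperPSeries, hq, Subgroup.comap_top]
    rw [show 2 * (2 * (e + 1)) + 1 = (2 * (2 * e) + 1 + 2) + 2 by ring,
      ← CfsgLib.PLocal.comap_upperPSeries, h1, Subgroup.comap_top]
where
  pLengthLE_of_zero {G : Type u} [Group G] [Finite G] {p : ℕ} [Fact p.Prime]
      (hG : IsPSolvable p G) (hexp : ∀ (P : Sylow p G), ∀ x ∈ (P : Subgroup G), x ^ p ^ 0 = 1) :
      PLengthLE p (2 * 0) G := by
    refine CfsgLib.PLocal.upperPSeries_one_eq_top ((Fact.out : p.Prime).coprime_iff_not_dvd.2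
      fun hd => ?_).symm
    obtain ⟨S⟩ : Nonempty (Sylow p G) := inferInstance
    refine S.ne_bot_of_dvd_card hd ((Subgroup.eq_bot_iff_forall _).2 fun x hx => ?_)
    simpa using hexp S x hx

end Cfsg.Agent.S3786

set_option autoImplicit false
open Cfsg

namespace Cfsg.Agent.S3786

/-- The Hall–Higman bound on p-length. Let p be an odd prime and G a finite p-soluble group whose Sylow p-subgroups have exponent dividing p^e. (a) If p is not of the form 2^k + 1, or if the Sylow 2-subgroups of G are abelian, then G has p-length at most e. (b) In every case G has p-length at most 2e. -/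
theorem result {G : Type*} [Group G] [Finite G] {p : ℕ} [Fact p.Prime] (hp : p ≠ 2) (hG : Cfsg.IsPSolvable p G) (e : ℕ) (hexp : ∀ (P : Sylow p G), ∀ x ∈ (P : Subgroup G), x ^ p ^ e = 1) : (((¬ ∃ k : ℕ, p = 2 ^ k + 1) ∨ ∀ S : Sylow 2 G, IsMulCommutative (S : Subgroup G)) → Cfsg.PLengthLE p e G) ∧ Cfsg.PLengthLE p (2 * e) G := by
  exact ⟨fun h => pLengthLE_of_not_fermat hp hG h e hexp, pLengthLE_two_mul hp hG e hexp⟩

end Cfsg.Agent.S3786
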