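import Cfsg.Statements.S3787
import Mathlib
import Cfsg.Agent.Lib.PLocal.HallHigmanFrattini
import Cfsg.Agent.Lib.Fusion.SectionFreeFactor
import Cfsg.Agent.Lib.LocalEven.S4Section

namespace Cfsg.Agent.S3787

universe u
open CfsgLib.Base

theorem no_bad_element {X : Type u} [Group X] [Finite X] {p : ℕ} [Fact p.Prime]
    (D : CfsgLib.PLocal.FrattiniRep.Data X p) (T : Sylow p X) (x : X) (hxT : x ∈ (T : Subgroup X))
    (hxR : x ∉ pCore p X) (hxp : x ^ p ∈ pCore p X) (v : D.V)
    (hv : ((D.f x - 1) ^ (p - 1)) v ≠ 0) :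
    ∃ (W : Type) (_ : Group W) (_ : Finite W),
      (∃ (B : Subgroup W) (t : W), B.Normal ∧ IsMulCommutative B ∧ (∀ b ∈ B, b ^ p = 1) ∧
        Nat.card B = p ^ p ∧ orderOf t = p ∧ t ∉ B ∧ Nat.card W = p ^ (p + 1) ∧
        Nat.card ↥(B ⊓ Subgroup.centralizer ({t} : Set W)) = p) ∧
      Cfsg.Involves W ↥(T : Subgroup X) := by
  classical
  have hpp : p.Prime := Fact.out
  set R := pCore p X with hR
  haveI : R.Normal := pCore_normal p X
  set g : Module.End (ZMod p) D.V := D.f x - 1 with hg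
  have hgeom := CfsgLib.PLocal.FrattiniRep.geom_sum_pow (p := p) (D.f x) 1
  rw [pow_one] at hgeom
  have hfp : D.f x ^ p = 1 := by rw [D.f_pow, D.f_eq_one hxp]
  have hgp : g ^ p = 0 := by
    rw [← pow_sub_one_mul hpp.ne_zero, hg, ← hgeom, geom_sum_mul, hfp, sub_self]
  have hghigh : ∀ k, p ≤ k → ∀ a : D.V, (g ^ k) a = 0 := fun k hk a => by
    rw [← Nat.sub_add_cancel hk, pow_add, hgp, mul_zero, LinearMap.zero_apply]
  obtain ⟨φ₀, hφ₀⟩ : ∃ φ₀ : Module.Dual (ZMod p) D.V, φ₀ ((g ^ (p - 1)) v) ≠ 0 := by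
    by_contra h
    push Not at h
    exact hv ((Module.forall_dual_apply_eq_zero_iff (ZMod p) _).1 h)
  set φ := (φ₀ ((g ^ (p - 1)) v))⁻¹ • φ₀ with hφ
  have hφw : φ ((g ^ (p - 1)) v) = 1 := by
    rw [hφ, LinearMap.smul_apply, smul_eq_mul, inv_mul_cancel₀ hφ₀]
  let Φ : D.V →ₗ[ZMod p] (Fin p → ZMod p) := LinearMap.pi fun i => φ.comp (g ^ (i : ℕ))
  have hΦ : ∀ a i, Φ a i = φ ((g ^ (i : ℕ)) a) := fun _ _ => rfl
  have hΦsur : Function.Surjective Φ := by
    let M : Matrix (Fin p) (Fin p) (ZMod p) :=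
      Matrix.of fun i j => Φ ((g ^ (p - 1 - (j : ℕ))) v) i
    have hM : ∀ i j, M i j = φ ((g ^ ((i : ℕ) + (p - 1 - (j : ℕ)))) v) := fun i j => by
      rw [pow_add]; rfl
    have hup : M.IsUpperTriangular := fun i j (hji : j < i) => by
      have hlt : (j : ℕ) < (i : ℕ) := hji
      have := i.isLt
      rw [hM, hghigh _ (by omega), map_zero]
    have hdet : M.det = 1 := by
      rw [Matrix.det_of_isUpperTriangular hup]
      refine Finset.prod_eq_one fun i _ => ?_
      have := i.isLt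
      rw [hM, show (i : ℕ) + (p - 1 - (i : ℕ)) = p - 1 by omega, hφw]
    have hMs : Function.Surjective M.mulVec :=
      Matrix.mulVec_surjective_iff_isUnit.2 ((Matrix.isUnit_iff_isUnit_det M).2 (hdet ▸ isUnit_one))
    intro y
    obtain ⟨c, hc⟩ := hMs y
    refine ⟨∑ j, c j • (g ^ (p - 1 - (j : ℕ))) v, ?_⟩
    rw [← hc]
    ext i
    simp only [map_sum, map_smul, Finset.sum_apply, Pi.smul_apply, smul_eq_mul, Matrix.mulVec,
      dotProduct]
    exact Finset.sum_congr rfl fun j _ => mul_comm _ _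
  let Ψ : ↥R →* Multiplicative (Fin p → ZMod p) := MonoidHom.mk'
    (fun r => Multiplicative.ofAdd (Φ (D.proj r)))
    (fun a b => by rw [D.proj_mul, map_add, ofAdd_add])
  have hΨ : ∀ r : ↥R, Ψ r = Multiplicative.ofAdd (Φ (D.proj r)) := fun _ => rfl
  have hΨsur : Function.Surjective Ψ := fun y => by
    obtain ⟨a, ha⟩ := hΦsur (Multiplicative.toAdd y)
    obtain ⟨r, rfl⟩ := D.proj_surjective a
    exact ⟨r, congrArg Multiplicative.ofAdd ha⟩
  -- conjugation on the image of `R`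
  have hconj : ∀ (z : X) (r r' : ↥R), (r' : X) = z * r * z⁻¹ → D.proj r' = D.f z (D.proj r) :=
    fun z r r' h => D.conj z r r' h
  set N := Ψ.ker.map R.subtype with hN
  have hmemN : ∀ r : ↥R, (r : X) ∈ N ↔ Φ (D.proj r) = 0 := by
    intro r
    rw [hN, ← Subgroup.coe_subtype, Subgroup.mem_map_iff_mem R.subtype_injective, MonoidHom.mem_ker, hΨ,
      ← ofAdd_zero, Multiplicative.ofAdd.injective.eq_iff]
  set K := R ⊔ Subgroup.zpowers x with hK
  have hRK : R ≤ K := le_sup_left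
  have hxK : x ∈ K :=
    (le_sup_right : Subgroup.zpowers x ≤ K) (Subgroup.mem_zpowers x)
  have hNR : N ≤ R := Subgroup.map_subtype_le _
  have hKN : K ≤ Subgroup.normalizer (N : Set X) := by
    refine sup_le (fun z hz => Subgroup.mem_normalizer_fintype fun n hn => ?_)
      (Subgroup.zpowers_le.2 (Subgroup.mem_normalizer_fintype fun n hn => ?_))
    all_goals
      set n₀ : ↥R := ⟨n, hNR hn⟩ with hn₀
      have h0 : Φ (D.proj n₀) = 0 := (hmemN n₀).1 hn
    · refine (hmemN ⟨z * n * z⁻¹, R.mul_mem (R.mul_mem hz (hNR hn)) (R.inv_mem hz)⟩).2 ?_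
      rw [hconj z n₀ _ rfl, D.f_eq_one hz]
      exact h0
    · refine (hmemN ⟨x * n * x⁻¹, (inferInstance : R.Normal).conj_mem _ (hNR hn) x⟩).2 ?_
      rw [hconj x n₀ _ rfl]
      ext i
      have h1 : D.f x (D.proj n₀) = g (D.proj n₀) + D.proj n₀ := by
        rw [hg, LinearMap.sub_apply, Module.End.one_apply, sub_add_cancel]
      rw [h1, map_add, h0, add_zero, hΦ, ← Module.End.mul_apply, ← pow_succ, Pi.zero_apply]
      rcases Nat.lt_or_ge ((i : ℕ) + 1) p with hi | hi
      · exact congrFun h0 ⟨(i : ℕ) + 1, hi⟩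
      · rw [hghigh _ hi, map_zero]
  haveI hNn : (N.subgroupOf K).Normal := Subgroup.normal_subgroupOf_of_le_normalizer hKN
  -- the element of order `p` outside the base
  set u := D.proj ⟨x ^ p, hxp⟩ with hu
  have hgu : g u = 0 := by
    rw [hg, LinearMap.sub_apply, Module.End.one_apply, sub_eq_zero]
    exact (hconj x _ ⟨x ^ p, hxp⟩ (by
      show x ^ p = x * x ^ p * x⁻¹
      rw [← pow_succ', pow_succ, mul_inv_cancel_right])).symm
  obtain ⟨r, hr⟩ := D.proj_surjective ((-(φ u)) • v)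
  set y : X := (r : X) * x with hy
  have hyK : y ∈ K := K.mul_mem (hRK r.2) hxK
  have hyR : y ∉ R := fun h => hxR (by
    have := R.mul_mem (R.inv_mem r.2) h
    rwa [hy, inv_mul_cancel_left] at this)
  have hfy : D.f y = D.f x := by
    rw [show D.f y = D.f (r : X) * D.f x by
      show (D.ρ y : Module.End (ZMod p) D.V) = _
      rw [hy, map_mul]; rfl, D.f_eq_one r.2, one_mul]
  obtain ⟨c, hc, hpc⟩ := D.exists_pow_eq x r p
  have hyp : y ^ p ∈ N := by
    rw [hy, hc, show (c : X) * x ^ p = ((c * ⟨x ^ p, hxp⟩ : ↥R) : X) from rfl, hmemN, D.proj_mul,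
      hpc, hgeom, hr, map_smul, map_add, map_smul, ← hu, ← hg]
    ext i
    rw [Pi.add_apply, Pi.smul_apply, hΦ, hΦ, Pi.zero_apply, smul_eq_mul]
    rcases Nat.eq_zero_or_pos (i : ℕ) with hi | hi
    · rw [hi, pow_zero, Module.End.one_apply, hφw, Module.End.one_apply]; ring
    · rw [← Module.End.mul_apply, ← pow_add, hghigh _ (by omega), map_zero, mul_zero, zero_add,
        show (i : ℕ) = ((i : ℕ) - 1) + 1 by omega, pow_succ, Module.End.mul_apply, hgu,
        map_zero, map_zero]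
  -- the section
  let q := QuotientGroup.mk' (N.subgroupOf K)
  have hq1 : ∀ k : K, q k = 1 ↔ (k : X) ∈ N := fun k => by
    rw [QuotientGroup.mk'_apply, QuotientGroup.eq_one_iff, Subgroup.mem_subgroupOf]
  let ψ : ↥R →* (K ⧸ N.subgroupOf K) := q.comp (Subgroup.inclusion hRK)
  have hψker : ψ.ker = Ψ.ker := by
    ext s
    rw [MonoidHom.mem_ker, MonoidHom.comp_apply, hq1, MonoidHom.mem_ker, hΨ, ← ofAdd_zero,
      Multiplicative.ofAdd.injective.eq_iff]
    exact hmemN s
  have hψeq : ∀ a b : ↥R, ψ a = ψ b ↔ Φ (D.proj a) = Φ (D.proj b) := fun a b => by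
    rw [MonoidHom.eq_iff, hψker, ← MonoidHom.eq_iff, hΨ, hΨ, Multiplicative.ofAdd.injective.eq_iff]
  have hBcard : Nat.card ψ.range = p ^ p := by
    rw [← Nat.card_congr (QuotientGroup.quotientKerEquivRange ψ).toEquiv,
      Nat.card_congr (QuotientGroup.quotientMulEquivOfEq hψker).toEquiv,
      Nat.card_congr (QuotientGroup.quotientKerEquivOfSurjective Ψ hΨsur).toEquiv,
      Nat.card_congr Multiplicative.toAdd, Nat.card_fun, Nat.card_zmod, Nat.card_fin]
  have hBn : ψ.range.Normal := by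
    have : ψ.range = (R.subgroupOf K).map q := by
      rw [show ψ.range = ((Subgroup.inclusion hRK).range).map q from MonoidHom.range_comp _ _,
        Subgroup.inclusion_range]
    rw [this]
    exact Subgroup.Normal.map inferInstance _ (QuotientGroup.mk'_surjective _)
  have hBab : IsMulCommutative ψ.range := ⟨⟨by
    rintro ⟨_, a, rfl⟩ ⟨_, b, rfl⟩
    refine Subtype.ext ?_
    show ψ a * ψ b = ψ b * ψ a
    rw [← map_mul, ← map_mul, hψeq, D.proj_mul, D.proj_mul, add_comm]⟩⟩
  have hBexp : ∀ b ∈ ψ.range, b ^ p = 1 := by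
    rintro _ ⟨a, rfl⟩
    rw [← map_pow]
    refine MonoidHom.mem_ker.1 ?_
    rw [hψker, MonoidHom.mem_ker, map_pow]
    refine Multiplicative.toAdd.injective (funext fun i => ?_)
    simp
  set t := q ⟨y, hyK⟩ with ht
  have htB : t ∉ ψ.range := by
    rintro ⟨a, ha⟩
    have h1 : (a : X)⁻¹ * y ∈ N := by
      have h0 : q ((Subgroup.inclusion hRK a)⁻¹ * (⟨y, hyK⟩ : ↥K)) = 1 := by
        rw [map_mul, map_inv, ← ht, ← ha]; exact inv_mul_cancel _
      exact (hq1 _).1 h0
    have := R.mul_mem a.2 (hNR h1)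
    rw [mul_inv_cancel_left] at this
    exact hyR this
  have htp : orderOf t = p := by
    refine orderOf_eq_prime ?_ fun h => htB (h ▸ one_mem _)
    rw [ht, ← map_pow, hq1]
    exact hyp
  have hWcard : Nat.card (K ⧸ N.subgroupOf K) = p ^ (p + 1) := by
    have h1 : Nat.card K = Nat.card R * p := by
      haveI : (R.subgroupOf K).Normal := inferInstance
      have hgen : ∀ z : K ⧸ R.subgroupOf K, z ∈ Subgroup.zpowers
          (QuotientGroup.mk' (R.subgroupOf K) ⟨x, hxK⟩) := by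
        intro z
        obtain ⟨⟨k, hk⟩, rfl⟩ := QuotientGroup.mk'_surjective _ z
        obtain ⟨a, ha, b, ⟨j, rfl⟩, rfl⟩ := Subgroup.mem_sup_of_normal_left.1 hk
        refine ⟨j, ?_⟩
        show (QuotientGroup.mk' (R.subgroupOf K) ⟨x, hxK⟩) ^ j = _
        rw [← map_zpow, show (⟨a * x ^ j, hk⟩ : K) = ⟨a, hRK ha⟩ * (⟨x, hxK⟩ : K) ^ j from
          Subtype.ext (by simp), map_mul,
          show QuotientGroup.mk' (R.subgroupOf K) ⟨a, hRK ha⟩ = 1 from
            (QuotientGroup.eq_one_iff _).2 ha, one_mul]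
      have hc : Nat.card (K ⧸ R.subgroupOf K) = p := by
        rw [← orderOf_eq_card_of_forall_mem_zpowers hgen]
        refine orderOf_eq_prime ?_ ?_
        · rw [← map_pow, QuotientGroup.mk'_apply, QuotientGroup.eq_one_iff, Subgroup.mem_subgroupOf,
            Subgroup.coe_pow]
          exact hxp
        · rw [Ne, QuotientGroup.mk'_apply, QuotientGroup.eq_one_iff, Subgroup.mem_subgroupOf]
          exact hxR
      rw [← Subgroup.card_mul_index (R.subgroupOf K), Subgroup.index_eq_card, hc,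
        Nat.card_congr (Subgroup.subgroupOfEquivOfLe hRK).toEquiv]
    have h2 : Nat.card R = Nat.card Ψ.ker * p ^ p := by
      rw [← Subgroup.card_mul_index Ψ.ker, Subgroup.index_eq_card,
        Nat.card_congr (QuotientGroup.quotientKerEquivOfSurjective Ψ hΨsur).toEquiv,
        Nat.card_congr Multiplicative.toAdd, Nat.card_fun, Nat.card_zmod, Nat.card_fin]
    have h3 : Nat.card (N.subgroupOf K) = Nat.card Ψ.ker := by
      rw [Nat.card_congr (Subgroup.subgroupOfEquivOfLe (hNR.trans hRK)).toEquiv, hN,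
        Subgroup.card_map_of_injective (K := Ψ.ker) R.subtype_injective]
    have h4 := Subgroup.card_mul_index (N.subgroupOf K)
    rw [h1, h2, h3, Subgroup.index_eq_card, mul_assoc] at h4
    rw [pow_succ]
    exact Nat.eq_of_mul_eq_mul_left Nat.card_pos h4
  have hCcard : Nat.card ↥(ψ.range ⊓ Subgroup.centralizer ({t} : Set _)) = p := by
    have hcomm : ∀ s : ↥R, ψ s * t = t * ψ s ↔ ∀ i : Fin p, 0 < (i : ℕ) → Φ (D.proj s) i = 0 := by
      intro s
      set s' : ↥R := ⟨y * s * y⁻¹, (inferInstance : R.Normal).conj_mem _ s.2 y⟩ with hs'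
      have h1 : t * ψ s * t⁻¹ = ψ s' := by
        rw [ht, MonoidHom.comp_apply, MonoidHom.comp_apply, ← map_inv, ← map_mul, ← map_mul]
        rfl
      have h2 : ψ s * t = t * ψ s ↔ ψ s' = ψ s := by
        rw [← h1, mul_inv_eq_iff_eq_mul, eq_comm]
      have h3 : D.f x (D.proj s) = g (D.proj s) + D.proj s := by
        rw [hg, LinearMap.sub_apply, Module.End.one_apply, sub_add_cancel]
      rw [h2, hψeq, hconj y s s' rfl, hfy, h3, map_add, add_eq_right]
      constructor
      · intro h i hi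
        have := i.isLt
        have h4 := congrFun h ⟨(i : ℕ) - 1, by omega⟩
        rw [hΦ, ← Module.End.mul_apply, ← pow_succ, Nat.sub_add_cancel hi] at h4
        exact h4
      · intro h
        ext i
        rw [hΦ, ← Module.End.mul_apply, ← pow_succ, Pi.zero_apply]
        rcases Nat.lt_or_ge ((i : ℕ) + 1) p with hi | hi
        · exact h ⟨(i : ℕ) + 1, hi⟩ (Nat.succ_pos _)
        · rw [hghigh _ hi, map_zero]
    choose sec hsec using fun a : ZMod p =>
      hΨsur (Multiplicative.ofAdd (Pi.single (⟨0, hpp.pos⟩ : Fin p) a))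
    have hsec' : ∀ a, Φ (D.proj (sec a)) = Pi.single (⟨0, hpp.pos⟩ : Fin p) a := fun a =>
      Multiplicative.ofAdd.injective (hsec a)
    let F : ZMod p → ↥(ψ.range ⊓ Subgroup.centralizer ({t} : Set _)) := fun a =>
      ⟨ψ (sec a), ⟨sec a, rfl⟩, Subgroup.mem_centralizer_singleton_iff.2 ((hcomm _).2 fun i hi => by
        rw [hsec', Pi.single_eq_of_ne (Fin.ne_of_gt hi)])⟩
    rw [← Nat.card_eq_of_bijective F ⟨?_, ?_⟩, Nat.card_zmod]
    · intro a b h
      have h1 := (hψeq _ _).1 (congrArg Subtype.val h)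
      rw [hsec', hsec'] at h1
      exact Pi.single_injective (M := fun _ : Fin p => ZMod p) _ h1
    · rintro ⟨_, ⟨s, rfl⟩, hs⟩
      refine ⟨Φ (D.proj s) ⟨0, hpp.pos⟩, Subtype.ext ((hψeq _ _).2 ?_)⟩
      rw [hsec']
      ext i
      rcases Nat.eq_zero_or_pos (i : ℕ) with hi | hi
      · rw [show i = ⟨0, hpp.pos⟩ from Fin.ext hi, Pi.single_eq_same]
      · rw [Pi.single_eq_of_ne (Fin.ne_of_gt hi),
          (hcomm s).1 (Subgroup.mem_centralizer_singleton_iff.1 hs) i hi]
  -- transport to a group in the lowest universe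
  haveI : Small.{0} (K ⧸ N.subgroupOf K) := Countable.toSmall _
  let me : Shrink.{0} (K ⧸ N.subgroupOf K) ≃* (K ⧸ N.subgroupOf K) := Shrink.mulEquiv
  have hKT : K ≤ (T : Subgroup X) :=
    sup_le (CfsgLib.Base.pCore_le_sylow T) (Subgroup.zpowers_le.2 hxT)
  refine ⟨Shrink.{0} (K ⧸ N.subgroupOf K), inferInstance, Finite.of_equiv _ me.symm.toEquiv,
    ⟨ψ.range.comap me.toMonoidHom, me.symm t, hBn.comap _, ?_, ?_, ?_, ?_, ?_, ?_, ?_⟩, ?_⟩
  · exact ⟨⟨fun a b => Subtype.ext (me.injective (by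
      rw [Subgroup.coe_mul, Subgroup.coe_mul, map_mul, map_mul]
      exact congrArg Subtype.val (mul_comm' (⟨_, a.2⟩ : ψ.range) ⟨_, b.2⟩)))⟩⟩
  · exact fun b hb => me.injective (by rw [map_pow, map_one]; exact hBexp _ hb)
  · rw [Subgroup.comap_equiv_eq_map_symm', Subgroup.card_map_of_injective (K := ψ.range) me.symm.injective, hBcard]
  · rw [MulEquiv.orderOf_eq, htp]
  · rw [Subgroup.mem_comap]
    simpa using htB
  · rw [Nat.card_congr me.toEquiv, hWcard]
  · rw [show ψ.range.comap me.toMonoidHom ⊓ Subgroup.centralizer ({me.symm t} : Set _)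
        = (ψ.range ⊓ Subgroup.centralizer ({t} : Set _)).comap me.toMonoidHom by
      ext a
      simp only [Subgroup.mem_inf, Subgroup.mem_comap, Subgroup.mem_centralizer_singleton_iff,
        MulEquiv.coe_toMonoidHom]
      refine and_congr_right fun _ => ?_
      conv_lhs => rw [← me.injective.eq_iff]
      simp only [map_mul, MulEquiv.apply_symm_apply]]
    rw [Subgroup.comap_equiv_eq_map_symm',
      Subgroup.card_map_of_injective (K := ψ.range ⊓ Subgroup.centralizer ({t} : Set _)) me.symm.injective, hCcard]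
  · exact CfsgLib.LocalEven.involves_of_surjective
      ((me.symm.toMonoidHom.comp q).comp (Subgroup.subgroupOfEquivOfLe hKT).toMonoidHom)
      ((me.symm.surjective.comp (QuotientGroup.mk'_surjective _)).comp
        (Subgroup.subgroupOfEquivOfLe hKT).surjective)

theorem not_dvd_index {X : Type u} [Group X] [Finite X] {p : ℕ} [Fact p.Prime] (hp2 : p ≠ 2)
    (hnf : ¬ ∃ k : ℕ, p = 2 ^ k + 1) (hG : Cfsg.IsPSolvable p X) (hO : pPrimeCore p X = ⊥)
    (T : Sylow p X) (hwr : ∀ (W : Type) [Group W] [Finite W], (∃ (B : Subgroup W) (t : W), B.Normal ∧ IsMulCommutative B ∧ (∀ b ∈ B, b ^ p = 1) ∧ Nat.card B = p ^ p ∧ orderOf t = p ∧ t ∉ B ∧ Nat.card W = p ^ (p + 1) ∧ Nat.card ↥(B ⊓ Subgroup.centralizer ({t} : Set W)) = p) → ¬ Cfsg.Involves W ↥(T : Subgroup X)) :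
    ¬ p ∣ (pCore p X).index := by
  classical
  intro hd
  have hpp : p.Prime := Fact.out
  obtain ⟨D⟩ := CfsgLib.PLocal.FrattiniRep.exists_data hG hO
  have hne : ¬ (T : Subgroup X) ≤ pCore p X := fun h =>
    T.not_dvd_index (by rwa [le_antisymm h (CfsgLib.Base.pCore_le_sylow T)])
  obtain ⟨z, hzT, hzR⟩ := SetLike.not_le_iff_exists.1 hne
  have hex : ∃ k, z ^ p ^ k ∈ pCore p X := by
    obtain ⟨k, hk⟩ := T.2 ⟨z, hzT⟩
    exact ⟨k, by rw [show z ^ p ^ k = 1 from congrArg Subtype.val hk]; exact one_mem _⟩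
  have hk := Nat.find_spec hex
  have hk0 : Nat.find hex ≠ 0 := fun h => hzR (by rw [h] at hk; simpa using hk)
  set x := z ^ p ^ (Nat.find hex - 1) with hx
  have hxR : x ∉ pCore p X := Nat.find_min hex (by omega)
  have hxp : x ^ p ∈ pCore p X := by
    rw [hx, ← pow_mul, ← pow_succ, Nat.sub_add_cancel (by omega)]; exact hk
  have hord : orderOf (D.ρ x) = p ^ 1 := by
    rw [pow_one]
    refine orderOf_eq_prime ?_ fun h => hxR (D.ker ▸ MonoidHom.mem_ker.2 h)
    rw [← map_pow]; exact MonoidHom.mem_ker.1 (D.ker.symm ▸ hxp)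
  obtain ⟨v, hv⟩ := D.exists_ne_zero hG le_rfl hord fun n₀ q k h1 h2 hq hk he => absurd he (by
    rw [show n₀ = 1 by omega, pow_one]
    intro h
    have hq2 : q = 2 := by
      by_contra hq2
      have h2 : Odd (q ^ k) := (hq.odd_of_ne_two hq2).pow
      obtain ⟨a, ha⟩ := h2
      obtain ⟨b, hb⟩ := hpp.odd_of_ne_two hp2
      omega
    exact hnf ⟨k, by rw [← hq2]; have := hpp.one_le; omega⟩)
  rw [pow_one] at hv
  obtain ⟨W, iW, fW, hW, hI⟩ :=
    no_bad_element D T x (pow_mem hzT _) hxR hxp v hv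
  exact hwr W hW hI

end Cfsg.Agent.S3787

set_option autoImplicit false
open Cfsg

namespace Cfsg.Agent.S3787

/-- Let G be a finite p-soluble group, p an odd prime not of the form 2^k + 1, and suppose the wreath product C_p ≀ C_p (of order p^(p+1)) is not involved in a Sylow p-subgroup of G: no section of a Sylow p-subgroup is isomorphic to it. Then G has p-length at most 1. -/
theorem result {G : Type*} [Group G] [Finite G] {p : ℕ} [Fact p.Prime] (hp2 : p ≠ 2) (hnf : (¬ ∃ k : ℕ, p = 2 ^ k + 1)) (hG : Cfsg.IsPSolvable p G) (P : Sylow p G) (hwr : ∀ (W : Type) [Group W] [Finite W], (∃ (B : Subgroup W) (t : W), B.Normal ∧ IsMulCommutative B ∧ (∀ b ∈ B, b ^ p = 1) ∧ Nat.card B = p ^ p ∧ orderOf t = p ∧ t ∉ B ∧ Nat.card W = p ^ (p + 1) ∧ Nat.card ↥(B ⊓ Subgroup.centralizer ({t} : Set W)) = p) → ¬ Cfsg.Involves W ↥(P : Subgroup G)) : Cfsg.PLengthLE p 1 G := by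
  classical
  have hpp : p.Prime := Fact.out
  have h1 : (upperPSeries p G 1).1 = pPrimeCore p G := by
    rw [CfsgLib.PLocal.upperPSeries_odd p G 0]
    exact CfsgLib.Base.comap_mk'_pPrimeCore (upperPSeries p G 0).1
      (by rw [CfsgLib.PLocal.upperPSeries_zero, Subgroup.card_bot]; exact Nat.coprime_one_left p)
  have key : ∀ (N : Subgroup G) [N.Normal], N = pPrimeCore p G →
      ¬ p ∣ (pCore p (G ⧸ N)).index := by
    intro N _ hN
    subst hN
    refine not_dvd_index hp2 hnf (CfsgLib.PLocal.isPSolvable_quotient hG _)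
      (CfsgLib.Base.pPrimeCore_quotient_pPrimeCore p G)
      (P.mapSurjective (QuotientGroup.mk'_surjective _)) fun W _ _ hW hI => hwr W hW ?_
    exact CfsgLib.Fusion.involves_of_quotient
      ((QuotientGroup.mk' (pPrimeCore p G)).subgroupMap (P : Subgroup G))
      ((QuotientGroup.mk' (pPrimeCore p G)).subgroupMap_surjective _) hI
  have h2 : ¬ p ∣ (upperPSeries p G (2 * 0 + 2)).1.index := by
    rw [CfsgLib.PLocal.upperPSeries_even p G 0,
      Subgroup.index_comap_of_surjective _ (QuotientGroup.mk'_surjective _)]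
    exact key _ h1
  show (upperPSeries p G (2 * 1 + 1)).1 = ⊤
  rw [CfsgLib.PLocal.upperPSeries_odd p G 1, (CfsgLib.Base.pPrimeCore_eq_top_iff).2 ?_,
    Subgroup.comap_top]
  rw [← Subgroup.index_eq_card]
  exact (hpp.coprime_iff_not_dvd.2 h2).symm

end Cfsg.Agent.S3787
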