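import Cfsg.Statements.S3788
import Cfsg.Agent.Lib.Base.Cores
import Cfsg.Agent.Lib.Base.MinimalNormal
import Cfsg.Agent.Lib.Coprime.Action2
import Cfsg.Agent.Lib.Coprime.SchurZassenhaus
import Cfsg.Agent.Lib.PLocal.PSolvable
import Cfsg.Agent.Lib.FgsC.HallHigmanB
import Cfsg.Agent.Lib.LocalEven.S4Section
import Cfsg.Agent.Lib.Fusion.SectionFreeFactor
import Cfsg.Agent.Lib.PGroups.Basic

set_option autoImplicit false
open Cfsg

namespace Cfsg.Agent.S3788

open scoped commutatorElement Pointwise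
open Cfsg CfsgLib.Base

universe u

variable {G : Type u} [Group G] [Finite G] {p : ℕ} [Fact p.Prime]

/-- The core of the argument: the `p'`-core is trivial and `O_p` is elementary abelian. -/
theorem core (hG : IsPSolvable p G) {U : Subgroup G} (hU : U = pCore p G)
    (hUc : ∀ u ∈ U, ∀ v ∈ U, u * v = v * u) (hUe : ∀ u ∈ U, u ^ p = 1)
    (hCU : Subgroup.centralizer (U : Set G) ≤ U) (hO : pCore p (G ⧸ pCore p G) = ⊥)
    (h : p ≠ 2 ∨ ¬ Involves (Equiv.Perm (Fin 4)) G) {a : G}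
    (ha : ∀ v ∈ U, v * a * v⁻¹ ∈ Subgroup.zpowers a) (hap : a ^ p ∈ U) : a ∈ U := by
  classical
  by_contra haU
  haveI : U.Normal := hU ▸ inferInstance
  set c := a ^ p with hc
  have hcp : c ^ p = 1 := hUe c hap
  have hcyc : ∀ z ∈ Subgroup.zpowers a, z ∈ U → z ∈ Subgroup.zpowers c := by
    intro z hz hzU
    obtain ⟨i, rfl⟩ := Subgroup.mem_zpowers_iff.1 hz
    have hdvd : (p : ℤ) ∣ i := by
      by_contra hnd
      apply haU
      have hco : IsCoprime (p : ℤ) i :=
        (Nat.prime_iff_prime_int.1 Fact.out).coprime_iff_not_dvd.2 hnd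
      obtain ⟨r, s, hrs⟩ := hco
      have : a = (a ^ (p : ℤ)) ^ r * (a ^ i) ^ s := by
        rw [← zpow_mul, ← zpow_mul, ← zpow_add, mul_comm (p : ℤ) r, mul_comm i s, hrs, zpow_one]
      rw [this, zpow_natCast]
      exact U.mul_mem (U.zpow_mem hap r) (U.zpow_mem hzU s)
    obtain ⟨j, rfl⟩ := hdvd
    rw [zpow_mul, zpow_natCast]
    exact ⟨j, rfl⟩
  -- commutation with `U` takes values in `⟨c⟩`
  have hd : ∀ v ∈ U, a * v * a⁻¹ * v⁻¹ ∈ Subgroup.zpowers c := by
    intro v hv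
    refine hcyc _ ?_ (U.mul_mem ((inferInstance : U.Normal).conj_mem v hv a) (U.inv_mem hv))
    rw [show a * v * a⁻¹ * v⁻¹ = a * (v * a * v⁻¹)⁻¹ by group]
    exact mul_mem (Subgroup.mem_zpowers a) (inv_mem (ha v hv))
  have hcU : Subgroup.zpowers c ≤ U := Subgroup.zpowers_le.2 hap
  have hac : ∀ z ∈ Subgroup.zpowers c, a * z = z * a := by
    intro z hz
    obtain ⟨j, rfl⟩ := Subgroup.mem_zpowers_iff.1 hz
    exact (((Commute.refl a).pow_right p).zpow_right j).eq
  -- the complement of `O_p` in `O_{p,p'}`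
  set π := QuotientGroup.mk' (pCore p G) with hπ
  set R := (pPrimeCore p (G ⧸ pCore p G)).comap π with hR
  have hUR : U ≤ R := fun v hv => by
    rw [hR, Subgroup.mem_comap, show π v = 1 from (QuotientGroup.eq_one_iff v).2 (hU ▸ hv)]
    exact one_mem _
  have hRU : R.map π = pPrimeCore p (G ⧸ pCore p G) :=
    Subgroup.map_comap_eq_self_of_surjective (QuotientGroup.mk'_surjective _) _
  obtain ⟨nU, hnU⟩ := pCore_eq_pow_card p G
  have hrel : U.relIndex R = Nat.card (pPrimeCore p (G ⧸ pCore p G)) := by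
    subst hU
    rw [← CfsgLib.PLocal.card_map_mk'_eq_relIndex (pCore p G) R, ← hπ, hRU]
  have hcopQ : (Nat.card U).Coprime (U.relIndex R) := by
    rw [hU, hnU, ← hU, hrel]
    exact ((pPrimeCore_coprime p _).symm).pow_left nU
  obtain ⟨Q, hQR, hQcard, hQsup⟩ := CfsgLib.Coprime.exists_complement_in hUR
    (by rw [Subgroup.normalizer_eq_top]; exact le_top) hcopQ
  have hQU : (Nat.card Q).Coprime (Nat.card U) := by rw [hQcard]; exact hcopQ.symm
  have hQodd : ∀ q ∈ Q, p = 2 → Odd (orderOf q) := by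
    intro q hq hp2
    subst hp2
    have h1 : (Nat.card Q).Coprime 2 := by rw [hQcard, hrel]; exact pPrimeCore_coprime 2 _
    exact Nat.coprime_two_right.1 (h1.coprime_dvd_left (Subgroup.orderOf_dvd_natCard Q hq))
  haveI : IsMulCommutative U := ⟨⟨fun u v => Subtype.ext (hUc u u.2 v v.2)⟩⟩
  haveI : Group.IsSolvable U := Group.isSolvable_of_comm fun u v => Subtype.ext (hUc u u.2 v v.2)
  have hUnorm : ∀ K : Subgroup G, K ≤ Subgroup.normalizer (U : Set G) := fun K => by
    rw [Subgroup.normalizer_eq_top]; exact le_top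
  have hQ1 : ∀ q ∈ Q, (∀ v ∈ U, q * v = v * q) → q = 1 := by
    intro q hq hqv
    have hqU : q ∈ U := hCU (Subgroup.mem_centralizer_iff.2 fun v hv => (hqv v hv).symm)
    have : Q ⊓ U = ⊥ := Subgroup.inf_eq_bot_of_coprime hQU
    exact Subgroup.mem_bot.1 (this ▸ ⟨hq, hqU⟩)
  -- an element of `U a` normalising `Q`
  haveI hRn : R.Normal := Subgroup.Normal.comap inferInstance _
  obtain ⟨u, hu, hua⟩ : ∃ u ∈ U, u * a ∈ Subgroup.normalizer (Q : Set G) := by
    have hsolvU : Group.IsSolvable U := inferInstance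
    have hle : MulAut.conj a • Q ≤ U ⊔ Q := by
      rw [hQsup]
      rintro _ ⟨q, hq, rfl⟩
      exact hRn.conj_mem q (hQR hq) a
    obtain ⟨v, hv, hve⟩ := CfsgLib.Coprime.sz_conj_rel (hUnorm Q) (hUnorm _) hQU.symm
      (CfsgLib.Coprime.card_conj_smul a Q) hle (Or.inl hsolvU)
    refine ⟨v⁻¹, U.inv_mem hv, ?_⟩
    have h2 : MulAut.conj (v⁻¹ * a) • Q = Q := by
      rw [map_mul, mul_smul, ← hve, ← mul_smul, ← map_mul, inv_mul_cancel, map_one, one_smul]
    rw [← CfsgLib.Base.map_conj_eq_self_iff, CfsgLib.Base.map_conj_eq_smul]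
    exact h2
  set x := u * a with hx
  have hxN : ∀ q ∈ Q, x * q * x⁻¹ ∈ Q := fun q hq => (Subgroup.mem_normalizer_iff.1 hua q).1 hq
  have hxU : x ∉ U := fun hh => haU ((Subgroup.mul_mem_cancel_left U hu).1 hh)
  have hxconj : ∀ v ∈ U, x * v * x⁻¹ = a * v * a⁻¹ := by
    intro v hv
    have hav : a * v * a⁻¹ ∈ U := (inferInstance : U.Normal).conj_mem v hv a
    rw [hx, show u * a * v * (u * a)⁻¹ = u * (a * v * a⁻¹) * u⁻¹ by group,
      hUc u hu _ hav, mul_inv_cancel_right]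
  -- `x` cannot centralise `Q`
  have hxQ : ∃ q ∈ Q, x * q ≠ q * x := by
    by_contra hall
    push Not at hall
    apply hxU
    have hxp : x ^ p ∈ U := by
      rw [hU, ← QuotientGroup.eq_one_iff, ← QuotientGroup.mk'_apply, map_pow, hx, map_mul,
        show QuotientGroup.mk' (pCore p G) u = 1 from (QuotientGroup.eq_one_iff u).2 (hU ▸ hu),
        one_mul, ← map_pow]
      exact (QuotientGroup.eq_one_iff _).2 (hU ▸ hap)
    have hcent : π x ∈ Subgroup.centralizer (pPrimeCore p (G ⧸ pCore p G) : Set (G ⧸ pCore p G)) := by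
      rw [Subgroup.mem_centralizer_iff]
      intro r hr
      rw [SetLike.mem_coe, ← hRU] at hr
      obtain ⟨r, hrR, rfl⟩ := hr
      rw [SetLike.mem_coe, ← hQsup, sup_comm] at hrR
      obtain ⟨q, hq, v, hv, rfl⟩ := (CfsgLib.Coprime.mem_sup_iff_of_le_normalizer (hUnorm Q)).1 hrR
      rw [map_mul, show π v = 1 from (QuotientGroup.eq_one_iff v).2 (hU ▸ hv), mul_one, ← map_mul,
        ← map_mul, hall q hq]
    have h1 := CfsgLib.FgsC.HallHigmanB.centralizer_pPrimeCore_le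
      (CfsgLib.PLocal.isPSolvable_quotient hG _) hO hcent
    rw [hU, ← QuotientGroup.eq_one_iff, ← QuotientGroup.mk'_apply, ← hπ, ← orderOf_eq_one_iff]
    refine Nat.eq_one_of_dvd_coprimes (pPrimeCore_coprime p _) (Subgroup.orderOf_dvd_natCard _ h1)
      (orderOf_dvd_of_pow_eq_one ?_)
    rw [← map_pow]
    exact (QuotientGroup.eq_one_iff _).2 (hU ▸ hxp)
  set CQ := U ⊓ Subgroup.centralizer (Q : Set G) with hCQ
  have hNU : ∀ z ∈ U, z ∈ Subgroup.normalizer (Q : Set G) → z ∈ CQ := by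
    intro z hz hzN
    refine ⟨hz, Subgroup.mem_centralizer_iff.2 fun q hq => ?_⟩
    have h1 : z * q * z⁻¹ * q⁻¹ ∈ U := by
      rw [show z * q * z⁻¹ * q⁻¹ = z * (q * z⁻¹ * q⁻¹) by group]
      exact U.mul_mem hz ((inferInstance : U.Normal).conj_mem _ (U.inv_mem hz) q)
    have h2 : z * q * z⁻¹ * q⁻¹ ∈ Q :=
      Q.mul_mem ((Subgroup.mem_normalizer_iff.1 hzN q).1 hq) (Q.inv_mem hq)
    have h3 : z * q * z⁻¹ * q⁻¹ = 1 :=
      Subgroup.mem_bot.1 ((Subgroup.inf_eq_bot_of_coprime hQU) ▸ ⟨h2, h1⟩)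
    rw [mul_inv_eq_one] at h3
    exact (mul_inv_eq_iff_eq_mul.1 h3).symm
  by_cases hcQ : c ∈ CQ
  · -- then `x` centralises `[U, Q]` and `C_U(Q)` is centralised by `Q`
    obtain ⟨q, hq, hne⟩ := hxQ
    apply hne
    set t := x * q * x⁻¹ * q⁻¹ with ht
    have htQ : t ∈ Q := Q.mul_mem (hxN q hq) (Q.inv_mem hq)
    have ht1 : t = 1 := by
      refine hQ1 t htQ ?_
      set W := ⁅U, Q⁆ with hW
      have hWU : W ≤ U := CfsgLib.Coprime.commutator_le_of_le_normalizer (hUnorm Q)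
      have hxW : ∀ w ∈ W, x * w * x⁻¹ ∈ W := by
        intro w hw
        have hle : W ≤ W.comap (MulAut.conj x).toMonoidHom := by
          rw [hW, Subgroup.commutator_le]
          intro v hv r hr
          show x * ⁅v, r⁆ * x⁻¹ ∈ ⁅U, Q⁆
          rw [show x * ⁅v, r⁆ * x⁻¹ = ⁅x * v * x⁻¹, x * r * x⁻¹⁆ by
            simp only [commutatorElement_def]; group]
          exact Subgroup.commutator_mem_commutator ((inferInstance : U.Normal).conj_mem v hv x)
            (hxN r hr)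
        exact hle hw
      have hxfix : ∀ w ∈ W, x * w * x⁻¹ = w := by
        intro w hw
        have hbot := CfsgLib.Coprime.centralizer_inf_commutator_eq_bot (hUnorm Q) hQU
        have h1 : x * w * x⁻¹ * w⁻¹ ∈ W := W.mul_mem (hxW w hw) (W.inv_mem hw)
        have h2 : x * w * x⁻¹ * w⁻¹ ∈ CQ := by
          rw [hxconj w (hWU hw)]
          exact (Subgroup.zpowers_le.2 hcQ) (hd w (hWU hw))
        have h3 : x * w * x⁻¹ * w⁻¹ = 1 := Subgroup.mem_bot.1 (hbot ▸ ⟨h2, h1⟩)
        exact mul_inv_eq_one.1 h3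
      intro v hv
      obtain ⟨z, hz, hvz⟩ := CfsgLib.Coprime.exists_commutator_mul_centralizer (hUnorm Q) hQU
        (Or.inr inferInstance) hv
      have htz : t * z = z * t := (Subgroup.mem_centralizer_iff.1 hz.2 t htQ)
      have hqW : ∀ w ∈ W, q⁻¹ * w * q ∈ W := by
        intro w hw
        have hN : Q ≤ Subgroup.normalizer (W : Set G) := Subgroup.normalizer_commutator_ge_right U Q
        exact (Subgroup.mem_normalizer_iff''.1 (hN hq) w).1 hw
      set w := v * z⁻¹ with hwdef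
      have hxinv : ∀ w ∈ W, x⁻¹ * w * x = w := by
        intro w hw
        conv_lhs => rw [← hxfix w hw]
        group
      have htw : t * w * t⁻¹ = w := by
        calc t * w * t⁻¹ = x * (q * (x⁻¹ * (q⁻¹ * w * q) * x) * q⁻¹) * x⁻¹ := by rw [ht]; group
          _ = x * (q * (q⁻¹ * w * q) * q⁻¹) * x⁻¹ := by rw [hxinv _ (hqW w hvz)]
          _ = x * w * x⁻¹ := by group
          _ = w := hxfix w hvz
      have hc1 : Commute t w := mul_inv_eq_iff_eq_mul.1 htw
      have := hc1.mul_right (show Commute t z from htz)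
      rw [hwdef, inv_mul_cancel_right] at this
      exact this.eq
    rw [ht, mul_inv_eq_one] at ht1
    exact mul_inv_eq_iff_eq_mul.1 ht1
  -- otherwise `p = 2` and there is a section `S₄`
  have hc1 : c ≠ 1 := fun h1 => hcQ (h1 ▸ one_mem _)
  obtain ⟨k, hk⟩ : ∃ k : ℕ, a * u * a⁻¹ * u⁻¹ = c ^ k := by
    obtain ⟨k, hk⟩ := (Submonoid.mem_powers_iff _ _).1 (mem_powers_iff_mem_zpowers.2 (hd u hu))
    exact ⟨k, hk.symm⟩
  have hau : a * u = u * c ^ k * a := by
    rw [← hk, ← hUc (a * u * a⁻¹ * u⁻¹) (U.mul_mem ((inferInstance : U.Normal).conj_mem u hu a)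
      (U.inv_mem hu)) u hu, inv_mul_cancel_right, inv_mul_cancel_right]
  have hanu : ∀ n : ℕ, a ^ n * u = u * c ^ (k * n) * a ^ n := by
    intro n
    induction n with
    | zero => simp
    | succ n ih =>
      rw [pow_succ', mul_assoc, ih, ← mul_assoc, ← mul_assoc, hau, mul_assoc (u * c ^ k),
        hac _ (pow_mem (Subgroup.mem_zpowers c) _), ← mul_assoc, mul_assoc u, ← pow_add,
        show k + k * n = k * (n + 1) by ring, mul_assoc]
  have hpow : ∀ n : ℕ, x ^ n = u ^ n * c ^ (k * n.choose 2) * a ^ n := by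
    intro n
    induction n with
    | zero => simp
    | succ n ih =>
      rw [pow_succ, ih, hx, mul_assoc _ (a ^ n) (u * a), ← mul_assoc (a ^ n) u a, hanu,
        Nat.choose_succ_succ, Nat.choose_one_right, mul_add, pow_add c]
      have h1 : c ^ (k * n.choose 2) * u = u * c ^ (k * n.choose 2) :=
        hUc _ (U.pow_mem hap _) u hu
      calc u ^ n * c ^ (k * n.choose 2) * (u * c ^ (k * n) * a ^ n * a)
          = u ^ n * (c ^ (k * n.choose 2) * u) * c ^ (k * n) * (a ^ n * a) := by group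
        _ = u ^ n * u * (c ^ (k * n.choose 2) * c ^ (k * n)) * (a ^ n * a) := by rw [h1]; group
        _ = u ^ (n + 1) * (c ^ (k * n) * c ^ (k * n.choose 2)) * a ^ (n + 1) := by
          rw [← pow_succ u n, ← pow_succ a n,
            hUc _ (U.pow_mem hap (k * n.choose 2)) _ (U.pow_mem hap (k * n))]
  have hxpc : x ^ p = c ^ (k * p.choose 2) * c := by rw [hpow p, hUe u hu, one_mul, ← hc]
  have hxpN : x ^ p ∈ CQ := hNU _ (by rw [hxpc]; exact U.mul_mem (U.pow_mem hap _) hap)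
    (pow_mem hua p)
  have hp2 : p = 2 := by
    by_contra hp2
    obtain ⟨l, hl⟩ := (Fact.out : p.Prime).dvd_choose_self (k := 2) two_ne_zero
      (lt_of_le_of_ne (Fact.out : p.Prime).two_le (Ne.symm hp2))
    rw [hxpc, hl, mul_comm p l, ← mul_assoc, mul_comm (k * l) p, pow_mul, hcp, one_pow, one_mul] at hxpN
    exact hcQ hxpN
  subst hp2
  have hcc : c * c = 1 := by rw [← pow_two]; exact hcp
  have hz2 : ∀ z ∈ Subgroup.zpowers c, z = 1 ∨ z = c := by
    intro z hz
    obtain ⟨i, rfl⟩ := Subgroup.mem_zpowers_iff.1 hz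
    rcases Int.even_or_odd i with ⟨l, rfl⟩ | ⟨l, rfl⟩
    · exact Or.inl (by rw [← two_mul, zpow_mul, zpow_two, hcc, one_zpow])
    · exact Or.inr (by rw [zpow_add_one, zpow_mul, zpow_two, hcc, one_zpow, one_mul])
  have hxx : x * x = 1 := by
    rw [← pow_two]
    rcases hz2 _ (show x ^ 2 ∈ Subgroup.zpowers c by
      rw [hxpc]; exact mul_mem (pow_mem (Subgroup.mem_zpowers c) _) (Subgroup.mem_zpowers c)) with
      hh | hh
    · exact hh
    · exact absurd (hh ▸ hxpN) hcQ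
  have hxinv : x⁻¹ = x := inv_eq_of_mul_eq_one_right hxx
  have hxv : ∀ v ∈ U, x * v * x⁻¹ = v ∨ x * v * x⁻¹ = c * v := by
    intro v hv
    rcases hz2 _ (hd v hv) with hh | hh
    · exact Or.inl (by rw [hxconj v hv]; exact mul_inv_eq_one.1 hh)
    · exact Or.inr (by rw [hxconj v hv]; exact mul_inv_eq_iff_eq_mul.1 hh)
  have hxc : x * c * x⁻¹ = c := by
    rw [hxconj c hap, hac c (Subgroup.mem_zpowers c), mul_inv_cancel_right]
  obtain ⟨q, hq, hne⟩ := hxQ
  set t := x * q * x⁻¹ * q⁻¹ with ht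
  have htQ : t ∈ Q := Q.mul_mem (hxN q hq) (Q.inv_mem hq)
  have ht1 : t ≠ 1 := fun h1 => by
    rw [ht, mul_inv_eq_one] at h1
    exact hne (mul_inv_eq_iff_eq_mul.1 h1)
  have hxt : x * t * x⁻¹ = t⁻¹ := by
    calc x * t * x⁻¹ = (x * x) * q * x⁻¹ * q⁻¹ * x⁻¹ := by rw [ht]; group
      _ = t⁻¹ := by rw [hxx, ht]; rw [hxinv]; simp [mul_assoc, hxinv]
  have hte : ∃ r : ℕ, (t ^ 2) ^ r = t := by
    obtain ⟨r, hr⟩ := exists_pow_eq_self_of_coprime
      (Nat.coprime_two_left.2 (hQodd t htQ rfl))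
    exact ⟨r, hr⟩
  set f := t * c * t⁻¹ with hf
  have hfU : f ∈ U := (inferInstance : U.Normal).conj_mem c hap t
  have hfc : f ≠ c := by
    intro hfc
    apply ht1
    -- `x` and its conjugate fix `c` and every coset of `⟨c⟩`
    set y := t * x * t⁻¹ with hy
    have hty : t * t = y * x := by
      calc t * t = t * (x * x) * (x * x) * t := by rw [hxx]; group
        _ = t * x * (x * (x * x) * t * x⁻¹) * x := by group
        _ = y * x := by rw [hxx, mul_one, hxt, hy]
    have hcomm : ∀ v ∈ U, t * t * v * (t * t)⁻¹ = v ∨ t * t * v * (t * t)⁻¹ = c * v := by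
      intro v hv
      have hy1 : ∀ w ∈ U, y * w * y⁻¹ = w ∨ y * w * y⁻¹ = c * w := by
        intro w hw
        have hw' : t⁻¹ * w * t ∈ U := by
          simpa using (inferInstance : U.Normal).conj_mem w hw t⁻¹
        have e : y * w * y⁻¹ = t * (x * (t⁻¹ * w * t) * x⁻¹) * t⁻¹ := by rw [hy]; group
        rcases hxv _ hw' with hh | hh
        · left; rw [e, hh]; group
        · right; rw [e, hh]
          calc t * (c * (t⁻¹ * w * t)) * t⁻¹ = f * w := by rw [hf]; group
            _ = c * w := by rw [hfc]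
      have hyc : y * c * y⁻¹ = c := by
        conv_lhs => rw [← hfc, hy, hf]
        calc t * x * t⁻¹ * (t * c * t⁻¹) * (t * x * t⁻¹)⁻¹ = t * (x * c * x⁻¹) * t⁻¹ := by group
          _ = c := by rw [hxc, ← hf, hfc]
      have e : t * t * v * (t * t)⁻¹ = y * (x * v * x⁻¹) * y⁻¹ := by rw [hty]; group
      rcases hxv v hv with hh | hh <;> rw [e, hh]
      · exact hy1 v hv
      · rw [show y * (c * v) * y⁻¹ = (y * c * y⁻¹) * (y * v * y⁻¹) by group, hyc]
        rcases hy1 v hv with h' | h' <;> rw [h']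
        · exact Or.inr rfl
        · left; rw [← mul_assoc, hcc, one_mul]
    have htc : Commute t c := mul_inv_eq_iff_eq_mul.1 hfc
    have ht4 : t * t * (t * t) = 1 := by
      refine hQ1 _ (Q.mul_mem (Q.mul_mem htQ htQ) (Q.mul_mem htQ htQ)) fun v hv => ?_
      rw [← mul_inv_eq_iff_eq_mul]
      have e : t * t * (t * t) * v * (t * t * (t * t))⁻¹ =
          t * t * (t * t * v * (t * t)⁻¹) * (t * t)⁻¹ := by group
      rw [e]
      rcases hcomm v hv with hh | hh
      · rw [hh]; exact hh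
      · rw [hh, show t * t * (c * v) * (t * t)⁻¹ = (t * t * c * (t * t)⁻¹) * (t * t * v * (t * t)⁻¹)
          by group, hh, (htc.mul_left htc).eq, mul_inv_cancel_right, ← mul_assoc, hcc, one_mul]
    obtain ⟨r, hr⟩ := hte
    rw [pow_two] at hr
    have h2 : t * t = 1 := by
      have hodd' := hQodd (t * t) (Q.mul_mem htQ htQ) rfl
      have hd2 : orderOf (t * t) ∣ 2 := orderOf_dvd_of_pow_eq_one (by rw [pow_two]; exact ht4)
      rcases (Nat.dvd_prime Nat.prime_two).1 hd2 with h' | h'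
      · exact orderOf_eq_one_iff.1 h'
      · rw [h'] at hodd'; exact absurd hodd' (by decide)
    rw [← hr, h2, one_pow]
  have hff : f * f = 1 := by
    rw [hf, show t * c * t⁻¹ * (t * c * t⁻¹) = t * (c * c) * t⁻¹ by group, hcc, mul_one,
      mul_inv_cancel]
  have hxf : x * f * x⁻¹ = c * f := by
    rcases hxv f hfU with hh | hh
    · exfalso
      apply hfc
      have h1 : t⁻¹ * c * t = f := by
        calc t⁻¹ * c * t = (x * t * x⁻¹) * (x * c * x⁻¹) * (x * t * x⁻¹)⁻¹ := by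
              rw [hxt, hxc, inv_inv]
          _ = x * f * x⁻¹ := by rw [hf]; group
          _ = f := hh
      have h2 : Commute (t ^ 2) c := by
        have h3 : t * (t⁻¹ * c * t) * t⁻¹ = t * f * t⁻¹ := by rw [h1]
        rw [show t * (t⁻¹ * c * t) * t⁻¹ = c by group, hf,
          show t * (t * c * t⁻¹) * t⁻¹ = t ^ 2 * c * (t ^ 2)⁻¹ by rw [pow_two]; group] at h3
        exact mul_inv_eq_iff_eq_mul.1 h3.symm
      obtain ⟨r, hr⟩ := hte
      have h4 := h2.pow_left r
      rw [hr] at h4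
      rw [hf, h4.eq, mul_inv_cancel_right]
    · exact hh
  have htf : t * f * t⁻¹ = c * f := by
    have h1 : t⁻¹ * c * t = c * f := by
      calc t⁻¹ * c * t = (x * t * x⁻¹) * (x * c * x⁻¹) * (x * t * x⁻¹)⁻¹ := by
            rw [hxt, hxc, inv_inv]
        _ = x * f * x⁻¹ := by rw [hf]; group
        _ = c * f := hxf
    have h2 : c = f * (t * f * t⁻¹) := by
      calc c = t * (t⁻¹ * c * t) * t⁻¹ := by group
        _ = t * (c * f) * t⁻¹ := by rw [h1]
        _ = f * (t * f * t⁻¹) := by rw [hf]; group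
    calc t * f * t⁻¹ = (f * f) * (t * f * t⁻¹) := by rw [hff, one_mul]
      _ = f * (f * (t * f * t⁻¹)) := mul_assoc _ _ _
      _ = f * c := by rw [← h2]
      _ = c * f := hUc f hfU c hap
  rcases h with h | h
  · exact h rfl
  · exact h (CfsgLib.LocalEven.involves_perm_four hcc hff (hUc f hfU c hap) hc1
      (fun h1 => hc1 (by rw [hf, mul_inv_eq_one] at h1; exact mul_eq_left.1 h1))
      (Ne.symm hfc) (rfl : t * c * t⁻¹ = f) htf hxc hxf)

/-- Let G be a finite p-soluble group, P a Sylow p-subgroup of G and A a cyclic normal subgroup of P. If p is odd, or if no section of G is isomorphic to the symmetric group of degree 4, then A ≤ O_{p',p}(G). -/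
theorem result {G : Type*} [Group G] [Finite G] {p : ℕ} [Fact p.Prime] (hG : Cfsg.IsPSolvable p G) (P : Sylow p G) (A : Subgroup G) (hAP : A ≤ (P : Subgroup G)) (hAn : (P : Subgroup G) ≤ Subgroup.normalizer (A : Set G)) (hA : IsCyclic A) (h : p ≠ 2 ∨ ¬ Cfsg.Involves (Equiv.Perm (Fin 4)) G) : A ≤ Cfsg.pPrimePCore p G := by
  classical
  obtain ⟨⟨a₀, ha₀⟩, hgen⟩ := hA.exists_generator
  set π := QuotientGroup.mk' (Cfsg.pPrimeCore p G) with hπ
  rw [Cfsg.pPrimePCore, ← Subgroup.map_le_iff_le_comap]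
  rintro _ ⟨z, hz, rfl⟩
  obtain ⟨i, hi⟩ := Subgroup.mem_zpowers_iff.1 (hgen ⟨z, hz⟩)
  have hzi : z = a₀ ^ i := by
    have := congrArg Subtype.val hi
    simpa using this.symm
  subst hzi
  rw [map_zpow]
  refine Subgroup.zpow_mem _ ?_ i
  -- pass to the quotient by the `p'`-core and the Frattini subgroup of its `p`-core
  set U₁ := Cfsg.pCore p (G ⧸ Cfsg.pPrimeCore p G) with hU₁
  have hU₁p : IsPGroup p U₁ := CfsgLib.Base.isPGroup_pCore p _
  set Φ := (frattini U₁).map U₁.subtype with hΦ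
  haveI : Φ.Normal := CfsgLib.Base.normal_map_subtype _
  have hΦp : IsPGroup p Φ := (hU₁p.to_subgroup (frattini U₁)).map _
  have hΦU : Φ ≤ U₁ := Subgroup.map_subtype_le _
  set ρ := QuotientGroup.mk' Φ with hρ
  have hU₂ : Cfsg.pCore p ((G ⧸ Cfsg.pPrimeCore p G) ⧸ Φ) = U₁.map ρ :=
    CfsgLib.Base.pCore_quotient Φ hΦp
  have hG₁ : Cfsg.IsPSolvable p (G ⧸ Cfsg.pPrimeCore p G) :=
    CfsgLib.PLocal.isPSolvable_quotient hG _
  have hC₁ := CfsgLib.PLocal.centralizer_pCore_le hG₁ (CfsgLib.Base.pPrimeCore_quotient_pPrimeCore p G)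
  have hback : ∀ b, ρ b ∈ U₁.map ρ → b ∈ U₁ := by
    rintro b ⟨v, hv, hve⟩
    have := U₁.mul_mem hv (hΦU (QuotientGroup.eq.1 hve))
    rwa [mul_inv_cancel_left] at this
  -- the centraliser of the Frattini quotient
  have hC₂ : Subgroup.centralizer ((U₁.map ρ : Subgroup _) : Set _) ≤ U₁.map ρ := by
    intro b hb
    obtain ⟨b, rfl⟩ := QuotientGroup.mk'_surjective Φ b
    refine Subgroup.mem_map_of_mem _ ?_
    set C := (Subgroup.centralizer ((U₁.map ρ : Subgroup _) : Set _)).comap ρ with hC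
    haveI : (U₁.map ρ).Normal := Subgroup.Normal.map inferInstance ρ (QuotientGroup.mk'_surjective Φ)
    haveI : C.Normal := Subgroup.Normal.comap inferInstance _
    have hbC : b ∈ C := hb
    refine CfsgLib.Base.le_pCore (N := C) ?_ hbC
    intro g
    obtain ⟨n, r, hr, hgr⟩ := Nat.exists_eq_pow_mul_and_not_dvd (orderOf_pos g).ne' p
      (Fact.out : p.Prime).ne_one
    refine ⟨n, ?_⟩
    set g' := g ^ p ^ n with hg'
    have hd : orderOf ((g' : C) : G ⧸ Cfsg.pPrimeCore p G) ∣ r := by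
      refine orderOf_dvd_of_pow_eq_one ?_
      rw [← SubmonoidClass.coe_pow, hg', ← pow_mul, ← hgr, pow_orderOf_eq_one]
      rfl
    have hcop : (orderOf ((g' : C) : G ⧸ Cfsg.pPrimeCore p G)).Coprime p :=
      (Nat.Coprime.coprime_dvd_left hd ((Fact.out : p.Prime).coprime_iff_not_dvd.2 hr).symm)
    set K := Subgroup.zpowers ((g' : C) : G ⧸ Cfsg.pPrimeCore p G) with hK
    have hKcop : ∀ H : Subgroup (G ⧸ Cfsg.pPrimeCore p G), IsPGroup p H →
        (Nat.card K).Coprime (Nat.card H) := by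
      intro H hH
      obtain ⟨m, hm⟩ := IsPGroup.iff_card.1 hH
      rw [hm, hK, Nat.card_zpowers]
      exact hcop.pow_right m
    have hcent := CfsgLib.Coprime.le_centralizer_of_trivial_mod_frattini (A := K) (K := U₁)
      (by rw [Subgroup.normalizer_eq_top]; exact le_top)
      (by
        have h1 := hKcop Φ hΦp
        rwa [hΦ, CfsgLib.Base.card_map_subtype] at h1)
      (fun k hk v hv => by
        have hkC : k ∈ C := (Subgroup.zpowers_le.2 g'.2) hk
        have h1 : ρ v * ρ k = ρ k * ρ v :=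
          Subgroup.mem_centralizer_iff.1 hkC (ρ v) (Subgroup.mem_map_of_mem _ hv)
        refine (QuotientGroup.eq_one_iff _).1 ?_
        show ρ (k * v * k⁻¹ * v⁻¹) = 1
        rw [map_mul, map_mul, map_mul, map_inv, map_inv, ← h1, mul_inv_cancel_right, mul_inv_cancel])
    have hmem : ((g' : C) : G ⧸ Cfsg.pPrimeCore p G) ∈ K ⊓ U₁ :=
      ⟨Subgroup.mem_zpowers _, hC₁ (hcent (Subgroup.mem_zpowers _))⟩
    rw [Subgroup.inf_eq_bot_of_coprime (hKcop U₁ hU₁p), Subgroup.mem_bot] at hmem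
    exact Subtype.ext hmem
  by_contra hna
  set a₁ := π a₀ with ha₁
  obtain ⟨k₀, hk₀⟩ : ∃ k, a₁ ^ p ^ k = 1 := by
    obtain ⟨k, hk⟩ := P.2 ⟨a₀, hAP ha₀⟩
    exact ⟨k, by rw [ha₁, ← map_pow, show a₀ ^ p ^ k = 1 by simpa using congrArg Subtype.val hk, map_one]⟩
  have hex : ∃ k, a₁ ^ p ^ k ∈ U₁ := ⟨k₀, hk₀ ▸ one_mem _⟩
  set j := Nat.find hex with hj
  have hj0 : j ≠ 0 := fun h0 => hna (by
    have := Nat.find_spec hex
    rwa [← hj, h0, pow_zero, pow_one] at this)
  have hjm : a₁ ^ p ^ (j - 1) ∉ U₁ := Nat.find_min hex (by omega)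
  set b := a₁ ^ p ^ (j - 1) with hb
  have hbp : b ^ p ∈ U₁ := by
    rw [hb, ← pow_mul, ← pow_succ, Nat.sub_add_cancel (Nat.pos_of_ne_zero hj0)]
    exact Nat.find_spec hex
  apply hjm
  apply hback
  have hUPm : U₁ ≤ ((P : Subgroup G).map π) :=
    CfsgLib.Base.pCore_le_sylow (P.mapSurjective (QuotientGroup.mk'_surjective _))
  refine hU₂ ▸ core (CfsgLib.PLocal.isPSolvable_quotient hG₁ Φ) rfl ?_ ?_ (hU₂.symm ▸ hC₂)
    (CfsgLib.Base.pCore_quotient_pCore p _)
    (h.imp id fun hh hi => hh (CfsgLib.Fusion.involves_of_quotient π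
      (QuotientGroup.mk'_surjective _) (CfsgLib.Fusion.involves_of_quotient ρ
      (QuotientGroup.mk'_surjective _) hi))) ?_ ?_
  · rw [hU₂]
    rintro _ ⟨u, hu, rfl⟩ _ ⟨v, hv, rfl⟩
    rw [← commutatorElement_eq_one_iff_mul_comm, ← map_commutatorElement]
    exact (QuotientGroup.eq_one_iff _).2 (Subgroup.mem_map_of_mem U₁.subtype
      (CfsgLib.PGroups.commutator_le_frattini hU₁p
        (Subgroup.commutator_mem_commutator (Subgroup.mem_top (⟨u, hu⟩ : U₁))
          (Subgroup.mem_top (⟨v, hv⟩ : U₁)))))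
  · rw [hU₂]
    rintro _ ⟨u, hu, rfl⟩
    rw [← map_pow]
    exact (QuotientGroup.eq_one_iff _).2 (Subgroup.mem_map_of_mem U₁.subtype
      (CfsgLib.PGroups.pow_mem_frattini hU₁p ⟨u, hu⟩))
  · rw [hU₂]
    rintro _ ⟨v, hv, rfl⟩
    obtain ⟨g, hg, rfl⟩ := hUPm hv
    have h1 : g * a₀ * g⁻¹ ∈ A := (Subgroup.mem_normalizer_iff.1 (hAn hg) a₀).1 ha₀
    obtain ⟨l, hl⟩ := Subgroup.mem_zpowers_iff.1 (hgen ⟨_, h1⟩)
    have hl' : a₀ ^ l = g * a₀ * g⁻¹ := by simpa using congrArg Subtype.val hl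
    refine Subgroup.mem_zpowers_iff.2 ⟨l, ?_⟩
    rw [← map_zpow, ← map_inv, ← map_mul, ← map_mul]
    congr 1
    rw [hb, ← zpow_natCast, ← zpow_mul, mul_comm, zpow_mul, zpow_natCast, ha₁, ← map_zpow, hl',
      zpow_natCast, map_mul, map_mul, map_inv, conj_pow]
  · rw [hU₂, ← map_pow]
    exact Subgroup.mem_map_of_mem _ hbp

end Cfsg.Agent.S3788
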