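import Cfsg.Statements.S3790
import Cfsg.Agent.Lib.PLocal.PLengthExtension

set_option autoImplicit false
open Cfsg

namespace Cfsg.Agent.S3790

/-- Let G be a finite solvable group and p a prime. Suppose p₁, …, p_r are distinct primes, all different from p, that include every prime dividing the order of G other than p, and that G has p_i-length at most l_i for each i. Then G has p-length at most the product of the numbers 1 + l_i. -/
theorem result {G : Type*} [Group G] [Finite G] (hG : Group.IsSolvable G) (p : ℕ) [Fact p.Prime] (r : ℕ) (q : Fin r → ℕ) (hq : ∀ i, (q i).Prime ∧ q i ≠ p) (hinj : Function.Injective q) (hcover : ∀ s : ℕ, s.Prime → s ∣ Nat.card G → s ≠ p → ∃ i, q i = s) (l : Fin r → ℕ) (hl : ∀ i, Cfsg.PLengthLE (q i) (l i) G) : Cfsg.PLengthLE p (Finset.univ.prod fun i => 1 + l i) G := by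
  classical
  let l' : ℕ → ℕ := fun s => if h : ∃ i, q i = s then l h.choose else 0
  have hl' : ∀ i, l' (q i) = l i := by
    intro i
    have h : ∃ j, q j = q i := ⟨i, rfl⟩
    simp only [l', dif_pos h]
    rw [hinj h.choose_spec]
  have h := CfsgLib.PLocal.pLengthLE_of_prime_support p (Finset.univ.image q) l' (G := G)
    (fun s hs => by obtain ⟨i, -, rfl⟩ := Finset.mem_image.1 hs; exact hq i)
    (fun s hs hd => (eq_or_ne s p).imp id fun hne => by
      obtain ⟨i, rfl⟩ := hcover s hs hd hne
      exact Finset.mem_image_of_mem q (Finset.mem_univ i))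
    (fun s hs => by obtain ⟨i, -, rfl⟩ := Finset.mem_image.1 hs; rw [hl']; exact hl i)
  rw [Finset.prod_image fun i _ j _ e => hinj e] at h
  simpa only [hl'] using h

end Cfsg.Agent.S3790
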