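import Cfsg.Statements.S3797
import Cfsg.Agent.Lib.FgsB.InvolConjMain
import Cfsg.Agent.Lib.FT.PLengthClosure
import Cfsg.Agent.Lib.Transfer.NormalPComplement

set_option autoImplicit false
open Cfsg

namespace Cfsg.Agent.S3797

open scoped Pointwise

/-- An abelian `2`-group whose automorphisms are transitive on involutions is homocyclic. -/
theorem homocyclic_of_transitive {A : Type*} [CommGroup A] [Finite A] (hA : IsPGroup 2 A)
    (htrans : ∀ x y : A, x ≠ 1 → x ^ 2 = 1 → y ≠ 1 → y ^ 2 = 1 → ∃ a : MulAut A, a x = y) :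
    ∃ m r : ℕ, Nonempty (A ≃* (Fin r → Multiplicative (ZMod (2 ^ m)))) := by
  classical
  haveI : Fact (Nat.Prime 2) := ⟨Nat.prime_two⟩
  obtain ⟨ι, _, n, hn, ⟨φ⟩⟩ := CommGroup.equiv_prod_multiplicative_zmod_of_finite A
  have hpow : ∀ i, ∃ a, n i = 2 ^ (a + 1) := fun i => by
    obtain ⟨a, ha⟩ := IsPGroup.iff_orderOf.mp hA (φ.symm (Pi.mulSingle i (Multiplicative.ofAdd 1)))
    rw [MulEquiv.orderOf_eq, orderOf_piMulSingle, orderOf_ofAdd_eq_addOrderOf,
      ZMod.addOrderOf_one] at ha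
    cases a with
    | zero => have := hn i; simp at ha; omega
    | succ a => exact ⟨a, ha⟩
  choose a ha using hpow
  obtain rfl : n = fun i => 2 ^ (a i + 1) := funext ha
  have hall : ∀ i j, a i ≤ a j := by
    intro i j
    by_contra! hlt
    set u : (l : ι) → (l : ι) → Multiplicative (ZMod (2 ^ (a l + 1))) := fun l =>
      Pi.mulSingle l (Multiplicative.ofAdd ((2 ^ a l : ℕ) : ZMod (2 ^ (a l + 1)))) with hu
    have hu1 : ∀ l, u l ≠ 1 ∧ u l ^ 2 = 1 := fun l => by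
      refine ⟨fun h => ?_, ?_⟩
      · have h1 := congrFun h l
        simp only [hu, Pi.mulSingle_eq_same, Pi.one_apply] at h1
        rw [ofAdd_eq_one, ZMod.natCast_eq_zero_iff] at h1
        have := Nat.le_of_dvd (Nat.two_pow_pos _) h1
        rw [pow_succ] at this
        have := Nat.two_pow_pos (a l)
        omega
      · simp only [hu]
        rw [← Pi.mulSingle_pow, ← ofAdd_nsmul, nsmul_eq_mul, ← Nat.cast_mul, ← pow_succ',
          ZMod.natCast_self, ofAdd_zero, Pi.mulSingle_one]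
    have h1 : ∀ l, φ.symm (u l) ≠ 1 := fun l h => (hu1 l).1 (φ.symm.injective (h.trans φ.symm.map_one.symm))
    have h2 : ∀ l, φ.symm (u l) ^ 2 = 1 := fun l => by rw [← map_pow, (hu1 l).2, map_one]
    obtain ⟨α, hα⟩ := htrans _ _ (h1 i) (h2 i) (h1 j) (h2 j)
    have hroot : u i = (Pi.mulSingle i (Multiplicative.ofAdd 1)) ^ 2 ^ a i := by
      simp only [hu]
      rw [← Pi.mulSingle_pow, ← ofAdd_nsmul, nsmul_one]
    have h3 : u j = (φ (α (φ.symm (Pi.mulSingle i (Multiplicative.ofAdd 1))))) ^ 2 ^ a i := by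
      rw [← map_pow φ, ← map_pow α, ← map_pow φ.symm, ← hroot, hα, MulEquiv.apply_symm_apply]
    set w := φ (α (φ.symm (Pi.mulSingle i (Multiplicative.ofAdd 1))))
    refine (hu1 j).1 (funext fun l => ?_)
    by_cases hl : l = j
    · subst hl
      obtain ⟨d, hd⟩ := Nat.exists_eq_add_of_le (show a l + 1 ≤ a i by omega)
      have hexp : 2 ^ a i = 2 ^ (a l + 1) * 2 ^ d := by rw [hd, pow_add]
      have hz : (w l) ^ 2 ^ (a l + 1) = 1 := by
        apply Multiplicative.toAdd.injective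
        rw [toAdd_pow, toAdd_one, nsmul_eq_mul, ZMod.natCast_self, zero_mul]
      rw [h3, Pi.pow_apply, Pi.one_apply, hexp, pow_mul, hz, one_pow]
    · simp [hu, Pi.mulSingle_eq_of_ne hl]
  rcases isEmpty_or_nonempty ι with h | ⟨⟨i⟩⟩
  · haveI : Subsingleton A := φ.toEquiv.subsingleton
    exact ⟨0, 0, ⟨MulEquiv.ofBijective (1 : A →* (Fin 0 → Multiplicative (ZMod (2 ^ 0))))
      ⟨fun _ _ _ => Subsingleton.elim _ _, fun _ => ⟨1, Subsingleton.elim _ _⟩⟩⟩⟩
  · have heq : ∀ l, a l = a i := fun l => le_antisymm (hall l i) (hall i l)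
    generalize a i = m at heq
    obtain rfl : a = fun _ => m := funext heq
    exact ⟨m + 1, Fintype.card ι,
      ⟨φ.trans (MulEquiv.arrowCongr (Fintype.equivFin ι) (MulEquiv.refl _))⟩⟩

/-- An involution of `G / O(G)` lifts to one of `G`. -/
theorem exists_lift_involution {G : Type*} [Group G] [Finite G] (x : G ⧸ Cfsg.pPrimeCore 2 G)
    (h1 : x ≠ 1) (h2 : x ^ 2 = 1) : ∃ g : G, (g : G ⧸ Cfsg.pPrimeCore 2 G) = x ∧ g ≠ 1 ∧ g ^ 2 = 1 := by
  haveI : Fact (Nat.Prime 2) := ⟨Nat.prime_two⟩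
  obtain ⟨g, rfl⟩ := QuotientGroup.mk_surjective x
  obtain ⟨a, ha, b, hb, hab, ⟨k, hk⟩, hbo⟩ := CfsgLib.Transfer.exists_pPart_mul (p := 2) g
  obtain ⟨i, rfl⟩ := Subgroup.mem_zpowers_iff.mp hb
  set mk := QuotientGroup.mk' (Cfsg.pPrimeCore 2 G)
  have hb1 : mk (g ^ i) = 1 := by
    rw [← orderOf_eq_one_iff]
    refine Nat.eq_one_of_dvd_coprimes hbo (orderOf_map_dvd mk _) ?_
    refine orderOf_dvd_of_pow_eq_one ?_
    rw [map_zpow, ← zpow_natCast, ← zpow_mul, mul_comm, zpow_mul, zpow_natCast,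
      show mk g ^ 2 = 1 from h2, one_zpow]
  have hax : mk a = mk g := by
    conv_rhs => rw [← hab]
    rw [map_mul, hb1, mul_one]
  refine ⟨a, hax, fun h => h1 ?_, ?_⟩
  · exact hax.symm.trans (by rw [h, map_one])
  · have hmem : a ^ 2 ∈ Cfsg.pPrimeCore 2 G := by
      rw [← QuotientGroup.eq_one_iff, QuotientGroup.mk_pow]
      exact (congrArg (· ^ 2) hax).trans h2
    have hd : orderOf (⟨_, hmem⟩ : Cfsg.pPrimeCore 2 G) ∣ Nat.card (Cfsg.pPrimeCore 2 G) :=
      orderOf_dvd_natCard _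
    rw [Subgroup.orderOf_mk] at hd
    exact orderOf_eq_one_iff.mp (Nat.eq_one_of_dvd_coprimes
      ((CfsgLib.Base.pPrimeCore_coprime 2 G).symm.pow_left k) ((orderOf_pow_dvd 2).trans hk) hd)

/-- Let G be a finite solvable group of even order whose Sylow 2-subgroups contain more than one involution, and suppose all involutions of G are conjugate. Then G has 2-length at most 1, and a Sylow 2-subgroup S of G is either homocyclic (a direct product of cyclic groups of one common order) or a non-abelian 2-group with more than one involution admitting a solvable group of automorphisms transitive on its involutions. -/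
theorem result {G : Type*} [Group G] [Finite G] (hG : Group.IsSolvable G) (heven : Even (Nat.card G)) (S : Sylow 2 G) (htwo : ∃ x y : G, x ∈ (S : Subgroup G) ∧ y ∈ (S : Subgroup G) ∧ x ≠ y ∧ x ≠ 1 ∧ x ^ 2 = 1 ∧ y ≠ 1 ∧ y ^ 2 = 1) (hconj : ∀ x y : G, x ≠ 1 → x ^ 2 = 1 → y ≠ 1 → y ^ 2 = 1 → IsConj x y) : Cfsg.PLengthLE 2 1 G ∧ ((∃ m r : ℕ, Nonempty (↥(S : Subgroup G) ≃* (Fin r → Multiplicative (ZMod (2 ^ m))))) ∨ (¬ IsMulCommutative (S : Subgroup G) ∧ ∃ Y : Subgroup (MulAut ↥(S : Subgroup G)), Group.IsSolvable Y ∧ ∀ x y : ↥(S : Subgroup G), x ≠ 1 → x ^ 2 = 1 → y ≠ 1 → y ^ 2 = 1 → ∃ a ∈ Y, a x = y)) := by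
  classical
  haveI : Group.IsSolvable G := hG
  haveI : Fact (Nat.Prime 2) := ⟨Nat.prime_two⟩
  set O := Cfsg.pPrimeCore 2 G with hOdef
  obtain ⟨x, y, hxS, hyS, hxy, hx1, hx2, hy1, hy2⟩ := htwo
  have hSO : (S : Subgroup G) ⊓ O = ⊥ := by
    obtain ⟨k, hk⟩ := IsPGroup.iff_card.mp S.2
    refine CfsgLib.Coprime.inf_eq_bot_of_coprime ?_
    rw [hk]
    exact ((CfsgLib.Base.pPrimeCore_coprime 2 G).symm).pow_left k
  have hmk : ∀ u v : G, u ∈ (S : Subgroup G) → v ∈ (S : Subgroup G) →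
      (u : G ⧸ O) = v → u = v := fun u v hu hv h => by
    have h' : u⁻¹ * v ∈ (S : Subgroup G) ⊓ O :=
      ⟨(S : Subgroup G).mul_mem ((S : Subgroup G).inv_mem hu) hv, QuotientGroup.eq.mp h⟩
    rwa [hSO, Subgroup.mem_bot, inv_mul_eq_one] at h'
  have hodd : ¬ 2 ∣ (Cfsg.pCore 2 (G ⧸ O)).index := by
    refine CfsgLib.FgsB.InvolConj.odd_index_pCore (CfsgLib.Base.pPrimeCore_quotient_pPrimeCore 2 G)
      ⟨(x : G ⧸ O), (y : G ⧸ O), fun h => hxy (hmk x y hxS hyS h),
        fun h => hx1 (hmk x 1 hxS (one_mem _) h), by rw [← QuotientGroup.mk_pow, hx2]; rfl,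
        fun h => hy1 (hmk y 1 hyS (one_mem _) h), by rw [← QuotientGroup.mk_pow, hy2]; rfl⟩ ?_
    intro u v hu1 hu2 hv1 hv2
    obtain ⟨u', rfl, hu1', hu2'⟩ := exists_lift_involution u hu1 hu2
    obtain ⟨v', rfl, hv1', hv2'⟩ := exists_lift_involution v hv1 hv2
    exact (QuotientGroup.mk' O).map_isConj (hconj u' v' hu1' hu2' hv1' hv2')
  have hidx : ¬ 2 ∣ (Cfsg.pPrimePCore 2 G).index := by
    rwa [Cfsg.pPrimePCore, Subgroup.index_comap_of_surjective _ (QuotientGroup.mk'_surjective _)]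
  refine ⟨CfsgLib.FT.pLengthLE_one_iff.mpr
    (Nat.Coprime.symm (Nat.prime_two.coprime_iff_not_dvd.mpr hidx)), ?_⟩
  haveI hUn : (Cfsg.pPrimePCore 2 G).Normal := CfsgLib.PLocal.pPrimePCore_normal 2 G
  set mk := QuotientGroup.mk' O with hmkdef
  have hmap : (S : Subgroup G).map mk = Cfsg.pCore 2 (G ⧸ O) := by
    have hle : Cfsg.pCore 2 (G ⧸ O) ≤ (S : Subgroup G).map mk := by
      rw [← Sylow.coe_mapSurjective (QuotientGroup.mk'_surjective O) S]
      exact CfsgLib.Base.pCore_le_sylow _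
    exact ((CfsgLib.Base.isPGroup_pCore 2 (G ⧸ O)).toSylow hodd).3
      (S.2.map mk) (by simpa using hle)
  have hU : Cfsg.pPrimePCore 2 G = O ⊔ (S : Subgroup G) := by
    rw [Cfsg.pPrimePCore, ← hmap, hmkdef, QuotientGroup.comap_map_mk']
  have hfrat : ∀ g : G, ∃ o ∈ O, ∃ n ∈ Subgroup.normalizer ((S : Subgroup G) : Set G), o * n = g := by
    intro g
    have htop : Subgroup.normalizer ((S : Subgroup G) : Set G) ⊔ Cfsg.pPrimePCore 2 G = ⊤ :=
      Sylow.normalizer_sup_eq_top' S (by rw [hU]; exact le_sup_right)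
    have hle : Subgroup.normalizer ((S : Subgroup G) : Set G) ⊔ Cfsg.pPrimePCore 2 G ≤
        O ⊔ Subgroup.normalizer ((S : Subgroup G) : Set G) := by
      rw [hU]
      exact sup_le le_sup_right (sup_le le_sup_left (Subgroup.le_normalizer.trans le_sup_right))
    exact Subgroup.mem_sup_of_normal_left.mp (hle (htop ▸ Subgroup.mem_top g))
  set Y := (Subgroup.normalizerMonoidHom (S : Subgroup G)).range with hY
  have htrans : ∀ u v : ↥(S : Subgroup G), u ≠ 1 → u ^ 2 = 1 → v ≠ 1 → v ^ 2 = 1 →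
      ∃ a ∈ Y, a u = v := by
    intro u v hu1 hu2 hv1 hv2
    obtain ⟨g, hg⟩ := isConj_iff.mp (hconj u v (fun h => hu1 (Subtype.ext h))
      (by simpa using congrArg Subtype.val hu2) (fun h => hv1 (Subtype.ext h))
      (by simpa using congrArg Subtype.val hv2))
    obtain ⟨o, ho, n, hn, rfl⟩ := hfrat g
    refine ⟨Subgroup.normalizerMonoidHom _ ⟨n, hn⟩, ⟨_, rfl⟩, Subtype.ext ?_⟩
    refine hmk _ _ (SetLike.coe_mem _) v.2 ?_
    rw [← hg]
    show ((n * (u : G) * n⁻¹ : G) : G ⧸ O) = _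
    simp only [QuotientGroup.mk_mul, QuotientGroup.mk_inv, (QuotientGroup.eq_one_iff o).mpr ho,
      one_mul]
  by_cases hc : IsMulCommutative (S : Subgroup G)
  · left
    letI : CommGroup ↥(S : Subgroup G) :=
      { (inferInstance : Group ↥(S : Subgroup G)) with mul_comm := hc.is_comm.comm }
    exact homocyclic_of_transitive S.2 fun u v h1 h2 h3 h4 =>
      let ⟨a, _, ha⟩ := htrans u v h1 h2 h3 h4
      ⟨a, ha⟩
  · exact Or.inr ⟨hc, Y, Group.isSolvable_of_surjective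
      (f := (Subgroup.normalizerMonoidHom (S : Subgroup G)).rangeRestrict)
      (MonoidHom.rangeRestrict_surjective _), htrans⟩

end Cfsg.Agent.S3797
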