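import Cfsg.Statements.S3799
import Cfsg.Agent.Lib.PGroups.Basic

set_option autoImplicit false
open Cfsg

namespace Cfsg.Agent.S3799

open scoped commutatorElement

/-- A Heisenberg matrix. -/
def M {p n : ℕ} (a b : Fin n → ZMod p) (c : ZMod p) :
    Matrix (Option (Option (Fin n))) (Option (Option (Fin n))) (ZMod p) :=
  fun i j => match i, j with
    | none, none => 1
    | none, some none => c
    | none, some (some j) => a j
    | some none, some none => 1
    | some none, none => 0
    | some none, some (some _) => 0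
    | some (some _), none => 0
    | some (some i), some none => b i
    | some (some i), some (some j) => if i = j then 1 else 0

theorem M_mul {p n : ℕ} (a b a' b' : Fin n → ZMod p) (c c' : ZMod p) :
    M a b c * M a' b' c' = M (a + a') (b + b') (c + c' + ∑ i, a i * b' i) := by
  ext i j
  rw [Matrix.mul_apply, Fintype.sum_option, Fintype.sum_option]
  rcases i with _ | _ | i <;> rcases j with _ | _ | j <;>
    simp [M, add_assoc, add_comm, add_left_comm, mul_ite, ite_mul]

theorem M_one {p n : ℕ} : M (0 : Fin n → ZMod p) 0 0 = 1 := by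
  ext i j
  rcases i with _ | _ | i <;> rcases j with _ | _ | j <;> simp [M, Matrix.one_apply]

/-- Reindexing. -/
def idx (n : ℕ) : Fin (n + 2) ≃ Option (Option (Fin n)) :=
  (finSuccEquiv (n + 1)).trans (Equiv.optionCongr (finSuccEquiv n))

/-- A Heisenberg matrix as a unit. -/
def u {p n : ℕ} (a b : Fin n → ZMod p) (c : ZMod p) :
    (Matrix (Fin (n + 2)) (Fin (n + 2)) (ZMod p))ˣ where
  val := (M a b c).submatrix (idx n) (idx n)
  inv := (M (-a) (-b) ((∑ i, a i * b i) - c)).submatrix (idx n) (idx n)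
  val_inv := by
    rw [Matrix.submatrix_mul_equiv, M_mul]
    simp [M_one, Matrix.submatrix_one_equiv]
  inv_val := by
    rw [Matrix.submatrix_mul_equiv, M_mul]
    simp [M_one, Matrix.submatrix_one_equiv]

theorem u_mul {p n : ℕ} (a b a' b' : Fin n → ZMod p) (c c' : ZMod p) :
    u a b c * u a' b' c' = u (a + a') (b + b') (c + c' + ∑ i, a i * b' i) := by
  apply Units.ext
  show (M a b c).submatrix _ _ * (M a' b' c').submatrix _ _ = _
  rw [Matrix.submatrix_mul_equiv, M_mul]
  rfl

theorem u_one {p n : ℕ} : u (0 : Fin n → ZMod p) 0 0 = 1 := by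
  apply Units.ext
  show (M (0 : Fin n → ZMod p) 0 0).submatrix (idx n) (idx n) = 1
  rw [M_one, Matrix.submatrix_one_equiv]

theorem u_inv {p n : ℕ} (a b : Fin n → ZMod p) (c : ZMod p) :
    (u a b c)⁻¹ = u (-a) (-b) ((∑ i, a i * b i) - c) := by
  apply Units.ext
  rfl

theorem u_inj {p n : ℕ} {a b a' b' : Fin n → ZMod p} {c c' : ZMod p}
    (h : u a b c = u a' b' c') : a = a' ∧ b = b' ∧ c = c' := by
  have hM : M a b c = M a' b' c' := by
    ext i j
    have h' : (M a b c).submatrix (idx n) (idx n) = (M a' b' c').submatrix (idx n) (idx n) :=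
      congrArg Units.val h
    simpa using congrFun (congrFun h' ((idx n).symm i)) ((idx n).symm j)
  exact ⟨funext fun j => congrFun (congrFun hM none) (some (some j)),
    funext fun i => congrFun (congrFun hM (some (some i))) (some none),
    congrFun (congrFun hM none) (some none)⟩

/-- The Heisenberg group. -/
def E (p n : ℕ) : Subgroup (Matrix.GeneralLinearGroup (Fin (n + 2)) (ZMod p)) where
  carrier := {g | ∃ a b c, g = u a b c}
  mul_mem' := by
    rintro _ _ ⟨a, b, c, rfl⟩ ⟨a', b', c', rfl⟩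
    exact ⟨_, _, _, u_mul ..⟩
  one_mem' := ⟨0, 0, 0, u_one.symm⟩
  inv_mem' := by
    rintro _ ⟨a, b, c, rfl⟩
    exact ⟨_, _, _, u_inv ..⟩

theorem u_pow {p n : ℕ} (a b : Fin n → ZMod p) (c : ZMod p) (k : ℕ) :
    u a b c ^ k = u (k • a) (k • b) (k • c + k.choose 2 • ∑ i, a i * b i) := by
  induction k with
  | zero => simp [u_one]
  | succ k ih =>
    rw [pow_succ, ih, u_mul, Nat.choose_succ_succ' k 1, Nat.choose_one_right]
    congr 1
    · rw [succ_nsmul]
    · rw [succ_nsmul]
    · simp only [Pi.smul_apply, succ_nsmul, add_nsmul, smul_mul_assoc, ← Finset.smul_sum]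
      abel

/-- For every odd prime p and every n ≥ 1 there is an extraspecial p-group of order p^(1+2n) and exponent p; concretely, the general linear group of degree n + 2 over the field with p elements contains such a subgroup. -/
theorem result (p : ℕ) [Fact p.Prime] (hp : p ≠ 2) (n : ℕ) (hn : 1 ≤ n) : ∃ E : Subgroup (Matrix.GeneralLinearGroup (Fin (n + 2)) (ZMod p)), Cfsg.IsExtraspecial p ↥E ∧ Nat.card E = p ^ (1 + 2 * n) ∧ ∀ x ∈ E, x ^ p = 1 := by
  classical
  haveI : NeZero p := ⟨(Fact.out : p.Prime).ne_zero⟩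
  have hexp : ∀ x ∈ E p n, x ^ p = 1 := by
    rintro _ ⟨a, b, c, rfl⟩
    obtain ⟨k, hk⟩ : p ∣ p.choose 2 := (Fact.out : p.Prime).dvd_choose_self two_ne_zero
      (lt_of_le_of_ne (Fact.out : p.Prime).two_le (Ne.symm hp))
    rw [u_pow, ← u_one]
    congr 1 <;> simp [hk, nsmul_eq_mul, mul_assoc, funext_iff]
  let e : (Fin n → ZMod p) × (Fin n → ZMod p) × ZMod p → E p n := fun t =>
    ⟨u t.1 t.2.1 t.2.2, t.1, t.2.1, t.2.2, rfl⟩
  have he : Function.Bijective e := by
    refine ⟨fun t t' h => ?_, ?_⟩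
    · obtain ⟨h1, h2, h3⟩ := u_inj (congrArg Subtype.val h)
      exact Prod.ext h1 (Prod.ext h2 h3)
    · rintro ⟨_, a, b, c, rfl⟩
      exact ⟨(a, b, c), rfl⟩
  have hcard : Nat.card (E p n) = p ^ (1 + 2 * n) := by
    rw [← Nat.card_congr (Equiv.ofBijective e he)]
    simp only [Nat.card_prod, Nat.card_fun, Nat.card_zmod, Nat.card_fin]
    ring
  have hP : IsPGroup p (E p n) := IsPGroup.of_card hcard
  have hcentre : ∀ x : E p n, x ∈ Subgroup.center (E p n) ↔
      ∃ c, (x : Matrix.GeneralLinearGroup (Fin (n + 2)) (ZMod p)) = u 0 0 c := by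
    rintro ⟨_, a, b, c, rfl⟩
    rw [Subgroup.mem_center_iff]
    constructor
    · intro h
      have key : ∀ a' b' : Fin n → ZMod p, ∑ i, a' i * b i = ∑ i, a i * b' i := by
        intro a' b'
        have h1 := congrArg Subtype.val (h ⟨u a' b' 0, a', b', 0, rfl⟩)
        rw [Subgroup.coe_mul, Subgroup.coe_mul, u_mul, u_mul] at h1
        have h2 := (u_inj h1).2.2
        rw [zero_add, add_zero] at h2
        exact add_left_cancel h2
      refine ⟨c, ?_⟩
      show u a b c = u 0 0 c
      congr 1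
      · funext i
        simpa [Pi.single_apply] using (key 0 (Pi.single i 1)).symm
      · funext i
        simpa [Pi.single_apply] using key (Pi.single i 1) 0
    · rintro ⟨c', hc⟩ ⟨_, a', b', d, rfl⟩
      apply Subtype.ext
      show u a' b' d * u a b c = u a b c * u a' b' d
      rw [show u a b c = u 0 0 c' from hc, u_mul, u_mul]
      congr 1 <;> simp [add_comm]
  have hcc : Nat.card (Subgroup.center (E p n)) = p := by
    let f : ZMod p → Subgroup.center (E p n) := fun c =>
      ⟨⟨u 0 0 c, 0, 0, c, rfl⟩, (hcentre _).mpr ⟨c, rfl⟩⟩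
    have hf : Function.Bijective f := by
      refine ⟨fun c c' h => (u_inj (congrArg Subtype.val (congrArg Subtype.val h : (⟨u 0 0 c, _⟩ : E p n) = ⟨u 0 0 c', _⟩))).2.2, fun x => ?_⟩
      obtain ⟨c, hc⟩ := (hcentre x).mp x.2
      exact ⟨c, Subtype.ext (Subtype.ext hc.symm)⟩
    rw [← Nat.card_congr (Equiv.ofBijective f hf), Nat.card_zmod]
  obtain ⟨i₀⟩ : Nonempty (Fin n) := ⟨⟨0, hn⟩⟩
  have hcom : Subgroup.center (E p n) ≤ commutator (E p n) := by
    intro x hx
    obtain ⟨c, hc⟩ := (hcentre x).mp hx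
    have : x = ⁅(⟨u (Pi.single i₀ 1) 0 0, _, _, _, rfl⟩ : E p n),
        (⟨u 0 (Pi.single i₀ c) 0, _, _, _, rfl⟩ : E p n)⁆ := by
      apply Subtype.ext
      rw [hc, commutatorElement_def]
      simp only [Subgroup.coe_mul, Subgroup.coe_inv, u_inv, u_mul]
      congr 1 <;> simp [Pi.single_apply]
    rw [this, commutator_def]
    exact Subgroup.commutator_mem_commutator (Subgroup.mem_top _) (Subgroup.mem_top _)
  have hcom' : commutator (E p n) ≤ Subgroup.center (E p n) := by
    rw [commutator_def, Subgroup.commutator_le]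
    rintro ⟨_, a, b, c, rfl⟩ - ⟨_, a', b', c', rfl⟩ -
    refine (hcentre _).mpr ?_
    rw [commutatorElement_def]
    simp only [Subgroup.coe_mul, Subgroup.coe_inv, u_inv, u_mul]
    rw [show a + a' + -a + -a' = 0 by abel, show b + b' + -b + -b' = 0 by abel]
    exact ⟨_, rfl⟩
  have hfrat : frattini (E p n) ≤ Subgroup.center (E p n) := by
    intro x hx
    by_contra hxc
    obtain ⟨g, a, b, c, rfl⟩ := x
    -- a coordinate homomorphism detecting `x`
    have hhom : ∀ φ : (Fin n → ZMod p) × (Fin n → ZMod p) →+ ZMod p, φ (a, b) = 0 := by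
      intro φ
      have h : ∀ y : E p n, ∃ v, ∃ d, (y : Matrix.GeneralLinearGroup (Fin (n + 2)) (ZMod p))
          = u (v : (Fin n → ZMod p) × (Fin n → ZMod p)).1 v.2 d := fun y => by
        obtain ⟨a, b, c, h⟩ := y.2
        exact ⟨(a, b), c, h⟩
      choose v d hv using h
      have huniq : ∀ (y : E p n) a b c, (y : Matrix.GeneralLinearGroup (Fin (n + 2)) (ZMod p)) = u a b c →
          v y = (a, b) := fun y a b c h => by
        obtain ⟨h1, h2, -⟩ := u_inj ((hv y).symm.trans h)
        exact Prod.ext h1 h2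
      let ψ : E p n →* Multiplicative (ZMod p) := MonoidHom.mk'
        (fun y => Multiplicative.ofAdd (φ (v y))) fun y z => by
          rw [huniq (y * z) _ _ _ (by rw [Subgroup.coe_mul, hv y, hv z, u_mul]),
            ← ofAdd_add, ← map_add]
          rfl
      by_contra hne
      have hψ : ψ ⟨u a b c, a, b, c, rfl⟩ ≠ 1 := by
        show Multiplicative.ofAdd (φ _) ≠ 1
        rw [huniq ⟨u a b c, a, b, c, rfl⟩ a b c rfl, Ne, ofAdd_eq_one]
        exact hne
      have htop : ψ.range = ⊤ := by
        refine Subgroup.eq_top_of_card_eq _ ?_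
        have h1 := Subgroup.card_subgroup_dvd_card ψ.range
        rw [Nat.card_congr Multiplicative.toAdd, Nat.card_zmod] at h1 ⊢
        rcases (Nat.dvd_prime Fact.out).mp h1 with h | h
        · exact absurd (Subgroup.eq_bot_iff_forall _ |>.mp (Subgroup.card_eq_one.mp h) _ ⟨_, rfl⟩) hψ
        · exact h
      have hmax : IsCoatom ψ.ker := by
        refine CfsgLib.PGroups.isCoatom_of_index_eq_prime (p := p) ?_
        rw [Subgroup.index_ker, htop, Subgroup.card_top, Nat.card_congr Multiplicative.toAdd,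
          Nat.card_zmod]
      exact hψ (MonoidHom.mem_ker.mp (frattini_le_coatom hmax hx))
    refine hxc ((hcentre _).mpr ⟨c, ?_⟩)
    show u a b c = u 0 0 c
    congr 1
    · funext i
      exact hhom ((Pi.evalAddMonoidHom (fun _ : Fin n => ZMod p) i).comp (AddMonoidHom.fst _ _))
    · funext i
      exact hhom ((Pi.evalAddMonoidHom (fun _ : Fin n => ZMod p) i).comp (AddMonoidHom.snd _ _))
  refine ⟨E p n, ⟨⟨hP, le_antisymm hfrat (hcom.trans (CfsgLib.PGroups.commutator_le_frattini hP)),
    le_antisymm hcom' hcom⟩, hcc⟩, hcard, hexp⟩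

end Cfsg.Agent.S3799
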