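import Cfsg.Statements.S3801
import Cfsg.Agent.Lib.PLocal.Gross.Main
import Cfsg.Agent.Lib.PLocal.HallHigmanFrattini
import Cfsg.Agent.Lib.PLocal.PLength

set_option autoImplicit false
set_option linter.style.haveILetI false
set_option linter.unusedSectionVars false

namespace Cfsg.Agent.S3801

open Cfsg CfsgLib.Base

universe u

theorem pPrimeCore_eq_upperOne (G : Type u) [Group G] [Finite G] :
    (upperPSeries 2 G 1).1 = pPrimeCore 2 G := by
  rw [CfsgLib.PLocal.upperPSeries_odd 2 G 0]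
  exact comap_mk'_pPrimeCore (upperPSeries 2 G 0).1
    (by rw [CfsgLib.PLocal.upperPSeries_zero, Subgroup.card_bot]; exact Nat.coprime_one_left 2)

theorem top_mem_upperFour {G : Type u} [Group G] [Finite G] [Group.IsSolvable G]
    {e : ℕ} (he : 1 ≤ e)
    (hexp : ∀ (P : Sylow 2 G), ∀ x ∈ (P : Subgroup G), x ^ 2 ^ e = 1) (S : Sylow 2 G) :
    ∀ y ∈ (S : Subgroup G), QuotientGroup.mk' (upperPSeries 2 G 2).1 (y ^ 2 ^ (e - 1)) ∈
      (upperPSeries 2 (G ⧸ (upperPSeries 2 G 2).1) 2).1 := by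
  classical
  haveI : Fact (Nat.Prime 2) := ⟨Nat.prime_two⟩
  have hG : IsPSolvable 2 G := CfsgLib.PLocal.isPSolvable_of_isSolvable
  set N := (upperPSeries 2 G 1).1 with hN
  set U := (upperPSeries 2 G 2).1 with hU
  have hN' := pPrimeCore_eq_upperOne G
  have hπN := QuotientGroup.mk'_surjective N
  have hUc : U = (pCore 2 (G ⧸ N)).comap (QuotientGroup.mk' N) :=
    CfsgLib.PLocal.upperPSeries_even 2 G 0
  have hXs : IsPSolvable 2 (G ⧸ N) := CfsgLib.PLocal.isPSolvable_quotient hG N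
  have hO : pPrimeCore 2 (G ⧸ N) = ⊥ := by
    have key : ∀ (M : Subgroup G) [M.Normal], M = pPrimeCore 2 G → pPrimeCore 2 (G ⧸ M) = ⊥ := by
      intro M _ hM
      subst hM
      exact pPrimeCore_quotient_pPrimeCore 2 G
    exact key N hN'
  obtain ⟨D⟩ := CfsgLib.PLocal.FrattiniRep.exists_data hXs hO
  obtain ⟨eU, -⟩ := CfsgLib.PLocal.exists_equiv_quotient_comap hπN (pCore 2 (G ⧸ N))
  let eU' : G ⧸ U ≃* (G ⧸ N) ⧸ pCore 2 (G ⧸ N) :=
    (QuotientGroup.quotientMulEquivOfEq hUc).trans eU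
  have hOp : pCore 2 (G ⧸ U) = ⊥ := by
    rw [← map_pCore_mulEquiv eU'.symm, pCore_quotient_pCore, Subgroup.map_bot]
  set ψ := D.ρ.comp (QuotientGroup.mk' N) with hψ
  have hker : U = ψ.ker := by rw [hUc, hψ, ← MonoidHom.comap_ker, D.ker]
  let ι := (QuotientGroup.kerLift ψ).comp (QuotientGroup.quotientMulEquivOfEq hker).toMonoidHom
  have hι : Function.Injective ι :=
    (QuotientGroup.kerLift_injective ψ).comp (QuotientGroup.quotientMulEquivOfEq hker).injective
  have hιmk : ∀ g : G, ι (QuotientGroup.mk' U g) = D.ρ (QuotientGroup.mk' N g) := fun g => rfl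
  have hexpX : ∀ z ∈ ((S.mapSurjective hπN : Sylow 2 (G ⧸ N)) : Subgroup (G ⧸ N)),
      z ^ 2 ^ e = 1 := by
    rintro _ ⟨w, hw, rfl⟩
    rw [← map_pow, hexp S w hw, map_one]
  intro y hy
  haveI : Group.IsSolvable (G ⧸ U) := inferInstance
  have h := CfsgLib.PLocal.Gross.top_mem hOp ι hι (y := QuotientGroup.mk' U y) he
    (by rw [← map_pow, hexp S y hy, map_one]) ?_
  · rw [show (upperPSeries 2 (G ⧸ U) 2).1 = _ from CfsgLib.PLocal.upperPSeries_even 2 (G ⧸ U) 0,
      Subgroup.mem_comap, map_pow]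
    have key : ∀ (M : Subgroup (G ⧸ U)) [M.Normal], M = pPrimeCore 2 (G ⧸ U) →
        QuotientGroup.mk' M ((QuotientGroup.mk' U y) ^ 2 ^ (e - 1)) ∈ pCore 2 ((G ⧸ U) ⧸ M) := by
      intro M _ hM
      subst hM
      exact h
    rw [← map_pow]
    exact key _ (pPrimeCore_eq_upperOne (G ⧸ U))
  · rw [hιmk]
    set x := QuotientGroup.mk' N y with hx
    refine LinearMap.ext fun v => ?_
    obtain ⟨r, rfl⟩ := D.proj_surjective v
    obtain ⟨c, hc, hpc⟩ := D.exists_pow_eq x r (2 ^ e)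
    have hxS : x ∈ ((S.mapSurjective hπN : Sylow 2 (G ⧸ N)) : Subgroup (G ⧸ N)) := ⟨y, hy, rfl⟩
    rw [hexpX _ (mul_mem (pCore_le_sylow _ r.2) hxS), hexpX x hxS, mul_one] at hc
    rw [show c = 1 from Subtype.ext hc.symm, D.proj_one] at hpc
    exact hpc.symm

theorem pLengthLE_two_mul_add_one (e : ℕ) : ∀ {G : Type u} [Group G] [Finite G]
    [Group.IsSolvable G],
    (∀ (P : Sylow 2 G), ∀ x ∈ (P : Subgroup G), x ^ 2 ^ (e + 1) = 1) →
      PLengthLE 2 (2 * e + 1) G := by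
  haveI : Fact (Nat.Prime 2) := ⟨Nat.prime_two⟩
  induction e with
  | zero =>
    intro G _ _ _ hexp
    obtain ⟨S⟩ : Nonempty (Sylow 2 G) := inferInstance
    set U := (upperPSeries 2 G 2).1 with hU
    have hS : (S : Subgroup G) ≤ U := by
      intro y hy
      refine CfsgLib.PLocal.center_sylow_le CfsgLib.PLocal.isPSolvable_of_isSolvable S
        ⟨⟨y, hy⟩, Subgroup.mem_center_iff.2 fun g => Subtype.ext ?_, rfl⟩
      have hsq : ∀ a ∈ (S : Subgroup G), a⁻¹ = a := fun a ha => inv_eq_of_mul_eq_one_right (by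
        have := hexp S a ha
        rwa [zero_add, pow_one, pow_two] at this)
      show (g : G) * y = y * g
      calc (g : G) * y = ((g : G) * y)⁻¹ := (hsq _ (mul_mem g.2 hy)).symm
        _ = y * g := by rw [mul_inv_rev, hsq y hy, hsq g g.2]
    have hcop : (Nat.card (G ⧸ U)).Coprime 2 :=
      (Nat.prime_two.coprime_iff_not_dvd.2 fun h =>
        S.not_dvd_index (h.trans (Subgroup.index_dvd_of_le hS))).symm
    show (upperPSeries 2 G (2 * (2 * 0 + 1) + 1)).1 = ⊤
    rw [show 2 * (2 * 0 + 1) + 1 = 1 + 2 from rfl, ← CfsgLib.PLocal.comap_upperPSeries,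
      CfsgLib.PLocal.upperPSeries_one_eq_top hcop, Subgroup.comap_top]
  | succ e ih =>
    intro G _ _ _ hexp
    set U := (upperPSeries 2 G 2).1 with hU
    set U' := (upperPSeries 2 (G ⧸ U) 2).1 with hU'
    have hq := ih (G := (G ⧸ U) ⧸ U')
      (fun T x hx => by
        obtain ⟨T', rfl⟩ := Sylow.mapSurjective_surjective (QuotientGroup.mk'_surjective U') 2 T
        obtain ⟨S, rfl⟩ := Sylow.mapSurjective_surjective (QuotientGroup.mk'_surjective U) 2 T'
        obtain ⟨_, ⟨y, hy, rfl⟩, rfl⟩ := hx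
        rw [← map_pow, ← map_pow]
        refine (QuotientGroup.eq_one_iff _).2 ?_
        exact top_mem_upperFour (Nat.le_add_left 1 (e + 1)) hexp S y hy)
    show (upperPSeries 2 G (2 * (2 * (e + 1) + 1) + 1)).1 = ⊤
    have h1 : (upperPSeries 2 (G ⧸ U) (2 * (2 * e + 1) + 1 + 2)).1 = ⊤ := by
      rw [← CfsgLib.PLocal.comap_upperPSeries, hq, Subgroup.comap_top]
    rw [show 2 * (2 * (e + 1) + 1) + 1 = (2 * (2 * e + 1) + 1 + 2) + 2 by ring,
      ← CfsgLib.PLocal.comap_upperPSeries, h1, Subgroup.comap_top]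

end Cfsg.Agent.S3801
-- import your own Cfsg.Agent.* helpers here

set_option autoImplicit false
open Cfsg

namespace Cfsg.Agent.S3801

/-- Gross's bound on 2-length: if G is a finite solvable group whose Sylow 2-subgroups have exponent dividing 2^e with e ≥ 1, then G has 2-length at most 2e − 1. -/
theorem result {G : Type*} [Group G] [Finite G] (hG : Group.IsSolvable G) (e : ℕ) (he : 1 ≤ e) (hexp : ∀ (P : Sylow 2 G), ∀ x ∈ (P : Subgroup G), x ^ 2 ^ e = 1) : Cfsg.PLengthLE 2 (2 * e - 1) G := by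
  haveI := hG
  obtain ⟨k, rfl⟩ : ∃ k, e = k + 1 := ⟨e - 1, by omega⟩
  rw [show 2 * (k + 1) - 1 = 2 * k + 1 by omega]
  exact pLengthLE_two_mul_add_one k hexp

end Cfsg.Agent.S3801
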