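import Cfsg.Statements.S3802
import Cfsg.Agent.Lib.PLocal.SubnormalJoin

set_option autoImplicit false
open Cfsg

namespace Cfsg.Agent.S3802

/-- Let G be a finite group, M a maximal subgroup of G and N a subnormal subgroup of G contained in M. Then N is contained in every conjugate of M, that is, N lies in the core of M in G. -/
theorem result {G : Type*} [Group G] [Finite G] (M N : Subgroup G) (hM : IsCoatom M) (hN : N.IsSubnormal) (hNM : N ≤ M) :
    N ≤ Subgroup.normalCore M := by
  classical
  obtain ⟨K, hK, hmax⟩ := (Set.toFinite {L : Subgroup G | L.IsSubnormal ∧ L ≤ M}).exists_maximal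
    ⟨N, hN, hNM⟩
  have hNK : N ≤ K := le_sup_right.trans
    (hmax (⟨CfsgLib.PLocal.isSubnormal_join hK.1 hN, sup_le hK.2 hNM⟩) le_sup_left)
  refine hNK.trans ?_
  suffices hKn : K.Normal from Subgroup.normal_le_normalCore.2 hK.2
  have hMK : M ≤ Subgroup.normalizer (K : Set G) := by
    intro m hm
    rw [Subgroup.mem_normalizer_iff_map_conj_eq]
    refine Subgroup.eq_of_le_of_card_ge ?_ (CfsgLib.Base.card_map_conj m K).ge
    have h1 : (K.map (MulAut.conj m).toMonoidHom).IsSubnormal :=
      hK.1.map (MulAut.conj m).surjective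
    have h2 : K.map (MulAut.conj m).toMonoidHom ≤ M := by
      rintro _ ⟨k, hk, rfl⟩
      exact mul_mem (mul_mem hm (hK.2 hk)) (inv_mem hm)
    exact le_sup_right.trans
      (hmax (⟨CfsgLib.PLocal.isSubnormal_join hK.1 h1, sup_le hK.2 h2⟩) le_sup_left)
  rcases hM.le_iff.1 hMK with h | h
  · exact Subgroup.normalizer_eq_top_iff.1 h
  · exfalso
    have key : ∀ A : Subgroup G, A.IsSubnormal →
        A = ⊤ ∨ ∃ B, A < B ∧ B.IsSubnormal ∧ B ≤ Subgroup.normalizer (A : Set G) := by
      intro A hA
      induction hA with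
      | top => exact Or.inl rfl
      | step A B hle hB hn ih =>
        rcases hle.eq_or_lt with e | e
        · exact e ▸ ih
        · exact Or.inr ⟨B, e, hB, (Subgroup.normal_subgroupOf_iff_le_normalizer hle).1 hn⟩
    rcases key K hK.1 with h' | ⟨B, hlt, hB, hBn⟩
    · exact hM.1 (top_le_iff.1 (h' ▸ hK.2))
    · exact hlt.not_ge (hmax ⟨hB, hBn.trans h.le⟩ hlt.le)

end Cfsg.Agent.S3802
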