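import Cfsg.Statements.S3803
import Cfsg.Agent.Lib.CoprimeSmall.SmallOrder
import Cfsg.Agent.Lib.Coprime.Action2
import Cfsg.Agent.Lib.PGroups.Basic

set_option autoImplicit false
open Cfsg

namespace Cfsg.Agent.S3803

/-- Let P be a 2-subgroup and A a subgroup of odd order of a finite group, with A normalizing P. Let D ≤ P with 1 < |D| < |P|. If every subgroup of P of order |D|, and also every subgroup of P of order 4 in case |D| = 2, is normalized by A, then A centralizes P. -/
theorem result {X : Type*} [Group X] [Finite X] (P A D : Subgroup X) (hP : IsPGroup 2 P) (hA : Odd (Nat.card A))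
    (hAP : A ≤ Subgroup.normalizer (P : Set X)) (hDP : D ≤ P) (hD1 : 1 < Nat.card D) (hD2 : Nat.card D < Nat.card P)
    (hinv : ∀ E : Subgroup X, E ≤ P → (Nat.card E = Nat.card D ∨ (Nat.card D = 2 ∧ Nat.card E = 4)) → A ≤ Subgroup.normalizer (E : Set X)) :
    A ≤ Subgroup.centralizer (P : Set X) := by
  haveI : Fact (Nat.Prime 2) := ⟨Nat.prime_two⟩
  have hcopA : ∀ K : Subgroup X, IsPGroup 2 K → (Nat.card A).Coprime (Nat.card K) := by
    intro K hK
    obtain ⟨n, hn⟩ := IsPGroup.iff_card.1 hK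
    rw [hn]
    exact (Nat.coprime_two_right.2 hA).pow_right n
  have hcyc : ∀ K : Subgroup X, K ≤ P → IsCyclic K → A ≤ Subgroup.normalizer (K : Set X) →
      A ≤ Subgroup.centralizer (K : Set X) := by
    intro K hK hKc hn
    obtain ⟨n, hn2⟩ := IsPGroup.iff_card.1 (hP.to_le hK)
    let f : A →* MulAut K := K.normalizerMonoidHom.comp (Subgroup.inclusion hn)
    have hcard : Nat.card (MulAut K) ∣ 2 ^ n := by
      rw [IsCyclic.card_mulAut, hn2]
      rcases Nat.eq_zero_or_pos n with rfl | hn0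
      · simp
      · rw [Nat.totient_prime_pow Nat.prime_two hn0]
        simpa using pow_dvd_pow 2 (Nat.sub_le n 1)
    intro a ha
    have h1 : f ⟨a, ha⟩ = 1 := by
      rw [← orderOf_eq_one_iff]
      exact Nat.eq_one_of_dvd_coprimes ((Nat.coprime_two_right.2 hA).pow_right n)
        ((orderOf_map_dvd f _).trans (orderOf_dvd_natCard _)) ((orderOf_dvd_natCard _).trans hcard)
    refine Subgroup.mem_centralizer_iff.2 fun z hz => ?_
    have h2 : a * z * a⁻¹ = z := congrArg Subtype.val (DFunLike.congr_fun h1 (⟨z, hz⟩ : K))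
    exact (mul_inv_eq_iff_eq_mul.1 h2).symm
  obtain ⟨k, hk⟩ := IsPGroup.iff_card.1 (hP.to_le hDP)
  obtain ⟨m, hm⟩ := IsPGroup.iff_card.1 hP
  have hk1 : 1 ≤ k := Nat.pos_of_ne_zero fun h => by rw [hk, h, pow_zero] at hD1; exact lt_irrefl 1 hD1
  have hkm : k < m := by rw [hk, hm] at hD2; exact (Nat.pow_lt_pow_iff_right one_lt_two).1 hD2
  -- every subgroup of order `|D|` is centralised
  have hE : ∀ E : Subgroup X, E ≤ P → Nat.card E = 2 ^ k → A ≤ Subgroup.centralizer (E : Set X) := by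
    intro E hEP hEc
    have hEn : A ≤ Subgroup.normalizer (E : Set X) := hinv E hEP (Or.inl (hEc.trans hk.symm))
    obtain ⟨R', hR'c, hER'⟩ := Sylow.exists_subgroup_card_pow_succ (G := P) (p := 2) (n := k)
      (by rw [hm]; exact pow_dvd_pow 2 hkm) (H := E.subgroupOf P)
      (by rw [Nat.card_congr (Subgroup.subgroupOfEquivOfLe hEP).toEquiv, hEc])
    set R := R'.map P.subtype with hR
    have hRP : R ≤ P := Subgroup.map_subtype_le _
    have hRc : Nat.card R = 2 ^ (k + 1) := by
      rw [hR, Subgroup.card_map_of_injective P.subtype_injective, hR'c]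
    have hER : E ≤ R := fun e he => ⟨⟨e, hEP he⟩, hER' he, rfl⟩
    have hRp : IsPGroup 2 R := hP.to_le hRP
    haveI : Nontrivial R := Finite.one_lt_card_iff_nontrivial.1 (by rw [hRc]; exact Nat.one_lt_two_pow (by omega))
    have hMc : ∀ M : Subgroup R, IsCoatom M → Nat.card (M.map R.subtype) = 2 ^ k := fun M hM => by
      have h1 := M.card_mul_index
      rw [CfsgLib.PGroups.index_eq_of_isCoatom hRp hM, hRc, pow_succ] at h1
      rw [Subgroup.card_map_of_injective R.subtype_injective]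
      exact Nat.eq_of_mul_eq_mul_right (by norm_num) h1
    have hMn : ∀ M : Subgroup R, IsCoatom M → A ≤ Subgroup.normalizer ((M.map R.subtype : Subgroup X) : Set X) :=
      fun M hM => hinv _ ((Subgroup.map_subtype_le _).trans hRP) (Or.inl ((hMc M hM).trans hk.symm))
    have hEM : IsCoatom (E.subgroupOf R) := CfsgLib.PGroups.isCoatom_of_index_eq_prime (p := 2) (by
      have h1 := (E.subgroupOf R).card_mul_index
      rw [Nat.card_congr (Subgroup.subgroupOfEquivOfLe hER).toEquiv, hEc, hRc, pow_succ] at h1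
      exact Nat.eq_of_mul_eq_mul_left (by positivity) h1)
    by_cases huniq : ∀ M : Subgroup R, IsCoatom M → M = E.subgroupOf R
    · -- `R`, hence `E`, is cyclic
      refine hcyc E hEP ?_ hEn
      obtain ⟨r, hr⟩ : ∃ r : R, r ∉ E.subgroupOf R := by
        by_contra hall
        push Not at hall
        exact hEM.1 (eq_top_iff.2 fun r _ => hall r)
      haveI : IsCyclic R := by
        refine ⟨r, fun s => ?_⟩
        rcases eq_top_or_exists_le_coatom (Subgroup.zpowers r) with h | ⟨M, hM, hle⟩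
        · exact h.ge (Subgroup.mem_top s)
        · exact absurd (huniq M hM ▸ hle (Subgroup.mem_zpowers r)) hr
      exact isCyclic_of_injective (Subgroup.inclusion hER) (Subgroup.inclusion_injective hER)
    push Not at huniq
    obtain ⟨M, hM, hne⟩ := huniq
    have hsup : R = M.map R.subtype ⊔ E := by
      refine le_antisymm ?_ (sup_le (Subgroup.map_subtype_le _) hER)
      have htop : M ⊔ E.subgroupOf R = ⊤ := hM.2 _ (lt_of_le_of_ne le_sup_left fun h => hne
        (le_antisymm (by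
          by_contra hnle
          exact hM.1 (top_le_iff.1 (by
            rw [← hEM.2 (M ⊔ E.subgroupOf R) (lt_of_le_of_ne le_sup_right fun h' => hnle (h'.symm ▸ le_sup_left)), ← h]))) (h.symm ▸ le_sup_right)))
      calc R = (⊤ : Subgroup R).map R.subtype := by rw [← MonoidHom.range_eq_map, Subgroup.range_subtype]
        _ ≤ M.map R.subtype ⊔ E := by
          rw [← htop, Subgroup.map_sup]
          exact sup_le_sup le_rfl (by rintro _ ⟨x, hx, rfl⟩; exact hx)
    have hRn : A ≤ Subgroup.normalizer (R : Set X) := fun a ha => by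
      rw [← CfsgLib.Base.map_conj_eq_self_iff, hsup, Subgroup.map_sup,
        CfsgLib.Base.map_conj_eq_self_iff.2 (hMn M hM ha), CfsgLib.Base.map_conj_eq_self_iff.2 (hEn ha)]
    refine (CfsgLib.Coprime.le_centralizer_of_trivial_mod_frattini hRn
      ((hcopA R hRp).coprime_dvd_right (Subgroup.card_subgroup_dvd_card _)) fun a ha z hz => ?_).trans
      (Subgroup.centralizer_le hER)
    have hmem : a * z * a⁻¹ * z⁻¹ ∈ R := mul_mem ((Subgroup.mem_normalizer_iff.1 (hRn ha) z).1 hz) (inv_mem hz)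
    refine ⟨⟨_, hmem⟩, CfsgLib.PGroups.mem_frattini_iff.2 fun N hN => ?_, rfl⟩
    have hconj : (⟨a * z * a⁻¹, (Subgroup.mem_normalizer_iff.1 (hRn ha) z).1 hz⟩ : R) ∈ N ↔ (⟨z, hz⟩ : R) ∈ N := by
      have h1 := Subgroup.mem_normalizer_iff.1 (hMn N hN ha) z
      constructor
      · intro h
        obtain ⟨w, hw, hwe⟩ := h1.2 ⟨_, h, rfl⟩
        rwa [show (⟨z, hz⟩ : R) = w from Subtype.ext hwe.symm]
      · intro h
        obtain ⟨w, hw, hwe⟩ := h1.1 ⟨_, h, rfl⟩
        rwa [show (⟨a * z * a⁻¹, (Subgroup.mem_normalizer_iff.1 (hRn ha) z).1 hz⟩ : R) = w from Subtype.ext hwe.symm]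
    have h2 := (Subgroup.mul_mem_iff_of_index_two (CfsgLib.PGroups.index_eq_of_isCoatom hRp hN)
      (a := (⟨a * z * a⁻¹, (Subgroup.mem_normalizer_iff.1 (hRn ha) z).1 hz⟩ : R))
      (b := (⟨z, hz⟩ : R)⁻¹)).2 (by rw [N.inv_mem_iff]; exact hconj)
    exact h2
  intro x hx
  refine Subgroup.mem_centralizer_iff.2 fun b hb => ?_
  refine ((CfsgLib.CoprimeSmall.commute_of_small_order (p := 2) (x := x) (fun hd => ?_) P hP (hAP hx)
    (fun a ha hs => ?_)) b hb).eq.symm
  · have h1 : orderOf x ∣ Nat.card A := by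
      rw [show orderOf x = orderOf (⟨x, hx⟩ : A) from Subgroup.orderOf_coe (⟨x, hx⟩ : A)]
      exact orderOf_dvd_natCard (⟨x, hx⟩ : A)
    exact Nat.not_even_iff_odd.2 hA (even_iff_two_dvd.2 (hd.trans h1))
  have ha4 : a ^ 4 = 1 := by
    rcases hs with h | ⟨-, h⟩
    · rw [show (4 : ℕ) = 2 * 2 from rfl, pow_mul, h, one_pow]
    · exact h
  obtain ⟨j, hj⟩ := IsPGroup.iff_card.1 (hP.to_le (Subgroup.zpowers_le.2 ha))
  have hj2 : j ≤ 2 := by
    have h1 := orderOf_dvd_of_pow_eq_one ha4
    rw [← Nat.card_zpowers, hj, show (4 : ℕ) = 2 ^ 2 from rfl, Nat.pow_dvd_pow_iff_le_right one_lt_two] at h1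
    exact h1
  rcases Nat.lt_or_ge k j with hlt | hle
  · have hk' : k = 1 := by omega
    have hj' : j = 2 := by omega
    have hn := hinv (Subgroup.zpowers a) (Subgroup.zpowers_le.2 ha) (Or.inr ⟨by rw [hk, hk', pow_one], by rw [hj, hj']; rfl⟩)
    exact (Subgroup.mem_centralizer_iff.1 (hcyc _ (Subgroup.zpowers_le.2 ha) inferInstance hn hx) a (Subgroup.mem_zpowers a)).symm
  · obtain ⟨E', hE'c, hE'⟩ := Sylow.exists_subgroup_card_pow_prime_le (G := P) 2 (m := k)
      (by rw [hm]; exact pow_dvd_pow 2 hkm.le) ((Subgroup.zpowers a).subgroupOf P)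
      (by rw [Nat.card_congr (Subgroup.subgroupOfEquivOfLe (Subgroup.zpowers_le.2 ha)).toEquiv, hj]) hle
    have h1 := hE (E'.map P.subtype) (Subgroup.map_subtype_le _) (by rw [Subgroup.card_map_of_injective P.subtype_injective, hE'c])
    exact (Subgroup.mem_centralizer_iff.1 (h1 hx) a ⟨⟨a, ha⟩, hE' (Subgroup.mem_zpowers a), rfl⟩).symm

end Cfsg.Agent.S3803
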