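import Cfsg.Statements.S3804
import Cfsg.Agent.Lib.Components.Factorization
open Subgroup
open scoped Pointwise

set_option autoImplicit false
open Cfsg

namespace Cfsg.Agent.S3804

/-- Let G and H be subgroups of a finite group with G normalizing H, fix a real number α > 0, and for a subgroup A of G put m(A) = |A|^α · |C_H(A)|. Let A and B be nontrivial subgroups of G at which m attains its maximum over all nontrivial subgroups of G, and assume that A ∩ B ≠ 1 or that this maximum is at least |H|. Then AB = BA is a subgroup at which m is again maximal, C_H(A ∩ B) = C_H(A) C_H(B), and if A ∩ B ≠ 1 then m is maximal at A ∩ B as well. -/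
theorem result {X : Type*} [Group X] [Finite X] (G H : Subgroup X) (hGH : G ≤ Subgroup.normalizer (H : Set X)) (α : ℝ) (hα : 0 < α)
    (A B : Subgroup X) (hA : A ≤ G) (hB : B ≤ G) (hA1 : A ≠ ⊥) (hB1 : B ≠ ⊥)
    (hAmax : ∀ A' : Subgroup X, A' ≤ G → A' ≠ ⊥ → (fun A : Subgroup X => ((Nat.card A : ℝ) ^ α) * (Nat.card ↥(H ⊓ Subgroup.centralizer (A : Set X)) : ℝ)) A' ≤ (fun A : Subgroup X => ((Nat.card A : ℝ) ^ α) * (Nat.card ↥(H ⊓ Subgroup.centralizer (A : Set X)) : ℝ)) A)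
    (hBmax : ∀ A' : Subgroup X, A' ≤ G → A' ≠ ⊥ → (fun A : Subgroup X => ((Nat.card A : ℝ) ^ α) * (Nat.card ↥(H ⊓ Subgroup.centralizer (A : Set X)) : ℝ)) A' ≤ (fun A : Subgroup X => ((Nat.card A : ℝ) ^ α) * (Nat.card ↥(H ⊓ Subgroup.centralizer (A : Set X)) : ℝ)) B)
    (hcase : A ⊓ B ≠ ⊥ ∨ (Nat.card H : ℝ) ≤ (fun A : Subgroup X => ((Nat.card A : ℝ) ^ α) * (Nat.card ↥(H ⊓ Subgroup.centralizer (A : Set X)) : ℝ)) A) :
    (∀ a ∈ A, ∀ b ∈ B, ∃ b' ∈ B, ∃ a' ∈ A, a * b = b' * a') ∧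
    (∀ A' : Subgroup X, A' ≤ G → A' ≠ ⊥ → (fun A : Subgroup X => ((Nat.card A : ℝ) ^ α) * (Nat.card ↥(H ⊓ Subgroup.centralizer (A : Set X)) : ℝ)) A' ≤ (fun A : Subgroup X => ((Nat.card A : ℝ) ^ α) * (Nat.card ↥(H ⊓ Subgroup.centralizer (A : Set X)) : ℝ)) (A ⊔ B)) ∧
    (∀ h ∈ H ⊓ Subgroup.centralizer ((A ⊓ B : Subgroup X) : Set X), ∃ u ∈ H ⊓ Subgroup.centralizer (A : Set X), ∃ v ∈ H ⊓ Subgroup.centralizer (B : Set X), h = u * v) ∧
    (A ⊓ B ≠ ⊥ → ∀ A' : Subgroup X, A' ≤ G → A' ≠ ⊥ → (fun A : Subgroup X => ((Nat.card A : ℝ) ^ α) * (Nat.card ↥(H ⊓ Subgroup.centralizer (A : Set X)) : ℝ)) A' ≤ (fun A : Subgroup X => ((Nat.card A : ℝ) ^ α) * (Nat.card ↥(H ⊓ Subgroup.centralizer (A : Set X)) : ℝ)) (A ⊓ B)) := by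
  have _ := hGH
  set CA := H ⊓ Subgroup.centralizer (A : Set X) with hCA
  set CB := H ⊓ Subgroup.centralizer (B : Set X) with hCB
  set CI := H ⊓ Subgroup.centralizer ((A ⊓ B : Subgroup X) : Set X) with hCI
  set CU := H ⊓ Subgroup.centralizer ((A ⊔ B : Subgroup X) : Set X) with hCU
  simp only [] at hAmax hBmax hcase ⊢
  set M : ℝ := (Nat.card A : ℝ) ^ α * (Nat.card CA : ℝ) with hMdef
  have hMB : (Nat.card B : ℝ) ^ α * (Nat.card CB : ℝ) = M :=
    le_antisymm (hAmax B hB hB1) (hBmax A hA hA1)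
  have hpos : 0 < M := by
    have : (0 : ℝ) < Nat.card A := Nat.cast_pos.mpr Nat.card_pos
    have : (0 : ℝ) < Nat.card CA := Nat.cast_pos.mpr Nat.card_pos
    positivity
  have hinf : (Nat.card ↥(A ⊓ B) : ℝ) ^ α * (Nat.card CI : ℝ) ≤ M := by
    by_cases h : A ⊓ B = ⊥
    · have hH : CI ≤ H := inf_le_left
      rw [h, Subgroup.card_bot, Nat.cast_one, Real.one_rpow, one_mul]
      exact (Nat.cast_le.mpr (card_le_of_le hH)).trans (hcase.resolve_left (not_not_intro h))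
    · exact hAmax _ (inf_le_left.trans hA) h
  have hsup : (Nat.card ↥(A ⊔ B) : ℝ) ^ α * (Nat.card CU : ℝ) ≤ M :=
    hAmax _ (sup_le hA hB) (ne_bot_of_le_ne_bot hA1 le_sup_left)
  have e1 := CfsgLib.Signalizer.card_mul_set_mul_card_inf A B
  have e2 := CfsgLib.Signalizer.card_mul_set_mul_card_inf CA CB
  have s1 : (A : Set X) * (B : Set X) ⊆ (A ⊔ B : Subgroup X) := by
    rintro _ ⟨a, ha, b, hb, rfl⟩; exact mul_mem (mem_sup_left ha) (mem_sup_right hb)
  have s2 : (CA : Set X) * (CB : Set X) ⊆ (CI : Subgroup X) := by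
    have l1 : CA ≤ CI := inf_le_inf_left _ (centralizer_le (fun x hx => hx.1))
    have l2 : CB ≤ CI := inf_le_inf_left _ (centralizer_le (fun x hx => hx.2))
    rintro _ ⟨a, ha, b, hb, rfl⟩; exact mul_mem (l1 ha) (l2 hb)
  have hCU' : CA ⊓ CB ≤ CU := by
    refine le_inf (inf_le_left.trans inf_le_left) ?_
    rw [Subgroup.le_centralizer_iff]
    refine sup_le ?_ ?_ <;> rw [Subgroup.le_centralizer_iff]
    exacts [inf_le_left.trans inf_le_right, inf_le_right.trans inf_le_right]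
  have n1 : Nat.card ↥((A : Set X) * (B : Set X)) ≤ Nat.card ↥(A ⊔ B) := by
    simpa [← SetLike.coe_sort_coe] using Nat.card_mono (Set.toFinite _) s1
  have n2 : Nat.card ↥((CA : Set X) * (CB : Set X)) ≤ Nat.card CI := by
    simpa [← SetLike.coe_sort_coe] using Nat.card_mono (Set.toFinite _) s2
  set a := Nat.card A; set b := Nat.card B; set i := Nat.card ↥(A ⊓ B); set u := Nat.card ↥(A ⊔ B)
  set ca := Nat.card CA; set cb := Nat.card CB; set ci := Nat.card CI; set cu := Nat.card CU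
  set ab := Nat.card ↥((A : Set X) * (B : Set X)) with habd
  set cc := Nat.card ↥((CA : Set X) * (CB : Set X)) with hccd
  set cd := Nat.card ↥(CA ⊓ CB) with hcdd
  have n3 : cd ≤ cu := card_le_of_le hCU'
  have pi : (0 : ℝ) < i := Nat.cast_pos.mpr Nat.card_pos
  have pcd : (0 : ℝ) < cd := Nat.cast_pos.mpr Nat.card_pos
  have key : M * M = ((ab : ℝ) ^ α * cd) * ((i : ℝ) ^ α * cc) := by
    calc M * M = (a : ℝ) ^ α * ca * ((b : ℝ) ^ α * cb) := by rw [hMdef, hMB]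
      _ = ((a : ℝ) * b) ^ α * ((ca * cb : ℕ) : ℝ) := by
        rw [Real.mul_rpow (by positivity) (by positivity)]; push_cast; ring
      _ = ((ab * i : ℕ) : ℝ) ^ α * ((cc * cd : ℕ) : ℝ) := by rw [e1, e2]; push_cast; ring_nf
      _ = _ := by push_cast; rw [Real.mul_rpow (by positivity) (by positivity)]; ring
  have b1 : (ab : ℝ) ^ α * cd ≤ (u : ℝ) ^ α * cu :=
    mul_le_mul (Real.rpow_le_rpow (by positivity) (Nat.cast_le.mpr n1) hα.le)
      (Nat.cast_le.mpr n3) (by positivity) (by positivity)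
  have b2 : (i : ℝ) ^ α * cc ≤ (i : ℝ) ^ α * ci :=
    mul_le_mul_of_nonneg_left (Nat.cast_le.mpr n2) (by positivity)
  have f1 : (ab : ℝ) ^ α * cd = M := by
    refine le_antisymm (b1.trans hsup) ?_
    have := mul_le_mul_of_nonneg_left (b2.trans hinf) (a := (ab : ℝ) ^ α * cd) (by positivity)
    rw [← key] at this
    exact le_of_mul_le_mul_right this hpos
  have f2 : (i : ℝ) ^ α * cc = M := by
    rw [f1] at key; exact (mul_left_cancel₀ hpos.ne' key).symm
  have g1 : ab = u := by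
    by_contra h
    have hlt : (ab : ℝ) < u := Nat.cast_lt.mpr (lt_of_le_of_ne n1 h)
    have h1 : (ab : ℝ) ^ α * cd < (u : ℝ) ^ α * cu :=
      lt_of_lt_of_le (mul_lt_mul_of_pos_right (Real.rpow_lt_rpow (by positivity) hlt hα) pcd)
        (mul_le_mul_of_nonneg_left (Nat.cast_le.mpr n3) (by positivity))
    linarith
  have g2 : cc = ci := by
    by_contra h
    have hlt : (cc : ℝ) < ci := Nat.cast_lt.mpr (lt_of_le_of_ne n2 h)
    have h1 := mul_lt_mul_of_pos_left hlt (Real.rpow_pos_of_pos pi α)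
    linarith
  have hAB : (A : Set X) * (B : Set X) = ((A ⊔ B : Subgroup X) : Set X) :=
    Set.eq_of_subset_of_ncard_le s1 (by rw [← Nat.card_coe_set_eq, ← Nat.card_coe_set_eq]; exact g1.ge)
  have hC : (CA : Set X) * (CB : Set X) = (CI : Set X) :=
    Set.eq_of_subset_of_ncard_le s2 (by rw [← Nat.card_coe_set_eq, ← Nat.card_coe_set_eq]; exact g2.ge)
  refine ⟨?_, ?_, ?_, ?_⟩
  · intro x hx y hy
    have h : (x * y)⁻¹ ∈ (A : Set X) * (B : Set X) := by
      rw [hAB]; exact inv_mem (mul_mem (mem_sup_left hx) (mem_sup_right hy))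
    obtain ⟨a1, ha1, b1, hb1, he⟩ := h
    refine ⟨b1⁻¹, inv_mem hb1, a1⁻¹, inv_mem ha1, ?_⟩
    rw [← mul_inv_rev]
    exact inv_eq_iff_eq_inv.mp he.symm
  · intro A' h1 h2
    exact (hAmax A' h1 h2).trans (le_of_eq_of_le f1.symm b1)
  · intro h hh
    have : h ∈ (CA : Set X) * (CB : Set X) := by rw [hC]; exact hh
    obtain ⟨x, hx, y, hy, he⟩ := this
    exact ⟨x, hx, y, hy, he.symm⟩
  · intro _ A' h1 h2
    exact (hAmax A' h1 h2).trans (le_of_eq_of_le f2.symm b2)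

end Cfsg.Agent.S3804
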