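import Cfsg.Statements.S3808
import Cfsg.Agent.Lib.PGroups.Extraspecial
import Cfsg.Agent.Lib.PGroups.MaxAbelian
open scoped commutatorElement

set_option autoImplicit false
open Cfsg

namespace Cfsg.Agent.S3808

/-- Let S be a finite p-group with an extraspecial subgroup Q of index p. Then either Z(S) = Z(Q), or S = Q·Z(S) and Z(S) has order p². -/
theorem result {S : Type*} [Group S] [Finite S] (p : ℕ) [Fact p.Prime] (hS : IsPGroup p S) (Q : Subgroup S) (hQ : Cfsg.IsExtraspecial p ↥Q) (hQi : Q.index = p) :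
    Subgroup.center S = (Subgroup.center ↥Q).map Q.subtype ∨
      (Q ⊔ Subgroup.center S = ⊤ ∧ Nat.card (Subgroup.center S) = p ^ 2) := by
  have hpp : p.Prime := Fact.out
  haveI : Q.Normal := CfsgLib.PGroups.normal_of_isCoatom hS
    (CfsgLib.PGroups.isCoatom_of_index_eq_prime hQi)
  set Z := (Subgroup.center ↥Q).map Q.subtype with hZdef
  haveI : Z.Normal := by rw [hZdef]; infer_instance
  have hZcard : Nat.card Z = p := by
    rw [← hQ.2]; exact Subgroup.card_map_of_injective Q.subtype_injective
  have hZS : Z ≤ Subgroup.center S := by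
    have hne : Z ≠ ⊥ := fun h => by
      rw [h, Subgroup.card_bot] at hZcard
      exact hpp.ne_one hZcard.symm
    have hi := Nat.le_of_dvd Nat.card_pos
      (CfsgLib.PGroups.dvd_card_of_ne_bot hS (CfsgLib.PGroups.inf_center_ne_bot hS hne))
    have := Subgroup.eq_of_le_of_card_ge (inf_le_left : Z ⊓ Subgroup.center S ≤ Z) (hZcard.trans_le hi)
    exact this ▸ inf_le_right
  have hinf : Q ⊓ Subgroup.center S = Z := by
    refine le_antisymm ?_ (le_inf (Subgroup.map_subtype_le _) hZS)
    rintro x ⟨hx, hxc⟩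
    exact ⟨⟨x, hx⟩, Subgroup.mem_center_iff.mpr fun y =>
      Subtype.ext (Subgroup.mem_center_iff.mp hxc y), rfl⟩
  by_cases hle : Subgroup.center S ≤ Q
  · left
    exact (inf_eq_right.mpr hle).symm.trans hinf
  · right
    have hco := CfsgLib.PGroups.isCoatom_of_index_eq_prime hQi
    have htop : Q ⊔ Subgroup.center S = ⊤ :=
      hco.2 _ (lt_of_le_of_ne le_sup_left fun h => hle (h ▸ le_sup_right))
    refine ⟨htop, ?_⟩
    have h1 : Z.relIndex (Subgroup.center S) = p := by
      rw [← hinf, Subgroup.inf_relIndex_right, ← Subgroup.relIndex_sup_right, sup_comm, htop,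
        Subgroup.relIndex_top_right, hQi]
    rw [← Subgroup.relIndex_bot_left (Subgroup.center S),
      ← Subgroup.relIndex_mul_relIndex ⊥ Z _ bot_le hZS, Subgroup.relIndex_bot_left, h1, hZcard, sq]

end Cfsg.Agent.S3808
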