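import Cfsg.Statements.S3809
import Cfsg.Agent.Lib.PGroups.Extraspecial
import Cfsg.Agent.Lib.PGroups.MaxAbelian
open scoped commutatorElement

set_option autoImplicit false
open Cfsg

namespace Cfsg.Agent.S3809

/-- Let S be a finite p-group with an extraspecial subgroup of index p. Then S has order p^(2+2n) for some n ≥ 1, derived length at most 3, and exponent dividing p³. -/
theorem result {S : Type*} [Group S] [Finite S] (p : ℕ) [Fact p.Prime] (hS : IsPGroup p S) (Q : Subgroup S) (hQ : Cfsg.IsExtraspecial p ↥Q) (hQi : Q.index = p) :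
    (∃ n : ℕ, 1 ≤ n ∧ Nat.card S = p ^ (2 + 2 * n)) ∧ derivedSeries S 3 = ⊥ ∧ ∀ x : S, x ^ (p ^ 3) = 1 := by
  have hpp : p.Prime := Fact.out
  haveI : Q.Normal := CfsgLib.PGroups.normal_of_isCoatom hS
    (CfsgLib.PGroups.isCoatom_of_index_eq_prime hQi)
  refine ⟨?_, ?_, ?_⟩
  · obtain ⟨n, hn, hcard⟩ := CfsgLib.PGroups.Extraspecial.exists_card_eq hQ
    refine ⟨n, hn, ?_⟩
    rw [← Subgroup.card_mul_index Q, hcard, hQi, ← pow_succ]
    congr 1; omega
  · have h1 : derivedSeries S 1 ≤ Q := by
      rw [derivedSeries_one]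
      exact CfsgLib.PGroups.commutator_le_of_isCoatom hS
        (CfsgLib.PGroups.isCoatom_of_index_eq_prime hQi)
    have h2 : derivedSeries S 2 ≤ (Subgroup.center ↥Q).map Q.subtype := by
      refine (Subgroup.commutator_mono h1 h1).trans ?_
      rw [← hQ.1.2.2, Subgroup.map_subtype_commutator]
    refine le_bot_iff.mp ((Subgroup.commutator_mono h2 h2).trans ?_)
    rw [← Subgroup.map_commutator]
    refine le_of_eq ((Subgroup.map_eq_bot_iff_of_injective _ Q.subtype_injective).mpr ?_)
    rw [Subgroup.commutator_eq_bot_iff_le_centralizer]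
    exact Subgroup.center_le_centralizer _
  · intro x
    have h1 : x ^ p ∈ Q := hQi ▸ Subgroup.pow_index_mem Q x
    have h2 := CfsgLib.PGroups.Extraspecial.pow_mem_center hQ ⟨x ^ p, h1⟩
    have h3 := CfsgLib.PGroups.pow_eq_one_of_mem_center_of_special hQ.1 h2
    have h4 := congrArg Subtype.val h3
    push_cast at h4
    rw [← pow_mul, ← pow_mul] at h4
    rw [← h4]
    congr 1
    ring

end Cfsg.Agent.S3809
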