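import Cfsg.Statements.S3810
import Cfsg.Agent.Lib.PGroups.Extraspecial
import Cfsg.Agent.Lib.PGroups.MaxAbelian
open scoped commutatorElement

set_option autoImplicit false
open Cfsg

namespace Cfsg.Agent.S3810

/-- Let S be a finite p-group with an extraspecial subgroup of index p. Then S has an abelian subgroup of index p if and only if S has order p⁴. -/
theorem result {S : Type*} [Group S] [Finite S] (p : ℕ) [Fact p.Prime] (hS : IsPGroup p S) (Q : Subgroup S) (hQ : Cfsg.IsExtraspecial p ↥Q) (hQi : Q.index = p) :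
    (∃ A : Subgroup S, IsMulCommutative ↥A ∧ A.index = p) ↔ Nat.card S = p ^ 4 := by
  have hpp : p.Prime := Fact.out
  obtain ⟨n, hn1, hcard⟩ := CfsgLib.PGroups.Extraspecial.exists_card_eq hQ
  have hScard : Nat.card S = p ^ (2 * n + 2) := by
    rw [← Subgroup.card_mul_index Q, hcard, hQi, ← pow_succ]
  constructor
  · rintro ⟨A, hA, hAi⟩
    let B := A.subgroupOf Q
    have hB : B ≤ Subgroup.centralizer (B : Set Q) := fun b hb c hc => Subtype.ext
      (congrArg (fun a : A => (a : S)) (hA.is_comm.comm ⟨(c : S), hc⟩ ⟨(b : S), hb⟩))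
    have h1 := CfsgLib.PGroups.Extraspecial.card_le_of_abelian hQ hB hcard
    have h2 : B.index ≤ p := by
      rw [← hAi]
      exact (Subgroup.relIndex_le_of_le_right le_top (by
        rw [Subgroup.relIndex_top_right]; exact Subgroup.FiniteIndex.index_ne_zero)).trans_eq
        (Subgroup.relIndex_top_right _)
    have h3 := Nat.mul_le_mul h1 h2
    rw [Subgroup.card_mul_index, hcard, ← pow_succ, Nat.pow_le_pow_iff_right hpp.one_lt] at h3
    rw [hScard]
    congr 1; omega
  · intro h4
    have hn : n = 1 := by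
      have := Nat.pow_right_injective hpp.two_le (hScard.symm.trans h4)
      omega
    subst hn
    have hna : ¬ IsMulCommutative S := fun hc =>
      CfsgLib.PGroups.Extraspecial.not_isMulCommutative hQ
        ⟨⟨fun a b => Subtype.ext (hc.is_comm.comm (a : S) b)⟩⟩
    haveI : Group.IsNilpotent S := hS.isNilpotent
    obtain ⟨N, hNn, -, -, hNc⟩ := CfsgLib.PGroups.exists_normal_card_eq (p := p) hS
      (N := (⊥ : Subgroup S)) (M := ⊤) bot_le (k := 2)
      (by rw [Subgroup.card_bot]; exact Nat.one_le_pow _ _ hpp.pos)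
      (by rw [Subgroup.card_top, h4]; exact Nat.pow_le_pow_right hpp.pos (by norm_num))
    haveI := hNn
    have hNne : N ≠ ⊥ := fun h => by
      rw [h, Subgroup.card_bot] at hNc
      exact absurd hNc.symm (Nat.one_lt_pow two_ne_zero hpp.one_lt).ne'
    let Z1 := ⁅N, (⊤ : Subgroup S)⁆
    have hlt : Z1 < N := CfsgLib.PGroups.commutator_top_lt hS hNne
    have hZ1card : Nat.card Z1 ≤ p := by
      obtain ⟨k, hk⟩ := CfsgLib.PGroups.card_subgroup_eq_pow hS Z1
      have h := lt_of_le_of_ne (Subgroup.card_le_of_le hlt.le)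
        (fun he => hlt.ne (Subgroup.eq_of_le_of_card_ge hlt.le he.ge))
      rw [hk, hNc, Nat.pow_lt_pow_iff_right hpp.one_lt] at h
      rw [hk]
      exact (Nat.pow_le_pow_right hpp.pos (show k ≤ 1 by omega)).trans_eq (pow_one p)
    have hZ1c : Z1 ≤ Subgroup.center S := by
      rcases eq_or_ne Z1 ⊥ with h | h
      · rw [h]; exact bot_le
      have hi := Nat.le_of_dvd Nat.card_pos
        (CfsgLib.PGroups.dvd_card_of_ne_bot hS (CfsgLib.PGroups.inf_center_ne_bot hS h))
      have := Subgroup.eq_of_le_of_card_ge (inf_le_left : Z1 ⊓ Subgroup.center S ≤ Z1) (hZ1card.trans hi)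
      exact this ▸ inf_le_right
    -- N is generated by a central subgroup and x
    have hi := CfsgLib.PGroups.inf_center_ne_bot hS hNne
    obtain ⟨x, hxN, hx⟩ : ∃ x ∈ N, N ≤ (N ⊓ Subgroup.center S) ⊔ Subgroup.zpowers x := by
      by_cases hc : N ≤ Subgroup.center S
      · exact ⟨1, one_mem N, le_sup_of_le_left (le_inf le_rfl hc)⟩
      obtain ⟨x, hxN, hxc⟩ := SetLike.not_le_iff_exists.mp hc
      refine ⟨x, hxN, (Subgroup.eq_of_le_of_card_ge (sup_le inf_le_left (Subgroup.zpowers_le.mpr hxN)) ?_).ge⟩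
      have hlt2 : N ⊓ Subgroup.center S < (N ⊓ Subgroup.center S) ⊔ Subgroup.zpowers x :=
        lt_of_le_of_ne le_sup_left fun h => hxc ((h.ge ((le_sup_right : Subgroup.zpowers x ≤ _)
          (Subgroup.mem_zpowers x))).2)
      have h1 : p < Nat.card ((N ⊓ Subgroup.center S) ⊔ Subgroup.zpowers x : Subgroup S) :=
        lt_of_le_of_lt (Nat.le_of_dvd Nat.card_pos (CfsgLib.PGroups.dvd_card_of_ne_bot hS hi))
          (lt_of_le_of_ne (Subgroup.card_le_of_le hlt2.le)
            (fun he => hlt2.ne (Subgroup.eq_of_le_of_card_ge hlt2.le he.ge)))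
      obtain ⟨k, hk⟩ := CfsgLib.PGroups.card_subgroup_eq_pow hS
        ((N ⊓ Subgroup.center S) ⊔ Subgroup.zpowers x)
      rw [hNc, hk]
      rw [hk] at h1
      nth_rewrite 1 [← pow_one p] at h1
      exact Nat.pow_le_pow_right hpp.pos ((Nat.pow_lt_pow_iff_right hpp.one_lt).mp h1)
    have hidx : (Subgroup.centralizer ({x} : Set S)).index ≤ p :=
      (CfsgLib.PGroups.index_centralizer_singleton_le (Z := Z1) hZ1c (fun g => by
        have := Subgroup.commutator_mem_commutator hxN (Subgroup.mem_top g)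
        rw [← commutatorElement_inv]; exact inv_mem this)).trans hZ1card
    have hNab : IsMulCommutative N := IsPGroup.isMulCommutative_of_card_eq_prime_sq hNc
    obtain ⟨y, hyC, hyN⟩ : ∃ y ∈ Subgroup.centralizer ({x} : Set S), y ∉ N := by
      refine SetLike.not_le_iff_exists.mp fun hle => ?_
      have h1 := (Subgroup.card_mul_index (Subgroup.centralizer ({x} : Set S))).ge.trans
        (Nat.mul_le_mul (Subgroup.card_le_of_le hle) hidx)
      rw [h4, hNc, ← pow_succ, Nat.pow_le_pow_iff_right hpp.one_lt] at h1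
      omega
    have hyCN : y ∈ Subgroup.centralizer (N : Set S) := by
      have hle : N ≤ Subgroup.centralizer ({y} : Set S) :=
        hx.trans (sup_le (inf_le_right.trans (Subgroup.center_le_centralizer _))
          (Subgroup.zpowers_le.mpr (Subgroup.mem_centralizer_singleton_iff.mpr
            (Subgroup.mem_centralizer_singleton_iff.mp hyC).symm)))
      intro c hc
      exact Subgroup.mem_centralizer_singleton_iff.mp (hle hc)
    have hA := CfsgLib.PGroups.isMulCommutative_sup_zpowers hNab hyCN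
    refine ⟨N ⊔ Subgroup.zpowers y, hA, ?_⟩
    have hlt3 : N < N ⊔ Subgroup.zpowers y :=
      lt_of_le_of_ne le_sup_left fun h => hyN (h.ge ((le_sup_right : Subgroup.zpowers y ≤ _)
        (Subgroup.mem_zpowers y)))
    obtain ⟨k, hk⟩ := CfsgLib.PGroups.index_eq_pow hS (N ⊔ Subgroup.zpowers y)
    have hk0 : k ≠ 0 := fun h0 => hna ⟨⟨fun a b => by
      have htop := Subgroup.index_eq_one.mp (hk.trans (by rw [h0, pow_zero]))
      exact congrArg Subtype.val (hA.is_comm.comm ⟨a, htop ▸ Subgroup.mem_top a⟩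
        ⟨b, htop ▸ Subgroup.mem_top b⟩)⟩⟩
    have hcardA := lt_of_le_of_ne (Subgroup.card_le_of_le hlt3.le)
      (fun he => hlt3.ne (Subgroup.eq_of_le_of_card_ge hlt3.le he.ge))
    obtain ⟨j, hj⟩ := CfsgLib.PGroups.card_subgroup_eq_pow hS (N ⊔ Subgroup.zpowers y)
    rw [hNc, hj, Nat.pow_lt_pow_iff_right hpp.one_lt] at hcardA
    have hmul := Subgroup.card_mul_index (N ⊔ Subgroup.zpowers y)
    rw [hj, hk, h4, ← pow_add] at hmul
    have := Nat.pow_right_injective hpp.two_le hmul
    rw [hk, show k = 1 by omega, pow_one]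

end Cfsg.Agent.S3810
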