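import Cfsg.Statements.S3811
import Cfsg.Agent.Lib.PGroups.SoftSubgroup
open Subgroup CfsgLib.PGroups

set_option autoImplicit false
open Cfsg

namespace Cfsg.Agent.S3811

/-- Let P be a finite p-group and E an abelian subgroup of P that contains its centralizer, has index p in its normalizer, and has index at least p² in P. Then the subgroups of P containing E are totally ordered by inclusion, each proper one has index p in its normalizer (so they form the normalizer tower of E, with all steps of index p), and the i-th member of the tower above E has nilpotency class i + 1 whenever it is a proper subgroup of P. -/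
theorem result {P : Type*} [Group P] [Finite P] (p : ℕ) [Fact p.Prime] (hP : IsPGroup p P)
    (E : Subgroup P) (hEab : IsMulCommutative ↥E) (hC : Subgroup.centralizer (E : Set P) ≤ E)
    (hN : (E.subgroupOf (Subgroup.normalizer (E : Set P))).index = p) (hidx : p ^ 2 ≤ E.index) :
    (∀ K L : Subgroup P, E ≤ K → E ≤ L → K ≤ L ∨ L ≤ K) ∧
      (∀ K : Subgroup P, E ≤ K → K ≠ ⊤ → (K.subgroupOf (Subgroup.normalizer (K : Set P))).index = p) ∧
      ∀ (i : ℕ) (K : Subgroup P) [Group.IsNilpotent ↥K], E ≤ K → K ≠ ⊤ → K.index * p ^ i = E.index →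
        Group.nilpotencyClass ↥K = i + 1 := by
  have _ := hidx
  have hmain := softTower_aux (Nat.card P) hP le_rfl E hEab hC hN
  refine ⟨?_, fun K hEK hKT => (hmain K hEK hKT).1, ?_⟩
  · intro K L hEK hEL
    by_contra hc
    rw [not_or] at hc
    have hIK : K ⊓ L < K := lt_of_le_of_ne inf_le_left fun h => hc.1 (h ▸ inf_le_right)
    have hIL : K ⊓ L < L := lt_of_le_of_ne inf_le_right fun h => hc.2 (h ▸ inf_le_left)
    have hT : K ⊓ L ≠ ⊤ := ne_top_of_lt hIK
    have h1 := (hmain (K ⊓ L) (le_inf hEK hEL) hT).1
    have h2 := le_inf (relIndex_normalizer_of_lt hP h1 hIK) (relIndex_normalizer_of_lt hP h1 hIL)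
    exact (lt_normalizer hP (lt_top_iff_ne_top.mpr hT)).not_ge h2
  · intro i K hnil hEK hKT hi
    refine (hmain K hEK hKT).2 i ?_
    have h := relIndex_mul_index hEK
    rw [← hi, mul_comm] at h
    exact Nat.eq_of_mul_eq_mul_left (Nat.pos_of_ne_zero index_ne_zero_of_finite) h

end Cfsg.Agent.S3811
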