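import Cfsg.Statements.S3815
import Cfsg.Agent.Lib.Base.Cores

set_option autoImplicit false
open Cfsg

namespace Cfsg.Agent.S3815

/-- Let G be a finite group, p a prime and d ∈ G an element of order prime to p. If dg has order prime to p for every element g ∈ G of order prime to p, then d ∈ O_{p'}(G). -/
theorem result {G : Type*} [Group G] [Finite G] {p : ℕ} [Fact p.Prime]
    (d : G) (hd : (orderOf d).Coprime p)
    (h : ∀ g : G, (orderOf g).Coprime p → (orderOf (d * g)).Coprime p) :
    d ∈ Cfsg.pPrimeCore p G := by
  let D : Set G := {d | ∀ g : G, (orderOf g).Coprime p → (orderOf (d * g)).Coprime p}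
  have h1 : ∀ d ∈ D, (orderOf d).Coprime p := fun d hd => by
    simpa using hd 1 (by simp)
  let K : Subgroup G := (Subgroup.closure D)
  have hK : ∀ x ∈ K, x ∈ D := by
    intro x hx
    have hx' : x ∈ Submonoid.closure D := by
      rw [← Subgroup.closure_toSubmonoid_of_finite]; exact hx
    induction hx' using Submonoid.closure_induction with
    | mem y hy => exact hy
    | one => intro g hg; simpa using hg
    | mul a b ha hb iha ihb =>
      intro g hg
      rw [mul_assoc]
      exact iha (by rw [← Subgroup.closure_toSubmonoid_of_finite] at ha; exact ha) _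
        (ihb (by rw [← Subgroup.closure_toSubmonoid_of_finite] at hb; exact hb) g hg)
  haveI : K.Normal := by
    refine ⟨fun x hx g => Subgroup.subset_closure ?_⟩
    intro y hy
    have := hK x hx (g⁻¹ * y * g) (by
      have e := MulEquiv.orderOf_eq (MulAut.conj g⁻¹) y
      rw [MulAut.conj_apply, inv_inv] at e
      rwa [e])
    have he : orderOf (g * x * g⁻¹ * y) = orderOf (x * (g⁻¹ * y * g)) := by
      have e := MulEquiv.orderOf_eq (MulAut.conj g) (x * (g⁻¹ * y * g))
      rw [← e, MulAut.conj_apply]
      simp [mul_assoc]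
    rwa [he]
  refine (CfsgLib.Base.le_pPrimeCore (N := K) ?_) (Subgroup.subset_closure h)
  rw [Nat.coprime_comm, (Fact.out : p.Prime).coprime_iff_not_dvd]
  intro hdvd
  obtain ⟨x, hx⟩ := exists_prime_orderOf_dvd_card' p hdvd
  have := h1 _ (hK x x.2)
  rw [Subgroup.orderOf_coe, hx] at this
  exact (Fact.out : p.Prime).ne_one (by simpa using this)

end Cfsg.Agent.S3815
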