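import Cfsg.Statements.S3818
import Cfsg.Agent.Lib.Rep.SolvableFixedBound

set_option autoImplicit false
open Cfsg

namespace Cfsg.Agent.S3818

/-- Let G be a finite solvable group and P a subgroup of G of prime order p > 3 whose conjugates generate G. Let V be a faithful irreducible representation of G over a field of positive characteristic, finite-dimensional. Then the subspace of V fixed by P has dimension less than half the dimension of V. -/
theorem result {G : Type*} [Group G] [Finite G] [Group.IsSolvable G]
    {p : ℕ} [Fact p.Prime] (hp : 3 < p) (P : Subgroup G) (hP : Nat.card P = p) (hgen : Subgroup.normalClosure (P : Set G) = ⊤)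
    {k : Type*} [Field k] (ℓ : ℕ) [Fact ℓ.Prime] [CharP k ℓ]
    {V : Type*} [AddCommGroup V] [Module k V] [FiniteDimensional k V]
    (ρ : Representation k G V) [ρ.IsIrreducible] (hfaith : Function.Injective ρ) :
    2 * Module.finrank k ↥(⨅ g : ↥P, LinearMap.ker (ρ (g : G) - LinearMap.id)) < Module.finrank k V := by
  classical
  haveI : Finite P := inferInstance
  obtain ⟨g, hg⟩ : ∃ g : ↥P, g ≠ 1 := by
    haveI : Nontrivial P := Finite.one_lt_card_iff_nontrivial.1 (hP ▸ (Fact.out : p.Prime).one_lt)
    exact exists_ne 1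
  have hmem : ∀ x : ↥P, x ∈ Subgroup.zpowers g := fun x => mem_zpowers_of_prime_card hP hg
  have hgp : (g : G) ^ p = 1 := by
    rw [← SubmonoidClass.coe_pow, ← hP, pow_card_eq_one']; rfl
  have hgen' : Subgroup.normalClosure {(g : G)} = ⊤ := by
    rw [eq_top_iff, ← hgen]
    refine Subgroup.normalClosure_le_normal (fun x hx => ?_)
    obtain ⟨i, hi⟩ := Subgroup.mem_zpowers_iff.1 (hmem ⟨x, hx⟩)
    have : x = (g : G) ^ i := by rw [← Subgroup.coe_zpow, hi]
    rw [this]
    exact zpow_mem (Subgroup.subset_normalClosure (Set.mem_singleton _)) i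
  have hirr : CfsgLib.Rep.SolvableFixed.Irr ρ := by
    intro W hW
    rcases eq_bot_or_eq_top (⟨W, fun b x hx => hW b x hx⟩ : Subrepresentation ρ) with h | h
    · left; exact congrArg Subrepresentation.toSubmodule h
    · right; exact congrArg Subrepresentation.toSubmodule h
  have hg1 : ρ (g : G) ≠ 1 := fun h => hg (Subtype.ext (hfaith (by rw [h, OneMemClass.coe_one, map_one])))
  have h := CfsgLib.Rep.SolvableFixed.two_mul_finrank_fixed_lt (ℓ := ℓ) (inferInstance : Group.IsSolvable G)
    hp (g : G) hgp hgen' ρ hirr hg1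
  refine lt_of_le_of_lt (Nat.mul_le_mul_left 2 (Submodule.finrank_mono ?_)) h
  exact iInf_le (fun x : ↥P => LinearMap.ker (ρ (x : G) - LinearMap.id)) g

end Cfsg.Agent.S3818
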