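import Cfsg.Statements.S3819
import Mathlib
import Cfsg.Prelude.Def_CaseTheorems
import Cfsg.Agent.Lib.Base.Cores
import Cfsg.Agent.Lib.Coprime.Action2
import Cfsg.Agent.Lib.PLocal.Constrained
import Cfsg.Agent.Lib.PLocal.PSolvable
import Cfsg.Agent.Lib.Components.BalanceCriterion

set_option autoImplicit false
set_option linter.style.haveILetI false
set_option maxHeartbeats 800000
open Cfsg

namespace Cfsg.Agent.S3819

open Subgroup
open scoped commutatorElement

variable {G : Type*} [Group G] [Finite G]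

/-- A group with a central subgroup of `q`-power order and index prime to `q` has all its
`q'`-subgroups in `O_{q'}`. -/
theorem le_pPrimeCore_of_central {M : Type*} [Group M] [Finite M] {q : ℕ} [Fact q.Prime]
    (Z : Subgroup M) (hZ : Z ≤ center M) (hZq : IsPGroup q Z) (hZi : Z.index.Coprime q)
    (D : Subgroup M) (hD : (Nat.card D).Coprime q) : D ≤ pPrimeCore q M := by
  haveI hZn : Z.Normal := ⟨fun x hx g => by
    rw [(mem_center_iff.mp (hZ hx) g), mul_inv_cancel_right]; exact hx⟩
  have hq : q.Prime := Fact.out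
  let S : Sylow q M := hZq.toSylow (fun h => (hq.coprime_iff_not_dvd.mp hZi.symm) h)
  have hSZ : (S : Subgroup M) = Z := rfl
  have hnc : normalizer ((S : Subgroup M) : Set M) ≤ centralizer ((S : Subgroup M) : Set M) := by
    intro g _
    exact mem_centralizer_iff.mpr fun x hx => (mem_center_iff.mp (hZ hx) g).symm
  have hc := MonoidHom.ker_transferSylow_isComplement' S hnc
  set W := (MonoidHom.transferSylow S hnc).ker with hW
  have hWi : W.index = Nat.card Z := hc.symm.index_eq_card
  have hWc : (Nat.card W).Coprime q := by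
    have h1 := hc.symm.index_eq_card
    have h2 : Z.index = Nat.card W := hc.index_eq_card
    rwa [← h2]
  have hDW : D ≤ W := by
    intro d hd
    rw [← QuotientGroup.eq_one_iff, ← orderOf_eq_one_iff]
    obtain ⟨k, hk⟩ := IsPGroup.iff_card.mp hZq
    have h1 : orderOf (d : M ⧸ W) ∣ q ^ k := by
      rw [← hk, ← hWi]; exact orderOf_dvd_natCard _
    have h2 : orderOf (d : M ⧸ W) ∣ Nat.card D :=
      (orderOf_map_dvd (QuotientGroup.mk' W) d).trans
        (by rw [← Subgroup.orderOf_mk d hd]; exact orderOf_dvd_natCard _)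
    exact Nat.eq_one_of_dvd_coprimes (hD.pow_right k) h2 h1
  exact hDW.trans (CfsgLib.Base.le_pPrimeCore hWc)

theorem ecz {X : Type*} [Group X] (x : X) :
    centralizer ((zpowers x : Subgroup X) : Set X) = centralizer ({x} : Set X) := by
  rw [zpowers_eq_closure, centralizer_closure]

/-- The case `O_{q'}(H) = 1`. -/
theorem core_case {q : ℕ} [Fact q.Prime] (H P : Subgroup G) [H.Normal]
    (hcop : (Nat.card P).Coprime (Nat.card H)) (hPs : Group.IsSolvable P)
    (hsol : Group.IsSolvable ↥⁅H, P⁆)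
    (hO : ∀ N : Subgroup G, N ≤ H → H ≤ normalizer (N : Set G) → (Nat.card N).Coprime q → N = ⊥)
    (z : G) (hzH : z ∈ H) (hzq : ∃ k : ℕ, orderOf z = q ^ k)
    (A : Subgroup G) (hAH : A ≤ H) (hAz : A ≤ centralizer ({z} : Set G))
    (hAn : H ⊓ centralizer ({z} : Set G) ≤ normalizer (A : Set G))
    (hPA : P ≤ normalizer (A : Set G)) (hA : (Nat.card A).Coprime q)
    (B : Subgroup G) (hBH : B ≤ H ⊓ centralizer (P : Set G))
    (hBn : H ⊓ centralizer (P : Set G) ≤ normalizer (B : Set G)) (hB : (Nat.card B).Coprime q) :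
    ⁅A, P⁆ = ⊥ ∧ A ⊓ B = ⊥ := by
  have hq : q.Prime := Fact.out
  have hPH : P ≤ normalizer (H : Set G) := le_top.trans (normalizer_eq_top_iff.mpr inferInstance).ge
  have hKH : ⁅H, P⁆ ≤ H := commutator_le_left H P
  have hHK : H ≤ normalizer ((⁅H, P⁆ : Subgroup G) : Set G) :=
    CfsgLib.Components.le_normalizer_commutator_left H P
  set K := ⁅H, P⁆ with hK
  -- the Fitting subgroup of `K` is the `q`-core
  have hKO : pPrimeCore q K = ⊥ := by
    have h := hO ((pPrimeCore q K).map K.subtype) ((map_subtype_le _).trans hKH)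
      (hHK.trans (CfsgLib.Base.normalizer_le_normalizer_map_subtype K _))
      (CfsgLib.Base.coprime_card_map_pPrimeCore K)
    rwa [Subgroup.map_eq_bot_iff_of_injective _ K.subtype_injective] at h
  haveI := hsol
  have hcon : centralizer (pCore q K : Set K) ≤ pCore q K :=
    (CfsgLib.PLocal.isPConstrained_iff_of_eq_bot hKO).mp
      (CfsgLib.PLocal.isPConstrained_of_isPSolvable CfsgLib.PLocal.isPSolvable_of_isSolvable)
  set Q := (pCore q K).map K.subtype with hQ
  have hQq : IsPGroup q Q := CfsgLib.Base.isPGroup_map_pCore q K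
  have hQH : Q ≤ H := (map_subtype_le _).trans hKH
  have hHQ : H ≤ normalizer (Q : Set G) :=
    hHK.trans (CfsgLib.Base.normalizer_le_normalizer_map_subtype K _)
  have hKC : K ⊓ centralizer (Q : Set G) ≤ Q := by
    rintro x ⟨hxK, hxC⟩
    refine ⟨⟨x, hxK⟩, hcon (mem_centralizer_iff.mpr fun y hy => Subtype.ext ?_), rfl⟩
    exact mem_centralizer_iff.mp hxC (y : G) ⟨y, hy, rfl⟩
  -- `A` centralizes `Q`
  have hAQ : A ≤ centralizer (Q : Set G) := by
    refine CfsgLib.PLocal.le_centralizer_PxQ (P := zpowers z) hQq ?_ hA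
      ((zpowers_le.mpr hzH).trans hHQ) (hAH.trans hHQ) ?_ ?_
    · obtain ⟨k, hk⟩ := hzq
      exact IsPGroup.of_card (n := k) (by rw [Nat.card_zpowers, hk])
    · rw [zpowers_le]
      exact mem_centralizer_iff.mpr fun a ha => mem_centralizer_singleton_iff.mp (hAz ha)
    · have e : centralizer ((zpowers z : Subgroup G) : Set G) = centralizer ({z} : Set G) := by
        rw [zpowers_eq_closure, centralizer_closure]
      rw [e]
      set D := Q ⊓ centralizer ({z} : Set G) with hD
      have hDn : A ≤ normalizer (D : Set G) :=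
        CfsgLib.Coprime.le_normalizer_inf_inf (hAH.trans hHQ) (hAz.trans le_normalizer)
      have hAD : D ≤ normalizer (A : Set G) := (inf_le_inf_right _ hQH).trans hAn
      refine le_centralizer_iff.mpr ?_
      intro a ha
      refine mem_centralizer_iff.mpr fun d hd => ?_
      have h1 : ⁅a, d⁆ ∈ A ⊓ D := by
        refine ⟨?_, ?_⟩
        · rw [commutatorElement_def, show a * d * a⁻¹ * d⁻¹ = a * (d * a⁻¹ * d⁻¹) by group]
          exact mul_mem ha ((mem_normalizer_iff.mp (hAD hd) _).mp (inv_mem ha))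
        · rw [commutatorElement_def]
          exact D.mul_mem ((mem_normalizer_iff.mp (hDn ha) _).mp hd) (D.inv_mem hd)
      rw [CfsgLib.Coprime.inf_eq_bot_of_coprime (hA.coprime_dvd_right dvd_rfl |> fun h => by
        obtain ⟨k, hk⟩ := IsPGroup.iff_card.mp (hQq.to_le (inf_le_left : D ≤ Q))
        rw [hk]; exact h.pow_right k), mem_bot, commutatorElement_eq_one_iff_mul_comm] at h1
      exact h1.symm
  have hAPA : ⁅A, P⁆ ≤ A := CfsgLib.Coprime.commutator_le_of_le_normalizer hPA
  have h1 : ⁅A, P⁆ = ⊥ := by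
    have hle : ⁅A, P⁆ ≤ Q :=
      (le_inf (commutator_mono hAH le_rfl) (hAPA.trans hAQ)).trans hKC
    obtain ⟨k, hk⟩ := IsPGroup.iff_card.mp (hQq.to_le hle)
    refine Subgroup.card_eq_one.mp (Nat.eq_one_of_dvd_coprimes (hA.pow_right k)
      (card_dvd_of_le hAPA) ?_)
    rw [hk]
  refine ⟨h1, ?_⟩
  -- the intersection
  set N := K ⊔ B with hN
  have hBH' : B ≤ H := hBH.trans inf_le_left
  have hNH : N ≤ H := sup_le hKH hBH'
  have hHN : H ≤ normalizer (N : Set G) := by
    have e := CfsgLib.Coprime.commutator_sup_centralizer hPH hcop (Or.inl hPs)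
    refine le_trans e.ge (sup_le ((le_sup_left : K ≤ N).trans le_normalizer) ?_)
    exact CfsgLib.Coprime.le_normalizer_sup_sup (inf_le_left.trans hHK) hBn
  set M := N ⊓ centralizer (Q : Set G) with hM
  have hHM : H ≤ normalizer (M : Set G) :=
    CfsgLib.Coprime.le_normalizer_inf_inf hHN (CfsgLib.Coprime.le_normalizer_centralizer hHQ)
  have hMH : M ≤ H := inf_le_left.trans hNH
  have hDM : A ⊓ B ≤ M := le_inf (inf_le_right.trans le_sup_right) (inf_le_left.trans hAQ)
  have hKn : B ≤ normalizer (K : Set G) := hBH'.trans hHK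
  have hW : (pPrimeCore q M).map M.subtype = ⊥ :=
    hO _ ((map_subtype_le _).trans hMH)
      (hHM.trans (CfsgLib.Base.normalizer_le_normalizer_map_subtype M _))
      (CfsgLib.Base.coprime_card_map_pPrimeCore M)
  refine le_bot_iff.mp (le_trans ?_ hW.le)
  rw [← map_subgroupOf_eq_of_le hDM]
  refine map_mono (le_pPrimeCore_of_central (K.subgroupOf M) ?_ ?_ ?_ _ ?_)
  · intro x hx
    have hxQ : (x : G) ∈ Q := hKC ⟨hx, x.2.2⟩
    exact mem_center_iff.mpr fun y => Subtype.ext (mem_centralizer_iff.mp y.2.2 x hxQ).symm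
  · refine IsPGroup.of_injective hQq
      ⟨⟨fun x => (⟨(x.1 : G), hKC ⟨x.2, x.1.2.2⟩⟩ : Q), rfl⟩, fun x y => rfl⟩ ?_
    intro x y h
    exact Subtype.ext (Subtype.ext (congrArg (fun u : Q => (u : G)) h))
  · -- the index divides that of `K` in `N`
    have hMK : M ≤ normalizer (K : Set G) := hMH.trans hHK
    have hNc : (K.subgroupOf N).index ∣ Nat.card B := by
      haveI : (K.subgroupOf N).Normal :=
        normal_subgroupOf_of_le_normalizer (hNH.trans hHK)
      have hsurj : Function.Surjective ((QuotientGroup.mk' (K.subgroupOf N)).comp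
          (Subgroup.inclusion (le_sup_right : B ≤ N))) := by
        intro x
        obtain ⟨⟨y, hy⟩, rfl⟩ := QuotientGroup.mk'_surjective (K.subgroupOf N) x
        have hy' : y ∈ B ⊔ K := by rwa [sup_comm]
        obtain ⟨b, hb, k, hk, rfl⟩ := (CfsgLib.Coprime.mem_sup_iff_of_le_normalizer hKn).mp hy'
        refine ⟨⟨b, hb⟩, ?_⟩
        rw [MonoidHom.comp_apply, QuotientGroup.mk'_apply, QuotientGroup.mk'_apply, QuotientGroup.eq,
          mem_subgroupOf]
        simpa using hk
      exact card_dvd_of_surjective _ hsurj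
    refine (hB.coprime_dvd_left hNc).coprime_dvd_left ?_
    show K.relIndex M ∣ K.relIndex N
    haveI : (K.subgroupOf N).Normal := normal_subgroupOf_of_le_normalizer (hNH.trans hHK)
    rw [← Subgroup.relIndex_subgroupOf (H := K) (inf_le_left : M ≤ N)]
    exact Subgroup.relIndex_dvd_index_of_normal _ _
  · rw [CfsgLib.Base.card_subgroupOf hDM]
    exact hA.coprime_dvd_left (card_dvd_of_le inf_le_left)

/-- Let G be a finite group with Sylow p-subgroup P and H = O_{p'}(G), and suppose G = PH and the commutator subgroup [H, P] is solvable. Let q be a prime and z an element of q-power order of C_H(P). Then (O_{q'}(C_H(z)) ∩ O_{q'}(C_H(P))) · [O_{q'}(C_H(z)), P] ≤ O_{q'}(H). -/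
theorem result {G : Type*} [Group G] [Finite G] {p : ℕ} [Fact p.Prime]
    (P : Sylow p G) (hPH : Cfsg.pPrimeCore p G ⊔ (P : Subgroup G) = ⊤)
    (hsol : Group.IsSolvable ↥⁅Cfsg.pPrimeCore p G, (P : Subgroup G)⁆)
    {q : ℕ} [Fact q.Prime] (z : G) (hzH : z ∈ Cfsg.pPrimeCore p G) (hzP : z ∈ Subgroup.centralizer ((P : Subgroup G) : Set G))
    (hz : ∃ k : ℕ, orderOf z = q ^ k) :
    ((Cfsg.pPrimeCore q ↥(Cfsg.pPrimeCore p G ⊓ Subgroup.centralizer ({z} : Set G))).map
        (Cfsg.pPrimeCore p G ⊓ Subgroup.centralizer ({z} : Set G)).subtype ⊓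
      (Cfsg.pPrimeCore q ↥(Cfsg.pPrimeCore p G ⊓ Subgroup.centralizer ((P : Subgroup G) : Set G))).map
        (Cfsg.pPrimeCore p G ⊓ Subgroup.centralizer ((P : Subgroup G) : Set G)).subtype) ⊔
    ⁅(Cfsg.pPrimeCore q ↥(Cfsg.pPrimeCore p G ⊓ Subgroup.centralizer ({z} : Set G))).map
        (Cfsg.pPrimeCore p G ⊓ Subgroup.centralizer ({z} : Set G)).subtype, (P : Subgroup G)⁆ ≤
    (Cfsg.pPrimeCore q ↥(Cfsg.pPrimeCore p G)).map (Cfsg.pPrimeCore p G).subtype := by
  set H := pPrimeCore p G with hH
  set P' := (P : Subgroup G) with hP'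
  set CZ := H ⊓ centralizer ({z} : Set G) with hCZ
  set CP := H ⊓ centralizer (P' : Set G) with hCP
  set A := (pPrimeCore q CZ).map CZ.subtype with hA
  set B := (pPrimeCore q CP).map CP.subtype with hB
  haveI hHn : H.Normal := Cfsg.pPrimeCore_normal p G
  set R := (pPrimeCore q H).map H.subtype with hR
  haveI hRn : R.Normal := by
    rw [← normalizer_eq_top_iff, eq_top_iff]
    exact (normalizer_eq_top_iff.mpr hHn).ge.trans
      (CfsgLib.Base.normalizer_le_normalizer_map_subtype H _)
  have hRH : R ≤ H := map_subtype_le _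
  have hRc : (Nat.card R).Coprime q := CfsgLib.Base.coprime_card_map_pPrimeCore H
  set f := QuotientGroup.mk' R with hf
  have hfs : Function.Surjective f := QuotientGroup.mk'_surjective R
  have hker : f.ker = R := QuotientGroup.ker_mk' R
  haveI : (H.map f).Normal := hHn.map f hfs
  have hPp : IsPGroup p P' := P.2
  haveI : Group.IsNilpotent P' := hPp.isNilpotent
  have hcop : (Nat.card P').Coprime (Nat.card H) := by
    obtain ⟨k, hk⟩ := IsPGroup.iff_card.mp hPp
    rw [hk]
    exact ((CfsgLib.Base.pPrimeCore_coprime p G).pow_right k).symm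
  have hlift : ∀ (S : Subgroup G), Group.IsSolvable S → S ≤ normalizer (R : Set G) →
      (Nat.card S).Coprime (Nat.card R) →
      H.map f ⊓ centralizer ((S.map f : Subgroup (G ⧸ R)) : Set (G ⧸ R)) ≤
        (H ⊓ centralizer (S : Set G)).map f := by
    rintro S hS hSn hSc _ ⟨⟨k, hk, rfl⟩, hkc⟩
    obtain ⟨c, hc, hkc'⟩ := CfsgLib.Coprime.exists_centralizing_in_coset hSn hSc (Or.inl hS) (k := k)
      (fun a ha => by
        rw [← hker, MonoidHom.mem_ker, map_mul, map_mul, map_mul, map_inv, map_inv,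
          mem_centralizer_iff.mp hkc (f a) ⟨a, ha, rfl⟩, mul_inv_cancel_right, inv_mul_cancel])
    refine ⟨c, ⟨?_, hc⟩, ?_⟩
    · simpa using mul_mem hk (hRH hkc')
    · rw [← mul_inv_cancel_left k c, map_mul, show f (k⁻¹ * c) = 1 by
        rw [← MonoidHom.mem_ker, hker]; exact hkc', mul_one]
  have hnR : ∀ S : Subgroup G, S ≤ normalizer (R : Set G) := fun S =>
    le_top.trans (normalizer_eq_top_iff.mpr hRn).ge
  have hzc : (Nat.card (zpowers z)).Coprime (Nat.card R) := by
    obtain ⟨k, hk⟩ := hz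
    rw [Nat.card_zpowers, hk]; exact (hRc.symm.pow_left k)
  have hCZn : CZ ≤ normalizer (A : Set G) := CfsgLib.Base.le_normalizer_map_pPrimeCore CZ
  have hmapn : ∀ {S T : Subgroup G}, S ≤ normalizer (T : Set G) →
      S.map f ≤ normalizer ((T.map f : Subgroup (G ⧸ R)) : Set (G ⧸ R)) := fun h =>
    (map_mono h).trans (Subgroup.le_normalizer_map f)
  have hPA : P' ≤ normalizer (A : Set G) := by
    refine le_trans ?_ (CfsgLib.Base.normalizer_le_normalizer_map_subtype CZ _)
    refine CfsgLib.Coprime.le_normalizer_inf_inf (le_top.trans (normalizer_eq_top_iff.mpr hHn).ge) ?_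
    refine le_trans ?_ le_normalizer
    intro x hx
    exact mem_centralizer_singleton_iff.mpr (mem_centralizer_iff.mp hzP x hx)
  obtain ⟨h1, h2⟩ := core_case (q := q) (H.map f) (P'.map f)
    ((hcop.coprime_dvd_left (Subgroup.card_map_dvd P' f)).coprime_dvd_right (Subgroup.card_map_dvd H f))
    (CfsgLib.Coprime.isSolvable_map f inferInstance)
    (by rw [← map_commutator]; exact CfsgLib.Coprime.isSolvable_map f hsol)
    (by
      intro N hN hNn hNc
      set N' := N.comap f with hN'
      have hN'H : N' ≤ H := (comap_mono hN).trans (by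
        rw [comap_map_eq, hker, sup_eq_left.mpr hRH])
      have hHN' : H ≤ normalizer (N' : Set G) := by
        intro x hx
        refine mem_normalizer_iff.mpr fun y => ?_
        have := mem_normalizer_iff.mp (hNn ⟨x, hx, rfl⟩) (f y)
        simpa [hN', map_mul, map_inv] using this
      have hRN' : R ≤ N' := hker ▸ MonoidHom.ker_le_comap f N
      have hc' : (Nat.card N').Coprime q := by
        have e : Nat.card ↥(N'.map f) = R.relIndex N' := CfsgLib.Coprime.card_map_mk' R N'
        have e1 : N'.map f = N := map_comap_eq_self_of_surjective hfs N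
        rw [e1] at e
        have h2 := Subgroup.relIndex_mul_relIndex ⊥ R N' bot_le hRN'
        rw [relIndex_bot_left, relIndex_bot_left, ← e] at h2
        rw [← h2]
        exact Nat.Coprime.mul_left hRc hNc
      have hle : N' ≤ R := CfsgLib.Base.le_map_pPrimeCore hN'H hHN' hc'
      rw [← map_comap_eq_self_of_surjective hfs N, Subgroup.map_eq_bot_iff, hker]
      exact hle)
    (f z) (mem_map_of_mem f hzH)
    (by
      obtain ⟨k, hk⟩ := hz
      obtain ⟨j, -, hj⟩ := (Nat.dvd_prime_pow Fact.out).mp (hk ▸ orderOf_map_dvd f z)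
      exact ⟨j, hj⟩)
    (A.map f) (map_mono ((map_subtype_le _).trans inf_le_left))
    (by
      rintro _ ⟨a, ha, rfl⟩
      have := mem_centralizer_singleton_iff.mp ((map_subtype_le _ ha : a ∈ CZ).2)
      rw [mem_centralizer_singleton_iff, ← map_mul, ← map_mul, this])
    (by
      have h := hlift (zpowers z) inferInstance (hnR _) hzc
      rw [MonoidHom.map_zpowers, ecz, ecz] at h
      exact h.trans (hmapn hCZn))
    (hmapn hPA)
    ((CfsgLib.Base.coprime_card_map_pPrimeCore CZ).coprime_dvd_left (Subgroup.card_map_dvd A f))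
    (B.map f) ((map_mono (map_subtype_le _)).trans
      ((map_inf_le _ _ f).trans (inf_le_inf_left _ (map_centralizer_le_centralizer_image _ f))))
    (by
      have h := hlift P' inferInstance (hnR _) (hcop.coprime_dvd_right (card_dvd_of_le hRH))
      exact h.trans (hmapn (CfsgLib.Base.le_normalizer_map_pPrimeCore CP)))
    ((CfsgLib.Base.coprime_card_map_pPrimeCore CP).coprime_dvd_left (Subgroup.card_map_dvd B f))
  refine sup_le ?_ ?_
  · have h : (A ⊓ B).map f = ⊥ := le_bot_iff.mp ((map_inf_le _ _ f).trans h2.le)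
    rwa [Subgroup.map_eq_bot_iff, hker] at h
  · rw [← map_commutator, Subgroup.map_eq_bot_iff, hker] at h1
    exact h1

end Cfsg.Agent.S3819
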