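import Cfsg.Statements.S3820


set_option autoImplicit false
open Cfsg

namespace Cfsg.Agent.S3820

/-- Call a subgroup H of G pronormal if H and gHg⁻¹ are conjugate inside ⟨H, gHg⁻¹⟩ for every g ∈ G. Let S ≤ H ≤ G be subgroups of a finite group with S pronormal in G (for instance S a Sylow subgroup). Then H is pronormal in G if and only if H and gHg⁻¹ are conjugate inside ⟨H, gHg⁻¹⟩ for every g ∈ N_G(S). In particular H is pronormal whenever N_G(S) ≤ H. -/
theorem result {G : Type*} [Group G] [Finite G] (S H : Subgroup G) (hSH : S ≤ H)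
    (hS : Cfsg.IsPronormal S) :
    Cfsg.IsPronormal H ↔
      ∀ g ∈ Subgroup.normalizer (S : Set G), ∃ w ∈ H ⊔ H.map (MulAut.conj g).toMonoidHom,
        H.map (MulAut.conj g).toMonoidHom = H.map (MulAut.conj w).toMonoidHom := by
  classical
  constructor
  · exact fun h g _ => h g
  intro h g
  set J := H ⊔ H.map (MulAut.conj g).toMonoidHom with hJ
  have hcomp : ∀ (X : Subgroup G) (u v : G), (X.map (MulAut.conj v).toMonoidHom).map
      (MulAut.conj u).toMonoidHom = X.map (MulAut.conj (u * v)).toMonoidHom := by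
    intro X u v
    rw [Subgroup.map_map]; congr 1; ext y; simp [mul_assoc]
  obtain ⟨u, hu, hSu⟩ := hS g
  have huJ : u ∈ J := sup_le_sup hSH (Subgroup.map_mono hSH) hu
  have hn : u⁻¹ * g ∈ Subgroup.normalizer (S : Set G) := by
    rw [Subgroup.mem_normalizer_iff_map_conj_eq]
    show S.map (MulAut.conj (u⁻¹ * g)).toMonoidHom = S
    rw [← hcomp, hSu, hcomp, inv_mul_cancel]
    ext y; simp
  obtain ⟨w, hw, hHw⟩ := h _ hn
  have hwJ : w ∈ J := by
    refine (sup_le le_sup_left ?_ : H ⊔ H.map (MulAut.conj (u⁻¹ * g)).toMonoidHom ≤ J) hw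
    rw [← hcomp]
    rintro _ ⟨y, hy, rfl⟩
    exact mul_mem (mul_mem (inv_mem huJ) (Subgroup.mem_sup_right hy)) (inv_mem (inv_mem huJ))
  refine ⟨u * w, mul_mem huJ hwJ, ?_⟩
  rw [← hcomp H u w, ← hHw, hcomp, mul_inv_cancel_left]

end Cfsg.Agent.S3820
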