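import Cfsg.Statements.S3821


set_option autoImplicit false
open Cfsg

namespace Cfsg.Agent.S3821

/-- Let A be a normal subgroup of the finite group G and H a subgroup of A. Then H is pronormal in G (H and gHg⁻¹ conjugate inside ⟨H, gHg⁻¹⟩ for every g ∈ G) if and only if H is pronormal in A and G = A · N_G(H). -/
theorem result {G : Type*} [Group G] [Finite G] (A H : Subgroup G) [A.Normal] (hHA : H ≤ A) :
    Cfsg.IsPronormal H ↔ (Cfsg.IsPronormal (H.subgroupOf A) ∧ A ⊔ Subgroup.normalizer (H : Set G) = ⊤) := by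
  classical
  have hcomp : ∀ (X : Subgroup G) (u v : G), (X.map (MulAut.conj v).toMonoidHom).map
      (MulAut.conj u).toMonoidHom = X.map (MulAut.conj (u * v)).toMonoidHom := by
    intro X u v
    rw [Subgroup.map_map]; congr 1; ext y; simp [mul_assoc]
  have hmap : ∀ a : A, ((H.subgroupOf A).map (MulAut.conj a).toMonoidHom).map A.subtype
      = H.map (MulAut.conj (a : G)).toMonoidHom := by
    intro a
    rw [Subgroup.map_map]
    conv_rhs => rw [← Subgroup.map_subgroupOf_eq_of_le hHA]
    rw [Subgroup.map_map]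
    congr 1
  have hsup : ∀ a : A, (H.subgroupOf A ⊔ (H.subgroupOf A).map (MulAut.conj a).toMonoidHom).map
      A.subtype = H ⊔ H.map (MulAut.conj (a : G)).toMonoidHom := by
    intro a
    rw [Subgroup.map_sup, hmap, Subgroup.map_subgroupOf_eq_of_le hHA]
  have hle : ∀ g : G, H ⊔ H.map (MulAut.conj g).toMonoidHom ≤ A := by
    intro g
    refine sup_le hHA ?_
    rintro _ ⟨y, hy, rfl⟩
    exact Subgroup.Normal.conj_mem inferInstance y (hHA hy) g
  constructor
  · intro h
    refine ⟨fun a => ?_, ?_⟩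
    · obtain ⟨x, hx, he⟩ := h (a : G)
      refine ⟨⟨x, hle _ hx⟩, ?_, ?_⟩
      · rw [← hsup a] at hx
        obtain ⟨y, hy, hyx⟩ := hx
        exact (Subtype.ext (by exact hyx) : y = ⟨x, _⟩) ▸ hy
      · apply Subgroup.map_injective A.subtype_injective
        rw [hmap, hmap, he]
    · rw [eq_top_iff]
      intro g _
      obtain ⟨x, hx, he⟩ := h g
      have : x⁻¹ * g ∈ Subgroup.normalizer (H : Set G) := by
        rw [Subgroup.mem_normalizer_iff_map_conj_eq]
        show H.map (MulAut.conj (x⁻¹ * g)).toMonoidHom = H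
        rw [← hcomp, he, hcomp, inv_mul_cancel]
        ext y; simp
      simpa using Subgroup.mul_mem_sup (hle g hx) this
  · rintro ⟨hA, htop⟩ g
    obtain ⟨a, ha, n, hn, rfl⟩ := Subgroup.mem_sup_of_normal_left.1 (htop ▸ Subgroup.mem_top g :
      g ∈ A ⊔ Subgroup.normalizer (H : Set G))
    have hHn : H.map (MulAut.conj (a * n)).toMonoidHom = H.map (MulAut.conj a).toMonoidHom := by
      rw [← hcomp, show H.map (MulAut.conj n).toMonoidHom = H from
        Subgroup.mem_normalizer_iff_map_conj_eq.1 hn]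
    obtain ⟨x, hx, he⟩ := hA ⟨a, ha⟩
    refine ⟨x, ?_, ?_⟩
    · rw [hHn]
      have := hsup ⟨a, ha⟩
      exact this ▸ Subgroup.mem_map_of_mem A.subtype hx
    · have := congrArg (Subgroup.map A.subtype) he
      rw [hmap, hmap] at this
      rw [hHn]; exact this

end Cfsg.Agent.S3821
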