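import Cfsg.Statements.S3822
import Cfsg.Agent.Lib.Rep.TwoConjugateGenerated

set_option autoImplicit false
open Cfsg

namespace Cfsg.Agent.S3822

/-- Let G be a finite group and P a subgroup of prime order p > 3. Consider the solvable subgroups A of G of the form A = ⟨P, aPa⁻¹⟩ for some a ∈ A, and let A be maximal under inclusion among them. Then for every nilpotent subgroup V of G normalized by A, the subgroup F(A)V generated by the Fitting subgroup of A and V is nilpotent. -/
theorem result {G : Type*} [Group G] [Finite G]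
    {p : ℕ} [Fact p.Prime] (hp : 3 < p) (P : Subgroup G) (hP : Nat.card P = p) (A : Subgroup G)
    (hA : Group.IsSolvable ↥A ∧ ∃ a ∈ A, A = P ⊔ P.map (MulAut.conj a).toMonoidHom)
    (hmax : ∀ B : Subgroup G, A ≤ B → Group.IsSolvable ↥B → (∃ b ∈ B, B = P ⊔ P.map (MulAut.conj b).toMonoidHom) → B = A)
    (V : Subgroup G) (hV : Group.IsNilpotent ↥V) (hAV : A ≤ Subgroup.normalizer (V : Set G)) :
    Group.IsNilpotent ↥((Cfsg.fittingSubgroup ↥A).map A.subtype ⊔ V) := by
  classical
  obtain ⟨hAs, a, haA, hAgen⟩ := hA
  let X := A ⊔ V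
  haveI := hV
  let S : ∀ r : Nat.Primes, Sylow (r : ℕ) V := fun r => Classical.arbitrary _
  let Vr : Nat.Primes → Subgroup G := fun r => (S r : Subgroup V).map V.subtype
  have hVr : V = ⨆ r, Vr r := by
    simp only [Vr]
    rw [← Subgroup.map_iSup, CfsgLib.Base.iSup_sylow_eq_top S, ← MonoidHom.range_eq_map,
      Subgroup.range_subtype]
  have hVchar : ∀ r : Nat.Primes, Subgroup.normalizer (V : Set G) ≤
      Subgroup.normalizer (Vr r : Set G) := by
    intro r
    haveI := Fact.mk r.2
    haveI : (S r : Subgroup V).Characteristic := Sylow.characteristic_of_normal _ inferInstance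
    exact CfsgLib.Base.normalizer_le_normalizer_map_subtype V _
  have hXV : X ≤ Subgroup.normalizer (V : Set G) := sup_le hAV Subgroup.le_normalizer
  have hVX : V ≤ (Cfsg.fittingSubgroup X).map X.subtype :=
    CfsgLib.Base.le_map_fittingSubgroup le_sup_right hXV hV
  have hFX : ∀ r : Nat.Primes, (Cfsg.pCore (r : ℕ) A).map A.subtype ≤
      (Cfsg.fittingSubgroup X).map X.subtype := by
    intro r
    haveI := Fact.mk r.2
    set R := (Cfsg.pCore (r : ℕ) A).map A.subtype
    have hR : IsPGroup (r : ℕ) R := CfsgLib.Base.isPGroup_map_pCore _ A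
    have hRA : R ≤ A := Subgroup.map_subtype_le _
    have hAR : A ≤ Subgroup.normalizer (R : Set G) := CfsgLib.Base.le_normalizer_map_pCore A
    have hVp : IsPGroup (r : ℕ) (Vr r) := (S r).isPGroup'.map _
    have hN : IsPGroup (r : ℕ) (R ⊔ Vr r : Subgroup G) :=
      hR.to_sup_of_normal_right' hVp ((hRA.trans hAV).trans (hVchar r))
    have hXN : X ≤ Subgroup.normalizer ((R ⊔ Vr r : Subgroup G) : Set G) := by
      refine sup_le (le_trans (le_inf hAR (hAV.trans (hVchar r)))
        (Subgroup.normalizer_inf_normalizer_le_normalizer_sup _ _)) ?_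
      conv_lhs => rw [hVr]
      refine iSup_le fun s => ?_
      by_cases hsr : s = r
      · subst hsr
        exact le_sup_right.trans Subgroup.le_normalizer
      haveI := Fact.mk s.2
      refine le_trans (le_inf ?_ ?_) (Subgroup.normalizer_inf_normalizer_le_normalizer_sup _ _)
      · exact (CfsgLib.Rep.TwoConjugateGenerated.le_centralizer hp P hP A hAs haA hAgen hmax
          (r := r) (q := s) (fun h => hsr (Subtype.ext h.symm)) R hRA hR hAR (Vr s)
          ((S s).isPGroup'.map _) (hAV.trans (hVchar s))).trans (Subgroup.centralizer_le_normalizer _)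
      · exact (Subgroup.map_subtype_le _).trans (Subgroup.le_normalizer.trans (hVchar r))
    refine le_trans (le_sup_left (b := Vr r)) (CfsgLib.Base.le_map_fittingSubgroup
      (sup_le (hRA.trans le_sup_left) ((Subgroup.map_subtype_le _).trans le_sup_right)) hXN
      hN.isNilpotent)
  refine CfsgLib.Base.isNilpotent_of_le (sup_le ?_ hVX) (CfsgLib.Base.isNilpotent_map_fittingSubgroup X)
  rw [CfsgLib.Base.fittingSubgroup_eq_iSup_pCore ↥A, Subgroup.map_iSup]
  exact iSup_le hFX

end Cfsg.Agent.S3822
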