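import Cfsg.Statements.S3824
import Cfsg.Agent.Lib.Chars.Burnside
import Cfsg.Agent.Lib.FgsC.Index

universe uS3824

theorem CfsgLib.PGroups.isSolvable_of_abelian_two_power_index : ∀ (n : ℕ) (G : Type uS3824) [Group G] [Finite G],
    Nat.card G = n → ∀ A : Subgroup G, IsMulCommutative A → (∃ k : ℕ, A.index = 2 ^ k) → Group.IsSolvable G := by
  intro n
  induction n using Nat.strong_induction_on with
  | _ n ih =>
  intro G _ _ hn A hA hidx
  obtain ⟨k, hk⟩ := hidx
  rcases subsingleton_or_nontrivial G with h | h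
  · infer_instance
  by_cases hns : ∃ N : Subgroup G, N.Normal ∧ N ≠ ⊥ ∧ N ≠ ⊤
  · obtain ⟨N, hN, hb, ht⟩ := hns
    haveI := hN
    have h1 : A.relIndex N ∣ 2 ^ k := hk ▸ CfsgLib.FgsC.relIndex_dvd_index A N
    obtain ⟨i, -, hi⟩ := (Nat.dvd_prime_pow Nat.prime_two).mp h1
    have hcard : Nat.card N < n := hn ▸ lt_of_le_of_ne (Subgroup.card_le_card_group N)
      (fun he => ht (Subgroup.card_eq_iff_eq_top N |>.mp he))
    haveI : Group.IsSolvable N := ih _ hcard N rfl (A.subgroupOf N)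
      ⟨⟨fun a b => Subtype.ext (Subtype.ext (congrArg (fun t : A => (t : G))
        (hA.is_comm.comm ⟨_, a.2⟩ ⟨_, b.2⟩) :))⟩⟩ ⟨i, hi⟩
    have hq : Nat.card (G ⧸ N) < n := by
      rw [← hn, ← N.card_mul_index]
      have h2 : 1 < Nat.card N := (Subgroup.one_lt_card_iff_ne_bot N).mpr hb
      exact lt_mul_left (Nat.pos_of_ne_zero Subgroup.FiniteIndex.index_ne_zero) h2
    obtain ⟨j, -, hj⟩ := (Nat.dvd_prime_pow Nat.prime_two).mp
      (hk ▸ Subgroup.index_map_dvd A (QuotientGroup.mk'_surjective N))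
    haveI : Group.IsSolvable (G ⧸ N) := ih _ hq (G ⧸ N) rfl (A.map (QuotientGroup.mk' N))
      ⟨⟨fun a b => by
        obtain ⟨_, x, hx, rfl⟩ := a
        obtain ⟨_, y, hy, rfl⟩ := b
        apply Subtype.ext
        show QuotientGroup.mk' N x * QuotientGroup.mk' N y = QuotientGroup.mk' N y * QuotientGroup.mk' N x
        have e : x * y = y * x := congrArg (fun t : A => (t : G)) (hA.is_comm.comm ⟨x, hx⟩ ⟨y, hy⟩)
        rw [← map_mul, ← map_mul, e]⟩⟩
      ⟨j, hj⟩
    exact Group.isSolvable_of_ker_le_range N.subtype (QuotientGroup.mk' N) (by simp)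
  haveI : IsSimpleGroup G :=
    { eq_bot_or_eq_top_of_normal := fun N hN => by
        by_contra hc; push Not at hc; exact hns ⟨N, hN, hc.1, hc.2⟩ }
  rcases eq_or_ne A ⊥ with hb | hb
  · haveI : Fact (Nat.Prime 2) := ⟨Nat.prime_two⟩
    haveI := (IsPGroup.of_card (n := k) (by rw [← hk, hb, Subgroup.index_bot]) : IsPGroup 2 G).isNilpotent
    infer_instance
  obtain ⟨a, haA, ha1⟩ := (Subgroup.ne_bot_iff_exists_ne_one.mp hb : ∃ a : A, a ≠ 1) |>
    fun ⟨a, ha⟩ => (⟨(a : G), a.2, fun h => ha (Subtype.ext h)⟩ : ∃ a : G, a ∈ A ∧ a ≠ 1)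
  have hle : A ≤ Subgroup.centralizer ({a} : Set G) := fun x hx =>
    Subgroup.mem_centralizer_singleton_iff.mpr (congrArg (fun t : A => (t : G)) (hA.is_comm.comm ⟨x, hx⟩ ⟨a, haA⟩))
  obtain ⟨j, -, hj⟩ := (Nat.dvd_prime_pow Nat.prime_two).mp (hk ▸ Subgroup.index_dvd_of_le hle)
  haveI : Fact (Nat.card G).Prime := ⟨CfsgLib.Chars.prime_card_of_class_prime_pow 2 j Nat.prime_two a ha1 hj⟩
  haveI : IsCyclic G := isCyclic_of_prime_card (p := Nat.card G) rfl
  infer_instance

set_option autoImplicit false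
open Cfsg

namespace Cfsg.Agent.S3824

/-- Every finite group having an abelian subgroup whose index is a power of 2 is solvable. -/
theorem result {G : Type*} [Group G] [Finite G]
    (A : Subgroup G) (hA : IsMulCommutative A) (hidx : ∃ k : ℕ, A.index = 2 ^ k) : Group.IsSolvable G := by
  exact CfsgLib.PGroups.isSolvable_of_abelian_two_power_index _ G rfl A hA hidx

end Cfsg.Agent.S3824
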