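import Cfsg.Statements.S3825
import Mathlib
open Subgroup
open scoped commutatorElement

set_option autoImplicit false
open Cfsg

namespace Cfsg.Agent.S3825

/-- Let U be a subgroup of a finite group H and w an involution of H normalizing U and commuting with exactly two elements of U, the identity and y. If V is a non-cyclic elementary abelian 2-subgroup of U containing y which is normal in U and invariant under w, then V is a Sylow 2-subgroup of U, V has order 4, and U/V is abelian. -/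
theorem result {H : Type*} [Group H] [Finite H] (U : Subgroup H) (w : H) (hw : orderOf w = 2)
    (hwU : w ∈ Subgroup.normalizer (U : Set H)) (y : H) (hy : y ≠ 1) (hyU : y ∈ U)
    (hfix : ∀ u ∈ U, w * u * w⁻¹ = u ↔ (u = 1 ∨ u = y))
    (V : Subgroup H) (hVU : V ≤ U) (hVn : (V.subgroupOf U).Normal) (hVw : ∀ v ∈ V, w * v * w⁻¹ ∈ V)
    (hVe : Cfsg.IsElementaryAbelian 2 V) (hVc : ¬ IsCyclic ↥V) (hyV : y ∈ V) :
    ¬ 2 ∣ V.relIndex U ∧ Nat.card ↥V = 4 ∧ ⁅U, U⁆ ≤ V := by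
  obtain ⟨hVcomm, hV2⟩ := hVe
  have hw2 : w * w = 1 := by rw [← sq, ← hw, pow_orderOf_eq_one]
  have hwinv : w⁻¹ = w := inv_eq_of_mul_eq_one_left hw2
  have hcV : ∀ a ∈ V, ∀ b ∈ V, a * b = b * a := fun a ha b hb =>
    congrArg Subtype.val (hVcomm.is_comm.comm (⟨a, ha⟩ : V) ⟨b, hb⟩)
  have hinv : ∀ a ∈ V, a⁻¹ = a := fun a ha => inv_eq_of_mul_eq_one_left (by rw [← sq]; exact hV2 a ha)
  -- the hom `v ↦ v * w v w⁻¹`
  let f : ↥V →* ↥V :=
    { toFun := fun v => ⟨(v : H) * (w * v * w⁻¹), mul_mem v.2 (hVw _ v.2)⟩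
      map_one' := by ext; simp
      map_mul' := fun a b => by
        ext
        show (a : H) * b * (w * ((a : H) * b) * w⁻¹) =
          (a : H) * (w * a * w⁻¹) * ((b : H) * (w * b * w⁻¹))
        calc (a : H) * b * (w * ((a : H) * b) * w⁻¹)
            = (a : H) * ((b : H) * (w * a * w⁻¹)) * (w * b * w⁻¹) := by group
          _ = (a : H) * ((w * a * w⁻¹) * b) * (w * b * w⁻¹) := by rw [hcV _ b.2 _ (hVw _ a.2)]
          _ = _ := by group }
  have hfix' : ∀ v : ↥V, w * v * w⁻¹ = v ↔ v = 1 ∨ v = ⟨y, hyV⟩ := fun v => by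
    rw [hfix v (hVU v.2), Subtype.ext_iff, Subtype.ext_iff]; simp
  have hker : ∀ v : ↥V, v ∈ f.ker ↔ v = 1 ∨ v = ⟨y, hyV⟩ := fun v => by
    rw [← hfix', MonoidHom.mem_ker, Subtype.ext_iff]
    show (v : H) * (w * v * w⁻¹) = 1 ↔ _
    rw [mul_eq_one_iff_eq_inv', hinv _ v.2]
  have hrange : ∀ v ∈ f.range, v = 1 ∨ v = ⟨y, hyV⟩ := by
    rintro _ ⟨a, rfl⟩
    rw [← hfix']
    show w * ((a : H) * (w * a * w⁻¹)) * w⁻¹ = (a : H) * (w * a * w⁻¹)
    rw [hcV _ a.2 _ (hVw _ a.2)]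
    calc w * (w * a * w⁻¹ * a) * w⁻¹ = (w * w) * a * w⁻¹ * a * w⁻¹ := by group
      _ = (a : H) * (w * a * w⁻¹) := by rw [hw2, hwinv, one_mul]; group
      _ = _ := by rw [hcV _ a.2 _ (hVw _ a.2)]
  have hy' : (⟨y, hyV⟩ : ↥V) ≠ 1 := fun h => hy (congrArg Subtype.val h)
  have hset : ((f.ker : Subgroup ↥V) : Set ↥V) = {1, ⟨y, hyV⟩} := by
    ext v; simpa using hker v
  have hk2 : Nat.card f.ker = 2 := by
    rw [← SetLike.coe_sort_coe, Nat.card_coe_set_eq, hset, Set.ncard_pair hy'.symm]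
  have hr2 : Nat.card f.range ≤ 2 := by
    rw [← SetLike.coe_sort_coe, Nat.card_coe_set_eq]
    refine (Set.ncard_le_ncard (t := {1, ⟨y, hyV⟩}) ?_).trans_eq (Set.ncard_pair hy'.symm)
    intro v hv; simpa using hrange v hv
  have hcard := f.ker.card_mul_index
  rw [Subgroup.index_ker, hk2] at hcard
  have hr1 : Nat.card f.range ≠ 1 := by
    intro h
    rw [h] at hcard
    haveI : Fact (Nat.card ↥V).Prime := ⟨by rw [← hcard]; exact Nat.prime_two⟩
    exact hVc (isCyclic_of_prime_card (p := Nat.card ↥V) rfl)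
  have hr0 : 0 < Nat.card f.range := Nat.card_pos
  have hV4 : Nat.card ↥V = 4 := by omega
  have hyr : (⟨y, hyV⟩ : ↥V) ∈ f.range := by
    by_contra h
    apply hr1
    rw [Subgroup.card_eq_one, eq_bot_iff]
    intro v hv
    rcases hrange v hv with rfl | rfl
    · exact one_mem _
    · exact absurd hv h
  obtain ⟨t, ht⟩ := hyr
  have hty : (t : H) * (w * t * w⁻¹) = y := congrArg Subtype.val ht
  -- the action on `U / V`
  set N : Subgroup ↥U := V.subgroupOf U with hN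
  haveI := hVn
  let φ : ↥U →* ↥U :=
    { toFun := fun u => ⟨w * u * w⁻¹, (mem_normalizer_iff.mp hwU (u : H)).mp u.2⟩
      map_one' := by ext; simp
      map_mul' := fun a b => by ext; show w * ((a : H) * b) * w⁻¹ = _; simp only [coe_mul]; group }
  let ψ : ↥U ⧸ N →* ↥U ⧸ N := QuotientGroup.map N N φ fun u hu => hVw _ hu
  have hinvol : Function.Involutive ψ := by
    intro x
    induction x using QuotientGroup.induction_on with
    | H u =>
      show ((φ (φ u) : ↥U) : ↥U ⧸ N) = u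
      congr 1
      apply Subtype.ext
      show w * (w * u * w⁻¹) * w⁻¹ = u
      calc w * (w * u * w⁻¹) * w⁻¹ = (w * w) * u * (w * w)⁻¹ := by group
        _ = u := by rw [hw2]; simp
  have hfpf : MonoidHom.FixedPointFree ψ := by
    intro x
    induction x using QuotientGroup.induction_on with
    | H u =>
      intro hx
      have hv0 : u⁻¹ * φ u ∈ N := QuotientGroup.eq.mp (hx.symm : (u : ↥U ⧸ N) = ((φ u : ↥U) : ↥U ⧸ N))
      have hv : (u : H)⁻¹ * (w * u * w⁻¹) ∈ V := hv0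
      set v := (u : H)⁻¹ * (w * u * w⁻¹) with hvdef
      have hvf : w * v * w⁻¹ = v := by
        have e : w * v * w⁻¹ = v⁻¹ := by
          rw [hvdef]
          simp only [mul_inv_rev, inv_inv, hwinv]
          calc w * ((u : H)⁻¹ * (w * u * w)) * w = w * (u : H)⁻¹ * w * u * (w * w) := by group
            _ = w * ((u : H)⁻¹ * w) * u := by rw [hw2]; group
            _ = _ := by group
        rw [e, hinv v hv]
      rw [QuotientGroup.eq_one_iff]
      show (u : H) ∈ V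
      rcases (hfix v (hVU hv)).mp hvf with h1 | h1
      · rcases (hfix u u.2).mp (inv_mul_eq_one.mp h1).symm with h | h <;> rw [h]
        exacts [one_mem _, hyV]
      · have hu' : w * ((u : H) * t) * w⁻¹ = u * t := by
          calc w * ((u : H) * t) * w⁻¹ = u * v * (w * t * w⁻¹) := by rw [hvdef]; group
            _ = u * ((t : H) * ((w * t * w⁻¹) * (w * t * w⁻¹))) := by rw [h1, ← hty]; group
            _ = _ := by rw [← sq, hV2 _ (hVw _ t.2), mul_one]
        have hut : (u : H) * t ∈ V := by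
          rcases (hfix _ (mul_mem u.2 (hVU t.2))).mp hu' with h | h <;> rw [h]
          exacts [one_mem _, hyV]
        simpa using mul_mem hut (inv_mem t.2)
  refine ⟨?_, hV4, ?_⟩
  · intro h2
    have hodd := hfpf.odd_card_of_involutive hinvol
    rw [← Subgroup.index_eq_card] at hodd
    exact Nat.not_even_iff_odd.mpr hodd (even_iff_two_dvd.mpr h2)
  · rw [commutator_le]
    intro a ha b hb
    have h := hfpf.commute_all_of_involutive hinvol ((⟨a, ha⟩ : ↥U) : ↥U ⧸ N) ((⟨b, hb⟩ : ↥U) : ↥U ⧸ N)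
    have h1 := QuotientGroup.eq.mp (h.eq : _ = _)
    have h2 : ((⟨a, ha⟩ * ⟨b, hb⟩ : ↥U) : H)⁻¹ * ((⟨b, hb⟩ * ⟨a, ha⟩ : ↥U) : H) ∈ V := h1
    have h3 : ((⟨b, hb⟩ * ⟨a, ha⟩ : ↥U) * ((⟨a, ha⟩ * ⟨b, hb⟩ : ↥U))⁻¹ : ↥U) ∈ N :=
      hVn.mem_comm h1
    have h4 := inv_mem h3
    show a * b * a⁻¹ * b⁻¹ ∈ V
    have h5 : (((⟨b, hb⟩ * ⟨a, ha⟩ : ↥U) * ((⟨a, ha⟩ * ⟨b, hb⟩ : ↥U))⁻¹)⁻¹ : ↥U).1 ∈ V := h4
    simpa [mul_assoc] using h5

end Cfsg.Agent.S3825
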