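import Cfsg.Statements.S3835
import Cfsg.Agent.Lib.BlockApps.QdAlt

set_option autoImplicit false
open Cfsg

namespace Cfsg.Agent.S3835

/-- Let p be an odd prime and n a natural number. The alternating group of degree n has a subgroup isomorphic to Qd(p) (the natural semidirect product of an elementary abelian group of order p² by SL₂(p)) if and only if n ≥ p²; and if n < p² then Qd(p) is not even involved in it. -/
theorem result {p : ℕ} [Fact p.Prime] (hp : p ≠ 2) (n : ℕ) : ((∃ H : Subgroup (alternatingGroup (Fin n)), Nonempty (↥H ≃* ↥(Cfsg.qd p))) ↔ p ^ 2 ≤ n) ∧ (n < p ^ 2 → ¬ Cfsg.Involves ↥(Cfsg.qd p) ↥(alternatingGroup (Fin n))) := by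
  classical
  have hno : n < p ^ 2 → ¬ Cfsg.Involves ↥(Cfsg.qd p) ↥(alternatingGroup (Fin n)) := fun hlt =>
    CfsgLib.BlockApps.QdAlt.not_involves_of_comm fun S hS x hx y hy =>
      Subtype.ext (CfsgLib.BlockApps.QdAlt.perm_pSubgroup_comm hlt (S.map (alternatingGroup (Fin n)).subtype)
        (hS.map _) (Subgroup.mem_map_of_mem _ hx) (Subgroup.mem_map_of_mem _ hy))
  refine ⟨⟨fun ⟨H, ⟨e⟩⟩ => ?_, CfsgLib.BlockApps.QdAlt.exists_subgroup_alt hp⟩, hno⟩
  by_contra hlt
  refine hno (not_le.1 hlt) ⟨H, ⊥, by rw [Subgroup.bot_subgroupOf]; infer_instance, ⟨?_⟩⟩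
  exact ((QuotientGroup.quotientMulEquivOfEq (Subgroup.bot_subgroupOf H)).trans QuotientGroup.quotientBot).trans e

end Cfsg.Agent.S3835
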