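import Cfsg.Statements.S3836
import Cfsg.Agent.Lib.Techniques.Stable

set_option autoImplicit false
open Cfsg

namespace Cfsg.Agent.S3836

/-- Let G be a finite group that is p-stable in the normalizer form: for every p-subgroup Q and every x ∈ N_G(Q) with [Q, x, x] = 1, the image of x in N_G(Q)/C_G(Q) lies in O_p(N_G(Q)/C_G(Q)). Then every subgroup of G is p-stable in the same sense. -/
theorem result {G : Type*} [Group G] [Finite G] {p : ℕ} [Fact p.Prime] (hst : Cfsg.IsNormalizerPStable p G) (H : Subgroup G) : Cfsg.IsNormalizerPStable p ↥H := by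
  classical
  intro P hP g hg hq
  set P' : Subgroup G := P.map H.subtype with hP'
  have hcomap : P'.comap H.subtype = P := Subgroup.comap_map_eq_self_of_injective H.subtype_injective P
  have hP'p : IsPGroup p P' := hP.map H.subtype
  have hg' : (g : G) ∈ Subgroup.normalizer (P' : Set G) :=
    Subgroup.le_normalizer_map H.subtype ⟨g, hg, rfl⟩
  have hq' : ⁅⁅P', Subgroup.zpowers (g : G)⁆, Subgroup.zpowers (g : G)⁆ = ⊥ := by
    have : Subgroup.zpowers (g : G) = (Subgroup.zpowers g).map H.subtype :=
      (MonoidHom.map_zpowers H.subtype g).symm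
    rw [this, hP', ← Subgroup.map_commutator, ← Subgroup.map_commutator, hq, Subgroup.map_bot]
  obtain ⟨L, h1, h2, h3, h4, h5⟩ :=
    (CfsgLib.Techniques.mk_mem_pCore_iff hg').1 (hst P' hP'p _ hg' hq')
  have hC : ∀ x : H, x ∈ Subgroup.centralizer (P : Set H) ↔
      (x : G) ∈ Subgroup.centralizer (P' : Set G) := by
    intro x
    constructor
    · rintro hx _ ⟨y, hy, rfl⟩
      exact congrArg Subtype.val (hx y hy)
    · intro hx y hy
      exact Subtype.ext (hx y ⟨y, hy, rfl⟩)
  have hN : ∀ x : H, x ∈ Subgroup.normalizer (P : Set H) ↔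
      (x : G) ∈ Subgroup.normalizer (P' : Set G) := by
    intro x
    constructor
    · intro hx
      exact Subgroup.le_normalizer_map H.subtype ⟨x, hx, rfl⟩
    · intro hx
      rw [← hcomap]
      refine Subgroup.mem_normalizer_iff.2 fun y => ?_
      exact Subgroup.mem_normalizer_iff.1 hx y
  refine (CfsgLib.Techniques.mk_mem_pCore_iff hg).2 ⟨L.comap H.subtype, h1,
    fun x hx => h2 ((hC x).1 hx), fun x hx => (hN x).2 (h3 hx), ?_, fun l hl => ?_⟩
  · intro x hx
    refine Subgroup.mem_normalizer_iff.2 fun y => ?_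
    exact Subgroup.mem_normalizer_iff.1 (h4 ((hN x).1 hx)) y
  · obtain ⟨k, hk⟩ := h5 _ hl
    exact ⟨k, (hC _).2 (by simpa using hk)⟩

end Cfsg.Agent.S3836
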