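import Cfsg.Statements.S3838
import Cfsg.Agent.Lib.Transfer.Tate
import Cfsg.Agent.Lib.Transfer.NormalPComplement
open CfsgLib.Transfer Subgroup
open scoped commutatorElement

set_option autoImplicit false
open Cfsg

namespace Cfsg.Agent.S3838

/-- Let G be a finite group with Sylow p-subgroup P such that N_G(P) has a normal p-complement. Then N_G(Q) has a normal p-complement for every subgroup Q with [P, P] ≤ Q ≤ Φ(P). -/
theorem result {G : Type*} [Group G] [Finite G] {p : ℕ} [Fact p.Prime] (P : Sylow p G) (hN : Cfsg.HasNormalPComplement p ↥(Subgroup.normalizer ((P : Subgroup G) : Set G))) (Q : Subgroup G) (h1 : (commutator ↥(P : Subgroup G)).map (P : Subgroup G).subtype ≤ Q) (h2 : Q ≤ (frattini ↥(P : Subgroup G)).map (P : Subgroup G).subtype) : Cfsg.HasNormalPComplement p ↥(Subgroup.normalizer (Q : Set G)) := by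
  classical
  have hp := Fact.out (p := p.Prime)
  set N := Subgroup.normalizer (Q : Set G) with hNdef
  have hQP : Q ≤ (P : Subgroup G) := h2.trans (map_subtype_le _)
  have hcm : ∀ a ∈ (P : Subgroup G), ∀ b ∈ (P : Subgroup G), ⁅a, b⁆ ∈ Q := fun a ha b hb =>
    h1 ⟨⁅(⟨a, ha⟩ : (P : Subgroup G)), ⟨b, hb⟩⁆, by
      rw [_root_.commutator_def]; exact commutator_mem_commutator (mem_top _) (mem_top _), rfl⟩
  have hPN : (P : Subgroup G) ≤ N := by
    intro a ha
    rw [mem_normalizer_iff]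
    intro q
    constructor
    · intro hq
      have := mul_mem (hcm a ha q (hQP hq)) hq
      rwa [commutatorElement_def, inv_mul_cancel_right] at this
    · intro hq
      have := mul_mem (hcm a⁻¹ (inv_mem ha) _ (hQP hq)) hq
      rwa [commutatorElement_def, inv_mul_cancel_right, inv_inv,
        show a⁻¹ * (a * q * a⁻¹) * a = q by group] at this
  let P₁ : Sylow p N := P.subtype hPN
  have hP₁ : (P₁ : Subgroup N) = (P : Subgroup G).subgroupOf N := rfl
  let Q₁ : Subgroup N := Q.subgroupOf N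
  haveI : Q₁.Normal := Subgroup.normal_subgroupOf_of_le_normalizer le_rfl
  have hQ₁P₁ : Q₁ ≤ (P₁ : Subgroup N) := fun x hx => hQP hx
  -- the normalizer of `P` in `N` has a normal `p`-complement
  let M : Subgroup N := Subgroup.normalizer ((P₁ : Subgroup N) : Set N)
  have hM : M.map N.subtype ≤ Subgroup.normalizer ((P : Subgroup G) : Set G) := by
    rintro _ ⟨x, hx, rfl⟩
    rw [mem_normalizer_iff]
    intro a
    constructor
    · intro ha
      exact (mem_normalizer_iff.1 hx ⟨a, hPN ha⟩).1 ha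
    · intro ha
      have hxa : a = ((x : N) : G)⁻¹ * ((x : G) * a * (x : G)⁻¹) * x := by group
      have haN : a ∈ N := by
        rw [hxa]; exact mul_mem (mul_mem (inv_mem x.2) (hPN ha)) x.2
      exact (mem_normalizer_iff.1 hx ⟨a, haN⟩).2 ha
  have hMc : Cfsg.HasNormalPComplement p M := by
    have h3 := hasNormalPComplement_of_le hM hN
    exact (hasNormalPComplement_congr (M.equivMapOfInjective _ N.subtype_injective)).2 h3
  let P₂ : Sylow p M := P₁.subtype le_normalizer
  haveI hP₂n : (P₂ : Subgroup M).Normal :=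
    Subgroup.normal_subgroupOf_of_le_normalizer le_rfl
  obtain ⟨K, hKn, hKc⟩ := (exists_normal_isComplement'_iff P₂).2 hMc
  haveI := hKn
  have hkey : ∀ y : M, ∀ a : N, a ∈ (P₁ : Subgroup N) → ⁅(y : N), a⁆ ∈ Q₁ := by
    intro y a ha
    obtain ⟨⟨k, b⟩, hkb, -⟩ := hKc.existsUnique y
    have hkb' : (k : M) * (b : M) = y := hkb
    have hka : Commute (k : M) ⟨a, le_normalizer ha⟩ :=
      Subgroup.commute_of_normal_of_disjoint K (P₂ : Subgroup M) hKn hP₂n hKc.disjoint _ _ k.2 ha
    have hb : ((b : M) : N) ∈ (P₁ : Subgroup N) := b.2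
    have h4 : ((⁅((b : M) : N), a⁆ : N) : G) ∈ Q := hcm _ hb _ ha
    have hk2 : Commute ((k : M) : N) ⁅((b : M) : N), a⁆ := by
      have hmem : ⁅((b : M) : N), a⁆ ∈ (P₁ : Subgroup N) :=
        mul_mem (mul_mem (mul_mem hb ha) (inv_mem hb)) (inv_mem ha)
      exact congrArg Subtype.val (Subgroup.commute_of_normal_of_disjoint K (P₂ : Subgroup M) hKn hP₂n
        hKc.disjoint _ (⟨_, le_normalizer hmem⟩ : M) k.2 hmem).eq
    have e : ⁅(y : N), a⁆ = ⁅((b : M) : N), a⁆ := by
      have hka' : Commute ((k : M) : N) a := congrArg Subtype.val hka.eq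
      rw [← hkb', Subgroup.coe_mul]
      calc ⁅((k : M) : N) * ((b : M) : N), a⁆
          = ((k : M) : N) * ⁅((b : M) : N), a⁆ * ((k : M) : N)⁻¹ * ⁅((k : M) : N), a⁆ := by
            simp only [commutatorElement_def]; group
        _ = _ := by rw [hk2.eq, mul_inv_cancel_right,
            commutatorElement_eq_one_iff_mul_comm.2 hka'.eq, mul_one]
    rw [e]; exact h4
  -- the quotient
  let q : N →* N ⧸ Q₁ := QuotientGroup.mk' Q₁
  let Pb : Sylow p (N ⧸ Q₁) := P₁.mapSurjective (QuotientGroup.mk'_surjective Q₁)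
  have hPb : Subgroup.normalizer ((Pb : Subgroup (N ⧸ Q₁)) : Set (N ⧸ Q₁)) ≤
      centralizer ((Pb : Subgroup (N ⧸ Q₁)) : Set (N ⧸ Q₁)) := by
    intro z hz
    obtain ⟨y, rfl⟩ := QuotientGroup.mk'_surjective Q₁ z
    have hback : ∀ x : N, q x ∈ (P₁ : Subgroup N).map q → x ∈ (P₁ : Subgroup N) := by
      intro x hx
      obtain ⟨x', hx', he⟩ := hx
      have : x'⁻¹ * x ∈ Q₁ := QuotientGroup.eq.1 he
      simpa using mul_mem hx' (hQ₁P₁ this)
    have hy : y ∈ M := by
      rw [mem_normalizer_iff]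
      intro x
      constructor
      · intro hx
        refine hback _ ?_
        rw [map_mul, map_mul, map_inv]
        exact (mem_normalizer_iff.1 hz _).1 (mem_map_of_mem q hx)
      · intro hx
        refine hback _ ((mem_normalizer_iff.1 hz _).2 ?_)
        show q y * q x * (q y)⁻¹ ∈ (P₁ : Subgroup N).map q
        rw [← map_inv, ← map_mul, ← map_mul]
        exact mem_map_of_mem q hx
    rw [mem_centralizer_iff]
    rintro _ ⟨a, ha, rfl⟩
    have h5 : q ⁅y, a⁆ = 1 := (QuotientGroup.eq_one_iff _).2 (hkey ⟨y, hy⟩ a ha)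
    rw [map_commutatorElement, commutatorElement_eq_one_iff_mul_comm] at h5
    exact h5.symm
  obtain ⟨L, hLn, hL⟩ := (exists_normal_isComplement'_iff Pb).2
    (hasNormalPComplement_of_normalizer_le_centralizer Pb hPb)
  haveI := hLn
  let L₁ : Subgroup N := L.comap q
  haveI : L₁.Normal := hLn.comap q
  have hLP : L₁ ⊓ (P₁ : Subgroup N) ≤ (frattini (P₁ : Subgroup N)).map (P₁ : Subgroup N).subtype := by
    rintro x ⟨hxL, hxP⟩
    have hxQ : x ∈ Q₁ := (QuotientGroup.eq_one_iff x).1
      (hL.disjoint.le_bot ⟨hxL, mem_map_of_mem q hxP⟩ : q x ∈ (⊥ : Subgroup (N ⧸ Q₁)))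
    obtain ⟨w, hw, hwx⟩ := h2 hxQ
    have e : (P₁ : Subgroup N) ≃* (P : Subgroup G) := Subgroup.subgroupOfEquivOfLe hPN
    refine ⟨⟨x, hxP⟩, ?_, rfl⟩
    let e' : (P₁ : Subgroup N) ≃* (P : Subgroup G) := Subgroup.subgroupOfEquivOfLe hPN
    show (⟨x, hxP⟩ : (P₁ : Subgroup N)) ∈ Order.radical (Subgroup (P₁ : Subgroup N))
    have hrad : (frattini (P₁ : Subgroup N)).map e'.toMonoidHom = frattini (P : Subgroup G) :=
      OrderIso.map_radical (MulEquiv.mapSubgroup e')
    rw [← hrad] at hw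
    obtain ⟨v, hv, rfl⟩ := hw
    exact (Subtype.ext (Subtype.ext hwx) : v = ⟨x, hxP⟩) ▸ hv
  have hT := hasNormalPComplement_of_inf_le_frattini P₁ L₁ hLP
  rw [hasNormalPComplement_iff_pResidual] at hT
  refine hasNormalPComplement_iff_exists.mpr ⟨(Cfsg.pResidual p L₁).map L₁.subtype, ?_, ?_, ?_⟩
  · haveI := pResidual_characteristic (G := L₁) (p := p)
    infer_instance
  · rw [card_map_of_injective L₁.subtype_injective]
    exact hT
  · obtain ⟨i, hi⟩ := exists_index_pResidual (G := L₁) (p := p)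
    obtain ⟨j, hj⟩ : ∃ j, L₁.index = p ^ j := by
      rw [index_comap_of_surjective _ (QuotientGroup.mk'_surjective Q₁), hL.symm.index_eq_card]
      exact IsPGroup.iff_card.1 Pb.2
    exact ⟨i + j, by rw [index_map_subtype, hi, hj, pow_add]⟩

end Cfsg.Agent.S3838
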