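import Cfsg.Statements.S3862
import Cfsg.Agent.Lib.Base.Transport
import Cfsg.Agent.Lib.Coprime.Action
import Cfsg.Agent.Lib.Transfer.Alperin
import Cfsg.Agent.Lib.PGroups.Basic

set_option autoImplicit false
open Cfsg

namespace Cfsg.Agent.S3862

open scoped commutatorElement in
theorem centralizes {G : Type*} [Group G] [Finite G]
    (h : ∀ x : G, (∃ j : ℕ, orderOf x = 2 ^ j) → IsConj x x⁻¹ → x ∈ Subgroup.center G)
    (A : Subgroup G) [IsMulCommutative A] (hA : (Nat.card A).Coprime 2) (n : ℕ) :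
    ∀ Q : Subgroup G, Nat.card Q = n → IsPGroup 2 Q → A ≤ Subgroup.normalizer (Q : Set G) →
      Q ≤ Subgroup.centralizer (A : Set G) := by
  induction n using Nat.strong_induction_on with
  | _ n ih =>
  intro Q hn hQ hAQ
  subst hn
  have hsub : ∀ X : Subgroup G, X ≤ Q → X ≠ Q → A ≤ Subgroup.normalizer (X : Set G) →
      X ≤ Subgroup.centralizer (A : Set G) := fun X hXQ hne hX => by
    refine ih _ ?_ X rfl (hQ.to_le hXQ) hX
    rcases (Subgroup.card_le_of_le hXQ).lt_or_eq with h1 | h1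
    · exact h1
    · exact absurd (Subgroup.eq_of_le_of_card_ge hXQ h1.ge) hne
  haveI : Fact (Nat.Prime 2) := ⟨Nat.prime_two⟩
  have hcop : (Nat.card A).Coprime (Nat.card Q) := by
    obtain ⟨k, hk⟩ := IsPGroup.iff_card.1 hQ
    rw [hk]; exact hA.pow_right k
  have hsolv : Group.IsSolvable A := Group.isSolvable_of_comm fun a b => mul_comm' a b
  have hnorm : ∀ a ∈ A, Q.map (MulAut.conj a).toMonoidHom = Q :=
    fun a ha => CfsgLib.Base.map_conj_eq_self_iff.2 (hAQ ha)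
  have hWle : ⁅Q, A⁆ ≤ Q := by
    rw [Subgroup.commutator_le]
    intro x hx a ha
    rw [commutatorElement_def, show x * a * x⁻¹ * a⁻¹ = x * (a * x⁻¹ * a⁻¹) by group]
    exact Q.mul_mem hx ((Subgroup.mem_normalizer_iff.1 (hAQ ha) _).1 (Q.inv_mem hx))
  by_cases hW : ⁅Q, A⁆ = Q
  swap
  · have hWn : A ≤ Subgroup.normalizer ((⁅Q, A⁆ : Subgroup G) : Set G) := fun a ha => by
      refine CfsgLib.Base.map_conj_eq_self_iff.1 ?_
      rw [Subgroup.map_commutator, hnorm a ha,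
        CfsgLib.Base.map_conj_eq_self_iff.2 (Subgroup.le_normalizer ha)]
    have h0 := hsub _ hWle hW hWn
    rw [← Subgroup.commutator_eq_bot_iff_le_centralizer,
      CfsgLib.Coprime.commutator_commutator_eq hAQ hcop (Or.inl hsolv),
      Subgroup.commutator_eq_bot_iff_le_centralizer] at h0
    exact h0
  rcases eq_or_ne Q ⊥ with rfl | hQne
  · exact bot_le
  haveI : Nontrivial Q := (Subgroup.nontrivial_iff_ne_bot Q).2 hQne
  set Φ := (frattini Q).map Q.subtype with hΦdef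
  have hΦle : Φ ≤ Q := Subgroup.map_subtype_le _
  have hΦne : Φ ≠ Q := fun e => CfsgLib.PGroups.frattini_ne_top (G := Q) (by
    rw [← Subgroup.comap_map_eq_self_of_injective Q.subtype_injective (frattini Q), ← hΦdef, e]
    exact Subgroup.subgroupOf_self Q)
  have hΦA : A ≤ Subgroup.normalizer (Φ : Set G) :=
    hAQ.trans (CfsgLib.Base.normalizer_le_normalizer_map_subtype Q _)
  have hΦc := hsub Φ hΦle hΦne hΦA
  have hQΦ : ∀ z ∈ Q, ∀ w ∈ Φ, z * w * z⁻¹ ∈ Φ := by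
    rintro z hz _ ⟨w, hw, rfl⟩
    exact ⟨⟨z, hz⟩ * w * ⟨z, hz⟩⁻¹, (inferInstance : (frattini Q).Normal).conj_mem w hw ⟨z, hz⟩, rfl⟩
  -- the Frattini subgroup is central in `Q`
  have hΦZ : Φ ≤ Subgroup.centralizer (Q : Set G) := by
    rw [Subgroup.le_centralizer_iff, ← Subgroup.commutator_eq_bot_iff_le_centralizer]
    have h1 : ⁅⁅Q, Φ⁆, A⁆ = ⊥ := by
      rw [Subgroup.commutator_eq_bot_iff_le_centralizer]
      refine le_trans ?_ hΦc
      rw [Subgroup.commutator_le]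
      intro z hz w hw
      rw [commutatorElement_def]
      exact Φ.mul_mem (hQΦ z hz w hw) (Φ.inv_mem hw)
    have h2 : ⁅⁅Φ, A⁆, Q⁆ = ⊥ := by
      rw [Subgroup.commutator_eq_bot_iff_le_centralizer.2 hΦc, Subgroup.commutator_bot_left]
    have h3 := Subgroup.commutator_commutator_eq_bot_of_rotate h1 h2
    rwa [Subgroup.commutator_comm A Q, hW] at h3
  have hQ' : ∀ z ∈ Q, ∀ w ∈ Q, ⁅z, w⁆ ∈ Φ := fun z hz w hw =>
    ⟨⁅(⟨z, hz⟩ : Q), (⟨w, hw⟩ : Q)⁆, CfsgLib.PGroups.commutator_le_frattini hQ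
      (Subgroup.commutator_mem_commutator (Subgroup.mem_top _) (Subgroup.mem_top _)), by
      simp [commutatorElement_def]⟩
  have hsqΦ : ∀ z ∈ Q, z ^ 2 ∈ Φ := fun z hz =>
    ⟨(⟨z, hz⟩ : Q) ^ 2, CfsgLib.PGroups.pow_mem_frattini hQ _, rfl⟩
  have hcomm2 : ∀ w ∈ Φ, ∀ z ∈ Q, z * w = w * z := fun w hw z hz =>
    Subgroup.mem_centralizer_iff.1 (hΦZ hw) z hz
  have hDQ : ⁅Q, Q⁆ ≤ Φ := by
    rw [Subgroup.commutator_le]; exact hQ'
  -- squares lie in the derived subgroup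
  have hsq : ∀ x ∈ Q, x ^ 2 ∈ ⁅Q, Q⁆ := by
    have hswap : ∀ u ∈ Q, ∀ v ∈ Q, (u * v) ^ 2 = u ^ 2 * ⁅v, u⁆ * v ^ 2 := by
      intro u hu v hv
      have := hcomm2 _ (hQ' v hv u hu) u hu
      calc (u * v) ^ 2 = u * ⁅v, u⁆ * u * v * v := by
            rw [pow_two, commutatorElement_def]; group
        _ = u * (⁅v, u⁆ * u) * v * v := by group
        _ = u * (u * ⁅v, u⁆) * v * v := by rw [← this]
        _ = u ^ 2 * ⁅v, u⁆ * v ^ 2 := by rw [pow_two, pow_two]; group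
    let S : Subgroup G :=
      { carrier := {x | x ∈ Q ∧ x ^ 2 ∈ ⁅Q, Q⁆}
        one_mem' := ⟨Q.one_mem, by rw [one_pow]; exact one_mem _⟩
        mul_mem' := fun {u v} hu hv => ⟨Q.mul_mem hu.1 hv.1, by
          rw [hswap u hu.1 v hv.1]
          exact Subgroup.mul_mem _ (Subgroup.mul_mem _ hu.2
            (Subgroup.commutator_mem_commutator hv.1 hu.1)) hv.2⟩
        inv_mem' := fun {u} hu => ⟨Q.inv_mem hu.1, by rw [inv_pow]; exact Subgroup.inv_mem _ hu.2⟩ }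
    have hS : ⁅Q, A⁆ ≤ S := by
      rw [Subgroup.commutator_le]
      intro x hx a ha
      set y := a * x⁻¹ * a⁻¹ with hy
      have hyQ : y ∈ Q := (Subgroup.mem_normalizer_iff.1 (hAQ ha) _).1 (Q.inv_mem hx)
      have he : ⁅x, a⁆ = x * y := by rw [commutatorElement_def, hy]; group
      refine ⟨he ▸ Q.mul_mem hx hyQ, ?_⟩
      rw [he, hswap x hx y hyQ]
      have hy2 : y ^ 2 = (x ^ 2)⁻¹ := by
        have := Subgroup.mem_centralizer_iff.1 (hΦc (Φ.inv_mem (hsqΦ x hx))) a ha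
        rw [hy, conj_pow, inv_pow, this, mul_inv_cancel_right]
      have hc := Subgroup.commutator_mem_commutator hyQ hx
      rw [hy2, hcomm2 _ (hQ' y hyQ x hx) (x ^ 2) (Q.pow_mem hx 2), mul_inv_cancel_right]
      exact hc
    intro x hx
    exact (hS (hW.ge hx)).2
  intro x hx
  -- the commutators of `x`
  let L : Subgroup G :=
    { carrier := {w | ∃ z ∈ Q, ⁅x, z⁆ = w}
      one_mem' := ⟨1, Q.one_mem, by simp⟩
      mul_mem' := by
        rintro _ _ ⟨z, hz, rfl⟩ ⟨w, hw, rfl⟩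
        refine ⟨z * w, Q.mul_mem hz hw, ?_⟩
        have := hcomm2 _ (hQ' x hx w hw) z hz
        calc ⁅x, z * w⁆ = ⁅x, z⁆ * (z * ⁅x, w⁆) * z⁻¹ := by simp only [commutatorElement_def]; group
          _ = ⁅x, z⁆ * ⁅x, w⁆ := by rw [this]; group
      inv_mem' := by
        rintro _ ⟨z, hz, rfl⟩
        refine ⟨z⁻¹, Q.inv_mem hz, ?_⟩
        have := hcomm2 _ (hQ' x hx z hz) z⁻¹ (Q.inv_mem hz)
        calc ⁅x, z⁻¹⁆ = z⁻¹ * ⁅x, z⁆⁻¹ * z := by simp only [commutatorElement_def]; group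
          _ = ⁅x, z⁆⁻¹ := by
            have h2 : Commute z⁻¹ ⁅x, z⁆⁻¹ := (show Commute z⁻¹ ⁅x, z⁆ from this).inv_right
            rw [h2.eq]; group }
  by_cases hxL : x ^ 2 ∈ L
  · obtain ⟨y, hy, hye⟩ := hxL
    have hreal : IsConj x x⁻¹ := by
      refine (isConj_iff.2 ⟨y, ?_⟩ : IsConj x⁻¹ x).symm
      rw [commutatorElement_def, pow_two] at hye
      calc y * x⁻¹ * y⁻¹ = x⁻¹ * (x * y * x⁻¹ * y⁻¹) := by group
        _ = x := by rw [hye]; group
    obtain ⟨k, hk⟩ := IsPGroup.iff_orderOf.1 hQ ⟨x, hx⟩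
    have hxc := h x ⟨k, by rw [← hk, Subgroup.orderOf_mk]⟩ hreal
    exact Subgroup.mem_centralizer_iff.2 fun a _ => Subgroup.mem_center_iff.1 hxc a
  · let W : Subgroup G :=
      { carrier := {y | y ∈ Q ∧ ∀ z ∈ Q, ⁅y, z⁆ ∈ L}
        one_mem' := ⟨Q.one_mem, fun z _ => by simp [L.one_mem]⟩
        mul_mem' := fun {u v} hu hv => ⟨Q.mul_mem hu.1 hv.1, fun z hz => by
          have := hcomm2 _ (hQ' v hv.1 z hz) u hu.1
          rw [show ⁅u * v, z⁆ = u * ⁅v, z⁆ * u⁻¹ * ⁅u, z⁆ by simp only [commutatorElement_def]; group,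
            this, mul_inv_cancel_right]
          exact L.mul_mem (hv.2 z hz) (hu.2 z hz)⟩
        inv_mem' := fun {u} hu => ⟨Q.inv_mem hu.1, fun z hz => by
          have h2 := hcomm2 _ (hQ' u hu.1 z hz) u⁻¹ (Q.inv_mem hu.1)
          rw [show ⁅u⁻¹, z⁆ = u⁻¹ * ⁅u, z⁆⁻¹ * u by simp only [commutatorElement_def]; group,
            ((show Commute u⁻¹ ⁅u, z⁆ from h2).inv_right).eq, inv_mul_cancel_right]
          exact L.inv_mem (hu.2 z hz)⟩ }
    have hWQ : W ≤ Q := fun y hy => hy.1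
    have hWne : W ≠ Q := fun e => hxL (by
      have hle : ⁅Q, Q⁆ ≤ L := by
        rw [Subgroup.commutator_le]
        intro u hu v hv
        exact (e.ge hu).2 v hv
      exact hle (hsq x hx))
    have hWA : A ≤ Subgroup.normalizer (W : Set G) := by
      have key : ∀ a ∈ A, ∀ y, y ∈ W → a * y * a⁻¹ ∈ W := by
        intro a ha y hy
        refine ⟨(Subgroup.mem_normalizer_iff.1 (hAQ ha) y).1 hy.1, fun z hz => ?_⟩
        have hz' : a⁻¹ * z * a ∈ Q := by
          simpa using (Subgroup.mem_normalizer_iff.1 (hAQ (A.inv_mem ha)) z).1 hz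
        obtain ⟨w, hw, hwe⟩ := hy.2 _ hz'
        refine ⟨w, hw, ?_⟩
        have hfix := Subgroup.mem_centralizer_iff.1 (hΦc (hQ' x hx w hw)) a ha
        rw [show ⁅a * y * a⁻¹, z⁆ = a * ⁅y, a⁻¹ * z * a⁆ * a⁻¹ by
          simp only [commutatorElement_def]; group, ← hwe, hfix, mul_inv_cancel_right]
      intro a ha
      refine Subgroup.mem_normalizer_iff.2 fun y => ⟨key a ha y, fun hy => ?_⟩
      simpa [mul_assoc] using key a⁻¹ (A.inv_mem ha) _ hy
    refine hsub W hWQ hWne hWA ⟨hx, fun z hz => ⟨z, hz, rfl⟩⟩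

/-- If every 2-element of the finite group G that is conjugate to its inverse lies in the centre of G, then G has a normal 2-complement. -/
theorem result {G : Type*} [Group G] [Finite G] (h : ∀ x : G, (∃ j : ℕ, orderOf x = 2 ^ j) → IsConj x x⁻¹ → x ∈ Subgroup.center G) : Cfsg.HasNormalPComplement 2 G := by
  haveI : Fact (Nat.Prime 2) := ⟨Nat.prime_two⟩
  obtain ⟨P⟩ := (inferInstance : Nonempty (Sylow 2 G))
  rw [CfsgLib.Transfer.hasNormalPComplement_iff_forall_centralizing P]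
  intro Q hQP g hg hgo
  have := centralizes h (Subgroup.zpowers g) (by rwa [Nat.card_zpowers]) _ Q rfl
    (P.isPGroup'.to_le hQP) (Subgroup.zpowers_le.2 hg)
  exact (Subgroup.le_centralizer_iff.1 this) (Subgroup.mem_zpowers g)

end Cfsg.Agent.S3862
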