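import Cfsg.Statements.S3863
import Mathlib
open Subgroup

set_option autoImplicit false
open Cfsg

namespace Cfsg.Agent.S3863

/-- Let x be an element of the finite group G that is conjugate to its inverse. Then some 2-element conjugates x to its inverse; if the conjugacy class of x has odd size then x ^ 2 = 1; and x lies in, and is conjugate to its inverse inside, every normal subgroup of odd index. -/
theorem result {G : Type*} [Group G] [Finite G] (x : G) (hx : IsConj x x⁻¹) : (∃ t : G, (∃ j : ℕ, orderOf t = 2 ^ j) ∧ t * x * t⁻¹ = x⁻¹) ∧ (Odd (Subgroup.centralizer ({x} : Set G)).index → x ^ 2 = 1) ∧ ∀ (N : Subgroup G) [N.Normal], Odd N.index → ∃ hxN : x ∈ N, IsConj (⟨x, hxN⟩ : N) (⟨x, hxN⟩ : N)⁻¹ := by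
  classical
  obtain ⟨g, hg⟩ := isConj_iff.1 hx
  obtain ⟨t, ht2, ht⟩ : ∃ t : G, (∃ j : ℕ, orderOf t = 2 ^ j) ∧ t * x * t⁻¹ = x⁻¹ := by
    set o := orderOf g with ho
    set m := o / 2 ^ o.factorization 2 with hm
    have hmo : Odd m := Nat.odd_iff.2 (Nat.two_dvd_ne_zero.1
      (Nat.not_dvd_ordCompl Nat.prime_two (orderOf_pos g).ne'))
    obtain ⟨k, hk⟩ := hmo
    have hinv : ∀ j : ℕ, g ^ (2 * j) * x * (g ^ (2 * j))⁻¹ = x := by
      intro j
      induction j with
      | zero => simp
      | succ j ih =>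
        have h2 : g * g * x * (g * g)⁻¹ = x := by
          rw [mul_inv_rev, show g * g * x * (g⁻¹ * g⁻¹) = g * (g * x * g⁻¹) * g⁻¹ by group, hg,
            show g * x⁻¹ * g⁻¹ = (g * x * g⁻¹)⁻¹ by group, hg, inv_inv]
        rw [show 2 * (j + 1) = 2 * j + 2 by ring, pow_add, sq, mul_inv_rev,
          show g ^ (2 * j) * (g * g) * x * ((g * g)⁻¹ * (g ^ (2 * j))⁻¹)
            = g ^ (2 * j) * (g * g * x * (g * g)⁻¹) * (g ^ (2 * j))⁻¹ by group, h2, ih]
    refine ⟨g ^ m, ⟨o.factorization 2, ?_⟩, ?_⟩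
    · rw [orderOf_pow' g (by omega : m ≠ 0), ← ho,
        Nat.gcd_eq_right (Nat.ordCompl_dvd o 2),
        Nat.div_div_self (Nat.ordProj_dvd o 2) (orderOf_pos g).ne']
    · rw [hk, pow_add, pow_one, mul_inv_rev,
        show g ^ (2 * k) * g * x * (g⁻¹ * (g ^ (2 * k))⁻¹)
          = g ^ (2 * k) * (g * x * g⁻¹) * (g ^ (2 * k))⁻¹ by group, hg]
      conv_rhs => rw [← hinv k]
      group
  refine ⟨⟨t, ht2, ht⟩, fun hodd => ?_, fun N _ hN => ?_⟩
  · by_contra hne
    have hxi : x ≠ x⁻¹ := fun h => hne (by rw [sq]; nth_rw 1 [h]; rw [inv_mul_cancel])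
    let K : Subgroup G :=
      { carrier := {u | u * x * u⁻¹ = x ∨ u * x * u⁻¹ = x⁻¹}
        one_mem' := Or.inl (by group)
        mul_mem' := by
          intro a b ha hb
          simp only [Set.mem_ofPred_eq] at ha hb ⊢
          rw [mul_inv_rev, show a * b * x * (b⁻¹ * a⁻¹) = a * (b * x * b⁻¹) * a⁻¹ by group]
          rcases hb with hb | hb <;> rw [hb]
          · exact ha
          · rw [show a * x⁻¹ * a⁻¹ = (a * x * a⁻¹)⁻¹ by group]
            rcases ha with ha | ha <;> rw [ha]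
            · exact Or.inr rfl
            · exact Or.inl (inv_inv x)
        inv_mem' := by
          intro a ha
          simp only [Set.mem_ofPred_eq] at ha ⊢
          rcases ha with ha | ha
          · left; conv_lhs => rw [← ha]
            group
          · right
            have h' : a * x⁻¹ * a⁻¹ = x := by rw [show a * x⁻¹ * a⁻¹ = (a * x * a⁻¹)⁻¹ by group, ha, inv_inv]
            conv_lhs => rw [← h']
            group }
    have hCK : centralizer ({x} : Set G) ≤ K := fun u hu =>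
      Or.inl (by rw [mem_centralizer_singleton_iff.1 hu, mul_inv_cancel_right])
    have h2 : (centralizer ({x} : Set G)).relIndex K = 2 := by
      rw [Subgroup.relIndex, Subgroup.index_eq_two_iff]
      refine ⟨⟨t, Or.inr ht⟩, fun b => ?_⟩
      simp only [Subgroup.mem_subgroupOf, Subgroup.coe_mul, mem_centralizer_singleton_iff]
      have e1 : ∀ u : G, u * x = x * u ↔ u * x * u⁻¹ = x := fun u => mul_inv_eq_iff_eq_mul.symm
      rw [e1, e1]
      have hbt : (b : G) * t * x * ((b : G) * t)⁻¹ = ((b : G) * x * (b : G)⁻¹)⁻¹ := by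
        rw [mul_inv_rev, show (b : G) * t * x * (t⁻¹ * (b : G)⁻¹) = b * (t * x * t⁻¹) * (b : G)⁻¹ by
          group, ht]
        group
      rw [hbt]
      rcases b.2 with hb | hb
      · rw [hb]; exact Or.inr ⟨rfl, fun h => hxi h.symm⟩
      · rw [hb, inv_inv]; exact Or.inl ⟨rfl, fun h => hxi h.symm⟩
    have := h2 ▸ Subgroup.relIndex_mul_index hCK
    rw [← this] at hodd
    exact absurd (even_two_mul K.index) (Nat.not_even_iff_odd.2 hodd)
  · have hodd' : Odd (Nat.card (G ⧸ N)) := by rwa [← Subgroup.index_eq_card]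
    have hcop : ∀ k : ℕ, (2 ^ k).Coprime (Nat.card (G ⧸ N)) := fun k =>
      Nat.Coprime.pow_left k (Nat.coprime_two_left.2 hodd')
    have htN : t ∈ N := by
      obtain ⟨j, hj⟩ := ht2
      rw [← QuotientGroup.eq_one_iff, ← orderOf_eq_one_iff]
      exact Nat.eq_one_of_dvd_coprimes (hcop j) (hj ▸ orderOf_map_dvd (QuotientGroup.mk' N) t)
        (orderOf_dvd_natCard _)
    have hxN : x ∈ N := by
      rw [← QuotientGroup.eq_one_iff, ← orderOf_eq_one_iff]
      refine Nat.eq_one_of_dvd_coprimes (hcop 1) ?_ (orderOf_dvd_natCard _)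
      rw [pow_one]
      refine orderOf_dvd_of_pow_eq_one ?_
      have h := congrArg (QuotientGroup.mk' N) ht
      rw [map_mul, map_mul, map_inv, map_inv, QuotientGroup.mk'_apply, QuotientGroup.mk'_apply,
        (QuotientGroup.eq_one_iff t).2 htN, one_mul, inv_one, mul_one] at h
      rw [sq]
      nth_rw 1 [h]
      rw [inv_mul_cancel]
    exact ⟨hxN, isConj_iff.2 ⟨⟨t, htN⟩, Subtype.ext ht⟩⟩

end Cfsg.Agent.S3863
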