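import Cfsg.Statements.S3865
import Cfsg.Agent.Lib.FgsC.MaxClassSylow
import Cfsg.Agent.Lib.Transfer.Tate
import Cfsg.Agent.Lib.Base.Cores
-- import your own Cfsg.Agent.* helpers here

set_option autoImplicit false
open Cfsg

namespace Cfsg.Agent.S3865

open Subgroup CfsgLib.PGroups CfsgLib.PGroups.Pearl CfsgLib.FgsC.MaxClassSylow
open CfsgLib.FgsC.MaxClassSection
open scoped commutatorElement

section

variable {G : Type*} [Group G] [Finite G] {p n : ℕ} [hp : Fact p.Prime] (P : Sylow p G)

lemma lcs_le_of_index_prime (H : MC ↥(P : Subgroup G) p n) {M : Subgroup ↥(P : Subgroup G)}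
    (hM : M.index = p) : lcsT ↥(P : Subgroup G) 1 ≤ M := by
  refine (lcs_one_le_frattini H).trans (frattini_le_coatom ⟨fun h => ?_, fun K hK => ?_⟩)
  · rw [h, index_top] at hM
    exact hp.1.ne_one hM.symm
  · have h := index_strictAnti hK
    have h2 : K.index ∣ p := (index_dvd_of_le hK.le).trans (dvd_of_eq hM)
    rcases (Nat.dvd_prime hp.1).1 h2 with h3 | h3
    · exact index_eq_one.1 h3
    · omega

lemma not_bad_of_index_prime (H : MC ↥(P : Subgroup G) p n) (N : Subgroup G) [N.Normal]
    (hidx : (N.subgroupOf (P : Subgroup G)).index = p) :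
    ∃ x ∈ (P : Subgroup G), (Nat.card (centralizer ({x} : Set G))).factorization p = 2 := by
  have hL := lcs_le_of_index_prime P H hidx
  have hM : N.subgroupOf (P : Subgroup G) ≠ ⊤ := fun h => by
    rw [h, index_top] at hidx
    exact hp.1.ne_one hidx.symm
  obtain ⟨s, hs, hc⟩ := exists_elt_avoid H _ hM hL
  refine ⟨s, s.2, factorization_cent P H _ hL hs hc fun g h hmem => hs ?_⟩
  rw [mem_subgroupOf] at hmem ⊢
  have := ‹N.Normal›.conj_mem _ hmem g
  simpa [mul_assoc] using this

lemma not_bad_of_pSubgroup (H : MC ↥(P : Subgroup G) p n)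
    (hres : ∀ N : Subgroup G, N.Normal → (N.index).Coprime p → N = ⊤) (N : Subgroup G) [N.Normal]
    (hN : IsPGroup p N) (hbig : p ^ 2 ≤ Nat.card N) :
    ∃ x ∈ (P : Subgroup G), (Nat.card (centralizer ({x} : Set G))).factorization p = 2 := by
  have h3 := H.three
  have hp1 := hp.1.one_lt
  have hPp : IsPGroup p ↥(P : Subgroup G) := P.isPGroup'
  have hNP : N ≤ (P : Subgroup G) := hN.le_sylow_of_normal P
  set K := N.subgroupOf (P : Subgroup G) with hKdef
  haveI : K.Normal := inferInstanceAs (N.subgroupOf _).Normal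
  have hKcard : Nat.card K = Nat.card N := Nat.card_congr (subgroupOfEquivOfLe hNP).toEquiv
  obtain ⟨r, hr⟩ := CfsgLib.PGroups.index_eq_pow hPp K
  rcases r with _ | _ | r
  · -- `N = P` is normal, hence everything
    have hPN : (P : Subgroup G) = N :=
      le_antisymm (subgroupOf_eq_top.1 (index_eq_one.1 (by rw [hr, pow_zero]))) hNP
    have htop : N = ⊤ := hres N inferInstance (by
      rw [← hPN, Nat.coprime_comm]
      exact (hp.1.coprime_iff_not_dvd).2 P.not_dvd_index)
    have hPtop : (P : Subgroup G) = ⊤ := hPN.trans htop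
    obtain ⟨s, -, hc⟩ := exists_elt_avoid H (lcsT ↥(P : Subgroup G) 1) (fun h => by
      have := index_lcs_one H
      rw [h, index_top] at this
      exact (Nat.one_lt_pow two_ne_zero hp1).ne this) le_rfl
    refine ⟨s, s.2, ?_⟩
    have hmap : (centralizer ({s} : Set ↥(P : Subgroup G))).map (P : Subgroup G).subtype =
        centralizer ({(s : G)} : Set G) := by
      ext x
      simp only [mem_map, mem_centralizer_singleton_iff, coe_subtype]
      constructor
      · rintro ⟨y, hy, rfl⟩
        exact congrArg Subtype.val hy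
      · exact fun hx => ⟨⟨x, hPtop ▸ mem_top x⟩, Subtype.ext hx, rfl⟩
    rw [← hmap, card_map_of_injective (P : Subgroup G).subtype_injective, hc,
      hp.1.factorization_pow, Finsupp.single_eq_same]
  · exact not_bad_of_index_prime P H N (by rw [← hKdef, hr, pow_one])
  -- index at least `p ^ 2`: `K` is a term of the lower central series
  set L := fun i => lcsT ↥(P : Subgroup G) i with hLdef
  have hKeq : K = lcsT ↥(P : Subgroup G) (r + 1) :=
    eq_lowerCentralSeries_of_maximalClass h3 H.card H.cls (show 2 ≤ r + 1 + 1 by omega) hr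
  have hmul := Subgroup.card_mul_index K
  rw [hKcard, hr, H.card] at hmul
  have hrn : r + 4 ≤ n := by
    have h : p ^ 2 * p ^ (r + 1 + 1) ≤ p ^ n := hmul ▸ Nat.mul_le_mul_right _ hbig
    rw [← pow_add, Nat.pow_le_pow_iff_right hp1] at h
    omega
  have hK1 : K ≤ lcsT ↥(P : Subgroup G) 1 :=
    hKeq ▸ Subgroup.lowerCentralSeries_antitone _ (by omega)
  set Z := lcsT ↥(P : Subgroup G) (n - 3) with hZ
  have hZK : Z ≤ K := hKeq ▸ Subgroup.lowerCentralSeries_antitone _ (by omega)
  have hZcard : Nat.card Z = p ^ 2 := by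
    rw [hZ, H.card_lcs (by omega) (by omega)]
    congr 1
    omega
  set M := centralizer (Z : Set ↥(P : Subgroup G)) with hM
  have hLM : lcsT ↥(P : Subgroup G) 1 ≤ M := by
    intro x hx
    rw [hM, mem_centralizer_iff]
    intro z hz
    have h := CfsgLib.PLocal.commutator_lowerCentralSeries_le (n - 3) 1 (commutator_mem_commutator hz hx)
    have h' : ⁅z, x⁆ ∈ lcsT ↥(P : Subgroup G) (n - 3 + 1 + 1) := h
    rw [H.lcs_eq_bot (by omega), mem_bot, commutatorElement_eq_one_iff_mul_comm] at h'
    exact h'
  have hMtop : M ≠ ⊤ := fun h => by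
    have hle : Z ≤ center ↥(P : Subgroup G) := centralizer_eq_top_iff_subset.1 h
    have := card_le_of_le hle
    rw [hZcard, (center_of_maximalClass (p := p) h3 H.card H.cls).1] at this
    have : p ^ 1 < p ^ 2 := Nat.pow_lt_pow_right hp1 (by omega)
    rw [pow_one] at this
    omega
  obtain ⟨s, hs, hc⟩ := exists_elt_avoid H M hMtop hLM
  refine ⟨s, s.2, factorization_cent P H M hLM hs hc fun g h hmem => ?_⟩
  -- then the conjugate centralizes `p ^ 2` elements of `N`
  have hfix : ∀ z : Z, g * ((z : ↥(P : Subgroup G)) : G) * g⁻¹ ∈ N :=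
    fun z => ‹N.Normal›.conj_mem _ (mem_subgroupOf.1 (hZK z.2)) g
  let f : Z → ↥(K ⊓ centralizer ({s} : Set ↥(P : Subgroup G))) := fun z =>
    ⟨⟨g * ((z : ↥(P : Subgroup G)) : G) * g⁻¹, hNP (hfix z)⟩, mem_subgroupOf.2 (hfix z),
      mem_centralizer_singleton_iff.2 (Subtype.ext (by
        have hz : ((z : ↥(P : Subgroup G)) : G) * (g⁻¹ * s * g) =
            g⁻¹ * s * g * ((z : ↥(P : Subgroup G)) : G) :=
          congrArg Subtype.val (mem_centralizer_iff.1 hmem _ z.2)
        calc g * ((z : ↥(P : Subgroup G)) : G) * g⁻¹ * (s : G)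
            = g * (((z : ↥(P : Subgroup G)) : G) * (g⁻¹ * s * g)) * g⁻¹ := by group
          _ = g * (g⁻¹ * s * g * ((z : ↥(P : Subgroup G)) : G)) * g⁻¹ := by rw [hz]
          _ = _ := by simp only [Subgroup.coe_mul]; group))⟩
  have hf : Function.Injective f := fun a b hab => by
    have := congrArg (fun y : ↥(K ⊓ centralizer ({s} : Set ↥(P : Subgroup G))) =>
      ((y : ↥(P : Subgroup G)) : G)) hab
    exact Subtype.ext (Subtype.ext (by simpa [f] using this))
  have h1 := Nat.card_le_card_of_injective f hf
  have hlt : K ⊓ centralizer ({s} : Set ↥(P : Subgroup G)) <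
      centralizer ({s} : Set ↥(P : Subgroup G)) :=
    lt_of_le_of_ne inf_le_right fun h => hs (hLM (hK1
      ((h.symm ▸ mem_centralizer_singleton_iff.2 rfl :
        s ∈ K ⊓ centralizer ({s} : Set ↥(P : Subgroup G))).1)))
  have h2 := CfsgLib.Transfer.card_lt_card_of_lt hlt
  rw [hc] at h2
  rw [hZcard] at h1
  omega

end


/-- Let G be a finite group whose Sylow p-subgroup P has order p ^ n with n ≥ 2 and nilpotency class n - 1 (maximal class), whose largest normal subgroup of order prime to p is trivial, and which has no proper normal subgroup of index prime to p. Then either some x ∈ P has a centralizer in G whose order has p-part p ^ 2, or G is quasisimple with centre of order at most p. -/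
theorem result {G : Type*} [Group G] [Finite G] (p : ℕ) [Fact p.Prime] (P : Sylow p G) (n : ℕ) (hP : Nat.card P = p ^ n) (hn : 2 ≤ n) (hmax : Group.nilpotencyClass ↥(P : Subgroup G) = n - 1) (hcore : Cfsg.pPrimeCore p G = ⊥) (hres : ∀ N : Subgroup G, N.Normal → (N.index).Coprime p → N = ⊤) : (∃ x ∈ (P : Subgroup G), (Nat.card (Subgroup.centralizer ({x} : Set G))).factorization p = 2) ∨ (Cfsg.IsQuasisimple G ∧ Nat.card (Subgroup.center G) ≤ p) := by
  classical
  have hp : p.Prime := Fact.out
  rcases hn.eq_or_lt with rfl | h3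
  · refine Or.inl ⟨1, one_mem _, ?_⟩
    have hcent : centralizer ({(1 : G)} : Set G) = ⊤ :=
      eq_top_iff.2 fun x _ => mem_centralizer_singleton_iff.2 (by simp)
    rw [hcent, card_top]
    have h := P.card_eq_multiplicity
    rw [hP] at h
    exact (Nat.pow_right_injective hp.two_le h).symm
  by_cases hgood : ∃ x ∈ (P : Subgroup G),
      (Nat.card (centralizer ({x} : Set G))).factorization p = 2
  · exact Or.inl hgood
  refine Or.inr ?_
  have H : MC ↥(P : Subgroup G) p n := ⟨hP, hmax, h3⟩
  set O := Cfsg.pCore p G with hO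
  have hOp : IsPGroup p O := CfsgLib.Base.isPGroup_pCore p G
  have hOcard : Nat.card O ≤ p := by
    obtain ⟨k, hk⟩ := IsPGroup.iff_card.1 hOp
    by_contra hlt
    refine hgood (not_bad_of_pSubgroup P H hres O hOp ?_)
    rw [hk] at hlt ⊢
    refine Nat.pow_le_pow_right hp.pos ?_
    by_contra hk2
    exact hlt ((Nat.pow_le_pow_right hp.pos (show k ≤ 1 by omega)).trans (pow_one p).le)
  have hna : ¬ IsMulCommutative ↥(P : Subgroup G) := not_comm H
  have hOne : ¬ (P : Subgroup G) ≤ O := fun h => by
    have := card_le_of_le h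
    rw [hP] at this
    have : p ^ 1 < p ^ n := Nat.pow_lt_pow_right hp.one_lt (by omega)
    rw [pow_one] at this
    omega
  have hOcent : O ≤ center G := by
    have hPc : (P : Subgroup G) ≤ centralizer (O : Set G) := by
      -- a normal subgroup of order at most `p` of a `p`-group is central
      set K := O.subgroupOf (P : Subgroup G) with hK
      haveI : K.Normal := inferInstanceAs (O.subgroupOf _).Normal
      have hKc : K ≤ center ↥(P : Subgroup G) := by
        by_cases hKb : K = ⊥
        · rw [hKb]; exact bot_le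
        have hle : Nat.card K ≤ p := by
          rw [Nat.card_congr (subgroupOfEquivOfLe (CfsgLib.Base.pCore_le_sylow P)).toEquiv]
          exact hOcard
        have hne : K ⊓ center ↥(P : Subgroup G) ≠ ⊥ :=
          CfsgLib.PGroups.inf_center_ne_bot P.isPGroup' hKb
        have h1 : p ≤ Nat.card ↥(K ⊓ center ↥(P : Subgroup G)) :=
          Nat.le_of_dvd Nat.card_pos (CfsgLib.PGroups.dvd_card_of_ne_bot P.isPGroup' hne)
        exact (eq_of_le_of_card_ge (inf_le_left : K ⊓ center _ ≤ K) (by omega)).ge.trans inf_le_right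
      intro x hx
      rw [mem_centralizer_iff]
      intro o ho
      have := mem_center_iff.1 (hKc (mem_subgroupOf.2 (show ((⟨o, CfsgLib.Base.pCore_le_sylow P ho⟩ :
        ↥(P : Subgroup G)) : G) ∈ O from ho))) ⟨x, hx⟩
      exact (congrArg Subtype.val this).symm
    have htop := hres (centralizer (O : Set G)) inferInstance (by
      rw [Nat.coprime_comm, hp.coprime_iff_not_dvd]
      exact fun hd => P.not_dvd_index (hd.trans (index_dvd_of_le hPc)))
    exact centralizer_eq_top_iff_subset.1 htop
  have hdich : ∀ N : Subgroup G, N.Normal → N = ⊤ ∨ N ≤ O := by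
    intro N hN
    set K := N.subgroupOf (P : Subgroup G) with hK
    haveI : K.Normal := inferInstanceAs (N.subgroupOf _).Normal
    obtain ⟨r, hr⟩ := CfsgLib.PGroups.index_eq_pow P.isPGroup' K
    rcases r with _ | _ | r
    · left
      refine hres N hN ?_
      have hPN : (P : Subgroup G) ≤ N := subgroupOf_eq_top.1 (index_eq_one.1 (by rw [hr, pow_zero]))
      rw [Nat.coprime_comm, hp.coprime_iff_not_dvd]
      exact fun hd => P.not_dvd_index (hd.trans (index_dvd_of_le hPN))
    · exact absurd (not_bad_of_index_prime P H N (by rw [← hK, hr, pow_one])) hgood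
    · right
      have hle : K ≤ lcsT ↥(P : Subgroup G) 1 := by
        rw [eq_lowerCentralSeries_of_maximalClass h3 H.card H.cls (show 2 ≤ r + 1 + 1 by omega) hr]
        exact Subgroup.lowerCentralSeries_antitone _ (by omega)
      obtain ⟨Q, C, hCn, hCQ⟩ := CfsgLib.Transfer.hasNormalPComplement_of_inf_le_frattini P N (by
        intro x hx
        exact ⟨⟨x, hx.2⟩, lcs_one_le_frattini H (hle (mem_subgroupOf.2 hx.1)), rfl⟩)
      have hCcop : (Nat.card C).Coprime p := by
        rw [Nat.coprime_comm, hp.coprime_iff_not_dvd, ← hCQ.index_eq_card]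
        exact Q.not_dvd_index
      have hCbot : C = ⊥ := by
        have h1 : Cfsg.pPrimeCore p N = ⊥ := by
          rw [← map_eq_bot_iff_of_injective _ N.subtype_injective, eq_bot_iff, ← hcore]
          exact CfsgLib.Base.map_pPrimeCore_le_of_isSubnormal (Subgroup.Normal.isSubnormal hN)
        exact eq_bot_iff.2 ((CfsgLib.Base.le_pPrimeCore (N := C) hCcop).trans h1.le)
      refine CfsgLib.Base.le_pCore ?_
      have htop : (Q : Subgroup N) = ⊤ := by
        have h := hCQ.card_mul
        rw [hCbot, card_bot, one_mul] at h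
        exact eq_top_of_card_eq _ h
      exact Q.isPGroup'.of_equiv ((MulEquiv.subgroupCongr htop).trans Subgroup.topEquiv)
  have hnt : center G ≠ ⊤ := fun h => hna ⟨⟨fun a b => Subtype.ext
    (mem_center_iff.1 (h.ge (mem_top (b : G))) a)⟩⟩
  have hZ : center G = O := le_antisymm ((hdich _ inferInstance).resolve_left hnt) hOcent
  refine ⟨⟨?_, ?_⟩, hZ ▸ hOcard⟩
  · refine Group.isPerfect_def.2 ?_
    rcases hdich (commutator G) inferInstance with h | h
    · exact h
    exfalso
    haveI : Group.IsNilpotent G := by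
      have hle : (⊤ : Subgroup G).lowerCentralSeries 1 ≤ center G := by
        rw [top_lowerCentralSeries_one]
        exact h.trans hOcent
      refine Subgroup.nilpotent_iff_lowerCentralSeries.2 ⟨2, eq_bot_iff.2 ?_⟩
      rw [Subgroup.lowerCentralSeries_succ, Subgroup.commutator_le]
      intro a ha b _
      rw [mem_bot, commutatorElement_eq_one_iff_mul_comm]
      exact (mem_center_iff.1 (hle ha) b).symm
    haveI : (P : Subgroup G).Normal := inferInstance
    exact hOne (CfsgLib.Base.le_pCore P.isPGroup')
  · haveI : Nontrivial (G ⧸ center G) := QuotientGroup.nontrivial_iff.2 hnt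
    refine ⟨fun N hN => ?_⟩
    rcases hdich (N.comap (QuotientGroup.mk' (center G))) inferInstance with h | h
    · right
      rw [← map_comap_eq_self_of_surjective (QuotientGroup.mk'_surjective (center G)) N, h,
        map_top_of_surjective _ (QuotientGroup.mk'_surjective (center G))]
    · left
      rw [← map_comap_eq_self_of_surjective (QuotientGroup.mk'_surjective (center G)) N,
        Subgroup.map_eq_bot_iff, QuotientGroup.ker_mk']
      exact h.trans hZ.ge

end Cfsg.Agent.S3865
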