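import Cfsg.Statements.S3866
import Mathlib
open scoped commutatorElement

set_option autoImplicit false
open Cfsg

namespace Cfsg.Agent.S3866

/-- Let A be a commutative normal subgroup of the finite group G with G generated by A and an element x. Then a ↦ x a x⁻¹ a⁻¹ is a surjective homomorphism from A onto the commutator subgroup of G whose kernel is the centralizer of x in A; in particular the commutator subgroup has order equal to the index in A of that centralizer. -/
theorem result {G : Type*} [Group G] [Finite G] (A : Subgroup G) [A.Normal] (hA : IsMulCommutative A) (x : G) (hgen : A ⊔ Subgroup.zpowers x = ⊤) : (∀ a ∈ A, x * a * x⁻¹ * a⁻¹ ∈ commutator G) ∧ (∀ c ∈ commutator G, ∃ a ∈ A, x * a * x⁻¹ * a⁻¹ = c) ∧ (∀ a ∈ A, ∀ b ∈ A, x * (a * b) * x⁻¹ * (a * b)⁻¹ = (x * a * x⁻¹ * a⁻¹) * (x * b * x⁻¹ * b⁻¹)) ∧ Nat.card (commutator G) * Nat.card ↥(A ⊓ Subgroup.centralizer ({x} : Set G)) = Nat.card A := by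
  have hmem : ∀ a ∈ A, x * a * x⁻¹ * a⁻¹ ∈ A := fun a ha =>
    mul_mem (‹A.Normal›.conj_mem a ha x) (inv_mem ha)
  have hmul : ∀ a ∈ A, ∀ b ∈ A, x * (a * b) * x⁻¹ * (a * b)⁻¹ = (x * a * x⁻¹ * a⁻¹) * (x * b * x⁻¹ * b⁻¹) := by
    intro a ha b hb
    have hc : a⁻¹ * (x * b * x⁻¹ * b⁻¹) = (x * b * x⁻¹ * b⁻¹) * a⁻¹ :=
      congrArg (fun t : A => (t : G)) (hA.is_comm.comm ⟨a⁻¹, inv_mem ha⟩ ⟨_, hmem b hb⟩)
    calc x * (a * b) * x⁻¹ * (a * b)⁻¹ = x * a * x⁻¹ * ((x * b * x⁻¹ * b⁻¹) * a⁻¹) := by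
          simp [mul_assoc]
      _ = _ := by rw [← hc, ← mul_assoc]
  let f : A →* G :=
    { toFun := fun a => x * (a : G) * x⁻¹ * (a : G)⁻¹
      map_one' := by simp
      map_mul' := fun a b => hmul a a.2 b b.2 }
  have hfle : f.range ≤ commutator G := by
    rintro _ ⟨a, rfl⟩
    exact Subgroup.commutator_mem_commutator (Subgroup.mem_top x) (Subgroup.mem_top (a : G))
  have hDA : ∀ c ∈ f.range, c ∈ A := by
    rintro _ ⟨a, rfl⟩; exact hmem a a.2
  haveI hD : f.range.Normal := by
    have hN : A ⊔ Subgroup.zpowers x ≤ Subgroup.normalizer (f.range : Set G) := by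
      refine sup_le ?_ (Subgroup.zpowers_le.mpr ?_)
      · intro a ha
        refine Subgroup.mem_normalizer_iff.mpr fun c => ⟨fun hc => ?_, fun hc => ?_⟩
        · have : a * c = c * a := congrArg (fun t : A => (t : G)) (hA.is_comm.comm ⟨a, ha⟩ ⟨c, hDA c hc⟩)
          rw [this, mul_inv_cancel_right]; exact hc
        · have h1 : a⁻¹ * (a * c * a⁻¹) = (a * c * a⁻¹) * a⁻¹ :=
            congrArg (fun t : A => (t : G)) (hA.is_comm.comm ⟨a⁻¹, inv_mem ha⟩ ⟨_, hDA _ hc⟩)
          have h2 : c = a⁻¹ * (a * c * a⁻¹) * a := by simp [mul_assoc]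
          rw [h1, inv_mul_cancel_right] at h2
          exact h2 ▸ hc
      · refine Subgroup.mem_normalizer_iff.mpr fun c => ⟨?_, ?_⟩
        · rintro ⟨a, rfl⟩
          exact ⟨⟨x * a * x⁻¹, ‹A.Normal›.conj_mem a a.2 x⟩, by simp [f, mul_assoc]⟩
        · rintro ⟨a, ha⟩
          refine ⟨⟨x⁻¹ * a * x, by simpa using ‹A.Normal›.conj_mem a a.2 x⁻¹⟩, ?_⟩
          have h1 : c = x⁻¹ * f a * x := by rw [ha]; simp [mul_assoc]
          rw [h1]; simp [f, mul_assoc]
    exact Subgroup.normalizer_eq_top_iff.mp (top_le_iff.mp (hgen ▸ hN))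
  have hDG : commutator G ≤ f.range := by
    rw [← Subgroup.Normal.quotient_commutative_iff_commutator_le]
    let q := QuotientGroup.mk' f.range
    have hqa : ∀ a ∈ A, Commute (q x) (q a) := fun a ha => by
      rw [← commutatorElement_eq_one_iff_commute, ← map_commutatorElement, QuotientGroup.mk'_apply,
        QuotientGroup.eq_one_iff]
      exact ⟨⟨a, ha⟩, rfl⟩
    have hC : A ⊔ Subgroup.zpowers x ≤ (Subgroup.center (G ⧸ f.range)).comap q := by
      refine sup_le ?_ (Subgroup.zpowers_le.mpr ?_)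
      · intro a ha
        rw [Subgroup.mem_comap, Subgroup.mem_center_iff]
        intro z
        obtain ⟨g, rfl⟩ := QuotientGroup.mk'_surjective f.range z
        have : A ⊔ Subgroup.zpowers x ≤ (Subgroup.centralizer ({q a} : Set (G ⧸ f.range))).comap q := by
          refine sup_le (fun b hb => ?_) (Subgroup.zpowers_le.mpr ?_)
          · have e : b * a = a * b := congrArg (fun t : A => (t : G)) (hA.is_comm.comm ⟨b, hb⟩ ⟨a, ha⟩)
            rw [Subgroup.mem_comap, Subgroup.mem_centralizer_singleton_iff, ← map_mul, ← map_mul, e]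
          · rw [Subgroup.mem_comap, Subgroup.mem_centralizer_singleton_iff]; exact hqa a ha
        exact Subgroup.mem_centralizer_singleton_iff.mp (this (hgen ▸ Subgroup.mem_top g))
      · rw [Subgroup.mem_comap, Subgroup.mem_center_iff]
        intro z
        obtain ⟨g, rfl⟩ := QuotientGroup.mk'_surjective f.range z
        have : A ⊔ Subgroup.zpowers x ≤ (Subgroup.centralizer ({q x} : Set (G ⧸ f.range))).comap q := by
          refine sup_le (fun b hb => ?_) (Subgroup.zpowers_le.mpr ?_)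
          · rw [Subgroup.mem_comap, Subgroup.mem_centralizer_singleton_iff]; exact (hqa b hb).eq.symm
          · rw [Subgroup.mem_comap, Subgroup.mem_centralizer_singleton_iff]
        exact Subgroup.mem_centralizer_singleton_iff.mp (this (hgen ▸ Subgroup.mem_top g))
    refine ⟨⟨fun u v => ?_⟩⟩
    obtain ⟨g, rfl⟩ := QuotientGroup.mk'_surjective f.range v
    exact Subgroup.mem_center_iff.mp (hC (hgen ▸ Subgroup.mem_top g)) u
  have heq : commutator G = f.range := le_antisymm hDG hfle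
  refine ⟨fun a ha => hfle ⟨⟨a, ha⟩, rfl⟩, fun c hc => ?_, hmul, ?_⟩
  · obtain ⟨a, ha⟩ := hDG hc
    exact ⟨a, a.2, ha⟩
  · have hker : f.ker = (A ⊓ Subgroup.centralizer ({x} : Set G)).subgroupOf A := by
      ext a
      simp only [MonoidHom.mem_ker, Subgroup.mem_subgroupOf, Subgroup.mem_inf, a.2, true_and,
        Subgroup.mem_centralizer_singleton_iff]
      constructor
      · intro h
        exact (mul_inv_eq_iff_eq_mul.mp (mul_inv_eq_one.mp (h : x * (a : G) * x⁻¹ * (a : G)⁻¹ = 1))).symm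
      · intro h
        show x * (a : G) * x⁻¹ * (a : G)⁻¹ = 1
        rw [← h, mul_inv_cancel_right, mul_inv_cancel]
    rw [heq, ← Subgroup.index_ker, ← Nat.card_congr (Subgroup.subgroupOfEquivOfLe
      (inf_le_left : A ⊓ Subgroup.centralizer ({x} : Set G) ≤ A)).toEquiv, ← hker, Subgroup.index_mul_card]

end Cfsg.Agent.S3866
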