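import Cfsg.Statements.S3867
import Cfsg.Agent.Lib.FgsC.SylowCount
open Subgroup

set_option autoImplicit false
open Cfsg

namespace Cfsg.Agent.S3867

/-- Let M and N be nontrivial normal subgroups of the finite group G with M ⊓ N trivial, and let p be a prime. Writing n(X) for the number of Sylow p-subgroups of a group X, one has n(G) · n(G/MN) = n(G/M) · n(G/N). -/
theorem result {G : Type*} [Group G] [Finite G] (p : ℕ) [Fact p.Prime] (M N : Subgroup G) [M.Normal] [N.Normal] (hM : M ≠ ⊥) (hN : N ≠ ⊥) (hMN : M ⊓ N = ⊥) : Nat.card (Sylow p G) * Nat.card (Sylow p (G ⧸ (M ⊔ N))) = Nat.card (Sylow p (G ⧸ M)) * Nat.card (Sylow p (G ⧸ N)) := by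
  have _ := hM; have _ := hN
  obtain ⟨P⟩ : Nonempty (Sylow p G) := inferInstance
  set S : Subgroup G := (P : Subgroup G) with hS
  set R : Subgroup G := normalizer (S : Set G) with hR
  have hSR : S ≤ R := le_normalizer
  have hquot : ∀ (K : Subgroup G) [K.Normal], Nat.card (Sylow p (G ⧸ K)) = (R ⊔ K).index := by
    intro K hK
    rw [CfsgLib.FgsC.card_sylow_quotient K P]
    congr 1
    refine le_antisymm ?_ (sup_le ?_ (le_sup_right.trans le_normalizer))
    · refine (CfsgLib.FgsC.le_sup_normalizer_sylow le_rfl le_normalizer le_sup_left P.2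
        (CfsgLib.FgsC.not_dvd_relIndex_of_le P le_sup_left)).trans ?_
      exact sup_le le_sup_left (sup_le (hSR.trans le_sup_left) le_sup_right)
    · intro x hx
      rw [mem_normalizer_iff_map_conj_eq, Subgroup.map_sup, mem_normalizer_iff_map_conj_eq.mp hx,
        hK.map_conj_eq]
  rw [hquot (M ⊔ N), hquot M, hquot N, P.card_eq_index_normalizer]
  have hcomm : ∀ a ∈ M, ∀ b ∈ N, a * b = b * a := fun a ha b hb =>
    Subgroup.commute_of_normal_of_disjoint M N ‹M.Normal› ‹N.Normal› (disjoint_iff.mpr hMN) a b ha hb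
  -- the M-parts of elements of `S ⊓ MN` lie in `S`
  let T : Subgroup G :=
    { carrier := {a | a ∈ M ∧ ∃ b ∈ N, a * b ∈ S}
      one_mem' := ⟨one_mem M, 1, one_mem N, by simp⟩
      mul_mem' := by
        rintro a a' ⟨ha, b, hb, hab⟩ ⟨ha', b', hb', hab'⟩
        refine ⟨mul_mem ha ha', b * b', mul_mem hb hb', ?_⟩
        have : a * a' * (b * b') = a * b * (a' * b') := by
          rw [mul_assoc, ← mul_assoc a', hcomm a' ha' b hb]; simp only [mul_assoc]
        rw [this]; exact mul_mem hab hab'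
      inv_mem' := by
        rintro a ⟨ha, b, hb, hab⟩
        refine ⟨inv_mem ha, b⁻¹, inv_mem hb, ?_⟩
        rw [hcomm a⁻¹ (inv_mem ha) b⁻¹ (inv_mem hb), ← mul_inv_rev]
        exact inv_mem hab }
  have hTp : IsPGroup p T := by
    rintro ⟨a, ha, b, hb, hab⟩
    obtain ⟨k, hk⟩ := P.2 ⟨a * b, hab⟩
    refine ⟨k, Subtype.ext ?_⟩
    have h1 : (a * b) ^ p ^ k = 1 := congrArg Subtype.val hk
    rw [(show Commute a b from hcomm a ha b hb).mul_pow, mul_eq_one_iff_eq_inv] at h1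
    show a ^ p ^ k = 1
    have h2 : a ^ p ^ k ∈ M ⊓ N := ⟨pow_mem ha _, show a ^ p ^ k ∈ N from h1 ▸ inv_mem (pow_mem hb _)⟩
    rwa [hMN, mem_bot] at h2
  have hTS : T ≤ S := by
    have hn : S ≤ normalizer (T : Set G) := by
      intro u hu
      refine mem_normalizer_fintype ?_
      rintro a ⟨ha, b, hb, hab⟩
      refine ⟨‹M.Normal›.conj_mem a ha u, u * b * u⁻¹, ‹N.Normal›.conj_mem b hb u, ?_⟩
      have : u * a * u⁻¹ * (u * b * u⁻¹) = u * (a * b) * u⁻¹ := by group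
      rw [this]; exact mul_mem (mul_mem hu hab) (inv_mem hu)
    exact le_sup_right.trans (P.is_maximal' (P.2.to_sup_of_normal_right' hTp hn) le_sup_left).le
  have hinf : (R ⊔ N) ⊓ M ≤ R := by
    rintro m ⟨hm, hmM⟩
    replace hm : m ∈ R ⊔ N := hm
    rw [mem_sup_of_normal_right] at hm
    obtain ⟨r, hr, n, hn, hrn⟩ := hm
    have hn' : n⁻¹ ∈ N := inv_mem hn
    have hmn : m * n⁻¹ ∈ R := by rw [← hrn, mul_inv_cancel_right]; exact hr
    rw [hR]
    refine mem_normalizer_fintype fun u hu => ?_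
    have hu' : m * n⁻¹ * u * (m * n⁻¹)⁻¹ ∈ S := ((mem_normalizer_iff.mp hmn) u).mp hu
    have ha : m * u * m⁻¹ * u⁻¹ ∈ M := by
      have : m * u * m⁻¹ * u⁻¹ = m * (u * m⁻¹ * u⁻¹) := by group
      rw [this]; exact mul_mem hmM (‹M.Normal›.conj_mem _ (inv_mem hmM) u)
    have hb : n⁻¹ * u * n * u⁻¹ ∈ N := by
      have : n⁻¹ * u * n * u⁻¹ = n⁻¹ * (u * n * u⁻¹) := by group
      rw [this]; exact mul_mem hn' (‹N.Normal›.conj_mem _ hn u)
    have hab : (m * u * m⁻¹ * u⁻¹) * (n⁻¹ * u * n * u⁻¹) = m * n⁻¹ * u * (m * n⁻¹)⁻¹ * u⁻¹ := by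
      rw [hcomm _ ha _ hb]
      calc (n⁻¹ * u * n * u⁻¹) * (m * u * m⁻¹ * u⁻¹)
          = (n⁻¹ * u * n * u⁻¹) * m * (u * m⁻¹ * u⁻¹) := by group
        _ = m * (n⁻¹ * u * n * u⁻¹) * (u * m⁻¹ * u⁻¹) := by rw [← hcomm _ hmM _ hb]
        _ = _ := by group
    have h3 : m * u * m⁻¹ * u⁻¹ ∈ T :=
      ⟨ha, _, hb, by rw [hab]; exact mul_mem hu' (inv_mem hu)⟩
    have := mul_mem (hTS h3) hu
    rwa [inv_mul_cancel_right] at this
  have hkey : R.relIndex M = (R ⊔ N).relIndex M := by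
    rw [← inf_relIndex_right R M, ← inf_relIndex_right (R ⊔ N) M]
    congr 1
    exact le_antisymm (inf_le_inf_right M le_sup_left) (le_inf hinf inf_le_right)
  have e1 := relIndex_mul_index (le_sup_left : R ≤ R ⊔ M)
  have e2 := relIndex_mul_index (le_sup_left : R ⊔ N ≤ R ⊔ N ⊔ M)
  rw [CfsgLib.FgsC.relIndex_sup_of_normal] at e1 e2
  have e3 : R ⊔ (M ⊔ N) = R ⊔ N ⊔ M := by ac_rfl
  rw [e3]
  show R.index * _ = _
  rw [← e1, ← e2, hkey]
  ring

end Cfsg.Agent.S3867
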