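import Cfsg.Statements.S3868
import Cfsg.Agent.Lib.PGroups.PClosed
import Cfsg.Agent.Lib.PGroups.Basic

set_option autoImplicit false
open Cfsg

namespace Cfsg.Agent.S3868

/-- Structure of the non-simple minimal non-p-closed groups. Call a finite group p-closed when its Sylow p-subgroups are normal, and minimal non-p-closed when it is not p-closed but every proper subgroup and every proper quotient is. If such a group G is not simple, then there is a prime q ≠ p such that G has order p · q^e, where e is the multiplicative order of q modulo p, and G has a normal subgroup A of order q^e that is elementary abelian and is a minimal normal subgroup of G (so G is the semidirect product of A by a group of order p acting irreducibly). -/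
theorem result {G : Type*} [Group G] [Finite G] {p : ℕ} [Fact p.Prime]
    (hnc : ¬ Cfsg.IsPClosed p G) (hsub : ∀ H : Subgroup G, H ≠ ⊤ → Cfsg.IsPClosed p ↥H)
    (hquo : ∀ (N : Subgroup G) [N.Normal], N ≠ ⊥ → Cfsg.IsPClosed p (G ⧸ N)) (hns : ¬ IsSimpleGroup G) :
    ∃ q : ℕ, q.Prime ∧ q ≠ p ∧ Nat.card G = p * q ^ orderOf (q : ZMod p) ∧
      ∃ A : Subgroup G, A.Normal ∧ Nat.card ↥A = q ^ orderOf (q : ZMod p) ∧ Cfsg.IsElementaryAbelian q A ∧
        ∀ B : Subgroup G, B.Normal → B ≤ A → B = ⊥ ∨ B = A := by
  classical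
  have hp := (Fact.out : p.Prime)
  haveI : Nontrivial G := by
    by_contra h
    haveI := not_nontrivial_iff_subsingleton.mp h
    exact hnc (CfsgLib.PGroups.isPClosed_of_isPGroup (IsPGroup.of_card (n := 0) (by simp)))
  have hpG : p ∣ Nat.card G := by
    by_contra h
    exact hnc (CfsgLib.PGroups.isPClosed_of_not_dvd h)
  obtain ⟨P⟩ := (inferInstance : Nonempty (Sylow p G))
  -- normal proper subgroups have order prime to `p`
  have hnp : ∀ N : Subgroup G, N.Normal → N ≠ ⊤ → ¬ p ∣ Nat.card N := by
    intro N hN hNtop hdvd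
    haveI := hN
    obtain ⟨S⟩ := (inferInstance : Nonempty (Sylow p N))
    haveI hSn := hsub N hNtop S
    haveI : (S : Subgroup N).Characteristic := S.characteristic_of_normal hSn
    set P0 := (S : Subgroup N).map N.subtype with hP0
    haveI : P0.Normal := CfsgLib.Base.normal_map_subtype (S : Subgroup N)
    have hP0p : IsPGroup p P0 := S.isPGroup'.map _
    have hP0ne : P0 ≠ ⊥ := by
      rw [hP0, Ne, Subgroup.map_eq_bot_iff_of_injective _ N.subtype_injective]
      exact S.ne_bot_of_dvd_card hdvd
    apply hnc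
    intro Q
    have hP0Q : P0 ≤ (Q : Subgroup G) :=
      (CfsgLib.Base.le_pCore hP0p).trans (CfsgLib.Base.pCore_le_sylow Q)
    have h := hquo P0 hP0ne (Q.mapSurjective (QuotientGroup.mk'_surjective P0))
    have h2 := h.comap (QuotientGroup.mk' P0)
    rw [show ((Q.mapSurjective (QuotientGroup.mk'_surjective P0)) : Subgroup (G ⧸ P0))
      = (Q : Subgroup G).map (QuotientGroup.mk' P0) from rfl,
      CfsgLib.Base.comap_map_mk', sup_eq_left.mpr hP0Q] at h2
    exact h2
  have hex : ∃ N : Subgroup G, N.Normal ∧ N ≠ ⊥ ∧ N ≠ ⊤ := by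
    by_contra h
    push Not at h
    exact hns ⟨fun H hH => or_iff_not_imp_left.mpr (h H hH)⟩
  obtain ⟨N0, hN0, hN0b, hN0t⟩ := hex
  haveI := hN0
  obtain ⟨A, hAN, hA⟩ := CfsgLib.Base.exists_isMinimalNormal_le hN0b
  haveI := hA.normal
  have hAtop : A ≠ ⊤ := fun h => hN0t (top_le_iff.mp (h ▸ hAN))
  have hpA := hnp A hA.normal hAtop
  have hcopA : ∀ {m : ℕ}, Nat.Coprime (Nat.card A) (p ^ m) := fun {m} =>
    ((hp.coprime_iff_not_dvd.mpr hpA).symm).pow_right m
  -- `G` is generated by `A` and a Sylow subgroup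
  have hPA : ∀ Q : Sylow p G, A ⊔ (Q : Subgroup G) = ⊤ := by
    intro Q
    have h := hquo A hA.ne_bot (Q.mapSurjective (QuotientGroup.mk'_surjective A))
    have h2 := h.comap (QuotientGroup.mk' A)
    rw [show ((Q.mapSurjective (QuotientGroup.mk'_surjective A)) : Subgroup (G ⧸ A))
      = (Q : Subgroup G).map (QuotientGroup.mk' A) from rfl,
      CfsgLib.Base.comap_map_mk', sup_comm] at h2
    by_contra hne
    exact hnp _ h2 hne ((Q.dvd_card_of_dvd_card hpG).trans
      (Subgroup.card_dvd_of_le (le_sup_right : (Q : Subgroup G) ≤ A ⊔ (Q : Subgroup G))))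
  have hAP : A ⊓ (P : Subgroup G) = ⊥ := CfsgLib.Base.inf_eq_bot_of_coprime (by
    obtain ⟨m, hm⟩ := IsPGroup.iff_card.mp P.isPGroup'
    rw [hm]; exact hcopA)
  have hcardG : Nat.card G = Nat.card A * Nat.card (P : Subgroup G) := by
    rw [mul_comm, ← CfsgLib.Base.card_sup_of_disjoint (P : Subgroup G) A (by rw [inf_comm, hAP]),
      sup_comm, hPA P, Subgroup.card_top]
  -- `A` is a `q`-group
  obtain ⟨q, hq, hqA, hAel⟩ : ∃ q : ℕ, q.Prime ∧ q ≠ p ∧ IsPGroup q A := by
    by_contra hcon
    push Not at hcon
    -- every Sylow subgroup of `A` has a conjugate centralized by `P`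
    have hle : ∀ q : ℕ, q.Prime →
        q ^ (Nat.card A).factorization q ∣
          Nat.card ↥(A ⊓ Subgroup.centralizer ((P : Subgroup G) : Set G) : Subgroup G) := by
      intro q hq
      by_cases hqA : q ∣ Nat.card A
      swap
      · rw [Nat.factorization_eq_zero_of_not_dvd hqA, pow_zero]
        exact one_dvd _
      haveI := Fact.mk hq
      have hqp : q ≠ p := fun h => hpA (h ▸ hqA)
      obtain ⟨Q⟩ := (inferInstance : Nonempty (Sylow q A))
      set Q' := (Q : Subgroup A).map A.subtype with hQ'
      set N := Subgroup.normalizer ((Q' : Subgroup G) : Set G) with hN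
      have hfr : N ⊔ A = ⊤ := Sylow.normalizer_sup_eq_top Q
      have hNp : (Nat.card G).factorization p ≤ (Nat.card N).factorization p := by
        have h1 : Nat.card G ∣ Nat.card N * Nat.card A := by
          have h0 := CfsgLib.Base.card_sup_dvd N A
          rwa [hfr, Subgroup.card_top] at h0
        have h2 := (Nat.factorization_le_iff_dvd Nat.card_pos.ne'
          (Nat.mul_pos Nat.card_pos Nat.card_pos).ne').mpr h1 p
        rwa [Nat.factorization_mul Nat.card_pos.ne' Nat.card_pos.ne', Finsupp.add_apply,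
          Nat.factorization_eq_zero_of_not_dvd hpA, add_zero] at h2
      obtain ⟨R⟩ := (inferInstance : Nonempty (Sylow p N))
      have hRcard : Nat.card ((R : Subgroup N).map N.subtype) = p ^ (Nat.card G).factorization p := by
        rw [CfsgLib.Base.card_map_subtype, R.card_eq_multiplicity]
        congr 1
        refine le_antisymm ?_ hNp
        exact (Nat.factorization_le_iff_dvd Nat.card_pos.ne' Nat.card_pos.ne').mpr
          (Subgroup.card_subgroup_dvd_card N) p
      let R' : Sylow p G := Sylow.ofCard ((R : Subgroup N).map N.subtype) hRcard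
      set H := (R' : Subgroup G) ⊔ Q' with hH
      have hHne : H ≠ ⊤ := by
        intro htop
        refine hcon q hq hqp ?_
        -- then `A` has the order of `Q'`
        have hQA : Q' ≤ A := Subgroup.map_subtype_le _
        have h1 : Nat.card H ∣ Nat.card (R' : Subgroup G) * Nat.card Q' := by
          have hR'N : (R' : Subgroup G) ≤ N := Subgroup.map_subtype_le _
          have := CfsgLib.Base.card_sup_dvd ((R' : Subgroup G).subgroupOf N) (Q'.subgroupOf N)
          rwa [← Subgroup.subgroupOf_sup hR'N Subgroup.le_normalizer,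
            CfsgLib.Base.card_subgroupOf hR'N, CfsgLib.Base.card_subgroupOf Subgroup.le_normalizer,
            CfsgLib.Base.card_subgroupOf (sup_le hR'N Subgroup.le_normalizer)] at this
        rw [htop, Subgroup.card_top, hcardG, show Nat.card (R' : Subgroup G) = Nat.card (P : Subgroup G) by
          rw [R'.card_eq_multiplicity, P.card_eq_multiplicity], mul_comm] at h1
        have h2 : Nat.card A ∣ Nat.card Q' := Nat.dvd_of_mul_dvd_mul_left Nat.card_pos h1
        have h3 : Q' = A := Subgroup.eq_of_le_of_card_ge hQA (Nat.le_of_dvd Nat.card_pos h2)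
        rw [← h3]
        exact Q.isPGroup'.map _
      have hQc : Q' ≤ Subgroup.centralizer ((R' : Subgroup G) : Set G) := by
        have hR'H : (R' : Subgroup G) ≤ H := le_sup_left
        have hn1 : ((R' : Subgroup G).subgroupOf H).Normal := hsub H hHne (R'.subtype hR'H)
        have hnR : H ≤ Subgroup.normalizer ((R' : Subgroup G) : Set G) :=
          (Subgroup.normal_subgroupOf_iff_le_normalizer hR'H).mp hn1
        have hQR : Q' ⊓ (R' : Subgroup G) = ⊥ := CfsgLib.Base.inf_eq_bot_of_coprime (by
          rw [show Nat.card (R' : Subgroup G) = p ^ (Nat.card G).factorization p from hRcard]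
          exact hcopA.coprime_dvd_left (Subgroup.card_dvd_of_le (Subgroup.map_subtype_le _)))
        intro a ha
        rw [Subgroup.mem_centralizer_iff]
        intro r hr
        have hrN : r ∈ N := Subgroup.map_subtype_le _ hr
        have h1 : r * a * r⁻¹ * a⁻¹ ∈ Q' ⊓ (R' : Subgroup G) := by
          refine ⟨mul_mem ((Subgroup.mem_normalizer_iff.mp hrN a).mp ha) (Q'.inv_mem ha), ?_⟩
          rw [mul_assoc, mul_assoc]
          refine mul_mem hr ?_
          rw [← mul_assoc]
          exact (Subgroup.mem_normalizer_iff.mp (hnR (Subgroup.mem_sup_right ha)) r⁻¹).mp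
            ((R' : Subgroup G).inv_mem hr)
        rw [hQR, Subgroup.mem_bot, mul_inv_eq_one, mul_inv_eq_iff_eq_mul] at h1
        exact h1
      obtain ⟨g, hg⟩ := MulAction.exists_smul_eq G R' P
      have hconj : (Q'.map (MulAut.conj g).toMonoidHom) ≤
          A ⊓ Subgroup.centralizer ((P : Subgroup G) : Set G) := by
        rintro _ ⟨a, ha, rfl⟩
        refine ⟨(inferInstance : A.Normal).conj_mem a (Subgroup.map_subtype_le _ ha) g, ?_⟩
        refine Subgroup.mem_centralizer_iff.mpr ?_
        intro y hy
        rw [← hg, SetLike.mem_coe, Sylow.smul_def, Sylow.pointwise_smul_def,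
          ← CfsgLib.Base.map_conj_eq_smul] at hy
        obtain ⟨r, hr, rfl⟩ := hy
        show g * r * g⁻¹ * (g * a * g⁻¹) = g * a * g⁻¹ * (g * r * g⁻¹)
        have := Subgroup.mem_centralizer_iff.mp (hQc ha) r hr
        calc g * r * g⁻¹ * (g * a * g⁻¹) = g * (r * a) * g⁻¹ := by group
          _ = g * (a * r) * g⁻¹ := by rw [this]
          _ = _ := by group
      have := Subgroup.card_dvd_of_le hconj
      rwa [CfsgLib.Base.card_map_conj, CfsgLib.Base.card_map_subtype, Q.card_eq_multiplicity] at this
    -- hence `P` centralizes `A` and is normal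
    have hC : A ⊓ Subgroup.centralizer ((P : Subgroup G) : Set G) = A := by
      refine Subgroup.eq_of_le_of_card_ge inf_le_left (Nat.le_of_dvd Nat.card_pos ?_)
      rw [← Nat.factorization_le_iff_dvd Nat.card_pos.ne' Nat.card_pos.ne']
      intro q
      by_cases hq : q.Prime
      · exact (hq.pow_dvd_iff_le_factorization Nat.card_pos.ne').mp (hle q hq)
      · rw [Nat.factorization_eq_zero_of_not_prime _ hq]; exact Nat.zero_le _
    have hn : (P : Subgroup G).Normal := by
      rw [← Subgroup.normalizer_eq_top_iff, eq_top_iff, ← hPA P]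
      refine sup_le ((inf_eq_left.mp hC).trans (Subgroup.centralizer_le_normalizer _)) Subgroup.le_normalizer
    exact hnc fun Q => by
      haveI : Unique (Sylow p G) := Sylow.unique_of_normal P hn
      rw [Subsingleton.elim Q P]; exact hn
  haveI := Fact.mk hq
  -- `P` has order `p`
  have hPcard : Nat.card (P : Subgroup G) = p := by
    haveI : Nontrivial (P : Subgroup G) := (Subgroup.nontrivial_iff_ne_bot _).mpr (P.ne_bot_of_dvd_card hpG)
    obtain ⟨M, hM, -⟩ := IsCoatomic.eq_top_or_exists_le_coatom (⊥ : Subgroup (P : Subgroup G))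
      |>.resolve_left bot_ne_top
    have hMn := CfsgLib.PGroups.normal_of_isCoatom P.isPGroup' hM
    have hMi := CfsgLib.PGroups.index_eq_of_isCoatom P.isPGroup' hM
    set P1 := M.map (P : Subgroup G).subtype with hP1
    have hP1n : (A ⊔ P1).Normal := by
      rw [← Subgroup.normalizer_eq_top_iff, eq_top_iff, ← hPA P]
      refine sup_le (le_sup_left.trans Subgroup.le_normalizer) ?_
      intro y hy
      have hle : (A ⊔ P1).map (MulAut.conj y).toMonoidHom ≤ A ⊔ P1 := by
        rw [Subgroup.map_sup]
        refine sup_le ?_ ?_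
        · rintro _ ⟨a, ha, rfl⟩
          exact Subgroup.mem_sup_left ((inferInstance : A.Normal).conj_mem a ha y)
        · rintro _ ⟨_, ⟨m, hm, rfl⟩, rfl⟩
          exact Subgroup.mem_sup_right ⟨⟨y, hy⟩ * m * ⟨y, hy⟩⁻¹, hMn.conj_mem m hm _, rfl⟩
      exact CfsgLib.Base.map_conj_eq_self_iff.mp
        (Subgroup.eq_of_le_of_card_ge hle (by rw [CfsgLib.Base.card_map_conj]))
    have hcardM : Nat.card M * p = Nat.card (P : Subgroup G) :=
      (congrArg (fun t => Nat.card M * t) hMi.symm).trans M.card_mul_index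
    have hP1A : P1 ⊓ A = ⊥ := le_bot_iff.mp
      ((inf_le_inf_right A (Subgroup.map_subtype_le M)).trans_eq (by rw [inf_comm, hAP]))
    have hcard1 : Nat.card ↥(A ⊔ P1) = Nat.card M * Nat.card A := by
      rw [sup_comm, CfsgLib.Base.card_sup_of_disjoint _ _ hP1A, CfsgLib.Base.card_map_subtype]
    have hne : A ⊔ P1 ≠ ⊤ := by
      intro h
      rw [h, Subgroup.card_top, hcardG, ← hcardM, mul_comm (Nat.card M) (Nat.card A)] at hcard1
      have h2 : Nat.card M * p = Nat.card M := Nat.eq_of_mul_eq_mul_left Nat.card_pos hcard1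
      exact hp.ne_one ((Nat.mul_eq_left Nat.card_pos.ne').mp h2)
    have hM1 : ¬ p ∣ Nat.card M := fun h => hnp _ hP1n hne (hcard1 ▸ h.mul_right _)
    obtain ⟨k, hk⟩ := IsPGroup.iff_card.mp (P.isPGroup'.to_subgroup M)
    rcases k with _ | k
    · rw [← hcardM, hk, pow_zero, one_mul]
    · exact absurd (hk ▸ dvd_pow_self p k.succ_ne_zero) hM1
  haveI := hAel.isNilpotent
  have hsolv : Group.IsSolvable A := inferInstance
  obtain ⟨r, hr, hAc, hAr, hArp⟩ := hA.exists_prime hsolv
  have hrq : ∀ a ∈ A, a ^ q = 1 := by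
    intro a ha
    by_cases h1 : a = 1
    · rw [h1, one_pow]
    obtain ⟨k, hk⟩ := hAel ⟨a, ha⟩
    have hd : orderOf a ∣ q ^ k := orderOf_dvd_of_pow_eq_one (by simpa using congrArg Subtype.val hk)
    rcases (Nat.dvd_prime hr).mp (orderOf_dvd_of_pow_eq_one (hAr a ha)) with h | h
    · exact absurd (orderOf_eq_one_iff.mp h) h1
    · rw [h] at hd
      rw [← (Nat.prime_dvd_prime_iff_eq hr hq).mp (hr.dvd_of_dvd_pow hd)]
      exact hAr a ha
  have hidx : A.index = p := by
    have := A.card_mul_index
    rw [hcardG, hPcard] at this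
    exact Nat.eq_of_mul_eq_mul_left Nat.card_pos this
  have hna : ¬ IsMulCommutative G := by
    intro h
    exact hnc fun Q => ⟨fun a ha g => by
      rwa [(IsMulCommutative.is_comm (M := G)).comm g a, mul_assoc, mul_inv_cancel, mul_one]⟩
  obtain ⟨hcard, -, -, -⟩ := CfsgLib.PGroups.minimal_nonclosed hq hqA hna A ⟨hAc, hrq⟩ hidx hA.2.2
  exact ⟨q, hq, hqA, by rw [hcardG, hPcard, hcard, mul_comm], A, hA.normal, hcard, ⟨hAc, hrq⟩, hA.2.2⟩

end Cfsg.Agent.S3868
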