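import Cfsg.Statements.S3870
import Cfsg.Agent.Lib.Transfer.Alperin

set_option autoImplicit false
open Cfsg

namespace Cfsg.Agent.S3870

/-- Let G be a finite simple group whose Sylow p-subgroups are not normal but such that every proper subgroup of G has a normal Sylow p-subgroup. Then any two distinct Sylow p-subgroups of G intersect trivially, and for every Sylow p-subgroup P the normalizer of every non-identity subgroup of P lies in the normalizer of P. -/
theorem result {G : Type*} [Group G] [Finite G] [IsSimpleGroup G] {p : ℕ} [Fact p.Prime]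
    (hnc : ¬ Cfsg.IsPClosed p G) (hsub : ∀ H : Subgroup G, H ≠ ⊤ → Cfsg.IsPClosed p ↥H) :
    (∀ P Q : Sylow p G, P ≠ Q → (P : Subgroup G) ⊓ (Q : Subgroup G) = ⊥) ∧
      ∀ (P : Sylow p G) (R : Subgroup G), R ≤ P → R ≠ ⊥ →
        Subgroup.normalizer (R : Set G) ≤ Subgroup.normalizer ((P : Subgroup G) : Set G) := by
  classical
  have hp := Fact.out (p := p.Prime)
  have hnn : ∀ (P : Sylow p G) (R : Subgroup G), R ≤ P → R ≠ ⊥ →
      Subgroup.normalizer (R : Set G) ≠ ⊤ := by
    intro P R hRP hR htop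
    haveI : R.Normal := Subgroup.normalizer_eq_top_iff.1 htop
    rcases IsSimpleGroup.eq_bot_or_eq_top_of_normal R inferInstance with h | h
    · exact hR h
    · subst h
      refine hnc fun Q => ?_
      have hP : (P : Subgroup G) = ⊤ := top_le_iff.1 hRP
      have : IsPGroup p (⊤ : Subgroup G) := hP ▸ P.isPGroup'
      have hQ : (⊤ : Subgroup G) = Q := Q.is_maximal' this le_top
      rw [← hQ]; infer_instance
  -- two p-subgroups of a p-closed subgroup have a common Sylow overgroup
  have hjoin : ∀ (H : Subgroup G), H ≠ ⊤ → ∀ A B : Subgroup G, A ≤ H → B ≤ H →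
      IsPGroup p A → IsPGroup p B → ∃ S : Sylow p G, A ≤ S ∧ B ≤ S := by
    intro H hH A B hA hB hpA hpB
    obtain ⟨U⟩ : Nonempty (Sylow p H) := inferInstance
    haveI : (U : Subgroup H).Normal := hsub H hH U
    haveI := Sylow.unique_of_normal U inferInstance
    have hle : ∀ C : Subgroup G, C ≤ H → IsPGroup p C → C ≤ (U : Subgroup H).map H.subtype := by
      intro C hC hpC
      have : IsPGroup p (C.subgroupOf H) :=
        hpC.of_equiv (Subgroup.subgroupOfEquivOfLe hC).symm
      obtain ⟨V, hV⟩ := this.exists_le_sylow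
      rw [Subsingleton.elim V U] at hV
      rw [← Subgroup.map_subgroupOf_eq_of_le hC]
      exact Subgroup.map_mono hV
    obtain ⟨S, hS⟩ := (U.isPGroup'.map H.subtype).exists_le_sylow
    exact ⟨S, (hle A hA hpA).trans hS, (hle B hB hpB).trans hS⟩
  have hTI : ∀ P Q : Sylow p G, P ≠ Q → (P : Subgroup G) ⊓ (Q : Subgroup G) = ⊥ := by
    by_contra hcon
    push Not at hcon
    obtain ⟨P₀, Q₀, hne₀, hb₀⟩ := hcon
    obtain ⟨⟨P, Q⟩, ⟨hne, hb⟩, hmax⟩ := (Set.toFinite {x : Sylow p G × Sylow p G |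
      x.1 ≠ x.2 ∧ (x.1 : Subgroup G) ⊓ x.2 ≠ ⊥}).exists_maximalFor
      (fun x => (x.1 : Subgroup G) ⊓ x.2) _ ⟨(P₀, Q₀), hne₀, hb₀⟩
    set D := (P : Subgroup G) ⊓ Q with hD
    have hlt : ∀ R T : Sylow p G, R ≠ T → D ≤ (R : Subgroup G) ⊓ T → (R : Subgroup G) ⊓ T ≤ D :=
      fun R T h h' => hmax (j := (R, T)) ⟨h, fun e => hb (le_bot_iff.1 (h'.trans e.le))⟩ h'
    have hDP : D < P := by
      refine lt_of_le_of_ne inf_le_left fun e => hne ?_
      exact Sylow.ext (P.is_maximal' Q.isPGroup' (e.ge.trans inf_le_right)).symm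
    have hDQ : D < Q := by
      refine lt_of_le_of_ne inf_le_right fun e => hne ?_
      exact Sylow.ext (Q.is_maximal' P.isPGroup' (e.ge.trans inf_le_left))
    obtain ⟨S, hSP, hSQ⟩ := hjoin _ (hnn P D inf_le_left hb)
      ((P : Subgroup G) ⊓ Subgroup.normalizer (D : Set G))
      ((Q : Subgroup G) ⊓ Subgroup.normalizer (D : Set G)) inf_le_right inf_le_right
      (P.isPGroup'.to_le inf_le_left) (Q.isPGroup'.to_le inf_le_left)
    have key : ∀ R : Sylow p G, D < R →
        (R : Subgroup G) ⊓ Subgroup.normalizer (D : Set G) ≤ S → R = S := by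
      intro R hR hRS
      by_contra hne'
      have h1 : D < (R : Subgroup G) ⊓ Subgroup.normalizer (D : Set G) :=
        CfsgLib.Transfer.lt_inf_normalizer R.isPGroup' hR
      have h2 : (R : Subgroup G) ⊓ Subgroup.normalizer (D : Set G) ≤ (R : Subgroup G) ⊓ S :=
        le_inf inf_le_left hRS
      exact (h1.trans_le h2).not_ge (hlt R S hne' (h1.le.trans h2))
    exact hne ((key P hDP hSP).trans (key Q hDQ hSQ).symm)
  refine ⟨hTI, fun P R hRP hR g hg => ?_⟩
  by_contra hgn
  have hne : g • P ≠ P := fun e => hgn (Sylow.smul_eq_iff_mem_normalizer.1 e)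
  refine hR (le_bot_iff.1 ?_)
  rw [← hTI (g • P) P hne]
  refine le_inf ?_ hRP
  intro r hr
  rw [Sylow.coe_subgroup_smul, Subgroup.mem_pointwise_smul_iff_inv_smul_mem]
  have : g⁻¹ * r * g⁻¹⁻¹ ∈ R :=
    (Subgroup.mem_normalizer_iff.1 (inv_mem hg) r).1 hr
  simpa [MulAut.conj_inv_apply, MulAut.smul_def, mul_assoc] using hRP this

end Cfsg.Agent.S3870
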