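import Cfsg.Statements.S3872
import Cfsg.Agent.Lib.PLocal.RegularTheory
import Cfsg.Agent.Lib.PGroups.UniqueOrderP
import Cfsg.Agent.Lib.PGroups.MaximalClass

set_option autoImplicit false
open Cfsg

namespace Cfsg.Agent.S3872

/-- Say that a finite group is p-exponent closed when its elements of order dividing p form a subgroup. Let G be a finite p-group that is not p-exponent closed, but all of whose proper subgroups and proper quotients are. Then G is generated by two elements, has nilpotency class at least p, has exponent p², has cyclic center, and has order at least p^(p+1). -/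
theorem result {G : Type*} [Group G] [Finite G] {p : ℕ} [Fact p.Prime] (hG : IsPGroup p G)
    (hnc : ¬ (∃ H : Subgroup G, (H : Set G) = {g : G | g ^ p = 1})) (hsub : ∀ K : Subgroup G, K ≠ ⊤ → (∃ H : Subgroup ↥K, (H : Set ↥K) = {g : ↥K | g ^ p = 1}))
    (hquo : ∀ (N : Subgroup G) [N.Normal], N ≠ ⊥ → (∃ H : Subgroup (G ⧸ N), (H : Set (G ⧸ N)) = {g : (G ⧸ N) | g ^ p = 1})) :
    (∃ x y : G, Subgroup.closure ({x, y} : Set G) = ⊤) ∧ (⊤ : Subgroup G).lowerCentralSeries (p - 1) ≠ ⊥ ∧
      Monoid.exponent G = p ^ 2 ∧ IsCyclic ↥(Subgroup.center G) ∧ p ^ (p + 1) ≤ Nat.card G := by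
  have hp : p.Prime := Fact.out
  have hnot : ¬ ∀ x y : G, x ^ p = 1 → y ^ p = 1 → (x * y) ^ p = 1 := fun h => hnc ⟨
    { carrier := {g : G | g ^ p = 1}
      one_mem' := one_pow _
      mul_mem' := fun {a b} ha hb => h a b ha hb
      inv_mem' := fun {a} (ha : a ^ p = 1) => show a⁻¹ ^ p = 1 by rw [inv_pow, ha, inv_one] }, rfl⟩
  push Not at hnot
  obtain ⟨x, y, hx, hy, hxy⟩ := hnot
  have hgen : Subgroup.closure ({x, y} : Set G) = ⊤ := by
    by_contra hne
    obtain ⟨H, hH⟩ := hsub _ hne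
    have hxm : (⟨x, Subgroup.subset_closure (Or.inl rfl)⟩ : Subgroup.closure ({x, y} : Set G)) ∈ H := by
      rw [← SetLike.mem_coe, hH]; exact Subtype.ext hx
    have hym : (⟨y, Subgroup.subset_closure (Or.inr rfl)⟩ : Subgroup.closure ({x, y} : Set G)) ∈ H := by
      rw [← SetLike.mem_coe, hH]; exact Subtype.ext hy
    have h := mul_mem hxm hym
    rw [← SetLike.mem_coe, hH] at h
    exact hxy (congrArg Subtype.val h)
  have hcl : (⊤ : Subgroup G).lowerCentralSeries (p - 1) ≠ ⊥ := fun h => hxy (by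
    have hR := CfsgLib.PLocal.pRegular_of_lowerCentralSeries_eq_bot (G := G) (p := p) h
    have := CfsgLib.PLocal.pow_mul_eq_one hG hR 1 x y (by rwa [pow_one]) (by rwa [pow_one])
    rwa [pow_one] at this)
  have hquo' : ∀ N : Subgroup G, N.Normal → N ≠ ⊥ → ∀ g : G, g ^ p ∈ N := by
    intro N hN hne g
    haveI := hN
    obtain ⟨H, hH⟩ := hquo N hne
    have hmem : ∀ a : G, a ^ p = 1 → QuotientGroup.mk' N a ∈ H := fun a ha => by
      rw [← SetLike.mem_coe, hH]
      show QuotientGroup.mk' N a ^ p = 1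
      rw [← map_pow, ha, map_one]
    have htop : (Subgroup.closure ({x, y} : Set G)) ≤ H.comap (QuotientGroup.mk' N) := by
      rw [Subgroup.closure_le]
      rintro a (rfl | rfl)
      · exact hmem _ hx
      · exact hmem _ hy
    have h : QuotientGroup.mk' N g ∈ H := htop (hgen.ge (Subgroup.mem_top g))
    rw [← SetLike.mem_coe, hH] at h
    rw [← QuotientGroup.eq_one_iff]
    exact h
  haveI hnt : Nontrivial G := ⟨⟨x * y, 1, fun h => hxy (by rw [h, one_pow])⟩⟩
  have hzc : ∀ z : G, z ∈ Subgroup.center G → z ^ p = 1 → z ≠ 1 → ∀ g : G, g ^ p ∈ Subgroup.zpowers z := by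
    intro z hz _ hz1
    refine hquo' _ ⟨fun a ha g => ?_⟩ (by rwa [Ne, Subgroup.zpowers_eq_bot])
    have hac : a ∈ Subgroup.center G := Subgroup.zpowers_le.2 hz ha
    rw [Subgroup.mem_center_iff.1 hac g, mul_inv_cancel_right]
    exact ha
  obtain ⟨z, hz⟩ := exists_prime_orderOf_dvd_card' (G := Subgroup.center G) p
    (CfsgLib.PGroups.dvd_card_of_ne_bot hG ((Subgroup.nontrivial_iff_ne_bot _).1 hG.center_nontrivial))
  have hzp : (z : G) ^ p = 1 := orderOf_dvd_iff_pow_eq_one.1 ((Subgroup.orderOf_coe z).trans hz).dvd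
  have hz1 : (z : G) ≠ 1 := fun h => by
    rw [OneMemClass.coe_eq_one] at h
    rw [h, orderOf_one] at hz
    exact hp.ne_one hz.symm
  refine ⟨⟨x, y, hgen⟩, hcl, ?_, ?_, ?_⟩
  · refine Nat.dvd_antisymm (Monoid.exponent_dvd_of_forall_pow_eq_one fun g => ?_) ?_
    · obtain ⟨k, hk⟩ := Subgroup.mem_zpowers_iff.1 (hzc z z.2 hzp hz1 g)
      rw [sq, pow_mul, ← hk, ← zpow_natCast, ← zpow_mul, mul_comm, zpow_mul, zpow_natCast, hzp, one_zpow]
    · obtain ⟨j, hj⟩ := IsPGroup.iff_orderOf.1 hG (x * y)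
      refine dvd_trans ?_ (Monoid.order_dvd_exponent (x * y))
      rw [hj]
      refine pow_dvd_pow p (Nat.not_lt.1 fun hlt => hxy (orderOf_dvd_iff_pow_eq_one.1 ?_))
      rw [hj]
      exact (pow_dvd_pow p (show j ≤ 1 by omega)).trans (pow_one p).dvd
  · refine CfsgLib.PGroups.isCyclic_of_abelian_of_unique (hG.to_subgroup _) (z := z) (fun t ht => ?_)
      (Subtype.ext hzp)
    have htp : (t : G) ^ p = 1 := congrArg Subtype.val ht
    by_contra hmem
    have ht1 : (t : G) ≠ 1 := fun h => hmem (by rw [OneMemClass.coe_eq_one.1 h]; exact one_mem _)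
    refine hxy ?_
    by_contra hne
    have ho : ∀ u : G, u ^ p = 1 → u ≠ 1 → (x * y) ^ p ∈ Subgroup.zpowers u →
        Subgroup.zpowers ((x * y) ^ p) = Subgroup.zpowers u := fun u hu hu1 hm => by
      refine Subgroup.eq_of_le_of_card_ge (Subgroup.zpowers_le.2 hm) ?_
      have hd : orderOf ((x * y) ^ p) ∣ p := by
        obtain ⟨k, hk⟩ := Subgroup.mem_zpowers_iff.1 hm
        refine orderOf_dvd_of_pow_eq_one ?_
        rw [← hk, ← zpow_natCast, ← zpow_mul, mul_comm, zpow_mul, zpow_natCast, hu, one_zpow]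
      rw [Nat.card_zpowers, Nat.card_zpowers, orderOf_eq_prime hu hu1,
        (hp.eq_one_or_self_of_dvd _ hd).resolve_left (fun h => hne (orderOf_eq_one_iff.1 h))]
    have h1 := ho z hzp hz1 (hzc z z.2 hzp hz1 _)
    have h2 := ho t htp ht1 (hzc t t.2 htp ht1 _)
    obtain ⟨k, hk⟩ := Subgroup.mem_zpowers_iff.1 ((h1.symm.trans h2).ge (Subgroup.mem_zpowers (t : G)))
    exact hmem (Subgroup.mem_zpowers_iff.2 ⟨k, Subtype.ext hk⟩)
  · obtain ⟨n, hn⟩ := IsPGroup.iff_card.1 hG
    rw [hn]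
    refine Nat.pow_le_pow_right hp.pos (Nat.not_lt.1 fun hlt => hcl ?_)
    haveI := hG.isNilpotent
    refine le_bot_iff.1 ((Subgroup.lowerCentralSeries_antitone _ ?_).trans (lowerCentralSeries_nilpotencyClass (G := G)).le)
    rcases Nat.lt_or_ge n 2 with hn2 | hn2
    · haveI : IsMulCommutative G := by
        rcases (show n = 0 ∨ n = 1 by omega) with rfl | rfl
        · exact absurd (Nat.card_eq_one_iff_unique.1 (by rw [hn, pow_zero])).1 (not_subsingleton G)
        · haveI : IsCyclic G := isCyclic_of_prime_card (p := p) (by rw [hn, pow_one])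
          exact IsCyclic.isMulCommutative
      exact (Group.IsNilpotent.nilpotencyClass_le_one_iff.mpr this).trans (by have := hp.two_le; omega)
    · exact (CfsgLib.PGroups.nilpotencyClass_le_sub_one hn2 hn).trans (by omega)

end Cfsg.Agent.S3872
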