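import Cfsg.Statements.S3873
import Cfsg.Agent.Lib.PGroups.PClosed
import Cfsg.Agent.Lib.Coprime.Action

set_option autoImplicit false
open Cfsg Subgroup

namespace Cfsg.Agent.S3873

/-- Say that a finite group is p-exponent closed when its elements of order dividing p form a subgroup. Let G be a finite group that is not p-exponent closed, but all of whose proper subgroups and proper quotients are, and suppose G is neither simple nor a p-group. Then there is a prime q ≠ p such that G has order p · q^e, where e is the multiplicative order of q modulo p, and G has a normal elementary abelian subgroup of order q^e that is a minimal normal subgroup of G. -/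
theorem result {G : Type*} [Group G] [Finite G] {p : ℕ} [Fact p.Prime]
    (hnc : ¬ (∃ H : Subgroup G, (H : Set G) = {g : G | g ^ p = 1})) (hsub : ∀ K : Subgroup G, K ≠ ⊤ → (∃ H : Subgroup ↥K, (H : Set ↥K) = {g : ↥K | g ^ p = 1}))
    (hquo : ∀ (N : Subgroup G) [N.Normal], N ≠ ⊥ → (∃ H : Subgroup (G ⧸ N), (H : Set (G ⧸ N)) = {g : (G ⧸ N) | g ^ p = 1}))
    (hns : ¬ IsSimpleGroup G) (hnp : ¬ IsPGroup p G) :
    ∃ q : ℕ, q.Prime ∧ q ≠ p ∧ Nat.card G = p * q ^ orderOf (q : ZMod p) ∧
      ∃ A : Subgroup G, A.Normal ∧ Nat.card ↥A = q ^ orderOf (q : ZMod p) ∧ Cfsg.IsElementaryAbelian q A ∧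
        ∀ B : Subgroup G, B.Normal → B ≤ A → B = ⊥ ∨ B = A := by
  classical
  have hp := (Fact.out : p.Prime)
  obtain ⟨x, y, hx, hy, hxy⟩ : ∃ x y : G, x ^ p = 1 ∧ y ^ p = 1 ∧ (x * y) ^ p ≠ 1 := by
    by_contra hall
    push Not at hall
    exact hnc ⟨{ carrier := {g | g ^ p = 1}
                 one_mem' := one_pow p
                 mul_mem' := fun {a b} ha hb => hall a b ha hb
                 inv_mem' := fun {a} (ha : a ^ p = 1) => by
                   show a⁻¹ ^ p = 1
                   rw [inv_pow, ha, inv_one] }, rfl⟩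
  -- closedness inside a proper subgroup
  have hK : ∀ K : Subgroup G, K ≠ ⊤ → ∀ a ∈ K, ∀ b ∈ K, a ^ p = 1 → b ^ p = 1 →
      (a * b) ^ p = 1 := by
    intro K hKt a ha b hb hap hbp
    obtain ⟨H, hH⟩ := hsub K hKt
    have hmem : ∀ g : K, g ∈ H ↔ (g : G) ^ p = 1 := fun g => by
      rw [← SetLike.mem_coe, hH]
      exact ⟨fun h => congrArg Subtype.val h, fun h => Subtype.ext h⟩
    exact (hmem _).mp (H.mul_mem ((hmem ⟨a, ha⟩).mpr hap) ((hmem ⟨b, hb⟩).mpr hbp))
  have hgen : closure ({x, y} : Set G) = ⊤ := by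
    by_contra h
    exact hxy (hK _ h x (subset_closure (by simp)) y (subset_closure (by simp)) hx hy)
  haveI : Nontrivial G := ⟨⟨(x * y) ^ p, 1, hxy⟩⟩
  obtain ⟨N, hN⟩ := CfsgLib.Base.exists_isMinimalNormal (G := G)
  haveI := hN.normal
  have hNt : N ≠ ⊤ := fun h => hns (IsSimpleGroup.mk fun K hKn =>
    (hN.eq_bot_or_eq hKn (h ▸ le_top)).imp_right fun e => e.trans h)
  -- the quotient has exponent `p`
  have hquot : ∀ g : G, g ^ p ∈ N := by
    obtain ⟨H, hH⟩ := hquo N hN.ne_bot
    have hmem : ∀ g : G, (g : G ⧸ N) ∈ H ↔ g ^ p ∈ N := fun g => by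
      rw [← SetLike.mem_coe, hH]
      show (g : G ⧸ N) ^ p = 1 ↔ _
      rw [← QuotientGroup.mk_pow, QuotientGroup.eq_one_iff]
    have hle : closure ({x, y} : Set G) ≤ H.comap (QuotientGroup.mk' N) := by
      rw [closure_le]
      rintro g (rfl | rfl)
      · exact (hmem _).mpr (hx ▸ N.one_mem)
      · exact (hmem _).mpr (hy ▸ N.one_mem)
    rw [hgen] at hle
    exact fun g => (hmem g).mp (hle (mem_top g))
  -- `N` is a `p'`-group
  have hNp : ∀ z ∈ N, z ^ p = 1 → z = 1 := by
    obtain ⟨H, hH⟩ := hsub N hNt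
    have hmem : ∀ g : N, g ∈ H ↔ (g : G) ^ p = 1 := fun g => by
      rw [← SetLike.mem_coe, hH]
      exact ⟨fun h => congrArg Subtype.val h, fun h => Subtype.ext h⟩
    have hn : (H.map N.subtype).Normal := ⟨by
      rintro _ ⟨z, hz, rfl⟩ g
      refine ⟨⟨g * z * g⁻¹, hN.normal.conj_mem _ z.2 g⟩, (hmem _).mpr ?_, rfl⟩
      show (g * (z : G) * g⁻¹) ^ p = 1
      rw [conj_pow, (hmem z).mp hz, mul_one, mul_inv_cancel]⟩
    rcases hN.eq_bot_or_eq hn (map_subtype_le H) with h | h
    · intro z hz hzp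
      have : z ∈ H.map N.subtype := ⟨⟨z, hz⟩, (hmem _).mpr hzp, rfl⟩
      rwa [h, mem_bot] at this
    · refine absurd (fun g => ⟨2, ?_⟩) hnp
      obtain ⟨z, hz, hze⟩ := h.ge (hquot g)
      rw [pow_two, pow_mul, ← hze]
      exact (hmem z).mp hz
  have hcard : ¬ p ∣ Nat.card N := fun hd => by
    obtain ⟨z, hz⟩ := exists_prime_orderOf_dvd_card' p hd
    have h1 : z = 1 := Subtype.ext (hNp z z.2 (by
      rw [← SubgroupClass.coe_pow, ← hz, pow_orderOf_eq_one]; rfl))
    rw [h1, orderOf_one] at hz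
    exact hp.one_lt.ne hz
  -- an element of order `p` in a proper subgroup `K` centralises `N ⊓ K`
  have hcomm : ∀ K : Subgroup G, K ≠ ⊤ → ∀ w ∈ K, w ^ p = 1 → ∀ n ∈ N, n ∈ K → Commute n w := by
    intro K hKt w hw hwp n hn hnK
    have h1 : (n * w * n⁻¹ * w⁻¹) ^ p = 1 := by
      rw [mul_assoc] at *
      have := hK K hKt (n * w * n⁻¹) (K.mul_mem (K.mul_mem hnK hw) (K.inv_mem hnK)) w⁻¹
        (K.inv_mem hw) (by rw [conj_pow, hwp, mul_one, mul_inv_cancel])
        (by rw [inv_pow, hwp, inv_one])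
      simpa [mul_assoc] using this
    have h2 : n * w * n⁻¹ * w⁻¹ ∈ N := by
      have := N.mul_mem hn (hN.normal.conj_mem _ (N.inv_mem hn) w)
      simpa [mul_assoc] using this
    exact commutatorElement_eq_one_iff_mul_comm.mp
      (by rw [commutatorElement_def]; exact hNp _ h2 h1)
  -- some generator does not centralise `N`
  obtain ⟨w, hwp, hwN⟩ : ∃ w : G, w ^ p = 1 ∧ ¬ ∀ n ∈ N, Commute n w := by
    by_contra hall
    push Not at hall
    have hc : ∀ n ∈ N, n ∈ center G := fun n hn => mem_center_iff.mpr fun g => by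
      have hle : closure ({x, y} : Set G) ≤ centralizer ({n} : Set G) := by
        rw [closure_le]
        rintro g (rfl | rfl)
        · exact mem_centralizer_singleton_iff.mpr (hall _ hx n hn).eq.symm
        · exact mem_centralizer_singleton_iff.mpr (hall _ hy n hn).eq.symm
      rw [hgen] at hle
      exact mem_centralizer_singleton_iff.mp (hle (mem_top g))
    -- the map `g ↦ g ^ |N|` kills nothing of order `p`
    obtain ⟨P⟩ : Nonempty (Sylow p G) := inferInstance
    have htop : N ⊔ (P : Subgroup G) = ⊤ := by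
      rw [← index_eq_one]
      have h1 : (N ⊔ (P : Subgroup G)).index ∣ N.index := index_dvd_of_le le_sup_left
      have h2 : (N ⊔ (P : Subgroup G)).index ∣ (P : Subgroup G).index :=
        index_dvd_of_le le_sup_right
      obtain ⟨k, hk⟩ := IsPGroup.iff_card.mp (show IsPGroup p (G ⧸ N) from fun q => ⟨1, by
        obtain ⟨g, rfl⟩ := QuotientGroup.mk_surjective q
        rw [pow_one, ← QuotientGroup.mk_pow, QuotientGroup.eq_one_iff]
        exact hquot g⟩)
      rw [show N.index = Nat.card (G ⧸ N) from index_eq_card N, hk] at h1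
      exact Nat.eq_one_of_dvd_coprimes
        (Nat.Coprime.pow_left k ((Nat.Prime.coprime_iff_not_dvd hp).mpr P.not_dvd_index)) h1 h2
    haveI hPn : (P : Subgroup G).Normal := by
      rw [← normalizer_eq_top_iff, eq_top_iff, ← htop]
      refine sup_le (fun n hn => mem_normalizer_iff.mpr fun g => ?_) le_normalizer
      have hc' : n * g * n⁻¹ = g := by
        rw [mul_inv_eq_iff_eq_mul]; exact (mem_center_iff.mp (hc n hn) g).symm
      rw [hc']
    have hmemP : ∀ g : G, g ^ p = 1 → g ∈ (P : Subgroup G) := fun g hg => by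
      obtain ⟨S, hS⟩ := (IsPGroup.exists_le_sylow (P := zpowers g) (p := p) (by
        rintro ⟨_, i, rfl⟩
        refine ⟨1, Subtype.ext ?_⟩
        show (g ^ i) ^ p ^ 1 = 1
        rw [pow_one, ← zpow_natCast, ← zpow_mul, mul_comm, zpow_mul, zpow_natCast, hg, one_zpow]))
      haveI : Unique (Sylow p G) := Sylow.unique_of_normal P hPn
      rw [Subsingleton.elim P S]
      exact hS (mem_zpowers g)
    have hPt : (P : Subgroup G) = ⊤ := top_le_iff.mp (hgen ▸ (closure_le _).mpr (by
      rintro g (rfl | rfl)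
      · exact hmemP _ hx
      · exact hmemP _ hy))
    exact hnp (fun g => by
      obtain ⟨k, hk⟩ := P.2 ⟨g, hPt ▸ mem_top g⟩
      exact ⟨k, congrArg Subtype.val hk⟩)
  have htop : N ⊔ zpowers w = ⊤ := by
    by_contra h
    exact hwN fun n hn => hcomm _ h w (mem_sup_right (mem_zpowers w)) hwp n hn (mem_sup_left hn)
  have hwo : orderOf w = p := by
    rcases (Nat.dvd_prime hp).mp (orderOf_dvd_of_pow_eq_one hwp) with h | h
    · exact absurd (fun n _ => orderOf_eq_one_iff.mp h ▸ Commute.one_right n) hwN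
    · exact h
  have hidx : N.index = p := by
    have hsurj : Function.Surjective ((QuotientGroup.mk' N).comp (zpowers w).subtype) := fun q => by
      obtain ⟨g, rfl⟩ := QuotientGroup.mk_surjective q
      obtain ⟨n, hn, v, hv, rfl⟩ := mem_sup_of_normal_left.mp (htop ▸ mem_top g)
      exact ⟨⟨v, hv⟩, QuotientGroup.eq.mpr (by simpa [← mul_assoc] using hN.normal.conj_mem' n hn v)⟩
    have h1 := Subgroup.card_dvd_of_surjective _ hsurj
    rw [Nat.card_zpowers, hwo, ← index_eq_card] at h1
    exact ((Nat.dvd_prime hp).mp h1).resolve_left (mt index_eq_one.mp hNt)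
  -- `N` is a `q`-group
  have hcop : (Nat.card (zpowers w)).Coprime (Nat.card N) := by
    rw [Nat.card_zpowers, hwo]
    exact (Nat.Prime.coprime_iff_not_dvd hp).mpr hcard
  obtain ⟨q, hq, hNq⟩ : ∃ q : ℕ, q.Prime ∧ IsPGroup q N := by
    by_contra hall
    push Not at hall
    apply hwN
    have hle : ∀ r : ℕ, r.Prime → r ^ (Nat.card N).factorization r ∣
        Nat.card ↥(N ⊓ centralizer ({w} : Set G)) := by
      intro r hr
      haveI := Fact.mk hr
      haveI hcy : IsMulCommutative (zpowers w) := inferInstance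
      obtain ⟨Q, hQ⟩ := CfsgLib.Coprime.exists_invariant_sylow (p := r) (A := zpowers w) (K := N)
        (le_normalizer_of_normal) hcop (Or.inl inferInstance)
      set Q' := (Q : Subgroup N).map N.subtype
      rw [← Q.card_eq_multiplicity, ← card_map_of_injective N.subtype_injective]
      refine card_dvd_of_le (le_inf (map_subtype_le _) fun n hn => mem_centralizer_singleton_iff.mpr ?_)
      refine (hcomm (Q' ⊔ zpowers w) ?_ w (mem_sup_right (mem_zpowers w)) hwp n
        (map_subtype_le _ hn) (mem_sup_left hn)).eq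
      intro hQt
      apply hall r hr
      haveI : Q'.Normal := by
        rw [← normalizer_eq_top_iff, eq_top_iff, ← hQt]
        exact sup_le le_normalizer hQ
      rcases hN.eq_bot_or_eq (K := Q') inferInstance (map_subtype_le _) with h | h
      · rw [h, bot_sup_eq] at hQt
        exact absurd (IsPGroup.of_card (p := p) (n := 1) (by
          rw [← Subgroup.card_top, ← hQt, Nat.card_zpowers, hwo, pow_one])) hnp
      · exact h ▸ Q.2.map N.subtype
    intro n hn
    have heq : N ⊓ centralizer ({w} : Set G) = N := eq_of_le_of_card_ge inf_le_left (Nat.le_of_dvd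
      Nat.card_pos ((Nat.dvd_iff_prime_pow_dvd_dvd _ _).mpr fun r k hr hd =>
        (pow_dvd_pow r ((hr.pow_dvd_iff_le_factorization Nat.card_pos.ne').mp hd)).trans (hle r hr)))
    exact mem_centralizer_singleton_iff.mp (heq.ge hn).2
  haveI := Fact.mk hq
  haveI : Group.IsNilpotent N := hNq.isNilpotent
  obtain ⟨r, hr, hcommN, hexp, hNr⟩ := hN.exists_prime inferInstance
  have hrp : r ≠ p := by
    rintro rfl
    obtain ⟨k, hk⟩ := IsPGroup.iff_card.mp hNr
    rcases k with _ | k
    · exact hN.ne_bot (eq_bot_of_card_eq _ (by rw [hk, pow_zero]))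
    · exact hcard (hk ▸ dvd_pow_self r k.succ_ne_zero)
  have hna : ¬ IsMulCommutative G := fun h => hwN fun n _ => h.is_comm.comm n w
  obtain ⟨hA, -⟩ := CfsgLib.PGroups.minimal_nonclosed hr hrp hna N ⟨hcommN, hexp⟩ hidx hN.2.2
  refine ⟨r, hr, hrp, ?_, N, hN.normal, hA, ⟨hcommN, hexp⟩, hN.2.2⟩
  rw [← card_mul_index N, hA, hidx, mul_comm]

end Cfsg.Agent.S3873
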