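import Cfsg.Statements.S3878
import Cfsg.Agent.Lib.Perm.JordanCycle
-- import your own Cfsg.Agent.* helpers here

set_option autoImplicit false
open Cfsg

namespace Cfsg.Agent.S3878

open Equiv

/-- A group satisfying the full analogue of Sylow's theorems has a Hall subgroup. -/
theorem epi_of_dpi {π : Set ℕ} {G : Type} [Group G] [Finite G] (hD : IsDPiGroup π G) :
    IsEPiGroup π G := by
  classical
  have hex : ∀ K : Subgroup G, IsPiSubgroup π K →
      ∃ M : Subgroup G, K ≤ M ∧ Maximal (IsPiSubgroup π) M := by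
    intro K hK
    exact (Set.toFinite {M : Subgroup G | IsPiSubgroup π M}).exists_le_maximal hK
  have hbot : IsPiSubgroup π (⊥ : Subgroup G) := fun p hp hd => by
    rw [Subgroup.card_bot, Nat.dvd_one] at hd
    exact absurd hd hp.one_lt.ne'
  obtain ⟨M, -, hM⟩ := hex ⊥ hbot
  refine ⟨M, hM.1, fun p hp hpπ => ?_⟩
  haveI := Fact.mk hp
  let P : Sylow p G := default
  obtain ⟨M', hPM', hM'⟩ := hex P (fun r hr hd => by
    obtain ⟨k, hk⟩ := P.isPGroup'.exists_card_eq
    rw [hk] at hd
    rwa [(Nat.prime_dvd_prime_iff_eq hr hp).1 (hr.dvd_of_dvd_pow hd)])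
  obtain ⟨g, hg⟩ := hD M M' hM hM'
  have hidx : M'.index = M.index := by
    rw [hg]
    exact Subgroup.index_map_of_bijective (MulEquiv.bijective _) _
  rw [← hidx]
  exact fun h => P.not_dvd_index
    (h.trans (Subgroup.index_dvd_of_le hPM'))

theorem dpi_of_cond {π : Set ℕ}
    (h : (∀ p q : ℕ, p.Prime → q.Prime → p ∈ π → q ∈ π → p = q) ∨ ∀ p : ℕ, p.Prime → p ∈ π)
    (G : Type) [Group G] [Finite G] : IsDPiGroup π G := by
  intro H K hH hK
  rcases h with h | h
  · by_cases hex : ∃ p, p.Prime ∧ p ∈ π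
    · obtain ⟨p, hp, hpπ⟩ := hex
      haveI := Fact.mk hp
      have hiff : ∀ M : Subgroup G, IsPiSubgroup π M ↔ IsPGroup p M := fun M => by
        constructor
        · intro hM
          exact IsPGroup.of_card (n := (Nat.card M).primeFactorsList.length) (Nat.eq_prime_pow_of_unique_prime_dvd
            Nat.card_pos.ne' fun {d} hd hdvd => h d p hd hp (hM d hd hdvd) hpπ)
        · intro hM r hr hd
          obtain ⟨k, hk⟩ := hM.exists_card_eq
          rw [hk] at hd
          rwa [(Nat.prime_dvd_prime_iff_eq hr hp).1 (hr.dvd_of_dvd_pow hd)]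
      have hsyl : ∀ M : Subgroup G, Maximal (IsPiSubgroup π) M → ∃ S : Sylow p G, (S : Subgroup G) = M :=
        fun M hM => by
          obtain ⟨S, hS⟩ := ((hiff M).1 hM.1).exists_le_sylow
          exact ⟨S, le_antisymm (hM.2 ((hiff _).2 S.isPGroup') hS) hS⟩
      obtain ⟨S, rfl⟩ := hsyl H hH
      obtain ⟨T, rfl⟩ := hsyl K hK
      obtain ⟨g, hg⟩ := MulAction.exists_smul_eq G S T
      exact ⟨g, by rw [← hg]; rfl⟩
    · push Not at hex
      have hiff : ∀ M : Subgroup G, IsPiSubgroup π M → M = ⊥ := fun M hM => by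
        by_contra hne
        obtain ⟨d, hd, hdvd⟩ := Nat.exists_prime_and_dvd (fun e => hne (M.eq_bot_of_card_eq e))
        exact hex d hd (hM d hd hdvd)
      refine ⟨1, ?_⟩
      rw [hiff H hH.1, hiff K hK.1, Subgroup.map_bot]
  · have htop : IsPiSubgroup π (⊤ : Subgroup G) := fun r hr _ => h r hr
    refine ⟨1, ?_⟩
    rw [top_le_iff.1 (hH.2 htop le_top), top_le_iff.1 (hK.2 htop le_top),
      Subgroup.map_top_of_surjective _ (MulEquiv.surjective _)]

/-- Case B: all primes in `π` are smaller than `r`, the least prime outside. -/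
theorem no_hall_succ {π : Set ℕ} {r : ℕ} (hr : r.Prime) (hr5 : 5 ≤ r) (hrπ : r ∉ π)
    (hmin : ∀ s, s.Prime → s < r → s ∈ π) : ¬ IsEPiGroup π (Perm (Fin (r + 1))) := by
  rintro ⟨H, hH1, hH2⟩
  haveI := Fact.mk hr
  have hcard : Nat.card (Perm (Fin (r + 1))) = (r + 1).factorial := by
    rw [Nat.card_perm, Nat.card_fin]
  have hmul := H.index_mul_card
  rw [hcard] at hmul
  have hrH : ¬ r ∣ Nat.card H := fun hd => hrπ (hH1 r hr hd)
  have honly : ∀ d, d.Prime → d ∣ H.index → d = r := by
    intro d hd hdvd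
    have hdle : d ≤ r + 1 := hd.dvd_factorial.1 (hmul ▸ hdvd.mul_right _)
    have hne : d ≠ r + 1 := by
      rintro rfl
      rcases hr.eq_two_or_odd with h | h
      · omega
      · have : 2 ∣ r + 1 := by omega
        have := (Nat.prime_dvd_prime_iff_eq Nat.prime_two hd).1 this
        omega
    by_contra hdr
    exact hH2 d hd (hmin d hd (by omega)) hdvd
  have hpow := Nat.eq_prime_pow_of_unique_prime_dvd H.index_ne_zero_of_finite
    (fun {d} hd hdvd => honly d hd hdvd)
  set k := H.index.primeFactorsList.length with hk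
  have hk1 : k = 1 := by
    rcases Nat.lt_trichotomy k 1 with h | h | h
    · exfalso
      have hk0 : k = 0 := by omega
      rw [hk0, pow_zero] at hpow
      rw [hpow, one_mul] at hmul
      exact hrH (hmul ▸ hr.dvd_factorial.2 (by omega))
    · exact h
    · exfalso
      have h2 : r ^ 2 ∣ (r + 1).factorial :=
        hmul ▸ ((pow_dvd_pow r h).trans (hpow ▸ dvd_rfl)).mul_right _
      obtain ⟨q, hq⟩ : ∃ q, r = q + 1 := ⟨r - 1, by omega⟩
      rw [Nat.factorial_succ] at h2
      have h3 : r ^ 2 ∣ r.factorial := by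
        refine Nat.Coprime.dvd_of_dvd_mul_left ?_ h2
        refine Nat.Coprime.pow_left 2 ?_
        exact (hr.coprime_iff_not_dvd).2 (fun hd => by
          have := Nat.le_of_dvd Nat.one_pos ((Nat.dvd_add_right dvd_rfl).1 hd); omega)
      rw [hq, Nat.factorial_succ, pow_two] at h3
      have h4 := Nat.dvd_of_mul_dvd_mul_left (by omega) h3
      rw [← hq, hr.dvd_factorial] at h4
      omega
  rw [hk1, pow_one] at hpow
  -- the core has index dividing r!
  have hcore : H.normalCore ≠ ⊥ := by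
    intro hbot
    have h1 : Nat.card (Perm (Fin (r + 1))) ∣ Nat.card (Perm (Perm (Fin (r + 1)) ⧸ H)) := by
      have hinj : Function.Injective (MulAction.toPermHom (Perm (Fin (r + 1))) (Perm (Fin (r + 1)) ⧸ H)) := by
        rw [← MonoidHom.ker_eq_bot_iff, ← Subgroup.normalCore_eq_ker, hbot]
      exact Subgroup.card_dvd_of_injective _ hinj
    rw [hcard, Nat.card_perm, ← Subgroup.index_eq_card, hpow] at h1
    have := Nat.le_of_dvd r.factorial_pos h1
    rw [Nat.factorial_succ] at this
    nlinarith [r.factorial_pos]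
  haveI : Nontrivial H.normalCore := (Subgroup.nontrivial_iff_ne_bot _).2 hcore
  have hle : alternatingGroup (Fin (r + 1)) ≤ H :=
    (Perm.alternatingGroup_le_of_normal (by rw [Nat.card_fin]; omega) inferInstance).trans
      H.normalCore_le
  have h2 := Subgroup.index_dvd_of_le hle
  rw [alternatingGroup.index_eq_two, hpow] at h2
  have := Nat.le_of_dvd two_pos h2
  omega

/-- Case A: a prime outside `π` below a prime of `π`. -/
theorem no_hall_self {π : Set ℕ} {p q r : ℕ} (hp : p.Prime) (hq : q.Prime) (hr : r.Prime)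
    (hpπ : p ∈ π) (hqπ : q ∈ π) (hrπ : r ∉ π) (hpq : p < q) (hrq : r < q)
    (hpmin : ∀ s, s.Prime → s ∈ π → p ≤ s) : ¬ IsEPiGroup π (Perm (Fin q)) := by
  rintro ⟨H, hH1, hH2⟩
  haveI := Fact.mk hq
  haveI := Fact.mk hp
  have hq5 : 5 ≤ q := by
    have := hp.two_le
    have := hr.two_le
    by_contra hlt
    have h3 : q = 3 := by
      rcases hq.eq_two_or_odd with h | h <;> omega
    have : p = 2 := by omega
    have : r = 2 := by omega
    exact hrπ (by subst_vars; assumption)
  have hcard : Nat.card (Perm (Fin q)) = q.factorial := by rw [Nat.card_perm, Nat.card_fin]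
  have hmul := H.index_mul_card
  rw [hcard] at hmul
  have hdvdH : ∀ s, s.Prime → s ∈ π → s ≤ q → s ∣ Nat.card H := fun s hs hsπ hsq =>
    (hs.dvd_mul.1 (hmul ▸ hs.dvd_factorial.2 hsq)).resolve_left (hH2 s hs hsπ)
  have hrH : ¬ r ∣ Nat.card H := fun hd => hrπ (hH1 r hr hd)
  -- a q-cycle
  obtain ⟨⟨g, hgH⟩, hgo⟩ := exists_prime_orderOf_dvd_card' q (hdvdH q hq hqπ le_rfl)
  rw [Subgroup.orderOf_mk] at hgo
  have hgc : g.IsCycle := Perm.isCycle_of_prime_order' (by rw [hgo]; exact hq) (by rw [Fintype.card_fin, hgo]; omega)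
  have hgs : g.support.card = q := hgc.orderOf.symm.trans hgo
  have hgu : g.support = Finset.univ := Finset.eq_univ_of_card _ (by rw [hgs, Fintype.card_fin])
  have htr : MulAction.IsPretransitive H (Fin q) := by
    refine ⟨fun a b => ?_⟩
    obtain ⟨i, hi⟩ := hgc.exists_zpow_eq (x := a) (y := b)
      (Perm.mem_support.1 (hgu ▸ Finset.mem_univ a)) (Perm.mem_support.1 (hgu ▸ Finset.mem_univ b))
    exact ⟨⟨g ^ i, H.zpow_mem hgH i⟩, hi⟩
  -- a p-cycle
  obtain ⟨x, hxH, hxc, hxs⟩ : ∃ x ∈ H, Perm.IsCycle x ∧ x.support.card = p := by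
    obtain ⟨c, hc⟩ : ∃ c : Perm (Fin q), c.IsCycle ∧ c.support.card = p := by
      let l : List (Fin q) := (List.finRange q).take p
      have hl : l.Nodup := (List.nodup_finRange q).sublist (List.take_sublist _ _)
      have hlen : l.length = p := by simp [l, hpq.le]
      refine ⟨l.formPerm, List.isCycle_formPerm hl (by rw [hlen]; exact hp.two_le), ?_⟩
      rw [List.support_formPerm_of_nodup l hl (fun a ha => by
        have := hp.two_le
        rw [ha] at hlen; simp at hlen; omega), List.toFinset_card_of_nodup hl, hlen]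
    have hco : orderOf c = p := hc.1.orderOf.trans hc.2
    obtain ⟨SH, -⟩ : ∃ S : Sylow p H, True := ⟨default, trivial⟩
    let S : Sylow p (Perm (Fin q)) := Sylow.ofCard ((SH : Subgroup H).map H.subtype) (by
      rw [Subgroup.card_map_of_injective H.subtype_injective, SH.card_eq_multiplicity, ← H.index_mul_card,
        Nat.factorization_mul H.index_ne_zero_of_finite Nat.card_pos.ne', Finsupp.add_apply,
        Nat.factorization_eq_zero_of_not_dvd (hH2 p hp hpπ), zero_add])
    have hcp : IsPGroup p (Subgroup.zpowers c) := IsPGroup.of_card (n := 1) (by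
      rw [Nat.card_zpowers, hco, pow_one])
    obtain ⟨T, hT⟩ := hcp.exists_le_sylow
    obtain ⟨t, ht⟩ := MulAction.exists_smul_eq (Perm (Fin q)) T S
    have hmem : t * c * t⁻¹ ∈ (S : Subgroup (Perm (Fin q))) := by
      rw [← ht]
      exact ⟨c, hT (Subgroup.mem_zpowers c), rfl⟩
    exact ⟨t * c * t⁻¹, Subgroup.map_subtype_le _ hmem, hc.1.conj,
      by rw [Perm.card_support_conj, hc.2]⟩
  rcases Nat.lt_or_ge (p + 2) q with hbig | hsmall
  · have hle := CfsgLib.Perm.alternatingGroup_le_of_prime_cycle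
      (G := H) (MulAction.IsPreprimitive.of_prime_card (by rwa [Nat.card_fin])) (p := p)
      (by rw [Fintype.card_fin]; omega) hxc hxs hxH
    have h2 := Subgroup.card_dvd_of_le hle
    haveI : Nontrivial (Fin q) := Fin.nontrivial_iff_two_le.2 (by omega)
    have h3 : 2 * Nat.card (alternatingGroup (Fin q)) = q.factorial := by
      rw [← hcard, ← Subgroup.index_mul_card (alternatingGroup (Fin q)), alternatingGroup.index_eq_two]
    refine hrH (dvd_trans ?_ h2)
    rcases hr.eq_two_or_odd with h | h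
    · subst h
      have h4 : 4 ∣ q.factorial := Nat.dvd_factorial (by norm_num) (by omega)
      rw [← h3] at h4
      omega
    · exact ((hr.coprime_iff_not_dvd).2 (fun hd => by
        have := (Nat.prime_dvd_prime_iff_eq hr Nat.prime_two).1 hd; omega)).dvd_of_dvd_mul_left
        (h3 ▸ hr.dvd_factorial.2 hrq.le)
  · -- q = p + 2
    have hqp : q = p + 2 := by
      rcases hp.eq_two_or_odd with h | h
      · omega
      · rcases hq.eq_two_or_odd with h' | h' <;> omega
    have honly : ∀ s, s.Prime → s ∣ Nat.card H → s = p ∨ s = q := by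
      intro s hs hd
      have h1 := hpmin s hs (hH1 s hs hd)
      have h2 : s ≤ q := hs.dvd_factorial.1 (hmul ▸ hd.mul_left _)
      by_contra hne
      push Not at hne
      have h3 : s = p + 1 := by omega
      rcases hs.eq_two_or_odd with h | h <;> rcases hp.eq_two_or_odd with h' | h' <;> omega
    -- the number of Sylow q-subgroups of H is 1
    have hsq : ¬ p ^ 2 ∣ q.factorial := by
      intro hd
      have h1 : p ^ 2 ∣ (p + 1).factorial := by
        rw [hqp, Nat.factorial_succ] at hd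
        refine Nat.Coprime.dvd_of_dvd_mul_left (Nat.Coprime.pow_left 2 ?_) hd
        exact (hp.coprime_iff_not_dvd).2 (fun hd' => by
          have := Nat.le_of_dvd two_pos ((Nat.dvd_add_right dvd_rfl).1 hd'); omega)
      rw [Nat.factorial_succ] at h1
      have h2 : p ^ 2 ∣ p.factorial :=
        Nat.Coprime.dvd_of_dvd_mul_left (Nat.Coprime.pow_left 2 ((hp.coprime_iff_not_dvd).2 (fun hd' => by
          have := Nat.le_of_dvd Nat.one_pos ((Nat.dvd_add_right dvd_rfl).1 hd'); have := hp.two_le; omega))) h1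
      rw [← Nat.succ_pred_eq_of_pos hp.pos, Nat.factorial_succ, pow_two] at h2
      have h3 := Nat.dvd_of_mul_dvd_mul_left (Nat.succ_pos _) h2
      rw [Nat.succ_pred_eq_of_pos hp.pos, hp.dvd_factorial, Nat.pred_eq_sub_one] at h3
      have := hp.pos
      omega
    let Q : Sylow q H := default
    have hQidx : (Q : Subgroup H).index ∣ p := by
      have hqI : ¬ q ∣ (Q : Subgroup H).index := Q.not_dvd_index
      have honly' : ∀ {d : ℕ}, d.Prime → d ∣ (Q : Subgroup H).index → d = p := fun {d} hd hdvd =>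
        (honly d hd (hdvd.trans (Subgroup.index_dvd_card _))).resolve_right
          (fun h => hqI (h ▸ hdvd))
      have h1 := Nat.eq_prime_pow_of_unique_prime_dvd (Subgroup.index_ne_zero_of_finite) honly'
      rw [h1]
      rcases Nat.lt_or_ge (Q : Subgroup H).index.primeFactorsList.length 2 with h | h
      · exact (pow_dvd_pow p (show _ ≤ 1 by omega)).trans (pow_one p).dvd
      · exact absurd (((pow_dvd_pow p h).trans (dvd_of_eq h1.symm)).trans
          ((Subgroup.index_dvd_card _).trans (hmul ▸ dvd_mul_left _ _))) hsq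
    have hn1 : Nat.card (Sylow q H) = 1 := by
      rcases (Nat.dvd_prime hp).1 ((Sylow.card_dvd_index Q).trans hQidx) with h | h
      · exact h
      · exfalso
        have hmod := card_sylow_modEq_one q H
        rw [h, Nat.ModEq, Nat.mod_eq_of_lt hpq, Nat.mod_eq_of_lt hq.one_lt] at hmod
        exact hp.one_lt.ne' hmod
    haveI : Subsingleton (Sylow q H) := (Nat.card_eq_one_iff_unique.1 hn1).1
    have hgQ : ∀ u : H, u ∈ Subgroup.zpowers (⟨g, hgH⟩ : H) → u ∈ (Q : Subgroup H) := by
      intro u hu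
      obtain ⟨T, hT⟩ := (IsPGroup.of_card (G := Subgroup.zpowers (⟨g, hgH⟩ : H)) (p := q) (n := 1) (by
        rw [Nat.card_zpowers, Subgroup.orderOf_mk, hgo, pow_one])).exists_le_sylow
      exact Subsingleton.elim T Q ▸ hT hu
    have hQeq : Subgroup.zpowers (⟨g, hgH⟩ : H) = (Q : Subgroup H) := by
      refine Subgroup.eq_of_le_of_card_ge hgQ ?_
      rw [Nat.card_zpowers, Subgroup.orderOf_mk, hgo]
      obtain ⟨k, hk⟩ := Q.isPGroup'.exists_card_eq
      rw [hk]
      rcases Nat.lt_or_ge k 2 with h | h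
      · exact (Nat.pow_le_pow_right hq.pos (show k ≤ 1 by omega)).trans (pow_one q).le
      · exfalso
        have h1 : q ^ 2 ∣ q.factorial :=
          ((pow_dvd_pow q h).trans (hk ▸ Subgroup.card_subgroup_dvd_card _)).trans (hmul ▸ dvd_mul_left _ _)
        rw [← Nat.succ_pred_eq_of_pos hq.pos, Nat.factorial_succ, pow_two] at h1
        have h3 := Nat.dvd_of_mul_dvd_mul_left (Nat.succ_pos _) h1
        rw [Nat.succ_pred_eq_of_pos hq.pos, hq.dvd_factorial, Nat.pred_eq_sub_one] at h3
        omega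
    haveI : (Q : Subgroup H).Normal := Sylow.normal_of_subsingleton Q
    obtain ⟨i, hi⟩ : ∃ i : ℤ, g ^ i = x * g * x⁻¹ := by
      have hm : (⟨x, hxH⟩ * ⟨g, hgH⟩ * ⟨x, hxH⟩⁻¹ : H) ∈ Subgroup.zpowers (⟨g, hgH⟩ : H) := by
        rw [hQeq]
        exact Subgroup.Normal.conj_mem inferInstance _ (hQeq ▸ Subgroup.mem_zpowers _) _
      obtain ⟨i, hi⟩ := Subgroup.mem_zpowers_iff.1 hm
      exact ⟨i, by simpa using congrArg Subtype.val hi⟩
    -- exponent argument
    have hxo : orderOf x = p := hxc.orderOf.trans hxs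
    have hxg : x * g * x⁻¹ = g := by
      have hpow : ∀ n : ℕ, x ^ n * g * (x ^ n)⁻¹ = g ^ (i ^ n) := by
        intro n
        induction n with
        | zero => simp
        | succ n ih =>
          calc x ^ (n + 1) * g * (x ^ (n + 1))⁻¹ = x * (x ^ n * g * (x ^ n)⁻¹) * x⁻¹ := by
                rw [pow_succ']; group
            _ = (x * g * x⁻¹) ^ (i ^ n) := by rw [ih, conj_zpow]
            _ = g ^ (i ^ (n + 1)) := by rw [← hi, ← zpow_mul, pow_succ, mul_comm (i ^ n)]
      have h1 := hpow p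
      rw [← hxo, pow_orderOf_eq_one, hxo, inv_one, mul_one, one_mul] at h1
      have h2 : ((i : ZMod q)) ^ p = 1 := by
        have h3 : g ^ ((1 : ℤ)) = g ^ (i ^ p) := by rw [zpow_one]; exact h1
        rw [zpow_eq_zpow_iff_modEq, hgo, ← ZMod.intCast_eq_intCast_iff] at h3
        push_cast at h3
        exact h3.symm
      have hne : (i : ZMod q) ≠ 0 := fun h => by
        rw [h, zero_pow hp.ne_zero] at h2
        exact zero_ne_one h2
      have h4 : (i : ZMod q) = 1 := by
        have := pow_gcd_eq_one.2 ⟨h2, ZMod.pow_card_sub_one_eq_one hne⟩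
        rwa [show Nat.gcd p (q - 1) = 1 from by
          rw [show q - 1 = p + 1 by omega, Nat.gcd_self_add_right, Nat.gcd_one_right], pow_one] at this
      rw [← hi]
      nth_rw 2 [← zpow_one g]
      rw [zpow_eq_zpow_iff_modEq, hgo, ← ZMod.intCast_eq_intCast_iff, h4, Int.cast_one]
    -- a fixed point propagates
    obtain ⟨a, ha⟩ : ∃ a, x a = a := by
      by_contra h
      push Not at h
      have : x.support = Finset.univ := Finset.eq_univ_of_forall fun a => Perm.mem_support.2 (h a)
      rw [this, Finset.card_univ, Fintype.card_fin] at hxs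
      omega
    apply hxc.ne_one
    ext b
    obtain ⟨j, hj⟩ := hgc.exists_zpow_eq (x := a) (y := b)
      (Perm.mem_support.1 (hgu ▸ Finset.mem_univ a)) (Perm.mem_support.1 (hgu ▸ Finset.mem_univ b))
    have hc : Commute x g := mul_inv_eq_iff_eq_mul.1 hxg
    have h5 : x b = b := by
      rw [← hj, ← Perm.mul_apply, (hc.zpow_right j).eq, Perm.mul_apply, ha]
    simp [h5]

theorem cond_of_epi {π : Set ℕ} (h : ∀ (G : Type) [Group G] [Finite G], IsEPiGroup π G) :
    (∀ p q : ℕ, p.Prime → q.Prime → p ∈ π → q ∈ π → p = q) ∨ ∀ p : ℕ, p.Prime → p ∈ π := by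
  classical
  by_contra hc
  push Not at hc
  obtain ⟨⟨a, b, ha, hb, haπ, hbπ, hab⟩, r₀, hr₀, hr₀π⟩ := hc
  have hexp : ∃ p, p.Prime ∧ p ∈ π := ⟨a, ha, haπ⟩
  obtain ⟨hp, hpπ⟩ := Nat.find_spec hexp
  have hpmin : ∀ s, s.Prime → s ∈ π → Nat.find hexp ≤ s := fun s hs hsπ => Nat.find_min' hexp ⟨hs, hsπ⟩
  set p := Nat.find hexp with hpdef
  by_cases hA : ∃ q r, q.Prime ∧ r.Prime ∧ q ∈ π ∧ r ∉ π ∧ r < q ∧ p < q
  · obtain ⟨q, r, hq, hr, hqπ, hrπ, hrq, hpq⟩ := hA
    exact no_hall_self hp hq hr hpπ hqπ hrπ hpq hrq hpmin (h _)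
  · push Not at hA
    have hexr : ∃ r, r.Prime ∧ r ∉ π := ⟨r₀, hr₀, hr₀π⟩
    obtain ⟨hr, hrπ⟩ := Nat.find_spec hexr
    have hrmin : ∀ s, s.Prime → s < Nat.find hexr → s ∈ π := fun s hs hlt => by
      by_contra hsπ
      exact Nat.find_min hexr hlt ⟨hs, hsπ⟩
    set r := Nat.find hexr with hrdef
    obtain ⟨q, hq, hqπ, hpq⟩ : ∃ q, q.Prime ∧ q ∈ π ∧ p < q := by
      rcases (hpmin a ha haπ).lt_or_eq with hlt | heq
      · exact ⟨a, ha, haπ, hlt⟩
      · exact ⟨b, hb, hbπ, lt_of_le_of_ne (hpmin b hb hbπ) (heq ▸ hab)⟩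
    have hqr : q < r := by
      refine lt_of_le_of_ne ?_ (fun e => hrπ (e ▸ hqπ))
      by_contra hlt
      exact absurd hpq (not_lt.2 (hA q r hq hr hqπ hrπ (by omega)))
    have hr5 : 5 ≤ r := by
      have := hp.two_le
      rcases hr.eq_two_or_odd with h | h <;> omega
    exact no_hall_succ hr hr5 hrπ hrmin (h _)


/-- For a set of primes π the following are equivalent: every finite group has a Hall π-subgroup; in every finite group the maximal π-subgroups are pairwise conjugate; π contains at most one prime or contains every prime. -/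
theorem result (π : Set ℕ) :
    ((∀ (G : Type) [Group G] [Finite G], Cfsg.IsEPiGroup π G) ↔
      ((∀ p q : ℕ, p.Prime → q.Prime → p ∈ π → q ∈ π → p = q) ∨ ∀ p : ℕ, p.Prime → p ∈ π)) ∧
    ((∀ (G : Type) [Group G] [Finite G], Cfsg.IsDPiGroup π G) ↔
      ((∀ p q : ℕ, p.Prime → q.Prime → p ∈ π → q ∈ π → p = q) ∨ ∀ p : ℕ, p.Prime → p ∈ π)) := by
  refine ⟨⟨cond_of_epi, fun h G _ _ => epi_of_dpi (dpi_of_cond h G)⟩,
    ⟨fun h => cond_of_epi fun G _ _ => epi_of_dpi (h G), fun h G _ _ => dpi_of_cond h G⟩⟩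

end Cfsg.Agent.S3878
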