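import Cfsg.Statements.S3881
import Cfsg.Agent.Lib.PGroups.MetacyclicSubgroups

set_option autoImplicit false
open Cfsg

namespace Cfsg.Agent.S3881

/-- Let p be an odd prime and G a finite metacyclic p-group (G has a cyclic normal subgroup with cyclic quotient). Suppose G is non-abelian with |G'| = p^n. Then for 1 ≤ i ≤ n the number of elements of G whose conjugacy class has exactly p^i elements is |Z(G)| · (p^(2i) − p^(2i−2)). -/
theorem result {G : Type*} [Group G] [Finite G] {p : ℕ} [Fact p.Prime] (hp : p ≠ 2) (hG : IsPGroup p G) (hmc : Cfsg.IsMetacyclic G) (n : ℕ) (hn : n ≠ 0) (hGn : Nat.card ↥(commutator G) = p ^ n) (i : ℕ) (hi : 1 ≤ i) (hin : i ≤ n) :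
    Nat.card {g : G // (Subgroup.centralizer ({g} : Set G)).index = p ^ i} =
      Nat.card ↥(Subgroup.center G) * (p ^ (2 * i) - p ^ (2 * i - 2)) := by
  obtain ⟨a, b, m, x, y, r, M⟩ := CfsgLib.PGroups.exists_metaPres hp hG hmc
  have hnm : m = n :=
    Nat.pow_right_injective (Fact.out : p.Prime).two_le (M.card_commutator.symm.trans hGn)
  subst hnm
  let A := CfsgLib.PGroups.metaLevel p x y (m - i)
  let B := CfsgLib.PGroups.metaLevel p x y (m - (i - 1))
  have hset : ∀ g : G, (Subgroup.centralizer ({g} : Set G)).index = p ^ i ↔ g ∈ A ∧ g ∉ B := by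
    intro g
    rw [← M.index_centralizer_le_iff hG, ← M.index_centralizer_le_iff hG]
    obtain ⟨k, hk⟩ := CfsgLib.PGroups.index_eq_pow hG (Subgroup.centralizer ({g} : Set G))
    have hp1 := (Fact.out : p.Prime).one_lt
    rw [hk, Nat.pow_le_pow_iff_right hp1, Nat.pow_le_pow_iff_right hp1,
      (Nat.pow_right_injective hp1).eq_iff]
    omega
  have hBA : B ≤ A := by
    intro g hg
    rw [← M.index_centralizer_le_iff hG] at hg ⊢
    exact hg.trans (Nat.pow_le_pow_right (Fact.out : p.Prime).pos (Nat.sub_le i 1))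
  rw [Nat.card_congr (Equiv.subtypeEquivRight hset)]
  show Nat.card ↥((A : Set G) \ (B : Set G)) = _
  rw [Nat.card_coe_set_eq, Set.ncard_sdiff hBA, ← Nat.card_coe_set_eq, ← Nat.card_coe_set_eq]
  simp only [SetLike.coe_sort_coe, A, B]
  rw [M.card_level (Nat.sub_le _ _), M.card_level (Nat.sub_le _ _), ← Nat.mul_sub]
  congr 3 <;> omega

end Cfsg.Agent.S3881
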