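import Cfsg.Statements.S3883
import Cfsg.Agent.Lib.PGroups.MetacyclicSubgroups

set_option autoImplicit false
open Cfsg

namespace Cfsg.Agent.S3883

/-- Let p be an odd prime and G a finite metacyclic p-group (G has a cyclic normal subgroup with cyclic quotient). Suppose G is non-abelian. Then an element g of G lies outside the Frattini subgroup if and only if its centralizer C_G(g) is abelian. -/
theorem result {G : Type*} [Group G] [Finite G] {p : ℕ} [Fact p.Prime] (hp : p ≠ 2) (hG : IsPGroup p G) (hmc : Cfsg.IsMetacyclic G) (hna : ¬ IsMulCommutative G) (g : G) :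
    g ∉ frattini G ↔ IsMulCommutative ↥(Subgroup.centralizer ({g} : Set G)) := by
  obtain ⟨a, b, n, x, y, r, M⟩ := CfsgLib.PGroups.exists_metaPres hp hG hmc
  have hn : n ≠ 0 := fun h => hna (M.isMulCommutative_iff.mpr h)
  have hp1 := (Fact.out : p.Prime).one_lt
  let K := Subgroup.center G ⊔ Subgroup.zpowers g
  have hKC : K ≤ Subgroup.centralizer ({g} : Set G) :=
    sup_le (Subgroup.center_le_centralizer _)
      (Subgroup.zpowers_le.mpr (Subgroup.mem_centralizer_singleton_iff.mpr rfl))
  have hCK : Subgroup.centralizer (K : Set G) = Subgroup.centralizer ({g} : Set G) :=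
    M.centralizer_sup_center g
  have hCC := M.centralizer_centralizer hG (le_sup_left : Subgroup.center G ≤ K)
  rw [hCK] at hCC
  have h1 : IsMulCommutative ↥(Subgroup.centralizer ({g} : Set G)) ↔
      Nat.card ↥(Subgroup.centralizer ({g} : Set G)) = Nat.card K := by
    rw [CfsgLib.PGroups.isMulCommutative_iff_le_centralizer, hCC]
    exact ⟨fun h => by rw [le_antisymm h hKC],
      fun h => (Subgroup.eq_of_le_of_card_ge hKC h.le).ge⟩
  have e := M.card_mul_card_centralizer hG (le_sup_left : Subgroup.center G ≤ K)
  rw [hCK, ← Subgroup.index_mul_card (Subgroup.centralizer ({g} : Set G))] at e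
  obtain ⟨k, hk⟩ := CfsgLib.PGroups.index_eq_pow hG (Subgroup.centralizer ({g} : Set G))
  have hKcard : Nat.card K = p ^ k * Nat.card (Subgroup.center G) := by
    refine Nat.eq_of_mul_eq_mul_right
      (Nat.card_pos (α := Subgroup.centralizer ({g} : Set G))) ?_
    rw [hk] at e
    linear_combination e
  have hkn : k ≤ n := by
    have : (Subgroup.centralizer ({g} : Set G)).index ≤ p ^ n :=
      (M.index_centralizer_le_iff hG g n).mpr (by rw [Nat.sub_self, M.level_zero]; trivial)
    rwa [hk, Nat.pow_le_pow_iff_right hp1] at this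
  have hmem : g ∈ frattini G ↔ k ≤ n - 1 := by
    have hl : CfsgLib.PGroups.metaLevel p x y 1 = CfsgLib.PGroups.metaLevel p x y (n - (n - 1)) := by
      congr 1; omega
    rw [M.frattini_eq_level hG, hl, ← M.index_centralizer_le_iff hG, hk,
      Nat.pow_le_pow_iff_right hp1]
  have hC : Nat.card ↥(Subgroup.centralizer ({g} : Set G)) =
      p ^ (2 * n - k) * Nat.card (Subgroup.center G) := by
    refine Nat.eq_of_mul_eq_mul_left (pow_pos (Fact.out : p.Prime).pos k) ?_
    rw [← mul_assoc, ← pow_add, show k + (2 * n - k) = 2 * n by omega, ← hk, Subgroup.index_mul_card,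
      mul_comm (p ^ _), M.card_center, M.card_eq]
  rw [hmem, h1, hKcard, hC, mul_left_inj' Nat.card_pos.ne', (Nat.pow_right_injective hp1).eq_iff]
  omega

end Cfsg.Agent.S3883
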