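import Cfsg.Statements.S3886
import Cfsg.Agent.Lib.PGroups.MetacyclicSubgroups

set_option autoImplicit false
open Cfsg

namespace Cfsg.Agent.S3886

/-- Let p be an odd prime and G a finite metacyclic p-group (G has a cyclic normal subgroup with cyclic quotient). Then the largest value of |R| · |Z(R)| over subgroups R of G is |G : G'|², and the subgroups attaining it (the centrally large subgroups) are exactly the non-abelian subgroups together with the maximal abelian subgroups of G. -/
theorem result {G : Type*} [Group G] [Finite G] {p : ℕ} [Fact p.Prime] (hp : p ≠ 2) (hG : IsPGroup p G) (hmc : Cfsg.IsMetacyclic G) : Cfsg.maxCentralProduct G = (commutator G).index ^ 2 ∧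
    ∀ R : Subgroup G, Cfsg.IsCentrallyLarge R ↔ (¬ IsMulCommutative ↥R ∨ Maximal (fun K : Subgroup G => IsMulCommutative ↥K) R) := by
  obtain ⟨a, b, n, x, y, r, M⟩ := CfsgLib.PGroups.exists_metaPres hp hG hmc
  have hcomm : ∀ R : Subgroup G, IsMulCommutative ↥R →
      Nat.card (Subgroup.center ↥R) = Nat.card R := fun R hR => by
    rw [(Subgroup.center_eq_top_iff (G := ↥R)).mpr hR, Subgroup.card_top]
  have hle : ∀ R : Subgroup G,
      Nat.card R * Nat.card (Subgroup.center ↥R) ≤ (commutator G).index ^ 2 := by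
    intro R
    by_cases hR : IsMulCommutative ↥R
    · rw [hcomm R hR, ← pow_two]
      exact Nat.pow_le_pow_left ((M.isMulCommutative_subgroup_iff R).mp hR) 2
    · exact (M.card_mul_card_center_of_not_comm R hR).le
  have hattain : ∀ R : Subgroup G, Nat.card R * Nat.card (Subgroup.center ↥R) =
      (commutator G).index ^ 2 ↔
      (¬ IsMulCommutative ↥R ∨ Maximal (fun K : Subgroup G => IsMulCommutative ↥K) R) := by
    intro R
    rw [M.maximal_isMulCommutative_iff hG]
    by_cases hR : IsMulCommutative ↥R
    · rw [hcomm R hR, ← pow_two, (Nat.pow_left_injective two_ne_zero).eq_iff]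
      exact ⟨Or.inr, fun h => h.resolve_left (not_not.mpr hR)⟩
    · exact ⟨fun _ => Or.inl hR, fun _ => M.card_mul_card_center_of_not_comm R hR⟩
  obtain ⟨A, hA⟩ := Set.Finite.exists_maximal (s := {K : Subgroup G | IsMulCommutative ↥K})
    (Set.toFinite _) ⟨⊥, inferInstanceAs (IsMulCommutative (⊥ : Subgroup G))⟩
  have hmax : Cfsg.maxCentralProduct G = (commutator G).index ^ 2 := by
    refine IsGreatest.csSup_eq ⟨⟨A, (hattain A).mpr (Or.inr hA)⟩, ?_⟩
    rintro _ ⟨R, rfl⟩
    exact hle R
  refine ⟨hmax, fun R => ?_⟩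
  rw [Cfsg.IsCentrallyLarge, hmax]
  exact hattain R

end Cfsg.Agent.S3886
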