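import Cfsg.Statements.S3887
import Cfsg.Agent.Lib.PGroups.MetacyclicSubgroups

set_option autoImplicit false
open Cfsg

namespace Cfsg.Agent.S3887

/-- Let p be an odd prime and G a finite metacyclic p-group (G has a cyclic normal subgroup with cyclic quotient). Then a subgroup R of G maximizes |R| · |C_G(R)| over all subgroups of G if and only if R contains the center of G. -/
theorem result {G : Type*} [Group G] [Finite G] {p : ℕ} [Fact p.Prime] (hp : p ≠ 2) (hG : IsPGroup p G) (hmc : Cfsg.IsMetacyclic G) (R : Subgroup G) : Cfsg.IsCentralizerLarge R ↔ Subgroup.center G ≤ R := by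
  obtain ⟨a, b, n, x, y, r, M⟩ := CfsgLib.PGroups.exists_metaPres hp hG hmc
  have hsame : ∀ S : Subgroup G,
      Subgroup.centralizer ((S ⊔ Subgroup.center G : Subgroup G) : Set G) =
        Subgroup.centralizer (S : Set G) := by
    intro S
    refine le_antisymm (Subgroup.centralizer_le (le_sup_left : S ≤ S ⊔ Subgroup.center G)) ?_
    rw [Subgroup.le_centralizer_iff]
    exact sup_le (fun k hk c hc => (hc k hk).symm) (Subgroup.center_le_centralizer _)
  have hval := fun S : Subgroup G =>
    M.card_mul_card_centralizer hG (le_sup_right : Subgroup.center G ≤ S ⊔ Subgroup.center G)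
  have hle : ∀ S : Subgroup G, Nat.card S * Nat.card (Subgroup.centralizer (S : Set G)) ≤
      Nat.card G * Nat.card (Subgroup.center G) := by
    intro S
    rw [← hval S, hsame S]
    exact Nat.mul_le_mul_right _ (Subgroup.card_le_of_le le_sup_left)
  have hmax : Cfsg.maxCentralizerProduct G = Nat.card G * Nat.card (Subgroup.center G) := by
    refine IsGreatest.csSup_eq ⟨⟨_, M.card_mul_card_centralizer hG le_rfl⟩, ?_⟩
    rintro _ ⟨S, rfl⟩
    exact hle S
  rw [Cfsg.IsCentralizerLarge, hmax]
  refine ⟨fun h => ?_, fun h => M.card_mul_card_centralizer hG h⟩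
  rw [← hval R, hsame R] at h
  rw [Subgroup.eq_of_le_of_card_ge (le_sup_left : R ≤ R ⊔ Subgroup.center G)
    (Nat.eq_of_mul_eq_mul_right Nat.card_pos h).ge]
  exact le_sup_right

end Cfsg.Agent.S3887
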