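import Cfsg.Statements.S3889
open Subgroup

set_option autoImplicit false
open Cfsg

namespace Cfsg.Agent.S3889

/-- A finite abelian group that is the union of a family of proper subgroups any two of which intersect trivially is elementary abelian: its exponent is a prime. -/
theorem result {G : Type*} [CommGroup G] [Finite G] (𝓑 : Set (Subgroup G)) (hprop : ∀ B ∈ 𝓑, B ≠ ⊤)
    (hcov : ∀ g : G, ∃ B ∈ 𝓑, g ∈ B) (hdisj : ∀ B ∈ 𝓑, ∀ C ∈ 𝓑, B ≠ C → B ⊓ C = ⊥) :
    (Monoid.exponent G).Prime := by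
  classical
  have hnt : ∃ g : G, g ≠ 1 := by
    obtain ⟨B, hB, -⟩ := hcov 1
    obtain ⟨g, hg⟩ := not_forall.1 fun h => hprop B hB ((Subgroup.eq_top_iff' B).2 h)
    exact ⟨g, fun h => hg (h ▸ one_mem B)⟩
  have huniq : ∀ g : G, g ≠ 1 → ∀ B ∈ 𝓑, ∀ C ∈ 𝓑, g ∈ B → g ∈ C → B = C := by
    intro g hg B hB C hC hgB hgC
    by_contra hne
    exact hg ((Subgroup.eq_bot_iff_forall _).1 (hdisj B hB C hC hne) g ⟨hgB, hgC⟩)
  have hle : ∀ B ∈ 𝓑, ∀ a b : G, a ∈ B → b ∉ B → a ≠ 1 → b ^ orderOf a = 1 := by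
    intro B hB a b ha hb ha1
    by_contra hbn
    obtain ⟨C, hC, hbC⟩ := hcov b
    obtain ⟨D, hD, habD⟩ := hcov (a * b)
    have h1 : (a * b) ^ orderOf a = b ^ orderOf a := by rw [mul_pow, pow_orderOf_eq_one, one_mul]
    have hDC : D = C := huniq _ hbn D hD C hC (h1 ▸ pow_mem habD _) (pow_mem hbC _)
    have haC : a ∈ C := (C.mul_mem_cancel_right hbC).1 (hDC ▸ habD)
    exact hb (huniq a ha1 B hB C hC ha haC ▸ hbC)
  have hrev : ∀ B ∈ 𝓑, ∀ a b : G, a ∈ B → b ∉ B → a ≠ 1 → orderOf a = orderOf b := by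
    intro B hB a b ha hb ha1
    obtain ⟨C, hC, hbC⟩ := hcov b
    have hb1 : b ≠ 1 := fun h => hb (h ▸ one_mem B)
    have haC : a ∉ C := fun h => hb (huniq a ha1 B hB C hC ha h ▸ hbC)
    exact Nat.dvd_antisymm (orderOf_dvd_of_pow_eq_one (hle C hC b a hbC haC hb1))
      (orderOf_dvd_of_pow_eq_one (hle B hB a b ha hb ha1))
  obtain ⟨g, hg⟩ := hnt
  have hall : ∀ a : G, a ≠ 1 → orderOf a = orderOf g := by
    intro a ha
    obtain ⟨B, hB, haB⟩ := hcov a
    by_cases hgB : g ∈ B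
    · obtain ⟨c, hc⟩ := not_forall.1 fun h => hprop B hB ((Subgroup.eq_top_iff' B).2 h)
      exact (hrev B hB a c haB hc ha).trans (hrev B hB g c hgB hc hg).symm
    · exact hrev B hB a g haB hgB ha
  obtain ⟨p, hp, hd⟩ := Nat.exists_prime_and_dvd (n := orderOf g)
    (fun h => hg (orderOf_eq_one_iff.1 h))
  haveI := Fact.mk hp
  obtain ⟨u, hu⟩ := exists_prime_orderOf_dvd_card' (G := G) p (hd.trans (orderOf_dvd_natCard g))
  have hgp : orderOf g = p := by
    rw [← hall u (fun h => hp.one_lt.ne' (by rw [← hu, h, orderOf_one])), hu]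
  have hE : Monoid.exponent G = p := Nat.dvd_antisymm (Monoid.exponent_dvd.2 fun a => by
      rcases eq_or_ne a 1 with rfl | ha
      · simp
      · rw [hall a ha, hgp])
    (hgp ▸ Monoid.order_dvd_exponent g)
  exact hE ▸ hp

end Cfsg.Agent.S3889
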