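import Cfsg.Statements.S3890
import Cfsg.Agent.Lib.FgsP.NilpotentCover

set_option autoImplicit false
open Cfsg

namespace Cfsg.Agent.S3890

/-- A cover of a group is a finite set of proper subgroups whose union is the whole group; it is minimal when no cover has fewer members, and nilpotent when all its members are nilpotent. Let G be a finite group with trivial center admitting a nilpotent minimal cover 𝓐, and let P be an abelian Sylow p-subgroup of G that is not normal. Then either P is elementary abelian of order greater than p, or P is a Sylow p-subgroup of some member A of 𝓐, the normalizer N of P is a maximal subgroup of G, N meets each of its conjugates by elements outside N in a subgroup of order prime to p, and the centralizer of P equals A. -/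
theorem result {G : Type*} [Group G] [Finite G] (hZ : Subgroup.center G = ⊥) (𝓐 : Finset (Subgroup G))
    (h𝓐 : ((∀ A ∈ 𝓐, A ≠ ⊤) ∧ (∀ g : G, ∃ A ∈ 𝓐, g ∈ A)) ∧ (∀ 𝓑 : Finset (Subgroup G), (∀ A ∈ 𝓑, A ≠ ⊤) ∧ (∀ g : G, ∃ A ∈ 𝓑, g ∈ A) → 𝓐.card ≤ 𝓑.card) ∧ (∀ A ∈ 𝓐, Group.IsNilpotent ↥A)) {p : ℕ} [Fact p.Prime] (P : Sylow p G) (hab : IsMulCommutative ↥(P : Subgroup G))
    (hnn : ¬ (P : Subgroup G).Normal) :
    (Cfsg.IsElementaryAbelian p (P : Subgroup G) ∧ p < Nat.card ↥(P : Subgroup G)) ∨
    (∃ A ∈ 𝓐, (P : Subgroup G) ≤ A ∧ ¬ p ∣ ((P : Subgroup G).subgroupOf A).index ∧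
      IsCoatom (Subgroup.normalizer ((P : Subgroup G) : Set G)) ∧
      (∀ g : G, g ∉ Subgroup.normalizer ((P : Subgroup G) : Set G) →
        ¬ p ∣ Nat.card ↥(Subgroup.normalizer ((P : Subgroup G) : Set G) ⊓
          (Subgroup.normalizer ((P : Subgroup G) : Set G)).map (MulAut.conj g).toMonoidHom)) ∧
      Subgroup.centralizer ((P : Subgroup G) : Set G) = A) := by
  by_cases he : Cfsg.IsElementaryAbelian p (P : Subgroup G) ∧ p < Nat.card ↥(P : Subgroup G)
  · exact Or.inl he
  have hP : IsCyclic ↥(P : Subgroup G) ∨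
      (IsMulCommutative ↥(P : Subgroup G) ∧ ¬ Cfsg.IsElementaryAbelian p (P : Subgroup G)) := by
    by_cases h1 : Cfsg.IsElementaryAbelian p (P : Subgroup G)
    · left
      have hle : Nat.card ↥(P : Subgroup G) ≤ p := not_lt.1 fun hlt => he ⟨h1, hlt⟩
      obtain ⟨n, hn⟩ := IsPGroup.iff_card.1 P.isPGroup'
      rcases Nat.eq_zero_or_pos n with hn0 | hn0
      · haveI : Subsingleton ↥(P : Subgroup G) :=
          (Nat.card_eq_one_iff_unique.1 (by rw [hn, hn0, pow_zero])).1
        infer_instance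
      · refine isCyclic_of_prime_card (p := p) (le_antisymm hle ?_)
        rw [hn]; exact Nat.le_self_pow hn0.ne' p
    · exact Or.inr ⟨hab, h1⟩
  obtain ⟨A, hA, hPA, hC, hN, -, hTI⟩ := CfsgLib.FgsP.NilpotentCover.main h𝓐 hZ P hP hnn
  refine Or.inr ⟨A, hA, hPA, fun hd => P.not_dvd_index (hd.trans ?_), hN, hTI, hC⟩
  exact Dvd.intro _ (Subgroup.relIndex_mul_index hPA)

end Cfsg.Agent.S3890
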