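import Cfsg.Statements.S3893
import Cfsg.Agent.Lib.KnownA.Suzuki.Fixity

set_option autoImplicit false
open Cfsg CfsgLib.KnownA.Suzuki

namespace Cfsg.Agent.S3893

/-- A cover of a group is a finite set of proper subgroups whose union is the whole group; it is minimal when no cover has fewer members, and nilpotent when all its members are nilpotent. The Suzuki groups Sz(q), q = 2^(2m+1) with m ≥ 1, have no nilpotent minimal cover. -/
theorem result {F : Type*} [Field F] [Fintype F] (m : ℕ) (hm : 1 ≤ m) (hF : Fintype.card F = 2 ^ (2 * m + 1)) :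
    ¬ ∃ 𝓐 : Finset (Subgroup ↥(Cfsg.Lie.Sz F (2 ^ (m + 1)))), ((∀ A ∈ 𝓐, A ≠ ⊤) ∧ (∀ g : ↥(Cfsg.Lie.Sz F (2 ^ (m + 1))), ∃ A ∈ 𝓐, g ∈ A)) ∧ (∀ 𝓑 : Finset (Subgroup ↥(Cfsg.Lie.Sz F (2 ^ (m + 1)))), (∀ A ∈ 𝓑, A ≠ ⊤) ∧ (∀ g : ↥(Cfsg.Lie.Sz F (2 ^ (m + 1))), ∃ A ∈ 𝓑, g ∈ A) → 𝓐.card ≤ 𝓑.card) ∧ (∀ A ∈ 𝓐, Group.IsNilpotent ↥A) := by
  classical
  have H := titsField_of_card (F := F) hF
  haveI := Fintype.ofFinite (Cfsg.Lie.Sz F (2 ^ (m + 1)))
  rintro ⟨𝓐, ⟨hproper, hcov⟩, hmin, hnil⟩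
  set B := borel H with hB
  set T := tor H with hT
  let N := Subgroup.normalizer (T : Set (Cfsg.Lie.Sz F (2 ^ (m + 1))))
  have hq : 8 ≤ Fintype.card F := hF ▸ le_trans (by norm_num)
    (Nat.pow_le_pow_right two_pos (show 3 ≤ 2 * m + 1 by omega))
  have hq' : 4 ≤ Nat.card F := by rw [Nat.card_eq_fintype_card]; omega
  obtain ⟨t, ht⟩ := exists_unit_ne_one H hq'
  let cj : Cfsg.Lie.Sz F (2 ^ (m + 1)) → Subgroup (Cfsg.Lie.Sz F (2 ^ (m + 1))) →
      Subgroup (Cfsg.Lie.Sz F (2 ^ (m + 1))) := fun k S => S.map (MulAut.conj k).toMonoidHom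
  have hTc : ∀ k, ∀ y ∈ cj k T, y ≠ 1 → Subgroup.centralizer ({y} : Set _) = cj k T := by
    rintro k _ ⟨x, ⟨s, rfl⟩, rfl⟩ hy
    rw [MulEquiv.coe_toMonoidHom, MulAut.conj_apply, centralizer_conj H, centralizer_sh H]
    rintro rfl
    exact hy (by rw [sh_one, map_one])
  -- nilpotent members meeting a torus lie in it
  have hsub : ∀ A ∈ 𝓐, ∀ k, ∀ y ∈ cj k T, y ≠ 1 → y ∈ A → A ≤ cj k T := by
    intro A hA k y hy hy1 hyA
    haveI := hnil A hA
    haveI : Nontrivial A := ⟨⟨⟨y, hyA⟩, 1, fun h => hy1 (congrArg Subtype.val h)⟩⟩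
    haveI : Nontrivial (Subgroup.center A) := (Subgroup.nontrivial_iff_ne_bot _).2 (Group.IsNilpotent.center_ne_bot A)
    obtain ⟨z, hz⟩ := exists_ne (1 : Subgroup.center A)
    have hz1 : ((z : A) : Cfsg.Lie.Sz F (2 ^ (m + 1))) ≠ 1 := fun h => hz (Subtype.ext (Subtype.ext h))
    have hzT : ((z : A) : Cfsg.Lie.Sz F (2 ^ (m + 1))) ∈ cj k T := by
      rw [← hTc k y hy hy1, Subgroup.mem_centralizer_singleton_iff]
      exact (congrArg Subtype.val (Subgroup.mem_center_iff.1 z.2 ⟨y, hyA⟩)).symm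
    intro a ha
    rw [← hTc k _ hzT hz1, Subgroup.mem_centralizer_singleton_iff]
    exact congrArg Subtype.val (Subgroup.mem_center_iff.1 z.2 ⟨a, ha⟩)
  let bad : Finset (Subgroup (Cfsg.Lie.Sz F (2 ^ (m + 1)))) :=
    𝓐.filter fun A => ∃ k, ∃ y ∈ cj k T, y ≠ 1 ∧ y ∈ A
  let borels : Finset (Subgroup (Cfsg.Lie.Sz F (2 ^ (m + 1)))) :=
    Finset.univ.image fun x : Cfsg.Lie.Sz F (2 ^ (m + 1)) ⧸ B => cj (Quotient.out x) B
  -- there are many bad members
  have hbad : Nat.card (Cfsg.Lie.Sz F (2 ^ (m + 1)) ⧸ N) ≤ bad.card := by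
    have hy1 : ∀ k, k * sh H t * k⁻¹ ≠ 1 := fun k h =>
      ht (sh_inj H ((conj_eq_one_iff.1 h).trans (sh_one H).symm))
    have hyT : ∀ k, k * sh H t * k⁻¹ ∈ cj k T := fun k => ⟨sh H t, ⟨t, rfl⟩, rfl⟩
    have hex : ∀ x : Cfsg.Lie.Sz F (2 ^ (m + 1)) ⧸ N, ∃ A ∈ bad,
        Quotient.out x * sh H t * (Quotient.out x)⁻¹ ∈ A := by
      intro x
      obtain ⟨A, hA, hxA⟩ := hcov (Quotient.out x * sh H t * (Quotient.out x)⁻¹)
      exact ⟨A, Finset.mem_filter.2 ⟨hA, _, _, hyT _, hy1 _, hxA⟩, hxA⟩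
    choose f hf hfx using hex
    rw [← Nat.card_eq_finsetCard]
    refine Nat.card_le_card_of_injective (fun x => (⟨f x, hf x⟩ : bad)) fun x x' hxx => ?_
    have he : f x = f x' := congrArg Subtype.val hxx
    set k := Quotient.out x
    set k' := Quotient.out x'
    have hin : k' * sh H t * k'⁻¹ ∈ cj k T :=
      hsub _ (Finset.mem_filter.1 (hf x)).1 k _ (hyT k) (hy1 k) (hfx x) (he ▸ hfx x')
    have heq : cj k' T = cj k T := (hTc k' _ (hyT k') (hy1 k')).symm.trans (hTc k _ hin (hy1 k'))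
    rw [← QuotientGroup.out_eq' x, ← QuotientGroup.out_eq' x', QuotientGroup.eq]
    refine Subgroup.mem_normalizer_iff.2 fun z => ?_
    constructor
    · intro hz
      have h1 : k' * z * k'⁻¹ ∈ cj k T := heq ▸ ⟨z, hz, rfl⟩
      rw [Subgroup.mem_map_equiv, MulAut.conj_symm_apply] at h1
      simpa [mul_assoc] using h1
    · intro hz
      have h1 : k * (k⁻¹ * k' * z * (k⁻¹ * k')⁻¹) * k⁻¹ ∈ cj k' T := heq.symm ▸ ⟨_, hz, rfl⟩
      rw [Subgroup.mem_map_equiv, MulAut.conj_symm_apply] at h1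
      simpa [mul_assoc] using h1
  -- a smaller cover
  have hsmall := hmin ((𝓐 \ bad) ∪ borels) ⟨fun A hA => ?_, fun g => ?_⟩
  · have h1 := Finset.card_union_le (𝓐 \ bad) borels
    have h2 : borels.card ≤ Nat.card (Cfsg.Lie.Sz F (2 ^ (m + 1)) ⧸ B) := by
      rw [Nat.card_eq_fintype_card]; exact Finset.card_image_le
    have h3 : (𝓐 \ bad).card + bad.card = 𝓐.card :=
      Finset.card_sdiff_add_card_eq_card (Finset.filter_subset _ 𝓐)
    have hN : Nat.card N ≤ 2 * Nat.card T := by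
      have hsplit : ∀ w : N, (w : Cfsg.Lie.Sz F (2 ^ (m + 1))) ∈ T ∨ sw H * w ∈ T :=
        fun w => mem_normalizer_tor_cases H ht w.2
      have hle : Nat.card N ≤ Nat.card (Bool × T) := by
        refine Nat.card_le_card_of_injective (fun w =>
          if h : (w : Cfsg.Lie.Sz F (2 ^ (m + 1))) ∈ T then (true, ⟨_, h⟩)
          else (false, ⟨sw H * w, (hsplit w).resolve_left h⟩)) ?_
        intro w w' h
        simp only at h
        split_ifs at h with h4 h5 h5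
        · exact Subtype.ext (congrArg (fun x : Bool × T => (x.2 : Cfsg.Lie.Sz F (2 ^ (m + 1)))) h)
        · exact absurd (congrArg Prod.fst h) (by simp)
        · exact absurd (congrArg Prod.fst h) (by simp)
        · exact Subtype.ext (mul_left_cancel
            (congrArg (fun x : Bool × T => (x.2 : Cfsg.Lie.Sz F (2 ^ (m + 1)))) h))
      rwa [Nat.card_prod, show Nat.card Bool = 2 by simp] at hle
    have hNi := Subgroup.card_mul_index N
    have hBi := Subgroup.card_mul_index B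
    rw [Subgroup.index_eq_card] at hNi hBi
    rw [hB, natCard_borel, ← hB, Nat.card_eq_fintype_card (α := F)] at hBi
    rw [hT, natCard_tor, Nat.card_eq_fintype_card (α := F)] at hN
    have h4 : Nat.card (Cfsg.Lie.Sz F (2 ^ (m + 1)) ⧸ N) ≤ Nat.card (Cfsg.Lie.Sz F (2 ^ (m + 1)) ⧸ B) := by
      omega
    have h5 : Fintype.card F ^ 2 * (Fintype.card F - 1) ≤ Nat.card N := by
      refine Nat.le_of_mul_le_mul_right ?_ (Nat.card_pos (α := Cfsg.Lie.Sz F (2 ^ (m + 1)) ⧸ B))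
      rw [hBi, ← hNi]
      exact Nat.mul_le_mul_left _ h4
    have h6 : Fintype.card F ^ 2 ≤ 2 :=
      Nat.le_of_mul_le_mul_right (h5.trans hN) (by omega)
    nlinarith
  · rcases Finset.mem_union.1 hA with h | h
    · exact hproper A (Finset.mem_sdiff.1 h).1
    · obtain ⟨x, -, rfl⟩ := Finset.mem_image.1 h
      intro htop
      refine sw_notMem_borel H ?_
      obtain ⟨y, hy, hyx⟩ := htop.ge (Subgroup.mem_top (Quotient.out x * sw H * (Quotient.out x)⁻¹))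
      exact (MulAut.conj (Quotient.out x)).injective hyx ▸ hy
  · obtain ⟨A, hA, hgA⟩ := hcov g
    by_cases hb : A ∈ bad
    · obtain ⟨k, y, hy, hy1, hyA⟩ := (Finset.mem_filter.1 hb).2
      refine ⟨cj (Quotient.out (k : Cfsg.Lie.Sz F (2 ^ (m + 1)) ⧸ B)) B,
        Finset.mem_union_right _ (Finset.mem_image.2 ⟨_, Finset.mem_univ _, rfl⟩), ?_⟩
      obtain ⟨x, ⟨s, rfl⟩, rfl⟩ := hsub A hA k y hy hy1 hyA hgA
      obtain ⟨β, hβ⟩ := QuotientGroup.mk_out_eq_mul B k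
      rw [hβ, Subgroup.mem_map_equiv, MulAut.conj_symm_apply, MulEquiv.coe_toMonoidHom, MulAut.conj_apply,
        show (k * (β : Cfsg.Lie.Sz F (2 ^ (m + 1))))⁻¹ * (k * sh H s * k⁻¹) * (k * β) =
          (β : Cfsg.Lie.Sz F (2 ^ (m + 1)))⁻¹ * sh H s * β by group]
      exact B.mul_mem (B.mul_mem (B.inv_mem β.2) (sh_mem_borel H s)) β.2
    · exact ⟨A, Finset.mem_union_left _ (Finset.mem_sdiff.2 ⟨hA, hb⟩), hgA⟩

end Cfsg.Agent.S3893
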