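import Cfsg.Statements.S3895
import Cfsg.Agent.Lib.PGroups.TwoClassCount

set_option autoImplicit false
open Cfsg

namespace Cfsg.Agent.S3895

/-- Let G be a finite group with Sylow 2-subgroup P, and write k₂(G) for the number of conjugacy classes of G consisting of 2-elements (elements of 2-power order, the identity included). Then k₂(G) > |P|/2 if and only if G has a normal 2-complement and P has more than |P|/2 conjugacy classes. -/
theorem result {G : Type*} [Group G] [Finite G] (P : Sylow 2 G) :
    Nat.card ↥(P : Subgroup G) < 2 * Nat.card {c : ConjClasses G // ∀ x ∈ c.carrier, ∃ k : ℕ, orderOf x = 2 ^ k} ↔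
      Cfsg.HasNormalPComplement 2 G ∧ Nat.card ↥(P : Subgroup G) < 2 * Nat.card (ConjClasses ↥(P : Subgroup G)) := by
  haveI : Fact (Nat.Prime 2) := ⟨Nat.prime_two⟩
  have hiff : ∀ x : G, (∃ k : ℕ, orderOf x = 2 ^ k) ↔
      ∀ r : ℕ, r.Prime → r ∣ orderOf x → r ∈ ({2} : Finset ℕ) := by
    intro x
    constructor
    · rintro ⟨k, hk⟩ r hr hd
      exact Finset.mem_singleton.mpr
        ((Nat.prime_dvd_prime_iff_eq hr Nat.prime_two).mp (hr.dvd_of_dvd_pow (hk ▸ hd)))
    · intro h
      refine ⟨(orderOf x).primeFactorsList.length,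
        Nat.eq_prime_pow_of_unique_prime_dvd (orderOf_pos x).ne' fun {d} hd hdx =>
          Finset.mem_singleton.mp (h d hd hdx)⟩
  have hcard : Nat.card {c : ConjClasses G // ∀ x ∈ c.carrier, ∃ k : ℕ, orderOf x = 2 ^ k} =
      Nat.card (CfsgLib.PGroups.piClasses {2} G) :=
    Nat.card_congr (Equiv.subtypeEquivRight fun c => forall₂_congr fun x _ => hiff x)
  rw [hcard]
  constructor
  · intro hk
    exact ⟨CfsgLib.PGroups.TwoClassCount.hasNormalPComplement P hk,
      hk.trans_le (Nat.mul_le_mul_left 2 (CfsgLib.PGroups.card_piClasses_le_conjClasses P))⟩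
  · rintro ⟨h, hk⟩
    rwa [CfsgLib.PGroups.TwoClassCount.card_piClasses_eq P h]

end Cfsg.Agent.S3895
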