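import Cfsg.Statements.S3897
import Cfsg.Agent.Lib.PGroups.ClassCount

set_option autoImplicit false
open Cfsg

namespace Cfsg.Agent.S3897

/-- Let p be an odd prime and G a finite group with Sylow p-subgroup P, and write k_p(G) for the number of conjugacy classes of G consisting of p-elements (elements of p-power order, the identity included). Then k_p(G) > (p + 1)|P|/(2p) if and only if G has a normal p-complement and P is abelian. -/
theorem result {G : Type*} [Group G] [Finite G] {p : ℕ} [Fact p.Prime] (hp : p ≠ 2) (P : Sylow p G) :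
    (p + 1) * Nat.card ↥(P : Subgroup G) < 2 * p * Nat.card {c : ConjClasses G // ∀ x ∈ c.carrier, ∃ k : ℕ, orderOf x = p ^ k} ↔
      Cfsg.HasNormalPComplement p G ∧ IsMulCommutative ↥(P : Subgroup G) := by
  have hpp : p.Prime := Fact.out
  have hiff : ∀ x : G, (∃ k : ℕ, orderOf x = p ^ k) ↔
      ∀ r : ℕ, r.Prime → r ∣ orderOf x → r ∈ ({p} : Finset ℕ) := by
    intro x
    constructor
    · rintro ⟨k, hk⟩ r hr hd
      exact Finset.mem_singleton.mpr
        ((Nat.prime_dvd_prime_iff_eq hr hpp).mp (hr.dvd_of_dvd_pow (hk ▸ hd)))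
    · intro h
      refine ⟨(orderOf x).primeFactorsList.length,
        Nat.eq_prime_pow_of_unique_prime_dvd (orderOf_pos x).ne' fun {d} hd hdx =>
          Finset.mem_singleton.mp (h d hd hdx)⟩
  have hcard : Nat.card {c : ConjClasses G // ∀ x ∈ c.carrier, ∃ k : ℕ, orderOf x = p ^ k} =
      Nat.card (CfsgLib.PGroups.piClasses {p} G) :=
    Nat.card_congr (Equiv.subtypeEquivRight fun c => forall₂_congr fun x _ => hiff x)
  rw [hcard]
  constructor
  · exact CfsgLib.PGroups.hasNormalPComplement_of_many_classes P
  · rintro ⟨h, hab⟩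
    rw [CfsgLib.PGroups.card_piClasses_eq P h hab]
    refine Nat.mul_lt_mul_of_pos_right ?_ Nat.card_pos
    have := hpp.two_le
    omega

end Cfsg.Agent.S3897
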