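import Cfsg.Statements.S3899
import Cfsg.Agent.Lib.PGroups.ClassCount
open scoped commutatorElement

set_option autoImplicit false
open Cfsg

namespace Cfsg.Agent.S3899

/-- Let π be a finite non-empty set of odd primes with smallest member p and G a finite group. Write k_π(G) for the number of conjugacy classes of G consisting of π-elements (elements all of whose order's prime divisors lie in π) and |G|_π for the π-part of the order of G. If k_π(G) > (p + 1)|G|_π/(2p), then G has a normal π-complement (a normal subgroup of order prime to π whose index is a π-number) and an abelian Hall π-subgroup. -/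
theorem result {G : Type*} [Group G] [Finite G] (π : Finset ℕ) (hπ : ∀ r ∈ π, r.Prime) (h2 : 2 ∉ π) (p : ℕ) (hp : p ∈ π)
    (hmin : ∀ r ∈ π, p ≤ r) (hk : (p + 1) * π.prod (fun r => r ^ (Nat.card G).factorization r) < 2 * p * Nat.card {c : ConjClasses G // ∀ x ∈ c.carrier, ∀ r : ℕ, r.Prime → r ∣ orderOf x → r ∈ π}) :
    (∃ N : Subgroup G, N.Normal ∧ (∀ r : ℕ, r.Prime → r ∣ Nat.card ↥N → r ∉ π) ∧ ∀ r : ℕ, r.Prime → r ∣ N.index → r ∈ π) ∧ ∃ H : Subgroup G, Cfsg.IsPiHall (↑π : Set ℕ) H ∧ IsMulCommutative ↥H := by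
  classical
  have hk' : (p + 1) * CfsgLib.PGroups.piPart π (Nat.card G) <
      2 * p * Nat.card (CfsgLib.PGroups.piClasses π G) := hk
  have hpp : p.Prime := hπ p hp
  have key : ∀ r ∈ π, ∃ N : Subgroup G, N.Normal ∧ ¬ r ∣ Nat.card N ∧ (∃ k, N.index = r ^ k) ∧
      commutator G ≤ N := by
    intro r hr
    haveI : Fact r.Prime := ⟨hπ r hr⟩
    obtain ⟨P⟩ : Nonempty (Sylow r G) := inferInstance
    have hsplit : CfsgLib.PGroups.piPart π (Nat.card G) =
        Nat.card (P : Subgroup G) * CfsgLib.PGroups.piPart (π.erase r) (Nat.card G) := by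
      rw [CfsgLib.PGroups.piPart, CfsgLib.PGroups.piPart, ← Finset.mul_prod_erase π _ hr,
        P.card_eq_multiplicity]
    have hpr := hmin r hr
    have hle := CfsgLib.PGroups.card_piClasses_le_mul hπ hr (G := G)
    have hr2 : (r + 1) * Nat.card (P : Subgroup G) <
        2 * r * Nat.card (CfsgLib.PGroups.piClasses {r} G) := by
      by_contra hge
      push Not at hge
      have hpos : 0 < p := hpp.pos
      have h1 : 2 * r * Nat.card (CfsgLib.PGroups.piClasses π G) ≤
          (r + 1) * CfsgLib.PGroups.piPart π (Nat.card G) := by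
        rw [hsplit, ← mul_assoc]
        refine (Nat.mul_le_mul_left _ hle).trans ?_
        rw [← mul_assoc]
        exact Nat.mul_le_mul_right _ hge
      have h2 : (r + 1) * p ≤ (p + 1) * r := by nlinarith
      have h3 := Nat.mul_le_mul_left p h1
      have h4 := Nat.mul_le_mul_right (CfsgLib.PGroups.piPart π (Nat.card G)) h2
      have h5 := Nat.mul_lt_mul_of_pos_left hk' (Nat.zero_lt_of_lt (Nat.lt_of_lt_of_le hpp.pos hpr))
      nlinarith
    obtain ⟨hc, hab⟩ := CfsgLib.PGroups.hasNormalPComplement_of_many_classes P hr2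
    obtain ⟨N, hN, hNc⟩ := (CfsgLib.Transfer.exists_normal_isComplement'_iff P).mpr hc
    refine ⟨N, hN, CfsgLib.Transfer.card_eq_of_isComplement' P hNc,
      CfsgLib.Transfer.index_pow_of_isComplement' P hNc, ?_⟩
    rw [commutator_eq_closure, Subgroup.closure_le]
    rintro _ ⟨g, g', rfl⟩
    obtain ⟨⟨a, b⟩, hab', -⟩ := hNc.existsUnique g
    obtain ⟨⟨a', b'⟩, hab'', -⟩ := hNc.existsUnique g'
    haveI := hN
    have hga : (g : G ⧸ N) = (b : G) := by
      rw [← hab', QuotientGroup.mk_mul, (QuotientGroup.eq_one_iff (a : G)).mpr a.2, one_mul]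
    have hgb : (g' : G ⧸ N) = (b' : G) := by
      rw [← hab'', QuotientGroup.mk_mul, (QuotientGroup.eq_one_iff (a' : G)).mpr a'.2, one_mul]
    have h5 : (b : G) * b' = b' * b := congrArg Subtype.val (hab.is_comm.comm b b')
    rw [SetLike.mem_coe, ← QuotientGroup.eq_one_iff, ← QuotientGroup.mk'_apply,
      map_commutatorElement, commutatorElement_eq_one_iff_mul_comm, QuotientGroup.mk'_apply,
      QuotientGroup.mk'_apply, hga, hgb, ← QuotientGroup.mk_mul, ← QuotientGroup.mk_mul, h5]
  have hinf : ∀ s : Finset ℕ, s ⊆ π → ∃ N : Subgroup G, N.Normal ∧ commutator G ≤ N ∧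
      (∀ r ∈ s, ¬ r ∣ Nat.card N) ∧ ∀ q : ℕ, q.Prime → q ∣ N.index → q ∈ π := by
    intro s
    induction s using Finset.induction_on with
    | empty =>
      exact fun _ => ⟨⊤, inferInstance, le_top, by simp, fun q hq h => by
        rw [Subgroup.index_top] at h; exact absurd (Nat.dvd_one.mp h) hq.ne_one⟩
    | insert r s _ ih =>
      intro hs
      obtain ⟨A, hA, hAc, hAd, hAi⟩ := ih ((Finset.subset_insert r s).trans hs)
      obtain ⟨B, hB, hBd, ⟨k, hk⟩, hBc⟩ := key r (hs (Finset.mem_insert_self r s))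
      haveI := hA
      haveI := hB
      refine ⟨A ⊓ B, inferInstance, le_inf hAc hBc, fun t ht => ?_, fun q hq h => ?_⟩
      · rcases Finset.mem_insert.mp ht with rfl | ht
        · exact fun h => hBd (h.trans (Subgroup.card_dvd_of_le inf_le_right))
        · exact fun h => hAd t ht (h.trans (Subgroup.card_dvd_of_le inf_le_left))
      · rw [← Subgroup.relIndex_mul_index (inf_le_right : A ⊓ B ≤ B), Subgroup.inf_relIndex_right] at h
        rcases hq.dvd_mul.mp h with h | h
        · exact hAi q hq (h.trans (Subgroup.relIndex_dvd_index_of_normal A B))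
        · rw [hk] at h
          exact (Nat.prime_dvd_prime_iff_eq hq (hπ r (hs (Finset.mem_insert_self r s)))).mp
            (hq.dvd_of_dvd_pow h) ▸ hs (Finset.mem_insert_self r s)
  obtain ⟨N, hN, hNc, hNd, hNi⟩ := hinf π subset_rfl
  haveI := hN
  refine ⟨⟨N, hN, fun r hr hd hrπ => hNd r hrπ hd, hNi⟩, ?_⟩
  obtain ⟨H, hH⟩ := Subgroup.exists_right_complement'_of_coprime (N := N) (by
    refine Nat.coprime_of_dvd' fun q hq h1 h2 => absurd h1 (hNd q (hNi q hq h2)))
  refine ⟨H, ⟨fun q hq hd => hNi q hq (hH.symm.index_eq_card ▸ hd), fun q hq hqπ hd => ?_⟩,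
    ⟨⟨fun a b => ?_⟩⟩⟩
  · exact hNd q hqπ (hH.index_eq_card ▸ hd)
  · refine Subtype.ext (commutatorElement_eq_one_iff_mul_comm.mp ?_)
    exact Subgroup.disjoint_def.mp hH.disjoint
      (hNc (Subgroup.commutator_mem_commutator (Subgroup.mem_top _) (Subgroup.mem_top _)))
      (by rw [commutatorElement_def]; exact mul_mem (mul_mem (mul_mem a.2 b.2) (inv_mem a.2)) (inv_mem b.2))

end Cfsg.Agent.S3899
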