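import Cfsg.Statements.S3904
import Cfsg.Agent.Lib.Techniques.MaxCentralizerQuot

set_option autoImplicit false
open Cfsg

namespace Cfsg.Agent.S3904

/-- Let G be a non-abelian finite group in which the centralizer of every non-central element is a maximal subgroup. Then G/Z(G) is either an elementary abelian p-group for some prime p, or a minimal non-abelian group (non-abelian with all proper subgroups abelian) of order p^a · q for distinct primes p, q with a normal Sylow p-subgroup. -/
theorem result {G : Type*} [Group G] [Finite G] (hna : ¬ IsMulCommutative G)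
    (h : ∀ x : G, x ∉ Subgroup.center G → IsCoatom (Subgroup.centralizer ({x} : Set G))) :
    (∃ p : ℕ, p.Prime ∧ Cfsg.IsElementaryAbelian p (⊤ : Subgroup (G ⧸ Subgroup.center G))) ∨
    (¬ IsMulCommutative (G ⧸ Subgroup.center G) ∧ (∀ H : Subgroup (G ⧸ Subgroup.center G), H ≠ ⊤ → IsMulCommutative ↥H) ∧
      ∃ p q a : ℕ, p.Prime ∧ q.Prime ∧ p ≠ q ∧ Nat.card (G ⧸ Subgroup.center G) = p ^ a * q ∧
        ∀ P : Subgroup (G ⧸ Subgroup.center G), Nat.card ↥P = p ^ a → P.Normal) := by
  classical
  by_cases hp : ∃ p : ℕ, p.Prime ∧ IsPGroup p (G ⧸ Subgroup.center G)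
  · obtain ⟨p, hp, hpg⟩ := hp
    haveI := Fact.mk hp
    exact Or.inl ⟨p, hp, CfsgLib.Techniques.MaxCent.elementary_of_pGroup h hpg⟩
  · push Not at hp
    obtain ⟨A, B, p, q, k, hAn, hBn, hpp, hqp, hpq, hA, hB, hQ, -, -, -, hsub⟩ :=
      CfsgLib.Techniques.MaxCent.quot_structure h hp
    refine Or.inr ⟨fun hc => hBn ?_, fun H hH => ⟨⟨fun a b => Subtype.ext (hsub H hH a a.2 b b.2)⟩⟩,
      p, q, k, hpp, hqp, hpq, hQ, fun P hP => ?_⟩
    · exact ⟨fun n hn g => by rw [hc.is_comm.comm g n, mul_inv_cancel_right]; exact hn⟩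
    · have hAP : P ≤ A := by
        intro x hx
        have h1 : orderOf (QuotientGroup.mk x : (G ⧸ Subgroup.center G) ⧸ A) ∣ q := by
          have hidx : A.index = q := by
            have h2 := A.card_mul_index
            rw [hA, hQ] at h2
            exact Nat.eq_of_mul_eq_mul_left (pow_pos hpp.pos k) h2
          rw [← hidx, Subgroup.index_eq_card]
          exact orderOf_dvd_natCard _
        have h2 : orderOf (QuotientGroup.mk x : (G ⧸ Subgroup.center G) ⧸ A) ∣ p ^ k := by
          refine (orderOf_map_dvd (QuotientGroup.mk' A) x).trans ?_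
          rw [← hP]
          exact Subgroup.orderOf_dvd_natCard P hx
        have h3 := Nat.eq_one_of_dvd_coprimes
          (Nat.Coprime.pow_right k ((Nat.coprime_primes hqp hpp).2 (Ne.symm hpq))) h1 h2
        exact (QuotientGroup.eq_one_iff x).1 (orderOf_eq_one_iff.1 h3)
      rw [Subgroup.eq_of_le_of_card_ge hAP (le_of_eq (by rw [hP, hA]))]
      exact hAn

end Cfsg.Agent.S3904
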