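import Cfsg.Statements.S3908
import Cfsg.Agent.Lib.PGroups.UniqueOrderP

set_option autoImplicit false
open Cfsg

namespace Cfsg.Agent.S3908

/-- Let G be a finite group in which any two abelian subgroups of the same order are conjugate. Then a Sylow 2-subgroup of G is cyclic, elementary abelian or generalized quaternion, and for an odd prime p a Sylow p-subgroup of G is cyclic or has exponent dividing p. -/
theorem result {G : Type*} [Group G] [Finite G] (hB : ∀ A B : Subgroup G, IsMulCommutative ↥A → IsMulCommutative ↥B → Nat.card ↥A = Nat.card ↥B → ∃ g : G, B = A.map (MulAut.conj g).toMonoidHom) :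
    (∀ P : Sylow 2 G, IsCyclic ↥(P : Subgroup G) ∨ Cfsg.IsElementaryAbelian 2 (P : Subgroup G) ∨ ∃ k : ℕ, Nonempty (↥(P : Subgroup G) ≃* QuaternionGroup (2 ^ k))) ∧
    ∀ (p : ℕ) [Fact p.Prime], p ≠ 2 → ∀ P : Sylow p G, IsCyclic ↥(P : Subgroup G) ∨ ∀ x ∈ (P : Subgroup G), x ^ p = 1 := by
  have hB₀ := hB
  have key : ∀ (p : ℕ) [Fact p.Prime] (P : Sylow p G),
      (IsCyclic ↥(P : Subgroup G) ∨
        (p = 2 ∧ ∃ n : ℕ, 1 ≤ n ∧ Nonempty (↥(P : Subgroup G) ≃* QuaternionGroup (2 ^ n)))) ∨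
        ∀ x ∈ (P : Subgroup G), x ^ p = 1 := by
    intro p _ P
    have hp : p.Prime := Fact.out
    have hPp : IsPGroup p ↥(P : Subgroup G) := P.2
    rcases subsingleton_or_nontrivial ↥(P : Subgroup G) with hs | hs
    · exact Or.inl (Or.inl inferInstance)
    obtain ⟨z, hz⟩ := exists_prime_orderOf_dvd_card' (G := Subgroup.center ↥(P : Subgroup G)) p
      (CfsgLib.PGroups.dvd_card_of_ne_bot hPp ((Subgroup.nontrivial_iff_ne_bot _).1 hPp.center_nontrivial))
    by_cases huniq : ∀ y : ↥(P : Subgroup G), y ^ p = 1 → y ∈ Subgroup.zpowers (z : ↥(P : Subgroup G))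
    · left
      exact CfsgLib.PGroups.isCyclic_or_quaternion_of_unique hPp
        (orderOf_dvd_iff_pow_eq_one.1 ((Subgroup.orderOf_coe z).trans hz).dvd) huniq
    right
    push Not at huniq
    obtain ⟨y, hyp, hyz⟩ := huniq
    have hzy : Commute (z : ↥(P : Subgroup G)) y := (Subgroup.mem_center_iff.1 z.2 y).symm
    have hy1 : y ≠ 1 := fun h => hyz (h ▸ one_mem _)
    have hzo : orderOf ((z : ↥(P : Subgroup G)) : G) = p := by
      rw [Subgroup.orderOf_coe, Subgroup.orderOf_coe, hz]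
    have hyo : orderOf (y : G) = p := by rw [Subgroup.orderOf_coe, orderOf_eq_prime hyp hy1]
    set Z := Subgroup.zpowers ((z : ↥(P : Subgroup G)) : G) with hZ
    set Y := Subgroup.zpowers (y : G) with hY
    have hcom : Commute ((z : ↥(P : Subgroup G)) : G) (y : G) := congrArg Subtype.val hzy.eq
    have hnorm : Y ≤ Subgroup.normalizer (Z : Set G) := by
      rw [hY, Subgroup.zpowers_le]
      refine Subgroup.mem_normalizer_fintype fun m hm => ?_
      obtain ⟨k, rfl⟩ := Subgroup.mem_zpowers_iff.1 hm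
      rw [(hcom.zpow_left k).symm.eq, mul_inv_cancel_right]
      exact Subgroup.zpow_mem _ (Subgroup.mem_zpowers _) k
    have hexp : ∀ a ∈ Z ⊔ Y, a ^ p = 1 ∧ ∀ b ∈ Z ⊔ Y, a * b = b * a := by
      intro a ha
      have ha' : a ∈ ((Z ⊔ Y : Subgroup G) : Set G) := ha
      rw [Subgroup.coe_mul_of_right_le_normalizer_left _ _ hnorm] at ha'
      obtain ⟨_, ⟨i, rfl⟩, _, ⟨j, rfl⟩, rfl⟩ := ha'
      dsimp only
      refine ⟨?_, fun b hb => ?_⟩
      · rw [((hcom.zpow_left i).zpow_right j).mul_pow, ← zpow_natCast, ← zpow_natCast, ← zpow_mul, ← zpow_mul,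
          mul_comm i, mul_comm j, zpow_mul, zpow_mul, zpow_natCast, zpow_natCast,
          show ((z : ↥(P : Subgroup G)) : G) ^ p = 1 from orderOf_dvd_iff_pow_eq_one.1 hzo.dvd,
          show (y : G) ^ p = 1 from orderOf_dvd_iff_pow_eq_one.1 hyo.dvd, one_zpow, one_zpow, one_mul]
      · have hb' : b ∈ ((Z ⊔ Y : Subgroup G) : Set G) := hb
        rw [Subgroup.coe_mul_of_right_le_normalizer_left _ _ hnorm] at hb'
        obtain ⟨_, ⟨k, rfl⟩, _, ⟨l, rfl⟩, rfl⟩ := hb'
        dsimp only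
        exact (((Commute.refl _).zpow_zpow i k).mul_right (hcom.zpow_zpow i l)).mul_left
          ((hcom.symm.zpow_zpow j k).mul_right ((Commute.refl _).zpow_zpow j l))
    have hdisj : Disjoint Z Y := by
      rw [Subgroup.disjoint_def]
      intro a haZ haY
      by_contra ha1
      refine hyz ?_
      have h1 : Subgroup.zpowers a = Y := Subgroup.eq_of_le_of_card_ge (Subgroup.zpowers_le.2 haY) (by
        rw [hY, Nat.card_zpowers, Nat.card_zpowers, hyo,
          orderOf_eq_prime (hexp a (Subgroup.mem_sup_left haZ)).1 ha1])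
      obtain ⟨k, hk⟩ := Subgroup.mem_zpowers_iff.1
        (Subgroup.zpowers_le.2 haZ (h1.ge (Subgroup.mem_zpowers (y : G))))
      exact Subgroup.mem_zpowers_iff.2 ⟨k, Subtype.ext hk⟩
    have hcard : Nat.card ↥(Z ⊔ Y) = p * p := by
      have hset := Subgroup.coe_mul_of_right_le_normalizer_left Z Y hnorm
      have hrange : Set.range (fun g : Z × Y => (g.1 : G) * g.2) = ((Z ⊔ Y : Subgroup G) : Set G) := by
        rw [hset]
        ext a
        simp [Set.mem_mul, eq_comm]
      rw [← SetLike.coe_sort_coe (Z ⊔ Y), ← hrange, Nat.card_range_of_injective (Subgroup.mul_injective_of_disjoint hdisj),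
        Nat.card_prod, hZ, hY, Nat.card_zpowers, Nat.card_zpowers, hzo, hyo]
    intro x hx
    by_contra hxp
    obtain ⟨n, hn⟩ := IsPGroup.iff_orderOf.1 hPp ⟨x, hx⟩
    rw [← Subgroup.orderOf_coe, Subtype.coe_mk] at hn
    have hn2 : 2 ≤ n := by
      by_contra h
      refine hxp (orderOf_dvd_iff_pow_eq_one.1 ?_)
      rw [hn]
      exact (pow_dvd_pow p (by omega : n ≤ 1)).trans (pow_one p).dvd
    have hB : orderOf (x ^ p ^ (n - 2)) = p * p := by
      rw [orderOf_pow' _ (pow_ne_zero _ hp.ne_zero), hn, Nat.gcd_eq_right (pow_dvd_pow p (Nat.sub_le n 2)),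
        Nat.pow_div (Nat.sub_le n 2) hp.pos, show n - (n - 2) = 2 by omega, sq]
    obtain ⟨g, hg⟩ := hB₀ (Z ⊔ Y) (Subgroup.zpowers (x ^ p ^ (n - 2)))
      ⟨⟨fun a b => Subtype.ext ((hexp a a.2).2 b b.2)⟩⟩ IsCyclic.isMulCommutative
      (by rw [hcard, Nat.card_zpowers, hB])
    obtain ⟨a, ha, hae⟩ := hg.le (Subgroup.mem_zpowers _)
    have h1 : orderOf a = p * p := by
      rw [← hB, ← hae]
      exact (orderOf_injective _ (MulAut.conj g).injective a).symm
    have h2 := Nat.le_of_dvd hp.pos (h1 ▸ orderOf_dvd_of_pow_eq_one (hexp a ha).1)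
    nlinarith [hp.two_le]
  refine ⟨fun P => ?_, fun p _ hp2 P => ?_⟩
  · rcases key 2 P with (h | ⟨-, n, -, h⟩) | h
    · exact Or.inl h
    · exact Or.inr (Or.inr ⟨n, h⟩)
    · refine Or.inr (Or.inl ⟨⟨⟨fun a b => Subtype.ext ?_⟩⟩, h⟩)
      show (a : G) * b = b * a
      have h1 := h _ (mul_mem a.2 b.2)
      have h2 := h _ a.2
      have h3 := h _ b.2
      rw [sq] at h1 h2 h3
      calc (a : G) * b = ((a : G) * b)⁻¹ := eq_inv_of_mul_eq_one_left h1
        _ = (b : G)⁻¹ * (a : G)⁻¹ := mul_inv_rev _ _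
        _ = b * a := by rw [← eq_inv_of_mul_eq_one_left h2, ← eq_inv_of_mul_eq_one_left h3]
  · rcases key p P with (h | ⟨h, -⟩) | h
    · exact Or.inl h
    · exact absurd h hp2
    · exact Or.inr h

end Cfsg.Agent.S3908
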