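import Cfsg.Statements.S3909
open Subgroup

set_option autoImplicit false
open Cfsg

namespace Cfsg.Agent.S3909

/-- Let G be a finite group in which any two abelian subgroups of the same order are conjugate. Let M be a normal subgroup of G. If M contains an element of the same order as a ∈ G, then a ∈ M; and if M is elementary abelian of order p^t with p prime and t ≥ 2, then M is the unique Sylow p-subgroup of G. -/
theorem result {G : Type*} [Group G] [Finite G] (hB : ∀ A B : Subgroup G, IsMulCommutative ↥A → IsMulCommutative ↥B → Nat.card ↥A = Nat.card ↥B → ∃ g : G, B = A.map (MulAut.conj g).toMonoidHom) (M : Subgroup G) [M.Normal] :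
    (∀ a : G, (∃ m ∈ M, orderOf m = orderOf a) → a ∈ M) ∧
    ∀ (p t : ℕ) [Fact p.Prime], 2 ≤ t → Nat.card ↥M = p ^ t → Cfsg.IsElementaryAbelian p M → ∀ P : Sylow p G, (P : Subgroup G) = M := by
  classical
  have hfirst : ∀ a : G, (∃ m ∈ M, orderOf m = orderOf a) → a ∈ M := by
    rintro a ⟨m, hm, ho⟩
    obtain ⟨g, hg⟩ := hB (zpowers m) (zpowers a) inferInstance inferInstance
      (by rw [Nat.card_zpowers, Nat.card_zpowers, ho])
    obtain ⟨x, hx, hxa⟩ : a ∈ (zpowers m).map (MulAut.conj g).toMonoidHom := hg ▸ mem_zpowers a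
    rw [← hxa]
    exact Normal.conj_mem inferInstance x (zpowers_le.2 hm hx) g
  refine ⟨hfirst, fun p t _ ht hc hE P => ?_⟩
  have hp := Fact.out (p := p.Prime)
  haveI hMc : IsMulCommutative M := hE.1
  have hMP : M ≤ P := (IsPGroup.of_card hc).le_sylow_of_normal P
  obtain ⟨N, hN⟩ := Sylow.exists_subgroup_card_pow_prime (G := M) p (n := 2)
    (hc ▸ pow_dvd_pow p ht)
  have hN' : Nat.card (N.map M.subtype : Subgroup G) = p ^ 2 := by
    rw [Nat.card_congr (N.equivMapOfInjective _ M.subtype_injective).toEquiv.symm]; exact hN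
  have hno : ∀ y : G, orderOf y ≠ p ^ 2 := by
    intro y hy
    have hNc : IsMulCommutative (N.map M.subtype : Subgroup G) := by
      refine ⟨⟨fun a b => Subtype.ext ?_⟩⟩
      obtain ⟨u, _, hu⟩ := a.2; obtain ⟨v, _, hv⟩ := b.2
      simp only [Subgroup.coe_mul, ← hu, ← hv]
      exact congrArg Subtype.val (mul_comm' u v)
    obtain ⟨g, hg⟩ := hB _ (zpowers y) hNc inferInstance (by rw [hN', Nat.card_zpowers, hy])
    obtain ⟨x, hx, hxy⟩ : y ∈ (N.map M.subtype).map (MulAut.conj g).toMonoidHom :=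
      hg ▸ mem_zpowers y
    have hx1 : x ^ p = 1 := hE.2 x (map_subtype_le _ hx)
    have hd : p ^ 2 ∣ p := by
      rw [← hy]
      exact orderOf_dvd_of_pow_eq_one (by rw [← hxy, ← map_pow, hx1, map_one])
    have h1 := Nat.le_of_dvd hp.pos hd
    nlinarith [hp.two_le]
  obtain ⟨m, hm1⟩ : ∃ m : M, orderOf m = p :=
    exists_prime_orderOf_dvd_card' p (hc ▸ dvd_pow_self p (by omega))
  refine le_antisymm (fun x hx => ?_) hMP
  obtain ⟨k, hk⟩ := IsPGroup.iff_orderOf.1 P.isPGroup' ⟨x, hx⟩
  rw [Subgroup.orderOf_mk] at hk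
  rcases k with _ | _ | k
  · rw [pow_zero, orderOf_eq_one_iff] at hk; exact hk ▸ one_mem M
  · exact hfirst x ⟨m, m.2, by rw [Subgroup.orderOf_coe, hm1, hk, pow_one]⟩
  · exfalso
    refine hno (x ^ p ^ k) ?_
    rw [orderOf_pow' x (pow_ne_zero _ hp.ne_zero), hk,
      Nat.gcd_eq_right (pow_dvd_pow p (by omega)), Nat.pow_div (by omega) hp.pos]
    congr 1
    omega

end Cfsg.Agent.S3909
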