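import Cfsg.Statements.S3910
import Cfsg.Agent.Lib.Base.Nilpotent
import Cfsg.Agent.Lib.CNGroups.Basic
import Cfsg.Agent.Lib.PGroups.UniqueOrderP
open Subgroup

set_option autoImplicit false
open Cfsg

namespace Cfsg.Agent.S3910

/-- A finite nilpotent group in which any two abelian subgroups of the same order are conjugate is cyclic. -/
theorem result {G : Type*} [Group G] [Finite G] (hB : ∀ A B : Subgroup G, IsMulCommutative ↥A → IsMulCommutative ↥B → Nat.card ↥A = Nat.card ↥B → ∃ g : G, B = A.map (MulAut.conj g).toMonoidHom) (hnil : Group.IsNilpotent G) : IsCyclic G := by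
  classical
  haveI := hnil
  have huniq : ∀ (N : Subgroup G), N.Normal → IsMulCommutative N → ∀ B : Subgroup G,
      IsMulCommutative B → Nat.card N = Nat.card B → B = N := by
    intro N hN hNc B hBc hc
    obtain ⟨g, hg⟩ := hB N B hNc hBc hc
    rw [hg]
    exact Subgroup.eq_of_le_of_card_ge
      (by rintro _ ⟨n, hn, rfl⟩; exact hN.conj_mem n hn g) (CfsgLib.Base.card_map_conj g N).ge
  have hord : ∀ p : ℕ, p.Prime → p ∣ Nat.card G →
      ∃ z : G, z ^ p = 1 ∧ ∀ y : G, y ^ p = 1 → y ∈ zpowers z := by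
    intro p hp hd
    haveI := Fact.mk hp
    obtain ⟨P⟩ : Nonempty (Sylow p G) := inferInstance
    haveI : (P : Subgroup G).Normal := inferInstance
    have hPne : (P : Subgroup G) ≠ ⊥ := Sylow.ne_bot_of_dvd_card P hd
    obtain ⟨z, hz, hz1⟩ := (Subgroup.bot_or_exists_ne_one _).resolve_left
      (CfsgLib.Base.inf_center_ne_bot_of_isNilpotent hPne)
    obtain ⟨k, hk⟩ := IsPGroup.iff_orderOf.1 P.isPGroup' ⟨z, hz.1⟩
    rw [Subgroup.orderOf_mk] at hk
    have hk0 : k ≠ 0 := by
      rintro rfl; exact hz1 (orderOf_eq_one_iff.1 hk)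
    set w := z ^ p ^ (k - 1) with hw
    have hwo : orderOf w = p := by
      rw [hw, orderOf_pow' z (pow_ne_zero _ hp.ne_zero), hk,
        Nat.gcd_eq_right (pow_dvd_pow p (Nat.sub_le k 1)), Nat.pow_div (Nat.sub_le k 1) hp.pos,
        show k - (k - 1) = 1 by omega, pow_one]
    refine ⟨w, by rw [← hwo, pow_orderOf_eq_one], fun y hy => ?_⟩
    rcases eq_or_ne y 1 with rfl | hy1
    · exact one_mem _
    have hyo : orderOf y = p := orderOf_eq_prime hy hy1
    have hwn : (zpowers w).Normal :=
      CfsgLib.Base.normal_of_le_center (zpowers_le.2 (pow_mem hz.2 _))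
    rw [← huniq _ hwn inferInstance (zpowers y) inferInstance
      (by rw [Nat.card_zpowers, Nat.card_zpowers, hwo, hyo])]
    exact mem_zpowers y
  obtain ⟨A, ⟨hAn, hAc⟩, hmax⟩ := (Set.toFinite {N : Subgroup G | N.Normal ∧
    IsMulCommutative N}).exists_maximal ⟨⊥, inferInstance, inferInstance⟩
  haveI := hAn
  haveI := hAc
  have hcent : centralizer (A : Set G) = A :=
    CfsgLib.Base.centralizer_eq_self_of_maximal fun M hM hMc h =>
      le_antisymm (hmax ⟨hM, hMc⟩ h) h
  haveI : IsZGroup A := ⟨fun p hp P => by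
    haveI := Fact.mk hp
    by_cases hd : p ∣ Nat.card A
    · obtain ⟨z, hz, hzu⟩ := hord p hp (hd.trans (card_subgroup_dvd_card A))
      obtain ⟨u, hu⟩ := exists_prime_orderOf_dvd_card' (G := P) p (P.dvd_card_of_dvd_card hd)
      have hu1 : ((u : A) : G) ^ p = 1 := by
        have h0 : u ^ p = 1 := orderOf_dvd_iff_pow_eq_one.1 (by rw [hu])
        rw [← SubgroupClass.coe_pow, ← SubgroupClass.coe_pow, h0]; rfl
      refine CfsgLib.PGroups.isCyclic_of_abelian_of_unique P.isPGroup' (z := u) (fun y hy => ?_)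
        (orderOf_dvd_iff_pow_eq_one.1 (by rw [hu]))
      have hy1 : ((y : A) : G) ^ p = 1 := by
        rw [← SubgroupClass.coe_pow, ← SubgroupClass.coe_pow, hy]; rfl
      have hzo : orderOf ((u : A) : G) = p := by rw [Subgroup.orderOf_coe, Subgroup.orderOf_coe, hu]
      haveI : Finite (zpowers z) := inferInstance
      have hle : zpowers ((u : A) : G) ≤ zpowers z := zpowers_le.2 (hzu _ hu1)
      have hz1 : zpowers z ≤ zpowers ((u : A) : G) := by
        refine (Subgroup.eq_of_le_of_card_ge hle ?_).ge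
        rw [Nat.card_zpowers, Nat.card_zpowers, hzo]
        exact Nat.le_of_dvd hp.pos (orderOf_dvd_of_pow_eq_one hz)
      obtain ⟨i, hi⟩ := mem_zpowers_iff.1 (hz1 (hzu _ hy1))
      exact mem_zpowers_iff.2 ⟨i, Subtype.ext (Subtype.ext (by simpa using hi))⟩
    · have : (P : Subgroup A) = ⊥ := by
        obtain ⟨n, hn⟩ := IsPGroup.iff_card.1 P.isPGroup'
        rcases n with _ | n
        · exact Subgroup.eq_bot_of_card_eq _ (by simpa using hn)
        · exact absurd ((dvd_pow_self p n.succ_ne_zero).trans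
            (hn ▸ card_subgroup_dvd_card (P : Subgroup A))) hd
      haveI : Subsingleton P := by rw [this]; infer_instance
      infer_instance⟩
  haveI : Group.IsNilpotent A := inferInstance
  haveI hAcyc : IsCyclic A := inferInstance
  obtain ⟨a, ha⟩ := IsCyclic.exists_generator (α := A)
  have hca : orderOf (a : G) = Nat.card A := by
    rw [Subgroup.orderOf_coe]; exact orderOf_eq_card_of_forall_mem_zpowers ha
  have hAz : A = zpowers (a : G) := by
    refine le_antisymm (fun x hx => ?_) (zpowers_le.2 a.2)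
    obtain ⟨i, hi⟩ := mem_zpowers_iff.1 (ha ⟨x, hx⟩)
    exact mem_zpowers_iff.2 ⟨i, by simpa using congrArg Subtype.val hi⟩
  have hsub : ∀ d, d ∣ Nat.card A → ∀ x : G, orderOf x = d → x ∈ A := by
    intro d hd x hx
    set b := (a : G) ^ (Nat.card A / d) with hb
    have hd0 : Nat.card A / d ≠ 0 :=
      (Nat.div_pos (Nat.le_of_dvd Nat.card_pos hd) (hx ▸ orderOf_pos x)).ne'
    have hbo : orderOf b = d := by
      rw [hb, orderOf_pow' _ hd0, hca, Nat.gcd_eq_right (Nat.div_dvd_of_dvd hd),
        Nat.div_div_self hd Nat.card_pos.ne']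
    have hbA : zpowers b ≤ A := zpowers_le.2 (pow_mem a.2 _)
    have hbn : (zpowers b).Normal := by
      refine ⟨fun y hy g => ?_⟩
      obtain ⟨i, hi⟩ := mem_zpowers_iff.1 hy
      obtain ⟨j, hj⟩ : g * a * g⁻¹ ∈ zpowers (a : G) := hAz ▸ hAn.conj_mem _ a.2 g
      refine mem_zpowers_iff.2 ⟨j * i, ?_⟩
      rw [← hi, hb, ← zpow_natCast, ← zpow_mul, ← zpow_mul,
        show ((Nat.card A / d : ℕ) : ℤ) * (j * i) = j * ((Nat.card A / d : ℕ) * i) by ring,
        zpow_mul, show (a : G) ^ j = g * a * g⁻¹ from hj, conj_zpow]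
    rw [← zpowers_le, huniq _ hbn inferInstance (zpowers x) inferInstance
      (by rw [Nat.card_zpowers, Nat.card_zpowers, hbo, hx])]
    exact hbA
  -- every element of prime power order lies in `A`
  have hpp : ∀ q : ℕ, q.Prime → ∀ k : ℕ, ∀ y : G, orderOf y = q ^ k → y ∈ A := by
    intro q hq k
    induction k with
    | zero => intro y hy; rw [pow_zero, orderOf_eq_one_iff] at hy; exact hy ▸ one_mem A
    | succ k ih =>
      intro y hy
      have hyq : y ^ q ∈ A := ih _ (by
        rw [orderOf_pow' y hq.ne_zero, hy, Nat.gcd_eq_right (dvd_pow_self q k.succ_ne_zero),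
          pow_succ, Nat.mul_div_cancel _ hq.pos])
      by_cases hd : q ^ (k + 1) ∣ Nat.card A
      · exact hsub _ hd y hy
      rw [← hcent, mem_centralizer_iff]
      suffices h : Commute (a : G) y by
        intro x hx
        obtain ⟨i, rfl⟩ := mem_zpowers_iff.1 (hAz ▸ hx : x ∈ zpowers (a : G))
        exact (h.zpow_left i).eq
      haveI : Fact q.Prime := ⟨hq⟩
      set m := (Nat.card A).factorization q
      -- the `q`-part of `a` is a power of `y`, the rest has order prime to `q`
      have hqk : orderOf (y ^ q) = q ^ k := by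
        rw [orderOf_pow' y hq.ne_zero, hy, Nat.gcd_eq_right (dvd_pow_self q k.succ_ne_zero),
          pow_succ, Nat.mul_div_cancel _ hq.pos]
      have hm : m ≤ k := by
        by_contra hlt
        exact hd ((pow_dvd_pow q (by omega)).trans (Nat.ordProj_dvd (Nat.card A) q))
      set c := Nat.card A / q ^ m
      have hcop : Nat.Coprime (q ^ m) c := Nat.Coprime.pow_left _
        (Nat.coprime_ordCompl hq Nat.card_pos.ne')
      have hmc : q ^ m * c = Nat.card A := Nat.mul_div_cancel' (Nat.ordProj_dvd _ q)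
      have ho1 : orderOf ((a : G) ^ c) = q ^ m := by
        rw [orderOf_pow, hca, ← hmc, Nat.gcd_mul_left_left,
          Nat.mul_div_cancel _ (Nat.pos_of_ne_zero fun h => (Nat.card_pos (α := A)).ne' (by rw [← hmc, h, mul_zero]))]
      have ho2 : orderOf ((a : G) ^ q ^ m) = c := by
        rw [orderOf_pow, hca, ← hmc, Nat.gcd_mul_right_left,
          Nat.mul_div_cancel_left _ (pow_pos hq.pos m)]
      obtain ⟨e, he⟩ := (show q ^ m ∣ q ^ k from pow_dvd_pow q hm)
      have hcomm2 : Commute ((a : G) ^ q ^ m) y :=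
        CfsgLib.CNGroups.commute_of_coprime (H := (⊤ : Subgroup G))
          (by infer_instance) (mem_top _) (mem_top _)
          (by rw [ho2, hy]; exact (Nat.coprime_ordCompl hq Nat.card_pos.ne').symm.pow_right _)
      have hcomm1 : Commute ((a : G) ^ c) y := by
        have hn : orderOf ((y ^ q) ^ e) = q ^ m := by
          rw [orderOf_pow, hqk, he, Nat.gcd_mul_left_left, Nat.mul_div_cancel _
            (Nat.pos_of_ne_zero fun h => by simp [h, hq.ne_zero] at he)]
        have hz : zpowers ((a : G) ^ c) = zpowers ((y ^ q) ^ e) := by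
          have h1 : zpowers ((y ^ q) ^ e) ≤ A := zpowers_le.2 (pow_mem hyq _)
          obtain ⟨i, hi⟩ := mem_zpowers_iff.1 (hAz ▸ pow_mem hyq e : (y ^ q) ^ e ∈ zpowers (a : G))
          refine (Subgroup.eq_of_le_of_card_ge (zpowers_le.2 ?_) ?_).symm
          · have h3 : (a : G) ^ (i * (q ^ m : ℕ)) = 1 := by
              rw [zpow_mul, hi, zpow_natCast, ← hn, pow_orderOf_eq_one]
            have h4 := orderOf_dvd_iff_zpow_eq_one.2 h3
            rw [hca, ← hmc, Nat.cast_mul, mul_comm i] at h4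
            obtain ⟨j, rfl⟩ : (c : ℤ) ∣ i :=
              (mul_dvd_mul_iff_left (by exact_mod_cast (pow_pos hq.pos m).ne')).1 h4
            exact mem_zpowers_iff.2 ⟨j, by rw [← hi, zpow_mul, zpow_natCast]⟩
          · rw [Nat.card_zpowers, Nat.card_zpowers, hn, ho1]
        obtain ⟨i, hi⟩ := mem_zpowers_iff.1 (hz ▸ mem_zpowers ((a : G) ^ c) :
          (a : G) ^ c ∈ zpowers ((y ^ q) ^ e))
        rw [← hi]
        exact (((Commute.refl y).pow_left q).pow_left e).zpow_left i
      obtain ⟨u, v, huv⟩ := (Int.isCoprime_iff_gcd_eq_one.2 hcop :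
        IsCoprime ((q ^ m : ℕ) : ℤ) (c : ℤ))
      rw [show (a : G) = ((a : G) ^ q ^ m) ^ u * ((a : G) ^ c) ^ v by
        rw [← zpow_natCast (a : G) (q ^ m), ← zpow_natCast (a : G) c, ← zpow_mul, ← zpow_mul,
          ← zpow_add, mul_comm _ u, mul_comm _ v, huv, zpow_one]]
      exact (hcomm2.zpow_left u).mul_left (hcomm1.zpow_left v)
  have htop : A = ⊤ := by
    refine eq_top_of_card_eq _ (Nat.dvd_antisymm (card_subgroup_dvd_card A) ?_)
    refine (Nat.dvd_iff_prime_pow_dvd_dvd _ _).2 fun q k hq hqk => ?_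
    haveI := Fact.mk hq
    obtain ⟨Q, hQ⟩ := Sylow.exists_subgroup_card_pow_prime q hqk
    rw [← hQ]
    refine card_dvd_of_le fun y hy => ?_
    obtain ⟨j, hj⟩ := IsPGroup.iff_orderOf.1 (IsPGroup.of_card hQ) ⟨y, hy⟩
    exact hpp q hq j y (by rwa [Subgroup.orderOf_mk] at hj)
  exact isCyclic_of_surjective A.subtype fun g => ⟨⟨g, htop ▸ mem_top g⟩, rfl⟩

end Cfsg.Agent.S3910
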