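import Cfsg.Statements.S3915
import Cfsg.Agent.Lib.Components.Decomposition
import Cfsg.Agent.Lib.FT.OddOrderTheorem

set_option autoImplicit false
open Cfsg

namespace Cfsg.Agent.S3915

/-- Let G be a finite group in which, for every prime p, any two cyclic p-subgroups of the same order are conjugate. If the layer E(G), the subgroup generated by the components of G, is non-trivial, then E(G)/Z(E(G)) is a non-abelian simple group. -/
theorem result {G : Type*} [Group G] [Finite G] (hP : ∀ (p : ℕ), p.Prime → ∀ A B : Subgroup G, IsCyclic ↥A → IsCyclic ↥B → IsPGroup p ↥A → Nat.card ↥A = Nat.card ↥B → ∃ g : G, B = A.map (MulAut.conj g).toMonoidHom) (hE : Cfsg.layer G ≠ ⊥) :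
    IsSimpleGroup (↥(Cfsg.layer G) ⧸ Subgroup.center ↥(Cfsg.layer G)) ∧ ¬ IsMulCommutative (↥(Cfsg.layer G) ⧸ Subgroup.center ↥(Cfsg.layer G)) := by
  classical
  haveI : Fact (Nat.Prime 2) := ⟨Nat.prime_two⟩
  have hcyc : ∀ x y : G, orderOf x = orderOf y → (∃ k : ℕ, orderOf x = 2 ^ k) →
      ∃ g : G, ∀ M : Subgroup G, x ∈ Subgroup.centralizer (M : Set G) →
        y ∈ Subgroup.centralizer ((M.map (MulAut.conj g).toMonoidHom : Subgroup G) : Set G) := by
    intro x y hxy hx
    obtain ⟨k, hk⟩ := hx
    obtain ⟨g, hg⟩ := hP 2 Nat.prime_two (Subgroup.zpowers x) (Subgroup.zpowers y) inferInstance inferInstance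
      (IsPGroup.of_card (n := k) (by rw [Nat.card_zpowers, hk])) (by rw [Nat.card_zpowers, Nat.card_zpowers, hxy])
    refine ⟨g, fun M hM => ?_⟩
    obtain ⟨a, ha, hae⟩ := hg.le (Subgroup.mem_zpowers y)
    rw [← hae]
    rintro _ ⟨m, hm, rfl⟩
    rw [← map_mul, ← map_mul]
    congr 1
    exact Subgroup.zpowers_le.2 hM ha m hm
  have hcentral : ∀ (K : Subgroup G) (x : G) (hx : x ∈ K),
      x ∈ Subgroup.centralizer (K : Set G) ↔ (⟨x, hx⟩ : K) ∈ Subgroup.center K := by
    intro K x hx
    rw [Subgroup.mem_center_iff]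
    exact ⟨fun h y => Subtype.ext (h y y.2), fun h y hy => congrArg Subtype.val (h ⟨y, hy⟩)⟩
  have hex : ∀ K : Subgroup G, Cfsg.IsComponent K →
      ∃ m : ℕ, ∃ t ∈ K, orderOf t = 2 ^ m ∧ t ∉ Subgroup.centralizer (K : Set G) := by
    intro K hK
    by_contra hne
    push Not at hne
    have hq := hK.2
    obtain ⟨P⟩ : Nonempty (Sylow 2 K) := inferInstance
    have hle : (P : Subgroup K) ≤ Subgroup.center K := by
      intro t ht
      obtain ⟨m, hm⟩ := IsPGroup.iff_orderOf.1 P.2 ⟨t, ht⟩
      rw [← Subgroup.orderOf_coe, ← Subgroup.orderOf_coe] at hm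
      exact (hcentral K t t.2).1 (hne m t t.2 hm)
    have hodd : Odd (Nat.card (↥K ⧸ Subgroup.center K)) := by
      rw [← Nat.not_even_iff_odd, even_iff_two_dvd]
      intro hd
      exact P.not_dvd_index (dvd_trans hd (Subgroup.index_dvd_of_le hle))
    haveI := CfsgLib.FT.isSolvable_of_odd hodd
    haveI : Group.IsSolvable (Subgroup.center K) := Group.isSolvable_of_comm fun a b => mul_comm' a b
    exact CfsgLib.Components.quasisimple_not_isSolvable hq
      (Group.isSolvable_of_ker_le_range (Subgroup.center K).subtype (QuotientGroup.mk' (Subgroup.center K))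
        (by rw [QuotientGroup.ker_mk', Subgroup.range_subtype]))
  have hone : ∀ K L : Subgroup G, Cfsg.IsComponent K → Cfsg.IsComponent L → K = L := by
    suffices h : ∀ K L : Subgroup G, ∀ (hK : Cfsg.IsComponent K) (hL : Cfsg.IsComponent L),
        Nat.find (hex K hK) ≤ Nat.find (hex L hL) → K = L by
      intro K L hK hL
      rcases le_total (Nat.find (hex K hK)) (Nat.find (hex L hL)) with h' | h'
      · exact h K L hK hL h'
      · exact (h L K hL hK h').symm
    intro K L hK hL hle
    by_contra hne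
    obtain ⟨t, htK, hto, htn⟩ := Nat.find_spec (hex K hK)
    obtain ⟨s, hsL, hso, hsn⟩ := Nat.find_spec (hex L hL)
    have hminK : ∀ b < Nat.find (hex K hK), ∀ u ∈ K, orderOf u = 2 ^ b →
        u ∈ Subgroup.centralizer (K : Set G) := fun b hb u hu hbu => by
      by_contra hun
      exact Nat.find_min (hex K hK) hb ⟨u, hu, hbu, hun⟩
    generalize Nat.find (hex K hK) = m at hto hminK hle
    generalize Nat.find (hex L hL) = l at hso hle
    have hoth : ∀ {A B : Subgroup G}, Cfsg.IsComponent A → Cfsg.IsComponent B → A ≠ B →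
        A ≤ Subgroup.centralizer (B : Set G) := fun hA hB hAB =>
      Subgroup.commutator_eq_bot_iff_le_centralizer.1 (CfsgLib.Components.components_commute hA hB hAB)
    have hsK : s ∈ Subgroup.centralizer (K : Set G) := hoth hL hK (Ne.symm hne) hsL
    have htL : t ∈ Subgroup.centralizer (L : Set G) := hoth hK hL hne htK
    have hts : Commute t s := (Subgroup.mem_centralizer_iff.1 hsK t htK)
    have h1 : t * s ∉ Subgroup.centralizer (K : Set G) := fun h => htn ((mul_mem_cancel_right hsK).1 h)
    have h2 : t * s ∉ Subgroup.centralizer (L : Set G) := fun h => hsn ((mul_mem_cancel_left htL).1 h)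
    obtain ⟨b, hb, hbo⟩ := (Nat.dvd_prime_pow Nat.prime_two).1 (orderOf_dvd_of_pow_eq_one (show (t * s) ^ 2 ^ l = 1 by
      rw [hts.mul_pow, ← hso, pow_orderOf_eq_one, mul_one, hso]
      exact orderOf_dvd_iff_pow_eq_one.1 (hto.dvd.trans (pow_dvd_pow 2 hle))))
    by_cases hbl : b = l
    · subst hbl
      obtain ⟨g, hg⟩ := hcyc s (t * s) (hso.trans hbo.symm) ⟨_, hso⟩
      have key : ∀ M : Subgroup G, Cfsg.IsComponent M → t * s ∉ Subgroup.centralizer (M : Set G) →
          M = L.map (MulAut.conj g).toMonoidHom := by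
        intro M hM hMn
        by_contra hMne
        refine hMn ?_
        have hM' : Cfsg.IsComponent (M.map (MulAut.conj g⁻¹).toMonoidHom) := CfsgLib.Components.isComponent_conj hM g⁻¹
        have hne' : L ≠ M.map (MulAut.conj g⁻¹).toMonoidHom := fun h => hMne (by
          rw [h, Subgroup.map_map]
          ext x
          simp [Subgroup.mem_map, mul_assoc])
        have h3 := hg _ (hoth hL hM' hne' hsL)
        rw [Subgroup.map_map] at h3
        convert h3 using 3
        ext x
        simp [Subgroup.mem_map, mul_assoc]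
      exact hne ((key K hK h1).trans (key L hL h2).symm)
    · have hbm : b < m := by
        by_contra hcon
        rw [not_lt] at hcon
        rcases hle.lt_or_eq with hlt | heq
        · -- then `ts` has order `2 ^ l`
          have h3 : (t * s) ^ 2 ^ b = 1 := by rw [← hbo, pow_orderOf_eq_one]
          rw [hts.mul_pow, orderOf_dvd_iff_pow_eq_one.1 (hto.dvd.trans (pow_dvd_pow 2 hcon)), one_mul] at h3
          have h4 := orderOf_dvd_of_pow_eq_one h3
          rw [hso, Nat.pow_dvd_pow_iff_le_right one_lt_two] at h4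
          exact hbl (le_antisymm hb h4)
        · omega
      have hu : orderOf (t ^ 2 ^ (m - b)) = 2 ^ b := by
        rw [orderOf_pow' _ (by positivity), hto, Nat.gcd_eq_right (pow_dvd_pow 2 (Nat.sub_le m b)),
          Nat.pow_div (Nat.sub_le m b) two_pos, show m - (m - b) = b by omega]
      obtain ⟨g, hg⟩ := hcyc _ (t * s) (hu.trans hbo.symm) ⟨_, hu⟩
      have hM' : Cfsg.IsComponent (K.map (MulAut.conj g⁻¹).toMonoidHom) := CfsgLib.Components.isComponent_conj hK g⁻¹
      have hmem : t ^ 2 ^ (m - b) ∈ Subgroup.centralizer ((K.map (MulAut.conj g⁻¹).toMonoidHom : Subgroup G) : Set G) := by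
        by_cases hKK : K = K.map (MulAut.conj g⁻¹).toMonoidHom
        · rw [← hKK]; exact hminK b hbm _ (pow_mem htK _) hu
        · exact hoth hK hM' hKK (pow_mem htK _)
      have h3 := hg _ hmem
      refine h1 ?_
      rw [Subgroup.map_map] at h3
      convert h3 using 3
      ext x
      simp [Subgroup.mem_map, mul_assoc]
  obtain ⟨K, hK⟩ : ∃ K : Subgroup G, Cfsg.IsComponent K := by
    by_contra hne
    push Not at hne
    exact hE (le_bot_iff.1 (CfsgLib.Components.layer_le_iff.2 fun K hK => absurd hK (hne K)))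
  have hlay : Cfsg.layer G = K :=
    le_antisymm (CfsgLib.Components.layer_le_iff.2 fun L hL => (hone L K hL hK).le)
      (CfsgLib.Components.component_le_layer hK)
  rw [hlay]
  refine ⟨hK.2.2, fun hab => ?_⟩
  haveI := hab
  haveI := hK.2.1
  refine CfsgLib.Components.quasisimple_center_ne_top hK.2 (top_le_iff.1 ?_)
  rw [← Group.IsPerfect.commutator_eq_top (G := K)]
  exact (Subgroup.Normal.quotient_commutative_iff_commutator_le).1 hab

end Cfsg.Agent.S3915
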