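import Cfsg.Statements.S3917
import Mathlib
import Cfsg.Agent.Lib.PGroups.UniqueOrderP
import Cfsg.Agent.Lib.Base.Transport
open Subgroup

set_option autoImplicit false
open Cfsg

namespace Cfsg.Agent.S3917

/-- Say that a group has self-centralizing non-cyclic subgroups when every non-cyclic subgroup H satisfies C_G(H) ≤ H. A finite abelian group with self-centralizing non-cyclic subgroups is cyclic or elementary abelian of order p² for a prime p. -/
theorem result {G : Type*} [CommGroup G] [Finite G] (hX : (∀ H : Subgroup G, ¬ IsCyclic ↥H → Subgroup.centralizer (H : Set G) ≤ H)) :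
    IsCyclic G ∨ ∃ p : ℕ, p.Prime ∧ Nat.card G = p ^ 2 ∧ Monoid.exponent G = p := by
  classical
  by_cases hc : IsCyclic G
  · exact Or.inl hc
  right
  have key : ∀ H : Subgroup G, ¬ IsCyclic H → H = ⊤ := fun H hH => top_le_iff.1 fun x _ =>
    hX H hH (mem_centralizer_iff.2 fun y _ => mul_comm y x)
  obtain ⟨p, hp, z, y, hz, hy, hyz, hzne⟩ : ∃ p, p.Prime ∧ ∃ z y : G, z ^ p = 1 ∧ y ^ p = 1 ∧
      y ∉ zpowers z ∧ z ≠ 1 := by
    by_contra hne
    haveI : IsZGroup G := ⟨fun p hp P => by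
      haveI := Fact.mk hp
      haveI : IsMulCommutative P := ⟨⟨fun a b => mul_comm a b⟩⟩
      by_cases hd : ∃ u : P, u ^ p = 1 ∧ u ≠ 1
      · obtain ⟨u, hu, hu1⟩ := hd
        refine CfsgLib.PGroups.isCyclic_of_abelian_of_unique P.isPGroup' (z := u)
          (fun v hv => ?_) hu
        by_contra hv'
        refine hne ⟨p, hp, (u : G), (v : G), by rw [← coe_pow, hu]; rfl, by rw [← coe_pow, hv]; rfl,
          fun h => hv' ?_, fun h => hu1 (Subtype.ext h)⟩
        obtain ⟨i, hi⟩ := mem_zpowers_iff.1 h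
        exact mem_zpowers_iff.2 ⟨i, Subtype.ext (by simpa using hi)⟩
      · push Not at hd
        exact CfsgLib.PGroups.isCyclic_of_abelian_of_unique P.isPGroup' (z := 1)
          (fun v hv => by rw [hd v hv]; exact one_mem _) (one_pow p)⟩
    exact hc inferInstance
  haveI := Fact.mk hp
  have hzo : orderOf z = p := orderOf_eq_prime hz hzne
  have hyo : orderOf y = p := orderOf_eq_prime hy (fun h => hyz (h ▸ one_mem _))
  set H := zpowers z ⊔ zpowers y with hH
  have hexp : ∀ h ∈ H, h ^ p = 1 := fun h hh => by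
    obtain ⟨a, ha, b, hb, rfl⟩ := mem_sup.1 hh
    obtain ⟨i, rfl⟩ := mem_zpowers_iff.1 ha
    obtain ⟨j, rfl⟩ := mem_zpowers_iff.1 hb
    rw [mul_pow, ← zpow_natCast, ← zpow_natCast (y ^ j), ← zpow_mul, ← zpow_mul, mul_comm i,
      mul_comm j, zpow_mul, zpow_mul, zpow_natCast, zpow_natCast, hz, hy, one_zpow, one_zpow,
      one_mul]
  have hbot : zpowers z ⊓ zpowers y = ⊥ := by
    rw [eq_bot_iff]
    intro w ⟨hw1, hw2⟩
    by_contra hw
    have hwo : orderOf w = p := orderOf_eq_prime (hexp w (mem_sup_left hw1)) hw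
    have he : zpowers w = zpowers y := Subgroup.eq_of_le_of_card_ge (zpowers_le.2 hw2)
      (by rw [Nat.card_zpowers, Nat.card_zpowers, hwo, hyo])
    exact hyz (zpowers_le.2 hw1 (he ▸ mem_zpowers y))
  have hcard : Nat.card H = p ^ 2 := by
    have h := CfsgLib.Base.card_sup_mul_card_inf (zpowers z) (zpowers y)
    rw [hbot, Subgroup.card_bot, mul_one, Nat.card_zpowers, Nat.card_zpowers, hzo, hyo] at h
    rw [hH, h, sq]
  have hnc : ¬ IsCyclic H := by
    intro hcy
    obtain ⟨⟨g, hg⟩, hgo⟩ := IsCyclic.exists_ofOrder_eq_natCard (α := H)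
    rw [Subgroup.orderOf_mk, hcard] at hgo
    have := Nat.le_of_dvd hp.pos (hgo ▸ orderOf_dvd_of_pow_eq_one (hexp g hg))
    nlinarith [hp.two_le]
  have htop := key H hnc
  refine ⟨p, hp, by rw [← hcard, htop, Subgroup.card_top], Nat.dvd_antisymm
    (Monoid.exponent_dvd_iff_forall_pow_eq_one.2 fun g => hexp g (htop ▸ mem_top g))
    (hzo ▸ Monoid.order_dvd_exponent z)⟩

end Cfsg.Agent.S3917
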