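import Cfsg.Statements.S3918
import Cfsg.Agent.Lib.PLocal.CyclicMaxApps
import Cfsg.Agent.Lib.PGroups.MaximalClass
open Subgroup

set_option autoImplicit false
open Cfsg

namespace Cfsg.Agent.S3918

/-- Say that a group has self-centralizing non-cyclic subgroups when every non-cyclic subgroup H satisfies C_G(H) ≤ H. For an odd prime p, a finite non-abelian p-group has self-centralizing non-cyclic subgroups if and only if it has order p³. -/
theorem result {G : Type*} [Group G] [Finite G] {p : ℕ} [Fact p.Prime] (hp : p ≠ 2) (hG : IsPGroup p G) (hna : ¬ IsMulCommutative G) :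
    (∀ H : Subgroup G, ¬ IsCyclic ↥H → Subgroup.centralizer (H : Set G) ≤ H) ↔ Nat.card G = p ^ 3 := by
  have hP : p.Prime := Fact.out
  have habelian : ∀ (H : Subgroup G) (k : ℕ), Nat.card H = p ^ k → k ≤ 2 → IsMulCommutative H := by
    intro H k hH hk
    rcases (show k = 0 ∨ k = 1 ∨ k = 2 by omega) with rfl | rfl | rfl
    · haveI : Subsingleton H := (Nat.card_eq_one_iff_unique.1 (by rw [hH, pow_zero])).1
      exact ⟨⟨fun a b => Subsingleton.elim _ _⟩⟩
    · haveI : IsCyclic H := isCyclic_of_prime_card (p := p) (by rw [hH, pow_one])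
      exact IsCyclic.isMulCommutative
    · exact ⟨⟨IsPGroup.commutative_of_card_eq_prime_sq hH⟩⟩
  obtain ⟨n, hn⟩ := IsPGroup.iff_card.1 hG
  have hn3 : 3 ≤ n := by
    by_contra h
    apply hna
    have := habelian ⊤ n (by rw [Subgroup.card_top, hn]) (by omega)
    exact ⟨⟨fun a b => congrArg Subtype.val (this.is_comm.comm (⟨a, mem_top a⟩ : (⊤ : Subgroup G)) ⟨b, mem_top b⟩)⟩⟩
  constructor
  · intro hsc
    obtain ⟨E, -, hEn, hEel, hE2⟩ := CfsgLib.PLocal.exists_normal_elementary_sq hp hG (⊤ : Subgroup G)
      (fun h => hna (by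
        haveI := h
        haveI : IsCyclic G := isCyclic_of_surjective (⊤ : Subgroup G).subtype fun g => ⟨⟨g, mem_top g⟩, rfl⟩
        exact IsCyclic.isMulCommutative))
    haveI := hEn
    have hEc : ∀ a ∈ E, ∀ b ∈ E, a * b = b * a := fun a ha b hb =>
      congrArg Subtype.val (hEel.1.is_comm.comm (⟨a, ha⟩ : E) ⟨b, hb⟩)
    have hord : ∀ a ∈ E, a ≠ 1 → orderOf a = p := fun a ha h1 =>
      orderOf_eq_prime (hEel.2 a ha) h1
    have hnc : ¬ IsCyclic E := by
      intro h
      obtain ⟨g, hg⟩ := h.exists_generator
      have h1 : orderOf g = p ^ 2 := by rw [orderOf_eq_card_of_forall_mem_zpowers hg, hE2]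
      have h2 : g ^ p = 1 := Subtype.ext (hEel.2 g g.2)
      have := Nat.le_of_dvd hP.pos (h1 ▸ orderOf_dvd_of_pow_eq_one h2)
      nlinarith [hP.two_le]
    have hCE := hsc E hnc
    haveI : Group.IsNilpotent G := hG.isNilpotent
    have hE1 : E ≠ ⊥ := fun h => by rw [h, Subgroup.card_bot] at hE2; nlinarith [hP.two_le]
    haveI : Nontrivial E := (Subgroup.nontrivial_iff_ne_bot E).2 hE1
    obtain ⟨z, hzE, hz1⟩ : ∃ z ∈ E ⊓ center G, z ≠ 1 := by
      by_contra h
      push Not at h
      have hbot : E ⊓ center G = ⊥ := eq_bot_iff.2 fun x hx => mem_bot.2 (h x hx)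
      exact CfsgLib.PGroups.inf_center_ne_bot hG hE1 hbot
    obtain ⟨e, he, hez⟩ : ∃ e ∈ E, e ∉ zpowers z := by
      by_contra h
      push Not at h
      have := Subgroup.card_le_of_le (h : E ≤ zpowers z)
      rw [Nat.card_zpowers, hord z hzE.1 hz1, hE2] at this
      nlinarith [hP.two_le]
    have he1 : e ≠ 1 := fun h => hez (h ▸ one_mem _)
    have hgen : Subgroup.closure {z, e} = E := by
      refine Subgroup.eq_of_le_of_card_ge ((closure_le E).2 ?_) ?_
      · rintro x (rfl | rfl); exacts [hzE.1, he]
      · obtain ⟨k, hk⟩ := CfsgLib.PGroups.card_subgroup_eq_pow hG (Subgroup.closure ({z, e} : Set G))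
        rw [hE2, hk]
        refine Nat.pow_le_pow_right hP.pos ?_
        by_contra hlt
        have hle : zpowers z ≤ Subgroup.closure {z, e} := zpowers_le.2 (subset_closure (by simp))
        have h1 := Subgroup.eq_of_le_of_card_ge hle (by
          rw [hk, Nat.card_zpowers, hord z hzE.1 hz1]
          exact (Nat.pow_le_pow_right hP.pos (show k ≤ 1 by omega)).trans_eq (pow_one p))
        exact hez (h1 ▸ subset_closure (by simp))
    have hC : Subgroup.centralizer ({e} : Set G) ≤ E := by
      refine le_trans ?_ hCE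
      rw [← hgen, centralizer_closure]
      intro g hg
      rw [mem_centralizer_iff]
      rintro x (rfl | rfl)
      · exact ((mem_center_iff.1 hzE.2) g).symm
      · exact (mem_centralizer_singleton_iff.1 hg).symm
    have hidx : (Subgroup.centralizer ({e} : Set G)).index ≤ p := by
      obtain ⟨k, hk⟩ := CfsgLib.PGroups.index_eq_pow hG (Subgroup.centralizer ({e} : Set G))
      have hlt : (Subgroup.centralizer ({e} : Set G)).index < p ^ 2 := by
        have hsub : Set.range (fun g : G => g * e * g⁻¹) ⊆ (E : Set G) \ {1} := by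
          rintro _ ⟨g, rfl⟩
          exact ⟨hEn.conj_mem e he g, fun h => he1 (by simpa using h)⟩
        have heq : (Subgroup.centralizer ({e} : Set G)).index = (Set.range (fun g : G => g * e * g⁻¹)).ncard := by
          rw [← Nat.card_coe_set_eq, Subgroup.index]
          refine Nat.card_congr (Equiv.ofBijective (Quotient.lift
            (fun g : G => (⟨g * e * g⁻¹, g, rfl⟩ : Set.range fun g : G => g * e * g⁻¹)) ?_) ⟨?_, ?_⟩)
          · intro a b hab
            have h : a⁻¹ * b ∈ Subgroup.centralizer ({e} : Set G) := QuotientGroup.leftRel_apply.1 hab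
            rw [mem_centralizer_singleton_iff] at h
            apply Subtype.ext
            show a * e * a⁻¹ = b * e * b⁻¹
            calc a * e * a⁻¹ = a * (e * (a⁻¹ * b)) * b⁻¹ := by group
              _ = a * ((a⁻¹ * b) * e) * b⁻¹ := by rw [h]
              _ = _ := by group
          · rintro ⟨a⟩ ⟨b⟩ hab
            refine Quotient.sound (QuotientGroup.leftRel_apply.2 ?_)
            rw [mem_centralizer_singleton_iff]
            have h : a * e * a⁻¹ = b * e * b⁻¹ := congrArg Subtype.val hab
            calc a⁻¹ * b * e = a⁻¹ * (b * e * b⁻¹) * b := by group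
              _ = a⁻¹ * (a * e * a⁻¹) * b := by rw [h]
              _ = _ := by group
          · rintro ⟨_, g, rfl⟩; exact ⟨QuotientGroup.mk g, rfl⟩
        rw [heq]
        refine (Set.ncard_le_ncard hsub).trans_lt ?_
        rw [← hE2, ← SetLike.coe_sort_coe, Nat.card_coe_set_eq]
        exact Set.ncard_sdiff_singleton_lt_of_mem (one_mem E)
      rw [hk, Nat.pow_lt_pow_iff_right hP.one_lt] at hlt
      rw [hk]
      exact (Nat.pow_le_pow_right hP.pos (show k ≤ 1 by omega)).trans_eq (pow_one p)
    have h3 : Nat.card G ≤ p ^ 3 := by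
      rw [← Subgroup.card_mul_index (Subgroup.centralizer ({e} : Set G)), show p ^ 3 = p ^ 2 * p from pow_succ p 2, ← hE2]
      exact Nat.mul_le_mul (Subgroup.card_le_of_le hC) hidx
    rw [hn] at h3 ⊢
    rw [Nat.pow_le_pow_iff_right hP.one_lt] at h3
    rw [show n = 3 by omega]
  · intro h3 H hH g hg
    obtain ⟨k, hk⟩ := CfsgLib.PGroups.card_subgroup_eq_pow hG H
    have hk3 : k ≤ 3 := by
      rw [← Nat.pow_le_pow_iff_right hP.one_lt, ← hk, ← h3]
      exact Subgroup.card_le_card_group H
    have hk2 : 2 ≤ k := by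
      by_contra h
      apply hH
      rcases (show k = 0 ∨ k = 1 by omega) with rfl | rfl
      · haveI : Subsingleton H := (Nat.card_eq_one_iff_unique.1 (by rw [hk, pow_zero])).1
        infer_instance
      · exact isCyclic_of_prime_card (p := p) (by rw [hk, pow_one])
    rcases (show k = 3 ∨ k = 2 by omega) with rfl | rfl
    · rw [Subgroup.eq_top_of_card_eq H (by rw [hk, h3])]; exact mem_top g
    have hab := habelian H 2 hk le_rfl
    have hle : H ≤ Subgroup.centralizer (H : Set G) := le_centralizer_iff_isMulCommutative.2 hab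
    obtain ⟨j, hj⟩ := CfsgLib.PGroups.card_subgroup_eq_pow hG (Subgroup.centralizer (H : Set G))
    have hj2 := Subgroup.card_le_of_le hle
    have hj3 := Subgroup.card_le_card_group (Subgroup.centralizer (H : Set G))
    rw [hk, hj, Nat.pow_le_pow_iff_right hP.one_lt] at hj2
    rw [hj, h3, Nat.pow_le_pow_iff_right hP.one_lt] at hj3
    rcases (show j = 2 ∨ j = 3 by omega) with rfl | rfl
    · exact (Subgroup.eq_of_le_of_card_ge hle (by rw [hk, hj])).symm ▸ hg
    · exfalso
      have htop := Subgroup.eq_top_of_card_eq _ (hj.trans h3.symm)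
      have hHZ : H ≤ center G := by
        rw [centralizer_eq_top_iff_subset] at htop
        exact htop
      refine CfsgLib.PGroups.not_isCyclic_quotient_center hna ?_
      have h1 := Subgroup.card_mul_index (center G)
      have h2 := Subgroup.card_le_of_le hHZ
      rw [hk] at h2
      have hle1 : (center G).index ≤ p := by
        rw [h3] at h1
        have := Nat.mul_le_mul_right (center G).index h2
        rw [h1] at this
        have hp3 : p ^ 3 = p ^ 2 * p := pow_succ p 2
        rw [hp3] at this
        exact Nat.le_of_mul_le_mul_left this (pow_pos hP.pos 2)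
      obtain ⟨i, hi⟩ := CfsgLib.PGroups.index_eq_pow hG (center G)
      rw [hi] at hle1
      have hi1 : i ≤ 1 := by
        by_contra hc
        have := Nat.pow_le_pow_right hP.pos (show 2 ≤ i by omega)
        nlinarith [hP.two_le]
      rcases (show i = 0 ∨ i = 1 by omega) with rfl | rfl
      · haveI : Subsingleton (G ⧸ center G) := (Nat.card_eq_one_iff_unique.1 (by rw [← Subgroup.index, hi, pow_zero])).1
        infer_instance
      · exact isCyclic_of_prime_card (p := p) (by rw [← Subgroup.index, hi, pow_one])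

end Cfsg.Agent.S3918
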