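import Cfsg.Statements.S3919
import Cfsg.Agent.Lib.PGroups.MaximalClassTwo

set_option autoImplicit false
open Cfsg

namespace Cfsg.Agent.S3919

/-- Say that a group has self-centralizing non-cyclic subgroups when every non-cyclic subgroup H satisfies C_G(H) ≤ H. A finite non-abelian 2-group G of order 2^n has self-centralizing non-cyclic subgroups if and only if G has nilpotency class n − 1 (that is, G is dihedral, semidihedral or generalized quaternion). -/
theorem result {G : Type*} [Group G] [Finite G] (hna : ¬ IsMulCommutative G) (n : ℕ) (hG : Nat.card G = 2 ^ n) :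
    (∀ H : Subgroup G, ¬ IsCyclic ↥H → Subgroup.centralizer (H : Set G) ≤ H) ↔ (⊤ : Subgroup G).lowerCentralSeries (n - 2) ≠ ⊥ := by
  have hP : IsPGroup 2 G := IsPGroup.of_card hG
  haveI := hP.isNilpotent
  have hn3 : 3 ≤ n := by
    by_contra hlt
    refine hna ?_
    rcases (show n = 0 ∨ n = 1 ∨ n = 2 by omega) with rfl | rfl | rfl
    · haveI : Subsingleton G := (Nat.card_eq_one_iff_unique.mp (by simpa using hG)).1
      exact ⟨⟨fun a b => Subsingleton.elim _ _⟩⟩
    · haveI : IsCyclic G := isCyclic_of_prime_card (p := 2) (by simpa using hG)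
      infer_instance
    · exact IsPGroup.isMulCommutative_of_card_eq_prime_sq hG
  have hiff : (⊤ : Subgroup G).lowerCentralSeries (n - 2) ≠ ⊥ ↔ Group.nilpotencyClass G = n - 1 := by
    have := CfsgLib.PGroups.nilpotencyClass_le_sub_one (p := 2) (by omega) hG
    rw [ne_eq, Subgroup.lowerCentralSeries_eq_bot_iff_nilpotencyClass_le]
    omega
  rw [hiff]
  constructor
  · intro hself
    by_cases hV : ∃ a b : G, a * a = 1 ∧ b * b = 1 ∧ a * b = b * a ∧ a ≠ 1 ∧ b ≠ 1 ∧ a ≠ b
    · -- a four-group is self-centralizing
      obtain ⟨a, b, ha, hb, hab, ha1, hb1, hne⟩ := hV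
      let V : Subgroup G :=
        { carrier := {1, a, b, a * b}
          one_mem' := Or.inl rfl
          mul_mem' := by
            rintro x y (rfl | rfl | rfl | rfl) (rfl | rfl | rfl | rfl) <;>
              simp only [one_mul, mul_one, Set.mem_insert_iff, Set.mem_singleton_iff, true_or, or_true]
            · left; exact ha
            · right; right; left; rw [← mul_assoc, ha, one_mul]
            · right; right; right; exact hab.symm
            · left; exact hb
            · right; left; rw [← mul_assoc, ← hab, mul_assoc, hb, mul_one]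
            · right; right; left
              rw [hab, mul_assoc, ha, mul_one]
            · right; left; rw [mul_assoc, hb, mul_one]
            · left
              rw [mul_assoc, ← mul_assoc b, ← hab, mul_assoc, hb, mul_one, ha]
          inv_mem' := by
            have ha' : a⁻¹ = a := inv_eq_of_mul_eq_one_right ha
            have hb' : b⁻¹ = b := inv_eq_of_mul_eq_one_right hb
            rintro x (rfl | rfl | rfl | rfl) <;>
              simp [ha', hb', mul_inv_rev, hab] }
      have hab1 : a * b ≠ 1 := fun h => hne ((mul_left_cancel (ha.trans h.symm)))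
      have hcard : Nat.card V = 4 := by
        show Nat.card ({1, a, b, a * b} : Set G) = 4
        rw [Nat.card_coe_set_eq, Set.ncard_insert_of_notMem, Set.ncard_insert_of_notMem,
          Set.ncard_insert_of_notMem, Set.ncard_singleton]
        · simpa using fun h : b = a * b => ha1 (mul_eq_right.mp h.symm)
        · simp only [Set.mem_insert_iff, Set.mem_singleton_iff, not_or]
          exact ⟨hne, fun h => hb1 (mul_eq_left.mp h.symm)⟩
        · simp only [Set.mem_insert_iff, Set.mem_singleton_iff, not_or]
          exact ⟨ha1.symm, hb1.symm, hab1.symm⟩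
      have hnc : ¬ IsCyclic V := by
        intro hc
        obtain ⟨g, hg⟩ := IsCyclic.exists_generator (α := V)
        have hgg : g ^ 2 = 1 := by
          apply Subtype.ext
          push_cast
          rw [sq]
          rcases g.2 with h | h | h | h <;> rw [h]
          · exact one_mul 1
          · exact ha
          · exact hb
          · rw [mul_assoc, ← mul_assoc b, ← hab, mul_assoc, hb, mul_one, ha]
        have h4 := orderOf_eq_card_of_forall_mem_zpowers hg
        have := orderOf_dvd_of_pow_eq_one hgg
        rw [h4, hcard] at this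
        norm_num at this
      have hC : Subgroup.centralizer (V : Set G) = V := by
        refine le_antisymm (hself V hnc) ?_
        intro x hx y hy
        have hCab : Commute a b := hab
        have h1 : Commute y a ∧ Commute y b := by
          rcases hy with rfl | rfl | rfl | rfl
          · exact ⟨Commute.one_left a, Commute.one_left b⟩
          · exact ⟨Commute.refl _, hCab⟩
          · exact ⟨hCab.symm, Commute.refl _⟩
          · exact ⟨(Commute.refl a).mul_left hCab.symm, hCab.mul_left (Commute.refl b)⟩
        rcases hx with rfl | rfl | rfl | rfl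
        · exact (Commute.one_right y).eq
        · exact h1.1.eq
        · exact h1.2.eq
        · exact (h1.1.mul_right h1.2).eq
      exact CfsgLib.PGroups.maximalClass_of_centralizer_eq hG (p := 2) (by rw [hcard]; norm_num) hC
    · -- a unique involution
      haveI : Nontrivial G := Finite.one_lt_card_iff_nontrivial.mp
        (hG ▸ Nat.one_lt_pow (by omega) one_lt_two)
      obtain ⟨z, hz⟩ := exists_prime_orderOf_dvd_card' 2
        (CfsgLib.PGroups.dvd_card_of_ne_bot hP (Group.IsNilpotent.center_ne_bot G))
      have hz2 : (z : G) ^ 2 = 1 := by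
        have := pow_orderOf_eq_one z
        rw [hz] at this
        exact congrArg Subtype.val this
      have huniq : ∀ y : G, y ^ 2 = 1 → y ∈ Subgroup.zpowers (z : G) := by
        intro y hy
        by_contra hyz
        refine hV ⟨z, y, (sq (z : G)).symm.trans hz2, (sq y).symm.trans hy,
          (Subgroup.mem_center_iff.mp z.2 y).symm, ?_, ?_, ?_⟩
        · intro h
          have := orderOf_eq_one_iff.mpr (Subtype.ext (h : (z : G) = ((1 : Subgroup.center G) : G)))
          rw [hz] at this
          norm_num at this
        · exact fun h => hyz (h ▸ one_mem _)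
        · exact fun h => hyz (h ▸ Subgroup.mem_zpowers _)
      rcases CfsgLib.PGroups.isCyclic_or_quaternion_of_unique hP hz2 huniq with hc | ⟨-, k, hk, ⟨e⟩⟩
      · exact absurd (inferInstance : IsMulCommutative G) hna
      haveI : NeZero (2 ^ k) := ⟨pow_ne_zero _ two_ne_zero⟩
      let g := e.symm (QuaternionGroup.xa 0)
      have hg : orderOf g = 4 := by
        rw [show g = e.symm (QuaternionGroup.xa 0) from rfl, MulEquiv.orderOf_eq, QuaternionGroup.orderOf_xa]
      refine CfsgLib.PGroups.maximalClass_of_centralizer_eq hG (p := 2)
        (A := Subgroup.zpowers g) (by rw [Nat.card_zpowers, hg]; norm_num) (le_antisymm ?_ ?_)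
      · intro x hx
        have hcomm : Commute (e x) (QuaternionGroup.xa 0) := by
          have h := congrArg e (hx g (Subgroup.mem_zpowers g))
          rw [map_mul, map_mul, show e g = QuaternionGroup.xa 0 from e.apply_symm_apply _] at h
          exact h.symm
        have hmem : e x ∈ Subgroup.zpowers (QuaternionGroup.xa (0 : ZMod (2 * 2 ^ k))) := by
          have hhalf : ∀ i : ZMod (2 * 2 ^ k), i + i = 0 → i = 0 ∨ i = ((2 ^ k : ℕ) : ZMod (2 * 2 ^ k)) := by
            intro i hi
            rw [← ZMod.natCast_zmod_val i, ← Nat.cast_add, ZMod.natCast_eq_zero_iff, ← two_mul] at hi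
            obtain ⟨q, hq⟩ := Nat.dvd_of_mul_dvd_mul_left two_pos hi
            have hlt := ZMod.val_lt i
            rw [hq, mul_comm 2 (2 ^ k)] at hlt
            have := Nat.lt_of_mul_lt_mul_left hlt
            rw [← ZMod.natCast_zmod_val i, hq]
            rcases (show q = 0 ∨ q = 1 by omega) with rfl | rfl
            · left; simp
            · right; simp
          have ha : ∀ i : ZMod (2 * 2 ^ k), i + i = 0 →
              QuaternionGroup.a i ∈ Subgroup.zpowers (QuaternionGroup.xa (0 : ZMod (2 * 2 ^ k))) := by
            intro i hi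
            rcases hhalf i hi with rfl | rfl
            · rw [QuaternionGroup.a_zero]; exact one_mem _
            · rw [← QuaternionGroup.xa_sq 0]; exact pow_mem (Subgroup.mem_zpowers _) 2
          rcases hex : e x with i | i
          · rw [hex] at hcomm
            have h := hcomm.eq
            simp only [QuaternionGroup.a_mul_xa, QuaternionGroup.xa_mul_a, QuaternionGroup.xa.injEq,
              zero_sub, zero_add] at h
            exact ha i (eq_neg_iff_add_eq_zero.mp h.symm)
          · rw [hex] at hcomm
            have h := hcomm.eq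
            simp only [QuaternionGroup.xa_mul_xa, QuaternionGroup.a.injEq, add_zero, sub_zero] at h
            have h2 : i + i = 0 := by linear_combination -h
            have := mul_mem (Subgroup.mem_zpowers (QuaternionGroup.xa (0 : ZMod (2 * 2 ^ k)))) (ha i h2)
            rwa [QuaternionGroup.xa_mul_a, zero_add] at this
        obtain ⟨q, hq⟩ := Subgroup.mem_zpowers_iff.mp hmem
        refine Subgroup.mem_zpowers_iff.mpr ⟨q, ?_⟩
        rw [show g = e.symm (QuaternionGroup.xa 0) from rfl, ← map_zpow, hq, e.symm_apply_apply]
      · exact (CfsgLib.PGroups.isMulCommutative_iff_le_centralizer _).mp inferInstance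
  · intro hcl H hH
    obtain ⟨c, t, hc, ht, hdec, hZ, hw1, -, -⟩ :=
      CfsgLib.PGroups.maximalClass_two_structure hn3 hG hcl
    have hCi : (Subgroup.zpowers c).index = 2 := by
      have h := Subgroup.card_mul_index (Subgroup.zpowers c)
      rw [Nat.card_zpowers, hc, hG, ← mul_pow_sub_one (show n ≠ 0 by omega) (2 : ℕ),
        mul_comm 2 (2 ^ (n - 1))] at h
      exact Nat.eq_of_mul_eq_mul_left (pow_pos two_pos (n - 1)) h
    obtain ⟨s, hsH, hs⟩ : ∃ s ∈ H, s ∉ Subgroup.zpowers c := by
      refine SetLike.not_le_iff_exists.mp fun hle => hH ?_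
      exact isCyclic_of_injective (Subgroup.inclusion hle) (Subgroup.inclusion_injective hle)
    have hfix : ∀ d ∈ Subgroup.zpowers c, Commute s d → d ∈ Subgroup.center G := fun d hd hsd =>
      CfsgLib.PGroups.mem_center_of_index_two hCi inferInstance hs hd hsd
    have hmul : ∀ y : G, y ∉ Subgroup.zpowers c → s⁻¹ * y ∈ Subgroup.zpowers c := fun y hy =>
      (Subgroup.mul_mem_iff_of_index_two hCi).mpr
        ⟨fun h => absurd (inv_mem_iff.mp h) hs, fun h => absurd h hy⟩
    -- H contains the centre
    have hZH : Subgroup.center G ≤ H := by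
      have hne : H ⊓ Subgroup.zpowers c ≠ ⊥ := by
        intro hbot
        refine hH ?_
        have hsub : ∀ y ∈ H, y = 1 ∨ y = s := by
          intro y hy
          by_cases hyc : y ∈ Subgroup.zpowers c
          · exact Or.inl ((Subgroup.eq_bot_iff_forall _).mp hbot y ⟨hy, hyc⟩)
          · exact Or.inr (inv_mul_eq_one.mp ((Subgroup.eq_bot_iff_forall _).mp hbot _
              ⟨H.mul_mem (H.inv_mem hsH) hy, hmul y hyc⟩)).symm
        refine ⟨⟨s, hsH⟩, fun y => ?_⟩
        rcases hsub y y.2 with h | h
        · exact ⟨0, Subtype.ext (by simp [h])⟩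
        · exact ⟨1, Subtype.ext (by simp [h])⟩
      obtain ⟨z, hz⟩ := exists_prime_orderOf_dvd_card' 2 (CfsgLib.PGroups.dvd_card_of_ne_bot hP hne)
      obtain ⟨k, hk⟩ := Subgroup.mem_zpowers_iff.mp z.2.2
      have hz2 : orderOf (z : G) = 2 := by rw [Subgroup.orderOf_coe, hz]
      have h2 := pow_orderOf_eq_one (z : G)
      rw [hz2, ← hk, ← zpow_natCast, ← zpow_mul, ← orderOf_dvd_iff_zpow_eq_one, hc,
        show n - 1 = n - 2 + 1 by omega, pow_succ] at h2
      push_cast at h2
      obtain ⟨q, rfl⟩ := (mul_dvd_mul_iff_right two_ne_zero).mp h2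
      have hzc : (z : G) ∈ Subgroup.center G := by
        rw [hZ, ← hk]
        refine Subgroup.mem_zpowers_iff.mpr ⟨q, ?_⟩
        rw [← zpow_natCast, ← zpow_mul]
        norm_cast
      have hZeq : Subgroup.zpowers (z : G) = Subgroup.center G := by
        refine Subgroup.eq_of_le_of_card_ge (Subgroup.zpowers_le.mpr hzc) ?_
        rw [Nat.card_zpowers, hz2,
          (CfsgLib.PGroups.center_of_maximalClass (p := 2) hn3 hG hcl).1]
      exact hZeq ▸ Subgroup.zpowers_le.mpr z.2.1
    intro y hy
    have hys : Commute s y := hy s hsH
    by_cases hyc : y ∈ Subgroup.zpowers c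
    · exact hZH (hfix y hyc hys)
    · have := hZH (hfix _ (hmul y hyc) ((Commute.refl s).inv_right.mul_right hys))
      have h2 := mul_mem hsH this
      rwa [mul_inv_cancel_left] at h2

end Cfsg.Agent.S3919
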