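import Cfsg.Statements.S3920
import Mathlib
open Subgroup DihedralGroup

set_option autoImplicit false
open Cfsg

namespace Cfsg.Agent.S3920

/-- Say that a group has self-centralizing non-cyclic subgroups when every non-cyclic subgroup H satisfies C_G(H) ≤ H. For n ≥ 3, the dihedral group of order 2n has self-centralizing non-cyclic subgroups if and only if n is odd or a power of 2. -/
theorem result (n : ℕ) (hn : 3 ≤ n) : (∀ H : Subgroup (DihedralGroup n), ¬ IsCyclic ↥H → Subgroup.centralizer (H : Set (DihedralGroup n)) ≤ H) ↔ (Odd n ∨ ∃ k : ℕ, n = 2 ^ k) := by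
  haveI : NeZero n := ⟨by omega⟩
  have htwo : ∀ x : ZMod n, x + x = 0 → x = 0 ∨ (2 ∣ n ∧ x = ((n / 2 : ℕ) : ZMod n)) := by
    intro x hx
    have h1 : ((x.val + x.val : ℕ) : ZMod n) = 0 := by push_cast [ZMod.natCast_zmod_val]; exact hx
    rw [ZMod.natCast_eq_zero_iff] at h1
    obtain ⟨c, hc⟩ := h1
    have hv := ZMod.val_lt x
    have hc2 : c < 2 := by
      by_contra h
      have := Nat.mul_le_mul_left n (not_lt.mp h)
      omega
    interval_cases c
    · left
      rw [← ZMod.natCast_zmod_val x, show x.val = 0 by omega]; simp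
    · right
      refine ⟨by omega, ?_⟩
      rw [show n / 2 = x.val by omega, ZMod.natCast_zmod_val]
  constructor
  · intro hsc
    by_contra hcon
    rw [not_or] at hcon
    obtain ⟨hodd, hpow⟩ := hcon
    obtain ⟨q, hq, hqn, hq2⟩ : ∃ q, q.Prime ∧ q ∣ n ∧ q ≠ 2 := by
      by_contra h
      push Not at h
      exact hpow ⟨_, Nat.eq_prime_pow_of_unique_prime_dvd (by omega) fun {d} hd hdn => h d hd hdn⟩
    have hn2 : 2 ∣ n := even_iff_two_dvd.mp (Nat.not_odd_iff_even.mp hodd)
    obtain ⟨a, ha⟩ := hqn
    obtain ⟨m, hm⟩ := hn2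
    obtain ⟨t, ht⟩ := hq.odd_of_ne_two hq2
    let A : AddSubgroup (ZMod n) := (nsmulAddMonoidHom q : ZMod n →+ ZMod n).ker
    have hA : ∀ x, x ∈ A ↔ q • x = 0 := fun x => Iff.rfl
    let H : Subgroup (DihedralGroup n) :=
      { carrier := {g | match g with | .r i => i ∈ A | .sr i => i ∈ A}
        one_mem' := A.zero_mem
        mul_mem' := by
          rintro (i | i) (j | j) hi hj
          · exact A.add_mem hi hj
          · exact A.sub_mem hj hi
          · exact A.add_mem hi hj
          · exact A.sub_mem hj hi
        inv_mem' := by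
          rintro (i | i) hi
          · exact A.neg_mem hi
          · exact hi }
    have haA : (a : ZMod n) ∈ A := by
      rw [hA, nsmul_eq_mul, ← Nat.cast_mul, ← ha, ZMod.natCast_self]
    have ha0 : (a : ZMod n) + a ≠ 0 := by
      intro h
      rw [← Nat.cast_add, ZMod.natCast_eq_zero_iff] at h
      have := hq.two_le
      have : a ≠ 0 := by rintro rfl; simp at ha; omega
      have := Nat.le_of_dvd (by omega) h
      have : 3 * a ≤ q * a := Nat.mul_le_mul_right a (by omega)
      omega
    have hnc : ¬ IsCyclic ↥H := by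
      intro hc
      have := @IsCyclic.isMulCommutative ↥H _ hc
      have h1 := congrArg Subtype.val (this.is_comm.comm (⟨.r (a : ZMod n), haA⟩ : H)
        ⟨.sr 0, A.zero_mem⟩)
      simp only [coe_mul, r_mul_sr, sr_mul_r, sr.injEq] at h1
      apply ha0
      linear_combination -h1
    have hmm : (m : ZMod n) + m = 0 := by
      rw [← Nat.cast_add, ← two_mul, ← hm, ZMod.natCast_self]
    have hc : DihedralGroup.r (m : ZMod n) ∈ Subgroup.centralizer (H : Set (DihedralGroup n)) := by
      rw [mem_centralizer_iff]
      rintro (i | i) _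
      · simp [r_mul_r, add_comm]
      · simp only [sr_mul_r, r_mul_sr, sr.injEq]
        linear_combination hmm
    have hmA : (m : ZMod n) ∈ A := hsc H hnc hc
    rw [hA, ht, add_nsmul, one_nsmul, mul_comm 2 t, mul_nsmul', two_nsmul, hmm, nsmul_zero, zero_add,
      ZMod.natCast_eq_zero_iff] at hmA
    have := Nat.le_of_dvd (by omega) hmA
    omega
  · intro hn' H hH g hg
    obtain ⟨i, hi⟩ : ∃ i : ZMod n, DihedralGroup.sr i ∈ H := by
      by_contra h
      push Not at h
      apply hH
      have hle : H ≤ zpowers (DihedralGroup.r 1) := by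
        rintro (j | j) hj
        · exact ⟨(j.val : ℤ), by simp [r_one_pow, ZMod.natCast_zmod_val]⟩
        · exact absurd hj (h j)
      exact isCyclic_of_injective (inclusion hle) (inclusion_injective hle)
    obtain ⟨b, hb, hb0⟩ : ∃ b : ZMod n, DihedralGroup.r b ∈ H ∧ b ≠ 0 := by
      by_contra h
      push Not at h
      apply hH
      have hle : H ≤ zpowers (DihedralGroup.sr i) := by
        rintro (j | j) hj
        · rw [h j hj, r_zero]; exact one_mem _
        · have := h _ (mul_mem hi hj : DihedralGroup.r (j - i) ∈ H)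
          rw [sub_eq_zero.mp this]; exact mem_zpowers _
      exact isCyclic_of_injective (inclusion hle) (inclusion_injective hle)
    have hhalf : 2 ∣ n → DihedralGroup.r ((n / 2 : ℕ) : ZMod n) ∈ H := by
      intro h2
      rcases hn' with ho | ⟨k, hk⟩
      · exact absurd (even_iff_two_dvd.mpr h2) (Nat.not_even_iff_odd.mpr ho)
      · have hd : addOrderOf b ∣ 2 ^ k := by
          rw [addOrderOf_dvd_iff_nsmul_eq_zero, nsmul_eq_mul, ← hk, ZMod.natCast_self, zero_mul]
        obtain ⟨j, -, hj⟩ := (Nat.dvd_prime_pow Nat.prime_two).mp hd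
        rcases j with _ | j
        · exact absurd (AddMonoid.addOrderOf_eq_one_iff.mp (by simpa using hj)) hb0
        · have hx : (2 ^ j) • b + (2 ^ j) • b = 0 := by
            rw [← add_nsmul, ← two_mul, ← pow_succ', ← hj, addOrderOf_nsmul_eq_zero]
          rcases htwo _ hx with h | ⟨-, h⟩
          · have h1 := addOrderOf_dvd_iff_nsmul_eq_zero.mpr h
            rw [hj, pow_succ] at h1
            have := Nat.le_of_dvd (by positivity) h1
            have : 0 < 2 ^ j := by positivity
            omega
          · rw [← h]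
            have : DihedralGroup.r ((2 ^ j) • b) = DihedralGroup.r b ^ (2 ^ j) := by
              generalize 2 ^ j = N
              induction N with
              | zero => rw [zero_nsmul, r_zero, pow_zero]
              | succ N ih => rw [pow_succ, ← ih, r_mul_r, succ_nsmul]
            rw [this]; exact pow_mem hb _
    rw [mem_centralizer_iff] at hg
    have h1 := hg _ hi
    rcases g with j | j
    · simp only [sr_mul_r, r_mul_sr, sr.injEq] at h1
      rcases htwo j (by linear_combination h1) with h | ⟨h2, h⟩
      · rw [h, r_zero]; exact one_mem _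
      · rw [h]; exact hhalf h2
    · simp only [sr_mul_sr, r.injEq] at h1
      rcases htwo (j - i) (by linear_combination h1) with h | ⟨h2, h⟩
      · rw [sub_eq_zero.mp h]; exact hi
      · have := mul_mem hi (hhalf h2)
        rw [← h, sr_mul_r, add_sub_cancel] at this
        exact this

end Cfsg.Agent.S3920
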