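import Cfsg.Statements.S3937
import Cfsg.Agent.Lib.Base.Wielandt
import Cfsg.Agent.Lib.Base.Nilpotent
import Cfsg.Agent.Lib.Base.Fitting
open scoped Pointwise

set_option autoImplicit false
open Cfsg

namespace Cfsg.Agent.S3937

/-- Baer's characterization of the Fitting subgroup: in a finite group G, an element g lies in the Fitting subgroup if and only if g is a left Engel element, that is, for every x there is n with [x, g, g, …, g] = 1 (n entries g, [a, b] = aba⁻¹b⁻¹). -/
theorem result {G : Type*} [Group G] [Finite G] (g : G) :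
    g ∈ Cfsg.fittingSubgroup G ↔ ∀ x : G, ∃ n : ℕ, (List.replicate n g).foldl (fun a b => a * b * a⁻¹ * b⁻¹) x = 1 := by
  classical
  constructor
  · intro hg x
    haveI := CfsgLib.Base.isNilpotent_fittingSubgroup G
    haveI := CfsgLib.Base.fittingSubgroup_normal' G
    set F := Cfsg.fittingSubgroup G with hF
    obtain ⟨c, hc⟩ := Subgroup.nilpotent_iff_lowerCentralSeries.1
      (inferInstance : Group.IsNilpotent F)
    refine ⟨c + 1, ?_⟩
    have key : ∀ k, ∃ h : ((List.replicate (k + 1) g).foldl (fun a b => a * b * a⁻¹ * b⁻¹) x) ∈ F,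
        (⟨_, h⟩ : F) ∈ (⊤ : Subgroup F).lowerCentralSeries k := by
      intro k
      induction k with
      | zero =>
        simp only [Nat.zero_add, List.replicate_one, List.foldl_cons, List.foldl_nil,
          Subgroup.lowerCentralSeries_zero, Subgroup.mem_top, exists_prop, and_true]
        exact mul_mem ((inferInstance : F.Normal).conj_mem g hg x) (F.inv_mem hg)
      | succ k ih =>
        obtain ⟨h, hk⟩ := ih
        rw [show k + 1 + 1 = (k + 1).succ from rfl, List.replicate_succ', List.foldl_append]
        simp only [List.foldl_cons, List.foldl_nil]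
        refine ⟨mul_mem (mul_mem (mul_mem h hg) (F.inv_mem h)) (F.inv_mem hg), ?_⟩
        rw [Subgroup.lowerCentralSeries_succ]
        exact Subgroup.commutator_mem_commutator hk (Subgroup.mem_top (⟨g, hg⟩ : F))
    obtain ⟨h, hk⟩ := key c
    rw [hc, Subgroup.mem_bot] at hk
    exact congrArg Subtype.val hk
  · intro hE
    induction hn : Nat.card G using Nat.strong_induction_on generalizing G with
    | _ n ih =>
    subst hn
    -- `⟨g⟩` is subnormal in every proper subgroup containing it
    have hsub : ∀ H : Subgroup G, Subgroup.zpowers g ≤ H → H ≠ ⊤ →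
        CfsgLib.Base.IsSubnormalIn (Subgroup.zpowers g) H := by
      intro H hgH hH
      refine ⟨hgH, ?_⟩
      have hg : g ∈ H := hgH (Subgroup.mem_zpowers g)
      have hgF := ih (Nat.card H)
        (lt_of_le_of_ne (Subgroup.card_le_card_group H) fun e => hH (Subgroup.eq_top_of_card_eq _ e))
        (⟨g, hg⟩ : H) (fun x => by
          obtain ⟨n, hn⟩ := hE (x : G)
          refine ⟨n, Subtype.ext ?_⟩
          have : ∀ (m : ℕ) (y : H), (((List.replicate m (⟨g, hg⟩ : H)).foldl
              (fun a b => a * b * a⁻¹ * b⁻¹) y : H) : G) =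
              (List.replicate m g).foldl (fun a b => a * b * a⁻¹ * b⁻¹) (y : G) := by
            intro m
            induction m with
            | zero => intro y; rfl
            | succ m ihm =>
              intro y
              rw [List.replicate_succ, List.replicate_succ, List.foldl_cons, List.foldl_cons, ihm]
              rfl
          rw [this, hn]
          rfl) rfl
      haveI := CfsgLib.Base.isNilpotent_fittingSubgroup H
      rw [show (Subgroup.zpowers g).subgroupOf H = Subgroup.zpowers (⟨g, hg⟩ : H) by
        apply Subgroup.map_injective H.subtype_injective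
        rw [Subgroup.map_subgroupOf_eq_of_le hgH, MonoidHom.map_zpowers]
        rfl]
      exact Subgroup.IsSubnormal.trans (Subgroup.zpowers_le.mpr hgF)
        (CfsgLib.Base.isSubnormal_of_isNilpotent _)
        (CfsgLib.Base.fittingSubgroup_normal' H).isSubnormal
    by_contra hgF
    have hnsn : ¬ (Subgroup.zpowers g).IsSubnormal := fun h => hgF
      (CfsgLib.Base.le_fittingSubgroup_of_isSubnormal h (@CommGroup.isNilpotent _ IsCyclic.commGroup) (Subgroup.mem_zpowers g))
    -- two conjugates generating `G`
    obtain ⟨x, hx⟩ : ∃ x : G, Subgroup.zpowers g ⊔ MulAut.conj x • Subgroup.zpowers g = ⊤ := by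
      by_contra hall
      push Not at hall
      exact hnsn (CfsgLib.Base.isSubnormal_of_forall_conj _ fun x =>
        (hsub _ le_sup_left (hall x)).2)
    have hgt : Subgroup.zpowers g ≠ ⊤ := fun h => hnsn (h ▸ Subgroup.IsSubnormal.top)
    obtain ⟨M, hM, hgM⟩ := (IsCoatomic.eq_top_or_exists_le_coatom (Subgroup.zpowers g)).resolve_left hgt
    have huniq : ∀ K, IsCoatom K → Subgroup.zpowers g ≤ K → K = M := fun K hK hgK =>
      CfsgLib.Base.eq_of_isCoatom_of_not_isSubnormal _ hsub hnsn hK hgK hM hgM
    have hstep : ∀ y : G, y * g * y⁻¹ * g⁻¹ ∈ M → y ∈ M := by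
      intro y hy
      have h1 : y * g * y⁻¹ ∈ M := by
        have := M.mul_mem hy (hgM (Subgroup.mem_zpowers g))
        rwa [inv_mul_cancel_right] at this
      have h2 : Subgroup.zpowers g ≤ M.map (MulAut.conj y⁻¹).toMonoidHom := by
        rw [Subgroup.zpowers_le]
        exact ⟨y * g * y⁻¹, h1, by simp [mul_assoc]⟩
      have h3 := huniq _ ((OrderIso.isCoatom_iff (MulEquiv.mapSubgroup (MulAut.conj y⁻¹)) M).mpr hM) h2
      have h4 : y⁻¹ ∈ Subgroup.normalizer (M : Set G) := CfsgLib.Base.map_conj_eq_self_iff.mp h3
      rcases eq_or_lt_of_le (Subgroup.le_normalizer (H := M)) with h5 | h5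
      · rw [← h5] at h4
        exact inv_mem_iff.mp h4
      · exfalso
        have hMn : M.Normal := Subgroup.normalizer_eq_top_iff.mp (hM.2 _ h5)
        apply hM.1
        rw [eq_top_iff, ← hx]
        refine sup_le hgM ?_
        rintro _ ⟨a, ha, rfl⟩
        exact hMn.conj_mem a (hgM ha) x
    have hall : ∀ (n : ℕ) (y : G), (List.replicate n g).foldl (fun a b => a * b * a⁻¹ * b⁻¹) y ∈ M → y ∈ M := by
      intro n
      induction n with
      | zero => intro y hy; exact hy
      | succ n ihn =>
        intro y hy
        rw [List.replicate_succ, List.foldl_cons] at hy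
        exact hstep y (ihn _ hy)
    obtain ⟨n, hn⟩ := hE x
    have hxM : x ∈ M := hall n x (hn ▸ one_mem M)
    apply hM.1
    rw [eq_top_iff, ← hx]
    refine sup_le hgM ?_
    rintro _ ⟨a, ha, rfl⟩
    exact M.mul_mem (M.mul_mem hxM (hgM ha)) (M.inv_mem hxM)

end Cfsg.Agent.S3937
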