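import Cfsg.Statements.S3939
import Cfsg.Agent.S3937
import Cfsg.Agent.Lib.Base.Cores
import Cfsg.Agent.Lib.PGroups.Basic
import Cfsg.Agent.Lib.OddOrder.FittingHall
open scoped commutatorElement

set_option autoImplicit false
open Cfsg

namespace Cfsg.Agent.S3939

/-- In a finite group G the set of elements g such that the subgroup generated by g and x is nilpotent for every x ∈ G is exactly the hypercenter of G (the last term of the upper central series). -/
theorem result {G : Type*} [Group G] [Finite G] (g : G) :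
    (∀ x : G, Group.IsNilpotent ↥(Subgroup.closure ({x, g} : Set G))) ↔ g ∈ ⨆ n : ℕ, Subgroup.upperCentralSeries G n := by
  classical
  have hmono := Subgroup.upperCentralSeries_mono G
  constructor
  swap
  · intro hg x
    obtain ⟨n, hn⟩ := (Subgroup.mem_iSup_of_directed hmono.directed_le).mp hg
    set K := Subgroup.closure ({x, g} : Set G) with hK
    have hle : ∀ i, (Subgroup.upperCentralSeries G i).subgroupOf K ≤ Subgroup.upperCentralSeries K i := by
      intro i
      induction i with
      | zero =>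
        intro z hz
        rw [Subgroup.mem_subgroupOf, Subgroup.upperCentralSeries_zero, Subgroup.mem_bot] at hz
        rw [Subgroup.upperCentralSeries_zero, Subgroup.mem_bot]
        exact Subtype.ext hz
      | succ i ih =>
        intro z hz
        rw [Subgroup.mem_upperCentralSeries_succ_iff]
        intro y
        exact ih (Subgroup.mem_subgroupOf.mpr ((Subgroup.mem_upperCentralSeries_succ_iff.mp hz) y))
    set U := Subgroup.upperCentralSeries K n with hU
    have hxK : x ∈ K := Subgroup.subset_closure (Set.mem_insert x _)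
    have hgK : g ∈ K := Subgroup.subset_closure (Set.mem_insert_of_mem x rfl)
    have htop : ∀ z : K, (z : K ⧸ U) ∈ Subgroup.zpowers ((⟨x, hxK⟩ : K) : K ⧸ U) := by
      intro z
      have hle2 : K ≤ ((Subgroup.zpowers ((⟨x, hxK⟩ : K) : K ⧸ U)).comap (QuotientGroup.mk' U)).map K.subtype := by
        refine (Subgroup.closure_le _).mpr ?_
        rintro y (rfl | rfl)
        · exact ⟨⟨y, hxK⟩, Subgroup.mem_zpowers _, rfl⟩
        · refine ⟨⟨y, hgK⟩, ?_, rfl⟩
          show ((⟨y, hgK⟩ : K) : K ⧸ U) ∈ Subgroup.zpowers ((⟨x, hxK⟩ : K) : K ⧸ U)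
          rw [(QuotientGroup.eq_one_iff (⟨y, hgK⟩ : K)).mpr (hle n (Subgroup.mem_subgroupOf.mpr hn))]
          exact one_mem _
      obtain ⟨w, hw, hwz⟩ := hle2 z.2
      rw [← (Subtype.ext hwz : w = z)]
      exact hw
    refine ⟨⟨n + 1, ?_⟩⟩
    rw [eq_top_iff]
    intro z _
    rw [Subgroup.mem_upperCentralSeries_succ_iff]
    intro y
    rw [← hU, ← QuotientGroup.eq_one_iff]
    obtain ⟨a, ha⟩ := Subgroup.mem_zpowers_iff.mp (htop z)
    obtain ⟨b, hb⟩ := Subgroup.mem_zpowers_iff.mp (htop y)
    simp only [commutatorElement_def, QuotientGroup.mk_mul, QuotientGroup.mk_inv, ← ha, ← hb]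
    group
  intro hg
  -- `g` is a left Engel element
  have hgF : g ∈ Cfsg.fittingSubgroup G := by
    refine (Cfsg.Agent.S3937.result g).mpr fun x => ?_
    set K := Subgroup.closure ({x, g} : Set G) with hK
    have hxK : x ∈ K := Subgroup.subset_closure (Set.mem_insert x _)
    have hgK : g ∈ K := Subgroup.subset_closure (Set.mem_insert_of_mem x rfl)
    haveI := hg x
    have hF : (⟨g, hgK⟩ : K) ∈ Cfsg.fittingSubgroup K := by
      rw [CfsgLib.Base.fittingSubgroup_eq_top_iff.mpr (hg x)]; trivial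
    obtain ⟨n, hn⟩ := (Cfsg.Agent.S3937.result (G := K) ⟨g, hgK⟩).mp hF ⟨x, hxK⟩
    refine ⟨n, ?_⟩
    have : ∀ (m : ℕ) (y : K), (((List.replicate m (⟨g, hgK⟩ : K)).foldl
        (fun a b => a * b * a⁻¹ * b⁻¹) y : K) : G) =
        (List.replicate m g).foldl (fun a b => a * b * a⁻¹ * b⁻¹) (y : G) := by
      intro m
      induction m with
      | zero => intro y; rfl
      | succ m ihm =>
        intro y
        rw [List.replicate_succ, List.replicate_succ, List.foldl_cons, List.foldl_cons, ihm]
        rfl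
    rw [← this n ⟨x, hxK⟩, hn]
    rfl
  -- the hypercenter contains the parts of prime power order
  have key : ∀ (p : ℕ), p.Prime → ∀ D : Subgroup G, D.Normal → IsPGroup p D →
      (∀ h : G, ¬ p ∣ orderOf h → ∀ d ∈ D, h * d = d * h) →
      ∃ n, D ≤ Subgroup.upperCentralSeries G n := by
    intro p hp D hD hDp hc
    haveI := Fact.mk hp
    induction hn : Nat.card D using Nat.strong_induction_on generalizing D with
    | _ k ih =>
    subst hn
    rcases eq_or_ne D ⊥ with h | h
    · exact ⟨0, h ▸ bot_le⟩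
    haveI := hD
    obtain ⟨Q, hQ⟩ := hDp.exists_le_sylow
    set C := Subgroup.centralizer (D : Set G) with hC
    haveI : C.Normal := inferInstance
    -- a Sylow subgroup and the centralizer of `D` generate `G`
    have hQC : (Q : Subgroup G) ⊔ C = ⊤ := by
      rw [← Subgroup.index_eq_one]
      have h1 : ((Q : Subgroup G) ⊔ C).index ∣ (Q : Subgroup G).index := Subgroup.index_dvd_of_le le_sup_left
      have h2 : ((Q : Subgroup G) ⊔ C).index ∣ C.index := Subgroup.index_dvd_of_le le_sup_right
      have h3 : IsPGroup p (G ⧸ C) := by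
        intro w
        obtain ⟨h, rfl⟩ := QuotientGroup.mk_surjective w
        refine ⟨(orderOf h).factorization p, ?_⟩
        rw [← QuotientGroup.mk_pow, QuotientGroup.eq_one_iff, hC, Subgroup.mem_centralizer_iff]
        intro d hd
        refine (hc _ ?_ d hd).symm
        rw [orderOf_pow, Nat.gcd_eq_right (Nat.ordProj_dvd _ _)]
        exact Nat.not_dvd_ordCompl hp (orderOf_pos h).ne'
      obtain ⟨e, he⟩ := IsPGroup.iff_card.mp h3
      rw [← Subgroup.index_eq_card] at he
      exact Nat.eq_one_of_dvd_coprimes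
        (Nat.Coprime.pow_right e ((hp.coprime_iff_not_dvd.mpr Q.not_dvd_index).symm)) h1 (he ▸ h2)
    set DQ := D.subgroupOf (Q : Subgroup G) with hDQ
    have hne' : DQ ≠ ⊥ := by
      intro h2
      apply h
      rw [← Subgroup.map_subgroupOf_eq_of_le hQ, ← hDQ, h2, Subgroup.map_bot]
    haveI : DQ.Normal := Subgroup.normal_subgroupOf
    have hlt := CfsgLib.PGroups.commutator_top_lt Q.isPGroup' hne'
    set E := (⁅DQ, (⊤ : Subgroup (Q : Subgroup G))⁆).map (Q : Subgroup G).subtype with hE
    have hED : ⁅D, (⊤ : Subgroup G)⁆ ≤ E := by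
      refine Subgroup.commutator_le.mpr fun d hd h _ => ?_
      obtain ⟨q, hq, c, hc', hqc⟩ := Subgroup.mem_sup_of_normal_right.mp (hQC ▸ Subgroup.mem_top h)
      have hdc : d * c = c * d := Subgroup.mem_centralizer_iff.mp hc' d hd
      have e : ⁅d, h⁆ = ⁅d, q⁆ := by
        rw [← hqc, commutatorElement_def, commutatorElement_def, mul_inv_rev]
        calc d * (q * c) * d⁻¹ * (c⁻¹ * q⁻¹) = d * q * (c * d⁻¹ * c⁻¹) * q⁻¹ := by group
          _ = d * q * d⁻¹ * q⁻¹ := by
            have : c * d⁻¹ * c⁻¹ = d⁻¹ := by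
              rw [mul_inv_eq_iff_eq_mul, eq_inv_mul_iff_mul_eq, ← mul_assoc, hdc, mul_assoc,
                mul_inv_cancel, mul_one]
            rw [this]
      rw [e]
      exact ⟨⁅(⟨d, hQ hd⟩ : (Q : Subgroup G)), ⟨q, hq⟩⁆,
        Subgroup.commutator_mem_commutator hd (Subgroup.mem_top _), rfl⟩
    have hcard : Nat.card ↥⁅D, (⊤ : Subgroup G)⁆ < Nat.card D := by
      refine lt_of_le_of_lt (Subgroup.card_le_of_le hED) ?_
      rw [hE, CfsgLib.Base.card_map_subtype]
      refine lt_of_lt_of_le ?_ (CfsgLib.Base.card_subgroupOf hQ).le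
      refine lt_of_le_of_ne (Subgroup.card_le_of_le hlt.le) fun he => ?_
      exact hlt.ne (Subgroup.eq_of_le_of_card_ge hlt.le he.ge)
    have hle : ⁅D, (⊤ : Subgroup G)⁆ ≤ D := Subgroup.commutator_le_left D ⊤
    obtain ⟨n, hn⟩ := ih _ hcard _ inferInstance (hDp.to_le hle) (fun w hw d hd => hc w hw d (hle hd)) rfl
    refine ⟨n + 1, fun d hd => ?_⟩
    rw [Subgroup.mem_upperCentralSeries_succ_iff]
    intro y
    exact hn (Subgroup.commutator_mem_commutator hd (Subgroup.mem_top y))
  set W := ⨆ n : ℕ, Subgroup.upperCentralSeries G n with hW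
  haveI : W.Normal := by
    haveI : W.Characteristic := by rw [hW]; infer_instance
    infer_instance
  have hz : ∀ (p : ℕ), p.Prime → ∀ z ∈ Subgroup.zpowers g, (∃ a, orderOf z = p ^ a) → z ∈ W := by
    intro p hp z hzg ⟨a, ha⟩
    haveI := Fact.mk hp
    haveI := CfsgLib.Base.fittingSubgroup_normal' G
    haveI := CfsgLib.Base.isNilpotent_fittingSubgroup G
    have hzF : z ∈ Cfsg.fittingSubgroup G := (Subgroup.zpowers_le.mpr hgF) hzg
    have hzp : z ∈ Cfsg.pCore p G := by
      have h1 : IsPGroup p (Subgroup.zpowers (⟨z, hzF⟩ : Cfsg.fittingSubgroup G)) :=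
        IsPGroup.iff_card.mpr ⟨a, by rw [Nat.card_zpowers, Subgroup.orderOf_mk, ha]⟩
      obtain ⟨S, hS⟩ := h1.exists_le_sylow
      haveI : (S : Subgroup (Cfsg.fittingSubgroup G)).Normal := inferInstance
      have h2 := CfsgLib.Base.le_pCore (N := (S : Subgroup (Cfsg.fittingSubgroup G))) S.isPGroup'
        (hS (Subgroup.mem_zpowers _))
      rw [← CfsgLib.Base.map_pCore_fittingSubgroup p G]
      exact ⟨_, h2, rfl⟩
    haveI : (Cfsg.pCore p G).Normal := pCore_normal p G
    set D := Cfsg.pCore p G ⊓ Subgroup.centralizer {h : G | ¬ p ∣ orderOf h} with hD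
    haveI hCn : (Subgroup.centralizer {h : G | ¬ p ∣ orderOf h}).Normal :=
      ⟨fun u hu b => Subgroup.mem_centralizer_iff.mpr fun x hx => by
        have h1 : b⁻¹ * x * b ∈ {h : G | ¬ p ∣ orderOf h} := by
          have h2 : b⁻¹ * x * b = MulAut.conj b⁻¹ x := by simp
          show ¬ p ∣ orderOf (b⁻¹ * x * b)
          rw [h2, (MulAut.conj b⁻¹).orderOf_eq]
          exact hx
        have h3 := Subgroup.mem_centralizer_iff.mp hu _ h1
        calc x * (b * u * b⁻¹) = b * ((b⁻¹ * x * b) * u) * b⁻¹ := by group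
          _ = b * (u * (b⁻¹ * x * b)) * b⁻¹ := by rw [h3]
          _ = b * u * b⁻¹ * x := by group⟩
    obtain ⟨n, hn⟩ := key p hp D inferInstance ((CfsgLib.Base.isPGroup_pCore p G).to_le inf_le_left)
      (fun h hh d hd => Subgroup.mem_centralizer_iff.mp hd.2 h hh)
    refine (le_iSup (fun n => Subgroup.upperCentralSeries G n) n) (hn ⟨hzp, ?_⟩)
    refine Subgroup.mem_centralizer_iff.mpr fun h (hh : ¬ p ∣ orderOf h) => ?_
    haveI := hg h
    have hzK : z ∈ Subgroup.closure ({h, g} : Set G) :=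
      (Subgroup.zpowers_le.mpr (Subgroup.subset_closure (Set.mem_insert_of_mem h (Set.mem_singleton g)))) hzg
    have hhK : h ∈ Subgroup.closure ({h, g} : Set G) := Subgroup.subset_closure (Set.mem_insert h _)
    have hcm := CfsgLib.OddOrder.commute_of_coprime_aux (N := Subgroup.closure ({h, g} : Set G))
      (a := ⟨h, hhK⟩) (b := ⟨z, hzK⟩) (by
        rw [Subgroup.orderOf_mk, Subgroup.orderOf_mk, ha]
        exact Nat.Coprime.pow_right a (hp.coprime_iff_not_dvd.mpr hh).symm)
    exact congrArg Subtype.val hcm.eq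
  show g ∈ W
  rw [← QuotientGroup.eq_one_iff, ← orderOf_eq_one_iff]
  by_contra hne
  obtain ⟨p, hp, hpd⟩ := Nat.exists_prime_and_dvd hne
  have hd : orderOf ((g : G ⧸ W)) ∣ orderOf g := orderOf_map_dvd (QuotientGroup.mk' W) g
  set m := orderOf g / p ^ (orderOf g).factorization p with hm
  have hzW : g ^ m ∈ W := by
    refine hz p hp _ (Subgroup.npow_mem_zpowers g m) ⟨(orderOf g).factorization p, ?_⟩
    rw [orderOf_pow, Nat.gcd_eq_right (Nat.ordCompl_dvd _ _)]
    exact Nat.div_div_self (Nat.ordProj_dvd _ _) (orderOf_pos g).ne'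
  have h1 : orderOf ((g : G ⧸ W)) ∣ m := by
    apply orderOf_dvd_of_pow_eq_one
    rw [← QuotientGroup.mk_pow, QuotientGroup.eq_one_iff]
    exact hzW
  exact Nat.not_dvd_ordCompl hp (orderOf_pos g).ne' (hpd.trans h1)

end Cfsg.Agent.S3939
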