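import Cfsg.Statements.S3941
import Mathlib
open Equiv Subgroup

set_option autoImplicit false
open Cfsg

namespace Cfsg.Agent.S3941

/-- Let n ≥ 5 and p an odd prime with p ≤ n, and suppose that every proper subgroup of the alternating group of degree n whose order is divisible by p has a normal Sylow p-subgroup. Then n = p. -/
theorem result (n p : ℕ) (hn : 5 ≤ n) [Fact p.Prime] (hp : p ≠ 2) (hpn : p ≤ n)
    (h : ∀ H : Subgroup ↥(alternatingGroup (Fin n)), H ≠ ⊤ → p ∣ Nat.card ↥H → Cfsg.IsPClosed p ↥H) : n = p := by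
  by_contra hne
  obtain ⟨m, rfl⟩ : ∃ m, n = m + 1 := ⟨n - 1, by omega⟩
  have hpm : p ≤ m := by omega
  let s : Finset (Fin (m + 1)) := Finset.univ.erase 0
  have hs : Fintype.card s = m := by simp [s, Fintype.card_coe]
  let e : s ≃ Fin m := Fintype.equivFinOfCardEq hs
  let ι : ↥(alternatingGroup (Fin m)) →* ↥(alternatingGroup (Fin (m + 1))) :=
    (alternatingGroup.ofSubtype s).comp (Equiv.altCongrHom e.symm).toMonoidHom
  have hι : Function.Injective ι :=
    alternatingGroup.ofSubtype_injective.comp (Equiv.altCongrHom e.symm).injective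
  haveI : Nontrivial (Fin m) := Fin.nontrivial_iff_two_le.2 (by omega)
  haveI : Nontrivial (Fin (m + 1)) := Fin.nontrivial_iff_two_le.2 (by omega)
  have hcm : Nat.card ↥(alternatingGroup (Fin m)) = m.factorial / 2 := by
    rw [nat_card_alternatingGroup, Nat.card_fin]
  have hpr : p.Prime := Fact.out
  have hp2' : p.Coprime 2 := (Nat.coprime_primes hpr Nat.prime_two).2 hp
  have h2fac : 2 ∣ m.factorial := Nat.dvd_factorial (by norm_num) (by omega)
  have hpd : p ∣ Nat.card ↥(alternatingGroup (Fin m)) := by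
    rw [hcm]
    refine hp2'.dvd_of_dvd_mul_right ?_
    rw [Nat.div_mul_cancel h2fac]
    exact Nat.dvd_factorial hpr.pos hpm
  have hH : ι.range ≠ ⊤ := by
    intro ht
    have h1 := Nat.card_congr (MonoidHom.ofInjective hι).toEquiv
    rw [ht, Subgroup.card_top, hcm, nat_card_alternatingGroup, Nat.card_fin, Nat.factorial_succ] at h1
    have h2 : 1 ≤ m.factorial / 2 := (Nat.one_le_div_iff (by norm_num)).2 (Nat.le_of_dvd (Nat.factorial_pos m) h2fac)
    rw [Nat.mul_div_assoc _ h2fac] at h1
    nlinarith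
  have hcl := h ι.range hH (by rwa [← Nat.card_congr (MonoidHom.ofInjective hι).toEquiv])
  have hnorm : ∀ P : Sylow p ↥(alternatingGroup (Fin m)), (P : Subgroup ↥(alternatingGroup (Fin m))).Normal := by
    intro P
    let f := MonoidHom.ofInjective hι
    have hsurj : Function.Surjective f.toMonoidHom := f.surjective
    have hn := hcl (P.mapSurjective hsurj)
    rw [Sylow.coe_mapSurjective] at hn
    have := hn.comap f.toMonoidHom
    rwa [comap_map_eq_self_of_injective (show Function.Injective f.toMonoidHom from f.injective)] at this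
  obtain ⟨P⟩ : Nonempty (Sylow p ↥(alternatingGroup (Fin m))) := inferInstance
  have hPn := hnorm P
  rcases (show m = 4 ∨ 5 ≤ m by omega) with rfl | h5
  · have hp3 : p = 3 := by
      rcases (show p = 3 ∨ p = 4 by have := hpr.two_le; omega) with h | h
      · exact h
      · subst h; norm_num at hpr
    subst hp3
    haveI : Subsingleton (Sylow 3 ↥(alternatingGroup (Fin 4))) := ⟨fun a b => ((Sylow.unique_of_normal P hPn).uniq a).trans ((Sylow.unique_of_normal P hPn).uniq b).symm⟩
    have hmem : ∀ c : ↥(alternatingGroup (Fin 4)), c ^ 3 = 1 → c ∈ (P : Subgroup ↥(alternatingGroup (Fin 4))) := by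
      intro c hc
      have hpg : IsPGroup 3 (zpowers c) := by
        rintro ⟨y, hy⟩
        obtain ⟨i, rfl⟩ := mem_zpowers_iff.1 hy
        refine ⟨1, Subtype.ext ?_⟩
        show (c ^ i) ^ (3 ^ 1) = 1
        rw [pow_one, ← zpow_natCast (c ^ i), ← zpow_mul, mul_comm, zpow_mul, zpow_natCast, hc, one_zpow]
      obtain ⟨Q, hQ⟩ := hpg.exists_le_sylow
      rw [Subsingleton.elim Q P] at hQ
      exact hQ (mem_zpowers c)
    let c1 : ↥(alternatingGroup (Fin 4)) := ⟨swap 0 1 * swap 1 2, by simp [Perm.mem_alternatingGroup, Perm.sign_swap]⟩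
    let c2 : ↥(alternatingGroup (Fin 4)) := ⟨swap 0 1 * swap 1 3, by simp [Perm.mem_alternatingGroup, Perm.sign_swap]⟩
    have h1 := hmem c1 (by apply Subtype.ext; ext i; fin_cases i <;> rfl)
    have h2 := hmem c2 (by apply Subtype.ext; ext i; fin_cases i <;> rfl)
    obtain ⟨k, hk⟩ := P.2 ⟨c1 * c2, mul_mem h1 h2⟩
    have hk' : (c1 * c2) ^ 3 ^ k = 1 := congrArg Subtype.val hk
    have hsq : (c1 * c2) ^ 2 = 1 := by apply Subtype.ext; ext i; fin_cases i <;> rfl
    obtain ⟨j, hj⟩ : Odd (3 ^ k) := Odd.pow (by decide)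
    rw [hj, pow_succ, pow_mul, hsq, one_pow, one_mul] at hk'
    have := congrArg (fun g : ↥(alternatingGroup (Fin 4)) => (g : Perm (Fin 4)) 0) hk'
    exact absurd this (by decide)
  · haveI := alternatingGroup.isSimpleGroup (α := Fin m) (by rw [Nat.card_fin]; exact h5)
    rcases hPn.eq_bot_or_eq_top with hb | ht
    · have := P.card_eq_multiplicity
      rw [hb, Subgroup.card_bot] at this
      have h1 := Nat.Prime.factorization_pos_of_dvd hpr Nat.card_pos.ne' hpd
      exact absurd this.symm (Nat.one_lt_pow h1.ne' hpr.one_lt).ne'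
    · obtain ⟨k, hk⟩ := IsPGroup.iff_card.1 P.2
      rw [ht, Subgroup.card_top, hcm] at hk
      have h4 : 2 * 2 ∣ m.factorial := by
        have : (4 : ℕ).factorial ∣ m.factorial := Nat.factorial_dvd_factorial (by omega)
        exact Dvd.dvd.trans (by decide) this
      have h2 : 2 ∣ p ^ k := by
        rw [← hk]
        exact (Nat.dvd_div_iff_mul_dvd h2fac).2 h4
      exact hp ((Nat.prime_dvd_prime_iff_eq Nat.prime_two hpr).1 (Nat.prime_two.dvd_of_dvd_pow h2)).symm

end Cfsg.Agent.S3941
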