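import Cfsg.Statements.S3949
import Mathlib

set_option autoImplicit false
open Cfsg

namespace Cfsg.Agent.S3949

/-- Let G be a finite group and α an automorphism of G of order 2 such that the elements g·α(g)⁻¹ generate G. Let j be a positive integer such that 2^j divides the order of no element inverted by α. Then the set of values of the j-th iterate of the map c ↦ c·α(c)⁻¹ is exactly the set of elements of odd order inverted by α. -/
theorem result {G : Type*} [Group G] [Finite G] (α : MulAut G) (hα : orderOf α = 2) (hG : Subgroup.closure (Set.range (fun c : G => c * (α c)⁻¹)) = ⊤)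
    (j : ℕ) (hj : ∀ g : G, α g = g⁻¹ → ¬ 2 ^ j ∣ orderOf g) :
    Set.range ((fun c : G => c * (α c)⁻¹)^[j]) = {g : G | Odd (orderOf g) ∧ α g = g⁻¹} := by
  have _ := hG
  set φ : G → G := fun c : G => c * (α c)⁻¹ with hφ
  have hαα : ∀ g, α (α g) = g := by
    intro g
    have h2 : α ^ 2 = 1 := by rw [← hα, pow_orderOf_eq_one]
    calc α (α g) = (α ^ 2) g := by rw [sq]; rfl
      _ = g := by rw [h2]; rfl
  have hinv : ∀ g, α (φ g) = (φ g)⁻¹ := fun g => by
    simp only [hφ, map_mul, map_inv, hαα, mul_inv_rev, inv_inv]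
  have hsq : ∀ x, α x = x⁻¹ → ∀ k, φ^[k] x = x ^ (2 ^ k) := by
    intro x hx k
    induction k with
    | zero => simp
    | succ k ih =>
      rw [Function.iterate_succ_apply', ih]
      simp only [hφ, map_pow, hx, inv_pow, inv_inv]
      rw [← pow_add, pow_succ, mul_two]
  ext z
  constructor
  · rintro ⟨g, rfl⟩
    obtain ⟨i, rfl⟩ : ∃ i, j = i + 1 := by
      rcases j with _ | i
      · exact absurd (by simp) (hj (1 : G) (by simp))
      · exact ⟨i, rfl⟩
    rw [Function.iterate_succ_apply, hsq _ (hinv g)]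
    refine ⟨?_, ?_⟩
    · rw [orderOf_pow' _ (by positivity)]
      set d := orderOf (φ g) with hd
      have hd0 : 0 < d := orderOf_pos _
      have hnd : ¬ 2 ^ (i + 1) ∣ d := hj _ (hinv g)
      have hgd : d.gcd (2 ^ i) * (d / d.gcd (2 ^ i)) = d := Nat.mul_div_cancel' (Nat.gcd_dvd_left _ _)
      by_contra hev
      rw [Nat.not_odd_iff_even, even_iff_two_dvd] at hev
      obtain ⟨a, ha, hga⟩ := (Nat.dvd_prime_pow Nat.prime_two).mp (Nat.gcd_dvd_right d (2 ^ i))
      rcases ha.eq_or_lt with rfl | hlt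
      · exact hnd (by rw [pow_succ, ← hgd, hga]; exact Nat.mul_dvd_mul_left _ (hga ▸ hev))
      · have h1 : 2 ^ (a + 1) ∣ d := by
          rw [pow_succ, ← hgd, hga]; exact Nat.mul_dvd_mul_left _ (hga ▸ hev)
        have h2 : 2 ^ (a + 1) ∣ d.gcd (2 ^ i) := Nat.dvd_gcd h1 (pow_dvd_pow 2 hlt)
        rw [hga, Nat.pow_dvd_pow_iff_le_right (by norm_num)] at h2
        omega
    · rw [map_pow, hinv, inv_pow]
  · rintro ⟨hodd, hz⟩
    obtain ⟨m, hm⟩ := exists_pow_eq_self_of_coprime
      (Nat.Coprime.pow_left j (Nat.coprime_two_left.mpr hodd))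
    refine ⟨z ^ m, ?_⟩
    rw [hsq _ (by rw [map_pow, hz, inv_pow]), ← pow_mul, mul_comm, pow_mul, hm]

end Cfsg.Agent.S3949
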