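import Cfsg.Statements.S3979
import Mathlib

set_option autoImplicit false
open Cfsg

namespace Cfsg.Agent.S3979

/-- A finite cyclic group has trivial Schur multiplier: every finite stem extension of it is an isomorphism, said through `HasCyclicSchurMultiplier G 1`. -/
theorem result {G : Type*} [Group G] [Finite G] [IsCyclic G] : Cfsg.HasCyclicSchurMultiplier G 1 := by
  have hA : ∀ a : Multiplicative (ZMod 1), a = 1 := fun a => Subsingleton.elim _ _
  have hbot : ∀ {Γ : Type _} [Group Γ] (σ : Γ →* G), Cfsg.IsStemExtension σ → σ.ker = ⊥ := by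
    intro Γ _ σ hσ
    have hc : commutator Γ = ⊥ := by
      rw [commutator_def, Subgroup.commutator_eq_bot_iff_le_centralizer]
      intro a _
      rw [Subgroup.mem_centralizer_iff]
      intro b _
      exact (σ.isMulCommutative_of_isCyclic_of_ker_le_center hσ.2.1).is_comm.comm b a
    exact le_bot_iff.mp (hσ.2.2.trans hc.le)
  refine ⟨⟨G, inferInstance, inferInstance, MonoidHom.id G, ⟨Function.surjective_id, ?_, ?_⟩, ?_⟩, ?_⟩
  · simp
  · simp
  · have h : (MonoidHom.id G).ker = ⊥ := by simp
    refine ⟨⟨⟨fun _ => 1, fun _ => 1, ?_, ?_⟩, fun _ _ => (one_mul _).symm⟩⟩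
    · intro x; exact Subtype.ext (Subgroup.mem_bot.mp (h ▸ x.2)).symm
    · intro a; exact (hA a).symm
  · intro Γ _ _ σ hσ
    refine ⟨1, fun x => ⟨1, ?_⟩⟩
    exact Subtype.ext (Subgroup.mem_bot.mp (hbot σ hσ ▸ x.2)).symm

end Cfsg.Agent.S3979
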