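import Cfsg.Statements.S3950
import Cfsg.Agent.Lib.Schur.Bounds
import Cfsg.Agent.Lib.PGroups.UniqueOrderP
import Cfsg.Agent.S3979
open CfsgLib.Schur Cfsg Subgroup

set_option autoImplicit false
open Cfsg

namespace Cfsg.Agent.S3950

/-- A finite abelian group has trivial Schur multiplier if and only if it is cyclic. -/
theorem result {G : Type*} [CommGroup G] [Finite G] : Cfsg.HasCyclicSchurMultiplier G 1 ↔ IsCyclic G := by
  refine ⟨fun h => ?_, fun h => by haveI := h; exact Cfsg.Agent.S3979.result⟩
  by_contra hnc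
  classical
  -- a prime with two independent characters
  obtain ⟨p, hp, hbig⟩ : ∃ p, p.Prime ∧ p < Nat.card (powMonoidHom p : G →* G).ker := by
    by_contra hne
    push Not at hne
    haveI : IsZGroup G := ⟨fun p hp P => by
      haveI := Fact.mk hp
      haveI : IsMulCommutative P := ⟨⟨fun a b => mul_comm a b⟩⟩
      by_cases hu : ∃ u : P, u ^ p = 1 ∧ u ≠ 1
      · obtain ⟨u, hu, hu1⟩ := hu
        refine CfsgLib.PGroups.isCyclic_of_abelian_of_unique P.isPGroup' (z := u) (fun v hv => ?_) hu
        have hmem : ∀ w : P, w ^ p = 1 → (w : G) ∈ (powMonoidHom p : G →* G).ker := fun w hw => by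
          show (w : G) ^ p = 1
          rw [← Subgroup.coe_pow, hw]; rfl
        have hle : zpowers (u : G) ≤ (powMonoidHom p : G →* G).ker := zpowers_le.2 (hmem u hu)
        have hu' : orderOf (u : G) = p := by
          rw [Subgroup.orderOf_coe]; exact orderOf_eq_prime hu hu1
        have he : zpowers (u : G) = (powMonoidHom p : G →* G).ker :=
          Subgroup.eq_of_le_of_card_ge hle (by rw [Nat.card_zpowers, hu']; exact hne p hp)
        obtain ⟨i, hi⟩ := mem_zpowers_iff.1 (he ▸ hmem v hv : (v : G) ∈ zpowers (u : G))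
        exact mem_zpowers_iff.2 ⟨i, Subtype.ext (by simpa using hi)⟩
      · push Not at hu
        exact CfsgLib.PGroups.isCyclic_of_abelian_of_unique P.isPGroup' (z := 1)
          (fun v hv => by rw [hu v hv]; exact one_mem _) (one_pow p)⟩
    exact hnc inferInstance
  haveI := Fact.mk hp
  set R := (powMonoidHom p : G →* G).range
  have hV : p < Nat.card (G ⧸ R) := by
    have h1 := (powMonoidHom p : G →* G).ker.card_mul_index
    rw [Subgroup.index_ker] at h1
    have h2 := R.card_mul_index
    have h3 : Nat.card (G ⧸ R) = Nat.card (powMonoidHom p : G →* G).ker := by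
      rw [← Subgroup.index_eq_card]
      exact Nat.eq_of_mul_eq_mul_left (Nat.card_pos (α := R)) (by rw [h2, ← h1, mul_comm])
    omega
  have hexp : ∀ x : Additive (G ⧸ R), p • x = 0 := by
    intro x
    obtain ⟨g, hg⟩ := QuotientGroup.mk_surjective (Additive.toMul x)
    have : (Additive.toMul x) ^ p = 1 := by
      rw [← hg, ← QuotientGroup.mk_pow, QuotientGroup.eq_one_iff]
      exact ⟨g, rfl⟩
    exact congrArg Additive.ofMul this
  haveI : Module (ZMod p) (Additive (G ⧸ R)) := AddCommGroup.zmodModule hexp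
  haveI : Finite (Additive (G ⧸ R)) := inferInstanceAs (Finite (G ⧸ R))
  let b := Module.Basis.ofVectorSpace (ZMod p) (Additive (G ⧸ R))
  set ι := Module.Basis.ofVectorSpaceIndex (ZMod p) (Additive (G ⧸ R))
  set d := Nat.card ι
  have hd : 2 ≤ d := by
    by_contra hlt
    haveI : Finite (Additive (G ⧸ R)) := inferInstanceAs (Finite (G ⧸ R))
    have h4 : Nat.card (Additive (G ⧸ R)) = p ^ d := by
      haveI : Fintype ι := Fintype.ofFinite ι
      rw [Nat.card_congr b.equivFun.toEquiv, Nat.card_fun, Nat.card_zmod]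
    have h5 : Nat.card (G ⧸ R) = p ^ d := h4
    have h6 : p ^ d ≤ p ^ 1 := Nat.pow_le_pow_right hp.pos (by omega)
    rw [pow_one] at h6
    omega
  obtain ⟨i₀, i₁, hi⟩ : ∃ i₀ i₁ : ι, i₀ ≠ i₁ := by
    haveI : Nontrivial ι := Finite.one_lt_card_iff_nontrivial.1 hd
    exact exists_pair_ne ι
  let φ : ι → (G →* Multiplicative (ZMod p)) := fun i =>
    MonoidHom.comp (AddMonoidHom.toMultiplicativeRight (b.coord i).toAddMonoidHom) (QuotientGroup.mk' R)
  obtain ⟨g, hg⟩ := QuotientGroup.mk_surjective (Additive.toMul (b i₀))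
  obtain ⟨g', hg'⟩ := QuotientGroup.mk_surjective (Additive.toMul (b i₁))
  have hφ : ∀ i j (u : G), (QuotientGroup.mk u : G ⧸ R) = Additive.toMul (b j) →
      Multiplicative.toAdd (φ i u) = if j = i then 1 else 0 := fun i j u hu => by
    show b.coord i (Additive.ofMul (QuotientGroup.mk u : G ⧸ R)) = _
    rw [hu, ofMul_toMul, Module.Basis.coord_apply, Module.Basis.repr_self, Finsupp.single_apply]
  obtain ⟨hs, hc⟩ := PairExt.isStemExtension (φ i₀) (φ i₁) (g := g) (h := g')
    (by rw [hφ _ _ g hg, if_pos rfl]) (by rw [hφ _ _ g' hg', if_pos rfl])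
    (by rw [hφ _ _ g hg, if_neg hi])
  obtain ⟨π, hπ⟩ := exists_mult_surjective _ hs
  haveI : Subsingleton (Mult G) := by
    show Subsingleton (multiplier G)
    rw [hasCyclicSchurMultiplier_one_iff.1 h]; infer_instance
  have := Nat.card_le_card_of_surjective π hπ
  rw [hc, Nat.card_unique] at this
  exact absurd hp.one_lt (by omega)

end Cfsg.Agent.S3950
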