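import Cfsg.Statements.S3954
import Cfsg.Agent.Lib.Schur.Corestriction
open CfsgLib.Schur

set_option autoImplicit false
open Cfsg

namespace Cfsg.Agent.S3954

/-- Let `U` be a subgroup of index `m` in the finite group `G`, let `A` be the Schur multiplier of `G` and `B` that of `U`. Then the subgroup of `m`-th powers of `A` is isomorphic to a subgroup of `B`. -/
theorem result {G : Type*} [Group G] [Finite G] (U : Subgroup G) {A B : Type*} [CommGroup A] [CommGroup B] (hA : Cfsg.HasSchurMultiplier G A) (hB : Cfsg.HasSchurMultiplier U B) : ∃ C : Subgroup B, Nonempty ((powMonoidHom U.index : A →* A).range ≃* C) := by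
  obtain ⟨eA⟩ := nonempty_equiv_mult hA
  obtain ⟨eB⟩ := nonempty_equiv_mult hB
  obtain ⟨t, f, hft⟩ := exists_corestriction U
  haveI : Finite A := Finite.of_equiv _ eA.symm.toEquiv
  haveI : Finite B := Finite.of_equiv _ eB.symm.toEquiv
  let t' : A →* B := eB.symm.toMonoidHom.comp (t.comp eA.toMonoidHom)
  let f' : B →* A := eA.symm.toMonoidHom.comp (f.comp eB.toMonoidHom)
  have hft' : ∀ a, f' (t' a) = a ^ U.index := fun a => by simp [t', f', hft]
  set C := (powMonoidHom U.index : A →* A).range
  let π : t'.range →* C := (f'.comp t'.range.subtype).codRestrict C fun b => by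
    obtain ⟨a, ha⟩ := b.2
    exact ⟨a, by show a ^ U.index = f' (b : B); rw [← ha, hft']⟩
  have hπ : Function.Surjective π := by
    rintro ⟨_, a, rfl⟩
    exact ⟨⟨t' a, a, rfl⟩, Subtype.ext (hft' a)⟩
  -- a quotient of a finite abelian group embeds in it
  obtain ⟨eC⟩ := CommGroup.monoidHom_mulEquiv_of_hasEnoughRootsOfUnity C ℂ
  obtain ⟨eS⟩ := CommGroup.monoidHom_mulEquiv_of_hasEnoughRootsOfUnity t'.range ℂ
  let j : C →* B :=
    { toFun := fun c => (eS ((eC.symm c).comp π) : B)
      map_one' := by simp
      map_mul' := fun a b => by simp [MonoidHom.mul_comp] }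
  have hj : Function.Injective j := fun a b h => by
    have h1 := eS.injective (Subtype.ext h)
    exact eC.symm.injective ((MonoidHom.cancel_right hπ).1 h1)
  exact ⟨j.range, ⟨MonoidHom.ofInjective hj⟩⟩

end Cfsg.Agent.S3954
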