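import Cfsg.Statements.S3960
import Cfsg.Agent.Lib.Schur.Lift
open CfsgLib.Schur Subgroup

set_option autoImplicit false
universe u
open Cfsg

namespace Cfsg.Agent.S3960

/-- A finite perfect group `Q` has a universal central extension: a finite perfect group `G` in the universe of `Q` and a surjective homomorphism `π : G →* Q` with central kernel such that for every group `X` in that universe and every surjective homomorphism `ξ : X →* Q` with central kernel there is exactly one homomorphism `η : G →* X` with `ξ ∘ η = π`. -/
theorem result {Q : Type u} [Group Q] [Finite Q] (hQ : Group.IsPerfect Q) : ∃ (G : Type u) (_ : Group G) (_ : Finite G) (π : G →* Q), Group.IsPerfect G ∧ Function.Surjective π ∧ π.ker ≤ Subgroup.center G ∧ ∀ (X : Type u) [Group X] (ξ : X →* Q), Function.Surjective ξ → ξ.ker ≤ Subgroup.center X → ∃! η : G →* X, ξ.comp η = π := by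
  have hQ' : commutator Q = ⊤ := Group.isPerfect_def.1 hQ
  let U := commutator (Cov Q)
  let π : U →* Q := (proj Q).comp U.subtype
  have hπ : Function.Surjective π := by
    intro q
    have h : q ∈ U.map (proj Q) := by
      show q ∈ (commutator (Cov Q)).map (proj Q)
      rw [_root_.commutator_def, map_commutator,
        Subgroup.map_top_of_surjective _ (proj_surjective Q), ← _root_.commutator_def, hQ']
      exact mem_top q
    obtain ⟨u, hu, rfl⟩ := h
    exact ⟨⟨u, hu⟩, rfl⟩
  have hUperf : commutator U = ⊤ := by
    have h := commutator_eq_map (proj Q) (ker_proj_le_center Q) U.subtype hπ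
    rw [eq_top_iff]
    intro u _
    have hu : (u : Cov Q) ∈ commutator (Cov Q) := u.2
    rw [h] at hu
    obtain ⟨v, hv, hvu⟩ := hu
    rwa [← Subtype.ext hvu]
  refine ⟨U, inferInstance, inferInstance, π, Group.isPerfect_def.2 hUperf, hπ, ?_, fun X _ ξ hξ hc => ?_⟩
  · intro u hu
    rw [mem_center_iff]
    exact fun g => Subtype.ext (mem_center_iff.1 (ker_proj_le_center Q hu) g)
  · obtain ⟨f, hf⟩ := exists_lift ξ hξ hc (MonoidHom.id Q)
    rw [MonoidHom.id_comp] at hf
    refine ⟨f.comp U.subtype, by simp only [← MonoidHom.comp_assoc, hf]; rfl, fun η hη => ?_⟩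
    have hd : ∀ u : U, (f u)⁻¹ * η u ∈ center X := fun u => hc (by
      rw [MonoidHom.mem_ker, map_mul, map_inv, ← MonoidHom.comp_apply, hf, ← MonoidHom.comp_apply, hη]
      exact inv_mul_cancel _)
    letI : CommGroup (center X) :=
      { (inferInstance : Group (center X)) with
        mul_comm := fun a b => Subtype.ext (mem_center_iff.1 b.2 a) }
    let d : U →* center X :=
      { toFun := fun u => ⟨(f u)⁻¹ * η u, hd u⟩
        map_one' := Subtype.ext (by simp)
        map_mul' := fun u v => Subtype.ext (by
          simp only [map_mul, mul_inv_rev, Subgroup.coe_mul]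
          rw [mul_assoc (f (v : Cov Q))⁻¹, ← mul_assoc (f (u : Cov Q))⁻¹, ← mul_assoc (f (v : Cov Q))⁻¹,
            mem_center_iff.1 (hd u), mul_assoc]) }
    refine MonoidHom.ext fun u => ?_
    have h : d u = 1 := Abelianization.commutator_subset_ker d (hUperf ▸ mem_top u)
    exact (inv_mul_eq_one.1 (congrArg Subtype.val h)).symm

end Cfsg.Agent.S3960
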