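import Cfsg.Statements.S3961
import Cfsg.Agent.Lib.Schur.Lift
open CfsgLib.Schur Cfsg Subgroup

set_option autoImplicit false
universe u v
open Cfsg

namespace Cfsg.Agent.S3961

/-- Let `π : G →* Q` be a surjective homomorphism with central kernel from a finite perfect group `G` (a perfect cover of `Q`). Then `π` is universal, in the sense that every surjective homomorphism `ξ : X →* Q` with central kernel from a group `X` in the universe of `G` admits a homomorphism `η : G →* X` with `ξ ∘ η = π`, if and only if `G` has trivial Schur multiplier. -/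
theorem result {G : Type u} {Q : Type v} [Group G] [Group Q] [Finite G] (hG : Group.IsPerfect G) (π : G →* Q) (hπ : Function.Surjective π) (hker : π.ker ≤ Subgroup.center G) : (∀ (X : Type u) [Group X] (ξ : X →* Q), Function.Surjective ξ → ξ.ker ≤ Subgroup.center X → ∃ η : G →* X, ξ.comp η = π) ↔ Cfsg.HasCyclicSchurMultiplier G 1 := by
  have hG' : commutator G = ⊤ := Group.isPerfect_def.1 hG
  constructor
  · intro huniv
    refine hasCyclicSchurMultiplier_one_of_forall fun Γ _ _ τ hs => ?_
    have hGim : (commutator Γ).map τ = ⊤ := by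
      rw [_root_.commutator_def, map_commutator, Subgroup.map_top_of_surjective _ hs.1,
        ← _root_.commutator_def, hG']
    have hΓ : commutator Γ = ⊤ := by
      rw [eq_top_iff]
      intro g _
      have : τ g ∈ (commutator Γ).map τ := hGim ▸ mem_top _
      obtain ⟨c, hc, hcg⟩ := this
      have hk : c⁻¹ * g ∈ τ.ker := by
        rw [MonoidHom.mem_ker, map_mul, map_inv, hcg, inv_mul_cancel]
      simpa using mul_mem hc (hs.2.2 hk)
    have hcen : (π.comp τ).ker ≤ center Γ := by
      intro z hz
      rw [mem_center_iff]
      have hz' : τ z ∈ center G := hker hz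
      have hd : ∀ g : Γ, g * z * g⁻¹ * z⁻¹ ∈ τ.ker := fun g => by
        rw [MonoidHom.mem_ker, map_mul, map_mul, map_mul, map_inv, map_inv,
          mem_center_iff.1 hz' (τ g), mul_inv_cancel_right, mul_inv_cancel]
      letI : CommGroup τ.ker :=
        { (inferInstance : Group τ.ker) with
          mul_comm := fun a b => Subtype.ext (mem_center_iff.1 (hs.2.1 b.2) a) }
      let d : Γ →* τ.ker :=
        { toFun := fun g => ⟨g * z * g⁻¹ * z⁻¹, hd g⟩
          map_one' := Subtype.ext (by simp)
          map_mul' := fun a b => Subtype.ext (by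
            simp only [Subgroup.coe_mul]
            calc a * b * z * (a * b)⁻¹ * z⁻¹
                = a * (b * z * b⁻¹ * z⁻¹) * (z * a⁻¹ * z⁻¹) := by group
              _ = (b * z * b⁻¹ * z⁻¹) * a * (z * a⁻¹ * z⁻¹) := by
                rw [mem_center_iff.1 (hs.2.1 (hd b)) a]
              _ = (b * z * b⁻¹ * z⁻¹) * (a * z * a⁻¹ * z⁻¹) := by group
              _ = _ := (mem_center_iff.1 (hs.2.1 (hd b)) _).symm) }
      intro g
      have h : d g = 1 := Abelianization.commutator_subset_ker d (hΓ ▸ mem_top g)
      have h' : g * z * g⁻¹ * z⁻¹ = 1 := congrArg Subtype.val h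
      calc g * z = g * z * g⁻¹ * z⁻¹ * (z * g) := by group
        _ = z * g := by rw [h', one_mul]
    obtain ⟨η, hη⟩ := huniv Γ (π.comp τ) (hπ.comp hs.1) hcen
    have hd : ∀ g : G, g⁻¹ * τ (η g) ∈ center G := fun g => hker (by
      rw [MonoidHom.mem_ker, map_mul, map_inv, ← MonoidHom.comp_apply π, ← MonoidHom.comp_apply _ η, hη,
        inv_mul_cancel])
    letI : CommGroup (center G) :=
      { (inferInstance : Group (center G)) with
        mul_comm := fun a b => Subtype.ext (mem_center_iff.1 b.2 a) }
    let d : G →* center G :=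
      { toFun := fun g => ⟨g⁻¹ * τ (η g), hd g⟩
        map_one' := Subtype.ext (by simp)
        map_mul' := fun u v => Subtype.ext (by
          simp only [map_mul, mul_inv_rev, Subgroup.coe_mul]
          rw [mul_assoc v⁻¹, ← mul_assoc u⁻¹, ← mul_assoc v⁻¹, mem_center_iff.1 (hd u), mul_assoc]) }
    have hsec : ∀ g : G, τ (η g) = g := fun g => by
      have h : d g = 1 := Abelianization.commutator_subset_ker d (hG' ▸ mem_top g)
      exact (inv_mul_eq_one.1 (congrArg Subtype.val h)).symm
    have hηs : Function.Surjective η := by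
      intro y
      have hy : y ∈ (commutator G).map η := by
        rw [← commutator_eq_map τ hs.2.1 η (fun g => ⟨g, hsec g⟩), hΓ]
        exact mem_top y
      obtain ⟨g, -, hg⟩ := hy
      exact ⟨g, hg⟩
    rw [eq_bot_iff]
    intro y hy
    obtain ⟨g, rfl⟩ := hηs y
    rw [MonoidHom.mem_ker, hsec] at hy
    rw [hy, map_one]
    exact one_mem _
  · intro hG1 X _ ξ hξ hc
    let P : Subgroup (G × X) :=
      { carrier := {x | π x.1 = ξ x.2}
        one_mem' := by simp
        mul_mem' := fun {a b} ha hb => by
          simp only [Set.mem_ofPred_eq, Prod.fst_mul, Prod.snd_mul, map_mul] at ha hb ⊢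
          rw [ha, hb]
        inv_mem' := fun {a} ha => by
          simp only [Set.mem_ofPred_eq, Prod.fst_inv, Prod.snd_inv, map_inv] at ha ⊢
          rw [ha] }
    let p : P →* G := (MonoidHom.fst G X).comp P.subtype
    have hps : Function.Surjective p := fun g => by
      obtain ⟨x, hx⟩ := hξ (π g)
      exact ⟨⟨(g, x), hx.symm⟩, rfl⟩
    have hpc : p.ker ≤ center P := by
      intro y hy
      rw [mem_center_iff]
      intro w
      have hy1 : (y : G × X).1 = 1 := hy
      have hy2 : (y : G × X).2 ∈ center X := hc (by
        have := y.2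
        show ξ _ = 1
        rw [← (show π (y : G × X).1 = ξ (y : G × X).2 from y.2), hy1, map_one])
      exact Subtype.ext (Prod.ext (by simp [hy1]) (mem_center_iff.1 hy2 _))
    obtain ⟨f, hf⟩ := exists_lift p hps hpc (MonoidHom.id G)
    rw [MonoidHom.id_comp] at hf
    let r : commutator (Cov G) →* G := (proj G).comp (commutator (Cov G)).subtype
    have hr : Function.Bijective r := by
      refine ⟨(injective_iff_map_eq_one r).2 fun u hu => Subtype.ext ?_, fun g => ?_⟩
      · have : (u : Cov G) ∈ multiplier G := ⟨hu, u.2⟩
        rwa [hasCyclicSchurMultiplier_one_iff.1 hG1, mem_bot] at this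
      · have h : g ∈ (commutator (Cov G)).map (proj G) := by
          rw [_root_.commutator_def, map_commutator,
            Subgroup.map_top_of_surjective _ (proj_surjective G), ← _root_.commutator_def, hG']
          exact mem_top g
        obtain ⟨u, hu, rfl⟩ := h
        exact ⟨⟨u, hu⟩, rfl⟩
    let e := MulEquiv.ofBijective r hr
    refine ⟨(((MonoidHom.snd G X).comp P.subtype).comp (f.comp (commutator (Cov G)).subtype)).comp
      e.symm.toMonoidHom, MonoidHom.ext fun g => ?_⟩
    have h1 : p (f (e.symm g : Cov G)) = g := by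
      rw [← MonoidHom.comp_apply, hf]
      exact e.apply_symm_apply g
    show ξ ((f (e.symm g : Cov G) : P) : G × X).2 = π g
    rw [← (f (e.symm g : Cov G)).2]
    exact congrArg π h1

end Cfsg.Agent.S3961
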