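import Cfsg.Statements.S3962
import Mathlib
open scoped commutatorElement

set_option autoImplicit false
open Cfsg

namespace Cfsg.Agent.S3962

/-- Let `G` be a perfect group and `π : G →* Q` a surjective homomorphism whose kernel is central. Then `π` maps the centre of `G` onto the centre of `Q`. Taking `π` to be the map to `G ⧸ Z(G)` shows that the central quotient of a perfect group has trivial centre. -/
theorem result {G Q : Type*} [Group G] [Group Q] (hG : Group.IsPerfect G) (π : G →* Q) (hπ : Function.Surjective π) (hker : π.ker ≤ Subgroup.center G) : (Subgroup.center G).map π = Subgroup.center Q := by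
  refine le_antisymm ?_ ?_
  · rintro _ ⟨z, hz, rfl⟩
    refine Subgroup.mem_center_iff.mpr fun q => ?_
    obtain ⟨g, rfl⟩ := hπ q
    rw [← map_mul, ← map_mul, Subgroup.mem_center_iff.mp hz g]
  · intro q hq
    obtain ⟨x, rfl⟩ := hπ q
    refine ⟨x, ?_, rfl⟩
    have hmem : ∀ g : G, ⁅g, x⁆ ∈ Subgroup.center G := fun g => hker (by
      rw [MonoidHom.mem_ker, map_commutatorElement, commutatorElement_eq_one_iff_mul_comm]
      exact Subgroup.mem_center_iff.mp hq _)
    have hK : commutator G ≤ Subgroup.centralizer ({x} : Set G) := by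
      rw [commutator_eq_closure, Subgroup.closure_le]
      rintro _ ⟨a, b, rfl⟩
      let f : G →* Subgroup.center G :=
        { toFun := fun g => ⟨⁅g, x⁆, hmem g⟩
          map_one' := Subtype.ext (by simp)
          map_mul' := fun u v => Subtype.ext (by
            have hc := Subgroup.mem_center_iff.mp (hmem v) u
            calc ⁅u * v, x⁆ = (u * ⁅v, x⁆ * u⁻¹) * ⁅u, x⁆ := by simp [commutatorElement_def, mul_assoc]
              _ = ⁅v, x⁆ * ⁅u, x⁆ := by rw [hc, mul_inv_cancel_right]
              _ = ⁅u, x⁆ * ⁅v, x⁆ := (Subgroup.mem_center_iff.mp (hmem v) _).symm) }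
      have hab : f ⁅a, b⁆ = 1 := by
        rw [map_commutatorElement, commutatorElement_eq_one_iff_mul_comm]
        exact Subtype.ext (Subgroup.mem_center_iff.mp (f b).2 _)
      refine Subgroup.mem_centralizer_singleton_iff.mpr ?_
      exact (commutatorElement_eq_one_iff_mul_comm.mp (congrArg Subtype.val hab))
    have htop : commutator G = ⊤ := Group.isPerfect_def.mp hG
    refine Subgroup.mem_center_iff.mpr fun g => ?_
    exact Subgroup.mem_centralizer_singleton_iff.mp (hK (htop ▸ Subgroup.mem_top g))

end Cfsg.Agent.S3962
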