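import Cfsg.Statements.S3964
import Cfsg.Agent.Lib.Schur.Bounds
open CfsgLib.Schur Cfsg Subgroup

set_option autoImplicit false
open Cfsg

namespace Cfsg.Agent.S3964

/-- For odd `n` the dihedral group of order `2 n` has trivial Schur multiplier. -/
theorem result (n : ℕ) (hn : Odd n) : Cfsg.HasCyclicSchurMultiplier (DihedralGroup n) 1 := by
  haveI : NeZero n := ⟨by rintro rfl; exact absurd hn (by decide)⟩
  refine hasCyclicSchurMultiplier_one_of_forall fun Γ _ _ σ hs => ?_
  obtain ⟨a, ha⟩ := hs.1 (DihedralGroup.r 1)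
  obtain ⟨x, hx⟩ := hs.1 (DihedralGroup.sr 0)
  have hgen : Subgroup.closure ({a, x} ∪ (center Γ : Set Γ)) = ⊤ := by
    refine closure_union_center_eq_top σ hs.2.1 _ ?_
    rw [Set.image_pair, ha, hx, eq_top_iff]
    intro g _
    have hA : ∀ i, DihedralGroup.r i ∈ Subgroup.closure
        ({DihedralGroup.r 1, DihedralGroup.sr 0} : Set (DihedralGroup n)) := fun i => by
      rw [← ZMod.natCast_zmod_val i, ← DihedralGroup.r_one_pow]
      exact pow_mem (subset_closure (by simp)) _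
    rcases g with i | i
    · exact hA i
    · rw [show DihedralGroup.sr i = DihedralGroup.sr 0 * DihedralGroup.r i by simp]
      exact mul_mem (subset_closure (by simp)) (hA i)
  have hkk : σ (a * (x * a * x⁻¹)) = 1 := by
    have hi : (DihedralGroup.sr (0 : ZMod n))⁻¹ = DihedralGroup.sr 0 := rfl
    rw [map_mul, map_mul, map_mul, map_inv, ha, hx, hi]
    simp
  have hn' : Commute (a ^ n) x := Commute.symm (mem_center_iff.1 (hs.2.1 (by
    rw [MonoidHom.mem_ker, map_pow, ha, DihedralGroup.r_one_pow_n])) x)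
  obtain ⟨hle, hw⟩ := commutator_le_zpowers_of_dihedral_type a x hgen (hs.2.1 hkk)
    (show x * a * x⁻¹ = a⁻¹ * (a * (x * a * x⁻¹)) by group) hn'
  set w := a * a * (a * (x * a * x⁻¹))⁻¹ with hwd
  have hj : ∀ j : ℤ, w ^ j ∈ σ.ker → (n : ℤ) ∣ 2 * j := fun j hj => by
    have h2 : (DihedralGroup.r (1 : ZMod n) : DihedralGroup n) ^ (2 * j) = 1 := by
      rw [zpow_mul, ← MonoidHom.mem_ker.1 hj, map_zpow, hwd, map_mul _ (a * a), map_inv, hkk,
        inv_one, mul_one, map_mul, ha, ← sq]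
      norm_cast
    rwa [← orderOf_dvd_iff_zpow_eq_one, DihedralGroup.orderOf_r_one] at h2
  rw [eq_bot_iff]
  intro z hz
  obtain ⟨j, rfl⟩ := mem_zpowers_iff.1 (hle (hs.2.2 hz))
  obtain ⟨i, rfl⟩ : (n : ℤ) ∣ j := by
    refine Int.dvd_of_dvd_mul_right_of_gcd_one (hj j hz) ?_
    rw [show (2 : ℤ) = ((2 : ℕ) : ℤ) from rfl, Int.gcd_natCast_natCast]
    exact Nat.coprime_two_right.2 hn
  rw [mem_bot, zpow_mul, zpow_natCast, hw, one_zpow]

end Cfsg.Agent.S3964
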