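import Cfsg.Statements.S3967
import Cfsg.Agent.Lib.Schur.Bounds
import Cfsg.Agent.Lib.Schur.Metacyclic
open Subgroup CfsgLib.Schur
open scoped commutatorElement

set_option autoImplicit false
open Cfsg

namespace Cfsg.Agent.S3967

/-- Let `m, n ≥ 1`, `r ≥ 1` with `r ^ n ≡ 1 (mod m)`, and `l` a natural number; put `d = gcd(m, r - 1)`, `t = m l / d` and `h = d · gcd(m, 1 + r + ⋯ + r^(n-1)) / m`. The group presented by generators `a, b` and relations `a ^ m = 1`, `b ^ n = a ^ t`, `b a b⁻¹ = a ^ r` (a metacyclic group of order `m n`) has Schur multiplier cyclic of order `gcd(l, h)`. -/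
theorem result (m n r l : ℕ) (hm : 0 < m) (hn : 0 < n) (hr : 0 < r) (hrn : r ^ n ≡ 1 [MOD m]) : Cfsg.HasCyclicSchurMultiplier (PresentedGroup ({FreeGroup.of true ^ m, (FreeGroup.of false) ^ n * (FreeGroup.of true ^ (m * l / Nat.gcd m (r - 1)))⁻¹, FreeGroup.of false * FreeGroup.of true * (FreeGroup.of false)⁻¹ * (FreeGroup.of true ^ r)⁻¹} : Set (FreeGroup Bool))) (Nat.gcd l (Nat.gcd m (r - 1) * Nat.gcd m (∑ i ∈ Finset.range n, r ^ i) / m)) := by
  obtain ⟨r', rfl⟩ : ∃ r', r = r' + 1 := ⟨r - 1, by omega⟩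
  rw [Nat.add_sub_cancel]
  set d := Nat.gcd m r' with hd
  set S := ∑ i ∈ Finset.range n, (r' + 1) ^ i with hSdef
  obtain ⟨e, q, hcop, hme, hr'⟩ := Nat.exists_coprime m r'
  rw [← hd] at hme hr'
  have hd0 : 0 < d := Nat.gcd_pos_of_pos_left _ hm
  have he0 : 0 < e := by rcases Nat.eq_zero_or_pos e with rfl | h; · omega
                         · exact h
  have hgeom : r' * S + 1 = (r' + 1) ^ n := by
    have h : ((∑ i ∈ Finset.range n, ((r' + 1 : ℕ) : ℤ) ^ i)) * (((r' + 1 : ℕ) : ℤ) - 1) = ((r' + 1 : ℕ) : ℤ) ^ n - 1 :=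
      geom_sum_mul _ n
    have h' : ((r' * S + 1 : ℕ) : ℤ) = (((r' + 1) ^ n : ℕ) : ℤ) := by
      rw [hSdef]; push_cast at h ⊢; linear_combination h
    exact_mod_cast h'
  have hdvd : m ∣ r' * S := by
    have h := (Nat.modEq_iff_dvd' (Nat.one_le_pow _ _ (by omega))).1 hrn.symm
    rwa [← hgeom, Nat.add_sub_cancel] at h
  obtain ⟨s, hs⟩ : e ∣ S := by
    rw [hme, hr', mul_right_comm] at hdvd
    exact hcop.dvd_of_dvd_mul_left (Nat.dvd_of_mul_dvd_mul_right hd0 hdvd)
  have hS0 : 0 < S := Finset.sum_pos (fun i _ => pow_pos (by omega) _) ⟨0, Finset.mem_range.2 hn⟩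
  have hs0 : 0 < s := by rcases Nat.eq_zero_or_pos s with rfl | h; · omega
                         · exact h
  set N := Nat.gcd l (Nat.gcd d s) with hN
  have hN0 : 0 < N := Nat.gcd_pos_of_pos_right _ (Nat.gcd_pos_of_pos_left _ hd0)
  have hform : Nat.gcd l (d * Nat.gcd m S / m) = N := by
    rw [hme, hs, Nat.gcd_mul_left, ← mul_assoc, mul_comm d e, Nat.mul_div_cancel_left _ (by positivity)]
  rw [hform]
  have hml : m * l / d = e * l := by
    rw [hme, mul_right_comm, Nat.mul_div_cancel _ hd0]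
  rw [hml]
  set rels : Set (FreeGroup Bool) := {FreeGroup.of true ^ m, (FreeGroup.of false) ^ n * (FreeGroup.of true ^ (e * l))⁻¹,
    FreeGroup.of false * FreeGroup.of true * (FreeGroup.of false)⁻¹ * (FreeGroup.of true ^ (r' + 1))⁻¹} with hrels
  set a : PresentedGroup rels := PresentedGroup.of true with ha
  set b : PresentedGroup rels := PresentedGroup.of false with hb
  have hrel : ∀ w ∈ rels, PresentedGroup.mk rels w = 1 := fun w hw =>
    PresentedGroup.one_of_mem hw
  have h1 : a ^ m = 1 := by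
    have := hrel (FreeGroup.of true ^ m) (by simp [rels])
    rwa [map_pow] at this
  have h2 : b ^ n = a ^ (e * l) := by
    have := hrel ((FreeGroup.of false) ^ n * (FreeGroup.of true ^ (e * l))⁻¹) (by simp [rels])
    rw [map_mul, map_inv, map_pow, map_pow, mul_inv_eq_one] at this
    exact this
  have h3 : b * a * b⁻¹ = a ^ (r' + 1) := by
    have := hrel (FreeGroup.of false * FreeGroup.of true * (FreeGroup.of false)⁻¹ * (FreeGroup.of true ^ (r' + 1))⁻¹) (by simp [rels])
    rw [map_mul, map_inv, map_mul, map_mul, map_inv, map_pow, mul_inv_eq_one] at this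
    exact this
  have hgen : Subgroup.closure ({a, b} : Set (PresentedGroup rels)) = ⊤ := by
    rw [← PresentedGroup.closure_range_of rels]
    congr 1
    ext g
    simp [ha, hb, eq_comm, or_comm]
  have huniv : ∀ (X : Type) [Group X] (a' b' : X), a' ^ m = 1 → b' ^ n = a' ^ (e * l) →
      b' * a' * b'⁻¹ = a' ^ (r' + 1) → ∃ f : PresentedGroup rels →* X, f a = a' ∧ f b = b' := by
    intro X _ a' b' k1 k2 k3
    let f : Bool → X := fun t => if t then a' else b'
    have hf : ∀ w ∈ rels, FreeGroup.lift f w = 1 := by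
      intro w hw
      simp only [rels, Set.mem_insert_iff, Set.mem_singleton_iff] at hw
      rcases hw with rfl | rfl | rfl
      · simpa [f] using k1
      · simpa [f, mul_inv_eq_one] using k2
      · simpa [f, mul_inv_eq_one] using k3
    exact ⟨PresentedGroup.toGroup hf, PresentedGroup.toGroup.of hf, PresentedGroup.toGroup.of hf⟩
  have hxy : (q : ℤ) * Int.gcdB e q + e * Int.gcdA e q = 1 := by
    have := Int.gcd_eq_gcd_ab (e : ℤ) (q : ℤ)
    rw [Int.gcd_natCast_natCast, hcop.gcd_eq_one] at this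
    push_cast at this
    linear_combination -this
  obtain ⟨hfinQ, hord, Γ₀, _, _, σ₀, hσ₀, hk⟩ := CfsgLib.Schur.Metacyclic.exists_stem m n (r' + 1) l N d e q s
    (Int.gcdB e q) (Int.gcdA e q) hme (by rw [hr']) hs ((Nat.gcd_dvd_right _ _).trans (Nat.gcd_dvd_left _ _))
    ((Nat.gcd_dvd_right _ _).trans (Nat.gcd_dvd_right _ _)) (Nat.gcd_dvd_left _ _) hxy hm hn hN0
    a b hgen h1 h2 h3 huniv
  haveI := hfinQ
  refine hasCyclicSchurMultiplier_of_bound hσ₀ hk fun Γ _ _ σ hσ => ?_
  obtain ⟨A, hA⟩ := hσ.1 a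
  obtain ⟨B, hB⟩ := hσ.1 b
  have hcl : Subgroup.closure ({A, B} ∪ (center Γ : Set Γ)) = ⊤ := by
    refine closure_union_center_eq_top σ hσ.2.1 _ ?_
    rw [Set.image_pair, hA, hB, hgen]
  set k := (A ^ (r' + 1))⁻¹ * (B * A * B⁻¹) with hkdef
  have hkc : k ∈ center Γ := hσ.2.1 (by
    rw [MonoidHom.mem_ker, hkdef]
    simp only [map_mul, map_inv, map_pow, hA, hB, h3, inv_mul_cancel])
  have kc : ∀ g : Γ, Commute g k := fun g => mem_center_iff.1 hkc g
  have hconj : B * A * B⁻¹ = A ^ (r' + 1) * k := by rw [hkdef, mul_inv_cancel_left]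
  set w := A ^ r' * k with hw
  have hBA : ⁅B, A⁆ = w := by
    rw [commutatorElement_def, hconj, hw, pow_succ, mul_assoc (A ^ r') A k, (kc A).eq, ← mul_assoc,
      mul_inv_cancel_right]
  have hwpow : ∀ j, Commute B (A ^ j) → w ^ j = 1 := by
    intro j hj
    have h : (B * A * B⁻¹) ^ j = A ^ j := by rw [conj_pow, hj.eq, mul_inv_cancel_right]
    rw [hconj, (kc _).mul_pow, ← pow_mul, add_mul, one_mul, add_comm, pow_add, mul_assoc, mul_eq_left] at h
    rw [hw, (kc _).mul_pow, ← pow_mul, h]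
  have hwm : w ^ m = 1 := hwpow m <| by
    have : A ^ m ∈ center Γ := hσ.2.1 (by rw [MonoidHom.mem_ker, map_pow, hA, h1])
    exact mem_center_iff.1 this B
  have hc2 : (A ^ (e * l))⁻¹ * B ^ n ∈ center Γ := hσ.2.1 (by
    rw [MonoidHom.mem_ker, map_mul, map_inv, map_pow, map_pow, hA, hB, h2, inv_mul_cancel])
  have hwt : w ^ (e * l) = 1 := hwpow _ <| by
    have h' : Commute B (B ^ n * ((A ^ (e * l))⁻¹ * B ^ n)⁻¹) :=
      ((Commute.refl B).pow_right n).mul_right (Commute.inv_right (mem_center_iff.1 hc2 B))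
    simpa [mul_inv_rev, mul_assoc] using h'
  have hwS : w ^ S = 1 := by
    have hit : ∀ i, B ^ i * A * (B ^ i)⁻¹ = A ^ ((r' + 1) ^ i) * k ^ (∑ u ∈ Finset.range i, (r' + 1) ^ u) := by
      intro i
      induction i with
      | zero => simp
      | succ i ih =>
        have hstep : B ^ (i + 1) * A * (B ^ (i + 1))⁻¹ = B * (B ^ i * A * (B ^ i)⁻¹) * B⁻¹ := by
          rw [pow_succ']; group
        rw [hstep, ih, Finset.sum_range_succ]
        calc B * (A ^ (r' + 1) ^ i * k ^ (∑ u ∈ Finset.range i, (r' + 1) ^ u)) * B⁻¹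
            = (B * A ^ (r' + 1) ^ i * B⁻¹) * k ^ (∑ u ∈ Finset.range i, (r' + 1) ^ u) := by
              rw [mul_assoc, mul_assoc, ← ((kc B⁻¹).pow_right _).eq]; simp only [mul_assoc]
          _ = _ := by
              rw [← conj_pow, hconj, (kc _).mul_pow, ← pow_mul, ← pow_succ', mul_assoc, ← pow_add,
                add_comm ((r' + 1) ^ i) (∑ u ∈ Finset.range i, (r' + 1) ^ u)]
    have hcA : B ^ n * A * (B ^ n)⁻¹ = A := by
      have hc : Commute A (A ^ (e * l) * ((A ^ (e * l))⁻¹ * B ^ n)) :=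
        ((Commute.refl A).pow_right _).mul_right (mem_center_iff.1 hc2 A)
      rw [mul_inv_cancel_left] at hc
      rw [← hc.eq, mul_inv_cancel_right]
    have := hit n
    rw [hcA, ← hgeom, pow_succ', mul_assoc, left_eq_mul] at this
    rw [hw, (kc _).mul_pow, ← pow_mul]
    exact this
  have hgN : w ^ (e * N) = 1 := by
    have h' : w ^ (Nat.gcd (e * l) (Nat.gcd (e * d) (e * s))) = 1 := by
      refine pow_gcd_eq_one.2 ⟨hwt, pow_gcd_eq_one.2 ⟨?_, ?_⟩⟩
      · rw [← hme]; exact hwm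
      · rw [← hs]; exact hwS
    rwa [Nat.gcd_mul_left, Nat.gcd_mul_left] at h'
  haveI : (zpowers w).Normal := by
    rw [← normalizer_eq_top_iff, eq_top_iff, ← hcl, closure_le]
    intro g hg
    refine mem_normalizer_fintype fun y hy => conj_zpowers_mem ?_ hy
    have hAw : Commute A w := ((Commute.refl A).pow_right _).mul_right (kc A)
    rcases hg with (rfl | rfl) | hg
    · rw [hAw.eq, mul_inv_cancel_right]; exact mem_zpowers w
    · have : g * w * g⁻¹ = w ^ (r' + 1) := by
        calc g * w * g⁻¹ = (g * A ^ r' * g⁻¹) * (g * k * g⁻¹) := by rw [hw]; group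
          _ = (A ^ (r' + 1) * k) ^ r' * k := by rw [← conj_pow, hconj, (kc g).eq, mul_inv_cancel_right]
          _ = w ^ (r' + 1) := by
            rw [hw, (kc _).mul_pow, (kc _).mul_pow, ← pow_mul, ← pow_mul, mul_assoc, ← pow_succ,
              mul_comm (r' + 1) r']
      rw [this]; exact pow_mem (mem_zpowers w) _
    · rw [← mem_center_iff.1 hg w, mul_inv_cancel_right]; exact mem_zpowers w
  have hcomm : commutator Γ ≤ zpowers w := by
    refine commutator_le_of_generators {A, B} hcl _ ?_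
    rintro x (rfl | rfl) y (rfl | rfl)
    · simp
    · rw [← commutatorElement_inv, hBA]; exact inv_mem (mem_zpowers w)
    · rw [hBA]; exact mem_zpowers w
    · simp
  refine isCyclic_and_card_le (w := w ^ e) ?_ (by rw [← pow_mul]; exact hgN) hN0
  intro z hz
  obtain ⟨j, rfl⟩ := mem_zpowers_iff.1 (hcomm (hσ.2.2 hz))
  rw [MonoidHom.mem_ker, ← hBA, map_zpow, map_commutatorElement, hA, hB, commutatorElement_def, h3,
    pow_succ, mul_inv_cancel_right, ← zpow_natCast, ← zpow_mul, ← orderOf_dvd_iff_zpow_eq_one, hord] at hz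
  obtain ⟨i, rfl⟩ : (e : ℤ) ∣ j := by
    have h : ((e * d : ℕ) : ℤ) ∣ (((q * d : ℕ)) : ℤ) * j := by rwa [← hme, ← hr']
    push_cast at h
    rw [mul_right_comm] at h
    have h' : (e : ℤ) ∣ (q : ℤ) * j := Int.dvd_of_mul_dvd_mul_right (by omega) h
    exact Int.dvd_of_dvd_mul_right_of_gcd_one h' (by rw [Int.gcd_natCast_natCast]; exact hcop.gcd_eq_one)
  rw [zpow_mul, zpow_natCast]
  exact zpow_mem (mem_zpowers _) i

end Cfsg.Agent.S3967
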