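import Cfsg.Statements.S3968
import Mathlib
import Cfsg.Agent.Lib.Chars.Burnside
import Cfsg.Agent.Lib.Chars.Char
import Cfsg.Agent.Lib.Chars.Integral
import Cfsg.Agent.Lib.Chars.Degree
import Cfsg.Agent.Lib.PGroups.Basic

set_option autoImplicit false
set_option linter.style.haveILetI false
open Cfsg
open scoped commutatorElement

namespace Cfsg.Agent.S3968


/-- Let `p` be a prime and `G` a finite group with a faithful irreducible complex character of degree `p` (so `G` is an irreducible linear group in `p` variables). If `p ^ 2` divides the order of `G`, then the centre of `G` is nontrivial. -/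
theorem result {G : Type*} [Group G] [Finite G] (p : ℕ) (hp : p.Prime) (χ : Cfsg.IrrCharacter G) (hdeg : χ.1 1 = p) (hfaith : ∀ g : G, χ.1 g = χ.1 1 → g = 1) (hdiv : p ^ 2 ∣ Nat.card G) : Subgroup.center G ≠ ⊥ := by
  classical
  obtain ⟨n, ρ, hρ, hχ⟩ := χ.2
  haveI := hρ
  haveI : Fact p.Prime := ⟨hp⟩
  have hn : n = p := by
    have h1 : (n : ℂ) = (p : ℂ) := by rw [← hdeg, ← hχ, Representation.char_one]; simp
    exact_mod_cast h1
  subst hn
  have hfin : Module.finrank ℂ (Fin n → ℂ) = n := by simp
  intro hZG
  have hinj : Function.Injective ρ := by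
    refine (injective_iff_map_eq_one _).mpr fun a ha => hfaith a ?_
    rw [← hχ, Representation.char_one, (CfsgLib.Chars.character_eq_finrank_iff ρ _).mpr ha]
  -- a scalar element is central, hence trivial
  have hscalar : ∀ g : G, ‖ρ.character g‖ = (Module.finrank ℂ (Fin n → ℂ) : ℝ) → g = 1 := by
    intro g hg
    obtain ⟨ω, hω⟩ := (CfsgLib.Chars.norm_character_eq_iff ρ g).mp hg
    have hcen : g ∈ Subgroup.center G := by
      refine Subgroup.mem_center_iff.mpr fun x => ?_
      have h1 : ρ (x * g) = ρ (g * x) := by
        rw [map_mul, map_mul, hω]; ext v; simp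
      exact hinj h1
    rw [hZG] at hcen
    exact Subgroup.mem_bot.mp hcen
  -- Burnside: characters vanish on the nontrivial elements of the centre of a Sylow subgroup
  set P : Sylow n G := default with hP
  have hzero : ∀ z : P, z ∈ Subgroup.center P → z ≠ 1 → ρ.character (z : G) = 0 := by
    intro z hz hz1
    have hle : (P : Subgroup G) ≤ Subgroup.centralizer ({(z : G)} : Set G) := fun x hx =>
      Subgroup.mem_centralizer_singleton_iff.2
        (congrArg Subtype.val (Subgroup.mem_center_iff.mp hz ⟨x, hx⟩))
    refine (CfsgLib.Chars.character_eq_zero_or_norm_eq ρ (z : G) ?_).resolve_right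
      fun h => hz1 (Subtype.ext (hscalar _ h))
    rw [hfin]
    refine hp.coprime_iff_not_dvd.mpr fun hd => P.not_dvd_index ?_
    exact hd.trans (Subgroup.index_dvd_of_le hle)
  have hne : Nontrivial P := by
    have := P.pow_dvd_card_of_pow_dvd_card hdiv
    rw [← Finite.one_lt_card_iff_nontrivial]
    have h2 := Nat.le_of_dvd Nat.card_pos this
    have h3 := hp.one_lt
    nlinarith
  have hnP : n ^ 2 ∣ Nat.card P := P.pow_dvd_card_of_pow_dvd_card hdiv
  haveI : Group.IsNilpotent P := P.2.isNilpotent
  have hZne : Subgroup.center P ≠ ⊥ := by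
    have : Nontrivial (Subgroup.center P) := P.2.center_nontrivial
    exact (Subgroup.nontrivial_iff_ne_bot _).mp this
  -- the centre of the Sylow subgroup has order `n`
  have hZcard : Nat.card (Subgroup.center P) = n := by
    letI : Fintype (Subgroup.center P) := Fintype.ofFinite _
    obtain ⟨m, hm⟩ := CfsgLib.Chars.inner_char_nat
      (CfsgLib.Chars.isCharacter_comp ((P : Subgroup G).subtype.comp (Subgroup.center P).subtype)
        (CfsgLib.Chars.isCharacter_character ρ))
      (CfsgLib.Chars.isCharacter_one (G := Subgroup.center P))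
    rw [classInner] at hm
    rw [Finset.sum_eq_single (1 : Subgroup.center P) (by
      intro b _ hb
      have : ρ.character (((b : P) : G)) = 0 := hzero b b.2 (fun h => hb (Subtype.ext h))
      simp [this]) (by simp)] at hm
    simp [Representation.char_one] at hm
    rw [Fintype.card_eq_nat_card] at hm
    have hcne : (Nat.card (Subgroup.center P) : ℂ) ≠ 0 := by exact_mod_cast Nat.card_pos.ne'
    have : n = Nat.card (Subgroup.center P) * m := by
      have h4 : (n : ℂ) = (Nat.card (Subgroup.center P) : ℂ) * (m : ℂ) := by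
        rw [← hm, ← mul_assoc, mul_inv_cancel₀ hcne, one_mul]
      exact_mod_cast h4
    exact ((Nat.dvd_prime hp).mp ⟨m, this⟩).resolve_left fun h =>
      hZne (Subgroup.eq_bot_of_card_eq _ h)
  -- so the Sylow subgroup is not abelian and its centre lies in its derived group
  have hnab : commutator P ≠ ⊥ := by
    intro hc
    have htop : Subgroup.center P = ⊤ := by
      rw [eq_top_iff]; intro x _
      refine Subgroup.mem_center_iff.mpr fun y => ?_
      have : ⁅y, x⁆ ∈ commutator P := Subgroup.commutator_mem_commutator (Subgroup.mem_top y) (Subgroup.mem_top x)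
      rw [hc, Subgroup.mem_bot] at this
      exact commutatorElement_eq_one_iff_mul_comm.mp this
    have h1 : Nat.card P = n := by
      have h5 := hZcard
      rw [htop, Subgroup.card_top] at h5
      exact h5
    have hnP : n ^ 2 ∣ n := dvd_trans hnP (dvd_of_eq h1)
    have := Nat.le_of_dvd hp.pos hnP
    nlinarith [hp.one_lt]
  obtain ⟨z, hz, hz1⟩ : ∃ z : P, z ∈ commutator P ⊓ Subgroup.center P ∧ z ≠ 1 := by
    have hni : commutator P ⊓ Subgroup.center P ≠ ⊥ :=
      CfsgLib.PGroups.inf_center_ne_bot P.2 hnab
    obtain ⟨⟨z, hz⟩, hz1⟩ := Subgroup.ne_bot_iff_exists_ne_one.mp hni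
    exact ⟨z, hz, fun h => hz1 (Subtype.ext h)⟩
  have h0 := hzero z hz.2 hz1
  obtain ⟨k, ψ, hψ⟩ := CfsgLib.Chars.exists_sum_irr
    (MonoidHom.comp ρ (P : Subgroup G).subtype : Representation ℂ P (Fin n → ℂ))
  choose d hd0 hd hdvd using fun i => CfsgLib.Chars.irr_degree_dvd_card (ψ i).2
  have hsum : ∀ x : P, ρ.character (x : G) = ∑ i, (ψ i : P → ℂ) x := fun x => by
    have := congrFun hψ x
    simp only [Finset.sum_apply] at this
    exact this
  have hdeg1 : n = ∑ i, d i := by
    have := hsum 1
    simp only [OneMemClass.coe_one, Representation.char_one, hfin, hd] at this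
    exact_mod_cast this
  by_cases hall : ∀ i, d i = 1
  · -- linear constituents are trivial on the derived group
    have hval : ∀ i, (ψ i : P → ℂ) z = 1 := by
      intro i
      obtain ⟨l, hl⟩ := CfsgLib.Chars.exists_hom_of_degree_one
        (CfsgLib.Chars.isCharacter_of_irr (ψ i).2) (by rw [hd, hall]; simp)
      have : l z = 1 := Abelianization.commutator_subset_ker l hz.1
      rw [hl]; simp [this]
    have := hsum z
    rw [h0] at this
    simp only [hval, Finset.sum_const, Finset.card_univ, Fintype.card_fin, nsmul_eq_mul,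
      mul_one] at this
    have hk : k = 0 := by exact_mod_cast this.symm
    subst hk
    simp at hdeg1
    exact hp.ne_zero hdeg1
  · -- a nonlinear constituent is the whole restriction
    push Not at hall
    obtain ⟨i, hi⟩ := hall
    have hdn : n ≤ d i := by
      obtain ⟨e, he⟩ := IsPGroup.iff_card.mp P.2
      obtain ⟨j, -, hj⟩ := (Nat.dvd_prime_pow hp).mp (he ▸ hdvd i)
      cases j with
      | zero => simp at hj; exact absurd hj hi
      | succ j => rw [hj]; exact Nat.le_of_dvd (by simp [hp.pos]) (dvd_pow_self n (by simp))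
    have honly : ∀ j, j ≠ i → False := by
      intro j hj
      have h1 : d i + d j ≤ ∑ l, d l := by
        rw [← Finset.sum_pair (f := d) hj.symm]
        exact Finset.sum_le_sum_of_subset (Finset.subset_univ _)
      have := hd0 j
      omega
    have hu : (Finset.univ : Finset (Fin k)) = {i} := by
      ext j; simp only [Finset.mem_univ, Finset.mem_singleton, true_iff]
      by_contra hj; exact honly j hj
    have hzv : (ψ i : P → ℂ) z = 0 := by
      have := hsum z
      rw [h0, hu, Finset.sum_singleton] at this
      exact this.symm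
    obtain ⟨m, σ, hσ, hσχ⟩ := (ψ i).2
    haveI := hσ
    obtain ⟨c, hc⟩ := CfsgLib.Chars.exists_scalar_of_mem_center σ z hz.2
    have hnorm := (CfsgLib.Chars.norm_character_eq_iff σ z).mpr ⟨c, hc⟩
    rw [hσχ, hzv, norm_zero] at hnorm
    have hpos := CfsgLib.Chars.finrank_pos_of_isIrreducible σ
    exact hpos.ne (by exact_mod_cast hnorm)

end Cfsg.Agent.S3968
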