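import Cfsg.Statements.S3969
import Cfsg.Agent.Lib.Transfer.NormalPComplement

set_option autoImplicit false
open Cfsg

namespace Cfsg.Agent.S3969

/-- Let `P` be an abelian Sylow `p`-subgroup of the finite group `G`, generated by `d` elements (`d` its minimal number of generators). If the order of `G` is coprime to `(p - 1)(p ^ 2 - 1) ⋯ (p ^ d - 1)`, then `G` has a normal `p`-complement. (The classical statement needs only the largest number of cyclic factors of `P` of equal order in place of `d`; the form here follows from it.) -/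
theorem result {G : Type*} [Group G] [Finite G] (p : ℕ) [Fact p.Prime] (P : Sylow p G) (hab : IsMulCommutative (P : Subgroup G)) (hcop : Nat.Coprime (Nat.card G) (∏ i ∈ Finset.Icc 1 (Group.rank (P : Subgroup G)), (p ^ i - 1))) : Cfsg.HasNormalPComplement p G := by
  classical
  refine CfsgLib.Transfer.hasNormalPComplement_of_normalizer_le_centralizer P ?_
  intro n hn
  by_contra hnc
  haveI : IsMulCommutative (P : Subgroup G) := hab
  set N := Subgroup.normalizer ((P : Subgroup G) : Set G) with hN
  set C := (Subgroup.centralizer ((P : Subgroup G) : Set G)).subgroupOf N with hCdef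
  haveI : C.Normal := by
    rw [hCdef, hN]; infer_instance
  -- an element of prime order outside the centralizer
  have hPC : (P : Subgroup G).subgroupOf N ≤ C :=
    Subgroup.comap_mono (Subgroup.le_centralizer (P : Subgroup G))
  have hne : C.index ≠ 1 := by
    intro h
    have h2 : (⟨n, hn⟩ : N) ∈ C := by rw [Subgroup.index_eq_one.mp h]; trivial
    exact hnc h2
  obtain ⟨r, hr, hrdvd⟩ := Nat.exists_prime_and_dvd hne
  have hrp : r ≠ p := by
    rintro rfl
    have h1 : r ∣ ((P : Subgroup G).subgroupOf N).index :=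
      hrdvd.trans (Subgroup.index_dvd_of_le hPC)
    have h2 := P.not_dvd_index
    exact h2 (h1.trans (Subgroup.relIndex_dvd_index_of_le Subgroup.le_normalizer))
  have hrG : r ∣ Nat.card G :=
    hrdvd.trans ((Subgroup.index_dvd_card C).trans (Subgroup.card_subgroup_dvd_card N))
  haveI : Fact r.Prime := ⟨hr⟩
  obtain ⟨gq, hgq⟩ := exists_prime_orderOf_dvd_card' (G := N ⧸ C) r hrdvd
  obtain ⟨g, rfl⟩ := QuotientGroup.mk_surjective gq
  have hg : g ∉ C := by
    intro h
    have : ((g : N ⧸ C)) = 1 := (QuotientGroup.eq_one_iff g).mpr h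
    rw [this, orderOf_one] at hgq
    exact hr.ne_one hgq.symm
  have hgr : g ^ r ∈ C := by
    rw [← QuotientGroup.eq_one_iff, QuotientGroup.mk_pow, ← hgq, pow_orderOf_eq_one]
  -- the automorphism induced on `P`
  let φ : MulAut (P : Subgroup G) := Subgroup.normalizerMonoidHom (P : Subgroup G) g
  have hφr : φ ^ r = 1 := by
    change (Subgroup.normalizerMonoidHom (P : Subgroup G) g) ^ r = 1
    rw [← map_pow, ← MonoidHom.mem_ker, Subgroup.normalizerMonoidHom_ker]
    exact hgr
  have hφ : φ ≠ 1 := by
    intro h
    apply hg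
    have : g ∈ (Subgroup.normalizerMonoidHom (P : Subgroup G)).ker := h
    rw [Subgroup.normalizerMonoidHom_ker] at this
    exact this
  letI : CommGroup (P : Subgroup G) :=
    { (inferInstance : Group (P : Subgroup G)) with
      mul_comm := fun a b => (IsMulCommutative.is_comm).comm a b }
  have hP : IsPGroup p (P : Subgroup G) := P.isPGroup'
  set d := Group.rank (P : Subgroup G) with hd
  set Ω := (powMonoidHom p : (P : Subgroup G) →* (P : Subgroup G)).ker with hΩ
  -- `Ω` has at most `p ^ d` elements
  have hbound : Nat.card Ω ≤ p ^ d := by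
    set R := (powMonoidHom p : (P : Subgroup G) →* (P : Subgroup G)).range with hR
    have h1 : Nat.card Ω = R.index := by
      have e1 := Subgroup.card_mul_index Ω
      have e2 := Subgroup.card_mul_index R
      have e3 : Ω.index = Nat.card R := Subgroup.index_ker _
      rw [e3, ← e2, mul_comm] at e1
      exact Nat.eq_of_mul_eq_mul_left Nat.card_pos e1
    have gen : ∀ s : Finset ((P : Subgroup G) ⧸ R),
        Nat.card (Subgroup.closure (s : Set ((P : Subgroup G) ⧸ R))) ≤ p ^ s.card := by
      intro s
      induction s using Finset.induction with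
      | empty =>
        rw [Finset.coe_empty, Subgroup.closure_empty, Finset.card_empty, pow_zero,
          Subgroup.card_bot]
      | @insert a s ha ih =>
        rw [Finset.card_insert_of_notMem ha, Finset.coe_insert, Set.insert_eq,
          Subgroup.closure_union, ← Subgroup.zpowers_eq_closure, pow_succ']
        have hsurj : Function.Surjective (fun z : Subgroup.zpowers a × Subgroup.closure (s : Set ((P : Subgroup G) ⧸ R)) =>
            (⟨(z.1 : (P : Subgroup G) ⧸ R) * z.2, Subgroup.mul_mem_sup z.1.2 z.2.2⟩ :
              ↥(Subgroup.zpowers a ⊔ Subgroup.closure (s : Set ((P : Subgroup G) ⧸ R))))) := by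
          rintro ⟨x, hx⟩
          obtain ⟨y, hy, z, hz, rfl⟩ := Subgroup.mem_sup.mp hx
          exact ⟨(⟨y, hy⟩, ⟨z, hz⟩), rfl⟩
        refine (Nat.card_le_card_of_surjective _ hsurj).trans ?_
        rw [Nat.card_prod, Nat.card_zpowers]
        refine Nat.mul_le_mul ?_ ih
        refine Nat.le_of_dvd (Fact.out : p.Prime).pos (orderOf_dvd_of_pow_eq_one ?_)
        obtain ⟨b, rfl⟩ := QuotientGroup.mk_surjective a
        rw [← QuotientGroup.mk_pow, QuotientGroup.eq_one_iff]
        exact ⟨b, rfl⟩
    obtain ⟨S, hScard, hS⟩ := Group.rank_spec (P : Subgroup G)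
    have h2 := gen (S.image (QuotientGroup.mk' R))
    rw [Finset.coe_image, ← MonoidHom.map_closure, hS,
      Subgroup.map_top_of_surjective _ (QuotientGroup.mk'_surjective R), Subgroup.card_top] at h2
    rw [h1, Subgroup.index]
    refine h2.trans (Nat.pow_le_pow_right (Fact.out : p.Prime).pos ?_)
    rw [hd, ← hScard]
    exact Finset.card_image_le
  -- fixed points on `Ω`
  let σ : Equiv.Perm Ω :=
    { toFun := fun x => ⟨φ x, by
        have hx : (x : (P : Subgroup G)) ^ p = 1 := x.2
        show (φ x) ^ p = 1
        rw [← map_pow, hx, map_one]⟩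
      invFun := fun x => ⟨φ.symm x, by
        have hx : (x : (P : Subgroup G)) ^ p = 1 := x.2
        show (φ.symm x) ^ p = 1
        rw [← map_pow, hx, map_one]⟩
      left_inv := fun x => Subtype.ext (φ.symm_apply_apply _)
      right_inv := fun x => Subtype.ext (φ.apply_symm_apply _) }
  have hσpow : ∀ (k : ℕ) (x : Ω), ((σ ^ k) x : (P : Subgroup G)) = (φ ^ k) x := by
    intro k
    induction k with
    | zero => intro x; rfl
    | succ k ih =>
      intro x
      rw [pow_succ', pow_succ', Equiv.Perm.mul_apply, MulAut.mul_apply, ← ih]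
      rfl
  have hσr : σ ^ r ^ 1 = 1 := by
    refine Equiv.ext fun x => Subtype.ext ?_
    rw [pow_one, hσpow, hφr]; rfl
  have hfix : ∀ x ∈ Ω, φ x = x := by
    let F : Subgroup (P : Subgroup G) :=
      { carrier := {x | x ∈ Ω ∧ φ x = x}
        mul_mem' := fun {a b} ha hb => ⟨mul_mem ha.1 hb.1, by rw [map_mul, ha.2, hb.2]⟩
        one_mem' := ⟨one_mem _, map_one _⟩
        inv_mem' := fun {a} ha => ⟨inv_mem ha.1, by rw [map_inv, ha.2]⟩ }
    have hFΩ : F ≤ Ω := fun x hx => hx.1
    have e : Nat.card F = Nat.card (Function.fixedPoints σ) :=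
      Nat.card_congr
        { toFun := fun x => ⟨⟨x.1, x.2.1⟩, Subtype.ext x.2.2⟩
          invFun := fun x => ⟨x.1.1, x.1.2, congrArg Subtype.val x.2⟩
          left_inv := fun x => rfl
          right_inv := fun x => rfl }
    have hmod : Nat.card F ≡ Nat.card Ω [MOD r] := by
      haveI : Fintype Ω := Fintype.ofFinite _
      let fσ : Function.End Ω := ⇑σ
      have hmod' := Equiv.Perm.card_fixedPoints_modEq (f := fσ) (p := r) (n := 1) (by
        refine funext fun x => ?_
        have h1 : ∀ k : ℕ, (fσ ^ k) x = (σ ^ k) x := by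
          intro k
          induction k with
          | zero => rfl
          | succ k ih => rw [pow_succ', pow_succ', Equiv.Perm.mul_apply, ← ih]; rfl
        rw [h1, hσr]; rfl)
      rw [e, Nat.card_eq_fintype_card, Nat.card_eq_fintype_card]
      exact hmod'.symm
    obtain ⟨c, hc⟩ := IsPGroup.iff_card.mp (hP.to_subgroup F)
    obtain ⟨e', he'⟩ := IsPGroup.iff_card.mp (hP.to_subgroup Ω)
    have hp := (Fact.out : p.Prime)
    have hce : c ≤ e' := by
      have := Subgroup.card_le_of_le hFΩ
      rw [hc, he'] at this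
      exact (Nat.pow_le_pow_iff_right hp.one_lt).mp this
    rcases eq_or_lt_of_le hce with h | h
    · have hFeq : F = Ω := Subgroup.eq_of_le_of_card_ge hFΩ (by rw [hc, he', h])
      intro x hx
      rw [← hFeq] at hx
      exact hx.2
    · exfalso
      have hed : e' ≤ d := by
        rw [he'] at hbound
        exact (Nat.pow_le_pow_iff_right hp.one_lt).mp hbound
      rw [hc, he'] at hmod
      have hdvd : r ∣ p ^ e' - p ^ c := (Nat.modEq_iff_dvd' (Nat.pow_le_pow_right hp.pos hce)).mp hmod
      have heq : p ^ e' - p ^ c = p ^ c * (p ^ (e' - c) - 1) := by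
        rw [Nat.mul_sub, mul_one, ← pow_add, Nat.add_sub_cancel' hce]
      rw [heq] at hdvd
      rcases hr.dvd_mul.mp hdvd with h' | h'
      · exact hrp ((Nat.prime_dvd_prime_iff_eq hr hp).mp (hr.dvd_of_dvd_pow h'))
      · have hmem : e' - c ∈ Finset.Icc 1 d := Finset.mem_Icc.mpr ⟨by omega, by omega⟩
        have h'' : r ∣ Nat.gcd (Nat.card G) (∏ i ∈ Finset.Icc 1 d, (p ^ i - 1)) :=
          Nat.dvd_gcd hrG (h'.trans (Finset.dvd_prod_of_mem (fun i => p ^ i - 1) hmem))
        rw [hd, hcop.gcd_eq_one] at h''
        exact hr.ne_one (Nat.dvd_one.mp h'')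
  -- so `φ` is trivial
  have htriv : ∀ (k : ℕ) (x : (P : Subgroup G)), x ^ p ^ k = 1 → φ x = x := by
    intro k
    induction k with
    | zero =>
      intro x hx
      rw [pow_zero, pow_one] at hx
      rw [hx, map_one]
    | succ k ih =>
      intro x hx
      have h1 : φ (x ^ p) = x ^ p := ih _ (by rw [← pow_mul, ← pow_succ', hx])
      have hz : φ x * x⁻¹ ∈ Ω := by
        show (φ x * x⁻¹) ^ p = 1
        rw [mul_pow, ← map_pow, h1, ← mul_pow, mul_inv_cancel, one_pow]
      set z := φ x * x⁻¹ with hzdef
      have hzf : φ z = z := hfix z hz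
      have hit : ∀ j : ℕ, (φ ^ j) x = z ^ j * x := by
        intro j
        induction j with
        | zero => simp
        | succ j ihj =>
          rw [pow_succ', MulAut.mul_apply, ihj, map_mul, map_pow, hzf, pow_succ, mul_assoc]
          congr 1
          rw [hzdef, inv_mul_cancel_right]
      have h2 := hit r
      rw [hφr, MulAut.one_apply] at h2
      have hzr : z ^ r = 1 := right_eq_mul.mp h2
      have hzp : z ^ p = 1 := hz
      have : z = 1 := by
        have := pow_gcd_eq_one.mpr ⟨hzr, hzp⟩
        rwa [(Nat.coprime_primes hr Fact.out).mpr hrp, pow_one] at this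
      rw [hzdef, mul_inv_eq_one] at this
      exact this
  apply hφ
  refine MulEquiv.ext fun x => ?_
  obtain ⟨k, hk⟩ := hP x
  exact htriv k x hk

end Cfsg.Agent.S3969
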