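import Cfsg.Statements.S3971
import Cfsg.Agent.Lib.Transfer.Alperin
import Cfsg.Agent.Lib.PGroups.Basic
import Cfsg.Agent.Lib.Coprime.Action2

set_option autoImplicit false
set_option linter.style.haveILetI false
open Cfsg

namespace Cfsg.Agent.S3971

open Subgroup

variable {G : Type*} [Group G] [Finite G]

theorem quot_card_le {Q : Subgroup G} (hQ : IsPGroup 2 Q) (C : Subgroup Q) [IsCyclic C]
    (hC : C.index ≤ 2) : Nat.card (Q ⧸ frattini Q) ≤ 4 := by
  have hf := QuotientGroup.mk'_surjective (frattini Q)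
  set D := C.map (QuotientGroup.mk' (frattini Q)) with hD
  haveI : IsCyclic D :=
    isCyclic_of_surjective ((QuotientGroup.mk' (frattini Q)).subgroupMap C)
      ((QuotientGroup.mk' (frattini Q)).subgroupMap_surjective C)
  have hexp : ∀ y : D, y ^ 2 = 1 := by
    rintro ⟨y, hy⟩
    obtain ⟨k, rfl⟩ := hf y
    apply Subtype.ext
    simp only [SubgroupClass.coe_pow, OneMemClass.coe_one]
    rw [← map_pow]
    exact (QuotientGroup.eq_one_iff _).2 (CfsgLib.PGroups.pow_mem_frattini hQ k)
  have h1 : Nat.card D ≤ 2 := by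
    rw [← IsCyclic.exponent_eq_card]
    exact Nat.le_of_dvd two_pos (Monoid.exponent_dvd_of_forall_pow_eq_one hexp)
  have h2 : D.index ≤ 2 :=
    le_trans (Nat.le_of_dvd (Nat.pos_of_ne_zero index_ne_zero_of_finite) (C.index_map_dvd hf)) hC
  calc Nat.card (Q ⧸ frattini Q) = Nat.card D * D.index := (card_mul_index D).symm
    _ ≤ 2 * 2 := Nat.mul_le_mul h1 h2

theorem centralizes {Q : Subgroup G} (hQ : IsPGroup 2 Q) (C : Subgroup Q) [IsCyclic C]
    (hC : C.index ≤ 2) {g : G} (hg : g ∈ normalizer (Q : Set G))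
    (hc2 : Nat.Coprime (orderOf g) 2) (h3 : ¬ 3 ∣ orderOf g) : g ∈ centralizer (Q : Set G) := by
  have h4 := quot_card_le hQ C hC
  let act : normalizer (Q : Set G) →* MulAut (Q ⧸ frattini Q) :=
    { toFun := fun n => QuotientGroup.congr (frattini Q) (frattini Q) (Q.normalizerMonoidHom n)
        (Subgroup.characteristic_iff_map_eq.1 inferInstance _)
      map_one' := by
        ext x
        obtain ⟨k, rfl⟩ := QuotientGroup.mk_surjective x
        simp
      map_mul' := fun a b => by
        ext x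
        obtain ⟨k, rfl⟩ := QuotientGroup.mk_surjective x
        rw [map_mul]
        rfl }
  have hd1 : orderOf (act ⟨g, hg⟩) ∣ orderOf g := by
    refine (orderOf_map_dvd act _).trans (by rw [Subgroup.orderOf_mk])
  have hd2 : orderOf (act ⟨g, hg⟩) ∣ 24 := by
    let toP : MulAut (Q ⧸ frattini Q) →* Equiv.Perm (Q ⧸ frattini Q) := MulAut.toPerm _
    have h := orderOf_injective toP (fun a b h => MulEquiv.ext fun x => Equiv.congr_fun h x)
      (act ⟨g, hg⟩)
    rw [← h]
    refine (_root_.orderOf_dvd_natCard _).trans ?_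
    rw [Nat.card_perm]
    exact (Nat.factorial_dvd_factorial h4).trans (by decide)
  have h1 : act ⟨g, hg⟩ = 1 := by
    have hc24 : Nat.Coprime (orderOf g) 24 :=
      Nat.Coprime.mul_right (Nat.Coprime.pow_right 3 hc2)
        (Nat.prime_three.coprime_iff_not_dvd.2 h3).symm
    exact orderOf_eq_one_iff.1
      (Nat.eq_one_of_dvd_one (hc24 ▸ Nat.dvd_gcd hd1 hd2))
  have key : zpowers g ≤ centralizer (Q : Set G) := by
    refine CfsgLib.Coprime.le_centralizer_of_trivial_mod_frattini (zpowers_le.2 hg) ?_ ?_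
    · rw [Nat.card_zpowers]
      obtain ⟨k, hk⟩ := IsPGroup.iff_card.1 (hQ.to_subgroup (frattini Q))
      rw [hk]
      exact Nat.Coprime.pow_right k hc2
    · intro a ha k hk
      have han : a ∈ normalizer (Q : Set G) := zpowers_le.2 hg ha
      have ha1 : act ⟨a, han⟩ = 1 := by
        obtain ⟨i, rfl⟩ := mem_zpowers_iff.1 ha
        have e : (⟨g ^ i, han⟩ : normalizer (Q : Set G)) = ⟨g, hg⟩ ^ i := Subtype.ext (by simp)
        rw [e, map_zpow, h1, one_zpow]
      have := DFunLike.congr_fun ha1 (QuotientGroup.mk ⟨k, hk⟩)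
      change (QuotientGroup.mk (Q.normalizerMonoidHom ⟨a, han⟩ ⟨k, hk⟩) : Q ⧸ frattini Q)
        = QuotientGroup.mk ⟨k, hk⟩ at this
      rw [QuotientGroup.eq_iff_div_mem] at this
      refine ⟨_, this, ?_⟩
      simp [div_eq_mul_inv]
  exact key (mem_zpowers g)

/-- Let `G` be a finite group of order `2 ^ a * n` with `n` odd and not divisible by `3`, and suppose `G` has an element of order `2 ^ (a - 1)` (so a Sylow `2`-subgroup has a cyclic subgroup of index at most `2`). Then `G` has a normal subgroup of order `n`. -/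
theorem result {G : Type*} [Group G] [Finite G] (a n : ℕ) (hG : Nat.card G = 2 ^ a * n) (hn : Odd n) (h3 : ¬ 3 ∣ n) (hx : ∃ x : G, orderOf x = 2 ^ (a - 1)) : ∃ N : Subgroup G, N.Normal ∧ Nat.card N = n := by
  haveI : Fact (Nat.Prime 2) := ⟨Nat.prime_two⟩
  obtain ⟨x, hx⟩ := hx
  have hxp : IsPGroup 2 (zpowers x) := IsPGroup.iff_card.2 ⟨a - 1, by rw [Nat.card_zpowers, hx]⟩
  obtain ⟨P, hP⟩ := hxp.exists_le_sylow
  have hn0 : n ≠ 0 := by rintro rfl; simp at hn
  have hfac : (Nat.card G).factorization 2 = a := by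
    rw [hG, Nat.factorization_mul (by positivity) hn0, Finsupp.add_apply,
      Nat.prime_two.factorization_pow, Finsupp.single_eq_same,
      Nat.factorization_eq_zero_of_not_dvd (fun h => by
        obtain ⟨k, rfl⟩ := h; exact (Nat.not_odd_iff_even.2 (even_two_mul k)) hn), add_zero]
  have hPc : Nat.card (P : Subgroup G) = 2 ^ a := by rw [P.card_eq_multiplicity, hfac]
  have hidx : (zpowers x).relIndex (P : Subgroup G) ≤ 2 := by
    have h := Subgroup.card_mul_index ((zpowers x).subgroupOf (P : Subgroup G))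
    rw [Nat.card_congr (subgroupOfEquivOfLe hP).toEquiv, Nat.card_zpowers, hx, hPc] at h
    have h2 : 2 ^ a ≤ 2 ^ (a - 1) * 2 := by
      rw [← pow_succ]; exact Nat.pow_le_pow_right two_pos (by omega)
    exact Nat.le_of_mul_le_mul_left (h ▸ h2) (by positivity)
  have hnc : Cfsg.HasNormalPComplement 2 G := by
    rw [CfsgLib.Transfer.hasNormalPComplement_iff_forall_centralizing P]
    intro Q hQ g hg hco
    haveI : IsCyclic ((zpowers x).subgroupOf Q) := by
      let f : (zpowers x).subgroupOf Q →* zpowers x :=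
        (Q.subtype.comp ((zpowers x).subgroupOf Q).subtype).codRestrict _ fun y => y.2
      exact isCyclic_of_injective f fun u v h =>
        Subtype.ext (Subtype.ext (congrArg (Subtype.val : zpowers x → G) h))
    refine centralizes (P.2.to_le hQ) ((zpowers x).subgroupOf Q) ?_ hg hco fun h => ?_
    · exact le_trans (relIndex_le_of_le_right hQ index_ne_zero_of_finite) hidx
    · have hd := h.trans (_root_.orderOf_dvd_natCard g)
      rw [hG] at hd
      rcases Nat.prime_three.dvd_mul.1 hd with h2 | h2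
      · have := Nat.prime_three.dvd_of_dvd_pow h2; omega
      · exact h3 h2
  obtain ⟨P', N, hN, hc⟩ := hnc
  refine ⟨N, hN, ?_⟩
  have h := hc.card_mul
  have hP' : Nat.card (P' : Subgroup G) = 2 ^ a := by rw [P'.card_eq_multiplicity, hfac]
  rw [hP', hG, mul_comm (2 ^ a) n] at h
  exact Nat.eq_of_mul_eq_mul_right (by positivity) h

end Cfsg.Agent.S3971
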