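import Cfsg.Statements.S3973
import Cfsg.Agent.Lib.Schur.Basic
open CfsgLib.Schur Cfsg Subgroup
open scoped commutatorElement

set_option autoImplicit false
open Cfsg

namespace Cfsg.Agent.S3973

/-- If a finite group is presented by `n` generators and a finite set of `r` relators, then its Schur multiplier can be generated by `r - n` elements. In particular a finite group with a presentation having as many relators as generators has trivial Schur multiplier. -/
theorem result (n : ℕ) (rels : Finset (FreeGroup (Fin n))) [Finite (PresentedGroup (rels : Set (FreeGroup (Fin n))))] {A : Type*} [CommGroup A] [Finite A] (hA : Cfsg.HasSchurMultiplier (PresentedGroup (rels : Set (FreeGroup (Fin n)))) A) : Group.rank A ≤ rels.card - n := by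
  classical
  set R : Subgroup (FreeGroup (Fin n)) := Subgroup.normalClosure (rels : Set (FreeGroup (Fin n))) with hR
  set Q := PresentedGroup (rels : Set (FreeGroup (Fin n))) with hQ
  obtain ⟨eA⟩ := nonempty_equiv_mult hA
  let S : Subgroup (FreeGroup (Fin n)) := ⁅R, (⊤ : Subgroup (FreeGroup (Fin n)))⁆
  let π : FreeGroup (Fin n) →* Q := QuotientGroup.mk' R
  let ξ : FreeGroup (Fin n) ⧸ S →* Q := QuotientGroup.lift S π (by
    show S ≤ (QuotientGroup.mk' R).ker
    rw [QuotientGroup.ker_mk']; exact commutator_le_left _ _)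
  have hξs : Function.Surjective ξ := fun q => by
    obtain ⟨x, rfl⟩ := QuotientGroup.mk'_surjective R q
    exact ⟨QuotientGroup.mk x, rfl⟩
  have hξc : ξ.ker ≤ center (FreeGroup (Fin n) ⧸ S) := by
    intro x hx
    obtain ⟨x, rfl⟩ := QuotientGroup.mk_surjective x
    have hxR : x ∈ R := (QuotientGroup.eq_one_iff x).1 hx
    rw [mem_center_iff]
    intro y
    obtain ⟨y, rfl⟩ := QuotientGroup.mk_surjective y
    show QuotientGroup.mk' S y * QuotientGroup.mk' S x = QuotientGroup.mk' S x * QuotientGroup.mk' S y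
    refine (commutatorElement_eq_one_iff_mul_comm.1 ?_).symm
    rw [← map_commutatorElement]
    exact (QuotientGroup.eq_one_iff _).2 (commutator_mem_commutator hxR (mem_top y))
  letI : CommGroup ξ.ker :=
    { (inferInstance : Group ξ.ker) with
      mul_comm := fun a b => Subtype.ext (mem_center_iff.1 (hξc b.2) a) }
  -- the degree map
  let deg : FreeGroup (Fin n) →* Multiplicative (Fin n →₀ ℤ) :=
    FreeGroup.lift fun i => Multiplicative.ofAdd (Finsupp.single i 1)
  let ψ : (Fin n →₀ ℤ) →+ Additive (Abelianization (FreeGroup (Fin n))) :=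
    Finsupp.liftAddHom fun i => zmultiplesHom _ (Additive.ofMul (Abelianization.of (FreeGroup.of i)))
  have hψ : (AddMonoidHom.toMultiplicativeLeft ψ).comp deg = Abelianization.of := by
    ext i; simp [deg, ψ]
  let dE : FreeGroup (Fin n) ⧸ S →* Multiplicative (Fin n →₀ ℤ) := QuotientGroup.lift S deg (by
    rw [commutator_le]
    intro a _ b _
    rw [MonoidHom.mem_ker, map_commutatorElement, commutatorElement_eq_one_iff_mul_comm, mul_comm])
  have hdE : ∀ x, dE x = 1 → x ∈ commutator (FreeGroup (Fin n) ⧸ S) := by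
    intro x hx
    obtain ⟨x, rfl⟩ := QuotientGroup.mk_surjective x
    have h1 := DFunLike.congr_fun hψ x
    rw [MonoidHom.comp_apply, show deg x = 1 from hx, map_one] at h1
    have h2 : x ∈ commutator (FreeGroup (Fin n)) := by rw [← Abelianization.ker_of]; exact h1.symm
    have := mem_map_of_mem (QuotientGroup.mk' S) h2
    rw [_root_.commutator_def, map_commutator] at this
    exact commutator_mono le_top le_top this
  -- the relation module
  let gen : rels → ξ.ker := fun r => ⟨QuotientGroup.mk (r : FreeGroup (Fin n)),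
    (QuotientGroup.eq_one_iff _).2 (Subgroup.subset_normalClosure r.2)⟩
  let Φ : (rels → ℤ) →ₗ[ℤ] Additive ξ.ker := (Pi.basisFun ℤ rels).constr ℤ fun r => Additive.ofMul (gen r)
  have hΦ : Function.Surjective Φ := by
    intro z
    suffices h : ∀ x ∈ R, ∀ hx : (QuotientGroup.mk x : FreeGroup (Fin n) ⧸ S) ∈ ξ.ker,
        Additive.ofMul (⟨QuotientGroup.mk x, hx⟩ : ξ.ker) ∈ LinearMap.range Φ by
      obtain ⟨x, hx⟩ := QuotientGroup.mk_surjective ((Additive.toMul z : ξ.ker) : FreeGroup (Fin n) ⧸ S)
      have hxk : (QuotientGroup.mk x : FreeGroup (Fin n) ⧸ S) ∈ ξ.ker := hx ▸ (Additive.toMul z).2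
      obtain ⟨w, hw⟩ := h x ((QuotientGroup.eq_one_iff x).1 hxk) hxk
      exact ⟨w, hw.trans (congrArg Additive.ofMul (Subtype.ext hx))⟩
    intro x hx
    rw [hR] at hx
    induction hx using Subgroup.closure_induction with
    | mem y hy =>
      intro hyk
      obtain ⟨r, hr, hcj⟩ := Group.mem_conjugatesOfSet_iff.1 hy
      obtain ⟨c, hc⟩ := isConj_iff.1 hcj
      refine ⟨Pi.single ⟨r, hr⟩ 1, ?_⟩
      rw [show Φ (Pi.single ⟨r, hr⟩ 1) = Additive.ofMul (gen ⟨r, hr⟩) by
        rw [show (Pi.single ⟨r, hr⟩ 1 : rels → ℤ) = Pi.basisFun ℤ rels ⟨r, hr⟩ by simp]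
        exact (Pi.basisFun ℤ rels).constr_basis _ _ _]
      refine congrArg Additive.ofMul (Subtype.ext ?_)
      show QuotientGroup.mk' S r = QuotientGroup.mk' S y
      rw [← hc, map_mul, map_mul, map_inv,
        mem_center_iff.1 (hξc (gen ⟨r, hr⟩).2 : QuotientGroup.mk' S r ∈ _) (QuotientGroup.mk' S c),
        mul_inv_cancel_right]
    | one => intro h; exact ⟨0, by rw [map_zero]; rfl⟩
    | mul a b ha hb iha ihb =>
      intro h
      have hR' : ∀ u, u ∈ Subgroup.closure (Group.conjugatesOfSet (rels : Set (FreeGroup (Fin n)))) →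
          (QuotientGroup.mk u : FreeGroup (Fin n) ⧸ S) ∈ ξ.ker := fun u hu =>
        (QuotientGroup.eq_one_iff u).2 hu
      obtain ⟨u, hu⟩ := iha (hR' a ha)
      obtain ⟨v, hv⟩ := ihb (hR' b hb)
      exact ⟨u + v, by rw [map_add, hu, hv]; rfl⟩
    | inv a ha iha =>
      intro h
      obtain ⟨u, hu⟩ := iha ((QuotientGroup.eq_one_iff a).2 ha)
      exact ⟨-u, by rw [map_neg, hu]; rfl⟩
  let θ : Additive ξ.ker →ₗ[ℤ] (Fin n →₀ ℤ) :=
    (MonoidHom.toAdditiveLeft (dE.comp ξ.ker.subtype)).toIntLinearMap
  let L := θ.comp Φ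
  -- rank
  have hrange : n ≤ Module.finrank ℤ (LinearMap.range L) := by
    set o := Nat.card Q
    have ho : (o : ℤ) ≠ 0 := Int.natCast_ne_zero.2 Nat.card_pos.ne'
    have hmem : ∀ v : Fin n →₀ ℤ, (o : ℤ) • v ∈ LinearMap.range L := by
      intro v
      induction v using Finsupp.induction_linear with
      | zero => rw [smul_zero]; exact zero_mem _
      | add a b ha hb => rw [smul_add]; exact add_mem ha hb
      | single i z =>
        have hk : ((QuotientGroup.mk (FreeGroup.of i) : FreeGroup (Fin n) ⧸ S) ^ o) ∈ ξ.ker := by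
          rw [MonoidHom.mem_ker, map_pow]; exact pow_card_eq_one'
        obtain ⟨w, hw⟩ := hΦ (Additive.ofMul ⟨_, hk⟩)
        have hsingle : (o : ℤ) • Finsupp.single i z = z • θ (Φ w) := by
          rw [hw]
          show _ = z • Multiplicative.toAdd (dE ((QuotientGroup.mk (FreeGroup.of i)) ^ o))
          rw [map_pow, toAdd_pow, show dE (QuotientGroup.mk (FreeGroup.of i)) = Multiplicative.ofAdd (Finsupp.single i 1) from
            FreeGroup.lift_apply_of, toAdd_ofAdd, ← natCast_zsmul, smul_smul, Finsupp.smul_single,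
            Finsupp.smul_single, smul_eq_mul, smul_eq_mul, mul_one, mul_comm]
        rw [hsingle]
        exact Submodule.smul_mem _ _ ⟨w, rfl⟩
    let scale : (Fin n →₀ ℤ) →ₗ[ℤ] LinearMap.range L :=
      ((o : ℤ) • LinearMap.id).codRestrict _ fun v => hmem v
    have hsc : Function.Injective scale := by
      intro u v huv
      have h : (o : ℤ) • u = (o : ℤ) • v := congrArg Subtype.val huv
      exact smul_right_injective _ ho h
    have := LinearMap.finrank_le_finrank_of_injective hsc
    simpa using this
  have hker : Module.finrank ℤ (LinearMap.ker L) ≤ rels.card - n := by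
    have h1 := Submodule.finrank_quotient_add_finrank (LinearMap.ker L)
    rw [L.quotKerEquivRange.finrank_eq, Module.finrank_fintype_fun_eq_card, Fintype.card_coe] at h1
    omega
  -- the kernel maps onto the multiplier
  let g₀ : FreeGroup (Fin n) →* Cov Q := FreeGroup.lift fun i => sec Q (π (FreeGroup.of i))
  have hg₀ : (proj Q).comp g₀ = π := by ext i; simp [g₀]
  have hS : S ≤ g₀.ker := by
    rw [commutator_le]
    intro a ha b _
    have hac : g₀ a ∈ center (Cov Q) := ker_proj_le_center Q (by
      rw [MonoidHom.mem_ker, ← MonoidHom.comp_apply, hg₀]; exact (QuotientGroup.eq_one_iff a).2 ha)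
    rw [MonoidHom.mem_ker, map_commutatorElement, commutatorElement_eq_one_iff_mul_comm]
    exact (mem_center_iff.1 hac _).symm
  let g : FreeGroup (Fin n) ⧸ S →* Cov Q := QuotientGroup.lift S g₀ hS
  have hg : (proj Q).comp g = ξ := QuotientGroup.monoidHom_ext _ hg₀
  have hcomm := commutator_eq_map (proj Q) (ker_proj_le_center Q) g (by rw [hg]; exact hξs)
  let ι : LinearMap.ker L → Mult Q := fun w =>
    ⟨g ((Additive.toMul (Φ (w : rels → ℤ)) : ξ.ker) : FreeGroup (Fin n) ⧸ S), by
      refine ⟨?_, ?_⟩
      · show proj Q (g _) = 1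
        rw [← MonoidHom.comp_apply (proj Q), hg]; exact (Additive.toMul (Φ (w : rels → ℤ))).2
      · rw [hcomm]
        refine mem_map_of_mem g (hdE _ ?_)
        exact congrArg Multiplicative.ofAdd w.2⟩
  let f : LinearMap.ker L →+ Additive (Mult Q) := AddMonoidHom.mk' (fun w => Additive.ofMul (ι w))
    fun a b => congrArg Additive.ofMul (Subtype.ext (by
      show g _ = g _ * g _
      rw [Submodule.coe_add, map_add, ← map_mul]
      rfl))
  have hf : Function.Surjective f := by
    intro z
    set m : Mult Q := Additive.toMul z with hm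
    have hm2 : (m : Cov Q) ∈ commutator (Cov Q) := m.2.2
    rw [hcomm] at hm2
    obtain ⟨y, hy, hym⟩ := hm2
    have hyk : y ∈ ξ.ker := by
      rw [← hg, MonoidHom.mem_ker, MonoidHom.comp_apply, hym]; exact m.2.1
    obtain ⟨w, hw⟩ := hΦ (Additive.ofMul ⟨y, hyk⟩)
    refine ⟨⟨w, ?_⟩, congrArg Additive.ofMul (Subtype.ext (?_ : g _ = (m : Cov Q)))⟩
    · show θ (Φ w) = 0
      rw [hw]
      show Multiplicative.toAdd (dE y) = 0
      rw [Abelianization.commutator_subset_ker dE hy]
      rfl
    · rw [hw]; exact hym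
  haveI : Module.Finite ℤ (LinearMap.ker L) := inferInstance
  let b := Module.finBasis ℤ (LinearMap.ker L)
  let s : Finset A := Finset.univ.image fun i => eA.symm (Additive.toMul (f (b i)))
  refine le_trans (Group.rank_le (S := s) ?_) (le_trans Finset.card_image_le ?_)
  · rw [eq_top_iff]
    intro a _
    obtain ⟨w, hw⟩ := hf (Additive.ofMul (eA a))
    have ha : a = eA.symm (Additive.toMul (f w)) := by rw [hw]; simp
    rw [ha]
    have hw' : w ∈ Submodule.span ℤ (Set.range b) := by rw [b.span_eq]; trivial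
    clear hw ha
    induction hw' using Submodule.span_induction with
    | mem v hv =>
      obtain ⟨i, rfl⟩ := hv
      exact subset_closure (Finset.mem_image_of_mem _ (Finset.mem_univ i))
    | zero => rw [map_zero]; simp
    | add u v _ _ hu hv => rw [map_add, toMul_add, map_mul]; exact mul_mem hu hv
    | smul z u _ hu => rw [map_zsmul, toMul_zsmul, map_zpow]; exact zpow_mem hu z
  · rw [Finset.card_univ, Fintype.card_fin]; exact hker

end Cfsg.Agent.S3973
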