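import Cfsg.Statements.S3974
import Cfsg.Agent.Lib.Schur.Lift
open CfsgLib.Schur Cfsg Subgroup

set_option autoImplicit false
universe u v
open Cfsg

namespace Cfsg.Agent.S3974

/-- Let `Q` be a finite group with Schur multiplier `A`. Any two Schur covering groups of `Q` (finite stem extensions `σ₁ : Γ₁ →* Q`, `σ₂ : Γ₂ →* Q` with kernels isomorphic to `A`, `Γ₁, Γ₂` in the universe of `Q`) are isomorphic over `Q` — there is a group isomorphism `e : Γ₁ ≃* Γ₂` with `σ₂ ∘ e = σ₁` — if and only if the order of the commutator quotient of `Q` is coprime to the order of `A`. In particular a finite perfect group has a unique Schur covering group up to isomorphism over it. -/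
theorem result {Q : Type u} [Group Q] [Finite Q] {A : Type v} [CommGroup A] (hA : Cfsg.HasSchurMultiplier Q A) : (∀ (Γ₁ Γ₂ : Type u) [Group Γ₁] [Finite Γ₁] [Group Γ₂] [Finite Γ₂] (σ₁ : Γ₁ →* Q) (σ₂ : Γ₂ →* Q), Cfsg.IsStemExtension σ₁ → Cfsg.IsStemExtension σ₂ → Nonempty (σ₁.ker ≃* A) → Nonempty (σ₂.ker ≃* A) → ∃ e : Γ₁ ≃* Γ₂, σ₂.comp e.toMonoidHom = σ₁) ↔ Nat.Coprime (Nat.card (Abelianization Q)) (Nat.card A) := by
  classical
  obtain ⟨eA⟩ := nonempty_equiv_mult hA
  haveI : Finite A := Finite.of_equiv _ eA.symm.toEquiv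
  haveI : Finite (Abelianization Q) := Finite.of_surjective _ QuotientGroup.mk_surjective
  -- kernels of projections onto a covering supplement `Cov'` in the kernel of `Q → Qᵃᵇ`
  have hdec : ∀ (Γ : Type u) [Group Γ] (σ : Γ →* Q) (c : Cov Q →* Γ), IsStemExtension σ →
      σ.comp c = proj Q → ∀ x : Cov Q, Abelianization.of (proj Q x) = 1 →
      ∃ k ∈ c.ker, covDegree Q x = covDegree Q k := by
    intro Γ _ σ c hs hc x hx
    have h1 : proj Q x ∈ (commutator (Cov Q)).map (proj Q) := by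
      rw [_root_.commutator_def, map_commutator, Subgroup.map_top_of_surjective _ (proj_surjective Q),
        ← _root_.commutator_def, ← Abelianization.ker_of]
      exact hx
    obtain ⟨y, hy, hyx⟩ := h1
    have hk : y⁻¹ * x ∈ (proj Q).ker := by rw [MonoidHom.mem_ker, map_mul, map_inv, hyx, inv_mul_cancel]
    have h2 := map_multiplier σ hs.2.1 c hc
    rw [inf_eq_left.2 hs.2.2] at h2
    have h3 : c (y⁻¹ * x) ∈ σ.ker := by
      rw [MonoidHom.mem_ker, ← MonoidHom.comp_apply, hc]; exact hk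
    rw [← h2] at h3
    obtain ⟨m, hm, hmx⟩ := h3
    refine ⟨m⁻¹ * (y⁻¹ * x), by rw [MonoidHom.mem_ker, map_mul, map_inv, hmx, inv_mul_cancel], ?_⟩
    rw [map_mul, map_mul, map_inv, map_inv, (mem_commutator_iff_covDegree Q).1 hm.2,
      (mem_commutator_iff_covDegree Q).1 hy, inv_one, one_mul, one_mul]
  constructor
  · intro huniq
    by_contra hncop
    obtain ⟨p, hp, hp1, hp2⟩ := Nat.Prime.not_coprime_iff_dvd.1 hncop
    haveI := Fact.mk hp
    obtain ⟨Γ₁, _, _, σ₁, c₁, hs₁, hc₁, -, hinj₁, ⟨e₁⟩⟩ := exists_cover Q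
    have hK₁ : c₁.ker ≤ (proj Q).ker := fun x hx => by
      rw [← hc₁, MonoidHom.mem_ker, MonoidHom.comp_apply, MonoidHom.mem_ker.1 hx, map_one]
    letI : CommGroup c₁.ker :=
      { (inferInstance : Group c₁.ker) with
        mul_comm := fun a b => Subtype.ext (mem_center_iff.1 (ker_proj_le_center Q (hK₁ b.2)) a) }
    let θ : Additive c₁.ker →ₗ[ℤ] (Q →₀ ℤ) :=
      (MonoidHom.toAdditiveLeft ((covDegree Q).comp c₁.ker.subtype)).toIntLinearMap
    have hθ : Function.Injective θ := by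
      refine (injective_iff_map_eq_zero θ).2 fun x hx => ?_
      have h1 : ((Additive.toMul x : c₁.ker) : Cov Q) ∈ commutator (Cov Q) :=
        (mem_commutator_iff_covDegree Q).2 (congrArg Multiplicative.ofAdd hx)
      exact congrArg Additive.ofMul (Subtype.ext
        (hinj₁ _ ⟨hK₁ (Additive.toMul x).2, h1⟩ (Additive.toMul x).2) :
          (Additive.toMul x : c₁.ker) = 1)
    obtain ⟨a₀, ha₀⟩ := exists_prime_orderOf_dvd_card' (G := Abelianization Q) p hp1
    obtain ⟨q₀, hq₀⟩ := QuotientGroup.mk_surjective a₀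
    obtain ⟨y, rfl⟩ := proj_surjective Q q₀
    obtain ⟨k, hk, hky⟩ := hdec Γ₁ σ₁ c₁ hs₁ hc₁ (y ^ p) (by
      rw [map_pow, map_pow, show Abelianization.of (proj Q y) = a₀ from hq₀, ← ha₀, pow_orderOf_eq_one])
    let l : LinearMap.range θ := ⟨θ (Additive.ofMul ⟨k, hk⟩), _, rfl⟩
    haveI : Module.Finite ℤ (LinearMap.range θ) := inferInstance
    let b := Module.Free.chooseBasis ℤ (LinearMap.range θ)
    obtain ⟨i, hi⟩ : ∃ i, ¬ (p : ℤ) ∣ b.repr l i := by
      by_contra hall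
      push Not at hall
      let l' : LinearMap.range θ := b.repr.symm ((b.repr l).mapRange (fun z => z / p) (Int.zero_ediv _))
      have hl : l = (p : ℤ) • l' := by
        apply b.repr.injective
        rw [map_smul, LinearEquiv.apply_symm_apply]
        ext j
        rw [Finsupp.smul_apply, Finsupp.mapRange_apply, smul_eq_mul, Int.mul_ediv_cancel' (hall j)]
      obtain ⟨x', hx'⟩ := l'.2
      have h1 : θ (Additive.ofMul ⟨k, hk⟩) = (p : ℤ) • θ x' := by
        rw [hx']; exact congrArg Subtype.val hl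
      set k' : Cov Q := ((Additive.toMul x' : c₁.ker) : Cov Q)
      have h2 : (p : ℤ) • Multiplicative.toAdd (covDegree Q (y * k'⁻¹)) = 0 := by
        rw [map_mul, map_inv, toAdd_mul, toAdd_inv, smul_add, smul_neg, add_neg_eq_zero]
        calc (p : ℤ) • Multiplicative.toAdd (covDegree Q y)
            = Multiplicative.toAdd (covDegree Q (y ^ p)) := by rw [map_pow, toAdd_pow, natCast_zsmul]
          _ = Multiplicative.toAdd (covDegree Q k) := by rw [hky]
          _ = _ := h1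
      rcases smul_eq_zero.1 h2 with h3 | h3
      · exact hp.ne_zero (by exact_mod_cast h3)
      · have h4 : y * k'⁻¹ ∈ commutator (Cov Q) :=
          (mem_commutator_iff_covDegree Q).2 (congrArg Multiplicative.ofAdd h3)
        have h5 : Abelianization.of (proj Q (y * k'⁻¹)) = 1 :=
          Abelianization.commutator_subset_ker (Abelianization.of.comp (proj Q)) h4
        rw [map_mul, map_inv, MonoidHom.mem_ker.1 (hK₁ (Additive.toMul x').2), inv_one, mul_one,
          show Abelianization.of (proj Q y) = a₀ from hq₀] at h5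
        rw [h5, orderOf_one] at ha₀
        exact hp.one_lt.ne ha₀
    -- an element of the multiplier which is not a `p`-th power
    obtain ⟨a, ha⟩ : ∃ a : Mult Q, ∀ c : Mult Q, c ^ p ≠ a := by
      by_contra hall
      push Not at hall
      haveI : Finite (Mult Q) := finite_multiplier Q
      have hsurj : Function.Surjective fun c : Mult Q => c ^ p := hall
      obtain ⟨c, hc⟩ := exists_prime_orderOf_dvd_card' (G := Mult Q) p
        (Nat.card_congr eA.toEquiv ▸ hp2)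
      have hinj := (Finite.injective_iff_surjective).2 hsurj
      have : c = 1 := hinj (by simp [← hc, pow_orderOf_eq_one])
      rw [this, orderOf_one] at hc
      exact hp.one_lt.ne hc
    let δ₀ : Additive c₁.ker →ₗ[ℤ] Additive (Mult Q) :=
      ((LinearMap.toSpanSingleton ℤ (Additive (Mult Q)) (Additive.ofMul a)).comp (b.coord i)).comp
        θ.rangeRestrict
    let δ : c₁.ker →* Mult Q := MonoidHom.toAdditive.symm δ₀.toAddMonoidHom
    have hδk : δ ⟨k, hk⟩ = a ^ (b.repr l i) := rfl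
    -- the twisted covering
    let tw : c₁.ker →* Cov Q := MonoidHom.mk' (fun x => (x : Cov Q) * (δ x : Cov Q)) fun x x' => by
      rw [map_mul, Subgroup.coe_mul, Subgroup.coe_mul]
      have := mem_center_iff.1 (multiplier_le_center Q (δ x).2) (x' : Cov Q)
      simp only [mul_assoc]
      rw [← mul_assoc (δ x : Cov Q), ← this, mul_assoc]
    have hsup : (proj Q).ker ≤ tw.range ⊓ (proj Q).ker ⊔ multiplier Q := by
      intro x hx
      have h3 : c₁ x ∈ σ₁.ker := by
        rw [MonoidHom.mem_ker, ← MonoidHom.comp_apply, hc₁]; exact hx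
      have h2 := map_multiplier σ₁ hs₁.2.1 c₁ hc₁
      rw [inf_eq_left.2 hs₁.2.2] at h2
      rw [← h2] at h3
      obtain ⟨m, hm, hmx⟩ := h3
      let u : c₁.ker := ⟨x * m⁻¹, by rw [MonoidHom.mem_ker, map_mul, map_inv, hmx, mul_inv_cancel]⟩
      have hx' : x = tw u * ((δ u : Cov Q)⁻¹ * m) := by
        show x = x * m⁻¹ * (δ u : Cov Q) * ((δ u : Cov Q)⁻¹ * m)
        group
      rw [hx']
      exact mul_mem_sup ⟨⟨u, rfl⟩, (proj Q).ker.mul_mem (hK₁ u.2) (δ u).2.1⟩
        (mul_mem (inv_mem (δ u).2) hm)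
    obtain ⟨Γ₂, _, _, σ₂, c₂, hs₂, hc₂, hcs₂, hinj₂, hL₂, ⟨e₂⟩⟩ := exists_cover' Q tw.range hsup
    obtain ⟨e, he⟩ := huniq Γ₁ Γ₂ σ₁ σ₂ hs₁ hs₂ ⟨e₁.trans eA.symm⟩ ⟨e₂.trans eA.symm⟩
    have htw : ∀ x : c₁.ker, c₂ (tw x) = 1 := by
      intro x
      have h3 : c₂ (tw x) ∈ σ₂.ker := by
        rw [MonoidHom.mem_ker, ← MonoidHom.comp_apply, hc₂]
        exact (proj Q).ker.mul_mem (hK₁ x.2) (δ x).2.1
      have h2 := map_multiplier σ₂ hs₂.2.1 c₂ hc₂
      rw [inf_eq_left.2 hs₂.2.2] at h2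
      rw [← h2] at h3
      obtain ⟨m, hm, hmx⟩ := h3
      have h4 : tw x * m⁻¹ ∈ c₂.ker := by rw [MonoidHom.mem_ker, map_mul, map_inv, hmx, mul_inv_cancel]
      obtain ⟨x', hx'⟩ := hL₂ h4
      have h5 : ((x⁻¹ * x' : c₁.ker) : Cov Q) ∈ multiplier Q := by
        have : ((x⁻¹ * x' : c₁.ker) : Cov Q) = (δ x : Cov Q) * m⁻¹ * (δ x' : Cov Q)⁻¹ := by
          rw [Subgroup.coe_mul, Subgroup.coe_inv]
          have h6 : (x' : Cov Q) * (δ x' : Cov Q) = (x : Cov Q) * (δ x : Cov Q) * m⁻¹ := hx'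
          rw [eq_mul_inv_of_mul_eq h6]
          group
        rw [this]
        exact mul_mem (mul_mem (δ x).2 (inv_mem hm)) (inv_mem (δ x').2)
      have h7 : x⁻¹ * x' = 1 := Subtype.ext (hinj₁ _ h5 (x⁻¹ * x').2)
      obtain rfl : x = x' := inv_mul_eq_one.1 h7
      have : m⁻¹ = 1 := mul_eq_left.1 hx'.symm
      rw [inv_eq_one.1 this, map_one] at hmx
      exact hmx.symm
    have hagree : σ₂.comp (e.toMonoidHom.comp c₁) = proj Q := by rw [← MonoidHom.comp_assoc, he, hc₁]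
    letI : CommGroup σ₂.ker :=
      { (inferInstance : Group σ₂.ker) with
        mul_comm := fun a b => Subtype.ext (mem_center_iff.1 (hs₂.2.1 b.2) a) }
    let χ : Cov Q →* σ₂.ker := MonoidHom.mk'
      (fun x => ⟨(c₂ x)⁻¹ * e (c₁ x), by
        rw [MonoidHom.mem_ker, map_mul, map_inv, ← MonoidHom.comp_apply σ₂ c₂, hc₂]
        show (proj Q x)⁻¹ * σ₂.comp (e.toMonoidHom.comp c₁) x = 1
        rw [hagree, inv_mul_cancel]⟩)
      (fun x x' => Subtype.ext (by
        show (c₂ (x * x'))⁻¹ * e (c₁ (x * x')) = (c₂ x)⁻¹ * e (c₁ x) * ((c₂ x')⁻¹ * e (c₁ x'))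
        have hz : (c₂ x)⁻¹ * e (c₁ x) ∈ σ₂.ker := by
          rw [MonoidHom.mem_ker, map_mul, map_inv, ← MonoidHom.comp_apply σ₂ c₂, hc₂]
          show (proj Q x)⁻¹ * σ₂.comp (e.toMonoidHom.comp c₁) x = 1
          rw [hagree, inv_mul_cancel]
        simp only [map_mul, mul_inv_rev]
        rw [mul_assoc (c₂ x')⁻¹, ← mul_assoc (c₂ x)⁻¹, ← mul_assoc (c₂ x')⁻¹,
          mem_center_iff.1 (hs₂.2.1 hz), mul_assoc]))
    let em : Mult Q →* σ₂.ker := (c₂.comp (multiplier Q).subtype).codRestrict σ₂.ker fun m => by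
      rw [MonoidHom.mem_ker, MonoidHom.comp_apply, ← MonoidHom.comp_apply σ₂, hc₂]; exact m.2.1
    have hem : Function.Bijective em := by
      haveI : Finite (Mult Q) := finite_multiplier Q
      have hi' : Function.Injective em := (injective_iff_map_eq_one em).2 fun m hm =>
        Subtype.ext (hinj₂ m m.2 (congrArg Subtype.val hm))
      exact (Nat.bijective_iff_injective_and_card em).2 ⟨hi', (Nat.card_congr e₂.toEquiv).symm⟩
    let χ' : Cov Q →* Mult Q := (MulEquiv.ofBijective em hem).symm.toMonoidHom.comp χ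
    have hχ : χ' k = δ ⟨k, hk⟩ := by
      show (MulEquiv.ofBijective em hem).symm (χ k) = _
      rw [MulEquiv.symm_apply_eq]
      refine Subtype.ext ?_
      show (c₂ k)⁻¹ * e (c₁ k) = c₂ ((δ ⟨k, hk⟩ : Mult Q) : Cov Q)
      rw [MonoidHom.mem_ker.1 hk, map_one, mul_one, inv_eq_iff_mul_eq_one, ← map_mul]
      exact htw ⟨k, hk⟩
    have hχk : χ' k = (χ' y) ^ p := by
      have h1 : y ^ p * k⁻¹ ∈ commutator (Cov Q) :=
        (mem_commutator_iff_covDegree Q).2 (by rw [map_mul, map_inv, hky, mul_inv_cancel])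
      have h2 := Abelianization.commutator_subset_ker χ' h1
      rw [MonoidHom.mem_ker, map_mul, map_inv, mul_inv_eq_one] at h2
      rw [← h2, map_pow]
    rw [hδk, hχk] at hχ
    obtain ⟨u, v, huv⟩ := ((Nat.prime_iff_prime_int.1 hp).coprime_iff_not_dvd.2 hi).symm
    refine ha ((χ' y) ^ u * a ^ v) ?_
    calc ((χ' y) ^ u * a ^ v) ^ p = ((χ' y) ^ p) ^ u * (a ^ v) ^ p := by
          rw [mul_pow, ← zpow_natCast (χ' y ^ u), ← zpow_mul, mul_comm u, zpow_mul, zpow_natCast]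
      _ = a ^ (u * b.repr l i + v * (p : ℤ)) := by
          rw [hχ, ← zpow_natCast (a ^ v), ← zpow_mul, ← zpow_mul, ← zpow_add, mul_comm (b.repr l i) u]
      _ = a := by rw [huv, zpow_one]
  · intro hcop Γ₁ Γ₂ _ _ _ _ σ₁ σ₂ hs₁ hs₂ hk₁ hk₂
    obtain ⟨e₁⟩ := hk₁
    obtain ⟨e₂⟩ := hk₂
    obtain ⟨c₁, hc₁⟩ := exists_lift σ₁ hs₁.1 hs₁.2.1 (MonoidHom.id Q)
    obtain ⟨c₂, hc₂⟩ := exists_lift σ₂ hs₂.1 hs₂.2.1 (MonoidHom.id Q)
    rw [MonoidHom.id_comp] at hc₁ hc₂
    have hinj₁ := injOn_multiplier_of_cover σ₁ hs₁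
      ((Nat.card_congr eA.toEquiv).symm.trans (Nat.card_congr e₁.toEquiv).symm) c₁ hc₁
    have hcs₁ := surjective_of_stem σ₁ hs₁ c₁ hc₁
    have hK₁ : c₁.ker ≤ (proj Q).ker := fun x hx => by
      rw [← hc₁, MonoidHom.mem_ker, MonoidHom.comp_apply, MonoidHom.mem_ker.1 hx, map_one]
    letI : CommGroup σ₂.ker :=
      { (inferInstance : Group σ₂.ker) with
        mul_comm := fun a b => Subtype.ext (mem_center_iff.1 (hs₂.2.1 b.2) a) }
    let δ : c₁.ker →* σ₂.ker := (c₂.comp c₁.ker.subtype).codRestrict σ₂.ker fun x => by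
      rw [MonoidHom.mem_ker, MonoidHom.comp_apply, ← MonoidHom.comp_apply σ₂, hc₂]; exact hK₁ x.2
    set n := Nat.card (Abelianization Q) with hn
    have hpow : ∀ x : Cov Q, ∃ k : c₁.ker, covDegree Q (x ^ n) = covDegree Q k := fun x => by
      obtain ⟨k, hk, hkx⟩ := hdec Γ₁ σ₁ c₁ hs₁ hc₁ (x ^ n) (by
        rw [map_pow, map_pow]; exact pow_card_eq_one')
      exact ⟨⟨k, hk⟩, hkx⟩
    choose κ hκ using hpow
    have hinjd : ∀ a b : c₁.ker, covDegree Q a = covDegree Q b → a = b := fun a b h => by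
      have h1 : ((a * b⁻¹ : c₁.ker) : Cov Q) ∈ commutator (Cov Q) :=
        (mem_commutator_iff_covDegree Q).2 (by simp [h])
      exact mul_inv_eq_one.1 (Subtype.ext (hinj₁ _ ⟨hK₁ (a * b⁻¹).2, h1⟩ (a * b⁻¹).2))
    have hcopr : (Nat.card σ₂.ker).Coprime n := by
      rw [Nat.card_congr e₂.toEquiv]; exact hcop.symm
    let χ : Cov Q →* σ₂.ker := MonoidHom.mk' (fun x => (powCoprime hcopr).symm (δ (κ x))) fun x x' => by
      apply (powCoprime hcopr).injective
      rw [Equiv.apply_symm_apply]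
      show δ (κ (x * x')) = ((powCoprime hcopr).symm (δ (κ x)) * (powCoprime hcopr).symm (δ (κ x'))) ^ n
      rw [mul_pow]
      have e : ∀ z, (powCoprime hcopr).symm z ^ n = z := fun z => (powCoprime hcopr).apply_symm_apply z
      rw [e, e, ← map_mul]
      congr 1
      apply hinjd
      rw [← hκ, Subgroup.coe_mul, map_mul, ← hκ, ← hκ, map_pow, map_pow, map_pow, map_mul, mul_pow]
    let f : Cov Q →* Γ₂ := MonoidHom.mk' (fun x => c₂ x * ((χ x)⁻¹ : σ₂.ker)) fun x x' => by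
      rw [map_mul, map_mul, mul_inv]
      rw [Subgroup.coe_mul]
      exact Commute.mul_mul_mul_comm (mem_center_iff.1 (hs₂.2.1 (χ x)⁻¹.2) (c₂ x')) _ _
    have hker : c₁.ker ≤ f.ker := fun x hx => by
      have h1 : κ x = (⟨x, hx⟩ : c₁.ker) ^ n := hinjd _ _ (by rw [← hκ]; rfl)
      have h2 : χ x = δ ⟨x, hx⟩ := by
        show (powCoprime hcopr).symm (δ (κ x)) = _
        rw [Equiv.symm_apply_eq, h1, map_pow]
        rfl
      show c₂ x * ((χ x)⁻¹ : σ₂.ker) = 1
      rw [h2, Subgroup.coe_inv]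
      exact mul_inv_cancel _
    have hσf : σ₂.comp f = proj Q := MonoidHom.ext fun x => by
      show σ₂ (c₂ x * ((χ x)⁻¹ : σ₂.ker)) = _
      rw [map_mul, MonoidHom.mem_ker.1 ((χ x)⁻¹).2, mul_one, ← MonoidHom.comp_apply, hc₂]
    let g : Γ₁ →* Γ₂ := c₁.liftOfSurjective hcs₁ ⟨f, hker⟩
    have hg : σ₂.comp g = σ₁ := MonoidHom.ext fun z => by
      obtain ⟨x, rfl⟩ := hcs₁ z
      rw [MonoidHom.comp_apply, MonoidHom.liftOfRightInverse_comp_apply, ← MonoidHom.comp_apply σ₂, hσf,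
        ← hc₁]; rfl
    have hgs : Function.Surjective g := fun z => by
      obtain ⟨x, rfl⟩ := surjective_of_stem σ₂ hs₂ f hσf z
      exact ⟨c₁ x, MonoidHom.liftOfRightInverse_comp_apply _ _ _ _ x⟩
    have hcard : ∀ (Γ : Type u) [Group Γ] [Finite Γ] (σ : Γ →* Q), Function.Surjective σ →
        Nonempty (σ.ker ≃* A) → Nat.card Γ = Nat.card A * Nat.card Q := by
      intro Γ _ _ σ hsur ⟨e⟩
      rw [← σ.ker.card_mul_index, Subgroup.index_ker, MonoidHom.range_eq_top.2 hsur, Subgroup.card_top,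
        Nat.card_congr e.toEquiv]
    refine ⟨MulEquiv.ofBijective g ((Nat.bijective_iff_surjective_and_card g).2 ⟨hgs, ?_⟩), hg⟩
    rw [hcard Γ₁ σ₁ hs₁.1 ⟨e₁⟩, hcard Γ₂ σ₂ hs₂.1 ⟨e₂⟩]

end Cfsg.Agent.S3974
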