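import Cfsg.Statements.S3976
import Cfsg.Agent.Lib.FgsB.WielandtCount

set_option autoImplicit false
open Cfsg

namespace Cfsg.Agent.S3976

/-- Let `p` be a prime and `G` a group of order `p ^ m`. For every `s ≤ m` the number of normal subgroups of `G` of order `p ^ s` is congruent to `1` modulo `p`. -/
theorem result {G : Type*} [Group G] [Finite G] (p m s : ℕ) (hp : p.Prime) (hG : Nat.card G = p ^ m) (hs : s ≤ m) : Nat.card {H : Subgroup G // H.Normal ∧ Nat.card H = p ^ s} ≡ 1 [MOD p] := by
  classical
  have : Fact p.Prime := ⟨hp⟩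
  let act : MulAction G {H : Subgroup G // Nat.card H = p ^ s} :=
    { smul := fun g H => ⟨H.1.map (MulAut.conj g).toMonoidHom, by
        rw [Subgroup.card_map_of_injective (MulAut.conj g).injective]; exact H.2⟩
      one_smul := fun H => Subtype.ext (by
        show H.1.map (MulAut.conj (1 : G)).toMonoidHom = H.1
        ext x; simp)
      mul_smul := fun g h H => Subtype.ext (by
        show H.1.map (MulAut.conj (g * h)).toMonoidHom =
          (H.1.map (MulAut.conj h).toMonoidHom).map (MulAut.conj g).toMonoidHom
        rw [Subgroup.map_map]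
        congr 1
        ext x; simp [mul_assoc]) }
  have h1 := (IsPGroup.of_card hG).card_modEq_card_fixedPoints {H : Subgroup G // Nat.card H = p ^ s}
  have h2 : Nat.card (MulAction.fixedPoints G {H : Subgroup G // Nat.card H = p ^ s}) =
      Nat.card {H : Subgroup G // H.Normal ∧ Nat.card H = p ^ s} := by
    refine Nat.card_congr
      { toFun := fun H => ⟨H.1.1, ⟨fun n hn g => ?_⟩, H.1.2⟩
        invFun := fun H => ⟨⟨H.1, H.2.2⟩, fun g => Subtype.ext ?_⟩
        left_inv := fun H => rfl
        right_inv := fun H => rfl }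
    · have h3 : H.1.1.map (MulAut.conj g).toMonoidHom = H.1.1 := congrArg Subtype.val (H.2 g)
      rw [← h3]
      exact ⟨n, hn, rfl⟩
    · show H.1.map (MulAut.conj g).toMonoidHom = H.1
      exact Subgroup.mem_normalizer_iff_map_conj_eq.mp
        (by have := H.2.1; rw [Subgroup.normalizer_eq_top]; exact Subgroup.mem_top g)
  rw [h2] at h1
  exact h1.symm.trans (CfsgLib.FgsB.count_subgroups_modEq_one p s hp (hG ▸ Nat.pow_dvd_pow p hs))

end Cfsg.Agent.S3976
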