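import Cfsg.Statements.S3977
import Mathlib

set_option autoImplicit false
open Cfsg

namespace Cfsg.Agent.S3977

/-- Powers of a product when the commutator of the factors is central. -/
theorem mul_pow_of_central {G : Type*} [Group G] {x y c : G} (hc : ∀ g : G, Commute c g)
    (hxy : y * x = c * (x * y)) (n : ℕ) :
    (x * y) ^ n = c ^ n.choose 2 * (x ^ n * y ^ n) := by
  have hyn : ∀ n : ℕ, y ^ n * x = c ^ n * (x * y ^ n) := by
    intro n
    induction n with
    | zero => simp
    | succ n ih =>
      calc y ^ (n + 1) * x = y * (y ^ n * x) := by rw [pow_succ', mul_assoc]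
        _ = y * c ^ n * x * y ^ n := by rw [ih]; simp only [mul_assoc]
        _ = c ^ n * (y * x) * y ^ n := by rw [← ((hc y).pow_left n).eq]; simp only [mul_assoc]
        _ = c ^ (n + 1) * (x * y ^ (n + 1)) := by
          rw [hxy, pow_succ, pow_succ']; simp only [mul_assoc]
  induction n with
  | zero => simp
  | succ n ih =>
    calc (x * y) ^ (n + 1) = c ^ n.choose 2 * (x ^ n * (y ^ n * x) * y) := by
          rw [pow_succ, ih]; simp only [mul_assoc]
      _ = c ^ n.choose 2 * (x ^ n * c ^ n * x * y ^ n * y) := by rw [hyn]; simp only [mul_assoc]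
      _ = c ^ n.choose 2 * (c ^ n * x ^ n * x * y ^ n * y) := by
          rw [((hc (x ^ n)).pow_left n).eq]
      _ = c ^ (n + 1).choose 2 * (x ^ (n + 1) * y ^ (n + 1)) := by
          rw [Nat.choose_succ_succ, Nat.choose_one_right, Nat.add_comm n, pow_add]
          simp only [pow_succ, mul_assoc]

theorem aux {p : ℕ} (hp : p.Prime) (m : ℕ) :
    ∀ {G : Type*} [Group G] [Finite G], Nat.card G = p ^ m → ∀ s, 1 ≤ s → s < m →
      (p ≠ 2 ∨ 2 ≤ s) →
      (∀ H K : Subgroup G, Nat.card H = p ^ s → Nat.card K = p ^ s → H = K) → IsCyclic G := by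
  have : Fact p.Prime := ⟨hp⟩
  induction m with
  | zero => intro G _ _ _ s _ hsm; omega
  | succ k ih =>
    intro G _ _ hG s hs hsm h2 huniq
    by_contra hnc
    have hdvd : ∀ i, i ≤ k + 1 → p ^ i ∣ Nat.card G := fun i hi => hG ▸ Nat.pow_dvd_pow p hi
    have hmax : ∀ x : G, ∃ M : Subgroup G, Nat.card M = p ^ k ∧ x ∈ M := by
      intro x
      obtain ⟨i, hi, hox⟩ := (Nat.dvd_prime_pow hp).mp (hG ▸ orderOf_dvd_natCard x)
      have hik : i ≤ k := by
        by_contra hik
        exact hnc (isCyclic_of_orderOf_eq_card x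
          (by rw [hox, hG, show i = k + 1 by omega]))
      obtain ⟨M, hM, hle⟩ := Sylow.exists_subgroup_card_pow_prime_le p (hdvd k (by omega))
        (Subgroup.zpowers x) (by rw [Nat.card_zpowers, hox]) hik
      exact ⟨M, hM, hle (Subgroup.mem_zpowers x)⟩
    have htwo : ∃ M₁ M₂ : Subgroup G, Nat.card M₁ = p ^ k ∧ Nat.card M₂ = p ^ k ∧ M₁ ≠ M₂ := by
      obtain ⟨M, hM, -⟩ := hmax 1
      obtain ⟨x, hx⟩ : ∃ x : G, x ∉ M := by
        by_contra h
        push Not at h
        have h3 : M = ⊤ := eq_top_iff.mpr fun x _ => h x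
        rw [h3, Subgroup.card_top, hG] at hM
        have := Nat.pow_right_injective hp.two_le hM
        omega
      obtain ⟨N, hN, hxN⟩ := hmax x
      exact ⟨M, N, hM, hN, fun h => hx (h ▸ hxN)⟩
    obtain ⟨M₁, M₂, hM₁, hM₂, hne⟩ := htwo
    have hsk : s < k := by
      rcases Nat.lt_or_ge s k with h | h
      · exact h
      · exact absurd (huniq M₁ M₂ (by rw [hM₁]; congr 1; omega) (by rw [hM₂]; congr 1; omega)) hne
    have hcyc : ∀ M : Subgroup G, Nat.card M = p ^ k → IsCyclic M := by
      intro M hM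
      refine ih hM s hs hsk h2 fun H K hH hK => Subgroup.map_injective M.subtype_injective ?_
      exact huniq _ _ (by rw [Subgroup.card_map_of_injective M.subtype_injective]; exact hH)
        (by rw [Subgroup.card_map_of_injective M.subtype_injective]; exact hK)
    have hidx : ∀ M : Subgroup G, Nat.card M = p ^ k → M.index = p := by
      intro M hM
      have h := M.card_mul_index
      rw [hM, hG, pow_succ] at h
      exact Nat.eq_of_mul_eq_mul_left (pow_pos hp.pos k) h
    have hnorm : ∀ M : Subgroup G, Nat.card M = p ^ k → M.Normal := fun M hM =>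
      Subgroup.normal_of_index_eq_minFac_card
        (by rw [hidx M hM, hG, Nat.pow_minFac (by omega), hp.minFac_eq])
    have := hcyc M₁ hM₁
    have := hcyc M₂ hM₂
    have := hnorm M₁ hM₁
    have := hnorm M₂ hM₂
    set D := M₁ ⊓ M₂ with hD
    -- the whole group is generated by the two maximal subgroups
    have hsup : M₁ ⊔ M₂ = ⊤ := by
      obtain ⟨i, hi, hci⟩ := (Nat.dvd_prime_pow hp).mp (hG ▸ Subgroup.card_subgroup_dvd_card (M₁ ⊔ M₂))
      apply Subgroup.eq_top_of_card_eq
      rw [hci, hG]
      congr 1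
      by_contra hik
      have h1 := Subgroup.eq_of_le_of_card_ge (le_sup_left : M₁ ≤ M₁ ⊔ M₂)
        (by rw [hci, hM₁]; exact Nat.pow_le_pow_right hp.pos (by omega))
      have h3 : M₂ ≤ M₁ := h1 ▸ le_sup_right
      exact hne (Subgroup.eq_of_le_of_card_ge h3 (by rw [hM₁, hM₂])).symm
    have hcomm₁ : ∀ M : Subgroup G, IsCyclic M → ∀ a ∈ M, ∀ b ∈ M, Commute a b := by
      intro M _ a ha b hb
      exact congrArg Subtype.val ((IsCyclic.commGroup (α := M)).mul_comm ⟨a, ha⟩ ⟨b, hb⟩)
    have hcent : ∀ d ∈ D, ∀ g : G, Commute d g := by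
      intro d hd g
      have hg : g ∈ Subgroup.centralizer ({d} : Set G) := by
        have hle : M₁ ⊔ M₂ ≤ Subgroup.centralizer ({d} : Set G) := sup_le
          (fun a ha => Subgroup.mem_centralizer_singleton_iff.mpr
            (hcomm₁ M₁ inferInstance a ha d hd.1).eq)
          (fun a ha => Subgroup.mem_centralizer_singleton_iff.mpr
            (hcomm₁ M₂ inferInstance a ha d hd.2).eq)
        exact hle (hsup ▸ Subgroup.mem_top g)
      exact (Subgroup.mem_centralizer_singleton_iff.mp hg).symm
    have hpowD : ∀ x : G, x ^ p ∈ D := fun x =>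
      ⟨(hidx M₁ hM₁) ▸ Subgroup.pow_index_mem M₁ x, (hidx M₂ hM₂) ▸ Subgroup.pow_index_mem M₂ x⟩
    have hcomD : ∀ x y : G, y * x * y⁻¹ * x⁻¹ ∈ D := by
      have key : ∀ (M : Subgroup G) [M.Normal], Nat.card M = p ^ k → ∀ x y : G,
          y * x * y⁻¹ * x⁻¹ ∈ M := by
        intro M _ hM x y
        have : IsCyclic (G ⧸ M) := isCyclic_of_prime_card (p := p) (by
          rw [← Subgroup.index_eq_card, hidx M hM])
        rw [← QuotientGroup.eq_one_iff]
        simp only [QuotientGroup.mk_mul, QuotientGroup.mk_inv]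
        rw [(IsCyclic.commGroup (α := G ⧸ M)).mul_comm (y : G ⧸ M) (x : G ⧸ M)]
        group
      exact fun x y => ⟨key M₁ hM₁ x y, key M₂ hM₂ x y⟩
    -- the exponent
    set e := if p = 2 then 2 else 1 with he
    have hes : e ≤ s := by rw [he]; split_ifs with h <;> omega
    have he1 : 1 ≤ e := by rw [he]; split_ifs <;> omega
    have hchoose : p ∣ (p ^ e).choose 2 := by
      rw [he]
      split_ifs with h
      · subst h; decide
      · rw [pow_one]
        exact hp.dvd_choose_self (by norm_num) (lt_of_le_of_ne hp.two_le (Ne.symm h))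
    have hhom : ∀ x y : G, (x * y) ^ p ^ e = x ^ p ^ e * y ^ p ^ e := by
      intro x y
      set c := y * x * y⁻¹ * x⁻¹ with hc
      have hxy : y * x = c * (x * y) := by rw [hc]; group
      have hcc := hcent c (hcomD x y)
      rw [mul_pow_of_central hcc hxy]
      have hcp : c ^ p = 1 := by
        -- conjugation by `y` multiplies `x` by the central `c`, and fixes `x ^ p`
        have h3 : (y * x * y⁻¹) ^ p = c ^ p * x ^ p := by
          rw [← (hcc x).mul_pow, hc]; group
        rw [conj_pow, ← (hcent _ (hpowD x) y).eq, mul_inv_cancel_right] at h3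
        exact mul_eq_right.mp h3.symm
      obtain ⟨r, hr⟩ := hchoose
      rw [hr, pow_mul, hcp, one_pow, one_mul]
    let φ : G →* G := MonoidHom.mk' (fun x => x ^ p ^ e) hhom
    -- the image is small
    have hDc : IsCyclic D := isCyclic_of_injective (Subgroup.inclusion (inf_le_left : D ≤ M₁))
      (Subgroup.inclusion_injective _)
    obtain ⟨g, hg⟩ := IsCyclic.exists_generator (α := D)
    obtain ⟨j, -, hj⟩ := (Nat.dvd_prime_pow hp).mp (hG ▸ Subgroup.card_subgroup_dvd_card D)
    have hjk : j + 1 ≤ k := by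
      by_contra h
      have hD1 : D = M₁ := Subgroup.eq_of_le_of_card_ge inf_le_left
        (by rw [hj, hM₁]; exact Nat.pow_le_pow_right hp.pos (by omega))
      have h3 : M₁ ≤ M₂ := hD1 ▸ inf_le_right
      exact hne (Subgroup.eq_of_le_of_card_ge h3 (by rw [hM₁, hM₂]))
    have hog : (g : G) ^ p ^ j = 1 := by
      rw [← hj]
      exact orderOf_dvd_iff_pow_eq_one.mp (Subgroup.orderOf_dvd_natCard D g.2)
    set w := (g : G) ^ p ^ (e - 1) with hw
    have hrange : φ.range ≤ Subgroup.zpowers w := by
      rintro _ ⟨x, rfl⟩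
      obtain ⟨i, hi⟩ := hg ⟨x ^ p, hpowD x⟩
      refine ⟨i, ?_⟩
      have hi' : (g : G) ^ i = x ^ p := by
        have := congrArg Subtype.val hi
        simpa using this
      show ((g : G) ^ p ^ (e - 1)) ^ i = x ^ p ^ e
      rw [← zpow_natCast, ← zpow_mul, mul_comm, zpow_mul, hi', zpow_natCast, ← pow_mul,
        ← pow_succ', Nat.sub_add_cancel he1]
    have hcr : Nat.card φ.range ≤ p ^ (k - e) := by
      refine (Nat.le_of_dvd Nat.card_pos (Subgroup.card_dvd_of_le hrange)).trans ?_
      rw [Nat.card_zpowers]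
      refine (Nat.le_of_dvd (pow_pos hp.pos _) (orderOf_dvd_of_pow_eq_one (n := p ^ (k - e)) ?_))
      rw [hw, ← pow_mul, ← pow_add]
      obtain ⟨t, ht⟩ := Nat.exists_eq_add_of_le (show j ≤ e - 1 + (k - e) by omega)
      rw [ht, pow_add, pow_mul, hog, one_pow]
    have hker : p ^ (e + 1) ≤ Nat.card φ.ker := by
      have h1 := φ.ker.card_mul_index
      rw [Subgroup.index_ker, hG] at h1
      by_contra h
      have h3 : Nat.card φ.ker * Nat.card φ.range < p ^ (e + 1) * p ^ (k - e) :=
        lt_of_le_of_lt (Nat.mul_le_mul le_rfl hcr)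
          (Nat.mul_lt_mul_of_pos_right (not_le.mp h) (pow_pos hp.pos _))
      rw [h1, ← pow_add, show e + 1 + (k - e) = k + 1 by omega] at h3
      exact lt_irrefl _ h3
    -- every element killed by the power map lies in the unique subgroup
    obtain ⟨H, hH⟩ := Sylow.exists_subgroup_card_pow_prime p (hdvd s (by omega))
    have hHc : IsCyclic H := by
      obtain ⟨K, hK, hKM⟩ : ∃ K : Subgroup G, Nat.card K = p ^ s ∧ K ≤ M₁ := by
        obtain ⟨K, hK⟩ := Sylow.exists_subgroup_card_pow_prime (G := M₁) p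
          (hM₁ ▸ Nat.pow_dvd_pow p hsk.le)
        exact ⟨K.map M₁.subtype, by rw [Subgroup.card_map_of_injective M₁.subtype_injective]; exact hK,
          Subgroup.map_subtype_le K⟩
      rw [huniq H K hH hK]
      exact isCyclic_of_injective (Subgroup.inclusion hKM) (Subgroup.inclusion_injective _)
    have hsub : ∀ x ∈ φ.ker, x ∈ H := by
      intro x hx
      obtain ⟨i, hi, hox⟩ := (Nat.dvd_prime_pow hp).mp
        (orderOf_dvd_of_pow_eq_one (show x ^ p ^ e = 1 from hx))
      obtain ⟨K, hK, hle⟩ := Sylow.exists_subgroup_card_pow_prime_le p (hdvd s (by omega))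
        (Subgroup.zpowers x) (by rw [Nat.card_zpowers, hox]) (hi.trans hes)
      rw [huniq H K hH hK]
      exact hle (Subgroup.mem_zpowers x)
    classical
    have : Fintype H := Fintype.ofFinite H
    have hle := IsCyclic.card_pow_eq_one_le (α := H) (pow_pos hp.pos e)
    rw [← Fintype.card_subtype, ← Nat.card_eq_fintype_card] at hle
    have hinj : Nat.card φ.ker ≤ Nat.card {x : H // x ^ p ^ e = 1} :=
      Nat.card_le_card_of_injective
        (fun x => ⟨⟨x.1, hsub x.1 x.2⟩, Subtype.ext (show (x.1 : G) ^ p ^ e = 1 from x.2)⟩)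
        (fun a b h => Subtype.ext (congrArg (fun z => (z.1 : G)) h))
    have := Nat.pow_lt_pow_right hp.one_lt (show e < e + 1 by omega)
    omega

/-- Let `p` be a prime and `G` a group of order `p ^ m` which has exactly one subgroup of order `p ^ s`, where `1 ≤ s < m`, and where `s ≥ 2` if `p = 2`. Then `G` is cyclic. (For `p = 2` and `s = 1` the generalized quaternion groups also occur; that case is the classical criterion for a unique involution.) -/
theorem result {G : Type*} [Group G] [Finite G] (p m s : ℕ) (hp : p.Prime) (hG : Nat.card G = p ^ m) (hs : 1 ≤ s) (hsm : s < m) (h2 : p ≠ 2 ∨ 2 ≤ s) (huniq : ∀ H K : Subgroup G, Nat.card H = p ^ s → Nat.card K = p ^ s → H = K) : IsCyclic G := by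
  exact aux hp m hG s hs hsm h2 huniq

end Cfsg.Agent.S3977
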