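import Cfsg.Statements.S3978
import Cfsg.Agent.Lib.Schur.Lift
open CfsgLib.Schur Cfsg Subgroup

set_option autoImplicit false
open Cfsg

namespace Cfsg.Agent.S3978

/-- A finite group `Q` has trivial Schur multiplier if and only if, for every `n`, every homomorphism from `Q` to the projective general linear group (the quotient of `GL n ℂ` by its centre) lifts to a homomorphism into `GL n ℂ`. -/
theorem result {Q : Type*} [Group Q] [Finite Q] : Cfsg.HasCyclicSchurMultiplier Q 1 ↔ ∀ (n : ℕ) (γ : Q →* (GL (Fin n) ℂ ⧸ Subgroup.center (GL (Fin n) ℂ))), ∃ ρ : Q →* GL (Fin n) ℂ, (QuotientGroup.mk' (Subgroup.center (GL (Fin n) ℂ))).comp ρ = γ := by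
  have hid : IsStemExtension (MonoidHom.id Q) :=
    ⟨Function.surjective_id, by simp, by simp⟩
  obtain ⟨f, hf⟩ := exists_lift (MonoidHom.id Q) hid.1 hid.2.1 (MonoidHom.id Q)
  rw [MonoidHom.id_comp, MonoidHom.id_comp] at hf
  have hf' : (MonoidHom.id Q).comp f = proj Q := by rw [MonoidHom.id_comp]; exact hf
  constructor
  · intro h n γ
    haveI : Subsingleton (Mult Q) := by
      show Subsingleton (multiplier Q)
      rw [hasCyclicSchurMultiplier_one_iff.1 h]; infer_instance
    haveI : Subsingleton (MonoidHom.id Q).ker := by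
      rw [show (MonoidHom.id Q).ker = ⊥ from le_bot_iff.1 (fun x hx => hx)]; infer_instance
    obtain ⟨ρ, hρ⟩ := exists_projective_lift (MonoidHom.id Q) hid
      (by rw [Nat.card_unique, Nat.card_unique]) n γ
    exact ⟨ρ, by rw [hρ, MonoidHom.comp_id]⟩
  · intro hl
    rw [hasCyclicSchurMultiplier_one_iff, eq_bot_iff]
    intro m hm
    refine mem_bot.2 (injOn_of_projective_lift (MonoidHom.id Q) hid f hf' (fun n γ => ?_) m hm
      (by rw [hf]; exact hm.1))
    obtain ⟨ρ, hρ⟩ := hl n γ
    exact ⟨ρ, by rw [hρ, MonoidHom.comp_id]⟩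

end Cfsg.Agent.S3978
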