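import Cfsg.Statements.S3980
import Cfsg.Agent.Lib.Schur.Product
open CfsgLib.Schur TensorProduct

set_option autoImplicit false
universe u v w
open Cfsg

namespace Cfsg.Agent.S3980

/-- Let `Q₁` and `Q₂` be finite groups whose commutator quotients have coprime orders, with Schur multipliers `A` and `B`. Then the Schur multiplier of `Q₁ × Q₂` is isomorphic to `A × B`. -/
theorem result {Q₁ : Type u} {Q₂ : Type v} [Group Q₁] [Group Q₂] [Finite Q₁] [Finite Q₂] {A B : Type w} [CommGroup A] [CommGroup B] (hA : Cfsg.HasSchurMultiplier Q₁ A) (hB : Cfsg.HasSchurMultiplier Q₂ B) (hcop : Nat.Coprime (Nat.card (Abelianization Q₁)) (Nat.card (Abelianization Q₂))) : Cfsg.HasSchurMultiplier (Q₁ × Q₂) (A × B) := by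
  have h := hasSchurMultiplier_prod hA hB
  haveI : Finite Q₁ := inferInstance
  obtain ⟨eP⟩ := nonempty_equiv_mult h
  refine hasSchurMultiplier_iff.2 ⟨MulEquiv.trans ?_ eP⟩
  haveI : Finite (Abelianization Q₁) := Finite.of_surjective _ QuotientGroup.mk_surjective
  haveI : Finite (Abelianization Q₂) := Finite.of_surjective _ QuotientGroup.mk_surjective
  have hz : ∀ z : AbTensor Q₁ Q₂, z = 0 := by
    intro z
    have h1 : ∀ y : AbTensor Q₁ Q₂, Nat.card (Abelianization Q₁) • y = 0 := by
      intro y
      induction y using TensorProduct.induction_on with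
      | zero => simp
      | tmul a b =>
        rw [smul_tmul', show Nat.card (Abelianization Q₁) • a = 0 from card_nsmul_eq_zero',
          zero_tmul]
      | add a b ha hb => rw [smul_add, ha, hb, add_zero]
    have h2 : ∀ y : AbTensor Q₁ Q₂, Nat.card (Abelianization Q₂) • y = 0 := by
      intro y
      induction y using TensorProduct.induction_on with
      | zero => simp
      | tmul a b =>
        rw [← tmul_smul, show Nat.card (Abelianization Q₂) • b = 0 from card_nsmul_eq_zero',
          tmul_zero]
      | add a b ha hb => rw [smul_add, ha, hb, add_zero]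
    have h3 := Nat.dvd_gcd (addOrderOf_dvd_of_nsmul_eq_zero (h1 z)) (addOrderOf_dvd_of_nsmul_eq_zero (h2 z))
    rw [Nat.Coprime.gcd_eq_one hcop, Nat.dvd_one, AddMonoid.addOrderOf_eq_one_iff] at h3
    exact h3
  exact { toFun := fun p => (p.1, p.2, 1)
          invFun := fun p => (p.1, p.2.1)
          left_inv := fun _ => rfl
          right_inv := fun p => Prod.ext rfl (Prod.ext rfl (congrArg Multiplicative.ofAdd (hz _).symm))
          map_mul' := fun _ _ => Prod.ext rfl (Prod.ext rfl (mul_one 1).symm) }

end Cfsg.Agent.S3980
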