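import Cfsg.Statements.S3981
import Mathlib

set_option autoImplicit false
open Cfsg

namespace Cfsg.Agent.S3981

/-- Let p be an odd prime, Q a p-subgroup of the finite group G and y an involution normalizing Q. Then Q is maximal among the p-subgroups of G normalized by y if and only if the image of y in N_G(Q) ⧸ Q neither inverts nor centralizes any element of order p there; the latter is phrased inside N_G(Q): for every x in N_G(Q) outside Q with x ^ p ∈ Q, neither y x y⁻¹ x nor y x y⁻¹ x⁻¹ lies in Q. -/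
theorem result {G : Type*} [Group G] [Finite G] (p : ℕ) [Fact p.Prime] (hp2 : p ≠ 2) (Q : Subgroup G) (hQ : IsPGroup p ↥Q) (y : G) (hy : orderOf y = 2) (hyQ : y ∈ Subgroup.normalizer (Q : Set G)) : (∀ R : Subgroup G, IsPGroup p ↥R → Q ≤ R → y ∈ Subgroup.normalizer (R : Set G) → R = Q) ↔ ∀ x : G, x ∈ Subgroup.normalizer (Q : Set G) → x ∉ Q → x ^ p ∈ Q → (y * x * y⁻¹ * x ∉ Q ∧ y * x * y⁻¹ * x⁻¹ ∉ Q) := by
  classical
  have hp : p.Prime := Fact.out
  have hyinv : y⁻¹ = y := inv_eq_of_mul_eq_one_right (by rw [← pow_two, ← hy]; exact pow_orderOf_eq_one y)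
  have hy2 : y * y = 1 := by rw [← pow_two, ← hy]; exact pow_orderOf_eq_one y
  constructor
  · intro hmax x hxN hxQ hxp
    have hX : IsPGroup p (Subgroup.zpowers x) := by
      obtain ⟨k, hk⟩ := IsPGroup.iff_orderOf.mp hQ ⟨x ^ p, hxp⟩
      rw [Subgroup.orderOf_mk] at hk
      obtain ⟨i, -, hi⟩ := (Nat.dvd_prime_pow hp).mp (orderOf_dvd_of_pow_eq_one (n := p ^ (k + 1))
        (by rw [pow_succ', pow_mul, ← hk]; exact pow_orderOf_eq_one _ : x ^ p ^ (k + 1) = 1))
      exact IsPGroup.of_card (n := i) (by rw [Nat.card_zpowers, hi])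
    have hR : IsPGroup p ↥(Subgroup.zpowers x ⊔ Q) :=
      hX.to_sup_of_normal_right' hQ (Subgroup.zpowers_le.mpr hxN)
    have key : y * x * y⁻¹ ∈ Subgroup.zpowers x ⊔ Q → False := by
      intro hyx
      have hyR : y ∈ Subgroup.normalizer ((Subgroup.zpowers x ⊔ Q : Subgroup G) : Set G) := by
        rw [Subgroup.mem_normalizer_iff_map_conj_eq]
        refine Subgroup.eq_of_le_of_card_ge ?_
          (le_of_eq (Subgroup.card_map_of_injective (MulAut.conj y).injective).symm)
        rw [Subgroup.map_le_iff_le_comap]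
        refine sup_le (Subgroup.zpowers_le.mpr (by simpa using hyx)) fun q hq => ?_
        have := (Subgroup.mem_normalizer_iff.mp hyQ q).mp hq
        simpa using Subgroup.mem_sup_right (S := Subgroup.zpowers x) this
      have := hmax _ hR le_sup_right hyR
      exact hxQ (this ▸ Subgroup.mem_sup_left (Subgroup.mem_zpowers x))
    constructor <;> intro h <;> refine key ?_
    · have e : y * x * y⁻¹ = y * x * y⁻¹ * x * x⁻¹ := by group
      rw [e]
      exact Subgroup.mul_mem _ (Subgroup.mem_sup_right h)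
        (Subgroup.inv_mem _ (Subgroup.mem_sup_left (Subgroup.mem_zpowers x)))
    · have e : y * x * y⁻¹ = y * x * y⁻¹ * x⁻¹ * x := by group
      rw [e]
      exact Subgroup.mul_mem _ (Subgroup.mem_sup_right h)
        (Subgroup.mem_sup_left (Subgroup.mem_zpowers x))
  · intro hcond R hR hQR hyR
    by_contra hne
    have : Finite R := inferInstance
    have hnil : Group.IsNilpotent R := hR.isNilpotent
    have hlt : Q.subgroupOf R < ⊤ := by
      rw [lt_top_iff_ne_top, Ne, Subgroup.subgroupOf_eq_top]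
      exact fun h => hne (le_antisymm h hQR)
    obtain ⟨n, hnN, hnR⟩ := SetLike.exists_of_lt (Group.normalizerCondition_of_isNilpotent _ hlt)
    rw [Subgroup.mem_subgroupOf] at hnR
    have hnN' : (n : G) ∈ Subgroup.normalizer (Q : Set G) := by
      rw [Subgroup.mem_normalizer_iff]
      intro r
      constructor
      · intro hr
        simpa [Subgroup.mem_subgroupOf] using
          (Subgroup.mem_normalizer_iff.mp hnN ⟨r, hQR hr⟩).mp (by simpa [Subgroup.mem_subgroupOf] using hr)
      · intro hr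
        have hrS : r ∈ R := by
          have h1 := R.mul_mem (R.mul_mem (R.inv_mem n.2) (hQR hr)) n.2
          simpa [mul_assoc] using h1
        simpa [Subgroup.mem_subgroupOf] using
          (Subgroup.mem_normalizer_iff.mp hnN ⟨r, hrS⟩).mpr (by simpa [Subgroup.mem_subgroupOf] using hr)
    -- take the last `p`-power power outside `Q`
    have last : ∀ c : G, c ∈ R → c ∉ Q → ∃ i : ℕ, c ^ p ^ i ∉ Q ∧ (c ^ p ^ i) ^ p ∈ Q := by
      intro c hc hcQ
      obtain ⟨k, hk⟩ := IsPGroup.iff_orderOf.mp hR ⟨c, hc⟩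
      rw [Subgroup.orderOf_mk] at hk
      have hex : ∃ i, c ^ p ^ i ∈ Q := ⟨k, by rw [← hk, pow_orderOf_eq_one]; exact Q.one_mem⟩
      have h0 : Nat.find hex ≠ 0 := fun h => hcQ (by simpa [h] using Nat.find_spec hex)
      refine ⟨Nat.find hex - 1, Nat.find_min hex (by omega), ?_⟩
      rw [← pow_mul, ← pow_succ, Nat.sub_add_cancel (Nat.one_le_iff_ne_zero.mpr h0)]
      exact Nat.find_spec hex
    obtain ⟨i, hz, hzp⟩ := last n n.2 hnR
    set z := (n : G) ^ p ^ i
    have hzR : z ∈ R := R.pow_mem n.2 _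
    have hzN : z ∈ Subgroup.normalizer (Q : Set G) := Subgroup.pow_mem _ hnN' _
    set c := z⁻¹ * (y * z * y⁻¹) with hc
    have hcR : c ∈ R := R.mul_mem (R.inv_mem hzR) ((Subgroup.mem_normalizer_iff.mp hyR z).mp hzR)
    have hcN : c ∈ Subgroup.normalizer (Q : Set G) :=
      mul_mem (inv_mem hzN) (mul_mem (mul_mem hyQ hzN) (inv_mem hyQ))
    by_cases hcQ : c ∈ Q
    · have h1 := (Subgroup.mem_normalizer_iff.mp hzN c).mp hcQ
      refine (hcond z hzN hz hzp).2 ?_
      convert h1 using 1
      rw [hc]; group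
    · obtain ⟨j, hj, hjp⟩ := last c hcR hcQ
      refine (hcond _ (Subgroup.pow_mem _ hcN _) hj hjp).1 ?_
      have hinv : y * c * y⁻¹ = c⁻¹ := by
        rw [hc]
        calc y * (z⁻¹ * (y * z * y⁻¹)) * y⁻¹ = y * z⁻¹ * (y * z * (y * y)⁻¹) := by group
          _ = y * z⁻¹ * (y⁻¹ * z) := by rw [hy2, inv_one, mul_one, hyinv]
          _ = (z⁻¹ * (y * z * y⁻¹))⁻¹ := by group
      rw [← conj_pow, hinv, inv_pow, inv_mul_cancel]
      exact Q.one_mem

end Cfsg.Agent.S3981
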