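import Cfsg.Statements.S3982
import Mathlib
import Cfsg.Agent.Lib.Coprime.Action

set_option autoImplicit false
open Cfsg

namespace Cfsg.Agent.S3982

/-- Let p be an odd prime and G a finite group of even order divisible by p in which the centralizer of every non-identity p-element has odd order. If some nontrivial p-subgroup of G has a normalizer of even order, then the normalizer of every Sylow p-subgroup of G has even order. -/
theorem result {G : Type*} [Group G] [Finite G] (p : ℕ) [Fact p.Prime] (hp2 : p ≠ 2) (hpG : p ∣ Nat.card G) (h2G : 2 ∣ Nat.card G) (hC : ∀ g : G, g ≠ 1 → (∃ k : ℕ, orderOf g = p ^ k) → Odd (Nat.card ↥(Subgroup.centralizer ({g} : Set G)))) (Q : Subgroup G) (hQ : IsPGroup p ↥Q) (hQ1 : Q ≠ ⊥) (hev : Even (Nat.card ↥(Subgroup.normalizer (Q : Set G)))) (P : Sylow p G) : Even (Nat.card ↥(Subgroup.normalizer ((P : Subgroup G) : Set G))) := by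
  classical
  have hp : p.Prime := Fact.out
  have hne_of : ∀ R : Subgroup G, IsPGroup p R → ∀ g ∈ R, g ≠ 1 →
      Odd (Nat.card ↥(Subgroup.centralizer ({g} : Set G))) := by
    intro R hR g hg hg1
    obtain ⟨k, hk⟩ := IsPGroup.iff_orderOf.mp hR ⟨g, hg⟩
    exact hC g hg1 ⟨k, by rwa [Subgroup.orderOf_mk] at hk⟩
  -- an involution normalizing `Q`
  obtain ⟨⟨y, hyQ⟩, hy⟩ := exists_prime_orderOf_dvd_card' (G := Subgroup.normalizer (Q : Set G)) 2 hev.two_dvd
  rw [Subgroup.orderOf_mk] at hy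
  have hy2 : y * y = 1 := by rw [← pow_two, ← hy]; exact pow_orderOf_eq_one y
  have hyinv : y⁻¹ = y := inv_eq_of_mul_eq_one_right hy2
  obtain ⟨R, hQR, hRmax⟩ := Finite.exists_le_maximal
    (p := fun R : Subgroup G => IsPGroup p R ∧ y ∈ Subgroup.normalizer (R : Set G)) (a := Q) ⟨hQ, hyQ⟩
  obtain ⟨hRp, hyR⟩ := hRmax.prop
  have hR1 : R ≠ ⊥ := fun h => hQ1 (eq_bot_iff.mpr (h ▸ hQR))
  -- `y` inverts `R`
  have hfix : ∀ g ∈ R, y * g * y⁻¹ = g → g = 1 := by
    intro g hg hyg
    by_contra hg1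
    have hyc : y ∈ Subgroup.centralizer ({g} : Set G) :=
      Subgroup.mem_centralizer_singleton_iff.mpr (mul_inv_eq_iff_eq_mul.mp hyg)
    have h2 : 2 ∣ Nat.card ↥(Subgroup.centralizer ({g} : Set G)) :=
      hy ▸ Subgroup.orderOf_dvd_natCard _ hyc
    exact Nat.not_even_iff_odd.mpr (hne_of R hRp g hg hg1) (even_iff_two_dvd.mpr h2)
  have hconj : ∀ g ∈ R, y * g * y⁻¹ ∈ R := fun g hg => (Subgroup.mem_normalizer_iff.mp hyR g).mp hg
  let f : R → R := fun g => ⟨g.1⁻¹ * (y * g.1 * y⁻¹), R.mul_mem (R.inv_mem g.2) (hconj _ g.2)⟩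
  have hf : Function.Surjective f := by
    refine Finite.surjective_of_injective fun a b hab => Subtype.ext ?_
    have h1 : a.1⁻¹ * (y * a.1 * y⁻¹) = b.1⁻¹ * (y * b.1 * y⁻¹) := congrArg Subtype.val hab
    have h2 : y * (b.1 * a.1⁻¹) * y⁻¹ = b.1 * a.1⁻¹ := by
      calc y * (b.1 * a.1⁻¹) * y⁻¹
          = b.1 * (b.1⁻¹ * (y * b.1 * y⁻¹)) * (a.1⁻¹ * (y * a.1 * y⁻¹))⁻¹ * a.1⁻¹ := by group
        _ = b.1 * a.1⁻¹ := by rw [h1]; group
    exact (mul_inv_eq_one.mp (hfix _ (R.mul_mem b.2 (R.inv_mem a.2)) h2)).symm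
  have hinv : ∀ g ∈ R, y * g * y⁻¹ = g⁻¹ := by
    intro g hg
    obtain ⟨a, ha⟩ := hf ⟨g, hg⟩
    have h1 : a.1⁻¹ * (y * a.1 * y⁻¹) = g := congrArg Subtype.val ha
    rw [← h1]
    calc y * (a.1⁻¹ * (y * a.1 * y⁻¹)) * y⁻¹
        = y * a.1⁻¹ * (y * a.1 * (y * y)⁻¹) := by group
      _ = y * a.1⁻¹ * (y⁻¹ * a.1) := by rw [hy2, inv_one, mul_one, hyinv]
      _ = (a.1⁻¹ * (y * a.1 * y⁻¹))⁻¹ := by group
  -- the centralizer of `R` has odd order
  set C := Subgroup.centralizer (R : Set G) with hCdef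
  obtain ⟨g, hg, hg1⟩ : ∃ g ∈ R, g ≠ (1 : G) := by
    by_contra h
    push Not at h
    exact hR1 ((Subgroup.eq_bot_iff_forall R).mpr h)
  have hCodd : Odd (Nat.card C) := (hne_of R hRp g hg hg1).of_dvd_nat
    (Subgroup.card_dvd_of_le (Subgroup.centralizer_le (Set.singleton_subset_iff.mpr hg)))
  -- `R` is a Sylow subgroup
  obtain ⟨S, hRS⟩ := hRp.exists_le_sylow
  have hSR : (S : Subgroup G) = R := by
    by_contra hne
    have : Finite (S : Subgroup G) := inferInstance
    have hnil : Group.IsNilpotent (S : Subgroup G) := S.isPGroup'.isNilpotent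
    have hlt : R.subgroupOf (S : Subgroup G) < ⊤ := by
      rw [lt_top_iff_ne_top, Ne, Subgroup.subgroupOf_eq_top]
      exact fun h => hne (le_antisymm h hRS)
    obtain ⟨n, hnN, hnR⟩ := SetLike.exists_of_lt (normalizerCondition_of_isNilpotent _ hlt)
    rw [Subgroup.mem_subgroupOf] at hnR
    have hnR' : (n : G) ∈ Subgroup.normalizer (R : Set G) := by
      rw [Subgroup.mem_normalizer_iff]
      intro r
      constructor
      · intro hr
        simpa [Subgroup.mem_subgroupOf] using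
          (Subgroup.mem_normalizer_iff.mp hnN ⟨r, hRS hr⟩).mp (by simpa [Subgroup.mem_subgroupOf] using hr)
      · intro hr
        have hrS : r ∈ (S : Subgroup G) := by
          have h1 := (S : Subgroup G).mul_mem ((S : Subgroup G).mul_mem ((S : Subgroup G).inv_mem n.2) (hRS hr)) n.2
          simpa [mul_assoc] using h1
        simpa [Subgroup.mem_subgroupOf] using
          (Subgroup.mem_normalizer_iff.mp hnN ⟨r, hrS⟩).mpr (by simpa [Subgroup.mem_subgroupOf] using hr)
    set T := Subgroup.zpowers (n : G) ⊔ C with hT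
    have hNC : Subgroup.normalizer (R : Set G) ≤ Subgroup.normalizer (C : Set G) :=
      CfsgLib.Coprime.le_normalizer_centralizer le_rfl
    have hzN : Subgroup.zpowers (n : G) ≤ Subgroup.normalizer (R : Set G) :=
      Subgroup.zpowers_le.mpr hnR'
    have hTodd : Odd (Nat.card T) := by
      refine Odd.of_dvd_nat (Odd.mul ?_ hCodd) (CfsgLib.Coprime.card_sup_dvd (hzN.trans hNC))
      obtain ⟨k, hk⟩ := IsPGroup.iff_orderOf.mp S.isPGroup' n
      rw [Nat.card_zpowers, ← Subgroup.orderOf_coe] at *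
      rw [hk]
      exact (hp.odd_of_ne_two hp2).pow
    -- `n⁻¹ y n y⁻¹` centralizes `R`
    have hm : (n : G)⁻¹ * y * n * y⁻¹ ∈ C := by
      rw [hCdef, Subgroup.mem_centralizer_iff]
      intro r hr
      have hs : (n : G) * r⁻¹ * (n : G)⁻¹ ∈ R :=
        (Subgroup.mem_normalizer_iff.mp hnR' _).mp (R.inv_mem hr)
      have h1 := hinv _ hs
      have h2 : y⁻¹ * r * y = r⁻¹ := by
        have := hinv r hr
        rwa [hyinv] at this ⊢
      have h3 : (n : G)⁻¹ * y * n * y⁻¹ * r * ((n : G)⁻¹ * y * n * y⁻¹)⁻¹ = r := by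
        calc (n : G)⁻¹ * y * n * y⁻¹ * r * ((n : G)⁻¹ * y * n * y⁻¹)⁻¹
            = (n : G)⁻¹ * (y * ((n : G) * (y⁻¹ * r * y) * (n : G)⁻¹) * y⁻¹) * n := by group
          _ = r := by rw [h2, h1]; group
      exact (mul_inv_eq_iff_eq_mul.mp h3).symm
    have hyT : y ∈ Subgroup.normalizer (T : Set G) := by
      have hn : y * (n : G) * y⁻¹ ∈ T := by
        have : y * (n : G) * y⁻¹ = n * ((n : G)⁻¹ * y * n * y⁻¹) := by group
        rw [this]
        exact T.mul_mem (Subgroup.mem_sup_left (Subgroup.mem_zpowers _)) (Subgroup.mem_sup_right hm)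
      rw [Subgroup.mem_normalizer_iff_map_conj_eq]
      refine Subgroup.eq_of_le_of_card_ge ?_
        (le_of_eq (Subgroup.card_map_of_injective (MulAut.conj y).injective).symm)
      rw [Subgroup.map_le_iff_le_comap]
      refine sup_le (Subgroup.zpowers_le.mpr ?_) ?_
      · simpa using hn
      · intro c hc
        have := (Subgroup.mem_normalizer_iff.mp (hNC hyR) c).mp hc
        simpa using Subgroup.mem_sup_right (S := Subgroup.zpowers (n : G)) this
    have hA : Subgroup.zpowers y ≤ Subgroup.normalizer (T : Set G) := Subgroup.zpowers_le.mpr hyT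
    have hRT : R ≤ T := by
      refine le_trans ?_ le_sup_right
      intro r hr
      rw [hCdef, Subgroup.mem_centralizer_iff]
      intro s hs
      have h1 := hinv _ (R.mul_mem hr hs)
      rw [mul_inv_rev] at h1
      have h2 : y * (r * s) * y⁻¹ = r⁻¹ * s⁻¹ := by
        rw [← hinv r hr, ← hinv s hs]; group
      rw [h2] at h1
      have := congrArg Inv.inv h1
      simpa using this
    obtain ⟨P', hRP', hAP'⟩ := CfsgLib.Coprime.exists_invariant_sylow_ge (p := p) hA
      (by rw [Nat.card_zpowers, hy]; exact (Nat.coprime_two_left).mpr hTodd)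
      (Or.inl inferInstance) hRT hRp (Subgroup.zpowers_le.mpr hyR)
    -- maximality forces this Sylow subgroup of `T` to be `R`
    have hP'R : (P' : Subgroup T).map T.subtype = R :=
      le_antisymm (hRmax.le_of_ge ⟨P'.isPGroup'.map _, hAP' (Subgroup.mem_zpowers y)⟩ hRP') hRP'
    -- but `R` extended by `n` is a larger `p`-subgroup of `T`
    have hU : IsPGroup p ↥(Subgroup.zpowers (n : G) ⊔ R) :=
      S.isPGroup'.to_le (sup_le (Subgroup.zpowers_le.mpr n.2) hRS)
    have hUT : Subgroup.zpowers (n : G) ⊔ R ≤ T := sup_le le_sup_left hRT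
    obtain ⟨P'', hP''⟩ := (hU.comap_of_injective T.subtype T.subtype_injective).exists_le_sylow
    have h1 : Nat.card ↥(Subgroup.zpowers (n : G) ⊔ R) ≤ Nat.card R := by
      conv_rhs => rw [← hP'R]
      rw [Subgroup.card_map_of_injective T.subtype_injective, Sylow.card_eq_multiplicity P', ← Sylow.card_eq_multiplicity P'',
        ← Nat.card_congr (Subgroup.subgroupOfEquivOfLe hUT).toEquiv]
      exact Subgroup.card_le_of_le hP''
    have h2 := Subgroup.eq_of_le_of_card_ge (le_sup_right : R ≤ Subgroup.zpowers (n : G) ⊔ R) h1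
    exact hnR (h2 ▸ Subgroup.mem_sup_left (Subgroup.mem_zpowers _))
  -- conjugate to `P`
  obtain ⟨a, ha⟩ := MulAction.exists_smul_eq G S P
  rw [even_iff_two_dvd, ← hy]
  have hmem : a * y * a⁻¹ ∈ Subgroup.normalizer ((P : Subgroup G) : Set G) := by
    rw [← ha, Sylow.coe_subgroup_smul, hSR, Subgroup.mem_normalizer_iff]
    intro x
    rw [Subgroup.mem_pointwise_smul_iff_inv_smul_mem, Subgroup.mem_pointwise_smul_iff_inv_smul_mem]
    simp only [MulAut.smul_def, ← map_inv, MulAut.conj_apply]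
    rw [Subgroup.mem_normalizer_iff.mp hyR]
    group
  have := Subgroup.orderOf_dvd_natCard _ hmem
  rwa [← MulAut.conj_apply, MulEquiv.orderOf_eq] at this

end Cfsg.Agent.S3982
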