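import Cfsg.Statements.S3983
import Mathlib

set_option autoImplicit false
open scoped Pointwise
open Cfsg

namespace Cfsg.Agent.S3983

/-- Let P be a Sylow p-subgroup of the finite group G that meets each conjugate g P g⁻¹ with g outside N_G(P) trivially, and let U be a subgroup of G of order divisible by p. Then a Sylow p-subgroup Q of U has the same property inside U: Q meets each conjugate u Q u⁻¹ with u ∈ U outside N_U(Q) trivially. -/
theorem result {G : Type*} [Group G] [Finite G] (p : ℕ) [Fact p.Prime] (P : Sylow p G) (hTI : ∀ g : G, g ∉ Subgroup.normalizer ((P : Subgroup G) : Set G) → (P : Subgroup G) ⊓ (MulAut.conj g • (P : Subgroup G)) = ⊥) (U : Subgroup G) (hU : p ∣ Nat.card ↥U) (Q : Sylow p ↥U) : ∀ u : ↥U, u ∉ Subgroup.normalizer ((Q : Subgroup ↥U) : Set ↥U) → (Q : Subgroup ↥U) ⊓ (MulAut.conj u • (Q : Subgroup ↥U)) = ⊥ := by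
  intro u hu
  by_contra hne
  obtain ⟨z, hz, hz1⟩ := (Subgroup.ne_bot_iff_exists_ne_one.mp hne) |> fun ⟨z, hz⟩ => (⟨z.1, z.2, fun h => hz (Subtype.ext h)⟩ : ∃ z, z ∈ (Q : Subgroup ↥U) ⊓ (MulAut.conj u • (Q : Subgroup ↥U)) ∧ z ≠ 1)
  obtain ⟨R, hR⟩ := (Q.2.map U.subtype).exists_le_sylow
  obtain ⟨g, hg⟩ := MulAction.exists_smul_eq G P R
  have hmem : ∀ q ∈ (Q : Subgroup ↥U), g⁻¹ * (q : G) * g ∈ (P : Subgroup G) := by
    intro q hq
    have h := hR (Subgroup.mem_map_of_mem U.subtype hq)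
    rw [← hg, Sylow.coe_subgroup_smul, Subgroup.mem_pointwise_smul_iff_inv_smul_mem] at h
    simpa [MulAut.smul_def] using h
  obtain ⟨hzQ, hzu⟩ := Subgroup.mem_inf.mp hz
  rw [Subgroup.mem_pointwise_smul_iff_inv_smul_mem] at hzu
  replace hzu : u⁻¹ * z * u ∈ (Q : Subgroup ↥U) := by simpa [MulAut.smul_def] using hzu
  set h₀ := g⁻¹ * (u : G) * g with hh₀
  have hN : h₀ ∈ Subgroup.normalizer ((P : Subgroup G) : Set G) := by
    by_contra hN
    have h2 : g⁻¹ * (z : G) * g ∈ (P : Subgroup G) ⊓ (MulAut.conj h₀ • (P : Subgroup G)) := by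
      refine Subgroup.mem_inf.mpr ⟨hmem z hzQ, ?_⟩
      rw [Subgroup.mem_pointwise_smul_iff_inv_smul_mem]
      have := hmem _ hzu
      simpa [MulAut.smul_def, hh₀, mul_assoc] using this
    rw [hTI h₀ hN, Subgroup.mem_bot] at h2
    exact hz1 (Subtype.ext (by simpa [mul_inv_eq_one, inv_mul_eq_one, mul_assoc] using h2))
  apply hu
  refine Sylow.smul_eq_iff_mem_normalizer.mp ?_
  have hQT : (Q : Subgroup ↥U) ≤ (MulAut.conj g • (P : Subgroup G)).subgroupOf U := by
    intro q hq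
    rw [Subgroup.mem_subgroupOf, Subgroup.mem_pointwise_smul_iff_inv_smul_mem]
    simpa [MulAut.smul_def] using hmem q hq
  have hTp : IsPGroup p ((MulAut.conj g • (P : Subgroup G)).subgroupOf U) :=
    ((P.2.map _).comap_of_injective U.subtype U.subtype_injective)
  have heq := Q.3 hTp hQT
  apply Sylow.ext
  rw [Sylow.coe_subgroup_smul, ← heq]
  ext q
  rw [Subgroup.mem_pointwise_smul_iff_inv_smul_mem, Subgroup.mem_subgroupOf, Subgroup.mem_subgroupOf,
    Subgroup.mem_pointwise_smul_iff_inv_smul_mem, Subgroup.mem_pointwise_smul_iff_inv_smul_mem]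
  simp only [MulAut.smul_def, MulAut.conj_inv_apply, Subgroup.coe_mul, Subgroup.coe_inv]
  have := (Subgroup.mem_normalizer_iff''.mp hN) (g⁻¹ * (q : G) * g)
  rw [this]
  simp [hh₀, mul_assoc]

end Cfsg.Agent.S3983
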