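import Cfsg.Statements.S3984
import Mathlib

set_option autoImplicit false
open scoped Pointwise
open Cfsg

namespace Cfsg.Agent.S3984

/-- Let P be a Sylow p-subgroup of the finite group G that meets each conjugate g P g⁻¹ with g outside N_G(P) trivially, and let N be a normal subgroup of G of order prime to p. Then every Sylow p-subgroup Q of G ⧸ N meets each conjugate x Q x⁻¹ with x outside its normalizer trivially. -/
theorem result {G : Type*} [Group G] [Finite G] (p : ℕ) [Fact p.Prime] (P : Sylow p G) (hTI : ∀ g : G, g ∉ Subgroup.normalizer ((P : Subgroup G) : Set G) → (P : Subgroup G) ⊓ (MulAut.conj g • (P : Subgroup G)) = ⊥) (N : Subgroup G) [N.Normal] (hN : (Nat.card ↥N).Coprime p) (Q : Sylow p (G ⧸ N)) : ∀ x : G ⧸ N, x ∉ Subgroup.normalizer ((Q : Subgroup (G ⧸ N)) : Set (G ⧸ N)) → (Q : Subgroup (G ⧸ N)) ⊓ (MulAut.conj x • (Q : Subgroup (G ⧸ N))) = ⊥ := by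
  classical
  have hp : p.Prime := Fact.out
  set f := QuotientGroup.mk' N with hf
  have hsurj : Function.Surjective f := QuotientGroup.mk'_surjective N
  obtain ⟨yb, hyb⟩ := MulAction.exists_smul_eq (G ⧸ N) (P.mapSurjective hsurj) Q
  obtain ⟨a, rfl⟩ := hsurj yb
  -- the preimage Sylow subgroup
  have hQ : ∀ z, z ∈ (Q : Subgroup (G ⧸ N)) ↔ ∃ v ∈ (P : Subgroup G), f (a * v * a⁻¹) = z := by
    intro z
    rw [← hyb, Sylow.coe_subgroup_smul, Subgroup.mem_pointwise_smul_iff_inv_smul_mem, Sylow.coe_mapSurjective,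
      Subgroup.mem_map]
    simp only [MulAut.smul_def, ← map_inv, MulAut.conj_apply]
    constructor
    · rintro ⟨v, hv, he⟩
      refine ⟨v, hv, ?_⟩
      rw [map_mul, map_mul, he, map_inv]; group
    · rintro ⟨v, hv, rfl⟩
      refine ⟨v, hv, ?_⟩
      simp [mul_assoc]
  intro x hx
  obtain ⟨g, rfl⟩ := hsurj x
  rw [Subgroup.eq_bot_iff_forall]
  rintro w ⟨hw1, hw2⟩
  by_contra hwne
  obtain ⟨v, hv, rfl⟩ := (hQ w).mp hw1
  have hw2' : (f g)⁻¹ * f (a * v * a⁻¹) * f g ∈ (Q : Subgroup (G ⧸ N)) := by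
    have h := Subgroup.mem_pointwise_smul_iff_inv_smul_mem.mp hw2
    simp only [MulAut.smul_def, ← map_inv, MulAut.conj_apply, inv_inv] at h
    simpa only [inv_inv, ← map_inv] using h
  obtain ⟨v', hv', he⟩ := (hQ _).mp hw2'
  set V := a * v * a⁻¹ with hV
  set V' := g * (a * v' * a⁻¹) * g⁻¹ with hV'
  have hfV : f V' = f V := by rw [hV', map_mul, map_mul, he, map_inv]; group
  -- orders
  have hord : ∀ t : G, (∃ k, orderOf t = p ^ k) → orderOf (f t) = orderOf t := by
    rintro t ⟨k, hk⟩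
    refine Nat.dvd_antisymm (orderOf_map_dvd f t) ?_
    have h1 : t ^ orderOf (f t) ∈ N := by
      rw [← QuotientGroup.eq_one_iff]
      exact (map_pow f t _).trans (pow_orderOf_eq_one (f t))
    have h2 : (t ^ orderOf (f t)) ^ Nat.card N = 1 :=
      orderOf_dvd_iff_pow_eq_one.mp (N.orderOf_dvd_natCard h1)
    rw [← pow_mul] at h2
    have h3 : (orderOf t).Coprime (Nat.card N) := by rw [hk]; exact hN.symm.pow_left k
    exact h3.dvd_of_dvd_mul_right (orderOf_dvd_of_pow_eq_one h2)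
  have hP : ∀ u ∈ (P : Subgroup G), ∀ b : G, ∃ k, orderOf (b * u * b⁻¹) = p ^ k := by
    intro u hu b
    obtain ⟨k, hk⟩ := IsPGroup.iff_orderOf.mp P.isPGroup' ⟨u, hu⟩
    exact ⟨k, by rw [← MulAut.conj_apply, MulEquiv.orderOf_eq]; rwa [Subgroup.orderOf_mk] at hk⟩
  have hV'2 : ∃ k, orderOf V' = p ^ k := by
    have e : V' = g * a * v' * (g * a)⁻¹ := by rw [hV']; group
    rw [e]; exact hP v' hv' _
  obtain ⟨k, hk⟩ := hP v hv a
  have hoV' : orderOf V' = p ^ k := by rw [← hord V' hV'2, hfV, hord V ⟨k, hk⟩, hV, hk]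
  set U := (Subgroup.zpowers (f V)).comap f with hU
  have hcardU : Nat.card U = Nat.card N * p ^ k := by
    have hNU : N ≤ U := by
      intro n hn
      rw [hU, Subgroup.mem_comap, show f n = 1 from (QuotientGroup.eq_one_iff n).mpr hn]
      exact one_mem _
    have h1 : N.relIndex U = p ^ k := by
      have h2 := Subgroup.relIndex_ker f (K := U)
      rw [hf, QuotientGroup.ker_mk'] at h2
      rw [h2, hU, Subgroup.map_comap_eq_self_of_surjective hsurj, Nat.card_zpowers]
      exact (hord V ⟨k, hk⟩).trans hk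
    have h3 := Subgroup.relIndex_mul_relIndex ⊥ N U bot_le hNU
    rw [Subgroup.relIndex_bot_left, Subgroup.relIndex_bot_left, h1] at h3
    exact h3.symm
  have hfac : (Nat.card U).factorization p = k := by
    rw [hcardU, Nat.factorization_mul Nat.card_pos.ne' (pow_pos hp.pos k).ne']
    have : (Nat.card N).factorization p = 0 :=
      Nat.factorization_eq_zero_of_not_dvd fun h => hp.ne_one (Nat.Coprime.eq_one_of_dvd hN.symm h)
    simp [this, hp.factorization_self]
  have hVU : V ∈ U := Subgroup.mem_zpowers (f V)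
  have hV'U : V' ∈ U := by rw [hU, Subgroup.mem_comap, hfV]; exact Subgroup.mem_zpowers _
  let S : Sylow p U := Sylow.ofCard (Subgroup.zpowers ⟨V, hVU⟩)
    (by rw [Nat.card_zpowers, Subgroup.orderOf_mk, hk, hfac])
  let S' : Sylow p U := Sylow.ofCard (Subgroup.zpowers ⟨V', hV'U⟩)
    (by rw [Nat.card_zpowers, Subgroup.orderOf_mk, hoV', hfac])
  obtain ⟨u, hu⟩ := MulAction.exists_smul_eq U S S'
  have hmem : u * ⟨V, hVU⟩ * u⁻¹ ∈ Subgroup.zpowers (⟨V', hV'U⟩ : U) := by
    have h1 : u * ⟨V, hVU⟩ * u⁻¹ ∈ ((u • S : Sylow p U) : Subgroup U) := by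
      rw [Sylow.coe_subgroup_smul, Subgroup.mem_pointwise_smul_iff_inv_smul_mem]
      simp [MulAut.smul_def, mul_assoc, S]
    rwa [hu] at h1
  obtain ⟨i, hi⟩ := hmem
  have hi' : V' ^ i = (u : G) * V * (u : G)⁻¹ := by
    simpa using congrArg ((↑) : U → G) hi
  -- decompose `u` as a power of `V` times an element of `N`
  obtain ⟨j, hj⟩ := Subgroup.mem_zpowers_iff.mp (show f u ∈ Subgroup.zpowers (f V) from u.2)
  set n := (u : G) * (V ^ j)⁻¹ with hn
  have hnN : n ∈ N := by
    rw [← QuotientGroup.eq_one_iff]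
    show f n = 1
    rw [hn, map_mul, map_inv, map_zpow, hj, mul_inv_cancel]
  have hnV : n * V * n⁻¹ = V' ^ i := by rw [hi', hn]; group
  set h := a⁻¹ * (n⁻¹ * g) * a with hh
  have hvh : v ∈ (P : Subgroup G) ⊓ MulAut.conj h • (P : Subgroup G) := by
    refine ⟨hv, ?_⟩
    show v ∈ MulAut.conj h • (P : Subgroup G)
    rw [Subgroup.mem_pointwise_smul_iff_inv_smul_mem]
    simp only [MulAut.smul_def, ← map_inv, MulAut.conj_apply]
    have : h⁻¹ * v * h⁻¹⁻¹ = v' ^ i := by
      calc h⁻¹ * v * h⁻¹⁻¹ = a⁻¹ * (g⁻¹ * (n * V * n⁻¹) * g) * a := by rw [hh, hV]; group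
        _ = v' ^ i := by rw [hnV, hV', conj_zpow, conj_zpow]; group
    rw [this]
    exact Subgroup.zpow_mem _ hv' i
  by_cases hhN : h ∈ Subgroup.normalizer ((P : Subgroup G) : Set G)
  · apply hx
    have hfg : f g = f (a * h * a⁻¹) := by
      have e : a * h * a⁻¹ = n⁻¹ * g := by rw [hh]; group
      rw [e, map_mul, map_inv, show f n = 1 from (QuotientGroup.eq_one_iff n).mpr hnN, inv_one, one_mul]
    rw [hfg, Subgroup.mem_normalizer_iff]
    intro z
    rw [hQ z, hQ]
    constructor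
    · rintro ⟨t, ht, rfl⟩
      refine ⟨h * t * h⁻¹, (Subgroup.mem_normalizer_iff.mp hhN t).mp ht, ?_⟩
      simp only [← map_inv, ← map_mul]
      congr 1
      group
    · rintro ⟨t, ht, he'⟩
      refine ⟨h⁻¹ * t * h, (Subgroup.mem_normalizer_iff''.mp hhN t).mp ht, ?_⟩
      have e2 : z = (f (a * h * a⁻¹))⁻¹ * f (a * t * a⁻¹) * f (a * h * a⁻¹) := by rw [he']; group
      rw [e2]
      simp only [← map_inv, ← map_mul]
      congr 1
      group
  · rw [hTI h hhN, Subgroup.mem_bot] at hvh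
    exact hwne (by rw [hV, hvh]; simp)

end Cfsg.Agent.S3984
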