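import Cfsg.Statements.S3985
import Mathlib
import Cfsg.Agent.Lib.FgsB.CyclicAction

set_option autoImplicit false
open scoped Pointwise
open Cfsg

namespace Cfsg.Agent.S3985

/-- Let P be a cyclic Sylow p-subgroup of the finite group G. Then P meets each conjugate g P g⁻¹ with g outside N_G(P) trivially if and only if P is weakly self-centralizing: C_G(x) = C_G(P) for every non-identity x ∈ P. -/
theorem result {G : Type*} [Group G] [Finite G] (p : ℕ) [Fact p.Prime] (P : Sylow p G) (hcyc : IsCyclic ↥(P : Subgroup G)) : (∀ g : G, g ∉ Subgroup.normalizer ((P : Subgroup G) : Set G) → (P : Subgroup G) ⊓ (MulAut.conj g • (P : Subgroup G)) = ⊥) ↔ ∀ x : G, x ∈ (P : Subgroup G) → x ≠ 1 → Subgroup.centralizer ({x} : Set G) = Subgroup.centralizer ((P : Subgroup G) : Set G) := by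
  classical
  have hp : p.Prime := Fact.out
  have hab : ∀ a ∈ (P : Subgroup G), ∀ b ∈ (P : Subgroup G), a * b = b * a := fun a ha b hb =>
    congrArg Subtype.val ((IsCyclic.commGroup (α := (P : Subgroup G))).mul_comm ⟨a, ha⟩ ⟨b, hb⟩)
  have hPC : (P : Subgroup G) ≤ Subgroup.centralizer ((P : Subgroup G) : Set G) := fun a ha =>
    Subgroup.mem_centralizer_iff.mpr fun b hb => hab b hb a ha
  constructor
  · intro hTI x hx hx1
    refine le_antisymm ?_ (Subgroup.centralizer_le (Set.singleton_subset_iff.mpr hx))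
    intro g hg
    have hgx : g * x * g⁻¹ = x := mul_inv_eq_iff_eq_mul.mpr (Subgroup.mem_centralizer_singleton_iff.mp hg)
    have hgN : g ∈ Subgroup.normalizer ((P : Subgroup G) : Set G) := by
      by_contra hgN
      have hmem : x ∈ (P : Subgroup G) ⊓ MulAut.conj g • (P : Subgroup G) := by
        refine ⟨hx, ?_⟩
        rw [← hgx]
        exact Subgroup.smul_mem_pointwise_smul x (MulAut.conj g) _ hx
      rw [hTI g hgN, Subgroup.mem_bot] at hmem
      exact hx1 hmem
    obtain ⟨u, hu⟩ := IsCyclic.exists_generator (α := (P : Subgroup G))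
    obtain ⟨j, hj⟩ := IsPGroup.iff_orderOf.mp P.isPGroup' u
    rw [← Subgroup.orderOf_coe] at hj
    obtain ⟨a, ha⟩ := hu ⟨g * u * g⁻¹, (Subgroup.mem_normalizer_iff.mp hgN u).mp u.2⟩
    have ha' : g * (u : G) * g⁻¹ = (u : G) ^ a := by
      have := congrArg Subtype.val ha
      simpa using this.symm
    obtain ⟨b, hb⟩ := hu ⟨x, hx⟩
    have hb' : (u : G) ^ b = x := by simpa using congrArg Subtype.val hb
    -- `a ≡ 1` modulo `p`
    have hapl : (p : ℤ) ∣ a - 1 := by
      have h1 : (u : G) ^ (a * b) = (u : G) ^ b := by rw [zpow_mul, ← ha', conj_zpow, hb', hgx]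
      rw [zpow_eq_zpow_iff_modEq, hj] at h1
      have h2 : ((p ^ j : ℕ) : ℤ) ∣ (a - 1) * b := by
        have := Int.ModEq.dvd h1.symm
        rwa [sub_mul, one_mul]
      have h3 : ¬ ((p ^ j : ℕ) : ℤ) ∣ b := by
        rw [← hj, orderOf_dvd_iff_zpow_eq_one, hb']; exact hx1
      by_contra hnd
      apply h3
      have hcop : IsCoprime ((p ^ j : ℕ) : ℤ) (a - 1) := by
        push_cast
        exact ((Nat.prime_iff_prime_int.mp hp).coprime_iff_not_dvd.mpr hnd).pow_left
      exact hcop.dvd_of_dvd_mul_left h2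
    have hcomm := CfsgLib.FgsB.commute_pow_of_conj_eq_zpow hj ha' hapl
    set N := Subgroup.normalizer ((P : Subgroup G) : Set G)
    set C := Subgroup.centralizer ((P : Subgroup G) : Set G)
    have hgC : g ^ p ^ j ∈ C := by
      rw [Subgroup.mem_centralizer_iff]
      intro y hy
      obtain ⟨i, hi⟩ := hu ⟨y, hy⟩
      have hi' : (u : G) ^ i = y := by simpa using congrArg Subtype.val hi
      rw [← hi']
      exact (hcomm.zpow_right i).symm
    have hM : g ^ C.relIndex N ∈ C := by
      have := Subgroup.pow_index_mem (C.subgroupOf N) ⟨g, hgN⟩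
      simpa [Subgroup.mem_subgroupOf, Subgroup.relIndex] using this
    have hcop : (p ^ j).Coprime (C.relIndex N) := by
      refine Nat.Coprime.pow_left j (hp.coprime_iff_not_dvd.mpr fun h => ?_)
      refine P.not_dvd_index (h.trans ?_)
      exact (Subgroup.relIndex_dvd_index_of_le (Subgroup.centralizer_le_normalizer _)).trans
        (Subgroup.index_dvd_of_le hPC)
    have hbez := Nat.gcd_eq_gcd_ab (p ^ j) (C.relIndex N)
    rw [hcop.gcd_eq_one] at hbez
    have : g = (g ^ p ^ j) ^ Nat.gcdA (p ^ j) (C.relIndex N) *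
        (g ^ C.relIndex N) ^ Nat.gcdB (p ^ j) (C.relIndex N) := by
      rw [← zpow_natCast g (p ^ j), ← zpow_natCast g (C.relIndex N), ← zpow_mul, ← zpow_mul, ← zpow_add, ← hbez]
      simp
    rw [this]
    exact C.mul_mem (C.zpow_mem hgC _) (C.zpow_mem hM _)
  · intro h g hg
    rw [Subgroup.eq_bot_iff_forall]
    rintro w ⟨hw, hw'⟩
    by_contra hw1
    have hC := h w hw hw1
    have hconj : ((MulAut.conj g • (P : Subgroup G)) : Subgroup G) ≤
        Subgroup.centralizer ((P : Subgroup G) : Set G) := by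
      rw [← hC]
      intro z hz
      have hw'' := Subgroup.mem_pointwise_smul_iff_inv_smul_mem.mp hw'
      have hz' := Subgroup.mem_pointwise_smul_iff_inv_smul_mem.mp hz
      have := congrArg (fun t => MulAut.conj g • t) (hab _ hz' _ hw'')
      simp only [smul_mul', smul_inv_smul] at this
      exact Subgroup.mem_centralizer_singleton_iff.mpr this
    have hsup : IsPGroup p ↥((MulAut.conj g • (P : Subgroup G)) ⊔ (P : Subgroup G)) :=
      IsPGroup.to_sup_of_normal_right' (by rw [← Sylow.coe_subgroup_smul]; exact (g • P).isPGroup')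
        P.isPGroup' (hconj.trans (Subgroup.centralizer_le_normalizer _))
    have heq := P.is_maximal' hsup le_sup_right
    apply hg
    rw [Subgroup.mem_normalizer_iff_map_conj_eq]
    refine Subgroup.eq_of_le_of_card_ge ?_
      (le_of_eq (Subgroup.card_map_of_injective (MulAut.conj g).injective).symm)
    intro z hz
    obtain ⟨t, ht, rfl⟩ := hz
    rw [← heq]
    exact Subgroup.mem_sup_left (Subgroup.smul_mem_pointwise_smul t (MulAut.conj g) _ ht)

end Cfsg.Agent.S3985
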