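import Cfsg.Statements.S3986
import Cfsg.Agent.Lib.FgsB.DirectFactor

set_option autoImplicit false
open Cfsg

namespace Cfsg.Agent.S3986

/-- Let p be a prime and G a finite group. Then some Sylow p-subgroup of G is a direct factor of G (it is normal and has a normal complement) if and only if every element of p-power order commutes with every element whose order is a power of a prime other than p. -/
theorem result {G : Type*} [Group G] [Finite G] (p : ℕ) [Fact p.Prime] : (∃ (P : Sylow p G) (K : Subgroup G), (P : Subgroup G).Normal ∧ K.Normal ∧ (P : Subgroup G) ⊓ K = ⊥ ∧ (P : Subgroup G) ⊔ K = ⊤) ↔ ∀ x y : G, (∃ a : ℕ, orderOf x = p ^ a) → (∃ q b : ℕ, q.Prime ∧ q ≠ p ∧ orderOf y = q ^ b) → x * y = y * x := by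
  constructor
  · rintro ⟨P, K, hP, hK, hdisj, hsup⟩ x y hx ⟨q, b, hq, hqp, hy⟩
    have hxP : x ∈ (P : Subgroup G) := by
      obtain ⟨g, hg⟩ := CfsgLib.FgsB.exists_conj_mem_sylow hx P
      have := hP.conj_mem _ hg g
      simpa [mul_assoc] using this
    have hcop : (orderOf y).Coprime p := by
      rw [hy]; exact ((Nat.coprime_primes hq (Fact.out : p.Prime)).mpr hqp).pow_left b
    have hyK : y ∈ K := CfsgLib.FgsB.mem_of_coprime_orderOf hsup hcop
    exact Subgroup.commute_of_normal_of_disjoint _ _ hP hK (disjoint_iff.mpr hdisj) x y hxP hyK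
  · intro h
    obtain ⟨P⟩ := (inferInstance : Nonempty (Sylow p G))
    obtain ⟨hP, K, hK, -, hd, hs, -⟩ := CfsgLib.FgsB.isDirectFactor_of_centralizing P (fun y hy => by
      obtain ⟨r, k, hr, hrp, hyo⟩ := hy
      rw [Subgroup.mem_centralizer_iff]
      intro x hx
      exact h x y (CfsgLib.FgsB.exists_orderOf_eq_pow_of_mem P.2 hx) ⟨r, k, hr, hrp, hyo⟩)
    exact ⟨P, K, hP, hK, hd, hs⟩

end Cfsg.Agent.S3986
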