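import Cfsg.Statements.S3987
import Cfsg.Agent.Lib.FgsB.DirectFactor

set_option autoImplicit false
open Cfsg

namespace Cfsg.Agent.S3987

/-- Let p be a prime and G a finite group. Then some Sylow p-subgroup of G is a direct factor of G (normal with a normal complement) if and only if for every element x of p-power order and every element y whose order is a power of a prime other than p, the conjugacy class of x y has as many elements as the product of the sizes of the classes of x and of y. -/
theorem result {G : Type*} [Group G] [Finite G] (p : ℕ) [Fact p.Prime] : (∃ (P : Sylow p G) (K : Subgroup G), (P : Subgroup G).Normal ∧ K.Normal ∧ (P : Subgroup G) ⊓ K = ⊥ ∧ (P : Subgroup G) ⊔ K = ⊤) ↔ ∀ x y : G, (∃ a : ℕ, orderOf x = p ^ a) → (∃ q b : ℕ, q.Prime ∧ q ≠ p ∧ orderOf y = q ^ b) → (Subgroup.centralizer ({x * y} : Set G)).index = (Subgroup.centralizer ({x} : Set G)).index * (Subgroup.centralizer ({y} : Set G)).index := by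
  have hcopxy : ∀ {x y : G}, (∃ a : ℕ, orderOf x = p ^ a) →
      (∃ q b : ℕ, q.Prime ∧ q ≠ p ∧ orderOf y = q ^ b) → (orderOf y).Coprime (orderOf x) := by
    rintro x y ⟨a, ha⟩ ⟨q, b, hq, hqp, hb⟩
    rw [ha, hb]
    exact Nat.Coprime.pow _ _ ((Nat.coprime_primes hq (Fact.out : p.Prime)).mpr hqp)
  constructor
  · rintro ⟨P, K, hP, hK, hdisj, hsup⟩ x y hx hy
    have hxy := hcopxy hx hy
    have hxP : x ∈ (P : Subgroup G) := by
      obtain ⟨g, hg⟩ := CfsgLib.FgsB.exists_conj_mem_sylow hx P
      simpa [mul_assoc] using hP.conj_mem _ hg g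
    have hcop : (orderOf y).Coprime p := by
      obtain ⟨q, b, hq, hqp, hb⟩ := hy
      rw [hb]; exact ((Nat.coprime_primes hq (Fact.out : p.Prime)).mpr hqp).pow_left b
    have hyK : y ∈ K := CfsgLib.FgsB.mem_of_coprime_orderOf hsup hcop
    have hcomm : ∀ u v : G, u ∈ (P : Subgroup G) → v ∈ K → Commute u v :=
      Subgroup.commute_of_normal_of_disjoint _ _ hP hK (disjoint_iff.mpr hdisj)
    have hxyc : Commute x y := hcomm x y hxP hyK
    have hxmem : x ∈ Subgroup.zpowers (x * y) := by
      have h1 : x ^ orderOf y ∈ Subgroup.zpowers (x * y) := by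
        refine ⟨(orderOf y : ℤ), ?_⟩
        simp [hxyc.mul_pow]
      exact Subgroup.zpowers_le.mpr h1 (CfsgLib.FgsB.mem_zpowers_pow_of_coprime hxy)
    have hymem : y ∈ Subgroup.zpowers (x * y) := by
      have := Subgroup.mul_mem _ (Subgroup.inv_mem _ hxmem) (Subgroup.mem_zpowers (x * y))
      simpa using this
    have hC : Subgroup.centralizer ({x * y} : Set G) =
        Subgroup.centralizer ({x} : Set G) ⊓ Subgroup.centralizer ({y} : Set G) := by
      apply le_antisymm
      · intro g hg
        have hg' : Commute g (x * y) := Subgroup.mem_centralizer_singleton_iff.mp hg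
        obtain ⟨i, hi⟩ := hxmem
        obtain ⟨j, hj⟩ := hymem
        refine Subgroup.mem_inf.mpr ⟨?_, ?_⟩ <;> rw [Subgroup.mem_centralizer_singleton_iff]
        · rw [← hi]; exact hg'.zpow_right i
        · rw [← hj]; exact hg'.zpow_right j
      · rintro g ⟨h1, h2⟩
        rw [Subgroup.mem_centralizer_singleton_iff]
        exact (Commute.mul_right (Subgroup.mem_centralizer_singleton_iff.mp h1)
          (Subgroup.mem_centralizer_singleton_iff.mp h2))
    have hKx : K ≤ Subgroup.centralizer ({x} : Set G) := fun v hv => by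
      rw [Subgroup.mem_centralizer_singleton_iff]; exact (hcomm x v hxP hv).symm
    have hPy : (P : Subgroup G) ≤ Subgroup.centralizer ({y} : Set G) := fun u hu => by
      rw [Subgroup.mem_centralizer_singleton_iff]; exact hcomm u y hu hyK
    have hKidx : K.index = Nat.card (P : Subgroup G) :=
      (Subgroup.isComplement'_of_disjoint_and_mul_eq_univ (disjoint_iff.mpr hdisj)
        (by rw [← Subgroup.mul_normal, hsup]; rfl)).symm.card_mul_card |> fun h => by
          have h2 := K.card_mul_index
          exact Nat.eq_of_mul_eq_mul_left Nat.card_pos (h2.trans h.symm)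
    have hco : (Subgroup.centralizer ({x} : Set G)).index.Coprime
        (Subgroup.centralizer ({y} : Set G)).index := by
      refine Nat.Coprime.coprime_dvd_left (Subgroup.index_dvd_of_le hKx) ?_
      refine Nat.Coprime.coprime_dvd_right (Subgroup.index_dvd_of_le hPy) ?_
      rw [hKidx]; exact P.card_coprime_index
    rw [hC]
    apply Nat.le_antisymm Subgroup.index_inf_le
    apply Nat.le_of_dvd
    · exact Nat.pos_of_ne_zero Subgroup.index_ne_zero_of_finite
    · exact hco.mul_dvd_of_dvd_of_dvd (Subgroup.index_dvd_of_le inf_le_left)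
        (Subgroup.index_dvd_of_le inf_le_right)
  · intro h
    obtain ⟨P⟩ := (inferInstance : Nonempty (Sylow p G))
    have hcomm : ∀ x y : G, (∃ a : ℕ, orderOf x = p ^ a) →
        (∃ q b : ℕ, q.Prime ∧ q ≠ p ∧ orderOf y = q ^ b) → Commute x y := by
      intro x y hx hy
      have hh := h x y hx hy
      rw [← CfsgLib.FgsB.card_isConj_eq_index, ← CfsgLib.FgsB.card_isConj_eq_index,
        ← CfsgLib.FgsB.card_isConj_eq_index, ← Nat.card_prod] at hh
      let f : {a : G // IsConj x a} × {b : G // IsConj y b} → G := fun w => w.1.1 * w.2.1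
      have hrange : ∀ z : G, IsConj (x * y) z → ∃ w, f w = z := by
        intro z hz
        obtain ⟨g, rfl⟩ := isConj_iff.mp hz
        exact ⟨(⟨g * x * g⁻¹, isConj_iff.mpr ⟨g, rfl⟩⟩, ⟨g * y * g⁻¹, isConj_iff.mpr ⟨g, rfl⟩⟩),
          by simp [f, mul_assoc]⟩
      let s : {z : G // IsConj (x * y) z} → {a : G // IsConj x a} × {b : G // IsConj y b} :=
        fun z => (hrange z.1 z.2).choose
      have hs : ∀ z, f (s z) = z.1 := fun z => (hrange z.1 z.2).choose_spec
      have hsinj : Function.Injective s := fun a b hab => Subtype.ext (by rw [← hs a, ← hs b, hab])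
      have hsbij := (Nat.bijective_iff_injective_and_card s).mpr ⟨hsinj, hh⟩
      have hf : Function.Injective f := by
        intro u v huv
        obtain ⟨a, rfl⟩ := hsbij.2 u
        obtain ⟨b, rfl⟩ := hsbij.2 v
        rw [hs, hs] at huv
        rw [Subtype.ext huv]
      have h2 := @hf (⟨(x * y) * x * (x * y)⁻¹, isConj_iff.mpr ⟨_, rfl⟩⟩,
        ⟨(x * y) * y * (x * y)⁻¹, isConj_iff.mpr ⟨_, rfl⟩⟩)
        (⟨x, IsConj.refl x⟩, ⟨y, IsConj.refl y⟩) (by simp [f, mul_assoc])
      have h3 : (x * y) * x * (x * y)⁻¹ = x := congrArg (fun w => (w.1 : G)) h2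
      have h4 : x * (y * x) = x * (x * y) := by
        calc x * (y * x) = ((x * y) * x * (x * y)⁻¹) * (x * y) := by group
        _ = x * (x * y) := by rw [h3]
      exact (mul_left_cancel h4).symm
    obtain ⟨hP, K, hK, -, hd, hs, -⟩ := CfsgLib.FgsB.isDirectFactor_of_centralizing P (fun y hy => by
      rw [Subgroup.mem_centralizer_iff]
      intro x hx
      exact hcomm x y (CfsgLib.FgsB.exists_orderOf_eq_pow_of_mem P.2 hx) hy)
    exact ⟨P, K, hP, hK, hd, hs⟩

end Cfsg.Agent.S3987
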