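import Cfsg.Statements.S3989
import Cfsg.Agent.Lib.Involutions.CentricFusion
import Cfsg.Agent.Lib.PLocal.PSolvable
import Cfsg.Agent.Lib.SolvStruct.PiElements

set_option autoImplicit false
open Cfsg

namespace Cfsg.Agent.S3989

open Subgroup

universe u

/-- The hypothesis of the statement. -/
def ClassMul (p : ℕ) (G : Type u) [Group G] : Prop :=
  ∀ x y : G, (∃ a : ℕ, orderOf x = p ^ a) → (∃ q b : ℕ, q.Prime ∧ q ≠ p ∧ orderOf y = q ^ b) →
    ∀ z : G, IsConj (x * y) z ↔ ∃ a b : G, z = a * x * a⁻¹ * (b * y * b⁻¹)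

theorem classMul_quotient {p : ℕ} [hp : Fact p.Prime] {G : Type u} [Group G] [Finite G]
    (h : ClassMul p G) (N : Subgroup G) [N.Normal] : ClassMul p (G ⧸ N) := by
  rintro x y ⟨a, ha⟩ ⟨q, b, hq, hqp, hb⟩ z
  obtain ⟨x₀, rfl⟩ := QuotientGroup.mk'_surjective N x
  obtain ⟨y₀, rfl⟩ := QuotientGroup.mk'_surjective N y
  obtain ⟨n, hn, hnx⟩ :=
    CfsgLib.SolvStruct.PiElements.exists_pow_primePow (QuotientGroup.mk' N) hp.out x₀ ha
  obtain ⟨m, ⟨b', hm⟩, hmy⟩ :=
    CfsgLib.SolvStruct.PiElements.exists_pow_primePow (QuotientGroup.mk' N) hq y₀ hb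
  have key := h (x₀ ^ n) (y₀ ^ m) hn ⟨q, b', hq, hqp, hm⟩
  rw [← hnx, ← hmy]
  obtain ⟨z₀, rfl⟩ := QuotientGroup.mk'_surjective N z
  constructor
  · intro hz
    obtain ⟨c, hc⟩ := isConj_iff.1 hz
    obtain ⟨c₀, rfl⟩ := QuotientGroup.mk'_surjective N c
    obtain ⟨u, v, huv⟩ := (key (c₀ * (x₀ ^ n * y₀ ^ m) * c₀⁻¹)).1 (isConj_iff.2 ⟨c₀, rfl⟩)
    refine ⟨QuotientGroup.mk' N u, QuotientGroup.mk' N v, ?_⟩
    rw [← hc]
    simpa only [map_mul, map_inv] using congrArg (QuotientGroup.mk' N) huv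
  · rintro ⟨u, v, huv⟩
    obtain ⟨u₀, rfl⟩ := QuotientGroup.mk'_surjective N u
    obtain ⟨v₀, rfl⟩ := QuotientGroup.mk'_surjective N v
    have := (key (u₀ * x₀ ^ n * u₀⁻¹ * (v₀ * y₀ ^ m * v₀⁻¹))).2 ⟨u₀, v₀, rfl⟩
    rw [huv]
    simpa only [map_mul, map_inv] using (QuotientGroup.mk' N).map_isConj this

/-- A `q`-element normalising a `p`-subgroup centralises it modulo the point that the
commutator generates a normal subgroup avoiding the element. -/
theorem not_mem_of_normalClosure {p : ℕ} [hp : Fact p.Prime] {G : Type u} [Group G] [Finite G]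
    (h : ClassMul p G) {q : ℕ} (hq : q.Prime) (hqp : q ≠ p) {y a : G} (hy : ∃ b, orderOf y = q ^ b)
    (hy1 : y ≠ 1) (hx : ∃ k, orderOf (y * a * y⁻¹ * a⁻¹) = p ^ k) :
    y ∉ normalClosure ({y * a * y⁻¹ * a⁻¹} : Set G) := by
  intro hmem
  set x := y * a * y⁻¹ * a⁻¹ with hxdef
  obtain ⟨b, hb⟩ := hy
  have key := h x y⁻¹ hx ⟨q, b, hq, hqp, by rw [orderOf_inv]; exact hb⟩
  have hxy : IsConj (x * y⁻¹) y⁻¹ :=
    isConj_iff.2 ⟨(y * a)⁻¹, by rw [hxdef]; group⟩
  have step : ∀ c z : G, IsConj y⁻¹ z → IsConj y⁻¹ (c * x * c⁻¹ * z) := by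
    intro c z hz
    obtain ⟨d, hd⟩ := isConj_iff.1 hz
    exact hxy.symm.trans ((key _).2 ⟨c, d, by rw [hd]⟩)
  have all : ∀ m ∈ normalClosure ({x} : Set G), ∀ z : G, IsConj y⁻¹ z → IsConj y⁻¹ (m * z) := by
    intro m hm
    rw [normalClosure] at hm
    induction hm using Subgroup.closure_induction with
    | mem g hg =>
      obtain ⟨x', hx', hconj⟩ := Group.mem_conjugatesOfSet_iff.1 hg
      obtain rfl : x' = x := hx'
      obtain ⟨c, rfl⟩ := isConj_iff.1 hconj
      exact fun z hz => step c z hz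
    | one => intro z hz; rwa [one_mul]
    | mul g g' _ _ hg hg' => intro z hz; rw [mul_assoc]; exact hg _ (hg' z hz)
    | inv g _ hg =>
      intro z hz
      have hn : ∀ k : ℕ, IsConj y⁻¹ (g ^ k * z) := by
        intro k
        induction k with
        | zero => simpa using hz
        | succ k ih => rw [pow_succ', mul_assoc]; exact hg _ ih
      have := hn (orderOf g - 1)
      rwa [show g ^ (orderOf g - 1) = g⁻¹ from eq_inv_of_mul_eq_one_left (by
        rw [← pow_succ, Nat.sub_add_cancel (orderOf_pos g), pow_orderOf_eq_one])] at this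
  have h1 := all y hmem y⁻¹ (IsConj.refl _)
  rw [mul_inv_cancel] at h1
  exact hy1 (inv_eq_one.1 ((isConj_one_left).1 h1))

theorem main {p : ℕ} [hp : Fact p.Prime] : ∀ (n : ℕ) (G : Type u) [Group G] [Finite G],
    Nat.card G ≤ n → ClassMul p G → Cfsg.IsPSolvable p G := by
  intro n
  induction n with
  | zero => intro G _ _ hG; exact absurd hG (by simpa using Nat.card_pos.ne')
  | succ n ih =>
    intro G _ _ hG h
    rcases subsingleton_or_nontrivial G with hs | hs
    · exact CfsgLib.PLocal.isPSolvable_of_coprime (by simp)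
    obtain ⟨N, ⟨hNn, hN1⟩, hmin⟩ :=
      ({N : Subgroup G | N.Normal ∧ N ≠ ⊥}).toFinite.exists_minimal ⟨⊤, inferInstance, top_ne_bot⟩
    haveI := hNn
    have hquot : Cfsg.IsPSolvable p (G ⧸ N) := by
      refine ih _ ?_ (classMul_quotient h N)
      have hlt : Nat.card (G ⧸ N) < Nat.card G := by
        rw [← Subgroup.index_eq_card, ← N.card_mul_index]
        exact (Nat.lt_mul_iff_one_lt_left (Nat.pos_of_ne_zero N.index_ne_zero_of_finite)).2
          ((Subgroup.one_lt_card_iff_ne_bot N).2 hN1)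
      omega
    refine CfsgLib.PLocal.isPSolvable_of_normal N ?_ hquot
    by_cases hc : Cfsg.HasNormalPComplement p N
    · obtain ⟨P, K, hK, hKP⟩ := hc
      haveI := hK
      have hKco : (Nat.card K).Coprime p := by
        rw [← hKP.index_eq_card]
        exact ((Fact.out : p.Prime).coprime_iff_not_dvd.2 P.not_dvd_index).symm
      refine CfsgLib.PLocal.isPSolvable_of_normal K
        (CfsgLib.PLocal.isPSolvable_of_coprime hKco) ?_
      refine CfsgLib.PLocal.isPSolvable_of_isPGroup ?_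
      exact P.isPGroup'.of_equiv hKP.symm.QuotientMulEquiv.symm
    · exfalso
      obtain ⟨P⟩ : Nonempty (Sylow p N) := inferInstance
      refine hc (CfsgLib.Involutions.hasNormalPComplement_of_centric P ?_)
      intro D hD y hy hyp a ha
      suffices hyC : y ∈ centralizer ({a} : Set N) from mem_centralizer_singleton_iff.1 hyC
      refine CfsgLib.SolvStruct.PiElements.mem_of_forall_primePow fun q hq hqd k hb' => ?_
      obtain ⟨b, hb⟩ := hb'
      rw [mem_centralizer_singleton_iff]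
      by_contra hne
      have hqp : q ≠ p := fun e => hq.ne_one
        (Nat.dvd_one.1 (hyp ▸ Nat.dvd_gcd hqd (e ▸ dvd_refl q)))
      set w := y ^ k with hw
      have hwN : w ∈ normalizer (D : Set N) := pow_mem hy k
      have hxD : w * a * w⁻¹ * a⁻¹ ∈ D :=
        mul_mem ((mem_normalizer_iff.1 hwN a).1 ha) (inv_mem ha)
      obtain ⟨j, hj⟩ := (IsPGroup.iff_orderOf.1 (P.isPGroup'.to_le hD.1)) ⟨_, hxD⟩
      rw [Subgroup.orderOf_mk] at hj
      set x : G := (w : G) * a * (w : G)⁻¹ * (a : G)⁻¹ with hx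
      have hxN : x = ((w * a * w⁻¹ * a⁻¹ : N) : G) := by simp [hx]
      have hx1 : x ≠ 1 := by
        rw [hxN]
        intro e
        apply hne
        have e' : w * a * w⁻¹ * a⁻¹ = 1 := Subtype.ext e
        calc w * a = (w * a * w⁻¹ * a⁻¹) * (a * w) := by group
          _ = a * w := by rw [e', one_mul]
      refine not_mem_of_normalClosure h hq hqp (y := (w : G)) (a := (a : G))
        ⟨b, by rw [Subgroup.orderOf_coe]; exact hb⟩ ?_ ⟨j, ?_⟩ ?_
      · intro e
        exact hne (by rw [show w = 1 from Subtype.ext e]; simp)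
      · rw [← hx, hxN, Subgroup.orderOf_coe]; exact hj
      · rw [← hx]
        have hle : normalClosure ({x} : Set G) ≤ N :=
          normalClosure_le_normal (Set.singleton_subset_iff.2 (hxN ▸ SetLike.coe_mem _))
        have hne' : normalClosure ({x} : Set G) ≠ ⊥ := fun e =>
          hx1 (Subgroup.mem_bot.1 (e ▸ subset_normalClosure (Set.mem_singleton x)))
        exact hmin ⟨normalClosure_normal, hne'⟩ hle w.2

/-- Let p be a prime and G a finite group such that for every element x of p-power order and every element y whose order is a power of a prime other than p, the conjugacy class of x y is the set of all products of a conjugate of x with a conjugate of y. Then G is p-solvable. -/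
theorem result {G : Type*} [Group G] [Finite G] (p : ℕ) [Fact p.Prime] (h : ∀ x y : G, (∃ a : ℕ, orderOf x = p ^ a) → (∃ q b : ℕ, q.Prime ∧ q ≠ p ∧ orderOf y = q ^ b) → ∀ z : G, IsConj (x * y) z ↔ ∃ a b : G, z = a * x * a⁻¹ * (b * y * b⁻¹)) : Cfsg.IsPSolvable p G := by
  exact main _ G le_rfl h

end Cfsg.Agent.S3989
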