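import Cfsg.Statements.S3992
import Mathlib
import Cfsg.Agent.S1475
import Cfsg.Agent.Lib.Base.FPF
import Cfsg.Agent.Lib.Recog.SocleFactors

set_option autoImplicit false
set_option linter.style.haveILetI false
open Cfsg

namespace Cfsg.Agent.S3992

open CfsgLib CfsgLib.Base

theorem false_of_commute {H : Type*} [Group H] [Finite H]
    (hpp : ∀ g : H, g ≠ 1 → IsPrimePow (orderOf g)) {x y : H} (hc : Commute x y) {p q : ℕ}
    (hp : p.Prime) (hq : q.Prime) (hpq : p ≠ q) (hx : orderOf x = p) (hy : orderOf y = q) : False := by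
  have ho : orderOf (x * y) = p * q := by
    rw [← hx, ← hy]
    exact hc.orderOf_mul_eq_mul_orderOf_of_coprime (by rw [hx, hy]; exact (Nat.coprime_primes hp hq).mpr hpq)
  have hne : x * y ≠ 1 := fun e => by
    rw [e, orderOf_one] at ho
    exact hp.ne_one (Nat.eq_one_of_mul_eq_one_right ho.symm)
  have h := hpp _ hne
  rw [isPrimePow_iff_unique_prime_dvd, ho] at h
  exact hpq (h.unique ⟨hp, dvd_mul_right p q⟩ ⟨hq, dvd_mul_left q p⟩)

theorem centralizer_eq_bot {H : Type*} [Group H] [Finite H]
    (hpp : ∀ g : H, g ≠ 1 → IsPrimePow (orderOf g)) {T : Subgroup H}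
    (hT : ¬ Group.IsSolvable T) : Subgroup.centralizer (T : Set H) = ⊥ := by
  by_contra hne
  obtain ⟨r, hr, hd⟩ := Nat.exists_prime_and_dvd (fun e => hne (Subgroup.card_eq_one.mp e))
  haveI := Fact.mk hr
  obtain ⟨x, hx⟩ := exists_prime_orderOf_dvd_card' r hd
  obtain ⟨s, hs, hsd, hsr⟩ : ∃ s : ℕ, s.Prime ∧ s ∣ Nat.card T ∧ s ≠ r := by
    by_contra hc
    push Not at hc
    have hpg : IsPGroup r T := IsPGroup.of_card
      (Nat.eq_prime_pow_of_unique_prime_dvd Nat.card_pos.ne' fun {d} hd' hdd => hc d hd' hdd)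
    haveI := hpg.isNilpotent
    exact hT inferInstance
  haveI := Fact.mk hs
  obtain ⟨y, hy⟩ := exists_prime_orderOf_dvd_card' s hsd
  exact false_of_commute hpp (x := (x : H)) (y := (y : H))
    (Subgroup.mem_centralizer_iff.mp x.2 y y.2).symm hr hs (Ne.symm hsr)
    (by rw [Subgroup.orderOf_coe, hx]) (by rw [Subgroup.orderOf_coe, hy])

theorem isSolvable_of_commutator_le {H : Type*} [Group H] [Finite H] (N : Subgroup H) [N.Normal]
    (hN : Group.IsSolvable N) (hq : Group.IsSolvable (H ⧸ N)) : Group.IsSolvable H :=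
  (Group.isSolvable_iff_subgroup_quotient N).mpr ⟨hN, hq⟩


/-- Let G be a finite non-solvable group in which every element has prime-power order, and let R be its largest solvable normal subgroup. Then R is a p-group for some prime p; G/R has a non-abelian simple normal subgroup contained in every nontrivial normal subgroup of G/R (its unique minimal normal subgroup); and the order of every solvable subgroup of G has at most two prime divisors. -/
theorem result {G : Type*} [Group G] [Finite G] (hns : ¬ Group.IsSolvable G) (hpp : ∀ g : G, g ≠ 1 → IsPrimePow (orderOf g))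
    (R : Subgroup G) [R.Normal] (hRs : Group.IsSolvable ↥R) (hRmax : ∀ N : Subgroup G, N.Normal → Group.IsSolvable ↥N → N ≤ R) :
    (∃ p : ℕ, p.Prime ∧ IsPGroup p ↥R) ∧
      (∃ M : Subgroup (G ⧸ R), M.Normal ∧ IsSimpleGroup ↥M ∧ ¬ IsMulCommutative ↥M ∧
        ∀ N : Subgroup (G ⧸ R), N.Normal → N ≠ ⊥ → M ≤ N) ∧
      ∀ H : Subgroup G, Group.IsSolvable ↥H → (Nat.card ↥H).primeFactors.card ≤ 2 := by
  classical
  have hquot : ¬ Group.IsSolvable (G ⧸ R) := fun hq => hns (isSolvable_of_commutator_le R hRs hq)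
  refine ⟨?_, ?_, ?_⟩
  · rcases eq_or_ne R ⊥ with hR | hR
    · exact ⟨2, Nat.prime_two, IsPGroup.of_bot.of_equiv (MulEquiv.subgroupCongr hR.symm)⟩
    obtain ⟨V, hVR, hV⟩ := exists_isMinimalNormal_le (N := R) hR
    haveI := hV.normal
    have hVs : Group.IsSolvable V := haveI := hRs; Group.isSolvable_of_isSolvable_injective
      (Subgroup.inclusion_injective hVR)
    obtain ⟨p, hp, -, -, hVp⟩ := hV.exists_prime hVs
    refine ⟨p, hp, IsPGroup.of_card (Nat.eq_prime_pow_of_unique_prime_dvd Nat.card_pos.ne' fun {q} hq hqd => ?_)⟩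
    by_contra hqp
    apply hns
    haveI := Fact.mk hq
    haveI := Fact.mk hp
    obtain ⟨Q⟩ : Nonempty (Sylow q R) := inferInstance
    let Q' := (Q : Subgroup R).map R.subtype
    have hQ'p : IsPGroup q Q' := Q.isPGroup'.map _
    have hQne : Q' ≠ ⊥ := fun e => Q.ne_bot_of_dvd_card hqd
      ((Subgroup.map_eq_bot_iff_of_injective _ R.subtype_injective).mp e)
    haveI : Nontrivial Q' := (Subgroup.nontrivial_iff_ne_bot _).mpr hQne
    have hfpf : CfsgLib.Base.IsFPF Q' V := by
      refine ⟨fun g _ => by rw [Subgroup.normalizer_eq_top]; trivial, fun a ha ha1 => ?_⟩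
      rw [Subgroup.eq_bot_iff_forall]
      intro v hv
      by_contra hv1
      obtain ⟨i, hi⟩ := IsPGroup.iff_orderOf.mp hQ'p ⟨a, ha⟩
      rw [Subgroup.orderOf_mk] at hi
      obtain ⟨j, hj⟩ := IsPGroup.iff_orderOf.mp hVp ⟨v, hv.1⟩
      rw [Subgroup.orderOf_mk] at hj
      have hi0 : i ≠ 0 := fun e => ha1 (orderOf_eq_one_iff.mp (by rw [hi, e, pow_zero]))
      have hj0 : j ≠ 0 := fun e => hv1 (orderOf_eq_one_iff.mp (by rw [hj, e, pow_zero]))
      have hc : Commute a v := Subgroup.mem_centralizer_iff.mp hv.2 a (Set.mem_singleton a)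
      refine false_of_commute hpp ((hc.pow_left (q ^ (i - 1))).pow_right (p ^ (j - 1))) hq hp hqp ?_ ?_
      · rw [orderOf_pow_of_dvd (pow_pos hq.pos _).ne' (hi ▸ pow_dvd_pow q (Nat.sub_le i 1)), hi,
          Nat.pow_div (Nat.sub_le i 1) hq.pos, show i - (i - 1) = 1 by omega, pow_one]
      · rw [orderOf_pow_of_dvd (pow_pos hp.pos _).ne' (hj ▸ pow_dvd_pow p (Nat.sub_le j 1)), hj,
          Nat.pow_div (Nat.sub_le j 1) hp.pos, show j - (j - 1) = 1 by omega, pow_one]
    haveI := hQ'p.center_nontrivial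
    obtain ⟨z, hz⟩ : ∃ z : Subgroup.center Q', orderOf z = q :=
      exists_prime_orderOf_dvd_card' q ((hQ'p.to_subgroup _).card_eq_or_dvd.resolve_left
        Finite.one_lt_card.ne')
    let a : G := ((z : Q') : G)
    have hao : orderOf a = q := (Subgroup.orderOf_coe _).trans ((Subgroup.orderOf_coe _).trans hz)
    have haQ : a ∈ Q' := (z : Q').2
    have huniq : ∀ b ∈ Q', b ^ q = 1 → b ∈ Subgroup.zpowers a := fun b hb hbq =>
      CfsgLib.Base.IsFPF.mem_zpowers_of_commute hfpf hV.ne_bot hq haQ hb hao hbq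
        (congrArg Subtype.val (Subgroup.mem_center_iff.mp z.2 ⟨b, hb⟩)).symm
    let NQ := Subgroup.normalizer (Q' : Set G)
    let C := Subgroup.centralizer ({a} : Set G)
    let A := Subgroup.zpowers a
    have hNA : NQ ≤ Subgroup.normalizer (A : Set G) := by
      intro g hg
      rw [Subgroup.mem_normalizer_iff_map_conj_eq, MonoidHom.map_zpowers]
      have hb : g * a * g⁻¹ ∈ A := huniq _ ((Subgroup.mem_normalizer_iff.mp hg a).mp haQ) (by
        rw [conj_pow, ← hao, pow_orderOf_eq_one, mul_one, mul_inv_cancel])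
      refine Subgroup.eq_of_le_of_card_ge (Subgroup.zpowers_le.mpr hb) ?_
      rw [Nat.card_zpowers, Nat.card_zpowers]
      exact le_of_eq (orderOf_injective (MulAut.conj g).toMonoidHom (MulAut.conj g).injective a).symm
    -- the centralizer of `a` is a `q`-group
    have hCq : IsPGroup q C := by
      refine IsPGroup.of_card (Nat.eq_prime_pow_of_unique_prime_dvd Nat.card_pos.ne' fun {r} hr hrd => ?_)
      by_contra hrq
      haveI := Fact.mk hr
      obtain ⟨y, hy⟩ := exists_prime_orderOf_dvd_card' r hrd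
      exact false_of_commute hpp (x := (y : G)) (y := a)
        (Subgroup.mem_centralizer_singleton_iff.mp y.2) hr hq hrq (by rw [Subgroup.orderOf_coe, hy]) hao
    haveI := hCq.isNilpotent
    have hNs : Group.IsSolvable NQ := by
      let ψ : NQ →* MulAut A := (A.normalizerMonoidHom).comp (Subgroup.inclusion hNA)
      haveI : Group.IsSolvable (MulAut A) := by
        haveI : IsCyclic A := inferInstance
        refine Group.isSolvable_of_comm fun x y => ?_
        obtain ⟨i, hi⟩ := MonoidHom.map_cyclic x.toMonoidHom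
        obtain ⟨j, hj⟩ := MonoidHom.map_cyclic y.toMonoidHom
        ext w
        show ((x (y w) : A) : G) = ((y (x w) : A) : G)
        have e1 : ∀ w, x w = w ^ i := hi
        have e2 : ∀ w, y w = w ^ j := hj
        rw [e1, e2, e2, e1, ← zpow_mul, ← zpow_mul, mul_comm]
      have hker : ψ.ker ≤ C.subgroupOf NQ := by
        intro g hg
        show (g : G) ∈ C
        rw [Subgroup.mem_centralizer_singleton_iff]
        have h1 : ψ g = 1 := hg
        have h2 := congrArg (fun e : MulAut A => ((e ⟨a, Subgroup.mem_zpowers a⟩ : A) : G)) h1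
        have h3 : (g : G) * a * (g : G)⁻¹ = a := h2
        exact mul_inv_eq_iff_eq_mul.mp h3
      haveI : Group.IsSolvable (C.subgroupOf NQ) :=
        Group.isSolvable_of_isSolvable_injective (f := (NQ.subtype.comp (C.subgroupOf NQ).subtype).codRestrict C
          (fun x => x.2)) fun x y e => Subtype.ext (Subtype.ext (congrArg Subtype.val e :))
      exact Group.isSolvable_of_ker_le_range (C.subgroupOf NQ).subtype ψ (by rwa [Subgroup.range_subtype])
    have hfr : NQ ⊔ R = ⊤ := Sylow.normalizer_sup_eq_top Q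
    refine isSolvable_of_commutator_le R hRs ?_
    refine Group.isSolvable_of_surjective (f := (QuotientGroup.mk' R).comp NQ.subtype) fun w => ?_
    obtain ⟨g, rfl⟩ := QuotientGroup.mk'_surjective R w
    obtain ⟨n, hn, k, hk, rfl⟩ := Subgroup.mem_sup_of_normal_right.mp (hfr.symm ▸ Subgroup.mem_top g)
    refine ⟨⟨n, hn⟩, ?_⟩
    show QuotientGroup.mk' R n = QuotientGroup.mk' R (n * k)
    rw [map_mul, show QuotientGroup.mk' R k = 1 from (QuotientGroup.eq_one_iff k).mpr hk, mul_one]
  · have hppq : ∀ g : G ⧸ R, g ≠ 1 → IsPrimePow (orderOf g) := by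
      intro g hg
      obtain ⟨x, rfl⟩ := QuotientGroup.mk'_surjective R g
      exact (hpp x fun e => hg (by rw [e, map_one])).dvd (orderOf_map_dvd _ x)
        fun e => hg (orderOf_eq_one_iff.mp e)
    have hnsol : ∀ N : Subgroup (G ⧸ R), N.Normal → N ≠ ⊥ → ¬ Group.IsSolvable N := by
      intro N hN hNne hs
      let f := QuotientGroup.mk' R
      haveI := hN.comap f
      have hRle : R ≤ N.comap f := fun r hr => by
        show f r ∈ N
        rw [show f r = 1 from (QuotientGroup.eq_one_iff r).mpr hr]; exact one_mem N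
      have hle : N.comap f ≤ R := by
        refine hRmax _ inferInstance ?_
        refine Group.isSolvable_of_ker_le_range (Subgroup.inclusion hRle) (f.subgroupComap N) fun x hx => ?_
        have : f x = 1 := congrArg Subtype.val hx
        exact ⟨⟨x, (QuotientGroup.eq_one_iff _).mp this⟩, rfl⟩
      apply hNne
      rw [← Subgroup.map_comap_eq_self_of_surjective (QuotientGroup.mk'_surjective R) N,
        Subgroup.map_eq_bot_iff, QuotientGroup.ker_mk']
      exact hle
    haveI : Nontrivial (G ⧸ R) := by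
      rcases subsingleton_or_nontrivial (G ⧸ R) with hss | hnt
      · exact absurd (Group.isSolvable_of_comm fun a b => Subsingleton.elim _ _) hquot
      · exact hnt
    obtain ⟨M, hM⟩ := exists_isMinimalNormal (G := G ⧸ R)
    haveI := hM.normal
    obtain ⟨T, hT⟩ := CfsgLib.Recog.exists_isSocleFactor hM (hnsol M hM.normal hM.ne_bot)
    have hconj : ∀ g, CfsgLib.Recog.conjSub g T = T := by
      intro g
      by_contra hne
      have hle := hT.le_centralizer_of_ne (Ne.symm hne)
      have hb := centralizer_eq_bot hppq (hT.map_conj g).not_isSolvable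
      exact hT.ne_bot (le_bot_iff.mp (hb ▸ hle))
    have hTn : T.Normal := ⟨fun x hx g => hconj g ▸ CfsgLib.Recog.conj_mem_conjSub hx⟩
    have hTM : T = M := (hM.eq_bot_or_eq hTn hT.le).resolve_left hT.ne_bot
    refine ⟨M, hM.normal, hTM ▸ hT.isSimpleGroup, hTM ▸ hT.not_comm, fun N hN hNne => ?_⟩
    refine (hM.le_or_inf_eq_bot N).resolve_right fun h0 => hNne ?_
    rw [← le_bot_iff, ← centralizer_eq_bot hppq (hnsol M hM.normal hM.ne_bot)]
    intro n hn
    rw [Subgroup.mem_centralizer_iff]
    exact fun m hm => Subgroup.commute_of_normal_of_disjoint M N hM.normal hN (disjoint_iff.mpr h0) m n hm hn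
  · intro H hH
    haveI := hH
    refine Cfsg.Agent.S1475.result fun g => ?_
    rcases eq_or_ne g 1 with e | e
    · exact Or.inr e
    · left
      rw [← Subgroup.orderOf_coe]
      exact hpp _ fun e' => e (Subtype.ext e')

end Cfsg.Agent.S3992
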