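import Cfsg.Statements.S3994
import Mathlib
import Cfsg.Agent.Lib.Base.FrobeniusSolutions

set_option autoImplicit false
set_option linter.style.haveILetI false
open Cfsg

namespace Cfsg.Agent.S3994

theorem key {G : Type*} [Group G] [Finite G] {P M e : ℕ} (hN : Nat.card G = M * P)
    (he1 : e ≡ 1 [MOD P]) (heM : M ∣ e) (n : ℕ) (hnM : n.Coprime M) :
    M ∣ Nat.card {g : G // n ∣ orderOf g} := by
  classical
  haveI := Fintype.ofFinite G
  -- facts about the two parts
  have h1 : ∀ g : G, (g ^ e) ^ P = 1 := by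
    intro g
    obtain ⟨k, rfl⟩ := heM
    rw [← pow_mul, show M * k * P = (M * P) * k by ring, ← hN, pow_mul, pow_card_eq_one', one_pow]
  have hxe : ∀ x : G, x ^ P = 1 → x ^ e = x := by
    intro x hx
    conv_rhs => rw [← pow_one x]
    rw [pow_eq_pow_iff_modEq]
    exact he1.of_dvd (orderOf_dvd_of_pow_eq_one hx)
  have hye : ∀ y : G, y ^ M = 1 → y ^ e = 1 := by
    intro y hy
    obtain ⟨k, rfl⟩ := heM
    rw [pow_mul, hy, one_pow]
  have h2 : ∀ g : G, ((g ^ e)⁻¹ * g) ^ M = 1 := by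
    intro g
    have hz : (((g ^ e)⁻¹ * g) ^ M) ^ P = 1 := by rw [← pow_mul, ← hN, pow_card_eq_one']
    have h3 := hxe _ hz
    have hc : Commute (g ^ e)⁻¹ g := ((Commute.refl g).pow_left e).inv_left
    have h4 : ((g ^ e)⁻¹ * g) ^ e = 1 := by
      rw [hc.mul_pow, inv_pow, hxe (g ^ e) (h1 g), inv_mul_cancel]
    rwa [← pow_mul, mul_comm, pow_mul, h4, one_pow, eq_comm] at h3
  -- the decomposition
  let S : Finset G := Finset.univ.filter fun x => x ^ P = 1 ∧ n ∣ orderOf x
  let f : G → ℕ := fun x => Nat.card {y : G // Commute x y ∧ y ^ M = 1}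
  have hord : ∀ x y : G, Commute x y → x ^ P = 1 → y ^ M = 1 →
      (n ∣ orderOf (x * y) ↔ n ∣ orderOf x) := by
    intro x y hc hx hy
    constructor
    · intro h
      exact (Nat.Coprime.coprime_dvd_right (orderOf_dvd_of_pow_eq_one hy) hnM).dvd_of_dvd_mul_right
        (h.trans hc.orderOf_mul_dvd_mul_orderOf)
    · intro h
      refine h.trans (orderOf_dvd_of_pow_eq_one ?_)
      have h5 : ((x * y) ^ orderOf (x * y)) ^ e = 1 := by rw [pow_orderOf_eq_one, one_pow]
      rwa [← pow_mul, mul_comm, pow_mul, hc.mul_pow, hxe x hx, hye y hy, mul_one] at h5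
  let E : {g : G // n ∣ orderOf g} ≃ (Σ x : {x // x ∈ S}, {y : G // Commute (x : G) y ∧ y ^ M = 1}) :=
    { toFun := fun g => ⟨⟨g.1 ^ e, by
        have hc : Commute (g.1 ^ e) ((g.1 ^ e)⁻¹ * g.1) :=
          (Commute.refl (g.1 ^ e)).inv_right.mul_right ((Commute.refl g.1).pow_left e)
        have := (hord _ _ hc (h1 g.1) (h2 g.1)).mp (by rw [mul_inv_cancel_left]; exact g.2)
        exact Finset.mem_filter.mpr ⟨Finset.mem_univ _, h1 g.1, this⟩⟩,
        ⟨(g.1 ^ e)⁻¹ * g.1, (Commute.refl (g.1 ^ e)).inv_right.mul_right ((Commute.refl g.1).pow_left e), h2 g.1⟩⟩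
      invFun := fun p => ⟨p.1.1 * p.2.1, (hord _ _ p.2.2.1 (Finset.mem_filter.mp p.1.2).2.1 p.2.2.2).mpr
        (Finset.mem_filter.mp p.1.2).2.2⟩
      left_inv := fun g => Subtype.ext (mul_inv_cancel_left _ _)
      right_inv := by
        rintro ⟨⟨x, hx⟩, ⟨y, hc, hy⟩⟩
        have hx' := (Finset.mem_filter.mp hx).2.1
        have hxy : (x * y) ^ e = x := by rw [hc.mul_pow, hxe x hx', hye y hy, mul_one]
        apply Sigma.subtype_ext
        · exact Subtype.ext hxy
        · show ((x * y) ^ e)⁻¹ * (x * y) = y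
          rw [hxy, inv_mul_cancel_left] }
  rw [Nat.card_congr E, Nat.card_sigma, Finset.sum_coe_sort S f]
  refine CfsgLib.Base.Solutions.dvd_sum_of_conj_invariant (fun v w hvw hv => ?_) (fun v w hvw => ?_) ?_
  · obtain ⟨c, rfl⟩ := isConj_iff.mp hvw
    obtain ⟨hv1, hv2⟩ := (Finset.mem_filter.mp hv).2
    refine Finset.mem_filter.mpr ⟨Finset.mem_univ _, ?_, ?_⟩
    · rw [conj_pow, hv1, mul_one, mul_inv_cancel]
    · rwa [show orderOf (c * v * c⁻¹) = orderOf v from
        orderOf_injective (MulAut.conj c).toMonoidHom (MulAut.conj c).injective v]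
  · obtain ⟨c, rfl⟩ := isConj_iff.mp hvw
    refine Nat.card_congr ((MulAut.conj c).toEquiv.subtypeEquiv fun y => and_congr ?_ ?_)
    · refine ⟨fun h => h.map (MulAut.conj c).toMonoidHom, fun h => ?_⟩
      have := h.map (MulAut.conj c⁻¹).toMonoidHom
      simpa [mul_assoc] using this
    · show y ^ M = 1 ↔ (c * y * c⁻¹) ^ M = 1
      rw [conj_pow, mul_inv_eq_one, mul_eq_left]
  · intro v hv
    let C := Subgroup.centralizer ({v} : Set G)
    let d := Nat.gcd (Nat.card C) M
    have hf : f v = Nat.card {y : C // y ^ d = 1} :=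
      Nat.card_congr
        { toFun := fun y => ⟨⟨y.1, Subgroup.mem_centralizer_singleton_iff.mpr y.2.1.symm.eq⟩, Subtype.ext (by
            show y.1 ^ d = 1
            refine orderOf_dvd_iff_pow_eq_one.mp (Nat.dvd_gcd ?_ (orderOf_dvd_of_pow_eq_one y.2.2))
            exact Subgroup.orderOf_dvd_natCard C (Subgroup.mem_centralizer_singleton_iff.mpr y.2.1.symm.eq))⟩
          invFun := fun y => ⟨y.1, (Subgroup.mem_centralizer_singleton_iff.mp y.1.2).symm, by
            obtain ⟨k, hk⟩ : d ∣ M := Nat.gcd_dvd_right _ _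
            rw [hk, pow_mul, ← SubmonoidClass.coe_pow, y.2, OneMemClass.coe_one, one_pow]⟩
          left_inv := fun y => rfl
          right_inv := fun y => rfl }
    have hd : d ∣ f v := hf ▸ CfsgLib.Base.Solutions.dvd_card_pow_eq_one (Nat.gcd_dvd_left _ _)
    refine Dvd.dvd.trans ?_ (Nat.mul_dvd_mul_left C.index hd)
    rw [← Nat.gcd_mul_left]
    exact Nat.dvd_gcd (by rw [mul_comm, Subgroup.card_mul_index, hN]; exact dvd_mul_right M P) (dvd_mul_left M _)


/-- Let G be a finite group and n a positive integer. The number of elements of G whose order is divisible by n is either 0 or divisible by the largest divisor of the order of G that is coprime to n. -/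
theorem result {G : Type*} [Group G] [Finite G] (n : ℕ) (hn : 0 < n) :
    Nat.card {g : G // n ∣ orderOf g} = 0 ∨
      (Nat.card G / Nat.gcd (Nat.card G) (n ^ Nat.card G)) ∣ Nat.card {g : G // n ∣ orderOf g} := by
  right
  set N := Nat.card G
  set P := Nat.gcd N (n ^ N) with hP
  have hNpos : 0 < N := Nat.card_pos
  obtain ⟨M, hM⟩ : P ∣ N := Nat.gcd_dvd_left _ _
  have hPpos : 0 < P := Nat.gcd_pos_of_pos_left _ hNpos
  rw [show N / P = M by rw [hM, Nat.mul_div_cancel_left _ hPpos]]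
  -- `n` is coprime to `M`
  have hcop : n.Coprime M := by
    refine Nat.coprime_of_dvd fun r hr hrn hrM => ?_
    obtain ⟨k, m, hm, hk⟩ := Nat.exists_eq_pow_mul_and_not_dvd hNpos.ne' r hr.ne_one
    have hkN : k ≤ N := by
      have h2 := Nat.le_of_dvd hNpos (Dvd.intro m hk.symm)
      exact (Nat.lt_pow_self hr.one_lt).le.trans h2
    have hkP : r ^ k ∣ P :=
      Nat.dvd_gcd (Dvd.intro m hk.symm) ((pow_dvd_pow r hkN).trans (pow_dvd_pow_of_dvd hrn N))
    have : r ^ (k + 1) ∣ N := by rw [hM, pow_succ]; exact Nat.mul_dvd_mul hkP hrM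
    rw [hk, pow_succ, Nat.mul_dvd_mul_iff_left (pow_pos hr.pos k)] at this
    exact hm this
  have hPM : Nat.Coprime P M :=
    Nat.Coprime.coprime_dvd_left (Nat.gcd_dvd_right N (n ^ N)) (Nat.Coprime.pow_left N hcop)
  obtain ⟨e, he1, he2⟩ := Nat.chineseRemainder hPM 1 0
  exact key (e := e) (by rw [mul_comm]; exact hM) he1 (Nat.modEq_zero_iff_dvd.mp he2) n hcop

end Cfsg.Agent.S3994
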