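import Cfsg.Statements.S3995
import Mathlib
import Cfsg.Agent.Lib.Base.FrobeniusSolutions
import Cfsg.Agent.Lib.FgsC.OrderType

set_option autoImplicit false
set_option linter.style.haveILetI false
open Cfsg

namespace Cfsg.Agent.S3995

open Subgroup

universe u
variable {G : Type u} [Group G] [Finite G]

/-- The number of elements of order `m`. -/
noncomputable def cnt (G : Type u) [Group G] (m : ℕ) : ℕ := Nat.card {g : G // orderOf g = m}

theorem cnt_one : cnt G 1 = 1 := by
  rw [cnt]
  refine (Nat.card_congr (Equiv.subtypeEquivRight (q := fun g : G => g = 1) fun g => orderOf_eq_one_iff)).trans ?_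
  simp

theorem cnt_ne_one {g : G} (h : 3 ≤ orderOf g) : cnt G (orderOf g) ≠ 1 := by
  intro h1
  haveI := (Nat.card_eq_one_iff_unique.mp h1).1
  have he := congrArg Subtype.val (Subsingleton.elim
    (⟨g, rfl⟩ : {x : G // orderOf x = orderOf g}) ⟨g⁻¹, orderOf_inv g⟩)
  have he' : g = g⁻¹ := he
  have h2 : g ^ 2 = 1 := by rw [pow_two]; nth_rewrite 2 [he']; exact mul_inv_cancel g
  have := Nat.le_of_dvd two_pos (orderOf_dvd_of_pow_eq_one h2)
  omega

theorem cnt_even {m : ℕ} (h : 3 ≤ m) : 2 ∣ cnt G m := by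
  classical
  letI := Fintype.ofFinite G
  rw [cnt, Nat.card_eq_fintype_card, ← ZMod.natCast_eq_zero_iff, Fintype.card_subtype,
    Finset.cast_card]
  refine Finset.sum_involution (fun g _ => g⁻¹) (fun g _ => by decide) (fun g hg _ he => ?_)
    (fun g hg => by simpa using hg) (fun g _ => inv_inv g)
  have h2 : g ^ 2 = 1 := by rw [pow_two]; nth_rewrite 1 [← he]; exact inv_mul_cancel g
  have := Nat.le_of_dvd two_pos (orderOf_dvd_of_pow_eq_one h2)
  rw [(Finset.mem_filter.mp hg).2] at this
  omega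

theorem frob {m : ℕ} (hm0 : 0 < m) (hm : m ∣ Nat.card G) : m ∣ ∑ d ∈ m.divisors, cnt G d := by
  have := CfsgLib.Base.Solutions.dvd_card_pow_eq_one hm
  rwa [CfsgLib.FgsC.OrderType.card_pow_eq_one_eq_sum G m hm0] at this

theorem sum_divisors_mul_prime {m p : ℕ} (hp : p.Prime) (hm : m ≠ 0) (hco : m.Coprime p) (f : ℕ → ℕ) :
    ∑ d ∈ (m * p).divisors, f d = ∑ d ∈ m.divisors, f d + ∑ d ∈ m.divisors, f (d * p) := by
  classical
  have hne : ∀ d ∈ m.divisors, ¬ p ∣ d := fun d hd h => hp.ne_one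
    (Nat.dvd_one.mp (hco.gcd_eq_one ▸ Nat.dvd_gcd (h.trans (Nat.dvd_of_mem_divisors hd)) dvd_rfl))
  have he : (m * p).divisors = m.divisors ∪ m.divisors.image (· * p) := by
    ext d
    simp only [Finset.mem_union, Finset.mem_image, Nat.mem_divisors]
    constructor
    · rintro ⟨hd, -⟩
      by_cases hpd : p ∣ d
      · obtain ⟨e, rfl⟩ := hpd
        rw [mul_comm p e] at hd ⊢
        exact Or.inr ⟨e, ⟨Nat.dvd_of_mul_dvd_mul_right hp.pos hd, hm⟩, rfl⟩
      · exact Or.inl ⟨((hp.coprime_iff_not_dvd.mpr hpd).symm).dvd_of_dvd_mul_right hd, hm⟩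
    · rintro (⟨hd, -⟩ | ⟨e, ⟨he, -⟩, rfl⟩)
      · exact ⟨hd.mul_right p, Nat.mul_ne_zero hm hp.ne_zero⟩
      · exact ⟨Nat.mul_dvd_mul_right he p, Nat.mul_ne_zero hm hp.ne_zero⟩
  rw [he, Finset.sum_union, Finset.sum_image fun a _ b _ hab => Nat.eq_of_mul_eq_mul_right hp.pos hab]
  rw [Finset.disjoint_left]
  intro d hd hd'
  obtain ⟨e, -, rfl⟩ := Finset.mem_image.mp hd'
  exact hne _ hd (dvd_mul_left p e)

theorem frob_prime {p : ℕ} (hp : p.Prime) (hd : p ∣ Nat.card G) : p ∣ 1 + cnt G p := by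
  have := frob hp.pos hd
  rwa [hp.sum_divisors, cnt_one, add_comm] at this

/-- A Sylow subgroup centralises some element of order `m`. -/
theorem exists_mul_order {p m : ℕ} [Fact p.Prime] (hd : p ∣ Nat.card G) (hn : ¬ p ∣ cnt G m)
    (hcop : m.Coprime p) : ∃ g : G, orderOf g = m * p := by
  obtain ⟨P⟩ : Nonempty (Sylow p G) := inferInstance
  letI : MulAction (P : Subgroup G) {g : G // orderOf g = m} :=
    { smul := fun u g => ⟨(u : G) * g.1 * (u : G)⁻¹, by
        rw [← MulAut.conj_apply, MulEquiv.orderOf_eq]; exact g.2⟩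
      one_smul := fun g => Subtype.ext (show (1 : G) * g.1 * (1 : G)⁻¹ = g.1 by simp)
      mul_smul := fun a b g => Subtype.ext (show ((a : G) * b) * g.1 * ((a : G) * b)⁻¹ =
        (a : G) * ((b : G) * g.1 * (b : G)⁻¹) * (a : G)⁻¹ by group) }
  obtain ⟨g, hg⟩ := P.isPGroup'.nonempty_fixed_point_of_prime_not_dvd_card _ hn
  obtain ⟨u, hu⟩ := exists_prime_orderOf_dvd_card' (G := (P : Subgroup G)) p (P.dvd_card_of_dvd_card hd)
  rw [← Subgroup.orderOf_coe] at hu
  have hc : Commute (g.1 : G) (u : G) := by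
    have h1 : (u : G) * g.1 * (u : G)⁻¹ = g.1 := congrArg Subtype.val (hg u)
    exact (mul_inv_eq_iff_eq_mul.mp h1).symm
  refine ⟨g.1 * u, ?_⟩
  rw [hc.orderOf_mul_eq_mul_orderOf_of_coprime (by rw [g.2, hu]; exact hcop), g.2, hu]

theorem dvd_card_of_orderOf {g : G} {m : ℕ} (h : orderOf g = m) : m ∣ Nat.card G :=
  h ▸ orderOf_dvd_natCard g

theorem order_four {z : G} (huniq : ∀ g : G, orderOf g = 2 → g = z) {g : G} (hg : g ^ 4 = 1)
    (h1 : g ≠ 1) (hz : g ≠ z) : g * g = z ∧ orderOf g = 4 := by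
  have h2 : g ^ 2 ≠ 1 := fun e => hz (huniq g (orderOf_eq_prime e h1))
  haveI : Fact (Nat.Prime 2) := ⟨Nat.prime_two⟩
  have h4 : orderOf g = 2 ^ (1 + 1) := orderOf_eq_prime_pow (by simpa using h2) (by simpa using hg)
  refine ⟨huniq _ (orderOf_eq_prime ?_ (by rwa [← pow_two])), h4⟩
  rw [← hg, ← pow_two, ← pow_mul]

/-- Exponent four, one involution. -/
theorem cyclic_or_quaternion {z : G} (hz : orderOf z = 2) (huniq : ∀ g : G, orderOf g = 2 → g = z)
    (h4 : ∀ g : G, g ^ 4 = 1) {x : G} (hx : orderOf x = 4) :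
    Nonempty (G ≃* QuaternionGroup 2) ∨ (IsCyclic G ∧ Nat.card G = 4) := by
  have hzc : ∀ g : G, Commute g z := fun g => by
    have := huniq (g * z * g⁻¹) (by rw [← MulAut.conj_apply, MulEquiv.orderOf_eq]; exact hz)
    exact mul_inv_eq_iff_eq_mul.mp this
  have hzz : z * z = 1 := by rw [← pow_two, ← hz]; exact pow_orderOf_eq_one z
  have hsq : ∀ g : G, g ≠ 1 → g ≠ z → g * g = z := fun g h1 h2 => (order_four huniq (h4 g) h1 h2).1
  -- commuting elements
  have hcomm : ∀ a b : G, a ≠ 1 → a ≠ z → Commute a b → b ∈ zpowers a := by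
    intro a b ha haz hc
    have haa := hsq a ha haz
    have hza : z ∈ zpowers a := haa ▸ mul_mem (mem_zpowers a) (mem_zpowers a)
    by_cases hb : b = 1
    · exact hb ▸ one_mem _
    by_cases hbz : b = z
    · exact hbz ▸ hza
    have hbb := hsq b hb hbz
    have hd : (b * a⁻¹) * (b * a⁻¹) = 1 := by
      rw [(hc.symm.inv_right).symm.mul_mul_mul_comm, hbb, ← mul_inv_rev, haa, mul_inv_cancel]
    have hmem : b * a⁻¹ ∈ zpowers a := by
      by_cases he : b * a⁻¹ = 1
      · rw [he]; exact one_mem _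
      · rw [huniq _ (orderOf_eq_prime (by rw [pow_two]; exact hd) he)]; exact hza
    simpa using mul_mem hmem (mem_zpowers a)
  have hinv : ∀ a b : G, ¬ Commute a b → b * a * b⁻¹ = a⁻¹ := by
    intro a b hab
    have ha1 : a ≠ 1 := fun e => hab (e ▸ Commute.one_left b)
    have haz : a ≠ z := fun e => hab (e ▸ (hzc b).symm)
    have hb1 : b ≠ 1 := fun e => hab (e ▸ Commute.one_right a)
    have hbz : b ≠ z := fun e => hab (e ▸ hzc a)
    have hab1 : a * b ≠ 1 := fun e => hab (by
      rw [eq_inv_of_mul_eq_one_right e]; exact (Commute.refl a).inv_right)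
    have habz : a * b ≠ z := fun e => hab (by
      rw [show b = a⁻¹ * z by rw [← e, inv_mul_cancel_left]]
      exact ((Commute.refl a).inv_right).mul_right (hzc a))
    have h1 := hsq _ hab1 habz
    have haa := hsq a ha1 haz
    have hbb := hsq b hb1 hbz
    calc b * a * b⁻¹ = a⁻¹ * ((a * b) * (a * b)) * (b * b)⁻¹ := by group
      _ = a⁻¹ := by rw [h1, hbb, mul_inv_cancel_right]
  have hx1 : x ≠ 1 := fun e => by rw [e, orderOf_one] at hx; omega
  have hxz : x ≠ z := fun e => by rw [e, hz] at hx; omega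
  by_cases hall : ∀ b : G, Commute x b
  · right
    have htop : zpowers x = ⊤ := eq_top_iff.mpr fun b _ => hcomm x b hx1 hxz (hall b)
    refine ⟨isCyclic_iff_exists_zpowers_eq_top.mpr ⟨x, htop⟩, ?_⟩
    rw [← hx, ← Nat.card_zpowers, htop, card_top]
  left
  push Not at hall
  obtain ⟨y, hy⟩ := hall
  have hxy := hinv x y hy
  have hy1 : y ≠ 1 := fun e => hy (e ▸ Commute.one_right x)
  have hyz : y ≠ z := fun e => hy (e ▸ hzc x)
  have hyx : y ∉ zpowers x := by
    rintro ⟨k, rfl⟩
    exact hy ((Commute.refl x).zpow_right k)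
  let X : ZMod 4 → G := fun k => x ^ (k.val : ℤ)
  have hX : ∀ k : ℤ, X (k : ZMod 4) = x ^ k := by
    intro k
    show x ^ (((k : ZMod 4).val : ℕ) : ℤ) = x ^ k
    rw [ZMod.val_intCast, zpow_eq_zpow_iff_modEq, hx]
    exact Int.mod_modEq k 4
  have hcast : ∀ k : ZMod 4, ((k.val : ℤ) : ZMod 4) = k := fun k => by
    rw [Int.cast_natCast, ZMod.natCast_zmod_val]
  have hXadd : ∀ i j : ZMod 4, X (i + j) = X i * X j := fun i j => by
    conv_lhs => rw [← hcast i, ← hcast j, ← Int.cast_add, hX, zpow_add]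
  have hXsub : ∀ i j : ZMod 4, X (j - i) = (X i)⁻¹ * X j := fun i j => by
    rw [eq_inv_mul_iff_mul_eq, ← hXadd, add_sub_cancel]
  have hswap : ∀ k : ZMod 4, X k * y = y * (X k)⁻¹ := by
    intro k
    have h1 : y * X k * y⁻¹ = (X k)⁻¹ := by
      show y * x ^ (k.val : ℤ) * y⁻¹ = (x ^ (k.val : ℤ))⁻¹
      rw [← conj_zpow, hxy, inv_zpow]
    calc X k * y = (y * X k * y⁻¹)⁻¹ * y := by rw [h1, inv_inv]
      _ = y * (X k)⁻¹ := by group
  let f : QuaternionGroup 2 →* G := MonoidHom.mk'
    (fun q => match q with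
      | .a i => X i
      | .xa i => y * X i) (by
      rintro (i | i) (j | j)
      · simp only [QuaternionGroup.a_mul_a]; exact hXadd i j
      · simp only [QuaternionGroup.a_mul_xa]
        show y * X (j - i) = X i * (y * X j)
        rw [← mul_assoc (X i), hswap, hXsub, mul_assoc]
      · simp only [QuaternionGroup.xa_mul_a]
        show y * X (i + j) = y * X i * X j
        rw [mul_assoc]; exact congrArg _ (hXadd i j)
      · simp only [QuaternionGroup.xa_mul_xa]
        show X ((2 : ℕ) + j - i) = y * X i * (y * X j)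
        have e : X ((2 : ℕ) : ZMod 4) = y * y := by
          rw [← Int.cast_natCast, hX, zpow_natCast, pow_two, hsq x hx1 hxz, hsq y hy1 hyz]
        have key : X ((2 : ℕ) + (j - i)) = y * y * ((X i)⁻¹ * X j) := by rw [hXadd, hXsub, e]
        rw [add_sub_assoc]
        refine key.trans ?_
        calc y * y * ((X i)⁻¹ * X j) = y * (y * (X i)⁻¹) * X j := by simp only [mul_assoc]
          _ = y * X i * (y * X j) := by rw [← hswap]; simp only [mul_assoc])
  refine ⟨(MulEquiv.ofBijective f ⟨?_, ?_⟩).symm⟩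
  · rw [injective_iff_map_eq_one]
    rintro (i | i) hi
    · change x ^ (i.val : ℤ) = 1 at hi
      rw [zpow_natCast, ← orderOf_dvd_iff_pow_eq_one, hx] at hi
      have := ZMod.val_lt i
      have : i.val = 0 := Nat.eq_zero_of_dvd_of_lt hi this
      rw [(ZMod.val_eq_zero i).mp this]
      rfl
    · refine absurd ?_ hyx
      rw [eq_inv_of_mul_eq_one_left (show y * X i = 1 from hi)]
      exact inv_mem (zpow_mem (mem_zpowers x) _)
  · intro g
    have hmem : ∀ g : G, g ∈ zpowers x → ∃ q, f q = g := by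
      rintro _ ⟨k, rfl⟩
      exact ⟨.a (k : ZMod 4), hX k⟩
    have hycoset : ∀ g : G, y⁻¹ * g ∈ zpowers x → ∃ q, f q = g := by
      intro g hg
      obtain ⟨k, hk⟩ := hg
      refine ⟨.xa (k : ZMod 4), ?_⟩
      show y * X k = g
      rw [hX, show x ^ k = y⁻¹ * g from hk, mul_inv_cancel_left]
    by_cases h1 : Commute x g
    · exact hmem g (hcomm x g hx1 hxz h1)
    by_cases h2 : Commute y g
    · obtain ⟨k, hk⟩ := hcomm y g hy1 hyz h2
      subst hk
      rcases Int.even_or_odd k with ⟨l, rfl⟩ | ⟨l, rfl⟩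
      · refine absurd ?_ h1
        simp only
        rw [← two_mul, zpow_mul, zpow_two, hsq y hy1 hyz]
        exact (hzc x).zpow_right l
      · refine hycoset _ ?_
        simp only
        rw [add_comm, zpow_add, zpow_one, inv_mul_cancel_left, zpow_mul, zpow_two, hsq y hy1 hyz,
          ← hsq x hx1 hxz]
        exact zpow_mem (mul_mem (mem_zpowers x) (mem_zpowers x)) _
    by_cases h3 : Commute (x * y) g
    · have hxy1 : x * y ≠ 1 := fun e => hyx (eq_inv_of_mul_eq_one_right e ▸ inv_mem (mem_zpowers x))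
      have hxyz : x * y ≠ z := fun e => hyx (by
        rw [show y = x⁻¹ * z by rw [← e, inv_mul_cancel_left], ← hsq x hx1 hxz, inv_mul_cancel_left]
        exact mem_zpowers x)
      obtain ⟨k, hk⟩ := hcomm (x * y) g hxy1 hxyz h3
      subst hk
      rcases Int.even_or_odd k with ⟨l, rfl⟩ | ⟨l, rfl⟩
      · refine absurd ?_ h1
        simp only
        rw [← two_mul, zpow_mul, zpow_two, hsq _ hxy1 hxyz]
        exact (hzc x).zpow_right l
      · refine hycoset _ ?_
        simp only
        have e : y⁻¹ * (x * y) = x⁻¹ := by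
          have := hswap (1 : ℤ)
          rw [hX, zpow_one] at this
          rw [this, inv_mul_cancel_left]
        rw [add_comm, zpow_add, zpow_one, ← mul_assoc, e, zpow_mul, zpow_two, hsq _ hxy1 hxyz,
          ← hsq x hx1 hxz]
        exact mul_mem (inv_mem (mem_zpowers x)) (zpow_mem (mul_mem (mem_zpowers x) (mem_zpowers x)) _)
    exfalso
    have i1 := hinv x g h1
    have i2 := hinv y g h2
    have i3 := hinv (x * y) g h3
    refine hy ?_
    have e : x⁻¹ * y⁻¹ = (x * y)⁻¹ := by rw [← i3, ← i1, ← i2]; group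
    have := congrArg (·⁻¹) e
    simp only [mul_inv_rev, inv_inv] at this
    exact this.symm


/-- Let G be a finite group such that the numbers of elements of each order that occurs in G (the numbers #{g : o(g) = m}, m ranging over the element orders of G) take exactly two values, 1 and some n ≠ 1. Then either G is a p-group of exponent p and order at least 3 for some prime p, or G is the quaternion group of order 8, or G is cyclic of order 4, or G ≅ Z₂ × P for a p-group P of exponent p with p an odd prime. -/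
theorem result {G : Type*} [Group G] [Finite G] (n : ℕ) (hn : n ≠ 1) (h : ((fun m : ℕ => Nat.card {g : G // orderOf g = m}) '' Set.range (orderOf : G → ℕ)) = {1, n}) :
    (∃ p : ℕ, p.Prime ∧ IsPGroup p G ∧ 3 ≤ Nat.card G ∧ Monoid.exponent G = p) ∨
      Nonempty (G ≃* QuaternionGroup 2) ∨ (IsCyclic G ∧ Nat.card G = 4) ∨
      (∃ (p : ℕ) (P : Type) (_ : Group P) (_ : Finite P), p.Prime ∧ p ≠ 2 ∧ IsPGroup p P ∧ Monoid.exponent P = p ∧
        Nonempty (G ≃* Multiplicative (ZMod 2) × P)) := by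
  classical
  have hN : ∀ g : G, cnt G (orderOf g) = 1 ∨ cnt G (orderOf g) = n := fun g =>
    (Set.ext_iff.mp h _).mp ⟨orderOf g, ⟨g, rfl⟩, rfl⟩
  obtain ⟨_, ⟨g₀, rfl⟩, hg₀⟩ := (Set.ext_iff.mp h n).mpr (Or.inr rfl)
  change cnt G (orderOf g₀) = n at hg₀
  have hbig : ∀ g : G, 3 ≤ orderOf g → cnt G (orderOf g) = n := fun g hg =>
    (hN g).resolve_left (cnt_ne_one hg)
  have horders : ∀ g : G, ∀ m, orderOf g = m → 3 ≤ m → cnt G m = n := fun g m he hm =>
    he ▸ hbig g (he.symm ▸ hm)
  have helt : ∀ p : ℕ, p.Prime → p ∣ Nat.card G → ∃ g : G, orderOf g = p := fun p hp hd =>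
    haveI := Fact.mk hp
    exists_prime_orderOf_dvd_card' p hd
  have hodd : ∀ p : ℕ, p.Prime → p ≠ 2 → p ∣ Nat.card G → p ∣ 1 + n ∧ cnt G p = n := by
    intro p hp h2 hd
    obtain ⟨g, hg⟩ := helt p hp hd
    have hc := horders g p hg (by have := hp.two_le; omega)
    exact ⟨hc ▸ frob_prime hp hd, hc⟩
  have hnd : ∀ p : ℕ, p.Prime → p ≠ 2 → p ∣ Nat.card G → ¬ p ∣ n := fun p hp h2 hd hdn =>
    hp.one_lt.ne' (Nat.dvd_one.mp ((Nat.dvd_add_left hdn).mp (hodd p hp h2 hd).1))
  have hsq : ∀ p : ℕ, p.Prime → p ≠ 2 → ∀ g : G, orderOf g ≠ p ^ 2 := by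
    intro p hp h2 g hg
    have hd2 := dvd_card_of_orderOf hg
    have hd : p ∣ Nat.card G := (dvd_pow_self p two_ne_zero).trans hd2
    have h3 := hp.two_le
    have hf := frob (pow_pos hp.pos 2) hd2
    rw [Nat.sum_divisors_prime_pow hp] at hf
    simp only [Finset.sum_range_succ, Finset.sum_range_zero, pow_zero, pow_one, zero_add] at hf
    rw [cnt_one, (hodd p hp h2 hd).2, horders g _ hg (by nlinarith)] at hf
    have h4 : p ∣ (1 + n + n) := (dvd_pow_self p two_ne_zero).trans hf
    exact hnd p hp h2 hd ((Nat.dvd_add_right (hodd p hp h2 hd).1).mp h4)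
  have hpq : ∀ p q : ℕ, p.Prime → q.Prime → p ≠ 2 → q ≠ 2 → p ∣ Nat.card G → q ∣ Nat.card G →
      p = q := by
    intro p q hp hq hp2 hq2 hpd hqd
    by_contra hne
    haveI := Fact.mk hp
    have hco : q.Coprime p := (Nat.coprime_primes hq hp).mpr (Ne.symm hne)
    obtain ⟨g, hg⟩ := exists_mul_order (m := q) hpd ((hodd q hq hq2 hqd).2 ▸ hnd p hp hp2 hpd) hco
    have h3 : 3 ≤ q * p := by nlinarith [hp.two_le, hq.two_le]
    have hf := frob (by positivity) (dvd_card_of_orderOf hg)
    rw [sum_divisors_mul_prime hp hq.ne_zero hco] at hf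
    simp only [hq.sum_divisors, one_mul] at hf
    rw [cnt_one, (hodd p hp hp2 hpd).2, (hodd q hq hq2 hqd).2, horders g _ hg h3] at hf
    have h4 : p ∣ n + 1 + (n + n) := (dvd_mul_left p q).trans hf
    have h6 : p ∣ 3 * (1 + n) := dvd_mul_of_dvd_right (hodd p hp hp2 hpd).1 3
    have h7 : p ∣ 2 := by
      refine (Nat.dvd_add_right h4).mp ?_
      convert h6 using 1
      ring
    exact hp2 ((Nat.prime_dvd_prime_iff_eq hp Nat.prime_two).mp h7)
  have hne1 : orderOf g₀ ≠ 1 := fun e => hn (by rw [← hg₀, e, cnt_one])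
  have hcard3 : ∀ m : ℕ, cnt G m = n → m ≠ 1 → 3 ≤ Nat.card G := by
    intro m hm hm1
    have hn2 : 2 ≤ n := by
      rcases Nat.eq_zero_or_pos n with h0 | h0
      · exfalso
        have : Nonempty {g : G // orderOf g = orderOf g₀} := ⟨⟨g₀, rfl⟩⟩
        have := Nat.card_pos (α := {g : G // orderOf g = orderOf g₀})
        rw [cnt] at hg₀
        omega
      · omega
    have h1 : Nat.card (Unit ⊕ {g : G // orderOf g = m}) ≤ Nat.card G :=
      Nat.card_le_card_of_injective (Sum.elim (fun _ => 1) Subtype.val) (by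
        rintro (a | a) (b | b) hab
        · rfl
        · exact absurd (by rw [← b.2, ← show (1 : G) = b.1 from hab, orderOf_one]) hm1
        · exact absurd (by rw [← a.2, show a.1 = (1 : G) from hab, orderOf_one]) hm1
        · exact congrArg Sum.inr (Subtype.ext hab))
    rw [Nat.card_sum, Nat.card_unique, ← cnt, hm] at h1
    omega
  have hpgroup : ∀ p : ℕ, p.Prime → (∀ g : G, orderOf g ∣ p) → IsPGroup p G ∧ Monoid.exponent G = p := by
    intro p hp hall
    refine ⟨fun g => ⟨1, by rw [pow_one]; exact orderOf_dvd_iff_pow_eq_one.mp (hall g)⟩,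
      ((Nat.dvd_prime hp).mp (Monoid.exponent_dvd_of_forall_pow_eq_one fun g =>
        orderOf_dvd_iff_pow_eq_one.mp (hall g))).resolve_left fun e => hne1 ?_⟩
    rw [orderOf_eq_one_iff]
    simpa [e] using Monoid.pow_exponent_eq_one g₀
  have hrad : ∀ g : G, ∀ p : ℕ, p.Prime → p ^ 2 ∣ orderOf g → p = 2 := by
    intro g p hp hd
    by_contra h2
    exact hsq p hp h2 _ (orderOf_pow_orderOf_div (orderOf_pos g).ne' hd)
  by_cases h2 : 2 ∣ Nat.card G
  swap
  · -- odd order
    obtain ⟨p, hp, hpd⟩ := Nat.exists_prime_and_dvd hne1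
    have hpG : p ∣ Nat.card G := hpd.trans (orderOf_dvd_natCard g₀)
    have hp2 : p ≠ 2 := fun e => h2 (e ▸ hpG)
    left
    refine ⟨p, hp, ?_⟩
    obtain ⟨h1, h3⟩ := hpgroup p hp fun g => by
      refine (Nat.dvd_iff_prime_pow_dvd_dvd p (orderOf g)).mpr fun r k hr hrk => ?_
      rcases k with _ | _ | k
      · simp
      · have hrG : r ∣ Nat.card G := (by simpa using hrk : r ∣ orderOf g).trans (orderOf_dvd_natCard g)
        rw [hpq r p hr hp (fun e => h2 (e ▸ hrG)) hp2 hrG hpG, zero_add, pow_one]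
      · have h4 : r ^ 2 ∣ orderOf g := (pow_dvd_pow r (by omega)).trans hrk
        exact absurd (hrad g r hr h4) fun e => h2 (e ▸ ((dvd_pow_self r two_ne_zero).trans
          (h4.trans (orderOf_dvd_natCard g))))
    exact ⟨h1, hcard3 _ hg₀ hne1, h3⟩
  obtain ⟨z, hz⟩ := helt 2 Nat.prime_two h2
  have h2odd : 2 ∣ 1 + cnt G 2 := frob_prime Nat.prime_two h2
  rcases hN z with h21 | h2n
  swap
  · -- many involutions
    rw [hz] at h2n
    left
    refine ⟨2, Nat.prime_two, ?_⟩
    obtain ⟨h1, h3⟩ := hpgroup 2 Nat.prime_two fun g => by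
      rcases lt_or_ge (orderOf g) 3 with hlt | hge
      · have := orderOf_pos g
        interval_cases hh : orderOf g <;> simp
      · have := cnt_even (G := G) hge
        rw [hbig g hge] at this
        omega
    exact ⟨h1, hcard3 2 h2n (by omega), h3⟩
  rw [hz] at h21
  haveI := (Nat.card_eq_one_iff_unique.mp h21).1
  have huniq : ∀ g : G, orderOf g = 2 → g = z := fun g hg =>
    congrArg Subtype.val (Subsingleton.elim (⟨g, hg⟩ : {x : G // orderOf x = 2}) ⟨z, hz⟩)
  have h4d : ∀ g : G, orderOf g = 4 → 4 ∣ 1 + 1 + n := by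
    intro g hg
    have hf := frob (by norm_num) (dvd_card_of_orderOf hg)
    rw [show (4 : ℕ).divisors = {1, 2, 4} by decide] at hf
    simp only [Finset.mem_insert, Finset.mem_singleton, OfNat.one_ne_ofNat, or_self,
      not_false_eq_true, Finset.sum_insert, Finset.sum_singleton, OfNat.ofNat_eq_ofNat,
      Nat.reduceEqDiff] at hf
    rw [cnt_one, h21, horders g 4 hg (by norm_num)] at hf
    omega
  have h8 : ∀ g : G, orderOf g ≠ 8 := by
    intro g hg
    have hf := frob (by norm_num) (dvd_card_of_orderOf hg)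
    rw [show (8 : ℕ).divisors = {1, 2, 4, 8} by decide] at hf
    simp only [Finset.mem_insert, Finset.mem_singleton, OfNat.one_ne_ofNat, or_self,
      not_false_eq_true, Finset.sum_insert, Finset.sum_singleton, OfNat.ofNat_eq_ofNat,
      Nat.reduceEqDiff] at hf
    have hg4 : orderOf (g ^ 2) = 4 := by rw [orderOf_pow, hg]; norm_num
    have := h4d _ hg4
    rw [cnt_one, h21, horders _ 4 hg4 (by norm_num), horders g 8 hg (by norm_num)] at hf
    omega
  have hsq2 : ∀ g : G, ¬ 8 ∣ orderOf g := fun g hd =>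
    h8 _ (orderOf_pow_orderOf_div (orderOf_pos g).ne' hd)
  by_cases h4 : ∃ x : G, orderOf x = 4
  · obtain ⟨x, hx⟩ := h4
    have honly : ∀ p : ℕ, p.Prime → p ∣ Nat.card G → p = 2 := by
      intro p hp hpd
      by_contra hp2
      haveI := Fact.mk hp
      have hco : (4 : ℕ).Coprime p := by
        rw [show (4 : ℕ) = 2 ^ 2 by norm_num]
        exact Nat.Coprime.pow_left 2 ((Nat.coprime_primes Nat.prime_two hp).mpr (Ne.symm hp2))
      obtain ⟨g, hg⟩ := exists_mul_order (m := 4) hpd
        ((horders x 4 hx (by norm_num)) ▸ hnd p hp hp2 hpd) hco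
      have hf := frob (by have := hp.pos; omega) (dvd_card_of_orderOf hg)
      rw [sum_divisors_mul_prime hp (by norm_num) hco] at hf
      rw [show (4 : ℕ).divisors = {1, 2, 4} by decide] at hf
      simp only [Finset.mem_insert, Finset.mem_singleton, OfNat.one_ne_ofNat, or_self,
        not_false_eq_true, Finset.sum_insert, Finset.sum_singleton, OfNat.ofNat_eq_ofNat,
        Nat.reduceEqDiff, one_mul] at hf
      have hg2 : orderOf (g ^ 2) = 2 * p := by
        rw [orderOf_pow, hg, show 4 * p = 2 * (2 * p) by ring, Nat.gcd_eq_right (dvd_mul_right 2 _),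
          Nat.mul_div_cancel_left _ two_pos]
      have := hp.two_le
      rw [cnt_one, h21, (hodd p hp hp2 hpd).2, horders x 4 hx (by norm_num),
        horders g (4 * p) hg (by omega), horders _ (2 * p) hg2 (by omega)] at hf
      have h5 := (hodd p hp hp2 hpd).1
      have h6 : p ∣ 4 * (1 + n) := dvd_mul_of_dvd_right h5 4
      have h7 : p ∣ 2 := by
        refine (Nat.dvd_add_right ((dvd_mul_left p 4).trans hf)).mp ?_
        convert h6 using 1
        ring
      exact hp2 ((Nat.prime_dvd_prime_iff_eq hp Nat.prime_two).mp h7)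
    have hexp : ∀ g : G, g ^ 4 = 1 := fun g => orderOf_dvd_iff_pow_eq_one.mp <| by
      refine (Nat.dvd_iff_prime_pow_dvd_dvd 4 (orderOf g)).mpr fun r k hr hrk => ?_
      rcases k with _ | k
      · simp
      have hr2 : r = 2 := honly r hr ((dvd_pow_self r (Nat.succ_ne_zero _)).trans
        (hrk.trans (orderOf_dvd_natCard g)))
      subst hr2
      by_contra hnd4
      refine hsq2 g ((show (8 : ℕ) ∣ 2 ^ (k + 1) from ?_).trans hrk)
      rcases k with _ | _ | k
      · norm_num at hnd4
      · norm_num at hnd4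
      · exact Dvd.intro_left (2 ^ k) (by ring)
    rcases cyclic_or_quaternion hz huniq hexp hx with hq | hc
    · exact Or.inr (Or.inl hq)
    · exact Or.inr (Or.inr (Or.inl hc))
  push Not at h4
  -- involution and one odd prime
  obtain ⟨p, hp, hp2, hpd⟩ : ∃ p, p.Prime ∧ p ≠ 2 ∧ p ∣ Nat.card G := by
    by_contra hno
    push Not at hno
    have hg2 : orderOf g₀ ∣ 2 := by
      refine (Nat.dvd_iff_prime_pow_dvd_dvd 2 (orderOf g₀)).mpr fun r k hr hrk => ?_
      rcases k with _ | k
      · simp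
      have hr2 : r = 2 := by
        by_contra hne
        exact hno r hr hne ((dvd_pow_self r (Nat.succ_ne_zero _)).trans (hrk.trans (orderOf_dvd_natCard g₀)))
      subst hr2
      rcases k with _ | k
      · simp
      · exact absurd (orderOf_pow_orderOf_div (orderOf_pos g₀).ne'
          ((show (4 : ℕ) ∣ 2 ^ (k + 2) from Dvd.intro_left (2 ^ k) (by ring)).trans hrk)) (h4 _)
    rcases (Nat.dvd_prime Nat.prime_two).mp hg2 with e | e
    · exact hne1 e
    · exact hn (by rw [← hg₀, e, h21])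
  haveI := Fact.mk hp
  obtain ⟨S⟩ : Nonempty (Sylow p G) := inferInstance
  have hSexp : ∀ g : (S : Subgroup G), g ^ p = 1 := by
    intro g
    obtain ⟨k, hk⟩ := IsPGroup.iff_orderOf.mp S.isPGroup' g
    rcases k with _ | _ | k
    · rw [pow_zero, orderOf_eq_one_iff] at hk
      rw [hk, one_pow]
    · rw [← orderOf_dvd_iff_pow_eq_one, hk, zero_add, pow_one]
    · exact absurd (hrad (g : G) p hp (by rw [Subgroup.orderOf_coe, hk]; exact pow_dvd_pow p (by omega))) hp2
  have hzc : ∀ g : G, Commute g z := fun g => by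
    have := huniq (g * z * g⁻¹) (by rw [← MulAut.conj_apply, MulEquiv.orderOf_eq]; exact hz)
    exact mul_inv_eq_iff_eq_mul.mp this
  have hcardG : Nat.card G = 2 * Nat.card (S : Subgroup G) := by
    haveI : Fact (Nat.Prime 2) := ⟨Nat.prime_two⟩
    obtain ⟨T⟩ : Nonempty (Sylow 2 G) := inferInstance
    have hT : Nat.card (T : Subgroup G) = 2 := by
      have hle : (T : Subgroup G) ≤ zpowers z := fun t ht => by
        obtain ⟨k, hk⟩ := IsPGroup.iff_orderOf.mp T.isPGroup' ⟨t, ht⟩
        rw [Subgroup.orderOf_mk] at hk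
        rcases k with _ | _ | k
        · rw [pow_zero, orderOf_eq_one_iff] at hk; rw [hk]; exact one_mem _
        · rw [huniq t (by simpa using hk)]; exact mem_zpowers z
        · exact absurd (orderOf_pow_orderOf_div (orderOf_pos t).ne'
            (hk ▸ Dvd.intro_left (2 ^ k) (by ring))) (h4 _)
      have h5 := card_dvd_of_le hle
      rw [Nat.card_zpowers, hz] at h5
      exact Nat.le_antisymm (Nat.le_of_dvd two_pos h5)
        (Nat.le_of_dvd Nat.card_pos (T.dvd_card_of_dvd_card h2))
    refine Nat.eq_of_factorization_eq Nat.card_pos.ne' (Nat.mul_ne_zero two_ne_zero Nat.card_pos.ne') fun r => ?_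
    rw [Nat.factorization_mul two_ne_zero Nat.card_pos.ne', Finsupp.add_apply]
    obtain ⟨a, ha⟩ := IsPGroup.iff_card.mp S.isPGroup'
    have hS := S.card_eq_multiplicity
    have hT' := T.card_eq_multiplicity
    rw [hT] at hT'
    have e2 : (Nat.card G).factorization 2 = 1 :=
      (Nat.pow_right_injective le_rfl (by simpa using hT'.symm))
    by_cases hr : r.Prime
    swap
    · simp [Nat.factorization_eq_zero_of_not_prime _ hr]
    by_cases hr2 : r = 2
    · subst hr2
      rw [e2, ha, hp.factorization_pow, Finsupp.single_eq_of_ne (Ne.symm hp2)]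
      simp [Nat.prime_two.factorization_self]
    rw [Nat.prime_two.factorization, Finsupp.single_eq_of_ne hr2, zero_add, hS]
    rw [hp.factorization_pow]
    by_cases hrp : r = p
    · subst hrp; rw [Finsupp.single_eq_same]
    · rw [Finsupp.single_eq_of_ne hrp]
      exact Nat.factorization_eq_zero_of_not_dvd fun hrd => hrp (hpq r p hr hp hr2 hp2 hrd hpd)
  let e₁ : Multiplicative (ZMod 2) ≃* zpowers z :=
    mulEquivOfPrimeCardEq (p := 2) (by simp [Nat.card_eq_fintype_card]) (by rw [Nat.card_zpowers, hz])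
  let k := Nat.card (S : Subgroup G)
  let e₀ : (S : Subgroup G) ≃ Fin k := Finite.equivFin _
  let χ : (S : Subgroup G) →* Equiv.Perm (Fin k) :=
    e₀.permCongrHom.toMonoidHom.comp (MulAction.toPermHom (S : Subgroup G) (S : Subgroup G))
  have hχ : Function.Injective χ := e₀.permCongrHom.injective.comp MulAction.toPerm_injective
  let e₂ : χ.range ≃* (S : Subgroup G) := (MonoidHom.ofInjective hχ).symm
  let φ : Multiplicative (ZMod 2) × χ.range →* G :=
    MonoidHom.noncommCoprod ((zpowers z).subtype.comp e₁.toMonoidHom)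
      ((S : Subgroup G).subtype.comp e₂.toMonoidHom) (fun a b => by
        obtain ⟨j, hj⟩ := mem_zpowers_iff.mp (e₁ a).2
        show Commute ((e₁ a : G)) (e₂ b : G)
        rw [← hj]
        exact ((hzc _).zpow_right j).symm)
  have hinj : Function.Injective φ := by
    rw [injective_iff_map_eq_one]
    rintro ⟨a, b⟩ hab
    have hab' : (e₁ a : G) * (e₂ b : G) = 1 := hab
    have hb : (e₂ b : G) = 1 := by
      have hmem : (e₂ b : G) ∈ zpowers z ⊓ (S : Subgroup G) :=
        ⟨by rw [eq_inv_of_mul_eq_one_right hab']; exact (zpowers z).inv_mem (e₁ a).2, (e₂ b).2⟩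
      have hco : (Nat.card (zpowers z)).Coprime (Nat.card (S : Subgroup G)) := by
        obtain ⟨a', ha'⟩ := IsPGroup.iff_card.mp S.isPGroup'
        rw [Nat.card_zpowers, hz, ha']
        exact Nat.Coprime.pow_right a' ((Nat.coprime_primes Nat.prime_two hp).mpr (Ne.symm hp2))
      rwa [disjoint_iff.mp (Subgroup.disjoint_of_coprime_natCard hco), mem_bot] at hmem
    rw [hb, mul_one] at hab'
    have ha : a = 1 := e₁.injective (by rw [map_one]; exact Subtype.ext hab')
    have hb' : b = 1 := e₂.injective (by rw [map_one]; exact Subtype.ext hb)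
    rw [ha, hb']
    rfl
  have hbij : Function.Bijective φ := (Nat.bijective_iff_injective_and_card φ).mpr ⟨hinj, by
    rw [Nat.card_prod, hcardG, Nat.card_congr e₂.toEquiv]; simp⟩
  refine Or.inr (Or.inr (Or.inr ⟨p, χ.range, inferInstance, inferInstance, hp, hp2,
    S.isPGroup'.of_equiv e₂.symm, ?_, ⟨(MulEquiv.ofBijective φ hbij).symm⟩⟩))
  rw [Monoid.exponent_eq_of_mulEquiv e₂]
  refine ((Nat.dvd_prime hp).mp (Monoid.exponent_dvd_of_forall_pow_eq_one hSexp)).resolve_left fun e => ?_
  obtain ⟨u, hu⟩ := exists_prime_orderOf_dvd_card' (G := (S : Subgroup G)) p (S.dvd_card_of_dvd_card hpd)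
  have := Monoid.pow_exponent_eq_one u
  rw [e, pow_one] at this
  rw [this, orderOf_one] at hu
  exact hp.ne_one hu.symm

end Cfsg.Agent.S3995
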