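-- Solution of statement S3996: a finite group with exactly three same-order class sizes is solvable.
import Cfsg.Statements.S3996
import Cfsg.Agent.Lib.Techniques.OrderClasses
import Cfsg.Agent.Lib.Chars.Burnside
import Cfsg.Agent.Lib.FT.OddOrderTheorem
import Mathlib.GroupTheory.Sylow
import Mathlib.Tactic.IntervalCases
import Mathlib.Tactic.Ring

set_option autoImplicit false
open Cfsg

namespace Cfsg.Agent.S3996

open CfsgLib.Techniques.OrderClasses

variable {G : Type*} [Group G] [Finite G]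

theorem four_dvd_totient_mul_four {r : ℕ} (hr : r.Prime) (hr2 : r ≠ 2) :
    4 ∣ Nat.totient (r * 4) := by
  rw [Nat.totient_mul (Nat.Coprime.pow_right 2 ((Nat.coprime_primes hr Nat.prime_two).2 hr2)),
    Nat.totient_prime hr, show Nat.totient 4 = 2 from by decide]
  obtain ⟨k, hk⟩ := hr.odd_of_ne_two hr2
  exact ⟨k, by omega⟩

theorem four_dvd_totient_mul {p q : ℕ} (hp : p.Prime) (hq : q.Prime) (hp2 : p ≠ 2) (hq2 : q ≠ 2)
    (hne : p ≠ q) : 4 ∣ Nat.totient (p * q) := by
  rw [Nat.totient_mul ((Nat.coprime_primes hp hq).2 hne), Nat.totient_prime hp,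
    Nat.totient_prime hq]
  obtain ⟨k, hk⟩ := hp.odd_of_ne_two hp2
  obtain ⟨l, hl⟩ := hq.odd_of_ne_two hq2
  exact ⟨k * l, by rw [show p - 1 = 2 * k by omega, show q - 1 = 2 * l by omega]; ring⟩

theorem ne_zero_of_cast {r m : ℕ} {x : ZMod r} (h : (cnt G m : ZMod r) = x) (hx : x ≠ 0) :
    cnt G m ≠ 0 := fun e => hx (by rw [← h, e, Nat.cast_zero])

theorem false_aux {c d p q : ℕ} (hp : p.Prime) (hq : q.Prime) (hp2 : p ≠ 2) (hq2 : q ≠ 2)
    (hne : p ≠ q) (hpd : p ∣ Nat.card G) (hqd : q ∣ Nat.card G) (h4 : 4 ∣ Nat.card G)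
    (hc : cnt G 4 = c) (hd : ∀ m, 4 ∣ Nat.totient m → cnt G m ≠ 0 → cnt G m = d)
    (hP : cnt G p = c ∨ cnt G p = d) (hPQ : cnt G p = c ∨ cnt G q = d)
    (hQ : cnt G q = c ∨ cnt G q = d) : False := by
  haveI := Fact.mk hp
  haveI := Fact.mk hq
  haveI : Fact (2 < p) := ⟨lt_of_le_of_ne hp.two_le (Ne.symm hp2)⟩
  haveI : Fact (2 < q) := ⟨lt_of_le_of_ne hq.two_le (Ne.symm hq2)⟩
  have hnot : ∀ r : ℕ, r.Prime → r ≠ 2 → ¬ r ∣ 4 := fun r hr hr2 e =>
    hr2 ((Nat.prime_dvd_prime_iff_eq hr Nat.prime_two).1 (hr.dvd_of_dvd_pow (n := 2) e))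
  have hcop : ∀ r : ℕ, r.Prime → r ≠ 2 → r.Coprime 4 := fun r hr hr2 =>
    Nat.Coprime.pow_right 2 ((Nat.coprime_primes hr Nat.prime_two).2 hr2)
  have hq' : ¬ p ∣ q := fun e => hne ((Nat.prime_dvd_prime_iff_eq hp hq).1 e)
  have hpqd : p * q ∣ Nat.card G :=
    ((Nat.coprime_primes hp hq).2 hne).mul_dvd_of_dvd_of_dvd hpd hqd
  have hnp := cnt_prime G hp hpd
  have e4p : (cnt G (p * 4) : ZMod p) = -(c : ZMod p) := by
    rw [← hc]
    exact cnt_mul G hp (hnot p hp hp2) ((hcop p hp hp2).mul_dvd_of_dvd_of_dvd hpd h4)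
  have epq : (cnt G (p * q) : ZMod p) = -(cnt G q : ZMod p) := cnt_mul G hp hq' hpqd
  rcases hP with hpc | hpD
  · -- `n(p) = c`
    rw [hpc] at hnp
    rw [hnp, neg_neg] at e4p
    have hd1 : (d : ZMod p) = 1 := by
      rw [← e4p, hd _ (four_dvd_totient_mul_four hp hp2) (ne_zero_of_cast e4p one_ne_zero)]
    rcases hQ with hqc | hqD
    · -- both equal `c`
      have hnq := cnt_prime G hq hqd
      rw [hqc] at hnq
      have e4q : (cnt G (q * 4) : ZMod q) = 1 := by
        rw [cnt_mul G hq (hnot q hq hq2) ((hcop q hq hq2).mul_dvd_of_dvd_of_dvd hqd h4), hc, hnq,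
          neg_neg]
      have hq4 : cnt G (q * 4) = d :=
        hd _ (four_dvd_totient_mul_four hq hq2) (ne_zero_of_cast e4q one_ne_zero)
      have hcop' : p.Coprime (q * 4) :=
        ((Nat.coprime_primes hp hq).2 hne).mul_right (hcop p hp hp2)
      have ex : (cnt G (p * (q * 4)) : ZMod p) = -1 := by
        rw [cnt_mul G hp (hp.coprime_iff_not_dvd.1 hcop') (hcop'.mul_dvd_of_dvd_of_dvd hpd
          ((hcop q hq hq2).mul_dvd_of_dvd_of_dvd hqd h4)), hq4, hd1]
      have : cnt G (p * (q * 4)) = d := hd _ ((four_dvd_totient_mul_four hq hq2).trans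
        (Nat.totient_dvd_of_dvd (Dvd.intro_left p rfl)))
        (ne_zero_of_cast ex (neg_ne_zero.2 one_ne_zero))
      rw [this, hd1] at ex
      exact ZMod.neg_one_ne_one ex.symm
    · rw [hqD, hd1] at epq
      have := hd _ (four_dvd_totient_mul hp hq hp2 hq2 hne)
        (ne_zero_of_cast epq (neg_ne_zero.2 one_ne_zero))
      rw [this, hd1] at epq
      exact ZMod.neg_one_ne_one epq.symm
  · -- `n(p) = n(q) = d`
    rw [hpD] at hnp
    have hqD : cnt G q = d := by
      rcases hPQ with e | e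
      · rw [hpD] at e
        rcases hQ with e' | e'
        · rw [e', e]
        · exact e'
      · exact e
    rw [hqD, hnp, neg_neg] at epq
    have := hd _ (four_dvd_totient_mul hp hq hp2 hq2 hne) (ne_zero_of_cast epq one_ne_zero)
    rw [this, hnp] at epq
    exact ZMod.neg_one_ne_one epq

theorem exists_orderOf_four (hz : cnt G 2 = 1) (h4 : 4 ∣ Nat.card G) : ∃ g : G, orderOf g = 4 := by
  haveI := Fact.mk Nat.prime_two
  obtain ⟨K, hK⟩ := Sylow.exists_subgroup_card_pow_prime 2 (n := 2) h4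
  by_contra hno
  push Not at hno
  have hall : ∀ x : K, x ≠ 1 → orderOf (x : G) = 2 := by
    intro x hx
    have hd : orderOf (x : G) ∣ 2 ^ 2 := hK ▸ Subgroup.orderOf_dvd_natCard K x.2
    obtain ⟨i, hi, hio⟩ := (Nat.dvd_prime_pow Nat.prime_two).1 hd
    interval_cases i
    · exact absurd (Subtype.ext (orderOf_eq_one_iff.1 (by simpa using hio))) hx
    · simpa using hio
    · exact absurd hio (by simpa using hno (x : G))
  haveI : Subsingleton {g : G // orderOf g = 2} := (Nat.card_eq_one_iff_unique.1 hz).1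
  classical
  have hinj : Function.Injective (fun x : K => decide (x = 1)) := by
    intro x y hxy
    by_cases hx : x = 1 <;> by_cases hy : y = 1
    · rw [hx, hy]
    · simp [hx, hy] at hxy
    · simp [hx, hy] at hxy
    · exact Subtype.ext (congrArg (fun u : {g : G // orderOf g = 2} => u.1)
        (Subsingleton.elim (⟨_, hall x hx⟩ : {g : G // orderOf g = 2}) ⟨_, hall y hy⟩))
  have hle := Nat.card_le_card_of_injective _ hinj
  rw [hK] at hle
  simp at hle

theorem isSolvable_of_not_four (hz : cnt G 2 = 1) (h2 : 2 ∣ Nat.card G) (h4 : ¬ 4 ∣ Nat.card G) :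
    Group.IsSolvable G := by
  obtain ⟨z, hzo⟩ := cnt_ne_zero G (show cnt G 2 ≠ 0 by omega)
  haveI : Subsingleton {g : G // orderOf g = 2} := (Nat.card_eq_one_iff_unique.1 hz).1
  have hcen : z ∈ Subgroup.center G := Subgroup.mem_center_iff.2 fun g => by
    have he := congrArg Subtype.val (Subsingleton.elim
      (⟨g * z * g⁻¹, (MulEquiv.orderOf_eq (MulAut.conj g) z).trans hzo⟩ : {g : G // orderOf g = 2})
      ⟨z, hzo⟩)
    exact mul_inv_eq_iff_eq_mul.1 he
  set Z := Subgroup.zpowers z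
  have hZc : Z ≤ Subgroup.center G := Subgroup.zpowers_le.2 hcen
  haveI : Z.Normal := ⟨fun n hn g => by
    rw [(Subgroup.mem_center_iff.1 (hZc hn) g), mul_inv_cancel_right]; exact hn⟩
  haveI : IsMulCommutative Z :=
    ⟨⟨fun a b => Subtype.ext (Subgroup.mem_center_iff.1 (hZc b.2) a)⟩⟩
  have hcard := Subgroup.card_eq_card_quotient_mul_card_subgroup Z
  rw [Nat.card_zpowers, hzo] at hcard
  haveI : Group.IsSolvable (G ⧸ Z) := CfsgLib.FT.isSolvable_of_odd (by
    rw [← Nat.not_even_iff_odd]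
    rintro ⟨k, hk⟩
    exact h4 ⟨k, by omega⟩)
  haveI : Group.IsSolvable Z := Group.isSolvable_of_comm fun a b => IsMulCommutative.is_comm.comm a b
  exact Group.isSolvable_of_ker_le_range Z.subtype (QuotientGroup.mk' Z) (by simp)

theorem isSolvable_of_pair (h : ∀ p q : ℕ, p.Prime → q.Prime → p ≠ 2 → q ≠ 2 → p ≠ q →
    p ∣ Nat.card G → q ∣ Nat.card G → False) : Group.IsSolvable G := by
  by_cases hp : ∃ p : ℕ, p.Prime ∧ p ≠ 2 ∧ p ∣ Nat.card G
  · obtain ⟨p, hp, hp2, hpd⟩ := hp
    refine CfsgLib.Chars.isSolvable_of_primeFactors_pair 2 p fun r hr hrd => ?_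
    by_contra hc
    push Not at hc
    exact h p r hp hr hp2 hc.1 hc.2.symm hpd hrd
  · push Not at hp
    exact CfsgLib.Chars.isSolvable_of_primeFactors_pair 2 2 fun r hr hrd => Or.inl
      (by_contra fun hr2 => hp r hr hr2 hrd)

/-- If the set {#{g : o(g) = m} : m an element order} of a finite group has exactly 3 elements, the group is solvable. -/
theorem result {G : Type*} [Group G] [Finite G] (h : (((fun m : ℕ => Nat.card {g : G // orderOf g = m}) '' Set.range (orderOf : G → ℕ))).ncard = 3) : Group.IsSolvable G := by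
  classical
  by_cases hodd : Odd (Nat.card G)
  · exact CfsgLib.FT.isSolvable_of_odd hodd
  have h2 : 2 ∣ Nat.card G := even_iff_two_dvd.1 (Nat.not_odd_iff_even.1 hodd)
  set S := (fun m : ℕ => Nat.card {g : G // orderOf g = m}) '' Set.range (orderOf : G → ℕ) with hS
  have hSf : S.Finite := Set.finite_of_ncard_ne_zero (by omega)
  have hmem : ∀ m : ℕ, cnt G m ≠ 0 → cnt G m ∈ S := fun m hm => ⟨m, cnt_ne_zero G hm, rfl⟩
  haveI := Fact.mk Nat.prime_two
  have h20 : cnt G 2 ≠ 0 := by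
    intro e
    have h' := cnt_prime G Nat.prime_two h2
    rw [e, Nat.cast_zero] at h'
    exact neg_ne_zero.2 one_ne_zero h'.symm
  have h1S : 1 ∈ S := cnt_one G ▸ hmem 1 (by rw [cnt_one]; norm_num)
  by_cases hz : cnt G 2 = 1
  · by_cases h4 : 4 ∣ Nat.card G
    swap
    · exact isSolvable_of_not_four hz h2 h4
    obtain ⟨g, hg⟩ := exists_orderOf_four hz h4
    have hc4 : ¬ 4 ∣ cnt G 4 := by
      intro hc4
      have hsum := CfsgLib.Base.Solutions.dvd_card_pow_eq_one h4
      rw [← sum_cnt G (by norm_num), show Nat.divisors 4 = {1, 2, 4} by decide] at hsum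
      simp [cnt_one, hz] at hsum
      omega
    have hc1 : 1 ≠ cnt G 4 := fun e => by
      have := even_cnt G (m := 4) (by norm_num)
      rw [← e] at this
      exact Nat.not_even_one this
    obtain ⟨d, hd⟩ : ∃ d, S \ {1, cnt G 4} = {d} := by
      rw [← Set.ncard_eq_one, Set.ncard_sdiff (by
        rintro x (rfl | rfl)
        · exact h1S
        · exact hmem 4 (cnt_pos G hg).ne') (Set.toFinite _), h, Set.ncard_pair hc1]
    have hval : ∀ m, cnt G m ≠ 0 → 2 < m → cnt G m = cnt G 4 ∨ cnt G m = d := by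
      intro m h0 hm
      by_cases he : cnt G m = cnt G 4
      · exact Or.inl he
      · refine Or.inr (Set.mem_singleton_iff.1 (hd ▸ ⟨hmem m h0, ?_⟩))
        rintro (e | e)
        · have := even_cnt G hm
          rw [e] at this
          exact Nat.not_even_one this
        · exact he e
    have hd4 : ∀ m, 4 ∣ Nat.totient m → cnt G m ≠ 0 → cnt G m = d := by
      intro m hm h0
      refine (hval m h0 ?_).resolve_left fun e => hc4 (e ▸ hm.trans (totient_dvd_cnt G m))
      by_contra hle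
      obtain ⟨u, hu⟩ := cnt_ne_zero G h0
      have hpos := orderOf_pos u
      rw [hu] at hpos
      interval_cases m <;> simp at hm
    refine isSolvable_of_pair fun p q hp hq hp2 hq2 hne hpd hqd => ?_
    have h3 : ∀ r : ℕ, r.Prime → r ≠ 2 → r ∣ Nat.card G → cnt G r = cnt G 4 ∨ cnt G r = d := by
      intro r hr hr2 hrd
      haveI := Fact.mk hr
      exact hval r (ne_zero_of_cast (cnt_prime G hr hrd) (neg_ne_zero.2 one_ne_zero))
        (lt_of_le_of_ne hr.two_le (Ne.symm hr2))
    rcases h3 p hp hp2 hpd with e | e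
    · exact false_aux hp hq hp2 hq2 hne hpd hqd h4 rfl hd4 (Or.inl e) (Or.inl e) (h3 q hq hq2 hqd)
    · rcases h3 q hq hq2 hqd with e' | e'
      · exact false_aux hq hp hq2 hp2 hne.symm hqd hpd h4 rfl hd4 (Or.inl e') (Or.inl e') (Or.inr e)
      · exact false_aux hp hq hp2 hq2 hne hpd hqd h4 rfl hd4 (Or.inr e) (Or.inr e') (Or.inr e')
  · have hn2odd : ¬ Even (cnt G 2) := by
      intro he
      have h' := cnt_prime G Nat.prime_two h2
      rw [(ZMod.natCast_eq_zero_iff _ _).2 (even_iff_two_dvd.1 he)] at h'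
      exact neg_ne_zero.2 one_ne_zero h'.symm
    obtain ⟨k, hk⟩ : ∃ k, S \ {1, cnt G 2} = {k} := by
      rw [← Set.ncard_eq_one, Set.ncard_sdiff (by
        rintro x (rfl | rfl)
        · exact h1S
        · exact hmem 2 h20) (Set.toFinite _), h, Set.ncard_pair (Ne.symm hz)]
    have hval : ∀ m, cnt G m ≠ 0 → 2 < m → cnt G m = k := by
      intro m h0 hm
      refine Set.mem_singleton_iff.1 (hk ▸ ⟨hmem m h0, ?_⟩)
      rintro (e | e)
      · have := even_cnt G hm
        rw [e] at this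
        exact Nat.not_even_one this
      · exact hn2odd (e ▸ even_cnt G hm)
    refine isSolvable_of_pair fun p q hp hq hp2 hq2 hne hpd hqd => ?_
    haveI := Fact.mk hp
    haveI := Fact.mk hq
    haveI : Fact (2 < p) := ⟨lt_of_le_of_ne hp.two_le (Ne.symm hp2)⟩
    have hp3 : 2 < p := lt_of_le_of_ne hp.two_le (Ne.symm hp2)
    have hq3 : 2 < q := lt_of_le_of_ne hq.two_le (Ne.symm hq2)
    have hP := hval p (ne_zero_of_cast (cnt_prime G hp hpd) (neg_ne_zero.2 one_ne_zero)) hp3
    have hQ := hval q (ne_zero_of_cast (cnt_prime G hq hqd) (neg_ne_zero.2 one_ne_zero)) hq3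
    have e1 := cnt_prime G hp hpd
    rw [hP] at e1
    have e := cnt_mul G hp (d := q) (fun e => hne ((Nat.prime_dvd_prime_iff_eq hp hq).1 e))
      (((Nat.coprime_primes hp hq).2 hne).mul_dvd_of_dvd_of_dvd hpd hqd)
    rw [hQ, e1, neg_neg] at e
    have hpq := hval (p * q) (ne_zero_of_cast e one_ne_zero)
      (lt_of_lt_of_le hp3 (Nat.le_mul_of_pos_right p hq.pos))
    rw [hpq, e1] at e
    exact ZMod.neg_one_ne_one e

end Cfsg.Agent.S3996
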