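import Cfsg.Statements.S3997
import Mathlib

set_option autoImplicit false
open Cfsg

namespace Cfsg.Agent.S3997

/-- Let G and H be finite groups with the same order type: for every m they have the same number of elements of order m. If G is nilpotent then so is H. -/
theorem result {G H : Type*} [Group G] [Finite G] [Group H] [Finite H] (hT : (∀ m : ℕ, Nat.card {g : G // orderOf g = m} = Nat.card {h : H // orderOf h = m})) (hG : Group.IsNilpotent G) :
    Group.IsNilpotent H := by
  classical
  have hfib : ∀ m, Nonempty ({g : G // orderOf g = m} ≃ {h : H // orderOf h = m}) := fun m => by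
    have : Fintype {g : G // orderOf g = m} := Fintype.ofFinite _
    have : Fintype {h : H // orderOf h = m} := Fintype.ofFinite _
    exact ⟨Fintype.equivOfCardEq (by rw [← Nat.card_eq_fintype_card, ← Nat.card_eq_fintype_card]; exact hT m)⟩
  let e : G ≃ H := (Equiv.sigmaFiberEquiv (orderOf (G := G))).symm.trans
    ((Equiv.sigmaCongrRight fun m => (hfib m).some).trans (Equiv.sigmaFiberEquiv (orderOf (G := H))))
  have he : ∀ g : G, orderOf (e g) = orderOf g := fun g => ((hfib (orderOf g)).some ⟨g, rfl⟩).2
  have hcard : Nat.card G = Nat.card H := Nat.card_congr e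
  have hGs := ((Group.isNilpotent_of_finite_tfae (G := G)).out 0 3).mp hG
  refine ((Group.isNilpotent_of_finite_tfae (G := H)).out 0 3).mpr ?_
  intro p hp P
  have : Fact p.Prime := hp
  obtain ⟨S⟩ : Nonempty (Sylow p G) := inferInstance
  have hSn : (S : Subgroup G).Normal := hGs p hp S
  -- in `G` every `p`-element lies in `S`
  have hS : ∀ g : G, g ∈ (S : Subgroup G) ↔ ∃ k, orderOf g = p ^ k := by
    intro g
    constructor
    · intro hg
      obtain ⟨k, hk⟩ := IsPGroup.iff_orderOf.mp S.isPGroup' ⟨g, hg⟩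
      exact ⟨k, by rwa [Subgroup.orderOf_mk] at hk⟩
    · rintro ⟨k, hk⟩
      obtain ⟨T, hT'⟩ := (IsPGroup.of_card (n := k) (by rw [Nat.card_zpowers, hk]) :
        IsPGroup p (Subgroup.zpowers g)).exists_le_sylow
      have := Sylow.unique_of_normal S hSn
      rw [Subsingleton.elim S T]
      exact hT' (Subgroup.mem_zpowers g)
  have hle : Nat.card {h : H // ∃ k, orderOf h = p ^ k} ≤ Nat.card (P : Subgroup H) := by
    rw [Sylow.card_eq_multiplicity P, ← hcard, ← Sylow.card_eq_multiplicity S]
    refine le_of_eq (Nat.card_congr ((e.subtypeEquiv (fun g => ?_)).symm))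
    rw [he, hS]
  have hP : ∀ h : H, (∃ k, orderOf h = p ^ k) → h ∈ (P : Subgroup H) := by
    intro h hh
    let ι : ↥(P : Subgroup H) → {h : H // ∃ k, orderOf h = p ^ k} := fun x =>
      ⟨x.1, by
        obtain ⟨k, hk⟩ := IsPGroup.iff_orderOf.mp P.isPGroup' x
        exact ⟨k, by rwa [← Subgroup.orderOf_coe] at hk⟩⟩
    have hinj : Function.Injective ι := fun a b hab =>
      Subtype.ext (congrArg (fun z => z.1) hab)
    have hbij := hinj.bijective_of_nat_card_le hle
    obtain ⟨x, hx⟩ := hbij.2 ⟨h, hh⟩
    have : (x : H) = h := congrArg Subtype.val hx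
    exact this ▸ x.2
  constructor
  intro n hn g
  apply hP
  obtain ⟨k, hk⟩ := IsPGroup.iff_orderOf.mp P.isPGroup' ⟨n, hn⟩
  exact ⟨k, by rw [← MulAut.conj_apply, MulEquiv.orderOf_eq]; rwa [Subgroup.orderOf_mk] at hk⟩

end Cfsg.Agent.S3997
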