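import Cfsg.Statements.S3998
import Mathlib
import Cfsg.Agent.Lib.FgsB.OrderType
import Cfsg.Agent.Lib.SolvStruct.Supersolvable

set_option autoImplicit false
open Cfsg

namespace Cfsg.Agent.S3998

universe u v

open CfsgLib.FgsB in
/-- A nontrivial supersolvable group has a nontrivial normal Sylow subgroup. -/
theorem exists_normal_sylow (n : ℕ) : ∀ {G : Type u} [Group G] [Finite G] [Nontrivial G],
    Nat.card G ≤ n → Cfsg.IsSupersolvable G →
    ∃ (p : ℕ) (_ : Fact p.Prime) (S : Sylow p G), (S : Subgroup G).Normal ∧ p ∣ Nat.card G ∧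
      ∀ q : ℕ, q.Prime → q ∣ Nat.card G → q ≤ p := by
  induction n with
  | zero => intro G _ _ _ h _; exact absurd h (Nat.not_le.mpr Nat.card_pos)
  | succ n ih =>
    intro G _ _ _ hn hG
    obtain ⟨N, hN, hNp⟩ := CfsgLib.SolvStruct.exists_prime_normal hG
    set r := Nat.card N with hr
    have hcardG : Nat.card G = Nat.card (G ⧸ N) * r := Subgroup.card_eq_card_quotient_mul_card_subgroup N
    have : Fact r.Prime := ⟨hNp⟩
    rcases subsingleton_or_nontrivial (G ⧸ N) with hs | hs
    · have h1 : Nat.card (G ⧸ N) = 1 := Nat.card_of_subsingleton (1 : G ⧸ N)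
      rw [h1, one_mul] at hcardG
      obtain ⟨S⟩ : Nonempty (Sylow r G) := inferInstance
      refine ⟨r, inferInstance, S, ?_, hcardG ▸ dvd_rfl, fun q hq hqd => ?_⟩
      · have : (S : Subgroup G) = ⊤ := by
          apply Subgroup.eq_top_of_card_eq
          rw [Sylow.card_eq_multiplicity S, hcardG, hNp.factorization_self, pow_one]
        rw [this]; infer_instance
      · rw [hcardG] at hqd
        exact ((Nat.prime_dvd_prime_iff_eq hq hNp).mp hqd).le
    obtain ⟨p, hpf, S, hS, hpd, hmax⟩ := ih (G := G ⧸ N)
      (by have := CfsgLib.SolvStruct.card_quotient_lt' (CfsgLib.SolvStruct.ne_bot_of_card_prime hNp); omega)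
      (CfsgLib.SolvStruct.supersolvable_quotient hG N)
    have hp : p.Prime := hpf.out
    by_cases hrp : p < r
    · -- `N` is a Sylow subgroup
      obtain ⟨T⟩ : Nonempty (Sylow r G) := inferInstance
      have hnd : ¬ r ∣ Nat.card (G ⧸ N) := fun h => by have := hmax r hNp h; omega
      have hTN : (T : Subgroup G) = N := by
        obtain ⟨T', hT'⟩ := (IsPGroup.of_card (n := 1) (by rw [← hr, pow_one]) : IsPGroup r N).exists_le_sylow
        have hc : Nat.card (T' : Subgroup G) ≤ Nat.card N := by
          rw [Sylow.card_eq_multiplicity T', hcardG, Nat.factorization_mul Nat.card_pos.ne' hNp.ne_zero]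
          simp [Nat.factorization_eq_zero_of_not_dvd hnd, hNp.factorization_self, hr.symm]
        have := Subgroup.eq_of_le_of_card_ge hT' hc
        obtain ⟨g, hg⟩ := MulAction.exists_smul_eq G T' T
        rw [← hg, Sylow.coe_subgroup_smul, ← this]
        refine Subgroup.eq_of_le_of_card_ge ?_ ?_
        · intro x hx
          rw [Subgroup.mem_pointwise_smul_iff_inv_smul_mem] at hx
          have h6 := hN.conj_mem _ hx g
          simpa [MulAut.smul_def, mul_assoc] using h6
        · exact (Nat.card_congr (Subgroup.equivSMul (MulAut.conj g) N).toEquiv).le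
      refine ⟨r, inferInstance, T, hTN.symm ▸ hN, hcardG ▸ dvd_mul_left _ _, fun q hq hqd => ?_⟩
      rw [hcardG] at hqd
      rcases hq.dvd_mul.mp hqd with h | h
      · have := hmax q hq h; omega
      · exact ((Nat.prime_dvd_prime_iff_eq hq hNp).mp h).le
    · obtain ⟨T⟩ : Nonempty (Sylow p G) := inferInstance
      set M := (S : Subgroup (G ⧸ N)).comap (QuotientGroup.mk' N) with hM
      have hMn : M.Normal := hS.comap _
      have hdvdG : p ∣ Nat.card G := hcardG ▸ hpd.mul_right r
      refine ⟨p, hpf, T, ?_, hdvdG, fun q hq hqd => ?_⟩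
      swap
      · rw [hcardG] at hqd
        rcases hq.dvd_mul.mp hqd with h | h
        · exact hmax q hq h
        · have := (Nat.prime_dvd_prime_iff_eq hq hNp).mp h; omega
      -- all Sylow subgroups lie in `M` and coincide
      have hTM : ∀ T : Sylow p G, (T : Subgroup G) ≤ M := by
        intro T x hx
        rw [hM, Subgroup.mem_comap, mem_normal_sylow_iff S hS]
        obtain ⟨k, hk⟩ := IsPGroup.iff_orderOf.mp T.isPGroup' ⟨x, hx⟩
        rw [Subgroup.orderOf_mk] at hk
        obtain ⟨i, -, hi⟩ := (Nat.dvd_prime_pow hp).mp (hk ▸ orderOf_map_dvd (QuotientGroup.mk' N) x)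
        exact ⟨i, hi⟩
      rcases Nat.lt_or_ge r p with hlt | hge
      · -- `T` centralizes `N`
        have hcent : (T : Subgroup G) ≤ Subgroup.centralizer (N : Set G) := by
          intro x hx
          obtain ⟨k, hk⟩ := IsPGroup.iff_orderOf.mp T.isPGroup' ⟨x, hx⟩
          rw [Subgroup.orderOf_mk] at hk
          have hxN : x ∈ Subgroup.normalizer (N : Set G) := by
            rw [Subgroup.normalizer_eq_top]; exact Subgroup.mem_top x
          have : IsCyclic N := CfsgLib.SolvStruct.isCyclic_of_card_prime hNp
          let φ := Subgroup.normalizerMonoidHom N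
          have h1 : orderOf (φ ⟨x, hxN⟩) ∣ p ^ k := hk ▸ (orderOf_map_dvd φ ⟨x, hxN⟩).trans (by rw [Subgroup.orderOf_mk])
          have h2 : orderOf (φ ⟨x, hxN⟩) ∣ r - 1 := by
            refine (orderOf_dvd_natCard _).trans ?_
            rw [Nat.card_congr (IsCyclic.mulAutMulEquiv N).toEquiv, Nat.card_eq_fintype_card,
              ZMod.card_units_eq_totient, ← hr, Nat.totient_prime hNp]
          have hcop : (p ^ k).Coprime (r - 1) := by
            refine Nat.Coprime.pow_left k (hp.coprime_iff_not_dvd.mpr fun h => ?_)
            have h' := Nat.le_of_dvd (by have := hNp.two_le; omega) h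
            omega
          have h3 : φ ⟨x, hxN⟩ = 1 := orderOf_eq_one_iff.mp (Nat.eq_one_of_dvd_coprimes hcop h1 h2)
          rw [Subgroup.mem_centralizer_iff]
          intro n hn
          have h4 : x * n * x⁻¹ = n :=
            congrArg (fun a : MulAut N => ((a ⟨n, hn⟩ : N) : G)) h3
          exact (mul_inv_eq_iff_eq_mul.mp h4).symm
        -- `M = T ⊔ N`
        have hcardM : Nat.card M = r * Nat.card (S : Subgroup (G ⧸ N)) := by
          rw [hM, hr]
          exact (Nat.card_congr (QuotientGroup.preimageMkEquivSubgroupProdSet N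
            ((S : Subgroup (G ⧸ N)) : Set (G ⧸ N)))).trans (by rw [Nat.card_prod]; rfl)
        have hsup : (T : Subgroup G) ⊔ N = M := by
          refine Subgroup.eq_of_le_of_card_ge (sup_le (hTM T) ?_) ?_
          · intro n hn
            rw [hM, Subgroup.mem_comap, show QuotientGroup.mk' N n = 1 from (QuotientGroup.eq_one_iff n).mpr hn]
            exact one_mem _
          · rw [hcardM]
            refine Nat.le_of_dvd Nat.card_pos ?_
            have h1 : Nat.card (S : Subgroup (G ⧸ N)) ∣ Nat.card (T : Subgroup G) := by
              rw [Sylow.card_eq_multiplicity S, Sylow.card_eq_multiplicity T, hcardG,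
                Nat.factorization_mul Nat.card_pos.ne' hNp.ne_zero]
              exact pow_dvd_pow p (Nat.le_add_right _ _)
            have hd1 : r ∣ Nat.card ↥((T : Subgroup G) ⊔ N) := hr ▸ Subgroup.card_dvd_of_le le_sup_right
            have hd2 : Nat.card (S : Subgroup (G ⧸ N)) ∣ Nat.card ↥((T : Subgroup G) ⊔ N) :=
              h1.trans (Subgroup.card_dvd_of_le le_sup_left)
            refine Nat.Coprime.mul_dvd_of_dvd_of_dvd ?_ hd1 hd2
            obtain ⟨k, hk⟩ := IsPGroup.iff_card.mp S.isPGroup'
            rw [hk]
            exact ((Nat.coprime_primes hNp hp).mpr (by omega)).pow_right k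
        have hMle : M ≤ Subgroup.normalizer ((T : Subgroup G) : Set G) := by
          rw [← hsup]
          refine sup_le Subgroup.le_normalizer (fun n hn => Subgroup.centralizer_le_normalizer _ ?_)
          rw [Subgroup.mem_centralizer_iff]
          intro t ht
          exact (Subgroup.mem_centralizer_iff.mp (hcent ht) n hn).symm
        have huniq : ∀ T' : Sylow p G, (T' : Subgroup G) ≤ (T : Subgroup G) := by
          intro T'
          have h5 := T.is_maximal' (T'.isPGroup'.to_sup_of_normal_right' T.isPGroup' ((hTM T').trans hMle))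
            le_sup_right
          exact h5 ▸ le_sup_left
        refine ⟨fun t ht g => huniq (g • T) ?_⟩
        rw [Sylow.coe_subgroup_smul, Subgroup.mem_pointwise_smul_iff_inv_smul_mem]
        simp [MulAut.smul_def, mul_assoc, ht]
      · have hpr : p = r := by omega
        have hMp : IsPGroup p M := by
          refine S.isPGroup'.comap_of_ker_isPGroup _ ?_
          rw [QuotientGroup.ker_mk']
          exact IsPGroup.of_card (n := 1) (by rw [pow_one, hpr])
        rw [← T.is_maximal' hMp (hTM T)]
        exact hMn

theorem aux (n : ℕ) : ∀ {G : Type u} {H : Type v} [Group G] [Group H] [Finite G] [Finite H],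
    Nat.card G ≤ n → CfsgLib.FgsB.SameOrderType G H → Cfsg.IsSupersolvable G → Group.IsSolvable H := by
  induction n with
  | zero => intro G H _ _ _ _ h _ _; exact absurd h (Nat.not_le.mpr Nat.card_pos)
  | succ n ih =>
    intro G H _ _ _ _ hn hT hG
    rcases subsingleton_or_nontrivial G with hs | hs
    · have : Subsingleton H :=
        (Nat.card_eq_one_iff_unique.mp (hT.card_eq.symm.trans (Nat.card_of_subsingleton (1 : G)))).1
      exact Group.isSolvable_of_comm fun a b => Subsingleton.elim _ _
    obtain ⟨p, hpf, S, hS, hpd, -⟩ := exists_normal_sylow (Nat.card G) le_rfl hG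
    obtain ⟨P⟩ : Nonempty (Sylow p H) := inferInstance
    have hP := hT.normal_sylow S hS P
    have hS1 : (S : Subgroup G) ≠ ⊥ := S.ne_bot_of_dvd_card hpd
    have h1 := ih (by have := CfsgLib.SolvStruct.card_quotient_lt' hS1; omega) (hT.quotient S P)
      (CfsgLib.SolvStruct.supersolvable_quotient hG _)
    have : Group.IsNilpotent (P : Subgroup H) := P.isPGroup'.isNilpotent
    exact (Group.isSolvable_iff_subgroup_quotient (P : Subgroup H)).mpr ⟨@IsNilpotent.to_isSolvable _ _ this, h1⟩

/-- Let G and H be finite groups with the same order type (for every m the same number of elements of order m). If G is supersolvable then H is solvable. -/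
theorem result {G H : Type*} [Group G] [Finite G] [Group H] [Finite H] (hT : (∀ m : ℕ, Nat.card {g : G // orderOf g = m} = Nat.card {h : H // orderOf h = m})) (hG : Cfsg.IsSupersolvable G) :
    Group.IsSolvable H := by
  exact aux (Nat.card G) le_rfl hT hG

end Cfsg.Agent.S3998
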