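import Cfsg.Statements.S4002
import Mathlib
import Cfsg.Agent.S1475
import Cfsg.Agent.Lib.Coprime.Hall

set_option autoImplicit false
set_option linter.style.haveILetI false
open Cfsg

namespace Cfsg.Agent.S4002

theorem three_primes (n : ℕ) (hn : 7 ≤ n) : ∃ p q r : ℕ, p.Prime ∧ q.Prime ∧ r.Prime ∧
    p < q ∧ q < r ∧ r ≤ n ∧ n < p * q := by
  rcases lt_or_ge n 15 with h | h
  · exact ⟨3, 5, 7, by norm_num, by norm_num, by norm_num, by norm_num, by norm_num, hn, by omega⟩
  rcases lt_or_ge n 77 with h' | h'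
  · rcases lt_or_ge n 35 with h'' | h''
    · exact ⟨5, 7, 11, by norm_num, by norm_num, by norm_num, by norm_num, by norm_num, by omega, by omega⟩
    · exact ⟨7, 11, 13, by norm_num, by norm_num, by norm_num, by norm_num, by norm_num, by omega, by omega⟩
  obtain ⟨p, hp, hp1, hp2⟩ := Nat.exists_prime_lt_and_le_two_mul (n / 8) (by omega)
  obtain ⟨q, hq, hq1, hq2⟩ := Nat.exists_prime_lt_and_le_two_mul (n / 4) (by omega)
  obtain ⟨r, hr, hr1, hr2⟩ := Nat.exists_prime_lt_and_le_two_mul (n / 2) (by omega)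
  refine ⟨p, q, r, hp, hq, hr, by omega, by omega, by omega, ?_⟩
  calc n < (n / 8 + 1) * (n / 4 + 1) := by
        have h1 : n < 8 * (n / 8 + 1) := by omega
        have h2 : 8 ≤ n / 4 + 1 := by omega
        calc n < 8 * (n / 8 + 1) := h1
          _ ≤ (n / 4 + 1) * (n / 8 + 1) := Nat.mul_le_mul_right _ h2
          _ = _ := mul_comm _ _
    _ ≤ p * q := Nat.mul_le_mul hp1 hq1


/-- If the set of element orders of a finite group G is {1, 2, …, n} with n ≥ 7, then G is not solvable. -/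
theorem result {G : Type*} [Group G] [Finite G] (n : ℕ) (hn : 7 ≤ n) (h : Set.range (orderOf : G → ℕ) = {k : ℕ | 1 ≤ k ∧ k ≤ n}) : ¬ Group.IsSolvable G := by
  intro hs
  obtain ⟨p, q, r, hp, hq, hr, hpq, hqr, hrn, hlt⟩ := three_primes n hn
  have hmem : ∀ m : ℕ, 1 ≤ m → m ≤ n → ∃ g : G, orderOf g = m := fun m h1 h2 =>
    (Set.ext_iff.mp h m).mpr ⟨h1, h2⟩
  have hle : ∀ g : G, orderOf g ≤ n := fun g => ((Set.ext_iff.mp h _).mp ⟨g, rfl⟩).2
  obtain ⟨H, hH, -⟩ := CfsgLib.Coprime.hallD_of_solvable (G := G) ({p, q, r} : Set ℕ)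
  have hdiv : ∀ t ∈ ({p, q, r} : Set ℕ), t ∣ Nat.card H := by
    intro t ht
    have htp : t.Prime := by rcases ht with rfl | rfl | rfl <;> assumption
    have htn : t ≤ n := by rcases ht with rfl | rfl | rfl <;> omega
    obtain ⟨g, hg⟩ := hmem t htp.pos htn
    have hd : t ∣ Nat.card H * H.index := by
      rw [Subgroup.card_mul_index, ← hg]; exact _root_.orderOf_dvd_natCard g
    exact (htp.dvd_mul.mp hd).resolve_right (hH.2 t htp ht)
  have hprod : ∀ t ∈ ({p, q, r} : Set ℕ), ∀ u ∈ ({p, q, r} : Set ℕ), t < u → n < t * u := by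
    intro t ht u hu htu
    have h1 : p ≤ t := by rcases ht with rfl | rfl | rfl <;> omega
    have h2 : q ≤ u := by
      rcases ht with rfl | rfl | rfl <;> rcases hu with rfl | rfl | rfl <;> omega
    exact lt_of_lt_of_le hlt (Nat.mul_le_mul h1 h2)
  have hpp : ∀ x : H, IsPrimePow (orderOf x) ∨ x = 1 := by
    intro x
    rcases eq_or_ne x 1 with rfl | hx
    · exact Or.inr rfl
    left
    have hne : orderOf x ≠ 1 := fun e => hx (orderOf_eq_one_iff.mp e)
    obtain ⟨t, ht, htd⟩ := Nat.exists_prime_and_dvd hne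
    rw [isPrimePow_iff_unique_prime_dvd]
    refine ⟨t, ⟨ht, htd⟩, fun u ⟨hu, hud⟩ => ?_⟩
    by_contra hne'
    have hmemset : ∀ v : ℕ, v.Prime → v ∣ orderOf x → v ∈ ({p, q, r} : Set ℕ) := fun v hv hvd =>
      hH.1 v hv (hvd.trans (_root_.orderOf_dvd_natCard x))
    have hd : t * u ∣ orderOf x :=
      ((Nat.coprime_primes ht hu).mpr (Ne.symm hne')).mul_dvd_of_dvd_of_dvd htd hud
    have hle' : t * u ≤ n := (Nat.le_of_dvd (orderOf_pos x) hd).trans
      ((Subgroup.orderOf_coe x).symm.le.trans (hle _))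
    rcases lt_or_gt_of_ne (Ne.symm hne') with hl | hl
    · exact absurd hle' (not_le.mpr (hprod t (hmemset t ht htd) u (hmemset u hu hud) hl))
    · exact absurd hle' (not_le.mpr (mul_comm u t ▸ hprod u (hmemset u hu hud) t (hmemset t ht htd) hl))
  have h2 := Cfsg.Agent.S1475.result hpp
  have hsub : ({p, q, r} : Finset ℕ) ⊆ (Nat.card H).primeFactors := by
    intro t ht
    simp only [Finset.mem_insert, Finset.mem_singleton] at ht
    rw [Nat.mem_primeFactors]
    refine ⟨?_, hdiv t ?_, Nat.card_pos.ne'⟩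
    · rcases ht with rfl | rfl | rfl <;> assumption
    · simpa using ht
  have h3 := (Finset.card_le_card hsub).trans h2
  rw [Finset.card_eq_three.mpr ⟨p, q, r, hpq.ne, (hpq.trans hqr).ne, hqr.ne, rfl⟩] at h3
  omega

end Cfsg.Agent.S4002
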