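import Cfsg.Statements.S4003
import Mathlib
import Cfsg.Agent.Lib.PLocal.CyclicMaxApps
import Cfsg.Agent.Lib.PGroups.Basic
import Cfsg.Agent.Lib.Base.FrobeniusSolutions

set_option autoImplicit false
set_option linter.style.haveILetI false
open Cfsg

namespace Cfsg.Agent.S4003
open Subgroup

theorem orderOf_conj {H : Type*} [Group H] (g x : H) : orderOf (g * x * g⁻¹) = orderOf x :=
  orderOf_injective (MulAut.conj g).toMonoidHom (MulAut.conj g).injective x

theorem card_gen {X : Type*} [Group X] [Finite X] [IsCyclic X] {d : ℕ} (hX : Nat.card X = d) :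
    Nat.card {x : X // orderOf x = d} = Nat.totient d := by
  classical
  haveI := Fintype.ofFinite X
  rw [Nat.card_eq_fintype_card, Fintype.card_subtype]
  exact IsCyclic.card_orderOf_eq_totient (by rw [← Nat.card_eq_fintype_card, hX])

/-- Elements of order `d` whose cyclic subgroup satisfies `Φ`. -/
theorem card_orderOf_eq {H : Type*} [Group H] [Finite H] (d : ℕ) (Φ : Subgroup H → Prop) :
    Nat.card {x : H // orderOf x = d ∧ Φ (zpowers x)} =
      Nat.totient d * Nat.card {X : Subgroup H // IsCyclic X ∧ Nat.card X = d ∧ Φ X} := by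
  classical
  haveI := Fintype.ofFinite {X : Subgroup H // IsCyclic X ∧ Nat.card X = d ∧ Φ X}
  let E : {x : H // orderOf x = d ∧ Φ (zpowers x)} ≃
      Σ X : {X : Subgroup H // IsCyclic X ∧ Nat.card X = d ∧ Φ X}, {x : H // x ∈ (X : Subgroup H) ∧ orderOf x = d} :=
    { toFun := fun x => ⟨⟨zpowers x.1, inferInstance, by rw [Nat.card_zpowers, x.2.1], x.2.2⟩,
        ⟨x.1, mem_zpowers _, x.2.1⟩⟩
      invFun := fun p => ⟨p.2.1, p.2.2.2, by
        obtain ⟨⟨X, hc, hcard, hΦ⟩, ⟨x, hxX, hx⟩⟩ := p
        show Φ (zpowers x)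
        rwa [Subgroup.eq_of_le_of_card_ge (zpowers_le.mpr hxX) (le_of_eq (hcard.trans (hx.symm.trans (Nat.card_zpowers x).symm)))]⟩
      left_inv := fun x => rfl
      right_inv := by
        rintro ⟨⟨X, hc, hcard, hΦ⟩, ⟨x, hxX, hx⟩⟩
        refine Sigma.subtype_ext (Subtype.ext ?_) rfl
        exact Subgroup.eq_of_le_of_card_ge (zpowers_le.mpr hxX) (le_of_eq (hcard.trans (hx.symm.trans (Nat.card_zpowers x).symm))) }
  have hX : ∀ X : {X : Subgroup H // IsCyclic X ∧ Nat.card X = d ∧ Φ X},
      Nat.card {x : H // x ∈ (X : Subgroup H) ∧ orderOf x = d} = Nat.totient d := by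
    rintro ⟨X, hc, hcard, hΦ⟩
    haveI := hc
    rw [← card_gen (X := X) hcard]
    exact Nat.card_congr
      { toFun := fun x => ⟨⟨x.1, x.2.1⟩, by rw [Subgroup.orderOf_mk]; exact x.2.2⟩
        invFun := fun x => ⟨x.1.1, x.1.2, by rw [Subgroup.orderOf_coe]; exact x.2⟩
        left_inv := fun x => rfl
        right_inv := fun x => rfl }
  rw [Nat.card_congr E, Nat.card_sigma, Finset.sum_congr rfl (g := fun _ => Nat.totient d)
    (fun X _ => hX X), Finset.sum_const, Finset.card_univ, Nat.card_eq_fintype_card, smul_eq_mul, mul_comm]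

variable {P : Type*} [Group P] [Finite P] {p : ℕ} [hp : Fact p.Prime]

theorem exists_N (hodd : p ≠ 2) (hP : IsPGroup p P) (hc : ¬ IsCyclic P) (w : P)
    (hw : w ∈ center P) (hwo : orderOf w = p) :
    ∃ N : Subgroup P, N.Normal ∧ Nat.card N = p ^ 2 ∧ w ∈ N ∧ (∀ e ∈ N, e ^ p = 1) ∧
      (∀ a ∈ N, ∀ b ∈ N, a * b = b * a) ∧ ∀ e ∈ N, ∀ g : P, g * e * g⁻¹ * e⁻¹ ∈ zpowers w := by
  have hprime : p.Prime := Fact.out
  by_cases hz : ∃ z ∈ center P, z ^ p = 1 ∧ z ∉ zpowers w
  · obtain ⟨z, hzc, hzp, hzw⟩ := hz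
    let N := zpowers w ⊔ zpowers z
    have hNc : N ≤ center P := sup_le (zpowers_le.mpr hw) (zpowers_le.mpr hzc)
    haveI hn1 : (zpowers w).Normal := CfsgLib.PGroups.normal_of_le_center (zpowers_le.mpr hw)
    have hzo : orderOf z = p := orderOf_eq_prime hzp fun e => hzw (e ▸ one_mem _)
    have hdisj : zpowers w ⊓ zpowers z = ⊥ := by
      have hlt : (zpowers w ⊓ zpowers z : Subgroup P) ≠ zpowers z := fun e =>
        hzw (inf_le_left (b := zpowers z) (e.symm ▸ mem_zpowers z : z ∈ zpowers w ⊓ zpowers z))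
      have hd : Nat.card (zpowers w ⊓ zpowers z : Subgroup P) ∣ p := by
        rw [← hzo, ← Nat.card_zpowers]
        exact Subgroup.card_dvd_of_le inf_le_right
      rcases (Nat.dvd_prime hprime).mp hd with h | h
      · exact Subgroup.card_eq_one.mp h
      · exact absurd (Subgroup.eq_of_le_of_card_ge inf_le_right (by rw [Nat.card_zpowers, hzo, h])) hlt
    refine ⟨N, CfsgLib.PGroups.normal_of_le_center hNc, ?_, mem_sup_left (mem_zpowers w), ?_, ?_, ?_⟩
    · have hc1 : Nat.card N = Nat.card (zpowers w) * (zpowers w).relIndex N := by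
        rw [← relIndex_bot_left, ← relIndex_bot_left, relIndex_mul_relIndex _ _ _ bot_le le_sup_left]
      rw [hc1, show (zpowers w).relIndex N = (zpowers w).relIndex (zpowers z) from by
        show (zpowers w).relIndex (zpowers w ⊔ zpowers z) = _
        rw [sup_comm]; exact relIndex_sup_right _ _, ← inf_relIndex_right, hdisj, relIndex_bot_left,
        Nat.card_zpowers, Nat.card_zpowers, hwo, hzo, sq]
    · intro e he
      obtain ⟨a, ha, b, hb, rfl⟩ := mem_sup_of_normal_left.mp he
      obtain ⟨i, rfl⟩ := mem_zpowers_iff.mp ha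
      obtain ⟨j, rfl⟩ := mem_zpowers_iff.mp hb
      have hcomm : Commute (w ^ i) (z ^ j) :=
        ((show Commute w z from (mem_center_iff.mp hzc w)).zpow_left i).zpow_right j
      have h1 : ∀ (u : P) (l : ℤ), u ^ p = 1 → (u ^ l) ^ p = 1 := fun u l hu => by
        rw [← zpow_natCast, ← zpow_mul, mul_comm, zpow_mul, zpow_natCast, hu, one_zpow]
      rw [hcomm.mul_pow, h1 w i (by rw [← hwo, pow_orderOf_eq_one]), h1 z j hzp, one_mul]
    · exact fun a ha b _ => (mem_center_iff.mp (hNc ha) b).symm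
    · intro e he g
      rw [mem_center_iff.mp (hNc he) g, mul_inv_cancel_right, mul_inv_cancel]
      exact one_mem _
  · push Not at hz
    have hc' : ¬ IsCyclic (⊤ : Subgroup P) := fun h =>
      hc (isCyclic_of_surjective (Subgroup.topEquiv (G := P)).toMonoidHom Subgroup.topEquiv.surjective)
    obtain ⟨N, -, hNn, hNe, hNcard⟩ := CfsgLib.PLocal.exists_normal_elementary_sq hodd hP ⊤ hc'
    haveI := hNn
    have hNne : N ≠ ⊥ := fun h => by
      rw [h, Subgroup.card_bot] at hNcard
      exact absurd hNcard.symm (Nat.one_lt_pow two_ne_zero hprime.one_lt).ne'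
    obtain ⟨u, hu, hu1⟩ := (Subgroup.bot_or_exists_ne_one _).resolve_left
      (CfsgLib.PGroups.inf_center_ne_bot hP hNne)
    have huw : u ∈ zpowers w := hz u hu.2 (hNe.2 u hu.1)
    have hwN : w ∈ N := by
      have : zpowers u = zpowers w := Subgroup.eq_of_le_of_card_ge (zpowers_le.mpr huw)
        (by rw [Nat.card_zpowers, Nat.card_zpowers, hwo, orderOf_eq_prime (hNe.2 u hu.1) hu1])
      have h2 : w ∈ zpowers u := this ▸ mem_zpowers w
      exact zpowers_le.mpr hu.1 h2
    haveI hn1 : (zpowers w).Normal := CfsgLib.PGroups.normal_of_le_center (zpowers_le.mpr hw)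
    refine ⟨N, hNn, hNcard, hwN, hNe.2, fun a ha b hb => congrArg Subtype.val (hNe.1.is_comm.comm ⟨a, ha⟩ ⟨b, hb⟩), ?_⟩
    -- the image of `N` in `P / ⟨w⟩` has order `p`, hence is central
    intro e he g
    let f := QuotientGroup.mk' (zpowers w)
    have hf := QuotientGroup.mk'_surjective (zpowers w)
    haveI : (N.map f).Normal := hNn.map f hf
    have hcard : Nat.card (N.map f) = p := by
      rw [← relIndex_bot_left, show (⊥ : Subgroup (P ⧸ zpowers w)) = (zpowers w).map f by
        rw [eq_comm, Subgroup.map_eq_bot_iff, QuotientGroup.ker_mk'], relIndex_map_map,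
        QuotientGroup.ker_mk', sup_idem, sup_eq_left.mpr (zpowers_le.mpr hwN)]
      have h3 := relIndex_mul_relIndex ⊥ (zpowers w) N bot_le (zpowers_le.mpr hwN)
      rw [relIndex_bot_left, relIndex_bot_left, Nat.card_zpowers, hwo, hNcard, sq] at h3
      exact Nat.eq_of_mul_eq_mul_left hprime.pos h3
    have hne : N.map f ≠ ⊥ := fun h => by rw [h, Subgroup.card_bot] at hcard; exact hprime.ne_one hcard.symm
    have hle : N.map f ≤ center (P ⧸ zpowers w) := by
      have h4 := CfsgLib.PGroups.inf_center_ne_bot (hP.to_quotient (zpowers w)) hne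
      have h5 : N.map f ⊓ center (P ⧸ zpowers w) = N.map f := by
        refine Subgroup.eq_of_le_of_card_ge inf_le_left ?_
        rcases (Nat.dvd_prime hprime).mp (hcard ▸ Subgroup.card_dvd_of_le inf_le_left) with h | h
        · exact absurd (Subgroup.card_eq_one.mp h) h4
        · rw [h, hcard]
      exact inf_eq_left.mp h5
    rw [← QuotientGroup.eq_one_iff]
    show f (g * e * g⁻¹ * e⁻¹) = 1
    rw [map_mul, map_mul, map_mul, map_inv, map_inv,
      mem_center_iff.mp (hle ⟨e, he, rfl⟩) (f g), mul_inv_cancel_right, mul_inv_cancel]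

theorem pow_congr {u : P} (hu : u ^ p = 1) {k : ℕ} (hk : k ≡ 1 [MOD p]) : u ^ k = u := by
  conv_rhs => rw [← pow_one u]
  rw [pow_eq_pow_iff_modEq]
  exact hk.of_dvd (orderOf_dvd_of_pow_eq_one hu)

/-- powers of a product with commutator in `Ω` -/
theorem mul_pow_central {x e c : P} (hc : c ∈ center P) (hex : e * x = c * x * e) (n : ℕ) :
    ∃ i : ℕ, (x * e) ^ n = x ^ n * e ^ n * c ^ i ∧ 2 * i + n = n * n := by
  induction n with
  | zero => exact ⟨0, by simp, rfl⟩
  | succ n ih =>
    obtain ⟨i, hi, hi2⟩ := ih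
    have hcc : ∀ y : P, Commute c y := fun y => (mem_center_iff.mp hc y).symm
    have hpow : e ^ n * x = c ^ n * x * e ^ n := by
      clear hi hi2
      induction n with
      | zero => simp
      | succ m ihm =>
        rw [pow_succ, mul_assoc, hex, ← mul_assoc, ← mul_assoc, ← (hcc (e ^ m)).eq, mul_assoc c,
          ihm]
        simp [pow_succ', mul_assoc]
    refine ⟨i + n, ?_, by nlinarith⟩
    rw [pow_succ, hi, pow_succ x, pow_succ e, pow_add]
    have hci : ∀ y : P, Commute (c ^ i) y := fun y => (hcc y).pow_left i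
    have hcn : ∀ y : P, Commute (c ^ n) y := fun y => (hcc y).pow_left n
    calc x ^ n * e ^ n * c ^ i * (x * e)
        = x ^ n * (e ^ n * x) * e * c ^ i := by rw [mul_assoc (x ^ n * e ^ n), (hci (x * e)).eq]; group
      _ = x ^ n * (c ^ n * x * e ^ n) * e * c ^ i := by rw [hpow]
      _ = x ^ n * (x * c ^ n) * e ^ n * e * c ^ i := by rw [(hcn x).eq]; group
      _ = x ^ n * x * (c ^ n * (e ^ n * e)) * c ^ i := by group
      _ = x ^ n * x * ((e ^ n * e) * c ^ n) * c ^ i := by rw [(hcn (e ^ n * e)).eq]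
      _ = x ^ n * x * (e ^ n * e) * (c ^ n * c ^ i) := by group
      _ = _ := by rw [← pow_add, add_comm n i, pow_add]

theorem normal_count (hodd : p ≠ 2) (hP : IsPGroup p P) (hc : ¬ IsCyclic P) {s : ℕ} (hs : 1 < s) :
    p ∣ Nat.card {X : Subgroup P // IsCyclic X ∧ Nat.card X = p ^ s ∧ X.Normal} := by
  classical
  haveI := Fintype.ofFinite P
  have hprime : p.Prime := Fact.out
  have key := card_orderOf_eq (p ^ s) (fun X : Subgroup P => X.Normal)
  suffices hT : p ^ s ∣ Nat.card {x : P // orderOf x = p ^ s ∧ (zpowers x).Normal} by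
    rw [key, Nat.totient_prime_pow hprime (by omega), mul_assoc] at hT
    have hT2 : p ∣ (p - 1) * Nat.card {X : Subgroup P // IsCyclic X ∧ Nat.card X = p ^ s ∧ X.Normal} := by
      refine (Nat.mul_dvd_mul_iff_left (pow_pos hprime.pos (s - 1))).mp ?_
      rw [← pow_succ, show s - 1 + 1 = s by omega]
      exact hT
    refine ((hprime.dvd_mul).mp hT2).resolve_left fun h => ?_
    have h1 := Nat.le_of_dvd (by have := hprime.two_le; omega) h
    have := hprime.pos
    omega
  let Q : P → Prop := fun w => w ∈ center P ∧ orderOf w = p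
  let Nf : Subgroup P → Subgroup P := fun W =>
    if h : ∃ w, Q w ∧ zpowers w = W then (exists_N hodd hP hc h.choose h.choose_spec.1.1 h.choose_spec.1.2).choose else ⊥
  let W : P → Subgroup P := fun x => zpowers (x ^ p ^ (s - 1))
  let M : P → Subgroup P := fun x => zpowers (x ^ p) ⊔ Nf (W x)
  let T := Finset.univ.filter fun x : P => orderOf x = p ^ s ∧ (zpowers x).Normal
  have hTcard : Nat.card {x : P // orderOf x = p ^ s ∧ (zpowers x).Normal} = T.card := by
    rw [Nat.card_eq_fintype_card, Fintype.card_subtype]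
  rw [hTcard]
  -- facts about a single element
  have main : ∀ x ∈ T, Nat.card (M x) = p ^ s ∧ ∀ m ∈ M x, x * m ∈ T ∧ M (x * m) = M x := by
    intro x hx
    obtain ⟨hxo, hxn⟩ := (Finset.mem_filter.mp hx).2
    set w := x ^ p ^ (s - 1) with hwdef
    have hwo : orderOf w = p := by
      rw [hwdef, orderOf_pow_of_dvd (pow_pos hprime.pos _).ne' (hxo ▸ pow_dvd_pow p (Nat.sub_le s 1)),
        hxo, Nat.pow_div (Nat.sub_le s 1) hprime.pos, show s - (s - 1) = 1 by omega, pow_one]
    have hZ : ∀ g : P, ∃ k : ℕ, g * x * g⁻¹ = x ^ k ∧ k ≡ 1 [MOD p] := by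
      intro g
      have hk := hxn.conj_mem x (mem_zpowers x) g
      obtain ⟨k, hk⟩ := (mem_powers_iff_mem_zpowers.mpr hk : g * x * g⁻¹ ∈ Submonoid.powers x)
      refine ⟨k, hk.symm, ?_⟩
      have hrel : ∀ j : ℕ, g ^ j * x * (g ^ j)⁻¹ = x ^ (k ^ j) := by
        intro j
        induction j with
        | zero => simp
        | succ j ihj =>
          calc g ^ (j + 1) * x * (g ^ (j + 1))⁻¹ = g ^ j * (g * x * g⁻¹) * (g ^ j)⁻¹ := by rw [pow_succ]; group
            _ = g ^ j * x ^ k * (g ^ j)⁻¹ := by rw [← hk]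
            _ = (g ^ j * x * (g ^ j)⁻¹) ^ k := (conj_pow).symm
            _ = x ^ (k ^ (j + 1)) := by rw [ihj, ← pow_mul, pow_succ]
      obtain ⟨a, ha⟩ := hP g
      have h1 := hrel (p ^ a)
      rw [ha, one_mul, inv_one, mul_one] at h1
      have h2 : 1 ≡ k ^ p ^ a [MOD p ^ s] := by
        rw [← hxo, ← pow_eq_pow_iff_modEq, pow_one]; exact h1
      have h3 : (1 : ZMod p) = (k : ZMod p) ^ p ^ a := by
        have := (ZMod.natCast_eq_natCast_iff _ _ p).mpr (h2.of_dvd (dvd_pow_self p (by omega)))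
        simpa using this
      rw [ZMod.pow_card_pow] at h3
      exact (ZMod.natCast_eq_natCast_iff k 1 p).mp (by simpa using h3.symm)
    have hwc : w ∈ center P := by
      rw [mem_center_iff]
      intro g
      obtain ⟨k, hk, hk1⟩ := hZ g
      have h1 : g * w * g⁻¹ = w := by
        rw [hwdef, ← conj_pow, hk, ← pow_mul, mul_comm, pow_mul]
        exact pow_congr (orderOf_dvd_iff_pow_eq_one.mp (by rw [← hwdef, hwo])) hk1
      calc g * w = g * w * g⁻¹ * g := by group
        _ = w * g := by rw [h1]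
    have hex : ∃ w', Q w' ∧ zpowers w' = W x := ⟨w, ⟨hwc, hwo⟩, rfl⟩
    have hNW : Nf (W x) = (exists_N hodd hP hc hex.choose hex.choose_spec.1.1 hex.choose_spec.1.2).choose := by
      simp only [Nf, dif_pos hex]
    obtain ⟨hNn, hNcard, hw'N, hNexp, hNab, hNcomm⟩ :=
      (exists_N hodd hP hc hex.choose hex.choose_spec.1.1 hex.choose_spec.1.2).choose_spec
    rw [← hNW] at hNn hNcard hw'N hNexp hNab hNcomm
    rw [show zpowers hex.choose = W x from hex.choose_spec.2] at hNcomm
    have hwN : w ∈ Nf (W x) := by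
      have : w ∈ zpowers hex.choose := by rw [hex.choose_spec.2]; exact mem_zpowers w
      exact zpowers_le.mpr hw'N this
    haveI := hNn
    set N := Nf (W x) with hNdef
    have hxp : orderOf (x ^ p) = p ^ (s - 1) := by
      rw [orderOf_pow_of_dvd hprime.ne_zero (hxo ▸ dvd_pow_self p (by omega)), hxo]
      conv_lhs => rw [← pow_one p, ← pow_mul, one_mul, Nat.pow_div (by omega) hprime.pos]
    have hWle : W x ≤ zpowers (x ^ p) := zpowers_le.mpr (by
      have : w = (x ^ p) ^ p ^ (s - 2) := by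
        rw [hwdef, ← pow_mul, ← pow_succ']; congr 2; omega
      show w ∈ zpowers (x ^ p)
      rw [this]; exact pow_mem (mem_zpowers _) _)
    have hinf : zpowers (x ^ p) ⊓ N = W x := by
      refine le_antisymm ?_ (le_inf hWle (zpowers_le.mpr hwN))
      intro u hu
      have h1 : u ∈ zpowers x := by
        exact zpowers_le.mpr (pow_mem (mem_zpowers x) p) hu.1
      haveI : IsCyclic (zpowers x) := inferInstance
      have h2 := CfsgLib.PLocal.isCyclic_mem_zpowers_of_pow_eq_one (hP.to_subgroup (zpowers x))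
        (z := (⟨w, pow_mem (mem_zpowers x) _⟩ : zpowers x)) (y := ⟨u, h1⟩)
        (by rw [Subgroup.orderOf_mk, hwo]) (Subtype.ext (hNexp u hu.2))
      obtain ⟨i, hi⟩ := mem_zpowers_iff.mp h2
      exact ⟨i, by simpa using congrArg Subtype.val hi⟩
    have hMcard : Nat.card (M x) = p ^ s := by
      show Nat.card (zpowers (x ^ p) ⊔ N : Subgroup P) = p ^ s
      have h1 := relIndex_mul_relIndex ⊥ N (zpowers (x ^ p) ⊔ N) bot_le le_sup_right
      rw [relIndex_bot_left, relIndex_bot_left, hNcard, relIndex_sup_right] at h1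
      have h2 := relIndex_mul_relIndex ⊥ (zpowers (x ^ p) ⊓ N) (zpowers (x ^ p)) bot_le inf_le_left
      rw [inf_relIndex_left, relIndex_bot_left, relIndex_bot_left, hinf, Nat.card_zpowers,
        Nat.card_zpowers, ← hwdef, hwo, hxp] at h2
      rw [← h1]
      calc p ^ 2 * N.relIndex (zpowers (x ^ p)) = p * (p * N.relIndex (zpowers (x ^ p))) := by ring
        _ = p ^ s := by rw [h2, ← pow_succ']; congr 1; omega
    refine ⟨hMcard, fun m hm => ?_⟩
    obtain ⟨u, hu, e, he, rfl⟩ := mem_sup_of_normal_right.mp hm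
    obtain ⟨l, rfl⟩ := (mem_powers_iff_mem_zpowers.mpr hu : u ∈ Submonoid.powers (x ^ p))
    obtain ⟨y, hy⟩ : ∃ y, y = x * ((x ^ p) ^ l * e) := ⟨_, rfl⟩
    set k0 := 1 + p * l with hk0
    have hk01 : k0 ≡ 1 [MOD p] := by
      show (1 + p * l) % p = 1 % p
      rw [Nat.add_mul_mod_self_left]
    have hy' : y = x ^ k0 * e := by rw [hy, hk0, pow_add, pow_one, pow_mul, mul_assoc]
    set x0 := x ^ k0 with hx0
    have hcop : Nat.Coprime (p ^ s) k0 := Nat.Coprime.pow_left s (hprime.coprime_iff_not_dvd.mpr fun hd => by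
      have h1 := Nat.modEq_zero_iff_dvd.mpr hd
      have h2 := hk01.symm.trans h1
      exact hprime.one_lt.ne' (Nat.dvd_one.mp (Nat.modEq_zero_iff_dvd.mp h2)))
    have hx0o : orderOf x0 = p ^ s := by rw [hx0, Nat.Coprime.orderOf_pow (by rw [hxo]; exact hcop), hxo]
    have hgen : zpowers x0 = zpowers x := Subgroup.eq_of_le_of_card_ge
      (zpowers_le.mpr (pow_mem (mem_zpowers x) _)) (by rw [Nat.card_zpowers, Nat.card_zpowers, hx0o, hxo])
    set c := e * x0 * e⁻¹ * x0⁻¹ with hcdef
    have hcW : c ∈ W x := by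
      have h1 := inv_mem (hNcomm e he x0)
      convert h1 using 1
      rw [hcdef]; group
    have hWc : W x ≤ center P := zpowers_le.mpr hwc
    have hcc : c ∈ center P := hWc hcW
    have hWexp : ∀ v ∈ W x, v ^ p = 1 := fun v hv => hNexp v (zpowers_le.mpr hwN hv)
    have hexc : e * x0 = c * x0 * e := by rw [hcdef]; group
    have hep : e ^ p = 1 := hNexp e he
    have hyp : y ^ p = x0 ^ p := by
      obtain ⟨i, hi, hi2⟩ := mul_pow_central hcc hexc p
      have hpi : p ∣ i := by
        have h1 : p ∣ 2 * i := by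
          have : p ∣ 2 * i + p := ⟨p, hi2⟩
          exact (Nat.dvd_add_left (dvd_refl p)).mp this
        exact (hprime.dvd_mul.mp h1).resolve_left fun h => hodd ((Nat.prime_dvd_prime_iff_eq hprime Nat.prime_two).mp h)
      obtain ⟨t, rfl⟩ := hpi
      rw [hy', hi, hep, mul_one, pow_mul, hWexp c hcW, one_pow, mul_one]
    have hyo : orderOf y = p ^ s := by
      have h0 : s = s - 1 + 1 := by omega
      rw [h0]
      refine orderOf_eq_prime_pow ?_ ?_
      · rw [show p ^ (s - 1) = p * p ^ (s - 2) by rw [← pow_succ']; congr 1; omega, pow_mul, hyp, ← pow_mul,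
          ← pow_succ', show s - 2 + 1 = s - 1 by omega]
        intro h1
        have := orderOf_dvd_of_pow_eq_one h1
        rw [hx0o, Nat.pow_dvd_pow_iff_le_right hprime.one_lt] at this
        omega
      · rw [pow_succ', pow_mul, hyp, ← pow_mul, ← pow_succ', ← h0, ← hx0o, pow_orderOf_eq_one]
    have hpow_eq : zpowers (y ^ p) = zpowers (x ^ p) := by
      rw [hyp, hx0, ← pow_mul, mul_comm, pow_mul]
      refine Subgroup.eq_of_le_of_card_ge (zpowers_le.mpr (pow_mem (mem_zpowers _) _)) ?_
      rw [Nat.card_zpowers, Nat.card_zpowers]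
      refine le_of_eq (Nat.Coprime.orderOf_pow (y := x ^ p) ?_).symm
      rw [hxp]
      exact (Nat.Coprime.pow_left (s - 1) ((Nat.coprime_pow_left_iff (by omega) p k0).mp hcop))
    have hWy : W y = W x := by
      show zpowers (y ^ p ^ (s - 1)) = zpowers w
      rw [show p ^ (s - 1) = p * p ^ (s - 2) by rw [← pow_succ']; congr 1; omega, pow_mul, hyp, ← pow_mul,
        ← pow_succ', show s - 2 + 1 = s - 1 by omega, hx0, ← pow_mul, mul_comm, pow_mul, ← hwdef]
      refine Subgroup.eq_of_le_of_card_ge (zpowers_le.mpr (pow_mem (mem_zpowers _) _)) ?_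
      rw [Nat.card_zpowers, Nat.card_zpowers, pow_congr (by rw [← hwo, pow_orderOf_eq_one]) hk01]
    have hWley : W x ≤ zpowers y := by
      refine hWle.trans ?_
      rw [← hpow_eq]; exact zpowers_le.mpr (pow_mem (mem_zpowers y) p)
    refine ⟨Finset.mem_filter.mpr ⟨Finset.mem_univ _, by rw [← hy]; exact hyo, ?_⟩, ?_⟩
    · rw [← hy, ← normalizer_eq_top_iff, eq_top_iff]
      intro g _
      rw [mem_normalizer_iff_map_conj_eq, MonoidHom.map_zpowers]
      refine Subgroup.eq_of_le_of_card_ge (zpowers_le.mpr ?_) ?_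
      · obtain ⟨k, hk, hk1⟩ := hZ g
        have hg0 : g * x0 * g⁻¹ = x0 ^ k := by
          rw [hx0, ← conj_pow, hk, ← pow_mul, ← pow_mul, mul_comm]
        have hge : g * e * g⁻¹ * e⁻¹ ∈ zpowers y := hWley (hNcomm e he g)
        obtain ⟨i, hi, -⟩ := mul_pow_central hcc hexc k
        rw [pow_congr hep hk1, ← hy'] at hi
        show g * y * g⁻¹ ∈ zpowers y
        have h2 : g * y * g⁻¹ = y ^ k * (c ^ i)⁻¹ * (g * e * g⁻¹ * e⁻¹) := by
          have hcen := mem_center_iff.mp (hWc (hNcomm e he g))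
          calc g * y * g⁻¹ = (g * x0 * g⁻¹) * (g * e * g⁻¹) := by rw [hy']; group
            _ = x0 ^ k * ((g * e * g⁻¹ * e⁻¹) * e) := by rw [hg0]; group
            _ = x0 ^ k * (e * (g * e * g⁻¹ * e⁻¹)) := by rw [hcen e]
            _ = (x0 ^ k * e * c ^ i) * (c ^ i)⁻¹ * (g * e * g⁻¹ * e⁻¹) := by group
            _ = _ := by rw [← hi]
        rw [h2]
        exact mul_mem (mul_mem (pow_mem (mem_zpowers y) k) (inv_mem (pow_mem (hWley hcW) i))) hge
      · rw [Nat.card_zpowers, Nat.card_zpowers]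
        exact (orderOf_conj g y).ge
    · rw [← hy]
      show zpowers (y ^ p) ⊔ Nf (W y) = _
      rw [hpow_eq, hWy]
  let F : P → Finset P := fun x => Finset.univ.filter fun y => x⁻¹ * y ∈ M x
  rw [Finset.card_eq_sum_card_fiberwise (f := F) (t := T.image F) fun x hx => Finset.mem_image_of_mem F hx]
  refine Finset.dvd_sum fun c hc' => ?_
  obtain ⟨x, hx, rfl⟩ := Finset.mem_image.mp hc'
  obtain ⟨hcard, hmem⟩ := main x hx
  have hfib : T.filter (fun y => F y = F x) = F x := by
    ext y
    constructor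
    · intro hy
      obtain ⟨-, hyx⟩ := Finset.mem_filter.mp hy
      rw [← hyx]
      exact Finset.mem_filter.mpr ⟨Finset.mem_univ _, by rw [inv_mul_cancel]; exact one_mem _⟩
    · intro hy
      have hm := (Finset.mem_filter.mp hy).2
      obtain ⟨hT', hM'⟩ := hmem _ hm
      rw [mul_inv_cancel_left] at hT' hM'
      refine Finset.mem_filter.mpr ⟨hT', ?_⟩
      ext z
      simp only [F, Finset.mem_filter, Finset.mem_univ, true_and, hM']
      constructor
      · intro h
        have := mul_mem hm h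
        rwa [mul_assoc, mul_inv_cancel_left] at this
      · intro h
        have := mul_mem (inv_mem hm) h
        rwa [mul_inv_rev, inv_inv, mul_assoc, mul_inv_cancel_left] at this
  rw [hfib, ← hcard]
  refine dvd_of_eq ?_
  rw [← Nat.card_eq_finsetCard]
  exact Nat.card_congr
    { toFun := fun m => ⟨x * m, Finset.mem_filter.mpr ⟨Finset.mem_univ _, by rw [inv_mul_cancel_left]; exact m.2⟩⟩
      invFun := fun y => ⟨x⁻¹ * y, (Finset.mem_filter.mp y.2).2⟩
      left_inv := fun m => Subtype.ext (inv_mul_cancel_left _ _)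
      right_inv := fun y => Subtype.ext (mul_inv_cancel_left _ _) }

theorem count_cyclic {C : Type*} [Group C] [Finite C] (hodd : p ≠ 2) (S : Sylow p C)
    (hc : ¬ IsCyclic (S : Subgroup C)) {s : ℕ} (hs : 1 < s) :
    p ∣ Nat.card {X : Subgroup C // IsCyclic X ∧ Nat.card X = p ^ s} := by
  classical
  let Ω := {X : Subgroup C // IsCyclic X ∧ Nat.card X = p ^ s}
  letI act : MulAction (S : Subgroup C) Ω :=
    { smul := fun g X => ⟨X.1.map (MulAut.conj (g : C)).toMonoidHom,
        haveI := X.2.1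
        isCyclic_of_surjective (Subgroup.equivMapOfInjective X.1 _ (MulAut.conj (g : C)).injective).toMonoidHom
          (MulEquiv.surjective _),
        (Subgroup.card_map_of_injective (MulAut.conj (g : C)).injective).trans X.2.2⟩
      one_smul := fun X => Subtype.ext (by
        show X.1.map (MulAut.conj ((1 : (S : Subgroup C)) : C)).toMonoidHom = X.1
        rw [OneMemClass.coe_one, map_one]
        exact Subgroup.map_id X.1)
      mul_smul := fun g h X => Subtype.ext (by
        show X.1.map (MulAut.conj ((g * h : (S : Subgroup C)) : C)).toMonoidHom =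
          (X.1.map (MulAut.conj (h : C)).toMonoidHom).map (MulAut.conj (g : C)).toMonoidHom
        rw [Subgroup.map_map, Subgroup.coe_mul, map_mul]
        rfl) }
  have hmod := S.isPGroup'.card_modEq_card_fixedPoints Ω
  rw [Nat.ModEq] at hmod
  rw [Nat.dvd_iff_mod_eq_zero]
  show Nat.card Ω % p = 0
  rw [hmod, ← Nat.dvd_iff_mod_eq_zero]
  have hfix : ∀ X : Ω, X ∈ MulAction.fixedPoints (S : Subgroup C) Ω →
      X.1 ≤ (S : Subgroup C) ∧ (X.1.subgroupOf S).Normal := by
    intro X hX
    have hSN : (S : Subgroup C) ≤ normalizer (X.1 : Set C) := fun g hg => by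
      rw [mem_normalizer_iff_map_conj_eq]
      exact congrArg Subtype.val (hX ⟨g, hg⟩)
    have hpg : IsPGroup p ((S : Subgroup C) ⊔ X.1 : Subgroup C) :=
      IsPGroup.to_sup_of_normal_right' S.isPGroup' (IsPGroup.of_card X.2.2) hSN
    have hle : X.1 ≤ (S : Subgroup C) := le_sup_right.trans (S.is_maximal' hpg le_sup_left).le
    exact ⟨hle, normal_subgroupOf_of_le_normalizer hSN⟩
  have hn := normal_count hodd S.isPGroup' hc hs
  convert hn using 1
  refine Nat.card_congr
    { toFun := fun X => ⟨X.1.1.subgroupOf S, ?_, ?_, (hfix X.1 X.2).2⟩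
      invFun := fun Y => ⟨⟨Y.1.map (S : Subgroup C).subtype, ?_, ?_⟩, ?_⟩
      left_inv := fun X => Subtype.ext (Subtype.ext (map_subgroupOf_eq_of_le (hfix X.1 X.2).1))
      right_inv := fun Y => Subtype.ext (comap_map_eq_self_of_injective (S : Subgroup C).subtype_injective Y.1) }
  · haveI := X.1.2.1
    exact isCyclic_of_surjective (subgroupOfEquivOfLe (hfix X.1 X.2).1).symm.toMonoidHom (MulEquiv.surjective _)
  · exact (Nat.card_congr (subgroupOfEquivOfLe (hfix X.1 X.2).1).toEquiv).trans X.1.2.2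
  · haveI := Y.2.1
    exact isCyclic_of_surjective (Subgroup.equivMapOfInjective Y.1 _ (S : Subgroup C).subtype_injective).toMonoidHom
      (MulEquiv.surjective _)
  · exact (Subgroup.card_map_of_injective (S : Subgroup C).subtype_injective).trans Y.2.2.1
  · intro g
    refine Subtype.ext ?_
    show (Y.1.map (S : Subgroup C).subtype).map (MulAut.conj (g : C)).toMonoidHom = Y.1.map (S : Subgroup C).subtype
    haveI := Y.2.2.2
    exact mem_normalizer_iff_map_conj_eq.mp
      (le_normalizer_map (S : Subgroup C).subtype ⟨g, by rw [normalizer_eq_top]; trivial, rfl⟩)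

theorem count_elements {C : Type*} [Group C] [Finite C] {s : ℕ} (hs : 1 < s) :
    p ^ (s - 1) ∣ Nat.card {x : C // orderOf x = p ^ s} ∧
    (p ∣ Nat.card {X : Subgroup C // IsCyclic X ∧ Nat.card X = p ^ s} →
      p ^ s ∣ Nat.card {x : C // orderOf x = p ^ s}) := by
  have h := card_orderOf_eq (H := C) (p ^ s) (fun _ => True)
  have e1 : Nat.card {x : C // orderOf x = p ^ s} = Nat.card {x : C // orderOf x = p ^ s ∧ True} :=
    Nat.card_congr (Equiv.subtypeEquivRight fun x => by simp)
  have e2 : Nat.card {X : Subgroup C // IsCyclic X ∧ Nat.card X = p ^ s} =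
      Nat.card {X : Subgroup C // IsCyclic X ∧ Nat.card X = p ^ s ∧ True} :=
    Nat.card_congr (Equiv.subtypeEquivRight fun x => by simp)
  rw [← e1, ← e2, Nat.totient_prime_pow Fact.out (by omega)] at h
  refine ⟨h ▸ dvd_mul_of_dvd_left (dvd_mul_right _ _) _, fun hd => ?_⟩
  rw [h]
  refine (dvd_of_eq ?_).trans (Nat.mul_dvd_mul (dvd_mul_right (p ^ (s - 1)) (p - 1)) hd)
  rw [← pow_succ]; congr 1; omega


/-- Let G be a finite group, p an odd prime dividing the order of G whose Sylow p-subgroups are not cyclic, and n = p^s·m with s > 1 and m coprime to p. Then the number of elements of G of order n is a multiple of p^s. -/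
theorem result {G : Type*} [Group G] [Finite G] (p : ℕ) [Fact p.Prime] (hodd : p ≠ 2) (hpG : p ∣ Nat.card G)
    (P : Sylow p G) (hP : ¬ IsCyclic ↥(P : Subgroup G)) (s m : ℕ) (hs : 1 < s) (hm : Nat.Coprime p m) :
    p ^ s ∣ Nat.card {g : G // orderOf g = p ^ s * m} := by
  classical
  haveI := Fintype.ofFinite G
  have hprime : p.Prime := Fact.out
  rcases Nat.eq_zero_or_pos m with rfl | hm0
  · rw [Nat.coprime_zero_right] at hm
    exact absurd hm hprime.ne_one
  have hcop : Nat.Coprime (p ^ s) m := Nat.Coprime.pow_left s hm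
  obtain ⟨e, he1, he2⟩ := Nat.chineseRemainder hcop 1 0
  rw [Nat.modEq_zero_iff_dvd] at he2
  let S : Finset G := Finset.univ.filter fun y => orderOf y = m
  let f : G → ℕ := fun y => Nat.card {x : G // Commute y x ∧ orderOf x = p ^ s}
  have hxe : ∀ x : G, orderOf x = p ^ s → x ^ e = x := fun x hx => by
    conv_rhs => rw [← pow_one x]
    rw [pow_eq_pow_iff_modEq, hx]; exact he1
  have hye : ∀ y : G, orderOf y = m → y ^ e = 1 := fun y hy =>
    orderOf_dvd_iff_pow_eq_one.mp (hy.symm ▸ he2)
  have hsplit : ∀ g : G, orderOf g = p ^ s * m → orderOf (g ^ e) = p ^ s ∧ orderOf ((g ^ e)⁻¹ * g) = m := by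
    intro g hg
    have hgd : orderOf (g ^ e) ∣ p ^ s := by
      refine orderOf_dvd_of_pow_eq_one ?_
      obtain ⟨t, rfl⟩ := he2
      rw [← pow_mul, show m * t * p ^ s = p ^ s * m * t by ring, pow_mul, ← hg, pow_orderOf_eq_one, one_pow]
    have hc : Commute (g ^ e)⁻¹ g := ((Commute.refl g).pow_left e).inv_left
    have hrd : orderOf ((g ^ e)⁻¹ * g) ∣ m := by
      refine orderOf_dvd_of_pow_eq_one ?_
      rw [hc.mul_pow, inv_pow, inv_mul_eq_one, ← pow_mul, pow_eq_pow_iff_modEq, hg]
      have h1 : e * m ≡ m [MOD p ^ s * m] := by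
        have := Nat.ModEq.mul_right' m he1
        rwa [one_mul] at this
      exact h1
    have hmul : orderOf g ∣ orderOf (g ^ e) * orderOf ((g ^ e)⁻¹ * g) := by
      have hcc : Commute (g ^ e) ((g ^ e)⁻¹ * g) :=
        (Commute.refl (g ^ e)).inv_right.mul_right ((Commute.refl g).pow_left e)
      have := hcc.orderOf_mul_dvd_mul_orderOf
      rwa [mul_inv_cancel_left] at this
    rw [hg] at hmul
    have hle := Nat.le_of_dvd (Nat.mul_pos (orderOf_pos _) (orderOf_pos _)) hmul
    have l1 := Nat.le_of_dvd (pow_pos hprime.pos s) hgd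
    have l2 := Nat.le_of_dvd hm0 hrd
    have p1 := pow_pos hprime.pos s
    exact ⟨by nlinarith, by nlinarith⟩
  let E : {g : G // orderOf g = p ^ s * m} ≃ Σ y : {y // y ∈ S}, {x : G // Commute (y : G) x ∧ orderOf x = p ^ s} :=
    { toFun := fun g => ⟨⟨(g.1 ^ e)⁻¹ * g.1, Finset.mem_filter.mpr ⟨Finset.mem_univ _, (hsplit g.1 g.2).2⟩⟩,
        ⟨g.1 ^ e, ((Commute.refl (g.1 ^ e)).inv_right.mul_right ((Commute.refl g.1).pow_left e)).symm, (hsplit g.1 g.2).1⟩⟩
      invFun := fun q => ⟨q.2.1 * q.1.1, by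
        rw [q.2.2.1.symm.orderOf_mul_eq_mul_orderOf_of_coprime (by
          rw [q.2.2.2, (Finset.mem_filter.mp q.1.2).2]; exact hcop), q.2.2.2, (Finset.mem_filter.mp q.1.2).2]⟩
      left_inv := fun g => Subtype.ext (mul_inv_cancel_left _ _)
      right_inv := by
        rintro ⟨⟨y, hy⟩, ⟨x, hc, hx⟩⟩
        have hxy : (x * y) ^ e = x := by
          rw [hc.symm.mul_pow, hxe x hx, hye y (Finset.mem_filter.mp hy).2, mul_one]
        apply Sigma.subtype_ext
        · refine Subtype.ext ?_
          show ((x * y) ^ e)⁻¹ * (x * y) = y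
          rw [hxy, inv_mul_cancel_left]
        · exact hxy }
  rw [Nat.card_congr E, Nat.card_sigma, Finset.sum_coe_sort S f]
  refine CfsgLib.Base.Solutions.dvd_sum_of_conj_invariant (fun v w hvw hv => ?_) (fun v w hvw => ?_) ?_
  · obtain ⟨c, rfl⟩ := isConj_iff.mp hvw
    exact Finset.mem_filter.mpr ⟨Finset.mem_univ _, (orderOf_conj c v).trans (Finset.mem_filter.mp hv).2⟩
  · obtain ⟨c, rfl⟩ := isConj_iff.mp hvw
    refine Nat.card_congr ((MulAut.conj c).toEquiv.subtypeEquiv fun y => and_congr ?_ ?_)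
    · refine ⟨fun h => h.map (MulAut.conj c).toMonoidHom, fun h => ?_⟩
      have := h.map (MulAut.conj c⁻¹).toMonoidHom
      simpa [mul_assoc] using this
    · show orderOf y = p ^ s ↔ orderOf (c * y * c⁻¹) = p ^ s
      rw [orderOf_conj]
  · intro y hy
    let C := Subgroup.centralizer ({y} : Set G)
    have hf : f y = Nat.card {x : C // orderOf x = p ^ s} :=
      Nat.card_congr
        { toFun := fun x => ⟨⟨x.1, Subgroup.mem_centralizer_singleton_iff.mpr x.2.1.symm.eq⟩, by
            rw [Subgroup.orderOf_mk]; exact x.2.2⟩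
          invFun := fun x => ⟨x.1, (Subgroup.mem_centralizer_singleton_iff.mp x.1.2).symm, by
            rw [Subgroup.orderOf_coe]; exact x.2⟩
          left_inv := fun x => rfl
          right_inv := fun x => rfl }
    rw [hf]
    obtain ⟨h1, h2⟩ := count_elements (p := p) (C := C) hs
    by_cases hd : p ∣ C.index
    · refine (dvd_of_eq ?_).trans (Nat.mul_dvd_mul hd h1)
      rw [← pow_succ']; congr 1; omega
    · obtain ⟨S'⟩ : Nonempty (Sylow p C) := inferInstance
      refine Dvd.dvd.mul_left (h2 (count_cyclic hodd S' (fun hcy => hP ?_) hs)) _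
      haveI := hcy
      let T := (S' : Subgroup C).map C.subtype
      haveI : IsCyclic T := isCyclic_of_surjective
        (Subgroup.equivMapOfInjective (S' : Subgroup C) _ C.subtype_injective).toMonoidHom (MulEquiv.surjective _)
      have hTind : ¬ p ∣ T.index := by
        rw [Subgroup.index_map_of_injective _ C.subtype_injective, Subgroup.range_subtype]
        exact fun h => (hprime.dvd_mul.mp h).elim S'.not_dvd_index hd
      obtain ⟨g, hg⟩ := MulAction.exists_smul_eq G ((S'.isPGroup'.map C.subtype).toSylow hTind) P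
      rw [← hg]
      exact isCyclic_of_surjective (Subgroup.equivSMul (MulAut.conj g) T).toMonoidHom (MulEquiv.surjective _)

end Cfsg.Agent.S4003
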