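import Cfsg.Statements.S4005
import Mathlib
import Cfsg.Agent.Lib.Base.FPF
import Cfsg.Agent.Lib.Base.Cores
import Cfsg.Agent.Lib.Base.MinimalNormal
import Cfsg.Agent.Lib.Chars.Burnside

set_option autoImplicit false
open Cfsg

namespace Cfsg.Agent.S4005

open Subgroup in
theorem core_data {G : Type*} [Group G] [Finite G] [Group.IsSolvable G] {p q : ℕ} [hp : Fact p.Prime] [hq : Fact q.Prime]
    (hpq : p ≠ q) (hord : ∀ x : G, orderOf x = 1 ∨ orderOf x = p ∨ orderOf x = q) (hq' : ∃ x : G, orderOf x = q)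
    (hF : Cfsg.pCore p G ≠ ⊥) :
    centralizer (Cfsg.pCore p G : Set G) ≤ Cfsg.pCore p G ∧ (∀ x ∈ Cfsg.pCore p G, x ^ p = 1) ∧
    ∃ j : ℕ, j ∣ q - 1 ∧ (Cfsg.pCore p G).index = q * j ∧
      ∀ t : G, orderOf t = q → ∀ v ∈ Cfsg.pCore p G, t * v = v * t → v = 1 := by
  classical
  set F := Cfsg.pCore p G with hFdef
  have hFp : IsPGroup p F := CfsgLib.Base.isPGroup_pCore p G
  have hpow : ∀ x : G, IsPGroup p (zpowers x) → x ^ p = 1 := by
    intro x hx
    obtain ⟨k, hk⟩ := hx ⟨x, mem_zpowers x⟩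
    have hd : orderOf x ∣ p ^ k := orderOf_dvd_of_pow_eq_one (congrArg Subtype.val hk)
    rcases hord x with h | h | h
    · rw [orderOf_eq_one_iff.mp h, one_pow]
    · rw [← h, pow_orderOf_eq_one]
    · exfalso
      rw [h] at hd
      exact hpq ((Nat.prime_dvd_prime_iff_eq hq.out hp.out).mp (hq.out.dvd_of_dvd_pow hd)).symm
  have hexp : ∀ x ∈ F, x ^ p = 1 := fun x hx => hpow x (hFp.to_le (zpowers_le.mpr hx))
  have hcomm : ∀ t : G, orderOf t = q → ∀ v ∈ F, t * v = v * t → v = 1 := by
    intro t ht v hv hc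
    by_contra hv1
    have hvo : orderOf v = p := orderOf_eq_prime (hexp v hv) hv1
    have h := (show Commute t v from hc).orderOf_mul_eq_mul_orderOf_of_coprime
      (by rw [ht, hvo]; exact (Nat.coprime_primes hq.out hp.out).mpr hpq.symm)
    rw [ht, hvo] at h
    have := hp.out.one_lt
    have := hq.out.one_lt
    rcases hord (t * v) with e | e | e <;> rw [h] at e <;> nlinarith
  have hCF : centralizer (F : Set G) ≤ F := by
    haveI : (centralizer (F : Set G)).Normal := Subgroup.normal_centralizer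
    refine CfsgLib.Base.le_pCore ?_
    intro c
    refine ⟨1, ?_⟩
    rcases hord (c : G) with e | e | e
    · have hc1 : c = 1 := Subtype.ext (orderOf_eq_one_iff.mp e)
      rw [hc1, one_pow]
    · exact Subtype.ext (by rw [coe_pow, pow_one, coe_one, ← e, pow_orderOf_eq_one])
    · exfalso
      obtain ⟨v, hv, hv1⟩ := (Subgroup.bot_or_exists_ne_one F).resolve_left hF
      exact hv1 (hcomm _ e v hv (mem_centralizer_iff.mp c.2 v hv).symm)
  refine ⟨hCF, hexp, ?_⟩
  -- the Sylow `q`-subgroups have order `q`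
  have hQcard : ∀ Q : Sylow q G, Nat.card Q = q := by
    intro Q
    have hfpf : CfsgLib.Base.IsFPF (Q : Subgroup G) F :=
      ⟨fun x _ => (Subgroup.normalizer_eq_top_iff.mpr (inferInstance : F.Normal)) ▸ mem_top x,
        fun a ha ha1 => (Subgroup.eq_bot_iff_forall _).mpr fun v hv => by
          obtain ⟨k, hk⟩ := Q.2 ⟨a, ha⟩
          have hd : orderOf a ∣ q ^ k := orderOf_dvd_of_pow_eq_one (congrArg Subtype.val hk)
          rcases hord a with e | e | e
          · exact absurd (orderOf_eq_one_iff.mp e) ha1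
          · rw [e] at hd
            exact absurd ((Nat.prime_dvd_prime_iff_eq hp.out hq.out).mp (hp.out.dvd_of_dvd_pow hd)) hpq
          · exact hcomm a e v hv.1 (mem_centralizer_singleton_iff.mp hv.2).symm⟩
    obtain ⟨x, hx⟩ := hq'
    haveI : Nontrivial (Q : Subgroup G) := (Subgroup.nontrivial_iff_ne_bot _).mpr
      (Q.ne_bot_of_dvd_card (hx ▸ orderOf_dvd_natCard x))
    haveI := Q.2.center_nontrivial
    obtain ⟨⟨z, hz⟩, hz1⟩ := exists_ne (1 : center (Q : Subgroup G))
    have hqord : ∀ y ∈ (Q : Subgroup G), y ^ q = 1 := by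
      intro y hy
      obtain ⟨k, hk⟩ := Q.2 ⟨y, hy⟩
      have hd : orderOf y ∣ q ^ k := orderOf_dvd_of_pow_eq_one (congrArg Subtype.val hk)
      rcases hord y with e | e | e
      · rw [orderOf_eq_one_iff.mp e, one_pow]
      · rw [e] at hd
        exact absurd ((Nat.prime_dvd_prime_iff_eq hp.out hq.out).mp (hp.out.dvd_of_dvd_pow hd)) hpq
      · rw [← e, pow_orderOf_eq_one]
    have hzo : orderOf (z : G) = q :=
      orderOf_eq_prime (hqord _ z.2) fun e => hz1 (Subtype.ext (Subtype.ext e))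
    have hle : (Q : Subgroup G) ≤ zpowers (z : G) := fun y hy =>
      hfpf.mem_zpowers_of_commute hF hq.out z.2 hy hzo (hqord y hy)
        (congrArg Subtype.val (mem_center_iff.mp hz ⟨y, hy⟩)).symm
    rw [show Nat.card Q = Nat.card (Q : Subgroup G) from rfl,
      le_antisymm hle (zpowers_le.mpr z.2), Nat.card_zpowers, hzo]
  -- the quotient
  set f := QuotientGroup.mk' F with hf
  obtain ⟨Q⟩ : Nonempty (Sylow q G) := inferInstance
  have hqF : ¬ q ∣ Nat.card F := fun h => by
    obtain ⟨n, hn⟩ := IsPGroup.iff_card.mp hFp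
    rw [hn] at h
    exact hpq ((Nat.prime_dvd_prime_iff_eq hq.out hp.out).mp (hq.out.dvd_of_dvd_pow h)).symm
  haveI hnt : Nontrivial (G ⧸ F) := by
    refine Finite.one_lt_card_iff_nontrivial.mp ?_
    rw [← Subgroup.index_eq_card]
    refine F.one_lt_index_of_ne_top fun h => hqF ?_
    obtain ⟨x, hx⟩ := hq'
    rw [h, Subgroup.card_top, ← hx]
    exact orderOf_dvd_natCard x
  obtain ⟨r, hr, hRne⟩ := CfsgLib.Base.exists_prime_pCore_ne_bot (G := G ⧸ F)
  haveI := Fact.mk hr
  have hrp : r ≠ p := by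
    intro e
    subst e
    exact hRne (CfsgLib.Base.pCore_quotient_pCore r G)
  have hcardQ : Nat.card (G ⧸ F) = q * ((Q : Subgroup G).index / Nat.card F) := by
    have h1 := F.card_eq_card_quotient_mul_card_subgroup
    have h2 := (Q : Subgroup G).card_mul_index
    rw [show Nat.card (Q : Subgroup G) = q from hQcard Q] at h2
    have h3 : Nat.card F ∣ (Q : Subgroup G).index :=
      ((hq.out.coprime_iff_not_dvd.mpr hqF).symm).dvd_of_dvd_mul_left (h2 ▸ F.card_subgroup_dvd_card)
    obtain ⟨m, hm⟩ := h3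
    rw [hm, Nat.mul_div_cancel_left _ Nat.card_pos]
    refine Nat.eq_of_mul_eq_mul_right (Nat.card_pos (α := F)) ?_
    rw [← h1, ← h2, hm]; ring
  set R := Cfsg.pCore r (G ⧸ F) with hR
  have hordQ : ∀ x : G ⧸ F, orderOf x = 1 ∨ orderOf x = p ∨ orderOf x = q := by
    intro x
    obtain ⟨y, rfl⟩ := QuotientGroup.mk'_surjective F x
    have hd := orderOf_map_dvd f y
    rcases hord y with e | e | e <;> rw [e] at hd
    · exact Or.inl (Nat.eq_one_of_dvd_one hd)
    · exact ((Nat.dvd_prime hp.out).mp hd).imp_right Or.inl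
    · exact ((Nat.dvd_prime hq.out).mp hd).imp_right Or.inr
  have hRp : IsPGroup r R := CfsgLib.Base.isPGroup_pCore r _
  have hrq : r = q := by
    obtain ⟨n, hn⟩ := IsPGroup.iff_card.mp hRp
    have hn0 : n ≠ 0 := fun e => hRne (Subgroup.eq_bot_of_card_eq _ (by rw [hn, e, pow_zero]))
    obtain ⟨x, hx⟩ := exists_prime_orderOf_dvd_card' r (((dvd_pow_self r hn0).trans (dvd_of_eq hn.symm)).trans R.card_subgroup_dvd_card)
    rcases hordQ x with e | e | e <;> rw [hx] at e
    · exact absurd e hr.ne_one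
    · exact absurd e hrp
    · exact e
  subst hrq
  have hRcard : Nat.card R = r := by
    obtain ⟨n, hn⟩ := IsPGroup.iff_card.mp hRp
    have hn0 : n ≠ 0 := fun e => hRne (Subgroup.eq_bot_of_card_eq _ (by rw [hn, e, pow_zero]))
    rcases Nat.lt_or_ge n 2 with h | h
    · rw [hn, show n = 1 by omega, pow_one]
    exfalso
    have h1 : r ^ 2 ∣ Nat.card G :=
      ((pow_dvd_pow r h).trans (dvd_of_eq hn.symm)).trans (R.card_subgroup_dvd_card.trans F.card_quotient_dvd_card)
    have h2 := Q.card_eq_multiplicity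
    rw [show Nat.card (Q : Subgroup G) = r from hQcard Q] at h2
    have h3 := (hq.out.pow_dvd_iff_le_factorization Nat.card_pos.ne').mp h1
    have h4 : (Nat.card G).factorization r = 1 := (Nat.pow_eq_self_iff hq.out.one_lt).mp h2.symm
    omega
  -- `R` is self-centralizing
  set C := centralizer (R : Set (G ⧸ F)) with hC
  haveI : C.Normal := Subgroup.normal_centralizer
  have hRC : R ≤ C := by
    haveI : IsCyclic R := isCyclic_of_prime_card hRcard
    letI := IsCyclic.commGroup (α := R)
    exact fun x hx => mem_centralizer_iff.mpr fun y hy => congrArg Subtype.val (mul_comm (⟨y, hy⟩ : R) ⟨x, hx⟩)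
  have hCR : C = R := by
    refine le_antisymm ?_ hRC
    intro x hx
    by_contra hxR
    rcases hordQ x with e | e | e
    · exact hxR (by rw [orderOf_eq_one_iff.mp e]; exact R.one_mem)
    · obtain ⟨y, hy⟩ := exists_prime_orderOf_dvd_card' (G := R) r (dvd_of_eq hRcard.symm)
      have hyo : orderOf (y : G ⧸ F) = r := (Subgroup.orderOf_coe y).trans hy
      have h := (show Commute x (y : G ⧸ F) from (mem_centralizer_iff.mp hx _ y.2).symm).orderOf_mul_eq_mul_orderOf_of_coprime
        (by rw [e, hyo]; exact (Nat.coprime_primes hp.out hq.out).mpr hpq)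
      rw [e, hyo] at h
      have := hp.out.one_lt
      have := hq.out.one_lt
      rcases hordQ (x * y) with e' | e' | e' <;> rw [h] at e' <;> nlinarith
    · have hxp : IsPGroup r (zpowers x) := IsPGroup.of_card (n := 1) (by rw [Nat.card_zpowers, e, pow_one])
      have h1 : r ∣ Nat.card (G ⧸ F) := e ▸ orderOf_dvd_natCard x
      have hsup : IsPGroup r (R ⊔ zpowers x : Subgroup (G ⧸ F)) :=
        hRp.to_sup_of_normal_left hxp
      obtain ⟨n, hn⟩ := IsPGroup.iff_card.mp hsup
      have hgt : r < Nat.card (R ⊔ zpowers x : Subgroup (G ⧸ F)) := by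
        rw [← hRcard]
        refine lt_of_le_of_ne (Subgroup.card_le_of_le le_sup_left) fun h => hxR ?_
        rw [Subgroup.eq_of_le_of_card_ge (le_sup_left (b := zpowers x)) h.ge]
        exact le_sup_right (a := R) (mem_zpowers x)
      have hn2 : 2 ≤ n := by
        by_contra hlt
        interval_cases n <;> simp_all
      have h2 : r ^ 2 ∣ Nat.card G := ((pow_dvd_pow r hn2).trans (dvd_of_eq hn.symm)).trans
        ((Subgroup.card_subgroup_dvd_card _).trans F.card_quotient_dvd_card)
      have h4 := Q.card_eq_multiplicity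
      rw [show Nat.card (Q : Subgroup G) = r from hQcard Q] at h4
      have h5 := (hq.out.pow_dvd_iff_le_factorization Nat.card_pos.ne').mp h2
      have h6 : (Nat.card G).factorization r = 1 := (Nat.pow_eq_self_iff hq.out.one_lt).mp h4.symm
      omega
  refine ⟨C.index, ?_, ?_, hcomm⟩
  · haveI : IsCyclic R := isCyclic_of_prime_card hRcard
    have hdvd : C.index ∣ Nat.card (MulAut R) := by
      have hN : normalizer (R : Set (G ⧸ F)) = ⊤ := Subgroup.normalizer_eq_top_iff.mpr inferInstance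
      have h1 : C.relIndex (normalizer (R : Set (G ⧸ F))) ∣ Nat.card (MulAut R) := by
        rw [Subgroup.relIndex, ← Subgroup.normalizerMonoidHom_ker, Subgroup.index_ker]
        exact Subgroup.card_subgroup_dvd_card _
      rwa [hN, Subgroup.relIndex_top_right] at h1
    rwa [IsCyclic.card_mulAut, hRcard, Nat.totient_prime hq.out] at hdvd
  · rw [Subgroup.index_eq_card, ← C.card_mul_index, hCR, hRcard]

/-- A finite group whose set of element orders is exactly {1, 2, 3} has either a normal elementary abelian 3-subgroup of index 2 or a normal elementary abelian 2-subgroup of index 3. -/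
theorem result {G : Type*} [Group G] [Finite G] (h : Set.range (orderOf : G → ℕ) = {k : ℕ | 1 ≤ k ∧ k ≤ 3}) :
    (∃ N : Subgroup G, N.Normal ∧ Cfsg.IsElementaryAbelian 3 N ∧ N.index = 2) ∨
      (∃ N : Subgroup G, N.Normal ∧ Cfsg.IsElementaryAbelian 2 N ∧ N.index = 3) := by
  classical
  haveI h2 : Fact (Nat.Prime 2) := ⟨Nat.prime_two⟩
  haveI h3 : Fact (Nat.Prime 3) := ⟨Nat.prime_three⟩
  have hord : ∀ x : G, orderOf x = 1 ∨ orderOf x = 2 ∨ orderOf x = 3 := fun x => by
    have : orderOf x ∈ Set.range (orderOf : G → ℕ) := ⟨x, rfl⟩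
    rw [h] at this
    obtain ⟨h1, h2⟩ := this
    omega
  have hex : ∀ k : ℕ, 1 ≤ k → k ≤ 3 → ∃ x : G, orderOf x = k := fun k h1 h2 => by
    have : k ∈ {k : ℕ | 1 ≤ k ∧ k ≤ 3} := ⟨h1, h2⟩
    rwa [← h] at this
  haveI : Group.IsSolvable G := CfsgLib.Chars.isSolvable_of_primeFactors_pair 2 3 fun r hr hd => by
    haveI := Fact.mk hr
    obtain ⟨x, hx⟩ := exists_prime_orderOf_dvd_card' r hd
    rcases hord x with e | e | e <;> rw [hx] at e
    · exact absurd e hr.ne_one
    · exact Or.inl e
    · exact Or.inr e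
  haveI : Nontrivial G := by
    obtain ⟨x, hx⟩ := hex 2 (by norm_num) (by norm_num)
    exact ⟨x, 1, fun e => by rw [e, orderOf_one] at hx; norm_num at hx⟩
  obtain ⟨r, hr, hF⟩ := CfsgLib.Base.exists_prime_pCore_ne_bot (G := G)
  haveI := Fact.mk hr
  have hr23 : r = 2 ∨ r = 3 := by
    obtain ⟨n, hn⟩ := IsPGroup.iff_card.mp (CfsgLib.Base.isPGroup_pCore r G)
    have hn0 : n ≠ 0 := fun e => hF (Subgroup.eq_bot_of_card_eq _ (by rw [hn, e, pow_zero]))
    obtain ⟨x, hx⟩ := exists_prime_orderOf_dvd_card' r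
      (((dvd_pow_self r hn0).trans (dvd_of_eq hn.symm)).trans (Cfsg.pCore r G).card_subgroup_dvd_card)
    rcases hord x with e | e | e <;> rw [hx] at e
    · exact absurd e hr.ne_one
    · exact Or.inl e
    · exact Or.inr e
  rcases hr23 with rfl | rfl
  · right
    obtain ⟨hC, hexp, j, hj, hidx, hcomm⟩ := core_data (p := 2) (q := 3) (by norm_num) hord (hex 3 (by norm_num) le_rfl) hF
    have hinv : ∀ x ∈ Cfsg.pCore 2 G, x⁻¹ = x := fun x hx =>
      inv_eq_of_mul_eq_one_right ((pow_two x).symm.trans (hexp x hx))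
    refine ⟨_, inferInstance, ⟨⟨⟨fun a b => Subtype.ext ?_⟩⟩, hexp⟩, ?_⟩
    · change (a : G) * b = b * a
      rw [← hinv _ (mul_mem a.2 b.2), mul_inv_rev, hinv _ a.2, hinv _ b.2]
    · rcases (Nat.dvd_prime Nat.prime_two).mp hj with rfl | rfl
      · rw [hidx]
      exfalso
      -- an involution outside the core would centralize it
      obtain ⟨S⟩ : Nonempty (Sylow 2 G) := inferInstance
      have hlt : ∃ s ∈ (S : Subgroup G), s ∉ Cfsg.pCore 2 G := by
        by_contra hc
        push Not at hc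
        have hd := Subgroup.index_dvd_of_le (H := (S : Subgroup G)) (K := Cfsg.pCore 2 G) hc
        exact S.not_dvd_index ((show 2 ∣ (Cfsg.pCore 2 G).index by rw [hidx]; norm_num).trans hd)
      obtain ⟨s, hs, hsF⟩ := hlt
      have hSexp : ∀ x ∈ (S : Subgroup G), x ^ 2 = 1 := by
        intro x hx
        obtain ⟨k, hk⟩ := S.2 ⟨x, hx⟩
        have hd : orderOf x ∣ 2 ^ k := orderOf_dvd_of_pow_eq_one (congrArg Subtype.val hk)
        rcases hord x with e | e | e
        · rw [orderOf_eq_one_iff.mp e, one_pow]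
        · rw [← e, pow_orderOf_eq_one]
        · rw [e] at hd
          exact absurd (Nat.prime_three.dvd_of_dvd_pow hd) (by norm_num)
      refine hsF (hC (Subgroup.mem_centralizer_iff.mpr fun v hv => ?_))
      have hvS : v ∈ (S : Subgroup G) := CfsgLib.Base.pCore_le_sylow S hv
      have hi : ∀ x ∈ (S : Subgroup G), x⁻¹ = x := fun x hx =>
        inv_eq_of_mul_eq_one_right ((pow_two x).symm.trans (hSexp x hx))
      rw [← hi _ (mul_mem hvS hs), mul_inv_rev, hi _ hs, hi _ hvS]
  · left
    have hord' : ∀ x : G, orderOf x = 1 ∨ orderOf x = 3 ∨ orderOf x = 2 := fun x => (hord x).imp_right Or.symm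
    obtain ⟨hC, hexp, j, hj, hidx, hcomm⟩ := core_data (p := 3) (q := 2) (by norm_num) hord' (hex 2 (by norm_num) (by norm_num)) hF
    obtain ⟨t, ht⟩ := hex 2 (by norm_num) (by norm_num)
    have htt : t * t = 1 := by rw [← pow_two, ← ht, pow_orderOf_eq_one]
    set F := Cfsg.pCore 3 G with hFd
    have hfpf : CfsgLib.Base.IsFPF (Subgroup.zpowers t) F :=
      ⟨fun x _ => (Subgroup.normalizer_eq_top_iff.mpr (inferInstance : F.Normal)) ▸ Subgroup.mem_top x,
        fun a ha ha1 => (Subgroup.eq_bot_iff_forall _).mpr fun v hv => by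
          have : orderOf a = 2 := by
            have hd : orderOf a ∣ 2 := ht ▸ (Nat.card_zpowers t ▸ Subgroup.orderOf_dvd_natCard _ ha)
            exact ((Nat.dvd_prime Nat.prime_two).mp hd).resolve_left fun e => ha1 (orderOf_eq_one_iff.mp e)
          exact hcomm a this v hv.1 (Subgroup.mem_centralizer_singleton_iff.mp hv.2).symm⟩
    have ht1 : t ≠ 1 := fun e => by rw [e, orderOf_one] at ht; norm_num at ht
    refine ⟨F, inferInstance, ⟨⟨⟨fun a b => Subtype.ext ?_⟩⟩, hexp⟩, ?_⟩
    · change (a : G) * b = b * a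
      have h1 := hfpf.conj_eq_inv (Subgroup.mem_zpowers t) ht1 htt (mul_mem a.2 b.2)
      rw [← conj_mul, hfpf.conj_eq_inv (Subgroup.mem_zpowers t) ht1 htt a.2,
        hfpf.conj_eq_inv (Subgroup.mem_zpowers t) ht1 htt b.2, mul_inv_rev] at h1
      have h4 := congrArg (·⁻¹) h1
      simp only [mul_inv_rev, inv_inv] at h4
      exact h4.symm
    · rw [hidx, Nat.dvd_one.mp hj]

end Cfsg.Agent.S4005
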