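import Cfsg.Statements.S4009
import Cfsg.Agent.Lib.PGroups.DerivedBound

set_option autoImplicit false
open Cfsg

namespace Cfsg.Agent.S4009

/-- Let P be a finite p-group of order p^n whose derived length is exactly k + 1 (the k-th derived subgroup is nontrivial and the (k+1)-st is trivial). Then n ≥ 2^k + 2k − 2. -/
theorem result {P : Type*} [Group P] [Finite P] (p : ℕ) [Fact p.Prime] (n k : ℕ) (hcard : Nat.card P = p ^ n) (hk : derivedSeries P k ≠ ⊥) (hk' : derivedSeries P (k + 1) = ⊥) : 2 ^ k + 2 * k ≤ n + 2 := by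
  have hP : IsPGroup p P := IsPGroup.of_card hcard
  have hp := (Fact.out : p.Prime)
  rcases Nat.lt_or_ge k 2 with h | h
  · rcases Nat.eq_zero_or_pos k with rfl | hpos
    · norm_num
    · obtain rfl : k = 1 := by omega
      have h1 := (CfsgLib.PGroups.DerivedBound.bound hP 1 0 1 le_rfl le_top (by rwa [zero_add])).1 rfl
      have h2 := h1.trans (Subgroup.card_le_card_group _)
      rw [hcard, Nat.pow_le_pow_iff_right hp.one_lt] at h2
      omega
  · obtain ⟨e, he, hce⟩ :=
      (CfsgLib.PGroups.DerivedBound.bound hP k 0 1 le_rfl le_top (by rwa [zero_add])).2 h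
    have h2 := hce.trans (Subgroup.card_le_card_group _)
    rw [hcard, Nat.pow_le_pow_iff_right hp.one_lt] at h2
    omega

end Cfsg.Agent.S4009
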