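import Cfsg.Statements.S4013

set_option autoImplicit false
open Cfsg

namespace Cfsg.Agent.S4013

/-- Let G be a finite p-group (p prime) and N < M normal subgroups of G such that for some g ∈ M ∖ N the conjugacy class of g is exactly M ∖ N. Then p = 2 and N has index 2 in M. -/
theorem result {G : Type*} [Group G] [Finite G] (p : ℕ) [Fact p.Prime] (hG : IsPGroup p G) (N M : Subgroup G) [N.Normal] [M.Normal] (hNM : N < M) (g : G) (hgM : g ∈ M) (hgN : g ∉ N) (hcl : {h : G | IsConj g h} = (M : Set G) \ (N : Set G)) : p = 2 ∧ N.relIndex M = 2 := by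
  classical
  have hset : Nat.card {h : G // IsConj g h} + Nat.card N = Nat.card M := by
    have h1 : ((M : Set G) \ (N : Set G)).ncard + (N : Set G).ncard = (M : Set G).ncard :=
      Set.ncard_sdiff_add_ncard_of_subset (fun x hx => hNM.le hx) (Set.toFinite _)
    have h2 : ({h : G | IsConj g h}).ncard + (N : Set G).ncard = (M : Set G).ncard := by rw [hcl]; exact h1
    rw [← Nat.card_coe_set_eq, ← Nat.card_coe_set_eq, ← Nat.card_coe_set_eq] at h2
    exact h2
  obtain ⟨i, hi⟩ : ∃ i, Nat.card {h : G // IsConj g h} = p ^ i := by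
    have h := hG.of_equiv ConjAct.toConjAct |>.card_orbit g
    obtain ⟨i, hi⟩ := h
    refine ⟨i, ?_⟩
    rw [← hi]
    refine Nat.card_congr (Equiv.subtypeEquivRight fun h => ?_)
    rw [ConjAct.mem_orbit_conjAct]
    exact isConj_comm
  have hrel : Nat.card N * N.relIndex M = Nat.card M := by
    rw [← Subgroup.relIndex_bot_left N, ← Subgroup.relIndex_bot_left M]
    exact Subgroup.relIndex_mul_relIndex _ _ _ bot_le hNM.le
  obtain ⟨k, hk⟩ := (hG.to_subgroup M).exists_card_eq
  obtain ⟨j, hj⟩ := (hG.to_subgroup N).exists_card_eq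
  have hp : p.Prime := Fact.out
  obtain ⟨r, _, hr⟩ := (Nat.dvd_prime_pow hp).mp (hk ▸ Dvd.intro_left _ hrel : N.relIndex M ∣ p ^ k)
  have hne : N.relIndex M ≠ 1 := fun h => absurd (Subgroup.relIndex_eq_one.mp h) hNM.not_ge
  have hr1 : 1 ≤ r := by
    by_contra h; apply hne; rw [hr, show r = 0 by omega, pow_zero]
  rw [hi, ← hrel, hr, hj] at hset
  -- p ^ i = p ^ j * (p ^ r - 1)
  have hlt : j ≤ i := by
    by_contra h
    have h' : i < j := lt_of_not_ge h
    have e1 : 1 < p ^ r := Nat.one_lt_pow (by omega) hp.one_lt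
    have e2 : p ^ i < p ^ j := Nat.pow_lt_pow_right hp.one_lt h'
    have e3 : p ^ j * 2 ≤ p ^ j * p ^ r := Nat.mul_le_mul_left _ e1
    omega
  obtain ⟨e, rfl⟩ := Nat.exists_eq_add_of_le hlt
  have h3 : p ^ e + 1 = p ^ r := by
    have : p ^ j * (p ^ e + 1) = p ^ j * p ^ r := by rw [← hset, pow_add]; ring
    exact Nat.eq_of_mul_eq_mul_left (Nat.pos_of_ne_zero (pow_ne_zero j hp.ne_zero)) this
  have he : e = 0 := by
    by_contra he
    have d1 : p ∣ p ^ e := dvd_pow_self p he
    have d2 : p ∣ p ^ e + 1 := h3 ▸ dvd_pow_self p (by omega)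
    exact hp.not_dvd_one ((Nat.dvd_add_right d1).mp d2)
  subst he
  simp only [pow_zero] at h3
  have hp2 : p = 2 := by
    have : p ∣ 2 := by rw [show (2:ℕ) = p ^ r from h3]; exact dvd_pow_self p (by omega)
    exact (Nat.prime_dvd_prime_iff_eq hp Nat.prime_two).mp this
  refine ⟨hp2, ?_⟩
  rw [hr, ← h3]

end Cfsg.Agent.S4013
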