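import Cfsg.Statements.S4015
import Cfsg.Agent.Lib.FgsB.LinearSylowLength
-- import your own Cfsg.Agent.* helpers here

set_option autoImplicit false
open Cfsg

namespace Cfsg.Agent.S4015

/-- Let p be an odd prime, F a finite field with q elements where p does not divide q, and e the multiplicative order of q modulo p. Let n ≥ e and write w = ⌊n/e⌋ and k = ⌊log_p w⌋. Then a Sylow p-subgroup of GL(n, F) has derived length exactly k + 1: its (k+1)-st derived subgroup is trivial and its k-th is not. -/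
theorem result (p : ℕ) [Fact p.Prime] (hp : p ≠ 2) (F : Type*) [Field F] [Fintype F] (q : ℕ) (hq : Fintype.card F = q) (hpq : ¬ p ∣ q) (n : ℕ) (hn : orderOf (q : ZMod p) ≤ n) (P : Sylow p (Matrix.GeneralLinearGroup (Fin n) F)) : derivedSeries ↥(P : Subgroup (Matrix.GeneralLinearGroup (Fin n) F)) (Nat.log p (n / orderOf (q : ZMod p)) + 1) = ⊥ ∧ derivedSeries ↥(P : Subgroup (Matrix.GeneralLinearGroup (Fin n) F)) (Nat.log p (n / orderOf (q : ZMod p))) ≠ ⊥ := by
  have hq' : Nat.card F = q := by rw [Nat.card_eq_fintype_card, hq]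
  constructor
  · have h := CfsgLib.FgsB.LinearSylowLength.derivedSeries_le (p := p) (by rwa [hq'])
      (P : Subgroup (Matrix.GeneralLinearGroup (Fin n) F)) P.isPGroup'
    rwa [hq'] at h
  · refine CfsgLib.FgsB.LinearSylowLength.derivedSeries_sylow_ne_bot (by rwa [hq']) ?_ P
    rw [hq']
    have hne : (q : ZMod p) ≠ 0 := fun h => hpq ((ZMod.natCast_eq_zero_iff _ _).1 h)
    have hu : IsOfFinOrder (q : ZMod p) := isOfFinOrder_iff_pow_eq_one.2
      ⟨p - 1, by have := (Fact.out : p.Prime).two_le; omega, ZMod.pow_card_sub_one_eq_one hne⟩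
    calc orderOf (q : ZMod p) * p ^ Nat.log p (n / orderOf (q : ZMod p))
        ≤ orderOf (q : ZMod p) * (n / orderOf (q : ZMod p)) :=
          Nat.mul_le_mul_left _ (Nat.pow_log_le_self p (Nat.pos_iff_ne_zero.1 (Nat.div_pos hn hu.orderOf_pos)))
      _ ≤ n := Nat.mul_div_le n _

end Cfsg.Agent.S4015
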