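import Cfsg.Statements.S4017
import Cfsg.Agent.Lib.FgsC.MixedMain

set_option autoImplicit false
open Cfsg

set_option linter.style.haveILetI false

namespace Cfsg.Agent.S4017

/-- Let G be a finite group and let p and q be distinct primes dividing the order of G, with p odd. Suppose that p divides the order of every proper subgroup of G that is neither a q-group nor of order prime to q. Let q^a be the q-part of the order of G. If p > q^a − 1, or if p = q^a − 1 and the Sylow p-subgroups of G are abelian, then p and q are the only primes dividing the order of G. -/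
theorem result {G : Type*} [Group G] [Finite G]
    {p q : ℕ} (hp : p.Prime) (hq : q.Prime) (hpq : p ≠ q) (hp2 : p ≠ 2)
    (hpG : p ∣ Nat.card G) (hqG : q ∣ Nat.card G)
    (hmix : ∀ H : Subgroup G, H ≠ ⊤ → ¬ IsPGroup q H → q ∣ Nat.card H → p ∣ Nat.card H)
    (hlarge : q ^ (Nat.card G).factorization q - 1 < p ∨
      (p = q ^ (Nat.card G).factorization q - 1 ∧ ∀ P : Sylow p G, IsMulCommutative P)) :
    ∀ r : ℕ, r.Prime → r ∣ Nat.card G → r = p ∨ r = q := by
  have hN : CfsgLib.MixedPrimes.NoMixed G q p := by
    intro H hqH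
    rcases eq_or_ne H ⊤ with rfl | htop
    · left; rwa [Subgroup.card_top]
    by_cases hP : IsPGroup q H
    · right
      intro r hr hrH
      haveI := Fact.mk hq
      obtain ⟨n, hn⟩ := hP.exists_card_eq
      exact (Nat.prime_dvd_prime_iff_eq hr hq).1 (hr.dvd_of_dvd_pow (hn ▸ hrH))
    · exact Or.inl (hmix H htop hP hqH)
  refine CfsgLib.MixedPrimes.two_primes hp hq hpq hp2 hqG hN ?_
  rcases hlarge with h | ⟨h, hab⟩
  · exact Or.inl h
  · exact Or.inr ⟨h, fun P x hx z hz =>
      congrArg Subtype.val ((hab P).1.comm ⟨x, hx⟩ ⟨z, hz⟩)⟩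

end Cfsg.Agent.S4017
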