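import Cfsg.Statements.S4018
import Cfsg.Agent.Lib.CharApps.DihedralCentralizerCount
import Cfsg.Agent.Lib.Involutions.KleinSylow

/-!
Abelian Sylow `3`-subgroup `P` with `|N(P)| = 4|P|`, `|C(P)| = 2|P|` and small even proper
subgroups: the centralizer of an involution is generalized dihedral and an exceptional character
computation rules out simplicity.
-/

set_option autoImplicit false
open Cfsg

namespace Cfsg.Agent.S4018

open CfsgLib.CharApps.DihedralCount

theorem hom_eq_one {G : Type*} [Group G] [IsSimpleGroup G] (hna : ¬ IsMulCommutative G)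
    {A : Type*} [CommGroup A] (f : G →* A) : f = 1 := by
  rcases IsSimpleGroup.eq_bot_or_eq_top_of_normal f.ker inferInstance with h | h
  · exact absurd ⟨⟨fun a b => (MonoidHom.ker_eq_bot_iff f).1 h
      (by rw [map_mul, map_mul, mul_comm])⟩⟩ hna
  · exact MonoidHom.ext fun g => MonoidHom.mem_ker.1 (h ▸ Subgroup.mem_top g)

/-- Let G be a finite group with an abelian Sylow 3-subgroup P such that the normalizer of P has order 4·#P, the centralizer C of P has order 2·#P, C meets each of its conjugates by elements outside its normalizer trivially, and every proper subgroup of G of even order has order dividing 4·#P. Then G is not simple. -/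
theorem result {G : Type*} [Group G] [Finite G]
    (P : Sylow 3 G) (hab : IsMulCommutative P)
    (hN : Nat.card (Subgroup.normalizer ((P : Subgroup G) : Set G)) = 4 * Nat.card P)
    (hC : Nat.card (Subgroup.centralizer (P : Set G)) = 2 * Nat.card P)
    (hTI : Cfsg.IsTISubset (Subgroup.centralizer (P : Set G) : Set G))
    (heven : ∀ H : Subgroup G, H ≠ ⊤ → 2 ∣ Nat.card H → Nat.card H ∣ 4 * Nat.card P) :
    ¬ IsSimpleGroup G := by
  classical
  intro hsimple
  haveI := Fintype.ofFinite G
  haveI := Fact.mk (show Nat.Prime 3 by norm_num)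
  haveI := Fact.mk Nat.prime_two
  set C : Subgroup G := Subgroup.centralizer (P : Set G) with hCdef
  set N : Subgroup G := Subgroup.normalizer ((P : Subgroup G) : Set G) with hNdef
  set m : ℕ := Nat.card P with hmdef
  haveI := hab
  obtain ⟨a, ha⟩ : ∃ a, m = 3 ^ a := (P.isPGroup').exists_card_eq
  have hmpos : 0 < m := Nat.card_pos
  have hmodd : Odd m := by rw [ha]; exact (show Odd 3 by decide).pow
  have hCN : C ≤ N := Subgroup.centralizer_le_normalizer (P : Set G)
  have hna : ¬ IsMulCommutative G := by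
    intro h
    have : C = ⊤ := top_le_iff.1 fun g _ =>
      Subgroup.mem_centralizer_iff.2 fun x _ => mul_comm' x g
    have h2 := Subgroup.card_le_of_le (show N ≤ C by rw [this]; exact le_top)
    rw [hN, hC] at h2
    omega
  have hcenter : Subgroup.center G = ⊥ := by
    rcases IsSimpleGroup.eq_bot_or_eq_top_of_normal (Subgroup.center G) inferInstance with h | h
    · exact h
    · exact absurd ⟨⟨fun a b => (Subgroup.mem_center_iff.1 (h ▸ Subgroup.mem_top b) a)⟩⟩ hna
  -- a cyclic group is not simple non-abelian, hence small subgroups are proper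
  have hpow3 : 3 ≤ m := by
    rcases Nat.eq_zero_or_pos a with h | h
    · exfalso
      rw [h, pow_zero] at ha
      have hP : (P : Subgroup G) = ⊥ := Subgroup.card_eq_one.1 ha
      have hNtop : N = ⊤ := top_le_iff.1 fun g _ => by
        rw [hNdef, hP, Subgroup.mem_normalizer_iff]; simp
      have hG : Nat.card G = 4 := by
        rw [← Subgroup.card_top (G := G), ← hNtop, hN, ha, mul_one]
      exact hna (IsPGroup.isMulCommutative_of_card_eq_prime_sq (p := 2) (by rw [hG]; norm_num))
    · rw [ha]; exact le_self_pow (by norm_num) h.ne'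
  have hPC : (P : Subgroup G) ≤ C := fun x hx =>
    Subgroup.mem_centralizer_iff.2 fun y hy =>
      congrArg Subtype.val (mul_comm' (⟨y, hy⟩ : (P : Subgroup G)) ⟨x, hx⟩)
  obtain ⟨z', hz'⟩ := exists_prime_orderOf_dvd_card' (G := C) 2 (by rw [hC]; exact dvd_mul_right 2 m)
  set z : G := (z' : G) with hzdef
  have hzord : orderOf z = 2 := by rw [hzdef, ← hz']; exact Subgroup.orderOf_coe z'
  have hzC : z ∈ C := z'.2
  have hzz : z * z = 1 := (invol_iff.1 hzord).1
  have hzP : z ∉ (P : Subgroup G) := fun h => by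
    have h2 : 2 ∣ m := by rw [← hzord]; exact Subgroup.orderOf_dvd_natCard _ h
    exact Nat.not_even_iff_odd.2 hmodd (even_iff_two_dvd.2 h2)
  have hzc : ∀ x ∈ (P : Subgroup G), z * x = x * z := fun x hx =>
    (Subgroup.mem_centralizer_iff.1 hzC x hx).symm
  have hCform : ∀ c ∈ C, c ∈ (P : Subgroup G) ∨ z * c ∈ (P : Subgroup G) := by
    intro c hc
    by_contra hcon
    push Not at hcon
    have hidx : ((P : Subgroup G).subgroupOf C).index = 2 := by
      have := Subgroup.card_mul_index ((P : Subgroup G).subgroupOf C)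
      rw [Nat.card_congr (Subgroup.subgroupOfEquivOfLe hPC).toEquiv, hC, ← hmdef] at this
      exact mul_left_cancel₀ hmpos.ne' (this.trans (mul_comm _ _))
    have := (Subgroup.mul_mem_iff_of_index_two hidx (a := ⟨z, hzC⟩) (b := ⟨c, hc⟩))
    simp only [Subgroup.mem_subgroupOf, Subgroup.coe_mul] at this
    exact hcon.2 (this.2 ⟨fun h => absurd h hzP, fun h => absurd h hcon.1⟩)
  have hcomm : ∀ a ∈ C, ∀ b ∈ C, a * b = b * a := by
    intro a ha b hb
    rcases hCform b hb with h | h
    · exact (Subgroup.mem_centralizer_iff.1 ha b h).symm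
    · have hb' : b = z * (z * b) := by rw [← mul_assoc, hzz, one_mul]
      have h1 : a * (z * b) = z * b * a := (Subgroup.mem_centralizer_iff.1 ha _ h).symm
      rcases hCform a ha with h' | h'
      · exact Subgroup.mem_centralizer_iff.1 hb a h'
      · have h2 : z * a * z = z * (z * a) := by
          have := hzc _ h'
          rw [this]
        have hza : a * z = z * a := by
          have h3 : z * (a * z) = z * (z * a) := by rw [← mul_assoc]; exact h2
          exact mul_left_cancel h3
        rw [hb', ← mul_assoc a z, hza, mul_assoc, h1, ← mul_assoc]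
  have hzuniq : ∀ c ∈ C, orderOf c = 2 → c = z := by
    intro c hc hc2
    rcases hCform c hc with h | h
    · exfalso
      have h2 : 2 ∣ m := by rw [← hc2]; exact Subgroup.orderOf_dvd_natCard _ h
      exact Nat.not_even_iff_odd.2 hmodd (even_iff_two_dvd.2 h2)
    · by_contra hne
      have hne1 : z * c ≠ 1 := fun h1 => hne (by
        rw [← inv_eq_of_mul_eq_one_right h1, inv_eq_of_mul_eq_one_right hzz])
      have h2 : orderOf (z * c) = 2 := invol_iff.2 ⟨by
        rw [mul_assoc, ← mul_assoc c z, hcomm c hc z hzC, mul_assoc z c c, (invol_iff.1 hc2).1,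
          mul_one, hzz], hne1⟩
      have h3 : 2 ∣ m := by rw [← h2]; exact Subgroup.orderOf_dvd_natCard _ h
      exact Nat.not_even_iff_odd.2 hmodd (even_iff_two_dvd.2 h3)
  have hnormal : ∀ n ∈ N, ∀ c ∈ C, n * c * n⁻¹ ∈ C := by
    intro n hn c hc
    refine Subgroup.mem_centralizer_iff.2 fun x hx => ?_
    have hx' : n⁻¹ * x * n ∈ (P : Subgroup G) := by
      simpa using (Subgroup.mem_normalizer_iff.1 (N.inv_mem hn) x).1 hx
    have := Subgroup.mem_centralizer_iff.1 hc _ hx'
    calc x * (n * c * n⁻¹) = n * ((n⁻¹ * x * n) * c) * n⁻¹ := by group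
      _ = n * (c * (n⁻¹ * x * n)) * n⁻¹ := by rw [this]
      _ = n * c * n⁻¹ * x := by group
  have hzN : z ∈ N := hCN hzC
  have hcent : Subgroup.centralizer ({z} : Set G) = N := by
    have hle : N ≤ Subgroup.centralizer ({z} : Set G) := fun n hn => by
      rw [Subgroup.mem_centralizer_singleton_iff]
      have := hzuniq _ (hnormal n hn z hzC)
        (by rw [← MulAut.conj_apply, MulEquiv.orderOf_eq]; exact hzord)
      exact mul_inv_eq_iff_eq_mul.1 this
    have hne : Subgroup.centralizer ({z} : Set G) ≠ ⊤ := fun h => by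
      have hz0 : z ∈ Subgroup.center G := Subgroup.mem_center_iff.2 fun g => by
        have hg : g ∈ Subgroup.centralizer ({z} : Set G) := h ▸ Subgroup.mem_top g
        exact (Subgroup.mem_centralizer_singleton_iff.1 hg)
      rw [hcenter, Subgroup.mem_bot] at hz0
      exact (invol_iff.1 hzord).2 hz0
    have hd := heven _ hne (by
      rw [← hzord]; exact Subgroup.orderOf_dvd_natCard _ (Subgroup.mem_centralizer_singleton_iff.2 rfl))
    exact (Subgroup.eq_of_le_of_card_ge hle (by
      rw [hN]; exact Nat.le_of_dvd (by omega) hd)).symm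
  -- a Sylow 2-subgroup inside `N`
  have htwo : ∀ H : Subgroup G, IsPGroup 2 H → Nat.card H ∣ 4 := by
    intro H hH
    obtain ⟨k, hk⟩ := hH.exists_card_eq
    rcases Nat.eq_zero_or_pos k with h0 | h0
    · rw [hk, h0]; norm_num
    by_cases htop : H = ⊤
    · exfalso
      have h3 : m ∣ 2 ^ k := by
        rw [← hk, htop, Subgroup.card_top]; exact Subgroup.card_subgroup_dvd_card _
      have : Nat.Coprime m (2 ^ k) := (Nat.coprime_two_right.2 hmodd).pow_right k
      have := Nat.eq_one_of_dvd_coprimes this dvd_rfl h3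
      omega
    · have h2 := heven H htop (hk ▸ dvd_pow_self 2 h0.ne')
      rw [hk] at h2 ⊢
      exact ((Nat.coprime_two_left.2 hmodd).pow_left k).dvd_of_dvd_mul_right h2
  obtain ⟨S, hzS⟩ : ∃ S : Sylow 2 N, (⟨z, hzN⟩ : N) ∈ S := by
    have hp : IsPGroup 2 (Subgroup.zpowers (⟨z, hzN⟩ : N)) := IsPGroup.of_card (n := 1) (by
      rw [Nat.card_zpowers, pow_one, ← Subgroup.orderOf_coe]; exact hzord)
    obtain ⟨S, hS⟩ := hp.exists_le_sylow
    exact ⟨S, hS (Subgroup.mem_zpowers _)⟩
  set V₀ : Subgroup G := (S : Subgroup N).map N.subtype with hV₀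
  have hV₀card : Nat.card V₀ = 4 := by
    rw [hV₀, Subgroup.card_map_of_injective N.subtype_injective, S.card_eq_multiplicity, hN,
      Nat.factorization_mul (by norm_num) hmpos.ne', Finsupp.add_apply,
      Nat.factorization_eq_zero_of_not_dvd (fun h => Nat.not_even_iff_odd.2 hmodd
        (even_iff_two_dvd.2 h)), show (4 : ℕ) = 2 ^ 2 from rfl, Nat.Prime.factorization_pow
        Nat.prime_two, Finsupp.single_eq_same]
  have hV₀p : IsPGroup 2 V₀ := IsPGroup.of_card (n := 2) hV₀card
  obtain ⟨V, hV⟩ := hV₀p.exists_le_sylow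
  have hVeq : (V : Subgroup G) = V₀ := (Subgroup.eq_of_le_of_card_ge hV (by
    rw [hV₀card]; exact Nat.le_of_dvd (by norm_num) (htwo _ V.isPGroup'))).symm
  have hVcard : Nat.card (V : Subgroup G) = 4 := by rw [hVeq, hV₀card]
  have hVN : (V : Subgroup G) ≤ N := by rw [hVeq, hV₀]; exact Subgroup.map_subtype_le _
  have hzV : z ∈ (V : Subgroup G) := by rw [hVeq]; exact ⟨⟨z, hzN⟩, hzS, rfl⟩
  haveI hklein : IsKleinFour (V : Subgroup G) := by
    refine ⟨hVcard, ?_⟩
    by_contra hexp
    haveI hcyc : IsCyclic (V : Subgroup G) := by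
      by_contra hnc
      exact hexp ((not_isCyclic_iff_exponent_eq_prime Nat.prime_two (by rw [hVcard]; norm_num)).1 hnc)
    have hmin : (Nat.card G).minFac = 2 := by
      refine (Nat.minFac_eq_two_iff _).2 ?_
      rw [← hzord]; exact orderOf_dvd_natCard z
    have hcompl := IsCyclic.isComplement' (P := V) hmin hcyc
    have hidx := hcompl.symm.index_eq_card
    rw [hVcard] at hidx
    rcases IsSimpleGroup.eq_bot_or_eq_top_of_normal
      (MonoidHom.transferSylow V (IsCyclic.normalizer_le_centralizer hmin hcyc)).ker inferInstance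
      with h | h
    · rw [h, Subgroup.index_bot] at hidx
      have hd : m ∣ 4 := hidx ▸ Subgroup.card_subgroup_dvd_card _
      have h4 : Nat.Coprime m 4 := (Nat.coprime_two_right.2 hmodd).pow_right 2
      have := Nat.eq_one_of_dvd_coprimes h4 dvd_rfl hd
      omega
    · rw [h, Subgroup.index_top] at hidx; omega
  have hVall : ∀ v ∈ (V : Subgroup G), v ≠ 1 → IsConj z v := by
    intro v hv hv1
    rcases CfsgLib.Involutions.klein_fusion_dichotomy V hklein with h | h
    · exfalso
      have hcen : Subgroup.normalizer ((V : Subgroup G) : Set G) ≤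
          Subgroup.centralizer ((V : Subgroup G) : Set G) := by
        intro n hn
        refine Subgroup.mem_centralizer_iff.2 fun x hx => ?_
        have := h x hx (n * x * n⁻¹) ((Subgroup.mem_normalizer_iff.1 hn x).1 hx)
          (isConj_iff.2 ⟨n, rfl⟩)
        exact (eq_mul_inv_iff_mul_eq.1 this)
      have hidx := (MonoidHom.ker_transferSylow_isComplement' V hcen).symm.index_eq_card
      rw [hVcard] at hidx
      rcases IsSimpleGroup.eq_bot_or_eq_top_of_normal (MonoidHom.transferSylow V hcen).ker
        inferInstance with h' | h'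
      · rw [h', Subgroup.index_bot] at hidx
        have hd : m ∣ 4 := hidx ▸ Subgroup.card_subgroup_dvd_card _
        have h4 : Nat.Coprime m 4 := (Nat.coprime_two_right.2 hmodd).pow_right 2
        have := Nat.eq_one_of_dvd_coprimes h4 dvd_rfl hd
        omega
      · rw [h', Subgroup.index_top] at hidx; omega
    · exact h z hzV v hv (invol_iff.1 hzord).2 hv1
  have hfused : ∀ u : G, orderOf u = 2 → IsConj z u := by
    intro u hu
    have hp : IsPGroup 2 (Subgroup.zpowers u) :=
      IsPGroup.of_card (n := 1) (by rw [Nat.card_zpowers, pow_one, hu])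
    obtain ⟨W, hW⟩ := hp.exists_le_sylow
    obtain ⟨g, hg⟩ := MulAction.exists_smul_eq G W V
    have hgu : g * u * g⁻¹ ∈ (V : Subgroup G) := by
      rw [← hg, Sylow.coe_subgroup_smul]
      exact Subgroup.smul_mem_pointwise_smul u (MulAut.conj g) _ (hW (Subgroup.mem_zpowers u))
    exact (hVall _ hgu fun h => (invol_iff.1 hu).2 (conj_eq_one_iff.1 h)).trans
      (isConj_iff.2 ⟨g⁻¹, by group⟩)
  obtain ⟨t, htV, htC⟩ : ∃ t ∈ (V : Subgroup G), t ∉ C := by
    by_contra hc
    push Not at hc
    have hd : 4 ∣ 2 * m := by rw [← hC, ← hVcard]; exact Subgroup.card_dvd_of_le hc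
    rcases hmodd with ⟨k, hk⟩
    omega
  have htN : t ∈ N := hVN htV
  have htord : orderOf t = 2 :=
    CfsgLib.Involutions.orderOf_eq_two_of_mem hklein htV fun h => htC (h ▸ C.one_mem)
  have htt : t * t = 1 := (invol_iff.1 htord).1
  have htinv : t⁻¹ = t := inv_eq_of_mul_eq_one_right htt
  have hCidx : (C.subgroupOf N).index = 2 := by
    have := Subgroup.card_mul_index (C.subgroupOf N)
    rw [Nat.card_congr (Subgroup.subgroupOfEquivOfLe hCN).toEquiv, hC, hN] at this
    exact mul_left_cancel₀ (show 2 * m ≠ 0 by omega) (this.trans (by ring))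
  have houterform : ∀ n ∈ N, n ∉ C → t * n ∈ C := by
    intro n hn hnC
    have := (Subgroup.mul_mem_iff_of_index_two hCidx (a := ⟨t, htN⟩) (b := ⟨n, hn⟩))
    simp only [Subgroup.mem_subgroupOf, Subgroup.coe_mul] at this
    exact this.2 ⟨fun h => absurd h htC, fun h => absurd h hnC⟩
  -- no nontrivial element of `P` is central in `N`
  have hnofix : ∀ c ∈ (P : Subgroup G), t * c * t⁻¹ = c → c = 1 := by
    intro c hc hfix
    have hcN : ∀ n ∈ N, n⁻¹ * c * n = c := by
      intro n hn
      suffices n * c = c * n by rw [mul_assoc, ← this, inv_mul_cancel_left]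
      by_cases hnC : n ∈ C
      · exact (Subgroup.mem_centralizer_iff.1 hnC c hc).symm
      · have h1 := houterform n hn hnC
        have h2 : t * n * c = c * (t * n) := (Subgroup.mem_centralizer_iff.1 h1 c hc).symm
        have h3 : t * c = c * t := mul_inv_eq_iff_eq_mul.1 hfix
        apply mul_left_cancel (a := t)
        rw [← mul_assoc, h2, ← mul_assoc, ← mul_assoc, h3]
    have key : ∀ (k : ℕ) (g₀ : G), g₀⁻¹ * c ^ k * g₀ ∈ (P : Subgroup G) →
        g₀⁻¹ * c ^ k * g₀ = c ^ k := by
      intro k g₀ hk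
      obtain ⟨n, hn, hh⟩ := P.conj_eq_normalizer_conj_of_mem (c ^ k) g₀
        ((P : Subgroup G).pow_mem hc k) hk
      rw [hh]
      have := hcN n hn
      calc n⁻¹ * c ^ k * n = (n⁻¹ * c * n) ^ k := by
            conv_rhs => rw [show n⁻¹ * c * n = n⁻¹ * c * n⁻¹⁻¹ by rw [inv_inv], conj_pow, inv_inv]
        _ = c ^ k := by rw [this]
    open scoped IsMulCommutative in
    have hτ := MonoidHom.transfer_eq_pow (MonoidHom.id (P : Subgroup G)) c key
    open scoped IsMulCommutative in
    rw [hom_eq_one hna (MonoidHom.transfer (MonoidHom.id (P : Subgroup G)))] at hτ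
    have h1 : c ^ (P : Subgroup G).index = 1 := by simpa using (congrArg Subtype.val hτ).symm
    have h2 : c ^ m = 1 := orderOf_dvd_iff_pow_eq_one.1 (Subgroup.orderOf_dvd_natCard _ hc)
    have h3 : Nat.Coprime (P : Subgroup G).index m := by
      rw [ha]
      exact ((Nat.Prime.coprime_iff_not_dvd (by norm_num)).2 P.not_dvd_index).symm.pow_right a
    simpa [h3.gcd_eq_one] using pow_gcd_eq_one.2 ⟨h1, h2⟩
  have hinvP : ∀ c ∈ (P : Subgroup G), t * c * t⁻¹ = c⁻¹ := by
    intro c hc
    have hc' : t * c * t⁻¹ ∈ (P : Subgroup G) := (Subgroup.mem_normalizer_iff.1 htN c).1 hc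
    have h1 := hnofix (c * (t * c * t⁻¹)) ((P : Subgroup G).mul_mem hc hc') (by
      have hab' : (t * c * t⁻¹) * c = c * (t * c * t⁻¹) :=
        congrArg Subtype.val (mul_comm' (⟨_, hc'⟩ : (P : Subgroup G)) ⟨c, hc⟩)
      calc t * (c * (t * c * t⁻¹)) * t⁻¹ = (t * c * t⁻¹) * ((t * t) * c * (t * t)⁻¹) := by group
        _ = _ := by rw [htt, inv_one, mul_one, one_mul, hab'])
    exact (inv_eq_of_mul_eq_one_right h1).symm
  have houter : ∀ n ∈ N, n ∉ C → orderOf n = 2 := by
    intro n hn hnC
    have hd := houterform n hn hnC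
    have hn' : n = t * (t * n) := by rw [← mul_assoc, htt, one_mul]
    refine invol_iff.2 ⟨?_, fun h => hnC (h ▸ C.one_mem)⟩
    have key : t * (t * n) * t⁻¹ * (t * n) = 1 := by
      rcases hCform _ hd with h | h
      · rw [hinvP _ h, inv_mul_cancel]
      · set e := z * (t * n) with he
        have hz' : t * n = z * e := by rw [he, ← mul_assoc z z, hzz, one_mul]
        have htz : t * z = z * t := Subgroup.mem_centralizer_singleton_iff.1 (hcent.symm ▸ htN)
        have hze : z * e = e * z := hzc e h
        rw [hz']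
        calc t * (z * e) * t⁻¹ * (z * e) = (t * z) * e * t⁻¹ * (z * e) := by group
          _ = z * (t * e * t⁻¹) * (z * e) := by rw [htz]; group
          _ = z * (e⁻¹ * e) * z := by rw [hinvP e h, hze]; group
          _ = 1 := by rw [inv_mul_cancel, mul_one, hzz]
    calc n * n = t * (t * n) * t * (t * n) := by
          conv_lhs => rw [hn']
          group
      _ = t * (t * n) * t⁻¹ * (t * n) := by rw [htinv]
      _ = 1 := key
  have hcentP : ∀ c ∈ (P : Subgroup G), c ≠ 1 → Subgroup.centralizer ({c} : Set G) = C := by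
    intro c hc hc1
    have hle : C ≤ Subgroup.centralizer ({c} : Set G) := fun x hx =>
      Subgroup.mem_centralizer_singleton_iff.2 (Subgroup.mem_centralizer_iff.1 hx c hc).symm
    have hne : Subgroup.centralizer ({c} : Set G) ≠ ⊤ := fun h => by
      have hz0 : c ∈ Subgroup.center G := Subgroup.mem_center_iff.2 fun g => by
        have hg : g ∈ Subgroup.centralizer ({c} : Set G) := h ▸ Subgroup.mem_top g
        exact (Subgroup.mem_centralizer_singleton_iff.1 hg)
      rw [hcenter, Subgroup.mem_bot] at hz0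
      exact hc1 hz0
    obtain ⟨k, hk⟩ := Subgroup.card_dvd_of_le hle
    have h2 := heven _ hne ((hC ▸ dvd_mul_right 2 m : 2 ∣ Nat.card C).trans (Subgroup.card_dvd_of_le hle))
    rw [hk, hC] at h2
    have hkd : k ∣ 2 := Nat.dvd_of_mul_dvd_mul_left (show 0 < 2 * m by omega)
      (h2.trans (by rw [show 2 * m * 2 = 4 * m by ring]))
    rcases (Nat.dvd_prime Nat.prime_two).1 hkd with rfl | rfl
    · exact (Subgroup.eq_of_le_of_card_ge hle (by rw [hk, mul_one])).symm
    · exfalso
      have hidx : (C.subgroupOf (Subgroup.centralizer ({c} : Set G))).index = 2 := by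
        have := Subgroup.card_mul_index (C.subgroupOf (Subgroup.centralizer ({c} : Set G)))
        rw [Nat.card_congr (Subgroup.subgroupOfEquivOfLe hle).toEquiv, hk] at this
        exact mul_left_cancel₀ Nat.card_pos.ne' this
      haveI := Subgroup.normal_of_index_eq_two hidx
      have hsub : Subgroup.centralizer ({c} : Set G) ≤ N := by
        intro x hx
        refine Subgroup.mem_normalizer_fintype fun y hy => ?_
        have hxy : x * y * x⁻¹ ∈ C := by
          have := this.conj_mem ⟨y, hle (hPC hy)⟩ (Subgroup.mem_subgroupOf.2 (hPC hy)) ⟨x, hx⟩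
          simpa [Subgroup.mem_subgroupOf] using this
        rcases hCform _ hxy with h | h
        · exact h
        · exfalso
          have hzodd : orderOf (x * y * x⁻¹) ∣ m := by
            rw [← MulAut.conj_apply, MulEquiv.orderOf_eq]
            exact Subgroup.orderOf_dvd_natCard _ hy
          have hpowz : (x * y * x⁻¹) ^ m = 1 := orderOf_dvd_iff_pow_eq_one.1 hzodd
          have hw : (z * (x * y * x⁻¹)) ^ m = 1 := orderOf_dvd_iff_pow_eq_one.1
            (Subgroup.orderOf_dvd_natCard _ h)
          have hcm : Commute z (x * y * x⁻¹) := hcomm z hzC _ hxy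
          rw [hcm.mul_pow, hpowz, mul_one] at hw
          have h3 : 2 ∣ m := hzord ▸ orderOf_dvd_iff_pow_eq_one.2 hw
          exact Nat.not_even_iff_odd.2 hmodd (even_iff_two_dvd.2 h3)
      have heq : Subgroup.centralizer ({c} : Set G) = N :=
        Subgroup.eq_of_le_of_card_ge hsub (by rw [hN, hk, hC]; linarith)
      refine hc1 (hnofix c hc ?_)
      have := Subgroup.mem_centralizer_singleton_iff.1 (heq.symm ▸ htN)
      rw [this, mul_inv_cancel_right]
  have hcentC : ∀ c ∈ C, c ≠ 1 → c ≠ z → Subgroup.centralizer ({c} : Set G) ≤ C := by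
    intro c hc hc1 hcz x hx
    rw [Subgroup.mem_centralizer_singleton_iff] at hx
    have hc2 : c * c ∈ (P : Subgroup G) ∧ c * c ≠ 1 := by
      refine ⟨?_, fun h => hcz (hzuniq c hc (invol_iff.2 ⟨h, hc1⟩))⟩
      rcases hCform c hc with h | h
      · exact (P : Subgroup G).mul_mem h h
      · have := (P : Subgroup G).mul_mem h h
        rwa [mul_assoc, ← mul_assoc c z c, hcomm c hc z hzC, mul_assoc z c c, ← mul_assoc z z,
          hzz, one_mul] at this
    rw [← hcentP _ hc2.1 hc2.2, Subgroup.mem_centralizer_singleton_iff]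
    rw [← mul_assoc, hx, mul_assoc, hx, mul_assoc]
  have hti : ∀ g : G, ∀ c ∈ C, c ≠ 1 → g * c * g⁻¹ ∈ C → g ∈ N := by
    intro g c hc hc1 hgc
    have hg : g ∈ Subgroup.normalizer (C : Set G) := by
      by_contra hg
      exact hc1 (hTI g hg c hc hgc)
    refine Subgroup.mem_normalizer_fintype fun y hy => ?_
    have hxy : g * y * g⁻¹ ∈ C := (Subgroup.mem_normalizer_iff.1 hg y).1 (hPC hy)
    rcases hCform _ hxy with h | h
    · exact h
    · exfalso
      have hzodd : orderOf (g * y * g⁻¹) ∣ m := by
        rw [← MulAut.conj_apply, MulEquiv.orderOf_eq]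
        exact Subgroup.orderOf_dvd_natCard _ hy
      have hpowz : (g * y * g⁻¹) ^ m = 1 := orderOf_dvd_iff_pow_eq_one.1 hzodd
      have hw : (z * (g * y * g⁻¹)) ^ m = 1 := orderOf_dvd_iff_pow_eq_one.1
        (Subgroup.orderOf_dvd_natCard _ h)
      have hcm : Commute z (g * y * g⁻¹) := hcomm z hzC _ hxy
      rw [hcm.mul_pow, hpowz, mul_one] at hw
      have h3 : 2 ∣ m := hzord ▸ orderOf_dvd_iff_pow_eq_one.2 hw
      exact Nat.not_even_iff_odd.2 hmodd (even_iff_two_dvd.2 h3)
  have hreal : ∀ x : G, x ≠ 1 → ∀ u : G, orderOf u = 2 → u * x * u = x⁻¹ →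
      ∃ g : G, g * x * g⁻¹ ∈ C := by
    intro x hx1 u hu hux
    have huu : u * u = 1 := (invol_iff.1 hu).1
    have huinv : u⁻¹ = u := inv_eq_of_mul_eq_one_right huu
    by_cases heo : 2 ∣ orderOf x
    · obtain ⟨k, hk⟩ := heo
      have hk0 : 0 < k := by have := orderOf_pos x; omega
      set w := x ^ k with hw
      have hword : orderOf w = 2 := by
        rw [hw, orderOf_pow' x hk0.ne', hk, Nat.gcd_mul_left_left, Nat.mul_div_cancel _ hk0]
      obtain ⟨g, hg⟩ := isConj_iff.1 (hfused w hword).symm
      have hmem : g * x * g⁻¹ ∈ N := by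
        rw [← hcent, Subgroup.mem_centralizer_singleton_iff, ← hg, hw]
        group
      by_cases hCm : g * x * g⁻¹ ∈ C
      · exact ⟨g, hCm⟩
      · obtain ⟨g', hg'⟩ := isConj_iff.1 (hfused _ (houter _ hmem hCm)).symm
        refine ⟨g' * g, ?_⟩
        rw [show g' * g * x * (g' * g)⁻¹ = g' * (g * x * g⁻¹) * g'⁻¹ by group, hg']
        exact hzC
    · set H := Subgroup.closure ({x, u} : Set G) with hH
      have hxH : x ∈ H := Subgroup.subset_closure (by simp)
      have huH : u ∈ H := Subgroup.subset_closure (by simp)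
      have hne : H ≠ ⊤ := by
        intro htop
        have hn : (Subgroup.zpowers x).Normal := by
          rw [← Subgroup.normalizer_eq_top_iff, eq_top_iff, ← htop, hH, Subgroup.closure_le]
          intro y hy
          rcases hy with rfl | rfl
          · exact Subgroup.le_normalizer (Subgroup.mem_zpowers y)
          · refine Subgroup.mem_normalizer_fintype ?_
            rintro _ ⟨i, rfl⟩
            have h1 : y * x ^ i * y⁻¹ = (y * x * y⁻¹) ^ i := (conj_zpow).symm
            rw [h1, huinv, hux]
            exact Subgroup.zpow_mem _ (Subgroup.inv_mem _ (Subgroup.mem_zpowers x)) i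
        rcases IsSimpleGroup.eq_bot_or_eq_top_of_normal _ hn with h | h
        · exact hx1 (Subgroup.zpowers_eq_bot.1 h)
        · exact hna ⟨⟨fun a b => by
            obtain ⟨i, rfl⟩ := Subgroup.mem_zpowers_iff.1 (h ▸ Subgroup.mem_top a)
            obtain ⟨j, rfl⟩ := Subgroup.mem_zpowers_iff.1 (h ▸ Subgroup.mem_top b)
            rw [← zpow_add, ← zpow_add, add_comm]⟩⟩
      have hd := (Subgroup.orderOf_dvd_natCard _ hxH).trans
        (heven H hne (hu ▸ Subgroup.orderOf_dvd_natCard _ huH))
      have hodd : Odd (orderOf x) := Nat.not_even_iff_odd.1 fun h => heo (even_iff_two_dvd.1 h)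
      have hd' : orderOf x ∣ 3 ^ a := by
        rw [← ha]
        exact (Nat.Coprime.pow_right 2 (Nat.coprime_two_right.2 hodd)).dvd_of_dvd_mul_left
          (by simpa using hd)
      obtain ⟨i, -, hi⟩ := (Nat.dvd_prime_pow (by norm_num)).1 hd'
      have hp : IsPGroup 3 (Subgroup.zpowers x) :=
        IsPGroup.of_card (n := i) (by rw [Nat.card_zpowers, hi])
      obtain ⟨W, hW⟩ := hp.exists_le_sylow
      obtain ⟨g, hg⟩ := MulAction.exists_smul_eq G W P
      refine ⟨g, hPC ?_⟩
      rw [← hg, Sylow.coe_subgroup_smul]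
      exact Subgroup.smul_mem_pointwise_smul x (MulAut.conj g) _ (hW (Subgroup.mem_zpowers x))
  exact Config.false (C := C) (N := N) (z := z) (m := m)
    ⟨hpow3, hmodd, hC, hN, hCN, hcomm, hzC, hzord, hzuniq, hnormal, houter, hcent, hti, hfused,
      hreal⟩

end Cfsg.Agent.S4018
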