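import Cfsg.Statements.S4022
import Mathlib
import Cfsg.Agent.Lib.Coprime.Hall
import Cfsg.Agent.Lib.Coprime.Action

set_option autoImplicit false
set_option linter.style.haveILetI false
open Cfsg
open scoped Pointwise

namespace Cfsg.Agent.S4022

universe u

theorem eq_of_card_eq_of_cyclic {G : Type u} [Group G] [Finite G] {A B C : Subgroup G} [IsCyclic C]
    (hA : A ≤ C) (hB : B ≤ C) (h : Nat.card A = Nat.card B) : A = B := by
  classical
  letI : Fintype C := Fintype.ofFinite _
  have key : ∀ D : Subgroup G, D ≤ C → Nat.card D = Nat.card A →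
      (Finset.univ.filter fun c : C => (c : G) ∈ D) = Finset.univ.filter fun c : C => c ^ Nat.card A = 1 := by
    intro D hD hcard
    refine Finset.eq_of_subset_of_card_le (fun c hc => ?_) ?_
    · simp only [Finset.mem_filter, Finset.mem_univ, true_and] at hc ⊢
      apply Subtype.ext
      rw [SubmonoidClass.coe_pow, ← hcard]
      exact congrArg Subtype.val (pow_card_eq_one' (x := (⟨(c : G), hc⟩ : D)))
    · refine (IsCyclic.card_pow_eq_one_le (Nat.card_pos (α := A))).trans (le_of_eq ?_)
      rw [← hcard, ← Fintype.card_subtype, ← Nat.card_eq_fintype_card]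
      exact (Nat.card_congr
        { toFun := fun c => (⟨(c.1 : G), c.2⟩ : D)
          invFun := fun d => ⟨⟨d.1, hD d.2⟩, d.2⟩
          left_inv := fun c => rfl
          right_inv := fun d => rfl }).symm
  have h1 := (key A hA rfl).trans (key B hB h.symm).symm
  ext x
  constructor
  · intro hx
    have := Finset.ext_iff.mp h1 ⟨x, hA hx⟩
    simpa [hx] using this
  · intro hx
    have := Finset.ext_iff.mp h1 ⟨x, hB hx⟩
    simpa [hx] using this

open CfsgLib.Coprime

/-- Two subgroups of equal order are conjugate. -/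
def Conj' {G : Type u} [Group G] (H K : Subgroup G) : Prop := ∃ g : G, MulAut.conj g • H = K

theorem map_conj {G : Type u} [Group G] {Gb : Type*} [Group Gb] (f : G →* Gb) (g : G)
    (H : Subgroup G) : (MulAut.conj g • H).map f = MulAut.conj (f g) • H.map f :=
  (conj_smul_map f g H).symm

theorem conj'_aux : ∀ n : ℕ, ∀ {G : Type u} [Group G] [Finite G] [Group.IsSolvable G],
    Nat.card G ≤ n → ∀ r : ℕ,
    (∀ p : ℕ, p.Prime → ∀ H K : Subgroup G, IsPGroup p H → IsPGroup p K →
      Nat.card H = Nat.card K → Conj' H K) →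
    (∀ p : ℕ, p.Prime → p ≠ r → ∀ P : Sylow p G, IsCyclic P) →
    ∀ H K : Subgroup G, Nat.card H = Nat.card K → Conj' H K := by
  intro n
  induction n using Nat.strong_induction_on with
  | _ n ih =>
  intro G _ _ _ hn r hD hcyc H K hHK
  classical
  rcases subsingleton_or_nontrivial G with hG | hG
  · exact ⟨1, Subsingleton.elim _ _⟩
  obtain ⟨q, N, hq, hNn, hNb, hNab, hNexp⟩ := exists_normal_elementaryAbelian (G := G)
  haveI := Fact.mk hq
  have hNq : IsPGroup q N := fun x => ⟨1, by
    rw [pow_one]; exact Subtype.ext (by simpa using hNexp x x.2)⟩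
  set f := QuotientGroup.mk' N with hf
  have hfs : Function.Surjective f := QuotientGroup.mk'_surjective N
  have hker : f.ker = N := QuotientGroup.ker_mk' N
  -- the hypotheses pass to the quotient
  have hlt : Nat.card (G ⧸ N) < Nat.card G := card_quotient_lt hNb
  have hquot : ∀ A B : Subgroup (G ⧸ N), Nat.card A = Nat.card B → Conj' A B := by
    refine ih _ (lt_of_lt_of_le hlt hn) le_rfl r ?_ ?_
    · intro p hp A B hA hB hAB
      haveI := Fact.mk hp
      have hlift : ∀ A : Subgroup (G ⧸ N), IsPGroup p A → ∃ S : Subgroup G, IsPGroup p S ∧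
          Nat.card S = p ^ (Nat.card (A.comap f)).factorization p ∧ S.map f = A := by
        intro A hA
        let S : Sylow p (A.comap f) := default
        refine ⟨(S : Subgroup (A.comap f)).map (A.comap f).subtype, S.2.map _, ?_, ?_⟩
        · rw [← Sylow.card_eq_multiplicity S]
          exact (Nat.card_congr ((S : Subgroup (A.comap f)).equivMapOfInjective _
            (A.comap f).subtype_injective).toEquiv).symm
        · have hs : Function.Surjective (f.subgroupComap A) := fun y => by
            obtain ⟨x, hx⟩ := hfs y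
            exact ⟨⟨x, by rw [Subgroup.mem_comap, hx]; exact y.2⟩, Subtype.ext hx⟩
          set T := S.mapSurjective hs with hT
          have htop : (T : Subgroup A) = ⊤ :=
            (T.3 (hA.of_equiv Subgroup.topEquiv.symm) le_top).symm
          rw [hT, Sylow.coe_mapSurjective] at htop
          have h1 := congrArg (Subgroup.map A.subtype) htop
          rw [Subgroup.map_map, ← MonoidHom.range_eq_map, Subgroup.range_subtype] at h1
          rw [Subgroup.map_map]
          exact h1
      obtain ⟨S, hS, hSc, hSA⟩ := hlift A hA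
      obtain ⟨T, hT, hTc, hTB⟩ := hlift B hB
      have hcard : Nat.card (A.comap f) = Nat.card (B.comap f) := by
        have hc : ∀ C : Subgroup (G ⧸ N), Nat.card (C.comap f) = Nat.card N * Nat.card C := by
          intro C
          rw [← Nat.card_prod]
          exact Nat.card_congr (QuotientGroup.preimageMkEquivSubgroupProdSet N (C : Set (G ⧸ N)))
        rw [hc, hc, hAB]
      obtain ⟨g, hg⟩ := hD p hp S T hS hT (by rw [hSc, hTc, hcard])
      exact ⟨f g, by rw [← hSA, ← map_conj, hg, hTB]⟩
    · intro p hp hpr P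
      haveI := Fact.mk hp
      obtain ⟨Q, rfl⟩ := Sylow.mapSurjective_surjective hfs p P
      haveI := hcyc p hp hpr Q
      exact isCyclic_of_surjective (f.subgroupMap (Q : Subgroup G))
        (f.subgroupMap_surjective (Q : Subgroup G))
  -- subgroups containing `N`
  have hup : ∀ A B : Subgroup G, N ≤ A → N ≤ B → Nat.card A = Nat.card B → Conj' A B := by
    intro A B hA hB hAB
    have hc : ∀ C : Subgroup G, N ≤ C → Nat.card C = Nat.card N * Nat.card (C.map f) := fun C hC => by
      have h1 : (C.map f).comap f = C := by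
        rw [Subgroup.comap_map_eq, hker, sup_eq_left.mpr hC]
      conv_lhs => rw [← h1]
      rw [← Nat.card_prod]
      exact Nat.card_congr (QuotientGroup.preimageMkEquivSubgroupProdSet N (C.map f : Set (G ⧸ N)))
    obtain ⟨gb, hgb⟩ := hquot (A.map f) (B.map f) (Nat.eq_of_mul_eq_mul_left Nat.card_pos
      ((hc A hA).symm.trans (hAB.trans (hc B hB))))
    obtain ⟨g, rfl⟩ := hfs gb
    refine ⟨g, ?_⟩
    have h1 := congrArg (Subgroup.comap f) hgb
    rw [← map_conj, Subgroup.comap_map_eq, Subgroup.comap_map_eq, hker, sup_eq_left.mpr hB,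
      sup_eq_left.mpr] at h1
    · exact h1
    · intro x hx
      rw [Subgroup.mem_pointwise_smul_iff_inv_smul_mem]
      refine hA ?_
      simpa [MulAut.smul_def, mul_assoc] using hNn.conj_mem x hx g⁻¹
  by_cases hqH : q ∣ Nat.card H
  swap
  · -- order prime to `q`: complements in a common product
    have hcop : ∀ A : Subgroup G, ¬ q ∣ Nat.card A → (Nat.card N).Coprime (Nat.card A) := by
      intro A hA
      obtain ⟨k, hk⟩ := IsPGroup.iff_card.mp hNq
      rw [hk]; exact ((hq.coprime_iff_not_dvd.mpr hA).pow_left k)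
    have hN' : ∀ A : Subgroup G, A ≤ Subgroup.normalizer (N : Set G) := fun A => by
      rw [Subgroup.normalizer_eq_top_iff.mpr hNn]; exact le_top
    have hcard : ∀ A : Subgroup G, ¬ q ∣ Nat.card A →
        Nat.card (A ⊔ N : Subgroup G) = Nat.card A * Nat.card N := fun A hA =>
      card_sup_of_inf_eq_bot (hN' A) (inf_eq_bot_of_coprime (hcop A hA).symm)
    have hqK : ¬ q ∣ Nat.card K := hHK ▸ hqH
    obtain ⟨g, hg⟩ := hup (H ⊔ N) (K ⊔ N) le_sup_right le_sup_right
      (by rw [hcard H hqH, hcard K hqK, hHK])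
    obtain ⟨a, -, ha⟩ := sz_conj_rel (N := N) (H := MulAut.conj g • H) (K := K) (hN' _) (hN' _)
      (by rw [card_conj_smul]; exact hcop H hqH) (by rw [card_conj_smul]; exact hHK.symm)
      (by
        have h1 : MulAut.conj g • (H ⊔ N) = MulAut.conj g • H ⊔ MulAut.conj g • N :=
          Subgroup.smul_sup _ _ _
        have h2 : MulAut.conj g • N = N := conj_smul_eq_self_of_mem_normalizer (hN' ⊤ trivial)
        rw [hg, h2, sup_comm (MulAut.conj g • H)] at h1
        rw [← h1]; exact le_sup_left)
      (Or.inl inferInstance)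
    exact ⟨a * g, by rw [map_mul, mul_smul, ha]⟩
  -- `N` is the only subgroup of its order up to conjugacy
  have huniq : ∀ S : Subgroup G, IsPGroup q S → Nat.card S = Nat.card N → S = N := by
    intro S hS hcard
    obtain ⟨g, hg⟩ := hD q hq N S hNq hS hcard.symm
    rw [← hg, conj_smul_eq_self_of_mem_normalizer]
    rw [Subgroup.normalizer_eq_top_iff.mpr hNn]; trivial
  by_cases hbig : Nat.card N ∣ Nat.card H
  · -- both contain `N`
    have hle : ∀ A : Subgroup G, Nat.card N ∣ Nat.card A → N ≤ A := by
      intro A hA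
      obtain ⟨k, hk⟩ := IsPGroup.iff_card.mp hNq
      rw [hk] at hA
      obtain ⟨S, hS⟩ := Sylow.exists_subgroup_card_pow_prime q hA
      have h1 : S.map A.subtype = N := by
        refine huniq _ ((IsPGroup.of_card hS).map _) ?_
        rw [hk, ← hS]
        exact (Nat.card_congr (S.equivMapOfInjective _ A.subtype_injective).toEquiv).symm
      rw [← h1]; exact Subgroup.map_subtype_le S
    exact hup H K (hle H hbig) (hle K (hHK ▸ hbig)) hHK
  -- now `N` is a noncyclic Sylow subgroup
  obtain ⟨k, hk⟩ := IsPGroup.iff_card.mp hNq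
  have hk2 : 2 ≤ k := by
    by_contra h
    refine hbig ?_
    rw [hk]
    exact (pow_dvd_pow q (by omega : k ≤ 1)).trans (by rwa [pow_one])
  have hNsyl : ∀ P : Sylow q G, (P : Subgroup G) = N := by
    intro P
    refine le_antisymm (fun x hx => ?_) (hNq.le_sylow_of_normal P)
    obtain ⟨j, hj⟩ := IsPGroup.iff_orderOf.mp P.2 ⟨x, hx⟩
    rw [Subgroup.orderOf_mk] at hj
    by_cases hjk : j ≤ k
    · -- extend `⟨x⟩` to a subgroup of order `|N|`
      have hle : Subgroup.zpowers x ≤ (P : Subgroup G) := Subgroup.zpowers_le.mpr hx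
      obtain ⟨S, hS, hxS⟩ := Sylow.exists_subgroup_card_pow_prime_le q (G := (P : Subgroup G))
        (n := j) (m := k) (by rw [← hk]; exact Subgroup.card_dvd_of_le (hNq.le_sylow_of_normal P))
        ((Subgroup.zpowers x).subgroupOf (P : Subgroup G))
        (by rw [Nat.card_congr (Subgroup.subgroupOfEquivOfLe hle).toEquiv, Nat.card_zpowers, hj])
        hjk
      have h1 : S.map (P : Subgroup G).subtype = N := by
        refine huniq _ ((IsPGroup.of_card hS).map _) ?_
        rw [hk, ← hS]
        exact (Nat.card_congr (S.equivMapOfInjective _ (P : Subgroup G).subtype_injective).toEquiv).symm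
      rw [← h1]
      exact ⟨⟨x, hx⟩, hxS (Subgroup.mem_subgroupOf.mpr (Subgroup.mem_zpowers x)), rfl⟩
    · exfalso
      have hord : orderOf (x ^ q ^ (j - k)) = q ^ k := by
        rw [orderOf_pow, hj, Nat.gcd_eq_right (pow_dvd_pow q (Nat.sub_le j k)),
          Nat.pow_div (Nat.sub_le j k) hq.pos]
        congr 1; omega
      have h1 : Subgroup.zpowers (x ^ q ^ (j - k)) = N :=
        huniq _ (IsPGroup.of_card (n := k) (by rw [Nat.card_zpowers, hord]))
          (by rw [Nat.card_zpowers, hord, hk])
      have hz : x ^ q ^ (j - k) ∈ N := h1 ▸ Subgroup.mem_zpowers _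
      have h2 := orderOf_dvd_of_pow_eq_one (hNexp _ hz)
      rw [hord] at h2
      have h3 := Nat.le_of_dvd hq.pos h2
      have h4 : q ^ 2 ≤ q ^ k := Nat.pow_le_pow_right hq.pos hk2
      have := hq.two_le
      nlinarith
  have hqr : q = r := by
    by_contra hne
    let P : Sylow q G := default
    haveI : IsCyclic N := by
      have := hcyc q hq hne P
      rw [show (P : Subgroup G) = N from hNsyl P] at this
      exact this
    have h1 : Monoid.exponent N ∣ q := Monoid.exponent_dvd_of_forall_pow_eq_one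
      (fun a => Subtype.ext (by simpa using hNexp a a.2))
    rw [IsCyclic.exponent_eq_card, hk] at h1
    have h3 := Nat.le_of_dvd hq.pos h1
    have h4 : q ^ 2 ≤ q ^ k := Nat.pow_le_pow_right hq.pos hk2
    have := hq.two_le
    nlinarith
  -- the intersections with `N` are conjugate; move one onto the other
  have hinf : ∀ A : Subgroup G, Nat.card (A ⊓ N : Subgroup G) = q ^ (Nat.card A).factorization q := by
    intro A
    let S : Sylow q A := default
    have h1 : A ⊓ N = (S : Subgroup A).map A.subtype := by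
      refine le_antisymm ?_ (le_inf (Subgroup.map_subtype_le _) ?_)
      · haveI : (N.subgroupOf A).Normal := hNn.subgroupOf A
        have h2 : IsPGroup q (N.subgroupOf A) := hNq.comap_subtype
        intro x hx
        exact ⟨⟨x, hx.1⟩, h2.le_sylow_of_normal S (Subgroup.mem_subgroupOf.mpr hx.2), rfl⟩
      · obtain ⟨P, hP⟩ := (S.2.map A.subtype).exists_le_sylow
        exact hP.trans (hNsyl P).le
    rw [h1, ← Sylow.card_eq_multiplicity S]
    exact (Nat.card_congr ((S : Subgroup A).equivMapOfInjective _ A.subtype_injective).toEquiv).symm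
  obtain ⟨g₀, hg₀⟩ := hD q hq (H ⊓ N) (K ⊓ N) (hNq.to_le inf_le_right) (hNq.to_le inf_le_right)
    (by rw [hinf, hinf, hHK])
  set H' := MulAut.conj g₀ • H with hH'
  suffices h : Conj' H' K by
    obtain ⟨g, hg⟩ := h
    exact ⟨g * g₀, by rw [map_mul, mul_smul]; exact hg⟩
  set A := K ⊓ N with hA
  have hAH' : H' ⊓ N = A := by
    rw [← hg₀, Subgroup.smul_inf]
    congr 1
    exact (conj_smul_eq_self_of_mem_normalizer (by
      rw [Subgroup.normalizer_eq_top_iff.mpr hNn]; trivial)).symm
  set M := Subgroup.normalizer (A : Set G) with hM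
  have hNM : N ≤ M := fun x hx => by
    refine Subgroup.mem_normalizer_iff.mpr fun y => ⟨fun hy => ?_, fun hy => ?_⟩
    · have h1 : x * y * x⁻¹ = y := by rw [hNab x hx y hy.2, mul_inv_cancel_right]
      rwa [h1]
    · have hyN : y ∈ N := by
        have := mul_mem (mul_mem (inv_mem hx) (hy.2 : x * y * x⁻¹ ∈ N)) hx
        simpa [mul_assoc] using this
      rwa [show x * y * x⁻¹ = y by rw [hNab x hx y hyN, mul_inv_cancel_right]] at hy
  have hNN : ∀ B : Subgroup G, B ≤ Subgroup.normalizer (N : Set G) := fun B => by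
    rw [Subgroup.normalizer_eq_top_iff.mpr hNn]; exact le_top
  have hnd : ∀ B : Subgroup G, N ≤ B → ¬ q ∣ N.relIndex B := by
    intro B _ hd
    let P : Sylow q G := default
    refine P.not_dvd_index ?_
    rw [show (P : Subgroup G) = N from hNsyl P]
    exact hd.trans (Subgroup.relIndex_dvd_index_of_normal N B)
  have hcopN : ∀ m : ℕ, ¬ q ∣ m → (Nat.card N).Coprime m := fun m hm => by
    rw [hk]; exact (hq.coprime_iff_not_dvd.mpr hm).pow_left k
  obtain ⟨L, hLM, hLcard, hLsup⟩ := exists_complement_in hNM (hNN M) (hcopN _ (hnd M hNM))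
  -- complements of `A`
  have hcompl : ∀ B : Subgroup G, B ⊓ N = A → ∃ B₀ : Subgroup G, B₀ ≤ L ∧
      ∃ a ∈ M, A ⊔ B₀ = MulAut.conj a • B ∧ Nat.card B₀ * Nat.card A = Nat.card B := by
    intro B hB
    have hBA : B ≤ M := by
      intro b hb
      refine Subgroup.mem_normalizer_iff.mpr fun y => ?_
      rw [← hB, Subgroup.mem_inf, Subgroup.mem_inf]
      refine and_congr (Subgroup.mem_normalizer_iff.mp (Subgroup.le_normalizer hb) y) ?_
      exact Subgroup.mem_normalizer_iff.mp (hNN ⊤ trivial) y
    have hAB : A ≤ B := hB ▸ inf_le_left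
    have hAN : A ≤ N := hB ▸ inf_le_right
    have hrel : ¬ q ∣ A.relIndex B := by
      rw [← hB, Subgroup.inf_relIndex_left]
      intro hd
      let P : Sylow q G := default
      refine P.not_dvd_index ?_
      rw [show (P : Subgroup G) = N from hNsyl P]
      exact hd.trans (Subgroup.relIndex_dvd_index_of_normal N B)
    obtain ⟨B₁, hB₁B, hB₁c, hB₁s⟩ := exists_complement_in hAB (hBA)
      ((hcopN _ hrel).coprime_dvd_left (Subgroup.card_dvd_of_le hAN))
    have hB₁q : ¬ q ∣ Nat.card B₁ := hB₁c ▸ hrel
    obtain ⟨a, ha, hle⟩ := sz_conj_le (N := N) (H := L) (U := B₁) (hNN L)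
      (hLsup ▸ hB₁B.trans hBA) (hcopN _ (hLcard ▸ hnd M hNM)) (hcopN _ hB₁q) (Or.inl inferInstance)
    refine ⟨MulAut.conj a • B₁, hle, a, hNM ha, ?_, ?_⟩
    · conv_rhs => rw [← hB₁s, Subgroup.smul_sup]
      congr 1
      exact (conj_smul_eq_self_of_mem_normalizer (hNM ha)).symm
    · rw [card_conj_smul, hB₁c, mul_comm, ← Subgroup.relIndex_bot_left A,
        Subgroup.relIndex_mul_relIndex _ _ _ bot_le hAB, Subgroup.relIndex_bot_left]
  obtain ⟨H₀, hH₀, a, haM, haeq, hH₀c⟩ := hcompl H' hAH'
  obtain ⟨K₀, hK₀, b, hbM, hbeq, hK₀c⟩ := hcompl K rfl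
  -- `L` has cyclic Sylow subgroups
  have hLlt : Nat.card L < Nat.card G := by
    have h1 := card_sup_of_inf_eq_bot (hNN L)
      (inf_eq_bot_of_coprime (hcopN _ (hLcard ▸ hnd M hNM)).symm)
    have h2 := Subgroup.card_le_card_group (L ⊔ N)
    have h3 : 0 < Nat.card L := Nat.card_pos
    have h4 : 1 < Nat.card N := by rw [hk]; exact Nat.one_lt_pow (by omega) hq.one_lt
    nlinarith
  have hLcyc : ∀ p : ℕ, p.Prime → ∀ P : Sylow p L, IsCyclic P := by
    intro p hp P
    haveI := Fact.mk hp
    by_cases hpq : p = q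
    · have h1 : Nat.card (P : Subgroup L) = 1 := by
        rw [P.card_eq_multiplicity, Nat.factorization_eq_zero_of_not_dvd, pow_zero]
        rw [hpq, hLcard]; exact hnd M hNM
      haveI : Subsingleton P := (Nat.card_eq_one_iff_unique.mp h1).1
      exact isCyclic_of_subsingleton
    · obtain ⟨Q, hQ⟩ := (P.2.map L.subtype).exists_le_sylow
      haveI := hcyc p hp (hqr ▸ hpq) Q
      haveI : IsCyclic ((P : Subgroup L).map L.subtype) :=
        Subgroup.isCyclic_of_le hQ
      exact isCyclic_of_injective
        ((P : Subgroup L).equivMapOfInjective L.subtype L.subtype_injective).toMonoidHom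
        ((P : Subgroup L).equivMapOfInjective L.subtype L.subtype_injective).injective
  have hLD : ∀ p : ℕ, p.Prime → ∀ A B : Subgroup L, IsPGroup p A → IsPGroup p B →
      Nat.card A = Nat.card B → Conj' A B := by
    intro p hp A B hA hB hAB
    haveI := Fact.mk hp
    obtain ⟨P, hP⟩ := hA.exists_le_sylow
    obtain ⟨Q, hQ⟩ := hB.exists_le_sylow
    obtain ⟨g, hg⟩ := MulAction.exists_smul_eq L P Q
    refine ⟨g, ?_⟩
    haveI := hLcyc p hp Q
    have h1 : MulAut.conj g • A ≤ (Q : Subgroup L) := by
      rw [← hg, Sylow.coe_subgroup_smul]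
      exact Subgroup.pointwise_smul_le_pointwise_smul_iff.mpr hP
    exact eq_of_card_eq_of_cyclic h1 hQ (by rw [card_conj_smul, hAB])
  haveI : Group.IsSolvable L := inferInstance
  obtain ⟨l, hl⟩ := ih _ (lt_of_lt_of_le hLlt hn) le_rfl r hLD (fun p hp _ P => hLcyc p hp P)
    (H₀.subgroupOf L) (K₀.subgroupOf L) (by
      rw [Nat.card_congr (Subgroup.subgroupOfEquivOfLe hH₀).toEquiv,
        Nat.card_congr (Subgroup.subgroupOfEquivOfLe hK₀).toEquiv]
      refine Nat.eq_of_mul_eq_mul_right (Nat.card_pos (α := A)) ?_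
      rw [hH₀c, hK₀c, card_conj_smul]; exact hHK)
  have hl' : MulAut.conj (l : G) • H₀ = K₀ := by
    have h1 := congrArg (Subgroup.map L.subtype) hl
    rwa [map_conj, Subgroup.map_subgroupOf_eq_of_le hH₀, Subgroup.map_subgroupOf_eq_of_le hK₀] at h1
  refine ⟨b⁻¹ * (l : G) * a, ?_⟩
  rw [map_mul, map_mul, mul_smul, mul_smul, ← haeq, Subgroup.smul_sup, hl',
    conj_smul_eq_self_of_mem_normalizer (hLM l.2), hbeq, map_inv, inv_smul_smul]


/-- Let G be a finite solvable group in which, for every prime p, any two p-subgroups of the same order are conjugate, and suppose the Sylow p-subgroups of G are cyclic for all primes p with at most one exception. Then any two subgroups of G of the same order are conjugate. -/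
theorem result {G : Type*} [Group G] [Finite G]
    [Group.IsSolvable G] (hD : ∀ p : ℕ, p.Prime → ∀ H K : Subgroup G, IsPGroup p H → IsPGroup p K → Nat.card H = Nat.card K →
      ∃ g : G, K = H.map (MulAut.conj g).toMonoidHom)
    (r : ℕ) (hcyc : ∀ p : ℕ, p.Prime → p ≠ r → ∀ P : Sylow p G, IsCyclic P) :
    ∀ H K : Subgroup G, Nat.card H = Nat.card K → ∃ g : G, K = H.map (MulAut.conj g).toMonoidHom := by
  intro H K hHK
  obtain ⟨g, hg⟩ := conj'_aux (Nat.card G) le_rfl r
    (fun p hp A B hA hB hAB => by
      obtain ⟨g, hg⟩ := hD p hp A B hA hB hAB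
      exact ⟨g, hg.symm⟩) hcyc H K hHK
  exact ⟨g, hg.symm⟩

end Cfsg.Agent.S4022
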