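import Cfsg.Statements.S4023
import Mathlib
import Cfsg.Agent.Lib.PGroups.UniqueOrderP
import Cfsg.Agent.Lib.PGroups.Basic
import Cfsg.Agent.Lib.PGroups.MaxAbelian
import Cfsg.Agent.Lib.Coprime.Basic

set_option autoImplicit false
set_option linter.style.haveILetI false
open Cfsg
open scoped commutatorElement

namespace Cfsg.Agent.S4023


/-- Let p be a prime and G a finite group in which any two p-subgroups of the same order are conjugate, with Sylow p-subgroup P. Then P is cyclic, or elementary abelian, or p = 2 and P is a quaternion group of order 8, or p is odd and P is non-abelian of order p³ and exponent p. -/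
theorem result {G : Type*} [Group G] [Finite G]
    {p : ℕ} [Fact p.Prime] (hC : ∀ H K : Subgroup G, IsPGroup p H → IsPGroup p K → Nat.card H = Nat.card K →
      ∃ g : G, K = H.map (MulAut.conj g).toMonoidHom) (P : Sylow p G) :
    IsCyclic P ∨ Cfsg.IsElementaryAbelian p (P : Subgroup G) ∨
      (p = 2 ∧ Nonempty ((P : Subgroup G) ≃* QuaternionGroup 2)) ∨
      (p ≠ 2 ∧ ¬ IsMulCommutative P ∧ Nat.card P = p ^ 3 ∧ Monoid.exponent P = p) := by
  classical
  have hp := Fact.out (p := p.Prime)
  set S : Subgroup G := (P : Subgroup G) with hSdef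
  have hS : IsPGroup p S := P.2
  -- equal order subgroups of `S` are isomorphic
  have hiso : ∀ H K : Subgroup S, Nat.card H = Nat.card K → Nonempty (H ≃* K) := by
    intro H K h
    obtain ⟨g, hg⟩ := hC (H.map S.subtype) (K.map S.subtype) ((hS.to_subgroup H).map _)
      ((hS.to_subgroup K).map _) (by
        rw [← Nat.card_congr (H.equivMapOfInjective _ S.subtype_injective).toEquiv,
          ← Nat.card_congr (K.equivMapOfInjective _ S.subtype_injective).toEquiv]
        exact h)
    exact ⟨(H.equivMapOfInjective _ S.subtype_injective).trans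
      ((((H.map S.subtype).equivMapOfInjective (MulAut.conj g).toMonoidHom (MulAut.conj g).injective).trans
        (MulEquiv.subgroupCongr hg.symm)).trans (K.equivMapOfInjective _ S.subtype_injective).symm)⟩
  have hexp : ∀ H K : Subgroup S, Nat.card H = Nat.card K → (∀ h ∈ H, h ^ p = 1) →
      ∀ k ∈ K, k ^ p = 1 := by
    intro H K h hH k hk
    obtain ⟨e⟩ := hiso H K h
    obtain ⟨a, ha⟩ := e.surjective ⟨k, hk⟩
    have : (⟨k, hk⟩ : K) ^ p = 1 := by
      rw [← ha, ← map_pow, show a ^ p = 1 from Subtype.ext (hH a a.2), map_one]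
    exact congrArg Subtype.val this
  by_cases hall : ∀ x : S, x ^ p = 1
  · -- exponent `p`
    by_cases hab : IsMulCommutative S
    · exact Or.inr (Or.inl ⟨hab, fun a ha => congrArg Subtype.val (hall ⟨a, ha⟩)⟩)
    have hcomm : ¬ ∀ a b : S, a * b = b * a := fun h => hab ⟨⟨h⟩⟩
    refine Or.inr (Or.inr (Or.inr ⟨?_, hab, ?_⟩))
    · rintro rfl
      refine hcomm fun a b => ?_
      have hinv : ∀ x : S, x⁻¹ = x := fun x => inv_eq_of_mul_eq_one_right (by rw [← sq]; exact hall x)
      rw [← hinv (a * b), mul_inv_rev, hinv, hinv]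
    haveI : Nontrivial S := by
      by_contra h
      rw [not_nontrivial_iff_subsingleton] at h
      exact hcomm fun a b => Subsingleton.elim _ _
    obtain ⟨A, hAn, hAab, -, hAC⟩ :=
      CfsgLib.PGroups.exists_selfCentralizing_normal hS (⊥ : Subgroup S) inferInstance
    haveI := hAn
    have hAcomm : ∀ a ∈ A, ∀ b ∈ A, a * b = b * a := fun a ha b hb =>
      congrArg Subtype.val (hAab.is_comm.comm ⟨a, ha⟩ ⟨b, hb⟩)
    have hZA : Subgroup.center S ≤ A := by
      rw [← hAC]; exact Subgroup.center_le_centralizer _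
    have hAne : A ≠ ⊤ := fun h => hcomm fun a b =>
      hAcomm a (h ▸ Subgroup.mem_top a) b (h ▸ Subgroup.mem_top b)
    have hAZ : A ≠ Subgroup.center S := fun h => by
      refine hAne (hAC ▸ ?_)
      rw [h, eq_top_iff]
      intro x _
      exact Subgroup.mem_centralizer_iff.mpr fun z hz => (Subgroup.mem_center_iff.mp hz x).symm
    obtain ⟨n, hn⟩ := IsPGroup.iff_card.mp hS
    obtain ⟨a, ha⟩ := IsPGroup.iff_card.mp (hS.to_subgroup A)
    obtain ⟨c, hc⟩ := IsPGroup.iff_card.mp (hS.to_subgroup (Subgroup.center S))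
    have hc0 : c ≠ 0 := fun h => by
      haveI := hS.center_nontrivial
      have := Finite.one_lt_card (α := Subgroup.center S)
      rw [hc, h, pow_zero] at this; exact lt_irrefl _ this
    have hca : c < a := by
      have h1 : Nat.card (Subgroup.center S) < Nat.card A :=
        lt_of_le_of_ne (Subgroup.card_le_of_le hZA) fun h =>
          hAZ (Subgroup.eq_of_le_of_card_ge hZA h.ge).symm
      rw [hc, ha] at h1
      exact (Nat.pow_lt_pow_iff_right hp.one_lt).mp h1
    -- no abelian subgroup of order `p ^ 3`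
    have ha2 : a = 2 := by
      by_contra hne
      have h3 : p ^ 3 ∣ Nat.card A := ha ▸ pow_dvd_pow p (by omega)
      obtain ⟨E, hE⟩ := Sylow.exists_subgroup_card_pow_prime p h3
      -- a nonabelian subgroup of order `p ^ 3`
      obtain ⟨x, y, hxy, hxyz⟩ : ∃ x y : S, ⁅x, y⁆ ≠ 1 ∧ ⁅x, y⁆ ∈ Subgroup.center S := by
        have hne2 : Subgroup.upperCentralSeries S 2 ≠ Subgroup.upperCentralSeries S 1 := by
          intro h
          obtain ⟨m, hm⟩ := hS.isNilpotent.nilpotent'
          have key : ∀ i, 1 ≤ i → Subgroup.upperCentralSeries S i = Subgroup.upperCentralSeries S 1 := by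
            intro i hi
            induction i with
            | zero => omega
            | succ i ih =>
              rcases Nat.eq_zero_or_pos i with rfl | hi'
              · rfl
              · rw [← h]
                ext u
                rw [Subgroup.mem_upperCentralSeries_succ_iff, Subgroup.mem_upperCentralSeries_succ_iff,
                  ih hi']
          have h1 := key (m + 1) (Nat.le_add_left 1 m)
          have h2 : Subgroup.upperCentralSeries S (m + 1) = ⊤ :=
            top_unique (hm ▸ Subgroup.upperCentralSeries_mono S (Nat.le_succ m))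
          rw [h2, Subgroup.upperCentralSeries_one] at h1
          exact hcomm fun u v => Subgroup.mem_center_iff.mp (h1 ▸ Subgroup.mem_top v) u
        obtain ⟨x, hx, hx1⟩ := SetLike.exists_of_lt (lt_of_le_of_ne
          (Subgroup.upperCentralSeries_mono S (by omega)) hne2.symm)
        rw [Subgroup.upperCentralSeries_one] at hx1
        obtain ⟨y, hy⟩ : ∃ y : S, ⁅x, y⁆ ≠ 1 := by
          by_contra h
          push Not at h
          exact hx1 (Subgroup.mem_center_iff.mpr fun u => (commutatorElement_eq_one_iff_mul_comm.mp (h u)).symm)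
        refine ⟨x, y, hy, ?_⟩
        have := (Subgroup.mem_upperCentralSeries_succ_iff (n := 1)).mp hx y
        rwa [Subgroup.upperCentralSeries_one] at this
      set z := ⁅x, y⁆ with hz
      set Z1 := Subgroup.zpowers z with hZ1
      haveI : Z1.Normal := CfsgLib.PGroups.normal_of_le_center (Subgroup.zpowers_le.mpr hxyz)
      have hzo : orderOf z = p := orderOf_eq_prime (hall z) hxy
      set f := QuotientGroup.mk' Z1 with hf
      have hfc : Commute (f x) (f y) := by
        have : f z = 1 := (QuotientGroup.eq_one_iff z).mpr (Subgroup.mem_zpowers z)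
        rw [hz, map_commutatorElement] at this
        exact commutatorElement_eq_one_iff_mul_comm.mp this
      set K := (Subgroup.zpowers (f x) ⊔ Subgroup.zpowers (f y)).comap f with hK
      have hKcard : Nat.card K ∣ p ^ 3 := by
        have h1 : Nat.card K = Nat.card Z1 *
            Nat.card (Subgroup.zpowers (f x) ⊔ Subgroup.zpowers (f y) : Subgroup (S ⧸ Z1)) := by
          rw [← Nat.card_prod]
          exact Nat.card_congr (QuotientGroup.preimageMkEquivSubgroupProdSet Z1
            ((Subgroup.zpowers (f x) ⊔ Subgroup.zpowers (f y) : Subgroup (S ⧸ Z1)) : Set (S ⧸ Z1)))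
        have h2 : ∀ u : S, Nat.card (Subgroup.zpowers (f u)) ∣ p := fun u => by
          rw [Nat.card_zpowers]
          exact orderOf_dvd_of_pow_eq_one (by rw [← map_pow, hall, map_one])
        have h3 := CfsgLib.Coprime.card_sup_mul_card_inf (H := Subgroup.zpowers (f x))
          (N := Subgroup.zpowers (f y)) (Subgroup.zpowers_le.mpr (Subgroup.mem_normalizer_iff.mpr fun w => by
            have hw : ∀ v : S ⧸ Z1, v ∈ Subgroup.zpowers (f y) → f x * v * (f x)⁻¹ = v := by
              rintro v ⟨e, rfl⟩
              rw [(hfc.zpow_right e).eq, mul_inv_cancel_right]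
            refine ⟨fun hw' => by rwa [hw w hw'], fun hw' => ?_⟩
            obtain ⟨e, he⟩ := hw'
            have : w = f y ^ e := by
              have h4 : w = (f x)⁻¹ * (f y ^ e) * f x := by rw [show f y ^ e = f x * w * (f x)⁻¹ from he]; group
              rw [h4, mul_assoc, ← (hfc.zpow_right e).eq, inv_mul_cancel_left]
            exact this ▸ ⟨e, rfl⟩))
        have hZc : Nat.card Z1 = p := (Nat.card_zpowers z).trans hzo
        rw [h1, pow_succ', hZc]
        refine mul_dvd_mul_left _ ((Dvd.intro _ h3).trans ?_)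
        rw [pow_two]
        exact mul_dvd_mul (h2 x) (h2 y)
      obtain ⟨k, hk⟩ := IsPGroup.iff_card.mp (hS.to_subgroup K)
      rw [hk] at hKcard
      have hk3 : k ≤ 3 := Nat.pow_dvd_pow_iff_le_right hp.one_lt |>.mp hKcard
      obtain ⟨E', hE'⟩ := Sylow.exists_subgroup_card_pow_prime (G := S) p (n := 3)
        (h3.trans A.card_subgroup_dvd_card)
      -- enlarge `K` to order `p ^ 3`
      obtain ⟨K', hK', hKK'⟩ := Sylow.exists_subgroup_card_pow_prime_le p (G := S) (n := k) (m := 3)
        (h3.trans A.card_subgroup_dvd_card) K hk hk3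
      obtain ⟨e⟩ := hiso K' (E.map A.subtype) (by
        rw [hK', ← Nat.card_congr (E.equivMapOfInjective _ A.subtype_injective).toEquiv, hE])
      have hxK : x ∈ K' := hKK' (Subgroup.mem_sup_left (Subgroup.mem_zpowers (f x)))
      have hyK : y ∈ K' := hKK' (Subgroup.mem_sup_right (Subgroup.mem_zpowers (f y)))
      refine hxy (commutatorElement_eq_one_iff_mul_comm.mpr ?_)
      have h4 : (⟨x, hxK⟩ : K') * ⟨y, hyK⟩ = ⟨y, hyK⟩ * ⟨x, hxK⟩ := by
        apply e.injective
        rw [map_mul, map_mul]
        exact Subtype.ext (hAcomm _ (Subgroup.map_subtype_le _ (e _).2) _ (Subgroup.map_subtype_le _ (e _).2))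
      exact congrArg Subtype.val h4
    have hc1 : c = 1 := by omega
    -- `A` has index `p`
    obtain ⟨u, hu, huZ⟩ := SetLike.exists_of_lt (lt_of_le_of_ne hZA hAZ.symm)
    have hcommA : ∀ x : S, ⁅x, u⁆ ∈ Subgroup.center S := by
      intro x
      set D := ⁅(⊤ : Subgroup S), A⁆ with hD
      have hAne' : A ≠ ⊥ := fun h => by rw [h] at hu; exact huZ (by rw [Subgroup.mem_bot.mp hu]; exact one_mem _)
      have hlt := CfsgLib.PGroups.commutator_top_lt hS hAne'
      rw [Subgroup.commutator_comm] at hlt
      rcases eq_or_ne D ⊥ with hb | hb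
      · have := Subgroup.commutator_mem_commutator (Subgroup.mem_top x) hu
        rw [← hD, hb, Subgroup.mem_bot] at this
        rw [this]; exact one_mem _
      · have hi := CfsgLib.PGroups.inf_center_ne_bot hS (N := D) hb
        obtain ⟨d, hd⟩ := IsPGroup.iff_card.mp (hS.to_subgroup D)
        have h1 : Nat.card D < Nat.card A :=
          lt_of_le_of_ne (Subgroup.card_le_of_le hlt.le) fun h =>
            hlt.ne (Subgroup.eq_of_le_of_card_ge hlt.le h.ge)
        rw [hd, ha, ha2] at h1
        have hd2 : d < 2 := (Nat.pow_lt_pow_iff_right hp.one_lt).mp h1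
        have hDle : D ⊓ Subgroup.center S = D := by
          refine Subgroup.eq_of_le_of_card_ge inf_le_left ?_
          rw [hd]
          refine le_trans (Nat.pow_le_pow_right hp.pos (by omega : d ≤ 1)) ?_
          rw [pow_one]
          exact Nat.le_of_dvd Nat.card_pos (CfsgLib.PGroups.dvd_card_of_ne_bot hS hi)
        exact (inf_eq_left.mp hDle) (Subgroup.commutator_mem_commutator (Subgroup.mem_top x) hu)
    have hinj : Nat.card (S ⧸ A) ≤ Nat.card (Subgroup.center S) := by
      have hAcen : ∀ w : S, ⁅w, u⁆ = 1 → w ∈ A := by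
        intro w hw
        have hwu := commutatorElement_eq_one_iff_mul_comm.mp hw
        rw [← hAC]
        -- `A` is generated by `u` and the centre
        have hgen : Subgroup.center S ⊔ Subgroup.zpowers u = A := by
          refine Subgroup.eq_of_le_of_card_ge (sup_le hZA (Subgroup.zpowers_le.mpr hu)) ?_
          obtain ⟨m, hm⟩ := IsPGroup.iff_card.mp
            (hS.to_subgroup (Subgroup.center S ⊔ Subgroup.zpowers u))
          have hlt' : Subgroup.center S < Subgroup.center S ⊔ Subgroup.zpowers u :=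
            lt_of_le_of_ne le_sup_left fun h => huZ (h ▸ Subgroup.mem_sup_right (Subgroup.mem_zpowers u))
          have h1 : Nat.card (Subgroup.center S) < Nat.card (Subgroup.center S ⊔ Subgroup.zpowers u : Subgroup S) :=
            lt_of_le_of_ne (Subgroup.card_le_of_le hlt'.le) fun h =>
              hlt'.ne (Subgroup.eq_of_le_of_card_ge hlt'.le h.ge)
          rw [hc, hc1, hm] at h1
          rw [hm, ha, ha2]
          exact Nat.pow_le_pow_right hp.pos ((Nat.pow_lt_pow_iff_right hp.one_lt).mp h1)
        rw [← hgen]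
        refine Subgroup.mem_centralizer_iff.mpr fun v hv => ?_
        have : w ∈ Subgroup.centralizer ({u} : Set S) := Subgroup.mem_centralizer_singleton_iff.mpr hwu
        have h2 : Subgroup.center S ⊔ Subgroup.zpowers u ≤ Subgroup.centralizer ({w} : Set S) :=
          sup_le (Subgroup.center_le_centralizer _) (Subgroup.zpowers_le.mpr
            (Subgroup.mem_centralizer_singleton_iff.mpr hwu.symm))
        exact Subgroup.mem_centralizer_singleton_iff.mp (h2 hv)
      refine Nat.card_le_card_of_injective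
        (fun q => (⟨⁅q.out, u⁆, hcommA _⟩ : Subgroup.center S)) ?_
      intro q₁ q₂ h
      rw [← q₁.out_eq', ← q₂.out_eq']
      refine QuotientGroup.eq.mpr ?_
      apply hAcen
      have h1 := congrArg Subtype.val h
      simp only [commutatorElement_def] at h1 ⊢
      have h2 : q₁.out * u * q₁.out⁻¹ = q₂.out * u * q₂.out⁻¹ := mul_right_cancel h1
      have h3 : q₂.out * u * q₂.out⁻¹ = q₁.out * u * q₁.out⁻¹ := h2.symm
      calc q₁.out⁻¹ * q₂.out * u * (q₁.out⁻¹ * q₂.out)⁻¹ * u⁻¹
          = q₁.out⁻¹ * (q₂.out * u * q₂.out⁻¹) * q₁.out * u⁻¹ := by group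
        _ = 1 := by rw [h3]; group
    refine ⟨?_, ?_⟩
    · have h1 := A.card_mul_index
      rw [Subgroup.index_eq_card, ha, ha2, hn] at h1
      rw [hc, hc1] at hinj
      have hn3 : n ≤ 3 := by
        refine (Nat.pow_le_pow_iff_right hp.one_lt).mp ?_
        rw [← h1, pow_succ p 2]
        exact Nat.mul_le_mul_left _ (by simpa using hinj)
      have hn2 : 2 < n := by
        have h2 : Nat.card A < Nat.card S :=
          lt_of_le_of_ne (Subgroup.card_le_card_group A) fun h => hAne (Subgroup.eq_top_of_card_eq _ h)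
        rw [ha, ha2, hn] at h2
        exact (Nat.pow_lt_pow_iff_right hp.one_lt).mp h2
      show Nat.card S = p ^ 3
      rw [hn, show n = 3 by omega]
    · show Monoid.exponent S = p
      refine (Nat.dvd_prime hp).mp (Monoid.exponent_dvd_of_forall_pow_eq_one hall) |>.resolve_left ?_
      intro h
      rw [Monoid.exp_eq_one_iff] at h
      exact hcomm fun a b => Subsingleton.elim _ _
  -- an element of order at least `p ^ 2`
  push Not at hall
  obtain ⟨x, hx⟩ := hall
  obtain ⟨j, hj⟩ := IsPGroup.iff_orderOf.mp hS x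
  have hj2 : 2 ≤ j := by
    by_contra h
    refine hx (orderOf_dvd_iff_pow_eq_one.mp ?_)
    rw [hj]
    exact (pow_dvd_pow p (by omega : j ≤ 1)).trans (by rw [pow_one])
  haveI : Nontrivial S := ⟨⟨x, 1, fun h => hx (by rw [h, one_pow])⟩⟩
  obtain ⟨z₀, hz₀⟩ : ∃ z : Subgroup.center S, orderOf z = p := by
    haveI := hS.center_nontrivial
    obtain ⟨c, hc⟩ := IsPGroup.iff_card.mp (hS.to_subgroup (Subgroup.center S))
    refine exists_prime_orderOf_dvd_card' p ?_
    rw [hc]
    refine dvd_pow_self p fun h => ?_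
    have := Finite.one_lt_card (α := Subgroup.center S)
    rw [hc, h, pow_zero] at this; exact lt_irrefl _ this
  rw [← Subgroup.orderOf_coe] at hz₀
  have hzp : (z₀ : S) ^ p = 1 := hz₀ ▸ pow_orderOf_eq_one _
  have huniq : ∀ y : S, y ^ p = 1 → y ∈ Subgroup.zpowers (z₀ : S) := by
    intro y hy
    by_contra hyz
    set E := Subgroup.zpowers y ⊔ Subgroup.zpowers (z₀ : S) with hE
    haveI : (Subgroup.zpowers (z₀ : S)).Normal :=
      CfsgLib.PGroups.normal_of_le_center (Subgroup.zpowers_le.mpr z₀.2)
    have hy1 : y ≠ 1 := fun h => hyz (h ▸ one_mem _)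
    have hEp : ∀ e ∈ E, e ^ p = 1 := by
      intro e he
      have he' : e ∈ (↑(Subgroup.zpowers y ⊔ Subgroup.zpowers (z₀ : S)) : Set S) := he
      rw [Subgroup.mul_normal] at he'
      obtain ⟨a, ⟨i, rfl⟩, b, ⟨k, rfl⟩, rfl⟩ := he'
      show ((y ^ i) * ((z₀ : S) ^ k)) ^ p = 1
      have hcz : Commute y (z₀ : S) := (Subgroup.mem_center_iff.mp z₀.2 y)
      rw [((hcz.zpow_zpow i k)).mul_pow, ← zpow_natCast, ← zpow_mul, mul_comm i, zpow_mul,
        zpow_natCast, hy, one_zpow, one_mul, ← zpow_natCast, ← zpow_mul, mul_comm k, zpow_mul,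
        zpow_natCast, hzp, one_zpow]
    obtain ⟨e, he⟩ := IsPGroup.iff_card.mp (hS.to_subgroup E)
    have he2 : 2 ≤ e := by
      have h1 : Subgroup.zpowers (z₀ : S) < E :=
        lt_of_le_of_ne le_sup_right fun h => hyz (h ▸ Subgroup.mem_sup_left (Subgroup.mem_zpowers y))
      have h2 : Nat.card (Subgroup.zpowers (z₀ : S)) < Nat.card E :=
        lt_of_le_of_ne (Subgroup.card_le_of_le h1.le) fun h =>
          h1.ne (Subgroup.eq_of_le_of_card_ge h1.le h.ge)
      rw [Nat.card_zpowers, hz₀, he] at h2
      by_contra hlt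
      have := Nat.pow_le_pow_right hp.pos (by omega : e ≤ 1)
      rw [pow_one] at this
      omega
    obtain ⟨E₂, hE₂⟩ := Sylow.exists_subgroup_card_pow_prime (G := E) p (n := 2) (he ▸ pow_dvd_pow p he2)
    set w := x ^ p ^ (j - 2) with hw
    have hwo : orderOf w = p ^ 2 := by
      rw [hw, orderOf_pow, hj, Nat.gcd_eq_right (pow_dvd_pow p (Nat.sub_le j 2)),
        Nat.pow_div (Nat.sub_le j 2) hp.pos]
      congr 1; omega
    have h1 := hexp (E₂.map E.subtype) (Subgroup.zpowers w) (by
        rw [← Nat.card_congr (E₂.equivMapOfInjective _ E.subtype_injective).toEquiv, hE₂,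
          Nat.card_zpowers, hwo])
      (fun e he => hEp e (Subgroup.map_subtype_le _ he)) w (Subgroup.mem_zpowers w)
    have h2 := orderOf_dvd_of_pow_eq_one h1
    rw [hwo] at h2
    have h3 := Nat.le_of_dvd hp.pos h2
    have := hp.two_le
    nlinarith
  rcases CfsgLib.PGroups.isCyclic_or_quaternion_of_unique hS hzp huniq with h | ⟨hp2, n, hn1, ⟨φ⟩⟩
  · exact Or.inl h
  refine Or.inr (Or.inr (Or.inl ⟨hp2, ?_⟩))
  rcases hn1.eq_or_lt with rfl | hn2
  · exact ⟨φ⟩
  exfalso
  subst hp2
  set m := 2 ^ n with hm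
  have hm4 : 4 ≤ m := by
    rw [hm]; exact le_trans (by norm_num) (Nat.pow_le_pow_right two_pos (hn2 : 2 ≤ n))
  haveI : NeZero m := ⟨by omega⟩
  set a₁ := φ.symm (QuaternionGroup.a 1) with ha₁
  set b := φ.symm (QuaternionGroup.xa 0) with hb
  have ha₁o : orderOf a₁ = 2 * m := by rw [ha₁, φ.symm.orderOf_eq, QuaternionGroup.orderOf_a_one]
  have hbo : orderOf b = 4 := by rw [hb, φ.symm.orderOf_eq, QuaternionGroup.orderOf_xa]
  have hcardS : Nat.card S = 4 * m := by
    rw [Nat.card_congr φ.toEquiv, Nat.card_eq_fintype_card, QuaternionGroup.card]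
  have hbtop : Subgroup.zpowers b ≠ ⊤ := fun h => by
    have h1 := Nat.card_zpowers b
    rw [h, Subgroup.card_top, hcardS, hbo] at h1
    omega
  obtain ⟨M, hM, hbM⟩ : ∃ M : Subgroup S, IsCoatom M ∧ Subgroup.zpowers b ≤ M :=
    (eq_top_or_exists_le_coatom _).resolve_left hbtop
  have hMcard : Nat.card M = 2 * m := by
    have h1 := M.card_mul_index
    rw [CfsgLib.PGroups.index_eq_of_isCoatom hS hM, hcardS] at h1
    omega
  obtain ⟨e⟩ := hiso (Subgroup.zpowers a₁) M (by rw [Nat.card_zpowers, ha₁o, hMcard])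
  haveI : IsCyclic M := isCyclic_of_surjective e e.surjective
  obtain ⟨y, hy⟩ := IsCyclic.exists_generator (α := M)
  have hyo : orderOf (y : S) = 2 * m := by
    rw [Subgroup.orderOf_coe, orderOf_eq_card_of_forall_mem_zpowers hy, hMcard]
  obtain ⟨t, ht⟩ := Subgroup.mem_zpowers_iff.mp (hy ⟨b, hbM (Subgroup.mem_zpowers b)⟩)
  have hbt : b = (y : S) ^ t := by
    rw [← Subgroup.coe_zpow, ht]
  cases hcase : φ (y : S) with
  | xa i =>
    have h1 : orderOf (φ (y : S)) = 2 * m := by rw [φ.orderOf_eq, hyo]
    rw [hcase, QuaternionGroup.orderOf_xa] at h1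
    omega
  | a i =>
    have h1 : φ b = QuaternionGroup.a 1 ^ ((i.val : ℤ) * t) := by
      rw [hbt, map_zpow, hcase, zpow_mul, zpow_natCast, QuaternionGroup.a_one_pow,
        ZMod.natCast_zmod_val]
    rw [hb, φ.apply_symm_apply] at h1
    have h2 : QuaternionGroup.xa (0 : ZMod (2 * m)) ∈ Subgroup.zpowers (QuaternionGroup.a (1 : ZMod (2 * m))) :=
      h1 ▸ Subgroup.zpow_mem_zpowers _ _
    obtain ⟨k, hk⟩ := mem_powers_iff_mem_zpowers.mpr h2
    simp only [QuaternionGroup.a_one_pow] at hk
    cases hk

end Cfsg.Agent.S4023
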