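import Cfsg.Statements.S4024
import Mathlib
import Cfsg.Agent.Lib.PLocal.PSolvable
import Cfsg.Agent.Lib.PGroups.UniqueOrderP
import Cfsg.Agent.Lib.Base.Cores

set_option autoImplicit false
set_option linter.style.haveILetI false
open Cfsg

namespace Cfsg.Agent.S4024

variable {G : Type*} [Group G] [Finite G] {p : ℕ} [hp : Fact p.Prime]

/-- If the `p`-subgroups of equal order are conjugate, a normal `p`-solvable subgroup of order
divisible by `p` of a group without `p'`-core forces the Sylow subgroups to be cyclic or elementary. -/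
theorem main_bot (hp2 : p ≠ 2)
    (hC : ∀ H K : Subgroup G, IsPGroup p H → IsPGroup p K → Nat.card H = Nat.card K →
      ∃ g : G, K = H.map (MulAut.conj g).toMonoidHom) (P : Sylow p G)
    (H : Subgroup G) [hH : H.Normal] (hsolv : Cfsg.IsPSolvable p H) (hdiv : p ∣ Nat.card H)
    (hO : Cfsg.pPrimeCore p G = ⊥) : IsMulCommutative P := by
  classical
  have hpp := hp.out
  have hOH : Cfsg.pPrimeCore p H = ⊥ := by
    have h := CfsgLib.Base.map_pPrimeCore_eq_inf (p := p) H
    rw [hO, bot_inf_eq] at h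
    exact (Subgroup.map_eq_bot_iff_of_injective _ H.subtype_injective).mp h
  have hV0 : Cfsg.pCore p H ≠ ⊥ := by
    intro h
    have hc := CfsgLib.PLocal.centralizer_pCore_le hsolv hOH
    rw [h] at hc
    have h1 : (⊤ : Subgroup H) ≤ ⊥ := le_trans (fun x _ => Subgroup.mem_centralizer_iff.mpr fun y hy => by
      rw [Subgroup.mem_bot.mp hy, one_mul, mul_one]) hc
    have h2 : Nat.card H = 1 := by
      rw [← Subgroup.card_top, top_le_iff.mp (by rwa [top_le_iff] at * : (⊤ : Subgroup H) ≤ ⊥) |>.symm, Subgroup.card_bot]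
    rw [h2] at hdiv
    exact hpp.one_lt.ne' (Nat.dvd_one.mp hdiv)
  set V := (Cfsg.pCore p H).map H.subtype with hV
  haveI hVn : V.Normal := by
    haveI := CfsgLib.Base.pCore_characteristic p H
    rw [hV]; infer_instance
  have hVp : IsPGroup p V := (CfsgLib.Base.isPGroup_pCore p H).map _
  set Z := V ⊓ Subgroup.centralizer (V : Set G) with hZ
  have hZc : ∀ a ∈ Z, ∀ b ∈ Z, a * b = b * a := fun a ha b hb =>
    Subgroup.mem_centralizer_iff.mp hb.2 a ha.1
  -- the elements of order dividing `p` of the centre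
  let W : Subgroup G :=
    { carrier := {z | z ∈ Z ∧ z ^ p = 1}
      one_mem' := ⟨one_mem _, one_pow p⟩
      mul_mem' := fun {a b} ha hb => ⟨mul_mem ha.1 hb.1, by
        rw [(show Commute a b from hZc a ha.1 b hb.1).mul_pow, ha.2, hb.2, one_mul]⟩
      inv_mem' := fun {a} ha => ⟨inv_mem ha.1, by rw [inv_pow, ha.2, inv_one]⟩ }
  haveI hWn : W.Normal := ⟨fun a ha g => ⟨(inferInstance : Z.Normal).conj_mem a ha.1 g, by
    rw [conj_pow, ha.2, mul_one, mul_inv_cancel]⟩⟩
  have hWp : IsPGroup p W := IsPGroup.to_le hVp fun a ha => ha.1.1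
  obtain ⟨z, hzW, hzo⟩ : ∃ z ∈ W, orderOf z = p := by
    haveI : Nontrivial V := (Subgroup.nontrivial_iff_ne_bot V).mpr fun h =>
      hV0 ((Subgroup.map_eq_bot_iff_of_injective _ H.subtype_injective).mp h)
    haveI : Nontrivial (Subgroup.center V) := hVp.center_nontrivial
    obtain ⟨n, hn0, hn⟩ := (hVp.to_subgroup (Subgroup.center V)).nontrivial_iff_card.mp inferInstance
    obtain ⟨c, hc⟩ := exists_prime_orderOf_dvd_card' (G := Subgroup.center V) p (hn ▸ dvd_pow_self p (by omega))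
    refine ⟨((c : V) : G), ⟨⟨(c : V).2, Subgroup.mem_centralizer_iff.mpr fun y hy => ?_⟩, ?_⟩, ?_⟩
    · exact congrArg Subtype.val (Subgroup.mem_center_iff.mp c.2 ⟨y, hy⟩)
    · rw [← hc, ← Subgroup.orderOf_coe c, ← Subgroup.orderOf_coe (c : V), pow_orderOf_eq_one]
    · rw [Subgroup.orderOf_coe, Subgroup.orderOf_coe, hc]
  -- so every element of order `p` lies in `W`
  have hall : ∀ y : G, y ^ p = 1 → y ∈ W := by
    intro y hy
    by_cases hy1 : y = 1
    · rw [hy1]; exact W.one_mem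
    have hyo := orderOf_eq_prime hy hy1
    have hcy : Nat.card (Subgroup.zpowers y) = p ^ 1 := by rw [Nat.card_zpowers, hyo, pow_one]
    have hcz : Nat.card (Subgroup.zpowers z) = p ^ 1 := by rw [Nat.card_zpowers, hzo, pow_one]
    obtain ⟨g, hg⟩ := hC _ _ (IsPGroup.of_card hcz) (IsPGroup.of_card hcy) (hcz.trans hcy.symm)
    have h1 : y ∈ (Subgroup.zpowers z).map (MulAut.conj g).toMonoidHom := hg ▸ Subgroup.mem_zpowers y
    obtain ⟨u, hu, rfl⟩ := h1
    exact hWn.conj_mem u (Subgroup.zpowers_le.mpr hzW hu) g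
  obtain ⟨r, hr⟩ := IsPGroup.iff_card.mp hWp
  have huniq : ∀ K : Subgroup G, IsPGroup p K → Nat.card K = p ^ r → K = W := by
    intro K hK hKc
    obtain ⟨g, hg⟩ := hC _ _ hWp hK (hr.trans hKc.symm)
    rw [hg]
    ext v
    constructor
    · rintro ⟨u, hu, rfl⟩; exact hWn.conj_mem u hu g
    · intro hv
      exact ⟨g⁻¹ * v * g, by simpa using hWn.conj_mem v hv g⁻¹, by simp [mul_assoc]⟩
  have hWP : W ≤ (P : Subgroup G) := hWp.le_sylow_of_normal P
  by_cases hPW : (P : Subgroup G) ≤ W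
  · exact ⟨⟨fun a b => Subtype.ext (hZc a (hPW a.2).1 b (hPW b.2).1)⟩⟩
  have hr1 : r ≤ 1 := by
    by_contra hr1
    obtain ⟨a, haP, haW⟩ := SetLike.not_le_iff_exists.mp hPW
    obtain ⟨k, hk⟩ := IsPGroup.iff_orderOf.mp P.2 ⟨a, haP⟩
    rw [Subgroup.orderOf_mk] at hk
    -- some power of `a` has order `p ^ 2`
    have hk2 : 2 ≤ k := by
      by_contra h
      exact haW (hall a (orderOf_dvd_iff_pow_eq_one.mp (hk ▸ (pow_dvd_pow p (by omega : k ≤ 1)).trans (dvd_of_eq (pow_one p)))))
    set x := a ^ p ^ (k - 2) with hx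
    have hxo : orderOf x = p ^ 2 := by
      rw [hx, orderOf_pow, hk, Nat.gcd_eq_right (pow_dvd_pow p (Nat.sub_le k 2)),
        Nat.pow_div (Nat.sub_le k 2) hpp.pos, show k - (k - 2) = 2 by omega]
    have hxW : x ∉ W := fun h => by
      have h1 := orderOf_dvd_iff_pow_eq_one.mpr h.2
      rw [hxo] at h1
      have := Nat.le_of_dvd hpp.pos h1
      nlinarith [hpp.two_le]
    set X := W ⊔ Subgroup.zpowers x with hX
    have hXP : X ≤ (P : Subgroup G) := sup_le hWP (Subgroup.zpowers_le.mpr (pow_mem haP _))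
    have hXp : IsPGroup p X := P.2.to_le hXP
    obtain ⟨e, he⟩ := IsPGroup.iff_card.mp hXp
    have hre : r ≤ e := by
      rw [← Nat.pow_le_pow_iff_right hpp.one_lt, ← hr, ← he]
      exact Nat.le_of_dvd Nat.card_pos (Subgroup.card_dvd_of_le le_sup_left)
    have hxc : Nat.card ((Subgroup.zpowers x).subgroupOf X) = p ^ 2 := by
      rw [Nat.card_congr (Subgroup.subgroupOfEquivOfLe le_sup_right).toEquiv, Nat.card_zpowers, hxo]
    obtain ⟨K, hKc, hKx⟩ := Sylow.exists_subgroup_card_pow_prime_le p (n := 2) (m := r)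
      (he ▸ pow_dvd_pow p hre) _ hxc (by omega)
    have hKc' : Nat.card (K.map X.subtype) = p ^ r := by
      rw [← hKc]; exact (Nat.card_congr (K.equivMapOfInjective _ X.subtype_injective).toEquiv).symm
    refine hxW ((huniq _ (IsPGroup.of_card hKc') hKc') ▸ ?_)
    exact ⟨⟨x, Subgroup.mem_sup_right (Subgroup.mem_zpowers x)⟩,
      hKx (Subgroup.mem_zpowers x), rfl⟩
  have hzP : z ∈ (P : Subgroup G) := hWP hzW
  have hWz : Subgroup.zpowers z = W := by
    refine Subgroup.eq_of_le_of_card_ge (Subgroup.zpowers_le.mpr hzW) ?_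
    rw [Nat.card_zpowers, hzo, hr]
    exact (Nat.pow_le_pow_right hpp.pos hr1).trans_eq (pow_one p)
  rcases CfsgLib.PGroups.isCyclic_or_quaternion_of_unique P.2 (z := ⟨z, hzP⟩)
    (Subtype.ext hzW.2) (fun y hy => by
      have h1 := hall y (congrArg Subtype.val hy)
      rw [← hWz, Subgroup.mem_zpowers_iff] at h1
      obtain ⟨i, hi⟩ := h1
      exact Subgroup.mem_zpowers_iff.mpr ⟨i, Subtype.ext (by simpa using hi)⟩) with hc | ⟨h2, -⟩
  · letI : CommGroup P := hc.commGroup
    exact ⟨⟨mul_comm⟩⟩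
  · exact absurd h2 hp2


/-- Let p be an odd prime and G a finite group in which any two p-subgroups of the same order are conjugate, with Sylow p-subgroup P. If H is a normal p-solvable subgroup of G whose order is divisible by p, then P is abelian, and either P ≤ H or P is cyclic. -/
theorem result {G : Type*} [Group G] [Finite G]
    {p : ℕ} [Fact p.Prime] (hp : p ≠ 2) (hC : ∀ H K : Subgroup G, IsPGroup p H → IsPGroup p K → Nat.card H = Nat.card K →
      ∃ g : G, K = H.map (MulAut.conj g).toMonoidHom) (P : Sylow p G)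
    (H : Subgroup G) [H.Normal] (hsolv : Cfsg.IsPSolvable p H) (hdiv : p ∣ Nat.card H) :
    IsMulCommutative P ∧ ((P : Subgroup G) ≤ H ∨ IsCyclic P) := by
  classical
  have hpp := Fact.out (p := p.Prime)
  by_cases hPH : (P : Subgroup G) ≤ H
  · refine ⟨?_, Or.inl hPH⟩
    set M := Cfsg.pPrimeCore p G with hM
    set f := QuotientGroup.mk' M with hf
    have hfs : Function.Surjective f := QuotientGroup.mk'_surjective M
    have hinj : ∀ {K : Subgroup G}, IsPGroup p K → Function.Injective (f.subgroupMap K) := by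
      intro K hK
      rw [← MonoidHom.ker_eq_bot_iff, eq_bot_iff]
      intro x hx
      have h1 : (x : G) ∈ K ⊓ M := ⟨x.2, (QuotientGroup.eq_one_iff _).mp (congrArg Subtype.val hx)⟩
      rw [CfsgLib.Base.inf_eq_bot_of_isPGroup_of_coprime hK (CfsgLib.Base.pPrimeCore_coprime p G)] at h1
      exact Subtype.ext h1
    have hlift : ∀ K : Subgroup (G ⧸ M), IsPGroup p K →
        ∃ T : Subgroup G, IsPGroup p T ∧ T.map f = K ∧ Nat.card T = Nat.card K := by
      intro K hK
      let T₀ : Sylow p (K.comap f) := default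
      set g := f.subgroupComap K with hg
      have hgs : Function.Surjective g := f.subgroupComap_surjective_of_surjective K hfs
      have htop : ((T₀.mapSurjective hgs : Sylow p K) : Subgroup K) = ⊤ :=
        ((T₀.mapSurjective hgs).3 (hK.of_equiv Subgroup.topEquiv.symm) le_top).symm
      have hT := T₀.2.map (K.comap f).subtype
      refine ⟨(T₀ : Subgroup (K.comap f)).map (K.comap f).subtype, hT, ?_, ?_⟩
      · rw [Subgroup.map_map]
        have h1 : f.comp (K.comap f).subtype = K.subtype.comp g := rfl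
        rw [h1, ← Subgroup.map_map]
        rw [Sylow.coe_mapSurjective] at htop
        rw [htop, ← MonoidHom.range_eq_map, Subgroup.range_subtype]
      · have h2 : ((T₀ : Subgroup (K.comap f)).map (K.comap f).subtype).map f = K := by
          rw [Subgroup.map_map]
          have h1 : f.comp (K.comap f).subtype = K.subtype.comp g := rfl
          rw [h1, ← Subgroup.map_map]
          rw [Sylow.coe_mapSurjective] at htop
          rw [htop, ← MonoidHom.range_eq_map, Subgroup.range_subtype]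
        rw [Nat.card_congr (Equiv.ofBijective _ ⟨hinj hT, f.subgroupMap_surjective _⟩), h2]
    have hCq : ∀ A B : Subgroup (G ⧸ M), IsPGroup p A → IsPGroup p B → Nat.card A = Nat.card B →
        ∃ g : G ⧸ M, B = A.map (MulAut.conj g).toMonoidHom := by
      intro A B hA hB hAB
      obtain ⟨T, hT, hTA, hTc⟩ := hlift A hA
      obtain ⟨U, hU, hUB, hUc⟩ := hlift B hB
      obtain ⟨g, hg⟩ := hC T U hT hU (by rw [hTc, hAB, hUc])
      refine ⟨f g, ?_⟩
      rw [← hUB, hg, ← hTA, Subgroup.map_map, Subgroup.map_map]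
      rfl
    haveI : (H.map f).Normal := Subgroup.Normal.map inferInstance f hfs
    have hd : p ∣ Nat.card (H.map f) := by
      obtain ⟨x, hx⟩ := exists_prime_orderOf_dvd_card' (G := H) p hdiv
      rw [← Subgroup.orderOf_coe] at hx
      have hX : IsPGroup p (Subgroup.zpowers (x : G)) := IsPGroup.of_card (n := 1) (by
        rw [Nat.card_zpowers, hx, pow_one])
      have h1 := Subgroup.card_dvd_of_le (Subgroup.map_mono (f := f) (Subgroup.zpowers_le.mpr x.2))
      rwa [← Nat.card_congr (Equiv.ofBijective _ ⟨hinj hX, f.subgroupMap_surjective _⟩),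
        Nat.card_zpowers, hx] at h1
    have hbot : Cfsg.pPrimeCore p (G ⧸ M) = ⊥ := CfsgLib.Base.pPrimeCore_quotient_pPrimeCore p G
    have hcomm := main_bot hp hCq (P.mapSurjective hfs) (H.map f)
      (CfsgLib.PLocal.isPSolvable_map f hsolv) hd hbot
    rw [Sylow.coe_mapSurjective] at hcomm
    refine ⟨⟨fun a b => hinj P.2 ?_⟩⟩
    rw [map_mul, map_mul]
    exact hcomm.is_comm.comm _ _
  -- otherwise `P` is cyclic
  set Q := (P : Subgroup G) ⊓ H with hQ
  have hQp : IsPGroup p Q := P.2.to_le inf_le_left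
  obtain ⟨q, hq⟩ := IsPGroup.iff_card.mp hQp
  have hsub : ∀ K : Subgroup G, IsPGroup p K → ∀ j, Nat.card K = p ^ j → j ≤ q → K ≤ H := by
    intro K hK j hj hjq
    obtain ⟨T, hT⟩ := Sylow.exists_subgroup_card_pow_prime p (n := j) (hq ▸ pow_dvd_pow p hjq : p ^ j ∣ Nat.card Q)
    have hTc : Nat.card (T.map Q.subtype) = p ^ j := by
      rw [← hT]; exact (Nat.card_congr (T.equivMapOfInjective _ Q.subtype_injective).toEquiv).symm
    obtain ⟨g, hg⟩ := hC _ K (IsPGroup.of_card hTc) hK (hTc.trans hj.symm)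
    rw [hg]
    rintro _ ⟨u, ⟨v, -, rfl⟩, rfl⟩
    exact (inferInstance : H.Normal).conj_mem _ v.2.2 g
  have hq1 : 1 ≤ q := by
    obtain ⟨y, hy⟩ := exists_prime_orderOf_dvd_card' (G := H) p hdiv
    rw [← Subgroup.orderOf_coe] at hy
    obtain ⟨P₁, hP₁⟩ := (IsPGroup.of_card (n := 1) (G := Subgroup.zpowers (y : G)) (by
      rw [Nat.card_zpowers, hy, pow_one])).exists_le_sylow
    obtain ⟨g, hg⟩ := MulAction.exists_smul_eq G P P₁
    by_contra h
    have hq0 : q = 0 := by omega
    rw [hq0, pow_zero, Subgroup.card_eq_one] at hq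
    have h1 : (y : G) ∈ (P₁ : Subgroup G) := hP₁ (Subgroup.mem_zpowers _)
    rw [← hg, Sylow.coe_subgroup_smul, Subgroup.mem_pointwise_smul_iff_inv_smul_mem] at h1
    have h2 : g⁻¹ * (y : G) * g ∈ Q :=
      ⟨by simp [MulAut.smul_def, mul_assoc] at h1 ⊢; exact h1, by
        simpa using (inferInstance : H.Normal).conj_mem _ y.2 g⁻¹⟩
    rw [hq, Subgroup.mem_bot] at h2
    have h3 : (y : G) = 1 := by
      calc (y : G) = g * (g⁻¹ * y * g) * g⁻¹ := by group
        _ = 1 := by rw [h2]; group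
    rw [h3, orderOf_one] at hy
    exact hpp.one_lt.ne hy
  obtain ⟨a, haP, haH⟩ := SetLike.not_le_iff_exists.mp hPH
  -- the last power of `a` outside `H`
  obtain ⟨x, hxP, hxH, hxpH⟩ : ∃ x ∈ (P : Subgroup G), x ∉ H ∧ x ^ p ∈ H := by
    obtain ⟨k, hk⟩ := IsPGroup.iff_orderOf.mp P.2 ⟨a, haP⟩
    rw [Subgroup.orderOf_mk] at hk
    have hex : ∃ j, a ^ p ^ j ∈ H := ⟨k, by rw [← hk, pow_orderOf_eq_one]; exact one_mem _⟩
    have h0 : Nat.find hex ≠ 0 := fun h => haH (by simpa [h] using Nat.find_spec hex)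
    refine ⟨a ^ p ^ (Nat.find hex - 1), pow_mem haP _, Nat.find_min hex (by omega), ?_⟩
    rw [← pow_mul, ← pow_succ, show Nat.find hex - 1 + 1 = Nat.find hex by omega]
    exact Nat.find_spec hex
  obtain ⟨e, he⟩ := IsPGroup.iff_orderOf.mp P.2 ⟨x, hxP⟩
  rw [Subgroup.orderOf_mk] at he
  have heq : q < e := by
    by_contra h
    exact hxH (hsub _ (IsPGroup.of_card (n := e) (by rw [Nat.card_zpowers, he])) e
      (by rw [Nat.card_zpowers, he]) (by omega) (Subgroup.mem_zpowers x))
  have hxQ : Subgroup.zpowers (x ^ p) = Q := by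
    refine Subgroup.eq_of_le_of_card_ge (Subgroup.zpowers_le.mpr ⟨pow_mem hxP p, hxpH⟩) ?_
    rw [hq, Nat.card_zpowers, orderOf_pow, he, Nat.gcd_eq_right (dvd_pow_self p (by omega))]
    calc p ^ q ≤ p ^ (e - 1) := Nat.pow_le_pow_right hpp.pos (by omega)
      _ = p ^ e / p := by rw [show e = e - 1 + 1 by omega, pow_succ, Nat.mul_div_cancel _ hpp.pos]; simp
  set z := x ^ p ^ (e - 1) with hz
  have hzo : orderOf z = p := by
    rw [hz, orderOf_pow, he, Nat.gcd_eq_right (pow_dvd_pow p (Nat.sub_le e 1)),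
      Nat.pow_div (Nat.sub_le e 1) hpp.pos, show e - (e - 1) = 1 by omega, pow_one]
  have hcyc : IsCyclic P := by
    refine Or.resolve_right (CfsgLib.PGroups.isCyclic_or_quaternion_of_unique P.2 (z := ⟨z, pow_mem hxP _⟩)
      (Subtype.ext (by simp only [SubmonoidClass.coe_pow, OneMemClass.coe_one]; rw [← hzo, pow_orderOf_eq_one]))
      (fun y hy => ?_)) (fun h => hp h.1)
    have hy' : (y : G) ^ p = 1 := congrArg Subtype.val hy
    by_cases hy1 : (y : G) = 1
    · rw [show y = 1 from Subtype.ext hy1]; exact one_mem _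
    have hyo := orderOf_eq_prime hy' hy1
    have hyH : (y : G) ∈ H := hsub _ (IsPGroup.of_card (n := 1) (by rw [Nat.card_zpowers, hyo, pow_one])) 1
      (by rw [Nat.card_zpowers, hyo, pow_one]) hq1 (Subgroup.mem_zpowers _)
    have hyQ : (y : G) ∈ Subgroup.zpowers x := by
      have h1 : (y : G) ∈ Q := ⟨y.2, hyH⟩
      rw [← hxQ] at h1
      exact Subgroup.zpowers_le.mpr (Subgroup.npow_mem_zpowers x p) h1
    -- in a cyclic group the solutions of `y ^ p = 1` form one subgroup
    obtain ⟨i, hi⟩ := Subgroup.mem_zpowers_iff.mp hyQ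
    have h2 : ((p : ℤ) ^ e) ∣ i * p := by
      rw [← Nat.cast_pow, ← he]
      exact orderOf_dvd_iff_zpow_eq_one.mpr (by rw [zpow_mul, hi, zpow_natCast, hy'])
    obtain ⟨c, hc⟩ : (p : ℤ) ^ (e - 1) ∣ i := by
      rw [show e = e - 1 + 1 by omega, pow_succ] at h2
      exact (mul_dvd_mul_iff_right (by exact_mod_cast hpp.ne_zero)).mp h2
    refine Subgroup.mem_zpowers_iff.mpr ⟨c, Subtype.ext ?_⟩
    rw [Subgroup.coe_zpow, ← hi, hc, zpow_mul, ← Nat.cast_pow, zpow_natCast]
  exact ⟨by letI : CommGroup P := hcyc.commGroup; exact ⟨⟨mul_comm⟩⟩, Or.inr hcyc⟩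


end Cfsg.Agent.S4024
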