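import Cfsg.Statements.S4027
import Cfsg.Agent.Lib.FgsB.OddInverted

set_option autoImplicit false
open Cfsg

namespace Cfsg.Agent.S4027

/-- Let G be a finite group in which every element x of odd order satisfies N_G(⟨x⟩) = C_G(x). Then the Sylow 2-subgroups of G are normal. -/
theorem result {G : Type*} [Group G] [Finite G]
    (hirr : ∀ x : G, (∀ r : ℕ, r.Prime → r ∣ orderOf x → r ≠ 2) →
      Subgroup.normalizer ((Subgroup.zpowers x : Subgroup G) : Set G) ≤ Subgroup.centralizer {x}) (P : Sylow 2 G) :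
    (P : Subgroup G).Normal := by
  by_contra hP
  obtain ⟨x, u, r, hr, hr2, hx, hu⟩ := CfsgLib.FgsB.exists_odd_prime_inverted_of_not_normal P hP
  have hN : u ∈ Subgroup.normalizer ((Subgroup.zpowers x : Subgroup G) : Set G) := by
    rw [Subgroup.mem_normalizer_iff_map_conj_eq, MonoidHom.map_zpowers]
    simp only [MonoidHom.coe_coe, MulAut.conj_apply]
    rw [hu, Subgroup.zpowers_inv]
  have hc := hirr x (fun s hs hsd hs2 => hr2 (((Nat.prime_dvd_prime_iff_eq hs hr).mp (hx ▸ hsd)).symm.trans hs2)) hN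
  have hcomm := Subgroup.mem_centralizer_singleton_iff.mp hc
  rw [hcomm, mul_inv_cancel_right] at hu
  have h2 : x ^ 2 = 1 := by rw [pow_two]; nth_rewrite 2 [hu]; exact mul_inv_cancel x
  have := orderOf_dvd_of_pow_eq_one h2
  rw [hx] at this
  exact hr2 ((Nat.prime_dvd_prime_iff_eq hr Nat.prime_two).mp this)

end Cfsg.Agent.S4027
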