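import Cfsg.Statements.S4028
import Mathlib
import Cfsg.Agent.Lib.FgsB.Basic
import Cfsg.Agent.Lib.FgsB.CyclicAction

set_option autoImplicit false
open Cfsg

namespace Cfsg.Agent.S4028

/-- Let G be a finite group with Sylow 2-subgroup P. Then N_G(⟨x⟩) = C_G(x) holds for every 2-element x of G if and only if N_P(⟨y⟩) = C_P(y) holds for every y ∈ P (computed inside P). -/
theorem result {G : Type*} [Group G] [Finite G] (P : Sylow 2 G) :
    (∀ x : G, (∀ r : ℕ, r.Prime → r ∣ orderOf x → r = 2) →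
      Subgroup.normalizer ((Subgroup.zpowers x : Subgroup G) : Set G) ≤ Subgroup.centralizer {x}) ↔
    (∀ y : ↥(P : Subgroup G), Subgroup.normalizer ((Subgroup.zpowers y : Subgroup ↥(P : Subgroup G)) : Set ↥(P : Subgroup G)) ≤
        Subgroup.centralizer {y}) := by
  classical
  have : Fact (Nat.Prime 2) := ⟨Nat.prime_two⟩
  have h2el : ∀ x : G, (∀ r : ℕ, r.Prime → r ∣ orderOf x → r = 2) ↔ ∃ k, orderOf x = 2 ^ k := by
    intro x
    constructor
    · intro h
      exact ⟨_, Nat.eq_prime_pow_of_unique_prime_dvd (orderOf_pos x).ne' (fun {d} => h d)⟩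
    · rintro ⟨k, hk⟩ r hr hrd
      exact (Nat.prime_dvd_prime_iff_eq hr Nat.prime_two).mp (hr.dvd_of_dvd_pow (hk ▸ hrd))
  constructor
  · intro h y n hn
    obtain ⟨k, hk⟩ := IsPGroup.iff_orderOf.mp P.isPGroup' y
    rw [← Subgroup.orderOf_coe] at hk
    have hn' : (n : G) ∈ Subgroup.normalizer ((Subgroup.zpowers (y : G) : Subgroup G) : Set G) := by
      have h1 := Subgroup.mem_normalizer_iff_map_conj_eq.mp hn
      rw [MonoidHom.map_zpowers] at h1
      have h2 := congrArg (Subgroup.map (P : Subgroup G).subtype) h1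
      rw [MonoidHom.map_zpowers, MonoidHom.map_zpowers] at h2
      rw [Subgroup.mem_normalizer_iff_map_conj_eq, MonoidHom.map_zpowers]
      simpa using h2
    have h3 := Subgroup.mem_centralizer_singleton_iff.mp (h (y : G) ((h2el _).mpr ⟨k, hk⟩) hn')
    exact Subgroup.mem_centralizer_singleton_iff.mpr (Subtype.ext h3)
  · intro h x hx g hg
    obtain ⟨k, hk⟩ := (h2el x).mp hx
    obtain ⟨e, m, hm, hgm⟩ :=
      Nat.exists_eq_pow_mul_and_not_dvd (orderOf_pos g).ne' 2 (by norm_num)
    set t := g ^ m with ht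
    have htN : t ∈ Subgroup.normalizer ((Subgroup.zpowers x : Subgroup G) : Set G) :=
      Subgroup.pow_mem _ hg m
    have hto : ∃ i, orderOf t = 2 ^ i := ⟨e, by
      rw [ht, orderOf_pow, hgm, Nat.gcd_eq_right (Dvd.intro_left _ rfl), Nat.mul_div_cancel _ (Nat.pos_of_ne_zero fun h0 => hm (by simp [h0]))]⟩
    have hU : IsPGroup 2 ↥(Subgroup.zpowers t ⊔ Subgroup.zpowers x) := by
      obtain ⟨i, hi⟩ := hto
      exact (IsPGroup.of_card (n := i) (by rw [Nat.card_zpowers, hi]) : IsPGroup 2 (Subgroup.zpowers t)).to_sup_of_normal_right'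
        (IsPGroup.of_card (n := k) (by rw [Nat.card_zpowers, hk])) (Subgroup.zpowers_le.mpr htN)
    obtain ⟨c, hc⟩ := CfsgLib.FgsB.exists_conj_le_sylow hU P
    have hxP := hc x (Subgroup.mem_sup_right (Subgroup.mem_zpowers x))
    have htP := hc t (Subgroup.mem_sup_left (Subgroup.mem_zpowers t))
    have htc : (⟨c⁻¹ * t * c, htP⟩ : (P : Subgroup G)) ∈ Subgroup.normalizer
        ((Subgroup.zpowers (⟨c⁻¹ * x * c, hxP⟩ : (P : Subgroup G)) : Subgroup (P : Subgroup G)) : Set (P : Subgroup G)) := by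
      rw [Subgroup.mem_normalizer_iff_map_conj_eq, MonoidHom.map_zpowers]
      apply Subgroup.map_injective (P : Subgroup G).subtype_injective
      rw [MonoidHom.map_zpowers, MonoidHom.map_zpowers]
      have h1 := Subgroup.mem_normalizer_iff_map_conj_eq.mp htN
      rw [MonoidHom.map_zpowers] at h1
      have h2 := congrArg (Subgroup.map (MulAut.conj c⁻¹).toMonoidHom) h1
      rw [MonoidHom.map_zpowers, MonoidHom.map_zpowers] at h2
      simpa [mul_assoc] using h2
    have h3 := congrArg Subtype.val (Subgroup.mem_centralizer_singleton_iff.mp (h _ htc))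
    have htx : Commute t x := by
      have h4 := congrArg (fun z => c * z * c⁻¹) h3
      simp only [Subgroup.coe_mul] at h4
      show t * x = x * t
      calc t * x = c * (c⁻¹ * t * c * (c⁻¹ * x * c)) * c⁻¹ := by group
        _ = c * (c⁻¹ * x * c * (c⁻¹ * t * c)) * c⁻¹ := h4
        _ = x * t := by group
    obtain ⟨a, ha⟩ := (Subgroup.mem_normalizer_iff.mp hg x).mp (Subgroup.mem_zpowers x)
    rw [Subgroup.mem_centralizer_singleton_iff]
    by_cases hx1 : x = 1
    · rw [hx1]; simp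
    have hk0 : k ≠ 0 := by
      rintro rfl
      exact hx1 (orderOf_eq_one_iff.mp (by simpa using hk))
    have hodd : ((2 : ℕ) : ℤ) ∣ a - 1 := by
      by_contra hnd
      have h2a : (2 : ℤ) ∣ a := by push_cast at hnd; omega
      have ho : orderOf (x ^ a) = 2 ^ k := by
        rw [show x ^ a = g * x * g⁻¹ from ha, ← MulAut.conj_apply, MulEquiv.orderOf_eq, hk]
      obtain ⟨b, rfl⟩ := h2a
      have hz : (x ^ (2 * b)) ^ (2 ^ (k - 1) : ℕ) = 1 := by
        rw [← zpow_natCast, ← zpow_mul, ← orderOf_dvd_iff_zpow_eq_one, hk]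
        refine ⟨b, ?_⟩
        have : (2 : ℤ) ^ k = 2 * 2 ^ (k - 1) := by rw [← pow_succ', Nat.sub_add_cancel (Nat.one_le_iff_ne_zero.mpr hk0)]
        push_cast
        rw [this]; ring
      have := Nat.le_of_dvd (pow_pos two_pos _) (ho ▸ orderOf_dvd_of_pow_eq_one hz)
      have := Nat.pow_lt_pow_right (a := 2) (by norm_num) (show k - 1 < k by omega)
      omega
    have hgk := CfsgLib.FgsB.commute_pow_of_conj_eq_zpow hk ha.symm hodd
    have hcop : (2 ^ k).Coprime m := Nat.Coprime.pow_left k (Nat.prime_two.coprime_iff_not_dvd.mpr hm)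
    have hbez := Nat.gcd_eq_gcd_ab (2 ^ k) m
    rw [hcop.gcd_eq_one] at hbez
    have hg1 : g = (g ^ 2 ^ k) ^ Nat.gcdA (2 ^ k) m * t ^ Nat.gcdB (2 ^ k) m := by
      rw [ht, ← zpow_natCast g (2 ^ k), ← zpow_natCast g m, ← zpow_mul, ← zpow_mul, ← zpow_add, ← hbez]
      simp
    rw [hg1]
    exact ((hgk.zpow_left _).mul_left (htx.zpow_left _)).eq

end Cfsg.Agent.S4028
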