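import Cfsg.Statements.S4029
import Mathlib
import Cfsg.Agent.Lib.Chars.Permutation
import Cfsg.Agent.Lib.Chars.Char
import Cfsg.Agent.Lib.PGroups.Basic

set_option autoImplicit false
set_option linter.style.haveILetI false
open Cfsg

namespace Cfsg.Agent.S4029

open scoped commutatorElement
theorem card_le_real {P : Type*} [Group P] [Finite P] (hP : IsPGroup 2 P) :
    Nat.card (P ⧸ frattini P) ≤ Nat.card {χ : Cfsg.IrrCharacter P // ∀ g : P, ((χ : P → ℂ) g).im = 0} := by
  haveI := Fact.mk Nat.prime_two
  letI : CommGroup (P ⧸ frattini P) :=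
    { (inferInstance : Group (P ⧸ frattini P)) with
      mul_comm := fun a b => by
        obtain ⟨x, rfl⟩ := QuotientGroup.mk'_surjective _ a
        obtain ⟨y, rfl⟩ := QuotientGroup.mk'_surjective _ b
        rw [← map_mul, ← map_mul]
        refine QuotientGroup.eq.mpr (CfsgLib.PGroups.commutator_le_frattini hP ?_)
        rw [show (x * y)⁻¹ * (y * x) = ⁅y⁻¹, x⁻¹⁆ by rw [commutatorElement_def]; group]
        exact Subgroup.commutator_mem_commutator (Subgroup.mem_top _) (Subgroup.mem_top _) }
  rw [← Nat.card_congr (CommGroup.monoidHom_mulEquiv_of_hasEnoughRootsOfUnity (P ⧸ frattini P) ℂ).some.toEquiv]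
  have hreal : ∀ (lam : (P ⧸ frattini P) →* ℂˣ) (g : P), ((lam (QuotientGroup.mk' _ g) : ℂ)).im = 0 := by
    intro lam g
    have h1 : (lam (QuotientGroup.mk' (frattini P) g)) ^ 2 = 1 := by
      rw [← map_pow, ← map_pow, show QuotientGroup.mk' (frattini P) (g ^ 2) = 1 from
        (QuotientGroup.eq_one_iff _).mpr (CfsgLib.PGroups.pow_mem_frattini hP g), map_one]
    have h2 : ((lam (QuotientGroup.mk' (frattini P) g) : ℂˣ) : ℂ) ^ 2 = 1 := by
      rw [← Units.val_pow_eq_pow_val, h1, Units.val_one]
    rcases sq_eq_one_iff.mp h2 with h | h <;> rw [h] <;> simp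
  refine Nat.card_le_card_of_injective (fun lam =>
    (⟨⟨fun g => ((lam.comp (QuotientGroup.mk' (frattini P))) g : ℂ), CfsgLib.Chars.isIrrCharacter_linear _⟩,
      hreal lam⟩ : {χ : Cfsg.IrrCharacter P // ∀ g : P, ((χ : P → ℂ) g).im = 0})) ?_
  intro l l' h
  refine MonoidHom.ext fun q => ?_
  obtain ⟨g, rfl⟩ := QuotientGroup.mk'_surjective _ q
  exact Units.ext (congrFun (congrArg (fun χ : {χ : Cfsg.IrrCharacter P // ∀ g : P, ((χ : P → ℂ) g).im = 0} =>
    ((χ : Cfsg.IrrCharacter P) : P → ℂ)) h) g)


/-- Let P be a finite 2-group in which N_P(⟨y⟩) = C_P(y) for every y ∈ P. If s is the number of conjugacy classes of involutions of P, then #(P/Φ(P)) ≤ s + 1; in particular the subgroup generated by the involutions of P has order at least #(P/Φ(P)). -/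
theorem result {P : Type*} [Group P] [Finite P] (hP : IsPGroup 2 P)
    (hirr : ∀ y : P, Subgroup.normalizer ((Subgroup.zpowers y : Subgroup P) : Set P) ≤ Subgroup.centralizer {y}) :
    Nat.card (P ⧸ frattini P) ≤ Nat.card {c : ConjClasses P // ∃ y : P, ConjClasses.mk y = c ∧ orderOf y = 2} + 1 ∧
    Nat.card (P ⧸ frattini P) ≤ Nat.card (Subgroup.closure {y : P | orderOf y = 2}) := by
  classical
  have h1 : Nat.card (P ⧸ frattini P) ≤
      Nat.card (Option {c : ConjClasses P // ∃ y : P, ConjClasses.mk y = c ∧ orderOf y = 2}) := by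
    refine (card_le_real hP).trans ?_
    rw [CfsgLib.Chars.card_real_irr_eq_card_real_classes]
    refine Nat.card_le_card_of_injective (fun C =>
      if h : ∃ y : P, ConjClasses.mk y = C.1 ∧ orderOf y = 2 then some ⟨C.1, h⟩ else none) ?_
    have key : ∀ C : {C : ConjClasses P // ∀ g : P, ConjClasses.mk g = C → IsConj g g⁻¹},
        (¬ ∃ y : P, ConjClasses.mk y = C.1 ∧ orderOf y = 2) → C.1 = ConjClasses.mk 1 := by
      intro C hno
      obtain ⟨g, hg⟩ := ConjClasses.mk_surjective C.1
      obtain ⟨c, hc⟩ := isConj_iff.mp (C.2 g hg)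
      have hcN : c ∈ Subgroup.normalizer ((Subgroup.zpowers g : Subgroup P) : Set P) := by
        rw [Subgroup.mem_normalizer_iff_map_conj_eq, MonoidHom.map_zpowers]
        show Subgroup.zpowers (c * g * c⁻¹) = _
        rw [hc, Subgroup.zpowers_inv]
      have hcm := Subgroup.mem_centralizer_singleton_iff.mp (hirr g hcN)
      rw [hcm, mul_inv_cancel_right] at hc
      have hg2 : g ^ 2 = 1 := by
        rw [sq]; nth_rewrite 1 [hc]; exact inv_mul_cancel g
      by_contra hne
      have hg1 : g ≠ 1 := fun e => hne (by rw [← hg, e])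
      haveI := Fact.mk Nat.prime_two
      exact hno ⟨g, hg, orderOf_eq_prime hg2 hg1⟩
    intro C C' h
    simp only at h
    by_cases hC : ∃ y : P, ConjClasses.mk y = C.1 ∧ orderOf y = 2
    · by_cases hC' : ∃ y : P, ConjClasses.mk y = C'.1 ∧ orderOf y = 2
      · rw [dif_pos hC, dif_pos hC'] at h
        have h2 := Option.some.inj h; exact Subtype.ext (Subtype.mk.inj h2)
      · rw [dif_pos hC, dif_neg hC'] at h
        exact absurd h (by simp)
    · by_cases hC' : ∃ y : P, ConjClasses.mk y = C'.1 ∧ orderOf y = 2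
      · rw [dif_neg hC, dif_pos hC'] at h
        exact absurd h (by simp)
      · exact Subtype.ext ((key C hC).trans (key C' hC').symm)
  constructor
  · rwa [Finite.card_option] at h1
  · refine h1.trans ?_
    let K := Subgroup.closure {y : P | orderOf y = 2}
    refine Nat.card_le_card_of_injective (fun o => Option.elim o (1 : K) fun c =>
      (⟨c.2.choose, Subgroup.subset_closure c.2.choose_spec.2⟩ : K)) ?_
    rintro (_ | a) (_ | b) h
    · rfl
    · exfalso
      have := b.2.choose_spec.2
      rw [← show (1 : P) = b.2.choose from congrArg Subtype.val h, orderOf_one] at this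
      omega
    · exfalso
      have := a.2.choose_spec.2
      rw [show a.2.choose = (1 : P) from congrArg Subtype.val h, orderOf_one] at this
      omega
    · refine congrArg some (Subtype.ext ?_)
      rw [← a.2.choose_spec.1, ← b.2.choose_spec.1, show a.2.choose = b.2.choose from congrArg Subtype.val h]

end Cfsg.Agent.S4029
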