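import Cfsg.Statements.S4032
import Mathlib
import Cfsg.Agent.Lib.Coprime.SchurZassenhaus

set_option autoImplicit false
open Cfsg

namespace Cfsg.Agent.S4032

/-- Let π be a set of primes and G a finite group in which N_G(⟨x⟩) = C_G(x) for every π-element x. If N is a normal subgroup of G whose order is divisible by no prime of π, then G/N has the same property: N_{G/N}(⟨y⟩) = C_{G/N}(y) for every π-element y of G/N. -/
theorem result {G : Type*} [Group G] [Finite G] (π : Set ℕ)
    (hirr : ∀ x : G, (∀ r : ℕ, r.Prime → r ∣ orderOf x → r ∈ π) →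
      Subgroup.normalizer ((Subgroup.zpowers x : Subgroup G) : Set G) ≤ Subgroup.centralizer {x})
    (N : Subgroup G) [N.Normal] (hN : ∀ r : ℕ, r.Prime → r ∣ Nat.card N → r ∉ π) :
    ∀ y : G ⧸ N, (∀ r : ℕ, r.Prime → r ∣ orderOf y → r ∈ π) →
      Subgroup.normalizer ((Subgroup.zpowers y : Subgroup (G ⧸ N)) : Set (G ⧸ N)) ≤ Subgroup.centralizer {y} := by
  classical
  intro y hy z hz
  set f := QuotientGroup.mk' N with hf
  obtain ⟨x₀, rfl⟩ := QuotientGroup.mk'_surjective N y
  obtain ⟨T, rfl⟩ := QuotientGroup.mk'_surjective N z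
  set o := orderOf (f x₀) with ho
  set x := x₀ ^ Nat.card N with hx
  have hcop : o.Coprime (Nat.card N) := Nat.coprime_of_dvd fun r hr h1 h2 => hN r hr h2 (hy r hr h1)
  have hxo : orderOf x = o := by
    refine Nat.dvd_antisymm (orderOf_dvd_of_pow_eq_one ?_) ?_
    · rw [hx, ← pow_mul, mul_comm, pow_mul]
      refine orderOf_dvd_iff_pow_eq_one.mp (N.orderOf_dvd_natCard ?_)
      rw [← QuotientGroup.eq_one_iff]
      exact (map_pow f x₀ o).trans (pow_orderOf_eq_one _)
    · calc o = orderOf (f x₀ ^ Nat.card N) := by rw [Nat.Coprime.orderOf_pow]; exact hcop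
        _ ∣ orderOf x := by rw [← map_pow, ← hx]; exact orderOf_map_dvd f x
  have hgen : f x₀ ∈ Subgroup.zpowers (f x) := by
    rw [hx, map_pow]
    exact Subgroup.mem_zpowers_iff.mpr ⟨Nat.gcdB o (Nat.card N), by
      have hbez := Nat.gcd_eq_gcd_ab o (Nat.card N)
      rw [hcop.gcd_eq_one] at hbez
      conv_rhs => rw [← zpow_one (f x₀), show (1 : ℤ) = ((1 : ℕ) : ℤ) from rfl, hbez, zpow_add, zpow_mul, zpow_natCast, pow_orderOf_eq_one, one_zpow, one_mul]
      rw [← zpow_natCast, ← zpow_mul]⟩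
  have hzeq : Subgroup.zpowers (f x) = Subgroup.zpowers (f x₀) :=
    le_antisymm (Subgroup.zpowers_le.mpr (by rw [hx, map_pow]; exact Subgroup.pow_mem _ (Subgroup.mem_zpowers _) _))
      (Subgroup.zpowers_le.mpr hgen)
  have hconjN : Subgroup.zpowers x ≤ Subgroup.normalizer (N : Set G) := by
    rw [Subgroup.normalizer_eq_top]; exact le_top
  have hle : Subgroup.zpowers (T * x * T⁻¹) ≤ N ⊔ Subgroup.zpowers x := by
    rw [Subgroup.zpowers_le]
    have h1 : f T * f x * (f T)⁻¹ ∈ Subgroup.zpowers (f x) := by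
      rw [hzeq]
      exact (Subgroup.mem_normalizer_iff.mp hz (f x)).mp (hzeq ▸ Subgroup.mem_zpowers (f x))
    obtain ⟨i, hi⟩ := h1
    have h2 : T * x * T⁻¹ * (x ^ i)⁻¹ ∈ N := by
      rw [← QuotientGroup.eq_one_iff]
      show f _ = 1
      rw [map_mul, map_mul, map_mul, map_inv, map_inv, map_zpow, ← hi]
      group
    have := Subgroup.mul_mem _ (Subgroup.mem_sup_left (T := Subgroup.zpowers x) h2)
      (Subgroup.mem_sup_right (S := N) (Subgroup.zpow_mem_zpowers x i))
    rwa [inv_mul_cancel_right] at this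
  obtain ⟨a, ha, hconj⟩ := CfsgLib.Coprime.sz_conj_rel (N := N) (H := Subgroup.zpowers x)
    (K := Subgroup.zpowers (T * x * T⁻¹)) hconjN (by rw [Subgroup.normalizer_eq_top]; exact le_top)
    (by rw [Nat.card_zpowers, hxo]; exact hcop.symm)
    (by rw [Nat.card_zpowers, Nat.card_zpowers, ← MulAut.conj_apply, MulEquiv.orderOf_eq])
    hle (Or.inr inferInstance)
  have hmem : a⁻¹ * T ∈ Subgroup.normalizer ((Subgroup.zpowers x : Subgroup G) : Set G) := by
    rw [CfsgLib.Coprime.conj_smul_eq_map, MonoidHom.map_zpowers] at hconj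
    rw [Subgroup.mem_normalizer_iff_map_conj_eq, MonoidHom.map_zpowers]
    have h2 := congrArg (Subgroup.map (MulAut.conj a⁻¹).toMonoidHom) hconj
    rw [MonoidHom.map_zpowers, MonoidHom.map_zpowers] at h2
    simp only [MulEquiv.coe_toMonoidHom, MulAut.conj_apply] at h2
    simp only [MonoidHom.coe_coe, MulAut.conj_apply]
    convert h2.symm using 2 <;> group
  have hcomm := Subgroup.mem_centralizer_singleton_iff.mp
    (hirr x (fun r hr hrd => hy r hr (hxo ▸ hrd)) hmem)
  have h3 : Commute (f T) (f x) := by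
    have h4 : f (a⁻¹ * T) = f T := by
      rw [map_mul, map_inv, show f a = 1 from (QuotientGroup.eq_one_iff a).mpr ha, inv_one, one_mul]
    rw [← h4]
    exact (show Commute (a⁻¹ * T) x from hcomm).map f
  obtain ⟨i, hi⟩ := Subgroup.mem_zpowers_iff.mp hgen
  rw [Subgroup.mem_centralizer_singleton_iff, ← hi]
  exact (h3.zpow_right i).eq

end Cfsg.Agent.S4032
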