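import Cfsg.Statements.S4034
import Cfsg.Agent.Lib.FgsB.PRegularIndex

set_option autoImplicit false
open Cfsg

namespace Cfsg.Agent.S4034

/-- Let G be a finite group and p a prime. Every conjugacy class of p-regular elements of G (elements of order prime to p) has p-power size if and only if G has an abelian p-complement, i.e. an abelian subgroup of order prime to p and p-power index. -/
theorem result {G : Type*} [Group G] [Finite G] {p : ℕ} (hp : p.Prime) :
    (∀ x : G, (orderOf x).Coprime p → ∃ k : ℕ, (ConjClasses.mk x).carrier.ncard = p ^ k) ↔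
    (∃ H : Subgroup G, IsMulCommutative H ∧ ¬ p ∣ Nat.card H ∧ ∃ k : ℕ, H.index = p ^ k) := by
  classical
  have : Fact p.Prime := ⟨hp⟩
  constructor
  · intro h
    have h' : CfsgLib.FgsB.PrimePowIndex p G := by
      rintro x ⟨r, k, hr, hrp, hx⟩
      rw [← CfsgLib.FgsB.ncard_carrier_eq_index]
      exact h x (by rw [hx]; exact ((Nat.coprime_primes hr hp).mpr hrp).pow_left k)
    have := h'.isSolvable hp
    obtain ⟨H, hH, -⟩ := CfsgLib.Coprime.hallD_of_solvable (G := G) ({p}ᶜ : Set ℕ)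
    obtain ⟨hHc, k, hk⟩ := (CfsgLib.Coprime.piHall_compl_iff hp).mp hH
    refine ⟨H, ?_, hp.coprime_iff_not_dvd.mp hHc.symm, k, hk⟩
    set O := Cfsg.pCore p G
    have : O.Normal := Cfsg.pCore_normal p G
    have hq := h'.of_surjective hp (QuotientGroup.mk' O) (QuotientGroup.mk'_surjective O)
    have hd : (H.map (QuotientGroup.mk' O)).index ∣ p ^ k :=
      hk ▸ Subgroup.index_map_dvd H (QuotientGroup.mk'_surjective O)
    obtain ⟨i, -, hi⟩ := (Nat.dvd_prime_pow hp).mp hd
    have hab := hq.isMulCommutative_of_pCore_eq_bot hp (CfsgLib.Base.pCore_quotient_pCore p G)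
      (H.map (QuotientGroup.mk' O)) (Nat.Coprime.coprime_dvd_left (CfsgLib.Base.card_map_dvd _ H) hHc) ⟨i, hi⟩
    refine ⟨⟨fun a b => Subtype.ext ?_⟩⟩
    have hc := congrArg Subtype.val (hab.is_comm.comm
      (⟨QuotientGroup.mk' O a, Subgroup.mem_map_of_mem _ a.2⟩ : H.map (QuotientGroup.mk' O))
      ⟨QuotientGroup.mk' O b, Subgroup.mem_map_of_mem _ b.2⟩)
    have hmem : ((a : G) * b)⁻¹ * ((b : G) * a) ∈ O := by
      apply (QuotientGroup.eq_one_iff _).mp
      change QuotientGroup.mk' O (((a : G) * b)⁻¹ * ((b : G) * a)) = 1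
      simp only [map_mul, map_inv]
      exact inv_mul_eq_one.mpr (by simpa using hc)
    have hmemH : ((a : G) * b)⁻¹ * ((b : G) * a) ∈ H :=
      H.mul_mem (H.inv_mem (H.mul_mem a.2 b.2)) (H.mul_mem b.2 a.2)
    have hbot : ((a : G) * b)⁻¹ * ((b : G) * a) ∈ (⊥ : Subgroup G) := by
      rw [← CfsgLib.Base.inf_eq_bot_of_coprime (H := H) (K := O) ?_]
      · exact ⟨hmemH, hmem⟩
      · obtain ⟨m, hm⟩ := (CfsgLib.Base.isPGroup_pCore p G).exists_card_eq
        rw [hm]; exact hHc.pow_right m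
    exact inv_mul_eq_one.mp (Subgroup.mem_bot.mp hbot)
  · rintro ⟨H, hHab, hpH, k, hk⟩
    have hcent : ∀ (x g : G), g⁻¹ * x * g ∈ H → (Subgroup.centralizer ({x} : Set G)).index ∣ p ^ k := by
      intro x g hg
      have hle : H.map (MulAut.conj g).toMonoidHom ≤ Subgroup.centralizer ({x} : Set G) := by
        rintro _ ⟨u, hu, rfl⟩
        rw [Subgroup.mem_centralizer_singleton_iff]
        have hc : u * (g⁻¹ * x * g) = g⁻¹ * x * g * u :=
          congrArg Subtype.val (hHab.is_comm.comm (⟨u, hu⟩ : H) ⟨_, hg⟩)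
        simp only [MulEquiv.toMonoidHom_eq_coe, MonoidHom.coe_coe, MulAut.conj_apply]
        calc g * u * g⁻¹ * x = g * (u * (g⁻¹ * x * g)) * g⁻¹ := by group
        _ = g * (g⁻¹ * x * g * u) * g⁻¹ := by rw [hc]
        _ = _ := by group
      refine (Subgroup.index_dvd_of_le hle).trans (dvd_of_eq ?_)
      rw [← hk]
      exact Subgroup.index_map_equiv H (MulAut.conj g)
    have h' : CfsgLib.FgsB.PrimePowIndex p G := by
      rintro x ⟨r, i, hr, hrp, hx⟩
      have : Fact r.Prime := ⟨hr⟩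
      obtain ⟨Q⟩ := (inferInstance : Nonempty (Sylow r H))
      have hQ : ¬ r ∣ ((Q : Subgroup H).map H.subtype).index := by
        rw [Subgroup.index_map_subtype, hk]
        refine fun hd => (hr.dvd_mul.mp hd).elim Q.not_dvd_index fun h2 => hrp ?_
        exact (Nat.prime_dvd_prime_iff_eq hr hp).mp (hr.dvd_of_dvd_pow h2)
      obtain ⟨g, hg⟩ := CfsgLib.FgsB.exists_conj_mem_sylow ⟨i, hx⟩ ((Q.2.map H.subtype).toSylow hQ)
      obtain ⟨w, -, hw⟩ := hg
      obtain ⟨j, -, hj⟩ := (Nat.dvd_prime_pow hp).mp (hcent x g (hw ▸ w.2))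
      exact ⟨j, hj⟩
    have := h'.isSolvable hp
    intro x hx
    rw [CfsgLib.FgsB.ncard_carrier_eq_index]
    have hH : Cfsg.IsPiHall ({p}ᶜ : Set ℕ) H :=
      (CfsgLib.Coprime.piHall_compl_iff hp).mpr ⟨(hp.coprime_iff_not_dvd.mpr hpH).symm, k, hk⟩
    obtain ⟨g, hg⟩ := (CfsgLib.Coprime.hallD_of_solvable (G := G) ({p}ᶜ : Set ℕ)).conj_le
      (U := Subgroup.zpowers x) ((CfsgLib.Coprime.piSubgroup_compl_iff hp).mpr (by rw [Nat.card_zpowers]; exact hx)) hH
    have hmem := hg ((CfsgLib.Coprime.mem_conj_smul (g := g) (x := g * x * g⁻¹)).mpr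
      (by simp [mul_assoc]))
    obtain ⟨j, -, hj⟩ := (Nat.dvd_prime_pow hp).mp (hcent x g⁻¹ (by simpa [mul_assoc] using hmem))
    exact ⟨j, hj⟩

end Cfsg.Agent.S4034
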