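import Cfsg.Statements.S4036
import Mathlib

set_option autoImplicit false
open Cfsg

namespace Cfsg.Agent.S4036

/-- Let P be a finite abelian p-group and K a group of automorphisms of P (a subgroup of Aut P) whose order is divisible by p. If all non-identity elements of K have the same fixed-point subgroup on P, then K has no non-trivial normal subgroup of order prime to p. -/
theorem result {P : Type*} [CommGroup P] [Finite P] {p : ℕ}
    [Fact p.Prime] (hP : IsPGroup p P) (K : Subgroup (MulAut P)) (hK : p ∣ Nat.card K)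
    (hfix : ∀ x y : MulAut P, x ∈ K → y ∈ K → x ≠ 1 → y ≠ 1 → ∀ v : P, x v = v ↔ y v = v) :
    ∀ N : Subgroup ↥K, N.Normal → ¬ p ∣ Nat.card N → N = ⊥ := by
  classical
  intro N hN hpN
  rw [Subgroup.eq_bot_iff_forall]
  intro n₀ hn₀
  have hp : p.Prime := Fact.out
  have : Fintype N := Fintype.ofFinite N
  obtain ⟨k, hk⟩ := exists_prime_orderOf_dvd_card' p hK
  let π : P → P := fun v => ∏ n : N, ((n : K) : MulAut P) v
  have hπmul : ∀ u v, π (u * v) = π u * π v := fun u v => by
    simp only [π, map_mul, Finset.prod_mul_distrib]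
  let W : Subgroup P :=
    { carrier := {v | π v = 1}
      one_mem' := by simp [π]
      mul_mem' := fun {u v} hu hv => by simp only [Set.mem_ofPred_eq, hπmul] at *; rw [hu, hv, mul_one]
      inv_mem' := fun {u} hu => by
        simp only [Set.mem_ofPred_eq, π, map_inv, Finset.prod_inv_distrib] at *
        rw [hu, inv_one] }
  -- a `K`-invariant subgroup
  have hWk : ∀ (g : K) (v : P), v ∈ W → (g : MulAut P) v ∈ W := by
    intro g v hv
    show π ((g : MulAut P) v) = 1
    have e : π ((g : MulAut P) v) = (g : MulAut P) (π v) := by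
      simp only [π, map_prod]
      refine Fintype.prod_equiv (show N ≃ N from
        { toFun := fun n => ⟨g⁻¹ * n.1 * g, by simpa using hN.conj_mem _ n.2 g⁻¹⟩
          invFun := fun n => ⟨g * n.1 * g⁻¹, hN.conj_mem _ n.2 g⟩
          left_inv := fun n => by ext1; simp [mul_assoc]
          right_inv := fun n => by ext1; simp [mul_assoc] }) _ _ (fun n => ?_)
      simp
    rw [e, show π v = 1 from hv, map_one]
  -- no nontrivial fixed point in `W`
  have hWbot : W = ⊥ := by
    by_contra hW
    let act : MulAction (Subgroup.zpowers k) W :=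
      { smul := fun g v => ⟨((g : K) : MulAut P) v.1, hWk _ _ v.2⟩
        one_smul := fun v => Subtype.ext rfl
        mul_smul := fun g h v => Subtype.ext rfl }
    have hkp : IsPGroup p (Subgroup.zpowers k) :=
      IsPGroup.of_card (n := 1) (by rw [Nat.card_zpowers, hk, pow_one])
    have hdvd : p ∣ Nat.card W := by
      obtain ⟨j, hj⟩ := IsPGroup.iff_card.mp (hP.to_subgroup W)
      have hj0 : j ≠ 0 := fun h => hW (Subgroup.card_eq_one.mp (by rw [hj, h, pow_zero]))
      rw [hj]; exact dvd_pow_self p hj0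
    obtain ⟨w, hw, hw1⟩ := hkp.exists_fixed_point_of_prime_dvd_card_of_fixed_point W hdvd
      (a := 1) (fun g => Subtype.ext (map_one ((g : K) : MulAut P)))
    have hfixk : (k : MulAut P) w.1 = w.1 := congrArg Subtype.val (hw ⟨k, Subgroup.mem_zpowers k⟩)
    have hk1 : (k : MulAut P) ≠ 1 := fun h => hp.ne_one (by
      rw [← hk, orderOf_eq_one_iff]; exact Subtype.ext h)
    have hall : ∀ n : N, ((n : K) : MulAut P) w.1 = w.1 := by
      intro n
      by_cases h : ((n : K) : MulAut P) = 1
      · rw [h]; rfl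
      · exact (hfix _ _ k.2 (n : K).2 hk1 h w.1).mp hfixk
    have hπw : π w.1 = 1 := w.2
    simp only [π, hall, Finset.prod_const, Finset.card_univ] at hπw
    rw [← Nat.card_eq_fintype_card] at hπw
    obtain ⟨j, hj⟩ := IsPGroup.iff_orderOf.mp hP w.1
    have h1 : orderOf w.1 = 1 := Nat.eq_one_of_dvd_coprimes
      (show (p ^ j).Coprime (Nat.card N) from (hp.coprime_iff_not_dvd.mpr hpN).pow_left j)
      hj.dvd (orderOf_dvd_of_pow_eq_one hπw)
    exact hw1 (Subtype.ext (orderOf_eq_one_iff.mp h1).symm)
  refine Subtype.ext (MulEquiv.ext fun v => ?_)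
  have hmem : (n₀ : MulAut P) v * v⁻¹ ∈ W := by
    show π ((n₀ : MulAut P) v * v⁻¹) = 1
    have e : π ((n₀ : MulAut P) v) = π v :=
      Fintype.prod_equiv (Equiv.mulRight (⟨n₀, hn₀⟩ : N)) _ _ (fun n => rfl)
    rw [hπmul, e, ← hπmul, mul_inv_cancel]
    simp [π]
  rw [hWbot, Subgroup.mem_bot, mul_inv_eq_one] at hmem
  exact hmem

end Cfsg.Agent.S4036
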