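import Cfsg.Statements.S4038
import Mathlib
import Cfsg.Agent.Lib.FTCons.InvariantMaximal
import Cfsg.Agent.Lib.FT.OddOrderTheorem
import Cfsg.Agent.Lib.FgsB.ClassTwoLocal
import Cfsg.Agent.Lib.SolvStruct.PiElements

set_option autoImplicit false
set_option linter.style.haveILetI false
open Cfsg

namespace Cfsg.Agent.S4038
open Subgroup CfsgLib.FTCons
open scoped commutatorElement

universe v u

/-- A nilpotent group: 2-power (p-power) elements lie in every Sylow subgroup. -/
theorem mem_sylow_of_nilpotent {X : Type*} [Group X] [Finite X] [Group.IsNilpotent X] {p : ℕ}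
    [Fact p.Prime] (S : Sylow p X) {x : X} {n : ℕ} (hx : x ^ p ^ n = 1) : x ∈ (S : Subgroup X) := by
  haveI hSn : (S : Subgroup X).Normal :=
    S.normal_of_normalizerCondition Group.normalizerCondition_of_isNilpotent
  haveI := Sylow.unique_of_normal S hSn
  have hp : IsPGroup p (zpowers x) := by
    obtain ⟨j, -, hj⟩ := (Nat.dvd_prime_pow Fact.out).mp (orderOf_dvd_of_pow_eq_one hx)
    exact IsPGroup.of_card (n := j) (by rw [Nat.card_zpowers, hj])
  obtain ⟨T, hT⟩ := hp.exists_le_sylow
  rw [Subsingleton.elim T S] at hT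
  exact hT (mem_zpowers x)

theorem pPart_card {X : Type*} [Group X] [Finite X] {p : ℕ} [Fact p.Prime] {S : Subgroup X}
    (hS : IsPGroup p S) {x : X} (hx : x ∈ S) : ∃ n : ℕ, x ^ p ^ n = 1 := by
  obtain ⟨n, hn⟩ := hS ⟨x, hx⟩
  exact ⟨n, congrArg Subtype.val hn⟩

theorem aux {A : Type v} [Group A] [Finite A] (n : ℕ) :
    ∀ {G : Type u} [Group G] [Finite G] (φ : A →* MulAut G), Nat.card G ≤ n →
      (Nat.card A).Coprime (Nat.card G) → ∀ M : Subgroup G, M ≠ ⊤ → ActInv φ M →
      (∀ H : Subgroup G, M ≤ H → H ≠ ⊤ → ActInv φ H → H = M) → Group.IsNilpotent M →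
      (∀ x ∈ M, ∀ y ∈ M, ∀ w ∈ M, (∃ i, x ^ 2 ^ i = 1) → (∃ i, y ^ 2 ^ i = 1) → (∃ i, w ^ 2 ^ i = 1) →
        ⁅x, y⁆ * w = w * ⁅x, y⁆) → Group.IsSolvable G := by
  induction n with
  | zero => intro G _ _ φ hn; exact absurd hn (Nat.not_le.mpr Nat.card_pos)
  | succ n ih =>
  intro G _ _ φ hn hcop M hMtop hMinv hMmax hnil hcl
  classical
  haveI := hnil
  have hFTA : CfsgLib.FT.OddOrderThm.{v} := CfsgLib.FT.oddOrderThm
  have hFT : CfsgLib.FT.OddOrderThm.{u} := CfsgLib.FT.oddOrderThm
  have hsolv := isSolvable_or_of_coprime hFTA hFT hcop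
  by_cases hN : ∃ N : Subgroup G, N.Normal ∧ ActInv φ N ∧ N ≠ ⊥ ∧ N ≤ M
  · obtain ⟨N, hNn, hNi, hbot, hNM⟩ := hN
    haveI := hNn
    haveI : Group.IsNilpotent N := CfsgLib.Base.isNilpotent_of_le hNM hnil
    haveI : Group.IsSolvable N := inferInstance
    let ψ : A →* MulAut (G ⧸ N) :=
      { toFun := fun a => QuotientGroup.congr N N (φ a) (hNi.map_eq a)
        map_one' := by
          ext x
          obtain ⟨y, rfl⟩ := QuotientGroup.mk'_surjective N x
          simp
        map_mul' := fun a b => by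
          ext x
          obtain ⟨y, rfl⟩ := QuotientGroup.mk'_surjective N x
          simp
          rfl }
    set f := QuotientGroup.mk' N with hf
    have hfs := QuotientGroup.mk'_surjective N
    have hψ : ∀ a x, ψ a (f x) = f (φ a x) := fun a x => rfl
    have hcm : (M.map f).comap f = M := by
      rw [Subgroup.comap_map_eq, hf, QuotientGroup.ker_mk', sup_eq_left.mpr hNM]
    haveI : Group.IsSolvable (G ⧸ N) := by
      refine ih ψ (Nat.lt_succ_iff.mp ((CfsgLib.Coprime.card_quotient_lt hbot).trans_le hn))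
        (hcop.coprime_dvd_right N.index_dvd_card) (M.map f) (fun h => hMtop ?_) ?_ ?_ ?_ ?_
      · rw [← hcm, h, Subgroup.comap_top]
      · rintro a _ ⟨x, hx, rfl⟩
        exact ⟨φ a x, hMinv a x hx, (hψ a x).symm⟩
      · intro H hMH hH hHi
        rw [← Subgroup.map_comap_eq_self_of_surjective hfs H]
        congr 1
        refine hMmax _ (hcm ▸ Subgroup.comap_mono hMH) (fun h => hH ?_) fun a x hx => ?_
        · rw [← Subgroup.map_comap_eq_self_of_surjective hfs H, h, Subgroup.map_top_of_surjective _ hfs]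
        · show f (φ a x) ∈ H
          rw [← hψ]; exact hHi a _ hx
      · exact Group.nilpotent_of_surjective _ (f.subgroupMap_surjective M)
      · have hlift : ∀ u ∈ M.map f, (∃ i, u ^ 2 ^ i = 1) → ∃ x ∈ M, (∃ i, x ^ 2 ^ i = 1) ∧ f x = u := by
          rintro _ ⟨x, hx, rfl⟩ ⟨i, hi⟩
          obtain ⟨c, -, hc⟩ := (Nat.dvd_prime_pow Nat.prime_two).mp (orderOf_dvd_of_pow_eq_one hi)
          obtain ⟨m, ⟨j, hj⟩, hm⟩ := CfsgLib.SolvStruct.PiElements.exists_pow_primePow f Nat.prime_two x hc
          exact ⟨x ^ m, pow_mem hx m, ⟨j, by rw [← hj, pow_orderOf_eq_one]⟩, hm⟩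
        intro u hu v hv w hw hu' hv' hw'
        obtain ⟨x, hx, hx', rfl⟩ := hlift u hu hu'
        obtain ⟨y, hy, hy', rfl⟩ := hlift v hv hv'
        obtain ⟨z, hz, hz', rfl⟩ := hlift w hw hw'
        rw [← map_commutatorElement, ← map_mul, ← map_mul, hcl x hx y hy z hz hx' hy' hz']
    exact (Group.isSolvable_iff_subgroup_quotient N).mpr ⟨inferInstance, inferInstance⟩
  push Not at hN
  have hcore : ∀ R : Subgroup G, R.Normal → ActInv φ R → R ≤ M → R = ⊥ := by
    intro R h1 h2 h3
    by_contra h4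
    exact hN R h1 h2 h4 h3
  by_cases hMbot : M = ⊥
  · haveI : Nontrivial G := by
      by_contra hnt
      rw [not_nontrivial_iff_subsingleton] at hnt
      exact hMtop (Subgroup.ext fun x => by simp [Subsingleton.elim x 1])
    obtain ⟨p, hp, hpd⟩ := Nat.exists_prime_and_dvd (Finite.one_lt_card (α := G)).ne'
    haveI := Fact.mk hp
    obtain ⟨P, hP⟩ := exists_actInv_sylow φ hcop hsolv p
    have hPtop : (P : Subgroup G) = ⊤ := by
      by_contra hne
      have := hMmax _ (hMbot ▸ bot_le) hne hP
      exact P.ne_bot_of_dvd_card hpd (this.trans hMbot)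
    haveI := P.isPGroup'.isNilpotent
    haveI : Group.IsSolvable (⊤ : Subgroup G) := hPtop ▸ (inferInstance : Group.IsSolvable P)
    exact Group.isSolvable_of_surjective (f := (Subgroup.topEquiv (G := G)).toMonoidHom)
      (MulEquiv.surjective _)
  have hloc : ∀ R : Subgroup G, R ≤ M → ActInv φ R → R ≠ ⊥ → M ≤ normalizer (R : Set G) →
      normalizer (R : Set G) = M := by
    intro R hR hRi hne hMR
    exact hMmax _ hMR (fun h => hne (hcore R (normalizer_eq_top_iff.mp h) hRi hR)) hRi.normalizer
  have hcompl : ∀ p : ℕ, p.Prime → p ∣ Nat.card M → Cfsg.HasNormalPComplement p G := by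
    intro p hp hpM
    haveI := Fact.mk hp
    obtain ⟨Pm⟩ : Nonempty (Sylow p M) := inferInstance
    set S := (Pm : Subgroup M).map M.subtype with hS
    have hSM : S ≤ M := Subgroup.map_subtype_le _
    have hSp : IsPGroup p S := Pm.isPGroup'.map _
    have hSmem : ∀ x ∈ M, (∃ i, x ^ p ^ i = 1) → x ∈ S := fun x hx ⟨i, hi⟩ =>
      ⟨⟨x, hx⟩, mem_sylow_of_nilpotent Pm (Subtype.ext (by simpa using hi)), rfl⟩
    have hSi : ActInv φ S := fun a x hx => by
      obtain ⟨i, hi⟩ := pPart_card hSp hx
      exact hSmem _ (hMinv a x (hSM hx)) ⟨i, by rw [← map_pow, hi, map_one]⟩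
    have hSne : S ≠ ⊥ := fun h => Pm.ne_bot_of_dvd_card hpM
      ((Subgroup.map_eq_bot_iff_of_injective _ M.subtype_injective).mp h)
    have hMN : M ≤ normalizer (S : Set G) := le_normalizer_iff.mpr fun m hm x hx => by
      obtain ⟨i, hi⟩ := pPart_card hSp hx
      exact hSmem _ (mul_mem (mul_mem hm (hSM hx)) (inv_mem hm))
        ⟨i, by rw [conj_pow, hi, mul_one, mul_inv_cancel]⟩
    have hNS : normalizer (S : Set G) = M := hloc S hSM hSi hSne hMN
    obtain ⟨P, hSP⟩ := hSp.exists_le_sylow
    have hPS : (P : Subgroup G) = S := by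
      by_contra hne
      haveI := P.isPGroup'.isNilpotent
      have hlt : S.subgroupOf P < ⊤ := lt_top_iff_ne_top.mpr fun h =>
        hne (le_antisymm (Subgroup.subgroupOf_eq_top.mp h) hSP)
      obtain ⟨y, hy, hyn⟩ := SetLike.exists_of_lt
        (Group.normalizerCondition_of_isNilpotent (G := P) _ hlt)
      refine hyn (hSmem y ?_ (pPart_card P.isPGroup' y.2))
      rw [← hNS]
      rw [← Subgroup.subgroupOf_normalizer_eq hSP] at hy
      exact hy
    by_cases hp2 : p = 2
    · subst hp2
      rw [← hPS] at hSM hSi hMN hNS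
      have hmem2 : ∀ x ∈ (P : Subgroup G), ∃ i, x ^ 2 ^ i = 1 := fun x hx => pPart_card P.isPGroup' hx
      have hcl' : ∀ x ∈ (P : Subgroup G), ∀ y ∈ (P : Subgroup G), ∀ w ∈ (P : Subgroup G),
          ⁅x, y⁆ * w = w * ⁅x, y⁆ := fun x hx y hy w hw =>
        hcl x (hSM hx) y (hSM hy) w (hSM hw) (hmem2 x hx) (hmem2 y hy) (hmem2 w hw)
      have hdec : ∀ m ∈ M, ∃ v ∈ (P : Subgroup G), ∃ o ∈ centralizer ((P : Subgroup G) : Set G),
          m = v * o ∧ Odd (orderOf o) := by
        intro m hm
        obtain ⟨α, β, hβ, hαβ⟩ := Nat.exists_eq_pow_mul_and_not_dvd (orderOf_pos m).ne' 2 (by omega)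
        have hcop' : Nat.Coprime (2 ^ α) β :=
          Nat.Coprime.pow_left α ((Nat.Prime.coprime_iff_not_dvd Nat.prime_two).mpr hβ)
        obtain ⟨e, he1, he0⟩ := Nat.chineseRemainder hcop' 1 0
        obtain ⟨e', he1', he0'⟩ := Nat.chineseRemainder hcop' 0 1
        rw [Nat.modEq_zero_iff_dvd] at he0 he1'
        have hoo : (m ^ e') ^ β = 1 := by
          obtain ⟨t, rfl⟩ := he1'
          rw [← pow_mul, show 2 ^ α * t * β = (2 ^ α * β) * t by ring, ← hαβ, pow_mul,
            pow_orderOf_eq_one, one_pow]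
        have hodd : Odd (orderOf (m ^ e')) := Odd.of_dvd_nat
          (Nat.odd_iff.mpr (Nat.two_dvd_ne_zero.mp hβ)) (orderOf_dvd_of_pow_eq_one hoo)
        refine ⟨m ^ e, hPS.symm ▸ hSmem _ (pow_mem hm e) ⟨α, ?_⟩, m ^ e', ?_, ?_, hodd⟩
        · obtain ⟨t, rfl⟩ := he0
          rw [← pow_mul, show β * t * 2 ^ α = (2 ^ α * β) * t by ring, ← hαβ, pow_mul,
            pow_orderOf_eq_one, one_pow]
        · rw [mem_centralizer_iff]
          intro x hx
          have h1 := CfsgLib.Transfer.mem_centralizer_sylow_of_isNilpotent (p := 2) Pm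
            (g := ⟨m ^ e', pow_mem hm e'⟩) (by rw [Subgroup.orderOf_mk]; exact Nat.coprime_two_right.mpr hodd)
          obtain ⟨x', hx', rfl⟩ := (hPS ▸ hx : x ∈ S)
          exact congrArg Subtype.val (mem_centralizer_iff.mp h1 x' hx')
        · rw [← pow_add]
          conv_lhs => rw [← pow_one m]
          rw [pow_eq_pow_iff_modEq, hαβ]
          refine (Nat.modEq_and_modEq_iff_modEq_mul hcop').mp ⟨?_, ?_⟩
          · have := he1.add (Nat.modEq_zero_iff_dvd.mpr he1')
            simpa using this.symm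
          · have := (Nat.modEq_zero_iff_dvd.mpr he0).add he0'
            simpa using this.symm
      set Z := (P : Subgroup G) ⊓ centralizer ((P : Subgroup G) : Set G) with hZdef
      have hMcent : ∀ m ∈ M, ∀ z ∈ Z, m * z = z * m := by
        intro m hm z hz
        obtain ⟨v, hv, o, ho, rfl, -⟩ := hdec m hm
        have h1 : v * z = z * v := mem_centralizer_iff.mp hz.2 v hv
        have h2 : o * z = z * o := (mem_centralizer_iff.mp ho z hz.1).symm
        rw [mul_assoc, h2, ← mul_assoc, h1, mul_assoc]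
      have hZi : ActInv φ Z := fun a z hz => ⟨hSi a z hz.1, mem_centralizer_iff.mpr fun w hw => by
        have h1 := hSi a⁻¹ w hw
        have h2 := mem_centralizer_iff.mp hz.2 _ h1
        have := congrArg (φ a) h2
        rwa [map_mul, map_mul, map_inv, MulAut.inv_def, MulEquiv.apply_symm_apply] at this⟩
      obtain ⟨z₂, hz₂⟩ : ∃ z : Z, orderOf z = 2 := by
        refine exists_prime_orderOf_dvd_card' 2 ?_
        haveI : Nontrivial (P : Subgroup G) := (Subgroup.nontrivial_iff_ne_bot _).mpr (hPS ▸ hSne)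
        have hc := P.isPGroup'.center_nontrivial
        have hne : Z ≠ ⊥ := by
          intro h
          obtain ⟨z, hz1⟩ := exists_ne (1 : center (P : Subgroup G))
          have hzZ : ((z : (P : Subgroup G)) : G) ∈ Z := ⟨(z : (P : Subgroup G)).2, mem_centralizer_iff.mpr fun w hw =>
            congrArg Subtype.val (mem_center_iff.mp z.2 ⟨w, hw⟩)⟩
          rw [h, mem_bot] at hzZ
          exact hz1 (Subtype.ext (Subtype.ext hzZ))
        exact ((P.isPGroup'.to_le inf_le_left).card_eq_or_dvd).resolve_left fun h => hne (Subgroup.card_eq_one.mp h)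
      have hNZ : normalizer (Z : Set G) = M := hloc Z (inf_le_left.trans hSM) hZi
        (fun h => by
          have := mem_bot.mp ((SetLike.ext_iff.mp h (z₂ : G)).mp z₂.2)
          rw [← Subgroup.orderOf_coe, this, orderOf_one] at hz₂
          omega)
        (le_normalizer_iff.mpr fun m hm z hz => by rwa [hMcent m hm z hz, mul_inv_cancel_right])
      have hCZ : centralizer {x : G | x ∈ Z ∧ x * x = 1} ≤ M := by
        set Ω : Set G := {x : G | x ∈ Z ∧ x * x = 1} with hΩ
        have hCi : ActInv φ (centralizer Ω) := fun a c hc => mem_centralizer_iff.mpr fun x hx => by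
          have h1 : φ a⁻¹ x ∈ Ω := ⟨hZi a⁻¹ x hx.1, by rw [← map_mul, hx.2, map_one]⟩
          have := congrArg (φ a) (mem_centralizer_iff.mp hc _ h1)
          rwa [map_mul, map_mul, map_inv, MulAut.inv_def, MulEquiv.apply_symm_apply] at this
        refine (hMmax _ (fun m hm => mem_centralizer_iff.mpr fun x hx => (hMcent m hm x hx.1).symm)
          (fun h => ?_) hCi).le
        have hR := hcore (closure Ω) ⟨fun r hr g => ?_⟩ ?_ ((closure_le _).mpr fun x hx => hSM hx.1.1)
        · have h1 : (z₂ : G) ∈ closure Ω := subset_closure ⟨z₂.2, by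
            have h3 := orderOf_dvd_iff_pow_eq_one.mp (dvd_of_eq hz₂)
            rw [pow_two] at h3
            exact congrArg Subtype.val h3⟩
          rw [hR, mem_bot] at h1
          rw [← Subgroup.orderOf_coe, h1, orderOf_one] at hz₂
          omega
        · have hg : g ∈ centralizer Ω := h.symm ▸ mem_top g
          have hc : closure Ω ≤ centralizer ({g} : Set G) := (closure_le _).mpr fun x hx =>
            mem_centralizer_singleton_iff.mpr (mem_centralizer_iff.mp hg x hx)
          rwa [← mem_centralizer_singleton_iff.mp (hc hr), mul_inv_cancel_right]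
        · intro a x hx
          have hle : closure Ω ≤ (closure Ω).comap (φ a).toMonoidHom := (closure_le _).mpr fun y hy =>
            subset_closure ⟨hZi a y hy.1, by
              show φ a y * φ a y = 1
              rw [← map_mul, hy.2, map_one]⟩
          exact hle hx
      rcases CfsgLib.FgsB.ClassTwo.complement_or_good P M hcl' hSM hdec hNS.le hNZ.le hCZ with hgood | ⟨U, E, k, hg, hE2, hkM, hkR⟩
      · exact hgood
      · exfalso
        have hAodd : Odd (Nat.card A) := Nat.coprime_two_right.mp (hcop.coprime_dvd_right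
          (hpM.trans M.card_subgroup_dvd_card))
        have hmapS : ∀ a, (P : Subgroup G).map (φ a).toMonoidHom = (P : Subgroup G) := hSi.map_eq
        have horb : ∀ a, E.map (φ a).toMonoidHom ≤ U := fun a => hg.orbit_le hcl' hE2 (φ a)
          (hAodd.of_dvd_nat ((orderOf_map_dvd φ a).trans (_root_.orderOf_dvd_natCard a))) (hmapS a)
        set R := ⨆ a : A, E.map (φ a).toMonoidHom with hR
        have hRU : R ≤ U := iSup_le horb
        have hER : E ≤ R := le_trans (by rw [map_one]; exact (Subgroup.map_id E).ge) (le_iSup _ (1 : A))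
        have hRi : ActInv φ R := by
          intro a x hx
          have hle : R ≤ R.comap (φ a).toMonoidHom := iSup_le fun b => by
            rw [← Subgroup.map_le_iff_le_comap, Subgroup.map_map]
            refine le_trans (le_of_eq ?_) (le_iSup _ (a * b))
            rw [map_mul]; rfl
          exact hle hx
        have hRne : R ≠ ⊥ := by
          intro h
          obtain ⟨e, he, s, hs, hne⟩ := hg.ne_bot_comm
          have := hER he
          rw [h, mem_bot] at this
          exact hne (by rw [this]; simp)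
        have hMR : M ≤ normalizer (R : Set G) := by
          intro m hm
          obtain ⟨v, hv, o, ho, rfl, -⟩ := hdec m hm
          refine mul_mem ?_ ?_
          · rw [mem_normalizer_iff_map_conj_eq]
            refine Subgroup.eq_of_le_of_card_ge ?_
              (by rw [Subgroup.card_map_of_injective (MulAut.conj v).injective])
            rw [hR, Subgroup.map_iSup]
            refine iSup_le fun a => le_trans ?_ (le_iSup _ a)
            rintro _ ⟨e, he, rfl⟩
            exact (hg.map (φ a) (hmapS a)).normal v hv e he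
          · exact centralizer_le_normalizer _ (centralizer_le (hRU.trans hg.le) ho)
        have hNR := hloc R (hRU.trans (hg.le.trans hSM)) hRi hRne hMR
        exact hkM (hNR ▸ hkR R hER hRU)
    · refine CfsgLib.Transfer.hasNormalPComplement_of_centerThompsonOf hp2 P ?_
      set Z := Cfsg.centerThompsonOf p (P : Subgroup G) with hZ
      have hZi : ActInv φ Z := actInv_of_map_eq fun a => by
        rw [hZ, CfsgLib.Transfer.map_centerThompsonOf (φ a).toMonoidHom _
          ((φ a).injective.comp (P : Subgroup G).subtype_injective), hPS, hSi.map_eq a]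
      have hK := CfsgLib.Transfer.subgroupFunctor_centerThompsonOf.{u} (p := p)
      have hNZ := hloc Z ((hK.le G (P : Subgroup G)).trans (hPS.le.trans hSM)) hZi
        (hK.ne_bot G _ P.isPGroup' (hPS ▸ hSne)) (by
          refine hMN.trans ?_
          rw [← hPS]
          exact hK.normalizer_le _)
      rw [hNZ]
      exact CfsgLib.Transfer.hasNormalPComplement_of_isNilpotent
  -- the common complement
  set T := (Nat.card M).primeFactors with hT
  have hres : ∀ p ∈ T, ∀ x : G, x ∈ Cfsg.pResidual p G ↔ Nat.Coprime (orderOf x) p := fun p hp x => by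
    obtain ⟨hpp, hpd, -⟩ := Nat.mem_primeFactors.mp hp
    haveI := Fact.mk hpp
    exact CfsgLib.Transfer.mem_pResidual_iff (hcompl p hpp hpd)
  set K : Subgroup G := ⨅ p ∈ T, Cfsg.pResidual p G with hKdef
  have hKmem : ∀ x, x ∈ K ↔ ∀ p ∈ T, Nat.Coprime (orderOf x) p := by
    intro x
    simp only [hKdef, Subgroup.mem_iInf]
    exact forall₂_congr fun p hp => hres p hp x
  haveI hKn : K.Normal := ⟨fun x hx g => (hKmem _).mpr fun p hp => by
    rw [show orderOf (g * x * g⁻¹) = orderOf x from
      orderOf_injective (MulAut.conj g).toMonoidHom (MulAut.conj g).injective x]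
    exact (hKmem x).mp hx p hp⟩
  have hKi : ActInv φ K := fun a x hx => (hKmem _).mpr fun p hp => by
    rw [MulEquiv.orderOf_eq]; exact (hKmem x).mp hx p hp
  have hcopK : (Nat.card M).Coprime (Nat.card K) := Nat.coprime_of_dvd fun r hr hrM hrK => by
    haveI := Fact.mk hr
    obtain ⟨x, hx⟩ := exists_prime_orderOf_dvd_card' r hrK
    have := (hKmem x.1).mp x.2 r (Nat.mem_primeFactors.mpr ⟨hr, hrM, Nat.card_pos.ne'⟩)
    rw [Subgroup.orderOf_coe, hx, Nat.coprime_self] at this
    exact hr.ne_one this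
  have hinf : K ⊓ M = ⊥ := CfsgLib.Coprime.inf_eq_bot_of_coprime hcopK.symm
  have hKne : K ≠ ⊥ := by
    intro hbot
    apply hMtop
    rw [← Subgroup.index_eq_one]
    by_contra hne
    obtain ⟨r, hr, hrd⟩ := Nat.exists_prime_and_dvd hne
    haveI := Fact.mk hr
    by_cases hrM : r ∣ Nat.card M
    · obtain ⟨Pm⟩ : Nonempty (Sylow r M) := inferInstance
      have hp : IsPGroup r ((Pm : Subgroup M).map M.subtype) := Pm.isPGroup'.map _
      obtain ⟨Q, hQ⟩ := hp.exists_le_sylow
      have hQM : (Q : Subgroup G) ≤ M := by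
        intro x hx
        haveI := Q.isPGroup'.isNilpotent
        by_contra hxM
        have hlt : ((Pm : Subgroup M).map M.subtype).subgroupOf Q < ⊤ := lt_top_iff_ne_top.mpr fun h =>
          hxM (Subgroup.map_subtype_le _ (Subgroup.subgroupOf_eq_top.mp h hx))
        obtain ⟨y, hy, hyn⟩ := SetLike.exists_of_lt (Group.normalizerCondition_of_isNilpotent (G := Q) _ hlt)
        rw [← Subgroup.subgroupOf_normalizer_eq hQ] at hy
        set S := (Pm : Subgroup M).map M.subtype with hS
        have hSM : S ≤ M := Subgroup.map_subtype_le _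
        have hSmem : ∀ z ∈ M, (∃ i, z ^ r ^ i = 1) → z ∈ S := fun z hz ⟨i, hi⟩ =>
          ⟨⟨z, hz⟩, mem_sylow_of_nilpotent Pm (Subtype.ext (by simpa using hi)), rfl⟩
        have hNS : normalizer (S : Set G) = M := by
          refine hloc S hSM (fun a z hz => ?_) (fun h => Pm.ne_bot_of_dvd_card hrM
            ((Subgroup.map_eq_bot_iff_of_injective _ M.subtype_injective).mp h))
            (le_normalizer_iff.mpr fun m hm z hz => ?_)
          · obtain ⟨i, hi⟩ := pPart_card hp hz
            exact hSmem _ (hMinv a z (hSM hz)) ⟨i, by rw [← map_pow, hi, map_one]⟩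
          · obtain ⟨i, hi⟩ := pPart_card hp hz
            exact hSmem _ (mul_mem (mul_mem hm (hSM hz)) (inv_mem hm))
              ⟨i, by rw [conj_pow, hi, mul_one, mul_inv_cancel]⟩
        rw [hNS] at hy
        exact hyn (hSmem y hy (pPart_card Q.isPGroup' y.2))
      exact Q.not_dvd_index (hrd.trans (Subgroup.index_dvd_of_le hQM))
    · obtain ⟨x, hx⟩ := exists_prime_orderOf_dvd_card' r (hrd.trans M.index_dvd_card)
      have : x ∈ K := (hKmem x).mpr fun p hp => by
        rw [hx]
        exact (Nat.coprime_primes hr (Nat.mem_primeFactors.mp hp).1).mpr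
          fun e => hrM (e ▸ (Nat.mem_primeFactors.mp hp).2.1)
      rw [hbot, mem_bot] at this
      rw [this, orderOf_one] at hx
      exact hr.ne_one hx.symm
  -- an invariant Sylow subgroup of `K` normalised by `M`
  haveI : Finite (G ⋊[φ] A) := Finite.of_equiv _ SemidirectProduct.equivProd.symm
  let inl : G →* G ⋊[φ] A := SemidirectProduct.inl
  let inr : A →* G ⋊[φ] A := SemidirectProduct.inr
  have hinl : Function.Injective inl := SemidirectProduct.inl_injective
  set K' := K.map inl with hK'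
  set B := M.map inl ⊔ inr.range with hB
  have hAnorm : ∀ X : Subgroup G, ActInv φ X → inr.range ≤ normalizer ((X.map inl : Subgroup (G ⋊[φ] A)) : Set (G ⋊[φ] A)) := by
    intro X hX
    rw [le_normalizer_iff]
    rintro _ ⟨a, rfl⟩ _ ⟨x, hx, rfl⟩
    refine ⟨φ a x, hX a x hx, ?_⟩
    show inl (φ a x) = inr a * inl x * (inr a)⁻¹
    rw [SemidirectProduct.inl_aut, map_inv]
  have hGnorm : ∀ X : Subgroup G, ∀ Y : Subgroup G, Y ≤ normalizer (X : Set G) →
      Y.map inl ≤ normalizer ((X.map inl : Subgroup (G ⋊[φ] A)) : Set (G ⋊[φ] A)) :=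
    fun X Y h => (Subgroup.map_mono h).trans (le_normalizer_map inl)
  have hBK : B ≤ normalizer (K' : Set (G ⋊[φ] A)) :=
    sup_le (hGnorm K M (le_normalizer_of_normal)) (hAnorm K hKi)
  have cK : Nat.card K' = Nat.card K := Subgroup.card_map_of_injective hinl
  have cB : Nat.card B ∣ Nat.card M * Nat.card A := by
    have h1 := CfsgLib.Coprime.card_sup_dvd (H := inr.range) (N := M.map inl) (hAnorm M hMinv)
    rw [sup_comm, Subgroup.card_map_of_injective hinl,
      Nat.card_congr (MonoidHom.ofInjective (f := inr) SemidirectProduct.inr_injective).toEquiv.symm] at h1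
    rw [mul_comm]; exact h1
  have hcopB : (Nat.card B).Coprime (Nat.card K') := by
    rw [cK]
    refine Nat.Coprime.coprime_dvd_left cB (Nat.Coprime.mul_left hcopK ?_)
    exact hcop.coprime_dvd_right K.card_subgroup_dvd_card
  have hBsolv : Group.IsSolvable B ∨ Group.IsSolvable K' := by
    by_cases h2 : 2 ∣ Nat.card K
    · left
      exact CfsgLib.FT.isSolvable_of_odd (Nat.coprime_two_right.mp
        (hcopB.coprime_dvd_right (cK ▸ h2)))
    · right
      exact CfsgLib.FT.isSolvable_of_odd (by rw [cK]; exact Nat.odd_iff.mpr (Nat.two_dvd_ne_zero.mp h2))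
  obtain ⟨q, hq, hqd⟩ := Nat.exists_prime_and_dvd (fun h => hKne (Subgroup.card_eq_one.mp h))
  haveI := Fact.mk hq
  obtain ⟨Q', hQ'⟩ := CfsgLib.Coprime.exists_invariant_sylow (p := q) hBK hcopB hBsolv
  set Q := ((Q' : Subgroup K').map K'.subtype).comap inl with hQ
  have hQ'le : (Q' : Subgroup K').map K'.subtype ≤ K' := Subgroup.map_subtype_le _
  have hQmap : Q.map inl = (Q' : Subgroup K').map K'.subtype :=
    Subgroup.map_comap_eq_self (hQ'le.trans (Subgroup.map_le_range inl K))
  have hQK : Q ≤ K := fun x hx => by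
    obtain ⟨y, hy, hyx⟩ := hQ'le hx
    exact hinl hyx ▸ hy
  have hQp : IsPGroup q Q := (Q'.isPGroup'.map _).comap_of_injective inl hinl
  have hQne : Q ≠ ⊥ := fun h => Q'.ne_bot_of_dvd_card (cK.symm ▸ hqd) (by
    rw [← Subgroup.map_eq_bot_iff_of_injective _ K'.subtype_injective, ← hQmap, h, Subgroup.map_bot])
  have hQi : ActInv φ Q := fun a x hx => by
    have h1 := (mem_normalizer_iff.mp (hQ' (le_sup_right (a := M.map inl) ⟨a, rfl⟩)) (inl x)).mp hx
    show inl (φ a x) ∈ (Q' : Subgroup K').map K'.subtype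
    rw [SemidirectProduct.inl_aut, map_inv]
    exact h1
  have hMQ : M ≤ normalizer (Q : Set G) := le_normalizer_iff.mpr fun m hm x hx => by
    have h1 := (mem_normalizer_iff.mp (hQ' (le_sup_left (b := inr.range) ⟨m, hm, rfl⟩)) (inl x)).mp hx
    show inl (m * x * m⁻¹) ∈ (Q' : Subgroup K').map K'.subtype
    rw [map_mul, map_mul, map_inv]
    exact h1
  have htop : M ⊔ Q = ⊤ := by
    by_contra hne
    have heq := hMmax _ le_sup_left hne (hMinv.sup hQi)
    exact hQne (le_bot_iff.mp (hinf ▸ le_inf hQK (le_sup_right.trans heq.le)))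
  have hKQ : K ≤ Q := fun k hk => by
    have hk' : k ∈ M ⊔ Q := htop ▸ mem_top k
    obtain ⟨m, hm, y, hy, rfl⟩ := (CfsgLib.Coprime.mem_sup_iff_of_le_normalizer hMQ).mp hk'
    have : m ∈ K ⊓ M := ⟨by simpa using mul_mem hk (inv_mem (hQK hy)), hm⟩
    rw [hinf, mem_bot] at this
    rw [this, one_mul]; exact hy
  haveI : Group.IsNilpotent K := (hQp.to_le hKQ).isNilpotent
  haveI : Group.IsSolvable M := inferInstance
  haveI : Group.IsSolvable (G ⧸ K) := by
    refine Group.isSolvable_of_surjective (f := (QuotientGroup.mk' K).comp M.subtype) fun w => ?_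
    obtain ⟨g, rfl⟩ := QuotientGroup.mk'_surjective K w
    have hg : g ∈ M ⊔ Q := htop ▸ mem_top g
    obtain ⟨m, hm, y, hy, rfl⟩ := (CfsgLib.Coprime.mem_sup_iff_of_le_normalizer hMQ).mp hg
    refine ⟨⟨m, hm⟩, ?_⟩
    show QuotientGroup.mk' K m = QuotientGroup.mk' K (m * y)
    rw [map_mul, show QuotientGroup.mk' K y = 1 from (QuotientGroup.eq_one_iff y).mpr (hQK hy), mul_one]
  exact (Group.isSolvable_iff_subgroup_quotient K).mpr ⟨inferInstance, inferInstance⟩


/-- Let A and G be finite groups of coprime orders with A acting on G by automorphisms. Suppose G has a proper A-invariant subgroup M, maximal among proper A-invariant subgroups, which is nilpotent and whose Sylow 2-subgroups have nilpotency class at most 2. Then G is solvable. -/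
theorem result {G A : Type*} [Group G] [Finite G]
    [Group A] [Finite A] (φ : A →* MulAut G) (hcop : (Nat.card A).Coprime (Nat.card G))
    (M : Subgroup G) (hMtop : M ≠ ⊤) (hMinv : ∀ a : A, ∀ m : G, m ∈ M → φ a m ∈ M)
    (hMmax : ∀ H : Subgroup G, M ≤ H → H ≠ ⊤ → (∀ a : A, ∀ h : G, h ∈ H → φ a h ∈ H) → H = M)
    (hnil : Group.IsNilpotent M) (h2 : ∀ S : Sylow 2 ↥M, Group.nilpotencyClass ↥(S : Subgroup ↥M) ≤ 2) :
    Group.IsSolvable G := by
  refine aux (Nat.card G) φ le_rfl hcop M hMtop hMinv hMmax hnil ?_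
  intro x hx y hy w hw ⟨i, hi⟩ ⟨j, hj⟩ ⟨l, hl⟩
  haveI := Fact.mk Nat.prime_two
  haveI := hnil
  obtain ⟨S⟩ : Nonempty (Sylow 2 M) := inferInstance
  have hS : ∀ (z : G) (hz : z ∈ M) (n : ℕ), z ^ 2 ^ n = 1 → (⟨z, hz⟩ : M) ∈ (S : Subgroup M) :=
    fun z hz n hn => mem_sylow_of_nilpotent S (Subtype.ext (by simpa using hn))
  haveI := S.isPGroup'.isNilpotent
  have h2' : Subgroup.upperCentralSeries (S : Subgroup M) 2 = ⊤ := top_le_iff.mp
    ((Subgroup.upperCentralSeries_nilpotencyClass (G := (S : Subgroup M))).ge.trans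
      (Subgroup.upperCentralSeries_mono (S : Subgroup M) (h2 S)))
  set x' : (S : Subgroup M) := ⟨⟨x, hx⟩, hS x hx i hi⟩
  set y' : (S : Subgroup M) := ⟨⟨y, hy⟩, hS y hy j hj⟩
  set w' : (S : Subgroup M) := ⟨⟨w, hw⟩, hS w hw l hl⟩
  have h1 : x' ∈ Subgroup.upperCentralSeries (S : Subgroup M) (1 + 1) := h2' ▸ Subgroup.mem_top _
  have h3 := (Subgroup.mem_upperCentralSeries_succ_iff.mp h1) y'
  rw [Subgroup.upperCentralSeries_one, Subgroup.mem_center_iff] at h3
  exact (congrArg (fun z : (S : Subgroup M) => ((z : M) : G)) (h3 w')).symm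

end Cfsg.Agent.S4038
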