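import Cfsg.Statements.S4040
import Mathlib
import Cfsg.Agent.Lib.Transfer.ZJComplement
import Cfsg.Agent.Lib.Coprime.Action

set_option autoImplicit false
open Cfsg

namespace Cfsg.Agent.S4040

universe u

open Subgroup in
theorem aux (n : ℕ) : ∀ {G : Type u} [Group G] [Finite G], Nat.card G = n → ∀ M : Subgroup G, IsCoatom M →
    Group.IsNilpotent M → Odd (Nat.card M) → Group.IsSolvable G := by
  induction n using Nat.strong_induction_on with
  | _ n ih =>
  intro G _ _ hn M hmax hnil hodd
  haveI := hnil
  by_cases hcore : M.normalCore ≠ ⊥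
  · set N := M.normalCore with hN
    haveI : Group.IsNilpotent N := Group.isNilpotent_congr
      (Subgroup.subgroupOfEquivOfLe M.normalCore_le) |>.mp inferInstance
    haveI : Group.IsSolvable N := IsNilpotent.to_isSolvable
    have hlt : Nat.card (G ⧸ N) < n := by
      rw [← hn, ← N.card_mul_index, ← Subgroup.index_eq_card]
      exact lt_mul_of_one_lt_left (Nat.pos_of_ne_zero N.index_ne_zero_of_finite) (N.one_lt_card_iff_ne_bot.mpr hcore)
    set f := QuotientGroup.mk' N with hf
    have hcm : (M.map f).comap f = M := by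
      rw [Subgroup.comap_map_eq_self]
      rw [hf, QuotientGroup.ker_mk']
      exact M.normalCore_le
    have hfs := QuotientGroup.mk'_surjective N
    haveI : Group.IsSolvable (G ⧸ N) := by
      refine ih _ hlt rfl (M.map f) ⟨fun h => hmax.1 ?_, fun H hH => ?_⟩ ?_ ?_
      · rw [← hcm, h, Subgroup.comap_top]
      · have h1 : M < H.comap f := by
          exact hcm.symm.trans_lt (Subgroup.comap_lt_comap_of_surjective hfs |>.mpr hH)
        have h2 := hmax.2 _ h1
        rw [← Subgroup.map_comap_eq_self_of_surjective hfs H, h2, Subgroup.map_top_of_surjective f hfs]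
      · exact Group.nilpotent_of_surjective (f.subgroupMap M) (f.subgroupMap_surjective M)
      · exact hodd.of_dvd_nat (M.card_map_dvd f)
    exact Group.isSolvable_of_ker_le_range N.subtype f (by simp [hf])
  push Not at hcore
  -- trivial core
  rcases eq_or_ne M ⊥ with hM | hM
  · subst hM
    have : IsCyclic G := by
      rcases subsingleton_or_nontrivial G with hs | hs
      · exact ⟨1, fun x => ⟨0, Subsingleton.elim _ _⟩⟩
      obtain ⟨g, hg⟩ := exists_ne (1 : G)
      have := hmax.2 (Subgroup.zpowers g) (bot_lt_iff_ne_bot.mpr fun h => hg (Subgroup.zpowers_eq_bot.mp h))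
      exact ⟨g, fun x => Subgroup.mem_zpowers_iff.mp ((this ▸ Subgroup.mem_top x : x ∈ Subgroup.zpowers g))⟩
    letI := IsCyclic.commGroup (α := G)
    infer_instance
  have hsylow : ∀ (p : ℕ) [Fact p.Prime], p ∣ Nat.card M →
      ¬ p ∣ M.index ∧ Cfsg.HasNormalPComplement p G := by
    intro p _ hp
    obtain ⟨P⟩ : Nonempty (Sylow p M) := inferInstance
    set P' := (P : Subgroup M).map M.subtype with hP'
    have hPn : (P : Subgroup M).Normal := P.normal_of_normalizerCondition Group.normalizerCondition_of_isNilpotent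
    have hP'ne : P' ≠ ⊥ := by
      rw [hP', Ne, Subgroup.map_eq_bot_iff_of_injective _ M.subtype_injective]
      exact P.ne_bot_of_dvd_card hp
    have hMN : ∀ X : Subgroup G, X ≠ ⊥ → X ≤ M → M ≤ normalizer (X : Set G) → normalizer (X : Set G) = M := by
      intro X hX hXM hXn
      refine ((hXn.eq_or_lt).resolve_right fun h => ?_).symm
      haveI := Subgroup.normalizer_eq_top_iff.mp (hmax.2 _ h)
      exact hX (le_bot_iff.mp (hcore ▸ Subgroup.normal_le_normalCore.mpr hXM))
    have hMP : M ≤ normalizer (P' : Set G) := by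
      intro m hm
      rw [Subgroup.mem_normalizer_iff_map_conj_eq, hP', Subgroup.map_map]
      have e : ((MulAut.conj m : MulAut G) : G →* G).comp M.subtype =
          M.subtype.comp ((MulAut.conj (⟨m, hm⟩ : M) : MulAut M) : M →* M) := rfl
      rw [e, ← Subgroup.map_map]
      congr 1
      exact Subgroup.mem_normalizer_iff_map_conj_eq.mp ((Subgroup.normalizer_eq_top_iff.mpr hPn) ▸ Subgroup.mem_top _)
    have hNP := hMN P' hP'ne (Subgroup.map_subtype_le _) hMP
    have hP'p : IsPGroup p P' := P.2.map _
    obtain ⟨S, hS⟩ := hP'p.exists_le_sylow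
    have hSeq : (S : Subgroup G) = P' := by
      refine (hS.eq_or_lt.resolve_right fun hlt => ?_).symm
      have h1 := CfsgLib.Transfer.lt_inf_normalizer S.2 hlt
      rw [hNP] at h1
      have h2 : IsPGroup p (((S : Subgroup G) ⊓ M).subgroupOf M) :=
        (S.2.to_le inf_le_left).comap_of_injective M.subtype M.subtype_injective
      have h3 : (P : Subgroup M) ≤ ((S : Subgroup G) ⊓ M).subgroupOf M :=
        Subgroup.map_le_iff_le_comap.mp h1.le
      have h4 := P.3 h2 h3
      have h5 : ((S : Subgroup G) ⊓ M) ≤ P' := by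
        rw [hP', ← h4, Subgroup.map_subgroupOf_eq_of_le inf_le_right]
      exact h1.not_ge h5
    refine ⟨fun hd => ?_, ?_⟩
    · apply S.not_dvd_index
      rw [hSeq, ← Subgroup.relIndex_mul_index (Subgroup.map_subtype_le _ : P' ≤ M)]
      exact hd.mul_left _
    · have hp2 : p ≠ 2 := by
        rintro rfl
        exact (Nat.not_even_iff_odd.mpr hodd) (even_iff_two_dvd.mpr hp)
      refine CfsgLib.Transfer.hasNormalPComplement_of_centerThompsonOf hp2 S ?_
      have hF := CfsgLib.Transfer.subgroupFunctor_centerThompsonOf.{u} (p := p)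
      rw [hSeq]
      have hZle := hF.le G P'
      rw [hMN _ (hF.ne_bot G P' hP'p hP'ne) (hZle.trans (Subgroup.map_subtype_le _))
        (hMP.trans (hF.normalizer_le P'))]
      exact CfsgLib.Transfer.hasNormalPComplement_of_isNilpotent
  -- the intersection of the normal complements
  set K : Subgroup G := ⨅ p ∈ (Nat.card M).primeFactors, Cfsg.pResidual p G with hK
  haveI hKn : K.Normal := Subgroup.normal_iInf_normal fun p => Subgroup.normal_iInf_normal fun _ =>
    CfsgLib.Transfer.pResidual_normal
  obtain ⟨r, hr, hrd⟩ := Nat.exists_prime_and_dvd (show M.index ≠ 1 from fun h => hmax.1 (Subgroup.index_eq_one.mp h))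
  haveI := Fact.mk hr
  have hrM : ¬ r ∣ Nat.card M := fun h => (hsylow r h).1 hrd
  obtain ⟨x, hx⟩ := exists_prime_orderOf_dvd_card' r (hrd.trans M.index_dvd_card)
  have hxK : x ∈ K := by
    simp only [hK, Subgroup.mem_iInf]
    intro p hp
    refine CfsgLib.Transfer.mem_pResidual_of_coprime (p := p) ?_
    rw [hx]
    exact (Nat.coprime_primes hr (Nat.prime_of_mem_primeFactors hp)).mpr
      fun e => hrM (e ▸ Nat.dvd_of_mem_primeFactors hp)
  have hcop : (Nat.card M).Coprime (Nat.card K) := by
    refine Nat.coprime_of_dvd fun p hp hpM hpK => ?_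
    haveI := Fact.mk hp
    have hle : K ≤ Cfsg.pResidual p G := iInf₂_le p (Nat.mem_primeFactors.mpr ⟨hp, hpM, Nat.card_pos.ne'⟩)
    exact CfsgLib.Transfer.hasNormalPComplement_iff_pResidual.mp (hsylow p hpM).2 (hpK.trans (Subgroup.card_dvd_of_le hle))
  have hrK : r ∣ Nat.card K := hx ▸ Subgroup.orderOf_dvd_natCard K hxK
  haveI : Group.IsSolvable M := IsNilpotent.to_isSolvable
  obtain ⟨Q, hQ⟩ := CfsgLib.Coprime.exists_invariant_sylow (p := r) (A := M) (K := K)
    (Subgroup.normalizer_eq_top_iff.mpr hKn ▸ le_top) hcop (Or.inl inferInstance)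
  set Q' := (Q : Subgroup K).map K.subtype with hQ'
  have hQne : ¬ Q' ≤ M := by
    intro h
    have h1 := Subgroup.card_dvd_of_le h
    rw [hQ', Subgroup.card_map_of_injective K.subtype_injective] at h1
    exact hrM ((Q.dvd_card_of_dvd_card hrK).trans h1)
  have hQtop : normalizer (Q' : Set G) = ⊤ := by
    rcases hQ.eq_or_lt with h | h
    · exact absurd (h ▸ Subgroup.le_normalizer) hQne
    · exact hmax.2 _ h
  haveI := Subgroup.normalizer_eq_top_iff.mp hQtop
  have htop : Q' ⊔ M = ⊤ := hmax.2 _ (lt_of_le_of_ne le_sup_right fun h => hQne (h ▸ le_sup_left))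
  set f := QuotientGroup.mk' Q' with hf
  have hsurj : Function.Surjective (f.comp M.subtype) := by
    rw [← MonoidHom.range_eq_top, MonoidHom.range_comp, Subgroup.range_subtype]
    rw [← Subgroup.comap_injective (QuotientGroup.mk'_surjective Q') |>.eq_iff, Subgroup.comap_top,
      Subgroup.comap_map_eq, QuotientGroup.ker_mk', sup_comm, htop]
  haveI : Group.IsSolvable (G ⧸ Q') := Group.isSolvable_of_surjective hsurj
  haveI : Group.IsNilpotent Q' := (Q.2.map K.subtype).isNilpotent
  haveI : Group.IsSolvable Q' := IsNilpotent.to_isSolvable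
  exact Group.isSolvable_of_ker_le_range Q'.subtype f (by simp [hf])

/-- A finite group possessing a maximal subgroup that is nilpotent of odd order is solvable. -/
theorem result {G : Type*} [Group G] [Finite G]
    (M : Subgroup G) (hmax : IsCoatom M) (hnil : Group.IsNilpotent M) (hodd : Odd (Nat.card M)) :
    Group.IsSolvable G := by
  exact aux _ rfl M hmax hnil hodd

end Cfsg.Agent.S4040
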