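import Cfsg.Statements.S4043
import Mathlib
import Cfsg.Agent.Lib.Coprime.SchurZassenhaus
import Cfsg.Agent.Lib.PGroups.Basic

set_option autoImplicit false
set_option linter.style.haveILetI false
open Cfsg

namespace Cfsg.Agent.S4043

theorem orderOf_eq_of_congr {G : Type*} [Group G] [Finite G] (N : Subgroup G) [N.Normal]
    (A : Subgroup G) (hA : A.IsComplement' N) {a : G} (ha : a ∈ A) :
    orderOf (QuotientGroup.mk' N a) = orderOf a := by
  refine Nat.dvd_antisymm (orderOf_map_dvd _ a) (orderOf_dvd_of_pow_eq_one ?_)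
  have h1 : a ^ orderOf (QuotientGroup.mk' N a) ∈ N := by
    rw [← QuotientGroup.eq_one_iff]
    show QuotientGroup.mk' N (a ^ _) = 1
    rw [map_pow, pow_orderOf_eq_one]
  have h2 : a ^ orderOf (QuotientGroup.mk' N a) ∈ A ⊓ N := ⟨pow_mem ha _, h1⟩
  rwa [hA.disjoint.eq_bot, Subgroup.mem_bot] at h2

/-- `A` is the normalizer of its normal `p`-complement. -/
theorem core {G : Type*} [Group G] [Finite G] {p : ℕ} [hp : Fact p.Prime]
    (N : Subgroup G) [N.Normal] (hN : IsPGroup p N) (A : Subgroup G) (hA : A.IsComplement' N)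
    (hAp : Cfsg.HasNormalPComplement p A)
    (hC : ∀ n : G, n ∈ N → (∀ a : G, a ∈ A → a * n * a⁻¹ = n) → n = 1) :
    ∃ Q : Subgroup G, Q ≤ A ∧ (∀ a ∈ A, a ∈ Q ↔ ¬ p ∣ orderOf a) ∧ ¬ p ∣ Nat.card Q ∧
      Subgroup.normalizer (Q : Set G) = A := by
  obtain ⟨P, Q₀, hQn, hcomp⟩ := hAp
  have hQ0 : ¬ p ∣ Nat.card Q₀ := by rw [← hcomp.index_eq_card]; exact P.not_dvd_index
  let Q := Q₀.map A.subtype
  have hQcard : Nat.card Q = Nat.card Q₀ := Subgroup.card_map_of_injective A.subtype_injective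
  have hQA : Q ≤ A := Subgroup.map_subtype_le Q₀
  have hiff : ∀ a ∈ A, a ∈ Q ↔ ¬ p ∣ orderOf a := by
    intro a ha
    constructor
    · intro h hd
      exact hQ0 (hQcard ▸ hd.trans (Q.orderOf_dvd_natCard h))
    · intro h
      obtain ⟨k, hk⟩ := (IsPGroup.iff_card.mp P.isPGroup')
      have hd : orderOf (QuotientGroup.mk' Q₀ ⟨a, ha⟩) ∣ p ^ k := by
        rw [← hk, ← hcomp.symm.index_eq_card, Subgroup.index_eq_card]
        exact _root_.orderOf_dvd_natCard _
      obtain ⟨j, -, hj⟩ := (Nat.dvd_prime_pow hp.out).mp hd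
      have hj0 : j = 0 := by
        by_contra hj0
        refine h ((dvd_pow_self p hj0).trans ?_)
        rw [← hj, ← Subgroup.orderOf_mk a ha]
        exact orderOf_map_dvd _ _
      rw [hj0, pow_zero, orderOf_eq_one_iff] at hj
      exact ⟨⟨a, ha⟩, (QuotientGroup.eq_one_iff _).mp hj, rfl⟩
  have hAnorm : A ≤ Subgroup.normalizer (Q : Set G) := by
    intro a ha
    rw [Subgroup.mem_normalizer_iff]
    intro x
    constructor
    · rintro ⟨y, hy, rfl⟩
      exact ⟨⟨a, ha⟩ * y * ⟨a, ha⟩⁻¹, hQn.conj_mem y hy ⟨a, ha⟩, rfl⟩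
    · rintro ⟨y, hy, hyx⟩
      refine ⟨⟨a, ha⟩⁻¹ * y * (⟨a, ha⟩⁻¹)⁻¹, hQn.conj_mem y hy _, ?_⟩
      have h : (y : G) = a * x * a⁻¹ := hyx
      simp [h]
      group
  let C := N ⊓ Subgroup.centralizer (Q : Set G)
  have hCbot : C = ⊥ := by
    let P' := (P : Subgroup A).map A.subtype
    have hAsup : Q ⊔ P' = A := by
      rw [← Subgroup.map_sup, hcomp.sup_eq_top, ← MonoidHom.range_eq_map, Subgroup.range_subtype]
    have hP'p : IsPGroup p P' := P.isPGroup'.map A.subtype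
    have hP'C : P' ≤ Subgroup.normalizer (C : Set G) := by
      intro a ha
      have haA : a ∈ A := Subgroup.map_subtype_le _ ha
      have hq := hAnorm haA
      rw [Subgroup.mem_normalizer_iff]
      intro x
      have conjC : ∀ b ∈ Subgroup.normalizer (Q : Set G), ∀ z ∈ C, b * z * b⁻¹ ∈ C := by
        intro b hb z hz
        refine ⟨Subgroup.Normal.conj_mem inferInstance z hz.1 b, Subgroup.mem_centralizer_iff.mpr fun y hy => ?_⟩
        have h1 : b⁻¹ * y * b ∈ Q := by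
          have := (Subgroup.mem_normalizer_iff.mp (inv_mem hb) y).mp hy
          simpa using this
        have h2 := Subgroup.mem_centralizer_iff.mp hz.2 _ h1
        calc y * (b * z * b⁻¹) = b * ((b⁻¹ * y * b) * z) * b⁻¹ := by group
          _ = b * (z * (b⁻¹ * y * b)) * b⁻¹ := by rw [h2]
          _ = b * z * b⁻¹ * y := by group
      constructor
      · exact conjC a hq x
      · intro h
        have := conjC a⁻¹ (inv_mem hq) _ h
        simpa [mul_assoc] using this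
    have hCp : IsPGroup p C := hN.to_le inf_le_left
    have hXp : IsPGroup p (P' ⊔ C : Subgroup G) := IsPGroup.to_sup_of_normal_right' hP'p hCp hP'C
    by_contra hne
    haveI : (C.subgroupOf (P' ⊔ C)).Normal :=
      Subgroup.normal_subgroupOf_of_le_normalizer (sup_le hP'C Subgroup.le_normalizer)
    have hne' : C.subgroupOf (P' ⊔ C) ≠ ⊥ := by
      rw [Ne, Subgroup.subgroupOf_eq_bot, disjoint_iff, inf_eq_left.mpr le_sup_right]
      exact hne
    obtain ⟨z, hz, hz1⟩ := (Subgroup.bot_or_exists_ne_one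
      (C.subgroupOf (P' ⊔ C) ⊓ Subgroup.center _)).resolve_left
      (CfsgLib.PGroups.inf_center_ne_bot hXp hne')
    have hzC : (z : G) ∈ C := hz.1
    refine hz1 (Subtype.ext (hC z hzC.1 fun a ha => ?_))
    rw [← hAsup] at ha
    have hcomm : ∀ b ∈ Q ⊔ P', b * z = z * b := by
      intro b hb
      have : Q ⊔ P' ≤ Subgroup.centralizer ({(z : G)} : Set G) := by
        refine sup_le (fun q hq => ?_) (fun q hq => ?_)
        · rw [Subgroup.mem_centralizer_singleton_iff]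
          exact (Subgroup.mem_centralizer_iff.mp hzC.2 q hq)
        · rw [Subgroup.mem_centralizer_singleton_iff]
          exact congrArg Subtype.val (Subgroup.mem_center_iff.mp hz.2 ⟨q, le_sup_left (a := P') hq⟩)
      exact Subgroup.mem_centralizer_singleton_iff.mp (this hb)
    rw [hcomm a ha, mul_inv_cancel_right]
  refine ⟨Q, hQA, hiff, hQcard.symm ▸ hQ0, le_antisymm (fun g hg => ?_) hAnorm⟩
  obtain ⟨⟨a, n⟩, han⟩ := hA.2 g
  have han' : (a : G) * n = g := han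
  have hnQ : (n : G) ∈ Subgroup.normalizer (Q : Set G) := by
    have h := mul_mem (inv_mem (hAnorm a.2)) hg
    rwa [← han', inv_mul_cancel_left] at h
  have hnC : (n : G) ∈ C := by
    refine ⟨n.2, Subgroup.mem_centralizer_iff.mpr fun y hy => ?_⟩
    have h1 : (n : G) * y * (n : G)⁻¹ * y⁻¹ ∈ Q :=
      mul_mem ((Subgroup.mem_normalizer_iff.mp hnQ y).mp hy) (inv_mem hy)
    have h2 : (n : G) * y * (n : G)⁻¹ * y⁻¹ ∈ N := by
      have h3 : y * (n : G)⁻¹ * y⁻¹ ∈ N :=
        Subgroup.Normal.conj_mem inferInstance _ (inv_mem n.2) y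
      have := mul_mem n.2 h3
      simpa [mul_assoc] using this
    have h4 : (n : G) * y * (n : G)⁻¹ * y⁻¹ ∈ A ⊓ N := ⟨hQA h1, h2⟩
    rw [hA.disjoint.eq_bot, Subgroup.mem_bot] at h4
    calc y * n = ((n : G) * y * (n : G)⁻¹ * y⁻¹)⁻¹ * (n * y) := by group
      _ = n * y := by rw [h4, inv_one, one_mul]
  rw [hCbot, Subgroup.mem_bot] at hnC
  rw [← han', hnC, mul_one]
  exact a.2

theorem le_sup_other {G : Type*} [Group G] [Finite G] {p : ℕ} (N : Subgroup G) [N.Normal]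
    {A A₁ Q Q₁ : Subgroup G} (hA : A.IsComplement' N) (hA₁ : A₁.IsComplement' N) (hQA : Q ≤ A)
    (hQ : ∀ a ∈ A, a ∈ Q ↔ ¬ p ∣ orderOf a) (hQ₁ : ∀ a ∈ A₁, a ∈ Q₁ ↔ ¬ p ∣ orderOf a) :
    Q ≤ N ⊔ Q₁ := by
  intro q hq
  obtain ⟨⟨a, n⟩, han⟩ := hA₁.2 q
  have han' : (a : G) * n = q := han
  have he : QuotientGroup.mk' N q = QuotientGroup.mk' N (a : G) := by
    rw [← han', map_mul]
    have : QuotientGroup.mk' N (n : G) = 1 := (QuotientGroup.eq_one_iff _).mpr n.2
    rw [this, mul_one]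
  have haQ : (a : G) ∈ Q₁ := by
    rw [hQ₁ _ a.2, ← orderOf_eq_of_congr N A₁ hA₁ a.2, ← he, orderOf_eq_of_congr N A hA (hQA hq)]
    exact (hQ q (hQA hq)).mp hq
  rw [← han']
  exact mul_mem (Subgroup.mem_sup_right haQ) (Subgroup.mem_sup_left n.2)


/-- Let G be a finite group that is the semidirect product of a normal p-subgroup N by a subgroup A, and also of N by a subgroup A₁, where p is a prime and A and A₁ both have normal p-complements. If C_N(A) = C_N(A₁) = 1, then A₁ is conjugate to A by an element of N. -/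
theorem result {G : Type*} [Group G] [Finite G] {p : ℕ}
    [Fact p.Prime] (N : Subgroup G) [N.Normal] (hN : IsPGroup p N) (A A₁ : Subgroup G)
    (hA : A.IsComplement' N) (hA₁ : A₁.IsComplement' N)
    (hAp : Cfsg.HasNormalPComplement p A) (hA₁p : Cfsg.HasNormalPComplement p A₁)
    (hC : ∀ n : G, n ∈ N → (∀ a : G, a ∈ A → a * n * a⁻¹ = n) → n = 1)
    (hC₁ : ∀ n : G, n ∈ N → (∀ a : G, a ∈ A₁ → a * n * a⁻¹ = n) → n = 1) :
    ∃ n : G, n ∈ N ∧ A₁ = A.map (MulAut.conj n).toMonoidHom := by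
  obtain ⟨Q, hQA, hQ, hQp, hQN⟩ := core N hN A hA hAp hC
  obtain ⟨Q₁, hQA₁, hQ₁, hQ₁p, hQN₁⟩ := core N hN A₁ hA₁ hA₁p hC₁
  have d : Q ⊓ N = ⊥ := le_bot_iff.mp (hA.disjoint.eq_bot ▸ inf_le_inf_right N hQA)
  have d₁ : Q₁ ⊓ N = ⊥ := le_bot_iff.mp (hA₁.disjoint.eq_bot ▸ inf_le_inf_right N hQA₁)
  haveI := hN.isNilpotent
  have hcop : (Nat.card N).Coprime (Nat.card Q) := by
    obtain ⟨k, hk⟩ := IsPGroup.iff_card.mp hN
    rw [hk]
    exact Nat.Coprime.pow_left k ((Nat.Prime.coprime_iff_not_dvd Fact.out).mpr hQp)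
  obtain ⟨n, hn, hnQ⟩ := CfsgLib.Coprime.sz_conj_of_solvable (N := N) inferInstance d d₁
    (le_sup_other N hA hA₁ hQA hQ hQ₁) (le_sup_other N hA₁ hA hQA₁ hQ₁ hQ) hcop
  refine ⟨n, hn, ?_⟩
  rw [← hQN₁, ← hnQ, ← hQN, CfsgLib.Coprime.conj_smul_eq_map,
    ← Subgroup.map_equiv_normalizer_eq Q (MulAut.conj n)]

end Cfsg.Agent.S4043
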