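import Cfsg.Statements.S4049
import Cfsg.Agent.Lib.FgsB.OddInverted

set_option autoImplicit false
open Cfsg

namespace Cfsg.Agent.S4049

/-- Let G be a finite group such that N_G(H)/C_G(H) has odd order for every nontrivial subgroup H of odd order. Then the Sylow 2-subgroups of G are normal. -/
theorem result {G : Type*} [Group G] [Finite G]
    (hhom : ∀ H : Subgroup G, H ≠ ⊥ → ¬ 2 ∣ Nat.card ↥H →
        ¬ 2 ∣ (Subgroup.centralizer (H : Set G)).relIndex (Subgroup.normalizer (H : Set G))) (P : Sylow 2 G) :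
    (P : Subgroup G).Normal := by
  by_contra hP
  obtain ⟨x, u, r, hr, hr2, hx, hu⟩ := CfsgLib.FgsB.exists_odd_prime_inverted_of_not_normal P hP
  set H := Subgroup.zpowers x
  have hN : u ∈ Subgroup.normalizer (H : Set G) := by
    rw [Subgroup.mem_normalizer_iff_map_conj_eq, MonoidHom.map_zpowers]
    simp only [MonoidHom.coe_coe, MulAut.conj_apply]
    rw [hu, Subgroup.zpowers_inv]
  have hH : H ≠ ⊥ := by
    rw [Ne, Subgroup.zpowers_eq_bot]
    rintro rfl
    exact hr.ne_one (by simpa using hx.symm)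
  have hodd : ¬ 2 ∣ Nat.card H := by
    rw [Nat.card_zpowers, hx]
    intro h
    exact hr2 ((Nat.prime_dvd_prime_iff_eq Nat.prime_two hr).mp h).symm
  obtain ⟨m, hm⟩ : Odd ((Subgroup.centralizer (H : Set G)).relIndex (Subgroup.normalizer (H : Set G))) :=
    Nat.not_even_iff_odd.mp (fun h => hhom H hH hodd h.two_dvd)
  have hpow : u ^ (2 * m + 1) ∈ Subgroup.centralizer (H : Set G) := by
    have := Subgroup.pow_index_mem ((Subgroup.centralizer (H : Set G)).subgroupOf (Subgroup.normalizer (H : Set G))) ⟨u, hN⟩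
    rw [← hm]
    simpa [Subgroup.mem_subgroupOf, Subgroup.relIndex] using this
  have hcomm := Subgroup.mem_centralizer_iff.mp hpow x (Subgroup.mem_zpowers x)
  have hinv := CfsgLib.RealElt.inverts_pow_odd hu m
  rw [← hcomm, mul_inv_cancel_right] at hinv
  have h2 : x ^ 2 = 1 := by rw [pow_two]; nth_rewrite 2 [hinv]; exact mul_inv_cancel x
  have := orderOf_dvd_of_pow_eq_one h2
  rw [hx] at this
  exact hr2 ((Nat.prime_dvd_prime_iff_eq hr Nat.prime_two).mp this)

end Cfsg.Agent.S4049
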