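import Cfsg.Statements.S4050
import Mathlib
import Cfsg.Agent.Lib.SolvStruct.PiElements

set_option autoImplicit false
set_option linter.style.haveILetI false
open Cfsg

namespace Cfsg.Agent.S4050
open CfsgLib.SolvStruct.PiElements


/-- Let π be a set of primes and G a finite group. The π-elements of G (elements whose order is divisible only by primes of π) form a subgroup if and only if G is π-separable (it has a chain of normal subgroups from 1 to G with each successive index divisible only by primes in π or only by primes outside π) and N_G(H)/C_G(H) is a π'-group for every nontrivial π'-subgroup H of G. -/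
theorem result {G : Type*} [Group G] [Finite G] (π : Set ℕ)
    (hπ : ∀ p ∈ π, p.Prime) :
    (∃ K : Subgroup G, ∀ x : G, x ∈ K ↔ ∀ p : ℕ, p.Prime → p ∣ orderOf x → p ∈ π) ↔
    ((∃ (n : ℕ) (H : Fin (n + 1) → Subgroup G), H 0 = ⊥ ∧ H (Fin.last n) = ⊤ ∧ Monotone H ∧ (∀ i, (H i).Normal) ∧
      ∀ i : Fin n, (∀ q : ℕ, q.Prime → q ∣ (H i.castSucc).relIndex (H i.succ) → q ∈ π) ∨
        (∀ q : ℕ, q.Prime → q ∣ (H i.castSucc).relIndex (H i.succ) → q ∉ π)) ∧
     (∀ H : Subgroup G, H ≠ ⊥ → (∀ p : ℕ, p.Prime → p ∣ Nat.card ↥H → p ∉ π) →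
        ∀ p : ℕ, p.Prime → p ∣ (Subgroup.centralizer (H : Set G)).relIndex (Subgroup.normalizer (H : Set G)) → p ∉ π)) := by
  constructor
  · intro hG
    refine ⟨?_, fun H _ hH p hp hd => relIndex_of_piSubgroup hG H hH p hp hd⟩
    obtain ⟨L, hL⟩ := hG
    haveI hLn : L.Normal := ⟨fun x hx g => by
      rw [hL] at hx ⊢
      exact isPiElt_of_dvd (π := π) hx (orderOf_map_dvd (MulAut.conj g).toMonoidHom x)⟩
    refine ⟨2, ![⊥, L, ⊤], rfl, rfl, ?_, ?_, ?_⟩
    · rw [Fin.monotone_iff_le_succ]
      intro i; fin_cases i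
      · exact bot_le
      · exact le_top
    · intro i; fin_cases i
      · exact inferInstanceAs (⊥ : Subgroup G).Normal
      · exact hLn
      · exact inferInstanceAs (⊤ : Subgroup G).Normal
    · intro i; fin_cases i
      · left
        intro q hq hd
        change q ∣ (⊥ : Subgroup G).relIndex L at hd
        rw [Subgroup.relIndex_bot_left] at hd
        exact card_pi_of_forall (fun x hx => (hL x).mp hx) q hq hd
      · right
        intro q hq hd hqπ
        change q ∣ L.relIndex ⊤ at hd
        rw [Subgroup.relIndex_top_right, Subgroup.index_eq_card] at hd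
        haveI := Fact.mk hq
        obtain ⟨w, hw⟩ := exists_prime_orderOf_dvd_card' q hd
        obtain ⟨y, rfl⟩ := QuotientGroup.mk'_surjective L w
        obtain ⟨n, ⟨k, hk⟩, hn⟩ := exists_pow_primePow (QuotientGroup.mk' L) hq y (c := 1)
          (by rw [pow_one, hw])
        have h2 : QuotientGroup.mk' L (y ^ n) = 1 :=
          (QuotientGroup.eq_one_iff _).mpr ((hL _).mpr (isPiElt_of_primePow hq hqπ hk))
        rw [← hn, h2, orderOf_one] at hw
        exact hq.one_lt.ne hw
  · rintro ⟨⟨n, H, hH0, hHlast, hmono, hnorm, hfac⟩, hhom⟩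
    have hom := homog_of_relIndex hhom
    have main : ∀ i : Fin (n + 1), PiSubgroup π (H i) := by
      intro i
      induction i using Fin.induction with
      | zero =>
        refine ⟨⊤, fun x => ⟨fun _ p hp hd => ?_, fun _ => Subgroup.mem_top x⟩⟩
        have hx : (x : G) ∈ (⊥ : Subgroup G) := hH0 ▸ x.2
        rw [← Subgroup.orderOf_coe, Subgroup.mem_bot.mp hx, orderOf_one, Nat.dvd_one] at hd
        exact absurd hd hp.ne_one
      | succ i ih =>
        have hle : H i.castSucc ≤ H i.succ := hmono (Fin.castSucc_le_succ i)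
        haveI := hnorm i.castSucc
        let K := (H i.castSucc).subgroupOf (H i.succ)
        refine piSubgroup_of_extension (homog_subgroup hom _) K
          (piSubgroup_of_mulEquiv (Subgroup.subgroupOfEquivOfLe hle).symm ih) ?_
        have hcard : Nat.card (H i.succ ⧸ K) = (H i.castSucc).relIndex (H i.succ) :=
          (Subgroup.index_eq_card K).symm
        rcases hfac i with hf | hf
        · refine ⟨⊤, fun x => ⟨fun _ p hp hd => ?_, fun _ => Subgroup.mem_top x⟩⟩
          exact hf p hp (hcard ▸ hd.trans (_root_.orderOf_dvd_natCard x))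
        · refine ⟨⊥, fun x => ⟨fun hx p hp hd => ?_, fun hx => ?_⟩⟩
          · rw [Subgroup.mem_bot.mp hx, orderOf_one, Nat.dvd_one] at hd
            exact absurd hd hp.ne_one
          · exact Subgroup.mem_bot.mpr (eq_one_of_pi_piCompl hx fun r hr hrd =>
              hf r hr (hcard ▸ hrd.trans (_root_.orderOf_dvd_natCard x)))
    obtain ⟨L, hL⟩ := main (Fin.last n)
    refine ⟨L.map (H (Fin.last n)).subtype, fun x => ?_⟩
    have hx : x ∈ H (Fin.last n) := by rw [hHlast]; exact Subgroup.mem_top x
    constructor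
    · rintro ⟨y, hy, rfl⟩
      exact isPiElt_of_dvd (π := π) ((hL y).mp hy) (by rw [Subgroup.coe_subtype, Subgroup.orderOf_coe])
    · intro hxπ
      exact ⟨⟨x, hx⟩, (hL _).mpr (isPiElt_of_dvd (π := π) hxπ (by rw [Subgroup.orderOf_mk])), rfl⟩

end Cfsg.Agent.S4050
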