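import Cfsg.Statements.S4056
import Mathlib
import Cfsg.Agent.Lib.PGroups.Basic

set_option autoImplicit false
open Cfsg

namespace Cfsg.Agent.S4056

/-- In a finite 2-group of nilpotency class at most 2 and exponent dividing 4, the Frattini subgroup lies in the centre and is elementary abelian. -/
theorem result {P : Type*} [Group P] [Finite P] (hP : IsPGroup 2 P)
    (hcl : Group.nilpotencyClass P ≤ 2) (hexp : Monoid.exponent P ∣ 4) :
    frattini P ≤ Subgroup.center P ∧ Cfsg.IsElementaryAbelian 2 (frattini P) := by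
  classical
  have : Fact (Nat.Prime 2) := ⟨Nat.prime_two⟩
  have : Group.IsNilpotent P := hP.isNilpotent
  have hcomm : commutator P ≤ Subgroup.center P := by
    have h := Subgroup.lowerCentralSeries_eq_bot_iff_nilpotencyClass_le.mpr hcl
    rw [Subgroup.lowerCentralSeries_succ, Subgroup.top_lowerCentralSeries_one,
      Subgroup.commutator_eq_bot_iff_le_centralizer, Subgroup.coe_top, Subgroup.centralizer_univ] at h
    exact h
  have h4 : ∀ g : P, g ^ 4 = 1 := fun g =>
    orderOf_dvd_iff_pow_eq_one.mp ((Monoid.order_dvd_exponent g).trans hexp)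
  let E : Subgroup P :=
    { carrier := {z | z ∈ Subgroup.center P ∧ z ^ 2 = 1}
      one_mem' := ⟨Subgroup.one_mem _, one_pow 2⟩
      mul_mem' := fun {a b} ha hb => ⟨Subgroup.mul_mem _ ha.1 hb.1, by
        have hc : Commute a b := (Subgroup.mem_center_iff.mp ha.1 b).symm
        rw [hc.mul_pow, ha.2, hb.2, mul_one]⟩
      inv_mem' := fun {a} ha => ⟨Subgroup.inv_mem _ ha.1, by rw [inv_pow, ha.2, inv_one]⟩ }
  have hE : ∀ x y : P, x * y * x⁻¹ * y⁻¹ ∈ E := by
    intro x y
    set c := x * y * x⁻¹ * y⁻¹ with hc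
    have hcz : c ∈ Subgroup.center P := hcomm (by
      rw [hc, ← commutatorElement_def, commutator_def]
      exact Subgroup.commutator_mem_commutator (Subgroup.mem_top x) (Subgroup.mem_top y))
    refine ⟨hcz, ?_⟩
    have hcc : ∀ g, Commute c g := fun g => (Subgroup.mem_center_iff.mp hcz g).symm
    have hxy : x * y = c * (y * x) := by rw [hc]; group
    -- conjugation by `x` fixes `y ^ 2` up to `c ^ 2`
    have e4 : (y * x) ^ 4 = 1 := h4 _
    have hc6 : c ^ 6 = 1 := by
      have h1 : (y * x) ^ 4 = c ^ 6 * (y ^ 4 * x ^ 4) := by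
        have s1 : x * y ^ 2 = c ^ 2 * (y ^ 2 * x) := by
          calc x * y ^ 2 = x * y * y := by rw [pow_two, mul_assoc]
            _ = c * (y * (x * y)) := (congrArg (· * y) hxy).trans (by simp only [mul_assoc])
            _ = c * (y * (c * (y * x))) := congrArg (fun z => c * (y * z)) hxy
            _ = c * (y * c * (y * x)) := by simp only [mul_assoc]
            _ = c ^ 2 * (y ^ 2 * x) := by rw [← (hcc y).eq]; simp only [pow_two, mul_assoc]
        have s2 : x ^ 2 * y ^ 2 = c ^ 4 * (y ^ 2 * x ^ 2) := by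
          calc x ^ 2 * y ^ 2 = x * (x * y ^ 2) := by rw [pow_two x, mul_assoc]
            _ = x * c ^ 2 * (y ^ 2 * x) := by rw [s1]; simp only [mul_assoc]
            _ = c ^ 2 * (x * y ^ 2 * x) := by rw [← ((hcc x).pow_left 2).eq]; simp only [mul_assoc]
            _ = c ^ 2 * (c ^ 2 * (y ^ 2 * x) * x) := by rw [s1]
            _ = c ^ 4 * (y ^ 2 * x ^ 2) := by
              rw [show (4 : ℕ) = 2 + 2 from rfl, pow_add c, pow_two x]; simp only [mul_assoc]
        have s3 : (y * x) ^ 2 = c * (y ^ 2 * x ^ 2) := by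
          calc (y * x) ^ 2 = y * (x * y) * x := by rw [pow_two]; simp only [mul_assoc]
            _ = y * c * y * x * x := by rw [hxy]; simp only [mul_assoc]
            _ = c * (y ^ 2 * x ^ 2) := by rw [← (hcc y).eq]; simp only [pow_two, mul_assoc]
        calc (y * x) ^ 4 = ((y * x) ^ 2) ^ 2 := by rw [← pow_mul]
          _ = c ^ 2 * ((y ^ 2 * x ^ 2) ^ 2) := by rw [s3, (hcc _).mul_pow]
          _ = c ^ 2 * (y ^ 2 * (x ^ 2 * y ^ 2) * x ^ 2) := by rw [pow_two (y ^ 2 * x ^ 2)]; simp only [mul_assoc]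
          _ = c ^ 2 * (y ^ 2 * c ^ 4 * y ^ 2 * x ^ 2 * x ^ 2) := by rw [s2]; simp only [mul_assoc]
          _ = c ^ 6 * (y ^ 4 * x ^ 4) := by
            rw [← ((hcc (y ^ 2)).pow_left 4).eq, show (6 : ℕ) = 2 + 4 from rfl, pow_add c,
              show y ^ 4 = y ^ 2 * y ^ 2 by rw [← pow_add], show x ^ 4 = x ^ 2 * x ^ 2 by rw [← pow_add]]
            simp only [mul_assoc]
      rw [h1, h4, h4, mul_one, mul_one] at e4
      exact e4
    rw [show (6 : ℕ) = 4 + 2 from rfl, pow_add, h4, one_mul] at hc6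
    exact hc6
  have hEn : E.Normal := ⟨fun n hn g => by
    rwa [Subgroup.mem_center_iff.mp hn.1 g, mul_inv_cancel_right]⟩
  have hfr : frattini P ≤ E := by
    refine CfsgLib.PGroups.frattini_le_of_elementary_quotient (p := 2) ?_ ?_
    · rw [commutator_def, Subgroup.commutator_le]
      exact fun x _ y _ => by rw [commutatorElement_def]; exact hE x y
    · intro g
      refine ⟨?_, by rw [← pow_mul]; exact h4 g⟩
      rw [Subgroup.mem_center_iff]
      intro x
      obtain ⟨hcz, hc2⟩ := hE x g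
      have hcc : Commute (x * g * x⁻¹ * g⁻¹) g := (Subgroup.mem_center_iff.mp hcz g).symm
      have e : x * g ^ 2 * x⁻¹ = g ^ 2 := by
        calc x * g ^ 2 * x⁻¹ = (x * g * x⁻¹) ^ 2 := by rw [conj_pow]
          _ = ((x * g * x⁻¹ * g⁻¹) * g) ^ 2 := by rw [inv_mul_cancel_right]
          _ = g ^ 2 := by rw [hcc.mul_pow, hc2, one_mul]
      exact mul_inv_eq_iff_eq_mul.mp e
  exact ⟨fun z hz => (hfr hz).1, ⟨⟨fun a b => Subtype.ext (Subgroup.mem_center_iff.mp (hfr b.2).1 a.1)⟩⟩,
    fun a ha => (hfr ha).2⟩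

end Cfsg.Agent.S4056
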