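import Cfsg.Statements.S4058
import Cfsg.Agent.Lib.FgsB.SquareCount

set_option autoImplicit false
open Cfsg

namespace Cfsg.Agent.S4058

/-- Let G be a finite 2-group with #(G/Φ(G)) ≥ 2^(2k+1). Then the number of elements x of G with x² = 1 is divisible by 2^(k+1). -/
theorem result {G : Type*} [Group G] [Finite G] (hG : IsPGroup 2 G) (k : ℕ)
    (hgen : 2 ^ (2 * k + 1) ≤ Nat.card (G ⧸ frattini G)) :
    2 ^ (k + 1) ∣ Nat.card {x : G // x ^ 2 = 1} := by
  classical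
  have : Fintype G := Fintype.ofFinite G
  have : Fintype (Cfsg.IrrCharacter G) := CfsgLib.Chars.irrFintype G
  obtain ⟨hcard, hfin⟩ := CfsgLib.FgsB.card_quotient_frattini_le (G := G) hG
  have : Fintype (CfsgLib.FgsB.signCharacters G) := Fintype.ofFinite _
  let act : MulAction (CfsgLib.FgsB.signCharacters G) (Cfsg.IrrCharacter G) :=
    { smul := fun l χ => ⟨fun g => ((l.1 g : ℂˣ) : ℂ) * χ.1 g, CfsgLib.Chars.isIrrCharacter_linear_mul l.1 χ.2⟩
      one_smul := fun χ => Subtype.ext (funext fun g => by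
        change (((1 : CfsgLib.FgsB.signCharacters G).1 g : ℂˣ) : ℂ) * χ.1 g = χ.1 g
        simp)
      mul_smul := fun l m χ => Subtype.ext (funext fun g => by
        change (((l * m).1 g : ℂˣ) : ℂ) * χ.1 g = ((l.1 g : ℂˣ) : ℂ) * (((m.1 g : ℂˣ) : ℂ) * χ.1 g)
        simp [mul_assoc]) }
  set F : Cfsg.IrrCharacter G → ℂ := fun χ =>
    ((Nat.card G : ℂ)⁻¹ * ∑ s : G, (χ : G → ℂ) (s * s)) * (χ : G → ℂ) 1 with hF
  have hinv : ∀ (l : CfsgLib.FgsB.signCharacters G) (χ : Cfsg.IrrCharacter G), F (act.smul l χ) = F χ := by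
    intro l χ
    change ((Nat.card G : ℂ)⁻¹ * ∑ s : G, ((l.1 (s * s) : ℂˣ) : ℂ) * χ.1 (s * s)) *
      (((l.1 1 : ℂˣ) : ℂ) * χ.1 1) = F χ
    have h1 : ∀ s : G, ((l.1 (s * s) : ℂˣ) : ℂ) = 1 := fun s => by rw [map_mul, l.2 s, Units.val_one]
    simp only [h1, one_mul, map_one, Units.val_one, hF]
  obtain ⟨e, he⟩ : ∃ e, Nat.card (CfsgLib.FgsB.signCharacters G) = 2 ^ e := by
    have : Fact (Nat.Prime 2) := ⟨Nat.prime_two⟩
    exact IsPGroup.exists_card_eq (fun l => ⟨1, by simpa using CfsgLib.FgsB.signCharacters_sq l⟩ : IsPGroup 2 (CfsgLib.FgsB.signCharacters G))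
  have he' : 2 * k + 1 ≤ e := by
    have := hgen.trans hcard
    rw [he] at this
    exact (Nat.pow_le_pow_iff_right (le_refl 2)).mp this
  obtain ⟨D, hD⟩ := hG.exists_card_eq
  have horbit : ∀ χ : Cfsg.IrrCharacter G, ∃ z : ℤ,
      (Nat.card (MulAction.orbit (CfsgLib.FgsB.signCharacters G) χ) : ℂ) * F χ = ((2 ^ (k + 1) : ℕ) : ℂ) * z := by
    intro χ
    obtain ⟨z, hz⟩ := CfsgLib.FgsB.exists_int_indicator (CfsgLib.Chars.isCharacter_of_irr χ.2)
    obtain ⟨d, -, hd1, hd2⟩ := CfsgLib.Chars.irr_degree_dvd_card χ.2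
    obtain ⟨j, -, hj⟩ := (Nat.dvd_prime_pow Nat.prime_two).mp (hD ▸ hd2)
    have hmul : Nat.card (MulAction.orbit (CfsgLib.FgsB.signCharacters G) χ) *
        Nat.card (MulAction.stabilizer (CfsgLib.FgsB.signCharacters G) χ) = 2 ^ e := by
      rw [← he, ← Nat.card_prod]
      exact Nat.card_congr (MulAction.orbitProdStabilizerEquivGroup _ χ)
    obtain ⟨a, -, ha⟩ := (Nat.dvd_prime_pow Nat.prime_two).mp (Dvd.intro _ hmul)
    obtain ⟨b, -, hb⟩ := (Nat.dvd_prime_pow Nat.prime_two).mp (Dvd.intro_left _ hmul)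
    have hble : b ≤ 2 * j := by
      have h1 := CfsgLib.FgsB.card_fixing_le χ.2 d hd1
        (Finset.univ.filter (fun l => l ∈ MulAction.stabilizer (CfsgLib.FgsB.signCharacters G) χ))
        (fun l hl g => congrFun (congrArg Subtype.val (MulAction.mem_stabilizer_iff.mp (Finset.mem_filter.mp hl).2)) g)
      rw [← Fintype.card_subtype, ← Nat.card_eq_fintype_card, hb, hj, ← pow_mul, mul_comm j] at h1
      exact (Nat.pow_le_pow_iff_right (le_refl 2)).mp h1
    have hab : a + b = e := by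
      rw [ha, hb, ← pow_add] at hmul
      exact Nat.pow_right_injective (le_refl 2) hmul
    obtain ⟨c, hc⟩ : ∃ c, a + j = (k + 1) + c := ⟨a + j - (k + 1), by omega⟩
    refine ⟨z * (2 ^ c : ℕ), ?_⟩
    simp only [hF, hz, hd1, ha, hj]
    push_cast
    have h3 : (2 : ℂ) ^ a * (2 : ℂ) ^ j = (2 : ℂ) ^ (k + 1) * (2 : ℂ) ^ c := by
      rw [← pow_add, ← pow_add, hc]
    linear_combination (z : ℂ) * h3
  have hsum : ∃ z : ℤ, ∑ χ, F χ = ((2 ^ (k + 1) : ℕ) : ℂ) * z := by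
    choose z hz using horbit
    refine ⟨∑ q : Quotient (MulAction.orbitRel (CfsgLib.FgsB.signCharacters G) (Cfsg.IrrCharacter G)), z q.out, ?_⟩
    push_cast
    rw [Finset.mul_sum, ← Equiv.sum_comp (MulAction.selfEquivSigmaOrbits (CfsgLib.FgsB.signCharacters G) (Cfsg.IrrCharacter G)).symm F,
      Fintype.sum_sigma]
    refine Finset.sum_congr rfl fun q _ => ?_
    have hconst : ∀ w : MulAction.orbit (CfsgLib.FgsB.signCharacters G) q.out, F w.1 = F q.out := by
      rintro ⟨_, l, rfl⟩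
      exact hinv l q.out
    have hzq := hz q.out
    push_cast at hzq
    rw [← hzq, Nat.card_eq_fintype_card, ← nsmul_eq_mul, ← Finset.card_univ, ← Finset.sum_const]
    refine Finset.sum_congr rfl fun w _ => ?_
    exact hconst w
  obtain ⟨z, hz⟩ := hsum
  have hA : Nat.card {x : G // x ^ 2 = 1} = Nat.card {s : G // s * s = 1} :=
    Nat.card_congr (Equiv.subtypeEquivRight fun x => by rw [pow_two])
  have hfinal : (Nat.card {s : G // s * s = 1} : ℂ) = ((2 ^ (k + 1) : ℕ) : ℂ) * z := by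
    rw [CfsgLib.FgsB.card_sq_eq_one_eq_sum]; exact hz
  have hint : (Nat.card {s : G // s * s = 1} : ℤ) = ((2 ^ (k + 1) : ℕ) : ℤ) * z := by exact_mod_cast hfinal
  rw [hA]
  exact Int.natCast_dvd_natCast.mp ⟨z, hint⟩

end Cfsg.Agent.S4058
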