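import Cfsg.Statements.S4059
import Cfsg.Agent.Lib.RealElt.Basic

set_option autoImplicit false
open Cfsg

namespace Cfsg.Agent.S4059

/-- Let G be a finite group in which every element is conjugate to its inverse. Then: every non-identity element commuting with all elements of some Sylow 2-subgroup is an involution; the centre of G is an elementary abelian 2-group; the commutator quotient G/G' is an elementary abelian 2-group; and G is generated by its 2-elements. -/
theorem result {G : Type*} [Group G] [Finite G] (hamb : ∀ x : G, IsConj x x⁻¹) :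
    (∀ (S : Sylow 2 G) (x : G), x ∈ Subgroup.centralizer ((S : Subgroup G) : Set G) → x ≠ 1 → orderOf x = 2) ∧
    (∀ z : G, z ∈ Subgroup.center G → z ^ 2 = 1) ∧
    (∀ x : G, x ^ 2 ∈ commutator G) ∧
    Subgroup.closure {x : G | ∃ k : ℕ, orderOf x = 2 ^ k} = ⊤ := by
  refine ⟨?_, ?_, ?_, ?_⟩
  · intro S x hx hx1
    refine CfsgLib.RealElt.orderOf_eq_two hx1 S (fun s hs => ?_) (hamb x)
    rw [Subgroup.mem_centralizer_singleton_iff]
    exact Subgroup.mem_centralizer_iff.mp hx s hs
  · intro z hz
    obtain ⟨t, ht⟩ := isConj_iff.mp (hamb z)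
    rw [Subgroup.mem_center_iff.mp hz t, mul_inv_cancel_right] at ht
    rw [pow_two]
    nth_rewrite 1 [ht]
    exact inv_mul_cancel z
  · intro x
    have h : Abelianization.of x = Abelianization.of x⁻¹ :=
      isConj_iff_eq.mp (MonoidHom.map_isConj _ (hamb x))
    have h2 : Abelianization.of (x ^ 2) = 1 := by
      rw [map_pow, pow_two]
      nth_rewrite 1 [h]
      rw [← map_mul, inv_mul_cancel, map_one]
    exact (QuotientGroup.eq_one_iff _).mp h2
  · set K := Subgroup.closure {x : G | ∃ k : ℕ, orderOf x = 2 ^ k} with hK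
    have hn : K.Normal := by
      refine ⟨fun n hn g => ?_⟩
      have hle : K ≤ K.comap (MulAut.conj g).toMonoidHom := by
        rw [hK, Subgroup.closure_le]
        rintro y ⟨k, hk⟩
        refine Subgroup.subset_closure ⟨k, ?_⟩
        rw [← hk]
        exact orderOf_injective _ (MulAut.conj g).injective y
      exact hle hn
    rw [eq_top_iff]
    rintro x -
    obtain ⟨t, ht2, ht⟩ := CfsgLib.RealElt.exists_two_element_inverts (hamb x)
    have hsq : x ^ 2 ∈ K := by
      have htK : t ∈ K := Subgroup.subset_closure ht2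
      have hkey : x * t * x⁻¹ * t⁻¹ ∈ K := K.mul_mem (hn.conj_mem t htK x) (K.inv_mem htK)
      have he : x * t * x⁻¹ * t⁻¹ = x ^ 2 := by
        calc x * t * x⁻¹ * t⁻¹ = x * (t * x * t⁻¹)⁻¹ := by group
        _ = x ^ 2 := by rw [ht, inv_inv, pow_two]
      rwa [he] at hkey
    obtain ⟨k, m, hm, hkm⟩ :=
      Nat.exists_eq_pow_mul_and_not_dvd (orderOf_pos x).ne' 2 (by norm_num)
    obtain ⟨l, hl⟩ : Odd m := Nat.not_even_iff_odd.mp (fun he => hm he.two_dvd)
    have hxm : x ^ m ∈ K := Subgroup.subset_closure ⟨k, by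
      rw [orderOf_pow, hkm, Nat.gcd_eq_right (Dvd.intro_left _ rfl), Nat.mul_div_cancel _ (by omega)]⟩
    rw [hl, pow_succ, pow_mul] at hxm
    exact (Subgroup.mul_mem_cancel_left K (K.pow_mem hsq l)).mp hxm

end Cfsg.Agent.S4059
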