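import Cfsg.Statements.S4060
import Cfsg.Agent.Lib.RealElt.Basic

set_option autoImplicit false
open Cfsg

namespace Cfsg.Agent.S4060

open scoped commutatorElement

/-- Let G be a finite solvable group with Sylow 2-subgroup S, and let x ≠ 1 be an element of odd order normalizing S. Then x is not conjugate to its inverse in G. -/
theorem result {G : Type*} [Group G] [Finite G] [Group.IsSolvable G]
    (S : Sylow 2 G) (x : G) (hx : x ≠ 1) (hodd : Odd (orderOf x))
    (hnorm : x ∈ Subgroup.normalizer ((S : Subgroup G) : Set G)) : ¬ IsConj x x⁻¹ := by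
  classical
  intro hreal
  obtain ⟨n, hn⟩ := (Group.isSolvable_def (G := G)).mp inferInstance
  have hex : ∃ i, x ∉ derivedSeries G i := ⟨n, by rw [hn]; simpa using hx⟩
  obtain ⟨i, hi, hi'⟩ : ∃ i, x ∈ derivedSeries G i ∧ x ∉ derivedSeries G (i + 1) := by
    have h0 : Nat.find hex ≠ 0 := fun h => by
      have := Nat.find_spec hex; rw [h] at this; exact this (by simp)
    refine ⟨Nat.find hex - 1, not_not.mp (Nat.find_min hex (by omega)), ?_⟩
    rw [Nat.sub_add_cancel (by omega)]; exact Nat.find_spec hex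
  haveI : (derivedSeries G (i + 1)).Normal := derivedSeries_normal G (i + 1)
  set φ := QuotientGroup.mk' (derivedSeries G (i + 1))
  have hφ : Function.Surjective φ := QuotientGroup.mk'_surjective _
  have hxbar : φ x ≠ 1 := fun h => hi' ((QuotientGroup.eq_one_iff x).mp h)
  have habel : ∀ a ∈ derivedSeries G i, ∀ b ∈ derivedSeries G i, Commute (φ a) (φ b) := by
    intro a ha b hb
    have h : ⁅a, b⁆ ∈ derivedSeries G (i + 1) := by
      rw [derivedSeries_succ]; exact Subgroup.commutator_mem_commutator ha hb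
    have h1 : ⁅φ a, φ b⁆ = 1 := by
      rw [← map_commutatorElement]; exact (QuotientGroup.eq_one_iff _).mpr h
    exact commutatorElement_eq_one_iff_commute.mp h1
  set S' := S.mapSurjective hφ with hS'
  have hcent : (S' : Subgroup (G ⧸ derivedSeries G (i + 1))) ≤ Subgroup.centralizer {φ x} := by
    intro s hs
    rw [hS', Sylow.coe_mapSurjective] at hs
    obtain ⟨s₀, hs₀, rfl⟩ := hs
    rw [Subgroup.mem_centralizer_singleton_iff]
    have hc : Commute (φ x) (φ (s₀ * x⁻¹ * s₀⁻¹)) :=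
      habel x hi _ ((derivedSeries_normal G i).conj_mem _ (inv_mem hi) s₀)
    have hoddx : Odd (orderOf (φ x)) := hodd.of_dvd_nat (orderOf_map_dvd φ x)
    have hodd' : Odd (orderOf (φ (s₀ * x⁻¹ * s₀⁻¹))) := by
      refine hodd.of_dvd_nat ((orderOf_map_dvd φ _).trans ?_)
      rw [show s₀ * x⁻¹ * s₀⁻¹ = (MulAut.conj s₀) x⁻¹ from rfl, MulEquiv.orderOf_eq, orderOf_inv]
    have hprod : Odd (orderOf (φ x * φ (s₀ * x⁻¹ * s₀⁻¹))) :=
      (hoddx.mul hodd').of_dvd_nat hc.orderOf_mul_dvd_mul_orderOf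
    have hmem : φ x * φ (s₀ * x⁻¹ * s₀⁻¹) ∈ (S' : Subgroup (G ⧸ derivedSeries G (i + 1))) := by
      rw [hS', Sylow.coe_mapSurjective, ← map_mul]
      refine Subgroup.mem_map_of_mem φ ?_
      have hxs : x * s₀ * x⁻¹ ∈ (S : Subgroup G) :=
        ((Subgroup.mem_normalizer_iff.mp hnorm) s₀).mp hs₀
      have := Subgroup.mul_mem _ hxs (Subgroup.inv_mem _ hs₀)
      simpa [mul_assoc] using this
    obtain ⟨k, hk⟩ := IsPGroup.iff_orderOf.mp S'.2 ⟨_, hmem⟩
    rw [Subgroup.orderOf_mk] at hk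
    rw [hk] at hprod
    have hone : φ x * φ (s₀ * x⁻¹ * s₀⁻¹) = 1 := by
      rw [← orderOf_eq_one_iff, hk]
      rcases Nat.eq_zero_or_pos k with rfl | hk0
      · rfl
      · exact absurd hprod (Nat.not_odd_iff_even.mpr (Nat.even_pow.mpr ⟨even_two, by omega⟩))
    rw [map_mul, map_mul, map_inv, map_inv] at hone
    calc φ s₀ * φ x = 1 * (φ s₀ * φ x) := (one_mul _).symm
    _ = φ x * (φ s₀ * (φ x)⁻¹ * (φ s₀)⁻¹) * (φ s₀ * φ x) := by rw [hone]
    _ = φ x * φ s₀ := by group
  have hsq := CfsgLib.RealElt.sq_eq_one_of_le_centralizer S' hcent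
    (by rw [← map_inv]; exact MonoidHom.map_isConj φ hreal)
  have hoddx : Odd (orderOf (φ x)) := hodd.of_dvd_nat (orderOf_map_dvd φ x)
  rw [orderOf_eq_prime hsq hxbar] at hoddx
  exact absurd hoddx (by decide)

end Cfsg.Agent.S4060
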