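import Cfsg.Statements.S4061
import Mathlib
import Cfsg.Agent.Lib.Base.Cores
import Cfsg.Agent.Lib.Base.MinimalNormal
import Cfsg.Agent.Lib.Base.FrobeniusSolutions
import Cfsg.Agent.Lib.PGroups.UniqueOrderP
import Cfsg.Agent.Lib.SolvStruct.PiElements
import Cfsg.Agent.Lib.Chars.Permutation

set_option autoImplicit false
set_option linter.style.haveILetI false
open Cfsg

namespace Cfsg.Agent.S4061

theorem exists_involution_commute {R : Type*} [Group R] [Finite R] {g : R} (n : ℕ) (hg : g ^ 2 ^ n = 1)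
    (C : Subgroup R) (hgC : g ∈ C) (hC : 2 ∣ Nat.card C) : ∃ i ∈ C, orderOf i = 2 ∧ Commute i g := by
  haveI := Fact.mk Nat.prime_two
  have hz : IsPGroup 2 (Subgroup.zpowers (⟨g, hgC⟩ : C)) := IsPGroup.of_card (n := _) (Classical.choose_spec
    ((Nat.dvd_prime_pow Nat.prime_two).mp (by
      rw [Nat.card_zpowers]
      exact orderOf_dvd_of_pow_eq_one (Subtype.ext hg) : Nat.card (Subgroup.zpowers (⟨g, hgC⟩ : C)) ∣ 2 ^ n))).2
  obtain ⟨T, hT⟩ := hz.exists_le_sylow
  have hne : (T : Subgroup C) ≠ ⊥ := T.ne_bot_of_dvd_card hC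
  haveI : Nontrivial T := (Subgroup.nontrivial_iff_ne_bot _).mpr hne
  haveI := T.isPGroup'.center_nontrivial
  obtain ⟨z, hz⟩ := exists_prime_orderOf_dvd_card' (G := Subgroup.center T) 2
    ((T.isPGroup'.to_subgroup _).card_eq_or_dvd.resolve_left Finite.one_lt_card.ne')
  refine ⟨(((z : T) : C) : R), ((z : T) : C).2, ?_, ?_⟩
  · rw [Subgroup.orderOf_coe, Subgroup.orderOf_coe, Subgroup.orderOf_coe, hz]
  · exact (congrArg (fun w : T => ((w : C) : R))
      (Subgroup.mem_center_iff.mp z.2 ⟨⟨g, hgC⟩, hT (Subgroup.mem_zpowers _)⟩)).symm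

theorem unique_involution {R : Type*} [Group R] [Finite R] [Group.IsSolvable R]
    (hamb : ∀ x : R, IsConj x x⁻¹) (heven : 2 ∣ Nat.card R)
    (hone : ∀ s t : R, orderOf s = 2 → orderOf t = 2 → IsConj s t) (hO : Cfsg.oddCore R = ⊥)
    {s t : R} (hs : orderOf s = 2) (ht : orderOf t = 2) : s = t := by
  classical
  haveI := Fact.mk Nat.prime_two
  haveI : Nontrivial R := ⟨⟨s, 1, fun e => by rw [e, orderOf_one] at hs; omega⟩⟩
  obtain ⟨M, hM⟩ := CfsgLib.Base.exists_isMinimalNormal (G := R)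
  haveI := hM.normal
  obtain ⟨p, hp, -, -, hMp⟩ := hM.exists_prime inferInstance
  haveI := Fact.mk hp
  obtain ⟨k, hk⟩ := IsPGroup.iff_card.mp hMp
  have hp2 : p = 2 := by
    by_contra hne
    refine hM.ne_bot (le_bot_iff.mp (hO ▸ CfsgLib.Base.le_oddCore ?_))
    rw [hk]
    exact (hp.odd_of_ne_two hne).pow
  subst hp2
  have hk0 : k ≠ 0 := fun e => hM.ne_bot (Subgroup.card_eq_one.mp (by rw [hk, e, pow_zero]))
  obtain ⟨m₀, hm₀⟩ := exists_prime_orderOf_dvd_card' (G := M) 2 (hk ▸ dvd_pow_self 2 hk0)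
  have hIM : ∀ i : R, orderOf i = 2 → i ∈ M := by
    intro i hi
    obtain ⟨g, hg⟩ := isConj_iff.mp (hone m₀ i (by rw [Subgroup.orderOf_coe, hm₀]) hi)
    rw [← hg]
    exact Subgroup.Normal.conj_mem inferInstance _ m₀.2 g
  by_contra hst
  -- an element without fixed involution
  haveI := Fintype.ofFinite R
  let I := {i : R // orderOf i = 2}
  letI : MulAction R I :=
    { smul := fun g i => ⟨g * i.1 * g⁻¹,
        (orderOf_injective (MulAut.conj g).toMonoidHom (MulAut.conj g).injective i.1).trans i.2⟩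
      one_smul := fun i => Subtype.ext (by show 1 * i.1 * 1⁻¹ = i.1; group)
      mul_smul := fun g h i => Subtype.ext (by
        show g * h * i.1 * (g * h)⁻¹ = g * (h * i.1 * h⁻¹) * g⁻¹
        group) }
  haveI : Fintype I := Fintype.ofFinite _
  haveI : Fintype (Quotient (MulAction.orbitRel R I)) := Fintype.ofFinite _
  haveI : ∀ g : R, Fintype (MulAction.fixedBy I g) := fun g => Fintype.ofFinite _
  obtain ⟨g, hg⟩ : ∃ g : R, ∀ i : I, g • i ≠ i := by
    by_contra hc
    push Not at hc
    have hsum := MulAction.sum_card_fixedBy_eq_card_orbits_mul_card_group R I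
    have horb : Fintype.card (Quotient (MulAction.orbitRel R I)) = 1 := by
      refine Fintype.card_eq_one_iff.mpr ⟨Quotient.mk'' ⟨s, hs⟩, fun q => ?_⟩
      induction q using Quotient.inductionOn' with
      | h i =>
        obtain ⟨c, hc'⟩ := isConj_iff.mp (hone s i.1 hs i.2)
        exact Quotient.sound' ⟨c, Subtype.ext hc'⟩
    rw [horb, one_mul] at hsum
    have hlt : ∑ _g : R, 1 < ∑ g : R, Fintype.card (MulAction.fixedBy I g) := by
      refine Finset.sum_lt_sum (fun g _ => ?_) ⟨1, Finset.mem_univ _, ?_⟩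
      · obtain ⟨i, hi⟩ := hc g
        exact Fintype.card_pos_iff.mpr ⟨⟨i, hi⟩⟩
      · exact Fintype.one_lt_card_iff.mpr ⟨⟨⟨s, hs⟩, one_smul _ _⟩, ⟨⟨t, ht⟩, one_smul _ _⟩,
          fun e => hst (congrArg (fun z : MulAction.fixedBy I (1 : R) => (z : I).1) e)⟩
    rw [Finset.sum_const, Finset.card_univ, smul_eq_mul, mul_one, hsum] at hlt
    exact lt_irrefl _ hlt
  have hg' : ∀ i : R, orderOf i = 2 → ¬ Commute g i := fun i hi hc => hg ⟨i, hi⟩ (Subtype.ext (by
    show g * i * g⁻¹ = i
    rw [hc.eq, mul_inv_cancel_right]))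
  -- odd and even parts of `g`
  obtain ⟨a, m, hm, ham⟩ := Nat.exists_eq_pow_mul_and_not_dvd (orderOf_pos g).ne' 2 (by omega)
  set o := g ^ 2 ^ a with ho
  have hoodd : o ^ m = 1 := by rw [ho, ← pow_mul, ← ham, pow_orderOf_eq_one]
  have hC : ¬ 2 ∣ Nat.card (Subgroup.centralizer ({o} : Set R)) := by
    intro hd
    obtain ⟨i, hiC, hio, hig⟩ := exists_involution_commute (g := g ^ m) a
      (by rw [← pow_mul, mul_comm, ← ham, pow_orderOf_eq_one]) (Subgroup.centralizer ({o} : Set R))
      (Subgroup.mem_centralizer_singleton_iff.mpr (((Commute.refl g).pow_pow m (2 ^ a)).eq)) hd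
    have hio' : Commute i o := Subgroup.mem_centralizer_singleton_iff.mp hiC
    obtain ⟨e, he1, he2⟩ := Nat.chineseRemainder
      (show Nat.Coprime (2 ^ a) m from Nat.Coprime.pow_left a ((Nat.Prime.coprime_iff_not_dvd Nat.prime_two).mpr hm)) 0 1
    obtain ⟨e', he1', he2'⟩ := Nat.chineseRemainder
      (show Nat.Coprime (2 ^ a) m from Nat.Coprime.pow_left a ((Nat.Prime.coprime_iff_not_dvd Nat.prime_two).mpr hm)) 1 0
    rw [Nat.modEq_zero_iff_dvd] at he1 he2'
    obtain ⟨u, rfl⟩ := he1
    obtain ⟨v, rfl⟩ := he2'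
    refine hg' i hio ?_
    have hge : g = o ^ u * (g ^ m) ^ v := by
      rw [ho, ← pow_mul, ← pow_mul, ← pow_add]
      conv_lhs => rw [← pow_one g]
      rw [pow_eq_pow_iff_modEq, ham]
      refine (Nat.modEq_and_modEq_iff_modEq_mul
        (Nat.Coprime.pow_left a ((Nat.Prime.coprime_iff_not_dvd Nat.prime_two).mpr hm))).mp ⟨?_, ?_⟩
      · have := (Nat.modEq_zero_iff_dvd.mpr (dvd_mul_right (2 ^ a) u)).add he1'
        simpa using this.symm
      · have := he2.add (Nat.modEq_zero_iff_dvd.mpr (dvd_mul_right m v))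
        simpa using this.symm
    rw [hge]
    exact ((hio'.pow_right u).mul_right (hig.pow_right v)).symm
  have ho1 : o ≠ 1 := by
    intro e
    apply hC
    rw [e, show Subgroup.centralizer ({1} : Set R) = ⊤ from eq_top_iff.mpr fun y _ =>
      Subgroup.mem_centralizer_singleton_iff.mpr (by simp), Subgroup.card_top]
    exact heven
  have ho2 : o ^ 2 ≠ 1 := by
    intro e
    apply ho1
    have h1 : orderOf o ∣ Nat.gcd 2 m := Nat.dvd_gcd (orderOf_dvd_of_pow_eq_one e) (orderOf_dvd_of_pow_eq_one hoodd)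
    rw [(Nat.Prime.coprime_iff_not_dvd Nat.prime_two).mpr hm, Nat.dvd_one] at h1
    exact orderOf_eq_one_iff.mp h1
  obtain ⟨x₀, hx₀⟩ := isConj_iff.mp (hamb o)
  obtain ⟨b, l, hl, hbl⟩ := Nat.exists_eq_pow_mul_and_not_dvd (orderOf_pos x₀).ne' 2 (by omega)
  set x := x₀ ^ l with hx
  have hinv : ∀ j : ℕ, x₀ ^ (2 * j) * o * (x₀ ^ (2 * j))⁻¹ = o := by
    intro j
    induction j with
    | zero => simp
    | succ j ih =>
      have hinv' : x₀ * o⁻¹ * x₀⁻¹ = o := by
        have := congrArg (·⁻¹) hx₀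
        simpa [mul_assoc] using this
      calc x₀ ^ (2 * (j + 1)) * o * (x₀ ^ (2 * (j + 1)))⁻¹
          = x₀ ^ (2 * j) * (x₀ * (x₀ * o * x₀⁻¹) * x₀⁻¹) * (x₀ ^ (2 * j))⁻¹ := by
            rw [show 2 * (j + 1) = 2 * j + 1 + 1 by ring, pow_succ, pow_succ]; group
        _ = o := by rw [hx₀, hinv', ih]
  have hxinv : x * o * x⁻¹ = o⁻¹ := by
    obtain ⟨j, hj⟩ := Nat.odd_iff.mpr (Nat.two_dvd_ne_zero.mp hl)
    rw [hx, hj, pow_succ']
    calc x₀ * x₀ ^ (2 * j) * o * (x₀ * x₀ ^ (2 * j))⁻¹
        = x₀ * (x₀ ^ (2 * j) * o * (x₀ ^ (2 * j))⁻¹) * x₀⁻¹ := by group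
      _ = o⁻¹ := by rw [hinv j, hx₀]
  have hxo : orderOf x ∣ 2 ^ b := orderOf_dvd_of_pow_eq_one (by rw [hx, ← pow_mul, mul_comm, ← hbl, pow_orderOf_eq_one])
  obtain ⟨c, -, hc⟩ := (Nat.dvd_prime_pow Nat.prime_two).mp hxo
  rcases Nat.lt_or_ge c 2 with hc2 | hc2
  · interval_cases c
    · rw [pow_zero, orderOf_eq_one_iff] at hc
      rw [hc, one_mul, inv_one, mul_one] at hxinv
      exact ho2 (by rw [sq]; nth_rewrite 1 [hxinv]; exact inv_mul_cancel o)
    · rw [pow_one] at hc
      have hoM : o ^ 2 ∈ M := by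
        have h1 : x * o * x⁻¹ * o⁻¹ ∈ M := by
          rw [show x * o * x⁻¹ * o⁻¹ = x * (o * x⁻¹ * o⁻¹) by group]
          exact mul_mem (hIM x hc) (Subgroup.Normal.conj_mem inferInstance _ (inv_mem (hIM x hc)) o)
        rw [hxinv] at h1
        have h2 := inv_mem h1
        rwa [mul_inv_rev, inv_inv, ← sq] at h2
      apply ho2
      have d1 : orderOf (o ^ 2) ∣ 2 ^ k := hk ▸ M.orderOf_dvd_natCard hoM
      have d2 : orderOf (o ^ 2) ∣ m := orderOf_dvd_of_pow_eq_one (by rw [← pow_mul, mul_comm, pow_mul, hoodd, one_pow])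
      have d3 := Nat.dvd_gcd d1 d2
      rw [Nat.Coprime.pow_left k ((Nat.Prime.coprime_iff_not_dvd Nat.prime_two).mpr hm), Nat.dvd_one] at d3
      exact orderOf_eq_one_iff.mp d3
  · apply hC
    have hu : x ^ 2 ^ (c - 1) ∈ Subgroup.centralizer ({o} : Set R) := by
      rw [Subgroup.mem_centralizer_singleton_iff, hx, ← pow_mul,
        show l * 2 ^ (c - 1) = 2 * (l * 2 ^ (c - 2)) by
          rw [show c - 1 = c - 2 + 1 by omega, pow_succ]; ring]
      exact mul_inv_eq_iff_eq_mul.mp (hinv _)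
    refine dvd_trans (dvd_of_eq ?_) (Subgroup.orderOf_dvd_natCard _ hu)
    rw [orderOf_pow_of_dvd (pow_pos two_pos _).ne' (hc ▸ pow_dvd_pow 2 (Nat.sub_le c 1)), hc,
      Nat.pow_div (Nat.sub_le c 1) two_pos, show c - (c - 1) = 1 by omega, pow_one]


/-- Let G be a finite solvable group of even order in which every element is conjugate to its inverse and all involutions are conjugate. Then a Sylow 2-subgroup S of G has order 2 or is a generalized quaternion group (of order at least 8). Moreover, if S has order 2, then G is the semidirect product of its largest normal subgroup of odd order O(G) by S, O(G) equals the derived subgroup of G, and the involution of S inverts every element of O(G). -/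
theorem result {G : Type*} [Group G] [Finite G] [Group.IsSolvable G]
    (hamb : ∀ x : G, IsConj x x⁻¹) (heven : 2 ∣ Nat.card G) (hone : ∀ s t : G, orderOf s = 2 → orderOf t = 2 → IsConj s t) (S : Sylow 2 G) :
    (Nat.card S = 2 ∨ ∃ n : ℕ, Nonempty ((S : Subgroup G) ≃* QuaternionGroup (2 ^ (n + 1)))) ∧
    (Nat.card S = 2 → (S : Subgroup G).IsComplement' (Cfsg.oddCore G) ∧ Cfsg.oddCore G = commutator G ∧
        ∀ t : G, t ∈ S → t ≠ 1 → ∀ x : G, x ∈ Cfsg.oddCore G → t * x * t⁻¹ = x⁻¹) := by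
  classical
  haveI := Fact.mk Nat.prime_two
  set O := Cfsg.oddCore G with hO
  haveI : O.Normal := by rw [hO]; unfold Cfsg.oddCore; infer_instance
  let f := QuotientGroup.mk' O
  have hf := QuotientGroup.mk'_surjective O
  have hOodd : Odd (Nat.card O) := CfsgLib.Base.odd_card_oddCore G
  -- the quotient
  have hkey : ∀ u v : G, u ∈ (S : Subgroup G) → v ∈ (S : Subgroup G) → orderOf u = 2 → orderOf v = 2 → u = v := by
    intro u v hu hv huo hvo
    have hinj : ∀ y ∈ (S : Subgroup G), f y = 1 → y = 1 := by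
      intro y hy h1
      obtain ⟨n, hn⟩ := IsPGroup.iff_card.mp S.isPGroup'
      have d1 : orderOf y ∣ 2 ^ n := hn ▸ Subgroup.orderOf_dvd_natCard _ hy
      have d2 : orderOf y ∣ Nat.card O := O.orderOf_dvd_natCard ((QuotientGroup.eq_one_iff y).mp h1)
      have d3 := Nat.dvd_gcd d1 d2
      rw [Nat.Coprime.pow_left n (Nat.coprime_two_left.mpr hOodd), Nat.dvd_one] at d3
      exact orderOf_eq_one_iff.mp d3
    have ho : ∀ y ∈ (S : Subgroup G), orderOf y = 2 → orderOf (f y) = 2 := by
      intro y hy hyo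
      have hd := orderOf_map_dvd f y
      rw [hyo, Nat.dvd_prime Nat.prime_two] at hd
      refine hd.resolve_left fun e => ?_
      rw [hinj y hy (orderOf_eq_one_iff.mp e), orderOf_one] at hyo
      omega
    have hamb' : ∀ y : G ⧸ O, IsConj y y⁻¹ := by
      intro y
      obtain ⟨y, rfl⟩ := hf y
      rw [← map_inv]
      exact f.map_isConj (hamb y)
    have hone' : ∀ a b : G ⧸ O, orderOf a = 2 → orderOf b = 2 → IsConj a b := by
      have lift : ∀ a : G ⧸ O, orderOf a = 2 → ∃ y : G, orderOf y = 2 ∧ f y = a := by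
        intro a ha
        obtain ⟨y, rfl⟩ := hf a
        obtain ⟨n, ⟨k, hk⟩, hn⟩ := CfsgLib.SolvStruct.PiElements.exists_pow_primePow f Nat.prime_two y
          (c := 1) (by rw [pow_one, ha])
        refine ⟨y ^ n, orderOf_eq_prime ?_ ?_, hn⟩
        · have h2 : (y ^ n) ^ 2 ∈ O := by
            rw [← QuotientGroup.eq_one_iff]
            show f ((y ^ n) ^ 2) = 1
            rw [map_pow, hn, ← ha, pow_orderOf_eq_one]
          have d1 : orderOf ((y ^ n) ^ 2) ∣ 2 ^ k := hk ▸ orderOf_pow_dvd 2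
          have d2 := O.orderOf_dvd_natCard h2
          have d3 := Nat.dvd_gcd d1 d2
          rw [Nat.Coprime.pow_left k (Nat.coprime_two_left.mpr hOodd), Nat.dvd_one] at d3
          exact orderOf_eq_one_iff.mp d3
        · intro e
          rw [← hn, e, map_one, orderOf_one] at ha
          omega
      intro a b ha hb
      obtain ⟨y, hy, rfl⟩ := lift a ha
      obtain ⟨z, hz, rfl⟩ := lift b hb
      exact f.map_isConj (hone y z hy hz)
    have hO' : Cfsg.oddCore (G ⧸ O) = ⊥ := by
      haveI : (Cfsg.oddCore (G ⧸ O)).Normal := by unfold Cfsg.oddCore; infer_instance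
      have hle : (Cfsg.oddCore (G ⧸ O)).comap f ≤ O := by
        show _ ≤ Cfsg.oddCore G
        refine CfsgLib.Base.le_oddCore ?_
        have hrel : O.relIndex ((Cfsg.oddCore (G ⧸ O)).comap f) = Nat.card (Cfsg.oddCore (G ⧸ O)) := by
          have hker : (⊥ : Subgroup (G ⧸ O)).comap f = O := by
            rw [MonoidHom.comap_bot]; exact QuotientGroup.ker_mk' O
          refine (congrArg (Subgroup.relIndex · ((Cfsg.oddCore (G ⧸ O)).comap f)) hker.symm).trans ?_
          show ((⊥ : Subgroup (G ⧸ O)).comap f).relIndex _ = _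
          rw [Subgroup.relIndex_comap, Subgroup.map_comap_eq_self_of_surjective hf, Subgroup.relIndex_bot_left]
        have hOle : O ≤ (Cfsg.oddCore (G ⧸ O)).comap f := fun y hy => by
          rw [Subgroup.mem_comap]
          rw [show f y = 1 from (QuotientGroup.eq_one_iff y).mpr hy]; exact one_mem _
        rw [← Subgroup.relIndex_bot_left, ← Subgroup.relIndex_mul_relIndex ⊥ O _ bot_le hOle,
          Subgroup.relIndex_bot_left, hrel]
        exact hOodd.mul (CfsgLib.Base.odd_card_oddCore _)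
      rw [← Subgroup.map_comap_eq_self_of_surjective hf (Cfsg.oddCore (G ⧸ O)), Subgroup.map_eq_bot_iff,
        QuotientGroup.ker_mk']
      exact hle
    have hq := unique_involution hamb' (dvd_trans (dvd_of_eq (ho u hu huo).symm) (_root_.orderOf_dvd_natCard _))
      hone' hO' (ho u hu huo) (ho v hv hvo)
    have := hinj (u⁻¹ * v) (mul_mem (inv_mem hu) hv) (by rw [map_mul, map_inv, hq, inv_mul_cancel])
    exact inv_mul_eq_one.mp this
  have hdvd : 2 ∣ Nat.card (S : Subgroup G) := by
    obtain ⟨t₀, ht₀⟩ := exists_prime_orderOf_dvd_card' 2 heven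
    have hz : IsPGroup 2 (Subgroup.zpowers t₀) := IsPGroup.of_card (n := 1) (by rw [Nat.card_zpowers, ht₀, pow_one])
    obtain ⟨T, hT⟩ := hz.exists_le_sylow
    rw [Sylow.card_eq_multiplicity S, ← Sylow.card_eq_multiplicity T]
    refine dvd_trans (dvd_of_eq ?_) (Subgroup.card_dvd_of_le hT)
    rw [Nat.card_zpowers, ht₀]
  obtain ⟨z, hz⟩ := exists_prime_orderOf_dvd_card' 2 hdvd
  have hzu : ∀ y : (S : Subgroup G), y ^ 2 = 1 → y ∈ Subgroup.zpowers z := by
    intro y hy
    rcases eq_or_ne y 1 with rfl | hy1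
    · exact one_mem _
    · have := hkey y z y.2 z.2 (by rw [Subgroup.orderOf_coe]; exact orderOf_eq_prime hy hy1)
        (by rw [Subgroup.orderOf_coe, hz])
      rw [Subtype.ext this]
      exact Subgroup.mem_zpowers z
  have hcyc : IsCyclic (S : Subgroup G) → Nat.card S = 2 ∧
      ∃ K : Subgroup G, K.Normal ∧ K.IsComplement' (S : Subgroup G) := by
    intro hc
    haveI := hc
    have hmin : (Nat.card G).minFac = 2 := (Nat.minFac_eq_two_iff _).mpr heven
    have hN := hc.normalizer_le_centralizer (P := S) hmin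
    have hcomp := MonoidHom.ker_transferSylow_isComplement' S hN
    set τ := MonoidHom.transferSylow S hN
    refine ⟨?_, τ.ker, inferInstance, hcomp⟩
    have hsq : ∀ y : (S : Subgroup G), y ^ 2 = 1 := by
      intro y
      obtain ⟨c, hc'⟩ := isConj_iff.mp (hamb y)
      have h1 : τ (y : G) = τ (y : G)⁻¹ := by
        rw [← hc', map_mul, map_mul, map_inv]
        letI : CommGroup (S : Subgroup G) := hc.commGroup
        exact (mul_inv_cancel_comm _ _).symm
      have h2 : (y : G) ^ 2 ∈ τ.ker := by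
        rw [MonoidHom.mem_ker, map_pow, sq]
        nth_rewrite 1 [h1]
        rw [map_inv, inv_mul_cancel]
      have h3 : (y : G) ^ 2 ∈ τ.ker ⊓ (S : Subgroup G) := ⟨h2, pow_mem y.2 2⟩
      rw [hcomp.disjoint.eq_bot, Subgroup.mem_bot] at h3
      exact Subtype.ext h3
    obtain ⟨w, hw⟩ := IsCyclic.exists_generator (α := (S : Subgroup G))
    have hw2 : orderOf w = Nat.card (S : Subgroup G) := orderOf_eq_card_of_forall_mem_zpowers hw
    have h3 := orderOf_dvd_of_pow_eq_one (hsq w)
    rw [hw2] at h3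
    exact Nat.dvd_antisymm h3 hdvd
  refine ⟨?_, fun hS2 => ?_⟩
  · rcases CfsgLib.PGroups.isCyclic_or_quaternion_of_unique S.isPGroup' (z := z)
      (by rw [← orderOf_dvd_iff_pow_eq_one, hz]) hzu with hc | ⟨-, n, hn, he⟩
    · exact Or.inl (hcyc hc).1
    · exact Or.inr ⟨n - 1, by rwa [show n - 1 + 1 = n by omega]⟩
  · haveI : Fact (Nat.Prime 2) := ⟨Nat.prime_two⟩
    obtain ⟨-, K, hKn, hK⟩ := hcyc (isCyclic_of_prime_card (p := 2) hS2)
    haveI := hKn
    have hKi : K.index = 2 := hK.symm.index_eq_card.trans hS2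
    have hKodd : Odd (Nat.card K) := by
      rw [← hK.index_eq_card, Nat.odd_iff, ← Nat.two_dvd_ne_zero]
      exact S.not_dvd_index
    have hKO : O = K := by
      refine le_antisymm ?_ (hO ▸ CfsgLib.Base.le_oddCore hKodd)
      intro y hy
      by_contra hyK
      have h2 : orderOf (QuotientGroup.mk' K y) = 2 := by
        haveI := Fact.mk Nat.prime_two
        refine orderOf_eq_prime ?_ fun e => hyK ((QuotientGroup.eq_one_iff y).mp e)
        rw [← map_pow]
        exact (QuotientGroup.eq_one_iff _).mpr (Subgroup.sq_mem_of_index_two hKi y)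
      exact (Nat.two_dvd_ne_zero.mpr (Nat.odd_iff.mp hOodd))
        (h2 ▸ (orderOf_map_dvd _ y).trans (O.orderOf_dvd_natCard hy))
    haveI : O.Normal := inferInstance
    have hG' : commutator G ≤ K := by
      haveI : IsCyclic (G ⧸ K) := isCyclic_of_prime_card (p := 2) (by rw [← Subgroup.index_eq_card, hKi])
      letI : CommGroup (G ⧸ K) := IsCyclic.commGroup
      intro y hy
      rw [← QuotientGroup.eq_one_iff]
      exact Abelianization.commutator_subset_ker (QuotientGroup.mk' K) hy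
    refine ⟨hKO ▸ hK.symm, le_antisymm ?_ (hKO ▸ hG'), ?_⟩
    · intro y hy
      have h1 : Abelianization.of y = Abelianization.of y⁻¹ := by
        obtain ⟨c, hc⟩ := isConj_iff.mp (hamb y)
        rw [← hc, map_mul, map_mul, map_inv, mul_inv_cancel_comm]
      have h2 : y ^ 2 ∈ commutator G := by
        rw [← Abelianization.ker_of, MonoidHom.mem_ker, map_pow, sq]
        nth_rewrite 1 [h1]
        rw [map_inv, inv_mul_cancel]
      have hy' : orderOf y ∣ Nat.card O := O.orderOf_dvd_natCard hy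
      obtain ⟨e, he⟩ : ∃ e, y = (y ^ 2) ^ e := by
        obtain ⟨e, he⟩ := exists_pow_eq_self_of_coprime (Nat.coprime_two_left.mpr (hOodd.of_dvd_nat hy'))
        exact ⟨e, he.symm⟩
      rw [he]
      exact pow_mem h2 e
    · intro t htS ht1 x hx
      haveI := Fact.mk Nat.prime_two
      have ht : orderOf t = 2 := by
        have hd := Subgroup.orderOf_dvd_natCard _ htS
        rw [hS2, Nat.dvd_prime Nat.prime_two] at hd
        exact hd.resolve_left fun e => ht1 (orderOf_eq_one_iff.mp e)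
      have htt : t * t = 1 := by rw [← sq, ← ht, pow_orderOf_eq_one]
      have hSall : ∀ s ∈ (S : Subgroup G), s = 1 ∨ s = t := by
        intro s hs
        rcases eq_or_ne s 1 with h | h
        · exact Or.inl h
        · refine Or.inr (hkey s t hs htS ?_ ht)
          have hd := Subgroup.orderOf_dvd_natCard _ hs
          rw [hS2, Nat.dvd_prime Nat.prime_two] at hd
          exact hd.resolve_left fun e => h (orderOf_eq_one_iff.mp e)
      let φ : O →* O :=
        { toFun := fun y => ⟨t * y * t⁻¹, (inferInstance : O.Normal).conj_mem y y.2 t⟩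
          map_one' := Subtype.ext (by simp)
          map_mul' := fun y w => Subtype.ext (by
            show t * ((y : G) * w) * t⁻¹ = (t * y * t⁻¹) * (t * w * t⁻¹)
            group) }
      have hfpf : MonoidHom.FixedPointFree φ := by
        intro y hy
        have hyt : Commute t (y : G) := by
          have h2 : t * (y : G) * t⁻¹ = y := congrArg Subtype.val hy
          exact mul_inv_eq_iff_eq_mul.mp h2
        obtain ⟨g, hg⟩ := isConj_iff.mp (hamb (t * (y : G)))
        have hyo : (y : G) ^ orderOf (y : G) = 1 := pow_orderOf_eq_one _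
        have hodd : Odd (orderOf (y : G)) := hOodd.of_dvd_nat (O.orderOf_dvd_natCard y.2)
        obtain ⟨j, hj⟩ := hodd
        have hpow : (t * (y : G)) ^ orderOf (y : G) = t := by
          rw [hyt.mul_pow, hyo, mul_one, hj, pow_succ, pow_mul, sq, htt, one_pow, one_mul]
        have hgt : g * t * g⁻¹ = t := by
          calc g * t * g⁻¹ = g * (t * (y : G)) ^ orderOf (y : G) * g⁻¹ := by rw [hpow]
            _ = (g * (t * (y : G)) * g⁻¹) ^ orderOf (y : G) := conj_pow.symm
            _ = t⁻¹ := by rw [hg, inv_pow, hpow]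
            _ = t := inv_eq_of_mul_eq_one_left htt
        have hgy : g * (y : G) * g⁻¹ = (y : G)⁻¹ := by
          calc g * (y : G) * g⁻¹ = (g * t * g⁻¹)⁻¹ * (g * (t * (y : G)) * g⁻¹) := by group
            _ = t⁻¹ * ((y : G)⁻¹ * t⁻¹) := by rw [hgt, hg, mul_inv_rev]
            _ = (y : G)⁻¹ := by rw [← hyt.inv_inv.eq, ← mul_assoc, ← mul_inv_rev, htt, inv_one, one_mul]
        obtain ⟨⟨o, s⟩, hos⟩ := (hKO ▸ hK : O.IsComplement' (S : Subgroup G)).2 g
        have hos' : (o : G) * s = g := hos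
        have hoy : (o : G) * y * (o : G)⁻¹ = (y : G)⁻¹ := by
          have hsy : (s : G) * y * (s : G)⁻¹ = y := by
            rcases hSall s s.2 with h | h <;> rw [h]
            · group
            · rw [hyt.eq, mul_inv_cancel_right]
          calc (o : G) * y * (o : G)⁻¹ = (o : G) * ((s : G) * y * (s : G)⁻¹) * (o : G)⁻¹ := by rw [hsy]
            _ = g * y * g⁻¹ := by rw [← hos']; group
            _ = _ := hgy
        exact CfsgLib.Chars.eq_one_of_isConj_inv hOodd (isConj_iff.mpr ⟨o, Subtype.ext hoy⟩)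
      have hinv := hfpf.coe_eq_inv_of_sq_eq_one (by
        funext y
        refine Subtype.ext ?_
        show t * (t * y * t⁻¹) * t⁻¹ = y
        calc t * (t * y * t⁻¹) * t⁻¹ = (t * t) * y * (t * t)⁻¹ := by group
          _ = y := by rw [htt]; group)
      exact congrArg Subtype.val (congrFun hinv ⟨x, hx⟩)

end Cfsg.Agent.S4061
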