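import Cfsg.Statements.S4062
import Mathlib
import Cfsg.Agent.Lib.SolvStruct.PiElements

set_option autoImplicit false
set_option linter.style.haveILetI false
open Cfsg

namespace Cfsg.Agent.S4062
open Subgroup
open scoped commutatorElement

section
variable {G : Type*} [Group G] [Finite G] (hG : ∀ x y : G, orderOf x = orderOf y → IsConj x y)
include hG

/-- In a quotient, two `p`-elements are conjugate, or one is conjugate to a power `p^(k+1)` of the other. -/
theorem classes {H : Type*} [Group H] (f : G →* H) (hf : Function.Surjective f) {p : ℕ}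
    (hp : p.Prime) (a b : H) (ha : ∃ c, orderOf a = p ^ c) (hb : ∃ c, orderOf b = p ^ c) :
    IsConj a b ∨ (∃ k, IsConj a (b ^ p ^ (k + 1))) ∨ (∃ k, IsConj b (a ^ p ^ (k + 1))) := by
  obtain ⟨x, rfl⟩ := hf a
  obtain ⟨y, rfl⟩ := hf b
  obtain ⟨_, hc⟩ := ha
  obtain ⟨_, hd⟩ := hb
  obtain ⟨m, ⟨i, hi⟩, hm⟩ := CfsgLib.SolvStruct.PiElements.exists_pow_primePow f hp x hc
  obtain ⟨n, ⟨j, hj⟩, hn⟩ := CfsgLib.SolvStruct.PiElements.exists_pow_primePow f hp y hd
  have aux : ∀ u v : G, ∀ i j : ℕ, orderOf u = p ^ i → orderOf v = p ^ j → i < j →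
      ∃ k, IsConj (f u) (f v ^ p ^ (k + 1)) := by
    intro u v i j hu hv hij
    obtain ⟨k, rfl⟩ := Nat.exists_eq_add_of_lt hij
    refine ⟨k, ?_⟩
    rw [← map_pow]
    refine f.map_isConj (hG _ _ ?_)
    rw [hu, orderOf_pow_of_dvd (pow_pos hp.pos _).ne' (hv ▸ pow_dvd_pow p (by omega)), hv,
      Nat.pow_div (by omega) hp.pos]
    congr 1
    omega
  rw [← hm, ← hn]
  rcases lt_trichotomy i j with h | h | h
  · exact Or.inr (Or.inl (aux _ _ i j hi hj h))
  · exact Or.inl (f.map_isConj (hG _ _ (by rw [hi, hj, h])))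
  · exact Or.inr (Or.inr (aux _ _ j i hj hi h))

theorem conj_eq_of_orderOf_prime {H : Type*} [Group H] (f : G →* H) (hf : Function.Surjective f)
    {p : ℕ} (hp : p.Prime) (a b : H) (ha : orderOf a = p) (hb : orderOf b = p) : IsConj a b := by
  rcases classes hG f hf hp a b ⟨1, by rw [ha, pow_one]⟩ ⟨1, by rw [hb, pow_one]⟩ with h | ⟨k, h⟩ | ⟨k, h⟩
  · exact h
  · have h1 : b ^ p ^ (k + 1) = 1 := by rw [pow_succ', pow_mul, ← hb, pow_orderOf_eq_one, one_pow]
    rw [h1] at h
    rw [isConj_one_left.mp h] at ha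
    exact absurd ha (by simp [hp.ne_one.symm])
  · have h1 : a ^ p ^ (k + 1) = 1 := by rw [pow_succ', pow_mul, ← ha, pow_orderOf_eq_one, one_pow]
    rw [h1] at h
    rw [isConj_one_left.mp h] at hb
    exact absurd hb (by simp [hp.ne_one.symm])
end

theorem conj_pow_inv_or {H : Type*} [Group H] (A : Subgroup H) (hA : A.index = 2)
    (hab : ∀ a ∈ A, ∀ b ∈ A, a * b = b * a) {y : H} (hy : y ∉ A)
    (hinv : ∀ a ∈ A, y * a * y⁻¹ = a⁻¹) {a b : H} (ha : a ∈ A) (h : IsConj a b) :
    b = a ∨ b = a⁻¹ := by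
  obtain ⟨g, rfl⟩ := isConj_iff.mp h
  by_cases hg : g ∈ A
  · left; rw [hab g hg a ha, mul_inv_cancel_right]
  · right
    have hm : g⁻¹ * y ∈ A := by
      rw [Subgroup.mul_mem_iff_of_index_two hA]
      simp [hg, hy]
    have h1 := hab _ hm _ ha
    calc g * a * g⁻¹ = g * (a * (g⁻¹ * y)) * y⁻¹ := by group
      _ = g * ((g⁻¹ * y) * a) * y⁻¹ := by rw [h1]
      _ = y * a * y⁻¹ := by group
      _ = a⁻¹ := hinv a ha

theorem mem_normalizer_of_conj {H : Type*} [Group H] [Finite H] (I : Subgroup H) {y : H}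
    (h : ∀ b ∈ I, y * b * y⁻¹ ∈ I) : y ∈ Subgroup.normalizer (I : Set H) := by
  rw [Subgroup.mem_normalizer_iff_map_conj_eq]
  refine Subgroup.eq_of_le_of_card_ge ?_ ?_
  · rintro _ ⟨b, hb, rfl⟩
    exact h b hb
  · rw [Subgroup.card_map_of_injective (MulAut.conj y).injective]

theorem orderOf_eq_of_isConj {H : Type*} [Group H] {a b : H} (h : IsConj a b) :
    orderOf a = orderOf b := by
  obtain ⟨u, hu⟩ := h
  exact hu.orderOf_eq _

/-- `A = H'` abelian, `H = ⟨A, y⟩` with `yⁿ ∈ A`: `a ↦ [y,a]` is a bijection of `A`. -/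
theorem comm_bij {H : Type*} [Group H] [Finite H] (A : Subgroup H) [A.Normal]
    (hAc : commutator H = A) (hab : ∀ a ∈ A, ∀ b ∈ A, a * b = b * a) {y : H}
    (hgen : A ⊔ zpowers y = ⊤) :
    (∀ a ∈ A, Commute y a → a = 1) ∧ ∀ b ∈ A, ∃ a ∈ A, y * a * y⁻¹ * a⁻¹ = b := by
  have hn : ∀ a ∈ A, y * a * y⁻¹ ∈ A := fun a ha => Subgroup.Normal.conj_mem inferInstance a ha y
  let φ : A →* A :=
    { toFun := fun a => ⟨y * a * y⁻¹ * (a : H)⁻¹, mul_mem (hn a a.2) (inv_mem a.2)⟩
      map_one' := Subtype.ext (by simp)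
      map_mul' := fun a b => Subtype.ext (by
        show y * ((a : H) * b) * y⁻¹ * ((a : H) * b)⁻¹ = (y * a * y⁻¹ * (a : H)⁻¹) * (y * b * y⁻¹ * (b : H)⁻¹)
        have e := hab (a : H)⁻¹ (inv_mem a.2) (y * b * y⁻¹ * (b : H)⁻¹) (mul_mem (hn b b.2) (inv_mem b.2))
        calc y * ((a : H) * b) * y⁻¹ * ((a : H) * b)⁻¹
            = y * a * y⁻¹ * ((y * b * y⁻¹ * (b : H)⁻¹) * (a : H)⁻¹) := by group
          _ = y * a * y⁻¹ * ((a : H)⁻¹ * (y * b * y⁻¹ * (b : H)⁻¹)) := by rw [e]
          _ = _ := by group) }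
  let I := φ.range.map A.subtype
  have hIA : I ≤ A := Subgroup.map_subtype_le _
  have hIy : ∀ b ∈ I, y * b * y⁻¹ ∈ I := by
    rintro _ ⟨_, ⟨a, rfl⟩, rfl⟩
    refine ⟨φ ⟨y * a * y⁻¹, hn a a.2⟩, ⟨_, rfl⟩, ?_⟩
    show y * (y * a * y⁻¹) * y⁻¹ * (y * a * y⁻¹)⁻¹ = y * (y * a * y⁻¹ * (a : H)⁻¹) * y⁻¹
    group
  haveI hIn : I.Normal := by
    rw [← Subgroup.normalizer_eq_top_iff, eq_top_iff, ← hgen]
    refine sup_le (fun a ha => mem_normalizer_of_conj I fun b hb => ?_)
      (zpowers_le.mpr (mem_normalizer_of_conj I hIy))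
    rwa [hab a ha b (hIA hb), mul_inv_cancel_right]
  have hle : commutator H ≤ I := by
    let q := QuotientGroup.mk' I
    have hab' : ∀ u v : H ⧸ I, u * v = v * u := by
      have hcen : (A.map q ⊔ zpowers (q y)) ≤ Subgroup.center (H ⧸ I) := by
        have hS : ∀ s ∈ (A.map q : Set (H ⧸ I)) ∪ {q y}, s ∈ Subgroup.center (H ⧸ I) := by
          intro s hs
          have key : ∀ a ∈ A, Commute (q y) (q a) := by
            intro a ha
            show q y * q a = q a * q y
            rw [← map_mul, ← map_mul]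
            refine (QuotientGroup.eq.mpr ?_).symm
            have hm : (φ ⟨(a : H), ha⟩ : H) ∈ I := ⟨_, ⟨_, rfl⟩, rfl⟩
            have hI2 : (a * y)⁻¹ * (φ ⟨(a : H), ha⟩ : H) * (a * y) ∈ I := by
              have := hIn.conj_mem _ hm (a * y)⁻¹
              simpa using this
            convert hI2 using 1
            show (a * y)⁻¹ * (y * a) = (a * y)⁻¹ * (y * a * y⁻¹ * (a : H)⁻¹) * (a * y)
            group
          rw [Subgroup.mem_center_iff]
          intro g
          have hg : g ∈ A.map q ⊔ zpowers (q y) := by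
            rw [← MonoidHom.map_zpowers, ← Subgroup.map_sup, hgen]
            obtain ⟨g', rfl⟩ := QuotientGroup.mk'_surjective I g
            exact ⟨g', trivial, rfl⟩
          have : A.map q ⊔ zpowers (q y) ≤ Subgroup.centralizer ({s} : Set (H ⧸ I)) := by
            refine sup_le ?_ (zpowers_le.mpr ?_)
            · rintro _ ⟨a, ha, rfl⟩
              rw [Subgroup.mem_centralizer_singleton_iff]
              rcases hs with ⟨a', ha', rfl⟩ | hs
              · rw [← map_mul, ← map_mul, hab a ha a' ha']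
              · rw [Set.mem_singleton_iff] at hs; subst hs; exact (key a ha).symm
            · rw [Subgroup.mem_centralizer_singleton_iff]
              rcases hs with ⟨a', ha', rfl⟩ | hs
              · exact key a' ha'
              · rw [Set.mem_singleton_iff] at hs; subst hs; rfl
          exact Subgroup.mem_centralizer_singleton_iff.mp (this hg)
        exact sup_le (fun s hs => hS s (Or.inl hs)) (zpowers_le.mpr (hS _ (Or.inr rfl)))
      intro u v
      refine (Subgroup.mem_center_iff.mp (hcen ?_) u)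
      rw [← MonoidHom.map_zpowers, ← Subgroup.map_sup, hgen]
      obtain ⟨g', rfl⟩ := QuotientGroup.mk'_surjective I v
      exact ⟨g', trivial, rfl⟩
    rw [_root_.commutator_def, Subgroup.commutator_le]
    intro a _ b _
    rw [← QuotientGroup.eq_one_iff]
    show q ⁅a, b⁆ = 1
    rw [map_commutatorElement, commutatorElement_eq_one_iff_commute]
    exact hab' _ _
  have hsurj : ∀ b ∈ A, ∃ a ∈ A, y * a * y⁻¹ * a⁻¹ = b := by
    intro b hb
    obtain ⟨_, ⟨a, rfl⟩, h⟩ := hle (hAc.symm ▸ hb)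
    exact ⟨a, a.2, h⟩
  have hinj : Function.Injective φ := by
    refine Finite.injective_iff_surjective.mpr fun b => ?_
    obtain ⟨a, ha, h⟩ := hsurj b b.2
    exact ⟨⟨a, ha⟩, Subtype.ext h⟩
  refine ⟨fun a ha hc => ?_, hsurj⟩
  have h1 : φ ⟨a, ha⟩ = φ 1 := by
    rw [map_one]
    refine Subtype.ext ?_
    show y * a * y⁻¹ * a⁻¹ = 1
    rw [hc.eq, mul_inv_cancel_right, mul_inv_cancel]
  simpa using congrArg Subtype.val (hinj h1)


/-- A finite solvable group in which any two elements of the same order are conjugate has order 1 or 2 or is isomorphic to the symmetric group of degree 3. -/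
theorem result {G : Type*} [Group G] [Finite G] [Group.IsSolvable G]
    (h : ∀ x y : G, orderOf x = orderOf y → IsConj x y) :
    Nat.card G = 1 ∨ Nat.card G = 2 ∨ Nonempty (G ≃* Equiv.Perm (Fin 3)) := by
  classical
  set D1 := derivedSeries G 1 with hD1
  set D2 := derivedSeries G 2 with hD2
  have hD1c : D1 = commutator G := derivedSeries_one G
  haveI : D1.Normal := derivedSeries_normal G 1
  haveI : D2.Normal := derivedSeries_normal G 2
  rcases eq_or_ne (Nat.card G) 1 with h1 | hne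
  · exact Or.inl h1
  right
  haveI : Nontrivial G := Finite.one_lt_card_iff_nontrivial.mp (by have := Nat.card_pos (α := G); omega)
  -- abelianization has order 2
  let f1 := QuotientGroup.mk' D1
  have hf1 := QuotientGroup.mk'_surjective D1
  have hab1 : ∀ a b : G ⧸ D1, a * b = b * a := by
    intro a b
    obtain ⟨x, rfl⟩ := hf1 a
    obtain ⟨y, rfl⟩ := hf1 b
    rw [← commutatorElement_eq_one_iff_mul_comm, ← map_commutatorElement]
    exact (QuotientGroup.eq_one_iff _).mpr (hD1c ▸ Subgroup.commutator_mem_commutator (mem_top x) (mem_top y))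
  have hexp : ∀ a : G ⧸ D1, a ^ 2 = 1 := by
    intro a
    obtain ⟨x, rfl⟩ := hf1 a
    obtain ⟨g, hg⟩ := isConj_iff.mp (f1.map_isConj (h x x⁻¹ (orderOf_inv x).symm))
    rw [hab1, inv_mul_cancel_left, map_inv] at hg
    rw [sq]
    nth_rewrite 1 [hg]
    exact inv_mul_cancel _
  have hpow2 : ∀ a : G ⧸ D1, ∃ c, orderOf a = 2 ^ c := fun a => by
    obtain ⟨c, -, hc⟩ := (Nat.dvd_prime_pow Nat.prime_two).mp
      ((orderOf_dvd_of_pow_eq_one (hexp a)).trans (dvd_of_eq (pow_one 2).symm))
    exact ⟨c, hc⟩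
  have hone : ∀ a b : G ⧸ D1, a ≠ 1 → b ≠ 1 → a = b := by
    intro a b ha hb
    have hz : ∀ (c : G ⧸ D1) (k : ℕ), c ^ 2 ^ (k + 1) = 1 := fun c k => by
      rw [pow_succ', pow_mul, hexp, one_pow]
    rcases classes h f1 hf1 Nat.prime_two a b (hpow2 a) (hpow2 b) with hc | ⟨k, hc⟩ | ⟨k, hc⟩
    · obtain ⟨g, hg⟩ := isConj_iff.mp hc
      rw [← hg, hab1 g a, mul_inv_cancel_right]
    · rw [hz, isConj_comm, isConj_one_right] at hc
      exact absurd hc ha
    · rw [hz, isConj_comm, isConj_one_right] at hc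
      exact absurd hc hb
  have hD1top : D1 ≠ ⊤ := by
    rw [hD1c]; exact ((Group.IsSolvable.commutator_lt_top_of_nontrivial G)).ne
  obtain ⟨y₀, hy₀⟩ : ∃ y₀ : G, y₀ ∉ D1 := by
    by_contra hc; push Not at hc; exact hD1top (eq_top_iff.mpr fun x _ => hc x)
  have hi1 : D1.index = 2 := by
    rw [Subgroup.index_eq_card, Nat.card_eq_two_iff' (1 : G ⧸ D1)]
    exact ⟨f1 y₀, fun he => hy₀ ((QuotientGroup.eq_one_iff y₀).mp he),
      fun b hb => hone b (f1 y₀) hb (fun he => hy₀ ((QuotientGroup.eq_one_iff y₀).mp he))⟩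
  rcases eq_or_ne D1 ⊥ with hbot | hD1ne
  · left; rw [← Subgroup.index_bot, ← hbot, hi1]
  right
  -- G/G'' is S3
  let f2 := QuotientGroup.mk' D2
  have hf2 := QuotientGroup.mk'_surjective D2
  let A := D1.map f2
  haveI : A.Normal := Subgroup.Normal.map inferInstance f2 hf2
  have hAc : commutator (G ⧸ D2) = A := by
    rw [← derivedSeries_one, ← map_derivedSeries_eq hf2 1]
  have hAab : ∀ a ∈ A, ∀ b ∈ A, a * b = b * a := by
    rintro _ ⟨x, hx, rfl⟩ _ ⟨z, hz, rfl⟩
    rw [← commutatorElement_eq_one_iff_mul_comm, ← map_commutatorElement]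
    exact (QuotientGroup.eq_one_iff _).mpr (Subgroup.commutator_mem_commutator hx hz)
  have hD21 : D2 ≤ D1 := derivedSeries_antitone G (by norm_num)
  have hAind : A.index = 2 := by
    rw [Subgroup.index_map_eq D1 hf2 (by rw [QuotientGroup.ker_mk']; exact hD21), hi1]
  have hAne : A ≠ ⊥ := by
    intro hb
    rw [Subgroup.map_eq_bot_iff, QuotientGroup.ker_mk'] at hb
    have heq : ⁅D1, D1⁆ = D1 := le_antisymm (le_trans (le_refl D2) hD21) hb
    have : ∀ n, D1 ≤ derivedSeries G (n + 1) := by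
      intro n
      induction n with
      | zero => exact le_rfl
      | succ n ih => rw [derivedSeries_succ]; exact heq.symm.le.trans (Subgroup.commutator_mono ih ih)
    obtain ⟨n, hn⟩ := (Group.isSolvable_def G).mp ‹_›
    exact hD1ne (le_bot_iff.mp ((this n).trans ((derivedSeries_antitone G (Nat.le_succ n)).trans hn.le)))
  have hgen_of : ∀ y : G ⧸ D2, y ∉ A → A ⊔ zpowers y = ⊤ := by
    intro y hy
    refine eq_top_iff.mpr fun g _ => ?_
    by_cases hg : g ∈ A
    · exact Subgroup.mem_sup_left hg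
    · have h1 : g * y⁻¹ ∈ A := by
        rw [Subgroup.mul_mem_iff_of_index_two hAind]
        simp [hg, hy]
      rw [← inv_mul_cancel_right g y]
      exact mul_mem (Subgroup.mem_sup_left h1) (Subgroup.mem_sup_right (mem_zpowers y))
  have hy : f2 y₀ ∉ A := by
    rintro ⟨z, hz, he⟩
    exact hy₀ (by
      have := mul_mem hz (hD21 (QuotientGroup.eq.mp he))
      rwa [mul_inv_cancel_left] at this)
  set y := f2 y₀ with hyd
  obtain ⟨hfix, hsurj⟩ := comm_bij A hAc hAab (hgen_of y hy)
  have hy2 : y * y = 1 := by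
    refine hfix _ ?_ ((Commute.refl y).mul_right (Commute.refl y))
    rw [Subgroup.mul_mem_iff_of_index_two hAind]
  have hyi : y⁻¹ = y := inv_eq_of_mul_eq_one_left hy2
  have hinv : ∀ b ∈ A, y * b * y⁻¹ = b⁻¹ := by
    intro b hb
    obtain ⟨a, ha, rfl⟩ := hsurj b hb
    rw [hyi]
    calc y * (y * a * y * a⁻¹) * y = (y * y) * a * y * a⁻¹ * y := by group
      _ = a * y * a⁻¹ * y := by rw [hy2, one_mul]
      _ = a * y * a⁻¹ * y⁻¹ := by rw [hyi]
      _ = (y * a * y⁻¹ * a⁻¹)⁻¹ := by group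
      _ = (y * a * y * a⁻¹)⁻¹ := by rw [hyi]
  have hodd : ∀ a ∈ A, a ^ 2 = 1 → a = 1 := by
    intro a ha h2
    refine hfix a ha ?_
    have h1 := hinv a ha
    have h3 : a⁻¹ = a := inv_eq_of_mul_eq_one_left (by rwa [← sq])
    rw [h3, mul_inv_eq_iff_eq_mul] at h1
    exact h1
  have hprime3 : ∀ p : ℕ, p.Prime → ∀ a ∈ A, orderOf a = p → p = 3 := by
    intro p hp a ha ho
    have hne1 : a ≠ 1 := fun he => hp.ne_one (by rw [← ho, he, orderOf_one])
    have hne2 : a ^ 2 ≠ 1 := fun he => hne1 (hodd a ha he)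
    have ho2 : orderOf (a ^ 2) = p := by
      have hd := orderOf_pow_dvd (x := a) 2
      rw [ho, Nat.dvd_prime hp] at hd
      exact hd.resolve_left fun he => hne2 (orderOf_eq_one_iff.mp he)
    rcases conj_pow_inv_or A hAind hAab hy hinv ha
      (conj_eq_of_orderOf_prime h f2 hf2 hp a (a ^ 2) ho ho2) with he | he
    · exact absurd (by rwa [sq, mul_eq_left] at he) hne1
    · have h3 : a ^ 3 = 1 := by rw [pow_succ, he, inv_mul_cancel]
      exact (Nat.prime_dvd_prime_iff_eq hp Nat.prime_three).mp (ho ▸ orderOf_dvd_of_pow_eq_one h3)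
  have h3pow : ∀ a ∈ A, ∃ c, orderOf a = 3 ^ c := by
    intro a ha
    refine ⟨_, Nat.eq_prime_pow_of_unique_prime_dvd (orderOf_pos a).ne' fun {q} hq hd => ?_⟩
    refine hprime3 q hq (a ^ (orderOf a / q)) (pow_mem ha _) ?_
    rw [orderOf_pow_of_dvd _ (Nat.div_dvd_of_dvd hd), Nat.div_div_self hd (orderOf_pos a).ne']
    exact (Nat.div_pos (Nat.le_of_dvd (orderOf_pos a) hd) hq.pos).ne'
  have hexp3 : ∀ a ∈ A, a ^ 3 = 1 := by
    intro a ha
    by_contra hne3
    obtain ⟨c, hc⟩ := h3pow a ha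
    obtain ⟨d, hd⟩ := h3pow (a ^ 3) (pow_mem ha 3)
    have hcop : orderOf (a ^ 2) = orderOf a := by
      rw [Nat.Coprime.orderOf_pow]
      rw [hc]; exact Nat.Coprime.pow_left c (by norm_num)
    rcases classes h f2 hf2 Nat.prime_three (a ^ 2) a ⟨c, hcop.trans hc⟩ ⟨c, hc⟩ with hh | ⟨k, hh⟩ | ⟨k, hh⟩
    · rcases conj_pow_inv_or A hAind hAab hy hinv ha hh.symm with he | he
      · exact hne3 (by rw [sq, mul_eq_left] at he; rw [he, one_pow])
      · exact hne3 (by rw [pow_succ, he, inv_mul_cancel])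
    · have := orderOf_eq_of_isConj hh
      rw [hcop, ← pow_one (orderOf a)] at this
      have hlt := orderOf_pow_dvd (x := a) (3 ^ (k + 1))
      rcases (Nat.eq_zero_or_pos c) with hc0 | hc0
      · rw [hc0, pow_zero, orderOf_eq_one_iff] at hc; exact hne3 (by rw [hc, one_pow])
      · rw [pow_one, orderOf_pow, eq_comm] at this
        have hg : 1 < Nat.gcd (orderOf a) (3 ^ (k + 1)) := by
          refine lt_of_lt_of_le (by norm_num : 1 < 3) (Nat.le_of_dvd (Nat.gcd_pos_of_pos_left _ (orderOf_pos a)) ?_)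
          exact Nat.dvd_gcd (hc ▸ dvd_pow_self 3 hc0.ne') (dvd_pow_self 3 (Nat.succ_ne_zero k))
        exact absurd this (Nat.div_lt_self (orderOf_pos a) hg).ne
    · have := orderOf_eq_of_isConj hh
      rw [orderOf_pow, hcop] at this
      rcases (Nat.eq_zero_or_pos c) with hc0 | hc0
      · rw [hc0, pow_zero, orderOf_eq_one_iff] at hc; exact hne3 (by rw [hc, one_pow])
      · have hg : 1 < Nat.gcd (orderOf a) (3 ^ (k + 1)) := by
          refine lt_of_lt_of_le (by norm_num : 1 < 3) (Nat.le_of_dvd (Nat.gcd_pos_of_pos_left _ (orderOf_pos a)) ?_)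
          exact Nat.dvd_gcd (hc ▸ dvd_pow_self 3 hc0.ne') (dvd_pow_self 3 (Nat.succ_ne_zero k))
        exact absurd this.symm (Nat.div_lt_self (orderOf_pos a) hg).ne
  have hA3 : Nat.card A = 3 := by
    obtain ⟨a, ha, ha1⟩ := (Subgroup.bot_or_exists_ne_one A).resolve_left hAne
    have ho : ∀ b ∈ A, b ≠ 1 → orderOf b = 3 := fun b hb hb1 => orderOf_eq_prime (hexp3 b hb) hb1
    have hle : A ≤ zpowers a := by
      intro b hb
      rcases eq_or_ne b 1 with rfl | hb1
      · exact one_mem _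
      · rcases conj_pow_inv_or A hAind hAab hy hinv ha
          (conj_eq_of_orderOf_prime h f2 hf2 Nat.prime_three a b (ho a ha ha1) (ho b hb hb1)) with rfl | rfl
        · exact mem_zpowers _
        · exact inv_mem (mem_zpowers _)
    rw [le_antisymm hle (zpowers_le.mpr ha), Nat.card_zpowers, ho a ha ha1]
  -- G'' is trivial
  have hD2bot : D2 = ⊥ := by
    by_contra hD2ne
    obtain ⟨K, ⟨hKn, hKlt⟩, hKmax⟩ := Set.Finite.exists_maximal
      (Set.toFinite {K : Subgroup G | K.Normal ∧ K < D2}) ⟨⊥, inferInstance, bot_lt_iff_ne_bot.mpr hD2ne⟩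
    haveI := hKn
    have hD3K : derivedSeries G 3 ≤ D2 := derivedSeries_antitone G (by norm_num)
    have hlt : derivedSeries G 3 < D2 := by
      refine lt_of_le_of_ne hD3K fun he => hD2ne ?_
      have hs : ∀ n, D2 ≤ derivedSeries G (n + 2) := by
        intro n
        induction n with
        | zero => exact le_rfl
        | succ n ih => exact he.symm.le.trans (Subgroup.commutator_mono ih ih)
      obtain ⟨n, hn⟩ := (Group.isSolvable_def G).mp ‹_›
      exact le_bot_iff.mp ((hs n).trans ((derivedSeries_antitone G (by omega)).trans hn.le))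
    haveI := derivedSeries_normal G 3
    have hK3 : derivedSeries G 3 ≤ K := by
      by_contra hnle
      have hsup : K ⊔ derivedSeries G 3 = D2 := by
        by_contra hne'
        exact hnle (le_sup_right.trans (hKmax ⟨inferInstance, lt_of_le_of_ne (sup_le hKlt.le hD3K) hne'⟩ le_sup_left))
      have hs : ∀ n, D2 ≤ K ⊔ derivedSeries G (n + 2) := by
        intro n
        induction n with
        | zero => exact le_sup_right
        | succ n ih =>
          refine hsup.symm.le.trans (sup_le le_sup_left ?_)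
          rw [show derivedSeries G 3 = ⁅D2, D2⁆ from derivedSeries_succ G 2]
          haveI := derivedSeries_normal G (n + 3)
          refine (Subgroup.commutator_mono ih ih).trans ?_
          rw [← QuotientGroup.ker_mk' (K ⊔ derivedSeries G (n + 3)), ← Subgroup.map_eq_bot_iff, Subgroup.map_commutator, Subgroup.map_sup]
          have hKb : K.map (QuotientGroup.mk' (K ⊔ derivedSeries G (n + 3))) = ⊥ := by
            rw [Subgroup.map_eq_bot_iff, QuotientGroup.ker_mk']; exact le_sup_left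
          rw [hKb, bot_sup_eq, ← Subgroup.map_commutator, Subgroup.map_eq_bot_iff, QuotientGroup.ker_mk']
          exact le_sup_right
      obtain ⟨n, hn⟩ := (Group.isSolvable_def G).mp ‹_›
      have := (hs n).trans (sup_le le_rfl ((derivedSeries_antitone G (by omega)).trans (hn.le.trans bot_le)))
      exact absurd (lt_of_lt_of_le hKlt this) (lt_irrefl _)
    let f := QuotientGroup.mk' K
    have hf := QuotientGroup.mk'_surjective K
    let A1 := D1.map f
    let B := D2.map f
    haveI : B.Normal := Subgroup.Normal.map inferInstance f hf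
    haveI : A1.Normal := Subgroup.Normal.map inferInstance f hf
    have hKD1 : K ≤ D1 := hKlt.le.trans hD21
    have hA1ind : A1.index = 2 := by
      rw [Subgroup.index_map_eq D1 hf (by rw [QuotientGroup.ker_mk']; exact hKD1), hi1]
    have hBab : ∀ a ∈ B, ∀ b ∈ B, a * b = b * a := by
      rintro _ ⟨x, hx, rfl⟩ _ ⟨z, hz, rfl⟩
      rw [← commutatorElement_eq_one_iff_mul_comm, ← map_commutatorElement]
      exact (QuotientGroup.eq_one_iff _).mpr (hK3 (Subgroup.commutator_mem_commutator hx hz))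
    have hBne : B ≠ ⊥ := fun hb => by
      rw [Subgroup.map_eq_bot_iff, QuotientGroup.ker_mk'] at hb
      exact absurd (lt_of_lt_of_le hKlt hb) (lt_irrefl _)
    have hBmin : ∀ N : Subgroup (G ⧸ K), N.Normal → N ≤ B → N ≠ ⊥ → N = B := by
      intro N hN hNB hNne
      by_contra hne'
      haveI := hN.comap f
      have hK' : K ≤ N.comap f := fun k hk => by
        show f k ∈ N
        rw [show f k = 1 from (QuotientGroup.eq_one_iff k).mpr hk]; exact one_mem N
      have hlt' : N.comap f < D2 := by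
        refine lt_of_le_of_ne ?_ fun he => hne' ?_
        · refine (Subgroup.comap_mono hNB).trans ?_
          rw [Subgroup.comap_map_eq, QuotientGroup.ker_mk']
          exact sup_le le_rfl hKlt.le
        · rw [← Subgroup.map_comap_eq_self_of_surjective hf N, he]
      have := hKmax ⟨inferInstance, hlt'⟩ hK'
      refine hNne ?_
      rw [← Subgroup.map_comap_eq_self_of_surjective hf N, Subgroup.map_eq_bot_iff, QuotientGroup.ker_mk']
      exact this
    obtain ⟨p, hp, b₀, hb₀, hb₀o⟩ : ∃ p : ℕ, p.Prime ∧ ∃ b ∈ B, orderOf b = p := by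
      obtain ⟨p, hp, hd⟩ := Nat.exists_prime_and_dvd (fun he => hBne (Subgroup.card_eq_one.mp he))
      haveI := Fact.mk hp
      obtain ⟨b, hb⟩ := exists_prime_orderOf_dvd_card' p hd
      exact ⟨p, hp, b, b.2, by rw [Subgroup.orderOf_coe, hb]⟩
    have hb₀1 : b₀ ≠ 1 := fun he => hp.ne_one (by rw [← hb₀o, he, orderOf_one])
    let T : Subgroup (G ⧸ K) :=
      { carrier := {b | b ∈ B ∧ b ^ p = 1}
        mul_mem' := fun {a b} ha hb => ⟨mul_mem ha.1 hb.1, by
          rw [(show Commute a b from hBab a ha.1 b hb.1).mul_pow, ha.2, hb.2, one_mul]⟩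
        one_mem' := ⟨one_mem B, one_pow p⟩
        inv_mem' := fun {a} ha => ⟨inv_mem ha.1, by rw [inv_pow, ha.2, inv_one]⟩ }
    have hTn : T.Normal := ⟨fun b hb g => ⟨Subgroup.Normal.conj_mem inferInstance b hb.1 g, by
      rw [conj_pow, hb.2, mul_one, mul_inv_cancel]⟩⟩
    have hTB : T = B := hBmin T hTn (fun b hb => hb.1) fun hb => hb₀1 (by
      have : b₀ ∈ T := ⟨hb₀, by rw [← hb₀o, pow_orderOf_eq_one]⟩
      rwa [hb, Subgroup.mem_bot] at this)
    have hBexp : ∀ b ∈ B, b ^ p = 1 := fun b hb => (hTB.symm ▸ hb : b ∈ T).2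
    haveI := Fact.mk hp
    have htrans : ∀ b ∈ B, b ≠ 1 → IsConj b₀ b := fun b hb hb1 =>
      conj_eq_of_orderOf_prime h f hf hp b₀ b hb₀o (orderOf_eq_prime (hBexp b hb) hb1)
    have hBA1 : B ≤ A1 := Subgroup.map_mono hD21
    have hAcard : B.relIndex A1 = 3 := by
      have e1 : B.relIndex A1 = D2.relIndex D1 := by
        rw [Subgroup.relIndex_map_map, QuotientGroup.ker_mk', sup_eq_left.mpr hKlt.le,
          sup_eq_left.mpr hKD1]
      have e2 : D2.relIndex D1 = Nat.card A := by
        show D2.relIndex D1 = Nat.card (D1.map f2)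
        rw [← Subgroup.relIndex_bot_left]
        have : (⊥ : Subgroup (G ⧸ D2)) = D2.map f2 := by
          rw [eq_comm, Subgroup.map_eq_bot_iff, QuotientGroup.ker_mk']
        rw [this, Subgroup.relIndex_map_map, QuotientGroup.ker_mk', sup_idem, sup_eq_left.mpr hD21]
      rw [e1, e2, hA3]
    obtain ⟨c, hcA, hcB⟩ : ∃ c ∈ A1, c ∉ B := by
      by_contra hc; push Not at hc
      have := Subgroup.relIndex_eq_one.mpr (fun x hx => hc x hx : A1 ≤ B)
      omega
    haveI : (B.subgroupOf A1).Normal := Subgroup.Normal.subgroupOf inferInstance A1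
    have hBc : commutator A1 = B.subgroupOf A1 := by
      apply Subgroup.map_injective A1.subtype_injective
      rw [Subgroup.map_subtype_commutator, Subgroup.map_subgroupOf_eq_of_le hBA1]
      show ⁅D1.map f, D1.map f⁆ = D2.map f
      rw [← Subgroup.map_commutator]
      rfl
    have hgenA1 : B.subgroupOf A1 ⊔ zpowers (⟨c, hcA⟩ : A1) = ⊤ := by
      have hlt : B.subgroupOf A1 < B.subgroupOf A1 ⊔ zpowers (⟨c, hcA⟩ : A1) := by
        refine lt_of_le_of_ne le_sup_left fun he => hcB ?_
        have : (⟨c, hcA⟩ : A1) ∈ B.subgroupOf A1 := he ▸ Subgroup.mem_sup_right (mem_zpowers _)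
        exact this
      have hprod := Subgroup.relIndex_mul_index hlt.le
      rw [show (B.subgroupOf A1).index = 3 from hAcard] at hprod
      rw [← Subgroup.index_eq_one]
      rcases (Nat.dvd_prime Nat.prime_three).mp ⟨_, hprod.symm⟩ with he | he
      · exact absurd (Subgroup.relIndex_eq_one.mp he) (not_le_of_gt hlt)
      · rw [he] at hprod; omega
    obtain ⟨hcfix, -⟩ := comm_bij (B.subgroupOf A1) hBc
      (fun a ha b hb => Subtype.ext (hBab a ha b hb)) hgenA1
    have hcfix' : ∀ b ∈ B, Commute c b → b = 1 := fun b hb hc => by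
      have := hcfix ⟨b, hBA1 hb⟩ hb (Subtype.ext hc)
      exact congrArg Subtype.val this
    have hc3B : c ^ 3 ∈ B := by
      have := Subgroup.pow_index_mem (B.subgroupOf A1) (⟨c, hcA⟩ : A1)
      rw [show (B.subgroupOf A1).index = 3 from hAcard] at this
      exact this
    have hc3 : c ^ 3 = 1 := hcfix' _ hc3B (Commute.self_pow c 3)
    -- size of B
    let C₀ := Subgroup.centralizer ({b₀} : Set (G ⧸ K))
    have hBC : B ≤ C₀ := fun b hb => Subgroup.mem_centralizer_singleton_iff.mpr (hBab b₀ hb₀ b hb).symm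
    have hBind : B.index = 6 := by
      rw [← Subgroup.relIndex_mul_index hBA1, hAcard, hA1ind]
    have hCdvd : C₀.index ∣ 6 := hBind ▸ Subgroup.index_dvd_of_le hBC
    have hclass : C₀.index = Nat.card B - 1 := by
      rw [show C₀.index = Nat.card {b : G ⧸ K | IsConj b₀ b} from ?_]
      · have hset : {b : G ⧸ K | IsConj b₀ b} = (B : Set (G ⧸ K)) \ {1} := by
          ext b
          constructor
          · intro hb
            refine ⟨?_, fun he => hb₀1 ?_⟩
            · obtain ⟨g, rfl⟩ := isConj_iff.mp hb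
              exact Subgroup.Normal.conj_mem inferInstance b₀ hb₀ g
            · rw [Set.mem_singleton_iff] at he
              subst he
              exact isConj_one_left.mp hb
          · exact fun hb => htrans b hb.1 hb.2
        rw [hset, Nat.card_coe_set_eq, Set.ncard_diff_singleton_of_mem (show (1 : G ⧸ K) ∈ (B : Set (G ⧸ K)) from one_mem B)]
        rfl
      · rw [Nat.card_coe_set_eq]
        have := MulAction.index_stabilizer (ConjAct (G ⧸ K)) b₀
        rw [ConjAct.stabilizer_eq_centralizer] at this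
        have e : MulAction.orbit (ConjAct (G ⧸ K)) b₀ = {b : G ⧸ K | IsConj b₀ b} := by
          ext b; rw [ConjAct.mem_orbit_conjAct]; exact isConj_comm
        rw [e] at this
        exact this
    have h3dvd : 3 ∣ C₀.index := by
      by_contra hn3
      have hcC : c ∈ C₀ := by
        have hcop : Nat.Coprime 3 C₀.index := (Nat.prime_three.coprime_iff_not_dvd).mpr hn3
        have hd2 : C₀.index ∣ 2 := (Nat.Coprime.dvd_of_dvd_mul_left hcop.symm (show C₀.index ∣ 3 * 2 by simpa using hCdvd))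
        rcases (Nat.dvd_prime Nat.prime_two).mp hd2 with he | he
        · rw [Subgroup.index_eq_one.mp he]; exact Subgroup.mem_top c
        · have h2 : c ^ 2 ∈ C₀ := Subgroup.sq_mem_of_index_two he c
          have : c = (c ^ 2)⁻¹ * c ^ 3 := by group
          rw [this, hc3, mul_one]
          exact inv_mem h2
      exact hb₀1 (hcfix' b₀ hb₀ (Subgroup.mem_centralizer_singleton_iff.mp hcC))
    have hp1 : ∀ b ∈ B, b ≠ 1 → p ∣ Nat.card B := fun b hb hb1 => by
      rw [← orderOf_eq_prime (hBexp b hb) hb1]; exact Subgroup.orderOf_dvd_natCard B hb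
    have hB4 : Nat.card B = 4 := by
      have hBpos : 0 < Nat.card B := Nat.card_pos
      rcases (show C₀.index = 3 ∨ C₀.index = 6 by
        have hle := Nat.le_of_dvd (by norm_num) hCdvd
        have hpos : 0 < C₀.index := Nat.pos_of_ne_zero Subgroup.index_ne_zero_of_finite
        interval_cases hC : C₀.index <;> omega) with h36 | h36
      · omega
      · exfalso
        haveI := Fact.mk (show Nat.Prime 7 by norm_num)
        haveI : IsCyclic B := isCyclic_of_prime_card (p := 7) (by omega)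
        have hcB' : c ∈ Subgroup.centralizer (B : Set (G ⧸ K)) := by
          have hker : commutator (G ⧸ K) ≤ Subgroup.centralizer (B : Set (G ⧸ K)) := by
            rw [_root_.commutator_def, Subgroup.commutator_le]
            intro g _ k _
            rw [Subgroup.mem_centralizer_iff]
            intro b hb
            obtain ⟨β, hβ⟩ := IsCyclic.exists_generator (α := B)
            have hpw : ∀ x : G ⧸ K, ∃ i : ℤ, ∀ z ∈ B, x * z * x⁻¹ = z ^ i := by
              intro x
              obtain ⟨i, hi⟩ := mem_zpowers_iff.mp (hβ ⟨x * β * x⁻¹, Subgroup.Normal.conj_mem inferInstance _ β.2 x⟩)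
              have hi' : (β : G ⧸ K) ^ i = x * β * x⁻¹ := by simpa using congrArg Subtype.val hi
              refine ⟨i, fun z hz => ?_⟩
              obtain ⟨j, hj⟩ := mem_zpowers_iff.mp (hβ ⟨z, hz⟩)
              have hj' : (β : G ⧸ K) ^ j = z := by simpa using congrArg Subtype.val hj
              rw [← hj', ← conj_zpow, ← hi', ← zpow_mul, ← zpow_mul, mul_comm]
            have hcommu : ∀ z ∈ B, g * (k * z * k⁻¹) * g⁻¹ = k * (g * z * g⁻¹) * k⁻¹ := by
              intro z hz
              obtain ⟨i, hi⟩ := hpw g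
              obtain ⟨j, hj⟩ := hpw k
              have hk : k * z * k⁻¹ ∈ B := Subgroup.Normal.conj_mem inferInstance z hz k
              have hg' : g * z * g⁻¹ ∈ B := Subgroup.Normal.conj_mem inferInstance z hz g
              rw [hi _ hk, hj _ hz, hj _ hg', hi _ hz, ← zpow_mul, ← zpow_mul, mul_comm]
            have hm : g⁻¹ * (k⁻¹ * b * k) * g ∈ B := by
              have h1 := Subgroup.Normal.conj_mem inferInstance b hb (g⁻¹ * k⁻¹)
              simpa [mul_assoc] using h1
            have e := hcommu _ hm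
            have e' : g * (k * (g⁻¹ * (k⁻¹ * b * k) * g) * k⁻¹) * g⁻¹ = b := by
              rw [e]; group
            rw [commutatorElement_def]
            calc b * (g * k * g⁻¹ * k⁻¹)
                = (g * (k * (g⁻¹ * (k⁻¹ * b * k) * g) * k⁻¹) * g⁻¹) * (g * k * g⁻¹ * k⁻¹) := by rw [e']
              _ = g * k * g⁻¹ * k⁻¹ * b := by group
          refine hker ?_
          rw [← derivedSeries_one, ← map_derivedSeries_eq hf 1]
          exact hcA
        exact hb₀1 (hcfix' b₀ hb₀ (Subgroup.mem_centralizer_iff.mp hcB' b₀ hb₀).symm)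
    have hp2 : p = 2 := by
      have hd : p ∣ 2 ^ 2 := by have := hp1 b₀ hb₀ hb₀1; rwa [hB4] at this
      exact (Nat.prime_dvd_prime_iff_eq hp Nat.prime_two).mp (hp.dvd_of_dvd_pow hd)
    subst hp2
    -- an involution outside A1
    have hA1card : Nat.card A1 = 12 := by
      rw [← Subgroup.relIndex_bot_left, ← Subgroup.relIndex_mul_relIndex ⊥ B A1 bot_le hBA1,
        Subgroup.relIndex_bot_left, hB4, hAcard]
    haveI := Fact.mk Nat.prime_three
    have hc1 : c ≠ 1 := fun he => hcB (he ▸ one_mem B)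
    have hco : orderOf c = 3 := orderOf_eq_prime hc3 hc1
    have hQcard : Nat.card (zpowers (⟨c, hcA⟩ : A1)) = 3 ^ (Nat.card A1).factorization 3 := by
      rw [Nat.card_zpowers, Subgroup.orderOf_mk, hco, hA1card,
        show (12 : ℕ) = 3 * 4 by norm_num, Nat.factorization_mul (by norm_num) (by norm_num),
        Finsupp.add_apply, Nat.Prime.factorization_self Nat.prime_three,
        Nat.factorization_eq_zero_of_not_dvd (by norm_num)]
      norm_num
    have hfr := Sylow.normalizer_sup_eq_top (Sylow.ofCard _ hQcard)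
    rw [Sylow.coe_ofCard, MonoidHom.map_zpowers] at hfr
    change Subgroup.normalizer ((zpowers c : Subgroup (G ⧸ K)) : Set (G ⧸ K)) ⊔ A1 = ⊤ at hfr
    obtain ⟨w, hwN, hwA⟩ : ∃ w ∈ Subgroup.normalizer ((zpowers c : Subgroup (G ⧸ K)) : Set (G ⧸ K)), w ∉ A1 := by
      by_contra hc; push Not at hc
      have : A1 = ⊤ := by rw [← hfr, sup_eq_right.mpr (fun x hx => hc x hx)]
      rw [this, Subgroup.index_top] at hA1ind
      omega
    have hNA1 : ∀ x ∈ Subgroup.normalizer ((zpowers c : Subgroup (G ⧸ K)) : Set (G ⧸ K)), x ∈ A1 → x ∈ zpowers c := by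
      intro x hx hxA
      have hxA' : (⟨x, hxA⟩ : A1) ∈ B.subgroupOf A1 ⊔ zpowers (⟨c, hcA⟩ : A1) := hgenA1.symm ▸ Subgroup.mem_top _
      obtain ⟨b, hb, z, hz, hbz⟩ := Subgroup.mem_sup_of_normal_left.mp hxA'
      have hbz' : (b : G ⧸ K) * z = x := congrArg Subtype.val hbz
      have hzc : (z : G ⧸ K) ∈ zpowers c := by
        obtain ⟨i, rfl⟩ := mem_zpowers_iff.mp hz
        exact ⟨i, by simp⟩
      have hbN : (b : G ⧸ K) ∈ Subgroup.normalizer ((zpowers c : Subgroup (G ⧸ K)) : Set (G ⧸ K)) := by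
        rw [show (b : G ⧸ K) = x * (z : G ⧸ K)⁻¹ by rw [← hbz', mul_inv_cancel_right]]
        exact mul_mem hx (inv_mem (Subgroup.le_normalizer hzc))
      have h1 : (b : G ⧸ K) * c * (b : G ⧸ K)⁻¹ * c⁻¹ ∈ zpowers c :=
        mul_mem ((Subgroup.mem_normalizer_iff.mp hbN c).mp (mem_zpowers c)) (inv_mem (mem_zpowers c))
      have h2 : (b : G ⧸ K) * c * (b : G ⧸ K)⁻¹ * c⁻¹ ∈ B := by
        rw [mul_assoc, mul_assoc, ← mul_assoc c]
        exact mul_mem (hb : (b : G ⧸ K) ∈ B) ((inferInstance : B.Normal).conj_mem _ (inv_mem (hb : (b : G ⧸ K) ∈ B)) c)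
      have hinf : zpowers c ⊓ B = ⊥ := by
        refine Subgroup.inf_eq_bot_of_coprime ?_
        rw [Nat.card_zpowers, hco, hB4]; norm_num
      have h3 : (b : G ⧸ K) * c * (b : G ⧸ K)⁻¹ * c⁻¹ = 1 := by
        rw [← Subgroup.mem_bot, ← hinf]; exact ⟨h1, h2⟩
      have hb1 : (b : G ⧸ K) = 1 := hcfix' _ hb (by
        show c * b = b * c
        calc c * b = ((b : G ⧸ K) * c * (b : G ⧸ K)⁻¹ * c⁻¹) * (c * b) := by rw [h3, one_mul]
          _ = b * c := by group)
      rwa [← hbz', hb1, one_mul]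
    have hw2 : w ^ 2 ∈ zpowers c := hNA1 _ (pow_mem hwN 2) (Subgroup.sq_mem_of_index_two hA1ind w)
    set v := w ^ 3 with hv
    have hvA : v ∉ A1 := fun hh => hwA (by
      rw [show w = w ^ 3 * (w ^ 2)⁻¹ by group]
      exact mul_mem hh (inv_mem (Subgroup.sq_mem_of_index_two hA1ind w)))
    have hv2 : v ^ 2 = 1 := by
      rw [hv, ← pow_mul, mul_comm, pow_mul]
      obtain ⟨i, hi⟩ := mem_zpowers_iff.mp hw2
      rw [← hi, ← zpow_natCast, ← zpow_mul, mul_comm, zpow_mul, zpow_natCast, hc3, one_zpow]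
    have hv1 : v ≠ 1 := fun he => hvA (he ▸ one_mem A1)
    haveI := Fact.mk Nat.prime_two
    have hcj := conj_eq_of_orderOf_prime h f hf Nat.prime_two b₀ v hb₀o (orderOf_eq_prime hv2 hv1)
    obtain ⟨g, hg⟩ := isConj_iff.mp hcj
    exact hvA (hg ▸ hBA1 (Subgroup.Normal.conj_mem inferInstance b₀ hb₀ g))
  -- G ≅ S₃
  have hker : f2.ker = ⊥ := by rw [QuotientGroup.ker_mk', hD2bot]
  have e2 : G ≃* (G ⧸ D2) := MulEquiv.ofBijective f2 ⟨(MonoidHom.ker_eq_bot_iff _).mp hker, hf2⟩
  have hH6 : Nat.card (G ⧸ D2) = 6 := by rw [← Subgroup.card_mul_index A, hA3, hAind]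
  let Y := zpowers y
  have hY2 : Nat.card Y = 2 := by
    haveI := Fact.mk Nat.prime_two
    rw [Nat.card_zpowers]
    exact orderOf_eq_prime (by rw [sq, hy2]) (fun he => hy (he ▸ one_mem A))
  have hYind : Nat.card ((G ⧸ D2) ⧸ Y) = 3 := by
    have := Y.card_mul_index
    rw [hY2, hH6, Subgroup.index_eq_card] at this
    omega
  let act := MulAction.toPermHom (G ⧸ D2) ((G ⧸ D2) ⧸ Y)
  have hinj : Function.Injective act := by
    rw [← MonoidHom.ker_eq_bot_iff, ← Subgroup.normalCore_eq_ker, Subgroup.eq_bot_iff_forall]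
    intro z hz
    have hzY : z ∈ Y := Y.normalCore_le hz
    obtain ⟨a, ha, ha1⟩ := (Subgroup.bot_or_exists_ne_one A).resolve_left hAne
    have h1 : a * z * a⁻¹ ∈ Y := Y.normalCore_le (Subgroup.Normal.conj_mem inferInstance z hz a)
    obtain ⟨n, hn⟩ := mem_zpowers_iff.mp hzY
    by_contra hz1
    have hzy : ∀ u ∈ Y, u ≠ 1 → u = y := by
      intro u hu hu1
      have hc2 := (Nat.card_eq_two_iff' (1 : Y)).mp hY2
      have hy1 : y ≠ 1 := fun he => hy (he ▸ one_mem A)
      exact congrArg Subtype.val (hc2.unique (y₁ := ⟨u, hu⟩) (y₂ := ⟨y, mem_zpowers y⟩)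
        (fun he => hu1 (congrArg Subtype.val he)) (fun he => hy1 (congrArg Subtype.val he)))
    rw [hzy z hzY hz1] at h1
    have h2 : a * y * a⁻¹ = y := hzy _ h1 fun he => hz1 (by
      have : y = 1 := by
        rw [mul_inv_eq_one, mul_eq_left] at he; exact he
      rw [hzy z hzY hz1, this])
    exact ha1 (hfix a ha (by rw [mul_inv_eq_iff_eq_mul] at h2; exact h2.symm))
  have hbij : Function.Bijective act := by
    rw [Nat.bijective_iff_injective_and_card]
    refine ⟨hinj, ?_⟩
    rw [Nat.card_perm, hYind, hH6]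
    rfl
  exact ⟨e2.trans ((MulEquiv.ofBijective act hbij).trans (Finite.equivFinOfCardEq hYind).permCongrHom)⟩

end Cfsg.Agent.S4062
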