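import Cfsg.Statements.S4064
import Cfsg.Agent.Lib.Involutions.TICent.Solvable
import Cfsg.Agent.Lib.Involutions.TICent.Zassenhaus

set_option autoImplicit false
open Cfsg

namespace Cfsg.Agent.S4064

/-- Let G be a finite group in which the centralizer of every element meets each of its conjugates by elements outside its normalizer trivially. Then G is nilpotent; or G is a Frobenius group with a complement that is cyclic or isomorphic to the direct product of a cyclic group of odd order and the quaternion group of order 8; or G is isomorphic to PSL₂(2ⁿ) for some n ≥ 2. -/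
theorem result {G : Type*} [Group G] [Finite G] (hTI : ∀ x : G, Cfsg.IsTISubset (Subgroup.centralizer ({x} : Set G) : Set G)) :
    Group.IsNilpotent G ∨
    (∃ H : Subgroup G, Cfsg.IsFrobeniusComplement H ∧
      (IsCyclic H ∨ ∃ m : ℕ, Odd m ∧ Nonempty (H ≃* Multiplicative (ZMod m) × QuaternionGroup 2))) ∨
    (∃ n : ℕ, 2 ≤ n ∧ Nonempty (G ≃* Matrix.ProjectiveSpecialLinearGroup (Fin 2) (GaloisField 2 n))) := by
  by_cases hn : Group.IsNilpotent G
  · exact Or.inl hn
  refine Or.inr ?_
  by_cases hs : Group.IsSolvable G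
  · haveI := hs
    exact Or.inl (CfsgLib.Involutions.TICent.solvable_case hTI hn)
  obtain ⟨T, hT⟩ := CfsgLib.Involutions.TICent.exists_elemAbCent hTI hs
  obtain ⟨k, hk, -, hiso⟩ := hT.exists_iso_PSL
  have h4 := hT.four_le_card
  rw [hk] at h4
  exact Or.inr ⟨k, (Nat.pow_le_pow_iff_right (show 1 < 2 by norm_num)).1
    (show 2 ^ 2 ≤ 2 ^ k from h4), hiso⟩

end Cfsg.Agent.S4064
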