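import Cfsg.Statements.S4065
import Cfsg.Agent.Lib.Involutions.SLTwoSylow

set_option autoImplicit false
open Cfsg

namespace Cfsg.Agent.S4065

open CfsgLib.GLTwo CfsgLib.Involutions.SLTwoTori

/-- Let F be a finite field with 2ⁿ elements, n ≥ 2. In PSL₂(F) the centralizer of every element meets each of its conjugates by elements outside its normalizer trivially. -/
theorem result (n : ℕ) (hn : 2 ≤ n)
    (x : Matrix.ProjectiveSpecialLinearGroup (Fin 2) (GaloisField 2 n)) :
    Cfsg.IsTISubset (Subgroup.centralizer ({x} : Set (Matrix.ProjectiveSpecialLinearGroup (Fin 2) (GaloisField 2 n))) :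
      Set (Matrix.ProjectiveSpecialLinearGroup (Fin 2) (GaloisField 2 n))) := by
  classical
  haveI : Fintype (GaloisField 2 n) := Fintype.ofFinite _
  have hsc : ∀ g : Matrix.SpecialLinearGroup (Fin 2) (GaloisField 2 n), IsScalar2 (g : Matrix (Fin 2) (Fin 2) (GaloisField 2 n)) → g = 1 := fun g hg => by
    rcases scalar_eq hg with h | h
    · exact h
    · rw [h]
      apply Subtype.ext
      rw [Matrix.SpecialLinearGroup.coe_neg, Matrix.SpecialLinearGroup.coe_one]
      ext i j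
      simp [CharTwo.neg_eq]
  have hinj : Function.Injective (CfsgLib.KnownB.SL2Products.pr (F := GaloisField 2 n)) :=
    (injective_iff_map_eq_one _).2 fun g hg => hsc g (CfsgLib.KnownB.SL2Products.pr_eq_one_iff.1 hg)
  intro g hg y hy hgy
  by_contra hy1
  apply hg
  obtain ⟨x₀, rfl⟩ := CfsgLib.KnownB.SL2Products.pr_surjective x
  obtain ⟨g₀, rfl⟩ := CfsgLib.KnownB.SL2Products.pr_surjective g
  obtain ⟨y₀, rfl⟩ := CfsgLib.KnownB.SL2Products.pr_surjective y
  have hmem : ∀ z, CfsgLib.KnownB.SL2Products.pr z ∈ Subgroup.centralizer ({CfsgLib.KnownB.SL2Products.pr x₀} : Set (Matrix.ProjectiveSpecialLinearGroup (Fin 2) (GaloisField 2 n))) ↔ z ∈ Subgroup.centralizer ({x₀} : Set _) := fun z => by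
    simp only [Subgroup.mem_centralizer_singleton_iff, ← map_mul, hinj.eq_iff]
  rw [SetLike.mem_coe, hmem] at hy
  rw [SetLike.mem_coe, ← map_inv, ← map_mul, ← map_mul, hmem] at hgy
  by_cases hx : IsScalar2 (x₀ : Matrix (Fin 2) (Fin 2) (GaloisField 2 n))
  · rw [hsc _ hx, map_one, Subgroup.centralizer_eq_top_iff_subset.2 (by simp), Subgroup.normalizer_eq_top]
    trivial
  have hyn : ¬ IsScalar2 (y₀ : Matrix (Fin 2) (Fin 2) (GaloisField 2 n)) := fun h => hy1 (by rw [hsc _ h, map_one])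
  have hgyn : ¬ IsScalar2 ((g₀ * y₀ * g₀⁻¹ : Matrix.SpecialLinearGroup (Fin 2) (GaloisField 2 n)) : Matrix (Fin 2) (Fin 2) (GaloisField 2 n)) := fun h => hyn (by
    have h1 := hsc _ h
    rw [mul_inv_eq_one, mul_eq_left] at h1
    rw [h1]; simp [IsScalar2])
  have e1 := centralizer_eq_of_mem hx hy hyn
  have e2 := centralizer_eq_of_mem hx hgy hgyn
  rw [Subgroup.mem_normalizer_iff]
  intro z
  obtain ⟨z₀, rfl⟩ := CfsgLib.KnownB.SL2Products.pr_surjective z
  rw [← map_inv, ← map_mul, ← map_mul, hmem, hmem]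
  calc z₀ ∈ Subgroup.centralizer ({x₀} : Set _) ↔ Commute z₀ y₀ := by rw [← e1, Subgroup.mem_centralizer_singleton_iff]; rfl
    _ ↔ Commute (g₀ * z₀ * g₀⁻¹) (g₀ * y₀ * g₀⁻¹) := (Commute.conj_iff g₀).symm
    _ ↔ _ := by rw [← e2, Subgroup.mem_centralizer_singleton_iff]; rfl

end Cfsg.Agent.S4065
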