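import Cfsg.Statements.S4066
import Mathlib
import Cfsg.Agent.Lib.Involutions.BaerSuzuki

set_option autoImplicit false
open Cfsg

namespace Cfsg.Agent.S4066

open scoped Pointwise

/-- If `z ≠ 1` the centralizer of `z` normalizes the centralizer of each of its elements. -/
theorem le_normalizer_of_mem {G : Type*} [Group G]
    (hTI : ∀ x : G, Cfsg.IsTISubset (Subgroup.centralizer ({x} : Set G) : Set G))
    {z y : G} (hz : z ≠ 1) (hy : y ∈ Subgroup.centralizer ({z} : Set G)) :
    Subgroup.centralizer ({z} : Set G) ≤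
      Subgroup.normalizer ((Subgroup.centralizer ({y} : Set G) : Subgroup G) : Set G) := by
  intro g hg
  by_contra hgN
  have h1 : g * z * g⁻¹ = z := mul_inv_eq_iff_eq_mul.mpr (Subgroup.mem_centralizer_singleton_iff.mp hg)
  have hzy : z ∈ Subgroup.centralizer ({y} : Set G) :=
    Subgroup.mem_centralizer_singleton_iff.mpr (Subgroup.mem_centralizer_singleton_iff.mp hy).symm
  exact hz (hTI y g hgN z hzy (by rw [h1]; exact hzy))

/-- The `p`-elements of a centralizer form a subgroup. -/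
theorem exists_core {G : Type*} [Group G] [Finite G]
    (hTI : ∀ x : G, Cfsg.IsTISubset (Subgroup.centralizer ({x} : Set G) : Set G))
    (p : ℕ) [Fact p.Prime] {z : G} (hz : z ≠ 1) :
    ∃ R : Subgroup G, IsPGroup p R ∧ R ≤ Subgroup.centralizer ({z} : Set G) ∧
      (∀ y ∈ Subgroup.centralizer ({z} : Set G), (∃ k, orderOf y = p ^ k) → y ∈ R) ∧
      Subgroup.normalizer ((Subgroup.centralizer ({z} : Set G) : Subgroup G) : Set G) ≤
        Subgroup.normalizer (R : Set G) := by
  set C := Subgroup.centralizer ({z} : Set G) with hC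
  obtain ⟨S⟩ : Nonempty (Sylow p C) := inferInstance
  have hall : ∀ y : C, (∃ k, orderOf y = p ^ k) → y ∈ (S : Subgroup C) := by
    intro y hy
    obtain ⟨N, hN, hNp, hle⟩ := CfsgLib.Involutions.baerSuzuki (p := p) (Subgroup.zpowers y) (by
      intro g
      rw [MonoidHom.map_zpowers]
      obtain ⟨k, hk⟩ := hy
      have hp1 : IsPGroup p (Subgroup.zpowers y) := IsPGroup.of_card (n := k) (by rw [Nat.card_zpowers, hk])
      have hp2 : IsPGroup p (Subgroup.zpowers ((MulAut.conj g).toMonoidHom y)) :=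
        IsPGroup.of_card (n := k) (by rw [Nat.card_zpowers]; exact ((MulAut.conj g).orderOf_eq y).trans hk)
      refine hp1.to_sup_of_normal_right' hp2 ?_
      rw [Subgroup.zpowers_le, Subgroup.mem_normalizer_iff_map_conj_eq, MonoidHom.map_zpowers]
      congr 1
      simp only [MonoidHom.coe_coe, MulAut.conj_apply, MulEquiv.coe_toMonoidHom]
      -- `y` commutes with its conjugate
      have hg := le_normalizer_of_mem hTI hz y.2 g.2
      have h1 : (g : G) * y * (g : G)⁻¹ ∈ Subgroup.centralizer ({(y : G)} : Set G) :=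
        (Subgroup.mem_normalizer_iff.mp hg _).mp (Subgroup.mem_centralizer_singleton_iff.mpr rfl)
      have h2 : y * (g * y * g⁻¹) = g * y * g⁻¹ * y :=
        Subtype.ext (Subgroup.mem_centralizer_singleton_iff.mp h1).symm
      rw [h2, mul_inv_cancel_right])
    obtain ⟨T, hT⟩ := hNp.exists_le_sylow
    obtain ⟨c, hc⟩ := MulAction.exists_smul_eq C T S
    rw [← hc, Sylow.coe_subgroup_smul, Subgroup.mem_pointwise_smul_iff_inv_smul_mem]
    refine hT ?_
    simp only [MulAut.smul_def, ← map_inv, MulAut.conj_apply]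
    exact hN.conj_mem _ (hle (Subgroup.mem_zpowers y)) _
  refine ⟨(S : Subgroup C).map C.subtype, S.isPGroup'.map _, Subgroup.map_subtype_le _, ?_, ?_⟩
  · rintro y hy ⟨k, hk⟩
    exact ⟨⟨y, hy⟩, hall ⟨y, hy⟩ ⟨k, by rwa [Subgroup.orderOf_mk]⟩, rfl⟩
  · intro g hg
    rw [Subgroup.mem_normalizer_iff_map_conj_eq]
    refine Subgroup.eq_of_le_of_card_ge ?_
      (le_of_eq (Subgroup.card_map_of_injective (MulAut.conj g).injective).symm)
    rintro _ ⟨_, ⟨y, hy, rfl⟩, rfl⟩
    have h1 : g * (y : G) * g⁻¹ ∈ C := (Subgroup.mem_normalizer_iff.mp hg _).mp y.2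
    obtain ⟨k, hk⟩ := IsPGroup.iff_orderOf.mp S.isPGroup' ⟨y, hy⟩
    rw [Subgroup.orderOf_mk, ← Subgroup.orderOf_coe] at hk
    exact ⟨⟨_, h1⟩, hall ⟨_, h1⟩ ⟨k, by
      rw [Subgroup.orderOf_mk, ← MulAut.conj_apply, MulEquiv.orderOf_eq, hk]⟩, rfl⟩

/-- Let G be a finite group in which the centralizer of every element meets each of its conjugates by elements outside its normalizer trivially. Then any two distinct Sylow p-subgroups of G, for any prime p, intersect trivially. -/
theorem result {G : Type*} [Group G] [Finite G] (hTI : ∀ x : G, Cfsg.IsTISubset (Subgroup.centralizer ({x} : Set G) : Set G))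
    {p : ℕ} [Fact p.Prime] (P Q : Sylow p G) (hPQ : P ≠ Q) : (P : Subgroup G) ⊓ (Q : Subgroup G) = ⊥ := by
  classical
  rw [Subgroup.eq_bot_iff_forall]
  rintro w ⟨hwP, hwQ⟩
  by_contra hw
  apply hPQ
  have hcentre : ∀ S : Sylow p G, w ∈ (S : Subgroup G) →
      ∃ z ∈ (S : Subgroup G), z ≠ 1 ∧ (S : Subgroup G) ≤ Subgroup.centralizer ({z} : Set G) := by
    intro S hwS
    have : Nontrivial (S : Subgroup G) := (Subgroup.nontrivial_iff_exists_ne_one _).mpr ⟨w, hwS, hw⟩
    have := S.isPGroup'.center_nontrivial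
    obtain ⟨z, hz⟩ := exists_ne (1 : Subgroup.center (S : Subgroup G))
    refine ⟨z.1.1, z.1.2, fun h => hz (Subtype.ext (Subtype.ext h)), fun s hs => ?_⟩
    exact Subgroup.mem_centralizer_singleton_iff.mpr
      (congrArg Subtype.val (Subgroup.mem_center_iff.mp z.2 ⟨s, hs⟩))
  obtain ⟨z, hzP, hz1, hPz⟩ := hcentre P hwP
  obtain ⟨z', hzQ, hz'1, hQz⟩ := hcentre Q hwQ
  obtain ⟨R, hR, -, hRmem, hRN⟩ := exists_core hTI p hw
  -- `R` lies in both Sylow subgroups
  have key : ∀ (S : Sylow p G) (u : G), u ≠ 1 → (S : Subgroup G) ≤ Subgroup.centralizer ({u} : Set G) →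
      w ∈ (S : Subgroup G) → R ≤ (S : Subgroup G) := by
    intro S u hu hSu hwS
    have h1 : (S : Subgroup G) ≤ Subgroup.normalizer (R : Set G) :=
      hSu.trans ((le_normalizer_of_mem hTI hu (hSu hwS)).trans hRN)
    have h2 := S.is_maximal' (S.isPGroup'.to_sup_of_normal_right' hR h1) le_sup_left
    exact h2 ▸ le_sup_right
  have hpel : ∀ (S : Sylow p G) (u : G), u ∈ (S : Subgroup G) → ∃ k, orderOf u = p ^ k := by
    intro S u hu
    obtain ⟨k, hk⟩ := IsPGroup.iff_orderOf.mp S.isPGroup' ⟨u, hu⟩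
    exact ⟨k, by rwa [Subgroup.orderOf_mk] at hk⟩
  have hz'R : z' ∈ R := hRmem z' (Subgroup.mem_centralizer_singleton_iff.mpr
    (Subgroup.mem_centralizer_singleton_iff.mp (hQz hwQ)).symm) (hpel Q z' hzQ)
  have hzz' : z' ∈ Subgroup.centralizer ({z} : Set G) := hPz (key P z hz1 hPz hwP hz'R)
  have hzz'' : z ∈ Subgroup.centralizer ({z'} : Set G) :=
    Subgroup.mem_centralizer_singleton_iff.mpr (Subgroup.mem_centralizer_singleton_iff.mp hzz').symm
  obtain ⟨K, hK, -, hKmem, hKN⟩ := exists_core hTI p hz1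
  have hPK : (P : Subgroup G) ≤ K := fun u hu => hKmem u (hPz hu) (hpel P u hu)
  have hKP : K = (P : Subgroup G) := P.is_maximal' hK hPK
  have hQN : (Q : Subgroup G) ≤ Subgroup.normalizer (K : Set G) :=
    hQz.trans ((le_normalizer_of_mem hTI hz'1 hzz'').trans hKN)
  have hsup := Q.is_maximal' (Q.isPGroup'.to_sup_of_normal_right' hK hQN) le_sup_left
  have hle : (P : Subgroup G) ≤ (Q : Subgroup G) := hKP ▸ hsup ▸ le_sup_right
  exact Sylow.ext (P.is_maximal' Q.isPGroup' hle).symm

end Cfsg.Agent.S4066
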