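import Cfsg.Statements.S4071
import Mathlib


set_option autoImplicit false
set_option linter.style.haveILetI false
open Cfsg

namespace Cfsg.Agent.S4071

open Subgroup
open scoped commutatorElement

universe u
variable {G : Type u} [Group G] [Finite G]

theorem exists_normal_prime_index [Group.IsSolvable G] [Nontrivial G] :
    ∃ (M : Subgroup G) (p : ℕ), p.Prime ∧ M.Normal ∧ M.index = p := by
  have hlt : commutator G < ⊤ := Group.IsSolvable.commutator_lt_top_of_nontrivial G
  obtain ⟨M, hM, hle⟩ := (eq_top_or_exists_le_coatom (commutator G)).resolve_left hlt.ne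
  haveI hMn : M.Normal := ⟨fun m hm g => by
    have h : g * m * g⁻¹ * m⁻¹ ∈ M := hle (commutator_mem_commutator (mem_top g) (mem_top m))
    simpa using mul_mem h hm⟩
  have h1 : Nat.card (G ⧸ M) ≠ 1 := fun h => hM.1 (index_eq_one.mp h)
  obtain ⟨p, hp, hd⟩ := Nat.exists_prime_and_dvd h1
  haveI := Fact.mk hp
  obtain ⟨y, hy⟩ := exists_prime_orderOf_dvd_card' p hd
  refine ⟨M, p, hp, hMn, ?_⟩
  have hlt' : M < (zpowers y).comap (QuotientGroup.mk' M) := by
    refine lt_of_le_of_ne (fun m hm => ?_) fun e => ?_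
    · rw [mem_comap, show QuotientGroup.mk' M m = 1 from (QuotientGroup.eq_one_iff m).mpr hm]
      exact one_mem _
    · obtain ⟨g, rfl⟩ := QuotientGroup.mk'_surjective M y
      have hg : g ∈ (zpowers (QuotientGroup.mk' M g)).comap (QuotientGroup.mk' M) := mem_zpowers _
      rw [← e] at hg
      rw [show QuotientGroup.mk' M g = 1 from (QuotientGroup.eq_one_iff g).mpr hg, orderOf_one] at hy
      exact hp.ne_one hy.symm
  have h2 := congrArg Subgroup.index (hM.2 _ hlt')
  rw [index_comap_of_surjective _ (QuotientGroup.mk'_surjective M), index_top, index_eq_one] at h2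
  rw [index_eq_card, ← hy, ← Nat.card_zpowers, h2, card_top]

/-- The conjugation endomorphism `a ↦ a x a⁻¹ x⁻¹` of an abelian normal subgroup. -/
def cmap (x : G) (A : Subgroup G) [A.Normal] [IsMulCommutative A] : A →* A :=
  MonoidHom.mk' (fun a => a * (MulAut.conjNormal x a)⁻¹) fun a b => by
    have hc : ∀ u v : A, u * v = v * u := fun u v => IsMulCommutative.is_comm.comm u v
    rw [map_mul, mul_inv_rev, hc (MulAut.conjNormal x b)⁻¹, mul_assoc, mul_assoc, ← mul_assoc b,
      hc b, mul_assoc]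

theorem cmap_coe (x : G) (A : Subgroup G) [A.Normal] [IsMulCommutative A] (a : A) :
    (cmap x A a : G) = a * (x * (a : G)⁻¹ * x⁻¹) := by
  show (a : G) * ((MulAut.conjNormal x a : A) : G)⁻¹ = _
  rw [MulAut.conjNormal_apply]; group

theorem cmap_eq_one_iff (x : G) (A : Subgroup G) [A.Normal] [IsMulCommutative A] (a : A) :
    cmap x A a = 1 ↔ x * a * x⁻¹ = (a : G) := by
  rw [← Subtype.coe_inj, cmap_coe, OneMemClass.coe_one, mul_eq_one_iff_eq_inv]
  constructor
  · intro h
    calc x * (a : G) * x⁻¹ = (x * (a : G)⁻¹ * x⁻¹)⁻¹ := by group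
      _ = a := h.symm
  · intro h
    calc (a : G) = x * (a : G) * x⁻¹ := h.symm
      _ = _ := by group

theorem backward {x : G} {A : Subgroup G} {p : ℕ} (hp : p.Prime) [A.Normal] [IsMulCommutative A]
    (hx : ∃ k : ℕ, orderOf x = p ^ k) (hc : (zpowers x).IsComplement' A) (hxp : x ^ p ∈ center G)
    (hfpf : ∀ a : G, a ∈ A → a ≠ 1 → x * a * x⁻¹ ≠ a) (H : Subgroup G) (hH : ¬ IsMulCommutative H) :
    normalizer (H : Set G) = H := by
  obtain ⟨k, hk⟩ := hx
  set M := A ⊔ zpowers (x ^ p) with hM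
  have hMc : IsMulCommutative M := by
    have hcen : ∀ c ∈ zpowers (x ^ p), c ∈ center G := fun c hc' => (zpowers_le.mpr hxp) hc'
    refine ⟨⟨fun u v => Subtype.ext ?_⟩⟩
    obtain ⟨a, ha, c, hc1, hu⟩ := mem_sup_of_normal_left.mp u.2
    obtain ⟨b, hb, d, hd1, hv⟩ := mem_sup_of_normal_left.mp v.2
    have hab : a * b = b * a := congrArg Subtype.val (IsMulCommutative.is_comm.comm (⟨a, ha⟩ : A) ⟨b, hb⟩)
    show (u : G) * v = v * u
    rw [← hu, ← hv]
    have h1 := mem_center_iff.mp (hcen c hc1)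
    have h2 := mem_center_iff.mp (hcen d hd1)
    calc a * c * (b * d) = a * (c * b) * d := by simp only [mul_assoc]
      _ = a * (b * c) * d := by rw [h1 b]
      _ = (a * b) * (c * d) := by simp only [mul_assoc]
      _ = b * a * (d * c) := by rw [hab, h2 c]
      _ = b * (a * d) * c := by simp only [mul_assoc]
      _ = b * (d * a) * c := by rw [h2 a]
      _ = b * d * (a * c) := by simp only [mul_assoc]
  obtain ⟨h, hhH, hhM⟩ : ∃ h ∈ H, h ∉ M := by
    by_contra hcon
    push Not at hcon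
    exact hH ⟨⟨fun u v => Subtype.ext (show (u : G) * v = v * u from
      (congrArg Subtype.val (IsMulCommutative.is_comm.comm (⟨u, hcon u u.2⟩ : M) ⟨v, hcon v v.2⟩) :))⟩⟩
  obtain ⟨⟨⟨_, ⟨j, rfl⟩⟩, a⟩, hja⟩ := hc.2 h
  simp only at hja
  have hjp : ¬ (p : ℤ) ∣ j := by
    rintro ⟨i, rfl⟩
    refine hhM (hja ▸ mul_mem (mem_sup_right ⟨i, ?_⟩) (mem_sup_left a.2))
    show (x ^ p) ^ i = x ^ ((p : ℤ) * i)
    rw [zpow_mul, zpow_natCast]
  have hxj : x ∈ zpowers (x ^ j) := by
    have hco : IsCoprime j ((orderOf x : ℕ) : ℤ) := by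
      rw [hk, Nat.cast_pow]
      exact (((Nat.prime_iff_prime_int.mp hp).coprime_iff_not_dvd.mpr hjp).symm).pow_right
    obtain ⟨r, s, hrs⟩ := hco
    refine ⟨r, ?_⟩
    show (x ^ j) ^ r = x
    calc (x ^ j) ^ r = x ^ (r * j) * (x ^ (orderOf x : ℤ)) ^ s := by
          rw [zpow_natCast, pow_orderOf_eq_one, one_zpow, mul_one, ← zpow_mul, mul_comm]
      _ = x := by rw [← zpow_mul, ← zpow_add, mul_comm _ s, hrs, zpow_one]
  have hfix : ∀ c : G, c ∈ A → x ^ j * c * (x ^ j)⁻¹ = c → c = 1 := by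
    intro c hcA he
    by_contra hc1
    refine hfpf c hcA hc1 ?_
    obtain ⟨r, hr⟩ := hxj
    have h1 : Commute c (x ^ j) := ((mul_inv_eq_iff_eq_mul.mp he : Commute (x ^ j) c)).symm
    have h2 : Commute c x := by rw [← hr]; exact h1.zpow_right r
    rw [h2.symm.eq, mul_inv_cancel_right]
  have hinj : Function.Injective (cmap (x ^ j) A) := (injective_iff_map_eq_one _).mpr fun c hc' =>
    Subtype.ext (hfix c c.2 ((cmap_eq_one_iff _ _ c).mp hc'))
  -- conjugate so that `x` lies in the subgroup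
  obtain ⟨b, hb⟩ := (Finite.injective_iff_surjective.mp hinj)
    ⟨x ^ j * a * (x ^ j)⁻¹, (inferInstance : A.Normal).conj_mem a a.2 _⟩
  have hconj : (b : G) * x ^ j * (b : G)⁻¹ = h := by
    have h1 := congrArg Subtype.val hb
    rw [cmap_coe] at h1
    simp only at h1
    calc (b : G) * x ^ j * (b : G)⁻¹ = (b : G) * (x ^ j * (b : G)⁻¹ * (x ^ j)⁻¹) * x ^ j := by group
      _ = x ^ j * a * (x ^ j)⁻¹ * x ^ j := by rw [h1]
      _ = h := by rw [← hja]; group
  set σ := MulAut.conj (b : G) with hσ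
  have hxH : σ x ∈ H := by
    have hle : (zpowers (x ^ j)).map σ.toMonoidHom ≤ H := by
      rw [MonoidHom.map_zpowers, zpowers_le]
      show (b : G) * x ^ j * (b : G)⁻¹ ∈ H
      rw [hconj]; exact hhH
    exact hle (mem_map_of_mem _ hxj)
  refine le_antisymm (fun g hg => ?_) le_normalizer
  -- write `g` as the conjugate of `x ^ i * c`
  obtain ⟨⟨⟨_, ⟨i, rfl⟩⟩, c⟩, hic⟩ := hc.2 (σ⁻¹ g)
  simp only at hic
  have hg' : g = σ x ^ i * σ (c : G) := by
    rw [← map_zpow, ← map_mul, hic, ← MulAut.mul_apply, mul_inv_cancel, MulAut.one_apply]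
  have hcN : σ (c : G) ∈ normalizer (H : Set G) := by
    have : σ (c : G) = (σ x ^ i)⁻¹ * g := by rw [hg', inv_mul_cancel_left]
    rw [this]
    exact mul_mem (inv_mem (le_normalizer (zpow_mem hxH i))) hg
  have hD : (cmap x A c : G) ∈ A ⊓ H.comap σ.toMonoidHom := by
    refine ⟨(cmap x A c).2, ?_⟩
    show σ (cmap x A c : G) ∈ H
    rw [cmap_coe, show (c : G) * (x * (c : G)⁻¹ * x⁻¹) = (c : G) * x * (c : G)⁻¹ * x⁻¹ by group, map_mul,
      map_inv]
    refine mul_mem ?_ (inv_mem hxH)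
    rw [map_mul, map_mul, map_inv]
    exact (mem_normalizer_iff.mp hcN _).mp hxH
  set D : Subgroup A := (H.comap σ.toMonoidHom).subgroupOf A with hDdef
  have hmaps : ∀ d ∈ D, cmap x A d ∈ D := by
    intro d hd
    rw [hDdef, mem_subgroupOf, cmap_coe, mem_comap] at *
    show σ ((d : G) * (x * (d : G)⁻¹ * x⁻¹)) ∈ H
    rw [map_mul, map_mul, map_mul, map_inv, map_inv]
    exact mul_mem hd (mul_mem (mul_mem hxH (inv_mem hd)) (inv_mem hxH))
  have hinjx : Function.Injective (cmap x A) := (injective_iff_map_eq_one _).mpr fun d hd =>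
    Subtype.ext (by_contra fun hd1 => hfpf d d.2 hd1 ((cmap_eq_one_iff _ _ d).mp hd))
  let fD : D → D := fun d => ⟨cmap x A d, hmaps d d.2⟩
  have hfD : Function.Injective fD := fun u v huv =>
    Subtype.ext (hinjx (congrArg Subtype.val huv : cmap x A u = cmap x A v))
  obtain ⟨d, hd⟩ := (Finite.injective_iff_surjective.mp hfD) ⟨cmap x A c, mem_subgroupOf.mpr hD.2⟩
  have hcD : c ∈ D := by
    have := hinjx (congrArg Subtype.val hd)
    exact this ▸ d.2
  rw [hg']
  exact mul_mem (zpow_mem hxH i) (mem_subgroupOf.mp hcD)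

theorem forward [Group.IsSolvable G] (hnn : ¬ Group.IsNilpotent G)
    (h : ∀ H : Subgroup G, ¬ IsMulCommutative H → normalizer (H : Set G) = H) :
    ∃ (x : G) (A : Subgroup G) (p : ℕ), p.Prime ∧ A.Normal ∧ IsMulCommutative A ∧ (∃ k : ℕ, orderOf x = p ^ k) ∧
      ¬ p ∣ Nat.card A ∧ (zpowers x).IsComplement' A ∧ x ^ p ∈ center G ∧
      ∀ a : G, a ∈ A → a ≠ 1 → x * a * x⁻¹ ≠ a := by
  haveI : Nontrivial G := by
    by_contra hc
    rw [not_nontrivial_iff_subsingleton] at hc
    exact hnn inferInstance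
  have hab : ∀ N : Subgroup G, N.Normal → N ≠ ⊤ → IsMulCommutative N := fun N hN hne => by
    by_contra hc
    exact hne ((h N hc).symm.trans (normalizer_eq_top_iff.mpr hN))
  obtain ⟨M, p, hp, hMn, hMi⟩ := exists_normal_prime_index (G := G)
  haveI := hMn
  haveI := Fact.mk hp
  have hMc : IsMulCommutative M := hab M hMn fun e => hp.ne_one (by rw [← hMi, e, index_top])
  have hcomm : ∀ u ∈ M, ∀ v ∈ M, Commute u v := fun u hu v hv =>
    congrArg Subtype.val (hMc.is_comm.comm ⟨u, hu⟩ ⟨v, hv⟩)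
  obtain ⟨P⟩ : Nonempty (Sylow p G) := inferInstance
  obtain ⟨x, hxP, hxM⟩ : ∃ x ∈ (P : Subgroup G), x ∉ M := by
    by_contra hc
    push Not at hc
    have hd := index_dvd_of_le (show (P : Subgroup G) ≤ M from hc)
    rw [hMi] at hd
    exact P.not_dvd_index hd
  obtain ⟨k, hk⟩ : ∃ k, orderOf x = p ^ k := by
    obtain ⟨k, hk⟩ := IsPGroup.iff_orderOf.mp P.isPGroup' ⟨x, hxP⟩
    exact ⟨k, by rwa [Subgroup.orderOf_mk] at hk⟩
  have hxpM : x ^ p ∈ M := by
    have h1 : (QuotientGroup.mk' M x) ^ M.index = 1 := by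
      rw [index_eq_card]; exact pow_card_eq_one'
    rw [hMi, ← map_pow] at h1
    exact (QuotientGroup.eq_one_iff _).mp h1
  have hgen : zpowers x ⊔ M = ⊤ := by
    have h1 := relIndex_mul_index (le_sup_right : M ≤ zpowers x ⊔ M)
    rw [hMi] at h1
    rcases Nat.prime_mul_iff.mp (h1 ▸ hp) with ⟨_, h2⟩ | ⟨_, h2⟩
    · exact index_eq_one.mp h2
    · exact absurd (relIndex_eq_one.mp h2 (mem_sup_left (mem_zpowers x))) hxM
  let B : Subgroup G :=
    { carrier := {m | m ∈ M ∧ (orderOf m).Coprime p}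
      one_mem' := ⟨one_mem M, by rw [orderOf_one]; exact Nat.coprime_one_left p⟩
      mul_mem' := fun {u v} hu hv => ⟨mul_mem hu.1 hv.1,
        Nat.Coprime.coprime_dvd_left (hcomm u hu.1 v hv.1).orderOf_mul_dvd_mul_orderOf (hu.2.mul_left hv.2)⟩
      inv_mem' := fun {u} hu => ⟨inv_mem hu.1, by rw [orderOf_inv]; exact hu.2⟩ }
  haveI hBn : B.Normal := ⟨fun m hm g => ⟨hMn.conj_mem m hm.1 g, by
    rw [← MulAut.conj_apply, MulEquiv.orderOf_eq]; exact hm.2⟩⟩
  haveI hBc : IsMulCommutative B := ⟨⟨fun u v => Subtype.ext (hcomm u u.2.1 v v.2.1)⟩⟩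
  have hBp : ¬ p ∣ Nat.card B := fun hd => by
    obtain ⟨u, hu⟩ := exists_prime_orderOf_dvd_card' p hd
    have h1 := u.2.2
    rw [Subgroup.orderOf_coe, hu, Nat.coprime_self] at h1
    exact hp.ne_one h1
  -- the `p`-elements of `M`
  let Ap : Subgroup G :=
    { carrier := {m | m ∈ M ∧ ∃ i : ℕ, m ^ p ^ i = 1}
      one_mem' := ⟨one_mem M, 0, by simp⟩
      mul_mem' := fun {u v} hu hv => by
        obtain ⟨i, hi⟩ := hu.2
        obtain ⟨j, hj⟩ := hv.2
        refine ⟨mul_mem hu.1 hv.1, i + j, ?_⟩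
        rw [(hcomm u hu.1 v hv.1).mul_pow, pow_add, pow_mul, hi, one_pow, one_mul, mul_comm, pow_mul, hj, one_pow]
      inv_mem' := fun {u} hu => ⟨inv_mem hu.1, hu.2.choose, by rw [inv_pow, hu.2.choose_spec, inv_one]⟩ }
  haveI hApn : Ap.Normal := ⟨fun m hm g => ⟨hMn.conj_mem m hm.1 g, hm.2.choose, by
    rw [conj_pow, hm.2.choose_spec]; group⟩⟩
  have hMdec : M ≤ B ⊔ Ap := by
    intro m hm
    obtain ⟨e, r, hr, hn⟩ := Nat.exists_eq_pow_mul_and_not_dvd (orderOf_pos m).ne' p hp.ne_one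
    have hco : IsCoprime ((p ^ e : ℕ) : ℤ) (r : ℤ) :=
      Int.isCoprime_iff_nat_coprime.mpr (Nat.Coprime.pow_left e (hp.coprime_iff_not_dvd.mpr hr))
    obtain ⟨u, v, huv⟩ := hco
    have e0 : m = (m ^ ((p ^ e : ℕ) : ℤ)) ^ u * (m ^ (r : ℤ)) ^ v := by
      rw [← zpow_mul, ← zpow_mul, ← zpow_add, mul_comm _ u, mul_comm _ v, huv, zpow_one]
    rw [e0]
    refine mul_mem (mem_sup_left (zpow_mem (show _ ∈ B from ⟨zpow_mem hm _, ?_⟩) u))
      (mem_sup_right (zpow_mem (show _ ∈ Ap from ⟨zpow_mem hm _, e, ?_⟩) v))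
    · rw [zpow_natCast]
      refine Nat.Coprime.coprime_dvd_left (orderOf_dvd_of_pow_eq_one (n := r) ?_)
        (hp.coprime_iff_not_dvd.mpr hr).symm
      rw [← pow_mul, ← hn, pow_orderOf_eq_one]
    · rw [zpow_natCast, ← pow_mul, mul_comm, ← hn, pow_orderOf_eq_one]
  have hxnB : ∃ b ∈ B, x * b * x⁻¹ ≠ b := by
    by_contra hc
    push Not at hc
    -- then `G` is nilpotent
    apply hnn
    have hcen : B ≤ center G := by
      intro b hb
      rw [mem_center_iff]
      have hle : zpowers x ⊔ M ≤ centralizer ({b} : Set G) := by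
        refine sup_le (zpowers_le.mpr (mem_centralizer_singleton_iff.mpr (mul_inv_eq_iff_eq_mul.mp (hc b hb))))
          fun m hm => mem_centralizer_singleton_iff.mpr (hcomm m hm b hb.1).eq
      intro g
      exact mem_centralizer_singleton_iff.mp (hle (hgen.symm ▸ mem_top g))
    have hquot : IsPGroup p (G ⧸ B) := by
      intro y
      obtain ⟨g, rfl⟩ := QuotientGroup.mk'_surjective B y
      have hgM : g ^ p ∈ M := by
        have h1 : (QuotientGroup.mk' M g) ^ M.index = 1 := by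
          rw [index_eq_card]; exact pow_card_eq_one'
        rw [hMi, ← map_pow] at h1
        exact (QuotientGroup.eq_one_iff _).mp h1
      obtain ⟨b, hb, a, ⟨ha, i, hi⟩, hab⟩ := mem_sup_of_normal_left.mp (hMdec hgM)
      refine ⟨1 + i, ?_⟩
      rw [pow_add, pow_one, pow_mul, ← map_pow, ← map_pow, ← hab, (hcomm b hb.1 a ha).mul_pow, hi, mul_one]
      exact (QuotientGroup.eq_one_iff _).mpr (pow_mem hb _)
    haveI : Group.IsNilpotent (G ⧸ B) := hquot.isNilpotent
    exact Subgroup.isNilpotent_of_ker_le_center (QuotientGroup.mk' B) (by rw [QuotientGroup.ker_mk']; exact hcen)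
  obtain ⟨b₀, hb₀, hb₀x⟩ := hxnB
  set K := zpowers x ⊔ B with hK
  have hKna : ¬ IsMulCommutative K := fun hc => hb₀x (by
    have h1 : x * b₀ = b₀ * x := congrArg Subtype.val (hc.is_comm.comm
      (⟨x, mem_sup_left (mem_zpowers x)⟩ : K) ⟨b₀, mem_sup_right hb₀⟩)
    rw [h1, mul_inv_cancel_right])
  have hco : (Nat.card (zpowers x)).Coprime (Nat.card B) := by
    rw [Nat.card_zpowers, hk]
    exact Nat.Coprime.pow_left k (hp.coprime_iff_not_dvd.mpr hBp)
  -- the `p`-part lies in `⟨x⟩`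
  have hApx : Ap ≤ zpowers x := by
    have hAp : IsPGroup p Ap := fun u => ⟨u.2.2.choose, Subtype.ext u.2.2.choose_spec⟩
    have hPg : IsPGroup p (zpowers x ⊔ Ap : Subgroup G) :=
      IsPGroup.to_sup_of_normal_right (IsPGroup.of_card (n := k) (by rw [Nat.card_zpowers, hk])) hAp
    haveI := hPg.isNilpotent
    by_contra hnle
    set X := (zpowers x).subgroupOf (zpowers x ⊔ Ap) with hX
    have hXlt : X < ⊤ := lt_top_iff_ne_top.mpr fun e =>
      hnle (le_sup_right.trans (subgroupOf_eq_top.mp e))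
    obtain ⟨u, hu, huX⟩ := SetLike.exists_of_lt (Group.normalizerCondition_of_isNilpotent X hXlt)
    have hun : (u : G) ∈ normalizer (zpowers x : Set G) := by
      rw [hX, ← subgroupOf_normalizer_eq le_sup_left] at hu
      exact hu
    have huK : (u : G) ∈ normalizer (K : Set G) := by
      rw [mem_normalizer_iff_map_conj_eq] at hun ⊢
      rw [hK, Subgroup.map_sup, hun]
      congr 1
      exact mem_normalizer_iff_map_conj_eq.mp ((normalizer_eq_top_iff.mpr hBn).symm ▸ mem_top _)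
    rw [h K hKna] at huK
    obtain ⟨v, hv, b, hb, hvb⟩ := mem_sup_of_normal_right.mp huK
    obtain ⟨i, hi⟩ := hPg (⟨(u : G), u.2⟩ : (zpowers x ⊔ Ap : Subgroup G))
    have hbP : b ∈ (zpowers x ⊔ Ap : Subgroup G) := by
      rw [show b = v⁻¹ * (u : G) by rw [← hvb, inv_mul_cancel_left]]
      exact mul_mem (inv_mem (mem_sup_left hv)) u.2
    obtain ⟨l, hl⟩ := hPg ⟨b, hbP⟩
    have hb1 : b = 1 := by
      rw [← orderOf_eq_one_iff]
      refine Nat.eq_one_of_dvd_coprimes (Nat.Coprime.pow_right l hb.2) dvd_rfl ?_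
      exact orderOf_dvd_of_pow_eq_one (congrArg Subtype.val hl)
    rw [hb1, mul_one] at hvb
    exact huX (mem_subgroupOf.mpr (hvb ▸ hv))
  have hKtop : K = ⊤ := by
    rw [eq_top_iff, ← hgen]
    exact sup_le le_sup_left (hMdec.trans (sup_le le_sup_right (hApx.trans le_sup_left)))
  have hcompl : (zpowers x).IsComplement' B :=
    isComplement'_of_disjoint_and_mul_eq_univ (Subgroup.disjoint_of_coprime_natCard hco) (by
      rw [← Subgroup.mul_normal, ← hK, hKtop, coe_top])
  refine ⟨x, B, p, hp, hBn, hBc, ⟨k, hk⟩, hBp, hcompl, ?_, fun c hc hc1 hfix => hc1 ?_⟩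
  · rw [mem_center_iff]
    have hle : zpowers x ⊔ M ≤ centralizer ({x ^ p} : Set G) := by
      refine sup_le (zpowers_le.mpr (mem_centralizer_singleton_iff.mpr (Commute.self_pow x p).eq))
        fun m hm => mem_centralizer_singleton_iff.mpr (hcomm m hm _ hxpM).eq
    intro g
    exact mem_centralizer_singleton_iff.mp (hle (hgen.symm ▸ mem_top g))
  · -- the commutators with `x` generate a proper normal subgroup otherwise
    let D : Subgroup G := (cmap x B).range.map B.subtype
    have hDB : D ≤ B := map_subtype_le _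
    have hDe : ∀ b ∈ B, b * (x * b⁻¹ * x⁻¹) ∈ D := fun b hb =>
      ⟨cmap x B ⟨b, hb⟩, ⟨_, rfl⟩, cmap_coe x B ⟨b, hb⟩⟩
    set H := zpowers x ⊔ D with hHdef
    have hHna : ¬ IsMulCommutative H := fun hh => by
      apply hb₀x
      have hd0 := hDe b₀ hb₀
      set d := b₀ * (x * b₀⁻¹ * x⁻¹) with hd
      have h1 : x * d = d * x := congrArg Subtype.val (hh.is_comm.comm
        (⟨x, mem_sup_left (mem_zpowers x)⟩ : H) ⟨d, mem_sup_right hd0⟩)
      have hdB : d ∈ B := hDB hd0
      have hpow : ∀ n : ℕ, b₀ * (x ^ n * b₀⁻¹ * (x ^ n)⁻¹) = d ^ n := by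
        intro n
        induction n with
        | zero => simp
        | succ n ih =>
          have hcd : Commute (x ^ n) d := (show Commute x d from h1).pow_left n
          calc b₀ * (x ^ (n + 1) * b₀⁻¹ * (x ^ (n + 1))⁻¹)
              = b₀ * (x ^ n * (b₀⁻¹ * d) * (x ^ n)⁻¹) := by rw [hd, pow_succ]; group
            _ = b₀ * (x ^ n * b₀⁻¹ * (x ^ n)⁻¹) * (x ^ n * d * (x ^ n)⁻¹) := by group
            _ = d ^ (n + 1) := by rw [ih, hcd.eq, mul_inv_cancel_right, pow_succ]
      have h2 := hpow (orderOf x)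
      rw [pow_orderOf_eq_one] at h2
      simp only [one_mul, inv_one, mul_one, mul_inv_cancel] at h2
      have hd1 : d = 1 := by
        rw [← orderOf_eq_one_iff]
        exact Nat.eq_one_of_dvd_coprimes (Nat.Coprime.pow_right k hdB.2) dvd_rfl
          (hk ▸ orderOf_dvd_of_pow_eq_one h2.symm)
      rw [hd, mul_eq_one_iff_eq_inv] at hd1
      conv_rhs => rw [hd1]
      group
    have hBH : B ≤ normalizer (H : Set G) := by
      intro b hb
      rw [mem_normalizer_iff_map_conj_eq]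
      refine eq_of_le_of_card_ge ?_ (card_map_of_injective (MulAut.conj b).injective).ge
      rw [hHdef, Subgroup.map_sup, MonoidHom.map_zpowers]
      refine sup_le (zpowers_le.mpr ?_) ?_
      · show b * x * b⁻¹ ∈ zpowers x ⊔ D
        rw [show b * x * b⁻¹ = b * (x * b⁻¹ * x⁻¹) * x by group]
        exact mul_mem (mem_sup_right (hDe b hb)) (mem_sup_left (mem_zpowers x))
      · rintro _ ⟨d, hd, rfl⟩
        show b * d * b⁻¹ ∈ zpowers x ⊔ D
        rw [(hcomm b hb.1 d (hDB hd).1).eq, mul_inv_cancel_right]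
        exact mem_sup_right hd
    rw [h H hHna] at hBH
    have hBD : B ≤ D := by
      intro b hb
      obtain ⟨v, hv, d, hd, hvd⟩ : ∃ v ∈ zpowers x, ∃ d ∈ D, v * d = b := by
        have hxD : zpowers x ≤ normalizer (D : Set G) := by
          rw [zpowers_le, mem_normalizer_iff_map_conj_eq]
          refine eq_of_le_of_card_ge ?_ (card_map_of_injective (MulAut.conj x).injective).ge
          rintro _ ⟨_, ⟨_, ⟨w, rfl⟩, rfl⟩, rfl⟩
          show x * (cmap x B w : G) * x⁻¹ ∈ D
          have e : x * (cmap x B w : G) * x⁻¹ = (x * w * x⁻¹) * (x * (x * w * x⁻¹)⁻¹ * x⁻¹) := by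
            rw [cmap_coe]; group
          rw [e]
          exact hDe _ (hBn.conj_mem w w.2 x)
        have hmem : b ∈ ((zpowers x ⊔ D : Subgroup G) : Set G) := hBH hb
        rw [Subgroup.coe_mul_of_left_le_normalizer_right _ _ hxD] at hmem
        exact hmem
      have hvB : v ∈ B := by
        rw [show v = b * d⁻¹ by rw [← hvd, mul_inv_cancel_right]]
        exact mul_mem hb (inv_mem (hDB hd))
      have hv1 : v ∈ zpowers x ⊓ B := ⟨hv, hvB⟩
      rw [disjoint_iff.mp (Subgroup.disjoint_of_coprime_natCard hco), mem_bot] at hv1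
      rw [hv1, one_mul] at hvd
      exact hvd ▸ hd
    have hsurj : Function.Surjective (cmap x B) := by
      intro b
      obtain ⟨w, ⟨e, rfl⟩, he⟩ := hBD b.2
      exact ⟨e, Subtype.ext he⟩
    have hinj := Finite.injective_iff_surjective.mpr hsurj
    have := hinj (((cmap_eq_one_iff x B ⟨c, hc⟩).mpr hfix).trans (map_one _).symm)
    exact congrArg Subtype.val this


/-- Let G be a finite solvable non-nilpotent group. Every non-abelian subgroup of G is self-normalizing if and only if G is a semidirect product ⟨x⟩ ⋉ A in which ⟨x⟩ is a p-group for some prime p, A is a normal abelian subgroup of order prime to p, x^p is central in G, and x acts fixed-point-freely on A (no non-identity element of A commutes with x). -/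
theorem result {G : Type*} [Group G] [Finite G]
    [Group.IsSolvable G] (hnn : ¬ Group.IsNilpotent G) :
    (∀ H : Subgroup G, ¬ IsMulCommutative H → Subgroup.normalizer (H : Set G) = H) ↔
    ∃ (x : G) (A : Subgroup G) (p : ℕ), p.Prime ∧ A.Normal ∧ IsMulCommutative A ∧ (∃ k : ℕ, orderOf x = p ^ k) ∧
      ¬ p ∣ Nat.card A ∧ (Subgroup.zpowers x).IsComplement' A ∧ x ^ p ∈ Subgroup.center G ∧
      ∀ a : G, a ∈ A → a ≠ 1 → x * a * x⁻¹ ≠ a := by
  refine ⟨forward hnn, ?_⟩
  rintro ⟨x, A, p, hp, hA, hAc, hx, -, hc, hxp, hfpf⟩ H hH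
  haveI := hA
  haveI := hAc
  exact backward hp hx hc hxp hfpf H hH

end Cfsg.Agent.S4071
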