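import Cfsg.Statements.S5748
import Cfsg.Agent.Lib.Involutions.CTSimple
import Cfsg.Agent.Lib.Involutions.ElemAbCentPSL
-- import your own Cfsg.Agent.* helpers here

set_option autoImplicit false
open Cfsg

namespace Cfsg.Agent.S5748.Aux

open Matrix

/-- Two matrices commuting with a non-scalar `2 × 2` matrix commute. -/
theorem commute_of_commute {F : Type*} [Field F] {B x y : Matrix (Fin 2) (Fin 2) F}
    (hB : ¬ ∃ r : F, B = Matrix.scalar (Fin 2) r) (hx : x * B = B * x) (hy : y * B = B * y) :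
    x * y = y * x := by
  have rel : ∀ z : Matrix (Fin 2) (Fin 2) F, z * B = B * z →
      B 0 1 * z 1 0 = B 1 0 * z 0 1 ∧ B 0 1 * (z 1 1 - z 0 0) = z 0 1 * (B 1 1 - B 0 0) ∧
        B 1 0 * (z 1 1 - z 0 0) = z 1 0 * (B 1 1 - B 0 0) := by
    intro z hz
    have e00 := congrFun (congrFun hz 0) 0
    have e01 := congrFun (congrFun hz 0) 1
    have e10 := congrFun (congrFun hz 1) 0
    simp only [Matrix.mul_apply, Fin.sum_univ_two] at e00 e01 e10
    exact ⟨by linear_combination -e00, by linear_combination -e01, by linear_combination e10⟩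
  obtain ⟨x1, x2, x3⟩ := rel x hx
  obtain ⟨y1, y2, y3⟩ := rel y hy
  suffices h : x 0 1 * y 1 0 = y 0 1 * x 1 0 ∧
      x 0 1 * (y 1 1 - y 0 0) = y 0 1 * (x 1 1 - x 0 0) ∧
      x 1 0 * (y 1 1 - y 0 0) = y 1 0 * (x 1 1 - x 0 0) by
    obtain ⟨h1, h2, h3⟩ := h
    ext i j
    fin_cases i <;> fin_cases j <;> simp [Matrix.mul_apply, Fin.sum_univ_two]
    · linear_combination h1
    · linear_combination h2
    · linear_combination -h3
    · linear_combination -h1
  by_cases hb : B 0 1 = 0
  · by_cases hc : B 1 0 = 0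
    · have hd : B 1 1 - B 0 0 ≠ 0 := fun e => hB ⟨B 0 0, by
        ext i j
        fin_cases i <;> fin_cases j <;> simp [hb, hc, sub_eq_zero.1 e]⟩
      rw [hb, zero_mul] at x2 y2
      rw [hc, zero_mul] at x3 y3
      rw [(mul_eq_zero.1 x2.symm).resolve_right hd, (mul_eq_zero.1 y2.symm).resolve_right hd,
        (mul_eq_zero.1 x3.symm).resolve_right hd, (mul_eq_zero.1 y3.symm).resolve_right hd]
      exact ⟨by ring, by ring, by ring⟩
    · have h1 : x 0 1 * y 1 0 = y 0 1 * x 1 0 := mul_left_cancel₀ hc (by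
        linear_combination (-(y 1 0)) * x1 + (x 1 0) * y1)
      have h3 : x 1 0 * (y 1 1 - y 0 0) = y 1 0 * (x 1 1 - x 0 0) := mul_left_cancel₀ hc (by
        linear_combination (x 1 0) * y3 - (y 1 0) * x3)
      exact ⟨h1, mul_left_cancel₀ hc (by
        linear_combination (x 0 1) * y3 - (y 0 1) * x3 + (B 1 1 - B 0 0) * h1), h3⟩
  · have h1 : x 0 1 * y 1 0 = y 0 1 * x 1 0 := mul_left_cancel₀ hb (by
      linear_combination (x 0 1) * y1 - (y 0 1) * x1)
    exact ⟨h1, mul_left_cancel₀ hb (by linear_combination (x 0 1) * y2 - (y 0 1) * x2),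
      mul_left_cancel₀ hb (by
        linear_combination (x 1 0) * y2 - (y 1 0) * x2 - (B 1 1 - B 0 0) * h1)⟩

/-- The centre of `SL₂` is trivial in characteristic two. -/
theorem center_eq_bot {F : Type*} [Field F] (h2 : (2 : F) = 0) :
    Subgroup.center (Matrix.SpecialLinearGroup (Fin 2) F) = ⊥ := by
  rw [Subgroup.eq_bot_iff_forall]
  intro A hA
  obtain ⟨r, hr, hA⟩ := Matrix.SpecialLinearGroup.mem_center_iff.1 hA
  rw [Fintype.card_fin] at hr
  have hr1 : r = 1 := by
    have : (r - 1) ^ 2 = 0 := by linear_combination hr + (1 - r) * h2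
    exact sub_eq_zero.1 (pow_eq_zero_iff two_ne_zero |>.1 this)
  refine Subtype.ext ?_
  rw [← hA, hr1, map_one]
  rfl

theorem psl_ct {F : Type*} [Field F] (h2 : (2 : F) = 0)
    (a b c : Matrix.ProjectiveSpecialLinearGroup (Fin 2) F) (hb : b ≠ 1)
    (hab : Commute a b) (hbc : Commute b c) : Commute a c := by
  obtain ⟨A, rfl⟩ := QuotientGroup.mk_surjective a
  obtain ⟨B, rfl⟩ := QuotientGroup.mk_surjective b
  obtain ⟨C, rfl⟩ := QuotientGroup.mk_surjective c
  have hinj : ∀ x y : Matrix.SpecialLinearGroup (Fin 2) F,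
      (x : Matrix.ProjectiveSpecialLinearGroup (Fin 2) F) = (y : _) → x = y := fun x y h => by
    have h' := QuotientGroup.eq.1 h
    rw [center_eq_bot h2, Subgroup.mem_bot, inv_mul_eq_one] at h'
    exact h'
  have e1 : A * B = B * A := hinj _ _ hab.eq
  have e2 : B * C = C * B := hinj _ _ hbc.eq
  refine congrArg (QuotientGroup.mk (s := Subgroup.center (Matrix.SpecialLinearGroup (Fin 2) F)))
    (Subtype.ext ?_)
  show (A : Matrix (Fin 2) (Fin 2) F) * C = C * A
  refine commute_of_commute (B := (B : Matrix (Fin 2) (Fin 2) F)) ?_ (congrArg Subtype.val e1)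
    (congrArg Subtype.val e2).symm
  rintro ⟨r, hr⟩
  apply hb
  have hdet : r ^ 2 = 1 := by
    have hd := B.2
    rw [hr] at hd
    simpa [Matrix.det_fin_two, pow_two] using hd
  have hr1 : r = 1 := by
    have : (r - 1) ^ 2 = 0 := by linear_combination hdet + (1 - r) * h2
    exact sub_eq_zero.1 (pow_eq_zero_iff two_ne_zero |>.1 this)
  rw [show B = 1 from Subtype.ext (by rw [hr, hr1, map_one]; rfl)]
  rfl

end Cfsg.Agent.S5748.Aux

namespace Cfsg.Agent.S5748

/-- A finite non-abelian simple group in which commuting is a transitive relation on the non-identity elements (equivalently, every non-identity element has abelian centraliser) is isomorphic to PSL₂ over a field with 2^f elements for some f ≥ 2; conversely these groups have that property. -/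
theorem result {G : Type*} [Group G] [Finite G] [IsSimpleGroup G] (hG : ¬ IsMulCommutative G) :
    (∀ a b c : G, a ≠ 1 → b ≠ 1 → c ≠ 1 → Commute a b → Commute b c → Commute a c) ↔
    ∃ (F : Type) (_ : Field F) (_ : Fintype F) (f : ℕ), 2 ≤ f ∧ Fintype.card F = 2 ^ f ∧ Nonempty (G ≃* Matrix.ProjectiveSpecialLinearGroup (Fin 2) F) := by
  constructor
  · intro hCT
    obtain ⟨T, hnc, hnn, hC⟩ := CfsgLib.Involutions.CT.exists_sylow hCT hG
    obtain ⟨k, hk, hF, ⟨e⟩⟩ := (CfsgLib.Involutions.ElemAbCent.mk (T := T) hnc hnn hC).exists_iso_PSL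
    letI : Fintype (GaloisField 2 k) := Fintype.ofFinite _
    refine ⟨GaloisField 2 k, inferInstance, inferInstance, k, ?_, ?_, ⟨e⟩⟩
    · by_contra hk2
      push Not at hk2
      haveI : Fact (Nat.Prime 2) := ⟨Nat.prime_two⟩
      have hT2 : Nat.card (T : Subgroup G) ≤ 2 := by
        rw [hk]
        exact (Nat.pow_le_pow_right two_pos (by omega : k ≤ 1)).trans (by norm_num)
      apply hnc
      rcases Nat.lt_or_ge (Nat.card (T : Subgroup G)) 2 with h | h
      · haveI : Subsingleton (T : Subgroup G) := Finite.card_le_one_iff_subsingleton.1 (by omega)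
        exact isCyclic_of_subsingleton
      · exact isCyclic_of_prime_card (p := 2) (le_antisymm hT2 h)
    · rw [← Nat.card_eq_fintype_card, hF, hk]
  · rintro ⟨F, _, _, f, hf, hF, ⟨e⟩⟩ a b c - hb - hab hbc
    have h2 : (2 : F) = 0 := by
      have h := Nat.cast_card_eq_zero F
      rw [hF, Nat.cast_pow] at h
      exact_mod_cast (pow_eq_zero_iff (by omega : f ≠ 0)).1 h
    have h := Aux.psl_ct h2 (e a) (e b) (e c) (fun h => hb (e.injective (h.trans (map_one e).symm)))
      (hab.map e) (hbc.map e)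
    exact (e.injective (by rw [map_mul, map_mul]; exact h.eq))

end Cfsg.Agent.S5748
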