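import Cfsg.Statements.S4073
import Cfsg.Agent.S5748
import Cfsg.Agent.Lib.Involutions.SelfNormalizingNonabelian
import Cfsg.Agent.Lib.Involutions.ElemAbCentPSL
import Cfsg.Agent.Lib.PSL2.DicksonPSL
import Cfsg.Agent.Lib.PSL2.Geo
import Cfsg.Agent.Lib.Classical.Order
-- import your own Cfsg.Agent.* helpers here

set_option autoImplicit false
open Cfsg

namespace Cfsg.Agent.S4073.Aux

open Subgroup CfsgLib.Involutions CfsgLib.Involutions.SelfNorm

/-- Every proper normal subgroup is abelian. -/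
def PNA (X : Type*) [Group X] : Prop :=
  ∀ L : Subgroup X, L.Normal → L ≠ ⊤ → IsMulCommutative L

theorem PNA.of_iso {X Y : Type*} [Group X] [Group Y] (e : X ≃* Y) (h : PNA Y) : PNA X := by
  intro L hL hne
  have hn : (L.map e.toMonoidHom).Normal := hL.map _ e.surjective
  have hne' : L.map e.toMonoidHom ≠ ⊤ := fun h' => hne (map_injective e.injective
    (h'.trans (map_top_of_surjective _ e.surjective).symm))
  have hc := h _ hn hne'
  exact abelian_of fun a ha b hb => e.injective (by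
    rw [map_mul, map_mul]; exact comm_of hc ⟨a, ha, rfl⟩ ⟨b, hb, rfl⟩)

theorem pna_of_comm {X : Type*} [Group X] (h : ∀ a b : X, a * b = b * a) : PNA X :=
  fun _ _ _ => abelian_of fun a _ b _ => h a b

theorem pna_dihedral {k : ℕ} (hk : ¬ 2 ∣ k) : PNA (DihedralGroup k) := by
  intro L hL hne
  have key : ∀ x ∈ L, ∃ i, x = DihedralGroup.r i := by
    rintro (i | i) hx
    · exact ⟨i, rfl⟩
    · exfalso
      obtain ⟨c, hc⟩ : ∃ c : ZMod k, 2 * c = 1 := ⟨((k + 1) / 2 : ℕ), by
        rw [← Nat.cast_ofNat, ← Nat.cast_mul, show 2 * ((k + 1) / 2) = k + 1 by omega]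
        simp⟩
      have hsr : ∀ j : ZMod k, DihedralGroup.sr j ∈ L := by
        intro j
        have := hL.conj_mem _ hx (DihedralGroup.r (c * (i - j)))
        rw [DihedralGroup.inv_r, DihedralGroup.r_mul_sr, DihedralGroup.sr_mul_r] at this
        convert this using 2
        linear_combination (i - j) * hc
      apply hne
      rw [eq_top_iff]
      rintro (j | j) -
      · have := mul_mem (hsr 0) (hsr j)
        rwa [DihedralGroup.sr_mul_sr, sub_zero] at this
      · exact hsr j
  refine abelian_of fun a ha b hb => ?_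
  obtain ⟨i, rfl⟩ := key a ha
  obtain ⟨j, rfl⟩ := key b hb
  rw [DihedralGroup.r_mul_r, DihedralGroup.r_mul_r, add_comm]

theorem pna_of_card_six {X : Type*} [Group X] [Finite X] (h : Nat.card X = 6) : PNA X := by
  intro L _ hne
  have h1 := L.card_mul_index
  have h2 : L.index ≠ 1 := fun e => hne (index_eq_one.1 e)
  rw [h] at h1
  have h3 : Nat.card L ∣ 6 := ⟨_, h1.symm⟩
  have h4 : Nat.card L ≤ 3 := by
    have : 2 ≤ L.index := by
      have : L.index ≠ 0 := fun e => by rw [e, mul_zero] at h1; omega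
      omega
    nlinarith
  have hpos : 0 < Nat.card L := Nat.card_pos
  obtain h0 | h0 | h0 : Nat.card L = 1 ∨ Nat.card L = 2 ∨ Nat.card L = 3 := by omega
  · haveI : Subsingleton L := (Nat.card_eq_one_iff_unique.1 h0).1
    exact ⟨⟨fun a b => Subsingleton.elim _ _⟩⟩
  all_goals
    haveI : Fact (Nat.card L).Prime := ⟨by rw [h0]; norm_num⟩
    haveI : IsCyclic L := isCyclic_of_prime_card (p := Nat.card L) rfl
    exact ⟨⟨fun a b => (IsCyclic.commGroup (α := L)).mul_comm a b⟩⟩

variable {G : Type*} [Group G] [Finite G] {T : Sylow 2 G}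

theorem elemAbCent_any (h : ElemAbCent T) (S : Sylow 2 G) : ElemAbCent S := by
  haveI : Fact (Nat.Prime 2) := ⟨Nat.prime_two⟩
  refine ⟨fun hc => h.nc ?_, fun hn => h.nn ?_, h.hC⟩
  · haveI := hc
    exact isCyclic_of_surjective _ (Sylow.equiv S T).surjective
  · haveI := hn
    haveI := Sylow.unique_of_normal S hn
    rw [Subsingleton.elim T S]; exact hn

theorem card_N (h : ElemAbCent T) :
    Nat.card (normalizer ((T : Subgroup G) : Set G)) = (Nat.card T - 1) * Nat.card T := by
  obtain ⟨u, huH, hu⟩ := SE.exists_invol_not_mem h.stronglyEmbedded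
  have hy : (u : G ⧸ normalizer ((T : Subgroup G) : Set G)) ≠ ((1 : G) : G ⧸ _) :=
    fun hh => huH (by have := QuotientGroup.eq.1 hh.symm; simpa using this)
  rw [h.card_normalizer hy, ← h.card_pair hy, Nat.add_sub_cancel]

theorem normal_in_N (T : Sylow 2 G) :
    ((T : Subgroup G).subgroupOf (normalizer ((T : Subgroup G) : Set G))).Normal :=
  normal_in_normalizer

theorem relIndex_N (h : ElemAbCent T) :
    (T : Subgroup G).relIndex (normalizer ((T : Subgroup G) : Set G)) = Nat.card T - 1 := by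
  have h1 := ((T : Subgroup G).subgroupOf (normalizer ((T : Subgroup G) : Set G))).card_mul_index
  rw [Nat.card_congr (subgroupOfEquivOfLe le_normalizer).toEquiv, card_N h,
    mul_comm _ (Nat.card T)] at h1
  exact Nat.eq_of_mul_eq_mul_left Nat.card_pos h1

theorem pna_borel (h : ElemAbCent T) (hq : (Nat.card T - 1).Prime) {K : Subgroup G}
    (hK : K ≤ normalizer ((T : Subgroup G) : Set G)) : PNA K := by
  intro L hL hne
  set U := (T : Subgroup G).subgroupOf K with hU
  by_cases hLU : L ≤ U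
  · exact abelian_of fun a ha b hb => Subtype.ext (h.comm_of_mem (hLU ha) (hLU hb))
  exfalso
  obtain ⟨l, hl, hlT⟩ := SetLike.not_le_iff_exists.1 hLU
  have hnorm : ∀ w : U, l * w.1 * l⁻¹ ∈ U := fun w =>
    ElemAbCent.conj_mem_sylow (h := h) (hK l.2) w.2
  let f : U → U := fun w => ⟨l * w.1 * l⁻¹ * w.1⁻¹, mul_mem (hnorm w) (inv_mem w.2)⟩
  have hf : Function.Injective f := by
    intro w v hwv
    have e : l * w.1 * l⁻¹ * w.1⁻¹ = l * v.1 * l⁻¹ * v.1⁻¹ := congrArg Subtype.val hwv
    by_contra hne'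
    have hc : ((v.1⁻¹ * w.1 : K) : G) ∈ T := mul_mem (s := U) (inv_mem v.2) w.2
    have hz1 : ((v.1⁻¹ * w.1 : K) : G) ≠ 1 := fun e1 => hne' (Subtype.ext
      (inv_mul_eq_one.1 (Subtype.ext e1 : (v.1⁻¹ * w.1 : K) = 1)).symm)
    refine hlT (h.mem_of_commute (h.orderOf_of_mem hc hz1) hc ?_)
    have e3 : (l * v.1 * l⁻¹)⁻¹ * (l * w.1 * l⁻¹) = v.1⁻¹ * w.1 := by
      rw [inv_mul_eq_iff_eq_mul, ← mul_assoc, ← e, inv_mul_cancel_right]
    have e4 : l * (v.1⁻¹ * w.1) * l⁻¹ = v.1⁻¹ * w.1 := Eq.trans (by group) e3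
    exact (congrArg Subtype.val (mul_inv_eq_iff_eq_mul.1 e4)).symm
  have hsurj : Function.Surjective f := Finite.injective_iff_surjective.1 hf
  have hUL : U ≤ L := by
    intro v hv
    obtain ⟨w, hw⟩ := hsurj ⟨v, hv⟩
    rw [show v = l * w.1 * l⁻¹ * w.1⁻¹ from (congrArg Subtype.val hw).symm,
      mul_assoc, mul_assoc, ← mul_assoc w.1]
    exact mul_mem hl (hL.conj_mem _ (inv_mem hl) w.1)
  have hd : U.index ∣ Nat.card T - 1 := by
    haveI := normal_in_N T
    have h1 := Subgroup.relIndex_dvd_index_of_normal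
      ((T : Subgroup G).subgroupOf (normalizer ((T : Subgroup G) : Set G)))
      (K.subgroupOf (normalizer ((T : Subgroup G) : Set G)))
    rw [relIndex_subgroupOf hK] at h1
    exact h1.trans (dvd_of_eq (relIndex_N h))
  have hL1 : L.index ≠ 1 := fun e => hne (index_eq_one.1 e)
  have hLd := index_dvd_of_le hUL
  have hUp : U.index = L.index := by
    rcases (Nat.dvd_prime hq).1 hd with h1 | h1
    · rw [h1, Nat.dvd_one] at hLd; exact absurd hLd hL1
    · rw [h1] at hLd ⊢
      exact (((Nat.dvd_prime hq).1 hLd).resolve_left hL1).symm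
  have hcard : Nat.card L ≤ Nat.card U := by
    have h1 := L.card_mul_index
    rw [← U.card_mul_index, hUp] at h1
    exact (Nat.eq_of_mul_eq_mul_right (Nat.pos_of_ne_zero index_ne_zero_of_finite) h1).le
  exact hlT ((Subgroup.eq_of_le_of_card_ge hUL hcard).symm ▸ hl)

/-- In `PSL₂(2ⁿ)` with `2ⁿ - 1` prime, proper subgroups have all proper normal subgroups abelian. -/
theorem pna_proper (h : ElemAbCent T) {n : ℕ} (hn : n ≠ 0) (hp : (2 ^ n - 1).Prime)
    (hT : Nat.card T = 2 ^ n)
    (e : G ≃* Matrix.ProjectiveSpecialLinearGroup (Fin 2) (GaloisField 2 n))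
    (H : Subgroup G) (hH : H ≠ ⊤) : PNA H := by
  haveI : Fact (Nat.Prime 2) := ⟨Nat.prime_two⟩
  have hF : Nat.card (GaloisField 2 n) = 2 ^ n := GaloisField.card 2 n hn
  set H' := H.map e.toMonoidHom with hH'
  have eH : H ≃* H' := H.equivMapOfInjective _ e.injective
  cases CfsgLib.PSL2.dickson_psl (p := 2) H' with
  | cyclic hc _ =>
    haveI := hc
    exact PNA.of_iso eH (pna_of_comm fun a b => (IsCyclic.commGroup (α := H')).mul_comm a b)
  | dihedral r _ k _ _ hpk _ iso =>
    obtain ⟨i⟩ := iso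
    exact PNA.of_iso (eH.trans i) (pna_dihedral hpk)
  | borel P _ hle =>
    let S : Sylow 2 G := P.comapOfInjective e.toMonoidHom e.injective
      (fun x _ => ⟨e.symm x, e.apply_symm_apply x⟩)
    have hS : Nat.card S = Nat.card T := Nat.card_congr (Sylow.equiv S T).toEquiv
    refine pna_borel (elemAbCent_any h S) (by rwa [hS, hT]) ?_
    intro x hx
    have h1 := hle (show e.toMonoidHom x ∈ H' from ⟨x, hx, rfl⟩)
    rw [mem_normalizer_iff] at h1 ⊢
    intro y
    simpa [S, Sylow.coe_comapOfInjective] using h1 (e.toMonoidHom y)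
  | tetra hp' iso =>
    obtain ⟨i⟩ := iso
    refine absurd ?_ hp'
    rw [Nat.card_congr i.toEquiv, nat_card_alternatingGroup, Nat.card_fin]
    decide
  | octa hp' iso =>
    obtain ⟨i⟩ := iso
    refine absurd ?_ hp'
    rw [Nat.card_congr i.toEquiv, Nat.card_perm]
    simp
    decide
  | icosa hp' iso =>
    obtain ⟨i⟩ := iso
    rcases hp' with hp' | hp'
    · refine absurd ?_ hp'
      rw [Nat.card_congr i.toEquiv, nat_card_alternatingGroup]
      simp
      decide
    · exact absurd hp' (by norm_num)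
  | subfield K iso =>
    haveI : Fintype K := Fintype.ofFinite K
    have hpow := Module.natCard_eq_pow_finrank (K := K) (V := GaloisField 2 n)
    rw [hF] at hpow
    have hr : Module.finrank K (GaloisField 2 n) ≠ 0 := Module.finrank_pos.ne'
    obtain ⟨d, -, hd⟩ := (Nat.dvd_prime_pow Nat.prime_two).1
      (hpow ▸ dvd_pow_self (Nat.card K) hr)
    have hdn : d ∣ n := by
      rw [hd, ← pow_mul] at hpow
      exact ⟨_, Nat.pow_right_injective le_rfl hpow⟩
    have hd0 : d ≠ 0 := fun e0 => by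
      rw [e0, pow_zero] at hd
      exact (Finite.one_lt_card (α := K)).ne' hd
    obtain ⟨i⟩ : Nonempty (H' ≃* Matrix.ProjGenLinGroup (Fin 2) K) := by
      rcases iso with h' | ⟨hodd, -⟩
      · exact h'
      · exact absurd hodd (by rw [hd, Nat.not_odd_iff_even, Nat.even_pow]; exact ⟨even_two, hd0⟩)
    have hcH : Nat.card H = (2 ^ d + 1) * (2 ^ d * (2 ^ d - 1)) := by
      rw [Nat.card_congr (eH.trans i).toEquiv, CfsgLib.PSL2.card_pgl_two hd]
    rcases (Nat.prime_of_pow_sub_one_prime (by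
        intro e1; rw [e1] at hp; exact Nat.not_prime_one hp) hp).2.eq_one_or_self_of_dvd d hdn
      with h1 | h1
    · exact pna_of_card_six (by rw [hcH, h1]; norm_num)
    · refine absurd (eq_top_of_card_eq H ?_) hH
      have hG := CfsgLib.Classical.card_PSL_two (F := GaloisField 2 n)
      rw [CfsgLib.Classical.gcd_two_card_sub_one_of_even
        (by rw [hF, Nat.even_pow]; exact ⟨even_two, hn⟩), hF] at hG
      rw [Nat.card_congr e.toEquiv, hG, Nat.div_one, hcH, h1, sq]
      have h1 : 1 ≤ 2 ^ n := Nat.one_le_two_pow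
      obtain ⟨j, hj⟩ : ∃ j, 2 ^ n = j + 1 := ⟨2 ^ n - 1, by omega⟩
      rw [hj, Nat.add_sub_cancel,
        show (j + 1) * (j + 1) - 1 = (j + 1 + 1) * j by
          rw [show (j + 1) * (j + 1) = (j + 1 + 1) * j + 1 by ring, Nat.add_sub_cancel]]
      ring

theorem card_inj {a b : ℕ} (h : 2 ^ a * ((2 ^ a) ^ 2 - 1) = 2 ^ b * ((2 ^ b) ^ 2 - 1)) : a = b := by
  have key : ∀ x y : ℕ, x < y → 2 ^ x * ((2 ^ x) ^ 2 - 1) < 2 ^ y * ((2 ^ y) ^ 2 - 1) := by
    intro x y hxy
    have h1 : 2 ^ x < 2 ^ y := Nat.pow_lt_pow_right one_lt_two hxy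
    have h2 : 1 ≤ 2 ^ x := Nat.one_le_two_pow
    have h3 : (2 ^ x) ^ 2 < (2 ^ y) ^ 2 := Nat.pow_lt_pow_left h1 two_ne_zero
    have h4 : 1 ≤ (2 ^ x) ^ 2 := Nat.one_le_pow _ _ (by omega)
    exact Nat.mul_lt_mul_of_lt_of_le h1 (by omega) (by omega)
  rcases lt_trichotomy a b with h1 | h1 | h1
  · exact absurd h (key a b h1).ne
  · exact h1
  · exact absurd h (key b a h1).ne'

theorem card_psl_even {k : ℕ} (hk : k ≠ 0) :
    Nat.card (Matrix.ProjectiveSpecialLinearGroup (Fin 2) (GaloisField 2 k)) =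
      2 ^ k * ((2 ^ k) ^ 2 - 1) := by
  haveI : Fact (Nat.Prime 2) := ⟨Nat.prime_two⟩
  have hF : Nat.card (GaloisField 2 k) = 2 ^ k := GaloisField.card 2 k hk
  rw [CfsgLib.Classical.card_PSL_two, CfsgLib.Classical.gcd_two_card_sub_one_of_even
    (by rw [hF, Nat.even_pow]; exact ⟨even_two, hk⟩), hF, Nat.div_one]

end Cfsg.Agent.S4073.Aux

namespace Cfsg.Agent.S4073

open CfsgLib.Involutions CfsgLib.Involutions.SelfNorm in
/-- Let G be a finite non-abelian simple group. Every non-abelian subgroup of G is self-normalizing if and only if G is isomorphic to PSL₂(2ⁿ) for some n ≥ 2 with 2ⁿ − 1 prime (this includes the alternating group of degree 5 as PSL₂(4)). -/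
theorem result {G : Type*} [Group G] [Finite G] [IsSimpleGroup G]
    (hna : ¬ IsMulCommutative G) :
    (∀ H : Subgroup G, ¬ IsMulCommutative H → Subgroup.normalizer (H : Set G) = H) ↔
    ∃ n : ℕ, 2 ≤ n ∧ (2 ^ n - 1).Prime ∧ Nonempty (G ≃* Matrix.ProjectiveSpecialLinearGroup (Fin 2) (GaloisField 2 n)) := by
  haveI : Fact (Nat.Prime 2) := ⟨Nat.prime_two⟩
  constructor
  · intro hS
    have h : SN G := hS
    obtain ⟨T, hnc, hnn, hC⟩ := CT.exists_sylow (isCT G hna h) hna
    have hE := ElemAbCent.mk (T := T) hnc hnn hC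
    obtain ⟨k, hk, -, ⟨e⟩⟩ := hE.exists_iso_PSL
    have h4 := hE.four_le_card
    have hk2 : 2 ≤ k := by
      by_contra hk2
      have : 2 ^ k ≤ 2 := (Nat.pow_le_pow_right two_pos (by omega : k ≤ 1)).trans (by norm_num)
      omega
    refine ⟨k, hk2, ?_, ⟨e⟩⟩
    set N := Subgroup.normalizer ((T : Subgroup G) : Set G) with hN
    have hNtop : N ≠ ⊤ := fun e' => hnn (Subgroup.normalizer_eq_top_iff.1 e')
    obtain ⟨M, hMN, hMab, hMn, hMp, -⟩ := exists_abelian_prime h hna
      (fun X _ _ _ _ hX hSX => isCT X hX hSX) N hNtop (T : Subgroup G) Subgroup.le_normalizer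
      (fun g hg a ha => hE.conj_mem_sylow hg ha)
      (abelian_of fun a ha b hb => hE.comm_of_mem ha hb) hE.ne_bot
    have hTN := Aux.relIndex_N hE
    have hMT : M ≤ (T : Subgroup G) := by
      obtain ⟨t, htM, htT, ht1⟩ : ∃ t ∈ M, t ∈ T ∧ t ≠ 1 := by
        by_contra hno
        push Not at hno
        haveI : (M.subgroupOf N).Normal := ⟨fun a ha g => hMn g g.2 a ha⟩
        have h1 := Subgroup.relIndex_dvd_index_of_normal (M.subgroupOf N)
          ((T : Subgroup G).subgroupOf N)
        rw [Subgroup.relIndex_subgroupOf Subgroup.le_normalizer] at h1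
        have h2 : M.relIndex (T : Subgroup G) = Nat.card T := by
          rw [Subgroup.relIndex, Subgroup.subgroupOf_eq_bot.2
            (Subgroup.disjoint_def.2 fun hx hxT => hno _ hx hxT), Subgroup.index_bot]
        rw [h2] at h1
        rcases (Nat.dvd_prime hMp).1 h1 with h3 | h3
        · omega
        · rw [hk] at h3
          have := (Nat.Prime.pow_eq_iff (h3 ▸ hMp : (2 ^ k).Prime) (a := 2) (k := k)).1 rfl
          omega
      intro m hm
      exact hE.mem_of_commute (hE.orderOf_of_mem htT ht1) htT (comm_of hMab htM hm)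
    have h3 := Subgroup.relIndex_mul_relIndex M (T : Subgroup G) N hMT Subgroup.le_normalizer
    rw [← h3, hTN, hk] at hMp
    rcases Nat.prime_mul_iff.1 hMp with ⟨_, h5⟩ | ⟨h5, _⟩
    · omega
    · exact h5
  · rintro ⟨n, hn, hp, ⟨e⟩⟩ H hH
    letI : Fintype (GaloisField 2 n) := Fintype.ofFinite _
    have hF : Fintype.card (GaloisField 2 n) = 2 ^ n := by
      rw [← Nat.card_eq_fintype_card, GaloisField.card 2 n (by omega)]
    have hCT : CT.IsCT G :=
      (S5748.result hna).2 ⟨GaloisField 2 n, inferInstance, inferInstance, n, hn, hF, ⟨e⟩⟩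
    obtain ⟨T, hnc, hnn, hC⟩ := CT.exists_sylow hCT hna
    have hE := ElemAbCent.mk (T := T) hnc hnn hC
    obtain ⟨k, hk, -, ⟨e'⟩⟩ := hE.exists_iso_PSL
    have h4 := hE.four_le_card
    have hk0 : k ≠ 0 := fun e0 => by rw [e0, pow_zero] at hk; omega
    have hkn : k = n := Aux.card_inj (by
      rw [← Aux.card_psl_even hk0, ← Aux.card_psl_even (by omega : n ≠ 0)]
      exact Nat.card_congr (e'.symm.trans e).toEquiv)
    set N := Subgroup.normalizer (H : Set G) with hN
    by_cases hNt : N = ⊤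
    · rcases (Subgroup.normalizer_eq_top_iff.1 hNt).eq_bot_or_eq_top with h0 | h0
      · exact absurd (h0 ▸ abelian_of (fun a ha b hb => by
          rw [Subgroup.mem_bot.1 ha, Subgroup.mem_bot.1 hb])) hH
      · rw [hNt, h0]
    have hP := Aux.pna_proper hE (by omega : n ≠ 0) hp (hkn ▸ hk) e N hNt
    by_contra hne
    have hc := hP (H.subgroupOf N) Subgroup.normal_in_normalizer fun e1 =>
      hne (le_antisymm (Subgroup.subgroupOf_eq_top.1 e1) Subgroup.le_normalizer)
    exact hH (abelian_of fun a ha b hb => congrArg Subtype.val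
      (comm_of hc (a := ⟨a, Subgroup.le_normalizer ha⟩) (b := ⟨b, Subgroup.le_normalizer hb⟩) ha hb))

end Cfsg.Agent.S4073
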