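import Cfsg.Statements.S4074
import Mathlib


set_option autoImplicit false
set_option linter.style.haveILetI false
open Cfsg

namespace Cfsg.Agent.S4074

open Subgroup DihedralGroup


/-- For n > 2, every non-abelian subgroup of the dihedral group of order 2n is self-normalizing if and only if n = 4 or n is odd. -/
theorem result (n : ℕ) (hn : 2 < n) :
    (∀ H : Subgroup (DihedralGroup n), ¬ IsMulCommutative H → Subgroup.normalizer (H : Set (DihedralGroup n)) = H) ↔
    (n = 4 ∨ Odd n) := by
  haveI : NeZero n := ⟨by omega⟩
  constructor
  · intro h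
    by_contra hc
    push Not at hc
    obtain ⟨h4, hodd⟩ := hc
    have hev : 2 ∣ n := (Nat.not_odd_iff_even.1 hodd).two_dvd
    set c := ZMod.castHom hev (ZMod 2)
    let H : Subgroup (DihedralGroup n) :=
      { carrier := {x | match x with
          | .r i => c i = 0
          | .sr i => c i = 0}
        one_mem' := by show c 0 = 0; simp
        mul_mem' := by
          rintro (i | i) (j | j) hi hj <;> simp_all
        inv_mem' := by
          rintro (i | i) hi <;> simp_all }
    have h2 : c 2 = 0 := by rw [map_ofNat]; rfl
    have hna : ¬ IsMulCommutative H := fun hH => by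
      have := congrArg Subtype.val (hH.is_comm.comm (⟨.r 2, h2⟩ : H) ⟨.sr 0, map_zero c⟩)
      simp only [Subgroup.coe_mul, r_mul_sr, sr_mul_r, DihedralGroup.sr.injEq] at this
      have h40 : ((4 : ℕ) : ZMod n) = 0 := by
        push_cast
        linear_combination (-1 : ZMod n) * this
      have h5 := Nat.le_of_dvd (by norm_num) ((ZMod.natCast_eq_zero_iff 4 n).1 h40)
      obtain ⟨k, rfl⟩ := hev
      have : k = 2 := by omega
      omega
    have hmem : (DihedralGroup.r 1 : DihedralGroup n) ∈ normalizer (H : Set (DihedralGroup n)) := by
      rw [mem_normalizer_iff]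
      rintro (i | i)
      · show c i = 0 ↔ _
        simp [H]
      · show c i = 0 ↔ _
        simp only [H, inv_r, r_mul_sr, sr_mul_r]
        show c i = 0 ↔ c (i - 1 + -1) = 0
        rw [show i - 1 + -1 = i - 2 by ring, map_sub, h2, sub_zero]
    rw [h H hna] at hmem
    exact one_ne_zero ((map_one c).symm.trans hmem)
  · intro hn' H hH
    refine le_antisymm (fun x hx => ?_) le_normalizer
    rcases hn' with rfl | hodd
    · suffices H = ⊤ from this ▸ mem_top x
      by_contra hne
      refine hH ?_
      have hd := Subgroup.card_subgroup_dvd_card H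
      have hlt : Nat.card H ≠ Nat.card (DihedralGroup 4) := fun h => hne (eq_top_of_card_eq H h)
      rw [DihedralGroup.nat_card] at hd hlt
      have hle : Nat.card H ≤ 4 := by
        have h8 := Nat.le_of_dvd (by norm_num) hd
        interval_cases (Nat.card H) <;> omega
      haveI : Fact (Nat.Prime 2) := ⟨Nat.prime_two⟩
      rcases Nat.lt_or_ge (Nat.card H) 4 with hl | hge
      · have hd' : Nat.card H ∣ 8 := hd
        rcases (show Nat.card H = 1 ∨ Nat.card H = 2 by
          have := Nat.le_of_dvd (by norm_num) hd'
          interval_cases (Nat.card H) <;> simp_all) with h1 | h2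
        · haveI : Subsingleton H := (Nat.card_eq_one_iff_unique.1 h1).1
          exact ⟨⟨fun a b => Subsingleton.elim _ _⟩⟩
        · haveI := isCyclic_of_prime_card h2
          infer_instance
      · exact IsPGroup.isMulCommutative_of_card_eq_prime_sq (p := 2) (by omega)
    · obtain ⟨a, ha⟩ : ∃ a, DihedralGroup.sr a ∈ H := by
        by_contra hno
        push Not at hno
        refine hH ⟨⟨?_⟩⟩
        rintro ⟨(i | i), hi⟩ ⟨(j | j), hj⟩
        · exact Subtype.ext (by simp [add_comm])
        · exact absurd hj (hno _)
        · exact absurd hi (hno _)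
        · exact absurd hi (hno _)
      have key : ∀ i, DihedralGroup.r i ∈ normalizer (H : Set (DihedralGroup n)) →
          DihedralGroup.r i ∈ H := by
        intro i hi
        have h1 := ((mem_normalizer_iff.1 hi) (.sr a)).1 ha
        have h2 := H.mul_mem ha h1
        simp only [inv_r, r_mul_sr, sr_mul_r, sr_mul_sr] at h2
        rw [show a - i + -i - a = -(2 * i) by ring] at h2
        have h3 := H.inv_mem h2
        rw [inv_r, neg_neg] at h3
        obtain ⟨u, hu⟩ : ∃ u : ℕ, (2 * u : ZMod n) = 1 := by
          obtain ⟨m, hm⟩ := hodd
          refine ⟨m + 1, ?_⟩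
          have : ((2 * (m + 1) : ℕ) : ZMod n) = ((n + 1 : ℕ) : ZMod n) := by rw [hm]; ring_nf
          push_cast at this
          simpa using this
        have h4 := H.pow_mem h3 u
        rw [DihedralGroup.r_pow] at h4
        have e : 2 * i * (u : ZMod n) = i := by linear_combination i * hu
        rwa [e] at h4
      rcases x with i | i
      · exact key i hx
      · have h := key _ (by simpa using mul_mem hx (le_normalizer ha))
        have h2 := H.mul_mem ha (H.inv_mem h)
        simpa using h2

end Cfsg.Agent.S4074
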