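import Cfsg.Statements.S4075
import Mathlib

set_option autoImplicit false
open Cfsg

namespace Cfsg.Agent.S4075

/-- Let G be a finite nilpotent group. Every non-abelian subgroup of G is self-normalizing if and only if G is abelian or G is a minimal non-abelian p-group for some prime p (non-abelian of prime-power order with every proper subgroup abelian). -/
theorem result {G : Type*} [Group G] [Finite G]
    [Group.IsNilpotent G] :
    (∀ H : Subgroup G, ¬ IsMulCommutative H → Subgroup.normalizer (H : Set G) = H) ↔
    (IsMulCommutative G ∨ (IsPrimePow (Nat.card G) ∧ ¬ IsMulCommutative G ∧ ∀ H : Subgroup G, H ≠ ⊤ → IsMulCommutative H)) := by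
  classical
  constructor
  · intro h
    by_cases hab : IsMulCommutative G
    · exact Or.inl hab
    right
    have hprop : ∀ H : Subgroup G, H ≠ ⊤ → IsMulCommutative H := by
      intro H hH
      by_contra hc
      have h1 := Group.normalizerCondition_of_isNilpotent H (lt_top_iff_ne_top.mpr hH)
      rw [h H hc] at h1
      exact lt_irrefl _ h1
    refine ⟨?_, hab, hprop⟩
    by_contra hpp
    apply hab
    have hSne : ∀ (p : ℕ) [Fact p.Prime] (P : Sylow p G), (P : Subgroup G) ≠ ⊤ := by
      intro p hp P hP
      obtain ⟨k, hk⟩ := IsPGroup.iff_card.mp P.isPGroup'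
      rw [hP, Subgroup.card_top] at hk
      rcases Nat.eq_zero_or_pos k with rfl | hk0
      · have : Subsingleton G := (Nat.card_eq_one_iff_unique.mp (by simpa using hk)).1
        exact hab ⟨⟨fun a b => Subsingleton.elim _ _⟩⟩
      · exact hpp (hk ▸ (hp.out.isPrimePow.pow hk0.ne'))
    obtain ⟨φ⟩ := ((Group.isNilpotent_of_finite_tfae (G := G)).out 0 4).mp ‹Group.IsNilpotent G›
    have hc : ∀ a b : (∀ p : (Nat.card G).primeFactors, ∀ P : Sylow p G, P), a * b = b * a := by
      intro a b
      funext p P
      have : Fact (p : ℕ).Prime := ⟨Nat.prime_of_mem_primeFactors p.2⟩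
      have := hprop _ (hSne _ P)
      exact mul_comm' (a p P) (b p P)
    exact ⟨⟨fun a b => φ.symm.injective (by rw [map_mul, map_mul, hc])⟩⟩
  · rintro (h | ⟨-, -, h⟩) H hH
    · exact absurd ⟨⟨fun a b => Subtype.ext (h.is_comm.comm a.1 b.1)⟩⟩ hH
    · have : H = ⊤ := by
        by_contra hne
        exact hH (h H hne)
      subst this
      exact Subgroup.normalizer_eq_top _

end Cfsg.Agent.S4075
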