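import Cfsg.Statements.S4079
import Cfsg.Agent.Lib.FgsC.MetacyclicMove

set_option autoImplicit false
open Cfsg Subgroup
open scoped Pointwise commutatorElement

namespace Cfsg.Agent.S4079

open CfsgLib.MetaMove in
open CfsgLib.PLocal in
/-- An automorphism fixing all elements of order `3` gives a semidirect product not of maximal class. -/
theorem not_maximal {L : Type*} [Group L] [Finite L] [Nontrivial L] [Fact (Nat.Prime 3)]
    (hL : IsPGroup 3 L) (hmc : Cfsg.IsMetacyclic L)
    (hnc : ∀ C : Subgroup L, IsCyclic C → C.index ≠ 3) (a : MulAut L) (ha : orderOf a = 3)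
    (m : ℕ) (hm : Nat.card L = 3 ^ m) (hfix : ∀ x : L, x ^ 3 = 1 → a x = x) :
    Group.nilpotencyClass (SemidirectProduct L ↥(Subgroup.zpowers a) (Subgroup.zpowers a).subtype) ≠ m := by
  classical
  intro hcl
  set φ := (Subgroup.zpowers a).subtype with hφd
  set H := SemidirectProduct L ↥(Subgroup.zpowers a) φ with hHd
  haveI : Finite (MulAut L) := Finite.of_injective (fun e : MulAut L => (e : L → L)) DFunLike.coe_injective
  haveI : Finite H := Finite.of_equiv _ SemidirectProduct.equivProd.symm
  have hH : Nat.card H = 3 ^ (m + 1) := by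
    rw [SemidirectProduct.card, hm, Nat.card_zpowers, ha, pow_succ]
  obtain ⟨E, W, S⟩ := setting (by norm_num) hL hmc hnc inferInstance
  have hEm : 3 ^ 2 ∣ 3 ^ m := hm ▸ S.cardE ▸ E.card_subgroup_dvd_card
  rw [Nat.pow_dvd_pow_iff_le_right (by norm_num)] at hEm
  have hcl' : Group.nilpotencyClass H = (m + 1) - 1 := by simpa using hcl
  obtain ⟨hZ, -, -⟩ := CfsgLib.PGroups.center_of_maximalClass (p := 3) (n := m + 1) (by omega) hH hcl'
  set N := E.map (SemidirectProduct.inl : L →* H) with hN
  have hNcard : Nat.card N = 3 ^ 2 := by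
    rw [hN, Subgroup.card_map_of_injective SemidirectProduct.inl_injective, S.cardE]
  have hconj : ∀ (g : H) (x : L), g * SemidirectProduct.inl x * g⁻¹ =
      SemidirectProduct.inl (g.left * (g.right : MulAut L) x * g.left⁻¹) := by
    intro g x
    conv_lhs => rw [← SemidirectProduct.inl_left_mul_inr_right g]
    rw [map_mul, map_mul, show ((g.right : MulAut L) x) = φ g.right x from rfl, SemidirectProduct.inl_aut]
    simp only [map_inv, mul_inv_rev, mul_assoc]
  haveI hNn : N.Normal := ⟨by
    rintro _ ⟨x, hx, rfl⟩ g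
    refine ⟨g.left * (g.right : MulAut L) x * g.left⁻¹, ?_, (hconj g x).symm⟩
    show _ ∈ E
    have h1 := S.mapE (g.right : MulAut L) hx
    rw [S.memE] at h1 ⊢
    rw [conj_pow, h1, mul_one, mul_inv_cancel]⟩
  set D := commutator L with hD
  by_cases hD3 : ∀ d ∈ D, d ^ 3 = 1
  · have hEc : ∀ e ∈ E, ∀ h : L, e * h = h * e := by
      intro e he h
      obtain ⟨w, hw, rfl⟩ := S.root e he
      rw [S.regular]
      refine hD3 _ ?_
      rw [show w⁻¹ * h⁻¹ * w * h = ⁅w⁻¹, h⁻¹⁆ by simp [commutatorElement_def]]
      exact Subgroup.commutator_mem_commutator (Subgroup.mem_top _) (Subgroup.mem_top _)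
    have hle : N ≤ Subgroup.center H := by
      rintro _ ⟨x, hx, rfl⟩
      refine Subgroup.mem_center_iff.2 fun g => ?_
      have h1 : (g.right : MulAut L) x = x := by
        have : Subgroup.zpowers a ≤ MulAction.stabilizer (MulAut L) x :=
          Subgroup.zpowers_le.2 (hfix x ((S.memE x).1 hx))
        exact this g.right.2
      have h2 := hconj g x
      rw [h1, ← hEc x hx g.left, mul_inv_cancel_right] at h2
      exact mul_inv_eq_iff_eq_mul.1 h2
    have := Subgroup.card_le_of_le hle
    rw [hNcard, hZ] at this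
    norm_num at this
  push Not at hD3
  obtain ⟨d, hd, hd3⟩ := hD3
  haveI := isCyclic_commutator_of_metacyclic hmc
  obtain ⟨⟨g, hgD⟩, hg⟩ := IsCyclic.exists_generator (α := D)
  have hDg : D = Subgroup.zpowers g := by
    refine le_antisymm (fun y hy => ?_) (Subgroup.zpowers_le.2 hgD)
    obtain ⟨j, hj⟩ := Subgroup.mem_zpowers_iff.1 (hg ⟨y, hy⟩)
    exact Subgroup.mem_zpowers_iff.2 ⟨j, by simpa using congrArg Subtype.val hj⟩
  obtain ⟨k, hk⟩ := IsPGroup.iff_orderOf.1 hL g
  have hk2 : 2 ≤ k := by
    by_contra h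
    obtain ⟨i, rfl⟩ := Subgroup.mem_zpowers_iff.1 (hDg ▸ hd)
    have : g ^ 3 = 1 := orderOf_dvd_iff_pow_eq_one.1 (by
      rw [hk]; exact (pow_dvd_pow 3 (show k ≤ 1 by omega)).trans (pow_one 3).dvd)
    exact hd3 (by rw [← zpow_natCast, ← zpow_mul, mul_comm, zpow_mul, zpow_natCast, this, one_zpow])
  set w := g ^ 3 ^ (k - 2) with hwd
  have hw : orderOf w = 3 ^ 2 := by
    rw [hwd, orderOf_pow' _ (pow_ne_zero _ (by norm_num)), hk, Nat.gcd_eq_right (pow_dvd_pow 3 (by omega)),
      Nat.pow_div (by omega) (by norm_num), show k - (k - 2) = 2 by omega]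
  set C := (Subgroup.zpowers w).map (SemidirectProduct.inl : L →* H) with hC
  have hwinv : ∀ b : MulAut L, ∀ x : L, x * b w * x⁻¹ ∈ Subgroup.zpowers w := by
    intro b x
    have h1 : x * b g * x⁻¹ ∈ D := by
      refine (inferInstance : D.Normal).conj_mem _ ?_ x
      have hb : D.map b.toMonoidHom = D := by
        rw [hD, _root_.commutator_def, Subgroup.map_commutator, Subgroup.map_top_of_surjective _ b.surjective]
      exact hb ▸ ⟨g, hgD, rfl⟩
    obtain ⟨i, hi⟩ := Subgroup.mem_zpowers_iff.1 (hDg ▸ h1)
    refine Subgroup.mem_zpowers_iff.2 ⟨i, ?_⟩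
    rw [hwd, map_pow, ← conj_pow, ← hi, ← zpow_natCast, ← zpow_natCast, ← zpow_mul, ← zpow_mul, mul_comm]
  haveI hCn : C.Normal := ⟨by
    rintro _ ⟨y, hy, rfl⟩ g'
    obtain ⟨i, rfl⟩ := Subgroup.mem_zpowers_iff.1 hy
    refine ⟨_, ?_, (hconj g' _).symm⟩
    show _ ∈ Subgroup.zpowers w
    rw [map_zpow, ← conj_zpow]
    exact zpow_mem (hwinv _ _) i⟩
  have hCcard : Nat.card C = 3 ^ 2 := by
    rw [hC, Subgroup.card_map_of_injective SemidirectProduct.inl_injective, Nat.card_zpowers, hw]
  have hidx : ∀ M : Subgroup H, Nat.card M = 3 ^ 2 → M.index = 3 ^ (m + 1 - 2) := fun M hM => by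
    have h := M.card_mul_index
    rw [hM, hH, show m + 1 = 2 + (m + 1 - 2) by omega, pow_add] at h
    exact Nat.eq_of_mul_eq_mul_left (by norm_num) h
  have hdvdL : 3 ^ 3 ≤ 3 ^ m := by
    by_contra h
    rw [Nat.pow_le_pow_iff_right (by norm_num)] at h
    have hm2 : m = 2 := by omega
    refine hd3 ?_
    have hc : IsMulCommutative L :=
      IsPGroup.isMulCommutative_of_card_eq_prime_sq (p := 3) (by rw [hm, hm2])
    have : D = ⊥ := by
      rw [eq_bot_iff, hD, _root_.commutator_def, Subgroup.commutator_le]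
      intro u _ v _
      rw [Subgroup.mem_bot]
      exact commutatorElement_eq_one_iff_mul_comm.2 (hc.is_comm.comm u v)
    rw [this, Subgroup.mem_bot] at hd
    rw [hd, one_pow]
  rw [Nat.pow_le_pow_iff_right (by norm_num)] at hdvdL
  have heq : C = N := (CfsgLib.PGroups.eq_lowerCentralSeries_of_maximalClass (p := 3) (by omega) hH hcl'
      (r := m + 1 - 2) (by omega) (hidx C hCcard)).trans
    (CfsgLib.PGroups.eq_lowerCentralSeries_of_maximalClass (p := 3) (by omega) hH hcl'
      (r := m + 1 - 2) (by omega) (hidx N hNcard)).symm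
  have hwE : w ∈ E := by
    obtain ⟨e, he, hew⟩ : SemidirectProduct.inl w ∈ N := heq ▸ ⟨w, Subgroup.mem_zpowers w, rfl⟩
    rwa [← SemidirectProduct.inl_injective hew]
  have h9 := orderOf_dvd_of_pow_eq_one ((S.memE w).1 hwE)
  rw [hw] at h9
  norm_num at h9

/-- Let p be an odd prime and L a finite metacyclic p-group with no cyclic subgroup of index p, and let a be an automorphism of L of order p. Then a moves some element of order p of L if and only if p = 3 and the semidirect product L ⋊ ⟨a⟩ (of order 3·#L) has maximal class, i.e. nilpotency class m where #L = 3^m. -/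
theorem result {L : Type*} [Group L] [Finite L] {p : ℕ} [Fact p.Prime]
    (hp : p ≠ 2) (hL : IsPGroup p L) (hmc : Cfsg.IsMetacyclic L) (hnc : ∀ C : Subgroup L, IsCyclic C → C.index ≠ p)
    (a : MulAut L) (ha : orderOf a = p) (m : ℕ) (hm : Nat.card L = p ^ m) :
    (∃ x : L, orderOf x = p ∧ a x ≠ x) ↔
    (p = 3 ∧ Group.nilpotencyClass (SemidirectProduct L ↥(Subgroup.zpowers a) (Subgroup.zpowers a).subtype) = m) := by
  classical
  haveI : Finite (MulAut L) := Finite.of_injective (fun e : MulAut L => (e : L → L)) DFunLike.coe_injective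
  haveI : Nontrivial L := by
    by_contra h
    rw [not_nontrivial_iff_subsingleton] at h
    have : a = 1 := MulEquiv.ext fun _ => Subsingleton.elim _ _
    rw [this, orderOf_one] at ha
    exact (Fact.out : p.Prime).ne_one ha.symm
  constructor
  · rintro ⟨x, hx, hax⟩
    obtain ⟨E, W, S⟩ := CfsgLib.MetaMove.setting hp hL hmc hnc inferInstance
    have hxE : x ∈ E := (S.memE x).2 (orderOf_dvd_iff_pow_eq_one.1 hx.dvd)
    obtain ⟨hp3, e₁, he₁, hne, hfix⟩ := S.moves hp hL a ha ⟨x, hxE, hax⟩
    refine ⟨hp3, ?_⟩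
    set φ := (Subgroup.zpowers a).subtype with hφd
    set H := SemidirectProduct L ↥(Subgroup.zpowers a) φ with hHd
    haveI : Finite H := Finite.of_equiv _ SemidirectProduct.equivProd.symm
    set f := CfsgLib.MetaMove.disp a e₁ with hfd
    have hfE : f ∈ E := S.dispE a he₁
    have haf : a f = f := by
      rw [CfsgLib.MetaMove.apply_eq a f, hfd, (S.disp_disp a ha).1 e₁ he₁, mul_one]
    have hof : orderOf f = p := orderOf_eq_prime ((S.memE f).1 hfE) hne
    set ta : H := SemidirectProduct.inr ⟨a, Subgroup.mem_zpowers a⟩ with htad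
    set A : Subgroup H := Subgroup.centralizer ({ta} : Set H) with hA
    have hmemA : ∀ g : H, g ∈ A ↔ g.left ∈ Subgroup.zpowers f := by
      intro g
      have hcomm : ∀ b : Subgroup.zpowers a, (⟨a, Subgroup.mem_zpowers a⟩ : Subgroup.zpowers a) * b = b * ⟨a, Subgroup.mem_zpowers a⟩ := fun b => by
        obtain ⟨i, hi⟩ := Subgroup.mem_zpowers_iff.1 b.2
        refine Subtype.ext ?_
        show a * (b : MulAut L) = (b : MulAut L) * a
        rw [← hi]
        exact ((Commute.refl a).zpow_right i).eq
      rw [hA, Subgroup.mem_centralizer_singleton_iff]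
      have hL1 : (ta * g).left = a g.left := one_mul _
      have hL2 : (g * ta).left = g.left := by
        show g.left * φ g.right 1 = g.left
        rw [map_one, mul_one]
      have hr := hcomm g.right
      constructor
      · intro h
        have h1 := congrArg SemidirectProduct.left h
        rw [hL1, hL2] at h1
        first
          | exact hfix _ h1
          | exact hfix _ h1.symm
      · intro h
        obtain ⟨i, hi⟩ := Subgroup.mem_zpowers_iff.1 h
        have hag : a g.left = g.left := by rw [← hi, map_zpow, haf]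
        first
          | exact SemidirectProduct.ext (by rw [hL1, hL2, hag]) hr
          | exact SemidirectProduct.ext (by rw [hL1, hL2, hag]) hr.symm
    have hAcard : Nat.card A = p ^ 2 := by
      rw [pow_two]
      nth_rw 1 [← hof]
      rw [← ha, ← Nat.card_zpowers f, ← Nat.card_zpowers a, ← Nat.card_prod]
      exact Nat.card_congr
        { toFun := fun g => (⟨g.1.left, (hmemA g.1).1 g.2⟩, g.1.right)
          invFun := fun q => ⟨⟨q.1, q.2⟩, (hmemA _).2 q.1.2⟩
          left_inv := fun g => Subtype.ext (SemidirectProduct.ext rfl rfl)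
          right_inv := fun q => rfl }
    have htA : ta ∈ A := by rw [hA, Subgroup.mem_centralizer_singleton_iff]
    have hC : Subgroup.centralizer (A : Set H) = A := by
      refine le_antisymm (fun g hg => ?_) ?_
      · rw [hA, Subgroup.mem_centralizer_singleton_iff]
        exact (Subgroup.mem_centralizer_iff.1 hg ta htA).symm
      · haveI := IsPGroup.isMulCommutative_of_card_eq_prime_sq (p := p) hAcard
        exact Subgroup.le_centralizer A
    have hH : Nat.card H = p ^ (m + 1) := by
      rw [SemidirectProduct.card, hm, Nat.card_zpowers, ha, pow_succ]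
    have := CfsgLib.PGroups.maximalClass_of_centralizer_eq hH hAcard hC
    simpa using this
  · rintro ⟨rfl, hcl⟩
    by_contra h
    push Not at h
    refine not_maximal hL hmc hnc a ha m hm (fun x hx => ?_) hcl
    rcases eq_or_ne x 1 with rfl | hne
    · exact map_one a
    · exact h x (orderOf_eq_prime hx hne)


end Cfsg.Agent.S4079
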