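import Cfsg.Statements.S4080
import Mathlib

set_option autoImplicit false
open Cfsg

namespace Cfsg.Agent.S4080

theorem zmod_div (p : ℕ) [hp : Fact p.Prime] (u : ZMod (p ^ 2)) (h : p • u = 0) : ∃ w, u = p • w := by
  haveI : NeZero (p ^ 2) := ⟨pow_ne_zero _ hp.out.ne_zero⟩
  have h1 : ((p * u.val : ℕ) : ZMod (p ^ 2)) = 0 := by
    rw [Nat.cast_mul, ZMod.natCast_zmod_val, ← nsmul_eq_mul]; exact h
  rw [ZMod.natCast_eq_zero_iff] at h1
  obtain ⟨w, hw⟩ := Nat.dvd_of_mul_dvd_mul_left hp.out.pos ((dvd_of_eq (pow_two p).symm).trans h1)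
  refine ⟨(w : ZMod (p ^ 2)), ?_⟩
  rw [nsmul_eq_mul, ← Nat.cast_mul, ← hw, ZMod.natCast_zmod_val]

theorem card_range_smul (p : ℕ) [hp : Fact p.Prime] :
    Nat.card (nsmulAddMonoidHom (α := ZMod (p ^ 2) × ZMod (p ^ 2)) p).range = p ^ 2 ∧
    Nat.card (ZMod (p ^ 2) × ZMod (p ^ 2)) = p ^ 4 := by
  haveI : NeZero (p ^ 2) := ⟨pow_ne_zero _ hp.out.ne_zero⟩
  have hL : Nat.card (ZMod (p ^ 2) × ZMod (p ^ 2)) = p ^ 4 := by
    rw [Nat.card_prod, Nat.card_zmod]; ring
  refine ⟨?_, hL⟩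
  have hker : Nat.card (nsmulAddMonoidHom (α := ZMod (p ^ 2)) p).ker = p := by
    rw [IsAddCyclic.card_nsmulAddMonoidHom_ker, Nat.card_zmod,
      Nat.gcd_eq_right (dvd_pow_self p two_ne_zero)]
  have h2 : Nat.card (nsmulAddMonoidHom (α := ZMod (p ^ 2) × ZMod (p ^ 2)) p).ker = p ^ 2 := by
    have e : (nsmulAddMonoidHom (α := ZMod (p ^ 2) × ZMod (p ^ 2)) p).ker =
        ((nsmulAddMonoidHom (α := ZMod (p ^ 2)) p).ker).prod (nsmulAddMonoidHom (α := ZMod (p ^ 2)) p).ker := by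
      ext ⟨u, v⟩
      simp [AddSubgroup.mem_prod, Prod.ext_iff]
    rw [e, Nat.card_congr (AddSubgroup.prodEquiv _ _).toEquiv, Nat.card_prod, hker, pow_two]
  have h3 := AddSubgroup.index_ker (nsmulAddMonoidHom (α := ZMod (p ^ 2) × ZMod (p ^ 2)) p)
  have h4 := (nsmulAddMonoidHom (α := ZMod (p ^ 2) × ZMod (p ^ 2)) p).ker.card_mul_index
  rw [h3, h2, hL] at h4
  exact Nat.eq_of_mul_eq_mul_left (pow_pos hp.out.pos 2) (h4.trans (by ring))

/-- Let p > 3 be a prime and L the direct product of two cyclic groups of order p². Every automorphism of L of order p fixes every element of order p of L. -/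
theorem result {p : ℕ} [Fact p.Prime] (hp : 3 < p)
    (a : MulAut (Multiplicative (ZMod (p ^ 2) × ZMod (p ^ 2)))) (ha : orderOf a = p)
    (x : Multiplicative (ZMod (p ^ 2) × ZMod (p ^ 2))) (hx : orderOf x = p) : a x = x := by
  classical
  have hp' : p.Prime := Fact.out
  haveI : NeZero (p ^ 2) := ⟨pow_ne_zero _ hp'.ne_zero⟩
  obtain ⟨hcR, hcL⟩ := card_range_smul p
  set R := (nsmulAddMonoidHom (α := ZMod (p ^ 2) × ZMod (p ^ 2)) p).range with hR
  let f : AddMonoid.End (ZMod (p ^ 2) × ZMod (p ^ 2)) :=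
    { toFun := fun v => (a (Multiplicative.ofAdd v)).toAdd
      map_zero' := by simp
      map_add' := fun u v => by simp }
  have hf : ∀ (k : ℕ) (v : ZMod (p ^ 2) × ZMod (p ^ 2)), (f ^ k) v = ((a ^ k) (Multiplicative.ofAdd v)).toAdd := by
    intro k
    induction k with
    | zero => intro v; rfl
    | succ k ih => intro v; rw [pow_succ f k, pow_succ a k]; exact ih (f v)
  have hfp : f ^ p = 1 := by
    ext v : 1
    rw [hf, orderOf_dvd_iff_pow_eq_one.mp (ha.dvd)]; rfl
  set B := f - 1 with hB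
  have hfB : f = B + 1 := by rw [hB, sub_add_cancel]
  have hcomm : Commute B (1 : AddMonoid.End (ZMod (p ^ 2) × ZMod (p ^ 2))) := Commute.one_right B
  -- `B ^ p` vanishes modulo `p`
  obtain ⟨r, hr⟩ := hcomm.exists_add_pow_prime_eq hp'
  rw [← hfB, hfp, one_pow] at hr
  have hBp : ∀ v, (B ^ p) v ∈ R := by
    intro v
    have h0 : B ^ p + (p : AddMonoid.End (ZMod (p ^ 2) × ZMod (p ^ 2))) * B * 1 * r = 0 := by
      have h1 := hr
      rw [add_right_comm] at h1
      exact right_eq_add.mp h1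
    have h2 := DFunLike.congr_fun h0 v
    refine ⟨-(B (r v)), ?_⟩
    rw [mul_one] at h2
    change p • -(B (r v)) = (B ^ p) v
    rw [smul_neg]
    change (B ^ p) v + ((p : AddMonoid.End (ZMod (p ^ 2) × ZMod (p ^ 2))) * (B * r)) v = 0 at h2
    exact (eq_neg_of_add_eq_zero_left h2).symm
  -- the chain `L ≥ BL + pL ≥ B²L + pL`
  have hBR : ∀ v ∈ R, B v ∈ R := by
    rintro _ ⟨w, rfl⟩
    exact ⟨B w, (map_nsmul B p w).symm⟩
  have hmapR : R.map B ≤ R := by rintro _ ⟨v, hv, rfl⟩; exact hBR v hv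
  set W1 := AddMonoidHom.range B ⊔ R with hW1
  set W2 := W1.map B ⊔ R with hW2
  have hW21 : W2 ≤ W1 := sup_le_sup_right (by rintro _ ⟨v, -, rfl⟩; exact ⟨v, rfl⟩) R
  have hpowR : ∀ (W : AddSubgroup (ZMod (p ^ 2) × ZMod (p ^ 2))), R ≤ W → W ≤ W.map B ⊔ R → W = R := by
    intro W hRW hW
    have h : ∀ k : ℕ, ∀ w ∈ W, ∃ v, w - (B ^ k) v ∈ R := by
      intro k
      induction k with
      | zero => exact fun w _ => ⟨w, by rw [pow_zero]; change w - w ∈ R; rw [sub_self]; exact R.zero_mem⟩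
      | succ k ih =>
        intro w hw
        obtain ⟨_, ⟨u, hu, rfl⟩, r', hr', rfl⟩ := AddSubgroup.mem_sup.mp (hW hw)
        obtain ⟨v, hv⟩ := ih u hu
        refine ⟨v, ?_⟩
        have e : B u + r' - (B ^ (k + 1)) v = B (u - (B ^ k) v) + r' := by
          rw [pow_succ' B k, map_sub]
          change B u + r' - B ((B ^ k) v) = _
          abel
        exact (congrArg (· ∈ R) e).mpr (R.add_mem (hBR _ hv) hr')
    refine le_antisymm (fun w hw => ?_) hRW
    obtain ⟨v, hv⟩ := h p w hw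
    simpa using R.add_mem hv (hBp v)
  have hW1top : W1 ≠ ⊤ := by
    intro h
    have h' := hpowR ⊤ le_top (h.ge.trans (sup_le_sup_right (fun w ⟨v, hv⟩ => ⟨v, trivial, hv⟩) R))
    have h'' := congrArg (fun W : AddSubgroup _ => Nat.card W) h'
    simp only [AddSubgroup.card_top, hcL, hcR] at h''
    exact absurd (Nat.pow_right_injective hp'.two_le h'') (by norm_num)
  have hB2 : ∀ v, B (B v) ∈ R := by
    intro v
    have hW2R : W2 = R := by
      by_cases h : W2 = W1
      · exact h.trans (hpowR W1 le_sup_right (h.ge.trans le_rfl))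
      have hlt : W2 < W1 := lt_of_le_of_ne hW21 h
      have hlt1 : W1 < ⊤ := lt_top_iff_ne_top.mpr hW1top
      have hd : ∀ {U V : AddSubgroup (ZMod (p ^ 2) × ZMod (p ^ 2))}, U < V → Nat.card U < Nat.card V := by
        intro U V hUV
        rcases (AddSubgroup.card_le_of_le hUV.le).lt_or_eq with h1 | h1
        · exact h1
        · exact absurd (AddSubgroup.eq_of_le_of_card_ge hUV.le h1.ge) hUV.ne
      have c1 := hd hlt1
      have c2 := hd hlt
      rw [AddSubgroup.card_top, hcL] at c1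
      obtain ⟨i, -, hi⟩ := (Nat.dvd_prime_pow hp').mp (hcL ▸ W1.card_addSubgroup_dvd_card)
      obtain ⟨j, -, hj⟩ := (Nat.dvd_prime_pow hp').mp (hcL ▸ W2.card_addSubgroup_dvd_card)
      rw [hi] at c1 c2
      rw [hj] at c2
      have i4 : i < 4 := (Nat.pow_lt_pow_iff_right hp'.one_lt).mp c1
      have ji : j < i := (Nat.pow_lt_pow_iff_right hp'.one_lt).mp c2
      refine (AddSubgroup.eq_of_le_of_card_ge le_sup_right ?_).symm
      rw [hj, hcR]
      exact Nat.pow_le_pow_right hp'.pos (by omega)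
    rw [← hW2R]
    exact le_sup_left (a := W1.map B) ⟨B v, le_sup_left (a := AddMonoidHom.range B) ⟨v, rfl⟩, rfl⟩
  have hpp : ∀ v : ZMod (p ^ 2) × ZMod (p ^ 2), p • p • v = 0 := by
    intro v
    rw [← mul_nsmul', ← pow_two]
    have h0 : ((p : ZMod (p ^ 2))) ^ 2 = 0 := by rw [← Nat.cast_pow, ZMod.natCast_self]
    refine Prod.ext ?_ ?_ <;> simp [h0]
  have hpB2 : ∀ v, p • B (B v) = 0 := fun v => by
    obtain ⟨w, hw⟩ := hB2 v
    rw [← hw]; exact hpp w
  have hB4 : ∀ v, B (B (B (B v))) = 0 := fun v => by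
    obtain ⟨w, hw⟩ := hB2 v
    rw [← hw]
    change B (B (p • w)) = 0
    rw [map_nsmul, map_nsmul]; exact hpB2 w
  -- the binomial expansion collapses to `1 + p B`
  have hexp := (hcomm).add_pow p
  rw [← hfB, hfp] at hexp
  have hterm : ∀ k ∈ Finset.range (p + 1), 2 ≤ k → ∀ v,
      ((p.choose k : AddMonoid.End (ZMod (p ^ 2) × ZMod (p ^ 2))) * (B ^ k)) v = 0 := by
    intro k hk hk2 v
    change p.choose k • (B ^ k) v = 0
    rcases Nat.lt_or_eq_of_le (Nat.lt_succ_iff.mp (Finset.mem_range.mp hk)) with hlt | rfl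
    · obtain ⟨c, hc⟩ := hp'.dvd_choose_self (by omega) hlt
      rw [hc, mul_nsmul]
      obtain ⟨k', rfl⟩ := Nat.exists_eq_add_of_le hk2
      rw [pow_add, pow_two B]
      change c • p • B (B ((B ^ k') v)) = 0
      rw [hpB2, smul_zero]
    · obtain ⟨k', rfl⟩ := Nat.exists_eq_add_of_le (show 4 ≤ k by omega)
      rw [pow_add, show B ^ 4 = B * B * B * B from by simp [pow_succ]]
      change _ • B (B (B (B ((B ^ k') v)))) = 0
      rw [hB4, smul_zero]
  have hpBz : ∀ v, p • B v = 0 := by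
    intro v
    rw [Finset.sum_eq_add_of_mem 0 1 (by simp) (by simp; omega) zero_ne_one ?_] at hexp
    · have h2 := DFunLike.congr_fun hexp v
      simp only [pow_zero, pow_one, one_pow, mul_one, one_mul, Nat.choose_zero_right, Nat.choose_one_right, Nat.cast_one] at h2
      change v = v + B (p • v) at h2
      rw [left_eq_add, map_nsmul] at h2
      exact h2
    · intro k hk hk01
      ext v : 1
      have := hterm k hk (by omega) v
      rw [(Nat.cast_commute _ _).eq] at this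
      simpa using this
  -- conclude
  have hxp : p • x.toAdd = 0 := by
    rw [← toAdd_pow, orderOf_dvd_iff_pow_eq_one.mp hx.dvd]; rfl
  obtain ⟨w1, hw1⟩ := zmod_div p x.toAdd.1 (congrArg Prod.fst hxp)
  obtain ⟨w2, hw2⟩ := zmod_div p x.toAdd.2 (congrArg Prod.snd hxp)
  have hxw : x.toAdd = p • (w1, w2) := Prod.ext hw1 hw2
  have hBx : B x.toAdd = 0 := by
    rw [hxw, map_nsmul]; exact hpBz _
  have hfx : f x.toAdd = x.toAdd := by
    rw [hfB]
    change B x.toAdd + x.toAdd = x.toAdd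
    rw [hBx, zero_add]
  exact Multiplicative.toAdd.injective hfx

end Cfsg.Agent.S4080
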