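import Cfsg.Statements.S4082
import Mathlib
import Cfsg.Agent.Lib.Classical.Dihedral
import Cfsg.Agent.Lib.Transfer.NormalPComplement

set_option autoImplicit false
set_option linter.style.haveILetI false
open Cfsg

namespace Cfsg.Agent.S4082

variable {G : Type*} [Group G] [Finite G] {p : ℕ} [hp : Fact p.Prime]

/-- The `p`-part of an element lies in any normal Sylow subgroup; what remains is prime to `p`. -/
theorem exists_parts (g : G) : ∃ a b : G, g = a * b ∧ (∃ k, orderOf a = p ^ k) ∧
    (orderOf b).Coprime p ∧ a ∈ Subgroup.zpowers g ∧ b ∈ Subgroup.zpowers g := by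
  set o := orderOf g
  set A := p ^ o.factorization p with hA
  set B := o / A with hB
  have ho : A * B = o := Nat.ordProj_mul_ordCompl_eq_self o p
  have hcop : (B : ℕ).Coprime p := (Nat.coprime_ordCompl hp.out (orderOf_pos g).ne').symm
  have hcop' : A.Coprime B := Nat.Coprime.pow_left _ hcop.symm
  obtain ⟨u, v, huv⟩ : ∃ u v : ℤ, (A : ℤ) * u + (B : ℤ) * v = 1 :=
    ⟨Nat.gcdA A B, Nat.gcdB A B, by rw [← Nat.gcd_eq_gcd_ab, hcop'.gcd_eq_one]; rfl⟩
  refine ⟨g ^ ((B : ℤ) * v), g ^ ((A : ℤ) * u), ?_, ?_, ?_, Subgroup.zpow_mem_zpowers g _,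
    Subgroup.zpow_mem_zpowers g _⟩
  · rw [← zpow_add, add_comm, huv, zpow_one]
  · obtain ⟨k, -, hk⟩ := (Nat.dvd_prime_pow hp.out).mp
      (show orderOf (g ^ ((B : ℤ) * v)) ∣ p ^ o.factorization p from orderOf_dvd_of_pow_eq_one (by
        rw [← zpow_natCast, ← zpow_mul, show (B : ℤ) * v * ((A : ℕ) : ℤ) = ((o : ℕ) : ℤ) * v by
          rw [← ho]; push_cast; ring, zpow_mul, zpow_natCast, pow_orderOf_eq_one, one_zpow]))
    exact ⟨k, hk⟩
  · refine hcop.coprime_dvd_left (orderOf_dvd_of_pow_eq_one ?_)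
    rw [← zpow_natCast, ← zpow_mul, show (A : ℤ) * u * ((B : ℕ) : ℤ) = ((o : ℕ) : ℤ) * u by
      rw [← ho]; push_cast; ring, zpow_mul, zpow_natCast, pow_orderOf_eq_one, one_zpow]

/-- An element of order prime to `p` fixing the subgroup of order `p` of a cyclic `p`-group
centralizes the group. -/
theorem commute_of_fixes {s h : G} {k : ℕ} (hs : orderOf s = p ^ k)
    (hh : (orderOf h).Coprime p) (hnorm : h * s * h⁻¹ ∈ Subgroup.zpowers s)
    (hfix : ∀ y ∈ Subgroup.zpowers s, y ^ p = 1 → h * y = y * h) : h * s = s * h := by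
  obtain ⟨r, hr⟩ := Subgroup.mem_zpowers_iff.mp hnorm
  cases k with
  | zero =>
    rw [pow_zero, orderOf_eq_one_iff] at hs
    simp [hs]
  | succ k =>
  have hiter : ∀ j : ℕ, h ^ j * s * (h ^ j)⁻¹ = s ^ (r ^ j) := by
    intro j
    induction j with
    | zero => simp
    | succ j ih =>
      calc h ^ (j + 1) * s * (h ^ (j + 1))⁻¹ = h ^ j * (h * s * h⁻¹) * (h ^ j)⁻¹ := by
            rw [pow_succ]; group
        _ = (h ^ j * s * (h ^ j)⁻¹) ^ r := by rw [← hr, conj_zpow]
        _ = s ^ (r ^ (j + 1)) := by rw [ih, ← zpow_mul, pow_succ]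
  -- the exponent is congruent to one modulo `p`
  have hy := hfix (s ^ p ^ k) (Subgroup.npow_mem_zpowers s _)
    (by rw [← pow_mul, ← pow_succ, ← hs, pow_orderOf_eq_one])
  have hr1 : (p : ℤ) ∣ r - 1 := by
    have h1 : s ^ ((p : ℤ) ^ k * (r - 1)) = 1 := by
      have h2 : h * s ^ p ^ k * h⁻¹ = s ^ p ^ k := by rw [hy, mul_inv_cancel_right]
      rw [← conj_pow, ← hr, ← zpow_natCast, ← zpow_mul] at h2
      rw [mul_sub, mul_one, zpow_sub, mul_comm _ r, ← Nat.cast_pow, h2, zpow_natCast, mul_inv_cancel]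
    rw [← orderOf_dvd_iff_zpow_eq_one, hs, Nat.cast_pow, pow_succ] at h1
    exact (mul_dvd_mul_iff_left (pow_ne_zero k (by exact_mod_cast hp.out.ne_zero))).mp h1
  have hpow : h ^ p ^ k * s = s * h ^ p ^ k := by
    have h1 := dvd_sub_pow_of_dvd_sub (R := ℤ) (a := r) (b := 1) hr1 k
    rw [one_pow] at h1
    obtain ⟨t, ht⟩ := h1
    have h2 := hiter (p ^ k)
    rw [show r ^ p ^ k = 1 + ((p : ℤ) ^ (k + 1)) * t by linarith, zpow_add, zpow_one, zpow_mul,
      show s ^ ((p : ℤ) ^ (k + 1)) = 1 by
        rw [← Nat.cast_pow, zpow_natCast, ← hs, pow_orderOf_eq_one], one_zpow, mul_one] at h2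
    exact mul_inv_eq_iff_eq_mul.mp h2
  obtain ⟨e, he⟩ := exists_pow_eq_self_of_coprime (x := h) (n := p ^ k) ((hh.symm.pow_left k))
  have h3 : Commute (h ^ p ^ k) s := hpow
  rw [← he]
  exact (h3.pow_left e).eq

/-- The subgroup of order `p` of a cyclic `p`-group is canonical. -/
theorem mem_of_cyclic {s : G} {Q : Subgroup G} (hQ : Q ≤ Subgroup.zpowers s) (hQc : Nat.card Q = p)
    {y : G} (hy : y ∈ Subgroup.zpowers s) (hyp : y ^ p = 1) : y ∈ Q := by
  obtain ⟨⟨w, hw⟩, hwo⟩ := exists_prime_orderOf_dvd_card' (G := Q) p (hQc ▸ dvd_rfl)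
  rw [Subgroup.orderOf_mk] at hwo
  by_cases hy1 : y = 1
  · rw [hy1]; exact Q.one_mem
  have hyo := orderOf_eq_prime hyp hy1
  obtain ⟨a, ha⟩ := mem_powers_iff_mem_zpowers.mpr (hQ hw)
  obtain ⟨b, hb⟩ := mem_powers_iff_mem_zpowers.mpr hy
  simp only at ha hb
  -- two elements of order `p` in a cyclic group generate the same subgroup
  have h1 : Subgroup.zpowers y ≤ Subgroup.zpowers w := by
    have key : ∀ (c : ℕ), orderOf (s ^ c) = p → Subgroup.zpowers (s ^ c) = Subgroup.zpowers (s ^ (orderOf s / p)) := by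
      intro c hc
      have hdvd : p ∣ orderOf s := hc ▸ orderOf_dvd_of_pow_eq_one (by
        rw [← pow_mul, mul_comm, pow_mul, pow_orderOf_eq_one, one_pow])
      refine Subgroup.eq_of_le_of_card_ge (Subgroup.zpowers_le.mpr ?_) ?_
      · have hd : orderOf s / p ∣ c := by
          have h2 : orderOf s ∣ c * p := orderOf_dvd_of_pow_eq_one (by
            rw [pow_mul, ← hc, pow_orderOf_eq_one])
          rw [← Nat.div_mul_cancel hdvd] at h2
          exact Nat.dvd_of_mul_dvd_mul_right hp.out.pos h2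
        obtain ⟨e, rfl⟩ := hd
        rw [pow_mul]
        exact Subgroup.npow_mem_zpowers _ _
      · rw [Nat.card_zpowers, Nat.card_zpowers, hc,
          orderOf_pow_orderOf_div (orderOf_pos s).ne' hdvd]
    rw [← ha, ← hb, key a (by rw [ha, hwo]), key b (by rw [hb, hyo])]
  exact Subgroup.zpowers_le.mpr hw (h1 (Subgroup.mem_zpowers y))

/-- A normalizer of a nontrivial cyclic `p`-subgroup not centralizing it is an inverting
involution, if the `p`-by-cyclic subgroups are restricted. -/
theorem inverts (hp2 : p ≠ 2)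
    (hR : ∀ H : Subgroup G, (∀ S : Sylow p ↥H, (S : Subgroup ↥H).Normal) →
      (∀ (S : Sylow p ↥H) [(S : Subgroup ↥H).Normal], IsCyclic (↥H ⧸ (S : Subgroup ↥H))) →
      IsCyclic H ∨ (∃ n : ℕ, Nonempty (H ≃* DihedralGroup (p ^ n))))
    {A : Subgroup G} (hA : IsPGroup p A) {x : G} (hxN : x ∈ Subgroup.normalizer (A : Set G))
    (hxC : x ∉ Subgroup.centralizer (A : Set G)) :
    orderOf x = 2 ∧ ∀ a ∈ A, x * a * x⁻¹ = a⁻¹ := by
  set H := A ⊔ Subgroup.zpowers x with hH
  have hAH : A ≤ H := le_sup_left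
  have hxH : x ∈ H := Subgroup.mem_sup_right (Subgroup.mem_zpowers x)
  haveI hAn : (A.subgroupOf H).Normal := Subgroup.normal_subgroupOf_of_le_normalizer
    (sup_le Subgroup.le_normalizer (Subgroup.zpowers_le.mpr hxN))
  set f := QuotientGroup.mk' (A.subgroupOf H) with hf
  have hgen : ∀ q : H ⧸ A.subgroupOf H, q ∈ Subgroup.zpowers (f ⟨x, hxH⟩) := by
    intro q
    obtain ⟨⟨h, hh⟩, rfl⟩ := QuotientGroup.mk'_surjective (A.subgroupOf H) q
    have hmap : (⊤ : Subgroup H) = A.subgroupOf H ⊔ Subgroup.zpowers (⟨x, hxH⟩ : H) := by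
      apply Subgroup.map_injective H.subtype_injective
      rw [Subgroup.map_sup, Subgroup.map_subgroupOf_eq_of_le hAH, MonoidHom.map_zpowers,
        ← MonoidHom.range_eq_map, Subgroup.range_subtype]
      rfl
    have h1 : f ⟨h, hh⟩ ∈ (⊤ : Subgroup H).map f := Subgroup.mem_map_of_mem f trivial
    rw [hmap, Subgroup.map_sup, QuotientGroup.map_mk'_self, bot_sup_eq, MonoidHom.map_zpowers] at h1
    exact h1
  haveI hcyc : IsCyclic (H ⧸ A.subgroupOf H) := ⟨⟨_, hgen⟩⟩
  have hnormal : ∀ S : Sylow p ↥H, (S : Subgroup ↥H).Normal := by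
    intro S
    have hle : A.subgroupOf H ≤ (S : Subgroup H) := by
      have : IsPGroup p (A.subgroupOf H) := hA.comap_subtype
      exact this.le_sylow_of_normal S
    have h1 : ((S : Subgroup H).map f).comap f = (S : Subgroup H) := by
      rw [Subgroup.comap_map_eq, QuotientGroup.ker_mk', sup_eq_left.mpr hle]
    rw [← h1]
    haveI : ((S : Subgroup H).map f).Normal := ⟨fun a ha b => by
      have hc : b * a = a * b := by
        obtain ⟨i, hi⟩ := Subgroup.mem_zpowers_iff.mp (hgen a)
        obtain ⟨j, hj⟩ := Subgroup.mem_zpowers_iff.mp (hgen b)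
        rw [← hi, ← hj, ← zpow_add, ← zpow_add, add_comm]
      rw [hc, mul_inv_cancel_right]; exact ha⟩
    exact Subgroup.Normal.comap inferInstance f
  have hqcyc : ∀ (S : Sylow p ↥H) [(S : Subgroup ↥H).Normal],
      IsCyclic (↥H ⧸ (S : Subgroup ↥H)) := by
    intro S _
    have hle : A.subgroupOf H ≤ (S : Subgroup H) := by
      have : IsPGroup p (A.subgroupOf H) := hA.comap_subtype
      exact this.le_sylow_of_normal S
    refine isCyclic_of_surjective (QuotientGroup.map (A.subgroupOf H) (S : Subgroup H)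
      (MonoidHom.id H) hle) fun q => ?_
    obtain ⟨h, rfl⟩ := QuotientGroup.mk_surjective q
    exact ⟨(h : H ⧸ A.subgroupOf H), rfl⟩
  rcases hR H hnormal hqcyc with hc | ⟨n, ⟨φ⟩⟩
  · exfalso
    refine hxC (Subgroup.mem_centralizer_iff.mpr fun a ha => ?_)
    haveI := hc
    letI : CommGroup H := IsCyclic.commGroup
    exact congrArg Subtype.val (mul_comm (⟨a, hAH ha⟩ : H) ⟨x, hxH⟩)
  have hrot : ∀ a (ha : a ∈ A), ∃ i, φ ⟨a, hAH ha⟩ = DihedralGroup.r i := by
    intro a ha
    cases hcase : φ ⟨a, hAH ha⟩ with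
    | r i => exact ⟨i, rfl⟩
    | sr i =>
      exfalso
      have h1 : orderOf (φ ⟨a, hAH ha⟩) = 2 := by rw [hcase, DihedralGroup.orderOf_sr]
      rw [φ.orderOf_eq, Subgroup.orderOf_mk] at h1
      obtain ⟨k, hk⟩ := IsPGroup.iff_orderOf.mp hA ⟨a, ha⟩
      rw [Subgroup.orderOf_mk, h1] at hk
      cases k with
      | zero => simp at hk
      | succ k => exact hp2 ((Nat.prime_dvd_prime_iff_eq hp.out Nat.prime_two).mp (hk ▸ dvd_pow_self p (by omega)))
  cases hcase : φ ⟨x, hxH⟩ with
  | r j =>
    exfalso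
    refine hxC (Subgroup.mem_centralizer_iff.mpr fun a ha => ?_)
    obtain ⟨i, hi⟩ := hrot a ha
    refine congrArg Subtype.val (φ.injective (show φ (⟨a, hAH ha⟩ * ⟨x, hxH⟩) = φ (⟨x, hxH⟩ * ⟨a, hAH ha⟩) by
      rw [map_mul, map_mul, hi, hcase, DihedralGroup.r_mul_r, DihedralGroup.r_mul_r, add_comm]))
  | sr j =>
    refine ⟨by rw [← Subgroup.orderOf_mk (H := H) x hxH, ← φ.orderOf_eq, hcase, DihedralGroup.orderOf_sr], ?_⟩
    intro a ha
    obtain ⟨i, hi⟩ := hrot a ha
    refine congrArg Subtype.val (φ.injective (show φ (⟨x, hxH⟩ * ⟨a, hAH ha⟩ * ⟨x, hxH⟩⁻¹) = φ (⟨a, hAH ha⟩⁻¹) by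
      rw [map_mul, map_mul, map_inv, map_inv, hi, hcase, DihedralGroup.inv_sr, DihedralGroup.inv_r,
        DihedralGroup.sr_mul_r, DihedralGroup.sr_mul_sr]
      congr 1; ring))


/-- Let p be an odd prime and G a finite group with Sylow p-subgroup P. Say that G has restricted p-by-cyclic subgroups when every subgroup H of G whose Sylow p-subgroup is normal in H with cyclic quotient is itself cyclic or dihedral of order 2pⁿ for some n. Then G has restricted p-by-cyclic subgroups if and only if P is cyclic and one of the following holds: (1) N_G(P) = C_G(P); or (2) N_G(P)/C_G(P) has order 2 and, for the subgroup Q of order p of P, the centralizer C_G(Q) is abelian and every element of N_G(Q) outside C_G(Q) is an involution inverting every element of C_G(Q). -/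
theorem result {G : Type*} [Group G] [Finite G] {p : ℕ}
    [Fact p.Prime] (hp : p ≠ 2) (P : Sylow p G) :
    (∀ H : Subgroup G, (∀ S : Sylow p ↥H, (S : Subgroup ↥H).Normal) →
        (∀ (S : Sylow p ↥H) [(S : Subgroup ↥H).Normal], IsCyclic (↥H ⧸ (S : Subgroup ↥H))) →
        IsCyclic H ∨ (∃ n : ℕ, Nonempty (H ≃* DihedralGroup (p ^ n)))) ↔
    (IsCyclic P ∧
      (Subgroup.normalizer ((P : Subgroup G) : Set G) = Subgroup.centralizer ((P : Subgroup G) : Set G) ∨
       ((Subgroup.centralizer ((P : Subgroup G) : Set G)).relIndex (Subgroup.normalizer ((P : Subgroup G) : Set G)) = 2 ∧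
        ∀ Q : Subgroup G, Q ≤ P → Nat.card Q = p →
          IsMulCommutative ↥(Subgroup.centralizer (Q : Set G)) ∧
          ∀ x : G, x ∈ Subgroup.normalizer (Q : Set G) → x ∉ Subgroup.centralizer (Q : Set G) →
            orderOf x = 2 ∧ ∀ c : G, c ∈ Subgroup.centralizer (Q : Set G) → x * c * x⁻¹ = c⁻¹))) := by
  classical
  have hpp := Fact.out (p := p.Prime)
  have htwo : ∀ {y : G}, y ∈ (P : Subgroup G) → y⁻¹ = y → y = 1 := by
    intro y hy h
    obtain ⟨k, hk⟩ := IsPGroup.iff_orderOf.mp P.2 ⟨y, hy⟩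
    rw [Subgroup.orderOf_mk] at hk
    have h2 : y ^ 2 = 1 := by rw [sq]; nth_rw 1 [← h]; exact inv_mul_cancel y
    have h3 : orderOf y ∣ 2 := orderOf_dvd_of_pow_eq_one h2
    cases k with
    | zero => exact orderOf_eq_one_iff.mp (by rw [hk, pow_zero])
    | succ k =>
      exfalso
      exact hp ((Nat.prime_dvd_prime_iff_eq hpp Nat.prime_two).mp
        ((dvd_pow_self p (by omega)).trans (hk ▸ h3)))
  constructor
  · intro hR
    have hPcyc : IsCyclic P := by
      have htop : ∀ S : Sylow p (P : Subgroup G), (S : Subgroup (P : Subgroup G)) = ⊤ := fun S =>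
        (S.3 (P.2.of_equiv Subgroup.topEquiv.symm) le_top).symm
      rcases hR (P : Subgroup G) (fun S => by rw [htop S]; infer_instance) (fun S _ => by
        haveI : Subsingleton ((P : Subgroup G) ⧸ (S : Subgroup (P : Subgroup G))) := by
          rw [htop S]; exact QuotientGroup.subsingleton_quotient_top
        exact isCyclic_of_subsingleton) with h | ⟨n, ⟨φ⟩⟩
      · exact h
      · exfalso
        haveI : NeZero (p ^ n) := ⟨(pow_pos hpp.pos n).ne'⟩
        obtain ⟨k, hk⟩ := IsPGroup.iff_card.mp P.2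
        rw [Nat.card_congr φ.toEquiv, DihedralGroup.nat_card] at hk
        exact hp ((Nat.prime_dvd_prime_iff_eq Nat.prime_two hpp).mp
          (Nat.prime_two.dvd_of_dvd_pow (Dvd.intro _ hk))).symm
    refine ⟨hPcyc, or_iff_not_imp_left.mpr fun hne => ?_⟩
    obtain ⟨w, hw, hwC⟩ : ∃ w ∈ Subgroup.normalizer ((P : Subgroup G) : Set G),
        w ∉ Subgroup.centralizer ((P : Subgroup G) : Set G) := by
      by_contra h
      push Not at h
      exact hne (le_antisymm h (Subgroup.centralizer_le_normalizer _))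
    refine ⟨?_, fun Q hQP hQc => ?_⟩
    · rw [Subgroup.relIndex_eq_two_iff]
      refine ⟨w, hw, fun b hb => ?_⟩
      by_cases hbC : b ∈ Subgroup.centralizer ((P : Subgroup G) : Set G)
      · exact Or.inr ⟨hbC, fun h => hwC (by simpa using mul_mem (inv_mem hbC) h)⟩
      · refine Or.inl ⟨Subgroup.mem_centralizer_iff.mpr fun a ha => ?_, hbC⟩
        have h1 := (inverts hp hR P.2 hw hwC).2
        have h2 := (inverts hp hR P.2 hb hbC).2
        have h3 : b * w * a * (b * w)⁻¹ = a := by
          calc b * w * a * (b * w)⁻¹ = b * (w * a * w⁻¹) * b⁻¹ := by group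
            _ = a := by rw [h1 a ha, h2 a⁻¹ (inv_mem ha), inv_inv]
        exact (mul_inv_eq_iff_eq_mul.mp h3).symm
    obtain ⟨q₀, hq₀⟩ := exists_prime_orderOf_dvd_card' (G := Q) p (hQc ▸ dvd_rfl)
    have hwQ : w ∈ Subgroup.normalizer (Q : Set G) := by
      refine Subgroup.mem_normalizer_iff.mpr fun y => ⟨fun hy => ?_, fun hy => ?_⟩
      · rw [(inverts hp hR P.2 hw hwC).2 y (hQP hy)]; exact inv_mem hy
      · have hy' : y ∈ (P : Subgroup G) := (Subgroup.mem_normalizer_iff.mp hw y).mpr (hQP hy)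
        rw [(inverts hp hR P.2 hw hwC).2 y hy'] at hy
        simpa using inv_mem hy
    have hwQC : w ∉ Subgroup.centralizer (Q : Set G) := by
      intro h
      have h1 := (inverts hp hR P.2 hw hwC).2 q₀ (hQP q₀.2)
      rw [← Subgroup.mem_centralizer_iff.mp h q₀ q₀.2, mul_inv_cancel_right] at h1
      have h2 := htwo (hQP q₀.2) h1.symm
      rw [← Subgroup.orderOf_coe, h2, orderOf_one] at hq₀
      exact hpp.one_lt.ne hq₀
    have hQp : IsPGroup p Q := P.2.to_le hQP
    have hcinv : ∀ x : G, x ∈ Subgroup.normalizer (Q : Set G) → x ∉ Subgroup.centralizer (Q : Set G) →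
        orderOf x = 2 ∧ ∀ c : G, c ∈ Subgroup.centralizer (Q : Set G) → x * c * x⁻¹ = c⁻¹ := by
      intro x hx hxC
      refine ⟨(inverts hp hR hQp hx hxC).1, fun c hc => ?_⟩
      have hcx : c * x ∉ Subgroup.centralizer (Q : Set G) := fun h =>
        hxC (by simpa using mul_mem (inv_mem hc) h)
      have h1 := (inverts hp hR hQp hx hxC).1
      have h2 := (inverts hp hR hQp (mul_mem (Subgroup.centralizer_le_normalizer _ hc) hx) hcx).1
      rw [orderOf_eq_iff two_pos] at h1 h2
      have hx2 : x⁻¹ = x := inv_eq_of_mul_eq_one_right (by rw [← sq]; exact h1.1)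
      refine eq_inv_of_mul_eq_one_right ?_
      rw [hx2, ← mul_assoc, ← mul_assoc, mul_assoc (c * x), ← sq]
      exact h2.1
    refine ⟨⟨⟨fun a b => Subtype.ext ?_⟩⟩, hcinv⟩
    have hi := (hcinv w hwQ hwQC).2
    have h1 := hi _ (mul_mem a.2 b.2)
    rw [show w * ((a : G) * b) * w⁻¹ = (w * a * w⁻¹) * (w * b * w⁻¹) by group, hi _ a.2, hi _ b.2,
      mul_inv_rev] at h1
    have h2 := congrArg (·⁻¹) h1
    simp only [mul_inv_rev, inv_inv] at h2
    exact h2.symm
  · rintro ⟨hPcyc, hcase⟩ H hnormal hqcyc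
    let S : Sylow p H := default
    haveI := hnormal S
    haveI := hqcyc S
    obtain ⟨P₁, hP₁⟩ := (S.2.map H.subtype).exists_le_sylow
    obtain ⟨g, hg⟩ := MulAction.exists_smul_eq G P P₁
    haveI hP₁cyc : IsCyclic (P₁ : Subgroup G) :=
      isCyclic_of_surjective (P.equiv P₁) (P.equiv P₁).surjective
    haveI : IsCyclic ((S : Subgroup H).map H.subtype) := Subgroup.isCyclic_of_le hP₁
    haveI hScyc : IsCyclic (S : Subgroup H) :=
      isCyclic_of_injective ((S : Subgroup H).equivMapOfInjective _ H.subtype_injective).toMonoidHom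
        ((S : Subgroup H).equivMapOfInjective _ H.subtype_injective).injective
    obtain ⟨s, hs⟩ := IsCyclic.exists_generator (α := (S : Subgroup H))
    obtain ⟨k, hk⟩ := IsPGroup.iff_card.mp S.2
    have hso : orderOf (s : H) = p ^ k := by
      rw [Subgroup.orderOf_coe, orderOf_eq_card_of_forall_mem_zpowers hs, hk]
    have hSs : (S : Subgroup H) = Subgroup.zpowers (s : H) := by
      refine le_antisymm (fun y hy => ?_) (Subgroup.zpowers_le.mpr s.2)
      obtain ⟨i, hi⟩ := Subgroup.mem_zpowers_iff.mp (hs ⟨y, hy⟩)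
      exact Subgroup.mem_zpowers_iff.mpr ⟨i, by rw [← Subgroup.coe_zpow, hi]⟩
    set m := Nat.card (H ⧸ (S : Subgroup H)) with hm
    have hHcard : Nat.card H = m * p ^ k := by
      rw [hm, ← hk]; exact Subgroup.card_eq_card_quotient_mul_card_subgroup _
    -- elements of `p`-power order lie in `S`
    have hpS : ∀ a : H, (∃ j, orderOf a = p ^ j) → a ∈ (S : Subgroup H) := by
      rintro a ⟨j, hj⟩
      obtain ⟨T, hT⟩ := (IsPGroup.of_card (G := Subgroup.zpowers a) (n := j)
        (by rw [Nat.card_zpowers, hj])).exists_le_sylow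
      obtain ⟨c, hc⟩ := MulAction.exists_smul_eq H S T
      rw [Sylow.smul_eq_of_normal] at hc
      rw [hc]; exact hT (Subgroup.mem_zpowers a)
    by_cases hcent : ∀ h : H, (orderOf h).Coprime p → h * (s : H) = s * h
    · -- a central Sylow subgroup with cyclic quotient
      left
      obtain ⟨q, hq⟩ := IsCyclic.exists_generator (α := H ⧸ (S : Subgroup H))
      obtain ⟨t, rfl⟩ := QuotientGroup.mk_surjective q
      obtain ⟨a, b, htab, ha, hb, -, -⟩ := exists_parts (p := p) t
      have hbgen : ((t : H) : H ⧸ (S : Subgroup H)) = (b : H ⧸ (S : Subgroup H)) := by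
        rw [htab, QuotientGroup.mk_mul, (QuotientGroup.eq_one_iff a).mpr (hpS a ha), one_mul]
      have hmb : m ∣ orderOf b := by
        rw [hm, ← orderOf_eq_card_of_forall_mem_zpowers hq, hbgen]
        exact orderOf_map_dvd (QuotientGroup.mk' (S : Subgroup H)) b
      refine isCyclic_of_orderOf_eq_card (b * (s : H)) (le_antisymm ?_ ?_)
      · exact Nat.le_of_dvd Nat.card_pos (orderOf_dvd_natCard _)
      · rw [(show Commute b (s : H) from hcent b hb).orderOf_mul_eq_mul_orderOf_of_coprime
            (by rw [hso]; exact hb.pow_right k), hso, hHcard]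
        exact Nat.mul_le_mul_right _ (Nat.le_of_dvd (orderOf_pos b) hmb)
    push Not at hcent
    obtain ⟨h, hhp, hhs⟩ := hcent
    have hk0 : k ≠ 0 := fun h0 => hhs (by
      rw [h0, pow_zero, orderOf_eq_one_iff] at hso; rw [hso, one_mul, mul_one])
    set Q := Subgroup.zpowers ((s : H) : G) ⊓ Subgroup.zpowers (((s : H) : G) ^ p ^ (k - 1)) with hQdef
    have hQe : Q = Subgroup.zpowers (((s : H) : G) ^ p ^ (k - 1)) :=
      inf_eq_right.mpr (Subgroup.zpowers_le.mpr (Subgroup.npow_mem_zpowers _ _))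
    have hsG : orderOf ((s : H) : G) = p ^ k := by rw [Subgroup.orderOf_coe, hso]
    have hQc : Nat.card Q = p := by
      rw [hQe, Nat.card_zpowers, orderOf_pow, hsG, Nat.gcd_eq_right (pow_dvd_pow p (Nat.sub_le k 1)),
        Nat.pow_div (Nat.sub_le k 1) hpp.pos, show k - (k - 1) = 1 by omega, pow_one]
    have hQle : Q ≤ Subgroup.zpowers ((s : H) : G) := inf_le_left
    have hSmap : (S : Subgroup H).map H.subtype = Subgroup.zpowers ((s : H) : G) := by
      exact (congrArg (Subgroup.map H.subtype) hSs).trans (MonoidHom.map_zpowers _ _)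
    have hnormS : ∀ u : H, ∀ y ∈ Subgroup.zpowers ((s : H) : G),
        (u : G) * y * (u : G)⁻¹ ∈ Subgroup.zpowers ((s : H) : G) := by
      intro u y hy
      rw [← hSmap] at hy ⊢
      obtain ⟨z, hz, rfl⟩ := hy
      exact ⟨u * z * u⁻¹, (hnormal S).conj_mem z hz u, by simp⟩
    have hQnorm : ∀ u : H, (u : G) ∈ Subgroup.normalizer (Q : Set G) := by
      intro u
      have key : ∀ v : H, ∀ y ∈ Q, (v : G) * y * (v : G)⁻¹ ∈ Q := fun v y hy =>
        mem_of_cyclic hQle hQc (hnormS v y (hQle hy)) (by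
          have : y ^ p = 1 := by
            have h1 : (⟨y, hy⟩ : Q) ^ Nat.card Q = 1 := pow_card_eq_one'
            rw [hQc] at h1
            exact congrArg Subtype.val h1
          rw [conj_pow, this, mul_one, mul_inv_cancel])
      refine Subgroup.mem_normalizer_iff.mpr fun y => ⟨key u y, fun hy => ?_⟩
      simpa [mul_assoc] using key u⁻¹ _ hy
    have hhQ : (h : G) ∉ Subgroup.centralizer (Q : Set G) := by
      intro hc
      refine hhs (Subtype.ext ?_)
      refine commute_of_fixes (p := p) hsG (by rwa [Subgroup.orderOf_coe])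
        (hnormS h _ (Subgroup.mem_zpowers _)) fun y hy hyp => ?_
      exact (Subgroup.mem_centralizer_iff.mp hc y (mem_of_cyclic hQle hQc hy hyp)).symm
    rcases hcase with hNC | ⟨-, hinv⟩
    · -- a normal complement centralizes
      exfalso
      obtain ⟨P₂, K, hKn, hKc⟩ :=
        CfsgLib.Transfer.hasNormalPComplement_of_normalizer_le_centralizer P hNC.le
      refine hhs ?_
      haveI := hKn
      haveI hP₂c : IsCyclic (P₂ : Subgroup G) :=
        isCyclic_of_surjective (P.equiv P₂) (P.equiv P₂).surjective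
      have hqc : ∀ a b : G ⧸ K, a * b = b * a := by
        have e := hKc.symm.QuotientMulEquiv
        haveI : IsCyclic (G ⧸ K) := isCyclic_of_surjective e.symm.toMonoidHom e.symm.surjective
        intro a b
        letI : CommGroup (G ⧸ K) := IsCyclic.commGroup
        exact mul_comm a b
      have hu : (h : G) * (s : H) * (h : G)⁻¹ * ((s : H) : G)⁻¹ ∈ K ⊓ Subgroup.zpowers ((s : H) : G) := by
        refine ⟨(QuotientGroup.eq_one_iff _).mp ?_,
          (Subgroup.zpowers ((s : H) : G)).mul_mem (hnormS h _ (Subgroup.mem_zpowers _))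
            ((Subgroup.zpowers ((s : H) : G)).inv_mem (Subgroup.mem_zpowers _))⟩
        simp only [QuotientGroup.mk_mul, QuotientGroup.mk_inv]
        rw [hqc ((h : G) : G ⧸ K), mul_inv_cancel_right, mul_inv_cancel]
      have hbot : K ⊓ Subgroup.zpowers ((s : H) : G) = ⊥ := by
        refine Subgroup.inf_eq_bot_of_coprime ?_
        rw [Nat.card_zpowers, hsG]
        refine Nat.Coprime.pow_right k ((hpp.coprime_iff_not_dvd.mpr fun hd => ?_).symm)
        have h2 : K.index = Nat.card (P₂ : Subgroup G) := hKc.symm.index_eq_card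
        have h3 := P₂.not_dvd_index
        rw [show (P₂ : Subgroup G).index = Nat.card K from hKc.index_eq_card] at h3
        exact h3 hd
      rw [hbot, Subgroup.mem_bot, mul_inv_eq_one, mul_inv_eq_iff_eq_mul] at hu
      exact Subtype.ext hu
    -- the hypothesis at a conjugate of `Q`
    have hQinv : ∀ x : G, x ∈ Subgroup.normalizer (Q : Set G) → x ∉ Subgroup.centralizer (Q : Set G) →
        orderOf x = 2 ∧ ∀ c : G, c ∈ Subgroup.centralizer (Q : Set G) → x * c * x⁻¹ = c⁻¹ := by
      intro x hx hxC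
      set e := (MulAut.conj g⁻¹).toMonoidHom with he
      have hQ'P : Q.map e ≤ (P : Subgroup G) := by
        rintro _ ⟨y, hy, rfl⟩
        have h1 : y ∈ (P₁ : Subgroup G) := hP₁ (hSmap ▸ hQle hy)
        rw [← hg, Sylow.coe_subgroup_smul, Subgroup.mem_pointwise_smul_iff_inv_smul_mem] at h1
        simpa [he, MulAut.smul_def, mul_assoc] using h1
      have hQ'c : Nat.card (Q.map e) = p := by
        rw [← hQc]
        exact (Nat.card_congr (Q.equivMapOfInjective e (MulAut.conj g⁻¹).injective).toEquiv).symm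
      obtain ⟨-, h2⟩ := hinv (Q.map e) hQ'P hQ'c
      have hconj : ∀ y, e y = g⁻¹ * y * g := fun y => by simp [he]
      have hcen : ∀ c, e c ∈ Subgroup.centralizer (Q.map e : Set G) ↔ c ∈ Subgroup.centralizer (Q : Set G) := by
        intro c
        simp only [Subgroup.mem_centralizer_iff, SetLike.mem_coe, Subgroup.mem_map]
        constructor
        · intro h y hy
          have := h _ ⟨y, hy, rfl⟩
          rw [← map_mul, ← map_mul] at this
          exact (MulAut.conj g⁻¹).injective this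
        · rintro h _ ⟨y, hy, rfl⟩
          rw [← map_mul, ← map_mul, h y hy]
      obtain ⟨ho, hi⟩ := h2 (e x) (by
        refine Subgroup.mem_normalizer_iff.mpr fun y => ?_
        obtain ⟨z, rfl⟩ := (MulAut.conj g⁻¹).surjective y
        show e z ∈ Q.map e ↔ e x * e z * (e x)⁻¹ ∈ Q.map e
        rw [← map_inv, ← map_mul, ← map_mul,
          Subgroup.mem_map_iff_mem (MulAut.conj g⁻¹).injective,
          Subgroup.mem_map_iff_mem (MulAut.conj g⁻¹).injective]
        exact Subgroup.mem_normalizer_iff.mp hx z) (fun h => hxC ((hcen x).mp h))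
      refine ⟨by rw [← ho]; exact ((MulAut.conj g⁻¹).orderOf_eq x).symm, fun c hc => ?_⟩
      have h3 := hi (e c) ((hcen c).mpr hc)
      rw [← map_inv, ← map_mul, ← map_mul, ← map_inv] at h3
      exact (MulAut.conj g⁻¹).injective h3
    obtain ⟨hh2, hhinv⟩ := hQinv (h : G) (hQnorm h) hhQ
    have hQcomm : ((s : H) : G) ∈ Subgroup.centralizer (Q : Set G) :=
      Subgroup.mem_centralizer_iff.mpr fun y hy => by
        obtain ⟨i, rfl⟩ := Subgroup.mem_zpowers_iff.mp (hQle hy)
        exact (Commute.zpow_self _ i).eq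
    -- the centralizer of `Q` in `H` is `S`
    have hCS : ∀ c : H, (c : G) ∈ Subgroup.centralizer (Q : Set G) → c ∈ (S : Subgroup H) := by
      intro c hc
      obtain ⟨a, b, hcab, ha, hb, -, hbc⟩ := exists_parts (p := p) c
      have hbQ : (b : G) ∈ Subgroup.centralizer (Q : Set G) := by
        obtain ⟨i, rfl⟩ := Subgroup.mem_zpowers_iff.mp hbc
        simpa using zpow_mem hc i
      have hi := hhinv _ hbQ
      -- the quotient is abelian
      obtain ⟨q, hq⟩ := IsCyclic.exists_generator (α := H ⧸ (S : Subgroup H))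
      have hqcomm : ∀ u v : H ⧸ (S : Subgroup H), u * v = v * u := by
        intro u v
        obtain ⟨i, rfl⟩ := Subgroup.mem_zpowers_iff.mp (hq u)
        obtain ⟨j, rfl⟩ := Subgroup.mem_zpowers_iff.mp (hq v)
        rw [← zpow_add, ← zpow_add, add_comm]
      have hb2 : ((b : H ⧸ (S : Subgroup H))) * b = 1 := by
        have h1 : h * b * h⁻¹ = b⁻¹ := Subtype.ext (by simpa using hi)
        have h2 := congrArg (fun u : H => (u : H ⧸ (S : Subgroup H))) h1
        simp only [QuotientGroup.mk_mul, QuotientGroup.mk_inv] at h2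
        rw [hqcomm ((h : H) : H ⧸ (S : Subgroup H)), mul_inv_cancel_right] at h2
        conv_lhs => arg 1; rw [h2]
        exact inv_mul_cancel _
      have hbS : b ∈ (S : Subgroup H) := by
        by_contra hbS
        -- a cyclic group has at most one involution
        have hb1 : orderOf ((b : H ⧸ (S : Subgroup H))) = 2 := by
          refine orderOf_eq_prime (by rw [sq]; exact hb2) fun h1 => hbS ((QuotientGroup.eq_one_iff b).mp h1)
        have hh1 : orderOf ((h : H ⧸ (S : Subgroup H))) = 2 := by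
          refine orderOf_eq_prime ?_ fun h1 => hhQ ?_
          · have : h ^ 2 = 1 := Subtype.ext (by
              rw [SubmonoidClass.coe_pow, ← hh2, pow_orderOf_eq_one]; rfl)
            rw [← QuotientGroup.mk_pow, this, QuotientGroup.mk_one]
          · have h2 := (QuotientGroup.eq_one_iff h).mp h1
            rw [hSs, Subgroup.mem_zpowers_iff] at h2
            obtain ⟨i, hi⟩ := h2
            rw [← hi, Subgroup.coe_zpow]
            exact zpow_mem hQcomm i
        obtain ⟨q', hq'⟩ := IsCyclic.exists_generator (α := H ⧸ (S : Subgroup H))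
        have heq : Subgroup.zpowers ((b : H ⧸ (S : Subgroup H))) = Subgroup.zpowers ((h : H ⧸ (S : Subgroup H))) := by
          refine Subgroup.eq_of_le_of_card_ge (Subgroup.zpowers_le.mpr ?_)
            (by rw [Nat.card_zpowers, Nat.card_zpowers, hb1, hh1])
          refine mem_of_cyclic (p := 2) (hp := ⟨Nat.prime_two⟩) (s := q') (fun u _ => hq' u)
            (by rw [Nat.card_zpowers, hh1]) (hq' _) (by rw [← hb1, pow_orderOf_eq_one])
        have hmem : ((b : H ⧸ (S : Subgroup H))) ∈ Subgroup.zpowers ((h : H ⧸ (S : Subgroup H))) :=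
          heq ▸ Subgroup.mem_zpowers _
        obtain ⟨i, hi, hpow⟩ : ∃ i, i < 2 ∧ ((h : H ⧸ (S : Subgroup H))) ^ i = b := by
          obtain ⟨i, hi⟩ := mem_powers_iff_mem_zpowers.mpr hmem
          simp only at hi
          exact ⟨i % 2, Nat.mod_lt _ two_pos, by rw [← hh1, pow_mod_orderOf]; exact hi⟩
        interval_cases i
        · rw [pow_zero] at hpow
          exact hbS ((QuotientGroup.eq_one_iff b).mp hpow.symm)
        · rw [pow_one] at hpow
          have h4 := QuotientGroup.eq.mp hpow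
          rw [hSs, Subgroup.mem_zpowers_iff] at h4
          obtain ⟨i, hi⟩ := h4
          refine hhQ ?_
          have h5 : (h : G) = (b : G) * (((s : H) : G) ^ i)⁻¹ := by
            have h6 : ((s : H) : G) ^ i = (h : G)⁻¹ * (b : G) := by
              rw [← Subgroup.coe_zpow, hi]; rfl
            rw [h6, mul_inv_rev, inv_inv, mul_inv_cancel_left]
          rw [h5]
          exact mul_mem hbQ (inv_mem (zpow_mem hQcomm i))
      rw [hcab]
      exact mul_mem (hpS a ha) hbS
    -- so `H` is dihedral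
    right
    refine ⟨k, CfsgLib.Classical.nonempty_mulEquiv_dihedralGroup (x := (s : H)) (s := h) (pow_pos hpp.pos k)
      hso (Subtype.ext ?_) (Subtype.ext ?_) ?_ ?_⟩
    · rw [Subgroup.coe_mul, ← sq, ← hh2, pow_orderOf_eq_one]; rfl
    · simpa using hhinv _ hQcomm
    · intro hmem
      obtain ⟨i, hi⟩ := Subgroup.mem_zpowers_iff.mp hmem
      refine hhQ ?_
      rw [← hi, Subgroup.coe_zpow]
      exact zpow_mem hQcomm i
    · have h2 : (S : Subgroup H).index = 2 := by
        rw [Subgroup.index_eq_two_iff]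
        refine ⟨h, fun u => ?_⟩
        by_cases hu : u ∈ (S : Subgroup H)
        · refine Or.inr ⟨hu, fun h1 => hhQ ?_⟩
          have h3 : h ∈ (S : Subgroup H) := by simpa using mul_mem (inv_mem hu) h1
          rw [hSs, Subgroup.mem_zpowers_iff] at h3
          obtain ⟨i, hi⟩ := h3
          rw [← hi, Subgroup.coe_zpow]
          exact zpow_mem hQcomm i
        · refine Or.inl ⟨hCS _ ?_, hu⟩
          have huQ : (u : G) ∉ Subgroup.centralizer (Q : Set G) := fun h1 => hu (hCS u h1)
          obtain ⟨-, huinv⟩ := hQinv _ (hQnorm u) huQ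
          refine Subgroup.mem_centralizer_iff.mpr fun y hy => ?_
          have hyC : y ∈ Subgroup.centralizer (Q : Set G) := by
            obtain ⟨i, rfl⟩ := Subgroup.mem_zpowers_iff.mp (hQle hy)
            exact zpow_mem hQcomm i
          have h7 : ((u * h : H) : G) * y * ((u * h : H) : G)⁻¹ = y := by
            calc ((u * h : H) : G) * y * ((u * h : H) : G)⁻¹
                = (u : G) * ((h : G) * y * (h : G)⁻¹) * (u : G)⁻¹ := by rw [Subgroup.coe_mul]; group
              _ = y := by rw [hhinv y hyC, huinv y⁻¹ (inv_mem hyC), inv_inv]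
          exact (mul_inv_eq_iff_eq_mul.mp h7).symm
      rw [← (S : Subgroup H).card_mul_index, h2, hk, mul_comm]


end Cfsg.Agent.S4082
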