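import Cfsg.Statements.S4083
import Mathlib
import Cfsg.Agent.Lib.Classical.Dihedral
import Cfsg.Agent.Lib.Involutions.OrderTwelve

set_option autoImplicit false
set_option linter.style.haveILetI false
open Cfsg

namespace Cfsg.Agent.S4083

section
variable {G : Type*} [Group G] [Finite G] {p : ℕ} [hp : Fact p.Prime]

/-- The `p`-part of an element lies in any normal Sylow subgroup; what remains is prime to `p`. -/
theorem exists_parts (g : G) : ∃ a b : G, g = a * b ∧ (∃ k, orderOf a = p ^ k) ∧
    (orderOf b).Coprime p ∧ a ∈ Subgroup.zpowers g ∧ b ∈ Subgroup.zpowers g := by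
  set o := orderOf g
  set A := p ^ o.factorization p with hA
  set B := o / A with hB
  have ho : A * B = o := Nat.ordProj_mul_ordCompl_eq_self o p
  have hcop : (B : ℕ).Coprime p := (Nat.coprime_ordCompl hp.out (orderOf_pos g).ne').symm
  have hcop' : A.Coprime B := Nat.Coprime.pow_left _ hcop.symm
  obtain ⟨u, v, huv⟩ : ∃ u v : ℤ, (A : ℤ) * u + (B : ℤ) * v = 1 :=
    ⟨Nat.gcdA A B, Nat.gcdB A B, by rw [← Nat.gcd_eq_gcd_ab, hcop'.gcd_eq_one]; rfl⟩
  refine ⟨g ^ ((B : ℤ) * v), g ^ ((A : ℤ) * u), ?_, ?_, ?_, Subgroup.zpow_mem_zpowers g _,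
    Subgroup.zpow_mem_zpowers g _⟩
  · rw [← zpow_add, add_comm, huv, zpow_one]
  · obtain ⟨k, -, hk⟩ := (Nat.dvd_prime_pow hp.out).mp
      (show orderOf (g ^ ((B : ℤ) * v)) ∣ p ^ o.factorization p from orderOf_dvd_of_pow_eq_one (by
        rw [← zpow_natCast, ← zpow_mul, show (B : ℤ) * v * ((A : ℕ) : ℤ) = ((o : ℕ) : ℤ) * v by
          rw [← ho]; push_cast; ring, zpow_mul, zpow_natCast, pow_orderOf_eq_one, one_zpow]))
    exact ⟨k, hk⟩
  · refine hcop.coprime_dvd_left (orderOf_dvd_of_pow_eq_one ?_)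
    rw [← zpow_natCast, ← zpow_mul, show (A : ℤ) * u * ((B : ℕ) : ℤ) = ((o : ℕ) : ℤ) * u by
      rw [← ho]; push_cast; ring, zpow_mul, zpow_natCast, pow_orderOf_eq_one, one_zpow]

/-- An element of order prime to `p` fixing the subgroup of order `p` of a cyclic `p`-group
centralizes the group. -/
theorem commute_of_fixes {s h : G} {k : ℕ} (hs : orderOf s = p ^ k)
    (hh : (orderOf h).Coprime p) (hnorm : h * s * h⁻¹ ∈ Subgroup.zpowers s)
    (hfix : ∀ y ∈ Subgroup.zpowers s, y ^ p = 1 → h * y = y * h) : h * s = s * h := by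
  obtain ⟨r, hr⟩ := Subgroup.mem_zpowers_iff.mp hnorm
  cases k with
  | zero =>
    rw [pow_zero, orderOf_eq_one_iff] at hs
    simp [hs]
  | succ k =>
  have hiter : ∀ j : ℕ, h ^ j * s * (h ^ j)⁻¹ = s ^ (r ^ j) := by
    intro j
    induction j with
    | zero => simp
    | succ j ih =>
      calc h ^ (j + 1) * s * (h ^ (j + 1))⁻¹ = h ^ j * (h * s * h⁻¹) * (h ^ j)⁻¹ := by
            rw [pow_succ]; group
        _ = (h ^ j * s * (h ^ j)⁻¹) ^ r := by rw [← hr, conj_zpow]
        _ = s ^ (r ^ (j + 1)) := by rw [ih, ← zpow_mul, pow_succ]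
  -- the exponent is congruent to one modulo `p`
  have hy := hfix (s ^ p ^ k) (Subgroup.npow_mem_zpowers s _)
    (by rw [← pow_mul, ← pow_succ, ← hs, pow_orderOf_eq_one])
  have hr1 : (p : ℤ) ∣ r - 1 := by
    have h1 : s ^ ((p : ℤ) ^ k * (r - 1)) = 1 := by
      have h2 : h * s ^ p ^ k * h⁻¹ = s ^ p ^ k := by rw [hy, mul_inv_cancel_right]
      rw [← conj_pow, ← hr, ← zpow_natCast, ← zpow_mul] at h2
      rw [mul_sub, mul_one, zpow_sub, mul_comm _ r, ← Nat.cast_pow, h2, zpow_natCast, mul_inv_cancel]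
    rw [← orderOf_dvd_iff_zpow_eq_one, hs, Nat.cast_pow, pow_succ] at h1
    exact (mul_dvd_mul_iff_left (pow_ne_zero k (by exact_mod_cast hp.out.ne_zero))).mp h1
  have hpow : h ^ p ^ k * s = s * h ^ p ^ k := by
    have h1 := dvd_sub_pow_of_dvd_sub (R := ℤ) (a := r) (b := 1) hr1 k
    rw [one_pow] at h1
    obtain ⟨t, ht⟩ := h1
    have h2 := hiter (p ^ k)
    rw [show r ^ p ^ k = 1 + ((p : ℤ) ^ (k + 1)) * t by linarith, zpow_add, zpow_one, zpow_mul,
      show s ^ ((p : ℤ) ^ (k + 1)) = 1 by
        rw [← Nat.cast_pow, zpow_natCast, ← hs, pow_orderOf_eq_one], one_zpow, mul_one] at h2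
    exact mul_inv_eq_iff_eq_mul.mp h2
  obtain ⟨e, he⟩ := exists_pow_eq_self_of_coprime (x := h) (n := p ^ k) ((hh.symm.pow_left k))
  have h3 : Commute (h ^ p ^ k) s := hpow
  rw [← he]
  exact (h3.pow_left e).eq

end

variable {G : Type*} [Group G] [Finite G]

/-- In a cyclic group there is at most one involution. -/
theorem invol_unique {s y z : G} (hy : y ∈ Subgroup.zpowers s) (hz : z ∈ Subgroup.zpowers s)
    (hy2 : orderOf y = 2) (hz2 : orderOf z = 2) : y = z := by
  have hyz : ∀ {u : G}, u ∈ Subgroup.zpowers s → orderOf u = 2 → u = s ^ (orderOf s / 2) := by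
    intro u hu hu2
    obtain ⟨a, ha, rfl⟩ : ∃ a, a < orderOf s ∧ s ^ a = u := by
      obtain ⟨a, ha⟩ := mem_powers_iff_mem_zpowers.mpr hu
      simp only at ha
      exact ⟨a % orderOf s, Nat.mod_lt _ (orderOf_pos s), by rw [pow_mod_orderOf]; exact ha⟩
    have h1 : orderOf s ∣ a * 2 := orderOf_dvd_of_pow_eq_one (by
      rw [pow_mul, ← hu2, pow_orderOf_eq_one])
    obtain ⟨c, hc⟩ := h1
    have ha0 : a ≠ 0 := by rintro rfl; simp at hu2
    have hc0 : c ≠ 0 := by rintro rfl; omega
    have hc1 : c < 2 := Nat.lt_of_mul_lt_mul_left (a := orderOf s) (by omega)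
    obtain rfl : c = 1 := by omega
    congr 1; omega
  rw [hyz hy hy2, hyz hz hz2]

/-- An element of odd order normalizing a cyclic `2`-group centralizes it. -/
theorem commute_cyclic {s h : G} {k : ℕ} (hs : orderOf s = 2 ^ k) (hh : (orderOf h).Coprime 2)
    (hnorm : h * s * h⁻¹ ∈ Subgroup.zpowers s) : h * s = s * h := by
  haveI : Fact (Nat.Prime 2) := ⟨Nat.prime_two⟩
  refine commute_of_fixes (p := 2) hs hh hnorm fun y hy hy2 => ?_
  by_cases hy1 : y = 1
  · simp [hy1]
  have h1 := orderOf_eq_prime hy2 hy1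
  have h2 : h * y * h⁻¹ ∈ Subgroup.zpowers s := by
    obtain ⟨i, rfl⟩ := Subgroup.mem_zpowers_iff.mp hy
    rw [← conj_zpow]
    exact Subgroup.zpow_mem _ hnorm i
  have h3 : orderOf (h * y * h⁻¹) = 2 := by
    rw [← h1]; exact (MulAut.conj h).orderOf_eq y
  exact mul_inv_eq_iff_eq_mul.mp (invol_unique h2 hy h3 h1)

omit [Finite G] in
/-- Two distinct commuting involutions generate a four-group. -/
theorem exists_four {z t : G} (hz : orderOf z = 2) (ht : orderOf t = 2) (hne : z ≠ t)
    (hc : Commute z t) : ∃ K : Subgroup G, Nat.card K = 4 ∧ (∀ k ∈ K, k ^ 2 = 1) ∧ z ∈ K ∧ t ∈ K := by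
  classical
  have hz2 : z * z = 1 := by rw [← sq, ← hz, pow_orderOf_eq_one]
  have ht2 : t * t = 1 := by rw [← sq, ← ht, pow_orderOf_eq_one]
  have hz1 : z ≠ 1 := fun h => by simp [h] at hz
  have ht1 : t ≠ 1 := fun h => by simp [h] at ht
  have htz : t * z = z * t := hc.eq.symm
  have hzt : z * (z * t) = t := by rw [← mul_assoc, hz2, one_mul]
  have htzt : t * (z * t) = z := by rw [htz.symm, ← mul_assoc, ht2, one_mul]
  have hztz : z * t * z = t := by rw [mul_assoc, htz, hzt]
  have hztt : z * t * t = z := by rw [mul_assoc, ht2, mul_one]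
  have hztzt : z * t * (z * t) = 1 := by rw [← mul_assoc, hztz, ht2]
  let K : Subgroup G :=
    { carrier := {1, z, t, z * t}
      one_mem' := by simp
      mul_mem' := by
        intro a b ha hb
        simp only [Set.mem_insert_iff, Set.mem_singleton_iff] at ha hb ⊢
        rcases ha with rfl | rfl | rfl | rfl <;> rcases hb with rfl | rfl | rfl | rfl <;>
          simp [hz2, ht2, htz, hzt, htzt, hztz, hztt, hztzt]
      inv_mem' := by
        intro a ha
        simp only [Set.mem_insert_iff, Set.mem_singleton_iff] at ha ⊢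
        have key : ∀ {u : G}, u * u = 1 → u⁻¹ = u := fun h => inv_eq_of_mul_eq_one_right h
        rcases ha with rfl | rfl | rfl | rfl
        · simp
        · simp [key hz2]
        · simp [key ht2]
        · simp [key hztzt] }
  refine ⟨K, ?_, ?_, Or.inr (Or.inl rfl), Or.inr (Or.inr (Or.inl rfl))⟩
  · show Nat.card ({1, z, t, z * t} : Set G) = 4
    rw [Nat.card_coe_set_eq, Set.ncard_insert_of_notMem, Set.ncard_insert_of_notMem, Set.ncard_pair]
    · intro h; exact hz1 (by simpa using h.symm)
    · simp only [Set.mem_insert_iff, Set.mem_singleton_iff, not_or]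
      exact ⟨hne, fun h => ht1 (by simpa using h.symm)⟩
    · simp only [Set.mem_insert_iff, Set.mem_singleton_iff, not_or]
      refine ⟨fun h => hz1 h.symm, fun h => ht1 h.symm, fun h => hne ?_⟩
      calc z = z * (z * t) := by rw [← h, mul_one]
        _ = t := hzt
  · intro k hk
    change k ∈ ({1, z, t, z * t} : Set G) at hk
    simp only [Set.mem_insert_iff, Set.mem_singleton_iff] at hk
    rw [sq]
    rcases hk with rfl | rfl | rfl | rfl <;> simp [hz2, ht2, hztzt]

omit [Finite G] in
/-- The subgroups of a dihedral group of `2`-power order. -/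
theorem cyclic_or_dihedral_data {A : Type*} [Group A] [Finite A] {n : ℕ}
    (ψ : A →* DihedralGroup (2 ^ n)) (hψ : Function.Injective ψ) :
    IsCyclic A ∨ ∃ (r t : A) (m : ℕ), 1 ≤ m ∧ orderOf r = 2 ^ m ∧ t * t = 1 ∧ t * r * t⁻¹ = r⁻¹ ∧
      t ∉ Subgroup.zpowers r ∧ Nat.card A = 2 * 2 ^ m ∧ ∀ x ∉ Subgroup.zpowers r, x * x = 1 := by
  classical
  set Rot := Subgroup.zpowers (DihedralGroup.r (1 : ZMod (2 ^ n))) with hRot
  have hmem : ∀ i, DihedralGroup.r i ∈ Rot := fun i => by
    obtain ⟨j, rfl⟩ := ZMod.intCast_surjective i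
    exact Subgroup.mem_zpowers_iff.mpr ⟨j, DihedralGroup.r_one_zpow j⟩
  have hnmem : ∀ i, DihedralGroup.sr i ∉ Rot := fun i h => by
    obtain ⟨j, hj⟩ := Subgroup.mem_zpowers_iff.mp h
    rw [DihedralGroup.r_one_zpow] at hj
    exact absurd hj (by simp)
  set R := Rot.comap ψ with hR
  haveI : IsCyclic R := by
    let g : R →* Rot := (ψ.comp R.subtype).codRestrict Rot fun x => x.2
    exact isCyclic_of_injective g fun a b h => Subtype.ext (hψ (congrArg Subtype.val h))
  obtain ⟨⟨r, hrR⟩, hr⟩ := IsCyclic.exists_generator (α := R)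
  have hRr : R = Subgroup.zpowers r := by
    refine le_antisymm (fun y hy => ?_) (Subgroup.zpowers_le.mpr hrR)
    obtain ⟨i, hi⟩ := Subgroup.mem_zpowers_iff.mp (hr ⟨y, hy⟩)
    exact Subgroup.mem_zpowers_iff.mpr ⟨i, congrArg Subtype.val hi⟩
  by_cases htop : ∀ x, x ∈ R
  · exact Or.inl ⟨r, fun x => Subgroup.mem_zpowers_iff.mp (hRr ▸ htop x)⟩
  push Not at htop
  obtain ⟨t, ht⟩ := htop
  have hout : ∀ x ∉ R, ∃ i, ψ x = DihedralGroup.sr i := fun x hx => by
    cases h : ψ x with
    | r i => exact absurd (show x ∈ R from (h ▸ hmem i : ψ x ∈ Rot)) hx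
    | sr i => exact ⟨i, rfl⟩
  obtain ⟨j, hj⟩ := hout t ht
  have hidx : R.index = 2 := by
    rw [Subgroup.index_eq_two_iff]
    refine ⟨t, fun x => ?_⟩
    by_cases hx : x ∈ R
    · exact Or.inr ⟨hx, fun h => ht (by simpa using mul_mem (inv_mem hx) h)⟩
    · refine Or.inl ⟨?_, hx⟩
      obtain ⟨i, hi⟩ := hout x hx
      show ψ (x * t) ∈ Rot
      rw [map_mul, hi, hj, DihedralGroup.sr_mul_sr]
      exact hmem _
  have hsq : ∀ x ∉ R, x * x = 1 := fun x hx => by
    obtain ⟨i, hi⟩ := hout x hx
    exact hψ (by rw [map_mul, hi, DihedralGroup.sr_mul_self, map_one])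
  have hA : IsPGroup 2 A := by
    refine IsPGroup.of_injective ?_ ψ hψ
    refine IsPGroup.of_card (n := n + 1) ?_
    rw [DihedralGroup.nat_card, pow_succ]; ring
  obtain ⟨m, hm⟩ := IsPGroup.iff_orderOf.mp hA r
  have hcard : Nat.card A = 2 * 2 ^ m := by
    rw [← R.card_mul_index, hidx, hRr, Nat.card_zpowers, hm, mul_comm]
  rcases Nat.eq_zero_or_pos m with rfl | hm1
  · left
    haveI : Fact (Nat.Prime 2) := ⟨Nat.prime_two⟩
    exact isCyclic_of_prime_card (p := 2) (by simpa using hcard)
  refine Or.inr ⟨r, t, m, hm1, hm, hsq t ht, ?_, hRr ▸ ht, hcard, fun x hx => hsq x (hRr ▸ hx)⟩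
  obtain ⟨i, hi⟩ : ∃ i, ψ r = DihedralGroup.r i := by
    cases h : ψ r with
    | r i => exact ⟨i, rfl⟩
    | sr i => exact absurd (h ▸ hrR : DihedralGroup.sr i ∈ Rot) (hnmem i)
  refine hψ ?_
  rw [map_mul, map_mul, map_inv, map_inv, hi, hj, DihedralGroup.inv_sr, DihedralGroup.inv_r,
    DihedralGroup.sr_mul_r, DihedralGroup.sr_mul_sr]
  congr 1; ring


/-- Let G be a finite group with Sylow 2-subgroup P. Every subgroup H of G whose Sylow 2-subgroup is normal in H with cyclic quotient is cyclic, dihedral of 2-power order, or isomorphic to the alternating group of degree 4, if and only if either P is cyclic, or P is dihedral (of order at least 4) and every elementary abelian subgroup K of order 4 of P satisfies C_G(K) = K. -/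
theorem result {G : Type*} [Group G] [Finite G] (P : Sylow 2 G) :
    (∀ H : Subgroup G, (∀ S : Sylow 2 ↥H, (S : Subgroup ↥H).Normal) →
        (∀ (S : Sylow 2 ↥H) [(S : Subgroup ↥H).Normal], IsCyclic (↥H ⧸ (S : Subgroup ↥H))) →
        IsCyclic H ∨ (∃ n : ℕ, Nonempty (H ≃* DihedralGroup (2 ^ n))) ∨ Nonempty (H ≃* alternatingGroup (Fin 4))) ↔
    (IsCyclic P ∨
      ((∃ n : ℕ, 1 ≤ n ∧ Nonempty ((P : Subgroup G) ≃* DihedralGroup (2 ^ n))) ∧
        ∀ K : Subgroup G, K ≤ P → Nat.card K = 4 → (∀ k ∈ K, k ^ 2 = 1) → Subgroup.centralizer (K : Set G) = K)) := by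
  classical
  haveI h2 : Fact (Nat.Prime 2) := ⟨Nat.prime_two⟩
  constructor
  · intro hR
    have hA4 : ∃ a b : alternatingGroup (Fin 4), a * b ≠ b * a := by decide
    have hPcase : IsCyclic P ∨ ∃ n : ℕ, 1 ≤ n ∧ Nonempty ((P : Subgroup G) ≃* DihedralGroup (2 ^ n)) := by
      have htop : ∀ S : Sylow 2 (P : Subgroup G), (S : Subgroup (P : Subgroup G)) = ⊤ := fun S =>
        (S.3 (P.2.of_equiv Subgroup.topEquiv.symm) le_top).symm
      rcases hR (P : Subgroup G) (fun S => by rw [htop S]; infer_instance) (fun S _ => by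
        haveI : Subsingleton ((P : Subgroup G) ⧸ (S : Subgroup (P : Subgroup G))) := by
          rw [htop S]; exact QuotientGroup.subsingleton_quotient_top
        exact isCyclic_of_subsingleton) with h | ⟨n, hn⟩ | ⟨φ⟩
      · exact Or.inl h
      · rcases Nat.eq_zero_or_pos n with rfl | hn1
        · left
          obtain ⟨φ⟩ := hn
          exact isCyclic_of_prime_card (p := 2) (by rw [Nat.card_congr φ.toEquiv, DihedralGroup.nat_card]; rfl)
        · exact Or.inr ⟨n, hn1, hn⟩
      · exfalso
        obtain ⟨φ⟩ := φ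
        obtain ⟨k, hk⟩ := IsPGroup.iff_card.mp P.2
        rw [Nat.card_congr φ.toEquiv, nat_card_alternatingGroup, Nat.card_fin] at hk
        have h3 : 3 ∣ 2 ^ k := hk ▸ (by decide)
        have := Nat.prime_three.dvd_of_dvd_pow h3
        omega
    refine hPcase.imp_right fun hd => ⟨hd, fun K hKP hKc hK2 => ?_⟩
    have hKcomm : ∀ a ∈ K, ∀ b ∈ K, a * b = b * a := by
      intro a ha b hb
      have key : ∀ u ∈ K, u⁻¹ = u := fun u hu => inv_eq_of_mul_eq_one_right (by rw [← sq]; exact hK2 u hu)
      calc a * b = (a * b)⁻¹ := (key _ (mul_mem ha hb)).symm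
        _ = b * a := by rw [mul_inv_rev, key a ha, key b hb]
    refine le_antisymm (fun x hx => ?_) (fun k hk => Subgroup.mem_centralizer_iff.mpr fun l hl => hKcomm l hl k hk)
    set H := K ⊔ Subgroup.zpowers x with hH
    have hKH : K ≤ H := le_sup_left
    have hxH : x ∈ H := Subgroup.mem_sup_right (Subgroup.mem_zpowers x)
    haveI hHc : IsMulCommutative H := by
      rw [hH, Subgroup.sup_eq_closure]
      refine Subgroup.isMulCommutative_closure ?_
      rintro a (ha | ha) b (hb | hb)
      · exact hKcomm a ha b hb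
      · obtain ⟨i, rfl⟩ := Subgroup.mem_zpowers_iff.mp hb
        exact (Commute.zpow_right (show Commute a x from Subgroup.mem_centralizer_iff.mp hx a ha) i).eq
      · obtain ⟨i, rfl⟩ := Subgroup.mem_zpowers_iff.mp ha
        exact (Commute.zpow_right (show Commute b x from Subgroup.mem_centralizer_iff.mp hx b hb) i).eq.symm
      · obtain ⟨i, rfl⟩ := Subgroup.mem_zpowers_iff.mp ha
        obtain ⟨j, rfl⟩ := Subgroup.mem_zpowers_iff.mp hb
        exact (Commute.zpow_zpow (Commute.refl x) i j).eq
    have hnormal : ∀ S : Sylow 2 ↥H, (S : Subgroup ↥H).Normal := fun S =>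
      ⟨fun a ha g => by rw [mul_comm' g a, mul_inv_cancel_right]; exact ha⟩
    have hqcyc : ∀ (S : Sylow 2 ↥H) [(S : Subgroup ↥H).Normal],
        IsCyclic (↥H ⧸ (S : Subgroup ↥H)) := by
      intro S _
      have hKpg : IsPGroup 2 (K.subgroupOf H) :=
        (IsPGroup.of_card (n := 2) (by rw [hKc]; rfl) : IsPGroup 2 K).comap_subtype
      haveI : (K.subgroupOf H).Normal := ⟨fun a ha g => by rw [mul_comm' g a, mul_inv_cancel_right]; exact ha⟩
      have hle : K.subgroupOf H ≤ (S : Subgroup H) := hKpg.le_sylow_of_normal S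
      set f := QuotientGroup.mk' (S : Subgroup H) with hf
      refine ⟨f ⟨x, hxH⟩, fun q => ?_⟩
      obtain ⟨⟨h, hh⟩, rfl⟩ := QuotientGroup.mk'_surjective (S : Subgroup H) q
      have hmap : (⊤ : Subgroup H) = K.subgroupOf H ⊔ Subgroup.zpowers (⟨x, hxH⟩ : H) := by
        apply Subgroup.map_injective H.subtype_injective
        rw [Subgroup.map_sup, Subgroup.map_subgroupOf_eq_of_le hKH, MonoidHom.map_zpowers,
          ← MonoidHom.range_eq_map, Subgroup.range_subtype]
        rfl
      have h1 : f ⟨h, hh⟩ ∈ (⊤ : Subgroup H).map f := Subgroup.mem_map_of_mem f trivial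
      rw [hmap, Subgroup.map_sup,
        (Subgroup.map_eq_bot_iff _).mpr (hle.trans_eq (QuotientGroup.ker_mk' _).symm), bot_sup_eq,
        MonoidHom.map_zpowers] at h1
      exact Subgroup.mem_zpowers_iff.mp h1
    rcases hR H hnormal hqcyc with hc | ⟨n, ⟨φ⟩⟩ | ⟨φ⟩
    · exfalso
      haveI : IsCyclic K := Subgroup.isCyclic_of_le hKH
      obtain ⟨g, hg⟩ := IsCyclic.exists_generator (α := K)
      have h1 := orderOf_eq_card_of_forall_mem_zpowers hg
      have h3 : orderOf g ∣ 2 := orderOf_dvd_of_pow_eq_one (Subtype.ext (hK2 g g.2))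
      rw [h1, hKc] at h3
      omega
    · have hn : 2 ^ n ∣ 2 := by
        have h1 : DihedralGroup.r (1 : ZMod (2 ^ n)) * DihedralGroup.sr 0
            = DihedralGroup.sr 0 * DihedralGroup.r 1 := by
          apply φ.symm.injective
          rw [map_mul, map_mul, mul_comm']
        rw [DihedralGroup.r_mul_sr, DihedralGroup.sr_mul_r] at h1
        rw [← ZMod.natCast_eq_zero_iff, Nat.cast_ofNat, ← one_add_one_eq_two]
        have h3 := (DihedralGroup.sr.inj h1).symm
        simp only [zero_add, zero_sub] at h3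
        linear_combination h3
      have hHle : Nat.card H ≤ Nat.card K := by
        rw [hKc, Nat.card_congr φ.toEquiv, DihedralGroup.nat_card]
        have := Nat.le_of_dvd two_pos hn
        omega
      rw [← Subgroup.eq_of_le_of_card_ge hKH hHle] at hxH
      exact hxH
    · exfalso
      obtain ⟨φ⟩ := φ
      obtain ⟨a, b, hab⟩ := hA4
      exact hab (φ.symm.injective (by rw [map_mul, map_mul, mul_comm']))
  · intro hP H hnormal hqcyc
    let S : Sylow 2 H := default
    haveI := hnormal S
    haveI := hqcyc S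
    obtain ⟨P₁, hP₁⟩ := (S.2.map H.subtype).exists_le_sylow
    have hSP₁ : ∀ y : H, y ∈ (S : Subgroup H) → (y : G) ∈ (P₁ : Subgroup G) := fun y hy =>
      hP₁ ⟨y, hy, rfl⟩
    obtain ⟨k, hk⟩ := IsPGroup.iff_card.mp S.2
    set m := Nat.card (H ⧸ (S : Subgroup H)) with hm
    have hHcard : Nat.card H = m * 2 ^ k := by
      rw [hm, ← hk]; exact Subgroup.card_eq_card_quotient_mul_card_subgroup _
    have hmodd : ¬ 2 ∣ m := by rw [hm]; exact S.not_dvd_index
    have hpS : ∀ a : H, (∃ j, orderOf a = 2 ^ j) → a ∈ (S : Subgroup H) := by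
      rintro a ⟨j, hj⟩
      obtain ⟨T, hT⟩ := (IsPGroup.of_card (G := Subgroup.zpowers a) (n := j)
        (by rw [Nat.card_zpowers, hj])).exists_le_sylow
      obtain ⟨c, hc⟩ := MulAction.exists_smul_eq H S T
      rw [Sylow.smul_eq_of_normal] at hc
      rw [hc]; exact hT (Subgroup.mem_zpowers a)
    -- a generator of the quotient of odd order
    obtain ⟨q, hq⟩ := IsCyclic.exists_generator (α := H ⧸ (S : Subgroup H))
    obtain ⟨t₀, rfl⟩ := QuotientGroup.mk_surjective q
    obtain ⟨a₀, b, htab, ha₀, hb, -, -⟩ := exists_parts (p := 2) t₀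
    have hbgen : ((t₀ : H) : H ⧸ (S : Subgroup H)) = (b : H ⧸ (S : Subgroup H)) := by
      rw [htab, QuotientGroup.mk_mul, (QuotientGroup.eq_one_iff a₀).mpr (hpS a₀ ha₀), one_mul]
    have hmb : m ∣ orderOf b := by
      rw [hm, ← orderOf_eq_card_of_forall_mem_zpowers hq, hbgen]
      exact orderOf_map_dvd (QuotientGroup.mk' (S : Subgroup H)) b
    -- a generator of a cyclic Sylow subgroup gives a cyclic group
    have hcyccase : IsCyclic (S : Subgroup H) → IsCyclic H := by
      intro hSc
      obtain ⟨s, hs⟩ := IsCyclic.exists_generator (α := (S : Subgroup H))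
      have hso : orderOf (s : H) = 2 ^ k := by
        rw [Subgroup.orderOf_coe, orderOf_eq_card_of_forall_mem_zpowers hs, hk]
      have hbs : b * (s : H) = s * b := by
        refine commute_cyclic hso hb ?_
        obtain ⟨i, hi⟩ := Subgroup.mem_zpowers_iff.mp (hs ⟨_, (hnormal S).conj_mem (s : H) s.2 b⟩)
        exact Subgroup.mem_zpowers_iff.mpr ⟨i, congrArg Subtype.val hi⟩
      refine isCyclic_of_orderOf_eq_card (b * (s : H)) (le_antisymm ?_ ?_)
      · exact Nat.le_of_dvd Nat.card_pos (orderOf_dvd_natCard _)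
      · rw [(show Commute b (s : H) from hbs).orderOf_mul_eq_mul_orderOf_of_coprime
            (by rw [hso]; exact hb.pow_right k), hso, hHcard]
        exact Nat.mul_le_mul_right _ (Nat.le_of_dvd (orderOf_pos b) hmb)
    rcases hP with hPc | ⟨⟨n, -, ⟨φ⟩⟩, hcent⟩
    · left
      refine hcyccase ?_
      haveI : IsCyclic (P₁ : Subgroup G) :=
        isCyclic_of_surjective (P.equiv P₁) (P.equiv P₁).surjective
      haveI : IsCyclic ((S : Subgroup H).map H.subtype) := Subgroup.isCyclic_of_le hP₁
      exact isCyclic_of_injective ((S : Subgroup H).equivMapOfInjective _ H.subtype_injective).toMonoidHom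
        ((S : Subgroup H).equivMapOfInjective _ H.subtype_injective).injective
    let ι : (S : Subgroup H) →* (P₁ : Subgroup G) :=
      (H.subtype.comp (S : Subgroup H).subtype).codRestrict _ fun x => hSP₁ x x.2
    have hι : Function.Injective ι := fun u v h => Subtype.ext (Subtype.ext (congrArg Subtype.val h :))
    rcases cyclic_or_dihedral_data (n := n)
        (φ.toMonoidHom.comp ((P.equiv P₁).symm.toMonoidHom.comp ι))
        (φ.injective.comp ((P.equiv P₁).symm.injective.comp hι)) with hSc | ⟨r, t, j, hj, hro, htt, htr, htR, hScard, hout⟩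
    · exact Or.inl (hcyccase hSc)
    -- every four subgroup is self-centralizing
    have hCH : ∀ K : Subgroup H, Nat.card K = 4 → (∀ u ∈ K, u ^ 2 = 1) →
        ∀ x : H, (∀ u ∈ K, u * x = x * u) → x ∈ K := by
      intro K hKc hK2 x hx
      obtain ⟨P₂, hP₂⟩ := ((IsPGroup.of_card (n := 2) (by rw [hKc]; rfl) : IsPGroup 2 K).map
        H.subtype).exists_le_sylow
      obtain ⟨g, hg⟩ := MulAction.exists_smul_eq G P P₂
      set e := ((MulAut.conj g⁻¹).toMonoidHom.comp H.subtype) with he
      have heinj : Function.Injective e := (MulAut.conj g⁻¹).injective.comp H.subtype_injective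
      have hle : K.map e ≤ (P : Subgroup G) := by
        rintro _ ⟨y, hy, rfl⟩
        have h1 : (y : G) ∈ (P₂ : Subgroup G) := hP₂ ⟨y, hy, rfl⟩
        rw [← hg, Sylow.coe_subgroup_smul, Subgroup.mem_pointwise_smul_iff_inv_smul_mem] at h1
        simpa [he, MulAut.smul_def, mul_assoc] using h1
      have hcK : Nat.card (K.map e) = 4 := by
        rw [← hKc]; exact (Nat.card_congr (K.equivMapOfInjective e heinj).toEquiv).symm
      have h2K : ∀ u ∈ K.map e, u ^ 2 = 1 := by
        rintro _ ⟨y, hy, rfl⟩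
        rw [← map_pow, hK2 y hy, map_one]
      have h3 : e x ∈ Subgroup.centralizer (K.map e : Set G) := by
        refine Subgroup.mem_centralizer_iff.mpr ?_
        rintro _ ⟨y, hy, rfl⟩
        rw [← map_mul, ← map_mul, hx y hy]
      rw [hcent _ hle hcK h2K] at h3
      exact (Subgroup.mem_map_iff_mem heinj).mp h3
    -- a four subgroup inside `S`
    have hzpow : orderOf (r ^ 2 ^ (j - 1)) = 2 := by
      rw [orderOf_pow, hro, Nat.gcd_eq_right (pow_dvd_pow 2 (Nat.sub_le j 1)),
        Nat.pow_div (Nat.sub_le j 1) two_pos, show j - (j - 1) = 1 by omega, pow_one]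
    have hto : orderOf t = 2 := orderOf_eq_prime (by rw [sq, htt]) fun h => htR (by rw [h]; exact one_mem _)
    have hzt : Commute (r ^ 2 ^ (j - 1)) t := by
      have h1 : t * r ^ 2 ^ (j - 1) * t⁻¹ = r ^ 2 ^ (j - 1) := by
        rw [← conj_pow, htr, inv_pow]
        refine inv_eq_of_mul_eq_one_right ?_
        have h3 := pow_orderOf_eq_one (r ^ 2 ^ (j - 1))
        rw [hzpow] at h3
        rw [← sq]; exact h3
      exact (mul_inv_eq_iff_eq_mul.mp h1).symm
    obtain ⟨K₀, hK₀c, hK₀2, -, htK₀⟩ := exists_four hzpow hto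
      (fun h => htR (h ▸ Subgroup.npow_mem_zpowers r _)) hzt
    set K := K₀.map (S : Subgroup H).subtype with hKdef
    have hKc : Nat.card K = 4 := by
      rw [← hK₀c]
      exact (Nat.card_congr (K₀.equivMapOfInjective _ (S : Subgroup H).subtype_injective).toEquiv).symm
    have hK2 : ∀ u ∈ K, u ^ 2 = 1 := by
      rintro _ ⟨y, hy, rfl⟩
      rw [← map_pow, hK₀2 y hy, map_one]
    have hKS : ∀ u ∈ K, u ∈ (S : Subgroup H) := by rintro _ ⟨y, -, rfl⟩; exact y.2
    by_cases hcentr : ∀ s ∈ (S : Subgroup H), b * s = s * b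
    · -- then `H` is a dihedral `2`-group
      have hb1 : b = 1 := by
        have h1 := hK2 b (hCH K hKc hK2 b fun u hu => (hcentr u (hKS u hu)).symm)
        exact orderOf_eq_one_iff.mp (Nat.eq_one_of_dvd_coprimes hb dvd_rfl (orderOf_dvd_of_pow_eq_one h1))
      have hm1 : m = 1 := Nat.dvd_one.mp (by simpa [hb1] using hmb)
      refine Or.inr (Or.inl ⟨j, CfsgLib.Classical.nonempty_mulEquiv_dihedralGroup (x := (r : H)) (s := (t : H))
        (pow_pos two_pos j) (by rw [Subgroup.orderOf_coe, hro]) ?_ ?_ ?_ ?_⟩)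
      · rw [← Subgroup.coe_mul, htt]; rfl
      · simpa using congrArg Subtype.val htr
      · intro h
        obtain ⟨i, hi⟩ := Subgroup.mem_zpowers_iff.mp h
        exact htR (Subgroup.mem_zpowers_iff.mpr ⟨i, Subtype.ext (by simpa using hi)⟩)
      · rw [hHcard, hm1, one_mul, ← hk, hScard]
    push Not at hcentr
    -- conjugation by an element of `H` preserves `S`
    have hconj : ∀ u : H, ∀ y ∈ (S : Subgroup H), u * y * u⁻¹ ∈ (S : Subgroup H) := fun u y hy =>
      (hnormal S).conj_mem y hy u
    have hj1 : j = 1 := by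
      by_contra hj1
      obtain ⟨s, hs, hbs⟩ := hcentr
      apply hbs
      -- `b` centralizes the rotation subgroup
      have hbr : b * (r : H) = r * b := by
        refine commute_cyclic (k := j) (by rw [Subgroup.orderOf_coe, hro]) hb ?_
        by_contra hnot
        have h1 : (⟨_, hconj b r r.2⟩ : (S : Subgroup H)) ∉ Subgroup.zpowers r := fun h => hnot (by
          obtain ⟨i, hi⟩ := Subgroup.mem_zpowers_iff.mp h
          exact Subgroup.mem_zpowers_iff.mpr ⟨i, congrArg Subtype.val hi⟩)
        have h2' : b * (r : H) * b⁻¹ * (b * r * b⁻¹) = 1 := congrArg Subtype.val (hout _ h1)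
        have h3 : orderOf (b * (r : H) * b⁻¹) ∣ 2 := orderOf_dvd_of_pow_eq_one (by rw [sq]; exact h2')
        have h4 : orderOf (b * (r : H) * b⁻¹) = 2 ^ j := by
          have h5 : orderOf (b * (r : H) * b⁻¹) = orderOf (r : H) := (MulAut.conj b).orderOf_eq (r : H)
          rw [h5, Subgroup.orderOf_coe, hro]
        rw [h4] at h3
        exact hj1 (le_antisymm ((Nat.pow_dvd_pow_iff_le_right (le_refl 2)).mp (h3.trans (by norm_num : 2 ∣ 2 ^ 1))) hj)
      -- and then a reflection
      have hbt : b * (t : H) = t * b := by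
        set v : (S : Subgroup H) := t⁻¹ * ⟨_, hconj b t t.2⟩ with hv
        have hidx : (Subgroup.zpowers r).index = 2 := by
          have h1 := (Subgroup.zpowers r).card_mul_index
          rw [Nat.card_zpowers, hro, hScard, mul_comm] at h1
          exact Nat.eq_of_mul_eq_mul_right (pow_pos two_pos j) h1
        have hvR : v ∈ Subgroup.zpowers r := by
          rw [hv, Subgroup.mul_mem_iff_of_index_two hidx]
          refine iff_of_false (fun h => htR (inv_mem_iff.mp h)) fun h => htR ?_
          obtain ⟨i, hi⟩ := Subgroup.mem_zpowers_iff.mp h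
          refine Subgroup.mem_zpowers_iff.mpr ⟨i, Subtype.ext ?_⟩
          have h5 : (r : H) ^ i = b * t * b⁻¹ := by rw [← Subgroup.coe_zpow, hi]
          have h6 : Commute b ((r : H) ^ i) := Commute.zpow_right hbr i
          rw [Subgroup.coe_zpow]
          calc (r : H) ^ i = b⁻¹ * (r : H) ^ i * b := by rw [h6.inv_left.eq, inv_mul_cancel_right]
            _ = t := by rw [h5]; group
        have h1 : b * (t : H) * b⁻¹ = t * v := by simp [hv]
        have hbv : Commute b (v : H) := by
          obtain ⟨i, hi⟩ := Subgroup.mem_zpowers_iff.mp hvR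
          rw [← hi, Subgroup.coe_zpow]
          exact Commute.zpow_right hbr i
        have hiter : ∀ l : ℕ, b ^ l * (t : H) * (b ^ l)⁻¹ = t * (v : H) ^ l := by
          intro l
          induction l with
          | zero => simp
          | succ l ih =>
            calc b ^ (l + 1) * (t : H) * (b ^ (l + 1))⁻¹ = b ^ l * (b * t * b⁻¹) * (b ^ l)⁻¹ := by
                  rw [pow_succ]; group
              _ = (b ^ l * t * (b ^ l)⁻¹) * (b ^ l * v * (b ^ l)⁻¹) := by rw [h1]; group
              _ = t * (v : H) ^ (l + 1) := by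
                  rw [ih, (hbv.pow_left l).eq, mul_inv_cancel_right, mul_assoc, pow_succ]
        have h6 := hiter (orderOf b)
        rw [pow_orderOf_eq_one, one_mul, inv_one, mul_one, eq_comm, mul_eq_left] at h6
        have h7 : (v : H) = 1 := by
          obtain ⟨l, hl⟩ := IsPGroup.iff_orderOf.mp S.2 v
          rw [← orderOf_eq_one_iff, Subgroup.orderOf_coe]
          refine Nat.eq_one_of_dvd_coprimes (hb.pow_right l) ?_ (by rw [hl])
          rw [← Subgroup.orderOf_coe]
          exact orderOf_dvd_of_pow_eq_one h6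
        rw [h7, mul_one] at h1
        exact mul_inv_eq_iff_eq_mul.mp h1
      -- so all of `S`
      have hsr : ∀ y : (S : Subgroup H), Commute b (y : H) := by
        intro y
        by_cases hy : y ∈ Subgroup.zpowers r
        · obtain ⟨i, rfl⟩ := Subgroup.mem_zpowers_iff.mp hy
          rw [Subgroup.coe_zpow]; exact Commute.zpow_right hbr i
        · have hidx : (Subgroup.zpowers r).index = 2 := by
            have h1 := (Subgroup.zpowers r).card_mul_index
            rw [Nat.card_zpowers, hro, hScard, mul_comm] at h1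
            exact Nat.eq_of_mul_eq_mul_right (pow_pos two_pos j) h1
          have h8 : y * t ∈ Subgroup.zpowers r := (Subgroup.mul_mem_iff_of_index_two hidx).mpr (iff_of_false hy htR)
          obtain ⟨i, hi⟩ := Subgroup.mem_zpowers_iff.mp h8
          have h9 : (y : H) = (r : H) ^ i * (t : H)⁻¹ := by
            rw [← Subgroup.coe_zpow, hi, Subgroup.coe_mul, mul_inv_cancel_right]
          rw [h9]
          exact (Commute.zpow_right hbr i).mul_right (Commute.inv_right hbt)
      exact (hsr ⟨s, hs⟩).eq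
    subst hj1
    -- `S` is the four group and `H` is `A₄`
    right; right
    have hS4 : Nat.card (S : Subgroup H) = 4 := by rw [hScard]; rfl
    have hKS' : K = (S : Subgroup H) := Subgroup.eq_of_le_of_card_ge hKS (by rw [hKc, hS4])
    haveI : (K : Subgroup H).Normal := hKS' ▸ hnormal S
    set f := (MulAut.conjNormal (H := K)) with hf
    have hker : f.ker = K := by
      refine le_antisymm (fun x hx => ?_) fun x hx => ?_
      · refine hCH K hKc hK2 x fun u hu => ?_
        have h1 := congrArg (fun F : MulAut K => ((F ⟨u, hu⟩ : K) : H)) (MonoidHom.mem_ker.mp hx)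
        simp [hf, MulAut.conjNormal_apply] at h1
        exact (mul_inv_eq_iff_eq_mul.mp h1).symm
      · refine MonoidHom.mem_ker.mpr (MulEquiv.ext fun u => Subtype.ext ?_)
        simp only [hf, MulAut.conjNormal_apply, MulAut.one_apply]
        have key : ∀ v ∈ K, v⁻¹ = v := fun v hv => inv_eq_of_mul_eq_one_right (by rw [← sq]; exact hK2 v hv)
        calc x * (u : H) * x⁻¹ = (x * u)⁻¹ * x⁻¹ := by rw [key _ (mul_mem hx u.2)]
          _ = u := by rw [key x hx, mul_inv_rev, key u u.2, key x hx]; rw [mul_assoc, ← sq, hK2 x hx, mul_one]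
    -- automorphisms of `K` permute its three involutions
    have hrange : Nat.card f.range ∣ 6 := by
      let g : MulAut K →* Equiv.Perm {u : K // u ≠ 1} :=
        { toFun := fun F => F.toEquiv.subtypeEquiv fun u => by simp
          map_one' := by ext u; rfl
          map_mul' := fun F F' => by ext u; rfl }
      have hg : Function.Injective g := by
        intro F F' hFF
        ext u
        by_cases hu : u = 1
        · simp [hu]
        · have := congrArg (fun e : Equiv.Perm {u : K // u ≠ 1} => ((e ⟨u, hu⟩ : {u : K // u ≠ 1}) : K)) hFF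
          simpa [g] using congrArg Subtype.val this
      have h1 : Nat.card {u : K // u ≠ 1} = 3 := by
        haveI := Fintype.ofFinite K
        rw [Nat.card_eq_fintype_card, Fintype.card_subtype_compl, ← Nat.card_eq_fintype_card, hKc]
        simp
      have h2' := (f.range.card_subgroup_dvd_card).trans (Subgroup.card_dvd_of_injective g hg)
      rw [Nat.card_perm, h1] at h2'
      exact h2'
    have hidx : m ∣ 6 := by
      rw [hm]
      show (S : Subgroup H).index ∣ 6
      rw [← hKS', ← hker, Subgroup.index_ker]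
      exact hrange
    obtain ⟨s, hs, hbs⟩ := hcentr
    have hm3 : m = 3 := by
      have h3 := Nat.le_of_dvd (by norm_num) hidx
      have hm1 : m ≠ 1 := by
        intro h1
        have hb' : b ∈ (S : Subgroup H) := by
          rw [← QuotientGroup.eq_one_iff, ← hbgen, ← orderOf_eq_one_iff, orderOf_eq_card_of_forall_mem_zpowers hq]
          exact h1
        apply hbs
        rw [← hKS'] at hb' hs
        have key : ∀ v ∈ K, v⁻¹ = v := fun v hv => inv_eq_of_mul_eq_one_right (by rw [← sq]; exact hK2 v hv)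
        calc b * s = (b * s)⁻¹ := (key _ (mul_mem hb' hs)).symm
          _ = s * b := by rw [mul_inv_rev, key s hs, key b hb']
      interval_cases m <;> omega
    refine CfsgLib.Involutions.nonempty_alternatingGroup_four_of_card_twelve ?_ fun z hz hzc => ?_
    · rw [hHcard, hm3, ← hk, hS4]
    have hzK : z ∈ K := hKS' ▸ hpS z ⟨1, by rw [hz, pow_one]⟩
    have hbz : b * z = z * b := Subgroup.mem_center_iff.mp hzc b
    rw [← hKS'] at hs
    have hz1 : z ≠ 1 := fun h => by simp [h] at hz
    have hsz : s ≠ z := fun h => hbs (h ▸ hbz)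
    have hs1 : s ≠ 1 := fun h => hbs (by simp [h])
    -- `b` fixes `z` and so fixes or swaps the other two involutions
    have hKn : ∀ u ∈ K, b * u * b⁻¹ ∈ K := fun u hu => Subgroup.Normal.conj_mem inferInstance u hu b
    have key : ∀ v ∈ K, v⁻¹ = v := fun v hv => inv_eq_of_mul_eq_one_right (by rw [← sq]; exact hK2 v hv)
    have hcases : ∀ u ∈ K, u = 1 ∨ u = z ∨ u = s ∨ u = z * s := by
      intro u hu
      by_contra hne
      push Not at hne
      have hcard5 : ({1, z, s, z * s, u} : Set H).ncard = 5 := by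
        have hzs1 : z * s ≠ 1 := fun h => hsz (by
          have h4 := eq_inv_of_mul_eq_one_right h; rw [key z hzK] at h4; exact h4)
        have hzsz : z * s ≠ z := fun h => hs1 (by simpa using h)
        have hzss : z * s ≠ s := fun h => hz1 (by simpa using h)
        rw [Set.ncard_insert_of_notMem, Set.ncard_insert_of_notMem, Set.ncard_insert_of_notMem,
          Set.ncard_pair (fun h => hne.2.2.2 h.symm)]
        · simp only [Set.mem_insert_iff, Set.mem_singleton_iff, not_or]
          exact ⟨hzss.symm, fun h => hne.2.2.1 h.symm⟩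
        · simp only [Set.mem_insert_iff, Set.mem_singleton_iff, not_or]
          exact ⟨hsz.symm, hzsz.symm, fun h => hne.2.1 h.symm⟩
        · simp only [Set.mem_insert_iff, Set.mem_singleton_iff, not_or]
          exact ⟨hz1.symm, hs1.symm, hzs1.symm, fun h => hne.1 h.symm⟩
      have hsub : ({1, z, s, z * s, u} : Set H) ⊆ (K : Set H) := by
        intro v hv
        simp only [Set.mem_insert_iff, Set.mem_singleton_iff] at hv
        rcases hv with rfl | rfl | rfl | rfl | rfl
        exacts [one_mem _, hzK, hs, mul_mem hzK hs, hu]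
      have := Set.ncard_le_ncard hsub
      rw [hcard5, ← Nat.card_coe_set_eq] at this
      simp only [SetLike.coe_sort_coe] at this
      omega
    apply hbs
    rcases hcases _ (hKn s hs) with h | h | h | h
    · exact absurd (conj_eq_one_iff.mp h) hs1
    · exact absurd (mul_left_cancel (mul_right_cancel (h.trans (mul_inv_eq_iff_eq_mul.mpr hbz).symm))) hsz
    · exact mul_inv_eq_iff_eq_mul.mp h
    · exfalso
      have h2s : b ^ 2 * s * (b ^ 2)⁻¹ = s := by
        calc b ^ 2 * s * (b ^ 2)⁻¹ = b * (b * s * b⁻¹) * b⁻¹ := by simp [sq, mul_assoc, mul_inv_rev]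
          _ = (b * z * b⁻¹) * (b * s * b⁻¹) := by
              conv_lhs => rw [h]
              group
          _ = z * (z * s) := by
              have h5 : b * z * b⁻¹ = z := mul_inv_eq_iff_eq_mul.mpr hbz
              rw [h5, h]
          _ = s := by rw [← mul_assoc, ← sq, hK2 z hzK, one_mul]
      obtain ⟨e, he⟩ := exists_pow_eq_self_of_coprime (x := b) (n := 2) hb.symm
      have h4 : Commute (b ^ 2) s := mul_inv_eq_iff_eq_mul.mp h2s
      exact hbs (by rw [← he]; exact (h4.pow_left e).eq)


end Cfsg.Agent.S4083
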