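import Cfsg.Statements.S4084
import Mathlib

set_option autoImplicit false
open Cfsg

namespace Cfsg.Agent.S4084

/-- The double centralizer of an element, as a subgroup. -/
def dc {G : Type*} [Group G] (g : G) : Subgroup G :=
  Subgroup.centralizer ((Subgroup.centralizer ({g} : Set G) : Subgroup G) : Set G)

theorem mem_dc {G : Type*} [Group G] {g y : G} :
    y ∈ dc g ↔ ∀ x : G, Commute x g → Commute x y := by
  simp only [dc, Subgroup.mem_centralizer_iff, SetLike.mem_coe, Set.mem_singleton_iff, forall_eq,
    commute_iff_eq]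
  exact ⟨fun h x hx => h x hx.symm, fun h x hx => h x hx.symm⟩

theorem exists_pq_iff {G : Type*} [Group G] [Finite G] {p q : ℕ} (hp : p.Prime) (hq : q.Prime)
    (hpq : p ≠ q) :
    (∃ g : G, orderOf g = p * q) ↔ ∃ g : G, p ∣ Nat.card (dc g) ∧ q ∣ Nat.card (dc g) := by
  have : Fact p.Prime := ⟨hp⟩
  have : Fact q.Prime := ⟨hq⟩
  constructor
  · rintro ⟨g, hg⟩
    have h := (dc g).orderOf_dvd_natCard (mem_dc.mpr fun x hx => hx)
    exact ⟨g, (Dvd.intro q hg.symm).trans h, (Dvd.intro_left p hg.symm).trans h⟩
  · rintro ⟨g, h1, h2⟩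
    obtain ⟨a, ha⟩ := exists_prime_orderOf_dvd_card' p h1
    obtain ⟨b, hb⟩ := exists_prime_orderOf_dvd_card' q h2
    have hag : Commute (a : G) g := (mem_dc.mp a.2 g (Commute.refl g)).symm
    have hc : Commute (a : G) b := mem_dc.mp b.2 a hag
    refine ⟨(a : G) * b, ?_⟩
    rw [hc.orderOf_mul_eq_mul_orderOf_of_coprime, Subgroup.orderOf_coe, Subgroup.orderOf_coe, ha, hb]
    rw [Subgroup.orderOf_coe, Subgroup.orderOf_coe, ha, hb]
    exact (Nat.coprime_primes hp hq).mpr hpq

/-- Let G and H be finite groups whose commuting graphs are isomorphic: there is a bijection e : G → H with x, y commuting exactly when e(x), e(y) commute. Then G and H have the same prime graph: for distinct primes p, q, G has an element of order pq if and only if H does (and #G = #H, so the prime divisors agree). -/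
theorem result {G H : Type*} [Group G] [Finite G] [Group H] [Finite H] (e : G ≃ H)
    (he : ∀ x y : G, Commute x y ↔ Commute (e x) (e y))
    {p q : ℕ} (hp : p.Prime) (hq : q.Prime) (hpq : p ≠ q) :
    (∃ g : G, orderOf g = p * q) ↔ (∃ h : H, orderOf h = p * q) := by
  classical
  have hcard : ∀ g : G, Nat.card (dc g) = Nat.card (dc (e g)) := by
    intro g
    refine Nat.card_congr (e.subtypeEquiv fun y => ?_)
    rw [mem_dc, mem_dc, e.forall_congr_left]
    refine forall_congr' fun x => ?_
    rw [he (e.symm x) g, he (e.symm x) y, e.apply_symm_apply]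
  rw [exists_pq_iff hp hq hpq, exists_pq_iff hp hq hpq, ← e.exists_congr_right]
  simp only [hcard]

end Cfsg.Agent.S4084
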