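import Cfsg.Statements.S4085
import Mathlib


set_option autoImplicit false
set_option linter.style.haveILetI false
open Cfsg

namespace Cfsg.Agent.S4085

/-- Adjacency in the power graph. -/
def Adj {G : Type*} [Group G] (x y : G) : Prop := x ∈ Subgroup.zpowers y ∨ y ∈ Subgroup.zpowers x

theorem Adj.symm {G : Type*} [Group G] {x y : G} (h : Adj x y) : Adj y x := Or.symm h

theorem adj_congr {G : Type*} [Group G] {z y : G} (h : Subgroup.zpowers z = Subgroup.zpowers y)
    (x : G) : Adj z x ↔ Adj y x := by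
  unfold Adj
  rw [← Subgroup.zpowers_le, h, Subgroup.zpowers_le]

theorem orderOf_dvd_of_mem {G : Type*} [Group G] {x y : G} (h : x ∈ Subgroup.zpowers y) :
    orderOf x ∣ orderOf y := by
  obtain ⟨k, rfl⟩ := Subgroup.mem_zpowers_iff.mp h
  exact orderOf_dvd_iff_pow_eq_one.mpr (by
    rw [← zpow_natCast, ← zpow_mul, mul_comm, zpow_mul, zpow_natCast, pow_orderOf_eq_one, one_zpow])

theorem mem_of_dvd {G : Type*} [Group G] [Finite G] {w x y : G}
    (hx : x ∈ Subgroup.zpowers w) (hy : y ∈ Subgroup.zpowers w) (h : orderOf x ∣ orderOf y) :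
    x ∈ Subgroup.zpowers y := by
  obtain ⟨a, rfl⟩ := (mem_powers_iff_mem_zpowers.mpr hx)
  obtain ⟨b, rfl⟩ := (mem_powers_iff_mem_zpowers.mpr hy)
  simp only at h ⊢
  set d := Nat.gcd (orderOf w) b with hd
  have hm : orderOf (w ^ b) * d = orderOf w := by
    rw [orderOf_pow, Nat.div_mul_cancel (Nat.gcd_dvd_left _ _)]
  have h1 : (w ^ a) ^ orderOf (w ^ b) = 1 := orderOf_dvd_iff_pow_eq_one.mp h
  rw [← pow_mul] at h1
  have h2 := orderOf_dvd_of_pow_eq_one h1
  rw [← hm, mul_comm a] at h2
  obtain ⟨c, hc⟩ := Nat.dvd_of_mul_dvd_mul_left (orderOf_pos (w ^ b)) h2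
  have hwd : w ^ d ∈ Subgroup.zpowers (w ^ b) := by
    refine Subgroup.mem_zpowers_iff.mpr ⟨Nat.gcdB (orderOf w) b, ?_⟩
    have : ((d : ℕ) : ℤ) = (orderOf w : ℤ) * Nat.gcdA (orderOf w) b + (b : ℤ) * Nat.gcdB (orderOf w) b :=
      Nat.gcd_eq_gcd_ab _ _
    rw [← zpow_natCast w d, this, zpow_add, zpow_mul, zpow_mul, zpow_natCast, zpow_natCast,
      pow_orderOf_eq_one, one_zpow, one_mul]
  rw [hc, pow_mul]
  exact Subgroup.pow_mem _ hwd c

/-- Elements of a cyclic group of prime power order are pairwise adjacent. -/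
theorem adj_of_primePow {G : Type*} [Group G] [Finite G] {w x y : G} {r s : ℕ} (hr : r.Prime)
    (hw : orderOf w = r ^ s) (hx : x ∈ Subgroup.zpowers w) (hy : y ∈ Subgroup.zpowers w) :
    Adj x y := by
  obtain ⟨i, -, hi⟩ := (Nat.dvd_prime_pow hr).mp (hw ▸ orderOf_dvd_of_mem hx)
  obtain ⟨j, -, hj⟩ := (Nat.dvd_prime_pow hr).mp (hw ▸ orderOf_dvd_of_mem hy)
  rcases le_total i j with h | h
  · exact Or.inl (mem_of_dvd hx hy (by rw [hi, hj]; exact pow_dvd_pow r h))
  · exact Or.inr (mem_of_dvd hy hx (by rw [hi, hj]; exact pow_dvd_pow r h))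

theorem zpowers_eq_of_mem {G : Type*} [Group G] [Finite G] {x y : G} (h : x ∈ Subgroup.zpowers y)
    (hle : orderOf y ≤ orderOf x) : Subgroup.zpowers x = Subgroup.zpowers y :=
  Subgroup.eq_of_le_of_card_ge (Subgroup.zpowers_le.mpr h)
    (by rw [Nat.card_zpowers, Nat.card_zpowers]; exact hle)

theorem exists_orderOf {G : Type*} [Group G] [Finite G] (y : G) {d : ℕ} (hd : d ∣ orderOf y) :
    ∃ z ∈ Subgroup.zpowers y, orderOf z = d :=
  ⟨y ^ (orderOf y / d), Subgroup.npow_mem_zpowers y _,
    orderOf_pow_orderOf_div (orderOf_pos y).ne' hd⟩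

theorem not_adj_of_coprime {G : Type*} [Group G] [Finite G] {x y : G} (hx : x ≠ 1) (hy : y ≠ 1)
    (h : (orderOf x).Coprime (orderOf y)) : ¬ Adj x y := by
  rintro (h' | h')
  · exact hx (orderOf_eq_one_iff.mp (h.eq_one_of_dvd (orderOf_dvd_of_mem h')))
  · exact hy (orderOf_eq_one_iff.mp (h.symm.eq_one_of_dvd (orderOf_dvd_of_mem h')))

theorem card_gens {G : Type*} [Group G] [Finite G] (y : G) :
    Nat.card {z : G // Subgroup.zpowers z = Subgroup.zpowers y} = Nat.totient (orderOf y) := by
  classical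
  letI : Fintype (Subgroup.zpowers y) := Fintype.ofFinite _
  have hc : Fintype.card (Subgroup.zpowers y) = orderOf y := by
    rw [← Nat.card_eq_fintype_card, Nat.card_zpowers]
  rw [← IsCyclic.card_orderOf_eq_totient (α := Subgroup.zpowers y) (d := orderOf y) (by rw [hc]),
    ← Fintype.card_subtype, ← Nat.card_eq_fintype_card]
  refine Nat.card_congr
    { toFun := fun z => ⟨⟨z.1, (le_of_eq z.2) (Subgroup.mem_zpowers z.1)⟩, ?_⟩
      invFun := fun a => ⟨a.1.1, zpowers_eq_of_mem a.1.2 ?_⟩
      left_inv := fun z => rfl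
      right_inv := fun a => rfl }
  · rw [← Subgroup.orderOf_coe]
    simp only
    rw [← Nat.card_zpowers, z.2, Nat.card_zpowers]
  · rw [Subgroup.orderOf_coe, a.2]

/-- `N` has at least two prime divisors. -/
def NPP (n : ℕ) : Prop := ∃ a b : ℕ, a.Prime ∧ b.Prime ∧ a ≠ b ∧ a ∣ n ∧ b ∣ n

theorem primePow_of_not_npp {n : ℕ} (hn : n ≠ 0) (h : ¬ NPP n) :
    ∃ r k : ℕ, r.Prime ∧ n = r ^ k := by
  by_cases h1 : n = 1
  · exact ⟨2, 0, Nat.prime_two, by simp [h1]⟩
  refine ⟨n.minFac, _, Nat.minFac_prime h1, Nat.eq_prime_pow_of_unique_prime_dvd hn ?_⟩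
  intro d hd hdn
  by_contra hne
  exact h ⟨d, n.minFac, hd, Nat.minFac_prime h1, hne, hdn, Nat.minFac_dvd n⟩

/-- In a cyclic group whose order has two prime divisors a nontrivial nongenerator is
incomparable with a full primary part. -/
theorem exists_incomp {G : Type*} [Group G] [Finite G] {u y : G} (hy : NPP (orderOf y))
    (hu : u ∈ Subgroup.zpowers y) (hu1 : u ≠ 1) (hne : Subgroup.zpowers u ≠ Subgroup.zpowers y) :
    ∃ l, l.Prime ∧ l ∣ orderOf y ∧ ∀ z ∈ Subgroup.zpowers y,
      orderOf z = l ^ (orderOf y).factorization l → ¬ Adj u z := by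
  have hN := (orderOf_pos y).ne'
  have hdvd := orderOf_dvd_of_mem hu
  have hm := (orderOf_pos u).ne'
  obtain ⟨r, hr, hlt⟩ : ∃ r, r.Prime ∧
      (orderOf u).factorization r < (orderOf y).factorization r := by
    by_contra hcon
    push Not at hcon
    refine hne (zpowers_eq_of_mem hu (Nat.le_of_dvd (Nat.pos_of_ne_zero hm) ?_))
    rw [← Nat.factorization_le_iff_dvd hN hm]
    intro r
    by_cases hr : r.Prime
    · exact hcon r hr
    · simp [Nat.factorization_eq_zero_of_not_prime _ hr]
  have hrN : r ∣ orderOf y := Nat.dvd_of_factorization_pos (by omega)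
  have hnd : ¬ r ^ (orderOf y).factorization r ∣ orderOf u := fun h => by
    have := (hr.pow_dvd_iff_le_factorization hm).mp h
    omega
  by_cases hur : orderOf u ∣ r ^ (orderOf y).factorization r
  · obtain ⟨a, b, ha, hb, hab, hay, hby⟩ := hy
    obtain ⟨l, hl, hlr, hly⟩ : ∃ l, l.Prime ∧ l ≠ r ∧ l ∣ orderOf y := by
      by_cases h : a = r
      · exact ⟨b, hb, fun e => hab (h.trans e.symm), hby⟩
      · exact ⟨a, ha, h, hay⟩
    refine ⟨l, hl, hly, fun z _ hz => not_adj_of_coprime hu1 (fun h1 => ?_) ?_⟩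
    · rw [h1, orderOf_one] at hz
      have := hl.factorization_pos_of_dvd hN hly
      exact absurd hz.symm (Nat.one_lt_pow this.ne' hl.one_lt).ne'
    · rw [hz]
      exact (Nat.Coprime.pow _ _ ((Nat.coprime_primes hr hl).mpr (Ne.symm hlr))).coprime_dvd_left hur
  · refine ⟨r, hr, hrN, fun z _ hz h => ?_⟩
    rcases h with h | h
    · exact hur (hz ▸ orderOf_dvd_of_mem h)
    · exact hnd (hz ▸ orderOf_dvd_of_mem h)

/-- A nontrivial element adjacent to all others forces cyclicity or prime power order. -/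
theorem special_of_universal {G : Type*} [Group G] [Finite G] {u : G} (hu : u ≠ 1)
    (h : ∀ x, Adj u x) : IsCyclic G ∨ ¬ NPP (Nat.card G) := by
  by_cases hn : NPP (orderOf u)
  · refine Or.inl ⟨⟨u, fun x => ?_⟩⟩
    rcases (h x).symm with hx | hx
    · exact hx
    by_cases he : Subgroup.zpowers u = Subgroup.zpowers x
    · exact (le_of_eq he.symm) (Subgroup.mem_zpowers x)
    obtain ⟨a, b, ha, hb, hab, hau, hbu⟩ := hn
    obtain ⟨l, -, -, hl⟩ := exists_incomp
      ⟨a, b, ha, hb, hab, hau.trans (orderOf_dvd_of_mem hx), hbu.trans (orderOf_dvd_of_mem hx)⟩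
      hx hu he
    obtain ⟨z, hz, hzo⟩ := exists_orderOf x (Nat.ordProj_dvd (orderOf x) l)
    exact absurd (h z) (hl z hz hzo)
  · refine Or.inr ?_
    obtain ⟨r, k, hr, hrk⟩ := primePow_of_not_npp (orderOf_pos u).ne' hn
    rintro ⟨a, b, ha, hb, hab, haG, hbG⟩
    obtain ⟨l, hl, hlr, hlG⟩ : ∃ l, l.Prime ∧ l ≠ r ∧ l ∣ Nat.card G := by
      by_cases h1 : a = r
      · exact ⟨b, hb, fun e => hab (h1.trans e.symm), hbG⟩
      · exact ⟨a, ha, h1, haG⟩
    haveI := Fact.mk hl
    obtain ⟨x, hx⟩ := exists_prime_orderOf_dvd_card' l hlG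
    refine not_adj_of_coprime hu (fun h1 => ?_) ?_ (h x)
    · rw [h1, orderOf_one] at hx
      exact hl.one_lt.ne hx
    · rw [hrk, hx]
      exact Nat.Coprime.pow_left _ ((Nat.coprime_primes hr hl).mpr (Ne.symm hlr))

theorem arith {r s p q N : ℕ} (hr : r.Prime) (hs : s ≠ 0) (hp : p.Prime) (hq : q.Prime)
    (hpq : p ≠ q) (hN : N ≠ 0) (hpN : p ∣ N) (hqN : q ∣ N) (hphi : Nat.totient N + 1 = r ^ s)
    (hdiv : ∀ l, l.Prime → l ∣ N → Nat.totient (r ^ s) ∣ l ^ N.factorization l - 1) : False := by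
  have h6 : 2 < N := by
    have h1 : p * q ∣ N := ((Nat.coprime_primes hp hq).mpr hpq).mul_dvd_of_dvd_of_dvd hpN hqN
    have h2 := Nat.le_of_dvd (Nat.pos_of_ne_zero hN) h1
    have := hp.two_le
    have := hq.two_le
    nlinarith
  have heven := Nat.totient_even h6
  have hodd : Odd (r ^ s) := by rw [← hphi]; exact heven.add_one
  have hr3 : 3 ≤ r := by
    have h2 : r ≠ 2 := by
      rintro rfl
      exact (Nat.not_even_iff_odd.mpr hodd) ((Nat.even_pow).mpr ⟨even_two, hs⟩)
    have := hr.two_le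
    omega
  have hpos : 0 < Nat.totient N := Nat.totient_pos.mpr (Nat.pos_of_ne_zero hN)
  have hrs : 2 * r ^ s ≤ 3 * Nat.totient (r ^ s) := by
    rw [Nat.totient_prime_pow hr (Nat.pos_of_ne_zero hs)]
    obtain ⟨t, rfl⟩ := Nat.exists_eq_succ_of_ne_zero hs
    simp only [Nat.succ_eq_add_one, Nat.add_sub_cancel]
    rw [pow_succ]
    have : 2 * r ≤ 3 * (r - 1) := by omega
    calc 2 * (r ^ t * r) = r ^ t * (2 * r) := by ring
      _ ≤ r ^ t * (3 * (r - 1)) := Nat.mul_le_mul_left _ this
      _ = 3 * (r ^ t * (r - 1)) := by ring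
  have hodd' : ∀ l, l.Prime → l ∣ N → Odd l ∧ ∀ m, m.Prime → m ∣ N → m ≠ l → Nat.totient m ≤ 2 := by
    intro l hl hlN
    set a := N.factorization l with ha
    have ha0 : 0 < a := hl.factorization_pos_of_dvd hN hlN
    have hla : 1 < l ^ a := Nat.one_lt_pow ha0.ne' hl.one_lt
    have hd := hdiv l hl hlN
    have hev : Even (Nat.totient (r ^ s)) := Nat.totient_even (by
      have : r ≤ r ^ s := Nat.le_self_pow hs r
      omega)
    have hl2 : l ≠ 2 := by
      rintro rfl
      have h1 : Even (2 ^ a - 1) := even_iff_two_dvd.mpr ((even_iff_two_dvd.mp hev).trans hd)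
      have h2 : Even (2 ^ a) := (Nat.even_pow).mpr ⟨even_two, ha0.ne'⟩
      obtain ⟨u, hu⟩ := h1
      obtain ⟨v, hv⟩ := h2
      omega
    refine ⟨hl.odd_of_ne_two hl2, fun m hm hmN hml => ?_⟩
    have hle : Nat.totient (r ^ s) ≤ l ^ a - 1 := Nat.le_of_dvd (by omega) hd
    have hM : N = l ^ a * (N / l ^ a) := (Nat.ordProj_mul_ordCompl_eq_self N l).symm
    have hcop : (l ^ a).Coprime (N / l ^ a) :=
      Nat.Coprime.pow_left _ (Nat.coprime_ordCompl hl hN)
    have hmM : m ∣ N / l ^ a := by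
      have h1 : m ∣ l ^ a * (N / l ^ a) := hM ▸ hmN
      refine (hm.dvd_mul.mp h1).resolve_left fun h => hml ?_
      exact (Nat.prime_dvd_prime_iff_eq hm hl).mp (hm.dvd_of_dvd_pow h)
    have hM0 : 0 < N / l ^ a := Nat.ordCompl_pos l hN
    have hmle : Nat.totient m ≤ Nat.totient (N / l ^ a) :=
      Nat.le_of_dvd (Nat.totient_pos.mpr hM0) (Nat.totient_dvd_of_dvd hmM)
    have hlt : 2 * l ^ a ≤ 3 * Nat.totient (l ^ a) := by
      rw [Nat.totient_prime_pow hl ha0]
      obtain ⟨t, ht⟩ := Nat.exists_eq_succ_of_ne_zero ha0.ne'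
      rw [ht]
      simp only [Nat.succ_eq_add_one, Nat.add_sub_cancel]
      rw [pow_succ]
      have hl3 : 2 * l ≤ 3 * (l - 1) := by have := hl.two_le; omega
      calc 2 * (l ^ t * l) = l ^ t * (2 * l) := by ring
        _ ≤ l ^ t * (3 * (l - 1)) := Nat.mul_le_mul_left _ hl3
        _ = 3 * (l ^ t * (l - 1)) := by ring
    have hmul : Nat.totient N = Nat.totient (l ^ a) * Nat.totient (N / l ^ a) := by
      conv_lhs => rw [hM]
      exact Nat.totient_mul hcop
    have h9 : 4 * Nat.totient (l ^ a) * Nat.totient (N / l ^ a) < 9 * Nat.totient (l ^ a) := by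
      have h10 : 3 * l ^ a > 2 * r ^ s := by omega
      have h11 : 4 * Nat.totient N < 9 * Nat.totient (l ^ a) := by omega
      rw [hmul] at h11
      rw [mul_assoc]; exact h11
    have h12 : 4 * Nat.totient (N / l ^ a) < 9 := by
      by_contra hc
      push Not at hc
      have := Nat.mul_le_mul_left (Nat.totient (l ^ a)) hc
      nlinarith
    omega
  have h1 := (hodd' p hp hpN).2 q hq hqN hpq.symm
  have h2 := (hodd' q hq hqN).2 p hp hpN hpq
  rw [Nat.totient_prime hq] at h1
  rw [Nat.totient_prime hp] at h2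
  have := (hodd' p hp hpN).1
  have := (hodd' q hq hqN).1
  obtain ⟨u, hu⟩ := (hodd' p hp hpN).1
  obtain ⟨v, hv⟩ := (hodd' q hq hqN).1
  have := hp.two_le
  have := hq.two_le
  omega

theorem main {G H : Type*} [Group G] [Finite G] [Group H] [Finite H] (e : G ≃ H)
    (he : ∀ x y : G, Adj x y ↔ Adj (e x) (e y)) {p q : ℕ} (hp : p.Prime) (hq : q.Prime)
    (hpq : p ≠ q) (g : G) (hg : orderOf g = p * q) : ∃ h : H, orderOf h = p * q := by
  classical
  have he' : ∀ a b : H, Adj (e.symm a) (e.symm b) ↔ Adj a b := fun a b => by rw [he]; simp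
  by_cases he1 : e 1 = 1
  swap
  · -- both groups have a nontrivial universal vertex
    have hcard : Nat.card G = Nat.card H := Nat.card_congr e
    have hpqG : p * q ∣ Nat.card G := hg ▸ orderOf_dvd_natCard g
    have hnpp : NPP (Nat.card H) := by
      rw [← hcard]
      exact ⟨p, q, hp, hq, hpq, (Dvd.intro q rfl).trans hpqG, (Dvd.intro_left p rfl).trans hpqG⟩
    rcases special_of_universal he1 (fun x => by
      rw [← he', Equiv.symm_apply_apply]; exact Or.inl (Subgroup.one_mem _)) with hc | hc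
    · obtain ⟨w, hw⟩ := hc.exists_generator
      have hwo : orderOf w = Nat.card H := orderOf_eq_card_of_forall_mem_zpowers hw
      obtain ⟨z, -, hz⟩ := exists_orderOf w (d := p * q) (by rw [hwo, ← hcard]; exact hpqG)
      exact ⟨z, hz⟩
    · exact absurd hnpp hc
  -- a maximal cyclic subgroup
  obtain ⟨y, hgy, hymax⟩ := Set.exists_max_image {z : G | g ∈ Subgroup.zpowers z} orderOf
    (Set.toFinite _) ⟨g, Subgroup.mem_zpowers g⟩
  have hnbhd : ∀ z, Adj z y ↔ z ∈ Subgroup.zpowers y := by
    refine fun z => ⟨?_, Or.inl⟩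
    rintro (h | h)
    · exact h
    · have := zpowers_eq_of_mem h (hymax z (Subgroup.zpowers_le.mpr h hgy))
      rw [this]; exact Subgroup.mem_zpowers z
  have hgN : p * q ∣ orderOf y := hg ▸ orderOf_dvd_of_mem hgy
  have hpN : p ∣ orderOf y := (Dvd.intro q rfl).trans hgN
  have hqN : q ∣ orderOf y := (Dvd.intro_left p rfl).trans hgN
  have hN : NPP (orderOf y) := ⟨p, q, hp, hq, hpq, hpN, hqN⟩
  set N := orderOf y with hNdef
  have hN0 : N ≠ 0 := (orderOf_pos y).ne'
  have hy1 : y ≠ 1 := fun h => by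
    rw [hNdef, h, orderOf_one] at hpN
    exact hp.not_dvd_one hpN
  set h := e y with hh
  have hh1 : h ≠ 1 := fun h0 => hy1 (e.injective (h0.trans he1.symm))
  have hnbhdH : ∀ w, Adj w h ↔ e.symm w ∈ Subgroup.zpowers y := fun w => by
    rw [← hnbhd, ← he' w h, hh, Equiv.symm_apply_apply]
  -- full primary parts
  choose! P hPmem hPord using fun l : ℕ => exists_orderOf y (Nat.ordProj_dvd N l)
  have hP1 : ∀ l, l.Prime → l ∣ N → P l ≠ 1 := fun l hl hlN h1 => by
    have := hPord l
    rw [h1, orderOf_one] at this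
    exact absurd this (Nat.one_lt_pow (hl.factorization_pos_of_dvd hN0 hlN).ne' hl.one_lt).ne
  -- universal vertices of the neighbourhood are twins of `y`
  have huniv : ∀ w, w ≠ 1 → Adj w h → (∀ x, Adj x h → Adj w x) →
      Subgroup.zpowers (e.symm w) = Subgroup.zpowers y := by
    intro w hw1 hwh hall
    by_contra hne
    have hz := (hnbhdH w).mp hwh
    have hz1 : e.symm w ≠ 1 := fun h0 => hw1 (by rw [← e.apply_symm_apply w, h0, he1])
    obtain ⟨l, hl, hlN, hinc⟩ := exists_incomp hN hz hz1 hne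
    refine hinc (P l) (hPmem l) (hPord l) ?_
    rw [he, e.apply_symm_apply]
    exact hall _ ((he _ _).mp (Or.inl (hPmem l)))
  have htwin : ∀ w, Subgroup.zpowers (e.symm w) = Subgroup.zpowers y →
      ∀ x, Adj w x ↔ Adj h x := fun w hw x => by
    rw [← he' w x, adj_congr hw, he, e.apply_symm_apply]
  by_cases hH : NPP (orderOf h)
  · -- the neighbourhood of `h` is the subgroup it generates
    have hup : ∀ x, Adj x h → x ∈ Subgroup.zpowers h := by
      rintro x (hx | hx)
      · exact hx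
      by_contra hxh
      have hxne : Subgroup.zpowers h ≠ Subgroup.zpowers x := fun h0 => hxh (h0 ▸ Subgroup.mem_zpowers x)
      have hNx : NPP (orderOf x) := by
        obtain ⟨a, b, ha, hb, hab, ha', hb'⟩ := hH
        exact ⟨a, b, ha, hb, hab, ha'.trans (orderOf_dvd_of_mem hx),
          hb'.trans (orderOf_dvd_of_mem hx)⟩
      have hxh' : Adj x h := Or.inr hx
      have hx1 : x ≠ 1 := fun h0 => hxh (h0 ▸ Subgroup.one_mem _)
      -- the full primary parts all go below `h`, or all above
      have hside : ∀ l l', l.Prime → l'.Prime → l ∣ N → l' ∣ N → e (P l) ∈ Subgroup.zpowers h →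
          e (P l') ∈ Subgroup.zpowers h := by
        intro l l' hl hl' hlN hl'N hmem
        by_contra hnm
        have hne : l ≠ l' := fun h0 => hnm (h0 ▸ hmem)
        have hadj : Adj (e (P l')) h := by
          rw [hnbhdH, e.symm_apply_apply]; exact hPmem l'
        rcases hadj with h0 | h0
        · exact hnm h0
        refine not_adj_of_coprime (hP1 l hl hlN) (hP1 l' hl' hl'N) ?_
          ((he _ _).mpr (Or.inl (Subgroup.zpowers_le.mpr h0 hmem)))
        rw [hPord, hPord]
        exact Nat.Coprime.pow _ _ ((Nat.coprime_primes hl hl').mpr hne)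
      by_cases hdown : e (P p) ∈ Subgroup.zpowers h
      · -- then the element above `h` is a twin of `h`
        have hzx : Subgroup.zpowers (e.symm x) = Subgroup.zpowers y := by
          by_contra hne
          obtain ⟨l, hl, hlN, hinc⟩ := exists_incomp hN ((hnbhdH x).mp hxh')
            (fun h0 => hx1 (by rw [← e.apply_symm_apply x, h0, he1])) hne
          refine hinc (P l) (hPmem l) (hPord l) ?_
          rw [he, e.apply_symm_apply]
          exact Or.inr (Subgroup.zpowers_le.mpr hx (hside p l hp hl hpN hlN hdown))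
        obtain ⟨l, hl, -, hinc⟩ := exists_incomp hNx hx hh1 hxne
        obtain ⟨c, hc, hco⟩ := exists_orderOf x (Nat.ordProj_dvd (orderOf x) l)
        exact hinc c hc hco ((htwin x hzx c).mp (Or.inr hc))
      · -- an element of prime order below `h` is comparable with all the primary parts
        obtain ⟨a, b, ha, hb, hab, hah, hbh⟩ := hH
        obtain ⟨c, hc, hco⟩ := exists_orderOf h hah
        have hc1 : c ≠ 1 := fun h0 => ha.one_lt.ne (by rw [← hco, h0, orderOf_one])
        have hch : Adj c h := Or.inl hc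
        by_cases hne : Subgroup.zpowers (e.symm c) = Subgroup.zpowers y
        · obtain ⟨d, hd, hdo⟩ := exists_orderOf h hbh
          refine not_adj_of_coprime hc1 (fun h0 => hb.one_lt.ne (by rw [← hdo, h0, orderOf_one]))
            ?_ ((htwin c hne d).mpr (Or.inr hd))
          rw [hco, hdo]
          exact (Nat.coprime_primes ha hb).mpr hab
        · obtain ⟨l, hl, hlN, hinc⟩ := exists_incomp hN ((hnbhdH c).mp hch)
            (fun h0 => hc1 (by rw [← e.apply_symm_apply c, h0, he1])) hne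
          refine hinc (P l) (hPmem l) (hPord l) ?_
          rw [he, e.apply_symm_apply]
          have hadj : Adj (e (P l)) h := by
            rw [hnbhdH, e.symm_apply_apply]; exact hPmem l
          rcases hadj with h0 | h0
          · exact absurd (hside l p hl hp hlN hpN h0) hdown
          · exact Or.inl (Subgroup.zpowers_le.mpr h0 hc)
    have hcardN : orderOf h = N := by
      rw [← Nat.card_zpowers, hNdef, ← Nat.card_zpowers y]
      exact Nat.card_congr (e.symm.subtypeEquiv fun w =>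
        ⟨fun hw => (hnbhdH w).mp (Or.inl hw), fun hw => hup w ((hnbhdH w).mpr hw)⟩)
    obtain ⟨z, -, hz⟩ := exists_orderOf h (d := p * q) (hcardN ▸ hgN)
    exact ⟨z, hz⟩
  -- now `h` has prime power order, which is impossible
  exfalso
  obtain ⟨r, j, hr, hrj⟩ := primePow_of_not_npp (orderOf_pos h).ne' hH
  have hj : j ≠ 0 := fun h0 => hh1 (orderOf_eq_one_iff.mp (by rw [hrj, h0, pow_zero]))
  obtain ⟨z, hz, hzo⟩ := exists_orderOf h (d := r) (hrj ▸ dvd_pow_self r hj)
  have hz1 : z ≠ 1 := fun h0 => hr.one_lt.ne (by rw [← hzo, h0, orderOf_one])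
  have hzU : Subgroup.zpowers (e.symm z) = Subgroup.zpowers y := by
    refine huniv z hz1 (Or.inl hz) ?_
    rintro x (hx | hx)
    · exact adj_of_primePow hr hrj hz hx
    · exact Or.inl (Subgroup.zpowers_le.mpr hx hz)
  let U : Set H := {w | Subgroup.zpowers (e.symm w) = Subgroup.zpowers y}
  have hU1 : ∀ w ∈ U, w ≠ 1 := fun w hw h0 => hy1 (by
    have hw' : Subgroup.zpowers (e.symm w) = Subgroup.zpowers y := hw
    have h1 : e.symm (1 : H) = 1 := by rw [e.symm_apply_eq, he1]
    rw [h0, h1, Subgroup.zpowers_one_eq_bot, eq_comm, Subgroup.zpowers_eq_bot] at hw'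
    exact hw')
  have hUr : ∀ w ∈ U, ∃ k, orderOf w = r ^ k := by
    intro w hw
    refine ⟨_, Nat.eq_prime_pow_of_unique_prime_dvd (orderOf_pos w).ne' fun {d} hd hdw => ?_⟩
    by_contra hne
    obtain ⟨c, hc, hco⟩ := exists_orderOf w hdw
    refine not_adj_of_coprime hz1 (fun h0 => hd.one_lt.ne (by rw [← hco, h0, orderOf_one])) ?_
      ((htwin z hzU c).mpr ((htwin w hw c).mp (Or.inr hc)))
    rw [hzo, hco]
    exact (Nat.coprime_primes hr hd).mpr (Ne.symm hne)
  obtain ⟨w₀, hw₀, hw₀max⟩ := Set.exists_max_image U orderOf (Set.toFinite _) ⟨z, hzU⟩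
  obtain ⟨s, hs⟩ := hUr w₀ hw₀
  have hs0 : s ≠ 0 := fun h0 => hU1 w₀ hw₀ (orderOf_eq_one_iff.mp (by rw [hs, h0, pow_zero]))
  have hhU : h ∈ U := by show Subgroup.zpowers (e.symm h) = _; rw [hh, e.symm_apply_apply]
  have hUiff : ∀ w, w ∈ U ↔ w ∈ Subgroup.zpowers w₀ ∧ w ≠ 1 := by
    intro w
    constructor
    · intro hw
      refine ⟨?_, hU1 w hw⟩
      have : Adj w w₀ := (htwin w hw w₀).mpr
        ((htwin w₀ hw₀ h).mpr (Or.inl (Subgroup.mem_zpowers h))).symm
      rcases this with h0 | h0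
      · exact h0
      · rw [zpowers_eq_of_mem h0 (hw₀max w hw)]; exact Subgroup.mem_zpowers w
    · rintro ⟨hw, hw1⟩
      have hkey : ∀ x, Adj w₀ x → Adj w x := by
        rintro x (hx | hx)
        · exact Or.inl (Subgroup.zpowers_le.mpr hx hw)
        · exact adj_of_primePow hr hs hw hx
      exact huniv w hw1 (hkey h ((htwin w₀ hw₀ h).mpr (Or.inl (Subgroup.mem_zpowers h))))
        fun x hx => hkey x ((htwin w₀ hw₀ x).mpr hx.symm)
  have hphi : Nat.totient N + 1 = r ^ s := by
    have h1 : Nat.card U = Nat.totient N := by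
      rw [hNdef, ← card_gens y]
      exact Nat.card_congr (e.symm.subtypeEquiv fun w => Iff.rfl)
    have hcoe : (U : Set H) = (Subgroup.zpowers w₀ : Set H) \ {1} := by
      ext w; exact hUiff w
    rw [← h1, Nat.card_coe_set_eq, hcoe,
      Set.ncard_diff_singleton_add_one (Subgroup.one_mem _) (Set.toFinite _),
      ← Nat.card_coe_set_eq]
    exact (Nat.card_zpowers w₀).trans hs
  have hdiv : ∀ l, l.Prime → l ∣ N → Nat.totient (r ^ s) ∣ l ^ N.factorization l - 1 := by
    intro l hl hlN
    letI : Fintype H := Fintype.ofFinite H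
    set T : Finset H := Finset.univ.filter
      (fun w => w ≠ 1 ∧ e.symm w ∈ Subgroup.zpowers (P l)) with hT
    have hPy : ∀ u, u ∈ Subgroup.zpowers (P l) → u ∈ Subgroup.zpowers y :=
      fun u hu => Subgroup.zpowers_le.mpr (hPmem l) hu
    have hTcard : T.card = l ^ N.factorization l - 1 := by
      rw [← hPord l, ← Nat.card_zpowers]
      have : Nat.card (Subgroup.zpowers (P l)) =
          (Finset.univ.filter (fun w => e.symm w ∈ Subgroup.zpowers (P l))).card := by
        rw [← Fintype.card_subtype, ← Nat.card_eq_fintype_card]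
        exact (Nat.card_congr (e.symm.subtypeEquiv fun w => Iff.rfl)).symm
      rw [this, ← Finset.card_erase_of_mem (a := (1 : H)) (by
        simp only [Finset.mem_filter, Finset.mem_univ, true_and]
        have h1 : e.symm (1 : H) = 1 := by rw [e.symm_apply_eq, he1]
        rw [h1]; exact Subgroup.one_mem _)]
      congr 1
      ext w; simp [hT]
    rw [← hTcard, Finset.card_eq_sum_card_image Subgroup.zpowers T]
    refine Finset.dvd_sum fun K hK => ?_
    obtain ⟨w, hwT, rfl⟩ := Finset.mem_image.mp hK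
    simp only [hT, Finset.mem_filter, Finset.mem_univ, true_and] at hwT
    obtain ⟨hw1, hwP⟩ := hwT
    have hu1 : e.symm w ≠ 1 := fun h0 => hw1 (by rw [← e.apply_symm_apply w, h0, he1])
    have huy := hPy _ hwP
    have hul : orderOf (e.symm w) ∣ l ^ N.factorization l := hPord l ▸ orderOf_dvd_of_mem hwP
    -- `w` is not a twin of `h`
    have hwU : ¬ (w ∈ Subgroup.zpowers w₀) := by
      intro h0
      have h2 : Subgroup.zpowers (e.symm w) = Subgroup.zpowers y := (hUiff w).mpr ⟨h0, hw1⟩
      have h5 : N = orderOf (e.symm w) := by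
        rw [hNdef, ← Nat.card_zpowers y, ← h2, Nat.card_zpowers]
      have h3 : N ∣ l ^ N.factorization l := (dvd_of_eq h5).trans hul
      obtain ⟨a, b, ha, hb, hab, haN, hbN⟩ := hN
      exact hab (((Nat.prime_dvd_prime_iff_eq ha hl).mp (ha.dvd_of_dvd_pow (haN.trans h3))).trans
        ((Nat.prime_dvd_prime_iff_eq hb hl).mp (hb.dvd_of_dvd_pow (hbN.trans h3))).symm)
    have hww₀ : w₀ ∈ Subgroup.zpowers w := by
      rcases (htwin w₀ hw₀ w).mpr ((hnbhdH w).mpr huy).symm with h0 | h0
      · exact h0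
      · exact absurd h0 hwU
    -- the whole fibre lies in `T`
    have hfib : (T.filter fun a => Subgroup.zpowers a = Subgroup.zpowers w).card =
        Nat.totient (orderOf w) := by
      rw [← card_gens w, Nat.card_eq_fintype_card, Fintype.card_subtype]
      congr 1
      ext v
      simp only [hT, Finset.mem_filter, Finset.mem_univ, true_and, and_iff_right_iff_imp]
      intro hv
      have hadj : Adj (e.symm v) y := by
        have h7 := (he' v h).mpr ((adj_congr hv h).mpr ((hnbhdH w).mpr huy))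
        rwa [hh, e.symm_apply_apply] at h7
      have hvy := (hnbhd _).mp hadj
      have hv1 : v ≠ 1 := fun h0 => hw1 (by
        rw [h0, Subgroup.zpowers_one_eq_bot, eq_comm, Subgroup.zpowers_eq_bot] at hv
        exact hv)
      refine ⟨hv1, mem_of_dvd hvy (hPmem l) ?_⟩
      rw [hPord]
      have hone : ∀ d, d.Prime → d ∣ orderOf (e.symm v) → d = l := by
        intro d hd hdv
        by_contra hne
        obtain ⟨c, hc, hco⟩ := exists_orderOf (e.symm v) hdv
        refine not_adj_of_coprime (y := c) hu1 (fun h0 => hd.one_lt.ne (by rw [← hco, h0, orderOf_one])) ?_ ?_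
        · rw [hco]
          exact (Nat.Coprime.pow_left _ ((Nat.coprime_primes hl hd).mpr (Ne.symm hne))).coprime_dvd_left hul
        · rw [he, e.apply_symm_apply, ← adj_congr hv, ← he', e.symm_apply_apply]
          exact Or.inr hc
      have h4 := Nat.eq_prime_pow_of_unique_prime_dvd (orderOf_pos (e.symm v)).ne'
        (fun {d} hd hdv => hone d hd hdv)
      rw [h4]
      exact pow_dvd_pow l ((hl.pow_dvd_iff_le_factorization hN0).mp
        (h4 ▸ orderOf_dvd_of_mem hvy))
    rw [hfib, ← hs]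
    exact Nat.totient_dvd_of_dvd (orderOf_dvd_of_mem hww₀)
  exact arith hr hs0 hp hq hpq hN0 hpN hqN hphi hdiv


/-- Let G and H be finite groups whose power graphs are isomorphic: there is a bijection e : G → H such that, for all x, y, one of x, y is a power of the other exactly when one of e(x), e(y) is a power of the other. Then G and H have the same prime graph: for distinct primes p, q, G has an element of order pq if and only if H does. -/
theorem result {G H : Type*} [Group G] [Finite G] [Group H] [Finite H] (e : G ≃ H)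
    (he : ∀ x y : G, (x ∈ Subgroup.zpowers y ∨ y ∈ Subgroup.zpowers x) ↔
      (e x ∈ Subgroup.zpowers (e y) ∨ e y ∈ Subgroup.zpowers (e x)))
    {p q : ℕ} (hp : p.Prime) (hq : q.Prime) (hpq : p ≠ q) :
    (∃ g : G, orderOf g = p * q) ↔ (∃ h : H, orderOf h = p * q) := by
  refine ⟨fun ⟨g, hg⟩ => main e he hp hq hpq g hg, fun ⟨g, hg⟩ => main e.symm ?_ hp hq hpq g hg⟩
  intro a b
  unfold Adj
  rw [he (e.symm a) (e.symm b)]
  simp

end Cfsg.Agent.S4085
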