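import Cfsg.Statements.S4086
import Mathlib

set_option autoImplicit false
open Cfsg

namespace Cfsg.Agent.S4086

/-- For a finite group G the following are equivalent: every non-identity element has prime-power order; whenever two elements generate a cyclic subgroup, one of them is a power of the other (the enhanced power graph of G coincides with its power graph). -/
theorem result {G : Type*} [Group G] [Finite G] :
    (∀ g : G, g ≠ 1 → IsPrimePow (orderOf g)) ↔
    (∀ x y : G, IsCyclic ↥(Subgroup.closure ({x, y} : Set G)) → (x ∈ Subgroup.zpowers y ∨ y ∈ Subgroup.zpowers x)) := by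
  constructor
  · intro h x y hc
    set H := Subgroup.closure ({x, y} : Set G)
    obtain ⟨c, hc'⟩ := hc
    have hx : x ∈ H := Subgroup.subset_closure (by simp)
    have hy : y ∈ H := Subgroup.subset_closure (by simp)
    obtain ⟨a, ha⟩ := hc' ⟨x, hx⟩
    obtain ⟨b, hb⟩ := hc' ⟨y, hy⟩
    have hax : (c : G) ^ a = x := by simpa using congrArg Subtype.val ha
    have hby : (c : G) ^ b = y := by simpa using congrArg Subtype.val hb
    rcases eq_or_ne (c : G) 1 with h1 | h1
    · left; rw [← hax, h1, one_zpow]; exact one_mem _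
    obtain ⟨p, k, hp, hk, hpk⟩ := (isPrimePow_nat_iff _).mp (h _ h1)
    haveI : IsCyclic (Subgroup.zpowers (c : G)) := inferInstance
    have hcard : Nat.card (Subgroup.zpowers (c : G)) = p ^ k := by rw [Nat.card_zpowers, hpk]
    have key : ∀ u v : G, u ∈ Subgroup.zpowers (c : G) → v ∈ Subgroup.zpowers (c : G) →
        orderOf u ∣ orderOf v → u ∈ Subgroup.zpowers v := by
      intro u v hu hv huv
      classical
      set Z := Subgroup.zpowers (c : G)
      haveI := Fintype.ofFinite Z
      set v' : Z := ⟨v, hv⟩ with hv'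
      set u' : Z := ⟨u, hu⟩ with hu'
      have hpos : 0 < orderOf v' := orderOf_pos v'
      have hsub : (Subgroup.zpowers v' : Set Z) ⊆ {w : Z | w ^ orderOf v' = 1} := by
        intro w hw
        exact orderOf_dvd_iff_pow_eq_one.mp (orderOf_dvd_of_mem_zpowers hw)
      have hle : ({w : Z | w ^ orderOf v' = 1}).ncard ≤ orderOf v' := by
        rw [Set.ncard_eq_toFinset_card']
        refine le_trans (le_of_eq ?_) (IsCyclic.card_pow_eq_one_le (α := Z) hpos)
        congr 1; ext; simp
      have heq : (Subgroup.zpowers v' : Set Z) = {w : Z | w ^ orderOf v' = 1} := by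
        refine Set.eq_of_subset_of_ncard_le hsub (hle.trans_eq ?_) (Set.toFinite _)
        rw [← Nat.card_coe_set_eq]; exact (Nat.card_zpowers v').symm
      have hmem : u' ∈ {w : Z | w ^ orderOf v' = 1} := by
        refine orderOf_dvd_iff_pow_eq_one.mp ?_
        rw [hu', hv', Subgroup.orderOf_mk, Subgroup.orderOf_mk]; exact huv
      rw [← heq] at hmem
      obtain ⟨e, he⟩ := hmem
      exact ⟨e, by simpa [hu', hv'] using congrArg Subtype.val he⟩
    have hxc : x ∈ Subgroup.zpowers (c : G) := ⟨a, hax⟩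
    have hyc : y ∈ Subgroup.zpowers (c : G) := ⟨b, hby⟩
    have dx : orderOf x ∣ p ^ k := hpk ▸ orderOf_dvd_of_mem_zpowers hxc
    have dy : orderOf y ∣ p ^ k := hpk ▸ orderOf_dvd_of_mem_zpowers hyc
    obtain ⟨i, -, hi⟩ := (Nat.dvd_prime_pow hp).mp dx
    obtain ⟨j, -, hj⟩ := (Nat.dvd_prime_pow hp).mp dy
    rcases le_total i j with hij | hij
    · exact Or.inl (key x y hxc hyc (hi ▸ hj ▸ pow_dvd_pow p hij))
    · exact Or.inr (key y x hyc hxc (hi ▸ hj ▸ pow_dvd_pow p hij))
  · intro h g hg
    by_contra hne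
    obtain ⟨p, hp, hpd⟩ := Nat.exists_prime_and_dvd (mt orderOf_eq_one_iff.mp hg)
    obtain ⟨k, m, hm, hkm⟩ := Nat.exists_eq_pow_mul_and_not_dvd (orderOf_pos g).ne' p hp.ne_one
    have hk : 0 < k := by
      rcases Nat.eq_zero_or_pos k with rfl | hk
      · rw [pow_zero, one_mul] at hkm; exact absurd (hkm ▸ hpd) hm
      · exact hk
    have hm1 : m ≠ 1 := fun h1 => hne (by rw [hkm, h1, mul_one]; exact (hp.isPrimePow).pow hk.ne')
    have ho1 : orderOf (g ^ m) = p ^ k := by
      rw [orderOf_pow, hkm, Nat.gcd_eq_right (Dvd.intro_left _ rfl), Nat.mul_div_cancel _ (Nat.pos_of_ne_zero (fun h0 => hm (by rw [h0]; exact dvd_zero p)))]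
    have ho2 : orderOf (g ^ (p ^ k)) = m := by
      rw [orderOf_pow, hkm, Nat.gcd_eq_right (Dvd.intro _ rfl), Nat.mul_div_cancel_left _ (pow_pos hp.pos k)]
    have hcyc : IsCyclic ↥(Subgroup.closure ({g ^ m, g ^ (p ^ k)} : Set G)) := by
      have hle : Subgroup.closure ({g ^ m, g ^ (p ^ k)} : Set G) ≤ Subgroup.zpowers g := by
        rw [Subgroup.closure_le]
        rintro z (rfl | rfl) <;> exact Subgroup.pow_mem _ (Subgroup.mem_zpowers g) _
      exact isCyclic_of_injective (Subgroup.inclusion hle) (Subgroup.inclusion_injective hle)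
    have hcop : (p ^ k).Coprime m := Nat.Coprime.pow_left k (hp.coprime_iff_not_dvd.mpr hm)
    rcases h _ _ hcyc with h' | h' <;>
      have hd := orderOf_dvd_of_mem_zpowers h' <;> rw [ho1, ho2] at hd
    · have := Nat.eq_one_of_dvd_coprimes hcop dvd_rfl hd
      exact absurd this (Nat.one_lt_pow hk.ne' hp.one_lt).ne'
    · exact hm1 (Nat.eq_one_of_dvd_coprimes hcop hd dvd_rfl)

end Cfsg.Agent.S4086
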