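import Cfsg.Statements.S4088
import Mathlib
import Cfsg.Agent.Lib.FgsB.Subnormalizer

set_option autoImplicit false
set_option linter.style.haveILetI false
open Cfsg
open scoped Pointwise

namespace Cfsg.Agent.S4088


/-- Let G be a finite group, p a prime dividing the order of G, H a p-subgroup of G and P a Sylow p-subgroup of G. Call the subnormalizer of H the set of elements g of G such that H is subnormal in the subgroup generated by H and g. Then the number of elements of the subnormalizer of H equals the number of Sylow p-subgroups of G containing H times the order of N_G(P), and also equals the number of conjugates of H contained in P times the order of N_G(H). -/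
theorem result {G : Type*} [Group G] [Finite G] (p : ℕ) [Fact p.Prime]
    (hp : p ∣ Nat.card G) (H : Subgroup G) (hH : IsPGroup p H) (P : Sylow p G) :
    Nat.card {g : G // ((H).subgroupOf (H ⊔ Subgroup.zpowers g)).IsSubnormal} =
        Nat.card {Q : Sylow p G // H ≤ (Q : Subgroup G)} * Nat.card (Subgroup.normalizer ((P : Subgroup G) : Set G)) ∧
    Nat.card {g : G // ((H).subgroupOf (H ⊔ Subgroup.zpowers g)).IsSubnormal} =
        Nat.card {K : Subgroup G // K ≤ (P : Subgroup G) ∧ ∃ g : G, K = H.map (MulAut.conj g).toMonoidHom} *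
          Nat.card (Subgroup.normalizer (H : Set G)) := by
  classical
  open CfsgLib.Subnormalizer in
  have h1 : Nat.card {g : G // ((H).subgroupOf (H ⊔ Subgroup.zpowers g)).IsSubnormal} =
      sylowCount p H * Nat.card (Subgroup.normalizer ((P : Subgroup G) : Set G)) := by
    rw [← card_subn H P]
    exact Nat.card_congr (Equiv.subtypeEquivRight fun g => (mem_subn_iff hH g).symm)
  refine ⟨h1, h1.trans ?_⟩
  -- count the incident pairs
  set C := {K : Subgroup G | ∃ g : G, K = H.map (MulAut.conj g).toMonoidHom} with hC
  have hconj : ∀ (g : G) (K L : Subgroup G),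
      K.map (MulAut.conj g).toMonoidHom ≤ L.map (MulAut.conj g).toMonoidHom ↔ K ≤ L := fun g K L =>
    Subgroup.map_le_map_iff_of_injective (MulAut.conj g).injective
  have hrow : ∀ K : C, Nat.card {Q : Sylow p G // (K : Subgroup G) ≤ Q} =
      CfsgLib.Subnormalizer.sylowCount p H := by
    rintro ⟨K, g, rfl⟩
    refine (Nat.card_congr ((MulAction.toPerm g).subtypeEquiv fun Q => ?_)).symm
    show H ≤ (Q : Subgroup G) ↔ H.map (MulAut.conj g).toMonoidHom ≤ ((g • Q : Sylow p G) : Subgroup G)
    rw [Sylow.coe_subgroup_smul]
    exact (hconj g H _).symm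
  set α := Nat.card {K : Subgroup G // K ≤ (P : Subgroup G) ∧ ∃ g : G, K = H.map (MulAut.conj g).toMonoidHom} with hα
  have hcol : ∀ Q : Sylow p G, Nat.card {K : C // (K : Subgroup G) ≤ Q} = α := by
    intro Q
    obtain ⟨g, hg⟩ := MulAction.exists_smul_eq G P Q
    have hQ : (Q : Subgroup G) = (P : Subgroup G).map (MulAut.conj g).toMonoidHom := by
      rw [← hg, Sylow.coe_subgroup_smul]; rfl
    have hmem : ∀ (a : G) (K : Subgroup G), K ∈ C → K.map (MulAut.conj a).toMonoidHom ∈ C := by
      rintro a K ⟨b, rfl⟩
      refine ⟨a * b, ?_⟩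
      rw [Subgroup.map_map]; congr 1; ext x; simp [mul_assoc]
    have hinv : ∀ (a : G) (K : Subgroup G),
        (K.map (MulAut.conj a).toMonoidHom).map (MulAut.conj a⁻¹).toMonoidHom = K := by
      intro a K
      rw [Subgroup.map_map]
      conv_rhs => rw [← Subgroup.map_id K]
      congr 1; ext x; simp [mul_assoc]
    have hinv' : ∀ (a : G) (K : Subgroup G),
        (K.map (MulAut.conj a⁻¹).toMonoidHom).map (MulAut.conj a).toMonoidHom = K := by
      intro a K
      simpa using hinv a⁻¹ K
    refine (Nat.card_congr
      { toFun := fun K => ⟨⟨K.1.map (MulAut.conj g).toMonoidHom, hmem g _ K.2.2⟩, by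
          show K.1.map _ ≤ (Q : Subgroup G)
          rw [hQ]; exact Subgroup.map_mono K.2.1⟩
        invFun := fun K => ⟨K.1.1.map (MulAut.conj g⁻¹).toMonoidHom, by
          rw [← hinv g (P : Subgroup G), ← hQ]
          exact Subgroup.map_mono K.2, hmem g⁻¹ _ K.1.2⟩
        left_inv := fun K => Subtype.ext (hinv g K.1)
        right_inv := fun K => Subtype.ext (Subtype.ext (hinv' g K.1.1)) }).symm
  letI : Fintype C := Fintype.ofFinite _
  letI : Fintype (Sylow p G) := Fintype.ofFinite _
  have hdc : Nat.card C * CfsgLib.Subnormalizer.sylowCount p H = Nat.card (Sylow p G) * α := by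
    have := Finset.sum_card_bipartiteAbove_eq_sum_card_bipartiteBelow
      (s := (Finset.univ : Finset C)) (t := (Finset.univ : Finset (Sylow p G)))
      (fun (K : C) (Q : Sylow p G) => (K : Subgroup G) ≤ Q)
    simp only [Finset.bipartiteAbove, Finset.bipartiteBelow, ← Fintype.card_subtype,
      ← Nat.card_eq_fintype_card, hrow, hcol] at this
    simpa [Nat.card_eq_fintype_card] using this
  have hCcard : Nat.card C = (Subgroup.normalizer (H : Set G)).index := by
    letI : MulAction G (Subgroup G) := MulAction.compHom _ (MulAut.conj : G →* MulAut G)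
    have hst : MulAction.stabilizer G H = Subgroup.normalizer (H : Set G) := by
      ext g
      rw [MulAction.mem_stabilizer_iff, Subgroup.mem_normalizer_iff_map_conj_eq]
      rfl
    rw [← hst, MulAction.index_stabilizer, Set.ncard]
    have : C = MulAction.orbit G H := by
      ext K; exact ⟨fun ⟨g, hg⟩ => ⟨g, hg.symm⟩, fun ⟨g, hg⟩ => ⟨g, hg.symm⟩⟩
    rw [this]; rfl
  have e1 := Subgroup.card_mul_index (Subgroup.normalizer (H : Set G))
  have e2 := CfsgLib.Subnormalizer.card_normalizer_sylow_mul P
  refine Nat.eq_of_mul_eq_mul_left (Nat.card_pos (α := Sylow p G)) ?_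
  generalize hl : CfsgLib.Subnormalizer.sylowCount p H = l at *
  calc Nat.card (Sylow p G) * (l * Nat.card (Subgroup.normalizer ((P : Subgroup G) : Set G)))
      = l * (Nat.card (Sylow p G) * Nat.card (Subgroup.normalizer ((P : Subgroup G) : Set G))) := by
        ring
    _ = l * (Nat.card (Subgroup.normalizer (H : Set G)) * Nat.card C) := by rw [e2, hCcard, e1]
    _ = Nat.card C * l * Nat.card (Subgroup.normalizer (H : Set G)) := by ring
    _ = _ := by rw [hdc]; ring

end Cfsg.Agent.S4088
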