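import Cfsg.Statements.S4089
import Cfsg.Agent.Lib.Base.Cores
import Cfsg.Agent.Lib.Base.Nilpotent

set_option autoImplicit false
open Cfsg

namespace Cfsg.Agent.S4089

open Subgroup CfsgLib.Base
open scoped Pointwise

variable {G : Type*} [Group G] [Finite G] {p : ℕ} [Fact p.Prime]

/-- `R = O_p(N_G(R))`. -/
def Radical (p : ℕ) (R : Subgroup G) : Prop :=
  (Cfsg.pCore p (normalizer (R : Set G))).map (normalizer (R : Set G)).subtype = R

theorem exists_radical {R₀ : Subgroup G} (h : IsPGroup p R₀) :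
    ∃ R : Subgroup G, R₀ ≤ R ∧ Radical p R ∧
      normalizer (R₀ : Set G) ≤ normalizer (R : Set G) := by
  obtain ⟨R, ⟨hR, hle, hN⟩, hmax⟩ := Set.Finite.exists_maximal
    (s := {R : Subgroup G | IsPGroup p R ∧ R₀ ≤ R ∧
      normalizer (R₀ : Set G) ≤ normalizer (R : Set G)})
    (Set.toFinite _) ⟨R₀, h, le_rfl, le_rfl⟩
  have h1 := le_map_pCore (p := p) (le_normalizer (H := R)) le_rfl hR
  exact ⟨R, hle, le_antisymm (hmax ⟨isPGroup_map_pCore p _, hle.trans h1,
    hN.trans (le_normalizer_map_pCore _)⟩ h1) h1, hN⟩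

theorem subnormal_iff {H : Subgroup G} (hH : IsPGroup p H) (g : G) :
    (H.subgroupOf (H ⊔ zpowers g)).IsSubnormal ↔
      ∃ R : Subgroup G, H ≤ R ∧ Radical p R ∧ g ∈ normalizer (R : Set G) := by
  constructor
  · intro hsn
    have hle : H ≤ (Cfsg.pCore p ↥(H ⊔ zpowers g)).map (H ⊔ zpowers g).subtype := by
      conv_lhs => rw [← map_subgroupOf_eq_of_le (le_sup_left : H ≤ H ⊔ zpowers g)]
      exact map_mono (le_pCore_of_isSubnormal hsn hH.comap_subtype)
    obtain ⟨R, hR1, hR2, hR3⟩ := exists_radical (isPGroup_map_pCore p (H ⊔ zpowers g))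
    exact ⟨R, hle.trans hR1, hR2,
      hR3 (le_normalizer_map_pCore _ (mem_sup_right (mem_zpowers g)))⟩
  · rintro ⟨R, hHR, hR, hg⟩
    have hK : H ⊔ zpowers g ≤ normalizer (R : Set G) :=
      sup_le (hHR.trans le_normalizer) (zpowers_le.mpr hg)
    have hRp : IsPGroup p R := hR ▸ isPGroup_map_pCore p _
    haveI : (R.subgroupOf (H ⊔ zpowers g)).Normal := normal_subgroupOf_of_le_normalizer hK
    haveI : Group.IsNilpotent ↥(R.subgroupOf (H ⊔ zpowers g)) :=
      (hRp.comap_subtype (K := H ⊔ zpowers g)).isNilpotent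
    exact IsSubnormal.trans (K := R.subgroupOf (H ⊔ zpowers g))
      (comap_mono hHR) (isSubnormal_of_isNilpotent _)
      (Normal.isSubnormal inferInstance)

/-- A radical `p`-subgroup is the intersection of the Sylow subgroups containing it. -/
theorem sylowInf_le_radical {H R : Subgroup G} (hHR : H ≤ R) (hR : Radical p R) :
    sInf {K : Subgroup G | ∃ Q : Sylow p G, H ≤ (Q : Subgroup G) ∧ K = (Q : Subgroup G)} ≤ R := by
  have hRp : IsPGroup p R := hR ▸ isPGroup_map_pCore p _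
  set J := sInf {K : Subgroup G | ∃ Q : Sylow p G, R ≤ (Q : Subgroup G) ∧ K = (Q : Subgroup G)}
  obtain ⟨Q₀, hQ₀⟩ := hRp.exists_le_sylow
  have hJp : IsPGroup p J := Q₀.2.to_le (sInf_le ⟨Q₀, hQ₀, rfl⟩)
  have hRJ : R ≤ J := le_sInf (by rintro _ ⟨Q, hQ, rfl⟩; exact hQ)
  have hN : normalizer (R : Set G) ≤ normalizer (J : Set G) := by
    have key : ∀ n ∈ normalizer (R : Set G), ∀ x ∈ J, n * x * n⁻¹ ∈ J := by
      intro n hn x hx
      simp only [J, mem_sInf] at hx ⊢
      rintro _ ⟨Q, hQ, rfl⟩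
      have h1 := hx ((n⁻¹ • Q : Sylow p G) : Subgroup G) ⟨n⁻¹ • Q, fun r hr => by
        rw [Sylow.coe_subgroup_smul, mem_pointwise_smul_iff_inv_smul_mem]
        simpa [MulAut.smul_def] using hQ ((mem_normalizer_iff.mp hn r).mp hr), rfl⟩
      rw [Sylow.coe_subgroup_smul, mem_pointwise_smul_iff_inv_smul_mem] at h1
      simpa [MulAut.smul_def] using h1
    intro n hn
    refine mem_normalizer_iff.mpr fun x => ⟨key n hn x, fun h => ?_⟩
    have h2 := key n⁻¹ (inv_mem hn) _ h
    simpa [mul_assoc] using h2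
  have hD : normalizer (R : Set G) ⊓ J ≤ R := by
    conv_rhs => rw [← hR]
    refine le_map_pCore inf_le_left ?_ (hJp.to_le inf_le_right)
    intro n hn
    refine mem_normalizer_iff.mpr fun x => ?_
    simp only [mem_inf, mem_normalizer_iff.mp (hN hn) x]
    exact and_congr_left fun _ => mem_normalizer_iff.mp (le_normalizer hn) x
  have hJ : J = R := by
    by_contra hne
    have hlt : R.subgroupOf J < ⊤ := lt_top_iff_ne_top.mpr fun h =>
      hne (le_antisymm (subgroupOf_eq_top.mp h) hRJ)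
    haveI : Group.IsNilpotent J := hJp.isNilpotent
    obtain ⟨x, hx, hxR⟩ := SetLike.exists_of_lt (normalizerCondition_of_isNilpotent _ hlt)
    refine hxR (mem_subgroupOf.mpr (hD ⟨mem_normalizer_iff.mpr fun y => ⟨fun hy => ?_, fun hy => ?_⟩,
      x.2⟩))
    · exact mem_subgroupOf.mp ((mem_normalizer_iff.mp hx ⟨y, hRJ hy⟩).mp (mem_subgroupOf.mpr hy))
    · have hyJ : y ∈ J := by
        have h := mul_mem (mul_mem (inv_mem x.2) (hRJ hy)) x.2
        simpa [mul_assoc] using h
      exact mem_subgroupOf.mp ((mem_normalizer_iff.mp hx ⟨y, hyJ⟩).mpr (mem_subgroupOf.mpr hy))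
  calc _ ≤ J := sInf_le_sInf (by rintro _ ⟨Q, hQ, rfl⟩; exact ⟨Q, hHR.trans hQ, rfl⟩)
    _ = R := hJ

/-- Let G be a finite group, p a prime and H a p-subgroup of G. Then the set of elements g of G such that H is subnormal in the subgroup generated by H and g is the union of the normalizers N_G(R) over the subgroups R of G containing H with R = O_p(N_G(R)); and this set does not change when H is replaced by the intersection of all Sylow p-subgroups of G containing H. -/
theorem result {G : Type*} [Group G] [Finite G] (p : ℕ) [Fact p.Prime]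
    (H : Subgroup G) (hH : IsPGroup p H) :
    {g : G | ((H).subgroupOf (H ⊔ Subgroup.zpowers g)).IsSubnormal} =
      {g : G | ∃ R : Subgroup G, H ≤ R ∧ (Cfsg.pCore p (Subgroup.normalizer (R : Set G))).map (Subgroup.normalizer (R : Set G)).subtype = R ∧ g ∈ Subgroup.normalizer (R : Set G)} ∧
    ∀ g : G, (((H).subgroupOf (H ⊔ Subgroup.zpowers g)).IsSubnormal ↔
      (((sInf {K : Subgroup G | ∃ Q : Sylow p G, H ≤ (Q : Subgroup G) ∧ K = (Q : Subgroup G)})).subgroupOf ((sInf {K : Subgroup G | ∃ Q : Sylow p G, H ≤ (Q : Subgroup G) ∧ K = (Q : Subgroup G)}) ⊔ Subgroup.zpowers g)).IsSubnormal) := by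
  refine ⟨Set.ext fun g => subnormal_iff hH g, fun g => ?_⟩
  obtain ⟨Q, hQ⟩ := hH.exists_le_sylow
  set I := sInf {K : Subgroup G | ∃ Q : Sylow p G, H ≤ (Q : Subgroup G) ∧ K = (Q : Subgroup G)}
  have hI : IsPGroup p I := Q.2.to_le (sInf_le ⟨Q, hQ, rfl⟩)
  have hHI : H ≤ I := le_sInf (by rintro _ ⟨Q, hQ, rfl⟩; exact hQ)
  rw [subnormal_iff hH, subnormal_iff hI]
  exact ⟨fun ⟨R, h1, h2, h3⟩ => ⟨R, sylowInf_le_radical h1 h2, h2, h3⟩,
    fun ⟨R, h1, h2, h3⟩ => ⟨R, hHI.trans h1, h2, h3⟩⟩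

end Cfsg.Agent.S4089
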