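import Cfsg.Statements.S4090
import Mathlib
import Cfsg.Agent.Lib.FgsB.SylowCountQuotient

set_option autoImplicit false
open scoped BigOperators
set_option linter.style.haveILetI false
open Cfsg

namespace Cfsg.Agent.S4090

open CfsgLib.Subnormalizer

variable {G : Type*} [Group G] [Finite G] {Gb : Type*} [Group Gb] [Finite Gb] {p : ℕ}
  [hp : Fact p.Prime]

theorem subn_step_pGroup (f : G →* Gb) (hf : Function.Surjective f) (hK : IsPGroup p f.ker)
    (H : Subgroup G) (P : Sylow p G) (Pb : Sylow p Gb) :
    Nat.card (subn p H) * Nat.card (Pb : Subgroup Gb) =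
      Nat.card (subn p (H.map f)) * Nat.card (P : Subgroup G) := by
  have hn : Nat.card (Sylow p G) = Nat.card (Sylow p Gb) := by
    rw [← sylowCount_bot, ← sylowCount_bot, ← sylowCount_map_of_pGroup f hf hK ⊥, Subgroup.map_bot]
  have hN : Nat.card (Subgroup.normalizer ((P : Subgroup G) : Set G)) =
      Nat.card (Subgroup.normalizer ((Pb : Subgroup Gb) : Set Gb)) * Nat.card f.ker := by
    refine Nat.eq_of_mul_eq_mul_left (Nat.card_pos (α := Sylow p G)) ?_
    rw [card_normalizer_sylow_mul P, hn, ← mul_assoc, card_normalizer_sylow_mul Pb]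
    exact card_eq_card_map_mul f hf
  have hP : Nat.card (P : Subgroup G) = Nat.card (Pb : Subgroup Gb) * Nat.card f.ker := by
    obtain ⟨k, hk⟩ := IsPGroup.iff_card.mp hK
    rw [Sylow.card_eq_multiplicity, Sylow.card_eq_multiplicity, card_eq_card_map_mul f hf, hk,
      Nat.factorization_mul Nat.card_pos.ne' (pow_ne_zero _ hp.out.ne_zero), ← pow_add]
    simp [Nat.Prime.factorization_pow hp.out]
  rw [card_subn H P, card_subn _ Pb, sylowCount_map_of_pGroup f hf hK, hN, hP]
  ring

theorem subn_step_coprime (f : G →* Gb) (hf : Function.Surjective f) (hK : ¬ p ∣ Nat.card f.ker)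
    (H : Subgroup G) (hH : IsPGroup p H) (P : Sylow p G) (Pb : Sylow p Gb) :
    Nat.card (subn p H) * Nat.card (Pb : Subgroup Gb) =
      Nat.card (subn p (H.map f)) * Nat.card (f.ker ⊓ Subgroup.centralizer (H : Set G) : Subgroup G) *
        Nat.card (P : Subgroup G) := by
  set C := Nat.card (f.ker ⊓ Subgroup.centralizer ((P : Subgroup G) : Set G) : Subgroup G) with hC
  have hbot : Nat.card (Sylow p G) * C = Nat.card (Sylow p Gb) * Nat.card f.ker := by
    have h1 := sylowCount_mul_of_coprime f hf hK ⊥ IsPGroup.of_bot P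
    rw [Subgroup.map_bot, sylowCount_bot, sylowCount_bot] at h1
    rw [h1]
    congr 1
    rw [inf_eq_left.mpr]
    intro y _
    refine Subgroup.mem_centralizer_iff.mpr fun z hz => ?_
    rw [Subgroup.mem_bot.mp hz, one_mul, mul_one]
  have hN : Nat.card (Subgroup.normalizer ((P : Subgroup G) : Set G)) =
      Nat.card (Subgroup.normalizer ((Pb : Subgroup Gb) : Set Gb)) * C := by
    refine Nat.eq_of_mul_eq_mul_left (Nat.card_pos (α := Sylow p G)) ?_
    rw [card_normalizer_sylow_mul P, mul_left_comm, hbot, ← mul_assoc, mul_comm (Nat.card _) (Nat.card (Sylow p Gb)),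
      card_normalizer_sylow_mul Pb]
    exact card_eq_card_map_mul f hf
  have hP : Nat.card (P : Subgroup G) = Nat.card (Pb : Subgroup Gb) := by
    rw [Sylow.card_eq_multiplicity, Sylow.card_eq_multiplicity, card_eq_card_map_mul f hf,
      Nat.factorization_mul Nat.card_pos.ne' Nat.card_pos.ne', Finsupp.add_apply,
      Nat.factorization_eq_zero_of_not_dvd hK, add_zero]
  rw [card_subn H P, card_subn _ Pb, hN, hP]
  have h1 := sylowCount_mul_of_coprime f hf hK H hH P
  calc sylowCount p H * (Nat.card (Subgroup.normalizer ((Pb : Subgroup Gb) : Set Gb)) * C) *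
      Nat.card (Pb : Subgroup Gb)
      = sylowCount p H * C * Nat.card (Subgroup.normalizer ((Pb : Subgroup Gb) : Set Gb)) *
        Nat.card (Pb : Subgroup Gb) := by ring
    _ = _ := by rw [h1]; ring


/-- Let G be a finite p-solvable group, H a p-subgroup of G and P a Sylow p-subgroup, and fix a chain of normal subgroups 1 = M₀ ≤ M₁ ≤ ⋯ ≤ Mₙ = G of G each of whose factors is a p-group or a p'-group. Then the number of elements g of G such that H is subnormal in the subgroup generated by H and g equals the order of P times the product, over the factors Mᵢ₊₁/Mᵢ of order prime to p, of the order of the centralizer of H in Mᵢ₊₁/Mᵢ (counted as the number of u ∈ Mᵢ₊₁ with [h, u] ∈ Mᵢ for all h ∈ H, divided by the order of Mᵢ). -/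
theorem result {G : Type*} [Group G] [Finite G] (p : ℕ) [Fact p.Prime]
    (hG : Cfsg.IsPSolvable p G) (H : Subgroup G) (hH : IsPGroup p H) (P : Sylow p G)
    (n : ℕ) (M : Fin (n + 1) → Subgroup G) (h0 : M 0 = ⊥) (hn : M (Fin.last n) = ⊤) (hmono : Monotone M)
    (hnormal : ∀ i, (M i).Normal)
    (hfac : ∀ i : Fin n, (∃ m : ℕ, (M i.castSucc).relIndex (M i.succ) = p ^ m) ∨ ((M i.castSucc).relIndex (M i.succ)).Coprime p) :
    Nat.card {g : G // ((H).subgroupOf (H ⊔ Subgroup.zpowers g)).IsSubnormal} =
      Nat.card (P : Subgroup G) *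
        ∏ i : Fin n, (if ((M i.castSucc).relIndex (M i.succ)).Coprime p then
          Nat.card {u : G // u ∈ M i.succ ∧ ∀ h ∈ H, h * u * h⁻¹ * u⁻¹ ∈ M i.castSucc} / Nat.card (M i.castSucc)
          else 1) := by
  classical
  open CfsgLib.Subnormalizer in
  have hS0 : Nat.card {g : G // ((H).subgroupOf (H ⊔ Subgroup.zpowers g)).IsSubnormal} =
      Nat.card (subn p H) :=
    Nat.card_congr (Equiv.subtypeEquivRight fun g => (mem_subn_iff hH g).symm)
  rw [hS0]
  have hnp := Fact.out (p := p.Prime)
  haveI hMn : ∀ i, (M i).Normal := hnormal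
  set t : Fin n → ℕ := fun i => if ((M i.castSucc).relIndex (M i.succ)).Coprime p then
      Nat.card {u : G // u ∈ M i.succ ∧ ∀ h ∈ H, h * u * h⁻¹ * u⁻¹ ∈ M i.castSucc} / Nat.card (M i.castSucc)
      else 1 with ht
  open CfsgLib.Subnormalizer in
  have hstep : ∀ i : Fin (n + 1), ∀ Pi : Sylow p (G ⧸ M i),
      Nat.card (subn p H) * Nat.card (Pi : Subgroup (G ⧸ M i)) =
        Nat.card (subn p (H.map (QuotientGroup.mk' (M i)))) *
          (∏ j ∈ Finset.univ.filter (fun j : Fin n => j.castSucc < i), t j) *
          Nat.card (P : Subgroup G) := by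
    intro i
    induction i using Fin.induction with
    | zero =>
      intro Pi
      rw [Finset.filter_false_of_mem (by simp), Finset.prod_empty, mul_one]
      refine subn_step_pGroup _ (QuotientGroup.mk'_surjective _) ?_ H P Pi
      rw [QuotientGroup.ker_mk', h0]
      exact IsPGroup.of_bot
    | succ i ih =>
      intro Pi'
      let Pi : Sylow p (G ⧸ M i.castSucc) := default
      have hle : M i.castSucc ≤ M i.succ := hmono (Fin.castSucc_le_succ i)
      set f := QuotientGroup.map (M i.castSucc) (M i.succ) (MonoidHom.id G) hle with hf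
      have hfs : Function.Surjective f := fun y => by
        obtain ⟨x, rfl⟩ := QuotientGroup.mk_surjective y
        exact ⟨x, rfl⟩
      have hfx : ∀ x : G, f (x : G ⧸ M i.castSucc) = (x : G ⧸ M i.succ) := fun x => rfl
      have hker : f.ker = (M i.succ).map (QuotientGroup.mk' (M i.castSucc)) := by
        ext y
        obtain ⟨x, rfl⟩ := QuotientGroup.mk_surjective y
        rw [MonoidHom.mem_ker, hfx, QuotientGroup.eq_one_iff]
        constructor
        · exact fun hx => ⟨x, hx, rfl⟩
        · rintro ⟨z, hz, hzx⟩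
          have h1 := hle (QuotientGroup.eq.mp hzx)
          simpa using (M i.succ).mul_mem hz h1
      have hkcard : Nat.card f.ker = (M i.castSucc).relIndex (M i.succ) := by
        rw [hker, ← Subgroup.relIndex_bot_left, ← Subgroup.relIndex_comap, MonoidHom.comap_bot,
          QuotientGroup.ker_mk']
      have hmap : (H.map (QuotientGroup.mk' (M i.castSucc))).map f = H.map (QuotientGroup.mk' (M i.succ)) := by
        rw [Subgroup.map_map]; rfl
      have hih := ih Pi
      have hsplit : (Finset.univ.filter (fun j : Fin n => j.castSucc < i.succ)) =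
          insert i (Finset.univ.filter (fun j : Fin n => j.castSucc < i.castSucc)) := by
        ext j
        simp only [Finset.mem_filter, Finset.mem_univ, true_and, Finset.mem_insert,
          Fin.castSucc_lt_succ_iff, Fin.castSucc_lt_castSucc_iff]
        exact le_iff_eq_or_lt
      rw [hsplit, Finset.prod_insert (by simp)]
      refine Nat.eq_of_mul_eq_mul_right (Nat.card_pos (α := (Pi : Subgroup (G ⧸ M i.castSucc)))) ?_
      by_cases hc : ((M i.castSucc).relIndex (M i.succ)).Coprime p
      · have hk : ¬ p ∣ Nat.card f.ker := by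
          rw [hkcard]; exact hnp.coprime_iff_not_dvd.mp hc.symm
        have hs := subn_step_coprime f hfs hk _ (hH.map (QuotientGroup.mk' (M i.castSucc))) Pi Pi'
        rw [hmap] at hs
        have hti : t i = Nat.card (f.ker ⊓ Subgroup.centralizer
            ((H.map (QuotientGroup.mk' (M i.castSucc))) : Set (G ⧸ M i.castSucc)) : Subgroup (G ⧸ M i.castSucc)) := by
          simp only [ht, if_pos hc]
          set W := f.ker ⊓ Subgroup.centralizer
            ((H.map (QuotientGroup.mk' (M i.castSucc))) : Set (G ⧸ M i.castSucc)) with hW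
          have hcount : Nat.card {u : G // u ∈ M i.succ ∧ ∀ h ∈ H, h * u * h⁻¹ * u⁻¹ ∈ M i.castSucc} =
              Nat.card (M i.castSucc) * Nat.card W := by
            rw [← Nat.card_prod]
            refine Nat.card_congr ((Equiv.setCongr (Set.ext fun u => ?_)).trans
              (QuotientGroup.preimageMkEquivSubgroupProdSet (M i.castSucc) (W : Set (G ⧸ M i.castSucc))))
            show (u ∈ M i.succ ∧ ∀ h ∈ H, h * u * h⁻¹ * u⁻¹ ∈ M i.castSucc) ↔
              (u : G ⧸ M i.castSucc) ∈ W
            rw [hW, Subgroup.mem_inf, Subgroup.mem_centralizer_iff]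
            refine and_congr ?_ ⟨fun hu z hz => ?_, fun hu h hh => ?_⟩
            · rw [MonoidHom.mem_ker, hfx, QuotientGroup.eq_one_iff]
            · obtain ⟨h, hh, rfl⟩ := hz
              have h1 := (QuotientGroup.eq_one_iff _).mpr (hu h hh)
              simp only [QuotientGroup.mk_mul, QuotientGroup.mk_inv] at h1
              exact mul_inv_eq_iff_eq_mul.mp (mul_inv_eq_one.mp h1)
            · refine (QuotientGroup.eq_one_iff _).mp ?_
              simp only [QuotientGroup.mk_mul, QuotientGroup.mk_inv]
              rw [mul_inv_eq_one, mul_inv_eq_iff_eq_mul]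
              exact hu _ ⟨h, hh, rfl⟩
          rw [hcount, Nat.mul_div_cancel_left _ Nat.card_pos]
        rw [mul_right_comm _ _ (Nat.card (Pi : Subgroup (G ⧸ M i.castSucc))), hih, hti]
        linear_combination (∏ j ∈ Finset.univ.filter (fun j : Fin n => j.castSucc < i.castSucc), t j) *
          Nat.card (P : Subgroup G) * hs
      · obtain ⟨m, hm⟩ := (hfac i).resolve_right hc
        have hs := subn_step_pGroup f hfs (IsPGroup.of_card (n := m) (hkcard.trans hm))
          (H.map (QuotientGroup.mk' (M i.castSucc))) Pi Pi'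
        rw [hmap] at hs
        have hti : t i = 1 := by simp only [ht, if_neg hc]
        rw [mul_right_comm _ _ (Nat.card (Pi : Subgroup (G ⧸ M i.castSucc))), hih, hti, one_mul]
        linear_combination (∏ j ∈ Finset.univ.filter (fun j : Fin n => j.castSucc < i.castSucc), t j) *
          Nat.card (P : Subgroup G) * hs
  have hlast := hstep (Fin.last n) default
  haveI : Subsingleton (G ⧸ M (Fin.last n)) := by
    rw [hn]; exact QuotientGroup.subsingleton_quotient_top
  rw [Nat.card_unique (α := ((default : Sylow p (G ⧸ M (Fin.last n))) : Subgroup (G ⧸ M (Fin.last n)))), mul_one, Finset.filter_true_of_mem (fun j _ => Fin.castSucc_lt_last j)] at hlast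
  have h1 : Nat.card (CfsgLib.Subnormalizer.subn p (H.map (QuotientGroup.mk' (M (Fin.last n))))) = 1 := by
    haveI : Nonempty (CfsgLib.Subnormalizer.subn p (H.map (QuotientGroup.mk' (M (Fin.last n))))) :=
      ⟨⟨1, _, hH.map _, le_rfl, Subgroup.one_mem _⟩⟩
    exact Nat.card_unique
  rw [hlast, h1, one_mul, mul_comm]

end Cfsg.Agent.S4090
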