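import Cfsg.Statements.S4091
import Mathlib
import Cfsg.Agent.Lib.FgsB.SylowCountQuotient
import Cfsg.Agent.Lib.FgsB.CoprimeFixProduct
import Cfsg.Agent.Lib.Coprime.Hall

set_option autoImplicit false
set_option linter.style.haveILetI false
open Cfsg
open scoped Pointwise

namespace Cfsg.Agent.S4091

universe u

open CfsgLib.Subnormalizer CfsgLib.FixProduct in
theorem prod_sylowCount_le {p : ℕ} [hp : Fact p.Prime] : ∀ n : ℕ, ∀ {G : Type u} [Group G] [Finite G],
    Nat.card G ≤ n → Cfsg.IsPSolvable p G → ∀ (P : Sylow p G) [Fintype (P : Subgroup G)],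
      (∏ x : (P : Subgroup G), sylowCount p (Subgroup.zpowers (x : G))) ^ p ≤
        Nat.card (Sylow p G) ^ Nat.card (P : Subgroup G) := by
  intro n
  induction n using Nat.strong_induction_on with
  | _ n ih =>
  intro G _ _ hn hG P _
  classical
  rcases subsingleton_or_nontrivial G with hG1 | hG1
  · have hle : ∀ H : Subgroup G, sylowCount p H ≤ 1 := fun H => by
      haveI : Subsingleton (Sylow p G) := ⟨fun a b => Sylow.ext (Subsingleton.elim _ _)⟩
      exact (Finite.card_subtype_le _).trans (Finite.card_le_one_iff_subsingleton.mpr ‹_›)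
    have hone : Nat.card (Sylow p G) = 1 := by
      haveI : Subsingleton (Sylow p G) := ⟨fun a b => Sylow.ext (Subsingleton.elim _ _)⟩
      exact Nat.card_unique
    rw [hone, one_pow]
    exact pow_le_one₀ (Nat.zero_le _) (Finset.prod_le_one' fun x _ => hle _)
  obtain ⟨N, hNn, hNb, hNp⟩ := CfsgLib.Coprime.pSolvable_step hG
  set f := QuotientGroup.mk' N with hf
  have hfs : Function.Surjective f := QuotientGroup.mk'_surjective N
  have hker : f.ker = N := QuotientGroup.ker_mk' N
  have hlt : Nat.card (G ⧸ N) < Nat.card G := by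
    have h1 := Subgroup.card_eq_card_quotient_mul_card_subgroup N
    have h2 : Nat.card N ≠ 1 := fun h => hNb (Subgroup.eq_bot_of_card_eq _ h)
    have h3 : 0 < Nat.card (G ⧸ N) := Nat.card_pos
    have h4 : 0 < Nat.card N := Nat.card_pos
    have h5 : 2 ≤ Nat.card N := by omega
    nlinarith
  set Pb := P.mapSurjective hfs with hPb
  letI : Fintype (Pb : Subgroup (G ⧸ N)) := Fintype.ofFinite _
  have hIH := ih _ (lt_of_lt_of_le hlt hn) le_rfl (CfsgLib.Coprime.pSolvable_quotient hG N) Pb
  -- the product over `P` of a function of the image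
  let π : (P : Subgroup G) →* (Pb : Subgroup (G ⧸ N)) :=
    MonoidHom.mk' (fun x => ⟨f x, by rw [hPb, Sylow.coe_mapSurjective]; exact ⟨x, x.2, rfl⟩⟩)
      (fun x y => Subtype.ext (map_mul f (x : G) (y : G)))
  have hπ : Function.Surjective π := by
    rintro ⟨y, hy⟩
    rw [hPb, Sylow.coe_mapSurjective] at hy
    obtain ⟨x, hx, rfl⟩ := hy
    exact ⟨⟨x, hx⟩, rfl⟩
  have hprod : ∀ g : ↥(Pb : Subgroup (G ⧸ N)) → ℕ,
      ∏ x, g (π x) = (∏ y, g y) ^ Nat.card π.ker := by
    intro g
    rw [← Finset.prod_pow, ← Finset.prod_fiberwise_of_maps_to (g := π) (t := Finset.univ)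
      (fun x _ => Finset.mem_univ _)]
    refine Finset.prod_congr rfl fun y _ => ?_
    obtain ⟨x₀, rfl⟩ := hπ y
    rw [Finset.prod_congr rfl (g := fun _ => g (π x₀)) (fun x hx => by rw [(Finset.mem_filter.mp hx).2]),
      Finset.prod_const, ← Fintype.card_subtype, ← Nat.card_eq_fintype_card]
    congr 1
    exact Nat.card_congr (π.fiberEquivKer x₀)
  have hPcard : Nat.card (P : Subgroup G) = Nat.card (Pb : Subgroup (G ⧸ N)) * Nat.card π.ker :=
    card_eq_card_map_mul π hπ
  have hzmap : ∀ x : G, (Subgroup.zpowers x).map f = Subgroup.zpowers (f x) :=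
    fun x => MonoidHom.map_zpowers f x
  have hbar : (∏ x : (P : Subgroup G), sylowCount p (Subgroup.zpowers (f x))) ^ p ≤
      Nat.card (Sylow p (G ⧸ N)) ^ Nat.card (P : Subgroup G) := by
    have h1 := hprod fun y => sylowCount p (Subgroup.zpowers (y : G ⧸ N))
    simp only [π, MonoidHom.mk'_apply] at h1
    rw [h1, ← pow_mul, mul_comm, pow_mul, hPcard, pow_mul]
    exact Nat.pow_le_pow_left hIH _
  rcases hNp with hNp | hNp
  · have hk : IsPGroup p f.ker := hker.symm ▸ hNp
    have h1 : ∀ x : G, sylowCount p (Subgroup.zpowers x) = sylowCount p (Subgroup.zpowers (f x)) :=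
      fun x => by rw [← hzmap, sylowCount_map_of_pGroup f hfs hk]
    have h2 : Nat.card (Sylow p G) = Nat.card (Sylow p (G ⧸ N)) := by
      rw [← sylowCount_bot, ← sylowCount_bot, ← sylowCount_map_of_pGroup f hfs hk ⊥, Subgroup.map_bot]
    rw [h2]
    exact le_of_eq_of_le (congrArg (· ^ p) (Finset.prod_congr rfl fun x _ => h1 (x : G))) hbar
  have hk : ¬ p ∣ Nat.card f.ker := by
    rw [hker]; exact hp.out.coprime_iff_not_dvd.mp hNp.symm
  set C := Nat.card (f.ker ⊓ Subgroup.centralizer ((P : Subgroup G) : Set G) : Subgroup G) with hC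
  have hstep : ∀ x : (P : Subgroup G), sylowCount p (Subgroup.zpowers (x : G)) * C =
      sylowCount p (Subgroup.zpowers (f x)) *
        Nat.card (f.ker ⊓ Subgroup.centralizer (Subgroup.zpowers (x : G) : Set G) : Subgroup G) :=
    fun x => by
      rw [sylowCount_mul_of_coprime f hfs hk _ (P.2.to_le (Subgroup.zpowers_le.mpr x.2)) P, hzmap]
  have hbot : Nat.card (Sylow p G) * C = Nat.card (Sylow p (G ⧸ N)) * Nat.card f.ker := by
    have h1 := sylowCount_mul_of_coprime f hfs hk ⊥ IsPGroup.of_bot P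
    rw [Subgroup.map_bot, sylowCount_bot, sylowCount_bot] at h1
    rw [h1]
    congr 1
    rw [inf_eq_left.mpr]
    intro y _
    refine Subgroup.mem_centralizer_iff.mpr fun z hz => ?_
    rw [Subgroup.mem_bot.mp hz, one_mul, mul_one]
  let φ : (P : Subgroup G) →* MulAut f.ker :=
    (MulAut.conjNormal (H := f.ker)).comp (P : Subgroup G).subtype
  have hB := prod_le P.2 hk φ
  have hfix : ∀ (x : (P : Subgroup G)), Nat.card (fix φ {x}) =
      Nat.card (f.ker ⊓ Subgroup.centralizer (Subgroup.zpowers (x : G) : Set G) : Subgroup G) := by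
    intro x
    refine Nat.card_congr
      { toFun := fun y => ⟨(y.1 : G), y.1.2, ?_⟩
        invFun := fun y => ⟨⟨y.1, y.2.1⟩, ?_⟩
        left_inv := fun y => rfl
        right_inv := fun y => rfl }
    · intro z hz
      obtain ⟨k, rfl⟩ := Subgroup.mem_zpowers_iff.mp hz
      have h1 := congrArg Subtype.val (y.2 x rfl)
      simp only [φ, MonoidHom.comp_apply, MulAut.conjNormal_apply, Subgroup.coe_subtype] at h1
      have h2 : Commute (x : G) (y.1 : G) := mul_inv_eq_iff_eq_mul.mp h1
      exact (h2.zpow_left k).eq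
    · intro a ha
      rw [Set.mem_singleton_iff.mp ha]
      apply Subtype.ext
      simp only [φ, MonoidHom.comp_apply, MulAut.conjNormal_apply, Subgroup.coe_subtype]
      rw [y.2.2 x (Subgroup.mem_zpowers _), mul_inv_cancel_right]
  have hfixu : Nat.card (fix φ Set.univ) = C := by
    refine Nat.card_congr
      { toFun := fun y => ⟨(y.1 : G), y.1.2, ?_⟩
        invFun := fun y => ⟨⟨y.1, y.2.1⟩, ?_⟩
        left_inv := fun y => rfl
        right_inv := fun y => rfl }
    · intro z hz
      have h1 := congrArg Subtype.val (y.2 ⟨z, hz⟩ trivial)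
      simp only [φ, MonoidHom.comp_apply, MulAut.conjNormal_apply, Subgroup.coe_subtype] at h1
      exact mul_inv_eq_iff_eq_mul.mp h1
    · intro a _
      apply Subtype.ext
      simp only [φ, MonoidHom.comp_apply, MulAut.conjNormal_apply, Subgroup.coe_subtype]
      rw [y.2.2 _ a.2, mul_inv_cancel_right]
  rw [hfixu, Finset.prod_congr rfl (fun x _ => hfix x)] at hB
  have hCpos : 0 < C := Nat.card_pos
  refine Nat.le_of_mul_le_mul_right ?_ (pow_pos hCpos (Nat.card (P : Subgroup G) * p))
  calc (∏ x : (P : Subgroup G), sylowCount p (Subgroup.zpowers (x : G))) ^ p *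
        C ^ (Nat.card (P : Subgroup G) * p)
      = (∏ x : (P : Subgroup G), sylowCount p (Subgroup.zpowers (x : G)) * C) ^ p := by
        rw [Finset.prod_mul_distrib, Finset.prod_const, Finset.card_univ, ← Nat.card_eq_fintype_card,
          mul_pow, ← pow_mul]
    _ ≤ Nat.card (Sylow p (G ⧸ N)) ^ Nat.card (P : Subgroup G) *
        (Nat.card f.ker ^ Nat.card (P : Subgroup G) * C ^ (Nat.card (P : Subgroup G) * (p - 1))) := by
        rw [Finset.prod_congr rfl (fun x _ => hstep x), Finset.prod_mul_distrib, mul_pow]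
        exact Nat.mul_le_mul hbar hB
    _ = (Nat.card (Sylow p G) * C) ^ Nat.card (P : Subgroup G) *
        C ^ (Nat.card (P : Subgroup G) * (p - 1)) := by rw [hbot]; ring
    _ = _ := by
        rw [mul_pow, mul_assoc, ← pow_add]
        congr 2
        have := hp.out.pos
        generalize Nat.card (P : Subgroup G) = m
        rw [add_comm, ← Nat.mul_succ, Nat.succ_eq_add_one, Nat.sub_add_cancel hp.out.one_le]


/-- Let G be a finite p-solvable group, P a Sylow p-subgroup of G, u the number of p-elements of G (elements of p-power order, the identity included) and n the number of Sylow p-subgroups of G. Then u/#P ≥ n^((p−1)/p), stated as u^p ≥ #P^p · n^(p−1). -/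
theorem result {G : Type*} [Group G] [Finite G] (p : ℕ) [Fact p.Prime]
    (hG : Cfsg.IsPSolvable p G) (P : Sylow p G) :
    Nat.card (P : Subgroup G) ^ p * Nat.card (Sylow p G) ^ (p - 1) ≤ Nat.card {g : G // ∃ k : ℕ, orderOf g = p ^ k} ^ p := by
  classical
  open CfsgLib.Subnormalizer in
  letI : Fintype G := Fintype.ofFinite G
  letI : Fintype (Sylow p G) := Fintype.ofFinite _
  letI : Fintype (P : Subgroup G) := Fintype.ofFinite _
  have hA := prod_sylowCount_le (Nat.card G) le_rfl hG P
  open CfsgLib.Subnormalizer in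
  set w : G → ℝ := fun x => ((sylowCount p (Subgroup.zpowers x) : ℝ))⁻¹ with hw
  set S := ∑ x : (P : Subgroup G), w x with hS
  open CfsgLib.Subnormalizer in
  have hlam : ∀ x : G, sylowCount p (Subgroup.zpowers x) =
      (Finset.univ.filter fun Q : Sylow p G => x ∈ (Q : Subgroup G)).card := fun x => by
    rw [sylowCount, Nat.card_eq_fintype_card, Fintype.card_subtype]
    congr 1
    ext Q; simp
  have hpos : ∀ x : G, (∃ k, orderOf x = p ^ k) →
      0 < CfsgLib.Subnormalizer.sylowCount p (Subgroup.zpowers x) := by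
    rintro x ⟨k, hk⟩
    have h1 : IsPGroup p (Subgroup.zpowers x) := IsPGroup.of_card (n := k) (by rw [Nat.card_zpowers, hk])
    obtain ⟨Q, hQ⟩ := h1.exists_le_sylow
    haveI : Nonempty {Q : Sylow p G // Subgroup.zpowers x ≤ (Q : Subgroup G)} := ⟨⟨Q, hQ⟩⟩
    exact Nat.card_pos
  -- double counting
  have hu : (Nat.card {g : G // ∃ k : ℕ, orderOf g = p ^ k} : ℝ) = (Nat.card (Sylow p G) : ℝ) * S := by
    have h1 : ∀ g : G, (if (∃ k : ℕ, orderOf g = p ^ k) then (1 : ℝ) else 0) =
        ∑ Q : Sylow p G, if g ∈ (Q : Subgroup G) then w g else 0 := by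
      intro g
      rw [← Finset.sum_filter, Finset.sum_const, nsmul_eq_mul, ← hlam, hw]
      simp only
      split_ifs with hg
      · rw [mul_inv_cancel₀]
        exact_mod_cast (hpos g hg).ne'
      · have h0 : CfsgLib.Subnormalizer.sylowCount p (Subgroup.zpowers g) = 0 := by
          haveI : IsEmpty {Q : Sylow p G // Subgroup.zpowers g ≤ (Q : Subgroup G)} := ⟨fun Q => hg (by
            have h2 := Q.2 (Subgroup.mem_zpowers g)
            obtain ⟨k, hk⟩ := Q.1.2 ⟨g, h2⟩
            obtain ⟨j, -, hj⟩ := (Nat.dvd_prime_pow Fact.out).mp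
              (orderOf_dvd_of_pow_eq_one (congrArg Subtype.val hk : g ^ p ^ k = 1))
            exact ⟨j, hj⟩)⟩
          exact Nat.card_of_isEmpty
        rw [h0]; simp
    rw [Nat.card_eq_fintype_card, Fintype.card_subtype, ← Finset.sum_boole,
      Finset.sum_congr rfl (fun g _ => h1 g), Finset.sum_comm,
      Finset.sum_congr rfl (g := fun _ => S), Finset.sum_const, nsmul_eq_mul, Finset.card_univ,
      Nat.card_eq_fintype_card]
    intro Q _
    obtain ⟨g, hg⟩ := MulAction.exists_smul_eq G P Q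
    rw [← Finset.sum_filter, hS]
    refine (Finset.sum_bij (fun (x : (P : Subgroup G)) _ => g * x * g⁻¹) ?_ ?_ ?_ ?_).symm
    · intro x _
      simp only [Finset.mem_filter, Finset.mem_univ, true_and, ← hg, Sylow.coe_subgroup_smul,
        Subgroup.mem_pointwise_smul_iff_inv_smul_mem]
      simp [MulAut.smul_def, mul_assoc]
    · intro a _ b _ h
      exact Subtype.ext (mul_left_cancel (mul_right_cancel h))
    · intro y hy
      simp only [Finset.mem_filter, Finset.mem_univ, true_and, ← hg, Sylow.coe_subgroup_smul,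
        Subgroup.mem_pointwise_smul_iff_inv_smul_mem] at hy
      refine ⟨⟨g⁻¹ * y * g, by simpa [MulAut.smul_def, mul_assoc] using hy⟩, Finset.mem_univ _, ?_⟩
      simp [mul_assoc]
    · intro x _
      simp only [hw, inv_inj, Nat.cast_inj]
      refine Nat.card_congr ((MulAction.toPerm g).subtypeEquiv fun R => ?_)
      show Subgroup.zpowers (x : G) ≤ (R : Subgroup G) ↔
        Subgroup.zpowers (g * x * g⁻¹) ≤ ((g • R : Sylow p G) : Subgroup G)
      rw [Subgroup.zpowers_le, Subgroup.zpowers_le, Sylow.coe_subgroup_smul,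
        Subgroup.mem_pointwise_smul_iff_inv_smul_mem]
      simp [MulAut.smul_def, mul_assoc]
  -- arithmetic-geometric mean
  set m := Nat.card (P : Subgroup G) with hm
  set N := Nat.card (Sylow p G) with hN
  have hm0 : (0 : ℝ) < m := by exact_mod_cast Nat.card_pos
  have hN0 : (0 : ℝ) < N := by exact_mod_cast Nat.card_pos
  have hwpos : ∀ x : (P : Subgroup G), 0 < w x := fun x => by
    obtain ⟨k, hk⟩ := IsPGroup.iff_orderOf.mp P.2 x
    exact inv_pos.mpr (by exact_mod_cast hpos _ ⟨k, by rw [Subgroup.orderOf_coe]; exact hk⟩)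
  have hAM : ∏ x : (P : Subgroup G), w x ≤ (S / m) ^ m := by
    have h1 := Real.geom_mean_le_arith_mean_weighted (Finset.univ : Finset (P : Subgroup G))
      (fun _ => (m : ℝ)⁻¹) (fun x => w x) (fun _ _ => by positivity)
      (by rw [Finset.sum_const, nsmul_eq_mul, Finset.card_univ, ← Nat.card_eq_fintype_card, ← hm,
            mul_inv_cancel₀ hm0.ne'])
      (fun x _ => (hwpos x).le)
    rw [← Finset.mul_sum, ← hS, Real.finset_prod_rpow _ _ (fun x _ => (hwpos x).le)] at h1
    have h2 := pow_le_pow_left₀ (Real.rpow_nonneg (Finset.prod_nonneg fun x _ => (hwpos x).le) _) h1 m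
    rw [Real.rpow_inv_natCast_pow (Finset.prod_nonneg fun x _ => (hwpos x).le) Nat.card_pos.ne'] at h2
    rwa [div_eq_inv_mul]
  have hlow : ((N : ℝ)⁻¹) ^ m ≤ (∏ x : (P : Subgroup G), w x) ^ p := by
    simp only [hw, Finset.prod_inv_distrib, inv_pow]
    refine inv_anti₀ (pow_pos (Finset.prod_pos fun x _ => ?_) _) (by exact_mod_cast hA)
    exact inv_pos.mp (hwpos x)
  have hSnn : 0 ≤ S / m := div_nonneg (Finset.sum_nonneg fun x _ => (hwpos x).le) hm0.le
  have hkey : (N : ℝ)⁻¹ ≤ (S / m) ^ p := by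
    refine (pow_le_pow_iff_left₀ (inv_nonneg.mpr hN0.le) (pow_nonneg hSnn _) Nat.card_pos.ne').mp
      (hlow.trans ((pow_le_pow_left₀ (Finset.prod_nonneg fun x _ => (hwpos x).le) hAM p).trans
        (le_of_eq ?_)))
    ring
  have hfin : ((m : ℝ) ^ p * (N : ℝ) ^ (p - 1)) ≤ ((N : ℝ) * S) ^ p := by
    obtain ⟨q, hq⟩ := Nat.exists_eq_succ_of_ne_zero (Fact.out (p := p.Prime)).ne_zero
    have h3 : (m : ℝ) ^ p * (N : ℝ)⁻¹ ≤ S ^ p := by
      have := mul_le_mul_of_nonneg_left hkey (pow_nonneg hm0.le p)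
      rwa [← mul_pow, mul_div_cancel₀ S hm0.ne'] at this
    have h4 := mul_le_mul_of_nonneg_left h3 (pow_nonneg hN0.le p)
    rw [mul_pow]
    refine le_trans (le_of_eq ?_) h4
    rw [hq]
    simp only [Nat.succ_eq_add_one, Nat.add_sub_cancel, pow_succ]
    field_simp
  rw [← hu] at hfin
  exact_mod_cast hfin

end Cfsg.Agent.S4091
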