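import Cfsg.Statements.S4092
import Mathlib
import Cfsg.Agent.Lib.Base.FrobeniusSolutions

set_option autoImplicit false
open Cfsg

namespace Cfsg.Agent.S4092

theorem sub_one_dvd {G : Type*} [Group G] [Finite G] {p : ℕ} [hp : Fact p.Prime] :
    (p - 1) ∣ Nat.card {g : G // (∃ k : ℕ, orderOf g = p ^ k) ∧ g ≠ 1} := by
  classical
  haveI := Fintype.ofFinite G
  set X := Finset.univ.filter (fun g : G => (∃ k : ℕ, orderOf g = p ^ k) ∧ g ≠ 1) with hX
  rw [Nat.card_eq_fintype_card, Fintype.card_subtype, ← hX,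
    Finset.card_eq_sum_card_image (fun g : G => Subgroup.zpowers g) X]
  refine Finset.dvd_sum fun C hC => ?_
  obtain ⟨g, hg, rfl⟩ := Finset.mem_image.mp hC
  obtain ⟨⟨k, hk⟩, hg1⟩ := (Finset.mem_filter.mp hg).2
  have hk0 : 0 < k := Nat.pos_of_ne_zero (by rintro rfl; exact hg1 (orderOf_eq_one_iff.mp (by simpa using hk)))
  have key : ∀ x : G, (x ∈ X ∧ Subgroup.zpowers x = Subgroup.zpowers g) ↔
      (x ∈ Subgroup.zpowers g ∧ orderOf x = orderOf g) := by
    intro x
    constructor
    · rintro ⟨-, h⟩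
      exact ⟨h ▸ Subgroup.mem_zpowers x, by rw [← Nat.card_zpowers, h, Nat.card_zpowers]⟩
    · rintro ⟨h, h'⟩
      refine ⟨Finset.mem_filter.mpr ⟨Finset.mem_univ _, ⟨k, h'.trans hk⟩, ?_⟩, ?_⟩
      · rintro rfl
        exact hg1 (orderOf_eq_one_iff.mp (h'.symm.trans orderOf_one))
      · exact Subgroup.eq_of_le_of_card_ge (Subgroup.zpowers_le.mpr h)
          (by rw [Nat.card_zpowers, Nat.card_zpowers, h'])
  have hcard : (X.filter (fun x => Subgroup.zpowers x = Subgroup.zpowers g)).card = Nat.totient (orderOf g) := by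
    have h1 := IsCyclic.card_orderOf_eq_totient (α := Subgroup.zpowers g) (d := orderOf g)
      (by rw [Fintype.card_eq_nat_card, Nat.card_zpowers])
    rw [← h1]
    refine Finset.card_bij (fun x hx => ⟨x, ((key x).mp (Finset.mem_filter.mp hx)).1⟩) ?_ ?_ ?_
    · intro x hx
      simp only [Finset.mem_filter, Finset.mem_univ, true_and, Subgroup.orderOf_mk]
      exact ((key x).mp (Finset.mem_filter.mp hx)).2
    · intro x _ y _ h
      exact congrArg Subtype.val h
    · intro b hb
      have hb' : orderOf (b : G) = orderOf g := by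
        rw [Subgroup.orderOf_coe]; exact (Finset.mem_filter.mp hb).2
      exact ⟨b, Finset.mem_filter.mpr ((key b).mpr ⟨b.2, hb'⟩), rfl⟩
  rw [hcard, hk, Nat.totient_prime_pow hp.out hk0]
  exact dvd_mul_left _ _

/-- Let G be a finite group, p a prime and P a Sylow p-subgroup of G that is not normal in G. Then G has at least p·#P elements of p-power order (the identity included). -/
theorem result {G : Type*} [Group G] [Finite G] (p : ℕ) [Fact p.Prime]
    (P : Sylow p G) (hP : ¬ (P : Subgroup G).Normal) :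
    p * Nat.card (P : Subgroup G) ≤ Nat.card {g : G // ∃ k : ℕ, orderOf g = p ^ k} := by
  classical
  set n := Nat.card {g : G // ∃ k : ℕ, orderOf g = p ^ k} with hn
  have hp' : p.Prime := Fact.out
  obtain ⟨a, ha⟩ := (P.2.exists_card_eq)
  have hdvd : p ^ a ∣ n := by
    have h := CfsgLib.Base.Solutions.pow_dvd_card_pElements (G := G) (p := p) (a := a)
      (ha ▸ (P : Subgroup G).card_subgroup_dvd_card)
    have e : n = Nat.card {u : G // ∃ k, u ^ p ^ k = 1} := Nat.card_congr (Equiv.subtypeEquivRight fun u =>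
      ⟨fun ⟨k, hk⟩ => ⟨k, by rw [← hk, pow_orderOf_eq_one]⟩, fun ⟨k, hk⟩ => by
        obtain ⟨j, -, hj⟩ := (Nat.dvd_prime_pow hp').mp (orderOf_dvd_of_pow_eq_one hk)
        exact ⟨j, hj⟩⟩)
    rwa [← e] at h
  obtain ⟨c, hc⟩ := hdvd
  have hn1 : n = Nat.card {g : G // (∃ k : ℕ, orderOf g = p ^ k) ∧ g ≠ 1} + 1 := by
    haveI := Fintype.ofFinite G
    simp only [hn, Nat.card_eq_fintype_card, Fintype.card_subtype]
    have h1 : (1 : G) ∈ Finset.univ.filter (fun g : G => ∃ k : ℕ, orderOf g = p ^ k) :=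
      Finset.mem_filter.mpr ⟨Finset.mem_univ _, 0, by simp⟩
    rw [← Finset.card_erase_add_one h1]
    congr 2
    ext g
    simp [and_comm]
  -- more `p`-elements than `P`
  have hgt : p ^ a < n := by
    obtain ⟨Q, hQ⟩ : ∃ Q : Sylow p G, Q ≠ P := by
      by_contra hc'
      push Not at hc'
      haveI : Subsingleton (Sylow p G) := ⟨fun Q R => (hc' Q).trans (hc' R).symm⟩
      exact hP P.normal_of_subsingleton
    obtain ⟨g, hgQ, hgP⟩ := SetLike.not_le_iff_exists.mp
      (show ¬ (Q : Subgroup G) ≤ (P : Subgroup G) from fun h => hQ (Sylow.ext (Q.3 P.2 h).symm))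
    rw [← ha]
    have hinj : Function.Injective (fun x : (P : Subgroup G) =>
        (⟨(x : G), by
          obtain ⟨k, hk⟩ := IsPGroup.iff_orderOf.mp P.2 x
          exact ⟨k, by rw [Subgroup.orderOf_coe, hk]⟩⟩ : {g : G // ∃ k : ℕ, orderOf g = p ^ k})) :=
      fun x y h => by
        have := congrArg Subtype.val h
        exact Subtype.ext this
    refine lt_of_le_of_ne (Nat.card_le_card_of_injective _ hinj) fun heq => ?_
    have hsurj := (Nat.bijective_iff_injective_and_card _).mpr ⟨hinj, heq⟩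
    obtain ⟨k, hk⟩ := IsPGroup.iff_orderOf.mp Q.2 ⟨g, hgQ⟩
    obtain ⟨x, hx⟩ := hsurj.2 ⟨g, k, by rw [← hk, Subgroup.orderOf_mk]⟩
    have hxg : (x : G) = g := congrArg Subtype.val hx
    exact hgP (hxg ▸ x.2)
  -- `c ≡ 1` modulo `p - 1`
  have hmod : c ≡ 1 [MOD p - 1] := by
    have h1 : n ≡ 1 [MOD p - 1] := by
      rw [hn1]
      simpa using ((Nat.modEq_zero_iff_dvd.mpr (sub_one_dvd (G := G) (p := p))).add_right 1)
    have h2 : p ^ a ≡ 1 [MOD p - 1] := by
      have : p ≡ 1 [MOD p - 1] := ((Nat.modEq_iff_dvd' hp'.one_le).mpr dvd_rfl).symm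
      simpa using this.pow a
    have h3 := h2.mul_right c
    rw [← hc, one_mul] at h3
    exact h3.symm.trans h1
  have hc1 : 1 < c := by
    rw [hc] at hgt
    by_contra h
    have h' : c ≤ 1 := by omega
    have := Nat.mul_le_mul_left (p ^ a) h'
    omega
  have hcp : p ≤ c := by
    have h4 := (Nat.modEq_iff_dvd' hc1.le).mp hmod.symm
    have := Nat.le_of_dvd (by omega) h4
    omega
  rw [ha, hc]
  exact (Nat.mul_comm _ _).trans_le (Nat.mul_le_mul_left _ hcp)

end Cfsg.Agent.S4092
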