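import Cfsg.Statements.S4093
import Mathlib
import Cfsg.Agent.Lib.FgsB.Basic

set_option autoImplicit false
open scoped BigOperators
open Cfsg

namespace Cfsg.Agent.S4093

/-- Let G be a finite group with a normal subgroup N complementing a Sylow p-subgroup P (a normal p-complement). Then the number of elements of G of p-power order equals the sum over x ∈ P of the index of C_N(x) in N. -/
theorem result {G : Type*} [Group G] [Finite G] (p : ℕ) [Fact p.Prime]
    (P : Sylow p G) (N : Subgroup G) [N.Normal] (hNP : N.IsComplement' (P : Subgroup G)) :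
    Nat.card {g : G // ∃ k : ℕ, orderOf g = p ^ k} =
      ∑ᶠ x : (P : Subgroup G), Nat.card N / Nat.card ↥(N ⊓ Subgroup.centralizer ({(x : G)} : Set G)) := by
  classical
  set C : G → Subgroup G := fun x => Subgroup.centralizer ({x} : Set G) with hC
  -- a map from the classes to the `p`-elements
  let f : ((x : (P : Subgroup G)) × (N ⧸ (C x).subgroupOf N)) → {g : G // ∃ k : ℕ, orderOf g = p ^ k} :=
    fun t => ⟨(t.2.out : G) * t.1 * (t.2.out : G)⁻¹, by
      obtain ⟨k, hk⟩ := CfsgLib.FgsB.exists_orderOf_eq_pow_of_mem P.isPGroup' t.1.2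
      exact ⟨k, by rw [← MulAut.conj_apply, MulEquiv.orderOf_eq, hk]⟩⟩
  have hf : Function.Bijective f := by
    constructor
    · rintro ⟨x, a⟩ ⟨y, b⟩ h
      have h' : (a.out : G) * x * (a.out : G)⁻¹ = (b.out : G) * y * (b.out : G)⁻¹ := congrArg Subtype.val h
      have hdiff : (x : G)⁻¹ * y ∈ N := by
        have hn : ((b.out : G)⁻¹ * a.out) ∈ N := N.mul_mem (N.inv_mem b.out.2) a.out.2
        set n := (b.out : G)⁻¹ * a.out with hndef
        have e : (y : G) = n * x * n⁻¹ := by
          calc (y : G) = (b.out : G)⁻¹ * ((b.out : G) * y * (b.out : G)⁻¹) * b.out := by group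
            _ = n * x * n⁻¹ := by rw [← h', hndef]; group
        rw [e]
        have := N.mul_mem ((inferInstance : N.Normal).conj_mem n hn (x : G)⁻¹) (N.inv_mem hn)
        simpa [mul_assoc] using this
      have hxy : x = y := by
        have h1 := Subgroup.disjoint_def.mp hNP.disjoint hdiff ((P : Subgroup G).mul_mem ((P : Subgroup G).inv_mem x.2) y.2)
        exact Subtype.ext (inv_mul_eq_one.mp h1)
      subst hxy
      refine Sigma.ext rfl (heq_of_eq ?_)
      rw [← QuotientGroup.out_eq' a, ← QuotientGroup.out_eq' b, QuotientGroup.eq, Subgroup.mem_subgroupOf]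
      simp only [hC, Subgroup.mem_centralizer_singleton_iff, Subgroup.coe_mul, Subgroup.coe_inv]
      calc (a.out : G)⁻¹ * b.out * x = (a.out : G)⁻¹ * ((b.out : G) * x * (b.out : G)⁻¹) * b.out := by group
        _ = x * ((a.out : G)⁻¹ * b.out) := by rw [← h']; group
    · rintro ⟨g, hg⟩
      obtain ⟨c, hc⟩ := CfsgLib.FgsB.exists_conj_mem_sylow hg P
      -- write the conjugating element as a product
      have hcN : c ∈ N ⊔ (P : Subgroup G) := hNP.sup_eq_top ▸ Subgroup.mem_top c
      obtain ⟨n, hn, u, hu, rfl⟩ := Subgroup.mem_sup_of_normal_left.mp hcN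
      have hx : n⁻¹ * g * n ∈ (P : Subgroup G) := by
        have h1 := (P : Subgroup G).mul_mem ((P : Subgroup G).mul_mem hu hc) ((P : Subgroup G).inv_mem hu)
        convert h1 using 1
        group
      refine ⟨⟨⟨_, hx⟩, QuotientGroup.mk (⟨n, hn⟩ : N)⟩, Subtype.ext ?_⟩
      obtain ⟨d, hd⟩ := QuotientGroup.mk_out_eq_mul ((C (n⁻¹ * g * n)).subgroupOf N) (⟨n, hn⟩ : N)
      show ((QuotientGroup.mk (⟨n, hn⟩ : N) : N ⧸ (C (n⁻¹ * g * n)).subgroupOf N).out : G) *
        (n⁻¹ * g * n) * ((QuotientGroup.mk (⟨n, hn⟩ : N) : N ⧸ (C (n⁻¹ * g * n)).subgroupOf N).out : G)⁻¹ = g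
      rw [hd]
      have hdc : (d.1 : G) * (n⁻¹ * g * n) = (n⁻¹ * g * n) * (d.1 : G) :=
        Subgroup.mem_centralizer_singleton_iff.mp d.2
      simp only [Subgroup.coe_mul]
      calc n * (d.1 : G) * (n⁻¹ * g * n) * (n * (d.1 : G))⁻¹
          = n * ((d.1 : G) * (n⁻¹ * g * n)) * (d.1 : G)⁻¹ * n⁻¹ := by group
        _ = g := by rw [hdc]; group
  rw [← Nat.card_eq_of_bijective f hf]
  have : Fintype (P : Subgroup G) := Fintype.ofFinite _
  rw [Nat.card_sigma, finsum_eq_sum_of_fintype]
  refine Finset.sum_congr rfl fun x _ => ?_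
  rw [← Subgroup.index_eq_card]
  have h1 := ((C x).subgroupOf N).card_mul_index
  have h2 : Nat.card ((C x).subgroupOf N) = Nat.card ↥(N ⊓ C x) := by
    rw [← Subgroup.inf_subgroupOf_left, Nat.card_congr (Subgroup.subgroupOfEquivOfLe (inf_le_left)).toEquiv]
  rw [h2] at h1
  rw [← h1, Nat.mul_div_cancel_left _ Nat.card_pos]

end Cfsg.Agent.S4093
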