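import Cfsg.Statements.S4100
import Cfsg.Agent.Lib.AltCent.Two
import Cfsg.Agent.Lib.AltCent.Five

set_option autoImplicit false
open Cfsg

namespace Cfsg.Agent.S4100

/-- Let G be a finite group and p a prime other than 3 such that the centralizer of every non-central element of p-power order is solvable. Then every alternating group of degree at least 5 involved in G (as a section) has degree at most p + 4, or at most p + 6 = 8 when p = 2. -/
theorem result {G : Type*} [Group G] [Finite G] (p : ℕ) [Fact p.Prime] (hp3 : p ≠ 3)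
    (h : ∀ x : G, x ∉ Subgroup.center G → (∃ k : ℕ, orderOf x = p ^ k) → Group.IsSolvable (Subgroup.centralizer ({x} : Set G)))
    (d : ℕ) (hd : 5 ≤ d) (hinv : Cfsg.Involves (alternatingGroup (Fin d)) G) :
    d ≤ p + 4 + (if p = 2 then 2 else 0) := by
  have hp : p.Prime := Fact.out
  have h2 := hp.two_le
  by_contra hlt
  rcases eq_or_ne p 2 with rfl | hp2
  · rw [if_pos rfl] at hlt
    obtain ⟨H, _, _, π, hs⟩ :=
      CfsgLib.AltCent.exists_setup (n := 9) (by norm_num) (by omega) h hinv
    exact CfsgLib.AltCent.false_two hs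
  rw [if_neg hp2] at hlt
  rcases eq_or_ne p 5 with rfl | hp5
  · obtain ⟨H, _, _, π, hs⟩ :=
      CfsgLib.AltCent.exists_setup (n := 10) (by norm_num) (by omega) h hinv
    exact CfsgLib.AltCent.false_five hs
  have h7 : 7 ≤ p := by
    by_contra hlt7
    have h4 : p ≠ 4 := by rintro rfl; norm_num at hp
    have h6 : p ≠ 6 := by rintro rfl; norm_num at hp
    omega
  obtain ⟨H, _, _, π, hs⟩ :=
    CfsgLib.AltCent.exists_setup (n := p + 5) (by omega) (by omega) h hinv
  exact CfsgLib.AltCent.false_of_seven_le h7 hs

end Cfsg.Agent.S4100
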