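import Cfsg.Statements.S4106
import Cfsg.Agent.Lib.FgsB.Basic
import Cfsg.Agent.Lib.Transfer.NormalPComplement

set_option autoImplicit false
open Cfsg

namespace Cfsg.Agent.S4106

universe u

theorem card_classes_le (s : Finset ℕ) (hs : ∀ q ∈ s, q.Prime) :
    ∀ (G : Type u) [Group G] [Finite G],
    Nat.card {C : ConjClasses G // ∃ g : G, ConjClasses.mk g = C ∧
      ∀ q : ℕ, q.Prime → q ∣ orderOf g → q ∈ s} ≤ ∏ q ∈ s, q ^ (Nat.card G).factorization q := by
  classical
  induction s using Finset.induction with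
  | empty =>
    intro G _ _
    rw [Finset.prod_empty, Finite.card_le_one_iff_subsingleton]
    refine ⟨fun a b => Subtype.ext ?_⟩
    obtain ⟨_, g, rfl, hg⟩ := a
    obtain ⟨_, h, rfl, hh⟩ := b
    have h1 : ∀ x : G, (∀ q : ℕ, q.Prime → q ∣ orderOf x → q ∈ (∅ : Finset ℕ)) → x = 1 := by
      intro x hx
      by_contra hne
      obtain ⟨q, hq, hd⟩ := Nat.exists_prime_and_dvd (mt orderOf_eq_one_iff.mp hne)
      exact Finset.notMem_empty q (hx q hq hd)
    change ConjClasses.mk g = ConjClasses.mk h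
    rw [h1 g hg, h1 h hh]
  | insert p s hps ih =>
    intro G _ _
    have : Fact p.Prime := ⟨hs p (Finset.mem_insert_self p s)⟩
    have hs' : ∀ q ∈ s, q.Prime := fun q hq => hs q (Finset.mem_insert_of_mem hq)
    obtain ⟨P⟩ := (inferInstance : Nonempty (Sylow p G))
    let T := fun u : (P : Subgroup G) => {C : ConjClasses (Subgroup.centralizer ({(u : G)} : Set G)) //
      ∃ g, ConjClasses.mk g = C ∧ ∀ q : ℕ, q.Prime → q ∣ orderOf g → q ∈ s}
    let f : (Σ u, T u) → ConjClasses G := fun w =>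
      ConjClasses.mk ((w.1 : G) * (Classical.choose w.2.2 : Subgroup.centralizer ({(w.1 : G)} : Set G)))
    have hsurj : ∀ C : {C : ConjClasses G // ∃ g : G, ConjClasses.mk g = C ∧
        ∀ q : ℕ, q.Prime → q ∣ orderOf g → q ∈ insert p s}, ∃ w, f w = C.1 := by
      rintro ⟨_, g, rfl, hg⟩
      obtain ⟨a, ha, b, hb, hab, ⟨k, hk⟩, hbp⟩ := CfsgLib.Transfer.exists_pPart_mul (p := p) g
      obtain ⟨i, -, hi⟩ := (Nat.dvd_prime_pow (Fact.out : p.Prime)).mp hk
      obtain ⟨c, hc⟩ := CfsgLib.FgsB.exists_conj_mem_sylow ⟨i, hi⟩ P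
      have hcomm : Commute a b := by
        obtain ⟨x, rfl⟩ := ha
        obtain ⟨y, rfl⟩ := hb
        exact (Commute.refl g).zpow_zpow x y
      have hb' : c⁻¹ * b * c ∈ Subgroup.centralizer ({c⁻¹ * a * c} : Set G) := by
        rw [Subgroup.mem_centralizer_singleton_iff]
        calc c⁻¹ * b * c * (c⁻¹ * a * c) = c⁻¹ * (b * a) * c := by group
        _ = c⁻¹ * (a * b) * c := by rw [hcomm.eq]
        _ = _ := by group
      have hbs : ∀ q : ℕ, q.Prime → q ∣ orderOf (⟨_, hb'⟩ :
          Subgroup.centralizer ({c⁻¹ * a * c} : Set G)) → q ∈ s := by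
        intro q hq hd
        rw [Subgroup.orderOf_mk] at hd
        have e : orderOf (c⁻¹ * b * c) = orderOf b := by
          have := orderOf_injective (MulAut.conj c⁻¹).toMonoidHom (MulAut.conj c⁻¹).injective b
          simpa using this
        rw [e] at hd
        rcases Finset.mem_insert.mp (hg q hq (hd.trans (orderOf_dvd_of_mem_zpowers hb))) with rfl | h
        · exact absurd hd (CfsgLib.Transfer.coprime_orderOf_iff.mp hbp)
        · exact h
      let w : Σ u, T u := ⟨⟨_, hc⟩, ⟨ConjClasses.mk ⟨_, hb'⟩, ⟨_, rfl, hbs⟩⟩⟩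
      refine ⟨w, ?_⟩
      have hspec : ConjClasses.mk (Classical.choose w.2.2) =
          ConjClasses.mk (⟨_, hb'⟩ : Subgroup.centralizer ({c⁻¹ * a * c} : Set G)) :=
        (Classical.choose_spec w.2.2).1
      obtain ⟨d, hd⟩ := isConj_iff.mp (ConjClasses.mk_eq_mk_iff_isConj.mp hspec)
      change ConjClasses.mk (c⁻¹ * a * c * (Classical.choose w.2.2 :
        Subgroup.centralizer ({c⁻¹ * a * c} : Set G))) = ConjClasses.mk g
      rw [ConjClasses.mk_eq_mk_iff_isConj, isConj_iff]
      refine ⟨c * (d : G), ?_⟩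
      have hda : (d : G) * (c⁻¹ * a * c) = c⁻¹ * a * c * (d : G) :=
        Subgroup.mem_centralizer_singleton_iff.mp d.2
      have hd' : (d : G) * (Classical.choose w.2.2 :
          Subgroup.centralizer ({c⁻¹ * a * c} : Set G)) * (d : G)⁻¹ = c⁻¹ * b * c :=
        congrArg Subtype.val hd
      generalize hz : ((Classical.choose w.2.2 :
          Subgroup.centralizer ({c⁻¹ * a * c} : Set G)) : G) = z at hd' ⊢
      calc c * (d : G) * (c⁻¹ * a * c * z) * (c * (d : G))⁻¹
          = c * (((d : G) * (c⁻¹ * a * c)) * (d : G)⁻¹) * ((d : G) * z * (d : G)⁻¹) * c⁻¹ := by group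
      _ = c * ((c⁻¹ * a * c * (d : G)) * (d : G)⁻¹) * (c⁻¹ * b * c) * c⁻¹ := by rw [hda, hd']
      _ = a * b := by group
      _ = g := hab
    have : Fintype (P : Subgroup G) := Fintype.ofFinite _
    choose r hr using hsurj
    have hle := Nat.card_le_card_of_injective r (fun x y hxy => Subtype.ext (by rw [← hr x, ← hr y, hxy]))
    refine hle.trans ?_
    rw [Nat.card_sigma, Finset.prod_insert hps, ← P.card_eq_multiplicity]
    refine (Finset.sum_le_card_nsmul Finset.univ _ (∏ q ∈ s, q ^ (Nat.card G).factorization q)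
      (fun u _ => (ih hs' _).trans (Finset.prod_le_prod' (fun q hq => ?_)))).trans ?_
    · exact Nat.pow_le_pow_right (hs' q hq).pos ((Nat.factorization_le_iff_dvd Nat.card_pos.ne'
        Nat.card_pos.ne').mpr (Subgroup.card_subgroup_dvd_card _) q)
    · rw [Finset.card_univ, ← Nat.card_eq_fintype_card, smul_eq_mul]

/-- Let G be a finite group, π a set of primes and m the π-part of the order of G. Then the number of conjugacy classes of G consisting of π-elements (elements whose order is divisible only by primes in π) is at most m. -/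
theorem result {G : Type*} [Group G] [Finite G]
    (π : Set ℕ) (hπ : ∀ q ∈ π, q.Prime)
    (m : ℕ) (hm : m ∣ Nat.card G) (hmπ : ∀ q : ℕ, q.Prime → q ∣ m → q ∈ π)
    (hm' : ∀ q ∈ π, ¬ q ∣ Nat.card G / m) :
    Nat.card {C : ConjClasses G // ∀ q : ℕ, q.Prime → (∃ g : G, ConjClasses.mk g = C ∧ q ∣ orderOf g) → q ∈ π} ≤ m := by
  classical
  have hG : 0 < Nat.card G := Nat.card_pos
  have hfac : ∀ q ∈ m.primeFactors, (Nat.card G).factorization q = m.factorization q := by
    intro q hq
    have hqp := Nat.prime_of_mem_primeFactors hq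
    have h1 := hm' q (hmπ q hqp (Nat.dvd_of_mem_primeFactors hq))
    have h2 : Nat.card G = m * (Nat.card G / m) := (Nat.mul_div_cancel' hm).symm
    have hne : Nat.card G / m ≠ 0 := fun h0 => h1 (h0 ▸ dvd_zero q)
    rw [h2, Nat.factorization_mul (ne_zero_of_dvd_ne_zero hG.ne' hm) hne, Finsupp.add_apply,
      Nat.factorization_eq_zero_of_not_dvd h1, add_zero]
  have hle := card_classes_le m.primeFactors (fun q hq => Nat.prime_of_mem_primeFactors hq) G
  rw [Finset.prod_congr rfl (fun q hq => by rw [hfac q hq]),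
    ← Nat.support_factorization] at hle
  have hprod := Nat.prod_factorization_pow_eq_self (ne_zero_of_dvd_ne_zero hG.ne' hm)
  rw [Finsupp.prod] at hprod
  rw [hprod] at hle
  have hmem : ∀ C : ConjClasses G, (∀ q : ℕ, q.Prime → (∃ g : G, ConjClasses.mk g = C ∧ q ∣ orderOf g) → q ∈ π) →
      ∃ g : G, ConjClasses.mk g = C ∧ ∀ q : ℕ, q.Prime → q ∣ orderOf g → q ∈ m.factorization.support := by
    intro C hC
    obtain ⟨g, hg⟩ := C.exists_rep
    refine ⟨g, hg, fun q hq hd => ?_⟩
    have hqπ := hC q hq ⟨g, hg, hd⟩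
    rw [Nat.support_factorization, Nat.mem_primeFactors]
    refine ⟨hq, ?_, ne_zero_of_dvd_ne_zero hG.ne' hm⟩
    rcases hq.dvd_mul.mp ((Nat.mul_div_cancel' hm).symm ▸ hd.trans (orderOf_dvd_natCard g)) with h | h
    · exact h
    · exact absurd h (hm' q hqπ)
  let i : {C : ConjClasses G // ∀ q : ℕ, q.Prime → (∃ g : G, ConjClasses.mk g = C ∧ q ∣ orderOf g) → q ∈ π} →
      {C : ConjClasses G // ∃ g : G, ConjClasses.mk g = C ∧ ∀ q : ℕ, q.Prime → q ∣ orderOf g → q ∈ m.factorization.support} :=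
    fun C => ⟨C.1, hmem C.1 C.2⟩
  have hi : Function.Injective i := fun a b hab => Subtype.ext (congrArg Subtype.val hab : (i a).1 = (i b).1)
  exact (Nat.card_le_card_of_injective i hi).trans hle

end Cfsg.Agent.S4106
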