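import Cfsg.Statements.S4107
import Mathlib
import Cfsg.Agent.Lib.SolvStruct.CosetOrder

set_option autoImplicit false
set_option linter.style.haveILetI false
open Cfsg

namespace Cfsg.Agent.S4107


/-- Let G be a finite group and N a proper non-trivial normal subgroup such that for every x outside N all elements of the coset xN have the same order as x. Then N ≤ F(G) or F(G) ≤ N, where F(G) is the Fitting subgroup; and if N is properly contained in F(G) then F(G) has prime-power order. -/
theorem result {G : Type*} [Group G] [Finite G] (N : Subgroup G) [N.Normal] (hN1 : N ≠ ⊥) (hN2 : N ≠ ⊤)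
    (heq : ∀ x : G, x ∉ N → ∀ n ∈ N, orderOf (x * n) = orderOf x) :
    (N ≤ Cfsg.fittingSubgroup G ∨ Cfsg.fittingSubgroup G ≤ N) ∧
    (N < Cfsg.fittingSubgroup G → IsPrimePow (Nat.card (Cfsg.fittingSubgroup G))) := by
  have key : ∀ p : Nat.Primes, ¬ pCore (p : ℕ) G ≤ N → IsPGroup (p : ℕ) N := fun p h =>
    haveI := Fact.mk p.2
    CfsgLib.CosetOrder.isPGroup_of_pCore_not_le heq h
  have hF := CfsgLib.Base.fittingSubgroup_eq_iSup_pCore G
  constructor
  · by_cases h : ∀ p : Nat.Primes, pCore (p : ℕ) G ≤ N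
    · exact Or.inr (hF ▸ iSup_le h)
    · push Not at h
      obtain ⟨p, hp⟩ := h
      haveI := Fact.mk p.2
      exact Or.inl (CfsgLib.Base.le_fittingSubgroup (key p hp).isNilpotent)
  · intro hlt
    obtain ⟨p, hp⟩ : ∃ p : Nat.Primes, ¬ pCore (p : ℕ) G ≤ N := by
      by_contra h
      push Not at h
      exact hlt.not_ge (hF ▸ iSup_le h)
    haveI := Fact.mk p.2
    have hall : fittingSubgroup G ≤ pCore (p : ℕ) G := by
      rw [hF]
      refine iSup_le fun q => ?_
      rcases eq_or_ne q p with rfl | hqp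
      · exact le_rfl
      haveI := Fact.mk q.2
      have hne : (q : ℕ) ≠ (p : ℕ) := fun h => hqp (Subtype.ext h)
      by_cases hq : pCore (q : ℕ) G ≤ N
      · rw [CfsgLib.CosetOrder.eq_bot_of_two_primes hne
          (CfsgLib.Base.isPGroup_pCore _ G) ((key p hp).to_le hq)]
        exact bot_le
      · exact absurd (CfsgLib.CosetOrder.eq_bot_of_two_primes hne (key q hq) (key p hp)) hN1
    have hp' : IsPGroup (p : ℕ) (fittingSubgroup G) := (CfsgLib.Base.isPGroup_pCore _ G).to_le hall
    obtain ⟨k, hk⟩ := IsPGroup.iff_card.1 hp'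
    rw [isPrimePow_nat_iff]
    refine ⟨p, k, p.2, Nat.pos_of_ne_zero fun h0 => hlt.not_ge ?_, hk.symm⟩
    rw [h0, pow_zero] at hk
    rw [Subgroup.card_eq_one.1 hk]
    exact bot_le

end Cfsg.Agent.S4107
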