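import Cfsg.Statements.S4108
import Mathlib
import Cfsg.Agent.Lib.SolvStruct.CosetOrder
import Cfsg.Agent.Lib.Base.Frobenius

set_option autoImplicit false
set_option linter.style.haveILetI false
open Cfsg

namespace Cfsg.Agent.S4108

open Subgroup


/-- Let G be a finite group, p a prime and N a proper non-trivial normal p-subgroup such that for every x outside N all elements of the coset xN have the same order as x. Then every non-trivial subgroup H of G of order prime to p acts fixed-point-freely on N: NH is a Frobenius group with complement H and kernel N. -/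
theorem result {G : Type*} [Group G] [Finite G] (N : Subgroup G) [N.Normal] (hN1 : N ≠ ⊥) (hN2 : N ≠ ⊤)
    (heq : ∀ x : G, x ∉ N → ∀ n ∈ N, orderOf (x * n) = orderOf x)
    (p : ℕ) [Fact p.Prime] (hNp : IsPGroup p N) :
    ∀ H : Subgroup G, H ≠ ⊥ → (Nat.card H).Coprime p →
      Cfsg.IsFrobeniusComplement (H.subgroupOf (N ⊔ H)) ∧ Cfsg.frobeniusKernel (H.subgroupOf (N ⊔ H)) = (N.subgroupOf (N ⊔ H) : Set ↥(N ⊔ H)) := by
  intro H hH hcop
  have hdis : Disjoint N H := by
    obtain ⟨k, hk⟩ := IsPGroup.iff_card.1 hNp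
    refine disjoint_iff.2 (inf_eq_bot_of_coprime ?_)
    rw [hk]
    exact hcop.symm.pow_left k
  set L := N ⊔ H with hL
  set K' := N.subgroupOf L
  set H' := H.subgroupOf L
  have hc : K'.IsComplement' H' := by
    refine isComplement'_of_disjoint_and_mul_eq_univ ?_ ?_
    · rw [disjoint_iff, eq_bot_iff]
      intro x hx
      exact mem_bot.2 (Subtype.ext (mem_bot.1 (hdis.le_bot ⟨hx.1, hx.2⟩)))
    · rw [← normal_mul, ← subgroupOf_sup (le_sup_left : N ≤ L) (le_sup_right : H ≤ L),
        subgroupOf_self, coe_top]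
  have hK : K' ≠ ⊥ := fun h => hN1 (by
    rw [← map_subgroupOf_eq_of_le (le_sup_left : N ≤ L)]
    exact (map_eq_bot_iff_of_injective _ (subtype_injective L)).2 h)
  have hH' : H' ≠ ⊥ := fun h => hH (by
    rw [← map_subgroupOf_eq_of_le (le_sup_right : H ≤ L)]
    exact (map_eq_bot_iff_of_injective _ (subtype_injective L)).2 h)
  have hF : Cfsg.IsFrobeniusComplement H' := by
    rw [CfsgLib.Base.Frobenius.isFrobeniusComplement_iff K' H' hc hK hH']
    intro h hh hh1
    rw [eq_bot_iff_forall]
    rintro ⟨n, hnL⟩ ⟨hn, hnc⟩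
    have hx : (h : G) ∉ N := fun hx => hh1 (Subtype.ext (mem_bot.1 (hdis.le_bot ⟨hx, hh⟩)))
    have hcomm : Commute (h : G) n :=
      congrArg Subtype.val (mem_centralizer_iff.1 hnc h rfl)
    have hco : Nat.Coprime (orderOf (h : G)) (orderOf n) := by
      obtain ⟨k, hk⟩ := IsPGroup.iff_card.1 hNp
      refine Nat.Coprime.coprime_dvd_left (orderOf_dvd_natCard H hh) ?_
      refine Nat.Coprime.coprime_dvd_right (orderOf_dvd_natCard N hn) ?_
      rw [hk]
      exact hcop.pow_right k
    exact Subtype.ext (CfsgLib.CosetOrder.eq_one_of_commute_coprime heq hx hn hcomm hco)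
  exact ⟨hF, CfsgLib.Base.Frobenius.frobeniusKernel_eq hF K' hc⟩

end Cfsg.Agent.S4108
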