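import Cfsg.Statements.S4112
import Mathlib
import Cfsg.Agent.Lib.Transfer.NormalPComplement

set_option autoImplicit false
open Cfsg

namespace Cfsg.Agent.S4112

open scoped Pointwise

/-- Let G be a finite group and M ≤ N non-trivial proper normal subgroups such that for every g outside N the conjugacy class of g is a union of cosets of M (equivalently gm is conjugate to g for every m ∈ M). Then (1) and (2) below are equivalent, and they imply (3): (1) every g outside N acts fixed-point-freely on M, that is C_G(x) ≤ N for every x ∈ M, x ≠ 1; (2) the index of N in G is coprime to the order of M; (3) there is a subgroup H of G with HN = G and H ∩ M = 1. -/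
theorem result {G : Type*} [Group G] [Finite G] (N M : Subgroup G) [N.Normal] [M.Normal] (hMN : M ≤ N) (hM1 : M ≠ ⊥) (hN2 : N ≠ ⊤)
    (hcam : ∀ g : G, g ∉ N → ∀ m ∈ M, ∃ x : G, x * g * x⁻¹ = g * m) :
    ((∀ x ∈ M, x ≠ 1 → Subgroup.centralizer ({x} : Set G) ≤ N) ↔ N.index.Coprime (Nat.card M)) ∧
    ((∀ x ∈ M, x ≠ 1 → Subgroup.centralizer ({x} : Set G) ≤ N) → ∃ H : Subgroup G, H ⊔ N = ⊤ ∧ H ⊓ M = ⊥) := by
  classical
  -- (2) gives (1)
  have h21 : N.index.Coprime (Nat.card M) →
      ∀ x ∈ M, x ≠ 1 → Subgroup.centralizer ({x} : Set G) ≤ N := by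
    intro hcop x hx hx1 g hg
    by_contra hgN
    obtain ⟨r, hr, hrd⟩ := Nat.exists_prime_and_dvd (fun h => hx1 (orderOf_eq_one_iff.mp h) : orderOf x ≠ 1)
    have : Fact r.Prime := ⟨hr⟩
    set y := x ^ (orderOf x / r) with hy
    have hyo : orderOf y = r := orderOf_pow_orderOf_div (orderOf_pos x).ne' hrd
    have hyM : y ∈ M := M.pow_mem hx _
    have hgy : Commute g y := (show Commute g x from Subgroup.mem_centralizer_singleton_iff.mp hg).pow_right _
    have hrM : r ∣ Nat.card M := hyo ▸ M.orderOf_dvd_natCard hyM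
    have hrN : ¬ r ∣ N.index := fun h => hr.ne_one (Nat.eq_one_of_dvd_coprimes hcop h hrM)
    obtain ⟨a, ha, b, hb, hab, ⟨k, hk⟩, hbr⟩ := CfsgLib.Transfer.exists_pPart_mul (p := r) g
    have haN : a ∈ N := by
      rw [← QuotientGroup.eq_one_iff, ← orderOf_eq_one_iff]
      exact Nat.eq_one_of_dvd_coprimes ((hr.coprime_iff_not_dvd.mpr hrN).pow_left k)
        ((orderOf_map_dvd (QuotientGroup.mk' N) a).trans hk)
        ((Subgroup.index_eq_card N).symm ▸ orderOf_dvd_natCard _)
    have hbN : b ∉ N := fun h => hgN (hab ▸ N.mul_mem haN h)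
    obtain ⟨s, rfl⟩ := hb
    simp only at hbN hbr hab
    have hby : Commute (g ^ s) y := hgy.zpow_left s
    obtain ⟨c, hc⟩ := hcam (g ^ s) hbN y hyM
    have hord : orderOf (g ^ s) = orderOf (g ^ s) * r := by
      calc orderOf (g ^ s) = orderOf (c * g ^ s * c⁻¹) := by rw [← MulAut.conj_apply, MulEquiv.orderOf_eq]
        _ = orderOf (g ^ s * y) := by rw [hc]
        _ = _ := by rw [hby.orderOf_mul_eq_mul_orderOf_of_coprime (by rw [hyo]; exact hbr), hyo]
    have := (Nat.mul_eq_left (orderOf_pos (g ^ s)).ne').mp hord.symm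
    exact hr.ne_one this
  -- (1) gives (2)
  have h12 : (∀ x ∈ M, x ≠ 1 → Subgroup.centralizer ({x} : Set G) ≤ N) →
      N.index.Coprime (Nat.card M) := by
    intro hfpf
    refine Nat.coprime_of_dvd fun r hr hri hrM => ?_
    have : Fact r.Prime := ⟨hr⟩
    obtain ⟨R⟩ : Nonempty (Sylow r G) := inferInstance
    have hRM := CfsgLib.Transfer.not_dvd_index_subgroupOf_of_normal R M
    have hR : IsPGroup r (R : Subgroup G) := R.isPGroup'
    -- a nontrivial central element of `R` in `M`
    set D := M.subgroupOf (R : Subgroup G) with hD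
    have hDne : D ≠ ⊥ := by
      intro h
      apply hRM
      rw [hD, Subgroup.subgroupOf_eq_bot, disjoint_iff, inf_comm] at h
      have h2 : ((R : Subgroup G).subgroupOf M) = ⊥ := by
        rw [Subgroup.subgroupOf_eq_bot, disjoint_iff]; exact h
      rw [h2, Subgroup.index_bot]; exact hrM
    let act : MulAction (R : Subgroup G) D :=
      { smul := fun u d => ⟨u * d.1 * u⁻¹, (inferInstance : D.Normal).conj_mem d.1 d.2 u⟩
        one_smul := fun d => Subtype.ext (show 1 * d.1 * 1⁻¹ = d.1 by simp)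
        mul_smul := fun u v d => Subtype.ext (show u * v * d.1 * (u * v)⁻¹ = u * (v * d.1 * v⁻¹) * u⁻¹ by group) }
    have hdvd : r ∣ Nat.card D := by
      obtain ⟨j, hj⟩ := IsPGroup.iff_card.mp (hR.to_subgroup D)
      have hj0 : j ≠ 0 := fun h => hDne (Subgroup.card_eq_one.mp (by rw [hj, h, pow_zero]))
      rw [hj]; exact dvd_pow_self r hj0
    obtain ⟨z, hz, hz1⟩ := hR.exists_fixed_point_of_prime_dvd_card_of_fixed_point D hdvd
      (a := 1) (fun u => Subtype.ext (show u * 1 * u⁻¹ = 1 by simp))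
    apply R.not_dvd_index
    refine hri.trans (Subgroup.index_dvd_of_le ?_)
    intro u hu
    refine hfpf (z.1 : G) z.2 (fun h => hz1 (Subtype.ext (Subtype.ext h)).symm) ?_
    rw [Subgroup.mem_centralizer_singleton_iff]
    have h3 : (⟨u, hu⟩ : (R : Subgroup G)) * z.1 * ⟨u, hu⟩⁻¹ = z.1 := congrArg Subtype.val (hz ⟨u, hu⟩)
    exact congrArg Subtype.val (mul_inv_eq_iff_eq_mul.mp h3)
  refine ⟨⟨h12, h21⟩, fun hfpf => ?_⟩
  have hcop := h12 hfpf
  obtain ⟨H, -, hH⟩ := Finite.exists_le_minimal (p := fun H : Subgroup G => H ⊔ N = ⊤) (a := ⊤) (top_sup_eq N)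
  refine ⟨H, hH.prop, ?_⟩
  by_contra hne
  obtain ⟨r, hr, hrd⟩ := Nat.exists_prime_and_dvd (mt Subgroup.card_eq_one.mp hne)
  have : Fact r.Prime := ⟨hr⟩
  have hrM : r ∣ Nat.card M := hrd.trans (Subgroup.card_dvd_of_le inf_le_right)
  have hrN : ¬ r ∣ N.index := fun h => hr.ne_one (Nat.eq_one_of_dvd_coprimes hcop h hrM)
  set D := N.subgroupOf H with hD
  have hrD : ¬ r ∣ D.index := fun h => hrN (h.trans (Subgroup.relIndex_dvd_index_of_normal N H))
  obtain ⟨R⟩ : Nonempty (Sylow r D) := inferInstance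
  set R' := (R : Subgroup D).map D.subtype with hR'
  have hfr := Sylow.normalizer_sup_eq_top (N := D) R
  have htop : ∀ L : Subgroup H, L ⊔ D = ⊤ → L = ⊤ := by
    intro L hL
    have h1 : L.map H.subtype ⊔ N = ⊤ := by
      rw [eq_top_iff, ← hH.prop]
      refine sup_le ?_ le_sup_right
      intro h hh
      have h2 : (⟨h, hh⟩ : H) ∈ L ⊔ D := hL.symm ▸ Subgroup.mem_top _
      have h3 := Subgroup.mem_map_of_mem H.subtype h2
      rw [Subgroup.map_sup] at h3
      exact sup_le_sup le_rfl ((Subgroup.subgroupOf_map_subtype N H).le.trans inf_le_left) h3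
    have h4 := hH.le_of_le h1 (Subgroup.map_subtype_le L)
    rw [eq_top_iff]
    intro x _
    obtain ⟨y, hy, hyx⟩ := h4 x.2
    exact Subtype.ext hyx ▸ hy
  have hRn : R'.Normal := Subgroup.normalizer_eq_top_iff.mp (htop _ hfr)
  have hidx : ¬ r ∣ R'.index := by
    rw [hR', Subgroup.index_map_subtype]
    exact fun h => (hr.dvd_mul.mp h).elim R.not_dvd_index hrD
  obtain ⟨k, hk⟩ := IsPGroup.iff_card.mp R.isPGroup'
  have hkR : Nat.card R' = r ^ k := by
    rw [hR', Subgroup.card_map_of_injective D.subtype_injective, hk]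
  obtain ⟨L, hL⟩ := Subgroup.exists_right_complement'_of_coprime (N := R')
    (by rw [hkR]; exact (hr.coprime_iff_not_dvd.mpr hidx).pow_left k)
  have hLtop : L = ⊤ := htop L (by
    rw [eq_top_iff, ← hL.sup_eq_top]
    exact sup_le ((Subgroup.map_subtype_le _).trans le_sup_right) le_sup_left)
  have hbot : R' = ⊥ := by
    have := disjoint_iff.mp hL.disjoint
    rwa [hLtop, inf_top_eq] at this
  have hD0 : ¬ r ∣ Nat.card D := by
    intro h
    apply R.ne_bot_of_dvd_card h
    rwa [hR', Subgroup.map_eq_bot_iff_of_injective _ D.subtype_injective] at hbot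
  apply hD0
  refine hrd.trans ?_
  have h5 : Nat.card D = Nat.card ↥(N ⊓ H) := by
    rw [hD, ← Subgroup.inf_subgroupOf_right, Nat.card_congr (Subgroup.subgroupOfEquivOfLe inf_le_right).toEquiv]
  rw [h5]
  exact Subgroup.card_dvd_of_le (le_inf (inf_le_right.trans hMN) inf_le_left)

end Cfsg.Agent.S4112
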