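import Cfsg.Statements.S4113
import Mathlib

set_option autoImplicit false
open Cfsg

namespace Cfsg.Agent.S4113

open scoped Pointwise

/-- Let G be a finite group, M ≤ N non-trivial proper normal subgroups, and H a subgroup with HM = G and H ∩ M = 1. Then every element of G outside N acts fixed-point-freely on M (C_G(x) ≤ N for every x ∈ M, x ≠ 1) if and only if H ∩ gHg⁻¹ ≤ H ∩ N for every g outside H, with H proper and non-trivial and H ∩ N proper in H. -/
theorem result {G : Type*} [Group G] [Finite G] (N M : Subgroup G) [N.Normal] [M.Normal] (hMN : M ≤ N) (hM1 : M ≠ ⊥) (hN2 : N ≠ ⊤)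
    (H : Subgroup G) (hHM : H ⊔ M = ⊤) (hHM' : H ⊓ M = ⊥) :
    (∀ x ∈ M, x ≠ 1 → Subgroup.centralizer ({x} : Set G) ≤ N) ↔
      (H ≠ ⊥ ∧ H ≠ ⊤ ∧ H ⊓ N < H ∧ ∀ g : G, g ∉ H → H ⊓ H.map (MulAut.conj g).toMonoidHom ≤ N) := by
  classical
  have hdec : ∀ g : G, ∃ m ∈ M, ∃ h ∈ H, m * h = g := by
    intro g
    have hg : g ∈ M ⊔ H := by rw [sup_comm, hHM]; exact Subgroup.mem_top g
    exact Subgroup.mem_sup_of_normal_left.mp hg
  have hone : ∀ x, x ∈ H → x ∈ M → x = 1 := fun x h1 h2 => by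
    have : x ∈ H ⊓ M := ⟨h1, h2⟩
    rwa [hHM', Subgroup.mem_bot] at this
  obtain ⟨g₀, hg₀⟩ : ∃ g : G, g ∉ N := by
    by_contra h
    push Not at h
    exact hN2 (eq_top_iff.mpr fun x _ => h x)
  constructor
  · intro hfpf
    have hHN : ¬ H ≤ N := fun h => hN2 (eq_top_iff.mpr (hHM ▸ sup_le h hMN))
    refine ⟨?_, ?_, lt_of_le_of_ne inf_le_left (fun h => hHN (inf_eq_left.mp h)), ?_⟩
    · rintro rfl; exact hHN bot_le
    · rintro rfl; rw [top_inf_eq] at hHM'; exact hM1 hHM'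
    intro g hg
    rintro x ⟨hx, hx'⟩
    obtain ⟨y, hy, hyx⟩ := hx'
    simp only [MulEquiv.coe_toMonoidHom, MulAut.conj_apply] at hyx
    obtain ⟨m, hm, h, hh, rfl⟩ := hdec g
    set y' := h * y * h⁻¹ with hy'
    have hy'H : y' ∈ H := H.mul_mem (H.mul_mem hh hy) (H.inv_mem hh)
    have hxm : x = m * y' * m⁻¹ := by rw [← hyx, hy']; group
    have hd : y'⁻¹ * x = 1 := by
      refine hone _ (H.mul_mem (H.inv_mem hy'H) hx) ?_
      have e : y'⁻¹ * x = y'⁻¹ * m * y'⁻¹⁻¹ * m⁻¹ := by rw [hxm]; group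
      rw [e]
      exact M.mul_mem ((inferInstance : M.Normal).conj_mem m hm _) (M.inv_mem hm)
    have hm1 : m ≠ 1 := fun h1 => hg (by rw [h1, one_mul]; exact hh)
    refine hfpf m hm hm1 (Subgroup.mem_centralizer_singleton_iff.mpr ?_)
    rw [inv_mul_eq_one] at hd
    calc x * m = m * y' * m⁻¹ * m := by rw [← hxm]
      _ = m * x := by rw [inv_mul_cancel_right, hd]
  · rintro ⟨-, -, -, hfrob⟩ x hx hx1 g hg
    by_contra hgN
    have hcomm := Subgroup.mem_centralizer_singleton_iff.mp hg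
    obtain ⟨m, hm, h, hh, rfl⟩ := hdec g
    have hhN : h ∉ N := fun hn => hgN (N.mul_mem (hMN hm) hn)
    -- elements of `M` move `h`
    have key : ∀ z ∈ M, z * h = h * z → z = 1 := by
      intro z hz hzh
      by_contra hz1
      refine hhN (hfrob z (fun hzH => hz1 (hone z hzH hz)) ⟨hh, h, hh, ?_⟩)
      simp only [MulEquiv.coe_toMonoidHom, MulAut.conj_apply]
      rw [hzh, mul_inv_cancel_right]
    let f : M → M := fun z => ⟨(z : G) * (h * (z : G)⁻¹ * h⁻¹),
      M.mul_mem z.2 ((inferInstance : M.Normal).conj_mem _ (M.inv_mem z.2) h)⟩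
    have hf : Function.Injective f := by
      intro a b hab
      have h1 : (a : G) * (h * (a : G)⁻¹ * h⁻¹) = (b : G) * (h * (b : G)⁻¹ * h⁻¹) := congrArg Subtype.val hab
      have h2 : ((b : G)⁻¹ * a) * h = h * ((b : G)⁻¹ * a) := by
        calc ((b : G)⁻¹ * a) * h = (b : G)⁻¹ * ((a : G) * (h * (a : G)⁻¹ * h⁻¹)) * h * a := by group
          _ = (b : G)⁻¹ * ((b : G) * (h * (b : G)⁻¹ * h⁻¹)) * h * a := by rw [h1]
          _ = h * ((b : G)⁻¹ * a) := by group
      have h3 := key _ (M.mul_mem (M.inv_mem b.2) a.2) h2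
      rw [inv_mul_eq_one] at h3
      exact Subtype.ext h3.symm
    obtain ⟨z, hz⟩ := (Finite.injective_iff_surjective.mp hf) ⟨m, hm⟩
    have hz' : (z : G) * (h * (z : G)⁻¹ * h⁻¹) = m := congrArg Subtype.val hz
    apply hx1
    have hx' : (z : G)⁻¹ * x * z ∈ M := by
      simpa using (inferInstance : M.Normal).conj_mem x hx (z : G)⁻¹
    have := key _ hx' (by
      have e : m * h = (z : G) * h * (z : G)⁻¹ := by rw [← hz']; group
      rw [e] at hcomm
      calc (z : G)⁻¹ * x * z * h = (z : G)⁻¹ * (x * ((z : G) * h * (z : G)⁻¹)) * z := by group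
        _ = (z : G)⁻¹ * ((z : G) * h * (z : G)⁻¹ * x) * z := by rw [hcomm]
        _ = h * ((z : G)⁻¹ * x * z) := by group)
    calc x = (z : G) * ((z : G)⁻¹ * x * z) * (z : G)⁻¹ := by group
      _ = 1 := by rw [this]; group

end Cfsg.Agent.S4113
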