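import Cfsg.Statements.S4115
import Cfsg.Agent.Lib.CharsMore.TIHallComplement
import Mathlib

set_option autoImplicit false
set_option linter.style.haveILetI false
universe u
open Cfsg

namespace Cfsg.Agent.S4115

/-- Let G be a finite group and H a subgroup that meets each of its conjugates by elements outside N_G(H) trivially and whose order is coprime to its index in N_G(H). Then H has a normal complement in N_G(H) if and only if H has a normal complement in G. Moreover, if H is not normal in G and has a normal complement in N_G(H), then H is isomorphic to a Frobenius complement of some finite Frobenius group. -/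
theorem result {G : Type u} [Group G] [Finite G] (H : Subgroup G)
    (hTI : Cfsg.IsTISubset (H : Set G)) (hHall : (Nat.card H).Coprime (H.subgroupOf (Subgroup.normalizer (H : Set G))).index) :
    ((∃ K : Subgroup (Subgroup.normalizer (H : Set G)), K.Normal ∧ K.IsComplement' (H.subgroupOf (Subgroup.normalizer (H : Set G)))) ↔
      (∃ N : Subgroup G, N.Normal ∧ N.IsComplement' H)) ∧
    (¬ H.Normal → (∃ K : Subgroup (Subgroup.normalizer (H : Set G)), K.Normal ∧ K.IsComplement' (H.subgroupOf (Subgroup.normalizer (H : Set G)))) →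
      ∃ (F : Type u) (_ : Group F) (_ : Finite F) (C : Subgroup F), Cfsg.IsFrobeniusComplement C ∧ Nonempty (H ≃* C)) := by
  have hcop := CfsgLib.CharsMore.TIHallComplement.coprime_index hTI hHall
  refine ⟨⟨fun ⟨K, hKn, hK⟩ =>
    CfsgLib.CharsMore.TIHallComplement.exists_complement hTI hHall K hKn hK, ?_⟩, ?_⟩
  · rintro ⟨N, hN, hNH⟩
    haveI := hN
    refine ⟨N.subgroupOf (Subgroup.normalizer (H : Set G)), inferInstance,
      Subgroup.isComplement'_of_disjoint_and_mul_eq_univ ?_ ?_⟩
    · rw [disjoint_iff, Subgroup.eq_bot_iff_forall]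
      intro x hx
      exact Subtype.ext (Subgroup.mem_bot.1 (hNH.disjoint.eq_bot ▸ (⟨hx.1, hx.2⟩ : (x : G) ∈ N ⊓ H)))
    · refine Set.eq_univ_of_forall fun g => ?_
      obtain ⟨n, hn, h, hh, e⟩ := Subgroup.mem_sup_of_normal_left.1
        (hNH.sup_eq_top ▸ Subgroup.mem_top (g : G))
      have hnN : n ∈ Subgroup.normalizer (H : Set G) := by
        rw [eq_mul_inv_of_mul_eq e]
        exact Subgroup.mul_mem _ g.2 (Subgroup.inv_mem _ (Subgroup.le_normalizer hh))
      exact ⟨⟨n, hnN⟩, hn, ⟨h, Subgroup.le_normalizer hh⟩, hh, Subtype.ext e⟩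
  · intro hnn ⟨K, hKn, hK⟩
    obtain ⟨N, hN, hNH⟩ :=
      CfsgLib.CharsMore.TIHallComplement.exists_complement hTI hHall K hKn hK
    haveI := hN
    exact CfsgLib.CharsMore.TIHallComplement.exists_frobenius hTI hnn hcop N hNH

end Cfsg.Agent.S4115
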