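import Cfsg.Statements.S4116
import Mathlib


set_option autoImplicit false
set_option linter.style.haveILetI false
open Cfsg

namespace Cfsg.Agent.S4116

open Subgroup

variable {G : Type*} [Group G] [Finite G]

/-- A self-normalising trivial intersection subgroup covers at least half of the non-identity
elements. -/
theorem two_mul_card_cover {D : Subgroup G} (hne : D ≠ ⊥)
    (hTI : ∀ g : G, g ∉ D → D ⊓ D.map (MulAut.conj g).toMonoidHom = ⊥) :
    Nat.card G ≤ 2 * Nat.card {x : G // x ≠ 1 ∧ ∃ g : G, g⁻¹ * x * g ∈ D} := by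
  classical
  set f : (G ⧸ D) × {d : D // d ≠ 1} → {x : G // x ≠ 1 ∧ ∃ g : G, g⁻¹ * x * g ∈ D} :=
    fun p => ⟨p.1.out * (p.2.1 : G) * p.1.out⁻¹, fun h => p.2.2 (Subtype.ext (by simpa using h)),
      p.1.out, by simp [mul_assoc]⟩ with hf
  have hinj : Function.Injective f := by
    rintro ⟨a, d, hd⟩ ⟨b, e, he⟩ h
    have h' : a.out * (d : G) * a.out⁻¹ = b.out * (e : G) * b.out⁻¹ := congrArg Subtype.val h
    have hab : b.out⁻¹ * a.out ∈ D := by
      by_contra hn
      refine he (Subtype.ext (mem_bot.1 ((hTI _ hn).le ⟨e.2, d, d.2, ?_⟩)))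
      show b.out⁻¹ * a.out * (d : G) * (b.out⁻¹ * a.out)⁻¹ = e
      calc b.out⁻¹ * a.out * (d : G) * (b.out⁻¹ * a.out)⁻¹
          = b.out⁻¹ * (a.out * (d : G) * a.out⁻¹) * b.out := by group
        _ = e := by rw [h']; group
    have hab' : a = b := by
      rw [← QuotientGroup.out_eq' a, ← QuotientGroup.out_eq' b]
      exact (QuotientGroup.eq.2 hab).symm
    subst hab'
    simp only [mul_left_inj, mul_right_inj, SetLike.coe_eq_coe] at h'
    simp [h']
  have h1 := Nat.card_le_card_of_injective f hinj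
  have h2 : Nat.card {d : D // d ≠ 1} + 1 = Nat.card D := by
    haveI := Fintype.ofFinite D
    rw [Nat.card_eq_fintype_card, Nat.card_eq_fintype_card, Fintype.card_subtype_compl,
      Fintype.card_subtype_eq]
    have := Fintype.card_pos (α := D)
    omega
  have h3 : 2 ≤ Nat.card D := D.one_lt_card_iff_ne_bot.2 hne
  rw [Nat.card_prod] at h1
  rw [← D.index_mul_card, ← index_eq_card] at *
  nlinarith



/-- Let G be a finite group with a subgroup H whose order is coprime to its index (a Hall subgroup) and which meets each of its conjugates by elements outside N_G(H) trivially. Then every subgroup of G whose order is divisible only by primes dividing the order of H lies in a conjugate of H. -/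
theorem result {G : Type*} [Group G] [Finite G] (H : Subgroup G)
    (hHall : (Nat.card H).Coprime H.index) (hTI : Cfsg.IsTISubset (H : Set G))
    (K : Subgroup G) (hK : ∀ q : ℕ, q.Prime → q ∣ Nat.card K → q ∣ Nat.card H) :
    ∃ g : G, K ≤ H.map (MulAut.conj g).toMonoidHom := by
  classical
  have hK' : ∀ q : ℕ, q.Prime → ∀ g : G, g ∈ normalizer (H : Set G) → g ≠ 1 →
      (∀ r : ℕ, r.Prime → r ∣ orderOf g → r ∣ Nat.card H) → g ∈ H := by
    intro _ _ g hg _ hord
    haveI : (H.subgroupOf (normalizer (H : Set G))).Normal := normal_in_normalizer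
    have hn : H.relIndex (normalizer (H : Set G)) ∣ H.index := relIndex_dvd_index_of_le le_normalizer
    set π := QuotientGroup.mk' (H.subgroupOf (normalizer (H : Set G)))
    have h1 : orderOf (π ⟨g, hg⟩) ∣ H.index :=
      (_root_.orderOf_dvd_natCard _).trans hn
    have h2 : orderOf (π ⟨g, hg⟩) ∣ orderOf g :=
      (orderOf_map_dvd π _).trans (by rw [orderOf_mk])
    have h3 : orderOf (π ⟨g, hg⟩) = 1 := by
      by_contra h
      obtain ⟨r, hr, hrd⟩ := Nat.exists_prime_and_dvd h
      exact (Nat.not_coprime_of_dvd_of_dvd hr.one_lt (hord r hr (hrd.trans h2)) (hrd.trans h1)) hHall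
    have h4 : (⟨g, hg⟩ : normalizer (H : Set G)) ∈ H.subgroupOf (normalizer (H : Set G)) :=
      (QuotientGroup.eq_one_iff _).1 (orderOf_eq_one_iff.1 h3)
    exact h4
  by_cases hbot : K = ⊥
  · exact ⟨1, hbot ▸ bot_le⟩
  let D : G → Subgroup K := fun a => (H.map (MulAut.conj a).toMonoidHom).subgroupOf K
  have memD : ∀ (a : G) (k : K), k ∈ D a ↔ a⁻¹ * k * a ∈ H := fun a k => by
    simp only [D, mem_subgroupOf, mem_map]
    constructor
    · rintro ⟨y, hy, h⟩
      rw [← h]
      simpa [mul_assoc] using hy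
    · exact fun h => ⟨_, h, by simp [mul_assoc]⟩
  have memmap : ∀ (a : G) (g k : K), k ∈ (D a).map (MulAut.conj g).toMonoidHom ↔
      g⁻¹ * k * g ∈ D a := fun a g k => by
    rw [mem_map]
    constructor
    · rintro ⟨y, hy, h⟩
      rw [← h]
      simpa [mul_assoc] using hy
    · exact fun h => ⟨_, h, by simp [mul_assoc]⟩
  have dis : ∀ (a b : G) (x : K), x ≠ 1 → x ∈ D a → x ∈ D b → D a = D b := by
    intro a b x hx ha hb
    rw [memD] at ha hb
    have hg : b⁻¹ * a ∈ normalizer (H : Set G) := by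
      by_contra hn
      have h := hTI _ hn _ ha (by simpa [mul_assoc] using hb)
      refine hx (Subtype.ext ?_)
      calc (x : G) = a * (a⁻¹ * x * a) * a⁻¹ := by group
        _ = 1 := by rw [h]; group
    ext k
    rw [memD, memD]
    refine (mem_normalizer_iff.1 hg _).trans ?_
    simp [mul_assoc]
  have TI : ∀ a : G, ∀ g : K, g ∉ D a → D a ⊓ (D a).map (MulAut.conj g).toMonoidHom = ⊥ := by
    intro a g hg
    rw [eq_bot_iff_forall]
    rintro x ⟨hx, hx'⟩
    replace hx' := (memmap a g x).1 hx'
    by_contra hx1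
    have hn : a⁻¹ * g * a ∈ normalizer (H : Set G) := by
      by_contra hn
      rw [memD] at hx'
      have h := hTI _ hn _ hx' (by simpa [mul_assoc] using (memD a x).1 hx)
      apply hx1
      apply Subtype.ext
      have := congrArg (fun y => (g : G) * (a * y * a⁻¹) * (g : G)⁻¹) h
      simpa [mul_assoc] using this
    refine hg ((memD a g).2 ?_)
    by_cases h1 : a⁻¹ * g * a = 1
    · rw [h1]; exact one_mem _
    refine hK' 2 Nat.prime_two _ hn h1 fun r hr hrd => hK r hr (hrd.trans ?_)
    rw [show a⁻¹ * (g : G) * a = MulAut.conj a⁻¹ (g : G) by simp, MulEquiv.orderOf_eq]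
    exact orderOf_dvd_natCard K g.2
  have covers : ∀ q : ℕ, q.Prime → ∀ Q : Sylow q K, ∃ a : G, (Q : Subgroup K) ≤ D a := by
    intro q hq Q
    haveI := Fact.mk hq
    obtain ⟨R, hR⟩ := (Q.2.map K.subtype).exists_le_sylow
    obtain ⟨S⟩ : Nonempty (Sylow q H) := inferInstance
    by_cases hqH : q ∣ Nat.card H
    · obtain ⟨T, hT⟩ := (S.2.map H.subtype).exists_le_sylow
      have hTH : (T : Subgroup G) ≤ H := by
        have hc : Nat.card (T : Subgroup G) = Nat.card ((S : Subgroup H).map H.subtype) := by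
          rw [card_map_of_injective H.subtype_injective, T.card_eq_multiplicity,
            S.card_eq_multiplicity]
          congr 1
          rw [← H.card_mul_index, Nat.factorization_mul Nat.card_pos.ne' index_ne_zero_of_finite,
            Finsupp.add_apply, Nat.factorization_eq_zero_of_not_dvd (fun h =>
              Nat.not_coprime_of_dvd_of_dvd hq.one_lt hqH h hHall), add_zero]
        exact (eq_of_le_of_card_ge hT hc.le) ▸ map_subtype_le _
      obtain ⟨g, hg⟩ := MulAction.exists_smul_eq G T R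
      refine ⟨g, fun k hk => (memD g k).2 (hTH ?_)⟩
      have hkR : (k : G) ∈ (R : Subgroup G) := hR (mem_map_of_mem _ hk)
      rw [← hg, Sylow.coe_subgroup_smul, Subgroup.mem_pointwise_smul_iff_inv_smul_mem] at hkR
      simpa [MulAut.smul_def, mul_assoc] using hkR
    · refine ⟨1, fun k hk => ?_⟩
      have hb : (Q : Subgroup K) = ⊥ := by
        rw [← Subgroup.card_eq_one, Q.card_eq_multiplicity,
          Nat.factorization_eq_zero_of_not_dvd (fun h => hqH (hK q hq h)), pow_zero]
      rw [hb, mem_bot] at hk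
      rw [hk]; exact one_mem _
  obtain ⟨q, hq, hqd⟩ := Nat.exists_prime_and_dvd (mt Subgroup.card_eq_one.1 hbot)
  haveI := Fact.mk hq
  obtain ⟨Q⟩ : Nonempty (Sylow q K) := inferInstance
  obtain ⟨a, ha⟩ := covers q hq Q
  have hane : D a ≠ ⊥ := fun h => Q.ne_bot_of_dvd_card hqd (le_bot_iff.1 (h ▸ ha))
  have hconj : ∀ b : G, D b ≠ ⊥ → ∃ g : K, D b = (D a).map (MulAut.conj g).toMonoidHom := by
    intro b hb
    by_contra hno
    let U := fun c : G => {x : K // x ≠ 1 ∧ ∃ g : K, g⁻¹ * x * g ∈ D c}
    let V := fun c : G => {x : K | x ≠ 1 ∧ ∃ g : K, g⁻¹ * x * g ∈ D c}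
    have e1 : ∀ (c : G) (g : K), (D c).map (MulAut.conj g).toMonoidHom = D ((g : G) * c) :=
      fun c g => by
        ext k
        rw [memmap, memD, memD]
        simp [mul_assoc]
    have hd : Disjoint (V a) (V b) := Set.disjoint_left.2 fun x ⟨hx, g, hg⟩ ⟨_, g', hg'⟩ => by
      apply hno
      have h1 : x ∈ D ((g : G) * a) := e1 a g ▸ (memmap a g x).2 hg
      have h2 : x ∈ D ((g' : G) * b) := e1 b g' ▸ (memmap b g' x).2 hg'
      have h3 := dis _ _ x hx h1 h2
      refine ⟨g'⁻¹ * g, ?_⟩
      rw [e1]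
      ext k
      have h4 := SetLike.ext_iff.1 h3 (g' * k * g'⁻¹)
      rw [memD, memD] at h4
      rw [memD, memD]
      simpa [mul_assoc] using h4.symm
    have hsum := Set.ncard_union_eq hd
    have hlt : (V a ∪ V b).ncard < Nat.card K := by
      refine lt_of_lt_of_eq (Set.ncard_lt_ncard (t := Set.univ) ?_) (Set.ncard_univ K)
      rw [Set.ssubset_univ_iff, Set.ne_univ_iff_exists_notMem]
      exact ⟨1, by simp [V]⟩
    have ha' := two_mul_card_cover hane (TI a)
    have hb' := two_mul_card_cover hb (TI b)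
    have va : (V a).ncard = Nat.card (U a) := (Nat.card_coe_set_eq _).symm
    have vb : (V b).ncard = Nat.card (U b) := (Nat.card_coe_set_eq _).symm
    simp only [U] at va vb
    omega
  have hall : ∀ r : ℕ, r.Prime → ∀ R : Sylow r K, Nat.card (R : Subgroup K) ∣ Nat.card (D a) := by
    intro r hr R
    haveI := Fact.mk hr
    by_cases hR : (R : Subgroup K) = ⊥
    · rw [hR, card_bot]; exact one_dvd _
    obtain ⟨b, hb⟩ := covers r hr R
    obtain ⟨g, hg⟩ := hconj b fun h => hR (le_bot_iff.1 (h ▸ hb))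
    rw [hg] at hb
    exact (card_dvd_of_le hb).trans (card_map_of_injective (MulAut.conj g).injective).dvd
  have htop : D a = ⊤ := by
    apply eq_top_of_card_eq
    refine Nat.dvd_antisymm (card_subgroup_dvd_card _) ?_
    rw [Nat.dvd_iff_prime_pow_dvd_dvd]
    intro r k hr hd
    haveI := Fact.mk hr
    obtain ⟨R⟩ : Nonempty (Sylow r K) := inferInstance
    refine dvd_trans ?_ (hall r hr R)
    rw [R.card_eq_multiplicity]
    exact pow_dvd_pow r ((hr.pow_dvd_iff_le_factorization Nat.card_pos.ne').1 hd)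
  refine ⟨a, fun k hk => ?_⟩
  have := (memD a ⟨k, hk⟩).1 (htop ▸ mem_top _)
  exact ⟨_, this, by simp [mul_assoc]⟩

end Cfsg.Agent.S4116
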