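import Cfsg.Statements.S4117
import Cfsg.Agent.Lib.FTCons.ZGroupCoprime

set_option autoImplicit false
open Cfsg

namespace Cfsg.Agent.S4117

/-- Let A be a finite group acting on the finite group G by automorphisms with the orders of A and G coprime, and suppose every Sylow subgroup of G is cyclic. Then the fixed-point subgroup C_G(A) is a Hall subgroup of G (its order is coprime to its index), the subgroup [G, A] generated by the elements g⁻¹·a(g) is cyclic and normal with [G, A] ∩ C_G(A) = 1 and [G, A]·C_G(A) = G. -/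
theorem result {G A : Type*} [Group G] [Finite G] [Group A] [Finite A]
    [MulDistribMulAction A G] (hcop : (Nat.card A).Coprime (Nat.card G))
    (hcyc : ∀ (p : ℕ) [Fact p.Prime] (P : Sylow p G), IsCyclic (P : Subgroup G)) :
    (Nat.card (MulAction.fixedPoints A G : Set G)).Coprime (Nat.card G / Nat.card (MulAction.fixedPoints A G : Set G)) ∧
    IsCyclic (Subgroup.closure {y : G | ∃ (a : A) (g : G), y = g⁻¹ * a • g}) ∧
    (Subgroup.closure {y : G | ∃ (a : A) (g : G), y = g⁻¹ * a • g}).Normal ∧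
    (Subgroup.closure {y : G | ∃ (a : A) (g : G), y = g⁻¹ * a • g} : Set G) ∩ MulAction.fixedPoints A G = {1} ∧
    Subgroup.closure {y : G | ∃ (a : A) (g : G), y = g⁻¹ * a • g} ⊔ Subgroup.closure (MulAction.fixedPoints A G) = ⊤ := by
  classical
  let φ : A →* MulAut G := MulDistribMulAction.toMulAut A G
  let X := G ⋊[φ] A
  haveI : Finite X := Finite.of_equiv _ SemidirectProduct.equivProd.symm
  let ι : G →* X := SemidirectProduct.inl
  let κ : A →* X := SemidirectProduct.inr
  let K : Subgroup X := ι.range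
  let A' : Subgroup X := κ.range
  have hK : (Nat.card K) = Nat.card G :=
    (Nat.card_congr (MonoidHom.ofInjective SemidirectProduct.inl_injective).toEquiv).symm
  have hA' : (Nat.card A') = Nat.card A :=
    (Nat.card_congr (MonoidHom.ofInjective SemidirectProduct.inr_injective).toEquiv).symm
  have hact : ∀ (a : A) (g : G), κ a * ι g * (κ a)⁻¹ = ι (a • g) := fun a g => by
    have := SemidirectProduct.inl_aut (φ := φ) a g
    rw [map_inv] at this
    exact this.symm
  have hAK : A' ≤ Subgroup.normalizer (K : Set X) := by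
    rintro _ ⟨a, rfl⟩
    refine Subgroup.mem_normalizer_iff.2 fun x => ⟨?_, ?_⟩
    · rintro ⟨g, rfl⟩; exact ⟨a • g, (hact a g).symm⟩
    · rintro ⟨g, hg⟩
      refine ⟨a⁻¹ • g, ?_⟩
      rw [← hact, map_inv, inv_inv, hg]
      group
  have hcop' : (Nat.card A').Coprime (Nat.card K) := by rw [hA', hK]; exact hcop
  haveI : IsZGroup G := ⟨fun p hp P => by haveI := Fact.mk hp; exact hcyc p P⟩
  haveI : IsZGroup K := IsZGroup.of_surjective (f := ι.rangeRestrict) ι.rangeRestrict_surjective
  set S : Subgroup G := Subgroup.closure {y : G | ∃ (a : A) (g : G), y = g⁻¹ * a • g} with hSdef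
  have hmap : S.map ι = ⁅K, A'⁆ := by
    refine le_antisymm ?_ ?_
    · rw [hSdef, MonoidHom.map_closure, Subgroup.closure_le]
      rintro _ ⟨_, ⟨a, g, rfl⟩, rfl⟩
      have h1 := Subgroup.commutator_mem_commutator (H₁ := K) (H₂ := A')
        (show ι g⁻¹ ∈ K from ⟨g⁻¹, rfl⟩) (show κ a ∈ A' from ⟨a, rfl⟩)
      rw [commutatorElement_def] at h1
      have e : ι (g⁻¹ * a • g) = ι g⁻¹ * κ a * (ι g⁻¹)⁻¹ * (κ a)⁻¹ := by
        rw [map_mul, ← hact, ← map_inv ι g⁻¹, inv_inv]
        simp only [mul_assoc]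
      exact e ▸ h1
    · refine Subgroup.commutator_le.2 ?_
      rintro _ ⟨g, rfl⟩ _ ⟨a, rfl⟩
      refine ⟨(g⁻¹)⁻¹ * a • g⁻¹, Subgroup.subset_closure ⟨a, g⁻¹, rfl⟩, ?_⟩
      rw [map_mul, ← hact, commutatorElement_def]
      simp only [map_inv, inv_inv, mul_assoc, mul_inv_rev, inv_mul_cancel_left, mul_inv_cancel_left]
  let C : Subgroup G :=
    { carrier := MulAction.fixedPoints A G
      one_mem' := fun a => smul_one a
      mul_mem' := fun {x y} hx hy a => by rw [smul_mul', hx a, hy a]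
      inv_mem' := fun {x} hx a => by rw [smul_inv', hx a] }
  have hCmap : C.map ι = K ⊓ Subgroup.centralizer (A' : Set X) := by
    refine le_antisymm ?_ ?_
    · rintro _ ⟨g, hg, rfl⟩
      refine ⟨⟨g, rfl⟩, Subgroup.mem_centralizer_iff.2 ?_⟩
      rintro _ ⟨a, rfl⟩
      have := hact a g
      rw [hg a] at this
      exact mul_inv_eq_iff_eq_mul.1 this
    · rintro _ ⟨⟨g, rfl⟩, hx⟩
      refine ⟨g, fun a => SemidirectProduct.inl_injective (φ := φ) ?_, rfl⟩
      show ι (a • g) = ι g
      rw [← hact, mul_inv_eq_iff_eq_mul]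
      exact Subgroup.mem_centralizer_iff.1 hx _ ⟨a, rfl⟩
  have hinj : Function.Injective ι := SemidirectProduct.inl_injective
  obtain ⟨hc1, hc2⟩ := CfsgLib.FTCons.commutator_isCyclic_of_isZGroup hAK hcop'
  have hsup := CfsgLib.Coprime.commutator_sup_centralizer hAK hcop'
    (Or.inr (inferInstance : Group.IsSolvable K))
  have hhall := CfsgLib.FTCons.coprime_centralizer_of_isZGroup hAK hcop'
  have hclC : Subgroup.closure (MulAction.fixedPoints A G) = C := Subgroup.closure_eq C
  have hCc : Nat.card (MulAction.fixedPoints A G : Set G) = Nat.card C := rfl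
  refine ⟨?_, ?_, ?_, ?_, ?_⟩
  · rw [hCc, ← Subgroup.card_mul_index C, Nat.mul_div_cancel_left _ Nat.card_pos]
    rw [← hCmap, Subgroup.card_map_of_injective hinj,
      show K = (⊤ : Subgroup G).map ι from MonoidHom.range_eq_map ι,
      Subgroup.relIndex_map_map_of_injective _ _ hinj, Subgroup.relIndex_top_right] at hhall
    exact hhall
  · have e := S.equivMapOfInjective ι hinj
    haveI : IsCyclic (S.map ι) := hmap ▸ hc1
    exact isCyclic_of_surjective e.symm.toMonoidHom e.symm.surjective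
  · refine ⟨fun x hx g => ?_⟩
    have h1 : ι g * ι x * (ι g)⁻¹ ∈ ⁅K, A'⁆ :=
      (Subgroup.mem_normalizer_iff.1 (Subgroup.normalizer_commutator_ge_left K A' ⟨g, rfl⟩)
        (ι x)).1 (hmap ▸ ⟨x, hx, rfl⟩)
    rw [← hmap, ← map_inv, ← map_mul, ← map_mul] at h1
    obtain ⟨y, hy, hye⟩ := h1
    exact hinj hye ▸ hy
  · ext x
    constructor
    · rintro ⟨hx1, hx2⟩
      have : ι x ∈ ⁅K, A'⁆ ⊓ (K ⊓ Subgroup.centralizer (A' : Set X)) :=
        ⟨hmap ▸ ⟨x, hx1, rfl⟩, hCmap ▸ ⟨x, hx2, rfl⟩⟩
      rw [hc2, Subgroup.mem_bot, ← map_one ι] at this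
      exact hinj this
    · intro hx
      rw [Set.mem_singleton_iff] at hx
      subst hx
      exact ⟨S.one_mem, fun a => smul_one a⟩
  · rw [hclC, eq_top_iff]
    intro g _
    have : ι g ∈ (S ⊔ C).map ι := by
      rw [Subgroup.map_sup, hmap, hCmap, hsup]
      exact ⟨g, rfl⟩
    obtain ⟨y, hy, hye⟩ := this
    exact hinj hye ▸ hy

end Cfsg.Agent.S4117
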