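import Cfsg.Statements.S4125
import Cfsg.Agent.Lib.CharApps.QBaer.Solvable

set_option autoImplicit false
open Cfsg

namespace Cfsg.Agent.S4125

/-- Let G be a finite group and q a prime dividing its order such that every element of q-power order has a conjugacy class of prime-power size. Then G is q-solvable of q-length 1: there are normal subgroups K ≤ L of G with K of order prime to q, L/K a q-group and L of index prime to q. Moreover there is a prime p such that every element of q-power order has a class of p-power size (one prime serving for all of them), and for a Sylow q-subgroup Q: if p = q then Q is normal with a normal complement (a direct factor), while if p ≠ q then Q is abelian, the product of Q with the largest normal p-subgroup O_p(G) is normal in G, and G/O_{q'}(G) is solvable, where O_{q'}(G) is the largest normal subgroup of order prime to q. -/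
theorem result {G : Type*} [Group G] [Finite G] (q : ℕ) [Fact q.Prime] (hq : q ∣ Nat.card G)
    (hBaer : ∀ x : G, (∃ k : ℕ, orderOf x = q ^ k) → ∃ (r : ℕ) (a : ℕ), r.Prime ∧ (Subgroup.centralizer ({x} : Set G)).index = r ^ a) (Q : Sylow q G) :
    (∃ K L : Subgroup G, K.Normal ∧ L.Normal ∧ K ≤ L ∧ (Nat.card K).Coprime q ∧ (∃ m : ℕ, K.relIndex L = q ^ m) ∧ L.index.Coprime q) ∧
    ∃ p : ℕ, p.Prime ∧ (∀ x : G, (∃ k : ℕ, orderOf x = q ^ k) → ∃ a : ℕ, (Subgroup.centralizer ({x} : Set G)).index = p ^ a) ∧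
      (p = q → (Q : Subgroup G).Normal ∧ ∃ N : Subgroup G, N.Normal ∧ N.IsComplement' (Q : Subgroup G)) ∧
      (p ≠ q → IsMulCommutative (Q : Subgroup G) ∧ (Cfsg.pCore p G ⊔ (Q : Subgroup G)).Normal ∧
        ∀ _h : (Cfsg.pPrimeCore q G).Normal, Group.IsSolvable (G ⧸ Cfsg.pPrimeCore q G)) := by
  have hB : CfsgLib.CharApps.QBaer.SylowBaer Q := fun x hx => by
    obtain ⟨k, hk⟩ := Q.isPGroup' ⟨x, hx⟩
    obtain ⟨j, -, hj⟩ := (Nat.dvd_prime_pow (Fact.out : q.Prime)).1
      (orderOf_dvd_of_pow_eq_one (by simpa using congrArg Subtype.val hk : x ^ q ^ k = 1))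
    exact hBaer x ⟨j, hj⟩
  refine ⟨CfsgLib.CharApps.QBaer.qLength_one Q hB, ?_⟩
  obtain ⟨p, hp, hcl, hab⟩ := CfsgLib.CharApps.QBaer.exists_prime Q hB
  haveI := Fact.mk hp
  refine ⟨p, hp, fun x hx => ?_, fun h => ?_, fun h => ⟨hab h, ?_, fun _ => ?_⟩⟩
  · obtain ⟨k, hk⟩ := hx
    have hpg : IsPGroup q (Subgroup.zpowers x) :=
      IsPGroup.of_card (n := k) (by rw [Nat.card_zpowers, hk])
    obtain ⟨R, hR⟩ := hpg.exists_le_sylow
    obtain ⟨g, hg⟩ := MulAction.exists_smul_eq G R Q
    have hgx : g * x * g⁻¹ ∈ (Q : Subgroup G) := by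
      rw [← hg, Sylow.coe_subgroup_smul]
      exact ⟨x, hR (Subgroup.mem_zpowers x), rfl⟩
    obtain ⟨a, ha⟩ := hcl _ hgx
    exact ⟨a, by rw [← CfsgLib.CharApps.QBaer.index_centralizer_conj_eq g x, ha]⟩
  · subst h
    exact CfsgLib.CharApps.QBaer.direct_factor Q hcl
  · exact CfsgLib.CharApps.QBaer.sup_pCore_normal Q hcl
  · exact CfsgLib.CharApps.QBaer.isSolvable_quotient Q hB (hab h) h hcl

end Cfsg.Agent.S4125
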