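import Cfsg.Statements.S4126
import Mathlib
import Cfsg.Agent.Lib.FgsB.OmegaLemma
import Cfsg.Agent.Lib.Transfer.Alperin

set_option autoImplicit false
open Cfsg

namespace Cfsg.Agent.S4126

/-- Let G be a finite group and p a prime. Suppose every element of order p, and when p = 2 also every element of order 4, has a conjugacy class of p-power size. Then G has a normal p-complement. -/
theorem result {G : Type*} [Group G] [Finite G] (p : ℕ) [Fact p.Prime]
    (h : ∀ x : G, (orderOf x = p ∨ (p = 2 ∧ orderOf x = 4)) → ∃ a : ℕ, (Subgroup.centralizer ({x} : Set G)).index = p ^ a) :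
    Cfsg.HasNormalPComplement p G := by
  classical
  have hp : p.Prime := Fact.out
  obtain ⟨P⟩ : Nonempty (Sylow p G) := inferInstance
  rw [CfsgLib.Transfer.hasNormalPComplement_iff_forall_centralizing P]
  intro Q hQP g hgN hgcop
  -- classes of small elements of `P` are orbits of `P`
  have horbit : ∀ x ∈ (P : Subgroup G), (orderOf x = p ∨ (p = 2 ∧ orderOf x = 4)) →
      ∀ a : G, ∃ u ∈ (P : Subgroup G), u * x * u⁻¹ = a * x * a⁻¹ := by
    intro x hx hord a
    obtain ⟨b, hb⟩ := h x hord
    set C := Subgroup.centralizer ({x} : Set G)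
    have hle : C.index ≤ C.relIndex (P : Subgroup G) := by
      -- `|C ⊓ P|` is at most the `p`-part of `|C|`
      obtain ⟨R, hR⟩ := ((P.isPGroup'.to_le inf_le_right : IsPGroup p ↥(C ⊓ (P : Subgroup G))).comap_of_injective
        C.subtype C.subtype_injective).exists_le_sylow
      have h1 : Nat.card ↥(C ⊓ (P : Subgroup G)) ≤ Nat.card (R : Subgroup C) := by
        rw [← Nat.card_congr (Subgroup.subgroupOfEquivOfLe (inf_le_left : C ⊓ (P : Subgroup G) ≤ C)).toEquiv]
        exact Subgroup.card_le_of_le hR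
      have h2 : C.relIndex (P : Subgroup G) * Nat.card ↥(C ⊓ (P : Subgroup G)) = Nat.card (P : Subgroup G) := by
        have h3 := Subgroup.relIndex_mul_relIndex ⊥ (C ⊓ (P : Subgroup G)) (P : Subgroup G) bot_le inf_le_right
        rw [Subgroup.relIndex_bot_left, Subgroup.relIndex_bot_left, Subgroup.inf_relIndex_right] at h3
        rw [mul_comm]; exact h3
      have h4 : C.index * Nat.card (R : Subgroup C) = Nat.card (P : Subgroup G) := by
        rw [Sylow.card_eq_multiplicity R, Sylow.card_eq_multiplicity P, ← C.index_mul_card,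
          Nat.factorization_mul Subgroup.index_ne_zero_of_finite Nat.card_pos.ne', hb]
        simp [pow_add, hp.factorization_self]
      by_contra hlt
      rw [not_le] at hlt
      have h5 : C.relIndex (P : Subgroup G) * Nat.card ↥(C ⊓ (P : Subgroup G)) < C.index * Nat.card (R : Subgroup C) :=
        lt_of_le_of_lt (Nat.mul_le_mul le_rfl h1) (Nat.mul_lt_mul_of_pos_right hlt Nat.card_pos)
      rw [h2, h4] at h5
      exact lt_irrefl _ h5
    let f : (↥(P : Subgroup G) ⧸ C.subgroupOf (P : Subgroup G)) → G ⧸ C :=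
      fun t => QuotientGroup.mk ((t.out : ↥(P : Subgroup G)) : G)
    have hf : Function.Injective f := by
      intro s t hst
      rw [← QuotientGroup.out_eq' s, ← QuotientGroup.out_eq' t, QuotientGroup.eq, Subgroup.mem_subgroupOf]
      exact QuotientGroup.eq.mp hst
    obtain ⟨t, ht⟩ := (hf.bijective_of_nat_card_le (by
      rw [← Subgroup.index_eq_card, ← Subgroup.index_eq_card]; exact hle)).2 (QuotientGroup.mk a)
    set u : G := ((t.out : ↥(P : Subgroup G)) : G) with hu
    have hmem : u⁻¹ * a ∈ C := QuotientGroup.eq.mp ht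
    refine ⟨u, t.out.2, ?_⟩
    have hc : u⁻¹ * a * x = x * (u⁻¹ * a) := Subgroup.mem_centralizer_singleton_iff.mp hmem
    calc u * x * u⁻¹ = u * (x * (u⁻¹ * a)) * a⁻¹ := by group
      _ = u * (u⁻¹ * a * x) * a⁻¹ := by rw [hc]
      _ = a * x * a⁻¹ := by group
  let Z : ℕ → Subgroup G := fun i =>
    (Subgroup.upperCentralSeries ↥(P : Subgroup G) i).map (P : Subgroup G).subtype
  have key : ∀ i, ∀ x ∈ Q, x ∈ Z i → (orderOf x = p ∨ (p = 2 ∧ orderOf x = 4)) → Commute g x := by
    intro i
    induction i with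
    | zero =>
      intro x _ hxZ _
      simp only [Z, Subgroup.upperCentralSeries_zero, Subgroup.map_bot, Subgroup.mem_bot] at hxZ
      rw [hxZ]; exact Commute.one_right g
    | succ i ih =>
      intro x hxQ hxZ hord
      -- conjugates of `x` are congruent to `x`
      have hcong : ∀ a : G, x⁻¹ * (a * x * a⁻¹) ∈ Z i := by
        intro a
        obtain ⟨u, hu, hua⟩ := horbit x (hQP hxQ) hord a
        obtain ⟨⟨x', hx'P⟩, hx', rfl⟩ := hxZ
        rw [SetLike.mem_coe, Subgroup.mem_upperCentralSeries_succ_iff] at hx'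
        rw [← hua]
        refine ⟨⟨x', hx'P⟩⁻¹ * ⟨u, hu⟩ * ⟨x', hx'P⟩ * ⟨u, hu⟩⁻¹, ?_, by simp [mul_assoc]⟩
        have h1 := hx' ⟨u, hu⟩
        have hn : (Subgroup.upperCentralSeries ↥(P : Subgroup G) i).Normal := inferInstance
        rw [commutatorElement_def] at h1
        have h2 := hn.conj_mem _ ((Subgroup.upperCentralSeries ↥(P : Subgroup G) i).inv_mem h1) (⟨x', hx'P⟩ : ↥(P : Subgroup G))⁻¹
        rw [SetLike.mem_coe]
        convert h2 using 1
        group
      set c := x⁻¹ * (g * x * g⁻¹) with hc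
      have hcQ : c ∈ Q := Q.mul_mem (Q.inv_mem hxQ) ((Subgroup.mem_normalizer_iff.mp hgN x).mp hxQ)
      set Y := Subgroup.closure {z : G | ∃ k : ℕ, z = g ^ k * c * (g ^ k)⁻¹} with hY
      have hYle : Y ≤ Q ⊓ Z i := by
        rw [hY, Subgroup.closure_le]
        rintro _ ⟨k, rfl⟩
        refine ⟨(Subgroup.mem_normalizer_iff.mp (Subgroup.pow_mem _ hgN k) c).mp hcQ, ?_⟩
        have e : g ^ k * c * (g ^ k)⁻¹ = (x⁻¹ * (g ^ k * x * (g ^ k)⁻¹))⁻¹ *
            (x⁻¹ * (g ^ (k + 1) * x * (g ^ (k + 1))⁻¹)) := by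
          rw [hc, pow_succ]; group
        rw [e]
        exact (Z i).mul_mem ((Z i).inv_mem (hcong _)) (hcong _)
      have hgY : g ∈ Subgroup.normalizer (Y : Set G) := by
        rw [Subgroup.mem_normalizer_iff_map_conj_eq]
        refine Subgroup.eq_of_le_of_card_ge ?_
          (le_of_eq (Subgroup.card_map_of_injective (MulAut.conj g).injective).symm)
        rw [hY, MonoidHom.map_closure, Subgroup.closure_le]
        rintro _ ⟨_, ⟨k, rfl⟩, rfl⟩
        refine Subgroup.subset_closure ⟨k + 1, ?_⟩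
        simp only [MonoidHom.coe_coe, MulAut.conj_apply, pow_succ']
        group
      have hgY' := CfsgLib.FgsB.mem_centralizer_of_fix_small hgcop
        (P.isPGroup'.to_le ((hYle.trans inf_le_left).trans hQP)) hgY
        (fun y hy hoy => ih y (hYle hy).1 (hYle hy).2 hoy)
      have hcY : c ∈ Y := Subgroup.subset_closure ⟨0, by simp⟩
      obtain ⟨k, hk⟩ := IsPGroup.iff_orderOf.mp P.isPGroup' ⟨c, hQP hcQ⟩
      have h1 := CfsgLib.FgsB.eq_one_of_conj_eq_mul (x := x) hgcop (mul_inv_cancel_left x _).symm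
        (Subgroup.mem_centralizer_iff.mp hgY' c hcY).symm ⟨k, by rwa [Subgroup.orderOf_mk] at hk⟩
      rw [inv_mul_eq_one] at h1
      exact mul_inv_eq_iff_eq_mul.mp h1.symm
  have : Group.IsNilpotent ↥(P : Subgroup G) := P.isPGroup'.isNilpotent
  refine CfsgLib.FgsB.mem_centralizer_of_fix_small hgcop (P.isPGroup'.to_le hQP) hgN
    (fun x hx hord => key (Group.nilpotencyClass ↥(P : Subgroup G)) x hx ?_ hord)
  simp only [Z, Subgroup.upperCentralSeries_nilpotencyClass]
  exact ⟨⟨x, hQP hx⟩, Subgroup.mem_top _, rfl⟩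

end Cfsg.Agent.S4126
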