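import Cfsg.Statements.S4130
import Cfsg.Agent.Lib.FgsB.SquareFreeDerived

set_option autoImplicit false
open Cfsg

namespace Cfsg.Agent.S4130

/-- Let G be a finite group all of whose conjugacy class sizes are square-free. Then G is supersolvable, G/F(G) and the derived subgroup G′ are cyclic of square-free order (F(G) the Fitting subgroup, which is normal), F(G) has nilpotency class at most 2, and G is metabelian. -/
theorem result {G : Type*} [Group G] [Finite G]
    (h : ∀ x : G, Squarefree (Subgroup.centralizer ({x} : Set G)).index) :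
    Cfsg.IsSupersolvable G ∧ (Cfsg.fittingSubgroup G).Normal ∧
    (∀ _h : (Cfsg.fittingSubgroup G).Normal, IsCyclic (G ⧸ Cfsg.fittingSubgroup G) ∧ Squarefree (Cfsg.fittingSubgroup G).index) ∧
    IsCyclic (commutator G) ∧ Squarefree (Nat.card (commutator G)) ∧
    Subgroup.upperCentralSeries ↥(Cfsg.fittingSubgroup G) 2 = ⊤ ∧ commutator ↥(commutator G) = ⊥ := by
  classical
  have hss := CfsgLib.FgsB.SquareFree.isSupersolvable h
  obtain ⟨m, H, h0, hlast, hHn, hstep, -⟩ := CfsgLib.SolvStruct.exists_chain_aux _ le_rfl hss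
  haveI := hHn
  obtain ⟨K, hKn, hKnil, hGK, hKsq⟩ := CfsgLib.FgsB.SquareFree.exists_nilpotent h0 hlast hstep h
  haveI := hKn
  have hKF : K ≤ Cfsg.fittingSubgroup G := CfsgLib.Base.le_fittingSubgroup hKnil
  haveI hFn := CfsgLib.Base.fittingSubgroup_normal' G
  haveI := CfsgLib.Base.isNilpotent_fittingSubgroup G
  have hsq' : Squarefree (Nat.card (commutator G)) := Nat.squarefree_iff_prime_squarefree.2 fun p hp hd =>
    CfsgLib.FgsB.SquareFree.sq_not_dvd_commutator h p hp (by rwa [pow_two])
  haveI : IsZGroup (commutator G) := IsZGroup.of_squarefree hsq'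
  haveI : Group.IsNilpotent (commutator G) := CfsgLib.Base.isNilpotent_of_le hGK hKnil
  have hcyc : IsCyclic (commutator G) := inferInstance
  have hFsq : Squarefree (Cfsg.fittingSubgroup G).index := hKsq.squarefree_of_dvd (Subgroup.index_dvd_of_le hKF)
  refine ⟨hss, hFn, fun _ => ⟨?_, hFsq⟩, hcyc, hsq', ?_, ?_⟩
  · haveI : IsZGroup (G ⧸ Cfsg.fittingSubgroup G) := IsZGroup.of_squarefree (by
      rwa [← Subgroup.index_eq_card])
    haveI : IsMulCommutative (G ⧸ Cfsg.fittingSubgroup G) := ⟨⟨fun a b => by
      obtain ⟨a, rfl⟩ := QuotientGroup.mk'_surjective (Cfsg.fittingSubgroup G) a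
      obtain ⟨b, rfl⟩ := QuotientGroup.mk'_surjective (Cfsg.fittingSubgroup G) b
      rw [← commutatorElement_eq_one_iff_mul_comm, ← map_commutatorElement]
      exact (QuotientGroup.eq_one_iff _).2
        (hKF (hGK (Subgroup.commutator_mem_commutator trivial trivial)))⟩⟩
    haveI : Group.IsNilpotent (G ⧸ Cfsg.fittingSubgroup G) := by
      letI : CommGroup (G ⧸ Cfsg.fittingSubgroup G) :=
        { (inferInstance : Group (G ⧸ Cfsg.fittingSubgroup G)) with mul_comm := mul_comm' }
      exact CommGroup.isNilpotent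
    infer_instance
  · have hle := CfsgLib.FgsB.SquareFree.nilpotent_derived_le_center
      (CfsgLib.FgsB.SquareFree.SF.subgroup (Cfsg.fittingSubgroup G) h)
    refine (Subgroup.eq_top_iff' _).2 fun x => Subgroup.mem_upperCentralSeries_succ_iff.2 fun y => ?_
    rw [Subgroup.upperCentralSeries_one]
    exact hle (Subgroup.commutator_mem_commutator trivial trivial)
  · rw [eq_bot_iff, commutator_def (G := ↥(commutator G)), Subgroup.commutator_le]
    intro a _ b _
    rw [Subgroup.mem_bot, commutatorElement_eq_one_iff_mul_comm]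
    exact hcyc.isMulCommutative.is_comm.comm a b

end Cfsg.Agent.S4130
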