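import Cfsg.Statements.S4134
import Cfsg.Agent.Lib.CharApps.ClassSizes.TwoSizes

set_option autoImplicit false
set_option linter.style.haveILetI false
open Cfsg

namespace Cfsg.Agent.S4134

/-- Let G be a finite group whose conjugacy classes have exactly two sizes, 1 and n > 1. Then n is a power of a prime p and G is the direct product of a p-group and an abelian group of order prime to p: its Sylow p-subgroup P is normal with an abelian normal complement centralizing it; moreover P has an abelian normal subgroup A with P/A of exponent dividing p. -/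
theorem result {G : Type*} [Group G] [Finite G] (n : ℕ) (hn : 1 < n)
    (h : ∀ x : G, (Subgroup.centralizer ({x} : Set G)).index = 1 ∨ (Subgroup.centralizer ({x} : Set G)).index = n) (hex : ∃ x : G, (Subgroup.centralizer ({x} : Set G)).index = n) :
    ∃ (p : ℕ) (_ : Fact p.Prime) (a : ℕ), n = p ^ a ∧ ∀ P : Sylow p G, (P : Subgroup G).Normal ∧
      (∃ N : Subgroup G, N.Normal ∧ N.IsComplement' (P : Subgroup G) ∧ IsMulCommutative N ∧
        ∀ x ∈ N, ∀ y ∈ (P : Subgroup G), x * y = y * x) ∧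
      ∃ A : Subgroup (P : Subgroup G), A.Normal ∧ IsMulCommutative A ∧ ∀ y : (P : Subgroup G), y ^ p ∈ A := by
  open CfsgLib.CharApps.ClassSizes in
  obtain ⟨g₀, hg₀⟩ := hex
  have hZ : ∀ g : G, g ∉ Subgroup.center G → idx g = n := fun g hg =>
    (h g).resolve_left fun h1 => hg (idx_eq_one_iff.1 h1)
  have hg₀Z : g₀ ∉ Subgroup.center G := fun hz => by
    have h1 : idx g₀ = 1 := idx_eq_one_iff.2 hz
    rw [idx, hg₀] at h1
    omega
  have S : Two G n := ⟨hn, hZ, g₀, hg₀Z⟩
  obtain ⟨p, k, e, hp, hpe, hpZ⟩ := exists_noncentral_primary hg₀Z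
  haveI := Fact.mk hp
  have hother : ∀ q : ℕ, q.Prime → q ≠ p → ∀ u : G, (∃ e, orderOf u = q ^ e) →
      u ∈ Subgroup.center G := fun q hq hne u hu => by
    by_contra huZ
    exact S.one_prime hp hq hne.symm ⟨_, ⟨e, hpe⟩, hpZ⟩ ⟨u, hu, huZ⟩
  have hn' : ∀ q : ℕ, q.Prime → q ∣ n → q = p := fun q hq hd => by
    by_contra hne
    obtain ⟨u, hu, huZ⟩ := S.exists_of_dvd hq hd
    exact huZ (hother q hq hne u hu)
  refine ⟨p, ⟨hp⟩, n.primeFactorsList.length, ?_, fun P => ?_⟩
  · exact Nat.eq_prime_pow_of_unique_prime_dvd (by omega) fun hq hd => hn' _ hq hd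
  have hPZ : (P : Subgroup G) ⊔ Subgroup.center G = ⊤ := by
    refine top_le_iff.1 (le_of_primes fun q hq hdvd u _ hu => ?_)
    rcases eq_or_ne q p with rfl | hne
    · rw [Subgroup.relIndex_top_right] at hdvd
      exact absurd (hdvd.trans (Subgroup.index_dvd_of_le le_sup_left)) P.not_dvd_index
    · exact Subgroup.mem_sup_right (hother q hq hne u hu)
  have hPn : (P : Subgroup G).Normal := by
    refine Subgroup.normalizer_eq_top_iff.1 (top_le_iff.1 ?_)
    rw [← hPZ]
    refine sup_le Subgroup.le_normalizer fun z hz => Subgroup.mem_normalizer_iff.2 fun x => ?_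
    rw [(Subgroup.mem_center_iff.1 hz x).symm, mul_inv_cancel_right]
  refine ⟨hPn, ?_, ?_⟩
  · let N : Subgroup G :=
      { carrier := {z | z ∈ Subgroup.center G ∧ (orderOf z).Coprime p}
        one_mem' := ⟨one_mem _, by rw [orderOf_one]; exact Nat.coprime_one_left p⟩
        mul_mem' := fun {a b} ha hb => ⟨mul_mem ha.1 hb.1,
          ((ha.2.mul_left hb.2).coprime_dvd_left
            ((show Commute a b from Subgroup.mem_center_iff.1 hb.1 a).orderOf_mul_dvd_mul_orderOf))⟩
        inv_mem' := fun {a} ha => ⟨inv_mem ha.1, by rw [orderOf_inv]; exact ha.2⟩ }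
    have hNn : N.Normal := ⟨fun z hz g => by
      rw [Subgroup.mem_center_iff.1 hz.1 g, mul_inv_cancel_right]; exact hz⟩
    refine ⟨N, hNn, ?_, ⟨⟨fun a b => Subtype.ext (Subgroup.mem_center_iff.1 b.2.1 a)⟩⟩,
      fun x hx y _ => (Subgroup.mem_center_iff.1 hx.1 y).symm⟩
    refine Subgroup.isComplement'_of_disjoint_and_mul_eq_univ ?_ ?_
    · rw [Subgroup.disjoint_def]
      intro z hzN hzP
      obtain ⟨i, hi⟩ := (IsPGroup.iff_orderOf.1 P.isPGroup') ⟨z, hzP⟩
      rw [Subgroup.orderOf_mk] at hi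
      have hc : (orderOf z).Coprime (p ^ i) := (hzN.2).pow_right i
      rw [hi, Nat.coprime_self, ← hi, orderOf_eq_one_iff] at hc
      exact hc
    · have htop : N ⊔ (P : Subgroup G) = ⊤ := by
        refine top_le_iff.1 (le_of_primes fun q hq hdvd u _ hu => ?_)
        rcases eq_or_ne q p with rfl | hne
        · rw [Subgroup.relIndex_top_right] at hdvd
          exact absurd (hdvd.trans (Subgroup.index_dvd_of_le le_sup_right)) P.not_dvd_index
        · obtain ⟨i, hi⟩ := hu
          exact Subgroup.mem_sup_left ⟨hother q hq hne u ⟨i, hi⟩, by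
            rw [hi]; exact ((Nat.coprime_primes hq hp).2 hne).pow_left i⟩
      have hc := Subgroup.coe_mul_of_right_le_normalizer_left N (P : Subgroup G)
        (by rw [Subgroup.normalizer_eq_top_iff.2 hNn]; exact le_top)
      rw [htop, Subgroup.coe_top] at hc
      exact hc.symm
  · -- an element central modulo the centre
    have hQp : IsPGroup p (G ⧸ Subgroup.center G) := fun a => by
      obtain ⟨g, rfl⟩ := QuotientGroup.mk_surjective a
      have hg : g ∈ ((P : Subgroup G) ⊔ Subgroup.center G) := hPZ ▸ Subgroup.mem_top g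
      obtain ⟨x, hx, z, hz, rfl⟩ := Subgroup.mem_sup_of_normal_right.1 hg
      obtain ⟨i, hi⟩ := P.isPGroup' ⟨x, hx⟩
      refine ⟨i, ?_⟩
      rw [QuotientGroup.mk_mul, (QuotientGroup.eq_one_iff z).2 hz, mul_one, ← QuotientGroup.mk_pow,
        show x ^ p ^ i = 1 from congrArg Subtype.val hi, QuotientGroup.mk_one]
    haveI : Nontrivial (G ⧸ Subgroup.center G) :=
      ⟨⟨QuotientGroup.mk g₀, 1, fun hh => hg₀Z ((QuotientGroup.eq_one_iff _).1 hh)⟩⟩
    haveI := hQp.center_nontrivial
    obtain ⟨⟨t, htc⟩, ht1⟩ := exists_ne (1 : Subgroup.center (G ⧸ Subgroup.center G))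
    have ht : t ≠ 1 := fun hh => ht1 (Subtype.ext hh)
    have hpart := partition_dcQ (G := G) hZ
    obtain ⟨t, rfl⟩ := QuotientGroup.mk_surjective t
    have hnor : (dc t).Normal := ⟨fun x hx g => by
      have h1 := conj_mem_dc g hx
      rwa [dc_eq_of_mk_eq (g := g * t * g⁻¹) (h := t) (by
        rw [QuotientGroup.mk_mul, QuotientGroup.mk_mul, Subgroup.mem_center_iff.1 htc,
          mul_assoc, ← QuotientGroup.mk_mul, mul_inv_cancel, QuotientGroup.mk_one, mul_one])] at h1⟩
    refine ⟨(dc t).subgroupOf (P : Subgroup G), inferInstance, ⟨⟨fun a b => ?_⟩⟩, fun y => ?_⟩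
    · exact Subtype.ext (Subtype.ext
        (dc_comm (Subgroup.mem_subgroupOf.1 a.2) (Subgroup.mem_subgroupOf.1 b.2)).eq)
    · rw [Subgroup.mem_subgroupOf]
      by_cases hy : (y : G) ∈ dc t
      · exact pow_mem hy p
      have hy' : (QuotientGroup.mk (y : G) : G ⧸ Subgroup.center G) ∉ dcQ (QuotientGroup.mk t) :=
        fun hh => hy (mem_dcQ_mk.1 hh)
      have hy1 : (QuotientGroup.mk (y : G) : G ⧸ Subgroup.center G) ≠ 1 := fun hh =>
        hy' (hh ▸ one_mem _)
      have hc : Commute (QuotientGroup.mk t : G ⧸ Subgroup.center G) (QuotientGroup.mk (y : G)) :=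
        (Subgroup.mem_center_iff.1 htc _).symm
      have hpr := hpart.prime_orderOf hc ht hy1 hy'
      rw [hpart.orderOf_eq hc ht hy1 hy'] at hpr
      obtain ⟨i, hi⟩ := IsPGroup.iff_orderOf.1 hQp (QuotientGroup.mk (y : G))
      rw [hi] at hpr
      rw [Nat.Prime.eq_one_of_pow hpr, pow_one] at hi
      refine center_le_dc t ((QuotientGroup.eq_one_iff _).1 ?_)
      change (QuotientGroup.mk ((y : G) ^ p) : G ⧸ Subgroup.center G) = 1
      rw [QuotientGroup.mk_pow]
      exact orderOf_dvd_iff_pow_eq_one.1 (dvd_of_eq hi)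

end Cfsg.Agent.S4134
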