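import Cfsg.Statements.S4144
import Cfsg.Agent.Lib.PGroups.MaximalClassExponent

set_option autoImplicit false
open Cfsg Subgroup CfsgLib.PGroups.Pearl CfsgLib.PGroups.MaxClassPower CfsgLib.FgsC.MaxClassSection

namespace Cfsg.Agent.S4144

/-- Let X be a finite p-group of order p^n, n ≥ 2, of nilpotency class n − 1 (maximal class), and H any subgroup of X. Then the index in H of the subgroup generated by the p-th powers of elements of H is at most p^p. -/
theorem result {X : Type*} [Group X] [Finite X] {p : ℕ} [Fact p.Prime] (n : ℕ) (hn : 2 ≤ n) (hX : Nat.card X = p ^ n)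
    (hmax : Group.nilpotencyClass X = n - 1) (H : Subgroup X) :
    (Subgroup.closure {y : X | ∃ h ∈ H, y = h ^ p}).relIndex H ≤ p ^ p := by
  have hp := (Fact.out : p.Prime)
  have hp2 := hp.two_le
  set U := Subgroup.closure {y : X | ∃ h ∈ H, y = h ^ p} with hUdef
  have hU : ∀ x ∈ H, x ^ p ∈ U := fun x hx => subset_closure ⟨x, hx, rfl⟩
  have hUH : U ≤ H := (closure_le _).2 fun _ ⟨h, hh, e⟩ => e ▸ pow_mem hh p
  have hmul : Nat.card U * U.relIndex H = Nat.card H := by
    have := relIndex_mul_relIndex (⊥ : Subgroup X) U H bot_le hUH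
    rwa [relIndex_bot_left, relIndex_bot_left] at this
  have hUpos : 0 < Nat.card U := Nat.card_pos
  by_cases hnp : n ≤ p
  · calc U.relIndex H ≤ Nat.card U * U.relIndex H := Nat.le_mul_of_pos_left _ hUpos
      _ = Nat.card H := hmul
      _ ≤ Nat.card X := H.card_le_card_group
      _ ≤ p ^ p := hX ▸ Nat.pow_le_pow_right hp.pos hnp
  have HM : MC X p n := ⟨hX, hmax, by omega⟩
  obtain ⟨s, hs⟩ := exists_elt n X HM
  haveI : ∀ i, (lcsT X i).Normal := lcsT_normal
  set L := lcsT X 1 with hL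
  -- the derived group part
  have hK : Nat.card ↥(H ⊓ L) ≤ p ^ (p - 1) * Nat.card U :=
    (card_inf_le hs H U hU 1 le_rfl).trans (Nat.mul_le_mul_left _ (card_le_of_le inf_le_left))
  have hLidx : L.index = p ^ 2 := by
    rw [hL, lcsT, top_lowerCentralSeries_one]
    exact CfsgLib.PGroups.index_commutator_of_maximalClass HM.three hX hmax
  obtain ⟨a, ha, hae⟩ := (Nat.dvd_prime_pow hp).1 (hLidx ▸ L.relIndex_dvd_index_of_normal (K := H))
  have hHcard : Nat.card H = Nat.card ↥(H ⊓ L) * p ^ a := by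
    rw [← hae, ← Subgroup.card_mul_index ((H ⊓ L).subgroupOf H),
      Nat.card_congr (Subgroup.subgroupOfEquivOfLe (inf_le_left : H ⊓ L ≤ H)).toEquiv,
      ← Subgroup.relIndex, Subgroup.inf_relIndex_left]
  rcases Nat.lt_or_ge a 2 with ha1 | ha2
  · refine Nat.le_of_mul_le_mul_left (hmul.le.trans ?_) hUpos
    calc Nat.card H ≤ Nat.card ↥(H ⊓ L) * p ^ 1 :=
          hHcard.le.trans (Nat.mul_le_mul_left _ (Nat.pow_le_pow_right hp.pos (by omega)))
      _ ≤ p ^ (p - 1) * Nat.card U * p ^ 1 := Nat.mul_le_mul_right _ hK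
      _ = Nat.card U * p ^ (p - 1 + 1) := by ring
      _ = Nat.card U * p ^ p := by rw [Nat.sub_add_cancel hp.pos]
  -- the whole group
  have hHtop : H = ⊤ := by
    have hsup : H ⊔ L = ⊤ := by
      have h := Subgroup.relIndex_mul_index (le_sup_right : L ≤ H ⊔ L)
      rw [Subgroup.relIndex_sup_right, hae, hLidx, show a = 2 by omega] at h
      exact Subgroup.index_eq_one.1 (Nat.eq_of_mul_eq_mul_left (pow_pos hp.pos 2)
        (by rw [h, mul_one]))
    refine frattini_nongenerating (eq_top_iff.2 (hsup.ge.trans (sup_le_sup_left ?_ _)))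
    rw [hL, lcsT, top_lowerCentralSeries_one]
    exact CfsgLib.PGroups.commutator_le_frattini (IsPGroup.of_card hX)
  subst hHtop
  haveI : U.Normal := by
    refine ⟨fun u hu g => ?_⟩
    have hle : U ≤ U.comap (MulAut.conj g).toMonoidHom := (closure_le _).2 fun y ⟨h, _, hy⟩ =>
      subset_closure ⟨g * h * g⁻¹, mem_top _, by subst hy; simp [conj_pow]⟩
    exact hle hu
  rw [Subgroup.relIndex_top_right]
  obtain ⟨r, hr, hre⟩ := (Nat.dvd_prime_pow hp).1 (hX ▸ U.index_dvd_card)
  rw [hre]
  refine Nat.pow_le_pow_right hp.pos (not_lt.1 fun hrp => ?_)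
  have hUeq := CfsgLib.PGroups.eq_lowerCentralSeries_of_maximalClass HM.three hX hmax (N := U)
    (show 2 ≤ r by omega) hre
  obtain ⟨x, hx⟩ := exists_pow_not_mem hs (by omega)
  refine hx (Subgroup.lowerCentralSeries_antitone _ (show p ≤ r - 1 by omega) ?_)
  rw [← hUeq]
  exact hU x (mem_top x)

end Cfsg.Agent.S4144
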