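import Cfsg.Statements.S4145
import Mathlib
import Cfsg.Agent.Lib.FgsB.CyclicAction
import Cfsg.Agent.Lib.Transfer.NormalPComplement
import Cfsg.Agent.Lib.PLocal.PSolvable
import Cfsg.Agent.Lib.Coprime.Action

set_option autoImplicit false
open Cfsg

namespace Cfsg.Agent.S4145

open scoped Pointwise

/-- An element normalizing a cyclic Sylow subgroup and acting as a `p`-power map congruent to the
identity modulo `p` centralizes it. -/
theorem mem_centralizer_of_congr {G : Type*} [Group G] [Finite G] {p j : ℕ} [Fact p.Prime]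
    (P : Sylow p G) {u : G} (hu : Subgroup.zpowers u = (P : Subgroup G)) (hj : orderOf u = p ^ j)
    {g : G} (hg : g ∈ Subgroup.normalizer ((P : Subgroup G) : Set G)) {a : ℤ}
    (ha : g * u * g⁻¹ = u ^ a) (hapl : (p : ℤ) ∣ a - 1) :
    g ∈ Subgroup.centralizer ((P : Subgroup G) : Set G) := by
  have hp : p.Prime := Fact.out
  set N := Subgroup.normalizer ((P : Subgroup G) : Set G)
  set C := Subgroup.centralizer ((P : Subgroup G) : Set G)
  have hcomm := CfsgLib.FgsB.commute_pow_of_conj_eq_zpow hj ha hapl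
  have hgC : g ^ p ^ j ∈ C := by
    rw [Subgroup.mem_centralizer_iff]
    intro y hy
    rw [← hu] at hy
    obtain ⟨i, rfl⟩ := hy
    exact (hcomm.zpow_right i).symm
  have hM : g ^ C.relIndex N ∈ C := by
    have := Subgroup.pow_index_mem (C.subgroupOf N) ⟨g, hg⟩
    simpa [Subgroup.mem_subgroupOf, Subgroup.relIndex] using this
  have hPC : (P : Subgroup G) ≤ C := by
    intro y hy
    rw [Subgroup.mem_centralizer_iff]
    intro z hz
    rw [← hu] at hy hz
    obtain ⟨i, rfl⟩ := hy
    obtain ⟨k, rfl⟩ := hz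
    exact ((Commute.refl u).zpow_zpow k i).eq
  have hcop : (p ^ j).Coprime (C.relIndex N) := by
    refine Nat.Coprime.pow_left j (hp.coprime_iff_not_dvd.mpr fun h => ?_)
    refine P.not_dvd_index (h.trans ?_)
    exact (Subgroup.relIndex_dvd_index_of_le (Subgroup.centralizer_le_normalizer _)).trans
      (Subgroup.index_dvd_of_le hPC)
  have hbez := Nat.gcd_eq_gcd_ab (p ^ j) (C.relIndex N)
  rw [hcop.gcd_eq_one] at hbez
  have : g = (g ^ p ^ j) ^ Nat.gcdA (p ^ j) (C.relIndex N) *
      (g ^ C.relIndex N) ^ Nat.gcdB (p ^ j) (C.relIndex N) := by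
    rw [← zpow_natCast g (p ^ j), ← zpow_natCast g (C.relIndex N), ← zpow_mul, ← zpow_mul, ← zpow_add, ← hbez]
    simp
  rw [this]
  exact C.mul_mem (C.zpow_mem hgC _) (C.zpow_mem hM _)

theorem isPSolvable_of_complement {G : Type*} [Group G] [Finite G] {p : ℕ} [Fact p.Prime]
    (h : Cfsg.HasNormalPComplement p G) : Cfsg.IsPSolvable p G := by
  obtain ⟨N, hN, hp, k, hk⟩ := CfsgLib.Transfer.hasNormalPComplement_iff_exists.mp h
  exact CfsgLib.PLocal.isPSolvable_of_normal N
    (CfsgLib.PLocal.isPSolvable_of_coprime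
      (Nat.coprime_comm.mp ((Fact.out : p.Prime).coprime_iff_not_dvd.mpr hp)))
    (CfsgLib.PLocal.isPSolvable_of_isPGroup
      (IsPGroup.of_card (n := k) (by rw [← Subgroup.index_eq_card, hk])))

/-- Let G be a finite group with a cyclic Sylow p-subgroup and H a normal subgroup such that p divides both the order of H and the index of H. Then H has a normal p-complement and G is p-solvable. -/
theorem result {G : Type*} [Group G] [Finite G] (p : ℕ) [Fact p.Prime]
    (P : Sylow p G) (hP : IsCyclic (P : Subgroup G)) (H : Subgroup G) [H.Normal] (h1 : p ∣ Nat.card H) (h2 : p ∣ H.index) :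
    Cfsg.HasNormalPComplement p H ∧ Cfsg.IsPSolvable p G := by
  classical
  have hp : p.Prime := Fact.out
  obtain ⟨u₀, hu₀⟩ := IsCyclic.exists_generator (α := (P : Subgroup G))
  set u := (u₀ : G) with hudef
  have hu : Subgroup.zpowers u = (P : Subgroup G) := by
    refine le_antisymm (Subgroup.zpowers_le.mpr u₀.2) fun y hy => ?_
    obtain ⟨i, hi⟩ := hu₀ ⟨y, hy⟩
    exact ⟨i, by simpa using congrArg Subtype.val hi⟩
  have huP : u ∈ (P : Subgroup G) := u₀.2
  obtain ⟨j, hj'⟩ := IsPGroup.iff_orderOf.mp P.isPGroup' u₀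
  have hj : orderOf u = p ^ j := by rw [hudef, Subgroup.orderOf_coe, hj']
  have hPab : ∀ a ∈ (P : Subgroup G), ∀ b ∈ (P : Subgroup G), a * b = b * a := by
    intro a ha b hb
    rw [← hu] at ha hb
    obtain ⟨i, rfl⟩ := ha
    obtain ⟨k, rfl⟩ := hb
    exact ((Commute.refl u).zpow_zpow i k).eq
  set P0 := (P : Subgroup G) ⊓ H with hP0
  have hnd := CfsgLib.Transfer.not_dvd_index_subgroupOf_of_normal P H
  let S : Sylow p H := (P.isPGroup'.comap_of_injective H.subtype H.subtype_injective).toSylow hnd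
  have hS : (S : Subgroup H).map H.subtype = P0 := by
    show ((P : Subgroup G).subgroupOf H).map H.subtype = P0
    rw [Subgroup.subgroupOf_map_subtype]
  have hP0ne : P0 ≠ ⊥ := by
    intro h
    rw [← hS, Subgroup.map_eq_bot_iff_of_injective _ H.subtype_injective] at h
    exact S.ne_bot_of_dvd_card h1 h
  obtain ⟨x, hx, hx1⟩ : ∃ x ∈ P0, x ≠ (1 : G) := by
    by_contra h
    push Not at h
    exact hP0ne ((Subgroup.eq_bot_iff_forall P0).mpr h)
  -- `u` does not lie in `H`
  have huH : u ∉ H := by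
    intro h
    have hPH : (P : Subgroup G) ≤ H := by rw [← hu]; exact Subgroup.zpowers_le.mpr h
    exact P.not_dvd_index (h2.trans (Subgroup.index_dvd_of_le hPH))
  -- `N_H(P0)` centralizes `P0`
  have hcentral : ∀ h ∈ H, h ∈ Subgroup.normalizer (P0 : Set G) → h ∈ Subgroup.centralizer (P0 : Set G) := by
    intro h hhH hhN
    set D := Subgroup.centralizer (P0 : Set G)
    have hPD : (P : Subgroup G) ≤ D := fun y hy => Subgroup.mem_centralizer_iff.mpr fun z hz => hPab z hz.1 y hy
    set K := (P : Subgroup G) ⊔ (H ⊓ D) with hK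
    have hKD : K ≤ D := sup_le hPD inf_le_right
    have hconj : ((h • P : Sylow p G) : Subgroup G) ≤ K := by
      intro z hz
      rw [Sylow.coe_subgroup_smul, Subgroup.mem_pointwise_smul_iff_inv_smul_mem] at hz
      simp only [MulAut.smul_def, ← map_inv, MulAut.conj_apply, inv_inv] at hz
      set y := h⁻¹ * z * h with hy
      have hzy : z = h * y * h⁻¹ := by rw [hy]; group
      have hzD : z ∈ D := by
        rw [Subgroup.mem_centralizer_iff]
        intro w hw
        have hw' : h⁻¹ * w * h ∈ P0 := (Subgroup.mem_normalizer_iff''.mp hhN w).mp hw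
        have h3 := Subgroup.mem_centralizer_iff.mp (hPD hz) _ hw'
        calc w * z = h * ((h⁻¹ * w * h) * y) * h⁻¹ := by rw [hy]; group
          _ = h * (y * (h⁻¹ * w * h)) * h⁻¹ := by rw [h3]
          _ = z * w := by rw [hy]; group
      have hzyH : z * y⁻¹ ∈ H := by
        have e : z * y⁻¹ = h * (y * h⁻¹ * y⁻¹) := by rw [hzy]; group
        rw [e]
        exact H.mul_mem hhH ((inferInstance : H.Normal).conj_mem _ (H.inv_mem hhH) y)
      have h4 : z = (z * y⁻¹) * y := by group
      rw [h4]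
      exact K.mul_mem (Subgroup.mem_sup_right ⟨hzyH, D.mul_mem hzD (D.inv_mem (hPD hz))⟩) (Subgroup.mem_sup_left hz)
    obtain ⟨k, hk⟩ := MulAction.exists_smul_eq K ((h • P).subtype hconj) (P.subtype le_sup_left)
    set g := (k : G) * h with hg
    have hgN : g ∈ Subgroup.normalizer ((P : Subgroup G) : Set G) := by
      rw [Subgroup.mem_normalizer_iff_map_conj_eq]
      refine Subgroup.eq_of_le_of_card_ge ?_
        (le_of_eq (Subgroup.card_map_of_injective (MulAut.conj g).injective).symm)
      rintro _ ⟨y, hy, rfl⟩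
      have hyP : h * y * h⁻¹ ∈ ((h • P : Sylow p G) : Subgroup G) := by
        rw [Sylow.coe_subgroup_smul, Subgroup.mem_pointwise_smul_iff_inv_smul_mem]
        simp only [MulAut.smul_def, ← map_inv, MulAut.conj_apply]
        have e0 : h⁻¹ * (h * y * h⁻¹) * h⁻¹⁻¹ = y := by group
        rw [e0]; exact hy
      have hmem : k * ⟨h * y * h⁻¹, hconj hyP⟩ * k⁻¹ ∈ ((P.subtype le_sup_left : Sylow p K) : Subgroup K) := by
        rw [← hk, Sylow.coe_subgroup_smul, Subgroup.mem_pointwise_smul_iff_inv_smul_mem]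
        simp only [MulAut.smul_def, ← map_inv, MulAut.conj_apply]
        have e : k⁻¹ * (k * ⟨h * y * h⁻¹, hconj hyP⟩ * k⁻¹) * k⁻¹⁻¹ = (⟨h * y * h⁻¹, hconj hyP⟩ : K) := by group
        rw [e, Sylow.coe_subtype, Subgroup.mem_subgroupOf]
        exact hyP
      rw [Sylow.coe_subtype, Subgroup.mem_subgroupOf] at hmem
      show g * y * g⁻¹ ∈ (P : Subgroup G)
      have e2 : g * y * g⁻¹ = (k : G) * (h * y * h⁻¹) * (k : G)⁻¹ := by rw [hg]; group
      rw [e2]
      simpa using hmem
    have hgu : g * u * g⁻¹ ∈ (P : Subgroup G) := (Subgroup.mem_normalizer_iff.mp hgN u).mp huP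
    rw [← hu] at hgu
    obtain ⟨a, ha⟩ := hgu
    -- `[g, u] ∈ H`
    have hgH : g * u * g⁻¹ * u⁻¹ ∈ H := by
      have hkmap : QuotientGroup.mk' H (k : G) ∈ (P : Subgroup G).map (QuotientGroup.mk' H) := by
        have h3 : K.map (QuotientGroup.mk' H) ≤ (P : Subgroup G).map (QuotientGroup.mk' H) := by
          rw [hK, Subgroup.map_sup]
          refine sup_le le_rfl ?_
          rintro _ ⟨d, hd, rfl⟩
          rw [show QuotientGroup.mk' H d = 1 from (QuotientGroup.eq_one_iff d).mpr hd.1]
          exact one_mem _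
        exact h3 ⟨k, k.2, rfl⟩
      obtain ⟨v, hv, hvk⟩ := hkmap
      rw [← QuotientGroup.eq_one_iff]
      show QuotientGroup.mk' H _ = 1
      have hgq : QuotientGroup.mk' H g = QuotientGroup.mk' H v := by
        rw [hg, map_mul, show QuotientGroup.mk' H h = 1 from (QuotientGroup.eq_one_iff h).mpr hhH, mul_one, hvk]
      rw [map_mul, map_mul, map_mul, map_inv, map_inv, hgq, ← map_inv, ← map_inv, ← map_mul, ← map_mul, ← map_mul,
        hPab v hv u huP, mul_inv_cancel_right, mul_inv_cancel, map_one]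
    have hapl : (p : ℤ) ∣ a - 1 := by
      by_contra hnd
      have hcop : IsCoprime ((p ^ j : ℕ) : ℤ) (a - 1) := by
        push_cast
        exact ((Nat.prime_iff_prime_int.mp hp).coprime_iff_not_dvd.mpr hnd).pow_left
      obtain ⟨s, t, hst⟩ := hcop
      apply huH
      have h5 : u ^ (a - 1) ∈ H := by
        rw [zpow_sub, zpow_one]
        simp only at ha
        rw [ha]; exact hgH
      have h6 : u = (u ^ (a - 1)) ^ t := by
        conv_lhs => rw [← zpow_one u, ← hst, zpow_add, mul_comm s, zpow_mul, zpow_natCast, ← hj, pow_orderOf_eq_one,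
          one_zpow, one_mul, mul_comm t, zpow_mul]
      rw [h6]
      exact H.zpow_mem h5 t
    have hgP := mem_centralizer_of_congr P hu hj hgN ha.symm hapl
    have hgD : g ∈ D := Subgroup.centralizer_le (fun z hz => hz.1) hgP
    have e : h = (k : G)⁻¹ * g := by rw [hg]; group
    rw [e]
    exact D.mul_mem (D.inv_mem (hKD k.2)) hgD
  have hHc : Cfsg.HasNormalPComplement p H := by
    refine CfsgLib.Transfer.hasNormalPComplement_of_normalizer_le_centralizer S ?_
    intro n hn
    have hn' : (n : G) ∈ Subgroup.normalizer (P0 : Set G) := by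
      have h3 := Subgroup.mem_normalizer_iff_map_conj_eq.mp hn
      rw [Subgroup.mem_normalizer_iff_map_conj_eq, ← hS, Subgroup.map_map]
      conv_rhs => rw [← h3, Subgroup.map_map]
      rfl
    have h4 := hcentral n n.2 hn'
    rw [Subgroup.mem_centralizer_iff] at h4 ⊢
    intro s hs
    exact Subtype.ext (h4 s (by rw [← hS]; exact ⟨s, hs, rfl⟩))
  refine ⟨hHc, ?_⟩
  refine CfsgLib.PLocal.isPSolvable_of_normal H (isPSolvable_of_complement hHc) ?_
  set N := Subgroup.normalizer (P0 : Set G)
  set C := Subgroup.centralizer (P0 : Set G)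
  have hCN : (C.subgroupOf N).Normal := Subgroup.normal_subgroupOf_of_le_normalizer
    (CfsgLib.Coprime.le_normalizer_centralizer le_rfl)
  -- the centralizer has a normal complement
  have hPC : (P : Subgroup G) ≤ C := fun y hy => Subgroup.mem_centralizer_iff.mpr fun z hz => hPab z hz.1 y hy
  have hCc : Cfsg.HasNormalPComplement p C := by
    refine CfsgLib.Transfer.hasNormalPComplement_of_normalizer_le_centralizer (P.subtype hPC) ?_
    intro n hn
    rw [Sylow.coe_subtype] at hn ⊢
    have hnP : (n : G) ∈ Subgroup.normalizer ((P : Subgroup G) : Set G) := by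
      rw [Subgroup.mem_normalizer_iff_map_conj_eq]
      refine Subgroup.eq_of_le_of_card_ge ?_
        (le_of_eq (Subgroup.card_map_of_injective (MulAut.conj (n : G)).injective).symm)
      rintro _ ⟨y, hy, rfl⟩
      have h7 := (Subgroup.mem_normalizer_iff.mp hn ⟨y, hPC hy⟩).mp (by rw [Subgroup.mem_subgroupOf]; exact hy)
      simpa [Subgroup.mem_subgroupOf] using h7
    have hgu : (n : G) * u * (n : G)⁻¹ ∈ (P : Subgroup G) := (Subgroup.mem_normalizer_iff.mp hnP u).mp huP
    rw [← hu] at hgu
    obtain ⟨a, ha⟩ := hgu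
    simp only at ha
    have hxP : x ∈ Subgroup.zpowers u := hu.symm ▸ hx.1
    obtain ⟨b, hb⟩ := hxP
    simp only at hb
    have hnx : (n : G) * x * (n : G)⁻¹ = x :=
      mul_inv_eq_iff_eq_mul.mpr (Subgroup.mem_centralizer_iff.mp n.2 x hx).symm
    have hapl : (p : ℤ) ∣ a - 1 := by
      have h8 : u ^ (a * b) = u ^ b := by rw [zpow_mul, ha, conj_zpow, hb, hnx]
      rw [zpow_eq_zpow_iff_modEq, hj] at h8
      have h9 : ((p ^ j : ℕ) : ℤ) ∣ (a - 1) * b := by
        have := Int.ModEq.dvd h8.symm
        rwa [sub_mul, one_mul]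
      have h10 : ¬ ((p ^ j : ℕ) : ℤ) ∣ b := by
        rw [← hj, orderOf_dvd_iff_zpow_eq_one, hb]; exact hx1
      by_contra hnd
      apply h10
      have hcop : IsCoprime ((p ^ j : ℕ) : ℤ) (a - 1) := by
        push_cast
        exact ((Nat.prime_iff_prime_int.mp hp).coprime_iff_not_dvd.mpr hnd).pow_left
      exact hcop.dvd_of_dvd_mul_left h9
    have h11 := mem_centralizer_of_congr P hu hj hnP ha.symm hapl
    rw [Subgroup.mem_centralizer_iff] at h11 ⊢
    intro s hs
    exact Subtype.ext (h11 s hs)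
  -- `N/C` is a `p'`-group
  have hNC : Cfsg.IsPSolvable p N := by
    refine CfsgLib.PLocal.isPSolvable_of_normal (C.subgroupOf N) ?_ ?_
    · exact (CfsgLib.PLocal.isPSolvable_congr
        (Subgroup.subgroupOfEquivOfLe (Subgroup.centralizer_le_normalizer _))).mpr (isPSolvable_of_complement hCc)
    · refine CfsgLib.PLocal.isPSolvable_of_coprime (Nat.coprime_comm.mp (hp.coprime_iff_not_dvd.mpr fun hd => ?_))
      rw [← Subgroup.index_eq_card] at hd
      exact P.not_dvd_index (hd.trans ((Subgroup.relIndex_dvd_index_of_le (Subgroup.centralizer_le_normalizer _)).trans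
        (Subgroup.index_dvd_of_le hPC)))
  refine CfsgLib.PLocal.isPSolvable_of_surjective ((QuotientGroup.mk' H).comp N.subtype) ?_ hNC
  intro q
  obtain ⟨g, rfl⟩ := QuotientGroup.mk'_surjective H q
  have hfr := Sylow.normalizer_sup_eq_top (N := H) S
  rw [hS] at hfr
  have hg : g ∈ N ⊔ H := hfr.symm ▸ Subgroup.mem_top g
  obtain ⟨n, hn, h, hh, rfl⟩ := Subgroup.mem_sup_of_normal_right.mp hg
  exact ⟨⟨n, hn⟩, by simpa using hh⟩

end Cfsg.Agent.S4145
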