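import Cfsg.Statements.S4150
import Cfsg.Agent.Lib.Perm.PrimePairGen
import Cfsg.Agent.Lib.Perm.ThreePrimes
-- import your own Cfsg.Agent.* helpers here

set_option autoImplicit false
open Cfsg

namespace Cfsg.Agent.S4150.Aux

open Equiv CfsgLib.Perm

theorem choose_primes (m : ℕ) (hm : 5 ≤ m) :
    ∃ p q : ℕ, p.Prime ∧ q.Prime ∧ m ≤ 2 * p ∧ p < q ∧ q ≤ m ∧
      ((m = 10 ∧ p = 5 ∧ q = 7) ∨ (m = 14 ∧ p = 7 ∧ q = 11) ∨ (m = 6 ∧ p = 3 ∧ q = 5) ∨
        (m < 2 * p ∧ (p = 3 ∨ p + 3 ≤ q ∨ (p = 5 ∧ q = 7) ∨ (p = 11 ∧ q = 13)))) := by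
  rcases lt_or_ge m 18 with h | h
  swap
  · obtain ⟨p, q, hp, hq, h1, h2, h3⟩ := exists_prime_pair h
    exact ⟨p, q, hp, hq, by omega, by omega, h3, Or.inr (Or.inr (Or.inr ⟨h1, Or.inr (Or.inl h2)⟩))⟩
  interval_cases m
  · exact ⟨3, 5, by norm_num⟩
  · exact ⟨3, 5, by norm_num⟩
  · exact ⟨5, 7, by norm_num⟩
  · exact ⟨5, 7, by norm_num⟩
  · exact ⟨5, 7, by norm_num⟩
  · exact ⟨5, 7, by norm_num⟩
  · exact ⟨7, 11, by norm_num⟩
  · exact ⟨7, 11, by norm_num⟩
  · exact ⟨7, 11, by norm_num⟩
  · exact ⟨7, 11, by norm_num⟩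
  · exact ⟨11, 13, by norm_num⟩
  · exact ⟨11, 13, by norm_num⟩
  · exact ⟨11, 17, by norm_num⟩

end Cfsg.Agent.S4150.Aux

namespace Cfsg.Agent.S4150

/-- Let m ≥ 5. Then there are primes p < q with m/2 ≤ p and q ≤ m such that any two elements x, y of the alternating group of degree m with x of order p and y of order q generate a subgroup isomorphic to an alternating group of some degree d ≥ 5. -/
theorem result (m : ℕ) (hm : 5 ≤ m) :
    ∃ p q : ℕ, p.Prime ∧ q.Prime ∧ m ≤ 2 * p ∧ p < q ∧ q ≤ m ∧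
      ∀ x y : alternatingGroup (Fin m), orderOf x = p → orderOf y = q →
        ∃ d : ℕ, 5 ≤ d ∧ Nonempty (Subgroup.closure ({x, y} : Set (alternatingGroup (Fin m))) ≃* alternatingGroup (Fin d)) := by
  classical
  obtain ⟨p, q, hp, hq, hmp, hpq, hqm, hcase⟩ := Aux.choose_primes m hm
  refine ⟨p, q, hp, hq, hmp, hpq, hqm, fun x y hx hy => ?_⟩
  set X : Equiv.Perm (Fin m) := (x : Equiv.Perm (Fin m))
  set Y : Equiv.Perm (Fin m) := (y : Equiv.Perm (Fin m))
  have hX : orderOf X = p := (Subgroup.orderOf_coe x).trans hx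
  have hY : orderOf Y = q := (Subgroup.orderOf_coe y).trans hy
  have hsX : Equiv.Perm.sign X = 1 := Equiv.Perm.mem_alternatingGroup.1 x.2
  have hsY : Equiv.Perm.sign Y = 1 := Equiv.Perm.mem_alternatingGroup.1 y.2
  have hYc : Y.IsCycle := Equiv.Perm.isCycle_of_prime_order' (by rw [hY]; exact hq)
    (by rw [hY, Fintype.card_fin]; omega)
  have hYs : Y.support.card = q := hYc.orderOf.symm.trans hY
  have hXs : X.support.card = p ∨ X.support.card = 2 * p := by
    obtain ⟨k, hk⟩ := Equiv.Perm.cycleType_prime_order (σ := X) (hX ▸ hp)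
    have h1 := Equiv.Perm.sum_cycleType X
    have h2 := X.support.card_le_univ
    rw [hk, hX, Multiset.sum_replicate, smul_eq_mul] at h1
    rw [Fintype.card_fin, ← h1] at h2
    have h3 : k + 1 ≤ 2 := Nat.le_of_mul_le_mul_right (h2.trans hmp) hp.pos
    rcases (by omega : k = 0 ∨ k = 1) with rfl | rfl <;> omega
  have hmap : (Subgroup.closure ({x, y} : Set (alternatingGroup (Fin m)))).map
      (alternatingGroup (Fin m)).subtype = Subgroup.closure {X, Y} := by
    rw [MonoidHom.map_closure, Set.image_pair]; rfl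
  suffices h : ∃ d, 5 ≤ d ∧
      Nonempty (Subgroup.closure ({X, Y} : Set (Equiv.Perm (Fin m))) ≃* alternatingGroup (Fin d)) by
    obtain ⟨d, hd, ⟨f⟩⟩ := h
    exact ⟨d, hd, ⟨((Subgroup.equivMapOfInjective _ (alternatingGroup (Fin m)).subtype
      (Subgroup.subtype_injective _)).trans (MulEquiv.subgroupCongr hmap)).trans f⟩⟩
  by_cases h6 : m = 6 ∧ X.support.card = 6
  · obtain ⟨rfl, hX6⟩ := h6
    have hp3 : p = 3 := by
      have h5 : p < 5 := by
        by_contra hp5
        interval_cases q <;> omega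
      interval_cases p <;> first | omega | exact absurd hp (by norm_num)
    have hq5 : q = 5 := by
      interval_cases q <;> first | omega | exact absurd hq (by norm_num)
    exact CfsgLib.Perm.closure_pair_six (Fintype.card_fin 6) (hp3 ▸ hX) hX6 hYc (hq5 ▸ hYs) hsX hsY
  -- restrict to the union of the supports
  set D : Finset (Fin m) := X.support ∪ Y.support
  have hDX : ∀ g : Equiv.Perm (Fin m), g.support ⊆ D → ∀ u, g u ∈ D ↔ u ∈ D := by
    intro g hg u
    by_cases hu : g u = u
    · rw [hu]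
    · exact ⟨fun _ => hg (Equiv.Perm.mem_support.2 hu),
        fun _ => hg (Equiv.Perm.apply_mem_support.2 (Equiv.Perm.mem_support.2 hu))⟩
  let X' : Equiv.Perm {u // u ∈ D} := X.subtypePerm (hDX X Finset.subset_union_left)
  let Y' : Equiv.Perm {u // u ∈ D} := Y.subtypePerm (hDX Y Finset.subset_union_right)
  have hXof : Equiv.Perm.ofSubtype X' = X := Equiv.Perm.ofSubtype_subtypePerm _
    (fun u hu => Finset.subset_union_left (Equiv.Perm.mem_support.2 hu))
  have hYof : Equiv.Perm.ofSubtype Y' = Y := Equiv.Perm.ofSubtype_subtypePerm _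
    (fun u hu => Finset.subset_union_right (Equiv.Perm.mem_support.2 hu))
  have hcardD : Fintype.card {u // u ∈ D} = D.card := Fintype.card_coe D
  have hsupp : ∀ g : Equiv.Perm {u // u ∈ D},
      (Equiv.Perm.ofSubtype g).support.card = g.support.card := fun g => by
    rw [Equiv.Perm.support_ofSubtype, Finset.card_map]
    congr!
  have hXs' : X'.support.card = X.support.card := by rw [← hsupp, hXof]
  have hYs' : Y'.support.card = q := by rw [← hsupp, hYof, hYs]
  have hX' : orderOf X' = p := by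
    rw [← orderOf_injective Equiv.Perm.ofSubtype Equiv.Perm.ofSubtype_injective, hXof, hX]
  have hY' : orderOf Y' = q := by
    rw [← orderOf_injective Equiv.Perm.ofSubtype Equiv.Perm.ofSubtype_injective, hYof, hY]
  have hDm : D.card ≤ m := by
    have := D.card_le_univ
    rwa [Fintype.card_fin] at this
  have hDq : q ≤ D.card := hYs ▸ Finset.card_le_card Finset.subset_union_right
  have hD5 : 5 ≤ D.card := by
    have h2 : q ≠ 4 := fun e => by rw [e] at hq; norm_num at hq
    have := hp.two_le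
    rcases hcase with h | h | h | h <;> omega
  have hsX' : Equiv.Perm.sign X' = 1 := by rw [← Equiv.Perm.sign_ofSubtype, hXof, hsX]
  have hsY' : Equiv.Perm.sign Y' = 1 := by rw [← Equiv.Perm.sign_ofSubtype, hYof, hsY]
  have hY'c : Y'.IsCycle := Equiv.Perm.isCycle_of_prime_order' (by rw [hY']; exact hq)
    (by rw [hY', hcardD]; omega)
  have hok : q + 3 ≤ Fintype.card {u // u ∈ D} ∨ (X'.support.card = p ∧
      (p = 3 ∨ p + 3 ≤ Fintype.card {u // u ∈ D} ∨ (p = 5 ∧ q = 7) ∨ (p = 11 ∧ q = 13))) := by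
    rw [hcardD, hXs']
    rcases hXs with hXp | hXp
    · right
      refine ⟨hXp, ?_⟩
      rcases hcase with h | h | h | h <;> omega
    · left
      have h1 : X.support.card ≤ D.card := Finset.card_le_card Finset.subset_union_left
      rcases hcase with h | h | h | h
      · omega
      · omega
      · exact absurd ⟨h.1, by omega⟩ h6
      · omega
  have hgen := CfsgLib.Perm.closure_pair_eq_alternating (β := {u // u ∈ D}) hp hq hpq hX'
    (hXs' ▸ hXs) hY'c hYs' hsX' hsY' (by rw [hcardD]; omega) (by rw [hcardD]; omega)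
    (fun u hu => by
      intro huY
      have hu' : X (u : Fin m) = u := congrArg Subtype.val hu
      have huY' : Y (u : Fin m) = u := congrArg Subtype.val huY
      rcases Finset.mem_union.1 u.2 with h | h
      · exact Equiv.Perm.mem_support.1 h hu'
      · exact Equiv.Perm.mem_support.1 h huY') hok
  have hm' : (alternatingGroup {u // u ∈ D}).map Equiv.Perm.ofSubtype = Subgroup.closure {X, Y} := by
    rw [← hgen, MonoidHom.map_closure, Set.image_pair, hXof, hYof]
  exact ⟨D.card, hD5, ⟨(((Subgroup.equivMapOfInjective _ Equiv.Perm.ofSubtype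
    Equiv.Perm.ofSubtype_injective).trans (MulEquiv.subgroupCongr hm')).symm).trans
      (Equiv.altCongrHom (Fintype.equivFinOfCardEq hcardD))⟩⟩

end Cfsg.Agent.S4150
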