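import Cfsg.Statements.S4153
import Mathlib
import Cfsg.Agent.Lib.FgsB.Basic

set_option autoImplicit false
open Cfsg

namespace Cfsg.Agent.S4153

/-- Let G be a finite group, p a prime, N a normal subgroup, P a Sylow p-subgroup of G and P̄ a Sylow p-subgroup of G/N. Count the elements of p-power order, the identity included. Then (number of such elements of G/N)/#P̄ ≤ (number of such elements of G)/#P, stated as a cross-multiplied inequality, with equality when N is central. -/
theorem result {G : Type*} [Group G] [Finite G] (p : ℕ) [Fact p.Prime] (N : Subgroup G) [N.Normal]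
    (P : Sylow p G) (Pbar : Sylow p (G ⧸ N)) :
    Nat.card {g : (G ⧸ N) // ∃ k : ℕ, orderOf g = p ^ k} * Nat.card (P : Subgroup G) ≤ Nat.card {g : G // ∃ k : ℕ, orderOf g = p ^ k} * Nat.card (Pbar : Subgroup (G ⧸ N)) ∧
    (N ≤ Subgroup.center G → Nat.card {g : (G ⧸ N) // ∃ k : ℕ, orderOf g = p ^ k} * Nat.card (P : Subgroup G) = Nat.card {g : G // ∃ k : ℕ, orderOf g = p ^ k} * Nat.card (Pbar : Subgroup (G ⧸ N))) := by
  classical
  have hp : p.Prime := Fact.out
  set q := QuotientGroup.mk' N with hq
  obtain ⟨R⟩ : Nonempty (Sylow p N) := inferInstance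
  -- orders
  have hcard : Nat.card (P : Subgroup G) = Nat.card (Pbar : Subgroup (G ⧸ N)) * Nat.card (R : Subgroup N) := by
    rw [Sylow.card_eq_multiplicity P, Sylow.card_eq_multiplicity Pbar, Sylow.card_eq_multiplicity R, ← pow_add,
      Subgroup.card_eq_card_quotient_mul_card_subgroup N, Nat.factorization_mul Nat.card_pos.ne' Nat.card_pos.ne']
    rfl
  let E := {g : (G ⧸ N) // ∃ k : ℕ, orderOf g = p ^ k}
  let proj : {g : G // ∃ k : ℕ, orderOf g = p ^ k} → E := fun g => ⟨q g.1, by
    obtain ⟨k, hk⟩ := g.2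
    obtain ⟨i, -, hi⟩ := (Nat.dvd_prime_pow hp).mp (hk ▸ orderOf_map_dvd q g.1)
    exact ⟨i, hi⟩⟩
  have hsplit : Nat.card {g : G // ∃ k : ℕ, orderOf g = p ^ k} =
      ∑ᶠ e : E, Nat.card {g // proj g = e} := by
    have : Fintype E := Fintype.ofFinite E
    rw [finsum_eq_sum_of_fintype, ← Nat.card_sigma]
    exact (Nat.card_congr (Equiv.sigmaFiberEquiv proj)).symm
  -- each fibre is large
  have hfib : ∀ e : E, Nat.card (R : Subgroup N) ≤ Nat.card {g // proj g = e} := by
    rintro ⟨e, j, hj⟩
    obtain ⟨x, rfl⟩ := QuotientGroup.mk'_surjective N e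
    obtain ⟨a, m, hm, hxm⟩ := Nat.exists_eq_pow_mul_and_not_dvd (orderOf_pos x).ne' p hp.ne_one
    set U := (Subgroup.zpowers (q x)).comap q with hU
    obtain ⟨S⟩ : Nonempty (Sylow p U) := inferInstance
    set S' := (S : Subgroup U).map U.subtype with hS'
    have hNU : N ≤ U := fun n hn => by
      rw [hU, Subgroup.mem_comap, show q n = 1 from (QuotientGroup.eq_one_iff n).mpr hn]; exact one_mem _
    have hcardU : Nat.card U = Nat.card N * p ^ j := by
      have h1 : N.relIndex U = p ^ j := by
        have h2 := Subgroup.relIndex_ker q (K := U)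
        rw [hq, QuotientGroup.ker_mk'] at h2
        rw [h2, hU, Subgroup.map_comap_eq_self_of_surjective (QuotientGroup.mk'_surjective N), Nat.card_zpowers]
        exact hj
      have h3 := Subgroup.relIndex_mul_relIndex ⊥ N U bot_le hNU
      rw [Subgroup.relIndex_bot_left, Subgroup.relIndex_bot_left, h1] at h3
      exact h3.symm
    have hcardS : Nat.card S' = Nat.card (R : Subgroup N) * p ^ j := by
      rw [hS', Subgroup.card_map_of_injective U.subtype_injective, Sylow.card_eq_multiplicity S,
        Sylow.card_eq_multiplicity R, hcardU, Nat.factorization_mul Nat.card_pos.ne' (pow_pos hp.pos j).ne',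
        ← pow_add]
      simp [hp.factorization_self]
    -- the image of `S'` contains `q x`
    have hle : S'.map q ≤ Subgroup.zpowers (q x) := by
      rintro _ ⟨_, ⟨u, -, rfl⟩, rfl⟩
      exact u.2
    have hkerle : Nat.card ↥(S' ⊓ N) ≤ Nat.card (R : Subgroup N) := by
      have hpg : IsPGroup p ↥(S' ⊓ N) := (S.isPGroup'.map U.subtype).to_le inf_le_left
      obtain ⟨T, hT⟩ := (hpg.comap_of_injective N.subtype N.subtype_injective).exists_le_sylow
      rw [Sylow.card_eq_multiplicity R, ← Sylow.card_eq_multiplicity T,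
        ← Nat.card_congr (Subgroup.subgroupOfEquivOfLe (inf_le_right : S' ⊓ N ≤ N)).toEquiv]
      exact Subgroup.card_le_of_le hT
    have hmul : Nat.card ↥(S' ⊓ N) * Nat.card ↥(S'.map q) = Nat.card S' := by
      have h2 := Subgroup.relIndex_ker q (K := S')
      rw [hq, QuotientGroup.ker_mk'] at h2
      have h3 := Subgroup.relIndex_mul_relIndex ⊥ (N ⊓ S') S' bot_le inf_le_right
      rw [Subgroup.relIndex_bot_left, Subgroup.relIndex_bot_left, Subgroup.inf_relIndex_right, h2] at h3
      rw [inf_comm]; exact h3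
    have heq : S'.map q = Subgroup.zpowers (q x) := by
      refine Subgroup.eq_of_le_of_card_ge hle ?_
      rw [Nat.card_zpowers, hj]
      have h1 : Nat.card (R : Subgroup N) * p ^ j ≤ Nat.card (R : Subgroup N) * Nat.card ↥(S'.map q) := by
        rw [← hcardS, ← hmul]; exact Nat.mul_le_mul_right _ hkerle
      exact Nat.le_of_mul_le_mul_left h1 Nat.card_pos
    have hge : Nat.card (R : Subgroup N) ≤ Nat.card ↥(S' ⊓ N) := by
      have h1 := hmul
      rw [heq, Nat.card_zpowers, hj, hcardS] at h1
      exact (Nat.eq_of_mul_eq_mul_right (pow_pos hp.pos j) h1).ge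
    obtain ⟨g, hg, hgx⟩ : q x ∈ S'.map q := heq ▸ Subgroup.mem_zpowers (q x)
    refine hge.trans (Nat.card_le_card_of_injective
      (fun n : ↥(S' ⊓ N) => (⟨⟨g * n.1, ?_⟩, ?_⟩ : {g' // proj g' = ⟨q x, j, hj⟩})) ?_)
    · exact CfsgLib.FgsB.exists_orderOf_eq_pow_of_mem (S.isPGroup'.map U.subtype) (S'.mul_mem hg n.2.1)
    · apply Subtype.ext
      show q (g * n.1) = q x
      rw [map_mul, hgx, show q n.1 = 1 from (QuotientGroup.eq_one_iff n.1).mpr n.2.2, mul_one]
    · intro n n' h
      exact Subtype.ext (mul_left_cancel (congrArg (fun z => z.1.1) h))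
  have hE : Finite E := inferInstance
  have : Fintype E := Fintype.ofFinite E
  rw [finsum_eq_sum_of_fintype] at hsplit
  refine ⟨?_, fun hZ => ?_⟩
  · rw [hcard, hsplit]
    rw [show Nat.card E * (Nat.card (Pbar : Subgroup (G ⧸ N)) * Nat.card (R : Subgroup N)) =
      (Nat.card E * Nat.card (R : Subgroup N)) * Nat.card (Pbar : Subgroup (G ⧸ N)) by ring]
    refine Nat.mul_le_mul_right _ ?_
    rw [Nat.card_eq_fintype_card, ← Finset.card_univ, ← smul_eq_mul]
    exact Finset.card_nsmul_le_sum _ _ _ (fun e _ => hfib e)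
  · have hfib' : ∀ e : E, Nat.card {g // proj g = e} ≤ Nat.card (R : Subgroup N) := by
      intro e
      by_cases hne : IsEmpty {g // proj g = e}
      · simp
      obtain ⟨⟨g₀, hg₀⟩⟩ := not_isEmpty_iff.mp hne
      refine Nat.card_le_card_of_injective (fun g => ?_) ?_
      · refine ⟨⟨g₀.1⁻¹ * g.1.1, ?_⟩, ?_⟩
        · rw [← QuotientGroup.eq_one_iff]
          show q (g₀.1⁻¹ * g.1.1) = 1
          rw [map_mul, map_inv, inv_mul_eq_one]
          exact congrArg Subtype.val (hg₀.trans g.2.symm)
        · -- a `p`-element of the abelian group `N`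
          have hnN : g₀.1⁻¹ * g.1.1 ∈ N := by
            rw [← QuotientGroup.eq_one_iff]
            show q (g₀.1⁻¹ * g.1.1) = 1
            rw [map_mul, map_inv, inv_mul_eq_one]
            exact congrArg Subtype.val (hg₀.trans g.2.symm)
          have hc : Commute (g₀.1⁻¹ * g.1.1) g₀.1 :=
            (Subgroup.mem_center_iff.mp (hZ hnN) g₀.1).symm
          have hcomm : Commute g₀.1⁻¹ g.1.1 := by
            have h2 : Commute g₀.1 (g₀.1 * (g₀.1⁻¹ * g.1.1)) := (Commute.refl _).mul_right hc.symm
            rw [mul_inv_cancel_left] at h2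
            exact h2.inv_left
          obtain ⟨k, hk⟩ := g.1.2
          obtain ⟨k₀, hk₀⟩ := g₀.2
          have hdvd := hcomm.orderOf_mul_dvd_mul_orderOf
          rw [orderOf_inv, hk, hk₀, ← pow_add] at hdvd
          obtain ⟨i, -, hi⟩ := (Nat.dvd_prime_pow hp).mp hdvd
          obtain ⟨c, hc'⟩ := CfsgLib.FgsB.exists_conj_mem_sylow
            (x := (⟨_, hnN⟩ : N)) ⟨i, by rw [Subgroup.orderOf_mk]; exact hi⟩ R
          have : c⁻¹ * ⟨_, hnN⟩ * c = (⟨_, hnN⟩ : N) := Subtype.ext (by
            simp only [Subgroup.coe_mul, Subgroup.coe_inv]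
            rw [mul_assoc, ← Subgroup.mem_center_iff.mp (hZ hnN) (c : G), ← mul_assoc, inv_mul_cancel, one_mul])
          rw [this] at hc'
          exact hc'
      · intro a b hab
        have h1 := congrArg (fun z => (z.1 : G)) hab
        exact Subtype.ext (Subtype.ext (mul_left_cancel h1))
    rw [hcard, hsplit, Finset.sum_congr rfl (fun e _ => le_antisymm (hfib' e) (hfib e)), Finset.sum_const,
      Finset.card_univ, Nat.card_eq_fintype_card, smul_eq_mul]
    ring

end Cfsg.Agent.S4153
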