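import Cfsg.Statements.S4154
import Mathlib

set_option autoImplicit false
open Cfsg

namespace Cfsg.Agent.S4154

/-- Let G be a finite group and α an automorphism of G such that every element of G is the product of an element fixed by α and an element of the form g⁻¹α(g). If N is a normal α-invariant subgroup, then the automorphism ᾱ induced on G/N has the same property, and every coset fixed by ᾱ contains an element fixed by α (so the fixed points of ᾱ are the images of the fixed points of α). -/
theorem result {G : Type*} [Group G] [Finite G] (α : MulAut G)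
    (hccp : ∀ x : G, ∃ c g : G, α c = c ∧ x = c * (g⁻¹ * α g))
    (N : Subgroup G) [N.Normal] (hN : ∀ n ∈ N, α n ∈ N) :
    (∀ x : G, ∃ c g : G, c⁻¹ * α c ∈ N ∧ x⁻¹ * (c * (g⁻¹ * α g)) ∈ N) ∧
    (∀ x : G, x⁻¹ * α x ∈ N → ∃ c : G, α c = c ∧ c⁻¹ * x ∈ N) := by
  classical
  refine ⟨fun x => ?_, ?_⟩
  · obtain ⟨c, g, hc, rfl⟩ := hccp x
    exact ⟨c, g, by rw [hc, inv_mul_cancel]; exact N.one_mem, by simp⟩
  set q := QuotientGroup.mk' N with hq
  have hqone : ∀ n, n ∈ N → q n = 1 := fun n hn => (QuotientGroup.eq_one_iff n).mpr hn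
  have hqα : ∀ a b : G, q a = q b → q (α a) = q (α b) := by
    intro a b hab
    rw [hq, QuotientGroup.mk'_eq_mk'] at hab
    obtain ⟨n, hn, rfl⟩ := hab
    rw [map_mul α, map_mul q, hqone _ (hN n hn), mul_one]
  let D : Subgroup G :=
    { carrier := {x | q (α x) = q x}
      one_mem' := by simp
      mul_mem' := fun {a b} ha hb => by
        show q (α (a * b)) = q (a * b)
        rw [map_mul α, map_mul q, map_mul q, ha, hb]
      inv_mem' := fun {a} ha => by
        show q (α a⁻¹) = q a⁻¹
        rw [map_inv α, map_inv q, map_inv q, ha] }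
  let C : Subgroup G :=
    { carrier := {x | α x = x}
      one_mem' := by simp
      mul_mem' := fun {a b} ha hb => by show α (a * b) = a * b; rw [map_mul, ha, hb]
      inv_mem' := fun {a} ha => by show α a⁻¹ = a⁻¹; rw [map_inv, ha] }
  set M := C ⊔ N with hM
  have hMD : M ≤ D := sup_le (fun x hx => congrArg q hx)
    (fun n hn => by show q (α n) = q n; rw [hqone _ (hN n hn), hqone n hn])
  let Φ : M × (G ⧸ D) → G := fun t => t.1.1 * (t.2.out * (α t.2.out)⁻¹)
  have hΦ : Function.Surjective Φ := by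
    intro x
    obtain ⟨c, g, hc, rfl⟩ := hccp x
    set h := g⁻¹ with hh
    obtain ⟨d, hd⟩ := QuotientGroup.mk_out_eq_mul D h
    set o := (QuotientGroup.mk h : G ⧸ D).out with ho
    have hmem : c * (g⁻¹ * α g) * (o * (α o)⁻¹)⁻¹ ∈ M := by
      have h1 : q ((g⁻¹ * α g) * (o * (α o)⁻¹)⁻¹) = 1 := by
        have hdq : q (α d.1) = q d.1 := d.2
        rw [hd, hh, map_mul α, map_inv α]
        simp only [map_mul, map_inv, mul_inv_rev, inv_inv]
        rw [hdq]; group
      rw [mul_assoc]
      exact M.mul_mem (Subgroup.mem_sup_left hc) (Subgroup.mem_sup_right ((QuotientGroup.eq_one_iff _).mp h1))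
    refine ⟨(⟨_, hmem⟩, QuotientGroup.mk h), ?_⟩
    show c * (g⁻¹ * α g) * (o * (α o)⁻¹)⁻¹ * (o * (α o)⁻¹) = _
    rw [inv_mul_cancel_right]
  have hle := Nat.card_le_card_of_surjective Φ hΦ
  rw [Nat.card_prod, ← Subgroup.index_eq_card, ← D.card_mul_index] at hle
  have hMD' : M = D := Subgroup.eq_of_le_of_card_ge hMD
    (Nat.le_of_mul_le_mul_right hle (Nat.pos_of_ne_zero Subgroup.index_ne_zero_of_finite))
  intro x hx
  have hxD : x ∈ D := by
    show q (α x) = q x
    have := hqone _ hx
    rw [map_mul, map_inv, inv_mul_eq_one] at this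
    exact this.symm
  obtain ⟨c, hc, n, hn, rfl⟩ := Subgroup.mem_sup_of_normal_right.mp (show x ∈ C ⊔ N by rw [← hM, hMD']; exact hxD)
  exact ⟨c, hc, by rw [inv_mul_cancel_left]; exact hn⟩

end Cfsg.Agent.S4154
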