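import Cfsg.Statements.S4155
import Mathlib
import Cfsg.Agent.Lib.SolvStruct.CosetOrder
import Cfsg.Agent.Lib.Base.FPF
import Cfsg.Agent.Lib.Coprime.SchurZassenhaus

set_option autoImplicit false
set_option linter.style.haveILetI false
open Cfsg

namespace Cfsg.Agent.S4155

open Subgroup

variable {G : Type*} [Group G] [Finite G]

theorem commute_of_nilpotent (N : Subgroup G) (hnil : Group.IsNilpotent N) {p q : ℕ}
    [Fact p.Prime] [Fact q.Prime] (hpq : p ≠ q) {A B : Subgroup G} (hA : A ≤ N) (hB : B ≤ N)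
    (hAp : IsPGroup p A) (hBq : IsPGroup q B) {a b : G} (ha : a ∈ A) (hb : b ∈ B) : Commute a b := by
  haveI := hnil
  have sub : ∀ (r : ℕ) [Fact r.Prime] (C : Subgroup G), C ≤ N → IsPGroup r C →
      C.subgroupOf N ≤ pCore r N := by
    intro r _ C hC hCr
    obtain ⟨P, hP⟩ := (hCr.comap_of_injective N.subtype N.subtype_injective).exists_le_sylow
    haveI : (P : Subgroup N).Normal := inferInstance
    exact (show C.subgroupOf N ≤ (P : Subgroup N) from hP).trans (CfsgLib.Base.le_pCore P.2)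
  haveI := pCore_normal p N
  haveI := pCore_normal q N
  have h := commute_of_normal_of_disjoint (pCore p N) (pCore q N) inferInstance inferInstance
    (IsPGroup.disjoint_of_ne p q hpq _ _ (CfsgLib.Base.isPGroup_pCore p N)
      (CfsgLib.Base.isPGroup_pCore q N)) ⟨a, hA ha⟩ ⟨b, hB hb⟩
    (sub p A hA hAp (show (⟨a, hA ha⟩ : N) ∈ A.subgroupOf N from ha))
    (sub q B hB hBq (show (⟨b, hB hb⟩ : N) ∈ B.subgroupOf N from hb))
  exact congrArg Subtype.val h


/-- Let G be a finite group and N a proper non-trivial normal nilpotent subgroup whose order is not a prime power, such that for every x outside N all elements of the coset xN have the same order as x. Then N is the Fitting subgroup of G, and for every prime q every Sylow q-subgroup of G/N is cyclic or generalized quaternion. -/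
theorem result {G : Type*} [Group G] [Finite G] (N : Subgroup G) [N.Normal] (hN1 : N ≠ ⊥) (hN2 : N ≠ ⊤)
    (heq : ∀ x : G, x ∉ N → ∀ n ∈ N, orderOf (x * n) = orderOf x)
    (hnil : Group.IsNilpotent N) (hnpp : ¬ IsPrimePow (Nat.card N)) :
    N = Cfsg.fittingSubgroup G ∧
    ∀ (q : ℕ) [Fact q.Prime] (Q : Sylow q (G ⧸ N)), IsCyclic (Q : Subgroup (G ⧸ N)) ∨ ∃ n : ℕ, Nonempty ((Q : Subgroup (G ⧸ N)) ≃* QuaternionGroup (2 ^ n)) := by
  have hFN : fittingSubgroup G ≤ N := by
    rw [CfsgLib.Base.fittingSubgroup_eq_iSup_pCore]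
    refine iSup_le fun p => by_contra fun hp => ?_
    haveI := Fact.mk p.2
    obtain ⟨k, hk⟩ := IsPGroup.iff_card.1 (CfsgLib.CosetOrder.isPGroup_of_pCore_not_le heq hp)
    refine hnpp (isPrimePow_nat_iff _ |>.2 ⟨p, k, p.2, Nat.pos_of_ne_zero fun h0 => hN1 ?_, hk.symm⟩)
    rw [h0, pow_zero] at hk
    exact Subgroup.card_eq_one.1 hk
  refine ⟨le_antisymm (CfsgLib.Base.le_fittingSubgroup hnil) hFN, fun q _ Q => ?_⟩
  obtain ⟨r, hr, hrd, hrq⟩ : ∃ r : ℕ, r.Prime ∧ r ∣ Nat.card N ∧ r ≠ q := by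
    by_contra h
    push Not at h
    obtain ⟨k, hk⟩ := IsPGroup.iff_card.1
      (CfsgLib.CosetOrder.isPGroup_of_forall_prime (p := q) (N := N) h)
    refine hnpp (isPrimePow_nat_iff _ |>.2 ⟨q, k, Fact.out, Nat.pos_of_ne_zero fun h0 => hN1 ?_,
      hk.symm⟩)
    rw [h0, pow_zero] at hk
    exact Subgroup.card_eq_one.1 hk
  haveI := Fact.mk hr
  haveI := pCore_normal r G
  set R : Subgroup G := N ⊓ pCore r G with hR
  have hRr : IsPGroup r R := (CfsgLib.Base.isPGroup_pCore r G).to_le inf_le_right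
  have hR1 : R ≠ ⊥ := by
    rw [hR, inf_comm, ← CfsgLib.Base.map_pCore_eq_inf N]
    intro h
    have h' : pCore r N = ⊥ := (map_eq_bot_iff_of_injective _ N.subtype_injective).1 h
    haveI := hnil
    obtain ⟨P⟩ : Nonempty (Sylow r N) := inferInstance
    haveI : (P : Subgroup N).Normal := inferInstance
    exact P.ne_bot_of_dvd_card hrd (le_bot_iff.1 (h' ▸ CfsgLib.Base.le_pCore P.2))
  haveI : R.Normal := inferInstance
  set π := QuotientGroup.mk' N with hπ
  obtain ⟨P0⟩ : Nonempty (Sylow q G) := inferInstance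
  obtain ⟨g, hg⟩ := MulAction.exists_smul_eq (G ⧸ N)
    (P0.mapSurjective (f := π) (QuotientGroup.mk'_surjective N)) Q
  obtain ⟨g0, rfl⟩ := QuotientGroup.mk'_surjective N g
  set Q0 := g0 • P0 with hQ0
  have hQ : (Q0 : Subgroup G).map π = (Q : Subgroup (G ⧸ N)) := by
    rw [← hg, hQ0]
    simp only [Sylow.coe_subgroup_smul, Sylow.coe_mapSurjective]
    exact (CfsgLib.Coprime.conj_smul_map π g0 _).symm
  set A0 : Subgroup G := (Q0 : Subgroup G) with hA0
  let φ : A0 →* MulAut R := (MulAut.conjNormal (H := R)).comp A0.subtype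
  have fix : ∀ (x : A0) (v : R), (x : G) ∉ N → φ x v = v → v = 1 := by
    intro x v hx hv
    have hv' : (x : G) * v * (x : G)⁻¹ = v := congrArg Subtype.val hv
    have hc : Commute (x : G) v := mul_inv_eq_iff_eq_mul.1 hv'
    have hco : Nat.Coprime (orderOf (x : G)) (orderOf (v : G)) := by
      obtain ⟨i, hi⟩ := IsPGroup.iff_card.1 Q0.2
      obtain ⟨j, hj⟩ := IsPGroup.iff_card.1 hRr
      refine Nat.Coprime.coprime_dvd_left (orderOf_dvd_natCard _ x.2) ?_
      refine Nat.Coprime.coprime_dvd_right (orderOf_dvd_natCard _ v.2) ?_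
      rw [hA0, hi, hj]
      exact Nat.Coprime.pow _ _ ((Nat.coprime_primes Fact.out hr).2 (Ne.symm hrq))
    exact Subtype.ext (CfsgLib.CosetOrder.eq_one_of_commute_coprime heq hx v.2.1 hc hco)
  have hker : φ.ker = (π.comp A0.subtype).ker := by
    ext x
    rw [MonoidHom.mem_ker, MonoidHom.mem_ker]
    change φ x = 1 ↔ ((x : G) : G ⧸ N) = 1
    rw [QuotientGroup.eq_one_iff]
    constructor
    · intro hx
      by_contra hn
      exact hR1 ((Subgroup.eq_bot_iff_forall _).2 fun v hv =>
        congrArg Subtype.val (fix x ⟨v, hv⟩ hn (by rw [hx]; rfl)))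
    · intro hx
      refine MulEquiv.ext fun v => Subtype.ext ?_
      have h : Commute (x : G) v := commute_of_nilpotent N hnil (p := q) (q := r) (Ne.symm hrq)
        (A := A0 ⊓ N) (B := R) inf_le_right inf_le_left (Q0.2.to_le inf_le_left) hRr ⟨x.2, hx⟩ v.2
      show (x : G) * v * (x : G)⁻¹ = v
      rw [h.eq, mul_inv_cancel_right]
  have e1 : (π.comp A0.subtype).range = (Q : Subgroup (G ⧸ N)) := by
    rw [MonoidHom.range_eq_map, ← map_map, ← MonoidHom.range_eq_map, range_subtype, hA0, hQ]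
  let e : (Q : Subgroup (G ⧸ N)) ≃* φ.range :=
    (MulEquiv.subgroupCongr e1.symm).trans ((QuotientGroup.quotientKerEquivRange _).symm.trans
      ((QuotientGroup.quotientMulEquivOfEq hker.symm).trans (QuotientGroup.quotientKerEquivRange φ)))
  let ι := φ.range.subtype
  let S := R ⋊[ι] φ.range
  haveI : Finite S := Finite.of_equiv _ SemidirectProduct.equivProd.symm
  set A : Subgroup S := (SemidirectProduct.inr (φ := ι)).range with hA
  set V : Subgroup S := (SemidirectProduct.inl (φ := ι)).range with hV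
  haveI : V.Normal := by
    rw [hV, SemidirectProduct.range_inl_eq_ker_rightHom]; infer_instance
  have hfpf : CfsgLib.Base.IsFPF A V := by
    refine ⟨by rw [normalizer_eq_top_iff.2 inferInstance]; exact le_top, ?_⟩
    rintro _ ⟨a, rfl⟩ ha
    rw [Subgroup.eq_bot_iff_forall]
    rintro _ ⟨⟨v, rfl⟩, hc⟩
    obtain ⟨x, hx⟩ := a.2
    have hxN : (x : G) ∉ N := by
      intro h
      apply ha
      have hx1 : φ x = 1 := by
        rw [← MonoidHom.mem_ker, hker, MonoidHom.mem_ker]
        exact (QuotientGroup.eq_one_iff _).2 h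
      have : a = 1 := Subtype.ext (hx.symm.trans hx1)
      rw [this, map_one]
    have h1 := mem_centralizer_iff.1 hc _ rfl
    have h2 : SemidirectProduct.inl (φ := ι) (ι a v) = SemidirectProduct.inl v := by
      rw [SemidirectProduct.inl_aut, h1, mul_assoc, ← map_mul, mul_inv_cancel, map_one, mul_one]
    have h3 : φ x v = v := by
      rw [hx]; exact SemidirectProduct.inl_injective h2
    rw [fix x v hxN h3, map_one]
  have hV1 : V ≠ ⊥ := by
    intro h
    refine hR1 ((Subgroup.eq_bot_iff_forall _).2 fun v hv => ?_)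
    have : SemidirectProduct.inl (φ := ι) ⟨v, hv⟩ = 1 := mem_bot.1 (h ▸ ⟨_, rfl⟩)
    exact congrArg Subtype.val (SemidirectProduct.inl_injective (this.trans (map_one _).symm))
  let eA : (Q : Subgroup (G ⧸ N)) ≃* (⊤ : Subgroup A) :=
    e.trans ((MonoidHom.ofInjective SemidirectProduct.inr_injective).trans topEquiv.symm)
  rcases CfsgLib.Base.IsFPF.isCyclic_or_quaternion hfpf hV1 (p := q) ⊤ (Q.2.of_equiv eA) with h | ⟨-, n, -, ⟨f⟩⟩
  · exact Or.inl (eA.isCyclic.2 h)
  · exact Or.inr ⟨n, ⟨eA.trans f⟩⟩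

end Cfsg.Agent.S4155
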