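import Cfsg.Statements.S4156
import Mathlib

set_option autoImplicit false
open Cfsg

namespace Cfsg.Agent.S4156

open Equiv

/-- The sum-zero extension of a vector. -/
noncomputable def ext0 (n : ℕ) (F : Type*) [CommRing F] : (Fin n → F) →ₗ[F] (Fin (n + 1) → F) where
  toFun v := Fin.snoc v (-∑ i, v i)
  map_add' u v := by
    funext j
    induction j using Fin.lastCases with
    | last => simp [Finset.sum_add_distrib, add_comm]
    | cast j => simp
  map_smul' c v := by
    funext j
    induction j using Fin.lastCases with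
    | last => simp [Finset.mul_sum]
    | cast j => simp

theorem sum_ext0 {n : ℕ} {F : Type*} [CommRing F] (v : Fin n → F) : ∑ j, ext0 n F v j = 0 := by
  simp [ext0, Fin.sum_univ_castSucc]

theorem ext0_init {n : ℕ} {F : Type*} [CommRing F] (u : Fin (n + 1) → F) (hu : ∑ j, u j = 0) :
    ext0 n F (fun i => u i.castSucc) = u := by
  rw [Fin.sum_univ_castSucc] at hu
  funext j
  induction j using Fin.lastCases with
  | last => simp [ext0]; linear_combination -hu
  | cast j => simp [ext0]

/-- The action of permutations on the sum-zero vectors. -/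
noncomputable def repLin (n : ℕ) (F : Type*) [CommRing F] :
    Perm (Fin (n + 1)) →* Module.End F (Fin n → F) where
  toFun σ :=
    { toFun := fun v i => ext0 n F v (σ⁻¹ i.castSucc)
      map_add' := fun u v => by funext i; simp
      map_smul' := fun c v => by funext i; simp }
  map_one' := by
    apply LinearMap.ext; intro v; funext i
    simp [ext0]
  map_mul' σ τ := by
    apply LinearMap.ext; intro v; funext i
    show ext0 n F v ((σ * τ)⁻¹ i.castSucc) =
      ext0 n F (fun k => ext0 n F v (τ⁻¹ k.castSucc)) (σ⁻¹ i.castSucc)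
    rw [ext0_init (fun j => ext0 n F v (τ⁻¹ j))
      ((Equiv.sum_comp τ⁻¹ (ext0 n F v)).trans (sum_ext0 v))]
    rw [mul_inv_rev, Perm.mul_apply]

/-- Let n ≥ 5 and F a finite field. Then the projective special linear group PSL_n(F) contains a subgroup isomorphic to the alternating group of degree n + 1. -/
theorem result (n : ℕ) (hn : 5 ≤ n) (F : Type*) [Field F] [Finite F] :
    ∃ f : alternatingGroup (Fin (n + 1)) →* Matrix.ProjectiveSpecialLinearGroup (Fin n) F, Function.Injective f := by
  classical
  have : IsSimpleGroup (alternatingGroup (Fin (n + 1))) := alternatingGroup.isSimpleGroup (by simp; omega)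
  let A := alternatingGroup (Fin (n + 1))
  let M : A →* Matrix (Fin n) (Fin n) F :=
    ((LinearMap.toMatrixAlgEquiv' (R := F) (n := Fin n)).toMulEquiv.toMonoidHom.comp (repLin n F)).comp A.subtype
  -- no nontrivial homomorphisms to a commutative group
  obtain ⟨i0, i1, i2, h01, h02, h12⟩ : ∃ i0 i1 i2 : Fin n, i0 ≠ i1 ∧ i0 ≠ i2 ∧ i1 ≠ i2 :=
    ⟨⟨0, by omega⟩, ⟨1, by omega⟩, ⟨2, by omega⟩, by simp [Fin.ext_iff], by simp [Fin.ext_iff],
      by simp [Fin.ext_iff]⟩
  set σ : Perm (Fin (n + 1)) := swap i0.castSucc i1.castSucc * swap i1.castSucc i2.castSucc with hσ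
  have hσA : σ ∈ A := by
    show σ ∈ alternatingGroup _
    rw [Equiv.Perm.mem_alternatingGroup, hσ, map_mul, Perm.sign_swap (by simpa using h01),
      Perm.sign_swap (by simpa using h12)]
    rfl
  have hdet : ∀ a : A, (M a).det = 1 := by
    let D : A →* Fˣ := (Matrix.detMonoidHom.comp M).toHomUnits
    have hker : D.ker = ⊤ := by
      rcases D.normal_ker.eq_bot_or_eq_top with h | h
      · exfalso
        have hcomm : ∀ a b : A, a * b = b * a := fun a b => (MonoidHom.ker_eq_bot_iff D).mp h
          (by rw [map_mul, map_mul, mul_comm])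
        set τ : Perm (Fin (n + 1)) := swap i0.castSucc i1.castSucc * swap i1.castSucc (Fin.last n) with hτ
        have hτA : τ ∈ A := by
          show τ ∈ alternatingGroup _
          rw [Equiv.Perm.mem_alternatingGroup, hτ, map_mul, Perm.sign_swap (by simpa using h01),
            Perm.sign_swap (Fin.castSucc_lt_last i1).ne]
          rfl
        have h1 := congrArg (fun f : A => (f : Perm (Fin (n + 1))) i2.castSucc) (hcomm ⟨σ, hσA⟩ ⟨τ, hτA⟩)
        simp only [Subgroup.coe_mul, Perm.mul_apply, hσ, hτ] at h1
        have e1 : (Fin.castSucc i0) ≠ i1.castSucc := by simpa using h01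
        have e2 : (Fin.castSucc i0) ≠ i2.castSucc := by simpa using h02
        have e3 : (Fin.castSucc i1) ≠ i2.castSucc := by simpa using h12
        have e4 := (Fin.castSucc_lt_last i0).ne
        have e5 := (Fin.castSucc_lt_last i1).ne
        have e6 := (Fin.castSucc_lt_last i2).ne
        simp [swap_apply_of_ne_of_ne, e1, e1.symm, e2, e2.symm, e3, e3.symm, e4, e4.symm, e5, e5.symm,
          e6, e6.symm] at h1
      · exact h
    intro a
    have h1 : D a = 1 := by
      have : a ∈ D.ker := hker ▸ Subgroup.mem_top a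
      exact this
    exact congrArg Units.val h1
  let f₀ : A →* Matrix.SpecialLinearGroup (Fin n) F :=
    { toFun := fun a => ⟨M a, hdet a⟩
      map_one' := Subtype.ext (map_one M)
      map_mul' := fun a b => Subtype.ext (map_mul M a b) }
  let f := (QuotientGroup.mk' (Subgroup.center (Matrix.SpecialLinearGroup (Fin n) F))).comp f₀
  refine ⟨f, (MonoidHom.ker_eq_bot_iff f).mp ?_⟩
  rcases f.normal_ker.eq_bot_or_eq_top with h | h
  · exact h
  exfalso
  have hz : f₀ ⟨σ, hσA⟩ ∈ Subgroup.center (Matrix.SpecialLinearGroup (Fin n) F) := by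
    have : (⟨σ, hσA⟩ : A) ∈ f.ker := h ▸ Subgroup.mem_top _
    exact (QuotientGroup.eq_one_iff _).mp this
  obtain ⟨r, -, hr⟩ := Matrix.SpecialLinearGroup.mem_center_iff.mp hz
  have key : ∀ i j : Fin n, (M ⟨σ, hσA⟩) i j = ext0 n F (Pi.single j 1) (σ⁻¹ i.castSucc) := by
    intro i j
    show LinearMap.toMatrixAlgEquiv' (repLin n F σ) i j = _
    rw [LinearMap.toMatrixAlgEquiv'_apply]
    rfl
  have h4 : σ i2.castSucc = i0.castSucc := by
    have e2 : (Fin.castSucc i0) ≠ i2.castSucc := by simpa using h02
    have e3 : (Fin.castSucc i1) ≠ i2.castSucc := by simpa using h12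
    simp [hσ]
  have h5 : (M ⟨σ, hσA⟩) i0 i2 = 1 := by
    rw [key, show σ⁻¹ i0.castSucc = i2.castSucc from Perm.inv_eq_iff_eq.mpr h4.symm]
    simp [ext0]
  rw [show M ⟨σ, hσA⟩ = Matrix.scalar (Fin n) r from hr.symm] at h5
  simp [h02] at h5

end Cfsg.Agent.S4156
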