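import Cfsg.Statements.S4157
import Mathlib
import Cfsg.Agent.Lib.FgsB.KulakovCount

set_option autoImplicit false
set_option linter.style.haveILetI false
open Cfsg

namespace Cfsg.Agent.S4157

open CfsgLib.FgsB.Kulakov
universe u

variable {p : ℕ}

/-- A cyclic group has one subgroup of each order. -/
theorem cnt_cyclic [hp : Fact p.Prime] {G : Type u} [Group G] [Finite G] [IsCyclic G] {k : ℕ}
    (hk : p ^ k ∣ Nat.card G) : cnt p G k = 1 := by
  rw [cnt, Nat.card_eq_one_iff_unique]
  obtain ⟨K, hK⟩ := Sylow.exists_subgroup_card_pow_prime p hk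
  refine ⟨⟨fun A B => Subtype.ext ?_⟩, ⟨⟨K, hK⟩⟩⟩
  classical
  haveI := Fintype.ofFinite G
  have key : ∀ X : Subgroup G, (X : Set G) = {x | x ^ Nat.card X = 1} := by
    intro X
    refine Set.eq_of_subset_of_ncard_le (fun x hx =>
      (congrArg Subtype.val (pow_card_eq_one' (G := X) (x := ⟨x, hx⟩)) : x ^ Nat.card X = 1)) ?_
    rw [← Nat.card_coe_set_eq (X : Set G), ← Nat.card_coe_set_eq]
    show _ ≤ Nat.card X
    refine le_trans (le_of_eq ?_) (IsCyclic.card_pow_eq_one_le (α := G) (Nat.card_pos : 0 < Nat.card X))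
    rw [← Fintype.card_subtype, ← Nat.card_eq_fintype_card]
    rfl
  apply SetLike.coe_injective
  rw [key A.1, key B.1, A.2, B.2]

theorem zmod_eq [hp : Fact p.Prime] {a b : ℕ} (h : a ≡ b [MOD p ^ 2]) : (a : ZMod (p ^ 2)) = b :=
  (ZMod.natCast_eq_natCast_iff _ _ _).mpr h

theorem zmod_mul_eq [hp : Fact p.Prime] {a b : ℕ} (h : a ≡ b [MOD p]) :
    (p : ZMod (p ^ 2)) * a = p * b := by
  have h1 : p * a ≡ p * b [MOD p ^ 2] := by rw [pow_two]; exact h.mul_left' p
  have h2 := zmod_eq h1
  push_cast at h2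
  exact h2

theorem main [hp : Fact p.Prime] : ∀ (m : ℕ) (G : Type u) [Group G] [Finite G],
    Nat.card G = p ^ m → ¬ IsCyclic G → (p = 2 → Group.nilpotencyClass G ≠ m - 1) →
    ∀ k, 1 ≤ k → k < m → cnt p G k ≡ 1 + p [MOD p ^ 2] := by
  intro m
  induction m using Nat.strong_induction_on with
  | _ m ih =>
  intro G _ _ hG hnc hcl k hk1 hkm
  classical
  haveI := Fintype.ofFinite (Subgroup G)
  obtain ⟨E, hEn, hEc, hEp⟩ := exists_normal_elementary hG hnc hcl
  haveI := hEn
  have hone := cnt_one (sq_dvd_card_solutions hG hcl hEc hEp)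
  obtain ⟨hN1, hU⟩ := card_index_prime hG hnc
  rcases (by omega : k = 1 ∨ k = m - 1 ∨ (2 ≤ k ∧ k + 2 ≤ m)) with rfl | rfl | ⟨hk2, hkm2⟩
  · exact hone
  · have e : cnt p G (m - 1) = Nat.card {M : Subgroup G // M.index = p} :=
      Nat.card_congr (Equiv.subtypeEquivRight fun M => by
        rw [← index_iff hG (by omega : 1 ≤ m), pow_one])
    rw [e]; exact hN1
  set 𝓜 := {M : Subgroup G // M.index = p}
  set 𝓛 := {L : Subgroup G // L.index = p ^ 2 ∧ frattini G ≤ L}
  have hMc : ∀ M : 𝓜, Nat.card M.1 = p ^ (m - 1) := fun M =>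
    (index_iff hG (by omega : 1 ≤ m)).mp (by rw [pow_one]; exact M.2)
  have hL : ∀ j, j + 2 ≤ m → ∀ L : 𝓛, cnt p L.1 j ≡ 1 [MOD p] := fun j hj L =>
    CfsgLib.FgsB.count_subgroups_modEq_one p j hp.out (by
      rw [(index_iff hG (by omega : 2 ≤ m)).mp L.2.1]; exact pow_dvd_pow p (by omega))
  -- the maximal subgroups with few subgroups of a given order
  let bad : ℕ → 𝓜 → Prop := fun j M =>
    IsCyclic M.1 ∨ (p = 2 ∧ Group.nilpotencyClass M.1 = m - 1 - 1 ∧ j + 3 ≤ m)
  have hval : ∀ j, 1 ≤ j → j + 2 ≤ m → ∀ M : 𝓜,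
      (cnt p M.1 j : ZMod (p ^ 2)) = 1 + p - (if bad j M then (p : ZMod (p ^ 2)) else 0) := by
    intro j hj1 hj2 M
    by_cases hb : bad j M
    · rw [if_pos hb, add_sub_cancel_right]
      rcases hb with hc | ⟨h2, hc, hj3⟩
      · haveI := hc
        rw [cnt_cyclic (by rw [hMc M]; exact pow_dvd_pow p (by omega))]
        simp
      · subst h2
        rw [zmod_eq (b := 1) (cnt_maximalClass (by omega) (hMc M) hc hj1 (by omega))]
        simp
    · rw [if_neg hb, sub_zero]
      have hnot : ¬ IsCyclic M.1 := fun h => hb (Or.inl h)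
      by_cases hmc : p = 2 ∧ Group.nilpotencyClass M.1 = m - 1 - 1
      · obtain ⟨h2, hc⟩ := hmc
        subst h2
        have hj : j = m - 2 := by
          by_contra hne
          exact hb (Or.inr ⟨rfl, hc, by omega⟩)
        have h := (card_index_prime (hMc M) hnot).1
        have e : cnt 2 M.1 j = Nat.card {X : Subgroup M.1 // X.index = 2} :=
          Nat.card_congr (Equiv.subtypeEquivRight fun X => by
            rw [hj, show m - 2 = m - 1 - 1 by omega, ← index_iff (p := 2) (hMc M) (by omega : 1 ≤ m - 1), pow_one])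
        rw [e, zmod_eq h]
        push_cast; rfl
      · rw [zmod_eq (ih (m - 1) (by omega) M.1 (hMc M) hnot (fun h2 hc => hmc ⟨h2, hc⟩) j hj1 (by omega))]
        push_cast; rfl
  have hsum : ∀ j, 1 ≤ j → j + 2 ≤ m → (cnt p G j : ZMod (p ^ 2)) + p =
      1 + 2 * p - p * (Finset.univ.filter (bad j)).card := by
    intro j hj1 hj2
    have h := zmod_eq (hall_identity hG (k := j) (by omega))
    push_cast at h
    rw [Finset.sum_congr rfl (fun M _ => hval j hj1 hj2 M), Finset.sum_sub_distrib, Finset.sum_const,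
      Finset.card_univ, ← Finset.sum_filter, Finset.sum_const, nsmul_eq_mul, nsmul_eq_mul, Finset.mul_sum,
      Finset.sum_congr rfl (fun L _ => zmod_mul_eq (hL j hj2 L)), Finset.sum_const, Finset.card_univ,
      nsmul_eq_mul, ← Nat.card_eq_fintype_card, ← Nat.card_eq_fintype_card, zmod_eq hN1] at h
    have h2 : (Nat.card 𝓛 : ZMod (p ^ 2)) * (p * ((1 : ℕ) : ZMod (p ^ 2))) = p := by
      have h3 := zmod_mul_eq hU
      rw [Nat.cast_one, mul_one] at h3 ⊢
      rw [mul_comm]; exact h3
    rw [h2] at h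
    have hpp : (p : ZMod (p ^ 2)) * p = 0 := by
      rw [← Nat.cast_mul, ← pow_two, ZMod.natCast_self]
    push_cast at h
    linear_combination -h + hpp
  have hb1 : p ∣ (Finset.univ.filter (bad 1)).card := by
    have h := hsum 1 le_rfl (by omega)
    rw [zmod_eq hone] at h
    push_cast at h
    have h2 : ((p * (Finset.univ.filter (bad 1)).card : ℕ) : ZMod (p ^ 2)) = 0 := by
      push_cast; linear_combination h
    rw [ZMod.natCast_eq_zero_iff, pow_two] at h2
    exact Nat.dvd_of_mul_dvd_mul_left hp.out.pos h2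
  have hbk : p ∣ (Finset.univ.filter (bad k)).card := by
    by_cases hk3 : k + 3 ≤ m
    · have e : Finset.univ.filter (bad k) = Finset.univ.filter (bad 1) := by
        refine Finset.filter_congr fun M _ => ?_
        simp only [bad, hk3, show 1 + 3 ≤ m by omega]
      rw [e]; exact hb1
    · by_cases hp2 : p = 2
      · subst hp2
        refine dvd_trans (even_cyclic_maximal hG (by omega) hEc hEp) (dvd_of_eq ?_)
        rw [← Fintype.card_subtype, ← Nat.card_eq_fintype_card]
        exact (Nat.card_congr ((Equiv.subtypeEquivRight (q := fun M : 𝓜 => IsCyclic M.1) fun M => by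
          simp only [bad, hk3, and_false, or_false]).trans (Equiv.subtypeSubtypeEquivSubtypeInter _
            (fun M : Subgroup G => IsCyclic M)))).symm
      · have e : Finset.univ.filter (bad k) = Finset.univ.filter (bad 1) := by
          refine Finset.filter_congr fun M _ => ?_
          simp only [bad, hp2, false_and, or_false]
        rw [e]; exact hb1
  have h := hsum k hk1 hkm2
  obtain ⟨t, ht⟩ := hbk
  have hpp : (p : ZMod (p ^ 2)) * p = 0 := by
    rw [← Nat.cast_mul, ← pow_two, ZMod.natCast_self]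
  rw [ht] at h
  push_cast at h
  rw [← ZMod.natCast_eq_natCast_iff]
  push_cast
  linear_combination h - (t : ZMod (p ^ 2)) * hpp


/-- Let G be a finite p-group of order p^m that is not cyclic and, when p = 2, not of maximal class (nilpotency class m − 1). Then for every 1 ≤ k < m the number of subgroups of G of order p^k is congruent to 1 + p modulo p². -/
theorem result {G : Type*} [Group G] [Finite G] {p : ℕ} [Fact p.Prime] (m : ℕ)
    (hG : Nat.card G = p ^ m) (hnc : ¬ IsCyclic G) (h2 : p = 2 → Group.nilpotencyClass G ≠ m - 1)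
    (k : ℕ) (hk1 : 1 ≤ k) (hk2 : k < m) :
    Nat.card {H : Subgroup G // Nat.card H = p ^ k} ≡ 1 + p [MOD p ^ 2] := by
  exact main m G hG hnc h2 k hk1 hk2


end Cfsg.Agent.S4157
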