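import Cfsg.Statements.S4159
import Mathlib
import Cfsg.Agent.Lib.FgsB.OddInverted
import Cfsg.Agent.Lib.FT.OddOrderTheorem

set_option autoImplicit false
set_option linter.style.haveILetI false
open Cfsg

namespace Cfsg.Agent.S4159

open Subgroup

theorem no_inverted {G : Type*} [Group G] [Finite G]
    (h : ∀ (H : Subgroup G) (x y : H), 1 < (Subgroup.centralizer ({x} : Set H)).index → 1 < (Subgroup.centralizer ({y} : Set H)).index →
      ¬ ((Subgroup.centralizer ({x} : Set H)).index).Coprime (Subgroup.centralizer ({y} : Set H)).index)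
    {x t : G} {r k : ℕ} (hr : r.Prime) (hr2 : r ≠ 2) (hx : orderOf x = r) (ht : orderOf t = 2 ^ k)
    (hinv : t * x * t⁻¹ = x⁻¹) : False := by
  set H : Subgroup G := zpowers x ⊔ zpowers t
  let a : H := ⟨x, mem_sup_left (mem_zpowers x)⟩
  let b : H := ⟨t, mem_sup_right (mem_zpowers t)⟩
  have hao : orderOf a = r := by rw [Subgroup.orderOf_mk, hx]
  have hbo : orderOf b = 2 ^ k := by rw [Subgroup.orderOf_mk, ht]
  have hab : b * a * b⁻¹ = a⁻¹ := Subtype.ext hinv
  have hnc : ¬ Commute b a := fun hc => by
    rw [hc.eq, mul_inv_cancel_right] at hab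
    have h2 : a ^ 2 = 1 := by rw [pow_two]; nth_rewrite 2 [hab]; exact mul_inv_cancel a
    have h3 : r ∣ 2 := hao ▸ orderOf_dvd_of_pow_eq_one h2
    exact hr2 ((Nat.prime_dvd_prime_iff_eq hr Nat.prime_two).mp h3)
  have hgen : zpowers a ⊔ zpowers b = ⊤ := by
    apply map_injective H.subtype_injective
    rw [Subgroup.map_sup, MonoidHom.map_zpowers, MonoidHom.map_zpowers, ← MonoidHom.range_eq_map, range_subtype]
    rfl
  have hfin : IsOfFinOrder b := isOfFinOrder_of_finite b
  haveI hXn : (zpowers a).Normal := by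
    rw [← normalizer_eq_top_iff, eq_top_iff, ← hgen, sup_le_iff]
    refine ⟨le_normalizer, ?_⟩
    rw [zpowers_le, mem_normalizer_iff_map_conj_eq, MonoidHom.map_zpowers]
    show zpowers (b * a * b⁻¹) = zpowers a
    rw [hab, zpowers_inv]
  have hX : (zpowers a).index ∣ 2 ^ k := by
    rw [← relIndex_top_right, ← hgen, sup_comm, relIndex_sup_right, ← hbo, ← Nat.card_zpowers]
    exact relIndex_dvd_card _ _
  have hT : (zpowers b).index ∣ r := by
    have h1 := (zpowers a).card_mul_index
    have h2 := (zpowers b).card_mul_index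
    rw [Nat.card_zpowers] at h1 h2
    have h3 : orderOf b * (zpowers b).index ∣ orderOf b * r := by
      rw [h2, ← h1, hao, hbo, mul_comm (2 ^ k) r]
      exact mul_dvd_mul_left r hX
    exact Nat.dvd_of_mul_dvd_mul_left (orderOf_pos b) h3
  have hca : (centralizer ({a} : Set H)).index ∣ 2 ^ k :=
    (index_dvd_of_le (zpowers_le.mpr (mem_centralizer_singleton_iff.mpr rfl))).trans hX
  have hcb : (centralizer ({b} : Set H)).index ∣ r :=
    (index_dvd_of_le (zpowers_le.mpr (mem_centralizer_singleton_iff.mpr rfl))).trans hT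
  have hgt : ∀ u v : H, ¬ Commute v u → 1 < (centralizer ({u} : Set H)).index := by
    intro u v hv
    have h0 : (centralizer ({u} : Set H)).index ≠ 0 := index_ne_zero_of_finite
    have h1 : (centralizer ({u} : Set H)).index ≠ 1 := fun he => hv <|
      mem_centralizer_singleton_iff.mp ((index_eq_one.mp he).symm ▸ mem_top v)
    omega
  refine h H a b (hgt a b hnc) (hgt b a fun hc => hnc hc.symm) ?_
  exact Nat.Coprime.coprime_dvd_left hca (Nat.Coprime.coprime_dvd_right hcb
    (Nat.Coprime.pow_left k ((Nat.coprime_primes Nat.prime_two hr).mpr (Ne.symm hr2))))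


/-- Let G be a finite group such that in every subgroup H of G, any two conjugacy classes of H of size greater than 1 have non-coprime sizes. Then G is solvable. -/
theorem result {G : Type*} [Group G] [Finite G]
    (h : ∀ (H : Subgroup G) (x y : H), 1 < (Subgroup.centralizer ({x} : Set H)).index → 1 < (Subgroup.centralizer ({y} : Set H)).index →
      ¬ ((Subgroup.centralizer ({x} : Set H)).index).Coprime (Subgroup.centralizer ({y} : Set H)).index) : Group.IsSolvable G := by
  have hFT := @CfsgLib.FT.isSolvable_of_odd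
  haveI : Fact (Nat.Prime 2) := ⟨Nat.prime_two⟩
  let P : Sylow 2 G := default
  by_cases hP : (P : Subgroup G).Normal
  · haveI := hP
    rw [Group.isSolvable_iff_subgroup_quotient (P : Subgroup G)]
    haveI := P.isPGroup'.isNilpotent
    refine ⟨inferInstance, hFT ?_⟩
    exact Nat.odd_iff.mpr (Nat.two_dvd_ne_zero.mp P.not_dvd_index)
  · obtain ⟨x, u, r, hr, hr2, hx, hu⟩ := CfsgLib.FgsB.exists_odd_prime_inverted_of_not_normal P hP
    obtain ⟨t, ⟨k, hk⟩, ht⟩ := CfsgLib.RealElt.exists_two_element_inverts (isConj_iff.mpr ⟨u, hu⟩)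
    exact (no_inverted h hr hr2 hx hk ht).elim

end Cfsg.Agent.S4159
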