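import Cfsg.Statements.S4163
import Mathlib


set_option autoImplicit false
set_option linter.style.haveILetI false
open Cfsg

namespace Cfsg.Agent.S4163
open Subgroup
open scoped commutatorElement

theorem key {G : Type*} [Group G] [Finite G] (A : Subgroup G) [A.Normal]
    (hab : ∀ a ∈ A, ∀ b ∈ A, a * b = b * a) (m : ℕ)
    (hmin : ∀ x : G, 1 < (centralizer ({x} : Set G)).index → m ≤ (centralizer ({x} : Set G)).index)
    {x : G} (hx : (centralizer ({x} : Set G)).index = m) {a : G} (ha : a ∈ A) :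
    x * a * x⁻¹ * a⁻¹ ∈ center G := by
  classical
  set C := centralizer ({x} : Set G) with hC
  have hmem : ∀ b ∈ A, x * b * x⁻¹ * b⁻¹ ∈ A := fun b hb =>
    mul_mem (Subgroup.Normal.conj_mem inferInstance b hb x) (inv_mem hb)
  let φ : A → G := fun b => x * b * x⁻¹ * (b : G)⁻¹
  set y := x * a * x⁻¹ * a⁻¹ with hy
  rcases eq_or_ne y 1 with h1 | hy1
  · rw [h1]; exact one_mem _
  set D := centralizer ({y} : Set G) with hD
  suffices hlt : D.index < m by
    rw [Subgroup.mem_center_iff]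
    intro g
    have h1 : D.index = 1 := by
      by_contra hne
      have h9 : 1 < D.index → m ≤ D.index := hmin y
      have := Nat.pos_of_ne_zero (Subgroup.index_ne_zero_of_finite (H := D))
      have := h9 (by omega)
      omega
    have hg : g ∈ D := by rw [Subgroup.index_eq_one.mp h1]; trivial
    exact Subgroup.mem_centralizer_singleton_iff.mp hg
  set L := C ⊔ A with hL
  -- the range of `φ` has at most `C.relIndex L` elements
  have hR : Nat.card (Set.range φ) ≤ C.relIndex L := by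
    refine le_trans ?_ (Subgroup.relIndex_le_of_le_right (le_sup_right : A ≤ L) Subgroup.index_ne_zero_of_finite)
    show Nat.card (Set.range φ) ≤ (C.subgroupOf A).index
    rw [Subgroup.index_eq_card]
    let ψ : A ⧸ C.subgroupOf A → Set.range φ := Quotient.lift (fun b => (⟨φ b, b, rfl⟩ : Set.range φ))
      fun b b' hbb => Subtype.ext (by
        have h0 : b⁻¹ * b' ∈ C.subgroupOf A := QuotientGroup.leftRel_apply.mp hbb
        have h2 : ((b⁻¹ * b' : A) : G) * x = x * (b⁻¹ * b' : A) :=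
          Subgroup.mem_centralizer_singleton_iff.mp h0
        obtain ⟨c, rfl⟩ : ∃ c, b' = b * c := ⟨b⁻¹ * b', by rw [mul_inv_cancel_left]⟩
        rw [inv_mul_cancel_left] at h2
        show x * b * x⁻¹ * (b : G)⁻¹ = x * ((b : G) * c) * x⁻¹ * ((b : G) * c)⁻¹
        have h3 : (c : G) * x⁻¹ = x⁻¹ * c := (Commute.inv_right h2).eq
        calc x * b * x⁻¹ * (b : G)⁻¹ = x * b * (x⁻¹ * c) * (c : G)⁻¹ * (b : G)⁻¹ := by group
          _ = _ := by rw [← h3]; group)
    exact Nat.card_le_card_of_surjective ψ (by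
      rintro ⟨_, b, rfl⟩
      exact ⟨QuotientGroup.mk b, rfl⟩)
  -- conjugates of `y` under `L` are nontrivial values of `φ`
  have hyL : D.relIndex L ≤ Nat.card (Set.range φ) - 1 := by
    show (D.subgroupOf L).index ≤ _
    have hconj : ∀ l ∈ L, l * y * l⁻¹ ∈ Set.range φ := by
      intro l hl
      obtain ⟨g, hg, b, hb, rfl⟩ := Subgroup.mem_sup_of_normal_right.mp hl
      have hbA : b * a * b⁻¹ = a := by rw [hab b hb a ha, mul_inv_cancel_right]
      have hyA : b * y * b⁻¹ = y := by rw [hab b hb y (hmem a ha), mul_inv_cancel_right]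
      refine ⟨⟨g * a * g⁻¹, Subgroup.Normal.conj_mem inferInstance a ha g⟩, ?_⟩
      have hgx : g * x = x * g := Subgroup.mem_centralizer_singleton_iff.mp hg
      have hgx' : g⁻¹ * x⁻¹ = x⁻¹ * g⁻¹ := by rw [← mul_inv_rev, ← mul_inv_rev, hgx]
      show x * (g * a * g⁻¹) * x⁻¹ * (g * a * g⁻¹)⁻¹ = g * b * y * (g * b)⁻¹
      calc x * (g * a * g⁻¹) * x⁻¹ * (g * a * g⁻¹)⁻¹
          = (x * g) * a * (g⁻¹ * x⁻¹) * (g * a⁻¹ * g⁻¹) := by group
        _ = (g * x) * a * (x⁻¹ * g⁻¹) * (g * a⁻¹ * g⁻¹) := by rw [hgx, hgx']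
        _ = g * y * g⁻¹ := by rw [hy]; group
        _ = g * (b * y * b⁻¹) * g⁻¹ := by rw [hyA]
        _ = _ := by group
    rw [Subgroup.index_eq_card]
    let R' := {r : Set.range φ // (r : G) ≠ 1}
    have hcard : Nat.card R' = Nat.card (Set.range φ) - 1 := by
      haveI := Fintype.ofFinite (Set.range φ)
      rw [Nat.card_eq_fintype_card, Nat.card_eq_fintype_card, Fintype.card_subtype_compl]
      have h1 : (1 : G) ∈ Set.range φ := ⟨1, by simp [φ]⟩
      have hone : Fintype.card {r : Set.range φ // (r : G) = 1} = 1 :=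
        Fintype.card_eq_one_iff.mpr ⟨⟨⟨1, h1⟩, rfl⟩, fun z => Subtype.ext (Subtype.ext z.2)⟩
      rw [hone]
    rw [← hcard]
    let χ : L ⧸ D.subgroupOf L → R' := Quotient.lift
      (fun l => (⟨⟨(l : G) * y * (l : G)⁻¹, hconj l l.2⟩, fun h => hy1 (conj_eq_one_iff.mp h)⟩ : R'))
      fun l l' hll => Subtype.ext (Subtype.ext (by
        have h0 : l⁻¹ * l' ∈ D.subgroupOf L := QuotientGroup.leftRel_apply.mp hll
        have h2 : ((l⁻¹ * l' : L) : G) * y = y * (l⁻¹ * l' : L) :=
          Subgroup.mem_centralizer_singleton_iff.mp h0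
        show (l : G) * y * (l : G)⁻¹ = (l' : G) * y * (l' : G)⁻¹
        calc (l : G) * y * (l : G)⁻¹ = (l : G) * (y * ((l⁻¹ * l' : L) : G)) * (l' : G)⁻¹ := by
              simp [mul_assoc]
          _ = (l : G) * (((l⁻¹ * l' : L) : G) * y) * (l' : G)⁻¹ := by rw [h2]
          _ = _ := by simp [mul_assoc]))
    refine Nat.card_le_card_of_injective χ ?_
    rintro ⟨l⟩ ⟨l'⟩ h
    refine QuotientGroup.eq.mpr (Subgroup.mem_centralizer_singleton_iff.mpr ?_)
    have h3 : (l : G) * y * (l : G)⁻¹ = (l' : G) * y * (l' : G)⁻¹ :=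
      congrArg (fun r : R' => ((r : Set.range φ) : G)) h
    show ((l⁻¹ * l' : L) : G) * y = y * (l⁻¹ * l' : L)
    simp only [Subgroup.coe_mul, Subgroup.coe_inv]
    calc (l : G)⁻¹ * (l' : G) * y = (l : G)⁻¹ * ((l' : G) * y * (l' : G)⁻¹) * l' := by group
      _ = (l : G)⁻¹ * ((l : G) * y * (l : G)⁻¹) * l' := by rw [h3]
      _ = _ := by group
  have hpos : 0 < L.index := Nat.pos_of_ne_zero Subgroup.index_ne_zero_of_finite
  have hRpos : 0 < Nat.card (Set.range φ) :=
    haveI : Nonempty (Set.range φ) := ⟨⟨φ 1, 1, rfl⟩⟩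
    Nat.card_pos
  calc D.index ≤ (D ⊓ L).index := Nat.le_of_dvd (Nat.pos_of_ne_zero Subgroup.index_ne_zero_of_finite)
        (Subgroup.index_dvd_of_le inf_le_left)
    _ = D.relIndex L * L.index := by
        rw [← Subgroup.relIndex_mul_index (inf_le_right : D ⊓ L ≤ L), Subgroup.inf_relIndex_right]
    _ ≤ (Nat.card (Set.range φ) - 1) * L.index := Nat.mul_le_mul_right _ hyL
    _ < Nat.card (Set.range φ) * L.index := Nat.mul_lt_mul_of_pos_right (by omega) hpos
    _ ≤ C.relIndex L * L.index := Nat.mul_le_mul_right _ hR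
    _ = m := by rw [Subgroup.relIndex_mul_index (le_sup_left : C ≤ L), hx]


/-- Let G be a finite group with a normal abelian subgroup A satisfying C_G(A) = A. Suppose some conjugacy class of G has size greater than 1, let m be the smallest such size, and let M be the subgroup generated by the elements whose class has size 1 or m. Then M is nilpotent of class at most 3. -/
theorem result {G : Type*} [Group G] [Finite G]
    (A : Subgroup G) [A.Normal] (hA : IsMulCommutative A) (hCA : Subgroup.centralizer (A : Set G) = A)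
    (m : ℕ) (hm1 : 1 < m) (hm : ∃ x : G, (Subgroup.centralizer ({x} : Set G)).index = m) (hmin : ∀ x : G, 1 < (Subgroup.centralizer ({x} : Set G)).index → m ≤ (Subgroup.centralizer ({x} : Set G)).index) :
    Subgroup.upperCentralSeries ↥(Subgroup.closure {x : G | (Subgroup.centralizer ({x} : Set G)).index = 1 ∨ (Subgroup.centralizer ({x} : Set G)).index = m}) 3 = ⊤ := by
  have hab : ∀ a ∈ A, ∀ b ∈ A, a * b = b * a := fun a ha b hb =>
    congrArg Subtype.val (hA.is_comm.comm ⟨a, ha⟩ ⟨b, hb⟩)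
  set M := Subgroup.closure {x : G | (Subgroup.centralizer ({x} : Set G)).index = 1 ∨ (Subgroup.centralizer ({x} : Set G)).index = m} with hM
  let f := QuotientGroup.mk' (Subgroup.center G)
  have hMA : M ≤ (Subgroup.centralizer (A.map f : Set (G ⧸ Subgroup.center G))).comap f := by
    rw [hM, Subgroup.closure_le]
    intro x hx
    rw [SetLike.mem_coe, Subgroup.mem_comap, Subgroup.mem_centralizer_iff]
    rintro _ ⟨a, ha, rfl⟩
    have h1 : x * a * x⁻¹ * a⁻¹ ∈ Subgroup.center G := by
      rcases hx with hx | hx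
      · have hc : a ∈ Subgroup.centralizer ({x} : Set G) := by rw [Subgroup.index_eq_one.mp hx]; trivial
        rw [← Subgroup.mem_centralizer_singleton_iff.mp hc, mul_inv_cancel_right, mul_inv_cancel]
        exact one_mem _
      · exact key A hab m hmin hx ha
    have h2 : f (x * a * x⁻¹ * a⁻¹) = 1 := (QuotientGroup.eq_one_iff _).mpr h1
    rw [map_mul, map_mul, map_mul, map_inv, map_inv, mul_inv_eq_one, mul_inv_eq_iff_eq_mul] at h2
    exact h2.symm
  have hAM : ∀ g ∈ M, ∀ a ∈ A, g * a * g⁻¹ * a⁻¹ ∈ Subgroup.center G := by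
    intro g hg a ha
    rw [← QuotientGroup.eq_one_iff]
    show f (g * a * g⁻¹ * a⁻¹) = 1
    rw [map_mul, map_mul, map_mul, map_inv, map_inv, mul_inv_eq_one, mul_inv_eq_iff_eq_mul]
    exact (Subgroup.mem_centralizer_iff.mp (hMA hg) _ ⟨a, ha, rfl⟩).symm
  have hcomm : ∀ g ∈ M, ∀ h ∈ M, ⁅g, h⁆ ∈ A := by
    intro g hg h hh
    have ident : ∀ a ∈ A, h * g * a * (h * g)⁻¹ = g * h * a * (g * h)⁻¹ := by
      intro a ha
      obtain ⟨z, hz, hzg⟩ : ∃ z ∈ Subgroup.center G, g * a * g⁻¹ = z * a :=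
        ⟨_, hAM g hg a ha, by group⟩
      obtain ⟨w, hw, hwh⟩ : ∃ w ∈ Subgroup.center G, h * a * h⁻¹ = w * a :=
        ⟨_, hAM h hh a ha, by group⟩
      have hzc := Subgroup.mem_center_iff.mp hz
      have hwc := Subgroup.mem_center_iff.mp hw
      calc h * g * a * (h * g)⁻¹ = h * (g * a * g⁻¹) * h⁻¹ := by group
        _ = h * (z * a) * h⁻¹ := by rw [hzg]
        _ = z * (h * a * h⁻¹) := by rw [← mul_assoc h z a, hzc h]; group
        _ = z * (w * a) := by rw [hwh]
        _ = w * (z * a) := by rw [← mul_assoc, ← mul_assoc, hwc z]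
        _ = w * (g * a * g⁻¹) := by rw [hzg]
        _ = (g * w) * a * g⁻¹ := by rw [hwc g]; group
        _ = g * (h * a * h⁻¹) * g⁻¹ := by rw [hwh]; group
        _ = _ := by group
    rw [← hCA, Subgroup.mem_centralizer_iff]
    intro a ha
    rw [commutatorElement_def]
    have hb : (h * g)⁻¹ * a * (h * g) ∈ A := by
      have := Subgroup.Normal.conj_mem (inferInstance : A.Normal) a ha (h * g)⁻¹
      rwa [inv_inv] at this
    have e := ident _ hb
    have ea : h * g * ((h * g)⁻¹ * a * (h * g)) * (h * g)⁻¹ = a := by group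
    rw [ea] at e
    calc a * (g * h * g⁻¹ * h⁻¹)
        = g * h * ((h * g)⁻¹ * a * (h * g)) * (g * h)⁻¹ * (g * h * g⁻¹ * h⁻¹) := by rw [← e]
      _ = g * h * g⁻¹ * h⁻¹ * a := by group
  rw [eq_top_iff]
  intro u _
  rw [Subgroup.mem_upperCentralSeries_succ_iff]
  intro v
  rw [Subgroup.mem_upperCentralSeries_succ_iff]
  intro w
  rw [Subgroup.upperCentralSeries_one, Subgroup.mem_center_iff]
  intro t
  apply Subtype.ext
  have hA' := hcomm u.1 u.2 v.1 v.2
  rw [commutatorElement_def] at hA'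
  have hz : ((u : G) * v * (u : G)⁻¹ * (v : G)⁻¹) * w * ((u : G) * v * (u : G)⁻¹ * (v : G)⁻¹)⁻¹ * (w : G)⁻¹ ∈ Subgroup.center G := by
    have := (Subgroup.center G).inv_mem (hAM w.1 w.2 _ hA')
    convert this using 1
    group
  have ht := Subgroup.mem_center_iff.mp hz t
  simpa [commutatorElement_def] using ht


end Cfsg.Agent.S4163
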