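import Cfsg.Statements.S4167
import Mathlib
import Cfsg.Agent.Lib.FgsB.SquareFreeClasses

set_option autoImplicit false
set_option linter.style.haveILetI false
open Cfsg

namespace Cfsg.Agent.S4167

open scoped commutatorElement
open CfsgLib.FgsB.SquareFree (relIndex_dvd_index)
open CfsgLib.Base

universe u

/-- Four divides no class size. -/
def SF (G : Type u) [Group G] : Prop := ∀ x : G, ¬ 4 ∣ (Subgroup.centralizer ({x} : Set G)).index

section
variable {G : Type u} [Group G]

theorem SF.of_surjective {L : Type u} [Group L] {f : G →* L} (hf : Function.Surjective f) (h : SF G) :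
    SF L := fun y hd => by
  obtain ⟨x, rfl⟩ := hf y
  refine h x (hd.trans ((Subgroup.index_dvd_of_le ?_).trans (Subgroup.index_map_dvd _ hf)))
  rintro _ ⟨c, hc, rfl⟩
  have hc' : c * x = x * c := Subgroup.mem_centralizer_singleton_iff.1 hc
  exact Subgroup.mem_centralizer_singleton_iff.2 (by rw [← map_mul, hc', map_mul])

theorem SF.subgroup [Finite G] (N : Subgroup G) [N.Normal] (h : SF G) : SF N := fun x hd => by
  refine h (x : G) (hd.trans ?_)
  have e : Subgroup.centralizer ({x} : Set N) = (Subgroup.centralizer ({(x : G)} : Set G)).subgroupOf N := by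
    ext y
    rw [Subgroup.mem_subgroupOf, Subgroup.mem_centralizer_singleton_iff, Subgroup.mem_centralizer_singleton_iff,
      ← Subtype.coe_inj]
    rfl
  rw [e]
  exact relIndex_dvd_index _ N

theorem not_simple [Finite G] [IsSimpleGroup G] (hna : ¬ IsMulCommutative G) (h : SF G) : False := by
  classical
  haveI : Fact (Nat.Prime 2) := ⟨Nat.prime_two⟩
  have hsol : ¬ Group.IsSolvable G := fun hs => hna (IsSimpleGroup.comm_iff_isSolvable.2 hs |> fun h => ⟨⟨h⟩⟩)
  have heven : 2 ∣ Nat.card G := by
    by_contra h2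
    exact hsol (CfsgLib.FT.isSolvable_of_odd (Nat.odd_iff.2 (by omega)))
  have hcen : ∀ z : G, z ∈ Subgroup.center G → z = 1 := fun z hz => by
    rcases (inferInstance : (Subgroup.center G).Normal).eq_bot_or_eq_top with e | e
    · rw [e] at hz; exact hz
    · exact absurd (Subgroup.center_eq_top_iff.1 e) hna
  have hperf : commutator G = ⊤ := by
    rcases (inferInstance : (commutator G).Normal).eq_bot_or_eq_top with e | e
    · refine absurd ⟨⟨fun a b => ?_⟩⟩ hna
      have : ⁅a, b⁆ ∈ commutator G := Subgroup.commutator_mem_commutator trivial trivial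
      rw [e, Subgroup.mem_bot, commutatorElement_eq_one_iff_mul_comm] at this
      exact this
    · exact e
  let P : Sylow 2 G := default
  -- it suffices that every element centralises a subgroup of index at most two in a conjugate of `P`
  have hcover : ∀ z : G, z ∈ (P : Subgroup G) → z ≠ 1 →
      ¬ ∀ M : Subgroup P, M.index ∣ 2 → ∃ n : G, n ∈ M.map (P : Subgroup G).subtype ∧
        ∃ g : G, n = g * z * g⁻¹ := by
    intro z hz hz1 hall
    refine hz1 (hcen z (Subgroup.mem_center_iff.2 fun g => ?_))
    have htop : Subgroup.centralizer ({z} : Set G) = ⊤ := by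
      refine CfsgLib.FgsB.eq_top_of_forall_exists_conj_mem fun x => ?_
      obtain ⟨S⟩ : Nonempty (Sylow 2 (Subgroup.centralizer ({x} : Set G))) := inferInstance
      set S' := (S : Subgroup (Subgroup.centralizer ({x} : Set G))).map (Subgroup.centralizer ({x} : Set G)).subtype
      obtain ⟨P', hP'⟩ := (S.2.map _ : IsPGroup 2 S').exists_le_sylow
      obtain ⟨g, hg⟩ := MulAction.exists_smul_eq G P' P
      let M : Subgroup P := (S'.map (MulAut.conj g).toMonoidHom).subgroupOf P
      have hle : S'.map (MulAut.conj g).toMonoidHom ≤ P := by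
        rw [← hg]; exact Subgroup.map_mono hP'
      have hidx : M.index ∣ 2 := by
        have hcM : Nat.card M = Nat.card S := by
          rw [Nat.card_congr (Subgroup.subgroupOfEquivOfLe hle).toEquiv,
            ← Nat.card_congr (Subgroup.equivMapOfInjective S' _ (MulAut.conj g).injective).toEquiv]
          exact (Nat.card_congr (Subgroup.equivMapOfInjective _ _ Subtype.val_injective).toEquiv).symm
        have h1 := M.card_mul_index
        have h2 := (S : Subgroup (Subgroup.centralizer ({x} : Set G))).card_mul_index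
        have h3 := (Subgroup.centralizer ({x} : Set G)).card_mul_index
        rw [hcM] at h1
        rw [← h2] at h3
        obtain ⟨a, ha⟩ := IsPGroup.iff_card.1 P.2
        have hPd : Nat.card P ∣ Nat.card S * ((S : Subgroup (Subgroup.centralizer ({x} : Set G))).index *
            (Subgroup.centralizer ({x} : Set G)).index) := by
          rw [← mul_assoc, h3]; exact Subgroup.card_subgroup_dvd_card _
        rw [← h1] at hPd
        have h4 := Nat.dvd_of_mul_dvd_mul_left (Nat.card_pos (α := S)) hPd
        have hMpow : M.index ∣ 2 ^ a := ha ▸ Subgroup.index_dvd_card M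
        obtain ⟨j, -, hj⟩ := (Nat.dvd_prime_pow Nat.prime_two).1 hMpow
        have hcop : Nat.Coprime M.index (S : Subgroup (Subgroup.centralizer ({x} : Set G))).index := by
          rw [hj]; exact (Nat.Prime.coprime_iff_not_dvd Nat.prime_two).2 S.not_dvd_index |>.pow_left j
        rw [hj] at hcop h4 ⊢
        rcases j with _ | _ | j
        · simp
        · simp
        · refine absurd (dvd_trans ?_ (hcop.dvd_of_dvd_mul_left h4)) (h x)
          exact (show (4 : ℕ) = 2 ^ 2 by norm_num) ▸ pow_dvd_pow 2 (by omega)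
      obtain ⟨n, ⟨y, hy, rfl⟩, c, hc⟩ := hall M hidx
      obtain ⟨w, hw, hwy⟩ := Subgroup.mem_map.1 (Subgroup.mem_subgroupOf.1 hy)
      obtain ⟨w', hw', rfl⟩ := Subgroup.mem_map.1 hw
      refine ⟨g⁻¹ * c, Subgroup.mem_centralizer_singleton_iff.2 ?_⟩
      have hwx : (w' : G) * x = x * w' := Subgroup.mem_centralizer_singleton_iff.1 w'.2
      have hwz : (w' : G) = g⁻¹ * c * z * (g⁻¹ * c)⁻¹ := by
        have e : g * (w' : G) * g⁻¹ = c * z * c⁻¹ := by rw [← hc]; exact hwy
        calc (w' : G) = g⁻¹ * (g * (w' : G) * g⁻¹) * g := by group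
          _ = g⁻¹ * c * z * (g⁻¹ * c)⁻¹ := by rw [e]; group
      rw [hwz] at hwx
      calc (g⁻¹ * c)⁻¹ * x * (g⁻¹ * c) * z
          = (g⁻¹ * c)⁻¹ * (x * (g⁻¹ * c * z * (g⁻¹ * c)⁻¹)) * (g⁻¹ * c) := by group
        _ = z * ((g⁻¹ * c)⁻¹ * x * (g⁻¹ * c)) := by rw [← hwx]; group
    have hg : g ∈ Subgroup.centralizer ({z} : Set G) := htop ▸ Subgroup.mem_top g
    exact Subgroup.mem_centralizer_singleton_iff.1 hg
  -- the Sylow subgroup is elementary abelian
  by_cases hexp : ∃ x : P, x * x ≠ 1
  · obtain ⟨x, hx⟩ := hexp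
    let Q : Subgroup P := Subgroup.closure (Set.range fun y : P => y * y)
    haveI : Q.Normal := by
      refine ⟨fun v hv g => ?_⟩
      have hle : Q ≤ Q.comap (MulAut.conj g).toMonoidHom := by
        rw [Subgroup.closure_le]
        rintro _ ⟨y, rfl⟩
        exact Subgroup.subset_closure ⟨g * y * g⁻¹, by simp⟩
      exact hle hv
    have hQ : Q ≠ ⊥ := fun e => hx (by
      have : x * x ∈ Q := Subgroup.subset_closure ⟨x, rfl⟩
      rwa [e, Subgroup.mem_bot] at this)
    haveI := P.2.isNilpotent
    obtain ⟨z, hz, hz1⟩ := (Subgroup.bot_or_exists_ne_one _).resolve_left (inf_center_ne_bot_of_isNilpotent hQ)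
    refine hcover (z : G) z.2 (fun e => hz1 (Subtype.ext e)) fun M hM => ⟨z, ⟨z, ?_, rfl⟩, 1, by group⟩
    have hQM : Q ≤ M := by
      rw [Subgroup.closure_le]
      rintro _ ⟨y, rfl⟩
      rcases (Nat.dvd_prime Nat.prime_two).1 hM with e | e
      · rw [Subgroup.index_eq_one.1 e]; exact Subgroup.mem_top _
      · exact Subgroup.mul_self_mem_of_index_two e y
    exact hQM hz.1
  · push Not at hexp
    haveI hPc : IsMulCommutative P := ⟨⟨fun x y => by
      have i : ∀ z : P, z⁻¹ = z := fun z => inv_eq_of_mul_eq_one_left (hexp z)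
      rw [← i (x * y), mul_inv_rev, i, i]⟩⟩
    obtain ⟨t, ht⟩ := exists_prime_orderOf_dvd_card' (G := P) 2 (P.dvd_card_of_dvd_card heven)
    have ht1 : (t : G) ≠ 1 := fun e => by
      rw [← Subgroup.orderOf_coe, e, orderOf_one] at ht; omega
    refine hcover t t.2 ht1 fun M hM => ?_
    by_contra hcon
    push Not at hcon
    have hM2 : M.index = 2 := ((Nat.dvd_prime Nat.prime_two).1 hM).resolve_left fun e =>
      hcon t ⟨t, by rw [Subgroup.index_eq_one.1 e]; exact Subgroup.mem_top _, rfl⟩ 1 (by group)
    haveI hMn : M.Normal := Subgroup.normal_of_index_eq_two hM2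
    -- the product of the orbit under the normaliser
    let N := Subgroup.normalizer ((P : Subgroup G) : Set G)
    let cn : N → P := fun n => ⟨(n : G) * t * (n : G)⁻¹, (Subgroup.mem_normalizer_iff.1 n.2 t).1 t.2⟩
    letI : CommGroup P := { (inferInstance : Group P) with mul_comm := hPc.is_comm.comm }
    haveI : Fintype G := Fintype.ofFinite G
    let O : Finset P := Finset.univ.image cn
    have hOodd : Odd O.card := by
      let C : Subgroup N := (Subgroup.centralizer ({(t : G)} : Set G)).subgroupOf N
      have hc : O.card = C.index := by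
        rw [Subgroup.index, ← Nat.card_coe_set_eq (O : Set P) |>.trans (Set.ncard_coe_finset O)]
        refine (Nat.card_congr (Equiv.ofBijective
          (Quotient.lift (fun n => (⟨cn n, Finset.mem_image_of_mem _ (Finset.mem_univ n)⟩ : (O : Set P)))
            ?_) ⟨?_, ?_⟩)).symm
        · intro a b hab
          refine Subtype.ext (Subtype.ext ?_)
          have h1 : (a⁻¹ * b : N) ∈ C := QuotientGroup.leftRel_apply.1 hab
          have h2 := Subgroup.mem_centralizer_singleton_iff.1 (Subgroup.mem_subgroupOf.1 h1)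
          change (a : G) * t * (a : G)⁻¹ = (b : G) * t * (b : G)⁻¹
          push_cast at h2
          calc (a : G) * t * (a : G)⁻¹ = (a : G) * ((t : G) * ((a : G)⁻¹ * b)) * (b : G)⁻¹ := by group
            _ = (b : G) * t * (b : G)⁻¹ := by rw [← h2]; group
        · rintro ⟨a⟩ ⟨b⟩ hab
          refine QuotientGroup.eq.2 (Subgroup.mem_subgroupOf.2 (Subgroup.mem_centralizer_singleton_iff.2 ?_))
          have h2 : (a : G) * t * (a : G)⁻¹ = (b : G) * t * (b : G)⁻¹ :=
            congrArg (fun w : (O : Set P) => ((w : P) : G)) hab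
          push_cast
          calc (a : G)⁻¹ * b * t = (a : G)⁻¹ * ((b : G) * t * (b : G)⁻¹) * b := by group
            _ = (t : G) * ((a : G)⁻¹ * b) := by rw [← h2]; group
        · rintro ⟨o, ho⟩
          obtain ⟨n, -, rfl⟩ := Finset.mem_image.1 ho
          exact ⟨QuotientGroup.mk n, rfl⟩
      rw [hc, Nat.odd_iff]
      have hle : (P : Subgroup G).subgroupOf N ≤ C := by
        intro n hn
        refine Subgroup.mem_subgroupOf.2 (Subgroup.mem_centralizer_singleton_iff.2 ?_)
        exact congrArg Subtype.val (hPc.is_comm.comm ⟨(n : G), hn⟩ t)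
      have h1 : ¬ 2 ∣ ((P : Subgroup G).subgroupOf N).index := (P.subtype Subgroup.le_normalizer).not_dvd_index
      have h2 := Subgroup.index_dvd_of_le hle
      have : ¬ 2 ∣ C.index := fun h => h1 (h.trans h2)
      omega
    set π : P := ∏ o ∈ O, o with hπ
    have hfixed : ∀ n : N, (n : G) * (π : P) * (n : G)⁻¹ = (π : P) := by
      intro n
      let φ : P →* P :=
        { toFun := fun o => ⟨(n : G) * o * (n : G)⁻¹, (Subgroup.mem_normalizer_iff.1 n.2 o).1 o.2⟩
          map_one' := Subtype.ext (by simp)
          map_mul' := fun a b => Subtype.ext (by simp [mul_assoc]) }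
      have hφi : Function.Injective φ := fun a b hab => Subtype.ext
        (mul_left_cancel (mul_right_cancel (congrArg Subtype.val hab)))
      have hsub : O.image φ = O := by
        refine Finset.eq_of_subset_of_card_le (fun o ho => ?_) (Finset.card_image_of_injective O hφi).ge
        obtain ⟨o', ho', rfl⟩ := Finset.mem_image.1 ho
        obtain ⟨m, -, rfl⟩ := Finset.mem_image.1 ho'
        exact Finset.mem_image.2 ⟨n * m, Finset.mem_univ _, Subtype.ext (by simp [φ, cn, mul_assoc])⟩
      have : φ π = π := by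
        conv_rhs => rw [hπ, ← hsub, Finset.prod_image fun a _ b _ hab => hφi hab]
        exact map_prod φ _ _
      exact congrArg Subtype.val this
    have hπ1 : π ∉ M := by
      intro hin
      have hval : ∀ o ∈ O, (QuotientGroup.mk' M) o = QuotientGroup.mk' M t := by
        intro o ho
        obtain ⟨n, -, rfl⟩ := Finset.mem_image.1 ho
        have h1 : cn n ∉ M := fun h => hcon (cn n : G) ⟨cn n, h, rfl⟩ n rfl
        have h2 : t ∉ M := fun h => hcon t ⟨t, h, rfl⟩ 1 (by group)
        refine QuotientGroup.eq.2 ((Subgroup.mul_mem_iff_of_index_two hM2).2 ?_)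
        simp [inv_mem_iff, h1, h2]
      have h1 := map_prod (QuotientGroup.mk' M) (fun o => o) O
      have hπM : QuotientGroup.mk' M π = 1 := (QuotientGroup.eq_one_iff π).2 hin
      rw [Finset.prod_congr rfl hval, Finset.prod_const, ← hπ, hπM] at h1
      obtain ⟨k, hk⟩ := hOodd
      have h2 : (QuotientGroup.mk' M t) ^ 2 = 1 := by
        rw [← map_pow, pow_two, hexp t, map_one]
      rw [hk, pow_succ, pow_mul, h2, one_pow, one_mul] at h1
      exact hcon t ⟨t, (QuotientGroup.eq_one_iff t).1 h1.symm, rfl⟩ 1 (by group)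
    -- transfer
    let τ : G →* P := MonoidHom.transfer (MonoidHom.id P)
    have hkey : ∀ (k : ℕ) (g₀ : G), g₀⁻¹ * (π : G) ^ k * g₀ ∈ (P : Subgroup G) →
        g₀⁻¹ * (π : G) ^ k * g₀ = (π : G) ^ k := by
      intro k g₀ hmem
      obtain ⟨n, hn, he⟩ := P.conj_eq_normalizer_conj_of_mem_centralizer ((π : G) ^ k) g₀
        ((P : Subgroup G).le_centralizer (pow_mem π.2 k)) ((P : Subgroup G).le_centralizer hmem)
      rw [he]
      have h2 := hfixed ⟨n, hn⟩⁻¹
      simp only [Subgroup.coe_inv, inv_inv] at h2
      calc n⁻¹ * (π : G) ^ k * n = (n⁻¹ * (π : G) * n⁻¹⁻¹) ^ k := by rw [conj_pow, inv_inv]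
        _ = (π : G) ^ k := by rw [inv_inv, h2]
    have h1 : τ (π : G) = π ^ (P : Subgroup G).index := by
      rw [MonoidHom.transfer_eq_pow (MonoidHom.id P) _ hkey]
      exact Subtype.ext (by simp)
    have h2 : τ (π : G) = 1 :=
      (Abelianization.commutator_subset_ker τ) (hperf ▸ Subgroup.mem_top _)
    have hidx : Odd (P : Subgroup G).index := Nat.odd_iff.2 (by have := P.not_dvd_index; omega)
    obtain ⟨k, hk⟩ := hidx
    rw [h1, hk, pow_succ, pow_mul, pow_two, hexp π, one_pow, one_mul] at h2
    exact hπ1 (h2 ▸ one_mem M)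

theorem isSolvable : ∀ {G : Type u} [Group G] [Finite G], SF G → Group.IsSolvable G := by
  suffices H : ∀ n, ∀ (G : Type u) [Group G] [Finite G], Nat.card G = n → SF G → Group.IsSolvable G from
    fun {G} _ _ h => H _ G rfl h
  intro n
  induction n using Nat.strong_induction_on with
  | _ n ih =>
  intro G _ _ hn h
  by_cases hc : IsMulCommutative G
  · exact Group.isSolvable_of_comm (fun a b => hc.is_comm.comm a b)
  haveI : Nontrivial G := by
    by_contra h'
    rw [not_nontrivial_iff_subsingleton] at h'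
    exact hc ⟨⟨fun a b => Subsingleton.elim _ _⟩⟩
  by_cases hs : IsSimpleGroup G
  · exact (not_simple hc h).elim
  obtain ⟨N, hN, hbot, htop⟩ : ∃ N : Subgroup G, N.Normal ∧ N ≠ ⊥ ∧ N ≠ ⊤ := by
    by_contra! hcon
    exact hs ⟨fun H hH => or_iff_not_imp_left.2 fun hb => hcon H hH hb⟩
  haveI := hN
  have hN1 : Nat.card N < n := hn ▸ lt_of_le_of_ne (Subgroup.card_le_card_group N) fun e =>
    htop (Subgroup.eq_top_of_card_eq N e)
  have h1 := ih _ hN1 N rfl (h.subgroup N)
  have h2 := ih _ (hn ▸ CfsgLib.SolvStruct.card_quotient_lt' hbot) (G ⧸ N) rfl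
    (h.of_surjective (QuotientGroup.mk'_surjective N))
  exact Group.isSolvable_of_ker_le_range N.subtype (QuotientGroup.mk' N)
    (by rw [QuotientGroup.ker_mk', N.range_subtype])

end


/-- Let G be a finite group in which no conjugacy class has size divisible by 4. Then G is solvable. -/
theorem result {G : Type*} [Group G] [Finite G]
    (h : ∀ x : G, ¬ 4 ∣ (Subgroup.centralizer ({x} : Set G)).index) : Group.IsSolvable G := isSolvable h

end Cfsg.Agent.S4167
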