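import Cfsg.Statements.S4169
import Cfsg.Agent.Lib.CharsMore.SmallClasses
import Cfsg.Agent.Lib.Base.Nilpotent
import Mathlib

set_option autoImplicit false
set_option linter.style.haveILetI false
open Cfsg

namespace Cfsg.Agent.S4169

/-- Let P be a finite p-group whose conjugacy classes have exactly two sizes (1 and one other value). Then P has nilpotency class at most 3. -/
theorem result {P : Type*} [Group P] [Finite P] {p : ℕ} [Fact p.Prime] (hP : IsPGroup p P)
    (m : ℕ) (hm : 1 < m) (h : ∀ x : P, (Subgroup.centralizer ({x} : Set P)).index = 1 ∨ (Subgroup.centralizer ({x} : Set P)).index = m) :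
    upperCentralSeries P 3 = ⊤ := by
  classical
  haveI : Group.IsNilpotent P := hP.isNilpotent
  obtain ⟨A, ⟨hAn, hAc⟩, hmax⟩ := (Set.toFinite {N : Subgroup P | N.Normal ∧
    IsMulCommutative N}).exists_maximal ⟨⊥, inferInstance, inferInstance⟩
  haveI := hAn
  haveI := hAc
  have hCA : Subgroup.centralizer (A : Set P) = A :=
    CfsgLib.Base.centralizer_eq_self_of_maximal fun M hM hMc h =>
      le_antisymm (hmax ⟨hM, hMc⟩ h) h
  have hmin : ∀ x : P, 1 < (Subgroup.centralizer ({x} : Set P)).index →
      m ≤ (Subgroup.centralizer ({x} : Set P)).index := by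
    intro x hx
    rcases h x with h1 | h1 <;> omega
  have key := CfsgLib.CharsMore.SmallClasses.upperCentralSeries_three_eq_top A hAc hCA m hmin
  have htop : Subgroup.closure {x : P | (Subgroup.centralizer ({x} : Set P)).index = 1 ∨
      (Subgroup.centralizer ({x} : Set P)).index = m} = ⊤ :=
    eq_top_iff.2 fun x _ => Subgroup.subset_closure (h x)
  rw [htop] at key
  let f : (⊤ : Subgroup P) →* P := (⊤ : Subgroup P).subtype
  have hf : Function.Surjective f := fun x => ⟨⟨x, trivial⟩, rfl⟩
  refine eq_top_iff.2 (le_trans ?_ (Subgroup.upperCentralSeries.map hf 3))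
  rw [key, Subgroup.map_top_of_surjective f hf]

end Cfsg.Agent.S4169
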