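import Cfsg.Statements.S4170
import Cfsg.Agent.Lib.Perm.PraegerSylow

set_option autoImplicit false
open scoped Pointwise
open scoped Pointwise
open Cfsg

namespace Cfsg.Agent.S4170

/-- Let p be an odd prime and G a nontrivial group of permutations of a finite set Ω that is generated by its elements of p-power order. Then Ω has two disjoint nonempty subsets Δ₁ and Δ₂ such that the index in G of the subgroup of elements mapping Δ₁ onto Δ₁ and Δ₂ onto Δ₂ (and hence also the complement of their union onto itself) is divisible by p. -/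
theorem result {Ω : Type*} [Fintype Ω] (p : ℕ) [Fact p.Prime] (hp : p ≠ 2) (G : Subgroup (Equiv.Perm Ω)) (hG : G ≠ ⊥) (hgen : Subgroup.closure {g : G | ∃ k : ℕ, orderOf g = p ^ k} = ⊤) :
    ∃ Δ₁ Δ₂ : Set Ω, Δ₁.Nonempty ∧ Δ₂.Nonempty ∧ Disjoint Δ₁ Δ₂ ∧ p ∣ (MulAction.stabilizer G Δ₁ ⊓ MulAction.stabilizer G Δ₂).index := by
  classical
  have hp1 := (Fact.out : p.Prime)
  obtain ⟨g, hg⟩ : ∃ g : G, g ≠ 1 ∧ ∃ k : ℕ, orderOf g = p ^ k := by
    by_contra h
    push_neg at h
    have hall : ∀ g : G, g = 1 := by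
      intro g
      have hmem : g ∈ Subgroup.closure {g : G | ∃ k : ℕ, orderOf g = p ^ k} := hgen ▸ Subgroup.mem_top g
      induction hmem using Subgroup.closure_induction with
      | mem x hx => by_contra hne; obtain ⟨k, hk⟩ := hx; exact h x hne k hk
      | one => rfl
      | mul x y _ _ hx hy => rw [hx, hy, one_mul]
      | inv x _ hx => rw [hx, inv_one]
    exact hG ((Subgroup.eq_bot_iff_forall G).2 fun x hx => congrArg Subtype.val (hall ⟨x, hx⟩))
  obtain ⟨hg1, k, hk⟩ := hg
  have hpG : p ∣ Nat.card G := by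
    refine dvd_trans ?_ (orderOf_dvd_natCard g)
    rw [hk]
    refine dvd_pow_self p fun h0 => hg1 ?_
    rw [h0, pow_zero, orderOf_eq_one_iff] at hk
    exact hk
  obtain ⟨x, hx⟩ := exists_prime_orderOf_dvd_card' p hpG
  have hx1 : x ≠ 1 := fun h => by rw [h, orderOf_one] at hx; exact hp1.one_lt.ne hx
  obtain ⟨a, ha⟩ : ∃ a : Ω, x • a ≠ a := by
    by_contra h
    push_neg at h
    exact hx1 (Subtype.ext (Equiv.ext fun a => h a))
  set C : Finset Ω := (Finset.range p).image fun i => (x ^ i) • a with hC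
  have hxp : x ^ p = 1 := hx ▸ pow_orderOf_eq_one x
  have haC : a ∈ C := Finset.mem_image.2 ⟨0, Finset.mem_range.2 hp1.pos, by rw [pow_zero, one_smul]⟩
  have hshift : ∀ b ∈ C, x • b ∈ C := by
    intro b hb
    obtain ⟨i, hi, rfl⟩ := Finset.mem_image.1 hb
    rw [← mul_smul, ← pow_succ']
    rcases lt_or_ge (i + 1) p with h | h
    · exact Finset.mem_image.2 ⟨i + 1, Finset.mem_range.2 h, rfl⟩
    · have : i + 1 = p := by have := Finset.mem_range.1 hi; omega
      rw [this, hxp, one_smul]; exact haC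
  have himg : C.image (fun b => x • b) = C :=
    Finset.eq_of_subset_of_card_le (Finset.image_subset_iff.2 hshift)
      (Finset.card_image_of_injective (s := C) (MulAction.injective x)).ge
  refine ⟨{a}, ((C.erase a : Finset Ω) : Set Ω), Set.singleton_nonempty a,
    ⟨x • a, Finset.mem_erase.2 ⟨ha, hshift a haC⟩⟩,
    Set.disjoint_singleton_left.2 fun h => (Finset.mem_erase.1 h).1 rfl, ?_⟩
  by_contra hdvd
  set H : Subgroup G := MulAction.stabilizer G ({a} : Set Ω) ⊓
    MulAction.stabilizer G ((C.erase a : Finset Ω) : Set Ω) with hH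
  obtain ⟨Q⟩ : Nonempty (Sylow p H) := inferInstance
  set Q' : Subgroup G := (Q : Subgroup H).map H.subtype with hQ'
  have hQH : Q' ≤ H := by
    rintro _ ⟨y, -, rfl⟩; exact y.2
  have hQp : IsPGroup p Q' := Q.isPGroup'.map H.subtype
  have hQcard : Nat.card Q' = Nat.card (Q : Subgroup H) :=
    Subgroup.card_map_of_injective H.subtype_injective
  have hfull : ¬ p ∣ Q'.index := by
    rw [hQ', Subgroup.index_map_of_injective _ H.subtype_injective, Subgroup.range_subtype]
    intro h
    rcases hp1.dvd_mul.1 h with h' | h'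
    · exact Q.not_dvd_index h'
    · exact hdvd h'
  obtain ⟨P, hP⟩ := hQp.exists_le_sylow
  have hPeq : Q' = (P : Subgroup G) := by
    by_contra hne
    have hrel : Q'.relIndex (P : Subgroup G) ∣ Q'.index := Subgroup.relIndex_dvd_index_of_le hP
    obtain ⟨n, hn⟩ := P.isPGroup'.index (Q'.subgroupOf (P : Subgroup G))
    rcases Nat.eq_zero_or_pos n with h0 | h0
    · subst h0
      rw [pow_zero, Subgroup.index_eq_one, Subgroup.subgroupOf_eq_top] at hn
      exact hne (le_antisymm hP hn)
    · exact hfull (dvd_trans (dvd_trans (dvd_pow_self p h0.ne') (dvd_of_eq hn.symm)) hrel)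
  have hfix : ∀ y ∈ Q', ∀ b ∈ C, y • b = b := by
    intro y hy b hb
    have hyH := hQH hy
    rw [hH, Subgroup.mem_inf, MulAction.mem_stabilizer_iff, MulAction.mem_stabilizer_iff] at hyH
    by_cases hba : b = a
    · have h2 := hyH.1
      rw [Set.smul_set_singleton, Set.singleton_eq_singleton_iff] at h2
      rw [hba]; exact h2
    have horb : MulAction.orbit Q' b ⊆ ((C.erase a : Finset Ω) : Set Ω) := by
      rintro _ ⟨z, rfl⟩
      have hzH := hQH z.2
      rw [hH, Subgroup.mem_inf, MulAction.mem_stabilizer_iff, MulAction.mem_stabilizer_iff] at hzH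
      exact hzH.2 ▸ Set.smul_mem_smul_set (Finset.mem_erase.2 ⟨hba, hb⟩)
    obtain ⟨n, hn⟩ := hQp.card_orbit b
    have hlt : p ^ n < p := by
      rw [← hn, Nat.card_coe_set_eq]
      refine (Set.ncard_le_ncard horb (Finset.finite_toSet _)).trans_lt ?_
      rw [Set.ncard_coe_finset, Finset.card_erase_of_mem haC]
      have : C.card ≤ p := Finset.card_image_le.trans (Finset.card_range p).le
      have := hp1.pos
      omega
    have hn0 : n = 0 := by
      by_contra h0
      exact absurd (Nat.le_self_pow h0 p) (not_le.2 hlt)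
    rw [hn0, pow_zero, Nat.card_eq_one_iff_unique] at hn
    have hs : Subsingleton ↥(MulAction.orbit Q' b) := hn.1
    exact congrArg Subtype.val (@Subsingleton.elim _ hs ⟨y • b, ⟨⟨y, hy⟩, rfl⟩⟩
      ⟨b, MulAction.mem_orbit_self b⟩)
  set D : Subgroup G := ⨅ b ∈ C, MulAction.stabilizer G b with hD
  have hPD : (P : Subgroup G) ≤ D := by
    rw [← hPeq]
    exact le_iInf₂ fun b hb y hy => MulAction.mem_stabilizer_iff.2 (hfix y hy b hb)
  have hnorm : CfsgLib.Perm.Praeger.cj x D = D := by
    ext z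
    simp only [CfsgLib.Perm.Praeger.mem_cj, hD, Subgroup.mem_iInf, MulAction.mem_stabilizer_iff]
    constructor
    · intro h b hb
      rw [← himg, Finset.mem_image] at hb
      obtain ⟨c, hc, rfl⟩ := hb
      have := h c hc
      rwa [mul_smul, mul_smul, inv_smul_eq_iff] at this
    · intro h b hb
      rw [mul_smul, mul_smul, inv_smul_eq_iff]
      exact h _ (hshift b hb)
  have hxD := CfsgLib.Perm.Praeger.mem_of_normalizes hPD ⟨1, by rw [pow_one, hxp]⟩ hnorm
  rw [hD] at hxD
  simp only [Subgroup.mem_iInf] at hxD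
  exact ha (MulAction.mem_stabilizer_iff.1 (hxD a haC))

end Cfsg.Agent.S4170
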