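import Cfsg.Statements.S4172
import Cfsg.Agent.Lib.Transfer.Tate
import Cfsg.Agent.Lib.PGroups.Basic
import Cfsg.Agent.Lib.Base.MinimalNormal
import Cfsg.Agent.Lib.Components.SchreierBalance
import Cfsg.Agent.Lib.Components.FStar

set_option autoImplicit false
open Cfsg Subgroup CfsgLib.Base CfsgLib.Components
open scoped commutatorElement Pointwise

namespace Cfsg.Agent.S4172

variable {G : Type*} [Group G] [Finite G] {p : ℕ} [Fact p.Prime]

theorem map_frattini_le {A B : Type*} [Group A] [Finite A] [Group B] [Finite B] (hA : IsPGroup p A)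
    (hB : IsPGroup p B) (f : A →* B) : (frattini A).map f ≤ frattini B := by
  haveI : ((frattini B).comap f).Normal := Normal.comap inferInstance f
  refine map_le_iff_le_comap.mpr (CfsgLib.PGroups.frattini_le_of_elementary_quotient (p := p) ?_ ?_)
  · refine le_trans ?_ (comap_mono (CfsgLib.PGroups.commutator_le_frattini hB))
    rw [← map_le_iff_le_comap, _root_.commutator_def, _root_.commutator_def, map_commutator]
    exact commutator_mono le_top le_top
  · intro a
    rw [mem_comap, map_pow]
    exact CfsgLib.PGroups.pow_mem_frattini hB _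

/-- A subgroup of `P` normalised by `P`, outside the Frattini subgroup of a two-generated `P`,
has cyclic quotient. -/
theorem exists_gen (P : Sylow p G) (hgen : (frattini ↥(P : Subgroup G)).index = p ^ 2) {A : Subgroup G}
    (hAP : A ≤ (P : Subgroup G)) (hPA : (P : Subgroup G) ≤ normalizer (A : Set G))
    (hA : ¬ A ≤ (frattini ↥(P : Subgroup G)).map (P : Subgroup G).subtype) :
    ∃ z ∈ (P : Subgroup G), A ⊔ zpowers z = (P : Subgroup G) ∧
      ⁅(P : Subgroup G), (P : Subgroup G)⁆ ≤ A := by
  set A' := A.subgroupOf (P : Subgroup G)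
  haveI : A'.Normal := normal_subgroupOf_of_le_normalizer hPA
  set X := A' ⊔ frattini ↥(P : Subgroup G)
  have hlt : frattini ↥(P : Subgroup G) < X := lt_of_le_of_ne le_sup_right fun he => hA fun a ha =>
    ⟨⟨a, hAP ha⟩, he.ge (mem_sup_left (mem_subgroupOf.mpr ha)), rfl⟩
  obtain ⟨z, hz⟩ : ∃ z : (P : Subgroup G), X ⊔ zpowers z = ⊤ := by
    by_cases hX : X = ⊤
    · exact ⟨1, by simp [hX]⟩
    obtain ⟨z, -, hz⟩ := SetLike.exists_of_lt (lt_top_iff_ne_top.mpr hX)
    refine ⟨z, index_eq_one.mp ?_⟩
    obtain ⟨i, hi⟩ := CfsgLib.PGroups.index_eq_pow P.2 X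
    obtain ⟨j, hj⟩ := CfsgLib.PGroups.index_eq_pow P.2 (X ⊔ zpowers z)
    have hp := (Fact.out : p.Prime)
    have h1 : X.index < p ^ 2 := hgen ▸ index_strictAnti hlt
    have h2 : (X ⊔ zpowers z).index < X.index := index_strictAnti
      (lt_of_le_of_ne le_sup_left fun he => hz (he.ge (mem_sup_right (mem_zpowers z))))
    rw [hi] at h1 h2
    rw [hj] at h2 ⊢
    have e1 := (Nat.pow_lt_pow_iff_right hp.one_lt).mp h1
    have e2 := (Nat.pow_lt_pow_iff_right hp.one_lt).mp h2
    rw [show j = 0 by omega, pow_zero]
  have htop : A' ⊔ zpowers z = ⊤ := frattini_nongenerating (by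
    rw [← hz]; simp only [X]; rw [sup_right_comm])
  refine ⟨(z : G), z.2, ?_, commutator_le.mpr fun a ha b hb => ?_⟩
  · have h := congrArg (Subgroup.map (P : Subgroup G).subtype) htop
    rwa [Subgroup.map_sup, map_subgroupOf_eq_of_le hAP, MonoidHom.map_zpowers,
      ← MonoidHom.range_eq_map, range_subtype] at h
  · have key : ∀ g : (P : Subgroup G), ∃ i : ℤ,
        QuotientGroup.mk' A' g = QuotientGroup.mk' A' z ^ i := by
      intro g
      obtain ⟨c, hc, w, ⟨i, rfl⟩, rfl⟩ := mem_sup_of_normal_left.mp (htop ▸ mem_top g)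
      exact ⟨i, by rw [map_mul, map_zpow, QuotientGroup.mk'_apply A' c,
        (QuotientGroup.eq_one_iff c).mpr hc, one_mul]⟩
    obtain ⟨i, hi⟩ := key ⟨a, ha⟩
    obtain ⟨j, hj⟩ := key ⟨b, hb⟩
    have h1 : ⁅(⟨a, ha⟩ : (P : Subgroup G)), ⟨b, hb⟩⁆ ∈ A' := by
      refine (QuotientGroup.eq_one_iff _).mp ?_
      rw [← QuotientGroup.mk'_apply, map_commutatorElement, hi, hj]
      exact commutatorElement_eq_one_iff_mul_comm.mpr ((Commute.refl _).zpow_zpow i j).eq
    exact mem_subgroupOf.mp h1

/-- Two disjoint such subgroups cannot exist in a nonabelian `P`. -/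
theorem disjoint_false (P : Sylow p G) (hna : ¬ IsMulCommutative (P : Subgroup G))
    (hgen : (frattini ↥(P : Subgroup G)).index = p ^ 2) {A B : Subgroup G}
    (hAP : A ≤ (P : Subgroup G)) (hBP : B ≤ (P : Subgroup G))
    (hPA : (P : Subgroup G) ≤ normalizer (A : Set G)) (hPB : (P : Subgroup G) ≤ normalizer (B : Set G))
    (hA : ¬ A ≤ (frattini ↥(P : Subgroup G)).map (P : Subgroup G).subtype)
    (hB : ¬ B ≤ (frattini ↥(P : Subgroup G)).map (P : Subgroup G).subtype)
    (hAB : A ⊓ B = ⊥) : False := by
  obtain ⟨-, -, -, h1⟩ := exists_gen P hgen hAP hPA hA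
  obtain ⟨-, -, -, h2⟩ := exists_gen P hgen hBP hPB hB
  refine hna ⟨⟨fun x y => Subtype.ext (commutatorElement_eq_one_iff_mul_comm.mp
    (mem_bot.mp (hAB ▸ ⟨h1 ?_, h2 ?_⟩)))⟩⟩ <;>
  exact commutator_mem_commutator x.2 y.2

theorem not_dvd_of_perfect {N : Type*} [Group N] [Finite N] (hperf : commutator N = ⊤)
    (h : Cfsg.HasNormalPComplement p N) : ¬ p ∣ Nat.card N := by
  obtain ⟨Q, K, hK, hc⟩ := h
  have hq : IsPGroup p (N ⧸ K) := IsPGroup.of_card
    (by rw [← index_eq_card, hc.symm.index_eq_card]; exact (IsPGroup.iff_card.mp Q.2).choose_spec)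
  haveI := hq.isNilpotent
  have h1 := perfect_hom_to_solvable hperf (QuotientGroup.mk' K)
  have hKt : K = ⊤ := by rw [← QuotientGroup.ker_mk' K, h1, MonoidHom.ker_one]
  intro hd
  refine Q.ne_bot_of_dvd_card hd (eq_bot_of_card_eq _ ?_)
  rw [← hc.symm.index_eq_card, hKt, index_top]

/-- Let p be a prime and G a finite group with a non-commutative Sylow p-subgroup P whose Frattini subgroup has index p² in P (P is generated by two elements). Suppose G has no nontrivial normal subgroup of order prime to p and the Frattini subgroup of P contains no nontrivial normal subgroup of G. Then the generalized Fitting subgroup F*(G) is the unique minimal normal subgroup of G, the image of P in G/F*(G) is cyclic, and if F*(G) is not commutative then P permutes the components of G transitively by conjugation. -/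
theorem result {G : Type*} [Group G] [Finite G] (p : ℕ) [Fact p.Prime] (P : Sylow p G) (hna : ¬ IsMulCommutative (P : Subgroup G)) (hgen : (frattini ↥(P : Subgroup G)).index = p ^ 2) (hcore : Cfsg.pPrimeCore p G = ⊥) (hfrat : ((frattini ↥(P : Subgroup G)).map (P : Subgroup G).subtype).normalCore = ⊥) [hFn : (Cfsg.generalizedFittingSubgroup G).Normal] :
    (Cfsg.generalizedFittingSubgroup G ≠ ⊥ ∧ ∀ K : Subgroup G, K.Normal → K ≠ ⊥ → Cfsg.generalizedFittingSubgroup G ≤ K) ∧
      IsCyclic ↥((P : Subgroup G).map (QuotientGroup.mk' (Cfsg.generalizedFittingSubgroup G))) ∧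
      (¬ IsMulCommutative (Cfsg.generalizedFittingSubgroup G) → ∀ K L : Subgroup G, Cfsg.IsComponent K → Cfsg.IsComponent L → ∃ x ∈ (P : Subgroup G), L = K.map (MulAut.conj x).toMonoidHom) := by
  have hp := (Fact.out : p.Prime)
  set Φ := (frattini ↥(P : Subgroup G)).map (P : Subgroup G).subtype with hΦ
  haveI hFit := fittingSubgroup_normal' G
  haveI hLn : (layer G).Normal := layer_normal
  have hNn : ∀ N : Subgroup G, N.Normal → (P : Subgroup G) ≤
      normalizer ((N ⊓ (P : Subgroup G) : Subgroup G) : Set G) := fun N hN => by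
    haveI := hN
    exact (le_inf le_normalizer_of_normal le_normalizer).trans inf_normalizer_le_normalizer_inf
  have hcorefree : ∀ N : Subgroup G, N.Normal → N ≤ Φ → N = ⊥ := fun N hN h => by
    haveI := hN
    exact le_bot_iff.mp (hfrat ▸ normal_le_normalCore.mpr h)
  -- normal subgroups leave the Frattini subgroup
  have hout : ∀ N : Subgroup G, N.Normal → N ≠ ⊥ → ¬ N ⊓ (P : Subgroup G) ≤ Φ := by
    intro N hN hne hle
    haveI := hN
    obtain ⟨Q, K, hKn, hc⟩ := CfsgLib.Transfer.hasNormalPComplement_of_inf_le_frattini P N hle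
    have hK : K.map N.subtype = ⊥ := by
      have h1 : ¬ p ∣ Nat.card K := by
        rw [← hc.index_eq_card]
        exact Q.not_dvd_index
      have h2 : K ≤ pPrimeCore p ↥N := le_pPrimeCore_of_not_dvd h1
      refine le_bot_iff.mp ((map_mono h2).trans ?_)
      rw [map_pPrimeCore_eq_inf, hcore, bot_inf_eq]
    have hNp : IsPGroup p N := by
      obtain ⟨k, hk⟩ := IsPGroup.iff_card.mp Q.2
      refine IsPGroup.of_card (n := k) ?_
      rw [← hc.card_mul_card, (map_eq_bot_iff_of_injective _ N.subtype_injective).mp hK,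
        card_bot, one_mul, hk]
    have hNP : N ≤ (P : Subgroup G) :=
      (le_pCore hNp).trans (pCore_le_sylow P)
    exact hne (hcorefree N hN (inf_eq_left.mpr hNP ▸ hle))
  -- uniqueness of the minimal normal subgroup
  have hmeet : ∀ A B : Subgroup G, A.Normal → B.Normal → A ≠ ⊥ → B ≠ ⊥ → A ⊓ B ≠ ⊥ := by
    intro A B hA hB hA1 hB1 hAB
    refine disjoint_false P hna hgen (inf_le_right : A ⊓ (P : Subgroup G) ≤ _)
      (inf_le_right : B ⊓ (P : Subgroup G) ≤ _) (hNn A hA) (hNn B hB) (hout A hA hA1) (hout B hB hB1)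
      (le_bot_iff.mp (hAB ▸ inf_le_inf inf_le_left inf_le_left))
  haveI : Nontrivial G := by
    by_contra hG
    rw [not_nontrivial_iff_subsingleton] at hG
    exact hna ⟨⟨fun x y => Subtype.ext (Subsingleton.elim _ _)⟩⟩
  obtain ⟨K, hK⟩ := exists_isMinimalNormal (G := G)
  haveI := hK.normal
  have huniq : ∀ N : Subgroup G, N.Normal → N ≠ ⊥ → K ≤ N := fun N hN hne => by
    haveI := hN
    exact (hK.le_or_inf_eq_bot N).resolve_right (hmeet K N hK.normal hN hK.ne_bot hne)
  obtain ⟨z, hzP, hKz, hPK⟩ := exists_gen P hgen (inf_le_right : K ⊓ (P : Subgroup G) ≤ _)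
    (hNn K hK.normal) (hout K hK.normal hK.ne_bot)
  have hFK : generalizedFittingSubgroup G = K := by
    by_cases hab : IsMulCommutative K
    · -- abelian socle
      obtain ⟨q, hq, -, hKexp, hKq⟩ := hK.exists_prime
        (Group.isSolvable_of_comm fun a b => hab.is_comm.comm a b)
      haveI := Fact.mk hq
      have hqp : q = p := by
        by_contra hne
        have h1 : ¬ p ∣ Nat.card K := fun hd => by
          obtain ⟨k, hk⟩ := IsPGroup.iff_card.mp hKq
          exact hne ((Nat.prime_eq_prime_of_dvd_pow hp hq (hk ▸ hd)).symm)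
        exact hK.ne_bot (le_bot_iff.mp (hcore ▸ le_pPrimeCore_of_not_dvd h1))
      subst hqp
      have hKP : K ≤ (P : Subgroup G) := (le_pCore hKq).trans (pCore_le_sylow P)
      have hKΦ : ¬ K ≤ Φ := fun h => hK.ne_bot (hcorefree K hK.normal h)
      rw [inf_eq_left.mpr hKP] at hKz hPK
      have hF : fittingSubgroup G = pCore q G :=
        fittingSubgroup_eq_pCore_of_pPrimeCore_eq_bot hcore
      have hKF : K ≤ fittingSubgroup G := hF ▸ le_pCore hKq
      -- no layer
      have hE : layer G = ⊥ := by
        by_contra hE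
        have hKE : K ≤ layer G := huniq _ hLn hE
        have hcent : ∀ k ∈ K, ∀ e ∈ layer G, e * k = k * e := fun k hk e he =>
          (mem_centralizer_iff.mp (layer_le_centralizer_fitting he) k (hKF hk)).symm
        set E := layer G
        set S₀ := (P : Subgroup G).subgroupOf E
        have hS₀ : IsPGroup q S₀ := P.2.comap_subtype
        let ι : S₀ →* (P : Subgroup G) :=
          { toFun := fun x => ⟨((x : E) : G), x.2⟩
            map_one' := rfl
            map_mul' := fun _ _ => rfl }
        obtain ⟨k, hk, hkΦ⟩ := SetLike.not_le_iff_exists.mp hKΦ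
        let k' : S₀ := ⟨⟨k, hKE hk⟩, hKP hk⟩
        have hk' : k' ∉ frattini S₀ := fun h => hkΦ
          ⟨ι k', map_frattini_le hS₀ P.2 ι (mem_map_of_mem ι h), rfl⟩
        obtain ⟨M, hM, hkM⟩ : ∃ M : Subgroup S₀, IsCoatom M ∧ k' ∉ M := by
          by_contra hall
          push Not at hall
          exact hk' (CfsgLib.PGroups.mem_frattini_iff.mpr hall)
        haveI := CfsgLib.PGroups.normal_of_isCoatom hS₀ hM
        let _ : CommGroup (S₀ ⧸ M) :=
          { (inferInstance : Group (S₀ ⧸ M)) with
            mul_comm := fun a b => by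
              obtain ⟨a, rfl⟩ := QuotientGroup.mk_surjective a
              obtain ⟨b, rfl⟩ := QuotientGroup.mk_surjective b
              exact commutatorElement_eq_one_iff_mul_comm.mp ((map_commutatorElement
                (QuotientGroup.mk' M) a b).symm.trans ((QuotientGroup.eq_one_iff (N := M) ⁅a, b⁆).mpr
                (CfsgLib.PGroups.commutator_le_of_isCoatom hS₀ hM
                  (commutator_mem_commutator (mem_top a) (mem_top b))))) }
        let φ : S₀ →* S₀ ⧸ M := QuotientGroup.mk' M
        have hkey : ∀ (i : ℕ) (g₀ : E), g₀⁻¹ * (k' : E) ^ i * g₀ ∈ S₀ →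
            g₀⁻¹ * (k' : E) ^ i * g₀ = (k' : E) ^ i := fun i g₀ _ => by
          have hc : Commute g₀ (k' : E) := Subtype.ext (hcent k hk g₀ g₀.2)
          rw [mul_assoc, ← (hc.pow_right i).eq, inv_mul_cancel_left]
        have h1 := MonoidHom.transfer_eq_pow φ (k' : E) hkey
        have hperf : commutator ↥E = ⊤ := (layer_isPerfect (G := G)).commutator_eq_top
        have h2 : MonoidHom.transfer φ (k' : E) = 1 :=
          Abelianization.commutator_subset_ker (MonoidHom.transfer φ) (hperf ▸ mem_top (k' : E))
        rw [h2] at h1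
        have h3 : φ k' ^ S₀.index = 1 := by
          rw [← map_pow, h1]
          exact congrArg φ (Subtype.ext (by simp))
        have hidx : ¬ q ∣ S₀.index := CfsgLib.Transfer.not_dvd_index_subgroupOf_of_normal P E
        obtain ⟨j, hj⟩ := (hS₀.to_quotient M).exists_orderOf_eq_pow (φ k')
        have h4 : orderOf (φ k') = 1 := Nat.eq_one_of_dvd_coprimes
          (Nat.Coprime.pow_left j ((hp.coprime_iff_not_dvd).mpr hidx)) (dvd_of_eq hj)
          (orderOf_dvd_of_pow_eq_one h3)
        exact hkM ((QuotientGroup.eq_one_iff k').mp (orderOf_eq_one_iff.mp h4))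
      show layer G ⊔ fittingSubgroup G = K
      rw [hE, bot_sup_eq, hF]
      -- `O_p(G) = K`
      set R := pCore q G with hR
      have hRP : R ≤ (P : Subgroup G) := pCore_le_sylow P
      have hKR : K ≤ R := le_pCore hKq
      have hRΦ : (frattini R).map R.subtype = ⊥ := by
        refine hcorefree _ ConjAct.normal_of_characteristic_of_normal ?_
        rw [hΦ, show R.subtype = (P : Subgroup G).subtype.comp (inclusion hRP) from rfl,
          ← Subgroup.map_map]
        exact map_mono (map_frattini_le (isPGroup_pCore q G) P.2 (inclusion hRP))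
      haveI hRc : IsMulCommutative R := ⟨⟨fun a b => by
        have h5 := CfsgLib.PGroups.commutator_le_frattini (isPGroup_pCore q G)
          (commutator_mem_commutator (mem_top a) (mem_top b))
        rw [(map_eq_bot_iff_of_injective _ R.subtype_injective).mp hRΦ, mem_bot] at h5
        exact commutatorElement_eq_one_iff_mul_comm.mp h5⟩⟩
      refine le_antisymm (fun v hv => ?_) hKR
      by_contra hvK
      have hPmem : ∀ g ∈ (P : Subgroup G), ∃ k ∈ K, ∃ i : ℤ, g = k * z ^ i := by
        intro g hg
        obtain ⟨k, hk, w, ⟨i, rfl⟩, rfl⟩ := mem_sup_of_normal_left.mp (hKz.ge hg)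
        exact ⟨k, hk, i, rfl⟩
      obtain ⟨k₀, hk₀, j, hj⟩ := hPmem v (hRP hv)
      set r := z ^ j
      have hrR : r ∈ R := by
        rw [show r = k₀⁻¹ * v by rw [hj, inv_mul_cancel_left]]
        exact mul_mem (inv_mem (hKR hk₀)) hv
      have hrK : r ∉ K := fun h => hvK (hj ▸ mul_mem hk₀ h)
      have hRcomm : ∀ a ∈ R, ∀ b ∈ R, a * b = b * a := fun a ha b hb =>
        congrArg Subtype.val (hRc.is_comm.comm ⟨a, ha⟩ ⟨b, hb⟩)
      have hrP : ∀ g ∈ (P : Subgroup G), g * r * g⁻¹ = r := by
        intro g hg
        obtain ⟨k, hk, i, rfl⟩ := hPmem g hg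
        have h6 : Commute (k * z ^ i) r :=
          Commute.mul_left (hRcomm k (hKR hk) r hrR) ((Commute.refl z).zpow_zpow i j)
        rw [h6.eq, mul_inv_cancel_right]
      set π := QuotientGroup.mk' K
      set G₀ := (centralizer ((R.map π : Subgroup (G ⧸ K)) : Set (G ⧸ K))).comap π
      haveI : G₀.Normal := by
        haveI : (R.map π).Normal := Normal.map inferInstance π (QuotientGroup.mk'_surjective K)
        exact Normal.comap inferInstance π
      have hPG₀ : (P : Subgroup G) ≤ G₀ := fun g hg => mem_comap.mpr (mem_centralizer_iff.mpr (by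
        rintro _ ⟨a, ha, rfl⟩
        refine commutatorElement_eq_one_iff_mul_comm.mp ?_
        rw [← map_commutatorElement]
        exact (QuotientGroup.eq_one_iff _).mpr (hPK (commutator_mem_commutator (hRP ha) hg))))
      have hbot : R ⊓ centralizer (G₀ : Set G) = ⊥ := by
        by_contra hne
        have hKc : K ≤ centralizer (G₀ : Set G) :=
          (huniq _ inferInstance hne).trans inf_le_right
        have hcomm : ∀ k ∈ K, ∀ g ∈ (P : Subgroup G), Commute g k := fun k hk g hg =>
          mem_centralizer_iff.mp (hKc hk) g (hPG₀ hg)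
        refine hna ⟨⟨fun a b => Subtype.ext ?_⟩⟩
        obtain ⟨k, hk, i, hi⟩ := hPmem a a.2
        obtain ⟨k', hk', i', hi'⟩ := hPmem b b.2
        show (a : G) * b = b * a
        rw [hi, hi']
        exact (Commute.mul_left
          (Commute.mul_right (hcomm k' hk' k (hKP hk))
            (hcomm k hk _ (zpow_mem hzP i')).symm)
          (Commute.mul_right (hcomm k' hk' _ (zpow_mem hzP i))
            ((Commute.refl z).zpow_zpow i i'))).eq
      classical
      set S' := (P : Subgroup G).subgroupOf G₀
      haveI := Fintype.ofFinite (↥G₀ ⧸ S')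
      let f₀ : G₀ → R := fun g => ⟨g * r * (g : G)⁻¹, (inferInstance : R.Normal).conj_mem r hrR g⟩
      let f : ↥G₀ ⧸ S' → R := Quotient.lift f₀ (fun a b hab => by
        have h7 := hrP _ (mem_subgroupOf.mp (QuotientGroup.leftRel_apply.mp hab))
        refine Subtype.ext ?_
        show (a : G) * r * (a : G)⁻¹ = b * r * (b : G)⁻¹
        conv_lhs => rw [← h7]
        simp only [Subgroup.coe_mul, Subgroup.coe_inv]
        group)
      let _ : CommGroup R := { (inferInstance : Group R) with mul_comm := hRc.is_comm.comm }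
      set ρ : R := ∏ c, f c
      have hρ : (ρ : G) ∈ centralizer (G₀ : Set G) := by
        refine mem_centralizer_iff.mpr fun h hh => ?_
        let c : R →* R :=
          { toFun := fun x => ⟨h * x * h⁻¹, (inferInstance : R.Normal).conj_mem _ x.2 h⟩
            map_one' := Subtype.ext (by simp)
            map_mul' := fun x y => Subtype.ext (by simp [mul_assoc]) }
        have h8 : c ρ = ρ := by
          rw [map_prod]
          refine Fintype.prod_equiv (MulAction.toPerm (⟨h, hh⟩ : G₀)) _ _ fun a => ?_
          obtain ⟨a, rfl⟩ := QuotientGroup.mk_surjective a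
          refine Subtype.ext ?_
          show h * ((a : G) * r * (a : G)⁻¹) * h⁻¹ = (h * a) * r * (h * a)⁻¹
          group
        exact mul_inv_eq_iff_eq_mul.mp (congrArg Subtype.val h8)
      have hρ1 : ρ = 1 := Subtype.ext (mem_bot.mp (hbot ▸ ⟨ρ.2, hρ⟩))
      let m : R →* G ⧸ K := π.comp R.subtype
      have hm : ∀ c, m (f c) = π r := by
        intro c
        obtain ⟨a, rfl⟩ := QuotientGroup.mk_surjective c
        show π ((a : G) * r * (a : G)⁻¹) = π r
        rw [map_mul, map_mul, map_inv, ← mem_centralizer_iff.mp a.2 (π r) (mem_map_of_mem π hrR),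
          mul_inv_cancel_right]
      have h9 : π r ^ Fintype.card (↥G₀ ⧸ S') = 1 := by
        have h10 : ∀ c, f c * (⟨r, hrR⟩ : R)⁻¹ ∈ m.ker := fun c => by
          rw [MonoidHom.mem_ker, map_mul, hm, map_inv]
          exact mul_inv_cancel (π r)
        have h11 := Subgroup.prod_mem m.ker (t := Finset.univ) (fun c _ => h10 c)
        rw [Finset.prod_mul_distrib, Finset.prod_const, Finset.card_univ] at h11
        change ρ * _ ∈ m.ker at h11
        rw [hρ1, one_mul, inv_pow, inv_mem_iff, MonoidHom.mem_ker, map_pow] at h11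
        exact h11
      have hidx : ¬ q ∣ S'.index := CfsgLib.Transfer.not_dvd_index_subgroupOf_of_normal P G₀
      rw [← Nat.card_eq_fintype_card, ← index_eq_card] at h9
      obtain ⟨i, hi⟩ := (P.2.map π).exists_orderOf_eq_pow ⟨π r, mem_map_of_mem π (hRP hrR)⟩
      rw [orderOf_mk] at hi
      have h12 : orderOf (π r) = 1 := Nat.eq_one_of_dvd_coprimes
        (Nat.Coprime.pow_left i ((hp.coprime_iff_not_dvd).mpr hidx)) (dvd_of_eq hi)
        (orderOf_dvd_of_pow_eq_one h9)
      exact hrK ((QuotientGroup.eq_one_iff r).mp (orderOf_eq_one_iff.mp h12))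
    · -- nonabelian socle
      have hF : fittingSubgroup G = ⊥ := by
        by_contra hne
        haveI : Group.IsNilpotent (fittingSubgroup G) := isNilpotent_fittingSubgroup G
        exact hab (hK.isMulCommutative (Group.isSolvable_of_isSolvable_injective
          (inclusion_injective (huniq _ hFit hne))))
      show layer G ⊔ fittingSubgroup G = K
      rw [hF, sup_bot_eq]
      refine le_antisymm (layer_le_iff.mpr fun L hL =>
        (component_le_or_commutator_eq_bot hL hK.normal.isSubnormal).resolve_right fun h => ?_) ?_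
      · have hC : centralizer (K : Set G) ≠ ⊥ := fun hb => component_ne_bot hL
          (le_bot_iff.mp (hb ▸ commutator_eq_bot_iff_le_centralizer.mp h))
        exact hab (le_centralizer_iff_isMulCommutative.mp (huniq _ inferInstance hC))
      · refine huniq _ hLn fun hE => ?_
        have h := centralizer_fstar_le_fitting (G := G)
        have hF' : generalizedFittingSubgroup G = ⊥ := by
          show layer G ⊔ fittingSubgroup G = ⊥
          rw [hE, hF, sup_bot_eq]
        rw [hF', hF, coe_bot] at h
        have hz0 : z = 1 := mem_bot.mp (h (mem_centralizer_iff.mpr (by simp)))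
        refine hna ⟨⟨fun a b => Subtype.ext ?_⟩⟩
        have ha : (a : G) = 1 := mem_bot.mp (h (mem_centralizer_iff.mpr (by simp)))
        show (a : G) * b = b * a
        simp [ha]
  refine ⟨⟨hFK ▸ hK.ne_bot, fun N hN hne => hFK ▸ huniq N hN hne⟩, ?_, fun hnab L₁ L₂ hL₁ hL₂ => ?_⟩
  · refine ⟨⟨QuotientGroup.mk' _ z, mem_map_of_mem _ hzP⟩, ?_⟩
    rintro ⟨_, g, hg, rfl⟩
    obtain ⟨y, hy, w, ⟨i, rfl⟩, rfl⟩ : g ∈ ((K ⊓ (P : Subgroup G) : Subgroup G) : Set G) *
        ((zpowers z : Subgroup G) : Set G) := by
      rw [← coe_mul_of_right_le_normalizer_left _ _ ((zpowers_le.mpr hzP).trans (hNn K hK.normal)),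
        hKz]
      exact hg
    refine ⟨i, Subtype.ext ?_⟩
    simp only [SubgroupClass.coe_zpow, QuotientGroup.mk'_apply, QuotientGroup.mk_mul,
      QuotientGroup.mk_zpow]
    rw [(QuotientGroup.eq_one_iff y).mpr (hFK ▸ hy.1), one_mul]
  · -- transitivity
    have hF : fittingSubgroup G = ⊥ := by
      by_contra hne
      haveI : Group.IsNilpotent (fittingSubgroup G) := isNilpotent_fittingSubgroup G
      exact hnab (hFK ▸ hK.isMulCommutative (Group.isSolvable_of_isSolvable_injective
        (inclusion_injective (huniq _ hFit hne))))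
    by_contra hno
    push Not at hno
    let orb : Subgroup G → Subgroup G := fun L =>
      ⨆ x : (P : Subgroup G), L.map (MulAut.conj (x : G)).toMonoidHom
    have hself : ∀ L : Subgroup G, L ≤ orb L := fun L => le_iSup_of_le 1 (by
      intro y hy; exact ⟨y, hy, by simp⟩)
    have horbP : ∀ L : Subgroup G, (P : Subgroup G) ≤ normalizer (orb L : Set G) := by
      intro L g hg
      refine map_conj_eq_self_iff.mp ?_
      simp only [orb, Subgroup.map_iSup, Subgroup.map_map]
      refine Equiv.iSup_congr (Equiv.mulLeft (⟨g, hg⟩ : (P : Subgroup G))) fun x => ?_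
      congr 1
      ext y
      simp [mul_assoc]
    have horbE : ∀ L, IsComponent L → orb L ≤ layer G := fun L hL =>
      iSup_le fun x => component_le_layer (isComponent_conj hL _)
    have horbperf : ∀ L, IsComponent L → ⁅orb L, orb L⁆ = orb L := fun L hL =>
      le_antisymm (commutator_self_le _) (iSup_le fun x =>
        (component_commutator_self (isComponent_conj hL (x : G))).ge.trans
          (commutator_mono (le_iSup (fun x : (P : Subgroup G) => L.map (MulAut.conj (x : G)).toMonoidHom) x)
            (le_iSup (fun x : (P : Subgroup G) => L.map (MulAut.conj (x : G)).toMonoidHom) x)))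
    have houtE : ∀ L, IsComponent L → ¬ orb L ⊓ (P : Subgroup G) ≤ Φ := by
      intro L hL hle
      set M := orb L
      set X := M ⊔ (P : Subgroup G)
      haveI : (M.subgroupOf X).Normal :=
        normal_subgroupOf_of_le_normalizer (sup_le le_normalizer (horbP L))
      set PX : Sylow p X := P.subtype le_sup_right
      have hPX : ((PX : Subgroup X)) = (P : Subgroup G).subgroupOf X := rfl
      have hle' : M.subgroupOf X ⊓ (PX : Subgroup X) ≤
          (frattini (PX : Subgroup X)).map (PX : Subgroup X).subtype := by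
        intro x hx
        obtain ⟨w, hw, hwx⟩ := hle ⟨mem_subgroupOf.mp hx.1, mem_subgroupOf.mp (hPX.le hx.2)⟩
        let ι : (P : Subgroup G) →* (PX : Subgroup X) :=
          { toFun := fun g => ⟨⟨g, mem_sup_right g.2⟩, g.2⟩
            map_one' := rfl
            map_mul' := fun _ _ => rfl }
        exact ⟨ι w, map_frattini_le P.2 PX.2 ι (mem_map_of_mem ι hw), Subtype.ext hwx⟩
      have hperf : commutator ↥(M.subgroupOf X) = ⊤ := by
        apply map_injective (f := X.subtype.comp (M.subgroupOf X).subtype)
          (X.subtype_injective.comp (M.subgroupOf X).subtype_injective)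
        rw [_root_.commutator_def, map_commutator, ← Subgroup.map_map, ← MonoidHom.range_eq_map,
          range_subtype, map_subgroupOf_eq_of_le le_sup_left]
        exact horbperf L hL
      have hnd := not_dvd_of_perfect hperf
        (CfsgLib.Transfer.hasNormalPComplement_of_inf_le_frattini PX (M.subgroupOf X) hle')
      rw [Nat.card_congr (subgroupOfEquivOfLe (le_sup_left : M ≤ X)).toEquiv] at hnd
      haveI : (L.subgroupOf (layer G)).Normal := component_normal_in_layer hL
      have h1 : L.subgroupOf (layer G) ≤ pPrimeCore p ↥(layer G) := le_pPrimeCore_of_not_dvd (by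
        rw [Nat.card_congr (subgroupOfEquivOfLe (component_le_layer hL)).toEquiv]
        exact fun h => hnd (h.trans (card_dvd_of_le (hself L))))
      apply component_ne_bot hL
      refine le_bot_iff.mp ?_
      rw [← map_subgroupOf_eq_of_le (component_le_layer hL)]
      refine (map_mono h1).trans ?_
      rw [map_pPrimeCore_eq_inf, hcore, bot_inf_eq]
    refine disjoint_false P hna hgen (inf_le_right : orb L₁ ⊓ (P : Subgroup G) ≤ _)
      (inf_le_right : orb L₂ ⊓ (P : Subgroup G) ≤ _)
      ((le_inf (horbP L₁) le_normalizer).trans inf_normalizer_le_normalizer_inf)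
      ((le_inf (horbP L₂) le_normalizer).trans inf_normalizer_le_normalizer_inf)
      (houtE L₁ hL₁) (houtE L₂ hL₂) ?_
    have hcomm12 : ⁅orb L₁, orb L₂⁆ = ⊥ := by
      rw [commutator_eq_bot_iff_le_centralizer]
      refine iSup_le fun x => le_centralizer_iff.mp (iSup_le fun y => le_centralizer_iff.mp ?_)
      rw [← commutator_eq_bot_iff_le_centralizer]
      refine components_commute (isComponent_conj hL₁ _) (isComponent_conj hL₂ _) fun he => ?_
      refine hno ((y : G)⁻¹ * x) (mul_mem (inv_mem y.2) x.2) ?_
      have h13 := congrArg (Subgroup.map (MulAut.conj (y : G)⁻¹).toMonoidHom) he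
      simp only [Subgroup.map_map] at h13
      convert h13.symm using 1
      · convert (Subgroup.map_id L₂).symm using 2
        ext w
        simp [mul_assoc]
      · congr 1
        ext w
        simp [mul_assoc]
    refine le_bot_iff.mp ((inf_le_inf inf_le_left inf_le_left).trans ?_)
    intro w hw
    have hZ : layer G ⊓ centralizer (layer G : Set G) = ⊥ := by
      rw [← fitting_inf_layer_eq, hF, bot_inf_eq]
    rw [← hZ]
    refine ⟨horbE L₁ hL₁ hw.1, ?_⟩
    have hle : layer G ≤ centralizer ({w} : Set G) := layer_le_iff.mpr fun N hN => by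
      by_cases hN1 : ∃ x : (P : Subgroup G), N = L₁.map (MulAut.conj (x : G)).toMonoidHom
      · obtain ⟨x, rfl⟩ := hN1
        refine le_trans ?_ (centralizer_le (Set.singleton_subset_iff.mpr hw.2))
        exact (le_iSup (fun x : (P : Subgroup G) => L₁.map (MulAut.conj (x : G)).toMonoidHom) x).trans
          (commutator_eq_bot_iff_le_centralizer.mp hcomm12)
      · push Not at hN1
        refine le_trans ?_ (centralizer_le (Set.singleton_subset_iff.mpr hw.1))
        refine le_centralizer_iff.mp ?_
        exact iSup_le fun x => commutator_eq_bot_iff_le_centralizer.mp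
          (components_commute (isComponent_conj hL₁ _) hN (hN1 x).symm)
    exact mem_centralizer_iff.mpr fun e he => mem_centralizer_singleton_iff.mp (hle he)

end Cfsg.Agent.S4172
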