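import Cfsg.Statements.S4176
import Mathlib
import Cfsg.Agent.Lib.Coprime.Hall
import Cfsg.Agent.Lib.PLocal.PSolvable

set_option autoImplicit false
set_option linter.style.haveILetI false
open Cfsg

namespace Cfsg.Agent.S4176

section
variable {k V H : Type*} [Field k] [AddCommGroup V] [Module k V] [Group H] [Finite H]
  (ρ : Representation k H V)

theorem apply_mul (g h : H) (v : V) : ρ (g * h) v = ρ g (ρ h v) := by rw [map_mul]; rfl

/-- The stabiliser of a vector. -/
def stab (v : V) : Subgroup H where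
  carrier := {h | ρ h v = v}
  mul_mem' {g h} hg hh := by
    show ρ (g * h) v = v
    rw [apply_mul ρ, show ρ h v = v from hh]; exact hg
  one_mem' := by show ρ 1 v = v; simp
  inv_mem' {g} hg := by
    show ρ g⁻¹ v = v
    conv_lhs => rw [← show ρ g v = v from hg]
    rw [← apply_mul ρ, inv_mul_cancel, map_one]; rfl

theorem card_orbit (v : V) :
    Nat.card {u : V | ∃ h : H, ρ h v = u} = (stab ρ v).index := by
  rw [Subgroup.index_eq_card]
  have hwd : ∀ g g' : H, (g : H ⧸ stab ρ v) = g' ↔ ρ g v = ρ g' v := by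
    intro g g'
    rw [QuotientGroup.eq]
    show ρ (g⁻¹ * g') v = v ↔ _
    constructor
    · intro h
      conv_lhs => rw [← h]
      rw [← apply_mul ρ, mul_inv_cancel_left]
    · intro h
      rw [apply_mul ρ, ← h, ← apply_mul ρ, inv_mul_cancel, map_one]; rfl
  refine (Nat.card_congr (Equiv.ofBijective (Quotient.lift (fun g : H => (⟨ρ g v, g, rfl⟩ : {u : V | ∃ h : H, ρ h v = u}))
    fun g g' hgg => Subtype.ext ((hwd g g').mp (Quotient.sound hgg))) ⟨?_, ?_⟩)).symm
  · rintro ⟨g⟩ ⟨g'⟩ h
    exact (hwd g g').mpr (congrArg Subtype.val h :)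
  · rintro ⟨_, g, rfl⟩
    exact ⟨QuotientGroup.mk g, rfl⟩

theorem key (p : ℕ) [Fact p.Prime] [CharP k p] (hsol : Cfsg.IsPSolvable p H) (a : V)
    (hm : ¬ p ∣ (stab ρ a).index)
    (hspan : Submodule.span k {u : V | ∃ h : H, ρ h a = u} = ⊤)
    (b : V) (hcop : (stab ρ a).index.Coprime (stab ρ b).index) :
    ∃ s : V, (∀ h, ρ h s = s) ∧ (∃ (c : k), b = c • s) ∧
      s = ∑ᶠ x : H ⧸ stab ρ a, ρ x.out a := by
  classical
  haveI := Fintype.ofFinite H
  set A := stab ρ a
  set B := stab ρ b
  obtain ⟨Q₀, hQ₀, -⟩ := CfsgLib.Coprime.hallD_compl_of_pSolvable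
    (CfsgLib.PLocal.isPSolvable_subgroup hsol B)
  let Q := Q₀.map B.subtype
  have hQB : Q ≤ B := Subgroup.map_subtype_le Q₀
  have hQcard : Nat.card Q = Nat.card Q₀ := Subgroup.card_map_of_injective B.subtype_injective
  have hQp : ¬ p ∣ Nat.card Q := fun hd => hQ₀.1 p Fact.out (hQcard ▸ hd) rfl
  have hQind : A.index.Coprime Q.index := by
    rw [← Subgroup.relIndex_mul_index hQB]
    refine Nat.Coprime.mul_right ?_ hcop
    refine Nat.coprime_of_dvd fun r hr hrA hrQ => ?_
    have hrp : r ≠ p := fun e => hm (e ▸ hrA)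
    refine hQ₀.2 r hr hrp ?_
    rwa [show Q.relIndex B = Q₀.index from ?_] at hrQ
    show (Q.subgroupOf B).index = Q₀.index
    rw [show Q.subgroupOf B = Q₀ from Subgroup.comap_map_eq_self_of_injective B.subtype_injective Q₀]
  -- `Q` is transitive on the cosets of `A`
  have hrel : A.relIndex Q = A.index := by
    refine le_antisymm ?_ (Nat.le_of_dvd ?_ ?_)
    · exact (Subgroup.relIndex_le_of_le_right (H := A) le_top (by rw [Subgroup.relIndex_top_right]; exact Subgroup.index_ne_zero_of_finite)).trans_eq A.relIndex_top_right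
    · exact Nat.pos_of_ne_zero Subgroup.index_ne_zero_of_finite
    · refine hQind.dvd_of_dvd_mul_right ?_
      have e : (A ⊓ Q).index = A.relIndex Q * Q.index := by
        rw [← Subgroup.relIndex_mul_index (inf_le_right : A ⊓ Q ≤ Q), Subgroup.inf_relIndex_right]
      rw [← e]
      exact Subgroup.index_dvd_of_le inf_le_left
  let φ : Q → H ⧸ A := fun q => ((q : H) : H ⧸ A)
  let ψ : Q ⧸ A.subgroupOf Q → H ⧸ A := Quotient.lift φ fun q q' h => by
    refine QuotientGroup.eq.mpr ?_
    have := QuotientGroup.leftRel_apply.mp h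
    exact this
  have hψ : Function.Bijective ψ := by
    rw [Nat.bijective_iff_injective_and_card]
    refine ⟨?_, ?_⟩
    · rintro ⟨q⟩ ⟨q'⟩ h
      exact QuotientGroup.eq.mpr (QuotientGroup.eq.mp h :)
    · rw [← Subgroup.index_eq_card, ← Subgroup.index_eq_card]
      exact hrel
  let F : H ⧸ A → V := Quotient.lift (fun g => ρ g a) fun g g' h => by
    have h1 : ρ (g⁻¹ * g') a = a := QuotientGroup.leftRel_apply.mp h
    show ρ g a = ρ g' a
    conv_lhs => rw [← h1]
    rw [← apply_mul ρ, mul_inv_cancel_left]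
  have hFout : ∀ x : H ⧸ A, ρ x.out a = F x := fun x => by
    conv_rhs => rw [← QuotientGroup.out_eq' x]
    rfl
  have hFs : ∀ (g : H) (x : H ⧸ A), ρ g (F x) = F (g • x) := by
    intro g x
    induction x using QuotientGroup.induction_on with
    | H y => exact (apply_mul ρ g y a).symm
  set s := ∑ᶠ x : H ⧸ A, ρ x.out a with hs
  have hs' : s = ∑ x : H ⧸ A, F x := by
    rw [hs, finsum_eq_sum_of_fintype]
    exact Finset.sum_congr rfl fun x _ => hFout x
  have hsfix : ∀ g, ρ g s = s := by
    intro g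
    rw [hs', map_sum]
    simp only [hFs]
    exact Equiv.sum_comp (MulAction.toPerm g) F
  refine ⟨s, hsfix, ?_, rfl⟩
  let Φ : V →ₗ[k] V := ∑ q : Q, ρ (q : H)
  have hΦ : ∀ v, Φ v = ∑ q : Q, ρ (q : H) v := fun v => by
    simp [Φ, LinearMap.sum_apply]
  have hΦa : Φ a = (Nat.card (A.subgroupOf Q)) • s := by
    rw [hΦ, hs', ← Equiv.sum_comp (Equiv.ofBijective ψ hψ) F,
      ← Equiv.sum_comp (Subgroup.groupEquivQuotientProdSubgroup (s := A.subgroupOf Q)).symm,
      Fintype.sum_prod_type, Finset.smul_sum]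
    refine Finset.sum_congr rfl fun x _ => ?_
    rw [Finset.sum_congr rfl (g := fun _ => F (ψ x)) fun y _ => ?_, Finset.sum_const, Finset.card_univ,
      Nat.card_eq_fintype_card]
    · rfl
    · show F ((Subgroup.groupEquivQuotientProdSubgroup.symm (x, y) : Q) : H) = F (ψ x)
      congr 1
      have h1 : ((Subgroup.groupEquivQuotientProdSubgroup.symm (x, y) : Q) : Q ⧸ A.subgroupOf Q) = x := by
        have h2 := Equiv.apply_symm_apply (Subgroup.groupEquivQuotientProdSubgroup (s := A.subgroupOf Q)) (x, y)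
        exact congrArg Prod.fst h2
      conv_rhs => rw [← h1]
      rfl
  have hline : ∀ v : V, ∃ c : k, Φ v = c • s := by
    intro v
    have hv : v ∈ Submodule.span k {u : V | ∃ h : H, ρ h a = u} := by rw [hspan]; trivial
    induction hv using Submodule.span_induction with
    | mem u hu =>
      obtain ⟨g, rfl⟩ := hu
      obtain ⟨x, hx⟩ := hψ.2 (g : H ⧸ A)
      induction x using QuotientGroup.induction_on with
      | H q₀ =>
        have he : ρ g a = ρ (q₀ : H) a := by
          have h1 : ((q₀ : H) : H ⧸ A) = (g : H ⧸ A) := hx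
          exact (congrArg F h1).symm
        refine ⟨(Nat.card (A.subgroupOf Q) : k), ?_⟩
        rw [Nat.cast_smul_eq_nsmul, ← hΦa, he, hΦ, hΦ]
        simp_rw [← apply_mul ρ]
        exact Equiv.sum_comp (Equiv.mulRight q₀) (fun q : Q => ρ (q : H) a)
    | zero => exact ⟨0, by rw [map_zero, zero_smul]⟩
    | add u w _ _ hu hw =>
      obtain ⟨c, hc⟩ := hu
      obtain ⟨d, hd⟩ := hw
      exact ⟨c + d, by rw [map_add, hc, hd, add_smul]⟩
    | smul t u _ hu =>
      obtain ⟨c, hc⟩ := hu
      exact ⟨t * c, by rw [map_smul, hc, smul_smul]⟩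
  obtain ⟨c, hc⟩ := hline b
  have hΦb : Φ b = (Nat.card Q : k) • b := by
    rw [hΦ, Finset.sum_congr rfl (g := fun _ => b) fun q _ => ?_, Finset.sum_const, Finset.card_univ,
      Nat.card_eq_fintype_card, Nat.cast_smul_eq_nsmul]
    exact hQB q.2
  have hne : (Nat.card Q : k) ≠ 0 := fun h => hQp ((CharP.cast_eq_zero_iff k p _).mp h)
  refine ⟨(Nat.card Q : k)⁻¹ * c, ?_⟩
  rw [← smul_smul, ← hc, hΦb, smul_smul, inv_mul_cancel₀ hne, one_smul]

end


/-- Let k be a field of prime characteristic p, H a finite p-soluble group and ρ a k-linear representation of H on V. Let a be a vector that is fixed by some Sylow p-subgroup of H and whose H-orbit spans V. Then the space of H-fixed vectors has dimension at most 1, and every vector b whose H-orbit has size coprime to the size of the orbit of a is fixed by H. -/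
theorem result {k V H : Type*} [Field k] (p : ℕ) [Fact p.Prime] [CharP k p] [AddCommGroup V] [Module k V]
    [Group H] [Finite H] (hsol : Cfsg.IsPSolvable p H) (ρ : Representation k H V) (a : V)
    (hfix : ∃ P : Sylow p H, ∀ x : H, x ∈ (P : Subgroup H) → ρ x a = a)
    (hspan : Submodule.span k {u : V | ∃ h : H, ρ h a = u} = ⊤) :
    Module.finrank k ρ.invariants ≤ 1 ∧
    ∀ b : V, (Nat.card {u : V | ∃ h : H, ρ h a = u}).Coprime (Nat.card {u : V | ∃ h : H, ρ h b = u}) → ∀ h : H, ρ h b = b := by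
  obtain ⟨P, hP⟩ := hfix
  have hm : ¬ p ∣ (stab ρ a).index := fun hd =>
    P.not_dvd_index (hd.trans (Subgroup.index_dvd_of_le (fun x hx => hP x hx)))
  constructor
  · set s := ∑ᶠ x : H ⧸ stab ρ a, ρ x.out a with hs
    have hle : ρ.invariants ≤ Submodule.span k {s} := by
      intro v hv
      have hv' : stab ρ v = ⊤ := by
        rw [eq_top_iff]; exact fun g _ => hv g
      obtain ⟨_, -, ⟨c, hc⟩, rfl⟩ := key ρ p hsol a hm hspan v (by rw [hv', Subgroup.index_top]; exact Nat.coprime_one_right _)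
      exact Submodule.mem_span_singleton.mpr ⟨c, hc.symm⟩
    refine (Submodule.finrank_mono hle).trans ?_
    refine (finrank_span_le_card ({s} : Set V)).trans ?_
    simp
  · intro b hcop h
    rw [card_orbit ρ a, card_orbit ρ b] at hcop
    obtain ⟨s, hs, ⟨c, rfl⟩, -⟩ := key ρ p hsol a hm hspan b hcop
    rw [map_smul, hs]

end Cfsg.Agent.S4176
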