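import Cfsg.Statements.S4177
import Mathlib

set_option autoImplicit false
open Cfsg

namespace Cfsg.Agent.S4177

/-- Let k be a field whose characteristic does not divide the order of the finite group H (for instance a field of characteristic zero), and ρ a k-linear representation of H on V. Let a be a vector whose H-orbit spans V. Then the space of H-fixed vectors has dimension at most 1, and every vector b whose H-orbit has size coprime to the size of the orbit of a is fixed by H. -/
theorem result {k V H : Type*} [Field k] [AddCommGroup V] [Module k V] [Group H] [Finite H]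
    (hchar : ¬ ringChar k ∣ Nat.card H) (ρ : Representation k H V) (a : V)
    (hspan : Submodule.span k {u : V | ∃ h : H, ρ h a = u} = ⊤) :
    Module.finrank k ρ.invariants ≤ 1 ∧
    ∀ b : V, (Nat.card {u : V | ∃ h : H, ρ h a = u}).Coprime (Nat.card {u : V | ∃ h : H, ρ h b = u}) → ∀ h : H, ρ h b = b := by
  classical
  have : Fintype H := Fintype.ofFinite H
  have hnc : ∀ B : Subgroup H, (Nat.card B : k) ≠ 0 := fun B h =>
    hchar (((ringChar.spec k _).mp h).trans B.card_subgroup_dvd_card)
  have hnH : (Nat.card H : k) ≠ 0 := fun h => hchar ((ringChar.spec k _).mp h)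
  have hρmul : ∀ (g g' : H) (v : V), ρ (g * g') v = ρ g (ρ g' v) := fun g g' v => by
    rw [map_mul]; rfl
  set s := ∑ h : H, ρ h a with hs
  have hsfix : ∀ g : H, ρ g s = s := by
    intro g
    rw [hs, map_sum]
    exact Fintype.sum_equiv (Equiv.mulLeft g) _ _ (fun h => (hρmul g h a).symm)
  refine ⟨?_, ?_⟩
  · -- the average of every vector is a multiple of `s`
    let P : V →ₗ[k] V := ∑ h : H, ρ h
    have hP : ∀ v, P v ∈ k ∙ s := by
      intro v
      have hv : v ∈ Submodule.span k {u : V | ∃ h : H, ρ h a = u} := hspan ▸ Submodule.mem_top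
      induction hv using Submodule.span_induction with
      | mem u hu =>
        obtain ⟨g, rfl⟩ := hu
        have : P (ρ g a) = s := by
          simp only [P, LinearMap.sum_apply, hs]
          exact Fintype.sum_equiv (Equiv.mulRight g) _ _ (fun h => (hρmul h g a).symm)
        rw [this]
        exact Submodule.mem_span_singleton_self s
      | zero => simp
      | add x y _ _ hx hy => rw [map_add]; exact Submodule.add_mem _ hx hy
      | smul c x _ hx => rw [map_smul]; exact Submodule.smul_mem _ c hx
    have hle : ρ.invariants ≤ k ∙ s := by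
      intro v hv
      have h1 : P v = (Nat.card H : k) • v := by
        simp only [P, LinearMap.sum_apply, fun h => (Representation.mem_invariants _ v).mp hv h,
          Finset.sum_const, Finset.card_univ, Nat.card_eq_fintype_card, Nat.cast_smul_eq_nsmul]
      have h2 := Submodule.smul_mem (k ∙ s) (Nat.card H : k)⁻¹ (hP v)
      rwa [h1, inv_smul_smul₀ hnH] at h2
    exact (Submodule.finrank_mono hle).trans (finrank_span_le_card {s} |>.trans (by simp))
  intro b hb
  let act : MulAction H V :=
    { smul := fun h v => ρ h v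
      one_smul := fun v => by show ρ 1 v = v; rw [map_one]; rfl
      mul_smul := hρmul }
  have horb : ∀ c : V, {u : V | ∃ h : H, ρ h c = u} = MulAction.orbit H c := fun c => rfl
  set A := MulAction.stabilizer H a with hA
  set B := MulAction.stabilizer H b with hB
  have hbfix : ∀ β : B, ρ β b = b := fun β => β.2
  rw [horb, horb, Nat.card_coe_set_eq, Nat.card_coe_set_eq, ← MulAction.index_stabilizer,
    ← MulAction.index_stabilizer, ← hA, ← hB] at hb
  -- the stabilizer of `b` is transitive on the orbit of `a`
  have hrel : A.index ≤ A.relIndex B := by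
    refine Nat.le_of_dvd (Nat.pos_of_ne_zero Subgroup.index_ne_zero_of_finite) (hb.dvd_of_dvd_mul_right ?_)
    rw [← Subgroup.inf_relIndex_right, Subgroup.relIndex_mul_index inf_le_right]
    exact Subgroup.index_dvd_of_le inf_le_left
  have hsub : MulAction.orbit B a ⊆ MulAction.orbit H a := by
    rintro _ ⟨β, rfl⟩
    exact ⟨β.1, rfl⟩
  have heq : MulAction.orbit B a = MulAction.orbit H a := by
    refine Set.eq_of_subset_of_ncard_le hsub ?_ (Set.finite_range _)
    rw [← MulAction.index_stabilizer, ← MulAction.index_stabilizer]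
    refine le_trans (le_of_eq rfl) (hrel.trans (le_of_eq ?_))
    rfl
  let PB : V →ₗ[k] V := ∑ β : B, ρ (β : H)
  have hPB : ∀ v, PB v ∈ k ∙ PB a := by
    intro v
    have hv : v ∈ Submodule.span k {u : V | ∃ h : H, ρ h a = u} := hspan ▸ Submodule.mem_top
    induction hv using Submodule.span_induction with
    | mem u hu =>
      obtain ⟨g, rfl⟩ := hu
      obtain ⟨β₀, hβ₀⟩ : ρ g a ∈ MulAction.orbit B a := heq ▸ ⟨g, rfl⟩
      have : PB (ρ g a) = PB a := by
        rw [← (show ρ (β₀ : H) a = ρ g a from hβ₀)]
        simp only [PB, LinearMap.sum_apply]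
        exact Fintype.sum_equiv (Equiv.mulRight β₀) _ _ (fun h => (hρmul h.1 β₀.1 a).symm)
      rw [this]
      exact Submodule.mem_span_singleton_self _
    | zero => simp
    | add x y _ _ hx hy => rw [map_add]; exact Submodule.add_mem _ hx hy
    | smul c x _ hx => rw [map_smul]; exact Submodule.smul_mem _ c hx
  have hsconst : PB s = (Nat.card H : k) • PB a := by
    rw [hs, map_sum]
    have : ∀ h : H, PB (ρ h a) = PB a := by
      intro g
      obtain ⟨β₀, hβ₀⟩ : ρ g a ∈ MulAction.orbit B a := heq ▸ ⟨g, rfl⟩
      rw [← (show ρ (β₀ : H) a = ρ g a from hβ₀)]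
      simp only [PB, LinearMap.sum_apply]
      exact Fintype.sum_equiv (Equiv.mulRight β₀) _ _ (fun h => (hρmul h.1 β₀.1 a).symm)
    simp only [this, Finset.sum_const, Finset.card_univ, Nat.card_eq_fintype_card, Nat.cast_smul_eq_nsmul]
  have hsB : PB s = (Nat.card B : k) • s := by
    simp only [PB, LinearMap.sum_apply, hsfix, Finset.sum_const, Finset.card_univ,
      Nat.card_eq_fintype_card, Nat.cast_smul_eq_nsmul]
  have hbB : PB b = (Nat.card B : k) • b := by
    simp only [PB, LinearMap.sum_apply, hbfix, Finset.sum_const, Finset.card_univ,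
      Nat.card_eq_fintype_card, Nat.cast_smul_eq_nsmul]
  obtain ⟨c, hc⟩ := Submodule.mem_span_singleton.mp (hPB b)
  intro h
  have hbs : b = ((Nat.card B : k)⁻¹ * c * (Nat.card H : k)⁻¹ * (Nat.card B : k)) • s := by
    calc b = (Nat.card B : k)⁻¹ • PB b := by rw [hbB, inv_smul_smul₀ (hnc B)]
      _ = (Nat.card B : k)⁻¹ • c • (Nat.card H : k)⁻¹ • PB s := by
        rw [← hc, hsconst, inv_smul_smul₀ hnH]
      _ = _ := by rw [hsB, smul_smul, smul_smul, smul_smul]
  rw [hbs, map_smul, hsfix]

end Cfsg.Agent.S4177
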