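import Cfsg.Statements.S4178
import Mathlib

set_option autoImplicit false
open Cfsg

namespace Cfsg.Agent.S4178

theorem index_le_of_map {H : Type*} [Group H] (R : Subgroup H) {X : Type*} [Finite X] (x₀ : X)
    (f : H → X) (hne : ∀ h, f h ≠ x₀) (hf : ∀ h h', f h = f h' → h'⁻¹ * h ∈ R) :
    R.index + 1 ≤ Nat.card X := by
  classical
  have : Fintype X := Fintype.ofFinite X
  let F : H ⧸ R → {x : X // x ≠ x₀} := fun q => ⟨f q.out, hne _⟩
  have hinj : Function.Injective F := by
    intro a b hab
    have h1 := hf _ _ (congrArg Subtype.val hab)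
    rw [← QuotientGroup.out_eq' a, ← QuotientGroup.out_eq' b]
    exact (QuotientGroup.eq.mpr h1).symm
  have h2 : R.index ≤ Fintype.card {x : X // x ≠ x₀} := by
    rw [← Nat.card_eq_fintype_card]
    exact Nat.card_le_card_of_injective F hinj
  have h3 : Fintype.card {x : X // x ≠ x₀} < Fintype.card X :=
    Fintype.card_subtype_lt (x := x₀) (by simp)
  rw [Nat.card_eq_fintype_card]
  omega

variable {F V : Type*} [Field F] [AddCommGroup V] [Module F V]

/-- An element fixing a vector modulo an invariant subspace fixes some vector. -/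
theorem exists_fixed_of_sub_mem [FiniteDimensional F V] (e : V ≃ₗ[F] V) (W : Submodule F V)
    (hW : ∀ w ∈ W, e w ∈ W) {v : V} (hv : v ∉ W) (hev : e v - v ∈ W) :
    ∃ u : V, u ≠ 0 ∧ e u = u := by
  by_contra hcon
  push Not at hcon
  let D : W →ₗ[F] W := ((e.toLinearMap - LinearMap.id).restrict (p := W) (q := W)
    (fun w hw => by simpa using W.sub_mem (hW w hw) hw))
  have hinj : Function.Injective D := by
    rw [← LinearMap.ker_eq_bot, LinearMap.ker_eq_bot']
    intro w hw
    by_contra hne
    refine hcon w.1 (by simpa using hne) (sub_eq_zero.mp ?_)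
    simpa [D] using congrArg Subtype.val hw
  obtain ⟨w, hw⟩ := LinearMap.injective_iff_surjective.mp hinj ⟨e v - v, hev⟩
  have h1 : e w.1 - w.1 = e v - v := by simpa [D] using congrArg Subtype.val hw
  refine hcon (v - w.1) (sub_ne_zero.mpr fun h => hv (h ▸ w.2)) ?_
  rw [map_sub, sub_eq_sub_iff_sub_eq_sub]
  exact h1.symm

/-- Let F be a finite field with q elements, V a non-zero finite-dimensional F-space of dimension d, H a group of invertible linear maps of V, and R the subgroup of H generated by the elements of H that fix some non-zero vector (have eigenvalue 1). Then the index of R in H is at most q^d − 1; and if H leaves invariant some proper non-zero subspace, the index is at most q^(d/2) − 1. -/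
theorem result {F V : Type*} [Field F] [Fintype F] [AddCommGroup V] [Module F V] [FiniteDimensional F V] [Nontrivial V]
    (H : Subgroup (V ≃ₗ[F] V)) :
    (Subgroup.closure {h : ↥H | ∃ v : V, v ≠ 0 ∧ (h : V ≃ₗ[F] V) v = v}).index ≤ Fintype.card F ^ Module.finrank F V - 1 ∧
    ((∃ W : Submodule F V, W ≠ ⊥ ∧ W ≠ ⊤ ∧ ∀ h ∈ H, ∀ w ∈ W, h w ∈ W) →
      ((Subgroup.closure {h : ↥H | ∃ v : V, v ≠ 0 ∧ (h : V ≃ₗ[F] V) v = v}).index : ℝ) ≤ Real.sqrt ((Fintype.card F : ℝ) ^ Module.finrank F V) - 1) := by
  classical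
  set R := Subgroup.closure {h : ↥H | ∃ v : V, v ≠ 0 ∧ (h : V ≃ₗ[F] V) v = v} with hR
  have hmem : ∀ (h : H) (v : V), v ≠ 0 → (h : V ≃ₗ[F] V) v = v → h ∈ R := fun h v hv he =>
    Subgroup.subset_closure ⟨v, hv, he⟩
  have : Finite V := Module.finite_of_finite F
  have hdiv : ∀ (h h' : H) (v : V), ((h'⁻¹ * h : H) : V ≃ₗ[F] V) v =
      (h' : V ≃ₗ[F] V).symm ((h : V ≃ₗ[F] V) v) := fun h h' v => rfl
  constructor
  · obtain ⟨v, hv⟩ := exists_ne (0 : V)
    have := index_le_of_map R (0 : V) (fun h => (h : V ≃ₗ[F] V) v)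
      (fun h => by simpa using hv)
      (fun h h' he => hmem _ v hv (by rw [hdiv, show (h : V ≃ₗ[F] V) v = (h' : V ≃ₗ[F] V) v from he, LinearEquiv.symm_apply_apply]))
    rw [Module.natCard_eq_pow_finrank (K := F), Nat.card_eq_fintype_card] at this
    omega
  · rintro ⟨W, hW0, hW1, hW⟩
    obtain ⟨w, hwW, hw⟩ := Submodule.exists_mem_ne_zero_of_ne_bot hW0
    obtain ⟨v, hv⟩ : ∃ v : V, v ∉ W := by
      by_contra h
      push Not at h
      exact hW1 (eq_top_iff.mpr fun x _ => h x)
    have h1 : R.index + 1 ≤ Nat.card W := index_le_of_map R (0 : W)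
      (fun h => ⟨(h : V ≃ₗ[F] V) w, hW _ h.2 w hwW⟩)
      (fun h he => hw (by simpa using congrArg Subtype.val he))
      (fun h h' he => hmem _ w hw (by
        rw [hdiv, show (h : V ≃ₗ[F] V) w = (h' : V ≃ₗ[F] V) w from congrArg Subtype.val he,
          LinearEquiv.symm_apply_apply]))
    have : Finite (V ⧸ W) := Finite.of_surjective _ W.mkQ_surjective
    have h2 : R.index + 1 ≤ Nat.card (V ⧸ W) := index_le_of_map R (0 : V ⧸ W)
      (fun h => W.mkQ ((h : V ≃ₗ[F] V) v))
      (fun h he => hv (by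
        have h3 := hW _ (H.inv_mem h.2) _ ((Submodule.Quotient.mk_eq_zero W).mp he)
        rwa [show ((h : V ≃ₗ[F] V)⁻¹) ((h : V ≃ₗ[F] V) v) = v from
          (h : V ≃ₗ[F] V).symm_apply_apply v] at h3))
      (fun h h' he => by
        obtain ⟨u, hu, hue⟩ := exists_fixed_of_sub_mem ((h'⁻¹ * h : H) : V ≃ₗ[F] V) W
          (hW _ (h'⁻¹ * h).2) hv (by
            have h3 := hW _ (H.inv_mem h'.2) _ ((Submodule.Quotient.eq W).mp he)
            rw [map_sub] at h3
            have h4 : ((h' : V ≃ₗ[F] V)⁻¹) ((h' : V ≃ₗ[F] V) v) = v :=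
              (h' : V ≃ₗ[F] V).symm_apply_apply v
            rw [h4] at h3
            exact h3)
        exact hmem _ u hu hue)
    have hcard : Nat.card W * Nat.card (V ⧸ W) = Fintype.card F ^ Module.finrank F V := by
      rw [← Nat.card_eq_fintype_card, ← Module.natCard_eq_pow_finrank (K := F)]
      rw [Submodule.card_eq_card_quotient_mul_card W]
    rw [le_sub_iff_add_le]
    refine Real.le_sqrt_of_sq_le ?_
    calc ((R.index : ℝ) + 1) ^ 2 ≤ (Nat.card W : ℝ) * (Nat.card (V ⧸ W) : ℝ) := by
          rw [pow_two]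
          exact mul_le_mul (by exact_mod_cast h1) (by exact_mod_cast h2) (by positivity)
            (by positivity)
      _ = _ := by exact_mod_cast hcard

end Cfsg.Agent.S4178
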