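import Cfsg.Statements.S4182
import Mathlib.GroupTheory.Sylow
import Mathlib.GroupTheory.GroupAction.ConjAct
import Mathlib.Tactic.Group

set_option autoImplicit false
open Cfsg

namespace Cfsg.Agent.S4182

open Subgroup

universe u

/-- The subgroup generated by the `p`-elements of `H`. -/
def pGen {G : Type u} [Group G] (p : ℕ) (H : Subgroup G) : Subgroup G :=
  closure {g | g ∈ H ∧ ∃ k : ℕ, orderOf g = p ^ k}

theorem pGen_le {G : Type u} [Group G] (p : ℕ) (H : Subgroup G) : pGen p H ≤ H :=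
  (closure_le H).2 fun _ hg => hg.1

theorem pGen_mono {G : Type u} [Group G] (p : ℕ) {H H' : Subgroup G} (h : H ≤ H') :
    pGen p H ≤ pGen p H' := closure_mono fun _ hg => ⟨h hg.1, hg.2⟩

theorem pGen_pGen {G : Type u} [Group G] (p : ℕ) (H : Subgroup G) :
    pGen p (pGen p H) = pGen p H :=
  le_antisymm (pGen_le p _) (closure_mono fun g hg => ⟨subset_closure hg, hg.2⟩)

theorem pGen_conj {G : Type u} [Group G] (p : ℕ) (H : Subgroup G) (a : G) :
    pGen p (H.map (MulAut.conj a).toMonoidHom) = (pGen p H).map (MulAut.conj a).toMonoidHom := by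
  have ho : ∀ g : G, orderOf (MulAut.conj a g) = orderOf g := fun g =>
    MulEquiv.orderOf_eq (MulAut.conj a) g
  rw [pGen, pGen, MonoidHom.map_closure]
  congr 1
  ext g
  constructor
  · rintro ⟨hg, k, hk⟩
    obtain ⟨h, hh, rfl⟩ := Subgroup.mem_map.1 hg
    exact ⟨h, ⟨hh, k, (ho h).symm.trans hk⟩, rfl⟩
  · rintro ⟨h, ⟨hh, k, hk⟩, rfl⟩
    exact ⟨Subgroup.mem_map_of_mem _ hh, k, (ho h).trans hk⟩

theorem pGen_of_isPGroup {G : Type u} [Group G] {p : ℕ} [Fact p.Prime] {H : Subgroup G}
    (hH : IsPGroup p H) : pGen p H = H :=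
  le_antisymm (pGen_le p H) fun g hg => subset_closure ⟨hg, by
    obtain ⟨k, hk⟩ := IsPGroup.iff_orderOf.1 hH ⟨g, hg⟩
    exact ⟨k, (Subgroup.orderOf_mk ..).symm.trans hk⟩⟩

/-- A group covered by at most `p` proper subgroups is not a `p`-group. -/
theorem not_pgroup {G : Type u} [Group G] [Finite G] {p : ℕ} [hp : Fact p.Prime] (hG : IsPGroup p G)
    {ι : Type*} [Fintype ι] (K : ι → Subgroup G) (hK : ∀ i, K i ≠ ⊤) (hcov : ∀ g, ∃ i, g ∈ K i)
    (hι : Fintype.card ι ≤ p) : False := by
  classical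
  haveI := Fintype.ofFinite G
  obtain ⟨i₀, -⟩ := hcov 1
  have hidx : ∀ i, p * Nat.card (K i) ≤ Nat.card G := by
    intro i
    obtain ⟨j, hj⟩ := hG.index (K i)
    have hj0 : j ≠ 0 := fun e => hK i (Subgroup.index_eq_one.1 (by rw [hj, e, pow_zero]))
    rw [← (K i).card_mul_index, hj, mul_comm (Nat.card (K i))]
    exact Nat.mul_le_mul_right _ (Nat.le_self_pow hj0 p)
  let A : ι → Finset G := fun i => Finset.univ.filter fun g => g ∈ K i ∧ g ≠ 1
  have hA : ∀ i, (A i).card + 1 = Nat.card (K i) := by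
    intro i
    have e : A i = (Finset.univ.filter fun g => g ∈ K i).erase 1 := by
      ext g; simp [A, and_comm]
    rw [e, Finset.card_erase_add_one (by simp), Nat.card_eq_fintype_card, Fintype.card_subtype]
  have hsub : Finset.univ.erase (1 : G) ⊆ Finset.univ.biUnion A := by
    intro g hg
    obtain ⟨i, hi⟩ := hcov g
    exact Finset.mem_biUnion.2 ⟨i, Finset.mem_univ _, by simp [A, hi, (Finset.mem_erase.1 hg).1]⟩
  have h1 := (Finset.card_le_card hsub).trans Finset.card_biUnion_le
  rw [Finset.card_erase_of_mem (Finset.mem_univ _), Finset.card_univ, ← Nat.card_eq_fintype_card] at h1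
  have h2 : p * (∑ i, (A i).card) + p * Fintype.card ι ≤ Fintype.card ι * Nat.card G := by
    rw [Finset.mul_sum]
    calc (∑ i, p * (A i).card) + p * Fintype.card ι = ∑ i, (p * (A i).card + p) := by
          rw [Finset.sum_add_distrib, Finset.sum_const, Finset.card_univ, smul_eq_mul, mul_comm p]
      _ ≤ ∑ _i : ι, Nat.card G := Finset.sum_le_sum fun i _ => by
          rw [← Nat.mul_succ, Nat.succ_eq_add_one, hA]; exact hidx i
      _ = Fintype.card ι * Nat.card G := by rw [Finset.sum_const, Finset.card_univ, smul_eq_mul]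
  have hk1 : 1 < Fintype.card ι := by
    by_contra hle
    refine hK i₀ (eq_top_iff.2 fun g _ => ?_)
    obtain ⟨i, hi⟩ := hcov g
    haveI : Subsingleton ι := Fintype.card_le_one_iff_subsingleton.1 (by omega)
    rwa [Subsingleton.elim i₀ i]
  have hp1 := hp.out.two_le
  have hG0 : 0 < Nat.card G := Nat.card_pos
  have h3 : Fintype.card ι * Nat.card G ≤ p * Nat.card G := Nat.mul_le_mul_right _ hι
  have h4 : p * (Nat.card G - 1) ≤ p * (∑ i, (A i).card) := Nat.mul_le_mul_left p h1
  rw [Nat.mul_sub, mul_one] at h4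
  have h5 : p * 2 ≤ p * Fintype.card ι := Nat.mul_le_mul_left p hk1
  omega

theorem main (p : ℕ) [hp : Fact p.Prime] {ι : Type*} [Fintype ι] (n : ℕ) :
    ∀ (G : Type u) [Group G] [Finite G], Nat.card G = n → pGen p (⊤ : Subgroup G) = ⊤ →
      ∀ K : ι → Subgroup G, (∀ i, K i ≠ ⊤) →
      (∀ g : G, (∃ k : ℕ, orderOf g = p ^ k) → ∃ i, g ∈ K i) → p + 1 ≤ Fintype.card ι := by
  induction n using Nat.strong_induction_on with
  | _ n ih =>
  intro G _ _ hn hgen K hK hcov
  classical
  haveI := Fintype.ofFinite G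
  by_contra hlt
  have hcard : Fintype.card ι ≤ p := by omega
  -- proper subgroups generated by `p`-elements lie in one member
  have hin : ∀ L : Subgroup G, L ≠ ⊤ → pGen p L = L → ∃ i, L ≤ K i := by
    intro L hL hLg
    by_contra hno
    push Not at hno
    have hlt' : Nat.card L < n := by
      rw [← hn]
      refine lt_of_le_of_ne (Subgroup.card_le_card_group L) fun e => hL (Subgroup.eq_top_of_card_eq L e)
    have hgen' : pGen p (⊤ : Subgroup L) = ⊤ := by
      apply Subgroup.map_injective L.subtype_injective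
      rw [← MonoidHom.range_eq_map, Subgroup.range_subtype, pGen, MonoidHom.map_closure]
      refine Eq.trans ?_ hLg
      rw [pGen]
      congr 1
      ext g
      constructor
      · rintro ⟨x, ⟨-, k, hk⟩, rfl⟩
        exact ⟨x.2, k, (Subgroup.orderOf_coe x).trans hk⟩
      · rintro ⟨hg, k, hk⟩
        exact ⟨⟨g, hg⟩, ⟨Subgroup.mem_top _, k, by rw [Subgroup.orderOf_mk]; exact hk⟩, rfl⟩
    have := ih _ hlt' L rfl hgen' (fun i => (K i).subgroupOf L)
      (fun i e => hno i (Subgroup.subgroupOf_eq_top.1 e))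
      (fun x ⟨k, hk⟩ => hcov x ⟨k, (Subgroup.orderOf_coe x).trans hk⟩)
    omega
  -- the maximal ones
  let F : Set (Subgroup G) := {L | L ≠ ⊤ ∧ pGen p L = L ∧
    ∀ L' : Subgroup G, L' ≠ ⊤ → pGen p L' = L' → L ≤ L' → L' = L}
  have hup : ∀ L : Subgroup G, L ≠ ⊤ → pGen p L = L → ∃ M ∈ F, L ≤ M := by
    intro L hL hLg
    obtain ⟨M, hLM, hM, hmax⟩ := (Set.toFinite
      {M : Subgroup G | M ≠ ⊤ ∧ pGen p M = M}).exists_le_maximal ⟨hL, hLg⟩
    exact ⟨M, ⟨hM.1, hM.2, fun L' h1 h2 h3 => le_antisymm (hmax ⟨h1, h2⟩ h3) h3⟩, hLM⟩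
  have hFle : Nat.card F ≤ p := by
    choose i hi using fun L : F => hin L.1 L.2.1 L.2.2.1
    refine ((Nat.card_le_card_of_injective i fun L L' e => ?_).trans
      (Nat.card_eq_fintype_card (α := ι)).le).trans hcard
    have key : ∀ M : F, pGen p (K (i M)) = M := fun M =>
      M.2.2.2 _ (fun e' => hK (i M) (top_le_iff.1 (e'.symm.le.trans (pGen_le p _))))
        (pGen_pGen p _) (M.2.2.1.symm.le.trans (pGen_mono p (hi M)))
    exact Subtype.ext (by rw [← key L, ← key L', e])
  -- conjugation permutes them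
  letI act : MulAction G F :=
    { smul := fun a L => ⟨L.1.map (MulAut.conj a).toMonoidHom, by
        obtain ⟨h1, h2, h3⟩ := L.2
        refine ⟨fun e => h1 ?_, by rw [pGen_conj, h2], fun L' h1' h2' hle => ?_⟩
        · apply Subgroup.map_injective (f := (MulAut.conj a).toMonoidHom) (MulAut.conj a).injective
          rw [e, Subgroup.map_top_of_surjective _ (MulAut.conj a).surjective]
        · have e1 : (L'.map (MulAut.conj a⁻¹).toMonoidHom).map (MulAut.conj a).toMonoidHom = L' := by
            rw [Subgroup.map_map]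
            convert Subgroup.map_id L' using 2
            ext x
            simp [mul_assoc]
          have e2 := h3 (L'.map (MulAut.conj a⁻¹).toMonoidHom) (fun e => h1' (by
              rw [← e1, e, Subgroup.map_top_of_surjective _ (MulAut.conj a).surjective]))
            (by rw [pGen_conj, h2']) (fun x hx => ⟨a * x * a⁻¹,
              hle (Subgroup.mem_map_of_mem _ hx), by simp [mul_assoc]⟩)
          rw [← e1, e2]⟩
      one_smul := fun L => Subtype.ext (by
        change L.1.map (MulAut.conj (1 : G)).toMonoidHom = L.1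
        convert Subgroup.map_id L.1 using 2
        ext x
        simp)
      mul_smul := fun a b L => Subtype.ext (by
        change L.1.map (MulAut.conj (a * b)).toMonoidHom =
          (L.1.map (MulAut.conj b).toMonoidHom).map (MulAut.conj a).toMonoidHom
        rw [Subgroup.map_map]
        congr 1
        ext x
        simp [mul_assoc]) }
  obtain ⟨P⟩ : Nonempty (Sylow p G) := inferInstance
  have hPt : (P : Subgroup G) ≠ ⊤ := by
    intro e
    have hG : IsPGroup p G := (e ▸ P.2 : IsPGroup p (⊤ : Subgroup G)).of_equiv Subgroup.topEquiv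
    exact not_pgroup hG K hK (fun g => hcov g (IsPGroup.iff_orderOf.1 hG g)) hcard
  obtain ⟨M, hM, hPM⟩ := hup _ hPt (pGen_of_isPGroup P.2)
  -- its orbit is fixed
  set S := MulAction.stabilizer G (⟨M, hM⟩ : F)
  have hPS : (P : Subgroup G) ≤ S := fun x hx => MulAction.mem_stabilizer_iff.2 (Subtype.ext (by
    change M.map (MulAut.conj x).toMonoidHom = M
    ext y
    rw [Subgroup.mem_map]
    refine ⟨?_, fun hy => ⟨x⁻¹ * y * x, mul_mem (mul_mem (inv_mem (hPM hx)) hy) (hPM hx), by
      simp [mul_assoc]⟩⟩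
    rintro ⟨z, hz, rfl⟩
    exact mul_mem (mul_mem (hPM hx) hz) (inv_mem (hPM hx))))
  have horb : (MulAction.orbit G (⟨M, hM⟩ : F)).ncard < p := by
    have hi : (MulAction.orbit G (⟨M, hM⟩ : F)).ncard = S.index := by
      rw [MulAction.index_stabilizer]
    have hle : (MulAction.orbit G (⟨M, hM⟩ : F)).ncard ≤ p :=
      (Set.ncard_le_card _).trans hFle
    refine lt_of_le_of_ne hle fun e => P.not_dvd_index ?_
    exact (dvd_of_eq (e.symm.trans hi)).trans (Subgroup.index_dvd_of_le hPS)
  have hfix : ∀ x : G, (∃ k : ℕ, orderOf x = p ^ k) →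
      ∀ L : F, L ∈ MulAction.orbit G (⟨M, hM⟩ : F) → x • L = L := by
    rintro x ⟨k, hk⟩ L hL
    have hpg : IsPGroup p (Subgroup.zpowers x) :=
      IsPGroup.of_card (n := k) (by rw [Nat.card_zpowers, hk])
    obtain ⟨j, hj⟩ := hpg.card_orbit L
    have hj0 : j = 0 := by
      by_contra h0
      have h1 : (MulAction.orbit (Subgroup.zpowers x) L).ncard ≤
          (MulAction.orbit G (⟨M, hM⟩ : F)).ncard := by
        refine Set.ncard_le_ncard ?_ (Set.toFinite _)
        rintro _ ⟨y, rfl⟩
        rw [← MulAction.orbit_eq_iff.2 hL]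
        exact ⟨(y : G), rfl⟩
      rw [← Nat.card_coe_set_eq, hj] at h1
      have := Nat.le_self_pow h0 p
      omega
    rw [hj0, pow_zero] at hj
    haveI := (Nat.card_eq_one_iff_unique.1 hj).1
    exact congrArg Subtype.val (Subsingleton.elim
      (⟨x • L, ⟨⟨x, Subgroup.mem_zpowers x⟩, rfl⟩⟩ : MulAction.orbit (Subgroup.zpowers x) L)
      ⟨L, MulAction.mem_orbit_self L⟩)
  have hSt : S = ⊤ := by
    rw [eq_top_iff, ← hgen, pGen, closure_le]
    exact fun x hx => MulAction.mem_stabilizer_iff.2 (hfix x hx.2 _ (MulAction.mem_orbit_self _))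
  refine hM.1 (eq_top_iff.2 ?_)
  rw [← hgen, pGen, closure_le]
  rintro x ⟨-, k, hk⟩
  obtain ⟨Q, hQ⟩ := (IsPGroup.of_card (G := Subgroup.zpowers x) (p := p) (n := k)
    (by rw [Nat.card_zpowers, hk])).exists_le_sylow
  obtain ⟨g, hg⟩ := MulAction.exists_smul_eq G P Q
  have h1 : g • (⟨M, hM⟩ : F) = ⟨M, hM⟩ := MulAction.mem_stabilizer_iff.1 (show g ∈ S by rw [hSt]; exact Subgroup.mem_top g)
  have h2 : M.map (MulAut.conj g).toMonoidHom = M := congrArg Subtype.val h1
  have h3 : x ∈ (Q : Subgroup G) := hQ (Subgroup.mem_zpowers x)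
  rw [← hg, Sylow.coe_subgroup_smul] at h3
  obtain ⟨y, hy, rfl⟩ := h3
  rw [← h2]
  exact Subgroup.mem_map_of_mem _ (hPM hy)

/-- Let p be a prime and G a finite group generated by its p-elements. If a finite family of proper subgroups of G covers the set of p-elements of G (every element of p-power order lies in one of them), then the family has at least p + 1 members. -/
theorem result {G : Type*} [Group G] [Finite G] (p : ℕ) [Fact p.Prime] (hgen : Subgroup.closure {g : G | ∃ k : ℕ, orderOf g = p ^ k} = ⊤)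
    {ι : Type*} [Fintype ι] (K : ι → Subgroup G) (hK : ∀ i, K i ≠ ⊤)
    (hcov : ∀ g : G, (∃ k : ℕ, orderOf g = p ^ k) → ∃ i, g ∈ K i) :
    p + 1 ≤ Fintype.card ι := by
  refine main p _ G rfl (top_le_iff.1 ?_) K hK hcov
  nth_rewrite 1 [← hgen]
  exact Subgroup.closure_mono fun g hg => ⟨Subgroup.mem_top g, hg⟩

end Cfsg.Agent.S4182
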