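import Cfsg.Statements.S4184
import Mathlib
import Cfsg.Agent.Lib.FgsB.DirectFactor
import Cfsg.Agent.Lib.FgsB.ClassPrimes

set_option autoImplicit false
set_option linter.style.haveILetI false
open Cfsg

namespace Cfsg.Agent.S4184

open Subgroup

variable {G : Type*} [Group G]

/-- The class size. -/
noncomputable def cs (g : G) : ℕ := (centralizer ({g} : Set G)).index

/-- A nontrivial element whose class size has full `q`-part (relative to `N`) for all `q ∈ S`. -/
def Full (N : ℕ) (S : Set ℕ) (g : G) : Prop :=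
  g ≠ 1 ∧ ∀ q : ℕ, q.Prime → q ∈ S → q ^ N.factorization q ∣ cs g

theorem cs_dvd_of_le [Finite G] {x y : G} (h : centralizer ({x} : Set G) ≤ centralizer ({y} : Set G)) :
    cs y ∣ cs x := index_dvd_of_le h

theorem centralizer_pow_le (g : G) (n : ℕ) :
    centralizer ({g} : Set G) ≤ centralizer ({g ^ n} : Set G) := fun c hc => by
  rw [mem_centralizer_singleton_iff] at hc ⊢
  exact (Commute.pow_right hc n).eq

theorem centralizer_mul_le [Finite G] {x y : G} (h : Commute x y)
    (hc : (orderOf x).Coprime (orderOf y)) :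
    centralizer ({x * y} : Set G) ≤ centralizer ({x} : Set G) := by
  intro c hc'
  rw [mem_centralizer_singleton_iff] at hc' ⊢
  obtain ⟨a, ha⟩ := CfsgLib.FgsB.mem_zpowers_pow_of_coprime (x := x) hc.symm
  have e : (x * y) ^ orderOf y = x ^ orderOf y := by
    rw [h.mul_pow, pow_orderOf_eq_one, mul_one]
  simp only at ha
  rw [← e] at ha
  rw [← ha]
  exact ((Commute.pow_right hc' _).zpow_right a).eq

theorem coprime_ne_one [Finite G] {x y : G} (hc : (orderOf x).Coprime (orderOf y)) (hx : x ≠ 1) :
    x * y ≠ 1 := by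
  intro h
  have hy : y = x⁻¹ := eq_inv_of_mul_eq_one_right h
  rw [hy, orderOf_inv, Nat.coprime_self, orderOf_eq_one_iff] at hc
  exact hx hc

theorem fact_centralizer [Finite G] (g : G) (p : ℕ) :
    (Nat.card (centralizer ({g} : Set G))).factorization p + (cs g).factorization p =
      (Nat.card G).factorization p := by
  rw [← (centralizer ({g} : Set G)).card_mul_index, Nat.factorization_mul Nat.card_pos.ne'
    index_ne_zero_of_finite, Finsupp.add_apply]
  rfl

theorem eq_one_of_cs [Finite G] (hX : center G = ⊥) (g : G) (hg : cs g = 1) : g = 1 := by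
  rw [← mem_bot (G := G), ← hX, mem_center_iff]
  intro c
  exact mem_centralizer_singleton_iff.mp ((index_eq_one.mp hg).symm ▸ mem_top c)

theorem no_excess [Finite G] (N : ℕ) (hN : N ≠ 0) (S : Set ℕ) (hZ : center G = ⊥)
    (hsub : ∀ g : G, cs g ∣ N) (hall : ∀ g : G, g ≠ 1 → Full N S g ∨ Full N Sᶜ g)
    (hdis : ∀ g : G, Full N S g → Full N Sᶜ g → False) (hex : ∃ g : G, Full N S g)
    (hle : ∀ q : ℕ, q.Prime → N.factorization q ≤ (Nat.card G).factorization q)
    {p : ℕ} (hp : p.Prime) (hpS : p ∈ S) :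
    (Nat.card G).factorization p ≤ N.factorization p := by
  by_contra hlt
  push Not at hlt
  haveI := Fact.mk hp
  -- the prime p divides some class size
  rcases Nat.eq_zero_or_pos (N.factorization p) with h0 | hpos
  · obtain ⟨P⟩ : Nonempty (Sylow p G) := inferInstance
    have hcov : centralizer ((P : Subgroup G) : Set G) = ⊤ := by
      refine CfsgLib.FgsB.eq_top_of_forall_exists_conj_mem fun g => ?_
      refine CfsgLib.FgsB.ClassPrimes.exists_conj_mem_centralizer P fun hd => ?_
      have h1 := hp.factorization_pos_of_dvd hN (hd.trans (hsub g))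
      omega
    rw [centralizer_eq_top_iff_subset, SetLike.coe_subset_coe, hZ, le_bot_iff] at hcov
    refine P.ne_bot_of_dvd_card ?_ hcov
    exact Nat.dvd_of_factorization_pos (by omega)
  have hcsp : ∀ g : G, Full N S g → (cs g).factorization p = N.factorization p := fun g hg =>
    le_antisymm ((Nat.factorization_le_iff_dvd index_ne_zero_of_finite hN).mpr (hsub g) p)
      ((hp.pow_dvd_iff_le_factorization index_ne_zero_of_finite).mp (hg.2 p hp hpS))
  have hmono : ∀ x y : G, Commute x y → (orderOf x).Coprime (orderOf y) → ∀ T : Set ℕ,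
      Full N T x → Full N T (x * y) := fun x y h hc T hx =>
    ⟨coprime_ne_one hc hx.1, fun q hq hqT =>
      (hx.2 q hq hqT).trans (cs_dvd_of_le (centralizer_mul_le h hc))⟩
  have hsame : ∀ x y : G, Commute x y → (orderOf x).Coprime (orderOf y) → Full N S x → y ≠ 1 →
      Full N S y := by
    intro x y h hc hx hy
    refine (hall y hy).resolve_right fun hy' => hdis (x * y) (hmono x y h hc S hx) ?_
    rw [h.eq]
    exact hmono y x h.symm hc.symm _ hy'
  have hpow : ∀ (g : G) (n : ℕ), Full N S g → g ^ n ≠ 1 → Full N S (g ^ n) := by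
    intro g n hg hne
    refine (hall _ hne).resolve_right fun h' => hdis g hg ⟨hg.1, fun q hq hqT =>
      (h'.2 q hq hqT).trans (cs_dvd_of_le (centralizer_pow_le g n))⟩
  by_cases hu : ∃ u : G, Full N S u ∧ ¬ p ∣ orderOf u
  · obtain ⟨u, hu, hup⟩ := hu
    have he : 0 < (Nat.card (centralizer ({u} : Set G))).factorization p := by
      have := fact_centralizer u p
      rw [hcsp u hu] at this
      omega
    obtain ⟨w, hw⟩ := exists_prime_orderOf_dvd_card' p (Nat.dvd_of_factorization_pos he.ne')
    rw [← Subgroup.orderOf_coe] at hw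
    have hwu : Commute (w : G) u := mem_centralizer_singleton_iff.mp w.2
    have hcop : (orderOf u).Coprime (orderOf (w : G)) := by
      rw [hw, Nat.coprime_comm, hp.coprime_iff_not_dvd]; exact hup
    have hw1 : (w : G) ≠ 1 := fun h => hp.ne_one (hw ▸ orderOf_eq_one_iff.mpr h)
    have hwF : Full N S (w : G) := hsame u w hwu.symm hcop hu hw1
    have huwF : Full N S (u * w) := hmono u w hwu.symm hcop S hu
    have hwC : (w : G) ∈ centralizer ({u * (w : G)} : Set G) :=
      mem_centralizer_singleton_iff.mpr (hwu.mul_right (Commute.refl _)).eq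
    have hwp : IsPGroup p (zpowers (⟨w, hwC⟩ : centralizer ({u * (w : G)} : Set G))) :=
      IsPGroup.of_card (n := 1) (by rw [Nat.card_zpowers, Subgroup.orderOf_mk, hw, pow_one])
    obtain ⟨D, hD⟩ := hwp.exists_le_sylow
    set D₀ := (D : Subgroup (centralizer ({u * (w : G)} : Set G))).map
      (centralizer ({u * (w : G)} : Set G)).subtype with hD₀
    have hD₀p : IsPGroup p D₀ := D.isPGroup'.map _
    obtain ⟨P, hP⟩ := hD₀p.exists_le_sylow
    haveI : Nontrivial (P : Subgroup G) := (nontrivial_iff_ne_bot _).mpr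
      (P.ne_bot_of_dvd_card (Nat.dvd_of_factorization_pos (by omega)))
    haveI := P.isPGroup'.center_nontrivial
    obtain ⟨z, hz⟩ := exists_ne (1 : center (P : Subgroup G))
    set z₀ : G := ((z : (P : Subgroup G)) : G) with hz₀
    have hz1 : z₀ ≠ 1 := fun h => hz (Subtype.ext (Subtype.ext h))
    have hwP : (w : G) ∈ (P : Subgroup G) := hP ⟨⟨w, hwC⟩, hD (mem_zpowers _), rfl⟩
    have hPz : (P : Subgroup G) ≤ centralizer ({z₀} : Set G) := fun v hv =>
      mem_centralizer_singleton_iff.mpr (congrArg Subtype.val (mem_center_iff.mp z.2 ⟨v, hv⟩))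
    have hzw : z₀ ∈ (P : Subgroup G) ⊓ centralizer ({(w : G)} : Set G) :=
      ⟨(z : (P : Subgroup G)).2,
        mem_centralizer_singleton_iff.mpr (mem_centralizer_singleton_iff.mp (hPz hwP)).symm⟩
    have hDeq : D₀ = (P : Subgroup G) ⊓ centralizer ({(w : G)} : Set G) := by
      refine eq_of_le_of_card_ge (le_inf hP ?_) ?_
      · rintro _ ⟨d, -, rfl⟩
        have hc := centralizer_mul_le hwu (hcop.symm)
        rw [hwu.eq] at hc
        exact hc d.2
      · obtain ⟨k, hk⟩ := IsPGroup.iff_card.mp
          (P.isPGroup'.to_le (inf_le_left (b := centralizer ({(w : G)} : Set G))))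
        rw [hD₀, card_map_of_injective (subtype_injective _), D.card_eq_multiplicity, hk]
        refine Nat.pow_le_pow_right hp.pos ?_
        have h1 : p ^ k ∣ Nat.card (centralizer ({(w : G)} : Set G)) :=
          hk ▸ card_dvd_of_le inf_le_right
        rw [hp.pow_dvd_iff_le_factorization Nat.card_pos.ne'] at h1
        have h2 := fact_centralizer (w : G) p
        have h3 := fact_centralizer (u * (w : G)) p
        rw [hcsp _ hwF] at h2
        rw [hcsp _ huwF] at h3
        omega
    rw [← hDeq, hD₀] at hzw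
    obtain ⟨d, -, hd⟩ := hzw
    have hzu : Commute z₀ u := by
      have := centralizer_mul_le hwu.symm hcop d.2
      rw [← hd]
      exact mem_centralizer_singleton_iff.mp this
    obtain ⟨k, hk⟩ := IsPGroup.iff_orderOf.mp P.isPGroup' (z : (P : Subgroup G))
    rw [← Subgroup.orderOf_coe] at hk
    have hzF : Full N S z₀ := hsame u z₀ hzu.symm (by
      rw [hz₀, hk]; exact Nat.Coprime.pow_right k
        ((hp.coprime_iff_not_dvd.mpr hup).symm)) hu hz1
    have h4 := hcsp z₀ hzF
    have h5 : ¬ p ∣ cs z₀ := fun hd => P.not_dvd_index (hd.trans (index_dvd_of_le hPz))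
    rw [Nat.factorization_eq_zero_of_not_dvd h5] at h4
    omega
  · push Not at hu
    obtain ⟨g, hg⟩ := hex
    have hgp : ∀ q : ℕ, q.Prime → q ∣ orderOf g → q = p := by
      intro q hq hqd
      have ho : orderOf (g ^ (orderOf g / q)) = q := orderOf_pow_orderOf_div (orderOf_pos g).ne' hqd
      have hne : g ^ (orderOf g / q) ≠ 1 := fun h => hq.ne_one (ho ▸ orderOf_eq_one_iff.mpr h)
      have := hu _ (hpow g _ hg hne)
      rw [ho] at this
      exact ((Nat.prime_dvd_prime_iff_eq hp hq).mp this).symm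
    refine hdis g hg ⟨hg.1, fun q hq hqS => ?_⟩
    have hqp : q ≠ p := fun h => hqS (h ▸ hpS)
    haveI := Fact.mk hq
    have hnd : ¬ q ∣ Nat.card (centralizer ({g} : Set G)) := by
      intro hd
      obtain ⟨v, hv⟩ := exists_prime_orderOf_dvd_card' q hd
      rw [← Subgroup.orderOf_coe] at hv
      have hv1 : (v : G) ≠ 1 := fun h => hq.ne_one (hv ▸ orderOf_eq_one_iff.mpr h)
      have := hu _ (hsame g v (mem_centralizer_singleton_iff.mp v.2 : Commute (v : G) g).symm
        (by rw [hv, Nat.coprime_comm, hq.coprime_iff_not_dvd]; exact fun h => hqp (hgp q hq h))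
        hg hv1)
      rw [hv] at this
      exact hqp ((Nat.prime_dvd_prime_iff_eq hp hq).mp this).symm
    have h1 := fact_centralizer g q
    rw [Nat.factorization_eq_zero_of_not_dvd hnd, zero_add] at h1
    rw [hq.pow_dvd_iff_le_factorization (show cs g ≠ 0 from index_ne_zero_of_finite)]
    have h2 := hle q hq
    omega


/-- Let G and M be finite groups with trivial centres and the same set of conjugacy class sizes, and suppose the prime graph of M is disconnected: the prime divisors of #M split into two non-empty parts such that M has no element of order pq with p in one part and q in the other. Then #G = #M. -/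
theorem result {G M : Type*}
    [Group G] [Finite G] [Group M] [Finite M] (hZG : Subgroup.center G = ⊥) (hZM : Subgroup.center M = ⊥)
    (h : Set.range (fun g : G => (Subgroup.centralizer ({g} : Set G)).index) = Set.range (fun g : M => (Subgroup.centralizer ({g} : Set M)).index))
    (hdisc : ∃ A : Set ℕ, (∃ a ∈ A, a.Prime ∧ a ∣ Nat.card M) ∧ (∃ b ∉ A, b.Prime ∧ b ∣ Nat.card M) ∧
      ∀ a ∈ A, ∀ b ∉ A, a.Prime → b.Prime → a ∣ Nat.card M → b ∣ Nat.card M → ¬ ∃ x : M, orderOf x = a * b) :
    Nat.card G = Nat.card M := by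
  obtain ⟨A, ⟨a, haA, hap, had⟩, ⟨b, hbA, hbp, hbd⟩, hA⟩ := hdisc
  set N := Nat.card M with hN
  have hN0 : N ≠ 0 := Nat.card_pos.ne'
  have hsubM : ∀ v : M, cs v ∣ N := fun v => index_dvd_card _
  have hfull : ∀ v : M, ∀ q : ℕ, q.Prime → (¬ q ∣ Nat.card (centralizer ({v} : Set M))) →
      q ^ N.factorization q ∣ cs v := by
    intro v q hq hnd
    have h1 := fact_centralizer v q
    rw [Nat.factorization_eq_zero_of_not_dvd hnd, zero_add] at h1
    exact (hq.pow_dvd_iff_le_factorization index_ne_zero_of_finite).mpr h1.ge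
  have hallM : ∀ v : M, v ≠ 1 → Full N A v ∨ Full N Aᶜ v := by
    intro v hv
    obtain ⟨r, hr, hrd⟩ := Nat.exists_prime_and_dvd (mt orderOf_eq_one_iff.mp hv)
    have hv' : orderOf (v ^ (orderOf v / r)) = r := orderOf_pow_orderOf_div (orderOf_pos v).ne' hrd
    have key : ∀ q : ℕ, q.Prime → q ≠ r → q ∣ Nat.card (centralizer ({v} : Set M)) →
        r ∣ N ∧ q ∣ N ∧ ∃ x : M, orderOf x = r * q := by
      intro q hq hne hd
      haveI := Fact.mk hq
      refine ⟨hrd.trans (orderOf_dvd_natCard v), hd.trans (card_subgroup_dvd_card _), ?_⟩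
      obtain ⟨w, hw⟩ := exists_prime_orderOf_dvd_card' q hd
      rw [← Subgroup.orderOf_coe] at hw
      have hc : Commute (v ^ (orderOf v / r)) (w : M) :=
        (Commute.pow_right (mem_centralizer_singleton_iff.mp w.2) _).symm
      refine ⟨v ^ (orderOf v / r) * (w : M), ?_⟩
      rw [hc.orderOf_mul_eq_mul_orderOf_of_coprime, hv', hw]
      rw [hv', hw]
      exact (Nat.coprime_primes hr hq).mpr hne.symm
    by_cases hrA : r ∈ A
    · right
      refine ⟨hv, fun q hq hqA => hfull v q hq fun hd => ?_⟩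
      have hne : q ≠ r := fun h => hqA (h ▸ hrA)
      obtain ⟨h1, h2, x, hx⟩ := key q hq hne hd
      exact hA r hrA q hqA hr hq h1 h2 ⟨x, hx⟩
    · left
      refine ⟨hv, fun q hq hqA => hfull v q hq fun hd => ?_⟩
      have hne : q ≠ r := fun h => hrA (h ▸ hqA)
      obtain ⟨h1, h2, x, hx⟩ := key q hq hne hd
      exact hA q hqA r hrA hq hr h2 h1 ⟨x, by rw [hx, mul_comm]⟩
  have hnotM : ∀ v : M, v ≠ 1 → ¬ ∀ q : ℕ, q.Prime → q ^ N.factorization q ∣ cs v := by
    intro v hv h'
    obtain ⟨r, hr, hrd⟩ := Nat.exists_prime_and_dvd (mt orderOf_eq_one_iff.mp hv)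
    have hd : r ∣ Nat.card (centralizer ({v} : Set M)) := hrd.trans (by
      rw [show orderOf v = orderOf (⟨v, mem_centralizer_singleton_iff.mpr rfl⟩ :
        centralizer ({v} : Set M)) from (Subgroup.orderOf_mk _ _).symm]
      exact orderOf_dvd_natCard _)
    have h1 := fact_centralizer v r
    have h2 := hr.factorization_pos_of_dvd Nat.card_pos.ne' hd
    have h3 := (hr.pow_dvd_iff_le_factorization index_ne_zero_of_finite).mp (h' r hr)
    rw [← hN] at h1
    change N.factorization r ≤ (cs v).factorization r at h3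
    omega
  have hcs1 : cs (1 : M) = 1 := index_eq_one.mpr (eq_top_iff.mpr fun c _ => by
    simp [mem_centralizer_singleton_iff])
  have tr : ∀ g : G, ∃ v : M, cs v = cs g := fun g => by
    obtain ⟨v, hv⟩ := (Set.ext_iff.mp h _).mp ⟨g, rfl⟩
    exact ⟨v, hv⟩
  have hallG : ∀ g : G, g ≠ 1 → Full N A g ∨ Full N Aᶜ g := by
    intro g hg
    obtain ⟨v, hv⟩ := tr g
    have hv1 : v ≠ 1 := fun h1 => hg (eq_one_of_cs hZG g (by rw [← hv, h1, hcs1]))
    rcases hallM v hv1 with h' | h'
    · exact Or.inl ⟨hg, hv ▸ h'.2⟩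
    · exact Or.inr ⟨hg, hv ▸ h'.2⟩
  have hdis : ∀ g : G, Full N A g → Full N Aᶜ g → False := by
    intro g h1 h2
    obtain ⟨v, hv⟩ := tr g
    have hv1 : v ≠ 1 := fun h0 => h1.1 (eq_one_of_cs hZG g (by rw [← hv, h0, hcs1]))
    refine hnotM v hv1 fun q hq => ?_
    rw [hv]
    by_cases hqA : q ∈ A
    · exact h1.2 q hq hqA
    · exact h2.2 q hq hqA
  have hsub : ∀ g : G, cs g ∣ N := fun g => by
    obtain ⟨v, hv⟩ := tr g
    exact hv ▸ hsubM v
  have hex : ∀ S : Set ℕ, (∀ v : M, v ≠ 1 → Full N S v ∨ Full N Sᶜ v) →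
      ∀ c : ℕ, c.Prime → c ∣ N → c ∉ S → ∃ g : G, Full N S g := by
    intro S hS c hc hcd hcS
    haveI := Fact.mk hc
    obtain ⟨v, hv⟩ := exists_prime_orderOf_dvd_card' c hcd
    have hv1 : v ≠ 1 := fun h => hc.ne_one (hv ▸ orderOf_eq_one_iff.mpr h)
    have hF : Full N S v := by
      refine (hS v hv1).resolve_right fun h' => ?_
      have h1 := fact_centralizer v c
      have h2 := (hc.pow_dvd_iff_le_factorization index_ne_zero_of_finite).mp (h'.2 c hc hcS)
      have h3 : c ∣ Nat.card (centralizer ({v} : Set M)) := hv ▸ (by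
        rw [show orderOf v = orderOf (⟨v, mem_centralizer_singleton_iff.mpr rfl⟩ :
          centralizer ({v} : Set M)) from (Subgroup.orderOf_mk _ _).symm]
        exact orderOf_dvd_natCard _)
      have h4 := hc.factorization_pos_of_dvd Nat.card_pos.ne' h3
      rw [← hN] at h1
      change N.factorization c ≤ (cs v).factorization c at h2
      omega
    obtain ⟨g, hg⟩ := (Set.ext_iff.mp h _).mpr ⟨v, rfl⟩
    change cs g = cs v at hg
    refine ⟨g, fun h1 => hv1 (eq_one_of_cs hZM v ?_), hg ▸ hF.2⟩
    rw [← hg, h1]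
    exact index_eq_one.mpr (eq_top_iff.mpr fun c _ => by simp [mem_centralizer_singleton_iff])
  have hA1 := hex A hallM b hbp hbd hbA
  have hA2 := hex Aᶜ (fun v hv => by rw [compl_compl]; exact (hallM v hv).symm) a hap had
    (fun h' => h' haA)
  have hle : ∀ q : ℕ, q.Prime → N.factorization q ≤ (Nat.card G).factorization q := by
    intro q hq
    obtain ⟨g, hg⟩ : ∃ g : G, q ^ N.factorization q ∣ cs g := by
      by_cases hqA : q ∈ A
      · exact hA1.imp fun g hg => hg.2 q hq hqA
      · exact hA2.imp fun g hg => hg.2 q hq hqA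
    exact (hq.pow_dvd_iff_le_factorization Nat.card_pos.ne').mp (hg.trans (index_dvd_card _))
  refine Nat.eq_of_factorization_eq Nat.card_pos.ne' hN0 fun q => ?_
  by_cases hq : q.Prime
  swap
  · rw [Nat.factorization_eq_zero_of_not_prime _ hq, Nat.factorization_eq_zero_of_not_prime _ hq]
  refine le_antisymm ?_ (hle q hq)
  by_cases hqA : q ∈ A
  · exact no_excess N hN0 A hZG hsub hallG hdis hA1 hle hq hqA
  · exact no_excess N hN0 Aᶜ hZG hsub (fun g hg => by rw [compl_compl]; exact (hallG g hg).symm)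
      (fun g h1 h2 => hdis g (compl_compl A ▸ h2) h1) hA2 hle hq hqA

end Cfsg.Agent.S4184
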