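import Cfsg.Statements.S4186

set_option autoImplicit false
open Cfsg

namespace Cfsg.Agent.S4186

/-- Let T and X be subgroups of a group with T a finite 2-group normalizing X but not centralizing it. Then some element of T inverts some non-identity element of X under conjugation. -/
theorem result {G : Type*} [Group G] (T X : Subgroup G) [Finite ↥T] (hT : IsPGroup 2 ↥T) (hTN : T ≤ Subgroup.normalizer (X : Set G)) (hTC : ¬ T ≤ Subgroup.centralizer (X : Set G)) : ∃ t ∈ T, ∃ x ∈ X, x ≠ 1 ∧ t * x * t⁻¹ = x⁻¹ := by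
  classical
  by_contra hcon
  push Not at hcon
  apply hTC
  intro t ht
  obtain ⟨k, hk⟩ := hT ⟨t, ht⟩
  have hk' : t ^ (2 ^ k) = 1 := by simpa using congrArg Subtype.val hk
  clear hk
  induction k generalizing t with
  | zero =>
    simp only [pow_zero, pow_one] at hk'
    subst hk'
    exact Subgroup.one_mem _
  | succ k ih =>
    have h2 : t ^ 2 ∈ Subgroup.centralizer (X : Set G) := by
      refine ih (T.pow_mem ht 2) ?_
      rw [← pow_mul, ← pow_succ']; exact hk'
    rw [Subgroup.mem_centralizer_iff]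
    intro x hx
    have hx' : t * x * t⁻¹ ∈ X := ((Subgroup.mem_normalizer_iff.mp (hTN ht)) x).mp hx
    have h3 : t * (t * x * t⁻¹) * t⁻¹ = x := by
      have := (Subgroup.mem_centralizer_iff.mp h2) x hx
      calc t * (t * x * t⁻¹) * t⁻¹ = t ^ 2 * x * (t ^ 2)⁻¹ := by rw [pow_two]; simp [mul_assoc]
      _ = x * t ^ 2 * (t ^ 2)⁻¹ := by rw [this]
      _ = x := by group
    by_contra hne
    refine hcon t ht (x⁻¹ * (t * x * t⁻¹)) (X.mul_mem (X.inv_mem hx) hx') ?_ ?_
    · intro h
      apply hne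
      have h4 : t * x * t⁻¹ = x := by
        calc t * x * t⁻¹ = x * (x⁻¹ * (t * x * t⁻¹)) := by group
        _ = x := by rw [h, mul_one]
      calc x * t = (t * x * t⁻¹) * t := by rw [h4]
      _ = t * x := by group
    · calc t * (x⁻¹ * (t * x * t⁻¹)) * t⁻¹ = (t * x * t⁻¹)⁻¹ * (t * (t * x * t⁻¹) * t⁻¹) := by group
      _ = (t * x * t⁻¹)⁻¹ * x := by rw [h3]
      _ = _ := by group

end Cfsg.Agent.S4186
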