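import Cfsg.Statements.S4188
import Mathlib
import Cfsg.Agent.Lib.Base.Nilpotent
import Cfsg.Agent.Lib.PGroups.MaxAbelian
import Cfsg.Agent.Lib.PGroups.UniqueOrderP
import Cfsg.Agent.Lib.FgsB.Basic

set_option autoImplicit false
set_option linter.style.haveILetI false
open Cfsg

namespace Cfsg.Agent.S4188

open Subgroup

universe u w

/-- The subgroup generated by all squares. -/
def sq2 (P : Type u) [Group P] : Subgroup P := Subgroup.closure (Set.range fun x : P => x * x)

theorem sq2_normal (P : Type u) [Group P] : (sq2 P).Normal := by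
  refine ⟨fun v hv g => ?_⟩
  have hle : sq2 P ≤ (sq2 P).comap (MulAut.conj g).toMonoidHom := by
    rw [sq2, closure_le]
    rintro _ ⟨y, rfl⟩
    exact subset_closure ⟨g * y * g⁻¹, by simp⟩
  exact hle hv

/-- The index of the subgroup generated by the squares. -/
noncomputable def sqi (P : Type u) [Group P] : ℕ := (sq2 P).index

theorem sqi_le_card (P : Type u) [Group P] [Finite P] : sqi P ≤ Nat.card P :=
  Nat.le_of_dvd Nat.card_pos (index_dvd_card _)

theorem sqi_le_mul {P : Type u} [Group P] [Finite P] (K : Subgroup P) [K.Normal] :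
    sqi P ≤ sqi (P ⧸ K) * sqi K := by
  haveI := sq2_normal P
  have hmap : (sq2 P).map (QuotientGroup.mk' K) = sq2 (P ⧸ K) := by
    rw [sq2, sq2, MonoidHom.map_closure, ← Set.range_comp]
    refine congrArg Subgroup.closure (Set.ext fun y => ⟨?_, ?_⟩)
    · rintro ⟨x, rfl⟩; exact ⟨QuotientGroup.mk' K x, by simp⟩
    · rintro ⟨x, rfl⟩
      obtain ⟨x, rfl⟩ := QuotientGroup.mk'_surjective K x
      exact ⟨x, by simp⟩
  have h1 : sqi (P ⧸ K) = (sq2 P ⊔ K).index := by
    rw [sqi, ← hmap, ← index_comap_of_surjective _ (QuotientGroup.mk'_surjective K),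
      comap_map_eq, QuotientGroup.ker_mk']
  have h2 : (sq2 P).relIndex (sq2 P ⊔ K) ≤ sqi K := by
    rw [sup_comm, relIndex_sup_right]
    refine Nat.le_of_dvd (Nat.pos_of_ne_zero index_ne_zero_of_finite) (index_dvd_of_le ?_)
    rw [sq2, closure_le]
    rintro _ ⟨y, rfl⟩
    exact mem_subgroupOf.mpr (subset_closure ⟨(y : P), rfl⟩)
  calc sqi P = (sq2 P).relIndex (sq2 P ⊔ K) * (sq2 P ⊔ K).index :=
        (relIndex_mul_index le_sup_left).symm
    _ ≤ sqi K * sqi (P ⧸ K) := by rw [h1]; exact Nat.mul_le_mul_right _ h2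
    _ = _ := mul_comm _ _

theorem sqi_eq_card_sq {B : Type u} [CommGroup B] [Finite B] :
    sqi B = Nat.card {b : B // b ^ 2 = 1} := by
  have h1 : sq2 B = (powMonoidHom 2 : B →* B).range := by
    rw [sq2, ← (powMonoidHom 2 : B →* B).range.closure_eq]
    refine congrArg Subgroup.closure (Set.ext fun y => ⟨?_, ?_⟩)
    · rintro ⟨x, rfl⟩; exact ⟨x, by simp [pow_two]⟩
    · rintro ⟨x, rfl⟩; exact ⟨x, by simp [pow_two]⟩
  have h2 := (powMonoidHom 2 : B →* B).range.card_mul_index
  have h3 := (powMonoidHom 2 : B →* B).ker.card_mul_index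
  rw [index_ker] at h3
  rw [sqi, h1]
  have hpos : 0 < Nat.card (powMonoidHom 2 : B →* B).range := Nat.card_pos
  have hk : Nat.card (powMonoidHom 2 : B →* B).ker = Nat.card {b : B // b ^ 2 = 1} :=
    Nat.card_congr (Equiv.subtypeEquivRight fun b => by simp [MonoidHom.mem_ker])
  rw [← hk]
  exact Nat.eq_of_mul_eq_mul_left hpos (h2.trans (h3.symm.trans (mul_comm _ _)))

/-- A bound through an injection into a group with few square roots of one. -/
theorem sqi_le_of_injective {P : Type u} [Group P] [Finite P] {Q : Type w} [Group Q] [Finite Q]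
    (f : P →* Q) (hf : Function.Injective f) (hQ : ∀ a b : Q, a * b = b * a) {m : ℕ}
    (hm : Nat.card {b : Q // b ^ 2 = 1} ≤ m) : sqi P ≤ m := by
  letI : CommGroup P := { (inferInstance : Group P) with
    mul_comm := fun a b => hf (by rw [map_mul, map_mul, hQ]) }
  rw [sqi_eq_card_sq]
  refine le_trans ?_ hm
  exact Nat.card_le_card_of_injective (fun b => ⟨f b.1, by rw [← map_pow, b.2, map_one]⟩)
    fun a b h => Subtype.ext (hf (congrArg Subtype.val h))

theorem card_sq_mulAut_le_two {V : Type w} [Group V] [Finite V] [IsCyclic V]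
    (hV : (Nat.card V).Prime) : Nat.card {b : MulAut V // b ^ 2 = 1} ≤ 2 := by
  haveI := Fact.mk hV
  haveI : IsCyclic (MulAut V) := isCyclic_of_surjective _ (IsCyclic.mulAutMulEquiv V).symm.surjective
  classical
  letI := Fintype.ofFinite (MulAut V)
  rw [Nat.card_eq_fintype_card, Fintype.card_subtype]
  exact IsCyclic.card_pow_eq_one_le two_pos

theorem roots_le_four (m : ℕ) (hm : 1 ≤ m) :
    Nat.card {k : (ZMod (2 ^ m))ˣ // k ^ 2 = 1} ≤ 4 := by
  classical
  haveI : NeZero (2 ^ m) := ⟨by positivity⟩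
  let c : ZMod (2 ^ m) := ((2 ^ (m - 1) : ℕ) : ℤ)
  let S : Finset (ZMod (2 ^ m)) := {1, -1, 1 + c, -1 + c}
  have hmem : ∀ k : {k : (ZMod (2 ^ m))ˣ // k ^ 2 = 1}, ((k.1 : ZMod (2 ^ m))) ∈ S := by
    rintro ⟨k, hk⟩
    set K : ℤ := ((k : ZMod (2 ^ m)).val : ℤ) with hK
    have hKk : ((K : ℤ) : ZMod (2 ^ m)) = k := by rw [hK, Int.cast_natCast, ZMod.natCast_zmod_val]
    have hd : ((2 : ℤ) ^ m) ∣ (K - 1) * (K + 1) := by
      have h1 : (((K - 1) * (K + 1) : ℤ) : ZMod (2 ^ m)) = 0 := by
        push_cast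
        rw [hKk]
        have h2 : (k : ZMod (2 ^ m)) * k = 1 := by
          rw [← Units.val_mul, ← pow_two, hk, Units.val_one]
        linear_combination h2
      exact_mod_cast (ZMod.intCast_zmod_eq_zero_iff_dvd _ _).mp h1
    have key : ∀ e : ℤ, ((2 : ℤ) ^ (m - 1)) ∣ K - e → (k : ZMod (2 ^ m)) = (e : ZMod (2 ^ m)) ∨
        (k : ZMod (2 ^ m)) = (e : ZMod (2 ^ m)) + c := by
      rintro e ⟨t, ht⟩
      have hk' : (k : ZMod (2 ^ m)) = (e : ZMod (2 ^ m)) + (t : ZMod (2 ^ m)) * c := by
        rw [← hKk, show K = e + t * 2 ^ (m - 1) by linarith]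
        simp [c]
      have h2c : c + c = 0 := by
        show (((2 ^ (m - 1) : ℕ) : ℤ) : ZMod (2 ^ m)) + (((2 ^ (m - 1) : ℕ) : ℤ) : ZMod (2 ^ m)) = 0
        rw [Int.cast_natCast, ← Nat.cast_add, ← two_mul, ← pow_succ', show m - 1 + 1 = m by omega,
          ZMod.natCast_self]
      rcases Int.even_or_odd t with ⟨s, rfl⟩ | ⟨s, rfl⟩
      · left; rw [hk']; push_cast; linear_combination (s : ZMod (2 ^ m)) * h2c
      · right; rw [hk']; push_cast; linear_combination (s : ZMod (2 ^ m)) * h2c
    have hsplit : ((2 : ℤ) ^ (m - 1)) ∣ K - 1 ∨ ((2 : ℤ) ^ (m - 1)) ∣ K + 1 := by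
      rcases Nat.lt_or_ge m 2 with hlt | hge
      · left; rw [show m - 1 = 0 by omega, pow_zero]; exact one_dvd _
      have h2K : (2 : ℤ) ∣ K - 1 := by
        have hd2 : (2 : ℤ) ∣ (K - 1) * (K + 1) := (dvd_pow_self 2 (by omega)).trans hd
        rcases Int.prime_two.dvd_or_dvd hd2 with h | h
        · exact h
        · have : K - 1 = (K + 1) - 2 := by ring
          rw [this]; exact dvd_sub h dvd_rfl
      obtain ⟨a, ha⟩ := h2K
      have hd' : ((2 : ℤ) ^ (m - 2)) ∣ a * (a + 1) := by
        have h4 : (K - 1) * (K + 1) = 4 * (a * (a + 1)) := by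
          rw [show K + 1 = (K - 1) + 2 by ring, ha]; ring
        rw [h4, show m = 2 + (m - 2) by omega, pow_add] at hd
        rw [show m = 2 + (m - 2) by omega]
        simpa using Int.dvd_of_mul_dvd_mul_left (by norm_num : (4 : ℤ) ≠ 0) (by simpa using hd)
      have hm1 : (2 : ℤ) ^ (m - 1) = 2 * 2 ^ (m - 2) := by
        rw [← pow_succ', show m - 2 + 1 = m - 1 by omega]
      rcases Int.even_or_odd a with ⟨s, hs⟩ | ⟨s, hs⟩
      · left
        rw [hm1, ha]
        have hco : IsCoprime (2 : ℤ) (a + 1) := ⟨-s, 1, by rw [hs]; ring⟩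
        exact mul_dvd_mul_left 2 (hco.pow_left.dvd_of_dvd_mul_right hd')
      · right
        rw [hm1, show K + 1 = 2 * (a + 1) by linarith]
        have hco : IsCoprime (2 : ℤ) a := ⟨-s, 1, by rw [hs]; ring⟩
        exact mul_dvd_mul_left 2 (hco.pow_left.dvd_of_dvd_mul_left hd')
    simp only [S, Finset.mem_insert, Finset.mem_singleton]
    rcases hsplit with h | h
    · rcases key 1 h with h' | h' <;> simp_all
    · rcases key (-1) (by rw [sub_neg_eq_add]; exact h) with h' | h' <;> simp_all
  refine le_trans (Nat.card_le_card_of_injective (fun k => (⟨_, hmem k⟩ : S))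
    fun a b h => Subtype.ext (Units.ext (congrArg Subtype.val h :))) ?_
  rw [Nat.card_eq_fintype_card, Fintype.card_coe]
  refine (Finset.card_insert_le _ _).trans (Nat.succ_le_succ ((Finset.card_insert_le _ _).trans
    (Nat.succ_le_succ ((Finset.card_insert_le _ _).trans (Nat.succ_le_succ ?_)))))
  simp

section Action

variable {P : Type u} [Group P] [Finite P] {V : Type w} [CommGroup V] [Finite V]

/-- A subgroup mapped into itself. -/
def Inv' (φ : P →* MulAut V) (W : Subgroup V) : Prop := ∀ x : P, ∀ v ∈ W, φ x v ∈ W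

theorem Inv'.map_eq {φ : P →* MulAut V} {W : Subgroup V} (h : Inv' φ W) (x : P) :
    W.map (φ x).toMonoidHom = W := by
  refine le_antisymm (by rintro _ ⟨v, hv, rfl⟩; exact h x v hv) fun v hv => ⟨φ x⁻¹ v, h _ _ hv, ?_⟩
  show φ x (φ x⁻¹ v) = v
  rw [← MulAut.mul_apply, ← map_mul, mul_inv_cancel, map_one, MulAut.one_apply]

/-- Restriction to an invariant subgroup. -/
def restrict {φ : P →* MulAut V} {W : Subgroup V} (h : Inv' φ W) : P →* MulAut W where
  toFun x :=
    { toFun := fun v => ⟨φ x v.1, h x _ v.2⟩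
      invFun := fun v => ⟨φ x⁻¹ v.1, h _ _ v.2⟩
      left_inv := fun v => Subtype.ext (by
        show φ x⁻¹ (φ x v.1) = v.1
        rw [← MulAut.mul_apply, ← map_mul, inv_mul_cancel, map_one, MulAut.one_apply])
      right_inv := fun v => Subtype.ext (by
        show φ x (φ x⁻¹ v.1) = v.1
        rw [← MulAut.mul_apply, ← map_mul, mul_inv_cancel, map_one, MulAut.one_apply])
      map_mul' := fun a b => Subtype.ext (map_mul (φ x) _ _) }
  map_one' := by ext v; simp
  map_mul' x y := by ext v; simp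

theorem mem_ker_restrict {φ : P →* MulAut V} {W : Subgroup V} (h : Inv' φ W) {x : P} :
    x ∈ (restrict h).ker ↔ ∀ v ∈ W, φ x v = v := by
  refine ⟨fun hx v hv => by
      have h4 := DFunLike.congr_fun (MonoidHom.mem_ker.mp hx) (⟨v, hv⟩ : W)
      exact congrArg Subtype.val h4,
    fun hx => MonoidHom.mem_ker.mpr (MulEquiv.ext fun v => Subtype.ext (hx v.1 v.2))⟩

/-- A 2-element trivial on `W` and modulo `W` is trivial (`V` of odd order). -/
theorem eq_one_of_stabilizes {φ : P →* MulAut V} (hφ : Function.Injective φ) (hP : IsPGroup 2 P)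
    (hodd : Odd (Nat.card V)) {W : Subgroup V} {x : P} (h1 : ∀ v ∈ W, φ x v = v)
    (h2 : ∀ v, v⁻¹ * φ x v ∈ W) : x = 1 := by
  obtain ⟨k, hk⟩ := hP x
  refine hφ (MulEquiv.ext fun v => ?_)
  rw [map_one, MulAut.one_apply]
  have hpow : ∀ n : ℕ, φ (x ^ n) v = v * (v⁻¹ * φ x v) ^ n := by
    intro n
    induction n with
    | zero => simp
    | succ n ih =>
      rw [pow_succ', map_mul, MulAut.mul_apply, ih, map_mul, map_pow, h1 _ (h2 v), pow_succ',
        ← mul_assoc, mul_inv_cancel_left]
  have hw := hpow (2 ^ k)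
  rw [hk, map_one, MulAut.one_apply, eq_comm, mul_eq_left] at hw
  have hc : (2 ^ k).Coprime (Nat.card V) := Nat.Coprime.pow_left k (Nat.coprime_two_left.mpr hodd)
  have he : v⁻¹ * φ x v = 1 := by
    rw [← orderOf_eq_one_iff]
    exact Nat.eq_one_of_dvd_coprimes hc (orderOf_dvd_of_pow_eq_one hw) (orderOf_dvd_natCard _)
  exact (inv_mul_eq_one.mp he).symm

/-- The kernel of the restriction, acting modulo `W`. -/
theorem exists_quotient_action {φ : P →* MulAut V} {W : Subgroup V} (hW : Inv' φ W) :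
    ∃ ψ : P →* MulAut (V ⧸ W), ∀ (x : P) (v : V), ψ x (v : V ⧸ W) = ((φ x v : V) : V ⧸ W) :=
  ⟨{ toFun := fun x => QuotientGroup.congr W W (φ x) (hW.map_eq x)
     map_one' := by
      ext v
      obtain ⟨v, rfl⟩ := QuotientGroup.mk'_surjective W v
      simp
     map_mul' := fun x y => by
      ext v
      obtain ⟨v, rfl⟩ := QuotientGroup.mk'_surjective W v
      simp
      rfl }, fun x v => rfl⟩

theorem card_mulAut_three {X : Type w} [Group X] [Finite X] (h : Nat.card X = 3) :
    Nat.card (MulAut X) = 2 := by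
  haveI : Fact (Nat.Prime 3) := ⟨Nat.prime_three⟩
  haveI : IsCyclic X := isCyclic_of_prime_card (p := 3) h
  rw [IsCyclic.card_mulAut, h]; decide

end Action

/-- The bound. -/
theorem bound (n : ℕ) : ∀ {P : Type u} [Group P] [Finite P] {V : Type w} [CommGroup V] [Finite V]
    (φ : P →* MulAut V), Nat.card V ≤ n → Function.Injective φ → IsPGroup 2 P → Odd (Nat.card V) →
    1 < Nat.card V → Nat.card V = 3 ∨ 2 * sqi P ≤ Nat.card V := by
  induction n with
  | zero => intro P _ _ V _ _ φ hn; exact absurd hn (Nat.not_le.mpr Nat.card_pos)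
  | succ n ih =>
  intro P _ _ V _ _ φ hn hφ hP hodd h1
  classical
  haveI : Fact (Nat.Prime 2) := ⟨Nat.prime_two⟩
  by_cases h3 : Nat.card V = 3
  · exact Or.inl h3
  right
  have hv5 : 5 ≤ Nat.card V := by obtain ⟨j, hj⟩ := hodd; omega
  have hlt : ∀ W : Subgroup V, W ≠ ⊤ → Nat.card W ≤ n := fun W hW => by
    have h4 : Nat.card W < Nat.card V :=
      lt_of_le_of_ne (card_le_card_group W) fun e => hW (eq_top_of_card_eq W e)
    omega
  -- the estimate for a quotient by a kernel
  have hker : ∀ {Q : Type u} [Group Q] [Finite Q] {X : Type w} [CommGroup X] [Finite X]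
      (ψ : Q →* MulAut X), Nat.card X ≤ n → IsPGroup 2 Q → Odd (Nat.card X) → 1 < Nat.card X →
      2 * sqi (Q ⧸ ψ.ker) ≤ Nat.card X ∨ (Nat.card X = 3 ∧ sqi (Q ⧸ ψ.ker) ≤ 2) := by
    intro Q _ _ X _ _ ψ hXn hQ hXo hX1
    rcases ih (QuotientGroup.kerLift ψ) hXn (QuotientGroup.kerLift_injective ψ) (hQ.to_quotient _)
      hXo hX1 with h | h
    · exact Or.inr ⟨h, (sqi_le_card _).trans ((Nat.card_le_card_of_injective _
        (QuotientGroup.kerLift_injective ψ)).trans (card_mulAut_three h).le)⟩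
    · exact Or.inl h
  by_cases hred : ∃ W : Subgroup V, W ≠ ⊥ ∧ W ≠ ⊤ ∧ Inv' φ W
  · obtain ⟨W, hWb, hWt, hW⟩ := hred
    set K := (restrict hW).ker with hK
    obtain ⟨ψ, hψ⟩ := exists_quotient_action hW
    have hinj : Function.Injective (ψ.comp K.subtype) := by
      rw [injective_iff_map_eq_one]
      intro k hk
      refine Subtype.ext (eq_one_of_stabilizes hφ hP hodd ((mem_ker_restrict hW).mp k.2) fun v => ?_)
      have h4 := hψ k v
      rw [show ψ (k : P) = 1 from hk, MulAut.one_apply] at h4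
      exact QuotientGroup.eq.mp h4
    have hcV := W.card_mul_index
    have hW1 : 1 < Nat.card W := (Subgroup.one_lt_card_iff_ne_bot W).mpr hWb
    have hWi : 1 < W.index := by
      have := mt index_eq_one.mp hWt
      have := (index_ne_zero_of_finite : W.index ≠ 0)
      omega
    have hWi' : W.index < Nat.card V := by rw [← hcV]; exact lt_mul_of_one_lt_left (by omega) hW1
    have ha := hker (restrict hW) (hlt W hWt) hP (hodd.of_dvd_nat (card_subgroup_dvd_card W)) hW1
    have hb : 2 * sqi K ≤ W.index ∨ (W.index = 3 ∧ sqi K ≤ 2) := by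
      rcases ih (ψ.comp K.subtype) (by rw [← index_eq_card]; omega) hinj (hP.to_subgroup K)
        (hodd.of_dvd_nat (by rw [← index_eq_card]; exact index_dvd_card W))
        (by rw [← index_eq_card]; exact hWi) with h | h
      · exact Or.inr ⟨h, (sqi_le_card _).trans ((Nat.card_le_card_of_injective _ hinj).trans
          (card_mulAut_three h).le)⟩
      · exact Or.inl h
    have h4 := sqi_le_mul K
    rw [← hcV]
    rcases ha with ha | ⟨e1, ha⟩ <;> rcases hb with hb | ⟨e2, hb⟩
    · calc 2 * sqi P ≤ 2 * (sqi (P ⧸ K) * sqi K) := Nat.mul_le_mul_left 2 h4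
        _ ≤ (2 * sqi (P ⧸ K)) * (2 * sqi K) := by nlinarith
        _ ≤ _ := Nat.mul_le_mul ha hb
    · rw [e2]; nlinarith
    · rw [e1]; nlinarith
    · rw [e1, e2]; nlinarith
  push Not at hred
  have hirr : ∀ W : Subgroup V, Inv' φ W → W = ⊥ ∨ W = ⊤ := fun W hW => by
    by_contra hc
    push Not at hc
    exact hred W hc.1 hc.2 hW
  -- fixed points of an element
  let fix : P → Subgroup V := fun a => MonoidHom.eqLocus (φ a).toMonoidHom (MonoidHom.id V)
  have hfix : ∀ a v, v ∈ fix a ↔ φ a v = v := fun a v => Iff.rfl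
  have hfix_inv : ∀ a x : P, Commute x a → ∀ v ∈ fix a, φ x v ∈ fix a := fun a x hc v hv => by
    rw [hfix] at hv ⊢
    rw [← MulAut.mul_apply, ← map_mul, ← hc.eq, map_mul, MulAut.mul_apply, hv]
  have hfix_ne_top : ∀ a : P, a ≠ 1 → fix a ≠ ⊤ := fun a ha h => ha (hφ (MulEquiv.ext fun v => by
    rw [map_one, MulAut.one_apply]; exact (hfix a v).mp (h ▸ mem_top v)))
  have hinvert : ∀ a : P, a ^ 2 = 1 → fix a = ⊥ → ∀ v, φ a v = v⁻¹ := by
    intro a ha h v
    have h4 : v * φ a v ∈ fix a := by
      rw [hfix, map_mul, ← MulAut.mul_apply, ← map_mul, ← pow_two, ha, map_one, MulAut.one_apply,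
        mul_comm]
    rw [h, mem_bot] at h4
    exact eq_inv_of_mul_eq_one_right h4
  by_cases hH : ∃ (H : Subgroup P) (W : Subgroup V), H.index = 2 ∧ W ≠ ⊥ ∧ W ≠ ⊤ ∧
      ∀ h ∈ H, ∀ v ∈ W, φ h v ∈ W
  · obtain ⟨H, W, hH2, hWb, hWt, hHW⟩ := hH
    haveI := normal_of_index_eq_two hH2
    obtain ⟨x, hx⟩ : ∃ x, x ∉ H := by
      by_contra hc
      push Not at hc
      rw [(eq_top_iff' H).mpr hc, index_top] at hH2
      omega
    have hxx : x * x ∈ H := mul_self_mem_of_index_two hH2 x
    set W' := W.map (φ x).toMonoidHom with hW'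
    have hH' : ∀ h ∈ H, ∀ v ∈ W', φ h v ∈ W' := by
      rintro h hh _ ⟨v, hv, rfl⟩
      refine ⟨φ (x⁻¹ * h * x) v, hHW _ (by
        simpa using (inferInstance : H.Normal).conj_mem h hh x⁻¹) v hv, ?_⟩
      show φ x (φ (x⁻¹ * h * x) v) = φ h (φ x v)
      rw [← MulAut.mul_apply, ← map_mul, ← MulAut.mul_apply, ← map_mul]
      group
    have hxW' : ∀ v ∈ W', φ x v ∈ W := by
      rintro _ ⟨v, hv, rfl⟩
      show φ x (φ x v) ∈ W
      rw [← MulAut.mul_apply, ← map_mul]
      exact hHW _ hxx v hv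
    have hgen : ∀ (S : Subgroup V), (∀ h ∈ H, ∀ v ∈ S, φ h v ∈ S) → (∀ v ∈ S, φ x v ∈ S) →
        Inv' φ S := by
      intro S hS hxS y v hv
      by_cases hy : y ∈ H
      · exact hS y hy v hv
      · have hh : y * x⁻¹ ∈ H := (mul_mem_iff_of_index_two hH2).mpr (by simp [hy, hx, inv_mem_iff])
        rw [show y = (y * x⁻¹) * x by group, map_mul, MulAut.mul_apply]
        exact hS _ hh _ (hxS v hv)
    have hinf : W ⊓ W' = ⊥ := by
      refine (hirr (W ⊓ W') (hgen _ (fun h hh v hv => Subgroup.mem_inf.mpr ⟨hHW h hh v hv.1, hH' h hh v hv.2⟩)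
        (fun v hv => Subgroup.mem_inf.mpr ⟨hxW' v hv.2, ⟨v, hv.1, rfl⟩⟩))).resolve_right fun h => hWt ?_
      exact top_le_iff.mp (h ▸ inf_le_left)
    have hsup : W ⊔ W' = ⊤ := by
      refine (hirr _ (hgen _ (fun h hh v hv => ?_) (fun v hv => ?_))).resolve_left fun h =>
        hWb (le_bot_iff.mp (h ▸ le_sup_left))
      · obtain ⟨a, ha, b, hb, rfl⟩ := mem_sup.mp hv
        rw [map_mul]
        exact mem_sup.mpr ⟨_, hHW h hh a ha, _, hH' h hh b hb, rfl⟩
      · obtain ⟨a, ha, b, hb, rfl⟩ := mem_sup.mp hv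
        rw [map_mul, mul_comm]
        exact mem_sup.mpr ⟨_, hxW' b hb, _, ⟨a, ha, rfl⟩, rfl⟩
    have hW1 : Inv' (φ.comp H.subtype) W := fun h v hv => hHW _ h.2 v hv
    have hW1' : Inv' (φ.comp H.subtype) W' := fun h v hv => hH' _ h.2 v hv
    set K := (restrict hW1).ker with hK
    have hinjK : Function.Injective ((restrict hW1').comp K.subtype) := by
      rw [injective_iff_map_eq_one]
      intro k hk
      have hk1 := (mem_ker_restrict hW1').mp (MonoidHom.mem_ker.mpr hk)
      have hk2 := (mem_ker_restrict hW1).mp k.2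
      refine Subtype.ext (Subtype.ext (hφ (MulEquiv.ext fun v => ?_)))
      obtain ⟨a, ha, b, hb, rfl⟩ := mem_sup.mp (hsup ▸ mem_top v)
      simp only [OneMemClass.coe_one, map_one, MulAut.one_apply, map_mul]
      exact congrArg₂ (· * ·) (hk2 a ha) (hk1 b hb)
    have hcW : Nat.card W' = Nat.card W := card_map_of_injective (φ x).injective
    have hcV : Nat.card W * Nat.card W = Nat.card V := by
      have hc : IsComplement' W W' := isComplement'_of_disjoint_and_mul_eq_univ
        (disjoint_iff.mpr hinf) (by rw [← Subgroup.normal_mul, hsup, Subgroup.coe_top])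
      have := hc.card_mul
      rwa [hcW] at this
    have hWc : 1 < Nat.card W := (Subgroup.one_lt_card_iff_ne_bot W).mpr hWb
    have ha := hker (restrict hW1) (hlt W hWt) (hP.to_subgroup H)
      (hodd.of_dvd_nat (card_subgroup_dvd_card W)) hWc
    have hb := ih ((restrict hW1').comp K.subtype) (hcW ▸ hlt W hWt) hinjK
      ((hP.to_subgroup H).to_subgroup K)
      (hodd.of_dvd_nat (card_subgroup_dvd_card W')) (hcW ▸ hWc)
    have hPH : sqi P ≤ 2 * sqi H := by
      refine (sqi_le_mul H).trans (Nat.mul_le_mul_right _ ((sqi_le_card _).trans ?_))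
      rw [← index_eq_card, hH2]
    have hHK := sqi_le_mul K
    by_cases hu : Nat.card W = 3
    · -- order nine
      have hH4 : Nat.card H ≤ 4 := by
        rw [← K.card_mul_index]
        have a1 : Nat.card K ≤ 2 := (Nat.card_le_card_of_injective _ hinjK).trans
          (card_mulAut_three (hcW.trans hu)).le
        have a2 : K.index ≤ 2 := by
          rw [hK, index_ker]
          exact (card_le_card_group _).trans (card_mulAut_three hu).le
        calc _ ≤ 2 * 2 := Nat.mul_le_mul a1 a2
          _ = 4 := rfl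
      have hP8 : Nat.card P ≤ 8 := by rw [← H.card_mul_index, hH2]; omega
      rw [← hcV, hu]
      by_contra hbig
      push Not at hbig
      obtain ⟨c, hc⟩ := hP.exists_card_eq
      obtain ⟨d, -, hd⟩ : ∃ d ≤ c, sqi P = 2 ^ d :=
        (Nat.dvd_prime_pow Nat.prime_two).mp (hc ▸ index_dvd_card _)
      have hd3 : 8 ≤ sqi P := by
        rw [hd] at hbig ⊢
        rcases d with _ | _ | _ | d
        · norm_num at hbig
        · norm_num at hbig
        · norm_num at hbig
        · exact Nat.le_of_dvd (by positivity) (Dvd.intro_left (2 ^ d) (by ring))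
      have heq : sqi P = Nat.card P := le_antisymm (sqi_le_card P) (by omega)
      have hsq : sq2 P = ⊥ := by
        rw [← card_eq_one]
        have h9 := (sq2 P).card_mul_index
        exact (mul_eq_right₀ (index_ne_zero_of_finite (H := sq2 P))).mp (h9.trans heq.symm)
      have h2 : ∀ y : P, y ^ 2 = 1 := fun y => by
        rw [pow_two, ← mem_bot (G := P), ← hsq]; exact subset_closure ⟨y, rfl⟩
      have hcomm : ∀ y y' : P, Commute y y' := fun y y' => by
        have i : ∀ u : P, u⁻¹ = u := fun u => inv_eq_of_mul_eq_one_left (by rw [← pow_two]; exact h2 u)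
        show y * y' = y' * y
        rw [← i (y * y'), mul_inv_rev, i, i]
      have hone : ∀ y : P, y ≠ 1 → ∀ v, φ y v = v⁻¹ := fun y hy => hinvert y (h2 y)
        ((hirr _ fun g v hv => hfix_inv y g (hcomm g y) v hv).resolve_right (hfix_ne_top y hy))
      have hle2 : Nat.card P ≤ 2 := by
        refine (Nat.card_le_card_of_injective (fun y : P => decide (y = 1)) fun y y' h => ?_).trans
          (by simp)
        simp only [decide_eq_decide] at h
        by_cases hy : y = 1
        · rw [hy, h.mp hy]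
        · exact hφ (MulEquiv.ext fun v => by rw [hone y hy v, hone y' (fun e => hy (h.mpr e)) v])
      omega
    · have ha' : 2 * sqi (H ⧸ K) ≤ Nat.card W := ha.resolve_right fun h => hu h.1
      have hb' : 2 * sqi K ≤ Nat.card W := hcW ▸ hb.resolve_left (hcW ▸ hu)
      rw [← hcV]
      calc 2 * sqi P ≤ 2 * (2 * (sqi (H ⧸ K) * sqi K)) :=
            Nat.mul_le_mul_left 2 (hPH.trans (Nat.mul_le_mul_left 2 hHK))
        _ = (2 * sqi (H ⧸ K)) * (2 * sqi K) := by ring
        _ ≤ _ := Nat.mul_le_mul ha' hb'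
  push Not at hH
  -- primitive case
  rcases subsingleton_or_nontrivial P with hsub | hnt
  · have := sqi_le_card P
    have h4 : Nat.card P = 1 := Nat.card_eq_one_iff_unique.mpr ⟨hsub, inferInstance⟩
    omega
  -- exponent of V
  obtain ⟨q, hq, hqd⟩ := Nat.exists_prime_and_dvd (show Nat.card V ≠ 1 by omega)
  haveI := Fact.mk hq
  have hVq : ∀ v : V, v ^ q = 1 := by
    let S : Subgroup V := (powMonoidHom q : V →* V).ker
    have hS : Inv' φ S := fun x v hv => by
      rw [MonoidHom.mem_ker, powMonoidHom_apply] at hv ⊢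
      rw [← map_pow, hv, map_one]
    rcases hirr S hS with h | h
    · obtain ⟨v, hv⟩ := exists_prime_orderOf_dvd_card' q hqd
      have : v ∈ S := by rw [MonoidHom.mem_ker, powMonoidHom_apply, ← hv, pow_orderOf_eq_one]
      rw [h, mem_bot] at this
      rw [this, orderOf_one] at hv
      exact absurd hv.symm hq.ne_one
    · exact fun v => by simpa [S, MonoidHom.mem_ker] using (h ▸ mem_top v : v ∈ S)
  obtain ⟨e, he⟩ := IsPGroup.iff_card.mp (fun v : V => ⟨1, by rw [pow_one]; exact hVq v⟩ : IsPGroup q V)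
  have he0 : e ≠ 0 := fun h => by rw [he, h, pow_zero] at h1; omega
  by_cases he1 : e = 1
  · haveI : IsCyclic V := isCyclic_of_prime_card (p := q) (by rw [he, he1, pow_one])
    have h4 : sqi P ≤ 2 := by
      refine sqi_le_of_injective φ hφ (fun a b => ?_) (card_sq_mulAut_le_two (by rw [he, he1, pow_one]; exact hq))
      exact (IsCyclic.mulAutMulEquiv V).injective (by rw [map_mul, map_mul, mul_comm])
    omega
  have hq3 : 3 ≤ q := by
    have h4 : q ≠ 2 := fun e2 => by
      subst e2
      exact Nat.not_even_iff_odd.mpr hodd (even_iff_two_dvd.mpr hqd)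
    have := hq.two_le
    omega
  -- a maximal abelian normal subgroup
  obtain ⟨A, hAn, hAab, -, hAC⟩ := CfsgLib.PGroups.exists_selfCentralizing_normal hP (⊥ : Subgroup P)
    ⟨⟨fun a b => Subsingleton.elim _ _⟩⟩
  haveI := hAn
  haveI := hAab
  haveI := hP.center_nontrivial
  obtain ⟨z, hz⟩ := exists_prime_orderOf_dvd_card' (G := center P) 2 (by
    obtain ⟨j, hj⟩ := (hP.to_subgroup (center P)).exists_card_eq
    have hj0 : j ≠ 0 := fun h => by
      rw [h, pow_zero] at hj
      exact absurd hj (Finite.one_lt_card (α := center P)).ne'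
    rw [hj]; exact dvd_pow_self 2 hj0)
  rw [← Subgroup.orderOf_coe] at hz
  have hz1 : (z : P) ≠ 1 := fun h => by rw [h, orderOf_one] at hz; omega
  have hzc : ∀ g : P, Commute g (z : P) := fun g => mem_center_iff.mp z.2 g
  have hz2 : (z : P) ^ 2 = 1 := by rw [← hz]; exact pow_orderOf_eq_one _
  have hzA : (z : P) ∈ A := hAC ▸ mem_centralizer_iff.mpr fun a _ => hzc a
  have hzinv : ∀ v, φ (z : P) v = v⁻¹ := hinvert _ hz2
    ((hirr _ fun g v hv => hfix_inv _ g (hzc g) v hv).resolve_right (hfix_ne_top _ hz1))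
  have hzz : ∀ a : P, a ^ 2 = 1 → fix a = ⊥ → a = z := fun a ha h =>
    hφ (MulEquiv.ext fun v => by rw [hinvert a ha h v, hzinv v])
  have hunique : ∀ a ∈ A, a ^ 2 = 1 → a = 1 ∨ a = z := by
    let E : Subgroup P :=
      { carrier := {a | a ∈ A ∧ a ^ 2 = 1}
        one_mem' := ⟨one_mem A, one_pow 2⟩
        mul_mem' := fun {a b} ha hb => ⟨mul_mem ha.1 hb.1, by
          have hc : Commute a b := mem_centralizer_iff.mp (hAC.symm ▸ hb.1 : b ∈ centralizer (A : Set P)) a ha.1
          rw [hc.mul_pow, ha.2, hb.2, one_mul]⟩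
        inv_mem' := fun {a} ha => ⟨inv_mem ha.1, by rw [inv_pow, ha.2, inv_one]⟩ }
    haveI : E.Normal := ⟨fun a ha g => ⟨hAn.conj_mem a ha.1 g, by rw [conj_pow, ha.2]; group⟩⟩
    set Z := zpowers (z : P) with hZdef
    haveI : Z.Normal := ⟨fun y hy g => by
      obtain ⟨j, rfl⟩ := hy
      exact ⟨j, by rw [← conj_zpow, show g * (z : P) * g⁻¹ = z from mul_inv_eq_iff_eq_mul.mpr (hzc g)]⟩⟩
    intro a haA ha2
    by_contra hne
    push Not at hne
    have haZ : a ∉ Z := by
      rintro ⟨j, hj⟩
      simp only at hj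
      rw [← zpow_mod_orderOf, hz] at hj
      rcases Int.emod_two_eq_zero_or_one j with h | h <;> rw [show ((2 : ℕ) : ℤ) = 2 from rfl, h] at hj
      · exact hne.1 (by rw [← hj, zpow_zero])
      · exact hne.2 (by rw [← hj, zpow_one])
    have hEb : E.map (QuotientGroup.mk' Z) ≠ ⊥ := fun h => haZ (by
      have h4 : QuotientGroup.mk' Z a ∈ E.map (QuotientGroup.mk' Z) := mem_map_of_mem _ ⟨haA, ha2⟩
      rw [h, mem_bot] at h4
      exact (QuotientGroup.eq_one_iff a).mp h4)
    haveI : (E.map (QuotientGroup.mk' Z)).Normal :=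
      Subgroup.Normal.map inferInstance _ (QuotientGroup.mk'_surjective Z)
    haveI := (hP.to_quotient Z).isNilpotent
    obtain ⟨y, hy, hy1⟩ := (Subgroup.bot_or_exists_ne_one _).resolve_left
      (CfsgLib.Base.inf_center_ne_bot_of_isNilpotent hEb)
    obtain ⟨⟨b, hb, rfl⟩, hyc⟩ := hy
    have hbZ : b ∉ Z := fun h => hy1 ((QuotientGroup.eq_one_iff b).mpr h)
    have hb1 : b ≠ 1 := fun h => hbZ (h ▸ one_mem Z)
    have hbz : b ≠ z := fun h => hbZ (h ▸ mem_zpowers _)
    have hcl : (centralizer ({b} : Set P)).index ≤ 2 := by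
      rw [← CfsgLib.FgsB.card_isConj_eq_index]
      refine (Nat.card_le_card_of_injective (β := ({b, b * z} : Set P)) (fun y => ⟨y.1, ?_⟩)
        fun y y' h => Subtype.ext (by simpa using congrArg Subtype.val h)).trans ?_
      · obtain ⟨g, hg⟩ := isConj_iff.mp y.2
        have h4 : QuotientGroup.mk' Z y.1 = QuotientGroup.mk' Z b := by
          rw [← hg, map_mul, map_mul, map_inv, mem_center_iff.mp hyc, mul_inv_cancel_right]
        obtain ⟨j, hj⟩ := QuotientGroup.eq.mp h4.symm
        simp only at hj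
        rw [← zpow_mod_orderOf, hz] at hj
        rcases Int.emod_two_eq_zero_or_one j with h | h <;> rw [show ((2 : ℕ) : ℤ) = 2 from rfl, h] at hj
        · left; rw [zpow_zero] at hj; exact (inv_mul_eq_one.mp hj.symm).symm
        · right; rw [zpow_one] at hj
          show y.1 = b * (z : P)
          rw [hj, mul_inv_cancel_left]
      · rw [Nat.card_coe_set_eq]
        exact (Set.ncard_insert_le _ _).trans (by simp)
    have hWinv : ∀ g ∈ centralizer ({b} : Set P), ∀ v ∈ fix b, φ g v ∈ fix b := fun g hg =>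
      hfix_inv b g (mem_centralizer_singleton_iff.mp hg)
    have hWne : fix b ≠ ⊥ := fun h => hbz (hzz b hb.2 h)
    have h0 : (centralizer ({b} : Set P)).index ≠ 0 := index_ne_zero_of_finite
    rcases (show (centralizer ({b} : Set P)).index = 1 ∨ (centralizer ({b} : Set P)).index = 2 by omega)
      with h | h
    · rcases hirr (fix b) fun g => hWinv g (index_eq_one.mp h ▸ mem_top g) with h' | h'
      · exact hWne h'
      · exact hfix_ne_top b hb1 h'
    · obtain ⟨g, hg, v, hv, hgv⟩ := hH _ (fix b) h hWne (hfix_ne_top b hb1)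
      exact hgv (hWinv g hg v hv)
  haveI hAcyc : IsCyclic A := by
    refine CfsgLib.PGroups.isCyclic_of_abelian_of_unique (p := 2) (hP.to_subgroup A) (z := ⟨_, hzA⟩)
      (fun y hy => ?_) (Subtype.ext hz2)
    rcases hunique y y.2 (congrArg Subtype.val hy) with h | h
    · rw [show y = 1 from Subtype.ext h]; exact one_mem _
    · rw [show y = ⟨(z : P), hzA⟩ from Subtype.ext h]; exact mem_zpowers _
  have hsA : sqi A ≤ 2 := by
    letI : CommGroup A := { (inferInstance : Group A) with mul_comm := hAab.is_comm.comm }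
    rw [sqi_eq_card_sq]
    letI := Fintype.ofFinite A
    rw [Nat.card_eq_fintype_card, Fintype.card_subtype]
    exact IsCyclic.card_pow_eq_one_le two_pos
  -- the quotient
  let ψ : P →* MulAut A := MulAut.conjNormal (H := A)
  have hψker : ψ.ker = A := by
    refine le_antisymm (fun g hg => ?_) fun g hg => ?_
    · rw [← hAC, mem_centralizer_iff]
      intro a ha
      have h4 := congrArg Subtype.val (DFunLike.congr_fun (MonoidHom.mem_ker.mp hg) ⟨a, ha⟩)
      simp only [ψ, MulAut.conjNormal_apply, MulAut.one_apply] at h4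
      exact (mul_inv_eq_iff_eq_mul.mp h4).symm
    · refine MonoidHom.mem_ker.mpr (MulEquiv.ext fun a => Subtype.ext ?_)
      simp only [ψ, MulAut.conjNormal_apply, MulAut.one_apply]
      rw [mem_centralizer_iff.mp (hAC.symm ▸ hg : g ∈ centralizer (A : Set P)) a a.2 |>.symm,
        mul_inv_cancel_right]
  obtain ⟨m, hm⟩ := (hP.to_subgroup A).exists_card_eq
  have hm1 : 1 ≤ m := by
    by_contra h0
    have h4 : Nat.card A = 1 := by rw [hm, show m = 0 by omega, pow_zero]
    exact hz1 (by simpa [card_eq_one.mp h4] using hzA)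
  have hB4 : sqi (P ⧸ A) ≤ 4 := by
    refine sqi_le_of_injective ((QuotientGroup.kerLift ψ).comp
        (QuotientGroup.quotientMulEquivOfEq hψker.symm).toMonoidHom)
      ((QuotientGroup.kerLift_injective ψ).comp (MulEquiv.injective _)) (fun a b => ?_) ?_
    · exact (IsCyclic.mulAutMulEquiv A).injective (by rw [map_mul, map_mul, mul_comm])
    · refine le_trans (Nat.card_congr ((IsCyclic.mulAutMulEquiv A).toEquiv.subtypeEquiv
        (p := fun b => b ^ 2 = 1) (q := fun k => k ^ 2 = 1) fun b => ?_)).le ?_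
      · show b ^ 2 = 1 ↔ (IsCyclic.mulAutMulEquiv A b) ^ 2 = 1
        rw [← map_pow, MulEquiv.map_eq_one_iff]
      · rw [hm]; exact roots_le_four m hm1
  have hP8 : sqi P ≤ 8 := (sqi_le_mul A).trans (by nlinarith)
  rcases Nat.lt_or_ge (Nat.card V) 16 with hsmall | hbig'
  swap
  · omega
  -- V has order 9
  have hV9 : Nat.card V = 9 := by
    rw [he] at hsmall ⊢
    have h4 : e = 2 := by
      by_contra hne2
      have h5 : 3 ^ 3 ≤ q ^ e :=
        (Nat.pow_le_pow_left hq3 3).trans (Nat.pow_le_pow_right hq.pos (by omega))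
      omega
    subst h4
    have h5 : q < 4 := by nlinarith
    rw [show q = 3 by omega]; rfl
  -- a point
  obtain ⟨v₀, hv₀⟩ : ∃ v : V, v ≠ 1 := by
    haveI : Nontrivial V := Finite.one_lt_card_iff_nontrivial.mp h1
    exact exists_ne 1
  have hAinj : ∀ a ∈ A, φ a v₀ = v₀ → a = 1 := by
    intro a ha hfa
    by_contra hne
    obtain ⟨i, hi⟩ := IsPGroup.iff_orderOf.mp hP a
    rcases i with _ | i
    · exact hne (orderOf_eq_one_iff.mp (by simpa using hi))
    have ho : orderOf (a ^ 2 ^ i) = 2 := by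
      rw [orderOf_pow, hi, Nat.gcd_eq_right (pow_dvd_pow 2 (by omega)), pow_succ,
        Nat.mul_div_cancel_left _ (by positivity)]
    have h4 : a ^ 2 ^ i = z := (hunique _ (pow_mem ha _) (orderOf_dvd_iff_pow_eq_one.mp ho.dvd)).resolve_left
      fun h => by rw [h, orderOf_one] at ho; omega
    have h5 : φ (a ^ 2 ^ i) v₀ = v₀ := by
      have : ∀ j : ℕ, φ (a ^ j) v₀ = v₀ := by
        intro j
        induction j with
        | zero => simp
        | succ j ih => rw [pow_succ, map_mul, MulAut.mul_apply, hfa, ih]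
      exact this _
    rw [h4, hzinv] at h5
    have h6 : v₀ ^ 2 = 1 := by rw [pow_two]; nth_rewrite 1 [← h5]; exact inv_mul_cancel v₀
    exact hv₀ (orderOf_eq_one_iff.mp (Nat.eq_one_of_dvd_coprimes (Nat.coprime_two_left.mpr hodd)
      (orderOf_dvd_of_pow_eq_one h6) (orderOf_dvd_natCard _)))
  have hne8 : Nat.card {v : V // v ≠ 1} = 8 := by
    classical
    letI := Fintype.ofFinite V
    rw [Nat.card_eq_fintype_card, Fintype.card_subtype_compl, Fintype.card_subtype_eq,
      ← Nat.card_eq_fintype_card, hV9]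
  have hA8 : Nat.card A ≤ 8 := by
    refine (Nat.card_le_card_of_injective (β := {v : V // v ≠ 1})
      (fun a : A => ⟨φ (a : P) v₀, fun h => hv₀ ((φ (a : P)).injective (h.trans (map_one _).symm))⟩)
      fun a b hab => ?_).trans hne8.le
    have h4 : φ (a : P) v₀ = φ (b : P) v₀ := congrArg Subtype.val hab
    refine Subtype.ext (inv_mul_eq_one.mp (hAinj _ (mul_mem (inv_mem a.2) b.2) ?_))
    rw [map_mul, MulAut.mul_apply, ← h4, ← MulAut.mul_apply, ← map_mul, inv_mul_cancel, map_one,
      MulAut.one_apply]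
  -- stabiliser of the point
  let S : Subgroup P :=
    { carrier := {s | φ s v₀ = v₀}
      one_mem' := by simp
      mul_mem' := fun {a b} (ha : φ a v₀ = v₀) (hb : φ b v₀ = v₀) => by
        show φ (a * b) v₀ = v₀
        rw [map_mul, MulAut.mul_apply, hb, ha]
      inv_mem' := fun {a} (ha : φ a v₀ = v₀) => by
        show φ a⁻¹ v₀ = v₀
        nth_rewrite 1 [← ha]
        rw [← MulAut.mul_apply, ← map_mul, inv_mul_cancel, map_one, MulAut.one_apply] }
  have hS2 : Nat.card S ≤ 2 := by
    have hW : Inv' (φ.comp S.subtype) (zpowers v₀) := by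
      rintro s _ ⟨j, rfl⟩
      refine ⟨j, ?_⟩
      show v₀ ^ j = φ (s : P) (v₀ ^ j)
      rw [map_zpow, s.2]
    obtain ⟨χ, hχ⟩ := exists_quotient_action hW
    have hinj : Function.Injective χ := by
      rw [injective_iff_map_eq_one]
      intro s hs
      refine Subtype.ext (eq_one_of_stabilizes hφ hP hodd (W := zpowers v₀) ?_ fun v => ?_)
      · rintro _ ⟨j, rfl⟩
        show φ (s : P) (v₀ ^ j) = v₀ ^ j
        rw [map_zpow, s.2]
      · have h4 := hχ s v
        rw [hs, MulAut.one_apply] at h4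
        exact QuotientGroup.eq.mp h4
    refine (Nat.card_le_card_of_injective _ hinj).trans (card_mulAut_three ?_).le
    rw [← index_eq_card]
    have h4 := (zpowers v₀).card_mul_index
    rw [Nat.card_zpowers, hV9, orderOf_eq_prime (hVq v₀) hv₀] at h4
    have hq3' : q = 3 := (Nat.prime_dvd_prime_iff_eq hq Nat.prime_three).mp
      (hq.dvd_of_dvd_pow (n := 2) (by rw [show 3 ^ 2 = 9 from rfl, ← hV9]; exact hqd))
    subst hq3'
    omega
  have hP16 : Nat.card P ≤ 16 := by
    rw [← S.card_mul_index]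
    have h4 : S.index ≤ 8 := by
      refine (Nat.card_le_card_of_injective (β := {v : V // v ≠ 1})
        (Quotient.lift (fun a => (⟨φ a v₀, fun h => hv₀ ((φ a).injective (h.trans (map_one _).symm))⟩ : {v : V // v ≠ 1})) ?_) ?_).trans hne8.le
      · intro a b hab
        have hm : φ (a⁻¹ * b) v₀ = v₀ := QuotientGroup.leftRel_apply.mp hab
        refine Subtype.ext ?_
        show φ a v₀ = φ b v₀
        conv_rhs => rw [show b = a * (a⁻¹ * b) by group, map_mul, MulAut.mul_apply, hm]
      · rintro ⟨a⟩ ⟨b⟩ hab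
        refine QuotientGroup.eq.mpr ?_
        have h5 : φ a v₀ = φ b v₀ := congrArg Subtype.val hab
        show φ (a⁻¹ * b) v₀ = v₀
        rw [map_mul, MulAut.mul_apply, ← h5, ← MulAut.mul_apply, ← map_mul, inv_mul_cancel, map_one,
          MulAut.one_apply]
    calc _ ≤ 2 * 8 := Nat.mul_le_mul hS2 h4
      _ = 16 := rfl
  have hB2 : sqi (P ⧸ A) ≤ 2 := by
    refine (sqi_le_card _).trans ?_
    rw [← index_eq_card]
    rcases Nat.lt_or_ge (Nat.card A) 8 with hlt8 | hge
    · rw [← hψker, index_ker]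
      refine (card_le_card_group _).trans ?_
      rw [IsCyclic.card_mulAut, hm]
      rw [hm] at hlt8
      have : m < 3 := by
        by_contra hc
        have h5 : 2 ^ 3 ≤ 2 ^ m := Nat.pow_le_pow_right two_pos (by omega)
        omega
      interval_cases m <;> decide
    · by_contra hc
      have h4 := A.card_mul_index
      nlinarith
  rw [hV9]
  have h4 : sqi P ≤ 4 := (sqi_le_mul A).trans (by nlinarith)
  omega


/-- Let G be a finite group that is the semidirect product of a normal abelian subgroup N of odd order by a 2-subgroup P, and suppose N is the unique minimal normal subgroup of G. Then the index of the Frattini subgroup of P in P is at most #N − 1. -/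
theorem result {G : Type*} [Group G] [Finite G] (N P : Subgroup G) (hN : N.Normal) (hNab : IsMulCommutative ↥N) (hNodd : Odd (Nat.card ↥N)) (hP : IsPGroup 2 ↥P) (hdisj : N ⊓ P = ⊥) (hprod : N ⊔ P = ⊤) (hmin : N ≠ ⊥ ∧ ∀ M : Subgroup G, M.Normal → M ≠ ⊥ → N ≤ M) : (frattini ↥P).index ≤ Nat.card ↥N - 1 := by
  classical
  haveI := hN
  haveI := hNab
  letI : CommGroup N := { (inferInstance : Group N) with mul_comm := hNab.is_comm.comm }
  let φ : ↥P →* MulAut N := (MulAut.conjNormal (H := N)).comp P.subtype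
  have hφ : Function.Injective φ := by
    set C := P ⊓ Subgroup.centralizer (N : Set G) with hC
    haveI hCn : C.Normal := by
      rw [← Subgroup.normalizer_eq_top_iff, eq_top_iff, ← hprod, sup_le_iff]
      refine ⟨fun a ha => ?_, fun g hg => ?_⟩
      · rw [Subgroup.mem_normalizer_iff]
        intro c
        have hfix : ∀ d ∈ C, a * d * a⁻¹ = d := fun d hd => by
          rw [Subgroup.mem_centralizer_iff.mp hd.2 a ha, mul_inv_cancel_right]
        constructor
        · intro hc; rwa [hfix c hc]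
        · intro hc
          have h2 := hfix _ hc
          have h3 : a * c * a⁻¹ = c := mul_left_cancel (mul_right_cancel h2)
          rwa [h3] at hc
      · rw [Subgroup.mem_normalizer_iff]
        intro c
        have hn1 := Subgroup.mem_normalizer_iff.mp (Subgroup.le_normalizer hg) c
        have hn2 := Subgroup.mem_normalizer_iff.mp ((Subgroup.normalizer_eq_top_iff.mpr
          (inferInstance : (Subgroup.centralizer (N : Set G)).Normal)).symm ▸ Subgroup.mem_top g) c
        exact ⟨fun h => ⟨hn1.mp h.1, hn2.mp h.2⟩, fun h => ⟨hn1.mpr h.1, hn2.mpr h.2⟩⟩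
    have hCb : C = ⊥ := by
      by_contra hne
      refine hmin.1 (le_bot_iff.mp (le_trans (le_inf le_rfl ?_) hdisj.le))
      exact (hmin.2 C hCn hne).trans inf_le_left
    rw [injective_iff_map_eq_one]
    intro k hk
    have hmem : (k : G) ∈ C := by
      refine ⟨k.2, Subgroup.mem_centralizer_iff.mpr fun a ha => ?_⟩
      have h4 := congrArg Subtype.val (DFunLike.congr_fun hk ⟨a, ha⟩)
      simp only [φ, MonoidHom.comp_apply, MulAut.conjNormal_apply, MulAut.one_apply] at h4
      exact (mul_inv_eq_iff_eq_mul.mp h4).symm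
    rw [hCb, Subgroup.mem_bot] at hmem
    exact Subtype.ext hmem
  have h1 : 1 < Nat.card N := (Subgroup.one_lt_card_iff_ne_bot N).mpr hmin.1
  have hle : (frattini ↥P).index ≤ sqi ↥P := by
    refine Nat.le_of_dvd (Nat.pos_of_ne_zero Subgroup.index_ne_zero_of_finite)
      (Subgroup.index_dvd_of_le ?_)
    rw [sq2, Subgroup.closure_le]
    rintro _ ⟨y, rfl⟩
    show y * y ∈ frattini ↥P
    rw [frattini, Order.radical, Subgroup.mem_iInf]
    intro M
    rw [Subgroup.mem_iInf]
    intro hM
    haveI : Fact (Nat.Prime 2) := ⟨Nat.prime_two⟩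
    haveI := hP.isNilpotent
    haveI : M.Normal := Subgroup.NormalizerCondition.normal_of_coatom M
      Group.normalizerCondition_of_isNilpotent hM
    obtain ⟨j, hj⟩ := hP.exists_card_eq
    obtain ⟨i, -, hi⟩ := (Nat.dvd_prime_pow Nat.prime_two).mp (hj ▸ M.index_dvd_card)
    rcases i with _ | _ | i
    · exact absurd (Subgroup.index_eq_one.mp (by rw [hi, pow_zero])) hM.1
    · exact Subgroup.mul_self_mem_of_index_two (by rw [hi]; rfl) y
    · exfalso
      obtain ⟨H, hH⟩ := exists_prime_orderOf_dvd_card' (G := ↥P ⧸ M) 2 (by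
        rw [← Subgroup.index_eq_card, hi]; exact dvd_pow_self 2 (by omega))
      have hlt : M < (Subgroup.zpowers H).comap (QuotientGroup.mk' M) := by
        refine lt_of_le_of_ne (fun m hm => ?_) fun e => ?_
        · rw [Subgroup.mem_comap, show QuotientGroup.mk' M m = 1 from (QuotientGroup.eq_one_iff m).mpr hm]
          exact one_mem _
        · have h5 := congrArg Subgroup.index e
          rw [Subgroup.index_comap_of_surjective _ (QuotientGroup.mk'_surjective M), hi] at h5
          have h6 := (Subgroup.zpowers H).card_mul_index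
          rw [Nat.card_zpowers, hH, ← Subgroup.index_eq_card, hi] at h6
          have : 0 < 2 ^ (i + 1 + 1) := by positivity
          omega
      have h5 := congrArg Subgroup.index (hM.2 _ hlt)
      rw [Subgroup.index_comap_of_surjective _ (QuotientGroup.mk'_surjective M), Subgroup.index_top] at h5
      have h6 := (Subgroup.zpowers H).card_mul_index
      rw [Nat.card_zpowers, hH, h5, ← Subgroup.index_eq_card, hi, pow_succ, pow_succ] at h6
      have : 0 < 2 ^ i := by positivity
      omega
  rcases bound (Nat.card N) φ le_rfl hφ hP hNodd h1 with h3 | h3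
  · have := (sqi_le_card ↥P).trans ((Nat.card_le_card_of_injective _ hφ).trans (card_mulAut_three h3).le)
    omega
  · omega

end Cfsg.Agent.S4188
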