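import Cfsg.Statements.S4189
import Mathlib
import Cfsg.Agent.Lib.Perm.ClassTwoQ8
import Cfsg.Agent.Lib.Transfer.Control
import Cfsg.Agent.Lib.PGroups.Basic

set_option autoImplicit false
open Cfsg

namespace Cfsg.Agent.S4189

open scoped commutatorElement

/-- Let P be a finite non-abelian 2-group whose commutator subgroup has index 4 and whose automorphism group is not a 2-group (some automorphism has order that is not a power of 2). Then P is isomorphic to the quaternion group of order 8. -/
theorem result {P : Type*} [Group P] [Finite P] (hP : IsPGroup 2 P) (hna : ¬ IsMulCommutative P) (h4 : (commutator P).index = 4) (haut : ¬ IsPGroup 2 (MulAut P)) : Nonempty (P ≃* QuaternionGroup 2) := by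
  classical
  have : Fact (Nat.Prime 2) := ⟨Nat.prime_two⟩
  have : Group.IsNilpotent P := hP.isNilpotent
  set D := commutator P with hD
  -- an automorphism of odd prime order
  obtain ⟨α, q, hq, hq2, hα⟩ : ∃ (α : MulAut P) (q : ℕ), q.Prime ∧ q ≠ 2 ∧ orderOf α = q := by
    rw [IsPGroup.iff_orderOf] at haut
    push Not at haut
    obtain ⟨β, hβ⟩ := haut
    obtain ⟨q, hq, hqd, hq2⟩ : ∃ q, q.Prime ∧ q ∣ orderOf β ∧ q ≠ 2 := by
      by_contra h
      push Not at h
      exact hβ _ (Nat.eq_prime_pow_of_unique_prime_dvd (orderOf_pos β).ne' (fun {d} hd hdd => h d hd hdd))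
    exact ⟨β ^ (orderOf β / q), q, hq, hq2, orderOf_pow_orderOf_div (orderOf_pos β).ne' hqd⟩
  have : Fact q.Prime := ⟨hq⟩
  have hαq : α ^ q = 1 := hα ▸ pow_orderOf_eq_one α
  have hcardQ : Nat.card (P ⧸ D) = 4 := by rw [← Subgroup.index_eq_card]; exact h4
  have : Fintype (P ⧸ D) := Fintype.ofFinite _
  have hαD : ∀ d ∈ D, α d ∈ D := by
    intro d hd
    have h1 : α d ∈ D.map α.toMonoidHom := ⟨d, hd, rfl⟩
    rwa [hD, commutator_def, Subgroup.map_commutator, Subgroup.map_top_of_surjective _ α.surjective,
      ← commutator_def] at h1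
  -- elements generating modulo the derived group generate
  have hgen : ∀ L : Subgroup P, L ⊔ D = ⊤ → L = ⊤ := by
    intro L hL
    apply frattini_nongenerating
    rw [eq_top_iff, ← hL]
    exact sup_le_sup le_rfl (CfsgLib.PGroups.commutator_le_frattini hP)
  -- `α` is not trivial modulo the derived group
  have hαne : ∃ x : P, x⁻¹ * α x ∉ D := by
    by_contra hcon
    push Not at hcon
    let F : Subgroup P :=
      { carrier := {x | α x = x}
        one_mem' := map_one α
        mul_mem' := fun {a b} ha hb => by show α (a * b) = a * b; rw [map_mul, ha, hb]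
        inv_mem' := fun {a} ha => by show α a⁻¹ = a⁻¹; rw [map_inv, ha] }
    have hcov : F ⊔ D = ⊤ := by
      rw [eq_top_iff]
      intro x _
      let X := {y : P // x⁻¹ * y ∈ D}
      let act : MulAction (Subgroup.zpowers α) X :=
        { smul := fun g y => ⟨(g : MulAut P) y.1, by
            obtain ⟨g, hg⟩ := g
            show x⁻¹ * g y.1 ∈ D
            obtain ⟨i, rfl⟩ := (mem_powers_iff_mem_zpowers (x := α)).mpr hg
            clear hg
            induction i with
            | zero => exact y.2
            | succ i ih =>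
              simp only [pow_succ', MulAut.mul_apply] at *
              have h1 := hcon ((α ^ i) y.1)
              have h2 := D.mul_mem ih (D.inv_mem (D.inv_mem h1))
              convert h2 using 1
              group⟩
          one_smul := fun y => Subtype.ext rfl
          mul_smul := fun g h y => Subtype.ext rfl }
      have hp : IsPGroup q (Subgroup.zpowers α) := IsPGroup.of_card (n := 1) (by rw [Nat.card_zpowers, hα, pow_one])
      have hX : Nat.card X = Nat.card D := Nat.card_congr ((Equiv.mulLeft x⁻¹).subtypeEquiv (fun _ => Iff.rfl))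
      obtain ⟨j, hj⟩ := IsPGroup.iff_card.mp (hP.to_subgroup D)
      have hnd : ¬ q ∣ Nat.card X := by
        rw [hX, hj]
        exact fun h => hq2 ((Nat.prime_dvd_prime_iff_eq hq Nat.prime_two).mp (hq.dvd_of_dvd_pow h))
      obtain ⟨y, hy⟩ := hp.nonempty_fixed_point_of_prime_not_dvd_card X hnd
      have hyF : y.1 ∈ F := congrArg Subtype.val (hy ⟨α, Subgroup.mem_zpowers α⟩)
      have h3 := Subgroup.mul_mem_sup hyF (D.inv_mem y.2)
      rwa [mul_inv_rev, inv_inv, mul_inv_cancel_left] at h3
    have hFtop := hgen F hcov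
    have hα1 : α = 1 := MulEquiv.ext fun x => (hFtop.symm ▸ Subgroup.mem_top x : x ∈ F)
    rw [hα1, orderOf_one] at hα
    exact hq.ne_one hα.symm
  -- the induced permutation of the four cosets
  have hwd : ∀ x y : P, (x : P ⧸ D) = y → (α x : P ⧸ D) = α y := by
    intro x y h
    rw [QuotientGroup.eq] at h ⊢
    rw [← map_inv, ← map_mul]
    exact hαD _ h
  let σ : P ⧸ D → P ⧸ D := fun s => ((α s.out : P) : P ⧸ D)
  have hσ : ∀ x : P, σ x = (α x : P ⧸ D) := fun x => hwd _ _ (QuotientGroup.out_eq' _)
  have hσit : ∀ (k : ℕ) (x : P), σ^[k] x = (((α ^ k) x : P) : P ⧸ D) := by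
    intro k x
    induction k with
    | zero => rfl
    | succ k ih => rw [Function.iterate_succ_apply', ih, hσ, pow_succ', MulAut.mul_apply]
  have hσq : ∀ s, σ^[q] s = s := by
    intro s
    obtain ⟨x, rfl⟩ := QuotientGroup.mk'_surjective D s
    rw [QuotientGroup.mk'_apply, hσit, hαq]; rfl
  -- no nontrivial fixed coset
  have hnofix : ∀ x : P, x ∉ D → x⁻¹ * α x ∉ D := by
    intro x hx hfx
    obtain ⟨y, hy⟩ := hαne
    have hx' : σ x = x := by rw [hσ]; exact (QuotientGroup.eq.mpr hfx).symm
    have h1 : σ (1 : P) = (1 : P) := by rw [hσ, map_one]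
    have hy' : σ y ≠ y := fun h => hy (QuotientGroup.eq.mp (by rw [← hσ, h]))
    have hx1 : (x : P ⧸ D) ≠ ((1 : P) : P ⧸ D) := by
      intro h
      rw [QuotientGroup.eq] at h
      exact hx (by simpa using D.inv_mem h)
    have hinj : Function.Injective σ := Function.LeftInverse.injective (g := σ^[q - 1]) (fun s => by
      rw [← Function.iterate_succ_apply, Nat.succ_eq_add_one, Nat.sub_add_cancel hq.one_lt.le, hσq])
    -- `σ` swaps the remaining two points
    have hcomp : ∀ s, s ≠ (x : P ⧸ D) → s ≠ ((1 : P) : P ⧸ D) → s ≠ (y : P ⧸ D) → s ≠ σ y → False := by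
      intro s a b c d
      have h5 : ({s, (x : P ⧸ D), ((1 : P) : P ⧸ D), (y : P ⧸ D), σ y} : Finset (P ⧸ D)).card ≤ 4 := by
        refine (Finset.card_le_univ _).trans ?_
        rw [← Nat.card_eq_fintype_card, hcardQ]
      have e1 : (y : P ⧸ D) ≠ x := fun h => hy' (by rw [h, hx'])
      have e2 : (y : P ⧸ D) ≠ ((1 : P) : P ⧸ D) := fun h => hy' (by rw [h, h1])
      have e3 : σ y ≠ (x : P ⧸ D) := fun h => e1 (hinj (h.trans hx'.symm))
      have e4 : σ y ≠ ((1 : P) : P ⧸ D) := fun h => e2 (hinj (h.trans h1.symm))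
      rw [Finset.card_insert_of_notMem (by simp only [Finset.mem_insert, Finset.mem_singleton, not_or]; exact ⟨a, b, c, d⟩),
        Finset.card_insert_of_notMem (by simp only [Finset.mem_insert, Finset.mem_singleton, not_or]; exact ⟨hx1, e1.symm, e3.symm⟩),
        Finset.card_insert_of_notMem (by simp only [Finset.mem_insert, Finset.mem_singleton, not_or]; exact ⟨e2.symm, e4.symm⟩),
        Finset.card_insert_of_notMem (by simp only [Finset.mem_singleton]; exact hy'.symm), Finset.card_singleton] at h5
      omega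
    have hswap : σ (σ y) = y := by
      by_contra h2
      refine hcomp (σ (σ y)) ?_ ?_ h2 (fun h => hy' (hinj h))
      · exact fun h => hy' (by have := hinj (hinj (h.trans (hx'.symm.trans (congrArg σ hx'.symm)))); rw [this, hx'])
      · exact fun h => hy' (by have := hinj (hinj (h.trans (h1.symm.trans (congrArg σ h1.symm)))); rw [this, h1])
    obtain ⟨m, hm⟩ := hq.odd_of_ne_two hq2
    have h6 : ∀ m : ℕ, σ^[2 * m] (y : P ⧸ D) = y := by
      intro m
      induction m with
      | zero => rfl
      | succ m ih => rw [Nat.mul_succ, Function.iterate_add_apply]; exact (congrArg (σ^[2 * m]) hswap).trans ih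
    apply hy'
    have := hσq y
    rw [hm, ← Nat.succ_eq_add_one, Function.iterate_succ_apply', h6] at this
    exact this
  -- the squares modulo the third term
  set K := ⁅D, (⊤ : Subgroup P)⁆ with hK
  set L := ⁅K, (⊤ : Subgroup P)⁆ with hL
  have hDn : D.Normal := inferInstance
  have hKn : K.Normal := Subgroup.commutator_normal D ⊤
  have hLn : L.Normal := Subgroup.commutator_normal K ⊤
  have hKD : K ≤ D := Subgroup.commutator_le_left D ⊤
  have hexp : ∀ z : P, z ^ 2 ∈ D := by
    intro z
    rw [← QuotientGroup.eq_one_iff, QuotientGroup.mk_pow]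
    have hno : ¬ IsCyclic (P ⧸ D) := by
      intro hc
      obtain ⟨g, hg⟩ := IsCyclic.exists_generator (α := P ⧸ D)
      obtain ⟨g, rfl⟩ := QuotientGroup.mk'_surjective D g
      have hcov : Subgroup.zpowers g ⊔ D = ⊤ := by
        rw [eq_top_iff]
        intro w _
        obtain ⟨i, hi⟩ := hg (QuotientGroup.mk w)
        have h1 : (g ^ i)⁻¹ * w ∈ D := QuotientGroup.eq.mp hi
        have h2 := Subgroup.mul_mem_sup (Subgroup.zpow_mem_zpowers g i) h1
        rwa [mul_inv_cancel_left] at h2
      apply hna
      refine ⟨⟨fun a b => ?_⟩⟩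
      obtain ⟨i, rfl⟩ := Subgroup.mem_zpowers_iff.mp (hgen _ hcov ▸ Subgroup.mem_top a : a ∈ Subgroup.zpowers g)
      obtain ⟨j, rfl⟩ := Subgroup.mem_zpowers_iff.mp (hgen _ hcov ▸ Subgroup.mem_top b : b ∈ Subgroup.zpowers g)
      exact ((Commute.refl g).zpow_zpow i j).eq
    obtain ⟨j, hj, hj'⟩ := (Nat.dvd_prime_pow Nat.prime_two).mp
      (show orderOf (z : P ⧸ D) ∣ 2 ^ 2 by rw [show (2 : ℕ) ^ 2 = 4 from rfl, ← hcardQ]; exact orderOf_dvd_natCard _)
    interval_cases j
    · rw [pow_zero, orderOf_eq_one_iff] at hj'; rw [hj', one_pow]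
    · rw [pow_one] at hj'; rw [← hj', pow_orderOf_eq_one]
    · exact absurd (isCyclic_of_orderOf_eq_card (z : P ⧸ D) (by rw [hj', hcardQ]; rfl)) hno
  -- in `P / K` the derived group is central
  set π := QuotientGroup.mk' K with hπ
  have hcen : ∀ d ∈ D, ∀ z : P, Commute (π d) (π z) := by
    intro d hd z
    rw [← commutatorElement_eq_one_iff_commute, ← map_commutatorElement]
    exact (QuotientGroup.eq_one_iff _).mpr (Subgroup.commutator_mem_commutator hd (Subgroup.mem_top z))
  obtain ⟨a, ha⟩ : ∃ a : P, a ∉ D := by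
    by_contra h
    push Not at h
    rw [show D = ⊤ from eq_top_iff.mpr fun x _ => h x, Subgroup.index_top] at h4
    omega
  set b := α a with hb
  have hbD : a⁻¹ * b ∉ D := hnofix a ha
  have hb' : b ∉ D := by
    intro h
    have h5 : ∀ k : ℕ, (α ^ (k + 1)) a ∈ D := by
      intro k
      induction k with
      | zero => rwa [zero_add, pow_one]
      | succ k ih => rw [pow_succ', MulAut.mul_apply]; exact hαD _ ih
    have h6 := h5 (q - 1)
    rw [Nat.sub_add_cancel hq.one_lt.le, hαq] at h6
    exact ha h6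
  set c := ⁅b, a⁆ with hc
  have hcD : c ∈ D := by
    rw [hD, commutator_def, hc]
    exact Subgroup.commutator_mem_commutator (Subgroup.mem_top b) (Subgroup.mem_top a)
  have hconj : π b * π a * (π b)⁻¹ = π c * π a := by
    rw [hc, map_commutatorElement, commutatorElement_def, inv_mul_cancel_right]
  have hπc2 : π c ^ 2 = 1 := by
    have h5 : (π b * π a * (π b)⁻¹) ^ 2 = π a ^ 2 := by
      rw [conj_pow, ← map_pow, ← (hcen _ (hexp a) b).eq, mul_inv_cancel_right]
    rw [hconj, (hcen c hcD a).mul_pow] at h5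
    exact mul_eq_right.mp h5
  have hcov2 : ∀ z : P, ∃ d ∈ D, z = d ∨ z = d * a ∨ z = d * b ∨ z = d * (a * b) := by
    have key : ∀ s : P ⧸ D, s = ((1 : P) : P ⧸ D) ∨ s = (a : P ⧸ D) ∨ s = (b : P ⧸ D) ∨ s = ((a * b : P) : P ⧸ D) := by
      intro s
      by_contra hcon
      push Not at hcon
      obtain ⟨a1, a2, a3, a4⟩ := hcon
      have n1 : (a : P ⧸ D) ≠ ((1 : P) : P ⧸ D) := fun h => ha (by simpa using D.inv_mem (QuotientGroup.eq.mp h))
      have n2 : (b : P ⧸ D) ≠ ((1 : P) : P ⧸ D) := fun h => hb' (by simpa using D.inv_mem (QuotientGroup.eq.mp h))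
      have n3 : (a : P ⧸ D) ≠ (b : P ⧸ D) := fun h => hbD (QuotientGroup.eq.mp h)
      have n4 : ((a * b : P) : P ⧸ D) ≠ ((1 : P) : P ⧸ D) := by
        intro h
        have h7 : (a * b)⁻¹ ∈ D := by simpa using QuotientGroup.eq.mp h
        apply hbD
        have h8 := D.mul_mem (D.inv_mem (hexp a)) (D.inv_mem h7)
        convert h8 using 1
        group
      have n5 : ((a * b : P) : P ⧸ D) ≠ (a : P ⧸ D) := fun h => hb' (by simpa [mul_assoc] using D.inv_mem (QuotientGroup.eq.mp h))
      have n6 : ((a * b : P) : P ⧸ D) ≠ (b : P ⧸ D) := by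
        intro h
        apply ha
        have h7 := hDn.conj_mem _ (D.inv_mem (QuotientGroup.eq.mp h)) b
        simpa [mul_assoc] using h7
      have h5 : ({s, ((1 : P) : P ⧸ D), (a : P ⧸ D), (b : P ⧸ D), ((a * b : P) : P ⧸ D)} : Finset (P ⧸ D)).card ≤ 4 := by
        refine (Finset.card_le_univ _).trans ?_
        rw [← Nat.card_eq_fintype_card, hcardQ]
      rw [Finset.card_insert_of_notMem (by simp only [Finset.mem_insert, Finset.mem_singleton, not_or]; exact ⟨a1, a2, a3, a4⟩),
        Finset.card_insert_of_notMem (by simp only [Finset.mem_insert, Finset.mem_singleton, not_or]; exact ⟨n1.symm, n2.symm, n4.symm⟩),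
        Finset.card_insert_of_notMem (by simp only [Finset.mem_insert, Finset.mem_singleton, not_or]; exact ⟨n3, n5.symm⟩),
        Finset.card_insert_of_notMem (by simp only [Finset.mem_singleton]; exact n6.symm), Finset.card_singleton] at h5
      omega
    intro z
    rcases key (z : P ⧸ D) with h | h | h | h
    · exact ⟨z, by simpa using D.inv_mem (QuotientGroup.eq.mp h), Or.inl rfl⟩
    · exact ⟨z * a⁻¹, by have := hDn.conj_mem _ (D.inv_mem (QuotientGroup.eq.mp h)) a; simpa [mul_assoc] using this,
        Or.inr (Or.inl (by group))⟩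
    · exact ⟨z * b⁻¹, by have := hDn.conj_mem _ (D.inv_mem (QuotientGroup.eq.mp h)) b; simpa [mul_assoc] using this,
        Or.inr (Or.inr (Or.inl (by group)))⟩
    · exact ⟨z * (a * b)⁻¹, by have := hDn.conj_mem _ (D.inv_mem (QuotientGroup.eq.mp h)) (a * b); simpa [mul_assoc] using this,
        Or.inr (Or.inr (Or.inr (by group)))⟩
  -- the derived group modulo `K`
  let Z : Subgroup (P ⧸ K) := Subgroup.zpowers (π c)
  have hbA : Commute (π c) (π a) := hcen c hcD a
  have hbB : Commute (π c) (π b) := hcen c hcD b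
  have hba : π b * π a = π c * (π a * π b) := by rw [← mul_assoc, ← hconj, inv_mul_cancel_right]
  have hDZ : D ≤ Z.comap π := by
    rw [hD, commutator_def, Subgroup.commutator_le]
    intro u _ v _
    rw [Subgroup.mem_comap, map_commutatorElement]
    obtain ⟨d, hd, hu⟩ := hcov2 u
    obtain ⟨d', hd', hv⟩ := hcov2 v
    have hml : ∀ X Y W : P ⧸ K, ⁅X * Y, W⁆ = X * ⁅Y, W⁆ * X⁻¹ * ⁅X, W⁆ := fun X Y W => by
      simp only [commutatorElement_def]; group
    have hstrip : ∀ (d : P) (_ : d ∈ D) (X Y : P ⧸ K), ⁅π d * X, Y⁆ = ⁅X, Y⁆ := by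
      intro d hd X Y
      obtain ⟨x', rfl⟩ := QuotientGroup.mk'_surjective K X
      obtain ⟨y', rfl⟩ := QuotientGroup.mk'_surjective K Y
      have h1 : Commute (π d) ⁅π x', π y'⁆ := by rw [← map_commutatorElement]; exact hcen d hd _
      have h2 : ⁅π d, π y'⁆ = 1 := commutatorElement_eq_one_iff_commute.mpr (hcen d hd y')
      rw [hml, h2, mul_one, h1.eq, mul_inv_cancel_right]
    have hstrip' : ∀ (d : P) (_ : d ∈ D) (X Y : P ⧸ K), ⁅X, π d * Y⁆ = ⁅X, Y⁆ := by
      intro d hd X Y
      rw [← inv_inj, commutatorElement_inv, commutatorElement_inv, hstrip d hd]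
    have e1 : ⁅π b, π a⁆ = π c := by rw [hc, map_commutatorElement]
    have e2 : ⁅π a, π b⁆ = (π c)⁻¹ := by rw [← commutatorElement_inv, e1]
    have e3 : ⁅π a * π b, π a⁆ = π c := by
      rw [hml, e1, commutatorElement_self, mul_one, ← hbA.eq, mul_inv_cancel_right]
    have e4 : ⁅π a * π b, π b⁆ = (π c)⁻¹ := by
      rw [hml, commutatorElement_self, e2, mul_one, mul_inv_cancel, one_mul]
    have e5 : ⁅π a, π a * π b⁆ = (π c)⁻¹ := by rw [← commutatorElement_inv, e3]
    have e6 : ⁅π b, π a * π b⁆ = π c := by rw [← commutatorElement_inv, e4, inv_inv]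
    have hz : π c ∈ Z := Subgroup.mem_zpowers _
    rcases hu with hu | hu | hu | hu <;> rcases hv with hv | hv | hv | hv
    all_goals (rw [hu, hv]; try simp only [map_mul, hstrip d hd, hstrip' d' hd'])
    all_goals first
      | (rw [commutatorElement_eq_one_iff_commute.mpr (hcen d hd _)]; exact one_mem _)
      | (rw [commutatorElement_eq_one_iff_commute.mpr (hcen d' hd' _).symm]; exact one_mem _)
      | (rw [commutatorElement_eq_one_iff_commute.mpr ((hcen d hd a).mul_right (hcen d hd b))]; exact one_mem _)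
      | (rw [commutatorElement_eq_one_iff_commute.mpr ((hcen d' hd' a).mul_right (hcen d' hd' b)).symm]; exact one_mem _)
      | (rw [commutatorElement_self]; exact one_mem _)
      | (rw [e1]; exact hz)
      | (rw [e2]; exact Z.inv_mem hz)
      | (rw [e3]; exact hz)
      | (rw [e4]; exact Z.inv_mem hz)
      | (rw [e5]; exact Z.inv_mem hz)
      | (rw [e6]; exact hz)
  have hZ2 : ∀ d ∈ D, π d = 1 ∨ π d = π c := by
    intro d hd
    obtain ⟨i, hi⟩ := hDZ hd
    simp only at hi
    rcases Int.even_or_odd i with ⟨t, rfl⟩ | ⟨t, rfl⟩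
    · left; rw [← hi, ← two_mul, zpow_mul, zpow_ofNat, hπc2, one_zpow]
    · right; rw [← hi, zpow_add_one, zpow_mul, zpow_ofNat, hπc2, one_zpow, one_mul]
  -- all squares outside `D` give `c`
  have hαK : ∀ k ∈ K, α k ∈ K := by
    intro k hk
    have h1 : Subgroup.map α.toMonoidHom K ≤ K := by
      rw [hK, Subgroup.map_commutator]
      refine Subgroup.commutator_mono ?_ le_top
      rintro _ ⟨d, hd, rfl⟩
      exact hαD d hd
    exact h1 ⟨k, hk, rfl⟩
  have hsqD : ∀ d ∈ D, π d ^ 2 = 1 := by
    intro d hd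
    rcases hZ2 d hd with h | h <;> rw [h]
    · exact one_pow 2
    · exact hπc2
  have hmove : ∀ x : P, π (x ^ 2) = 1 → π ((α x) ^ 2) = 1 := by
    intro x hx
    rw [← map_pow α]
    exact (QuotientGroup.eq_one_iff _).mpr (hαK _ ((QuotientGroup.eq_one_iff _).mp hx))
  have hcoset : ∀ x y : P, x⁻¹ * y ∈ D → π (y ^ 2) = π (x ^ 2) := by
    intro x y hxy
    have e : π y = π x * π (x⁻¹ * y) := by rw [← map_mul, mul_inv_cancel_left]
    rw [map_pow, map_pow, e, ((hcen _ hxy x).symm).mul_pow, hsqD _ hxy, mul_one]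
  have hab2 : π ((a * b) ^ 2) = π (a ^ 2) * π (b ^ 2) * π c := by
    rw [map_pow, map_pow, map_pow, map_mul]
    calc (π a * π b) ^ 2 = π a * (π b * π a) * π b := by rw [pow_two]; simp only [mul_assoc]
      _ = π a * π c * π a * π b * π b := by rw [hba]; simp only [mul_assoc]
      _ = π c * (π a * π a * (π b * π b)) := by rw [← hbA.eq]; simp only [mul_assoc]
      _ = π a ^ 2 * π b ^ 2 * π c := by rw [(hbA.mul_right hbA).mul_right (hbB.mul_right hbB) |>.eq, pow_two, pow_two]
  -- if one square vanishes modulo `K`, all do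
  have hall : ∀ x : P, x ∉ D → π (x ^ 2) = π (a ^ 2) := by
    intro x hx
    have hbb : π (b ^ 2) = π (a ^ 2) := by
      rcases hZ2 _ (hexp a) with h | h
      · rw [h]; exact hmove a h
      · rcases hZ2 _ (hexp b) with h' | h'
        · exfalso
          have h9 : ∀ k : ℕ, π (((α ^ k) b) ^ 2) = 1 := by
            intro k
            induction k with
            | zero => exact h'
            | succ k ih =>
              rw [show (α ^ (k + 1)) b = α ((α ^ k) b) from by rw [pow_succ']; rfl]
              exact hmove _ ih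
          have h10 := h9 (q - 1)
          rw [hb, ← MulAut.mul_apply, ← pow_succ, Nat.sub_add_cancel hq.one_lt.le, hαq] at h10
          have hc0 : π c = 1 := h ▸ h10
          -- then `D ≤ K`
          have hDK : D ≤ K := by
            intro d hd
            rcases hZ2 d hd with h11 | h11
            · exact (QuotientGroup.eq_one_iff _).mp h11
            · exact (QuotientGroup.eq_one_iff _).mp (h11.trans hc0)
          exact hna ⟨⟨fun u v => commutatorElement_eq_one_iff_mul_comm.mp (Subgroup.mem_bot.mp
            (CfsgLib.Transfer.eq_bot_of_le_commutator_top (G := P) hDK ▸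
              (by rw [hD, commutator_def]; exact Subgroup.commutator_mem_commutator (Subgroup.mem_top u) (Subgroup.mem_top v))))⟩⟩
        · rw [h, h']
    have hgen' : ∀ x : P, x ∉ D → π (x ^ 2) = π (a ^ 2) ∨ π (x ^ 2) = π ((a * b) ^ 2) := by
      intro x hx
      obtain ⟨d, hd, h | h | h | h⟩ := hcov2 x
      · exact absurd (h ▸ hd) hx
      · left; rw [h]; exact hcoset a _ (by simpa [mul_assoc] using hDn.conj_mem d hd a⁻¹)
      · left; rw [h, ← hbb]; exact hcoset b _ (by simpa [mul_assoc] using hDn.conj_mem d hd b⁻¹)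
      · right; rw [h]; exact hcoset (a * b) _ (by simpa [mul_assoc] using hDn.conj_mem d hd (a * b)⁻¹)
    have habeq : π ((a * b) ^ 2) = π (a ^ 2) := by
      -- the image of `b` is the third coset
      have hbb' : b⁻¹ * α b ∉ D := hnofix b hb'
      obtain ⟨d, hd, h | h | h | h⟩ := hcov2 (α b)
      · exfalso
        have h11 : ∀ k : ℕ, (α ^ (k + 1)) b ∈ D := by
          intro k
          induction k with
          | zero => rw [zero_add, pow_one, h]; exact hd
          | succ k ih => rw [pow_succ', MulAut.mul_apply]; exact hαD _ ih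
        have h12 := h11 (q - 1)
        rw [Nat.sub_add_cancel hq.one_lt.le, hαq] at h12
        exact hb' h12
      · exfalso
        -- `α` swaps two cosets
        have hzD : a⁻¹ * α b ∈ D := by rw [h]; simpa [mul_assoc] using hDn.conj_mem d hd a⁻¹
        obtain ⟨m, hm⟩ := hq.odd_of_ne_two hq2
        have hswap : σ (σ (a : P ⧸ D)) = (a : P ⧸ D) :=
          ((congrArg σ (hσ a)).trans (hσ (α a))).trans (QuotientGroup.eq.mpr hzD).symm
        have h6 : ∀ m : ℕ, σ^[2 * m] (a : P ⧸ D) = a := by
          intro m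
          induction m with
          | zero => rfl
          | succ m ih => rw [Nat.mul_succ, Function.iterate_add_apply]; exact (congrArg (σ^[2 * m]) hswap).trans ih
        have h7 := hσq (a : P ⧸ D)
        rw [hm, ← Nat.succ_eq_add_one, Function.iterate_succ_apply', h6, hσ] at h7
        exact hbD (QuotientGroup.eq.mp h7.symm)
      · exact absurd (by rw [h]; simpa [mul_assoc] using hDn.conj_mem d hd b⁻¹) hbb'
      · have h13 : π ((α b) ^ 2) = π ((a * b) ^ 2) := by
          rw [h]; exact hcoset (a * b) _ (by simpa [mul_assoc] using hDn.conj_mem d hd (a * b)⁻¹)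
        rw [← h13]
        rcases hZ2 _ (hexp b) with h14 | h14
        · rw [hmove b h14, ← hbb, h14]
        · rcases hZ2 _ (hexp (α b)) with h15 | h15
          · exfalso
            have h16 : ∀ k : ℕ, π (((α ^ k) (α b)) ^ 2) = 1 := by
              intro k
              induction k with
              | zero => exact h15
              | succ k ih =>
                rw [show (α ^ (k + 1)) (α b) = α ((α ^ k) (α b)) from by rw [pow_succ']; rfl]
                exact hmove _ ih
            have h17 := h16 (q - 1)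
            rw [← MulAut.mul_apply, ← pow_succ, Nat.sub_add_cancel hq.one_lt.le, hαq] at h17
            have h18 : π c = 1 := h14 ▸ h17
            have hDK : D ≤ K := by
              intro d hd
              rcases hZ2 d hd with h11 | h11
              · exact (QuotientGroup.eq_one_iff _).mp h11
              · exact (QuotientGroup.eq_one_iff _).mp (h11.trans h18)
            exact hna ⟨⟨fun u v => commutatorElement_eq_one_iff_mul_comm.mp (Subgroup.mem_bot.mp
              (CfsgLib.Transfer.eq_bot_of_le_commutator_top (G := P) hDK ▸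
                (by rw [hD, commutator_def]; exact Subgroup.commutator_mem_commutator (Subgroup.mem_top u) (Subgroup.mem_top v))))⟩⟩
          · rw [h15, ← hbb, h14]
    rcases hgen' x hx with h | h
    · exact h
    · rw [h, habeq]
  have hac : π (a ^ 2) = π c := by
    rcases hZ2 _ (hexp a) with h | h
    · have h19 := hall (a * b) (fun h' => by
        apply hbD
        have h8 := D.mul_mem (D.inv_mem (hexp a)) h'
        convert h8 using 1
        group)
      rw [hab2, hall b hb', h, one_mul, one_mul] at h19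
      rw [h, h19]
    · exact h
  -- the third term is trivial
  have hKL : K ≤ L := by
    set ρ := QuotientGroup.mk' L with hρ
    have hKc : ∀ k ∈ K, ∀ z : P, Commute (ρ k) (ρ z) := by
      intro k hk z
      rw [← commutatorElement_eq_one_iff_commute, ← map_commutatorElement]
      exact (QuotientGroup.eq_one_iff _).mpr (Subgroup.commutator_mem_commutator hk (Subgroup.mem_top z))
    have hcx : ∀ x : P, π (x ^ 2) = π c → Commute (ρ c) (ρ x) := by
      intro x hx
      have h1 : (x ^ 2)⁻¹ * c ∈ K := QuotientGroup.eq.mp hx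
      have h2 : ρ c = ρ x ^ 2 * ρ ((x ^ 2)⁻¹ * c) := by rw [← map_pow, ← map_mul, mul_inv_cancel_left]
      rw [h2]
      exact ((Commute.refl (ρ x)).pow_left 2).mul_left (hKc _ h1 x)
    have hcP : ∀ z : P, Commute (ρ c) (ρ z) := by
      have h1 := hcx a hac
      have h2 := hcx b ((hall b hb').trans hac)
      intro z
      obtain ⟨d, hd, h | h | h | h⟩ := hcov2 z
      all_goals rw [h]
      all_goals
        have h3 : Commute (ρ c) (ρ d) := by
          rcases hZ2 d hd with h4 | h4
          · exact (hKc d ((QuotientGroup.eq_one_iff _).mp h4) c).symm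
          · have h5 : c⁻¹ * d ∈ K := QuotientGroup.eq.mp h4.symm
            have h6 : ρ d = ρ c * ρ (c⁻¹ * d) := by rw [← map_mul, mul_inv_cancel_left]
            rw [h6]
            exact (Commute.refl _).mul_right (hKc _ h5 c).symm
      · exact h3
      · rw [map_mul]; exact h3.mul_right h1
      · rw [map_mul]; exact h3.mul_right h2
      · rw [map_mul, map_mul]; exact h3.mul_right (h1.mul_right h2)
    rw [hK, Subgroup.commutator_le]
    intro d hd z _
    rw [← QuotientGroup.eq_one_iff]
    show ρ ⁅d, z⁆ = 1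
    rw [map_commutatorElement, commutatorElement_eq_one_iff_commute]
    rcases hZ2 d hd with h4 | h4
    · exact hKc d ((QuotientGroup.eq_one_iff _).mp h4) z
    · have h5 : c⁻¹ * d ∈ K := QuotientGroup.eq.mp h4.symm
      have h6 : ρ d = ρ c * ρ (c⁻¹ * d) := by rw [← map_mul, mul_inv_cancel_left]
      rw [h6]
      exact (hcP z).mul_left (hKc _ h5 z)
  have hK1 : K = ⊥ := CfsgLib.Transfer.eq_bot_of_le_commutator_top (G := P) hKL
  have hπinj : Function.Injective π := by
    rw [← MonoidHom.ker_eq_bot_iff, hπ, QuotientGroup.ker_mk', hK1]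
  have hDc : ∀ d ∈ D, d = 1 ∨ d = c := by
    intro d hd
    rcases hZ2 d hd with h | h
    · exact Or.inl (hπinj (by rw [h, map_one]))
    · exact Or.inr (hπinj h)
  have hsq : ∀ x : P, x ∉ D → x ^ 2 = c := fun x hx => hπinj ((hall x hx).trans hac)
  have hc1 : c ≠ 1 := by
    intro h
    have hDb : D = ⊥ := (Subgroup.eq_bot_iff_forall D).mpr fun d hd => (hDc d hd).elim id (fun h' => h'.trans h)
    exact hna ⟨⟨fun u v => commutatorElement_eq_one_iff_mul_comm.mp (Subgroup.mem_bot.mp
      (hDb ▸ (by rw [hD, commutator_def]; exact Subgroup.commutator_mem_commutator (Subgroup.mem_top u) (Subgroup.mem_top v))))⟩⟩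
  have hDcard : Nat.card D = 2 := by
    rw [Nat.card_eq_two_iff' (1 : D)]
    exact ⟨⟨c, hcD⟩, fun h => hc1 (congrArg Subtype.val h), fun d hd => Subtype.ext ((hDc d d.2).resolve_left (fun h => hd (Subtype.ext h)))⟩
  have hPcard : Nat.card P = 8 := by rw [← D.card_mul_index, hDcard, h4]
  obtain ⟨x, y, hxy⟩ : ∃ x y : P, x * y ≠ y * x := by
    by_contra h
    push Not at h
    exact hna ⟨⟨h⟩⟩
  refine CfsgLib.Perm.nonempty_mulEquiv_quaternion Nat.prime_two hP ?_ D
    (fun z hz g => (congrArg id (hπinj (by rw [map_mul, map_mul]; exact (hcen z hz g).eq)) : z * g = g * z))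
    hexp ?_ hxy
  · intro A hA
    by_cases hAD : A ≤ D
    · have h20 : Nat.card A ∣ 2 := hDcard ▸ Subgroup.card_dvd_of_le hAD
      rcases (Nat.dvd_prime Nat.prime_two).mp h20 with h | h
      · have : Subsingleton A := (Nat.card_eq_one_iff_unique.mp h).1
        infer_instance
      · exact isCyclic_of_prime_card h
    obtain ⟨w, hwA, hwD⟩ := SetLike.not_le_iff_exists.mp hAD
    have hw2 : w ^ 2 = c := hsq w hwD
    have how : orderOf (⟨w, hwA⟩ : A) = 4 := by
      rw [Subgroup.orderOf_mk]
      refine orderOf_eq_prime_pow (p := 2) (n := 1) (by rw [pow_one, hw2]; exact hc1) ?_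
      have h22 : c ^ 2 = 1 := hπinj (by rw [map_pow, hπc2, map_one])
      rw [show (2 : ℕ) ^ (1 + 1) = 2 * 2 from rfl, pow_mul, hw2, h22]
    refine isCyclic_of_orderOf_eq_card (⟨w, hwA⟩ : A) ?_
    rw [how]
    have h21 : Nat.card A ∣ 2 ^ 3 := by
      have := A.card_subgroup_dvd_card
      rwa [hPcard] at this
    obtain ⟨i, hi, hi'⟩ := (Nat.dvd_prime_pow Nat.prime_two).mp h21
    have h4d : 4 ∣ Nat.card A := how ▸ orderOf_dvd_natCard _
    rw [hi'] at h4d ⊢
    interval_cases i
    · norm_num at h4d
    · norm_num at h4d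
    · rfl
    -- the whole group is not abelian
    have hAtop : A = ⊤ := Subgroup.eq_top_of_card_eq _ (by rw [hi', hPcard]; rfl)
    subst hAtop
    exfalso
    exact hna ⟨⟨fun u v => congrArg Subtype.val (mul_comm' (⟨u, Subgroup.mem_top u⟩ : (⊤ : Subgroup P)) ⟨v, Subgroup.mem_top v⟩)⟩⟩
  · intro u v
    rw [hD, commutator_def]
    have e : u⁻¹ * v⁻¹ * u * v = ⁅u⁻¹, v⁻¹⁆ := by simp [commutatorElement_def]
    rw [e]
    exact Subgroup.commutator_mem_commutator (Subgroup.mem_top _) (Subgroup.mem_top _)

end Cfsg.Agent.S4189
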