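import Cfsg.Statements.S4192
import Cfsg.Agent.Lib.FgsD.RealGraph.Main
import Cfsg.Agent.Lib.FgsD.RealGraph.Structure

set_option autoImplicit false
open Cfsg
open CfsgLib.FgsD.RealGraph CfsgLib.FgsC.PrimeClasses CfsgLib.FgsC.DiscGraph

namespace Cfsg.Agent.S4192

/-- Let G be a finite group; call an element real when it is conjugate to its inverse, and say that the real-class-size graph of a group is disconnected when the primes dividing its real class sizes split into two non-empty disjoint parts with no real class size divisible by a prime from each part. If the real-class-size graph of G is disconnected, then some real class size of G is even, and either the Sylow 2-subgroups of G are normal, or the subgroup K generated by the 2-elements of G (the smallest normal subgroup of odd index) again has a disconnected real-class-size graph and every real class size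 of K is odd or a power of 2. -/
theorem result {G : Type*} [Group G] [Finite G] (h : (∃ π₁ π₂ : Set ℕ, π₁.Nonempty ∧ π₂.Nonempty ∧ Disjoint π₁ π₂ ∧ (∀ q ∈ π₁ ∪ π₂, q.Prime ∧ ∃ n ∈ {n : ℕ | ∃ x : G, IsConj x x⁻¹ ∧ (Subgroup.centralizer ({x} : Set G)).index = n}, q ∣ n) ∧ (∀ q : ℕ, q.Prime → (∃ n ∈ {n : ℕ | ∃ x : G, IsConj x x⁻¹ ∧ (Subgroup.centralizer ({x} : Set G)).index = n}, q ∣ n) → q ∈ π₁ ∨ q ∈ π₂) ∧ ∀ a ∈ π₁, ∀ b ∈ π₂, ∀ n ∈ {n : ℕ | ∃ x : G, IsConj x x⁻¹ ∧ (Subgroup.centralizer ({x} : Set G)).index = n}, ¬ (a ∣ n ∧ b ∣ n))) : (∃ n ∈ {n : ℕ | ∃ x : G, IsConj x x⁻¹ ∧ (Subgroup.centralizer ({x} : Set G)).index = n}, 2 ∣ n) ∧ ((∀ P : Sylow 2 G, (P : Subgroup G).Normal) ∨ ((∃ π₁ π₂ : Set ℕ, π₁.Nonempty ∧ π₂.Nonempty ∧ Disjoint π₁ π₂ ∧ (∀ q ∈ π₁ ∪ π₂, q.Prime ∧ ∃ n ∈ {n : ℕ | ∃ x : ↥(Subgroup.closure {g : G | ∃ k : ℕ, orderOf g = 2 ^ k}), IsConj x x⁻¹ ∧ (Subgroup.centralizer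 ({x} : Set ↥(Subgroup.closure {g : G | ∃ k : ℕ, orderOf g = 2 ^ k}))).index = n}, q ∣ n) ∧ (∀ q : ℕ, q.Prime → (∃ n ∈ {n : ℕ | ∃ x : ↥(Subgroup.closure {g : G | ∃ k : ℕ, orderOf g = 2 ^ k}), IsConj x x⁻¹ ∧ (Subgroup.centralizer ({x} : Set ↥(Subgroup.closure {g : G | ∃ k : ℕ, orderOf g = 2 ^ k}))).index = n}, q ∣ n) → q ∈ π₁ ∨ q ∈ π₂) ∧ ∀ a ∈ π₁, ∀ b ∈ π₂, ∀ n ∈ {n : ℕ | ∃ x : ↥(Subgroup.closure {g : G | ∃ k : ℕ, orderOf g = 2 ^ k}), IsConj x x⁻¹ ∧ (Subgroup.centralizer ({x} : Set ↥(Subgroup.closure {g : G | ∃ k : ℕ, orderOf g = 2 ^ k}))).index = n}, ¬ (a ∣ n ∧ b ∣ n)) ∧ ∀ n ∈ {n : ℕ | ∃ x : ↥(Subgroup.closure {g : G | ∃ k : ℕ, orderOf g = 2 ^ k}), IsConj x x⁻¹ ∧ (Subgroup.centralizer ({x} : Set ↥(Subgroup.closure {g : G | ∃ k : ℕ, orderOf g = 2 ^ k}))).index = n}, Odd n ∨ ∃ j : ℕ, n = 2 ^ j)) := by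
  classical
  obtain ⟨π₁, π₂, h₁, h₂, hdisj, hsub, hcover, hnoedge⟩ := h
  obtain ⟨π, t, D, ht, y, hy, hout, hy1⟩ := exists_split (G := G) π₁ π₂ h₁ h₂
    (fun q hq ⟨x, hx, hqx⟩ => hcover q hq ⟨sz x, ⟨x, hx, rfl⟩, hqx⟩)
    (fun q hq => ⟨(hsub q hq).1, by
      obtain ⟨_, ⟨x, hx, rfl⟩, hqx⟩ := (hsub q hq).2
      exact ⟨x, hx, hqx⟩⟩)
    hdisj (fun a ha b hb x hx => hnoedge a ha b hb _ ⟨x, hx, rfl⟩)
  obtain ⟨x₀, hx₀, h2x₀⟩ := D.exists_even ht hy hout hy1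
  refine ⟨⟨_, ⟨x₀, hx₀, rfl⟩, h2x₀⟩, ?_⟩
  by_cases hex : ∃ x : G, RealOdd x
  swap
  · left
    push Not at hex
    intro P
    by_contra hP
    obtain ⟨x, u, r, hr, hr2, hx, hu⟩ :=
      CfsgLib.FgsB.exists_odd_prime_inverted_of_not_normal P hP
    exact hex x (realOdd_of_inverted (fun e => hr.ne_one (by rw [← hx, e, orderOf_one]))
      (hx ▸ hr.odd_of_ne_two hr2) hu)
  right
  have : Fact (Nat.Prime 2) := ⟨Nat.prime_two⟩
  have hsol : Group.IsSolvable G := isSolvable_of_witness D ht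
  obtain ⟨x, hx⟩ := hex
  have := closure_two_normal (G := G)
  obtain ⟨hxK, hxr⟩ := exists_realOdd_closure_two hx
  set K := Subgroup.closure {g : G | ∃ k : ℕ, orderOf g = 2 ^ k} with hK
  have DK : Split K π := D.subgroup K
  have htK : t ∈ K := Subgroup.subset_closure ⟨1, by rw [ht.ord, pow_one]⟩
  have htr : IsReal (⟨t, htK⟩ : K) :=
    isReal_of_sq (Subtype.ext (CfsgLib.Involutions.invol_mul_self ht.ord))
  have htW : Witness π (⟨t, htK⟩ : K) := by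
    refine ⟨by rw [← Subgroup.orderOf_coe]; exact ht.ord,
      fun q hq hqd => ht.ins q hq (hqd.trans (sz_sub_dvd K ⟨t, htK⟩)), fun h => ?_⟩
    have h1 := congrArg Subtype.val
      (Subgroup.mem_center_iff.1 ((sz_eq_one_iff _).1 h) (⟨x, hxK⟩ : K))
    exact D.not_commute hx ht h1.symm
  obtain ⟨q, hq, hqt⟩ := Nat.exists_prime_and_dvd htW.ne_one
  refine ⟨⟨{r | r.Prime ∧ (∃ n, (∃ z : K, IsConj z z⁻¹ ∧
      (Subgroup.centralizer ({z} : Set K)).index = n) ∧ r ∣ n) ∧ r ∈ π},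
    {r | r.Prime ∧ (∃ n, (∃ z : K, IsConj z z⁻¹ ∧
      (Subgroup.centralizer ({z} : Set K)).index = n) ∧ r ∣ n) ∧ r ∉ π},
    ⟨q, hq, ⟨_, ⟨_, htr, rfl⟩, hqt⟩, htW.ins q hq hqt⟩,
    ⟨2, Nat.prime_two, ⟨_, ⟨_, hxr.isReal, rfl⟩, two_dvd_sz hxr⟩, D.two⟩,
    Set.disjoint_left.2 fun r h h' => h'.2.2 h.2.2, ?_, ?_, ?_⟩, ?_⟩
  · rintro r (⟨h1, h2, -⟩ | ⟨h1, h2, -⟩) <;> exact ⟨h1, h2⟩
  · intro r hr h
    by_cases hrπ : r ∈ π
    · exact Or.inl ⟨hr, h, hrπ⟩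
    · exact Or.inr ⟨hr, h, hrπ⟩
  · rintro a ⟨hap, -, haπ⟩ b ⟨hbp, -, hbπ⟩ _ ⟨z, hz, rfl⟩ ⟨haz, hbz⟩
    rcases DK.pure z hz with h | h
    · exact hbπ (h b hbp hbz)
    · exact h a hap haz haπ
  · rintro _ ⟨z, hz, rfl⟩
    rcases DK.pure z hz with h | h
    · exact Or.inl (DK.odd_of_inS h)
    right
    refine ⟨_, Nat.eq_prime_pow_of_unique_prime_dvd Subgroup.index_ne_zero_of_finite
      fun {p} hp hpd => ?_⟩
    by_contra hp2
    exact DK.not_dvd_card htW (haveI := hsol; inferInstance) closure_two_gen hp hp2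
      (fun hpt => h p hp hpd (htW.ins p hp hpt)) (hpd.trans (Subgroup.index_dvd_card _))

end Cfsg.Agent.S4192
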