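import Cfsg.Statements.S4193
import Cfsg.Agent.Lib.RealElt.Basic
import Cfsg.Agent.S3861
import Cfsg.Agent.S3862
import Cfsg.Agent.Lib.FT.OddOrderTheorem

set_option autoImplicit false
open Cfsg

namespace Cfsg.Agent.S4193

/-- An element inverted by `u` where `u` is a `2`-element: the centraliser has even index. -/
theorem even_index {G : Type*} [Group G] [Finite G] (x : G) (hne : x ≠ x⁻¹) (hreal : IsConj x x⁻¹) :
    2 ∣ (Subgroup.centralizer ({x} : Set G)).index := by
  by_contra hn
  haveI : Fact (Nat.Prime 2) := ⟨Nat.prime_two⟩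
  obtain ⟨P⟩ : Nonempty (Sylow 2 ↥(Subgroup.centralizer ({x} : Set G))) := inferInstance
  have hnd : ¬ 2 ∣ ((P : Subgroup ↥(Subgroup.centralizer ({x} : Set G))).map
      (Subgroup.centralizer ({x} : Set G)).subtype).index := by
    rw [Subgroup.index_map_subtype]
    exact Nat.prime_two.not_dvd_mul P.not_dvd_index hn
  let S : Sylow 2 G := (P.2.map (Subgroup.centralizer ({x} : Set G)).subtype).toSylow hnd
  have hle : (S : Subgroup G) ≤ Subgroup.centralizer ({x} : Set G) := Subgroup.map_subtype_le _
  have h2 := CfsgLib.RealElt.sq_eq_one_of_le_centralizer S hle hreal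
  exact hne (inv_eq_of_mul_eq_one_right (by rwa [← pow_two])).symm

theorem result {G : Type*} [Group G] [Finite G] (a : ℕ) (h : ∀ x : G, IsConj x x⁻¹ → x ∉ Subgroup.center G → ((Subgroup.centralizer ({x} : Set G)).index).factorization 2 = a) (S : Sylow 2 G) (hS : ∀ s : ↥(S : Subgroup G), IsConj s s⁻¹ → s ∈ Subgroup.center ↥(S : Subgroup G)) : Group.IsSolvable G ∧ Cfsg.HasNormalPComplement 2 ↥(Subgroup.closure {g : G | ∃ k : ℕ, orderOf g = 2 ^ k}) := by
  haveI : Fact (Nat.Prime 2) := ⟨Nat.prime_two⟩
  classical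
  rcases Nat.eq_zero_or_pos a with ha | ha
  · -- all noncentral real classes are odd
    subst ha
    have hnreal : ∀ x : G, x ≠ 1 → Odd (orderOf x) → ¬ IsConj x x⁻¹ := by
      intro x hx hodd hreal
      have hne : x ≠ x⁻¹ := by
        intro he
        have : x ^ 2 = 1 := by rw [pow_two]; nth_rewrite 2 [he]; exact mul_inv_cancel x
        have hd := orderOf_dvd_of_pow_eq_one this
        rcases (Nat.dvd_prime Nat.prime_two).mp hd with h1 | h1
        · exact hx (orderOf_eq_one_iff.mp h1)
        · rw [h1] at hodd; exact absurd hodd (by decide)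
      have hnc : x ∉ Subgroup.center G := by
        intro hc
        obtain ⟨g, hg⟩ := isConj_iff.mp hreal
        rw [Subgroup.mem_center_iff.mp hc g, mul_inv_cancel_right] at hg
        exact hne hg
      have h2 := h x hreal hnc
      have hev := even_index x hne hreal
      have hpos := (Nat.prime_two).factorization_pos_of_dvd
        (Subgroup.index_ne_zero_of_finite (H := Subgroup.centralizer ({x} : Set G))) hev
      omega
    have hN : (S : Subgroup G).Normal := (Cfsg.Agent.S3861.result S).mp hnreal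
    have hcl : Subgroup.closure {g : G | ∃ k : ℕ, orderOf g = 2 ^ k} = (S : Subgroup G) := by
      apply le_antisymm
      · rw [Subgroup.closure_le]
        rintro g ⟨k, hk⟩
        have hp : IsPGroup 2 (Subgroup.zpowers g) := IsPGroup.of_card (n := k) (by rw [Nat.card_zpowers, hk])
        obtain ⟨Q, hQ⟩ := hp.exists_le_sylow
        obtain ⟨c, hc⟩ := MulAction.exists_smul_eq G S Q
        have : (Q : Subgroup G) = S := by
          rw [← hc, Sylow.coe_subgroup_smul]
          exact hN.conjAct _
        exact this ▸ hQ (Subgroup.mem_zpowers g)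
      · intro g hg
        apply Subgroup.subset_closure
        obtain ⟨k, hk⟩ := IsPGroup.iff_orderOf.mp S.2 ⟨g, hg⟩
        exact ⟨k, by simpa [Subgroup.orderOf_mk] using hk⟩
    refine ⟨?_, ?_⟩
    · haveI := hN
      haveI : Group.IsNilpotent ↥(S : Subgroup G) := S.2.isNilpotent
      have hQ : Group.IsSolvable (G ⧸ (S : Subgroup G)) := by
        apply CfsgLib.FT.isSolvable_of_odd
        rw [← Subgroup.index_eq_card]
        exact Nat.not_even_iff_odd.mp (fun he => S.not_dvd_index he.two_dvd)
      exact Group.isSolvable_of_ker_le_range (S : Subgroup G).subtype (QuotientGroup.mk' (S : Subgroup G))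
        (by simp)
    · rw [hcl]
      have hbot : (default : Sylow 2 ↥(S : Subgroup G)).1 = ⊤ := by
        apply ((default : Sylow 2 ↥(S : Subgroup G)).is_maximal' (Q := ⊤) ?_ le_top).symm
        exact S.2.of_equiv Subgroup.topEquiv.symm
      exact ⟨default, ⊥, Subgroup.normal_bot, by rw [hbot]; exact Subgroup.isComplement'_bot_top⟩
  · have hcen : ∀ x : G, (∃ j : ℕ, orderOf x = 2 ^ j) → IsConj x x⁻¹ → x ∈ Subgroup.center G := by
      intro x hx hreal
      obtain ⟨j, hj⟩ := hx
      obtain ⟨u, ⟨i, hi⟩, hu⟩ := CfsgLib.RealElt.exists_two_element_inverts hreal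
      have hp : IsPGroup 2 (Subgroup.zpowers u) := IsPGroup.of_card (n := i) (by rw [Nat.card_zpowers, hi])
      have hpx : IsPGroup 2 (Subgroup.zpowers x) := IsPGroup.of_card (n := j) (by rw [Nat.card_zpowers, hj])
      have hnor : Subgroup.zpowers u ≤ Subgroup.normalizer ((Subgroup.zpowers x : Subgroup G) : Set G) := by
        rw [Subgroup.zpowers_le]
        apply Subgroup.mem_normalizer_iff.mpr
        intro n
        constructor
        · rintro ⟨b, rfl⟩
          refine ⟨-b, ?_⟩
          simp only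
          rw [← conj_zpow, hu, inv_zpow']
        · rintro ⟨b, hb⟩
          refine ⟨-b, ?_⟩
          simp only at hb ⊢
          calc x ^ (-b) = u⁻¹ * (u * x ^ (-b) * u⁻¹) * u := by group
            _ = u⁻¹ * x ^ b * u := by rw [← conj_zpow, hu, inv_zpow', neg_neg]
            _ = n := by rw [hb]; group
      have hsup := IsPGroup.to_sup_of_normal_right' hp hpx hnor
      obtain ⟨Q, hQ⟩ := hsup.exists_le_sylow
      obtain ⟨c, hc⟩ := MulAction.exists_smul_eq G Q S
      have hmem : ∀ y ∈ (Q : Subgroup G), c * y * c⁻¹ ∈ (S : Subgroup G) := by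
        intro y hy
        rw [← hc, Sylow.coe_subgroup_smul]
        exact ⟨y, hy, rfl⟩
      have hxs := hmem x (hQ ((le_sup_right : Subgroup.zpowers x ≤ _) (Subgroup.mem_zpowers x)))
      have hus := hmem u (hQ ((le_sup_left : Subgroup.zpowers u ≤ _) (Subgroup.mem_zpowers u)))
      have hz := hS ⟨_, hxs⟩ (isConj_iff.mpr ⟨⟨_, hus⟩, Subtype.ext (by
        simp only [Subgroup.coe_mul, InvMemClass.coe_inv]
        calc c * u * c⁻¹ * (c * x * c⁻¹) * (c * u * c⁻¹)⁻¹ = c * (u * x * u⁻¹) * c⁻¹ := by group
          _ = (c * x * c⁻¹)⁻¹ := by rw [hu]; group)⟩)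
      have hle : (S : Subgroup G) ≤ Subgroup.centralizer ({c * x * c⁻¹} : Set G) := by
        intro s hs
        rw [Subgroup.mem_centralizer_singleton_iff]
        exact congrArg Subtype.val (Subgroup.mem_center_iff.mp hz ⟨s, hs⟩)
      have hreal' : IsConj (c * x * c⁻¹) (c * x * c⁻¹)⁻¹ := by
        have he : (c * x * c⁻¹)⁻¹ = c * x⁻¹ * c⁻¹ := by group
        rw [he]
        exact ((isConj_iff.mpr ⟨c, rfl⟩ : IsConj x _).symm.trans hreal).trans (isConj_iff.mpr ⟨c, rfl⟩)
      have hy : c * x * c⁻¹ ∈ Subgroup.center G := by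
        by_contra hnc
        have h2 := h _ hreal' hnc
        have hd : ¬ 2 ∣ (Subgroup.centralizer ({c * x * c⁻¹} : Set G)).index := fun hd =>
          S.not_dvd_index (hd.trans (Subgroup.index_dvd_of_le hle))
        rw [Nat.factorization_eq_zero_of_not_dvd hd] at h2
        omega
      have : x = c⁻¹ * (c * x * c⁻¹) * c := by group
      rw [this, Subgroup.mem_center_iff.mp hy c⁻¹]
      simpa using hy
    obtain ⟨P, N, hN, hc⟩ := Cfsg.Agent.S3862.result hcen
    haveI := hN
    have hNodd : Odd (Nat.card N) := by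
      rw [← hc.index_eq_card]
      exact Nat.not_even_iff_odd.mp (fun he => P.not_dvd_index he.two_dvd)
    refine ⟨?_, ?_⟩
    · haveI : Group.IsSolvable ↥N := CfsgLib.FT.isSolvable_of_odd hNodd
      have hP : IsPGroup 2 (G ⧸ N) := P.2.of_equiv (hc.symm.QuotientMulEquiv).symm
      haveI : Group.IsNilpotent (G ⧸ N) := hP.isNilpotent
      exact Group.isSolvable_of_ker_le_range N.subtype (QuotientGroup.mk' N) (by simp)
    · set K := Subgroup.closure {g : G | ∃ k : ℕ, orderOf g = 2 ^ k} with hK
      have hPK : (P : Subgroup G) ≤ K := by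
        intro g hg
        apply Subgroup.subset_closure
        obtain ⟨k, hk⟩ := IsPGroup.iff_orderOf.mp P.2 ⟨g, hg⟩
        exact ⟨k, by simpa [Subgroup.orderOf_mk] using hk⟩
      refine ⟨P.subtype hPK, N.subgroupOf K, inferInstance, ?_⟩
      apply Subgroup.isComplement'_of_disjoint_and_mul_eq_univ
      · rw [disjoint_iff, Sylow.coe_subtype]
        simp only [Subgroup.subgroupOf]
        rw [← Subgroup.comap_inf, (hc.disjoint).eq_bot]
        simp
      · rw [Set.eq_univ_iff_forall]
        intro k
        obtain ⟨⟨n, p⟩, hnp⟩ := hc.2 (k : G)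
        simp only at hnp
        have hn : (n : G) ∈ K := by
          have : (n : G) = (k : G) * (p : G)⁻¹ := by rw [← hnp]; group
          rw [this]; exact mul_mem k.2 (inv_mem (hPK p.2))
        exact Set.mem_mul.mpr ⟨⟨n, hn⟩, n.2, ⟨p, hPK p.2⟩, by
          rw [Sylow.coe_subtype]; exact p.2, Subtype.ext hnp⟩

end Cfsg.Agent.S4193
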