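import Cfsg.Statements.S4194
import Cfsg.Agent.Lib.Fusion.CentralConjTwo
import Cfsg.Agent.Lib.Fusion.Group

set_option autoImplicit false
open Cfsg

namespace Cfsg.Agent.S4194

/-- A finite group G has commutative Sylow 2-subgroups if and only if every 2-element of G (element of order a power of 2) is 2-central, that is, its centralizer contains a Sylow 2-subgroup of G. -/
theorem result {G : Type*} [Group G] [Finite G] (P : Sylow 2 G) :
    IsMulCommutative (P : Subgroup G) ↔ ∀ x : G, (∃ k : ℕ, orderOf x = 2 ^ k) → (∃ Q : Sylow 2 G, (Q : Subgroup G) ≤ Subgroup.centralizer ({x} : Set G)) := by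
  constructor
  · intro hP x hx
    have hx2 : IsPGroup 2 (Subgroup.zpowers x) := by
      obtain ⟨k, hk⟩ := hx
      exact IsPGroup.of_card (n := k) (by rw [Nat.card_zpowers, hk])
    obtain ⟨Q, hQ⟩ := hx2.exists_le_sylow
    refine ⟨Q, fun y hy => Subgroup.mem_centralizer_singleton_iff.2 ?_⟩
    have hxQ : x ∈ (Q : Subgroup G) := hQ (Subgroup.mem_zpowers x)
    let e := Q.equiv P
    have h1 : (⟨y, hy⟩ : (Q : Subgroup G)) * ⟨x, hxQ⟩ = ⟨x, hxQ⟩ * ⟨y, hy⟩ := by
      apply e.injective
      rw [map_mul, map_mul]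
      exact hP.is_comm.comm _ _
    exact congrArg Subtype.val h1
  · intro h
    refine CfsgLib.Fusion.CentralConjTwo.isMulCommutative P.isPGroup'
      (CfsgLib.Fusion.groupFusion_isSaturated P) (CfsgLib.Fusion.CentralConjTwo.hyp_of fun x hx => ?_)
    obtain ⟨k, hk⟩ := IsPGroup.iff_orderOf.1 P.isPGroup' ⟨x, hx⟩
    rw [← Subgroup.orderOf_coe] at hk
    obtain ⟨Q, hQ⟩ := h x ⟨k, hk⟩
    obtain ⟨g, hg⟩ := MulAction.exists_smul_eq G P Q
    have hzc : ∀ y ∈ (P : Subgroup G), y * (g⁻¹ * x * g) = g⁻¹ * x * g * y := by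
      intro y hy
      have hm : g * y * g⁻¹ ∈ (Q : Subgroup G) := by
        rw [← hg]
        exact ⟨y, hy, rfl⟩
      have hc := Subgroup.mem_centralizer_singleton_iff.1 (hQ hm)
      calc y * (g⁻¹ * x * g) = g⁻¹ * (g * y * g⁻¹ * x) * g := by group
        _ = g⁻¹ * (x * (g * y * g⁻¹)) * g := by rw [hc]
        _ = g⁻¹ * x * g * y := by group
    have hzP : g⁻¹ * x * g ∈ (P : Subgroup G) := by
      have hp : IsPGroup 2 (Subgroup.zpowers (g⁻¹ * x * g)) := by
        refine IsPGroup.of_card (n := k) ?_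
        rw [Nat.card_zpowers]
        rw [← hk, ← (MulAut.conj g⁻¹).orderOf_eq x]
        congr 1
        simp
      have hle : Subgroup.zpowers (g⁻¹ * x * g) ≤ Subgroup.normalizer ((P : Subgroup G) : Set G) := by
        rw [Subgroup.zpowers_le, Subgroup.mem_normalizer_iff]
        intro y
        constructor
        · intro hy
          rw [← hzc y hy, mul_inv_cancel_right]
          exact hy
        · intro hy
          have e := hzc _ hy
          rw [inv_mul_cancel_right] at e
          exact (mul_left_cancel e).symm ▸ hy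
      have h2 : IsPGroup 2 ↥(Subgroup.zpowers (g⁻¹ * x * g) ⊔ (P : Subgroup G)) :=
        hp.to_sup_of_normal_right' P.isPGroup' hle
      have h3 := P.is_maximal' h2 le_sup_right
      exact h3.le (Subgroup.mem_sup_left (Subgroup.mem_zpowers _))
    refine ⟨g⁻¹ * x * g, ⟨hzP, Subgroup.mem_centralizer_iff.2 hzc⟩,
      Cfsg.conjHom (Subgroup.zpowers x) g⁻¹, ?_, ?_⟩
    · refine ⟨Subgroup.zpowers_le.2 hx, ?_, g⁻¹, fun y => rfl⟩
      rintro ⟨y, j, rfl⟩
      show g⁻¹ * x ^ j * g⁻¹⁻¹ ∈ (P : Subgroup G)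
      rw [← conj_zpow, inv_inv]
      exact Subgroup.zpow_mem _ hzP j
    · show g⁻¹ * x * g⁻¹⁻¹ = _
      rw [inv_inv]

end Cfsg.Agent.S4194
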