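import Cfsg.Statements.S4196
import Cfsg.Agent.Lib.RealElt.Basic

set_option autoImplicit false
open Cfsg

namespace Cfsg.Agent.S4196

/-- A finite group G has elementary abelian Sylow 2-subgroups (commutative with every element squaring to the identity) if and only if every 2-element of G has a Sylow 2-subgroup in its centralizer and is conjugate to its inverse. -/
theorem result {G : Type*} [Group G] [Finite G] (P : Sylow 2 G) :
    (IsMulCommutative (P : Subgroup G) ∧ ∀ x ∈ (P : Subgroup G), x ^ 2 = 1) ↔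
      ∀ x : G, (∃ k : ℕ, orderOf x = 2 ^ k) → (∃ Q : Sylow 2 G, (Q : Subgroup G) ≤ Subgroup.centralizer ({x} : Set G)) ∧ IsConj x x⁻¹ := by
  constructor
  · rintro ⟨hab, hsq⟩ x ⟨k, hk⟩
    have hp : IsPGroup 2 (Subgroup.zpowers x) := IsPGroup.of_card (n := k) (by rw [Nat.card_zpowers, hk])
    obtain ⟨Q, hQ⟩ := hp.exists_le_sylow
    obtain ⟨g, hg⟩ := MulAction.exists_smul_eq G P Q
    have hQel : ∀ y ∈ (Q : Subgroup G), ∃ z ∈ (P : Subgroup G), y = g * z * g⁻¹ := by
      intro y hy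
      rw [← hg, Sylow.coe_subgroup_smul, Subgroup.mem_pointwise_smul_iff_inv_smul_mem] at hy
      exact ⟨_, hy, by simp [MulAut.smul_def, mul_assoc]⟩
    obtain ⟨z, hz, hxz⟩ := hQel x (hQ (Subgroup.mem_zpowers x))
    refine ⟨⟨Q, fun y hy => ?_⟩, ?_⟩
    · obtain ⟨w, hw, rfl⟩ := hQel y hy
      rw [Subgroup.mem_centralizer_singleton_iff, hxz]
      have hc : w * z = z * w :=
        congrArg Subtype.val (hab.is_comm.comm (⟨w, hw⟩ : (P : Subgroup G)) ⟨z, hz⟩)
      calc g * w * g⁻¹ * (g * z * g⁻¹) = g * (w * z) * g⁻¹ := by group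
      _ = g * (z * w) * g⁻¹ := by rw [hc]
      _ = _ := by group
    · have h2 : x * x = 1 := by
        rw [hxz]
        calc g * z * g⁻¹ * (g * z * g⁻¹) = g * z ^ 2 * g⁻¹ := by rw [pow_two]; group
        _ = 1 := by rw [hsq z hz]; group
      rw [inv_eq_of_mul_eq_one_right h2]
  · intro h
    have hsq : ∀ x ∈ (P : Subgroup G), x ^ 2 = 1 := by
      intro x hx
      obtain ⟨k, hk⟩ := IsPGroup.iff_orderOf.mp P.2 ⟨x, hx⟩
      obtain ⟨⟨Q, hQ⟩, hr⟩ := h x ⟨k, by simpa [Subgroup.orderOf_mk] using hk⟩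
      exact CfsgLib.RealElt.sq_eq_one_of_le_centralizer Q hQ hr
    refine ⟨⟨⟨fun a b => ?_⟩⟩, hsq⟩
    have ha : ∀ c : (P : Subgroup G), c⁻¹ = c := fun c => inv_eq_of_mul_eq_one_right
      (by rw [← pow_two]; exact Subtype.ext (by simpa using hsq c c.2))
    calc a * b = (a * b)⁻¹ := (ha _).symm
    _ = b⁻¹ * a⁻¹ := mul_inv_rev a b
    _ = b * a := by rw [ha, ha]

end Cfsg.Agent.S4196
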