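import Cfsg.Statements.S4198
import Cfsg.Agent.Lib.FgsC.PartitionCount
import Mathlib.GroupTheory.SpecificGroups.Alternating.Centralizer

set_option autoImplicit false
open Cfsg

namespace Cfsg.Agent.S4198

open Equiv Equiv.Perm CfsgLib.FgsC.PartitionCount
set_option linter.style.haveILetI false

variable {α : Type*} [Fintype α] [DecidableEq α]

theorem exists_perm_partition (P : Nat.Partition (Fintype.card α)) :
    ∃ g : Perm α, g.partition = P := by
  have hsum : (P.parts.filter (2 ≤ ·)).sum ≤ Fintype.card α := by
    have h := congrArg Multiset.sum (Multiset.filter_add_not (2 ≤ ·) P.parts)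
    rw [Multiset.sum_add, P.parts_sum] at h
    omega
  obtain ⟨g, hg⟩ := (exists_with_cycleType_iff α).mpr
    ⟨hsum, fun a ha => (Multiset.mem_filter.mp ha).2⟩
  refine ⟨g, Nat.Partition.ext ?_⟩
  rw [parts_partition, hg]
  have hones : Multiset.filter (fun a => ¬ 2 ≤ a) P.parts =
      Multiset.replicate (Multiset.filter (fun a => ¬ 2 ≤ a) P.parts).card 1 := by
    refine Multiset.eq_replicate_card.mpr fun a ha => ?_
    have h1 := P.parts_pos (Multiset.mem_of_mem_filter ha)
    have h2 := (Multiset.mem_filter.mp ha).2
    omega
  have hs : g.support.card = (P.parts.filter (2 ≤ ·)).sum := by rw [← sum_cycleType, hg]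
  conv_rhs => rw [← Multiset.filter_add_not (2 ≤ ·) P.parts, hones]
  congr 2
  have h := congrArg Multiset.sum (Multiset.filter_add_not (2 ≤ ·) P.parts)
  rw [Multiset.sum_add, P.parts_sum, hones, Multiset.sum_replicate, smul_eq_mul, mul_one] at h
  omega

theorem sign_eq (g : Perm α) :
    (sign g : ℤˣ) = (-1) ^ (Fintype.card α + g.partition.parts.card) := by
  rw [sign_of_cycleType, parts_partition, Multiset.card_add, Multiset.card_replicate, sum_cycleType]
  have h := g.support.card_le_univ
  rw [show Fintype.card α + (g.cycleType.card + (Fintype.card α - g.support.card)) =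
    g.support.card + g.cycleType.card + 2 * (Fintype.card α - g.support.card) by omega,
    pow_add _ (g.support.card + g.cycleType.card), pow_mul (-1 : ℤˣ) 2, neg_one_sq, one_pow, mul_one]

theorem distinct_of_centralizer_le {g : Perm α}
    (h : Subgroup.centralizer {g} ≤ alternatingGroup α) : Distinct g.partition := by
  obtain ⟨hodd, hsum, hcount⟩ := centralizer_le_alternating_iff.mp h
  rw [sum_cycleType] at hsum
  refine ⟨fun a ha => ?_, ?_⟩
  · rw [parts_partition] at ha
    rcases Multiset.mem_add.mp ha with ha | ha
    · exact hodd a ha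
    · rw [Multiset.eq_of_mem_replicate ha]
      exact odd_one
  · rw [parts_partition, Multiset.nodup_iff_count_le_one]
    intro a
    rw [Multiset.count_add, Multiset.count_replicate]
    split_ifs with h1
    · have : g.cycleType.count a = 0 := Multiset.count_eq_zero.mpr fun hm => by
        have := two_le_of_mem_cycleType hm
        omega
      omega
    · exact (Nat.add_zero _).le.trans (hcount a)

/-- The class of a partition. -/
noncomputable def classOf (P : Nat.Partition (Fintype.card α)) : ConjClasses (Perm α) :=
  ConjClasses.mk (exists_perm_partition P).choose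

theorem classOf_partition (g : Perm α) : classOf g.partition = ConjClasses.mk g :=
  ConjClasses.mk_eq_mk_iff_isConj.mpr
    (partition_eq_of_isConj.mpr (exists_perm_partition g.partition).choose_spec)

theorem classOf_injective : Function.Injective (classOf (α := α)) := by
  intro P Q h
  have h' := partition_eq_of_isConj.mp (ConjClasses.mk_eq_mk_iff_isConj.mp h)
  rwa [(exists_perm_partition P).choose_spec, (exists_perm_partition Q).choose_spec] at h'

theorem card_classes_le :
    Nat.card (ConjClasses (Perm α)) ≤ Fintype.card (Nat.Partition (Fintype.card α)) := by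
  rw [← Nat.card_eq_fintype_card]
  refine Nat.card_le_card_of_surjective classOf fun C => ?_
  obtain ⟨g, rfl⟩ := ConjClasses.mk_surjective C
  exact ⟨g.partition, classOf_partition g⟩

theorem alternating_lt (hn : 5 ≤ Fintype.card α) :
    Nat.card (ConjClasses (alternatingGroup α)) < Nat.card (ConjClasses (Perm α)) := by
  classical
  haveI : Nonempty (ConjClasses (alternatingGroup α)) := ⟨ConjClasses.mk 1⟩
  have h2 : 2 ≤ Fintype.card α := by omega
  let π : ConjClasses (alternatingGroup α) → ConjClasses (Perm α) :=
    ConjClasses.map (alternatingGroup α).subtype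
  -- two classes of the alternating group with the same image
  have hfib : ∀ a b : alternatingGroup α, ConjClasses.mk a ≠ ConjClasses.mk b →
      IsConj (a : Perm α) b →
      (∀ c : Perm α, c * (a : Perm α) * c⁻¹ = b → c ∉ alternatingGroup α) ∧
        Subgroup.centralizer {(a : Perm α)} ≤ alternatingGroup α := by
    intro a b hne hab
    have hout : ∀ c : Perm α, c * (a : Perm α) * c⁻¹ = b → c ∉ alternatingGroup α :=
      fun c hc hmem => hne (ConjClasses.mk_eq_mk_iff_isConj.mpr
        (isConj_iff.mpr ⟨⟨c, hmem⟩, Subtype.ext hc⟩))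
    refine ⟨hout, fun z hz => ?_⟩
    obtain ⟨c, hc⟩ := isConj_iff.mp hab
    have hcz : (c * z) * (a : Perm α) * (c * z)⁻¹ = b := by
      rw [mul_inv_rev, ← hc]
      have := Subgroup.mem_centralizer_singleton_iff.mp hz
      calc c * z * (a : Perm α) * (z⁻¹ * c⁻¹) = c * (z * a * z⁻¹) * c⁻¹ := by group
        _ = c * (a : Perm α) * c⁻¹ := by rw [this, mul_inv_cancel_right]
    have h1 := hout c hc
    have h2 := hout _ hcz
    rw [mem_alternatingGroup] at h1 h2 ⊢
    rw [map_mul, (Int.units_eq_one_or (sign c)).resolve_left h1, neg_one_mul, neg_eq_iff_eq_neg]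
      at h2
    rcases Int.units_eq_one_or (sign z) with e | e
    · exact e
    · exact absurd e h2
  have htwo : ∀ a b c : ConjClasses (alternatingGroup α), π a = π b → π a = π c → a ≠ b → a ≠ c →
      b = c := by
    intro a b c hab hac h1 h2
    obtain ⟨a, rfl⟩ := ConjClasses.mk_surjective a
    obtain ⟨b, rfl⟩ := ConjClasses.mk_surjective b
    obtain ⟨c, rfl⟩ := ConjClasses.mk_surjective c
    have hab' : IsConj (a : Perm α) b := ConjClasses.mk_eq_mk_iff_isConj.mp hab
    have hac' : IsConj (a : Perm α) c := ConjClasses.mk_eq_mk_iff_isConj.mp hac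
    obtain ⟨u, hu⟩ := isConj_iff.mp hab'
    obtain ⟨v, hv⟩ := isConj_iff.mp hac'
    have hu' := (hfib a b h1 hab').1 u hu
    have hv' := (hfib a c h2 hac').1 v hv
    rw [mem_alternatingGroup] at hu' hv'
    refine ConjClasses.mk_eq_mk_iff_isConj.mpr (isConj_iff.mpr ⟨⟨v * u⁻¹, ?_⟩, Subtype.ext ?_⟩)
    · rw [mem_alternatingGroup, map_mul, map_inv, (Int.units_eq_one_or _).resolve_left hu',
        (Int.units_eq_one_or _).resolve_left hv', mul_inv_cancel]
    · change v * u⁻¹ * (b : Perm α) * (v * u⁻¹)⁻¹ = c
      rw [← hu, ← hv]
      group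
  -- the partition of a class
  let part : ConjClasses (Perm α) → Nat.Partition (Fintype.card α) := fun C =>
    C.exists_rep.choose.partition
  have hpart : ∀ g : Perm α, part (ConjClasses.mk g) = g.partition := fun g =>
    partition_eq_of_isConj.mp
      (ConjClasses.mk_eq_mk_iff_isConj.mp (ConjClasses.mk g).exists_rep.choose_spec)
  let F : ConjClasses (alternatingGroup α) → ConjClasses (Perm α) := fun a =>
    if Function.invFun π (π a) = a then π a else classOf (shift (part (π a)))
  -- the second class of a split pair
  have hsplit : ∀ a, Function.invFun π (π a) ≠ a → ∃ g : Perm α, π a = ConjClasses.mk g ∧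
      part (π a) = g.partition ∧ sign g = 1 ∧ Distinct g.partition := by
    intro a ha
    have hinv : π (Function.invFun π (π a)) = π a := Function.invFun_eq ⟨a, rfl⟩
    obtain ⟨x, hx⟩ := ConjClasses.mk_surjective a
    obtain ⟨y, hy⟩ := ConjClasses.mk_surjective (Function.invFun π (π a))
    have hxy : IsConj (x : Perm α) y := ConjClasses.mk_eq_mk_iff_isConj.mp (by
      rw [← hy, ← hx] at hinv
      exact hinv.symm)
    have hne : ConjClasses.mk x ≠ ConjClasses.mk y := by
      rw [hx, hy]
      exact fun h => ha h.symm
    refine ⟨x, by rw [← hx]; rfl, by rw [← hx]; exact hpart _, x.2,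
      distinct_of_centralizer_le (hfib x y hne hxy).2⟩
  have hodd : ∀ a, Function.invFun π (π a) ≠ a →
      ∀ b, classOf (shift (part (π a))) ≠ π b := by
    intro a ha b hab
    obtain ⟨g, -, hg, hs, hd⟩ := hsplit a ha
    obtain ⟨y, rfl⟩ := ConjClasses.mk_surjective b
    rw [hg] at hab
    have hconj : IsConj (exists_perm_partition (shift g.partition)).choose (y : Perm α) :=
      ConjClasses.mk_eq_mk_iff_isConj.mp hab
    have h1 := sign_eq g
    have h3 := sign_eq (y : Perm α)
    rw [← partition_eq_of_isConj.mp hconj, (exists_perm_partition _).choose_spec, card_shift h2 hd,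
      ← add_assoc, pow_succ, ← h1, hs, one_mul] at h3
    rw [show sign ((y : alternatingGroup α) : Perm α) = 1 from y.2] at h3
    exact absurd h3 (by decide)
  have hFinj : Function.Injective F := by
    intro a b hab
    by_cases ha : Function.invFun π (π a) = a <;> by_cases hb : Function.invFun π (π b) = b <;>
      simp only [F, if_pos, if_neg, ha, hb, not_false_iff] at hab
    · rw [← ha, ← hb, hab]
    · exact absurd hab.symm (hodd b hb a)
    · exact absurd hab (hodd a ha b)
    · obtain ⟨g, hga, hg, -, hgd⟩ := hsplit a ha
      obtain ⟨k, hkb, hk, -, hkd⟩ := hsplit b hb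
      rw [hg, hk] at hab
      have he := shift_injective h2 hgd hkd (classOf_injective hab)
      have hπ : π a = π b := by
        rw [hga, hkb, ← classOf_partition, ← classOf_partition, he]
      have hinv : π (Function.invFun π (π a)) = π a := Function.invFun_eq ⟨a, rfl⟩
      refine htwo (Function.invFun π (π a)) a b hinv (hinv.trans hπ) ha ?_
      rw [hπ]
      exact hb
  haveI := Fintype.ofFinite (ConjClasses (alternatingGroup α))
  haveI := Fintype.ofFinite (ConjClasses (Perm α))
  rw [Nat.card_eq_fintype_card, Nat.card_eq_fintype_card]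
  refine Fintype.card_lt_of_injective_not_surjective F hFinj ?_
  intro hsurj
  obtain ⟨Q, hQc, hQ⟩ := exists_not_shift hn
  obtain ⟨a, ha⟩ := hsurj (classOf Q)
  by_cases hi : Function.invFun π (π a) = a
  · simp only [F, if_pos, hi] at ha
    obtain ⟨y, rfl⟩ := ConjClasses.mk_surjective a
    have hconj : IsConj (y : Perm α) (exists_perm_partition Q).choose :=
      ConjClasses.mk_eq_mk_iff_isConj.mp ha
    have h1 := sign_eq (y : Perm α)
    rw [partition_eq_of_isConj.mp hconj, (exists_perm_partition _).choose_spec, hQc,
      show sign ((y : alternatingGroup α) : Perm α) = 1 from y.2,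
      show Fintype.card α + (Fintype.card α - 1) = 2 * (Fintype.card α - 1) + 1 by omega,
      pow_succ, pow_mul, neg_one_sq, one_pow, one_mul] at h1
    exact absurd h1 (by decide)
  · simp only [F, if_neg, hi, not_false_iff] at ha
    obtain ⟨g, -, hg, -, hgd⟩ := hsplit a hi
    rw [hg] at ha
    exact hQ _ hgd (classOf_injective ha)

/-- For n ≥ 5 the alternating group of degree n has strictly fewer conjugacy classes than the symmetric group of degree n, and the symmetric group of degree n (whose classes correspond to the partitions of n) has at most 2^(n−2) conjugacy classes. -/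
theorem result (n : ℕ) (hn : 5 ≤ n) : Nat.card (ConjClasses (alternatingGroup (Fin n))) < Nat.card (ConjClasses (Equiv.Perm (Fin n))) ∧ Nat.card (ConjClasses (Equiv.Perm (Fin n))) ≤ 2 ^ (n - 2) := by
  refine ⟨alternating_lt (by rwa [Fintype.card_fin]), ?_⟩
  refine (card_classes_le (α := Fin n)).trans ?_
  rw [Fintype.card_fin]
  exact CfsgLib.FgsC.PartitionCount.card_le_two_pow hn

end Cfsg.Agent.S4198
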