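import Cfsg.Statements.S4200
import Mathlib

set_option autoImplicit false
open Cfsg

namespace Cfsg.Agent.S4200

theorem card_comm_eq_sum {M : Type*} [Group M] [Fintype M] :
    Nat.card {p : M × M // Commute p.1 p.2} = ∑ x : M, Nat.card (Subgroup.centralizer {x}) := by
  rw [← Nat.card_sigma]
  exact Nat.card_congr
    { toFun := fun p => ⟨p.1.1, p.1.2, Subgroup.mem_centralizer_singleton_iff.mpr p.2.symm⟩
      invFun := fun q => ⟨(q.1, q.2.1), (Subgroup.mem_centralizer_singleton_iff.mp q.2.2).symm⟩
      left_inv := fun _ => rfl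
      right_inv := fun _ => rfl }

theorem card_commute_coe {X : Type*} [Group X] (Y : Subgroup X) (y : Y) :
    Nat.card {z : Y // Commute (y : X) z} = Nat.card (Subgroup.centralizer {y}) :=
  Nat.card_congr (Equiv.subtypeEquivRight fun z => by
    rw [Subgroup.mem_centralizer_singleton_iff]
    exact ⟨fun h => Subtype.ext h.symm, fun h => (congrArg Subtype.val h).symm⟩)

theorem card_commute_eq_inf {X : Type*} [Group X] (Y : Subgroup X) (x : X) :
    Nat.card {z : Y // Commute x z} = Nat.card ↥(Y.subgroupOf (Subgroup.centralizer {x})) :=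
  Nat.card_congr
    { toFun := fun z => ⟨⟨z.1, Subgroup.mem_centralizer_singleton_iff.mpr z.2.symm⟩, z.1.2⟩
      invFun := fun c => ⟨⟨c.1.1, c.2⟩, (Subgroup.mem_centralizer_singleton_iff.mp c.1.2).symm⟩
      left_inv := fun _ => rfl
      right_inv := fun _ => rfl }

theorem centralizer_le {X : Type*} [Group X] [Finite X] (Y : Subgroup X) (x : X) :
    Nat.card (Subgroup.centralizer {x}) ≤ Y.index * Nat.card {z : Y // Commute x z} := by
  rw [card_commute_eq_inf, ← Subgroup.card_mul_index (Y.subgroupOf (Subgroup.centralizer {x})), mul_comm]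
  exact Nat.mul_le_mul_right _ ((Subgroup.relIndex_le_of_le_right le_top (by simp [Subgroup.index_ne_zero_of_finite])).trans_eq Y.relIndex_top_right)

theorem exists_mul_of_relIndex_eq {X : Type*} [Group X] [Finite X] (Y C : Subgroup X)
    (e : Y.relIndex C = Y.index) (g : X) : ∃ c ∈ C, ∃ u ∈ Y, u * c = g := by
  have hb : Function.Bijective (Subgroup.quotientSubgroupOfEmbeddingOfLE Y (le_top : C ≤ ⊤)) := by
    rw [Nat.bijective_iff_injective_and_card]
    refine ⟨Function.Embedding.injective _, ?_⟩
    show Y.relIndex C = Y.relIndex ⊤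
    rw [Subgroup.relIndex_top_right, e]
  obtain ⟨c, hc⟩ := hb.2 (QuotientGroup.mk ⟨g⁻¹, Subgroup.mem_top _⟩)
  induction c using QuotientGroup.induction_on with | H c => ?_
  rw [Subgroup.quotientSubgroupOfEmbeddingOfLE_apply_mk, QuotientGroup.eq, Subgroup.mem_subgroupOf] at hc
  refine ⟨(c : X)⁻¹, C.inv_mem c.2, _, Y.inv_mem hc, ?_⟩
  simp

theorem centralizer_lt {X : Type*} [Group X] [Finite X] (Y : Subgroup X) (y : Y) (g : X)
    (hy : (y : X) ∈ Y) (hg : g * y * g⁻¹ ∉ Y) :
    Nat.card (Subgroup.centralizer {(y : X)}) < Y.index * Nat.card {z : Y // Commute (y : X) z} := by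
  refine lt_of_le_of_ne (centralizer_le Y y) fun e => hg ?_
  rw [card_commute_eq_inf, ← Subgroup.card_mul_index (Y.subgroupOf (Subgroup.centralizer {(y : X)})), mul_comm] at e
  have e' : Y.relIndex (Subgroup.centralizer {(y : X)}) = Y.index :=
    Nat.eq_of_mul_eq_mul_right Nat.card_pos e
  obtain ⟨c, hc, u, hu, rfl⟩ : ∃ c ∈ Subgroup.centralizer {(y : X)}, ∃ u ∈ Y, u * c = g := by
    have := exists_mul_of_relIndex_eq Y (Subgroup.centralizer {(y : X)}) e' g
    exact this
  have hcy : c * y * c⁻¹ = y := by
    rw [Subgroup.mem_centralizer_singleton_iff.mp hc, mul_inv_cancel_right]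
  have : u * c * y * (u * c)⁻¹ = u * (c * y * c⁻¹) * u⁻¹ := by simp [mul_assoc]
  rw [this, hcy]
  exact Y.mul_mem (Y.mul_mem hu hy) (Y.inv_mem hu)

theorem swap_count {X : Type*} [Group X] [Fintype X] (Y : Subgroup X) [Fintype Y] :
    ∑ x : X, Nat.card {z : Y // Commute x z} = ∑ y : Y, Nat.card (Subgroup.centralizer {(y : X)}) := by
  rw [← Nat.card_sigma, ← Nat.card_sigma]
  exact Nat.card_congr
    { toFun := fun p => ⟨p.2.1, p.1, Subgroup.mem_centralizer_singleton_iff.mpr p.2.2⟩
      invFun := fun q => ⟨q.2.1, q.1, Subgroup.mem_centralizer_singleton_iff.mp q.2.2⟩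
      left_inv := fun _ => rfl
      right_inv := fun _ => rfl }

/-- Let Y be a subgroup of the finite group X, of index m. Then the numbers of conjugacy classes satisfy k(Y) ≤ m·k(X) and k(X) ≤ m·k(Y), and the second inequality is strict unless Y is normal in X. -/
theorem result {X : Type*} [Group X] [Finite X] (Y : Subgroup X) : Nat.card (ConjClasses Y) ≤ Y.index * Nat.card (ConjClasses X) ∧ Nat.card (ConjClasses X) ≤ Y.index * Nat.card (ConjClasses Y) ∧ (¬ Y.Normal → Nat.card (ConjClasses X) < Y.index * Nat.card (ConjClasses Y)) := by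
  classical
  have := Fintype.ofFinite X
  have hX := card_comm_eq_card_conjClasses_mul_card X
  have hY := card_comm_eq_card_conjClasses_mul_card Y
  rw [card_comm_eq_sum] at hX hY
  have hcard := Y.card_mul_index
  have hpos : 0 < Nat.card Y := Nat.card_pos
  -- centralizers grow by at most the index
  have hle : ∀ x : X, Nat.card (Subgroup.centralizer {x}) ≤
      Y.index * Nat.card {y : Y // Commute x y} := fun x => centralizer_le Y x
  have step2 : ∑ y : Y, Nat.card (Subgroup.centralizer {(y : X)}) ≤
      Y.index * ∑ y : Y, Nat.card (Subgroup.centralizer {y}) := by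
    rw [Finset.mul_sum]
    exact Finset.sum_le_sum fun y _ => (hle y).trans (le_of_eq (by rw [card_commute_coe]))
  have step1 : ∑ x : X, Nat.card (Subgroup.centralizer {x}) ≤
      Y.index * ∑ y : Y, Nat.card (Subgroup.centralizer {(y : X)}) := by
    rw [← swap_count Y, Finset.mul_sum]
    exact Finset.sum_le_sum fun x _ => hle x
  have hmain : Nat.card (ConjClasses X) * Nat.card X ≤
      (Y.index * Nat.card (ConjClasses Y)) * Nat.card X := by
    calc _ ≤ Y.index * (Y.index * (Nat.card (ConjClasses Y) * Nat.card Y)) := by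
          rw [← hX, ← hY]; exact step1.trans (Nat.mul_le_mul_left _ step2)
      _ = _ := by rw [← hcard]; ring
  refine ⟨?_, Nat.le_of_mul_le_mul_right hmain Nat.card_pos, fun hnn => ?_⟩
  · refine Nat.le_of_mul_le_mul_right ?_ hpos
    calc Nat.card (ConjClasses Y) * Nat.card Y
        ≤ ∑ x : X, Nat.card (Subgroup.centralizer {x}) := by
          rw [← hY]
          refine le_trans (Finset.sum_le_sum (g := fun y : Y => Nat.card (Subgroup.centralizer {(y : X)})) fun y _ => ?_) ?_
          · exact Nat.card_le_card_of_injective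
              (fun c => (⟨(c : Y), Subgroup.mem_centralizer_singleton_iff.mpr
                (congrArg Subtype.val (Subgroup.mem_centralizer_singleton_iff.mp c.2))⟩ : Subgroup.centralizer {(y : X)}))
              fun a b h => Subtype.ext (Subtype.ext (congrArg Subtype.val h :))
          · rw [← Finset.sum_image (f := fun x : X => Nat.card (Subgroup.centralizer {x}))
              (g := fun y : Y => (y : X)) fun a _ b _ h => Subtype.ext h]
            exact Finset.sum_le_sum_of_subset (Finset.subset_univ _)
      _ = Y.index * Nat.card (ConjClasses X) * Nat.card Y := by rw [hX, ← hcard]; ring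
  · obtain ⟨y, g, hy, hg⟩ : ∃ (y : Y) (g : X), (y : X) ∈ Y ∧ g * y * g⁻¹ ∉ Y := by
      by_contra hc
      push Not at hc
      exact hnn ⟨fun n hn g => hc ⟨n, hn⟩ g hn⟩
    have hlt : Nat.card (Subgroup.centralizer {(y : X)}) < Y.index * Nat.card {z : Y // Commute (y : X) z} :=
      centralizer_lt Y y g hy hg
    have step2' : ∑ y : Y, Nat.card (Subgroup.centralizer {(y : X)}) <
        Y.index * ∑ y : Y, Nat.card (Subgroup.centralizer {y}) := by
      rw [Finset.mul_sum]
      refine Finset.sum_lt_sum (fun y _ => (hle y).trans (le_of_eq (by rw [card_commute_coe])))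
        ⟨y, Finset.mem_univ _, ?_⟩
      rwa [card_commute_coe] at hlt
    refine Nat.lt_of_mul_lt_mul_right (a := Nat.card X) ?_
    calc _ < Y.index * (Y.index * (Nat.card (ConjClasses Y) * Nat.card Y)) := by
          rw [← hX, ← hY]
          exact step1.trans_lt (Nat.mul_lt_mul_of_pos_left step2' (Nat.pos_of_ne_zero Subgroup.index_ne_zero_of_finite))
      _ = _ := by rw [← hcard]; ring

end Cfsg.Agent.S4200
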