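import Cfsg.Statements.S4201
import Mathlib

set_option autoImplicit false
open Cfsg

namespace Cfsg.Agent.S4201

theorem card_comm_eq_sum {M : Type*} [Group M] [Fintype M] :
    Nat.card {p : M × M // Commute p.1 p.2} = ∑ x : M, Nat.card (Subgroup.centralizer {x}) := by
  rw [← Nat.card_sigma]
  exact Nat.card_congr
    { toFun := fun p => ⟨p.1.1, p.1.2, Subgroup.mem_centralizer_singleton_iff.mpr p.2.symm⟩
      invFun := fun q => ⟨(q.1, q.2.1), (Subgroup.mem_centralizer_singleton_iff.mp q.2.2).symm⟩
      left_inv := fun _ => rfl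
      right_inv := fun _ => rfl }

theorem centralizer_le {X : Type*} [Group X] [Finite X] (N : Subgroup X) [N.Normal] (x : X) :
    Nat.card (Subgroup.centralizer {x}) ≤
      Nat.card {n : N // Commute x n} * Nat.card (Subgroup.centralizer {(QuotientGroup.mk x : X ⧸ N)}) := by
  let f : Subgroup.centralizer {x} →* Subgroup.centralizer {(QuotientGroup.mk x : X ⧸ N)} :=
    { toFun := fun c => ⟨QuotientGroup.mk' N (c : X), Subgroup.mem_centralizer_singleton_iff.mpr
        (show QuotientGroup.mk' N (c : X) * QuotientGroup.mk' N x = QuotientGroup.mk' N x * QuotientGroup.mk' N (c : X) by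
          rw [← map_mul, ← map_mul, Subgroup.mem_centralizer_singleton_iff.mp c.2])⟩
      map_one' := by ext; simp
      map_mul' := fun a b => by ext; simp }
  rw [Subgroup.card_eq_card_quotient_mul_card_subgroup f.ker, mul_comm]
  refine Nat.mul_le_mul ?_ ?_
  · refine Nat.card_le_card_of_injective (fun k => (⟨⟨((k : Subgroup.centralizer {x}) : X), ?_⟩, ?_⟩ : {n : N // Commute x n})) fun a b h => ?_
    · exact (QuotientGroup.eq_one_iff _).mp (congrArg Subtype.val (MonoidHom.mem_ker.mp k.2) :)
    · exact (Subgroup.mem_centralizer_singleton_iff.mp k.1.2).symm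
    · exact Subtype.ext (Subtype.ext (congrArg (fun z => ((z.1 : N) : X)) h :))
  · exact Nat.card_le_card_of_injective (QuotientGroup.kerLift f) (QuotientGroup.kerLift_injective f)

theorem coset_le {X : Type*} [Group X] [Fintype X] (N : Subgroup X) [N.Normal] [Fintype N]
    [DecidableEq (X ⧸ N)] (q : X ⧸ N) :
    ∑ x ∈ Finset.univ.filter (fun x : X => (QuotientGroup.mk x : X ⧸ N) = q), Nat.card {n : N // Commute x n}
      ≤ ∑ a : N, Nat.card (Subgroup.centralizer {a}) := by
  classical
  rw [Finset.sum_subtype _ (p := fun x : X => (QuotientGroup.mk x : X ⧸ N) = q) (by simp),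
    ← Nat.card_sigma]
  refine le_of_eq_of_le (Nat.card_congr (α := (x : {x : X // (QuotientGroup.mk x : X ⧸ N) = q}) × {n : N // Commute (x : X) n})
    (β := (a : N) × {x : X // (QuotientGroup.mk x : X ⧸ N) = q ∧ Commute x a})
    { toFun := fun p => ⟨p.2.1, p.1.1, p.1.2, p.2.2⟩
      invFun := fun p => ⟨⟨p.2.1, p.2.2.1⟩, p.1, p.2.2.2⟩
      left_inv := fun _ => rfl
      right_inv := fun _ => rfl }) ?_
  rw [Nat.card_sigma]
  refine Finset.sum_le_sum fun a _ => ?_
  rcases isEmpty_or_nonempty {x : X // (QuotientGroup.mk x : X ⧸ N) = q ∧ Commute x a} with h | ⟨⟨x₀, h₀, hc₀⟩⟩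
  · simp
  · refine Nat.card_le_card_of_injective (fun z => (⟨⟨x₀⁻¹ * z.1, QuotientGroup.eq.mp (h₀.trans z.2.1.symm)⟩, ?_⟩ :
      Subgroup.centralizer {a})) fun u v h => ?_
    · exact Subgroup.mem_centralizer_singleton_iff.mpr (Subtype.ext (hc₀.inv_left.mul_left z.2.2))
    · exact Subtype.ext (mul_left_cancel (congrArg (fun w => ((w.1 : N) : X)) h :))

/-- If N is a normal subgroup of the finite group X then k(X) ≤ k(N)·k(X ⧸ N), where k denotes the number of conjugacy classes. -/
theorem result {X : Type*} [Group X] [Finite X] (N : Subgroup X) [N.Normal] : Nat.card (ConjClasses X) ≤ Nat.card (ConjClasses N) * Nat.card (ConjClasses (X ⧸ N)) := by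
  classical
  have := Fintype.ofFinite X
  have hX := card_comm_eq_card_conjClasses_mul_card X
  have hN := card_comm_eq_card_conjClasses_mul_card N
  have hQ := card_comm_eq_card_conjClasses_mul_card (X ⧸ N)
  rw [card_comm_eq_sum] at hX hN hQ
  refine Nat.le_of_mul_le_mul_right (c := Nat.card X) ?_ Nat.card_pos
  have hcard := Subgroup.card_eq_card_quotient_mul_card_subgroup N
  calc Nat.card (ConjClasses X) * Nat.card X
      = ∑ x : X, Nat.card (Subgroup.centralizer {x}) := hX.symm
    _ ≤ ∑ x : X, Nat.card {n : N // Commute x n} *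
          Nat.card (Subgroup.centralizer {(QuotientGroup.mk x : X ⧸ N)}) :=
        Finset.sum_le_sum fun x _ => centralizer_le N x
    _ = ∑ q : X ⧸ N, ∑ x ∈ Finset.univ.filter (fun x : X => (QuotientGroup.mk x : X ⧸ N) = q),
          Nat.card {n : N // Commute x n} * Nat.card (Subgroup.centralizer {(QuotientGroup.mk x : X ⧸ N)}) :=
        (Finset.sum_fiberwise Finset.univ _ _).symm
    _ ≤ ∑ q : X ⧸ N, (∑ a : N, Nat.card (Subgroup.centralizer {a})) * Nat.card (Subgroup.centralizer {q}) := by
        refine Finset.sum_le_sum fun q _ => ?_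
        rw [Finset.sum_congr rfl (fun x hx => by rw [(Finset.mem_filter.mp hx).2]), ← Finset.sum_mul]
        exact Nat.mul_le_mul_right _ (coset_le N q)
    _ = Nat.card (ConjClasses N) * Nat.card (ConjClasses (X ⧸ N)) * Nat.card X := by
        rw [← Finset.mul_sum, hN, hQ, hcard]; ring

end Cfsg.Agent.S4201
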