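import Cfsg.Statements.S4203
import Cfsg.Agent.Lib.FgsC.Basic
import Cfsg.Agent.Lib.Base.MinimalNormal
import Cfsg.Agent.Lib.FgsC.Index

set_option autoImplicit false
open Cfsg

namespace Cfsg.Agent.S4203

universe u

theorem main (n : ℕ) : ∀ (G : Type u) [Group G] [Finite G], Nat.card G = n →
    (∀ M : Subgroup G, IsCoatom M → ∃ p : ℕ, p.Prime ∧ (M.index = p ∨ M.index = p ^ 2)) →
    Group.IsSolvable G := by
  classical
  induction n using Nat.strong_induction_on with
  | _ n ih =>
  intro G _ _ hn h
  rcases subsingleton_or_nontrivial G with hs | hs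
  · infer_instance
  obtain ⟨N, hN⟩ := CfsgLib.Base.exists_isMinimalNormal (G := G)
  have := hN.normal
  have hsurj : Function.Surjective (QuotientGroup.mk' N) := QuotientGroup.mk'_surjective N
  have hQ : Group.IsSolvable (G ⧸ N) := by
    refine ih _ ?_ (G ⧸ N) rfl ?_
    · rw [← hn, Subgroup.card_eq_card_quotient_mul_card_subgroup N]
      exact lt_mul_of_one_lt_right Nat.card_pos (Subgroup.one_lt_card_iff_ne_bot _ |>.mpr hN.ne_bot)
    · intro M hM
      have hker : (QuotientGroup.mk' N).ker ≤ M.comap (QuotientGroup.mk' N) := by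
        intro x hx
        simp only [Subgroup.mem_comap, MonoidHom.mem_ker.mp hx, one_mem]
      obtain ⟨p, hp, hi⟩ := h (M.comap (QuotientGroup.mk' N)) ⟨fun e => hM.1 (by
          rw [← Subgroup.map_comap_eq_self_of_surjective hsurj M, e,
            Subgroup.map_top_of_surjective _ hsurj]), fun K hK => by
          have hKN : (QuotientGroup.mk' N).ker ≤ K := hker.trans hK.le
          have : M < K.map (QuotientGroup.mk' N) := by
            rw [← Subgroup.map_comap_eq_self_of_surjective hsurj M]
            refine lt_of_le_of_ne (Subgroup.map_mono hK.le) fun e => hK.ne ?_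
            exact Subgroup.map_injective_of_ker_le _ hker hKN e
          rw [← Subgroup.comap_map_eq_self hKN, hM.2 _ this, Subgroup.comap_top]⟩
      exact ⟨p, hp, by rwa [Subgroup.index_comap_of_surjective M hsurj] at hi⟩
  suffices hNs : Group.IsSolvable N from (Group.isSolvable_iff_subgroup_quotient N).mpr ⟨hNs, hQ⟩
  by_contra hns
  have hN1 : Nat.card N ≠ 1 := fun e => hN.ne_bot (Subgroup.card_eq_one.mp e)
  have hne : (Nat.card N).primeFactors.Nonempty := by
    rw [Nat.nonempty_primeFactors]
    have : 0 < Nat.card N := Nat.card_pos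
    omega
  set p := (Nat.card N).primeFactors.max' hne with hpd
  have hpm : p ∈ (Nat.card N).primeFactors := Finset.max'_mem _ hne
  have hp := Nat.prime_of_mem_primeFactors hpm
  have hp' := Fact.mk hp
  obtain ⟨P⟩ := Sylow.nonempty (p := p) (G := N)
  set L := Subgroup.normalizer (((P : Subgroup N).map N.subtype : Subgroup G) : Set G) with hL
  have hLtop : L ⊔ N = ⊤ := Sylow.normalizer_sup_eq_top P
  have hLne : L ≠ ⊤ := by
    intro e
    have hPn : ((P : Subgroup N).map N.subtype).Normal := Subgroup.normalizer_eq_top_iff.mp e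
    rcases hN.eq_bot_or_eq hPn (Subgroup.map_subtype_le _) with e' | e'
    · rw [Subgroup.map_eq_bot_iff_of_injective _ N.subtype_injective] at e'
      exact P.ne_bot_of_dvd_card (Nat.dvd_of_mem_primeFactors hpm) e'
    · have : (P : Subgroup N) = ⊤ := by
        apply Subgroup.map_injective N.subtype_injective
        rw [e', ← MonoidHom.range_eq_map, Subgroup.range_subtype]
      have hpg : IsPGroup p N := fun x => by
        obtain ⟨k, hk⟩ := P.isPGroup' ⟨x, this ▸ Subgroup.mem_top x⟩
        exact ⟨k, by simpa using congrArg Subtype.val hk⟩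
      have := hpg.isNilpotent
      exact hns inferInstance
  obtain ⟨M, hM, hLM⟩ := (IsCoatomic.eq_top_or_exists_le_coatom L).resolve_left hLne
  have hMN : M ⊔ N = ⊤ := eq_top_iff.mpr (hLtop ▸ sup_le_sup_right hLM N)
  have hidx : M.index = (M.subgroupOf N).index := by
    have h1 := CfsgLib.FgsC.relIndex_sup_of_normal M N
    rwa [hMN, Subgroup.relIndex_top_right] at h1
  have hmod : M.index ≡ 1 [MOD p] := by
    rw [hidx]
    refine CfsgLib.FgsC.index_modEq_one_of_normalizer_le P _ ?_
    intro x hx
    rw [Subgroup.mem_subgroupOf]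
    refine hLM ?_
    exact Subgroup.le_normalizer_map N.subtype (Subgroup.mem_map_of_mem _ hx)
  obtain ⟨q, hq, hqi⟩ := h M hM
  have hqd : q ∣ Nat.card N := by
    refine dvd_trans ?_ (hidx ▸ Subgroup.index_dvd_card (M.subgroupOf N))
    rcases hqi with e | e <;> simp [e]
  have hqp : q ≤ p := Finset.le_max' _ q (Nat.mem_primeFactors.mpr ⟨hq, hqd, Nat.card_pos.ne'⟩)
  have hqne : q ≠ p := by
    rintro rfl
    have h0 : M.index % p = 0 := by
      rcases hqi with e | e <;> simp [e, Nat.pow_mod]
    rw [Nat.ModEq, h0, Nat.mod_eq_of_lt hp.one_lt] at hmod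
    exact zero_ne_one hmod
  have h4 : M.index = 4 := by
    rcases hqi with e | e
    · rw [e, Nat.ModEq, Nat.mod_eq_of_lt (lt_of_le_of_ne hqp hqne), Nat.mod_eq_of_lt hp.one_lt] at hmod
      exact absurd hmod hq.one_lt.ne'
    · rw [e] at hmod ⊢
      have h1 : 1 ≤ q ^ 2 := Nat.one_le_pow _ _ hq.pos
      have h2 : p ∣ q ^ 2 - 1 := (Nat.modEq_iff_dvd' h1).mp hmod.symm
      rw [show q ^ 2 - 1 = q ^ 2 - 1 ^ 2 from rfl, Nat.sq_sub_sq] at h2
      rcases hp.dvd_mul.mp h2 with h3 | h3
      · have h5 : p = q + 1 := le_antisymm (Nat.le_of_dvd (by omega) h3) (by omega)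
        rcases hq.eq_two_or_odd with h6 | h6
        · rw [h6]; norm_num
        · rcases hp.eq_two_or_odd with h7 | h7
          · have := hq.two_le; omega
          · omega
      · have := hq.two_le
        have := Nat.le_of_dvd (by omega) h3
        omega
  have hMcard : Nat.card (G ⧸ M) ≤ 4 := h4.le
  refine hns (CfsgLib.FgsC.isSolvable_of_injective_perm hMcard
    ((MulAction.toPermHom G (G ⧸ M)).comp N.subtype) ?_)
  rw [← MonoidHom.ker_eq_bot_iff, ← MonoidHom.comap_ker, ← Subgroup.normalCore_eq_ker,
    eq_bot_iff]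
  intro x hx
  rcases hN.le_or_inf_eq_bot M.normalCore with hle | hle
  · exact absurd (eq_top_iff.mpr (hMN ▸ sup_le le_rfl (hle.trans M.normalCore_le))) hM.1
  · exact Subtype.ext (Subgroup.mem_bot.mp (hle ▸ (Subgroup.mem_inf.mpr ⟨x.2, hx⟩ : (x : G) ∈ N ⊓ M.normalCore)))

/-- A finite group in which every maximal subgroup has index a prime or the square of a prime is solvable. -/
theorem result {G : Type*} [Group G] [Finite G] (h : ∀ M : Subgroup G, IsCoatom M → ∃ p : ℕ, p.Prime ∧ (M.index = p ∨ M.index = p ^ 2)) : Group.IsSolvable G := by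
  exact main (Nat.card G) G rfl h

end Cfsg.Agent.S4203
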