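import Cfsg.Statements.S4204
import Cfsg.Agent.Lib.Base.Transport

set_option autoImplicit false
open Cfsg

namespace Cfsg.Agent.S4204

/-- The lower central series shifted by one, starting with the whole group. -/
def T {G : Type*} [Group G] (H : Subgroup G) : ℕ → Subgroup G
  | 0 => ⊤
  | i + 1 => H.lowerCentralSeries i

def S {G : Type*} [Group G] (H K : Subgroup G) (m : ℕ) : Subgroup G :=
  ⨆ (i : ℕ) (j : ℕ) (_ : i + j = m), T H i ⊓ T K j

instance T_normal {G : Type*} [Group G] (H : Subgroup G) [H.Normal] (i : ℕ) : (T H i).Normal :=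
  match i with
  | 0 => (inferInstance : (⊤ : Subgroup G).Normal)
  | i + 1 => Subgroup.lowerCentralSeries_normal H i

theorem S_normal {G : Type*} [Group G] (H K : Subgroup G) [H.Normal] [K.Normal] (m : ℕ) :
    (⨆ (i : ℕ) (j : ℕ) (_ : i + j = m), T H i ⊓ T K j).Normal := by
  refine @Subgroup.iSup_normal _ _ _ _ fun i => ?_
  refine @Subgroup.iSup_normal _ _ _ _ fun j => ?_
  exact @Subgroup.iSup_normal _ _ _ _ fun _ => inferInstance

theorem T_comm {G : Type*} [Group G] (H : Subgroup G) [H.Normal] :
    ∀ i, ⁅T H i, H⁆ ≤ T H (i + 1)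
  | 0 => Subgroup.commutator_le_right _ _
  | _ + 1 => le_rfl

/-- If `H` and `K` are normal subgroups of a finite group with `H` nilpotent of class at most `c` and `K` nilpotent of class at most `d` (the terms with index `c`, respectively `d`, of their lower central series are trivial, indices starting at `0`), then `HK` is nilpotent of class at most `c + d`. -/
theorem result {G : Type*} [Group G] [Finite G] (H K : Subgroup G) [H.Normal] [K.Normal] (c d : ℕ) (hH : H.lowerCentralSeries c = ⊥) (hK : K.lowerCentralSeries d = ⊥) : (H ⊔ K).lowerCentralSeries (c + d) = ⊥ := by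
  have key : ∀ n, (H ⊔ K).lowerCentralSeries n ≤ S H K (n + 1) := by
    intro n
    induction n with
    | zero =>
      rw [Subgroup.lowerCentralSeries_zero]
      refine sup_le ?_ ?_
      · exact le_iSup_of_le 1 (le_iSup_of_le 0 (le_iSup_of_le rfl (le_inf le_rfl le_top)))
      · exact le_iSup_of_le 0 (le_iSup_of_le 1 (le_iSup_of_le rfl (le_inf le_top le_rfl)))
    | succ n ih =>
      rw [Subgroup.lowerCentralSeries_succ]
      refine le_trans (Subgroup.commutator_mono ih le_rfl) ?_
      unfold S
      have hn : (⨆ (i : ℕ) (j : ℕ) (_ : i + j = n + 1 + 1), T H i ⊓ T K j).Normal :=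
        S_normal H K _
      refine CfsgLib.Base.commutator_iSup_left_le fun i => ?_
      refine CfsgLib.Base.commutator_iSup_left_le fun j => ?_
      refine CfsgLib.Base.commutator_iSup_left_le fun hij => ?_
      refine CfsgLib.Base.commutator_sup_right_le ?_ ?_
      · refine le_iSup_of_le (i + 1) (le_iSup_of_le j (le_iSup_of_le (by omega) ?_))
        exact le_inf ((Subgroup.commutator_mono inf_le_left le_rfl).trans (T_comm H i))
          ((Subgroup.commutator_mono inf_le_right le_rfl).trans (Subgroup.commutator_le_left _ _))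
      · refine le_iSup_of_le i (le_iSup_of_le (j + 1) (le_iSup_of_le (by omega) ?_))
        exact le_inf ((Subgroup.commutator_mono inf_le_left le_rfl).trans (Subgroup.commutator_le_left _ _))
          ((Subgroup.commutator_mono inf_le_right le_rfl).trans (T_comm K j))
  rw [eq_bot_iff]
  refine (key _).trans ?_
  refine iSup_le fun i => iSup_le fun j => iSup_le fun hij => ?_
  rcases Nat.lt_or_ge c i with h | h
  · obtain ⟨i', rfl⟩ : ∃ k, i = k + 1 := ⟨i - 1, by omega⟩
    exact inf_le_left.trans ((H.lowerCentralSeries_antitone (by omega : c ≤ i')).trans hH.le)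
  · obtain ⟨j', rfl⟩ : ∃ k, j = k + 1 := ⟨j - 1, by omega⟩
    exact inf_le_right.trans ((K.lowerCentralSeries_antitone (by omega : d ≤ j')).trans hK.le)

end Cfsg.Agent.S4204
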