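import Cfsg.Statements.S4207
import Cfsg.Agent.Lib.FgsC.GenTuples

set_option autoImplicit false
open Cfsg

namespace Cfsg.Agent.S4207

/-- Let `P` be a group of order `p^n` whose Frattini subgroup has index `p^r`. Then any group of automorphisms of `P` each of which induces the identity on the Frattini quotient has order dividing `p^(r(n-r))`; in particular it is a `p`-group. -/
theorem result {P : Type*} [Group P] [Finite P] {p n r : ℕ} [Fact p.Prime] (hP : Nat.card P = p ^ n) (hr : (frattini P).index = p ^ r) (A : Subgroup (MulAut P)) (hA : ∀ α ∈ A, ∀ x : P, α x * x⁻¹ ∈ frattini P) : Nat.card A ∣ p ^ (r * (n - r)) := by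
  classical
  have hG : IsPGroup p P := IsPGroup.of_card hP
  obtain ⟨⟨t, ht⟩⟩ : Nonempty {t : Fin r → P // Subgroup.closure (Set.range t) = ⊤} := by
    refine (Nat.card_pos_iff.mp ?_).1
    rw [CfsgLib.FgsC.card_generating hP hr]
    refine Nat.mul_pos (pow_pos (Fact.out : p.Prime).pos _) (Finset.prod_pos fun i hi => ?_)
    exact Nat.sub_pos_of_lt (Nat.pow_lt_pow_right (Fact.out : p.Prime).one_lt (Finset.mem_range.mp hi))
  let f := QuotientGroup.mk' (frattini P)
  have h := CfsgLib.FgsC.card_dvd_of_generating A {u : Fin r → P | ∀ i, f (u i) = f (t i)} (fun u hu => by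
      rw [CfsgLib.FgsC.closure_range_eq_top_iff,
        show (fun i => (QuotientGroup.mk (u i) : P ⧸ frattini P)) = fun i => QuotientGroup.mk (t i) from funext hu]
      exact CfsgLib.FgsC.closure_range_eq_top_iff.mp ht) (fun α hα u hu i => by
      rw [← hu i, ← div_eq_one, ← map_div, div_eq_mul_inv]
      exact (QuotientGroup.eq_one_iff _).mpr (hA α hα (u i)))
  refine h.trans (Eq.dvd ?_)
  refine (CfsgLib.FgsC.card_lifts f (QuotientGroup.mk'_surjective _) (fun i => f (t i))).trans ?_
  rw [QuotientGroup.ker_mk']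
  have h2 := (frattini P).card_mul_index
  rw [hr, hP] at h2
  have hle : r ≤ n := (Nat.pow_dvd_pow_iff_le_right (Fact.out : p.Prime).one_lt).mp ⟨_, by rw [mul_comm]; exact h2.symm⟩
  have : Nat.card (frattini P) = p ^ (n - r) := by
    refine Nat.eq_of_mul_eq_mul_right (pow_pos (Fact.out : p.Prime).pos r) ?_
    rw [h2, ← pow_add, Nat.sub_add_cancel hle]
  rw [this, ← pow_mul, mul_comm]

end Cfsg.Agent.S4207
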