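import Cfsg.Statements.S4211
import Cfsg.Agent.Lib.FgsC.Hamiltonian
import Mathlib.GroupTheory.SpecificGroups.Quaternion
import Mathlib.GroupTheory.SchurZassenhaus

set_option autoImplicit false
open Cfsg

namespace Cfsg.Agent.S4211

open Subgroup
open scoped commutatorElement
set_option linter.style.haveILetI false

/-- The homomorphism from the quaternion group of order eight. -/
theorem exists_quaternion_hom {G : Type*} [Group G] {x y : G} (hx : orderOf x = 4)
    (hy : y * y = x * x) (hyx : y * x * y⁻¹ = x⁻¹) (hxy : x * y ≠ y * x) :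
    ∃ φ : QuaternionGroup 2 →* G, Function.Injective φ ∧
      φ (QuaternionGroup.a 1) = x ∧ φ (QuaternionGroup.xa 0) = y := by
  have h4 : x ^ 4 = 1 := hx ▸ pow_orderOf_eq_one x
  let P : ZMod (2 * 2) → G := fun i => x ^ i.val
  have hP : ∀ i j, P (i + j) = P i * P j := fun i j => by
    simp only [P]
    rw [← pow_add, ZMod.val_add]
    exact (pow_eq_pow_mod _ h4).symm
  have hP0 : P 0 = 1 := by simp [P]
  have hPn : ∀ i, P (-i) = (P i)⁻¹ := fun i => eq_inv_of_mul_eq_one_left (by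
    rw [← hP, neg_add_cancel, hP0])
  have hswap : ∀ i, y * P i = P (-i) * y := fun i => by
    have h : y * x ^ i.val * y⁻¹ = (x⁻¹) ^ i.val := by rw [← conj_pow, hyx]
    rw [hPn]
    exact mul_inv_eq_iff_eq_mul.mp (by rw [h, inv_pow])
  let f : QuaternionGroup 2 → G := fun q => match q with
    | .a i => P i
    | .xa i => y * P i
  have hf : ∀ q r, f (q * r) = f q * f r := by
    rintro (i | i) (j | j)
    · rw [QuaternionGroup.a_mul_a]
      exact hP i j
    · rw [QuaternionGroup.a_mul_xa]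
      change y * P (j - i) = P i * (y * P j)
      rw [sub_eq_add_neg, add_comm, hP, ← mul_assoc, hswap, neg_neg, mul_assoc]
    · rw [QuaternionGroup.xa_mul_a]
      change y * P (i + j) = y * P i * P j
      rw [hP, mul_assoc]
    · rw [QuaternionGroup.xa_mul_xa]
      change P ((2 : ℕ) + j - i) = y * P i * (y * P j)
      rw [hswap i, sub_eq_add_neg, hP, hP, mul_assoc (P (-i)) y, ← mul_assoc y y, hy]
      have h2 : P ((2 : ℕ) : ZMod (2 * 2)) = x * x := by
        exact (sq x : x ^ 2 = x * x)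
      rw [h2, ← mul_assoc (P (-i))]
      have hc1 : Commute (x * x) (P (-i)) :=
        ((Commute.refl x).mul_left (Commute.refl x)).pow_right _
      have hc2 : Commute (P j) (P (-i)) := by
        show P j * P (-i) = P (-i) * P j
        rw [← hP, ← hP, add_comm]
      rw [mul_assoc (x * x), hc2.eq, ← mul_assoc, hc1.eq]
  refine ⟨MonoidHom.mk' f hf, ?_, ?_, ?_⟩
  · rw [← MonoidHom.ker_eq_bot_iff, eq_bot_iff]
    rintro (i | i) hq
    · change P i = 1 at hq
      have hd := orderOf_dvd_of_pow_eq_one (show x ^ i.val = 1 from hq)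
      rw [hx] at hd
      have hlt := ZMod.val_lt i
      have h0 : i.val = 0 := Nat.eq_zero_of_dvd_of_lt hd hlt
      rw [mem_bot, (ZMod.val_eq_zero i).mp h0]
      rfl
    · exfalso
      change y * P i = 1 at hq
      apply hxy
      rw [eq_inv_of_mul_eq_one_left hq]
      exact ((Commute.refl x).pow_right i.val).inv_right.eq
  · change x ^ (1 : ZMod (2 * 2)).val = x
    rw [show (1 : ZMod (2 * 2)).val = 1 from rfl, pow_one]
  · change y * P 0 = y
    rw [hP0, mul_one]

/-- The quaternion group of order eight has a single involution. -/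
theorem sq_eq_one_cases : ∀ q : QuaternionGroup 2, q * q = 1 → q = 1 ∨ q = QuaternionGroup.a 2 := by
  decide

/-- A finite non-abelian group in which every subgroup is normal is the internal direct product of a subgroup isomorphic to the quaternion group of order `8`, an elementary abelian `2`-subgroup and an abelian subgroup of odd order. -/
theorem result {G : Type*} [Group G] [Finite G] (hna : ¬ IsMulCommutative G) (hn : ∀ H : Subgroup G, H.Normal) : ∃ Q E A : Subgroup G, Nonempty (Q ≃* QuaternionGroup 2) ∧ Cfsg.IsElementaryAbelian 2 E ∧ IsMulCommutative A ∧ Odd (Nat.card A) ∧ E ⊓ A = ⊥ ∧ Q ⊓ (E ⊔ A) = ⊥ ∧ Q ⊔ (E ⊔ A) = ⊤ := by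
  classical
  obtain ⟨x, y, hxy, hx4, hy2, hyx⟩ := CfsgLib.FgsC.Hamiltonian.exists_quaternion_pair hn (by
    by_contra h
    push Not at h
    exact hna ⟨⟨fun a b => h a b⟩⟩)
  obtain ⟨φ, hφ, hφx, hφy⟩ := exists_quaternion_hom hx4 hy2 hyx hxy
  set c := x * x with hc
  set Q := φ.range with hQ
  have hxQ : x ∈ Q := ⟨_, hφx⟩
  have hyQ : y ∈ Q := ⟨_, hφy⟩
  have hx4' : x ^ 4 = 1 := hx4 ▸ pow_orderOf_eq_one x
  have hcQ : ∀ w ∈ Q, w * w = 1 → w = 1 ∨ w = c := by
    rintro w ⟨q, rfl⟩ hq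
    rw [← map_mul, ← map_one φ] at hq
    rcases sq_eq_one_cases q (hφ hq) with rfl | rfl
    · exact Or.inl (map_one φ)
    · refine Or.inr ?_
      rw [show (QuaternionGroup.a 2 : QuaternionGroup 2) = QuaternionGroup.a 1 * QuaternionGroup.a 1 by
        decide, map_mul, hφx]
  have hc2 : c * c = 1 := by
    rw [hc, ← mul_assoc, show x * x * x * x = x ^ 4 by simp [pow_succ, mul_assoc], hx4']
  have hc1 : c ≠ 1 := fun h => by
    have := orderOf_dvd_of_pow_eq_one (show x ^ 2 = 1 by rw [sq]; exact h)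
    rw [hx4] at this
    omega
  have hne : y * x * y⁻¹ ≠ x := fun h => hxy (mul_inv_eq_iff_eq_mul.mp h).symm
  -- conjugation on `x` and on `y` takes at most two values
  have hconj : ∀ (u g : G), orderOf u = 4 → g * u * g⁻¹ = u ∨ g * u * g⁻¹ = u⁻¹ := by
    intro u g hu
    obtain ⟨i, hi⟩ := mem_zpowers_iff.mp ((hn (zpowers u)).conj_mem u (mem_zpowers u) g)
    rw [← zpow_mod_orderOf, hu] at hi
    have ho : orderOf (g * u * g⁻¹) = 4 := by rw [← MulAut.conj_apply, MulEquiv.orderOf_eq, hu]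
    rcases (show i % ((4 : ℕ) : ℤ) = 0 ∨ i % ((4 : ℕ) : ℤ) = 1 ∨ i % ((4 : ℕ) : ℤ) = 2 ∨
        i % ((4 : ℕ) : ℤ) = 3 by omega) with h | h | h | h <;> rw [h] at hi
    · exfalso
      rw [← hi, zpow_zero, orderOf_one] at ho
      omega
    · exact Or.inl (by rw [← hi, zpow_one])
    · exfalso
      have h2 : (g * u * g⁻¹) ^ 2 = 1 := by
        rw [← hi, zpow_two, ← sq, ← pow_mul, show 2 * 2 = orderOf u by rw [hu], pow_orderOf_eq_one]
      have := orderOf_dvd_of_pow_eq_one h2
      rw [ho] at this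
      omega
    · refine Or.inr ?_
      rw [← hi]
      refine eq_inv_of_mul_eq_one_left ?_
      rw [← zpow_add_one, show (3 : ℤ) + 1 = ((4 : ℕ) : ℤ) by norm_num, zpow_natCast, ← hu,
        pow_orderOf_eq_one]
  have hy4 : orderOf y = 4 := by
    rw [← hφy, orderOf_injective φ hφ]
    exact QuaternionGroup.orderOf_xa 0
  set C : Subgroup G := centralizer ({x, y} : Set G) with hC
  have hmemC : ∀ g : G, g ∈ C ↔ x * g = g * x ∧ y * g = g * y := fun g => by
    rw [hC, mem_centralizer_iff]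
    simp
  have hsup : ∀ g : G, ∃ q ∈ Q, ∃ d ∈ C, g = q * d := by
    intro g
    -- first fix `x`, then `y`
    obtain ⟨q₁, hq₁, hg₁⟩ : ∃ q₁ ∈ Q, (q₁ * g) * x * (q₁ * g)⁻¹ = x := by
      rcases hconj x g hx4 with h | h
      · exact ⟨1, one_mem _, by rw [one_mul]; exact h⟩
      · refine ⟨y, hyQ, ?_⟩
        calc y * g * x * (y * g)⁻¹ = y * (g * x * g⁻¹) * y⁻¹ := by group
          _ = (y * x * y⁻¹)⁻¹ := by rw [h]; group
          _ = x := by rw [hyx, inv_inv]
    obtain ⟨q₂, hq₂, hg₂, hg₂'⟩ : ∃ q₂ ∈ Q, (q₂ * (q₁ * g)) * x * (q₂ * (q₁ * g))⁻¹ = x ∧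
        (q₂ * (q₁ * g)) * y * (q₂ * (q₁ * g))⁻¹ = y := by
      rcases hconj y (q₁ * g) hy4 with h | h
      · exact ⟨1, one_mem _, by rw [one_mul]; exact ⟨hg₁, h⟩⟩
      · refine ⟨x, hxQ, ?_, ?_⟩
        · calc x * (q₁ * g) * x * (x * (q₁ * g))⁻¹ = x * ((q₁ * g) * x * (q₁ * g)⁻¹) * x⁻¹ := by group
            _ = x := by rw [hg₁]; group
        · rcases hconj y x hy4 with h' | h'
          · exact absurd (mul_inv_eq_iff_eq_mul.mp h') hxy
          · calc x * (q₁ * g) * y * (x * (q₁ * g))⁻¹ = x * ((q₁ * g) * y * (q₁ * g)⁻¹) * x⁻¹ := by group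
              _ = (x * y * x⁻¹)⁻¹ := by rw [h]; group
              _ = y := by rw [h', inv_inv]
    refine ⟨q₁⁻¹ * q₂⁻¹, mul_mem (inv_mem hq₁) (inv_mem hq₂), q₂ * (q₁ * g), (hmemC _).mpr
      ⟨(mul_inv_eq_iff_eq_mul.mp hg₂).symm, (mul_inv_eq_iff_eq_mul.mp hg₂').symm⟩, by group⟩
  -- no element of order four centralizes the quaternion group
  have h4C : ∀ t ∈ C, t ^ 4 = 1 → t * t = 1 := by
    intro t ht h4
    obtain ⟨htx, hty⟩ := (hmemC t).mp ht
    have hxt : Commute x t := htx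
    have hw : (x * t) ^ 4 = 1 := by rw [hxt.mul_pow, hx4', h4, one_mul]
    have hcw : c ∈ zpowers (x * t) := by
      have h := (CfsgLib.FgsC.Hamiltonian.commutator_mem_zpowers hn (x * t) y).1
      have he : ⁅x * t, y⁆ = c := by
        rw [commutatorElement_def]
        have hconjy : x * y * x⁻¹ = y⁻¹ := (hconj y x hy4).resolve_left fun h' =>
          hxy (mul_inv_eq_iff_eq_mul.mp h')
        calc x * t * y * (x * t)⁻¹ * y⁻¹ = x * (t * y * t⁻¹) * x⁻¹ * y⁻¹ := by group
          _ = x * y * x⁻¹ * y⁻¹ := by rw [← hty, mul_inv_cancel_right]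
          _ = (y * y)⁻¹ := by rw [hconjy]; group
          _ = c := by rw [hy2]; exact inv_eq_of_mul_eq_one_right hc2
      rwa [he] at h
    obtain ⟨i, hi⟩ := mem_zpowers_iff.mp hcw
    have hord : (x * t) ^ (i % 4) = c := by
      rw [← hi]
      conv_rhs => rw [← Int.mul_ediv_add_emod i 4, zpow_add, zpow_mul,
        show (x * t) ^ (4 : ℤ) = 1 from by rw [show (4 : ℤ) = ((4 : ℕ) : ℤ) from rfl, zpow_natCast, hw],
        one_zpow, one_mul]
    have hne_xy : ∀ z : G, Commute y z → x * z ≠ c := fun z hz h => hxy (by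
      have h' : x = c * z⁻¹ := by rw [← h, mul_inv_cancel_right]
      have hcy : Commute y c := by rw [← hy2]; exact (Commute.refl y).mul_right (Commute.refl y)
      exact ((h'.symm ▸ (hcy.mul_right hz.inv_right) : Commute y x)).eq.symm)
    have hsq : (x * t) * (x * t) = c * (t * t) := by
      rw [hc, ← sq, hxt.mul_pow, sq, sq]
    rcases (show i % 4 = 0 ∨ i % 4 = 1 ∨ i % 4 = 2 ∨ i % 4 = 3 by omega) with h | h | h | h <;>
      rw [h] at hord
    · rw [zpow_zero] at hord
      exact absurd hord.symm hc1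
    · rw [zpow_one] at hord
      exact absurd hord (hne_xy t hty)
    · rw [zpow_two, hsq] at hord
      exact mul_eq_left.mp hord
    · exfalso
      rw [show (3 : ℤ) = ((3 : ℕ) : ℤ) from rfl, zpow_natCast, pow_succ, sq, hsq] at hord
      refine hne_xy (t * t * t) ((Commute.mul_right hty hty).mul_right hty) ?_
      have hcx : Commute x c := (Commute.refl x).mul_right (Commute.refl x)
      have h3 : c * (t * t) * (x * t) = c * (x * (t * t * t)) := by
        rw [mul_assoc, ← mul_assoc (t * t) x, ← ((hxt.mul_right hxt)).eq]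
        simp only [mul_assoc]
      rw [h3, mul_eq_left] at hord
      -- then `t ^ 3 = x⁻¹`
      have hyinv : Commute y x⁻¹ := (eq_inv_of_mul_eq_one_right hord) ▸
        ((Commute.mul_right hty hty).mul_right hty)
      exact absurd (Commute.inv_right_iff.mp hyinv).eq.symm hxy
  -- the Sylow 2-subgroup, an odd complement
  haveI : Fact (Nat.Prime 2) := ⟨Nat.prime_two⟩
  obtain ⟨S⟩ : Nonempty (Sylow 2 G) := inferInstance
  haveI hSn := hn (S : Subgroup G)
  obtain ⟨A, hA⟩ := exists_right_complement'_of_coprime (N := (S : Subgroup G)) S.card_coprime_index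
  haveI hAn := hn A
  have hAcard : Nat.card A = (S : Subgroup G).index := hA.symm.index_eq_card.symm
  have hAodd : Odd (Nat.card A) := by
    rw [Nat.odd_iff, ← Nat.two_dvd_ne_zero, hAcard]
    exact S.not_dvd_index
  have hAab : ∀ a ∈ A, ∀ b ∈ A, a * b = b * a := by
    intro a ha b hb
    by_contra hab
    obtain ⟨u, v, -, hu, -, -⟩ := CfsgLib.FgsC.Hamiltonian.exists_quaternion_pair (G := ↥A)
      (fun K => by
        have h := hn (K.map A.subtype)
        rw [← comap_map_eq_self_of_injective A.subtype_injective K]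
        exact h.comap A.subtype)
      ⟨⟨a, ha⟩, ⟨b, hb⟩, fun h => hab (congrArg Subtype.val h)⟩
    have hd := _root_.orderOf_dvd_natCard u
    rw [hu] at hd
    rw [Nat.odd_iff, ← Nat.two_dvd_ne_zero] at hAodd
    exact hAodd ((by norm_num : 2 ∣ 4).trans hd)
  have hQS : Q ≤ (S : Subgroup G) := by
    have hp : IsPGroup 2 Q := IsPGroup.of_card (n := 3) (by
      rw [hQ, ← Nat.card_congr (MonoidHom.ofInjective hφ).toEquiv, Nat.card_eq_fintype_card,
        QuaternionGroup.card]; norm_num)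
    obtain ⟨T, hT⟩ := hp.exists_le_sylow
    obtain ⟨g, rfl⟩ := MulAction.exists_smul_eq G S T
    rwa [Sylow.smul_def, Sylow.pointwise_smul_def, Normal.conj_smul_eq_self] at hT
  set D : Subgroup G := (S : Subgroup G) ⊓ C with hD
  have hDexp : ∀ d ∈ D, d * d = 1 := by
    rintro d ⟨hdS, hdC⟩
    obtain ⟨k, hk⟩ := (IsPGroup.iff_orderOf.mp S.isPGroup') ⟨d, hdS⟩
    rw [orderOf_mk] at hk
    -- reduce the order step by step
    have : ∀ j, ∀ d ∈ C, d ^ 2 ^ j = 1 → d * d = 1 := by
      intro j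
      induction j with
      | zero => intro d _ h; rw [pow_zero, pow_one] at h; rw [h, one_mul]
      | succ j ih =>
        intro d hd h
        have h1 := ih (d * d) (mul_mem hd hd) (by rw [← sq, ← pow_mul, ← pow_succ', h])
        exact h4C d hd (by rw [show (4 : ℕ) = 2 * 2 from rfl, pow_mul, sq, sq, h1])
    exact this k d hdC (hk ▸ pow_orderOf_eq_one d)
  have hcD : c ∈ D := ⟨hQS (mul_mem hxQ hxQ), (hmemC c).mpr ⟨by rw [hc, mul_assoc], by
    rw [← hy2, mul_assoc]⟩⟩
  obtain ⟨E, ⟨hED, hcE⟩, hEmax⟩ := Set.exists_max_image {E : Subgroup G | E ≤ D ∧ c ∉ E}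
    (fun E => Nat.card E) (Set.toFinite _) ⟨⊥, bot_le, fun h => hc1 (mem_bot.mp h)⟩
  have hDE : ∀ d ∈ D, d ∈ E ∨ c * d ∈ E := by
    intro d hd
    by_cases hdE : d ∈ E
    · exact Or.inl hdE
    right
    haveI := hn E
    have hc' : c ∈ E ⊔ zpowers d := by
      by_contra h
      have h1 := hEmax (E ⊔ zpowers d) ⟨sup_le hED (zpowers_le.mpr hd), h⟩
      exact hdE ((eq_of_le_of_card_ge le_sup_left h1).symm.le (mem_sup_right (mem_zpowers d)))
    obtain ⟨e, he, v, hv, hev⟩ := mem_sup_of_normal_left.mp hc'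
    obtain ⟨i, rfl⟩ := mem_zpowers_iff.mp hv
    have hd2 := hDexp d hd
    rcases Int.even_or_odd' i with ⟨w, rfl | rfl⟩
    · rw [zpow_mul, zpow_two, hd2, one_zpow, mul_one] at hev
      exact absurd (hev ▸ he) hcE
    · rw [zpow_add_one, zpow_mul, zpow_two, hd2, one_zpow, one_mul] at hev
      rw [← hev, mul_assoc, hd2, mul_one]
      exact he
  have hEab : ∀ a ∈ E, ∀ b ∈ E, a * b = b * a := by
    intro a ha b hb
    have hi : ∀ e ∈ E, e⁻¹ = e := fun e he => inv_eq_of_mul_eq_one_right (hDexp e (hED he))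
    calc a * b = (a * b)⁻¹ := (hi _ (mul_mem ha hb)).symm
      _ = b * a := by rw [mul_inv_rev, hi a ha, hi b hb]
  have hdisj : ∀ w, w ∈ (S : Subgroup G) → w ∈ A → w = 1 := fun w h1 h2 => by
    have h := hA.disjoint.le_bot ⟨h1, h2⟩
    exact mem_bot.mp h
  refine ⟨Q, E, A, ⟨(MonoidHom.ofInjective hφ).symm⟩, ⟨⟨⟨fun a b => Subtype.ext (hEab a a.2 b b.2)⟩⟩,
    fun a ha => by rw [sq]; exact hDexp a (hED ha)⟩, ⟨⟨fun a b => Subtype.ext (hAab a a.2 b b.2)⟩⟩,
    hAodd, ?_, ?_, ?_⟩
  · rw [eq_bot_iff]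
    exact fun w hw => mem_bot.mpr (hdisj w (hED hw.1).1 hw.2)
  · rw [eq_bot_iff]
    rintro w ⟨hwQ, hwEA⟩
    haveI := hn E
    obtain ⟨e, he, a, ha, rfl⟩ := mem_sup_of_normal_left.mp hwEA
    have ha1 : a = 1 := hdisj a (by
      have h := (S : Subgroup G).mul_mem ((S : Subgroup G).inv_mem (hED he).1) (hQS hwQ)
      rwa [inv_mul_cancel_left] at h) ha
    rw [ha1, mul_one] at hwQ ⊢
    rcases hcQ e hwQ (hDexp e (hED he)) with h | h
    · exact mem_bot.mpr h
    · exact absurd (h ▸ he) hcE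
  · rw [eq_top_iff]
    intro g _
    obtain ⟨s, hs, a, ha, rfl⟩ := mem_sup_of_normal_left.mp (hA.sup_eq_top.ge (mem_top g))
    obtain ⟨q, hq, d, hd, rfl⟩ := hsup s
    have hdD : d ∈ D := ⟨by
      have h := (S : Subgroup G).mul_mem ((S : Subgroup G).inv_mem (hQS hq)) hs
      rwa [inv_mul_cancel_left] at h, hd⟩
    refine mul_mem ?_ (mem_sup_right (mem_sup_right ha))
    refine mul_mem (mem_sup_left hq) ?_
    rcases hDE d hdD with h | h
    · exact mem_sup_right (mem_sup_left h)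
    · have h' : d = c * (c * d) := by rw [← mul_assoc, hc2, one_mul]
      rw [h']
      exact mul_mem (mem_sup_left (mul_mem hxQ hxQ)) (mem_sup_right (mem_sup_left h))

end Cfsg.Agent.S4211
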