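import Cfsg.Statements.S4213
import Cfsg.Agent.Lib.Base.FrobeniusSolutions
import Cfsg.Agent.Lib.Base.MinimalNormal
import Cfsg.Agent.Lib.Coprime.SchurZassenhaus

set_option autoImplicit false
open Cfsg

namespace Cfsg.Agent.S4213

/-- If `G` is a finite solvable group and `n` divides the order of `G` and exactly `n` elements `x` of `G` satisfy `x^n = 1`, then these elements form a normal subgroup. -/
theorem result {G : Type*} [Group G] [Finite G] [Group.IsSolvable G] (n : ℕ) (hn : n ∣ Nat.card G) (hcount : Nat.card {x : G // x ^ n = 1} = n) : ∃ H : Subgroup G, H.Normal ∧ (H : Set G) = {x : G | x ^ n = 1} := by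
  suffices key : ∀ k : ℕ, ∀ (G : Type u_1) [Group G] [Finite G] [Group.IsSolvable G], Nat.card G = k →
      ∀ n : ℕ, n ∣ Nat.card G → Nat.card {x : G // x ^ n = 1} = n →
      ∃ H : Subgroup G, (H : Set G) = {x : G | x ^ n = 1} by
    obtain ⟨H, hH⟩ := key _ G rfl n hn hcount
    refine ⟨H, ⟨fun x hx g => ?_⟩, hH⟩
    have hx' : x ^ n = 1 := by rw [← SetLike.mem_coe, hH] at hx; exact hx
    show g * x * g⁻¹ ∈ (H : Set G)
    rw [hH]
    show (g * x * g⁻¹) ^ n = 1
    rw [conj_pow, hx', mul_one, mul_inv_cancel]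
  intro k
  induction k using Nat.strong_induction_on with
  | _ k ih =>
  intro G _ _ _ hk n hn hcount
  subst hk
  rcases subsingleton_or_nontrivial G with hs | hs
  · refine ⟨⊤, Set.ext fun x => ?_⟩
    simp [Subsingleton.elim x 1]
  obtain ⟨N, hN⟩ := CfsgLib.Base.exists_isMinimalNormal (G := G)
  haveI := hN.normal
  obtain ⟨p, hp, -, hNexp, hNp⟩ := hN.exists_prime inferInstance
  haveI := Fact.mk hp
  obtain ⟨a, ha⟩ := IsPGroup.iff_card.1 hNp
  have hpN : ∀ x ∈ N, x ^ p = 1 := hNexp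
  have ha1 : 1 ≤ a := Nat.one_le_iff_ne_zero.2 fun e => hN.ne_bot (N.eq_bot_of_card_eq (by rw [ha, e, pow_zero]))
  have hlt := CfsgLib.Coprime.card_quotient_lt hN.ne_bot
  have hgN : Nat.card G = p ^ a * Nat.card (G ⧸ N) := by
    rw [← ha, ← Subgroup.index_eq_card, N.card_mul_index]
  have hn0 : n ≠ 0 := by
    rintro rfl
    rw [Nat.card_congr (Equiv.subtypeUnivEquiv fun x : G => pow_zero x)] at hcount
    exact Nat.card_pos.ne' hcount
  set π := QuotientGroup.mk' N with hπ
  have hπs : Function.Surjective π := QuotientGroup.mk'_surjective N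
  -- preimages of solutions in the quotient
  have hpre : ∀ d : ℕ, (∀ x : G, x ^ d ∈ N → x ^ n = 1) →
      p ^ a * Nat.card {y : G ⧸ N // y ^ d = 1} ≤ n ∧
      (p ^ a * Nat.card {y : G ⧸ N // y ^ d = 1} = n →
        ∀ x : G, x ^ n = 1 ↔ (π x) ^ d = 1) := by
    intro d hd
    set S : Set G := {x | x ^ n = 1}
    set T : Set G := {x | (π x) ^ d = 1}
    have hTS : T ⊆ S := fun x hx => hd x (by
      rw [← QuotientGroup.eq_one_iff]
      show π (x ^ d) = 1
      rw [map_pow]; exact hx)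
    have hScard : S.ncard = n := by rw [← Nat.card_coe_set_eq]; exact hcount
    have hTcard : T.ncard = p ^ a * Nat.card {y : G ⧸ N // y ^ d = 1} := by
      rw [← Nat.card_coe_set_eq, ← ha, ← Nat.card_prod]
      refine Nat.card_congr (Equiv.trans ?_ (Equiv.prodComm _ _))
      exact (QuotientGroup.preimageMkEquivSubgroupProdSet N {y : G ⧸ N | y ^ d = 1}).trans
        (Equiv.prodComm _ _)
    refine ⟨by rw [← hTcard, ← hScard]; exact Set.ncard_le_ncard hTS, fun he x => ?_⟩
    have := Set.eq_of_subset_of_ncard_le hTS (by rw [hTcard, he, hScard]) (Set.toFinite S)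
    exact ⟨fun hx => this.ge hx, fun hx => this.le hx⟩
  by_cases hpn : p ∣ n
  · obtain ⟨c, m, hm, hnc⟩ := Nat.exists_eq_pow_mul_and_not_dvd hn0 p hp.ne_one
    have hc1 : 1 ≤ c := Nat.one_le_iff_ne_zero.2 fun e => hm (by rwa [hnc, e, pow_zero, one_mul] at hpn)
    have hmN : m ∣ Nat.card (G ⧸ N) :=
      ((hp.coprime_iff_not_dvd.2 hm).symm.pow_right a).dvd_of_dvd_mul_left
        ((Dvd.intro_left _ hnc.symm).trans (hn.trans hgN.dvd))
    rcases le_or_gt a c with hac | hac
    · set d := p ^ (c - a) * m with hd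
      have hnd : n = d * p ^ a := by
        rw [hd, mul_right_comm, ← pow_add, Nat.sub_add_cancel hac, ← hnc]
      have hdg : d ∣ Nat.card (G ⧸ N) := by
        rw [hnd, mul_comm d, hgN] at hn
        exact Nat.dvd_of_mul_dvd_mul_left (pow_pos hp.pos a) hn
      have hT := hpre d (fun x hx => by
        rw [hnd, pow_mul]
        exact orderOf_dvd_iff_pow_eq_one.1 ((orderOf_dvd_of_pow_eq_one (hpN _ hx)).trans
          (dvd_pow_self p (by omega))))
      have hdv := CfsgLib.Base.Solutions.dvd_card_pow_eq_one hdg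
      haveI : Nonempty {y : G ⧸ N // y ^ d = 1} := ⟨⟨1, one_pow d⟩⟩
      have hge := Nat.le_of_dvd Nat.card_pos hdv
      have heq : Nat.card {y : G ⧸ N // y ^ d = 1} = d := by
        refine le_antisymm ?_ hge
        refine Nat.le_of_mul_le_mul_left ?_ (pow_pos hp.pos a)
        rw [mul_comm _ d, ← hnd]
        exact hT.1
      obtain ⟨H, hH⟩ := ih _ hlt (G ⧸ N) rfl d hdg heq
      refine ⟨H.comap π, Set.ext fun x => ?_⟩
      rw [Set.mem_ofPred_eq, hT.2 (by rw [heq, mul_comm, ← hnd]) x, Subgroup.coe_comap, Set.mem_preimage, hH]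
      rfl
    · exfalso
      obtain ⟨A, M, hM, hA⟩ := Nat.exists_eq_pow_mul_and_not_dvd (Nat.card_pos (α := G ⧸ N)).ne' p hp.ne_one
      set j := min (c - 1) A with hj
      have hcA : c ≤ a + A := by
        have : p ^ c ∣ p ^ (a + A) * M := by
          rw [pow_add, mul_assoc, ← hA, ← hgN]; exact (Dvd.intro _ hnc.symm).trans hn
        exact (Nat.pow_dvd_pow_iff_le_right hp.one_lt).1
          (((hp.coprime_iff_not_dvd.2 hM).pow_left c).dvd_of_dvd_mul_right this)
      have hdg : p ^ j * m ∣ Nat.card (G ⧸ N) :=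
        ((hp.coprime_iff_not_dvd.2 hm).pow_left j).mul_dvd_of_dvd_of_dvd
          ((pow_dvd_pow p (min_le_right _ _)).trans (Dvd.intro _ hA.symm)) hmN
      have hT := (hpre (p ^ j * m) (fun x hx => by
        obtain ⟨e, he⟩ : p ^ j * m * p ∣ n := by
          rw [hnc, mul_right_comm, ← pow_succ]
          exact Nat.mul_dvd_mul_right (pow_dvd_pow p (by omega)) m
        rw [he, pow_mul, pow_mul, hpN _ hx, one_pow])).1
      haveI : Nonempty {y : G ⧸ N // y ^ (p ^ j * m) = 1} := ⟨⟨1, one_pow _⟩⟩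
      have hge := Nat.le_of_dvd Nat.card_pos (CfsgLib.Base.Solutions.dvd_card_pow_eq_one hdg)
      have h1 := (Nat.mul_le_mul_left (p ^ a) hge).trans hT
      rw [hnc, ← mul_assoc, ← pow_add] at h1
      have hm0 : 0 < m := Nat.pos_of_ne_zero fun e => hm (e ▸ dvd_zero p)
      have h2 := (Nat.pow_le_pow_iff_right hp.one_lt).1 (Nat.le_of_mul_le_mul_right h1 hm0)
      omega
  · have hcop : n.Coprime (p ^ a) := (hp.coprime_iff_not_dvd.2 hpn).symm.pow_right a
    have hdg : n ∣ Nat.card (G ⧸ N) := hcop.dvd_of_dvd_mul_left (hgN ▸ hn)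
    obtain ⟨s, hs1, hs0⟩ := Nat.chineseRemainder hcop 1 0
    have hsurj : ∀ y : G ⧸ N, y ^ n = 1 → ∃ x : G, x ^ n = 1 ∧ π x = y := by
      intro y hy
      obtain ⟨x, rfl⟩ := hπs y
      obtain ⟨t, ht⟩ := Nat.modEq_zero_iff_dvd.1 hs0
      refine ⟨x ^ s, ?_, ?_⟩
      · have hxn : x ^ n ∈ N := by
          rw [← QuotientGroup.eq_one_iff]; show π (x ^ n) = 1; rw [map_pow]; exact hy
        rw [← pow_mul, mul_comm, pow_mul, ht, pow_mul, ← ha]
        rw [show (x ^ n) ^ Nat.card N = 1 from orderOf_dvd_iff_pow_eq_one.1 (N.orderOf_dvd_natCard hxn), one_pow]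
      · rw [map_pow]
        conv_rhs => rw [← pow_one (π x)]
        exact pow_eq_pow_iff_modEq.2 (hs1.of_dvd (orderOf_dvd_of_pow_eq_one hy))
    let f : {x : G // x ^ n = 1} → {y : G ⧸ N // y ^ n = 1} := fun x => ⟨π x.1, by rw [← map_pow, x.2, map_one]⟩
    have hf : Function.Surjective f := fun y => by
      obtain ⟨x, hx, hxy⟩ := hsurj y.1 y.2
      exact ⟨⟨x, hx⟩, Subtype.ext hxy⟩
    have hle := Nat.card_le_card_of_surjective f hf
    haveI : Nonempty {y : G ⧸ N // y ^ n = 1} := ⟨⟨1, one_pow n⟩⟩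
    have hge := Nat.le_of_dvd Nat.card_pos (CfsgLib.Base.Solutions.dvd_card_pow_eq_one hdg)
    have heq : Nat.card {y : G ⧸ N // y ^ n = 1} = n := le_antisymm (hle.trans hcount.le) hge
    obtain ⟨H, hH⟩ := ih _ hlt (G ⧸ N) rfl n hdg heq
    set L := H.comap π with hL
    have hLcard : Nat.card L = p ^ a * n := by
      rw [hL, hπ, CfsgLib.Base.card_comap_mk', ha, ← SetLike.coe_sort_coe, hH]
      congr 1
    have hNL : N ≤ L := QuotientGroup.le_comap_mk' N H
    have hNLcard : Nat.card (N.subgroupOf L) = p ^ a := by rw [CfsgLib.Base.card_subgroupOf hNL, ha]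
    have hNidx : (N.subgroupOf L).index = n := by
      have := (N.subgroupOf L).card_mul_index
      rw [hNLcard, hLcard] at this
      exact Nat.eq_of_mul_eq_mul_left (pow_pos hp.pos a) this
    obtain ⟨K, hK⟩ := Subgroup.exists_right_complement'_of_coprime
      (N := N.subgroupOf L) (by rw [hNLcard, hNidx]; exact hcop.symm)
    refine ⟨K.map L.subtype, Set.eq_of_subset_of_ncard_le ?_ ?_ (Set.toFinite _)⟩
    · rintro _ ⟨x, hx, rfl⟩
      show (x : G) ^ n = 1
      have hKc : Nat.card K = n := by rw [← hK.symm.index_eq_card, hNidx]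
      rw [← SubmonoidClass.coe_pow, orderOf_dvd_iff_pow_eq_one.1 (hKc ▸ K.orderOf_dvd_natCard hx)]
      rfl
    · rw [← Nat.card_coe_set_eq, ← Nat.card_coe_set_eq, SetLike.coe_sort_coe,
        CfsgLib.Base.card_map_subtype, ← hK.symm.index_eq_card, hNidx]
      exact hcount.le

end Cfsg.Agent.S4213
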