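import Cfsg.Statements.S4217
import Cfsg.Agent.Lib.FgsC.Gaschutz

set_option autoImplicit false
open Cfsg

namespace Cfsg.Agent.S4217

/-- Let `A` be an abelian normal subgroup of the finite group `G`. Then `A` has a complement in `G` if and only if, for every prime `p` dividing the index of `A`, there are a Sylow `p`-subgroup `S` of `G/A` and a subgroup `K` of `G` with `K ∩ A = 1` and `KA` equal to the preimage of `S` (that is, `A` has a complement in the preimage of a Sylow `p`-subgroup of `G/A`). -/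
theorem result {G : Type*} [Group G] [Finite G] (A : Subgroup G) [A.Normal] (hA : IsMulCommutative A) : (∃ K : Subgroup G, K.IsComplement' A) ↔ ∀ p : ℕ, p.Prime → p ∣ A.index → ∃ (S : Sylow p (G ⧸ A)) (K : Subgroup G), K ⊓ A = ⊥ ∧ K ⊔ A = (S : Subgroup (G ⧸ A)).comap (QuotientGroup.mk' A) := by
  classical
  have := hA
  constructor
  · rintro ⟨K, hK⟩ p hp -
    have := Fact.mk hp
    obtain ⟨S⟩ := Sylow.nonempty (p := p) (G := G ⧸ A)
    refine ⟨S, K ⊓ (S : Subgroup (G ⧸ A)).comap (QuotientGroup.mk' A),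
      le_bot_iff.mp ((inf_le_inf_right A inf_le_left).trans (disjoint_iff.mp hK.disjoint).le), ?_⟩
    have hAU : A ≤ (S : Subgroup (G ⧸ A)).comap (QuotientGroup.mk' A) := fun a ha => by
      rw [Subgroup.mem_comap, QuotientGroup.mk'_apply, (QuotientGroup.eq_one_iff a).mpr ha]
      exact one_mem _
    refine le_antisymm (sup_le inf_le_right hAU) fun x hx => ?_
    have hx' : x ∈ K ⊔ A := hK.sup_eq_top ▸ Subgroup.mem_top x
    obtain ⟨k, hk, a, ha, rfl⟩ := Subgroup.mem_sup_of_normal_right.mp hx'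
    refine Subgroup.mul_mem_sup ⟨hk, ?_⟩ ha
    have := Subgroup.mul_mem _ hx (Subgroup.inv_mem _ (hAU ha))
    rw [mul_inv_cancel_right] at this
    exact this
  · intro h
    refine CfsgLib.FgsC.isComplement_of_hasCrossedPow_one (CfsgLib.FgsC.hasCrossedPow_gcd A fun p hp _ => ?_)
    by_cases hd : p ∣ A.index
    · obtain ⟨S, K, hKA, hsup⟩ := h p hp hd
      refine ⟨((S : Subgroup (G ⧸ A)).comap (QuotientGroup.mk' A)).index, ?_, ?_⟩
      · have := Fact.mk hp
        rw [Subgroup.index_comap_of_surjective _ (QuotientGroup.mk'_surjective A)]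
        exact S.not_dvd_index
      · exact CfsgLib.FgsC.hasCrossedPow_index A _ (hsup ▸ le_sup_right) K (hsup ▸ le_sup_left) hKA
          (by rw [← hsup, sup_comm])
    · exact ⟨A.index, hd, CfsgLib.FgsC.hasCrossedPow_index A A le_rfl ⊥ bot_le (bot_inf_eq _) (sup_bot_eq A)⟩

end Cfsg.Agent.S4217
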