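import Cfsg.Statements.S4218
import Cfsg.Agent.Lib.Coprime.Action2
import Cfsg.Agent.Lib.PLocal.PSolvable
import Cfsg.Agent.Lib.Base.Frattini
import Cfsg.Agent.Lib.PGroups.Basic

set_option autoImplicit false
open Cfsg

namespace Cfsg.Agent.S4218
open scoped commutatorElement

/-- Let `G` be a finite `p`-solvable group, `N₀ = O_{p'}(G)`, `P₁ = O_{p',p}(G)`, and let `F ≤ P₁` be the preimage of the Frattini subgroup of `P₁/N₀`. Then an element `g` of `G` induces the identity on `P₁/F` by conjugation (that is, `g x g⁻¹ x⁻¹ ∈ F` for all `x ∈ P₁`) if and only if `g ∈ P₁`: the group `G/P₁` acts faithfully on `P₁/F`. -/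
theorem result {G : Type*} [Group G] [Finite G] {p : ℕ} [Fact p.Prime] (hG : Cfsg.IsPSolvable p G) (g : G) : (∀ x ∈ Cfsg.pPrimePCore p G, g * x * g⁻¹ * x⁻¹ ∈ ((frattini (↥(Cfsg.pPrimePCore p G) ⧸ (Cfsg.pPrimeCore p G).subgroupOf (Cfsg.pPrimePCore p G))).comap (QuotientGroup.mk' ((Cfsg.pPrimeCore p G).subgroupOf (Cfsg.pPrimePCore p G)))).map (Cfsg.pPrimePCore p G).subtype) ↔ g ∈ Cfsg.pPrimePCore p G := by
  classical
  set N := Cfsg.pPrimeCore p G with hN
  set H := Cfsg.pPrimePCore p G with hH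
  set P := Cfsg.pCore p (G ⧸ N) with hP
  have hHP : ∀ x, x ∈ H ↔ QuotientGroup.mk' N x ∈ P := fun x => Iff.rfl
  let f : H →* P :=
    { toFun := fun x => ⟨QuotientGroup.mk' N x, (hHP x).mp x.2⟩
      map_one' := Subtype.ext (map_one _)
      map_mul' := fun a b => Subtype.ext (map_mul (QuotientGroup.mk' N) (a : G) b) }
  have hf : Function.Surjective f := fun y => by
    obtain ⟨x, hx⟩ := QuotientGroup.mk'_surjective N (y : G ⧸ N)
    exact ⟨⟨x, (hHP x).mpr (hx.symm ▸ y.2)⟩, Subtype.ext hx⟩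
  have hker : f.ker = N.subgroupOf H := Subgroup.ext fun x => by
    rw [MonoidHom.mem_ker, Subgroup.mem_subgroupOf, ← QuotientGroup.eq_one_iff (x : G), Subtype.ext_iff]
    rfl
  let e : H ⧸ N.subgroupOf H ≃* P :=
    (QuotientGroup.quotientMulEquivOfEq hker.symm).trans
      (QuotientGroup.quotientKerEquivOfSurjective f hf)
  have he : ∀ x : H, e (QuotientGroup.mk' _ x) = f x := fun x => rfl
  set Φ' := ((frattini (H ⧸ N.subgroupOf H)).comap (QuotientGroup.mk' (N.subgroupOf H))).map H.subtype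
  set Φ := (frattini P).map P.subtype with hΦ
  have hmem : ∀ w ∈ H, (w ∈ Φ' ↔ QuotientGroup.mk' N w ∈ Φ) := by
    intro w hw
    have hfr : ∀ z, z ∈ frattini (H ⧸ N.subgroupOf H) ↔ e z ∈ frattini P := fun z => by
      rw [← CfsgLib.Base.map_frattini_mulEquiv e]
      exact (Subgroup.mem_map_iff_mem e.injective).symm
    constructor
    · rintro ⟨x, hx, hxw⟩
      refine ⟨f x, (he x) ▸ (hfr _).mp hx, ?_⟩
      show QuotientGroup.mk' N (x : G) = _
      rw [show (x : G) = w from hxw]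
    · rintro ⟨y, hy, hyw⟩
      refine ⟨⟨w, hw⟩, (hfr _).mpr ?_, rfl⟩
      rw [he, show f ⟨w, hw⟩ = y from Subtype.ext hyw.symm]
      exact hy
  haveI hPn : P.Normal := inferInstance
  haveI hΦn : Φ.Normal := CfsgLib.Base.normal_map_subtype _
  let K : Subgroup (G ⧸ N) :=
    { carrier := {a | ∀ y ∈ P, a * y * a⁻¹ * y⁻¹ ∈ Φ}
      mul_mem' := by
        intro a b ha hb y hy
        have h := Φ.mul_mem (hΦn.conj_mem _ (hb y hy) a) (ha y hy)
        rw [show a * b * y * (a * b)⁻¹ * y⁻¹ = a * (b * y * b⁻¹ * y⁻¹) * a⁻¹ * (a * y * a⁻¹ * y⁻¹) by group]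
        exact h
      one_mem' := fun y _ => by simp
      inv_mem' := by
        intro a ha y hy
        have h := hΦn.conj_mem _ (Φ.inv_mem (ha y hy)) a⁻¹
        rw [show a⁻¹ * y * a⁻¹⁻¹ * y⁻¹ = a⁻¹ * (a * y * a⁻¹ * y⁻¹)⁻¹ * a⁻¹⁻¹ by group]
        exact h }
  haveI hKn : K.Normal := ⟨fun a ha b y hy => by
    have h := hΦn.conj_mem _ (ha _ (hPn.conj_mem y hy b⁻¹)) b
    rw [show b * a * b⁻¹ * y * (b * a * b⁻¹)⁻¹ * y⁻¹
      = b * (a * (b⁻¹ * y * b⁻¹⁻¹) * a⁻¹ * (b⁻¹ * y * b⁻¹⁻¹)⁻¹) * b⁻¹ by group]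
    exact h⟩
  have hPp : IsPGroup p P := CfsgLib.Base.isPGroup_pCore p (G ⧸ N)
  have hcomm : ∀ a ∈ P, ∀ y ∈ P, a * y * a⁻¹ * y⁻¹ ∈ Φ := fun a ha y hy =>
    ⟨⁅(⟨a, ha⟩ : P), ⟨y, hy⟩⁆, CfsgLib.PGroups.commutator_le_frattini hPp
      (Subgroup.commutator_mem_commutator (Subgroup.mem_top _) (Subgroup.mem_top _)), rfl⟩
  have hKP : K ≤ P := by
    refine CfsgLib.Base.le_pCore (IsPGroup.iff_orderOf.mpr fun a => ?_)
    set m := orderOf (a : G ⧸ N) with hm
    set c := (a : G ⧸ N) ^ p ^ m.factorization p with hc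
    have hcK : c ∈ K := K.pow_mem a.2 _
    have hco : (orderOf c).Coprime p := by
      rw [hc, orderOf_pow, Nat.gcd_eq_right (Nat.ordProj_dvd _ _)]
      exact (Nat.coprime_ordCompl Fact.out (orderOf_pos (a : G ⧸ N)).ne').symm
    have hcC : Subgroup.zpowers c ≤ Subgroup.centralizer (P : Set (G ⧸ N)) := by
      refine CfsgLib.Coprime.le_centralizer_of_trivial_mod_frattini
        (le_top.trans_eq (Subgroup.normalizer_eq_top P).symm) ?_
        (fun b hb y hy => (Subgroup.zpowers_le.mpr hcK hb) y hy)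
      rw [Nat.card_zpowers]
      obtain ⟨k, hk⟩ := IsPGroup.iff_card.mp (hPp.to_subgroup (frattini P))
      rw [hk]
      exact hco.pow_right k
    have hcP : c ∈ P := CfsgLib.PLocal.centralizer_pCore_le
      (CfsgLib.PLocal.isPSolvable_quotient hG N) (CfsgLib.Base.pPrimeCore_quotient_pPrimeCore p G)
      (hcC (Subgroup.mem_zpowers c))
    obtain ⟨k, hk⟩ := IsPGroup.iff_orderOf.mp hPp ⟨c, hcP⟩
    rw [Subgroup.orderOf_mk] at hk
    have hc1 : c = 1 := orderOf_eq_one_iff.mp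
      (Nat.eq_one_of_dvd_coprimes (hco.pow_right k) dvd_rfl hk.dvd)
    obtain ⟨j, -, hj⟩ := (Nat.dvd_prime_pow Fact.out).mp (orderOf_dvd_of_pow_eq_one hc1)
    exact ⟨j, by rw [← Subgroup.orderOf_coe]; exact hj⟩
  constructor
  · intro h
    refine (hHP g).mpr (hKP fun y hy => ?_)
    obtain ⟨x, rfl⟩ := QuotientGroup.mk'_surjective N y
    have hxH : x ∈ H := (hHP x).mpr hy
    have hw : g * x * g⁻¹ * x⁻¹ ∈ H := Subgroup.map_subtype_le _ (h x hxH)
    simpa only [map_mul, map_inv] using (hmem _ hw).mp (h x hxH)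
  · intro hg x hx
    have hw : g * x * g⁻¹ * x⁻¹ ∈ H := H.mul_mem (H.mul_mem (H.mul_mem hg hx) (H.inv_mem hg)) (H.inv_mem hx)
    rw [hmem _ hw]
    simpa only [map_mul, map_inv] using hcomm _ ((hHP g).mp hg) _ ((hHP x).mp hx)

end Cfsg.Agent.S4218
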