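import Cfsg.Statements.S4219
import Mathlib

set_option autoImplicit false
open Cfsg

namespace Cfsg.Agent.S4219

/-- Let a finite group `G` act `t`-fold transitively on a finite set, let `H` be the stabilizer of `t` distinct points and `P` a Sylow `p`-subgroup of `H`. Then the normalizer of `P` in `G` is `t`-fold transitive on the fixed points of `P`: any `t` distinct fixed points of `P` can be carried to any other `t` distinct fixed points of `P` by an element normalizing `P`. -/
theorem result {G : Type*} [Group G] [Finite G] {α : Type*} [Fintype α] [MulAction G α] {t : ℕ} (hG : MulAction.IsMultiplyPretransitive G α t) (x : Fin t ↪ α) {p : ℕ} [Fact p.Prime] (P : Sylow p (MulAction.stabilizer G x)) (a b : Fin t ↪ α) (ha : ∀ i, a i ∈ MulAction.fixedPoints ((P : Subgroup (MulAction.stabilizer G x)).map (MulAction.stabilizer G x).subtype) α) (hb : ∀ i, b i ∈ MulAction.fixedPoints ((P : Subgroup (MulAction.stabilizer G x)).map (MulAction.stabilizer G x).subtype) α) : ∃ g ∈ Subgroup.normalizer ((((P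 : Subgroup (MulAction.stabilizer G x)).map (MulAction.stabilizer G x).subtype) : Subgroup G) : Set G), g • a = b := by
  classical
  have htr : MulAction.IsPretransitive G (Fin t ↪ α) := hG
  set Pm : Subgroup G := (P : Subgroup (MulAction.stabilizer G x)).map (MulAction.stabilizer G x).subtype with hPm
  have hfix : ∀ c : Fin t ↪ α, (∀ i, c i ∈ MulAction.fixedPoints Pm α) → ∀ q ∈ Pm, q • c = c := fun c hc q hq =>
    Function.Embedding.ext fun i => hc i ⟨q, hq⟩
  obtain ⟨k, hk⟩ := htr.exists_smul_eq x a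
  obtain ⟨l, hl⟩ := htr.exists_smul_eq x b
  have hP : Nat.card Pm = p ^ (Nat.card (MulAction.stabilizer G x)).factorization p := by
    rw [hPm, ← Nat.card_congr ((P : Subgroup (MulAction.stabilizer G x)).equivMapOfInjective _
      (MulAction.stabilizer G x).subtype_injective).toEquiv, P.card_eq_multiplicity]
  -- a conjugate of `P` inside the stabilizer of `x`, as a Sylow subgroup
  have mkQ : ∀ (k : G) (c : Fin t ↪ α), k • x = c → (∀ q ∈ Pm, q • c = c) →
      ∃ Q : Sylow p (MulAction.stabilizer G x),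
        ∀ y : MulAction.stabilizer G x, y ∈ (Q : Subgroup _) ↔ k * (y : G) * k⁻¹ ∈ Pm := by
    intro k c hc hfc
    let Q0 : Subgroup G := Pm.map (MulAut.conj k⁻¹).toMonoidHom
    have hle : Q0 ≤ MulAction.stabilizer G x := by
      rintro _ ⟨q, hq, rfl⟩
      show (k⁻¹ * q * k⁻¹⁻¹) • x = x
      rw [inv_inv, mul_smul, mul_smul, hc, hfc q hq, ← hc, inv_smul_smul]
    refine ⟨Sylow.ofCard (Q0.subgroupOf _) ?_, fun y => ?_⟩
    · rw [Nat.card_congr (Subgroup.subgroupOfEquivOfLe hle).toEquiv, ← hP]
      exact (Nat.card_congr (Pm.equivMapOfInjective _ (MulAut.conj k⁻¹).injective).toEquiv).symm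
    · show (y : G) ∈ Q0 ↔ _
      constructor
      · rintro ⟨q, hq, he⟩
        rw [← he]
        simpa [mul_assoc] using hq
      · intro h
        exact ⟨_, h, by simp [mul_assoc]⟩
  obtain ⟨Q1, hQ1⟩ := mkQ k a hk (hfix a ha)
  obtain ⟨Q2, hQ2⟩ := mkQ l b hl (hfix b hb)
  obtain ⟨c, hc⟩ := MulAction.exists_smul_eq (MulAction.stabilizer G x) Q1 Q2
  refine ⟨l * c * k⁻¹, ?_, ?_⟩
  · refine Subgroup.mem_normalizer_fintype fun q hq => ?_
    have hq' : k⁻¹ * q * k ∈ MulAction.stabilizer G x := by
      rw [MulAction.mem_stabilizer_iff, mul_smul, mul_smul, hk, hfix a ha q hq, ← hk, inv_smul_smul]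
    have h1 : (⟨_, hq'⟩ : MulAction.stabilizer G x) ∈ (Q1 : Subgroup _) := (hQ1 _).mpr (by simpa [mul_assoc] using hq)
    have h2 : c * ⟨_, hq'⟩ * c⁻¹ ∈ (Q2 : Subgroup _) := by
      rw [← hc, Sylow.coe_subgroup_smul]
      exact Subgroup.smul_mem_pointwise_smul _ (MulAut.conj c) _ h1
    simpa [mul_assoc] using (hQ2 _).mp h2
  · rw [mul_smul, mul_smul, ← hk, inv_smul_smul, show (c : G) • x = x from c.2, hl]

end Cfsg.Agent.S4219
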