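import Cfsg.Statements.S4227
import Cfsg.Agent.Lib.Base.MinimalNormal
import Cfsg.Agent.Lib.Base.Cores
import Cfsg.Agent.Lib.FT.PLengthClosure
import Cfsg.Agent.Lib.PLocal.PLength
import Cfsg.Agent.Lib.PLocal.PSolvable
import Cfsg.Agent.Lib.Chars.Burnside
import Cfsg.Agent.Lib.PGroups.Basic
import Cfsg.Agent.Lib.Coprime.Action2

set_option autoImplicit false
open Cfsg

namespace Cfsg.Agent.S4227

open CfsgLib.Base Cfsg

/-- A four group permuted cyclically by a map of norm zero acts trivially. -/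
theorem four_group {W : Type*} [CommGroup W] (h2 : ∀ w : W, w * w = 1 → w = 1) (A B X : W →* W)
    (hA : ∀ w, A (A w) = w) (hB : ∀ w, B (B w) = w) (hAB : ∀ w, A (B w) = B (A w))
    (hXA : ∀ w, X (A w) = B (X w)) (hXB : ∀ w, X (B w) = A (B (X w)))
    (hN : ∀ w, w * X w * X (X w) = 1) : ∀ w, A w = w := by
  have hXAB : ∀ w, X (A (B w)) = A (X w) := fun w => by
    rw [hXA, hXB, ← hAB, hB]
  -- a vector inverted by `A` and fixed by `B` is trivial
  have key : ∀ v, A v = v⁻¹ → B v = v → v = 1 := by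
    intro v hva hvb
    have hbX : B (X v) = (X v)⁻¹ := by rw [← hXA, hva, map_inv]
    have haX : A (X v) = (X v)⁻¹ := by rw [← hXAB, hvb, hva, map_inv]
    have haXX : A (X (X v)) = X (X v) := by rw [← hXAB, hbX, map_inv, haX, inv_inv]
    have h1 : v⁻¹ * (X v)⁻¹ * X (X v) = 1 := by
      have := congrArg A (hN v)
      rwa [map_mul, map_mul, map_one, hva, haX, haXX] at this
    have h3 : X (X v) = v * X v := by
      rw [← mul_inv, inv_mul_eq_one] at h1
      exact h1.symm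
    have h4 : v * X v = 1 := h2 _ (by simpa [h3] using hN v)
    have h5 : X v = v⁻¹ := eq_inv_of_mul_eq_one_right h4
    rw [h5, map_inv, hvb, inv_inv] at hbX
    exact h2 v (by nth_rewrite 1 [← hbX]; rw [inv_mul_cancel])
  intro u
  set w := u⁻¹ * A u with hw
  have haw : A w = w⁻¹ := by
    rw [hw, map_mul, map_inv, hA, mul_inv_rev, inv_inv, mul_comm]
  have hbaw : A (B w) = (B w)⁻¹ := by rw [hAB, haw, map_inv]
  have hv1 : w * B w = 1 := key _ (by rw [map_mul, haw, hbaw, ← mul_inv])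
    (by rw [map_mul, hB, mul_comm])
  have hbw : B w = w⁻¹ := eq_inv_of_mul_eq_one_right hv1
  -- the square of `X` moves the signs `(-,-,+)` of `w` to `(-,+,-)`
  have hbX : B (X w) = (X w)⁻¹ := by rw [← hXA, haw, map_inv]
  have haX : A (X w) = X w := by rw [← hXAB, hbw, map_inv, haw, inv_inv]
  have hXX : X (X w) = 1 := key _
    (by rw [← hXAB, hbX, map_inv, haX, map_inv])
    (by rw [← hXA, haX])
  have hXw : X w = w⁻¹ := eq_inv_of_mul_eq_one_right (by simpa [hXX] using hN w)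
  have hw1 : w = 1 := h2 w (by
    have := haX
    rw [hXw, map_inv, haw, inv_inv] at this
    nth_rewrite 1 [this]
    rw [inv_mul_cancel])
  rw [hw, inv_mul_eq_one] at hw1
  exact hw1.symm


theorem pow_eq_one_of_coprime {H : Type*} [Group H] {y : H} (hy : y ^ 6 = 1) (p q : ℕ)
    (hpq : p * q = 6) (hc : (orderOf y).Coprime q) : y ^ p = 1 :=
  orderOf_dvd_iff_pow_eq_one.1 (hc.dvd_of_dvd_mul_right (hpq ▸ orderOf_dvd_of_pow_eq_one hy))

theorem orderOf_coprime {H : Type*} [Group H] [Finite H] {P : Subgroup H} {r q : ℕ}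
    (hr : r.Prime) (hq : q.Prime) (hrq : r ≠ q) (hP : IsPGroup r P) {y : H} (hy : y ∈ P) :
    (orderOf y).Coprime q := by
  haveI := Fact.mk hr
  obtain ⟨m, hm⟩ := IsPGroup.iff_card.1 hP
  exact (((Nat.coprime_primes hr hq).2 hrq).pow_left m).coprime_dvd_left
    (hm ▸ Subgroup.orderOf_dvd_natCard P hy)

theorem not_dvd_index_pCore {G : Type*} [Group G] [Finite G] (h : ∀ x : G, x ^ 6 = 1)
    [Group.IsSolvable G] (hp : pPrimeCore 3 G = ⊥) : ¬ 3 ∣ (pCore 3 G).index := by
  haveI : Fact (Nat.Prime 3) := ⟨Nat.prime_three⟩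
  haveI : Fact (Nat.Prime 2) := ⟨Nat.prime_two⟩
  set U := pCore 3 G with hU
  have hU3 : IsPGroup 3 U := isPGroup_pCore 3 G
  intro h3
  rw [Subgroup.index_eq_card] at h3
  haveI : Group.IsSolvable (G ⧸ U) := inferInstance
  have hq6 : ∀ y : G ⧸ U, y ^ 6 = 1 := by
    intro y
    obtain ⟨g, rfl⟩ := QuotientGroup.mk'_surjective U y
    rw [← map_pow, h, map_one]
  have h32 : pPrimeCore 2 (G ⧸ U) = ⊥ := by
    rw [← le_bot_iff, ← pCore_quotient_pCore 3 G]
    refine le_pCore ?_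
    rintro ⟨y, hy⟩
    refine ⟨1, Subtype.ext ?_⟩
    simpa using pow_eq_one_of_coprime (hq6 y) 3 2 rfl
      ((pPrimeCore_coprime 2 _).coprime_dvd_left (Subgroup.orderOf_dvd_natCard _ hy))
  set E := pCore 2 (G ⧸ U) with hE
  have hE2 : ∀ y ∈ E, y ^ 2 = 1 := fun y hy => pow_eq_one_of_coprime (hq6 y) 2 3 rfl
    (orderOf_coprime Nat.prime_two Nat.prime_three (by norm_num) (isPGroup_pCore 2 _) hy)
  have hEinv : ∀ y ∈ E, y⁻¹ = y := fun y hy =>
    inv_eq_of_mul_eq_one_right (by rw [← pow_two]; exact hE2 y hy)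
  have hEc : ∀ y ∈ E, ∀ z ∈ E, y * z = z * y := fun y hy z hz => by
    have := hEinv _ (E.mul_mem hy hz)
    rwa [mul_inv_rev, hEinv y hy, hEinv z hz, eq_comm] at this
  obtain ⟨x', hx'⟩ := exists_prime_orderOf_dvd_card' 3 h3
  have hx'3 : x' ^ 3 = 1 := by
    have := pow_orderOf_eq_one x'
    rwa [hx'] at this
  have hx'E : x' ∉ E := fun hh => by
    have h2 := orderOf_dvd_of_pow_eq_one (hE2 x' hh)
    rw [hx'] at h2
    exact absurd h2 (by norm_num)
  obtain ⟨e, he, hxe⟩ : ∃ e ∈ E, x' * e * x'⁻¹ ≠ e := by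
    by_contra hno
    push Not at hno
    exact hx'E (centralizer_pCore_le_of_isSolvable h32 (Subgroup.mem_centralizer_iff.mpr
      fun e he => (mul_inv_eq_iff_eq_mul.1 (hno e he)).symm))
  have hEn : ∀ y ∈ E, x' * y * x'⁻¹ ∈ E := fun y hy =>
    (inferInstance : E.Normal).conj_mem y hy x'
  set a' := e * (x' * e * x'⁻¹) with ha'
  set b' := x' * a' * x'⁻¹ with hb'
  have ha'E : a' ∈ E := E.mul_mem he (hEn e he)
  have hb'E : b' ∈ E := hEn a' ha'E
  have ha'1 : a' ≠ 1 := fun hh => hxe (by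
    rw [ha', mul_eq_one_iff_inv_eq, hEinv e he] at hh
    exact hh.symm)
  have hxb : x' * b' * x'⁻¹ = a' * b' := by
    have e1 : x' * b' * x'⁻¹ = x' * (x' * e * x'⁻¹) * x'⁻¹ * (x' ^ 3 * e * (x' ^ 3)⁻¹) := by
      rw [hb', ha']; group
    have e2 : a' * b' = e * (x' * e * x'⁻¹ * (x' * e * x'⁻¹)) *
        (x' * (x' * e * x'⁻¹) * x'⁻¹) := by
      rw [hb', ha']; group
    rw [e1, e2, hx'3, ← pow_two (x' * e * x'⁻¹), hE2 _ (hEn e he)]
    simpa using hEc _ (hEn _ (hEn e he)) e he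
  obtain ⟨a, ha⟩ := QuotientGroup.mk'_surjective U a'
  obtain ⟨x₀, hx₀⟩ := QuotientGroup.mk'_surjective U x'
  set x := x₀ ^ 4 with hxdef
  have hx : QuotientGroup.mk' U x = x' := by
    rw [hxdef, map_pow, hx₀, pow_succ, hx'3, one_mul]
  have hx3 : x ^ 3 = 1 := by
    rw [hxdef, ← pow_mul, show 4 * 3 = 6 * 2 by norm_num, pow_mul, h, one_pow]
  set b := x * a * x⁻¹ with hbdef
  have hb : QuotientGroup.mk' U b = b' := by rw [hbdef, map_mul, map_mul, map_inv, ha, hx]
  clear_value b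
  -- the action on the Frattini quotient
  set Φ := frattini U with hΦ
  have hcm : ∀ u v : U ⧸ Φ, u * v = v * u := by
    intro u v
    obtain ⟨u, rfl⟩ := QuotientGroup.mk'_surjective Φ u
    obtain ⟨v, rfl⟩ := QuotientGroup.mk'_surjective Φ v
    rw [← commutatorElement_eq_one_iff_mul_comm, ← map_commutatorElement]
    exact (QuotientGroup.eq_one_iff _).2 (CfsgLib.PGroups.commutator_le_frattini hU3
      (Subgroup.commutator_mem_commutator (Subgroup.mem_top u) (Subgroup.mem_top v)))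
  letI : CommGroup (U ⧸ Φ) := { (inferInstance : Group (U ⧸ Φ)) with mul_comm := hcm }
  let φ : G → (U ⧸ Φ →* U ⧸ Φ) := fun g => QuotientGroup.map Φ Φ (MulAut.conjNormal g).toMonoidHom
    (Subgroup.map_le_iff_le_comap.1 (Subgroup.characteristic_iff_map_le.1 inferInstance _))
  have hφmk : ∀ g (u : U), φ g (QuotientGroup.mk u) = QuotientGroup.mk (MulAut.conjNormal g u) :=
    fun g u => rfl
  have hφmul : ∀ g k w, φ (g * k) w = φ g (φ k w) := by
    intro g k w
    obtain ⟨u, rfl⟩ := QuotientGroup.mk_surjective w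
    rw [hφmk, hφmk, hφmk, map_mul, MulAut.mul_apply]
  have hφU : ∀ g ∈ U, ∀ w, φ g w = w := by
    intro g hg w
    obtain ⟨u, rfl⟩ := QuotientGroup.mk_surjective w
    rw [hφmk, show MulAut.conjNormal g u = ⟨g, hg⟩ * u * (⟨g, hg⟩ : U)⁻¹ from Subtype.ext (by
      simp [MulAut.conjNormal_apply]), QuotientGroup.mk_mul, QuotientGroup.mk_mul,
      mul_comm (QuotientGroup.mk _ : U ⧸ Φ), QuotientGroup.mk_inv, mul_inv_cancel_right]
  have hφeq : ∀ g k, QuotientGroup.mk' U g = QuotientGroup.mk' U k → ∀ w, φ g w = φ k w := by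
    intro g k hgk w
    have hm : k⁻¹ * g ∈ U := QuotientGroup.eq.1 hgk.symm
    calc φ g w = φ (k * (k⁻¹ * g)) w := by rw [mul_inv_cancel_left]
      _ = φ k w := by rw [hφmul, hφU _ hm]
  have h2 : ∀ w : U ⧸ Φ, w * w = 1 → w = 1 := by
    intro w hw
    obtain ⟨k, hk⟩ := (hU3.to_quotient Φ) w
    have hd : orderOf w ∣ 3 ^ k := orderOf_dvd_of_pow_eq_one hk
    have hd2 : orderOf w ∣ 2 := orderOf_dvd_of_pow_eq_one (by rw [pow_two]; exact hw)
    exact orderOf_eq_one_iff.1 (Nat.eq_one_of_dvd_coprimes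
      (Nat.Coprime.pow_left k (by norm_num)) hd hd2)
  have hsq : ∀ g, (QuotientGroup.mk' U g) ^ 2 = 1 → ∀ w, φ g (φ g w) = w := by
    intro g hg w
    rw [← hφmul, hφeq (g * g) 1 (by rw [map_mul, map_one, ← pow_two]; exact hg)]
    exact hφU 1 U.one_mem w
  have hN : ∀ w, w * φ x w * φ x (φ x w) = 1 := by
    intro w
    obtain ⟨u, rfl⟩ := QuotientGroup.mk_surjective w
    rw [← hφmul, hφmk, hφmk, ← QuotientGroup.mk_mul, ← QuotientGroup.mk_mul]
    set m := u * MulAut.conjNormal x u * MulAut.conjNormal (x * x) u with hm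
    have hcoe : (m : G) = (u.1 * x) ^ 3 := by
      simp only [hm, Subgroup.coe_mul, MulAut.conjNormal_apply]
      calc u.1 * (x * u.1 * x⁻¹) * (x * x * u.1 * (x * x)⁻¹)
          = u.1 * x * u.1 * x * u.1 * x * (x ^ 3)⁻¹ := by group
        _ = (u.1 * x) ^ 3 := by
          rw [hx3, inv_one, mul_one, pow_three]
          simp only [mul_assoc]
    have hm1 : (m : G) = 1 := by
      have h6 : (m : G) ^ 2 = 1 := by rw [hcoe, ← pow_mul, h]
      have hc := orderOf_coprime Nat.prime_three Nat.prime_two (by norm_num) hU3 m.2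
      exact orderOf_eq_one_iff.1 (Nat.eq_one_of_dvd_coprimes hc dvd_rfl
        (orderOf_dvd_of_pow_eq_one h6))
    rw [show m = 1 from Subtype.ext hm1, QuotientGroup.mk_one]
  have hA := four_group h2 (φ a) (φ b) (φ x) (hsq a (by rw [ha]; exact hE2 a' ha'E))
    (hsq b (by rw [hb]; exact hE2 b' hb'E))
    (fun w => by
      rw [← hφmul, ← hφmul]
      exact hφeq _ _ (by rw [map_mul, map_mul, ha, hb, hEc a' ha'E b' hb'E]) w)
    (fun w => by
      rw [← hφmul, ← hφmul]
      exact hφeq _ _ (by rw [map_mul, map_mul, ha, hb, hx, hb', inv_mul_cancel_right]) w)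
    (fun w => by
      rw [← hφmul, ← hφmul, ← hφmul]
      refine hφeq _ _ ?_ w
      rw [map_mul, map_mul, map_mul, ha, hb, hx]
      exact mul_inv_eq_iff_eq_mul.1 hxb)
    hN
  -- so an involution outside `U` centralises `U`
  set t := a ^ 3 with ht
  have htU : QuotientGroup.mk' U t = a' := by
    rw [ht, map_pow, ha, pow_succ, hE2 a' ha'E, one_mul]
  have ht2 : t ^ 2 = 1 := by rw [ht, ← pow_mul, h]
  have hcop : (Nat.card (Subgroup.zpowers t)).Coprime (Nat.card Φ) := by
    obtain ⟨m, hm⟩ := IsPGroup.iff_card.1 (hU3.to_subgroup Φ)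
    rw [Nat.card_zpowers, hm]
    exact (Nat.Coprime.pow_right m (by norm_num : Nat.Coprime 2 3)).coprime_dvd_left
      (orderOf_dvd_of_pow_eq_one ht2)
  have hcent := CfsgLib.Coprime.le_centralizer_of_trivial_mod_frattini (A := Subgroup.zpowers t)
    (K := U) (by rw [Subgroup.normalizer_eq_top]; exact le_top) hcop (fun c hc u hu => by
      have hcw : ∀ w, φ c w = w := by
        obtain ⟨k, rfl⟩ := Subgroup.mem_zpowers_iff.1 hc
        have ht1 : ∀ w, φ t w = w := fun w =>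
          (hφeq t a (by rw [htU, ha]) w).trans (hA w)
        rcases Int.even_or_odd k with ⟨l, rfl⟩ | ⟨l, rfl⟩
        · intro w
          rw [← two_mul, zpow_mul, zpow_two, ← pow_two, ht2, one_zpow]
          exact hφU 1 U.one_mem w
        · intro w
          rw [zpow_add_one, zpow_mul, zpow_two, ← pow_two, ht2, one_zpow, one_mul]
          exact ht1 w
      refine ⟨MulAut.conjNormal c ⟨u, hu⟩ * (⟨u, hu⟩ : U)⁻¹, ?_, by
        simp [MulAut.conjNormal_apply]⟩
      exact (QuotientGroup.eq_one_iff _).1 (by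
        rw [QuotientGroup.mk_mul, ← hφmk, hcw, QuotientGroup.mk_inv, mul_inv_cancel]))
  have htmem : t ∈ U := centralizer_pCore_le_of_isSolvable hp
    (hcent (Subgroup.mem_zpowers t))
  exact ha'1 (htU ▸ (QuotientGroup.eq_one_iff t).2 htmem)

/-- A finite group in which every element has order dividing `6` has `2`-length at most `1` and `3`-length at most `1`. -/
theorem result {G : Type*} [Group G] [Finite G] (h : ∀ x : G, x ^ 6 = 1) : Cfsg.PLengthLE 2 1 G ∧ Cfsg.PLengthLE 3 1 G := by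
  haveI : Fact (Nat.Prime 3) := ⟨Nat.prime_three⟩
  haveI : Fact (Nat.Prime 2) := ⟨Nat.prime_two⟩
  haveI hsol : Group.IsSolvable G := by
    refine CfsgLib.Chars.isSolvable_of_primeFactors_pair 2 3 fun r hr hd => ?_
    haveI := Fact.mk hr
    obtain ⟨y, hy⟩ := exists_prime_orderOf_dvd_card' r hd
    have h6 : r ∣ 2 * 3 := hy ▸ orderOf_dvd_of_pow_eq_one (h y)
    rcases (Nat.Prime.dvd_mul hr).1 h6 with h' | h'
    · exact Or.inl ((Nat.prime_dvd_prime_iff_eq hr Nat.prime_two).1 h')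
    · exact Or.inr ((Nat.prime_dvd_prime_iff_eq hr Nat.prime_three).1 h')
  constructor
  · obtain ⟨S⟩ : Nonempty (Sylow 2 G) := inferInstance
    refine CfsgLib.PLocal.pLengthLE_of_nilpotencyClass_le 1
      CfsgLib.PLocal.isPSolvable_of_isSolvable S ?_
    haveI : IsMulCommutative ↥(S : Subgroup G) := ⟨⟨fun u v => by
      have hsq : ∀ w : ↥(S : Subgroup G), w * w = 1 := fun w => by
        obtain ⟨k, hk⟩ := S.2 w
        have h1 : orderOf w ∣ 2 ^ k := orderOf_dvd_of_pow_eq_one hk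
        have h2 : orderOf w ∣ 2 * 3 := orderOf_dvd_of_pow_eq_one (Subtype.ext (by simpa using h w.1))
        have h3 : orderOf w ∣ 2 := ((Nat.Coprime.pow_left k (by norm_num : Nat.Coprime 2 3)
          ).coprime_dvd_left h1).dvd_of_dvd_mul_right h2
        rw [← pow_two]
        exact orderOf_dvd_iff_pow_eq_one.1 h3
      have hinv : ∀ w : ↥(S : Subgroup G), w⁻¹ = w := fun w =>
        inv_eq_of_mul_eq_one_right (hsq w)
      have := hinv (u * v)
      rwa [mul_inv_rev, hinv u, hinv v, eq_comm] at this⟩⟩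
    haveI : Group.IsNilpotent ↥(S : Subgroup G) := S.2.isNilpotent
    exact @CommGroup.nilpotencyClass_le_one _
      { (inferInstance : Group ↥(S : Subgroup G)) with mul_comm := mul_comm' }
  · rw [CfsgLib.FT.pLengthLE_one_iff, Cfsg.pPrimePCore,
      Subgroup.index_comap_of_surjective _ (QuotientGroup.mk'_surjective _)]
    refine (Nat.Coprime.symm ((Nat.Prime.coprime_iff_not_dvd Nat.prime_three).2 ?_))
    haveI : Group.IsSolvable (G ⧸ Cfsg.pPrimeCore 3 G) := inferInstance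
    refine not_dvd_index_pCore ?_ (CfsgLib.Base.pPrimeCore_quotient_pPrimeCore 3 G)
    intro y
    obtain ⟨g, rfl⟩ := QuotientGroup.mk'_surjective _ y
    rw [← map_pow, h, map_one]

end Cfsg.Agent.S4227
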