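import Cfsg.Statements.S4230
import Mathlib

set_option autoImplicit false
open Cfsg

namespace Cfsg.Agent.S4230

/-- Let p be an odd prime, q a natural number not divisible by p, and e the multiplicative order of q modulo p. For a natural number f, p divides the value at q of the f-th cyclotomic polynomial if and only if f = e·p^j for some j ≥ 0. -/
theorem result (p q f : ℕ) (hp : p.Prime) (hp2 : p ≠ 2) (hpq : ¬ p ∣ q) :
    ((p : ℤ) ∣ (Polynomial.cyclotomic f ℤ).eval (q : ℤ)) ↔ ∃ j : ℕ, f = orderOf (q : ZMod p) * p ^ j := by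
  classical
  have := Fact.mk hp
  have hq0 : (q : ZMod p) ≠ 0 := by rwa [ne_eq, ZMod.natCast_eq_zero_iff]
  set u : (ZMod p)ˣ := Units.mk0 _ hq0 with hu
  have he : orderOf (q : ZMod p) = orderOf u := by rw [← orderOf_units, hu, Units.val_mk0]
  have hed : orderOf (q : ZMod p) ∣ p - 1 := by
    rw [he, ← ZMod.card_units p]; exact orderOf_dvd_card
  have he0 : 0 < orderOf (q : ZMod p) := he ▸ orderOf_pos u
  have hpe : ¬ p ∣ orderOf (q : ZMod p) := fun h => by
    have := Nat.le_of_dvd he0 h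
    have := Nat.le_of_dvd (by have := hp.two_le; omega) hed
    omega
  have key : ((p : ℤ) ∣ (Polynomial.cyclotomic f ℤ).eval (q : ℤ)) ↔
      (Polynomial.cyclotomic f (ZMod p)).IsRoot (q : ZMod p) := by
    have e : (Polynomial.cyclotomic f (ZMod p)).eval (q : ZMod p) = (((Polynomial.cyclotomic f ℤ).eval (q : ℤ) : ℤ) : ZMod p) := by
      rw [← Polynomial.map_cyclotomic f (Int.castRingHom (ZMod p)), ← map_natCast (Int.castRingHom (ZMod p)) q,
        Polynomial.eval_map_apply, eq_intCast]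
    rw [← ZMod.intCast_zmod_eq_zero_iff_dvd, Polynomial.IsRoot.def, e]
  rw [key]
  constructor
  · intro h
    rcases eq_or_ne f 0 with rfl | hf
    · simp at h
    obtain ⟨k, m, hm, rfl⟩ := Nat.exists_eq_pow_mul_and_not_dvd hf p hp.ne_one
    have : NeZero (m : ZMod p) := ⟨by rwa [ne_eq, ZMod.natCast_eq_zero_iff]⟩
    rw [Polynomial.isRoot_cyclotomic_prime_pow_mul_iff_of_charP] at h
    exact ⟨k, by rw [← h.eq_orderOf, mul_comm]⟩
  · rintro ⟨j, rfl⟩
    have : NeZero (orderOf (q : ZMod p) : ZMod p) := ⟨by rwa [ne_eq, ZMod.natCast_eq_zero_iff]⟩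
    rw [mul_comm, Polynomial.isRoot_cyclotomic_prime_pow_mul_iff_of_charP]
    exact IsPrimitiveRoot.orderOf _

end Cfsg.Agent.S4230
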