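import Cfsg.Statements.S4231
import Cfsg.Agent.Lib.FgsC.AltOddAut

set_option autoImplicit false
open Cfsg

namespace Cfsg.Agent.S4231

open Equiv CfsgLib.FgsC.AltOddAut in
/-- A nonabelian Sylow `p`-subgroup, `p` odd, of a group of automorphisms of `A_n` needs `p ^ 2 ≤ n`. -/
theorem sq_le_of_not_comm {n : ℕ} (hn : 5 ≤ n) {G : Subgroup (MulAut (alternatingGroup (Fin n)))}
    {p : ℕ} [hp : Fact p.Prime] (hp2 : p ≠ 2) (P : Sylow p G)
    (hP : ¬ IsMulCommutative (P : Subgroup G)) : p ^ 2 ≤ n := by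
  classical
  have h5 : 5 ≤ Fintype.card (Fin n) := by simpa using hn
  set ι := (MulAut.conjNormal : Perm (Fin n) →* MulAut (alternatingGroup (Fin n))) with hι
  have hinj : Function.Injective ι := CfsgLib.KnownA.conjNormal_injective (by omega)
  set P' := (P : Subgroup G).map G.subtype with hP'
  have hP'p : IsPGroup p P' := P.isPGroup'.map _
  have hS : IsPGroup p (P'.comap ι) := hP'p.comap_of_injective ι hinj
  have hnc : ¬ IsMulCommutative (P'.comap ι) := by
    intro hc
    refine hP ⟨⟨fun a b => ?_⟩⟩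
    have key : ∀ c : (P : Subgroup G), ∃ σ : Perm (Fin n), σ ∈ P'.comap ι ∧ ι σ = ((c : G) : MulAut _) := by
      intro c
      obtain ⟨k, hk⟩ := P.isPGroup' c
      have hk' : ((c : G) : MulAut (alternatingGroup (Fin n))) ^ p ^ k = 1 := by
        rw [← SubgroupClass.coe_pow, ← SubgroupClass.coe_pow, hk]
        rfl
      obtain ⟨σ, hσ⟩ := exists_conj_of_threeCycles h5 _ fun g hg =>
        isThreeCycle_of_odd h5 _ ((hp.out.odd_of_ne_two hp2).pow) hk' hg
      exact ⟨σ, by rw [Subgroup.mem_comap, hι, hσ]; exact ⟨c, c.2, rfl⟩, hσ⟩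
    obtain ⟨σ, hσ, hσe⟩ := key a
    obtain ⟨τ, hτ, hτe⟩ := key b
    have h := congrArg (fun z : P'.comap ι => ι (z : Perm (Fin n)))
      (hc.is_comm.comm ⟨σ, hσ⟩ ⟨τ, hτ⟩)
    simp only [Subgroup.coe_mul, map_mul, hσe, hτe] at h
    exact Subtype.ext (Subtype.ext h)
  simpa using sq_le_card_of_not_comm hS hnc

open Equiv in
/-- An element of `G` whose order is the lcm of a cycle type of even permutations. -/
theorem exists_orderOf_lcm {n : ℕ} (hn : 5 ≤ n) {G : Subgroup (MulAut (alternatingGroup (Fin n)))}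
    (hG : (MulAut.conj : alternatingGroup (Fin n) →* MulAut (alternatingGroup (Fin n))).range ≤ G)
    (m : Multiset ℕ) (hs : m.sum ≤ n) (h2 : ∀ a ∈ m, 2 ≤ a) (he : Even (m.sum + m.card)) :
    ∃ g : G, orderOf g = m.lcm := by
  classical
  obtain ⟨σ, hσ⟩ := Perm.exists_with_cycleType_iff (α := Fin n) |>.2 ⟨by simpa using hs, h2⟩
  have hA : σ ∈ alternatingGroup (Fin n) := by
    rw [Perm.mem_alternatingGroup, Perm.sign_of_cycleType, hσ, he.neg_one_pow]
  refine ⟨⟨MulAut.conj (⟨σ, hA⟩ : alternatingGroup (Fin n)), hG ⟨_, rfl⟩⟩, ?_⟩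
  have hinj : Function.Injective
      (MulAut.conj : alternatingGroup (Fin n) →* MulAut (alternatingGroup (Fin n))) := by
    intro a b h
    refine Subtype.ext (CfsgLib.KnownA.conjNormal_injective (Ω := Fin n) (by simpa using (by omega : 4 ≤ n))
      (MulEquiv.ext fun g => Subtype.ext ?_))
    have := congrArg Subtype.val (DFunLike.congr_fun h g)
    simpa [MulAut.conjNormal_apply] using this
  rw [Subgroup.orderOf_mk, orderOf_injective _ hinj, Subgroup.orderOf_mk, ← Perm.lcm_cycleType, hσ]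

theorem pair_false {n : ℕ} (hn : 5 ≤ n) {G : Subgroup (MulAut (alternatingGroup (Fin n)))}
    (hG : (MulAut.conj : alternatingGroup (Fin n) →* MulAut (alternatingGroup (Fin n))).range ≤ G)
    {p q : ℕ} (hp : p.Prime) (hq : q.Prime) (hpq : p ≠ q) (hp2 : p ≠ 2) (hpn : p ^ 2 ≤ n)
    (hqn : q ≠ 2 → q ^ 2 ≤ n) (h : ∀ g : G, orderOf g ≠ p * q) : False := by
  have hpodd := hp.odd_of_ne_two hp2
  have h3 : 3 ≤ p := by have := hp.two_le; omega
  by_cases hq2 : q = 2
  · subst hq2
    obtain ⟨g, hg⟩ := exists_orderOf_lcm hn hG {p, 2, 2} (by simp; nlinarith)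
      (by simp; omega) (by simp [Nat.even_add, hpodd, parity_simps])
    refine h g ?_
    rw [hg]
    simpa [Multiset.lcm_cons, lcm_eq_nat_lcm] using
      ((Nat.coprime_primes hp Nat.prime_two).2 hp2).lcm_eq_mul
  · have hqodd := hq.odd_of_ne_two hq2
    have h3q : 3 ≤ q := by have := hq.two_le; omega
    obtain ⟨g, hg⟩ := exists_orderOf_lcm hn hG {p, q} (by
        simp
        rcases le_total p q with hle | hle
        · nlinarith [hqn hq2]
        · nlinarith)
      (by simp; omega) (by simpa using ((hpodd.add_odd hqodd).add even_two))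
    refine h g ?_
    rw [hg]
    simpa [Multiset.lcm_cons, lcm_eq_nat_lcm] using ((Nat.coprime_primes hp hq).2 hpq).lcm_eq_mul

/-- Let n ≥ 5 and let G be a group of automorphisms of the alternating group of degree n containing all inner automorphisms. If p ≠ q are primes and G has no element of order pq, then every Sylow p-subgroup of G is abelian or every Sylow q-subgroup of G is abelian. -/
theorem result (n : ℕ) (hn : 5 ≤ n) (G : Subgroup (MulAut (alternatingGroup (Fin n))))
    (hG : (MulAut.conj : alternatingGroup (Fin n) →* MulAut (alternatingGroup (Fin n))).range ≤ G)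
    (p q : ℕ) [Fact p.Prime] [Fact q.Prime] (hpq : p ≠ q) (h : ∀ g : G, orderOf g ≠ p * q) :
    (∀ P : Sylow p G, IsMulCommutative (P : Subgroup G)) ∨ (∀ Q : Sylow q G, IsMulCommutative (Q : Subgroup G)) := by
  rcases em (∀ P : Sylow p G, IsMulCommutative (P : Subgroup G)) with hP | hP
  · exact Or.inl hP
  rcases em (∀ Q : Sylow q G, IsMulCommutative (Q : Subgroup G)) with hQ | hQ
  · exact Or.inr hQ
  exfalso
  push Not at hP hQ
  obtain ⟨P, hP⟩ := hP
  obtain ⟨Q, hQ⟩ := hQ
  have hp := (Fact.out : p.Prime)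
  have hq := (Fact.out : q.Prime)
  by_cases hp2 : p = 2
  · have hq2 : q ≠ 2 := fun e => hpq (hp2.trans e.symm)
    exact pair_false hn hG hq hp hpq.symm hq2 (sq_le_of_not_comm hn hq2 Q hQ)
      (fun e => absurd hp2 e) (fun g => by rw [mul_comm]; exact h g)
  · exact pair_false hn hG hp hq hpq hp2 (sq_le_of_not_comm hn hp2 P hP)
      (fun e => sq_le_of_not_comm hn e Q hQ) h

end Cfsg.Agent.S4231
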