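import Cfsg.Statements.S4237
import Mathlib
import Cfsg.Agent.S4157
import Cfsg.Agent.Lib.FgsB.WielandtCount

set_option autoImplicit false
open Cfsg

namespace Cfsg.Agent.S4237

open Subgroup MulAction
open scoped Pointwise

variable {G : Type*} [Group G] [Finite G] {p : ℕ} [hp : Fact p.Prime]

theorem map_conj_eq (g : G) (H : Subgroup G) :
    H.map (MulAut.conj g).toMonoidHom = MulAut.conj g • H := rfl

/-- the subgroups of order `p ^ a` below `J` -/
theorem card_below (J : Subgroup G) (a : ℕ) :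
    Nat.card {K : Subgroup G // K ≤ J ∧ Nat.card K = p ^ a} =
      Nat.card {K : Subgroup J // Nat.card K = p ^ a} :=
  (CfsgLib.FgsB.Kulakov.cnt_below J a).symm

omit [Finite G] in
/-- conjugation of subgroups -/
theorem smul_le_iff' (g : G) (H K : Subgroup G) :
    MulAut.conj g • H ≤ MulAut.conj g • K ↔ H ≤ K :=
  Subgroup.pointwise_smul_le_pointwise_smul_iff

/-- For a maximal subgroup `M` of a Sylow subgroup, the subgroups of order `p ^ a` that are
normalized by `M` and lie outside the Sylow subgroup are a multiple of `p ^ 2`. -/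
theorem sq_dvd_card_normalized (P : Sylow p G) (M : Subgroup G) (hMP : M ≤ (P : Subgroup G))
    (m a : ℕ) (hP : Nat.card (P : Subgroup G) = p ^ (m + 1)) (hM : Nat.card M = p ^ m) (ha : a ≤ m) :
    p ^ 2 ∣ Nat.card {H : Subgroup G //
      Nat.card H = p ^ a ∧ ¬ H ≤ (P : Subgroup G) ∧ M ≤ normalizer (H : Set G)} := by
  classical
  set X := {Q : Sylow p G // M ≤ (Q : Subgroup G)} with hX
  have hQc : ∀ Q : Sylow p G, Nat.card (Q : Subgroup G) = p ^ (m + 1) := fun Q => by
    rw [← hP, Q.card_eq_multiplicity, P.card_eq_multiplicity]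
  let W : Sylow p G → Type _ := fun Q => {H : Subgroup G //
      Nat.card H = p ^ a ∧ H ≤ (Q : Subgroup G) ∧ ¬ H ≤ M ∧ M ≤ normalizer (H : Set G)}
  -- maximality of M in each Q
  have hbetween : ∀ Q : Sylow p G, M ≤ (Q : Subgroup G) → ∀ K : Subgroup G, M ≤ K →
      K ≤ (Q : Subgroup G) → K = M ∨ K = (Q : Subgroup G) := by
    intro Q hMQ K hMK hKQ
    obtain ⟨k, hk⟩ := IsPGroup.iff_card.mp (Q.2.to_le hKQ)
    have h1 := Subgroup.card_dvd_of_le hMK
    have h2 := Subgroup.card_dvd_of_le hKQ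
    rw [hM, hk, Nat.pow_dvd_pow_iff_le_right hp.out.one_lt] at h1
    rw [hQc, hk, Nat.pow_dvd_pow_iff_le_right hp.out.one_lt] at h2
    rcases (by omega : k = m ∨ k = m + 1) with rfl | rfl
    · exact Or.inl (eq_of_le_of_card_ge hMK (by rw [hM, hk])).symm
    · exact Or.inr (eq_of_le_of_card_ge hKQ (by rw [hQc, hk]))
  -- all members are conjugate under the normalizer of M
  have hnorm : ∀ Q : Sylow p G, M ≤ (Q : Subgroup G) → (Q : Subgroup G) ≤ normalizer (M : Set G) := by
    intro Q hMQ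
    have hQp : IsPGroup p (Q : Subgroup G) := Q.2
    have hidx : (M.subgroupOf (Q : Subgroup G)).index = p := by
      have h := (M.subgroupOf (Q : Subgroup G)).card_mul_index
      rw [Nat.card_congr (subgroupOfEquivOfLe hMQ).toEquiv, hM, hQc, pow_succ] at h
      exact Nat.eq_of_mul_eq_mul_left (pow_pos hp.out.pos m) h
    haveI : (M.subgroupOf (Q : Subgroup G)).Normal := CfsgLib.PLocal.normal_of_index_prime hQp hidx
    exact Subgroup.le_normalizer_of_normal_subgroupOf hMQ
  -- the count in each member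
  have hW : ∀ Q : Sylow p G, M ≤ (Q : Subgroup G) → p ∣ Nat.card (W Q) := by
    intro Q hMQ
    let A := {H : Subgroup G // (H ≤ (Q : Subgroup G) ∧ Nat.card H = p ^ a) ∧ ¬ H ≤ M}
    have hA : p ∣ Nat.card A := by
      have h1 : Nat.card {H : Subgroup G // H ≤ (Q : Subgroup G) ∧ Nat.card H = p ^ a} ≡ 1 [MOD p] := by
        rw [card_below]
        exact CfsgLib.FgsB.count_subgroups_modEq_one p a hp.out
          (by rw [hQc]; exact pow_dvd_pow p (by omega))
      have h2 : Nat.card {H : Subgroup G // H ≤ M ∧ Nat.card H = p ^ a} ≡ 1 [MOD p] := by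
        rw [card_below]
        exact CfsgLib.FgsB.count_subgroups_modEq_one p a hp.out (by rw [hM]; exact pow_dvd_pow p ha)
      have hsplit : Nat.card {H : Subgroup G // H ≤ (Q : Subgroup G) ∧ Nat.card H = p ^ a} =
          Nat.card {H : Subgroup G // H ≤ M ∧ Nat.card H = p ^ a} + Nat.card A := by
        rw [← Nat.card_sum]
        refine Nat.card_congr ((Equiv.sumCompl (fun H : {H : Subgroup G //
          H ≤ (Q : Subgroup G) ∧ Nat.card H = p ^ a} => H.1 ≤ M)).symm.trans (Equiv.sumCongr ?_ ?_))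
        · exact ⟨fun H => ⟨H.1.1, H.2, H.1.2.2⟩, fun H => ⟨⟨H.1, H.2.1.trans hMQ, H.2.2⟩, H.2.1⟩,
            fun H => rfl, fun H => rfl⟩
        · exact ⟨fun H => ⟨H.1.1, H.1.2, H.2⟩, fun H => ⟨⟨H.1, H.2.1⟩, H.2.2⟩,
            fun H => rfl, fun H => rfl⟩
      rw [hsplit] at h1
      have h3 : 1 + Nat.card A ≡ 1 + 0 [MOD p] := (Nat.ModEq.add_right _ h2).symm.trans h1
      exact Nat.modEq_zero_iff_dvd.mp (Nat.ModEq.add_left_cancel' 1 h3)
    have hsm : ∀ (g : M) (H : A), (MulAut.conj (g : G) • H.1 ≤ (Q : Subgroup G) ∧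
        Nat.card ↥(MulAut.conj (g : G) • H.1) = p ^ a) ∧ ¬ MulAut.conj (g : G) • H.1 ≤ M := by
      intro g H
      have hQfix : MulAut.conj (g : G) • (Q : Subgroup G) = (Q : Subgroup G) := by
        rw [← map_conj_eq]
        exact mem_normalizer_iff_map_conj_eq.mp (le_normalizer (hMQ g.2))
      have hMfix : MulAut.conj (g : G) • M = M := by
        rw [← map_conj_eq]
        exact mem_normalizer_iff_map_conj_eq.mp (le_normalizer g.2)
      refine ⟨⟨?_, ?_⟩, ?_⟩
      · exact le_of_le_of_eq ((smul_le_iff' _ _ _).mpr H.2.1.1) hQfix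
      · rw [← map_conj_eq, card_map_of_injective (MulAut.conj (g : G)).injective]; exact H.2.1.2
      · exact fun h => H.2.2 ((smul_le_iff' (g : G) _ _).mp (h.trans hMfix.ge))
    let act : MulAction M A :=
      { smul := fun g H => ⟨MulAut.conj (g : G) • H.1, hsm g H⟩
        one_smul := fun H => Subtype.ext (show MulAut.conj ((1 : M) : G) • H.1 = H.1 by simp)
        mul_smul := fun g h H => Subtype.ext (show MulAut.conj ((g * h : M) : G) • H.1 =
          MulAut.conj (g : G) • MulAut.conj (h : G) • H.1 by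
            rw [Subgroup.coe_mul, map_mul, mul_smul]) }
    have hMp : IsPGroup p M := IsPGroup.of_card hM
    have h := hMp.card_modEq_card_fixedPoints A
    have e : Nat.card (MulAction.fixedPoints M A) = Nat.card (W Q) := by
      refine Nat.card_congr ⟨fun H => ⟨H.1.1, H.1.2.1.2, H.1.2.1.1, H.1.2.2, fun g hg => ?_⟩,
        fun H => ⟨⟨H.1, ⟨H.2.2.1, H.2.1⟩, H.2.2.2.1⟩, fun g => Subtype.ext ?_⟩,
        fun H => rfl, fun H => rfl⟩
      · rw [mem_normalizer_iff_map_conj_eq]
        exact congrArg Subtype.val (H.2 ⟨g, hg⟩)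
      · show MulAut.conj (g : G) • H.1 = H.1
        rw [← map_conj_eq]
        exact mem_normalizer_iff_map_conj_eq.mp (H.2.2.2.2 g.2)
    rw [e] at h
    exact Nat.modEq_zero_iff_dvd.mp (h.symm.trans (Nat.modEq_zero_iff_dvd.mpr hA))
  -- equal sizes
  have hWeq : ∀ Q : X, Nat.card (W Q.1) = Nat.card (W P) := by
    rintro ⟨Q, hMQ⟩
    set N := normalizer (M : Set G) with hN
    obtain ⟨g, hg⟩ := MulAction.exists_smul_eq N (P.subtype (hnorm P hMP)) (Q.subtype (hnorm Q hMQ))
    rw [Sylow.smul_subtype] at hg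
    have hg' : (g : G) • P = Q := Sylow.subtype_injective hg
    have hPQ : MulAut.conj (g : G) • (P : Subgroup G) = (Q : Subgroup G) := by
      rw [← hg']; rfl
    have hMfix : MulAut.conj (g : G) • M = M := by
      rw [← map_conj_eq]; exact mem_normalizer_iff_map_conj_eq.mp g.2
    have key : ∀ H : Subgroup G, (Nat.card H = p ^ a ∧ H ≤ (P : Subgroup G) ∧ ¬ H ≤ M ∧
        M ≤ normalizer (H : Set G)) ↔ (Nat.card ↥(MulAut.conj (g : G) • H) = p ^ a ∧
        MulAut.conj (g : G) • H ≤ (Q : Subgroup G) ∧ ¬ MulAut.conj (g : G) • H ≤ M ∧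
        M ≤ normalizer ((MulAut.conj (g : G) • H : Subgroup G) : Set G)) := by
      intro H
      have e1 : Nat.card ↥(MulAut.conj (g : G) • H) = Nat.card H := by
        rw [← map_conj_eq, card_map_of_injective (MulAut.conj (g : G)).injective]
      have e2 : MulAut.conj (g : G) • H ≤ (Q : Subgroup G) ↔ H ≤ (P : Subgroup G) := by
        rw [← hPQ, smul_le_iff']
      have e3 : MulAut.conj (g : G) • H ≤ M ↔ H ≤ M := by
        conv_lhs => rw [← hMfix]
        rw [smul_le_iff']
      have e4 : M ≤ normalizer ((MulAut.conj (g : G) • H : Subgroup G) : Set G) ↔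
          M ≤ normalizer (H : Set G) := by
        conv_lhs => rw [← hMfix, ← map_conj_eq, ← map_conj_eq,
          ← Subgroup.map_equiv_normalizer_eq H (MulAut.conj (g : G))]
        exact Subgroup.map_le_map_iff_of_injective (MulAut.conj (g : G)).injective
      rw [e1, e2, e3, e4]
    exact (Nat.card_congr (Equiv.subtypeEquiv (MulAction.toPerm (MulAut.conj (g : G))) key)).symm
  -- the number of Sylow subgroups above M
  have hX1 : Nat.card X ≡ 1 [MOD p] := by
    set N := normalizer (M : Set G) with hN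
    have e : Nat.card X = Nat.card (Sylow p N) := by
      refine Nat.card_eq_of_bijective (fun Q : X => Q.1.subtype (hnorm Q.1 Q.2)) ⟨?_, ?_⟩
      · intro Q R h
        exact Subtype.ext (Sylow.subtype_injective h)
      · intro R
        obtain ⟨Q, hQ⟩ := R.exists_comap_subtype_eq
        have hMR : M.subgroupOf N ≤ (R : Subgroup N) := by
          haveI : (Subgroup.comap N.subtype M).Normal := Subgroup.normal_in_normalizer
          exact ((IsPGroup.of_card hM).comap_subtype).le_sylow_of_normal R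
        have hMQ : M ≤ (Q : Subgroup G) := by
          intro x hx
          have h1 : (⟨x, le_normalizer hx⟩ : N) ∈ (R : Subgroup N) := hMR (mem_subgroupOf.mpr hx)
          rw [← hQ] at h1
          exact h1
        exact ⟨⟨Q, hMQ⟩, Sylow.ext hQ⟩
    rw [e]
    exact card_sylow_modEq_one p N
  -- assemble
  let X' := {Q : Sylow p G // M ≤ (Q : Subgroup G) ∧ Q ≠ P}
  have hX' : p ∣ Nat.card X' := by
    have : Nat.card X = 1 + Nat.card X' := by
      rw [← Nat.card_congr (Equiv.sumCompl (fun Q : X => Q.1 = P)), Nat.card_sum]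
      congr 1
      · rw [Nat.card_eq_one_iff_unique]
        exact ⟨⟨fun Q R => Subtype.ext (Subtype.ext (Q.2.trans R.2.symm))⟩, ⟨⟨⟨P, hMP⟩, rfl⟩⟩⟩
      · exact Nat.card_congr ⟨fun Q => ⟨Q.1.1, Q.1.2, Q.2⟩, fun Q => ⟨⟨Q.1, Q.2.1⟩, Q.2.2⟩,
          fun Q => rfl, fun Q => rfl⟩
    rw [this] at hX1
    exact Nat.modEq_zero_iff_dvd.mp (Nat.ModEq.add_left_cancel' 1 (hX1 : 1 + Nat.card X' ≡ 1 + 0 [MOD p]))
  have hbij : Nat.card (Σ Q : X', W Q.1) = Nat.card {H : Subgroup G //
      Nat.card H = p ^ a ∧ ¬ H ≤ (P : Subgroup G) ∧ M ≤ normalizer (H : Set G)} := by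
    refine Nat.card_eq_of_bijective (fun t => ⟨t.2.1, t.2.2.1, fun h => ?_, t.2.2.2.2.2⟩) ⟨?_, ?_⟩
    · obtain ⟨⟨Q, hMQ, hQP⟩, H, hHc, hHQ, hHM, hn⟩ := t
      rcases hbetween Q hMQ ((P : Subgroup G) ⊓ (Q : Subgroup G)) (le_inf hMP hMQ) inf_le_right with e | e
      · exact hHM (e ▸ le_inf h hHQ)
      · exact hQP (Sylow.ext (eq_of_le_of_card_ge (inf_eq_right.mp e) (by rw [hP, hQc])))
    · rintro ⟨⟨Q, hMQ, hQP⟩, H, hHc, hHQ, hHM, hn⟩ ⟨⟨R, hMR, hRP⟩, K, hKc, hKR, hKM, hn'⟩ h
      obtain rfl : H = K := congrArg Subtype.val h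
      have hQR : Q = R := by
        have eQ : M ⊔ H = (Q : Subgroup G) :=
          (hbetween Q hMQ _ le_sup_left (sup_le hMQ hHQ)).resolve_left fun e => hHM (e ▸ le_sup_right)
        have eR : M ⊔ H = (R : Subgroup G) :=
          (hbetween R hMR _ le_sup_left (sup_le hMR hKR)).resolve_left fun e => hHM (e ▸ le_sup_right)
        exact Sylow.ext (eQ.symm.trans eR)
      subst hQR
      rfl
    · rintro ⟨H, hHc, hHP, hn⟩
      have hHM : ¬ H ≤ M := fun h => hHP (h.trans hMP)
      have hMH : IsPGroup p (M ⊔ H : Subgroup G) :=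
        (IsPGroup.of_card hM).to_sup_of_normal_right' (IsPGroup.of_card hHc) hn
      obtain ⟨Q, hQ⟩ := hMH.exists_le_sylow
      exact ⟨⟨⟨Q, le_sup_left.trans hQ, fun e => hHP (e ▸ le_sup_right.trans hQ)⟩,
        ⟨H, hHc, le_sup_right.trans hQ, hHM, hn⟩⟩, rfl⟩
  haveI : Fintype X' := Fintype.ofFinite X'
  rw [← hbij, Nat.card_sigma]
  rw [Finset.sum_const_nat (m := Nat.card (W P)) (fun Q _ => hWeq ⟨Q.1, Q.2.1⟩), Finset.card_univ,
    ← Nat.card_eq_fintype_card, pow_two]
  exact Nat.mul_dvd_mul hX' (hW P hMP)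

/-- The count is the count inside a Sylow subgroup, modulo `p ^ 2`. -/
theorem count_modEq_sylow (P : Sylow p G) (m a : ℕ) (hP : Nat.card (P : Subgroup G) = p ^ (m + 1))
    (ha : a ≤ m) :
    Nat.card {H : Subgroup G // Nat.card H = p ^ a} ≡
      Nat.card {H : Subgroup (P : Subgroup G) // Nat.card H = p ^ a} [MOD p ^ 2] := by
  classical
  rw [← card_below]
  let X := {H : Subgroup G // Nat.card H = p ^ a}
  let Y := {H : X // ¬ H.1 ≤ (P : Subgroup G)}
  have hsplit : Nat.card X =
      Nat.card {H : Subgroup G // H ≤ (P : Subgroup G) ∧ Nat.card H = p ^ a} + Nat.card Y := by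
    rw [← Nat.card_congr (Equiv.sumCompl (fun H : X => H.1 ≤ (P : Subgroup G))), Nat.card_sum]
    congr 1
    exact Nat.card_congr ⟨fun H => ⟨H.1.1, H.2, H.1.2⟩, fun H => ⟨⟨H.1, H.2.2⟩, H.2.1⟩,
      fun H => rfl, fun H => rfl⟩
  suffices h : p ^ 2 ∣ Nat.card Y by
    show Nat.card X ≡ _ [MOD p ^ 2]
    rw [hsplit]
    simpa using Nat.ModEq.add_left
      (Nat.card {H : Subgroup G // H ≤ (P : Subgroup G) ∧ Nat.card H = p ^ a})
      (Nat.modEq_zero_iff_dvd.mpr h)
  set P' := (P : Subgroup G) with hP'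
  have hsm : ∀ (g : P') (H : Y), Nat.card ↥(MulAut.conj (g : G) • H.1.1) = p ^ a ∧
      ¬ MulAut.conj (g : G) • H.1.1 ≤ P' := by
    intro g H
    constructor
    · rw [← map_conj_eq, card_map_of_injective (MulAut.conj (g : G)).injective]; exact H.1.2
    · have hfix : MulAut.conj (g : G) • P' = P' := by
        rw [← map_conj_eq]; exact mem_normalizer_iff_map_conj_eq.mp (le_normalizer g.2)
      exact fun h => H.2 ((smul_le_iff' (g : G) _ _).mp (h.trans hfix.ge))
  let act : MulAction P' Y :=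
    { smul := fun g H => ⟨⟨MulAut.conj (g : G) • H.1.1, (hsm g H).1⟩, (hsm g H).2⟩
      one_smul := fun H => Subtype.ext (Subtype.ext
        (show MulAut.conj ((1 : P') : G) • H.1.1 = H.1.1 by simp))
      mul_smul := fun g h H => Subtype.ext (Subtype.ext (show MulAut.conj ((g * h : P') : G) • H.1.1 =
        MulAut.conj (g : G) • MulAut.conj (h : G) • H.1.1 by rw [Subgroup.coe_mul, map_mul, mul_smul])) }
  have hstab : ∀ H : Y, (stabilizer P' H).map P'.subtype = P' ⊓ normalizer (H.1.1 : Set G) := by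
    intro H
    ext x
    simp only [mem_map, Subgroup.mem_inf, mem_stabilizer_iff]
    constructor
    · rintro ⟨g, hg, rfl⟩
      refine ⟨g.2, ?_⟩
      rw [mem_normalizer_iff_map_conj_eq]
      exact congrArg (fun z : Y => z.1.1) hg
    · rintro ⟨hx, hxn⟩
      refine ⟨⟨x, hx⟩, Subtype.ext (Subtype.ext ?_), rfl⟩
      show MulAut.conj x • H.1.1 = H.1.1
      rw [← map_conj_eq]
      exact mem_normalizer_iff_map_conj_eq.mp hxn
  -- split according to the size of the stabilizer
  let small : Y → Prop := fun H => Nat.card ↥(P' ⊓ normalizer (H.1.1 : Set G)) = p ^ m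
  have hcardstab : ∀ H : Y, ∃ i, i ≤ m ∧ Nat.card ↥(P' ⊓ normalizer (H.1.1 : Set G)) = p ^ i := by
    intro H
    obtain ⟨i, hi, hc⟩ := (Nat.dvd_prime_pow hp.out).mp (hP ▸ card_dvd_of_le (inf_le_left : P' ⊓ normalizer (H.1.1 : Set G) ≤ P'))
    refine ⟨i, ?_, hc⟩
    by_contra hlt
    have he : P' ⊓ normalizer (H.1.1 : Set G) = P' := eq_of_le_of_card_ge inf_le_left
      (by rw [hc, hP]; exact Nat.pow_le_pow_right hp.out.pos (by omega))
    have hsup : IsPGroup p (P' ⊔ H.1.1 : Subgroup G) :=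
      P.2.to_sup_of_normal_right' (IsPGroup.of_card H.1.2) (inf_eq_left.mp he)
    exact H.2 ((le_sup_right : H.1.1 ≤ P' ⊔ H.1.1).trans (P.is_maximal' hsup le_sup_left).le)
  rw [← Nat.card_congr (Equiv.sumCompl small), Nat.card_sum]
  refine dvd_add ?_ ?_
  · let Ms := {M : Subgroup G // M ≤ P' ∧ Nat.card M = p ^ m}
    let T := Σ M : Ms, {H : Subgroup G //
        Nat.card H = p ^ a ∧ ¬ H ≤ P' ∧ M.1 ≤ normalizer (H : Set G)}
    let toY : T → Y := fun t => ⟨⟨t.2.1, t.2.2.1⟩, t.2.2.2.1⟩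
    have heq : ∀ t : T, t.1.1 = P' ⊓ normalizer ((toY t).1.1 : Set G) := by
      intro t
      obtain ⟨i, hi, hc⟩ := hcardstab (toY t)
      exact eq_of_le_of_card_ge (le_inf t.1.2.1 t.2.2.2.2)
        (by rw [hc, t.1.2.2]; exact Nat.pow_le_pow_right hp.out.pos hi)
    have e : Nat.card {H : Y // small H} = Nat.card T := by
      refine (Nat.card_eq_of_bijective (fun t : T => (⟨toY t, ?_⟩ : {H : Y // small H})) ⟨?_, ?_⟩).symm
      · show Nat.card _ = p ^ m
        rw [← heq t]; exact t.1.2.2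
      · intro t u h
        have hY : toY t = toY u := congrArg Subtype.val h
        have hM : t.1 = u.1 := Subtype.ext (by rw [heq t, heq u, hY])
        obtain ⟨M, H, hH⟩ := t
        obtain ⟨N, K, hK⟩ := u
        obtain rfl : M = N := hM
        obtain rfl : H = K := congrArg (fun z : Y => z.1.1) hY
        rfl
      · rintro ⟨⟨⟨H, hHc⟩, hHP⟩, hs⟩
        exact ⟨⟨⟨_, inf_le_left, hs⟩, ⟨H, hHc, hHP, inf_le_right⟩⟩, rfl⟩
    haveI : Fintype Ms := Fintype.ofFinite Ms
    rw [e, Nat.card_sigma]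
    exact Finset.dvd_sum fun M _ => sq_dvd_card_normalized P M.1 M.2.1 m a hP M.2.2 ha
  · have hinv : ∀ (g : P') (H : Y), small (g • H) ↔ small H := by
      intro g H
      have h1 : stabilizer P' (g • H) = (stabilizer P' H).map (MulAut.conj g).toMonoidHom :=
        stabilizer_smul_eq_stabilizer_map_conj g H
      show Nat.card _ = _ ↔ Nat.card _ = _
      rw [← hstab, ← hstab, card_map_of_injective P'.subtype_injective,
        card_map_of_injective P'.subtype_injective, h1,
        card_map_of_injective (MulAut.conj g).injective]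
    let act' : MulAction P' {H : Y // ¬ small H} :=
      { smul := fun g H => ⟨g • H.1, fun h => H.2 ((hinv g H.1).mp h)⟩
        one_smul := fun H => Subtype.ext (one_smul P' H.1)
        mul_smul := fun g h H => Subtype.ext (mul_smul g h H.1) }
    refine CfsgLib.FgsB.dvd_card_of_forall_dvd_orbit (G := P') _ fun H => ?_
    have e : stabilizer P' H = stabilizer P' H.1 := by
      ext g
      exact ⟨fun h => congrArg Subtype.val h, fun h => Subtype.ext h⟩
    rw [Nat.card_coe_set_eq, ← index_stabilizer, e]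
    obtain ⟨i, hi, hc⟩ := hcardstab H.1
    have hilt : i < m := lt_of_le_of_ne hi (fun h => H.2 (by show Nat.card _ = _; rw [hc, h]))
    have h1 := (stabilizer P' H.1).card_mul_index
    rw [hP, ← card_map_of_injective (K := stabilizer P' H.1) P'.subtype_injective, hstab, hc,
      show m + 1 = i + (m - i - 1 + 2) by omega, pow_add p i] at h1
    rw [Nat.eq_of_mul_eq_mul_left (pow_pos hp.out.pos i) h1, pow_add]
    exact dvd_mul_left _ _

omit [Finite G] hp in
theorem result_aux {s : ℕ} (p : ℕ) (h : s ≡ 1 [MOD p]) (hp2 : p = 2) :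
    s ≡ 1 [MOD p ^ 2] ∨ s ≡ 1 + p [MOD p ^ 2] := by
  subst hp2
  unfold Nat.ModEq at *
  omega

/-- Let G be a finite group, p a prime and a a natural number such that p^(a+1) divides the order of G. Then the number of subgroups of G of order p^a is congruent to 1 or to 1 + p modulo p². -/
theorem result {G : Type*} [Group G] [Finite G] (p a : ℕ) (hp : p.Prime) (hdvd : p ^ (a + 1) ∣ Nat.card G) :
    Nat.card {H : Subgroup G // Nat.card H = p ^ a} ≡ 1 [MOD p ^ 2] ∨
      Nat.card {H : Subgroup G // Nat.card H = p ^ a} ≡ 1 + p [MOD p ^ 2] := by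
  classical
  haveI : Fact p.Prime := ⟨hp⟩
  by_cases hp2 : p = 2
  · exact result_aux p (CfsgLib.FgsB.count_subgroups_modEq_one p a hp
      ((pow_dvd_pow p (Nat.le_succ a)).trans hdvd)) hp2
  obtain ⟨P⟩ : Nonempty (Sylow p G) := inferInstance
  obtain ⟨n, hn⟩ := IsPGroup.iff_card.mp P.2
  have han : a + 1 ≤ n := by
    have h := P.pow_dvd_card_of_pow_dvd_card hdvd
    rwa [hn, Nat.pow_dvd_pow_iff_le_right hp.one_lt] at h
  have hred := count_modEq_sylow P (n - 1) a (by rw [hn]; congr 1; omega) (by omega)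
  rcases eq_or_ne a 0 with rfl | ha0
  · left
    have : Nat.card {H : Subgroup G // Nat.card H = p ^ 0} = 1 := by
      rw [Nat.card_eq_one_iff_unique]
      refine ⟨⟨fun H K => Subtype.ext ?_⟩, ⟨⟨⊥, by simp⟩⟩⟩
      have hH := Subgroup.card_eq_one.mp (show Nat.card H.1 = 1 by simpa using H.2)
      have hK := Subgroup.card_eq_one.mp (show Nat.card K.1 = 1 by simpa using K.2)
      rw [hH, hK]
    rw [this]
  by_cases hc : IsCyclic (P : Subgroup G)
  · left
    refine hred.trans ?_
    have h1 : Nat.card {H : Subgroup (P : Subgroup G) // Nat.card H = p ^ a} = 1 :=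
      Cfsg.Agent.S4157.cnt_cyclic (G := (P : Subgroup G)) (k := a)
        (by rw [hn]; exact pow_dvd_pow p (by omega))
    rw [h1]
  · right
    exact hred.trans (Cfsg.Agent.S4157.result n hn hc (fun h => absurd h hp2) a
      (Nat.one_le_iff_ne_zero.mpr ha0) (by omega))

end Cfsg.Agent.S4237
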