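import Cfsg.Statements.S4238
import Cfsg.Agent.Lib.Transfer.Alperin
import Cfsg.Agent.Lib.Base.Cores
import Cfsg.Agent.Lib.Base.MinimalNormal
import Cfsg.Agent.Lib.Coprime.Action2
import Cfsg.Agent.Lib.PGroups.Basic

set_option autoImplicit false
open Cfsg

namespace Cfsg.Agent.S4238

open scoped commutatorElement

/-- Let G be a finite group and p a prime. Then G has a normal p-complement if and only if every section K = H/N of G (N a normal subgroup of a subgroup H) whose largest normal subgroup of order prime to p is trivial contains an element whose order equals the exponent of K. -/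
theorem result {G : Type*} [Group G] [Finite G] (p : ℕ) [Fact p.Prime] :
    Cfsg.HasNormalPComplement p G ↔
      ∀ (H : Subgroup G) (N : Subgroup H) [N.Normal], Cfsg.pPrimeCore p (H ⧸ N) = ⊥ →
        ∃ k : H ⧸ N, orderOf k = Monoid.exponent (H ⧸ N) := by
  classical
  have hp : p.Prime := Fact.out
  constructor
  · intro h H N _ hO
    have hK : Cfsg.HasNormalPComplement p (H ⧸ N) :=
      CfsgLib.Transfer.hasNormalPComplement_quotient (CfsgLib.Transfer.hasNormalPComplement_subgroup h H) N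
    haveI := CfsgLib.Transfer.pResidual_normal (G := H ⧸ N) (p := p)
    have hres : Cfsg.pResidual p (H ⧸ N) = ⊥ := le_bot_iff.mp (hO ▸ CfsgLib.Base.le_pPrimeCore
      ((hp.coprime_iff_not_dvd.mpr (CfsgLib.Transfer.hasNormalPComplement_iff_pResidual.mp hK)).symm))
    have hpg : ∀ k : H ⧸ N, ∃ e, orderOf k = p ^ e := by
      obtain ⟨e, he⟩ := CfsgLib.Transfer.exists_index_pResidual (G := H ⧸ N) (p := p)
      rw [hres, Subgroup.index_bot] at he
      intro k
      obtain ⟨i, -, hi⟩ := (Nat.dvd_prime_pow hp).mp (he ▸ orderOf_dvd_natCard k)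
      exact ⟨i, hi⟩
    obtain ⟨k, hk⟩ := Finite.exists_max (fun k : H ⧸ N => orderOf k)
    refine ⟨k, Nat.dvd_antisymm (Monoid.order_dvd_exponent k) (Monoid.exponent_dvd.mpr fun g => ?_)⟩
    obtain ⟨a, ha⟩ := hpg g
    obtain ⟨b, hb⟩ := hpg k
    have h1 := hk g
    rw [ha, hb] at h1
    rw [ha, hb]
    exact pow_dvd_pow p ((Nat.pow_le_pow_iff_right hp.one_lt).mp h1)
  intro h
  obtain ⟨P⟩ : Nonempty (Sylow p G) := inferInstance
  rw [CfsgLib.Transfer.hasNormalPComplement_iff_forall_centralizing P]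
  intro Q hQ g₀ hg₀ hcop₀
  by_contra hne₀
  obtain ⟨g, ⟨hgN, hgc, hgC⟩, hmin⟩ := Set.exists_min_image
    {g : G | g ∈ Subgroup.normalizer (Q : Set G) ∧ (orderOf g).Coprime p ∧
      g ∉ Subgroup.centralizer (Q : Set G)} orderOf (Set.toFinite _) ⟨g₀, hg₀, hcop₀, hne₀⟩
  set q := (orderOf g).minFac with hqdef
  have hord : orderOf g ≠ 1 := fun e => hgC (by rw [orderOf_eq_one_iff.mp e]; exact one_mem _)
  have hq : q.Prime := Nat.minFac_prime hord
  haveI := Fact.mk hq
  have hqg : q ∣ orderOf g := Nat.minFac_dvd _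
  have hpq : p ≠ q := fun e => hp.ne_one (Nat.eq_one_of_dvd_coprimes hgc (e ▸ hqg) dvd_rfl)
  have hgqC : g ^ q ∈ Subgroup.centralizer (Q : Set G) := by
    by_contra hn
    have h1 := hmin _ ⟨pow_mem hgN q, hgc.coprime_dvd_left (orderOf_pow_dvd q), hn⟩
    rw [orderOf_pow_of_dvd hq.ne_zero hqg] at h1
    exact absurd h1 (not_le.mpr (Nat.div_lt_self (orderOf_pos g) hq.one_lt))
  set T := Subgroup.zpowers g with hT
  have hTQ : T ≤ Subgroup.normalizer (Q : Set G) := Subgroup.zpowers_le.mpr hgN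
  have hQp : IsPGroup p Q := P.isPGroup'.to_le hQ
  obtain ⟨e, he⟩ := IsPGroup.iff_card.mp hQp
  have hTc : (Nat.card T).Coprime (Nat.card Q) := by
    rw [hT, Nat.card_zpowers, he]; exact hgc.pow_right e
  have hTs : Group.IsSolvable T := Group.isSolvable_of_comm fun a b => by
    obtain ⟨a, i, rfl⟩ := a
    obtain ⟨b, j, rfl⟩ := b
    exact Subtype.ext ((Commute.refl g).zpow_zpow i j)
  set U := ⁅Q, T⁆ with hUdef
  have hUQ : U ≤ Q := CfsgLib.Coprime.commutator_le_of_le_normalizer hTQ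
  have hUeq : ⁅U, T⁆ = U := CfsgLib.Coprime.commutator_commutator_eq hTQ hTc (Or.inl hTs)
  have hUne : U ≠ ⊥ := fun e => hgC (Subgroup.mem_centralizer_iff.mpr fun y hy =>
    (Subgroup.mem_centralizer_iff.mp ((Subgroup.commutator_eq_bot_iff_le_centralizer.mp e) hy) g
      (Subgroup.mem_zpowers g)).symm)
  have hTU : T ≤ Subgroup.normalizer (U : Set G) := Subgroup.normalizer_commutator_ge_right Q T
  have hUp : IsPGroup p U := hQp.to_le hUQ
  set Φ := (frattini U).map U.subtype with hΦ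
  set Z := Subgroup.zpowers (g ^ q) with hZ
  have hZU : Z ≤ Subgroup.centralizer (U : Set G) := Subgroup.zpowers_le.mpr
    (Subgroup.centralizer_le (SetLike.coe_subset_coe.mpr hUQ) hgqC)
  have hnΦ : ∀ y ∈ Subgroup.normalizer (U : Set G), y ∈ Subgroup.normalizer (Φ : Set G) :=
    fun y hy => CfsgLib.Base.normalizer_le_normalizer_map_subtype U _ hy
  set H := U ⊔ T with hH
  set M := Φ ⊔ Z with hM
  have hΦU : Φ ≤ U := Subgroup.map_subtype_le _
  have hZT : Z ≤ T := Subgroup.zpowers_le.mpr (pow_mem (Subgroup.mem_zpowers g) q)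
  have hHZ : H ≤ Subgroup.normalizer (Z : Set G) := sup_le
    (fun u hu => Subgroup.centralizer_le_normalizer _ (Subgroup.mem_centralizer_iff.mpr fun z hz =>
      (Subgroup.mem_centralizer_iff.mp (hZU hz) u hu).symm))
    (fun t ht => Subgroup.centralizer_le_normalizer _ (Subgroup.mem_centralizer_iff.mpr fun z hz => by
      obtain ⟨i, rfl⟩ := hZT hz
      obtain ⟨j, rfl⟩ := ht
      exact ((Commute.refl g).zpow_zpow i j)))
  have hHM : H ≤ Subgroup.normalizer (M : Set G) := CfsgLib.Coprime.le_normalizer_sup_sup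
    (sup_le (fun u hu => hnΦ u (Subgroup.le_normalizer hu)) fun t ht => hnΦ t (hTU ht)) hHZ
  set N := M.subgroupOf H with hN
  haveI : N.Normal := Subgroup.normal_subgroupOf_iff (sup_le_sup hΦU hZT) |>.mpr
    fun k y hk hy => (Subgroup.mem_normalizer_iff.mp (hHM hy) k).mp hk
  set π := QuotientGroup.mk' N with hπ
  set V := (U.subgroupOf H).map π with hV
  set A := (T.subgroupOf H).map π with hA
  let g₁ : H := ⟨g, Subgroup.mem_sup_right (Subgroup.mem_zpowers g)⟩
  set t := π g₁ with ht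
  have hA' : A = Subgroup.zpowers t := by
    rw [hA, ht, ← MonoidHom.map_zpowers]
    congr 1
    refine Subgroup.map_injective H.subtype_injective ?_
    rw [Subgroup.map_subgroupOf_eq_of_le le_sup_right, MonoidHom.map_zpowers]
    rfl
  haveI hVn : V.Normal := by
    haveI : (U.subgroupOf H).Normal := Subgroup.normal_subgroupOf_iff le_sup_left |>.mpr
      fun k y hk hy => (Subgroup.mem_normalizer_iff.mp
        ((sup_le Subgroup.le_normalizer hTU) hy) k).mp hk
    exact Subgroup.Normal.map inferInstance _ (QuotientGroup.mk'_surjective N)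
  have hker : ∀ u : H, (u : G) ∈ U → π u = 1 → (u : G) ∈ Φ := by
    intro u hu h1
    have hm : (u : G) ∈ Φ ⊔ Z := Subgroup.mem_subgroupOf.mp ((QuotientGroup.eq_one_iff u).mp h1)
    have hΦZ : Φ ≤ Subgroup.normalizer (Z : Set G) := hΦU.trans (le_sup_left.trans hHZ)
    obtain ⟨a, ha, z, hz, e⟩ := (CfsgLib.Coprime.mem_sup_iff_of_le_normalizer hΦZ).mp hm
    have hzU : z ∈ U := by
      have h2 := U.mul_mem (U.inv_mem (hΦU ha)) hu
      rwa [← e, inv_mul_cancel_left] at h2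
    have hz1 : z = 1 := by
      have h3 : z ∈ T ⊓ Q := ⟨hZT hz, hUQ hzU⟩
      rwa [CfsgLib.Coprime.inf_eq_bot_of_coprime hTc, Subgroup.mem_bot] at h3
    rwa [← e, hz1, mul_one]
  have hVab : ∀ a ∈ V, ∀ b ∈ V, a * b = b * a := by
    rintro _ ⟨a, ha, rfl⟩ _ ⟨b, hb, rfl⟩
    rw [← commutatorElement_eq_one_iff_mul_comm, ← map_commutatorElement, hπ, QuotientGroup.mk'_apply,
      QuotientGroup.eq_one_iff]
    exact Subgroup.mem_sup_left ⟨⁅(⟨a, ha⟩ : U), ⟨b, hb⟩⁆, CfsgLib.PGroups.commutator_le_frattini hUp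
      (Subgroup.commutator_mem_commutator (Subgroup.mem_top _) (Subgroup.mem_top _)), rfl⟩
  haveI : IsMulCommutative V := ⟨⟨fun a b => Subtype.ext (hVab a a.2 b b.2)⟩⟩
  have hVp : ∀ a ∈ V, a ^ p = 1 := by
    rintro _ ⟨a, ha, rfl⟩
    rw [← map_pow, hπ, QuotientGroup.mk'_apply, QuotientGroup.eq_one_iff]
    exact Subgroup.mem_sup_left ⟨(⟨a, ha⟩ : U) ^ p, CfsgLib.PGroups.pow_mem_frattini hUp _, rfl⟩
  have htq : t ^ q = 1 := by
    rw [ht, ← map_pow, hπ, QuotientGroup.mk'_apply, QuotientGroup.eq_one_iff]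
    exact Subgroup.mem_sup_right (Subgroup.mem_zpowers _)
  have hVA : ⁅V, A⁆ = V := by
    rw [hV, hA, ← Subgroup.map_commutator]
    congr 1
    refine Subgroup.map_injective H.subtype_injective ?_
    rw [Subgroup.map_commutator, Subgroup.map_subgroupOf_eq_of_le le_sup_left,
      Subgroup.map_subgroupOf_eq_of_le le_sup_right, hUeq]
  have hVcard : ∃ i, Nat.card V = p ^ i :=
    IsPGroup.iff_card.mp fun v => ⟨1, Subtype.ext (by rw [pow_one]; exact hVp v v.2)⟩
  have hfree : ∀ a ∈ V, Commute a t → a = 1 := by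
    intro a ha hat
    have hAc : (Nat.card A).Coprime (Nat.card V) := by
      obtain ⟨i, hi⟩ := hVcard
      rw [hA', Nat.card_zpowers, hi]
      exact (((Nat.coprime_primes hq hp).mpr (Ne.symm hpq)).coprime_dvd_left
        (orderOf_dvd_of_pow_eq_one htq)).pow_right i
    have h1 := CfsgLib.Coprime.centralizer_inf_commutator_eq_bot
      (le_top.trans_eq (Subgroup.normalizer_eq_top V).symm) hAc
    rw [hVA] at h1
    have h2 : a ∈ V ⊓ Subgroup.centralizer (A : Set (H ⧸ N)) ⊓ V := ⟨⟨ha, by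
      rw [hA', Subgroup.zpowers_eq_closure, Subgroup.centralizer_closure]
      exact Subgroup.mem_centralizer_singleton_iff.mpr hat.eq⟩, ha⟩
    rwa [h1, Subgroup.mem_bot] at h2
  have hVne : V ≠ ⊥ := by
    intro e
    haveI : Nontrivial U := (Subgroup.nontrivial_iff_ne_bot U).mpr hUne
    refine CfsgLib.PGroups.frattini_ne_top (G := U) (eq_top_iff.mpr fun u _ => ?_)
    have h1 : π ⟨u, Subgroup.mem_sup_left u.2⟩ ∈ V :=
      ⟨⟨u, Subgroup.mem_sup_left u.2⟩, Subgroup.mem_subgroupOf.mpr u.2, rfl⟩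
    rw [e, Subgroup.mem_bot] at h1
    obtain ⟨u', hu', he'⟩ := hker _ u.2 h1
    rwa [← Subtype.ext (he' : (u' : G) = u)]
  obtain ⟨v₀, hv₀, hv₀1⟩ := (Subgroup.bot_or_exists_ne_one V).resolve_left hVne
  have hdec : ∀ k : H ⧸ N, ∃ v ∈ V, ∃ i : ℕ, k = v * t ^ i := by
    intro k
    obtain ⟨⟨y, hy⟩, rfl⟩ := QuotientGroup.mk'_surjective N k
    obtain ⟨s, hs, u, hu, e⟩ := (CfsgLib.Coprime.mem_sup_iff_of_le_normalizer hTU).mp
      (show y ∈ T ⊔ U by rw [sup_comm]; exact hy)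
    obtain ⟨i, hi⟩ := mem_powers_iff_mem_zpowers.mpr hs
    dsimp only at hi
    refine ⟨π ⟨s * u * s⁻¹, Subgroup.mem_sup_left ((Subgroup.mem_normalizer_iff.mp (hTU hs) u).mp hu)⟩,
      ⟨_, Subgroup.mem_subgroupOf.mpr ((Subgroup.mem_normalizer_iff.mp (hTU hs) u).mp hu), rfl⟩, i, ?_⟩
    rw [ht, ← map_pow, ← map_mul]
    refine congrArg π (Subtype.ext ?_)
    show y = s * u * s⁻¹ * g ^ i
    rw [hi, inv_mul_cancel_right, e]
  have hmove : ∀ i : ℕ, t ^ i ≠ 1 → ∀ a ∈ V, Commute a (t ^ i) → a = 1 := by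
    intro i hi a ha hc
    obtain ⟨c, hc'⟩ := Nat.exists_mul_mod_eq_one_of_coprime ((hq.coprime_iff_not_dvd (n := i)).mpr fun ⟨d, hd⟩ =>
      hi (by rw [hd, pow_mul, htq, one_pow])).symm hq.one_lt
    refine hfree a ha ?_
    have h1 := hc.pow_right c
    rwa [← pow_mul, pow_eq_pow_mod _ htq, hc'.2, pow_one] at h1
  have ht1 : t ≠ 1 := fun e => hv₀1 (hfree v₀ hv₀ (e ▸ Commute.one_right _))
  have hO : Cfsg.pPrimeCore p (H ⧸ N) = ⊥ := by
    rw [Subgroup.eq_bot_iff_forall]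
    intro l hl
    obtain ⟨i, hi⟩ := hVcard
    have hinf : V ⊓ Cfsg.pPrimeCore p (H ⧸ N) = ⊥ := CfsgLib.Coprime.inf_eq_bot_of_coprime (by
      rw [hi]; exact (CfsgLib.Base.pPrimeCore_coprime p (H ⧸ N)).symm.pow_left i)
    have hc : ∀ a ∈ V, Commute a l := fun a ha => by
      have h1 : a * l * a⁻¹ * l⁻¹ ∈ V ⊓ Cfsg.pPrimeCore p (H ⧸ N) :=
        ⟨by rw [mul_assoc a, mul_assoc a]; exact V.mul_mem ha (hVn.conj_mem _ (V.inv_mem ha) l),
          (Cfsg.pPrimeCore p (H ⧸ N)).mul_mem ((inferInstance : (Cfsg.pPrimeCore p (H ⧸ N)).Normal).conj_mem l hl a) ((Cfsg.pPrimeCore p (H ⧸ N)).inv_mem hl)⟩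
      rw [hinf, Subgroup.mem_bot] at h1
      exact mul_inv_eq_iff_eq_mul.mp (mul_inv_eq_one.mp h1)
    obtain ⟨v, hv, j, rfl⟩ := hdec l
    by_cases hj : t ^ j = 1
    · rw [hj, mul_one] at hl ⊢
      have h1 : v ∈ V ⊓ Cfsg.pPrimeCore p (H ⧸ N) := ⟨hv, hl⟩
      rwa [hinf, Subgroup.mem_bot] at h1
    · refine absurd (hmove j hj v₀ hv₀ ?_) hv₀1
      have h1 := Commute.mul_right (Commute.inv_right (hVab v₀ hv₀ v hv : Commute v₀ v)) (hc v₀ hv₀)
      rwa [inv_mul_cancel_left] at h1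
  obtain ⟨k, hk⟩ := h H N hO
  have hp' : p ∣ orderOf k := by
    rw [hk, ← orderOf_eq_prime (hVp v₀ hv₀) hv₀1]; exact Monoid.order_dvd_exponent v₀
  have hq' : q ∣ orderOf k := by
    rw [hk, ← orderOf_eq_prime htq ht1]; exact Monoid.order_dvd_exponent t
  set a := k ^ (orderOf k / p) with ha
  set b := k ^ (orderOf k / q) with hb
  have hap : orderOf a = p := orderOf_pow_orderOf_div (orderOf_pos k).ne' hp'
  have hbq : orderOf b = q := orderOf_pow_orderOf_div (orderOf_pos k).ne' hq'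
  have haV : a ∈ V := by
    rw [← QuotientGroup.eq_one_iff, ← orderOf_eq_one_iff]
    refine Nat.eq_one_of_dvd_coprimes ((Nat.coprime_primes hp hq).mpr hpq)
      (hap ▸ orderOf_map_dvd (QuotientGroup.mk' V) a) ?_
    obtain ⟨v, hv, j, hj⟩ := hdec a
    refine orderOf_dvd_of_pow_eq_one ?_
    rw [hj, QuotientGroup.mk_mul, (QuotientGroup.eq_one_iff v).mpr hv, one_mul, ← QuotientGroup.mk_pow,
      ← pow_mul, mul_comm, pow_mul, htq, one_pow, QuotientGroup.mk_one]
  obtain ⟨v, hv, j, hj⟩ := hdec b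
  have htj : t ^ j ≠ 1 := fun e => hpq ((Nat.prime_dvd_prime_iff_eq hq hp).mp
    (hbq ▸ orderOf_dvd_of_pow_eq_one (hVp b (by rw [hj, e, mul_one]; exact hv)))).symm
  have hab : Commute a b := (Commute.refl k).pow_pow _ _
  rw [hj] at hab
  have ha1 := hmove j htj a haV (by
    have h1 := Commute.mul_right (Commute.inv_right (hVab a haV v hv : Commute a v)) hab
    rwa [inv_mul_cancel_left] at h1)
  rw [ha1, orderOf_one] at hap
  exact hp.ne_one hap.symm

end Cfsg.Agent.S4238
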