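import Cfsg.Statements.S4242
import Cfsg.Agent.Lib.Base.MinNonNilpotent
import Cfsg.Agent.Lib.Transfer.Alperin
import Cfsg.Agent.Lib.Coprime.Action

set_option autoImplicit false
open Cfsg

namespace Cfsg.Agent.S4242

theorem le_sup_forward {G : Type*} [Group G] [Finite G] {p : ℕ} [hp : Fact p.Prime]
    (hpG : p ∣ Nat.card G) (h : ∀ M : Subgroup G, IsCoatom M → p ∣ Nat.card M → Group.IsNilpotent M)
    (hnn : ¬ Group.IsNilpotent G) (hnm : ¬ Cfsg.IsMinimalNonNilpotent G) :
    ∃ Z K : Subgroup G, Z.Normal ∧ K.Normal ∧ Z ⊓ K = ⊥ ∧ Z ⊔ K = ⊤ ∧ Nat.card Z = p ∧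
      Cfsg.IsMinimalNonNilpotent K ∧ ¬ p ∣ Nat.card K := by
  have hprop : ∀ X : Subgroup G, X ≠ ⊤ → p ∣ Nat.card X → Group.IsNilpotent X := by
    intro X hX hd
    obtain ⟨M, hM, hXM⟩ := (eq_top_or_exists_le_coatom X).resolve_left hX
    exact CfsgLib.Base.isNilpotent_of_le hXM (h M hM (hd.trans (Subgroup.card_dvd_of_le hXM)))
  obtain ⟨M, hM, hMn⟩ : ∃ M : Subgroup G, IsCoatom M ∧ ¬ Group.IsNilpotent M := by
    by_contra hno
    push Not at hno
    refine hnm ⟨hnn, fun X hX => ?_⟩
    obtain ⟨M, hM, hXM⟩ := (eq_top_or_exists_le_coatom X).resolve_left hX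
    exact CfsgLib.Base.isNilpotent_of_le hXM (hno M hM)
  have hpM : ¬ p ∣ Nat.card M := fun hd => hMn (h M hM hd)
  have hcopM : ∀ R : Subgroup G, IsPGroup p R → (Nat.card R).Coprime (Nat.card M) := fun R hR => by
    obtain ⟨k, hk⟩ := IsPGroup.iff_card.1 hR
    rw [hk]
    exact (hp.out.coprime_iff_not_dvd.2 hpM).pow_left k
  by_cases hcore : ∃ R : Subgroup G, R.Normal ∧ R ≠ ⊥ ∧ IsPGroup p R
  · have hsupR : ∀ R : Subgroup G, R.Normal → R ≠ ⊥ → IsPGroup p R →
        M ⊔ R = ⊤ ∧ M ⊓ R = ⊥ ∧ Nat.card G = Nat.card M * Nat.card R := by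
      intro R hR hne hRp
      haveI := hR
      have h1 : M ⊔ R = ⊤ := hM.2 _ (lt_of_le_of_ne le_sup_left fun e => hne
        ((Subgroup.eq_bot_of_card_eq _) (Nat.eq_one_of_dvd_coprimes (hcopM R hRp) dvd_rfl
          (Subgroup.card_dvd_of_le (e ▸ le_sup_right)))))
      have h2 : M ⊓ R = ⊥ := by rw [inf_comm]; exact CfsgLib.Base.inf_eq_bot_of_coprime (hcopM R hRp)
      refine ⟨h1, h2, ?_⟩
      rw [← CfsgLib.Base.card_sup_of_disjoint M R h2, h1, Subgroup.card_top]
    obtain ⟨R, hR, hRne, hRp⟩ := hcore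
    haveI := hR
    obtain ⟨hMR, hMR', hcard⟩ := hsupR R hR hRne hRp
    have heq : ∀ R' : Subgroup G, R'.Normal → R' ≠ ⊥ → R' ≤ R → R' = R := fun R' hR' hne hle => by
      obtain ⟨-, -, hc'⟩ := hsupR R' hR' hne (hRp.to_le hle)
      refine Subgroup.eq_of_le_of_card_ge hle (le_of_eq ?_)
      exact Nat.eq_of_mul_eq_mul_left Nat.card_pos (hcard.symm.trans hc')
    haveI : Nontrivial R := (Subgroup.nontrivial_iff_ne_bot R).2 hRne
    have hRc : R ≤ Subgroup.centralizer (R : Set G) := by
      have h1 : R ⊓ Subgroup.centralizer (R : Set G) ≠ ⊥ := fun e =>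
        (Subgroup.nontrivial_iff_ne_bot _).1 hRp.center_nontrivial ((Subgroup.eq_bot_iff_forall _).2
          fun z hz => Subtype.ext (Subgroup.mem_bot.1 (e.le ⟨z.2, Subgroup.mem_centralizer_iff.2
            fun a ha => congrArg Subtype.val (Subgroup.mem_center_iff.1 hz ⟨a, ha⟩)⟩)))
      exact (heq _ inferInstance h1 inf_le_left).ge.trans inf_le_right
    have hsub : ∀ X : Subgroup G, X ≤ M → X ≠ M →
        Group.IsNilpotent X ∧ X ≤ Subgroup.centralizer (R : Set G) := by
      intro X hXM hne
      have hXR : X ⊔ R ≠ ⊤ := fun e => hne (by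
        have h1 := CfsgLib.Base.card_sup_of_disjoint X R (le_bot_iff.1 (hMR' ▸ inf_le_inf_right R hXM))
        rw [e, Subgroup.card_top, hcard] at h1
        exact Subgroup.eq_of_le_of_card_ge hXM (Nat.eq_of_mul_eq_mul_right Nat.card_pos h1).le)
      have hdR : p ∣ Nat.card R := by
        obtain ⟨k, hk⟩ := IsPGroup.iff_card.1 hRp
        rcases Nat.eq_zero_or_pos k with rfl | hk0
        · exact absurd (R.eq_bot_of_card_eq (by simpa using hk)) hRne
        · exact hk ▸ dvd_pow_self p hk0.ne'
      have hn := hprop _ hXR (hdR.trans (Subgroup.card_dvd_of_le le_sup_right))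
      refine ⟨CfsgLib.Base.isNilpotent_of_le le_sup_left hn, fun x hx => ?_⟩
      refine CfsgLib.Base.MinNonNilpotent.commute_of_nilpotent hn hRp le_sup_right
        (le_sup_left (b := R) hx) ?_
      exact ((hp.out.coprime_iff_not_dvd.2 hpM).symm).coprime_dvd_left
        (Subgroup.orderOf_dvd_natCard M (hXM hx))
    have hMc : M ≤ Subgroup.centralizer (R : Set G) := by
      intro m hm
      refine (hsub (Subgroup.zpowers m) (Subgroup.zpowers_le.2 hm) fun e => hMn ?_).2
        (Subgroup.mem_zpowers m)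
      haveI : IsCyclic M := e ▸ inferInstance
      letI := IsCyclic.commGroup (α := M)
      exact CommGroup.isNilpotent
    have hcen : R ≤ Subgroup.center G := by
      intro r hr
      refine Subgroup.mem_center_iff.2 fun g => ?_
      have : g ∈ Subgroup.centralizer (R : Set G) :=
        (hMR.ge.trans (sup_le hMc hRc)) (Subgroup.mem_top g)
      exact (Subgroup.mem_centralizer_iff.1 this r hr).symm
    have hMnorm : M.Normal := by
      refine Subgroup.normalizer_eq_top_iff.1 (top_le_iff.1 (hMR.ge.trans (sup_le Subgroup.le_normalizer ?_)))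
      exact (Subgroup.le_centralizer_iff.1 hMc).trans (Subgroup.centralizer_le_normalizer _)
    refine ⟨R, M, hR, hMnorm, by rw [inf_comm]; exact hMR', by rw [sup_comm]; exact hMR, ?_,
      ⟨hMn, fun X hX => ?_⟩, hpM⟩
    · obtain ⟨x, hx⟩ := exists_prime_orderOf_dvd_card' p (G := R) (by
        obtain ⟨k, hk⟩ := IsPGroup.iff_card.1 hRp
        rcases Nat.eq_zero_or_pos k with rfl | hk0
        · exact absurd (R.eq_bot_of_card_eq (by simpa using hk)) hRne
        · exact hk ▸ dvd_pow_self p hk0.ne')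
      have h1 := heq (Subgroup.zpowers (x : G))
        (CfsgLib.Base.normal_of_le_center (Subgroup.zpowers_le.2 (hcen x.2)))
        (fun e => hp.out.one_lt.ne (by
          rw [Subgroup.zpowers_eq_bot] at e
          rw [← hx, show x = 1 from Subtype.ext e, orderOf_one]))
        (Subgroup.zpowers_le.2 x.2)
      rw [← h1, Nat.card_zpowers, Subgroup.orderOf_coe, hx]
    · have h1 := (hsub (X.map M.subtype) (Subgroup.map_subtype_le _) fun e => hX (by
        rw [← Subgroup.comap_map_eq_self_of_injective M.subtype_injective X, e]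
        exact Subgroup.subgroupOf_self M)).1
      exact Group.nilpotent_of_mulEquiv (X.equivMapOfInjective _ M.subtype_injective).symm
  · exfalso
    push Not at hcore
    obtain ⟨P⟩ := (inferInstance : Nonempty (Sylow p G))
    have hcomp : Cfsg.HasNormalPComplement p G := by
      rw [CfsgLib.Transfer.hasNormalPComplement_iff_forall_centralizing P]
      intro Q hQP g hg hgo
      rcases eq_or_ne Q ⊥ with rfl | hQ
      · exact Subgroup.mem_centralizer_iff.2 fun x hx => by
          rw [SetLike.mem_coe, Subgroup.mem_bot] at hx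
          simp [hx]
      have hQp : IsPGroup p Q := P.isPGroup'.to_le hQP
      have hN : Subgroup.normalizer (Q : Set G) ≠ ⊤ := fun e =>
        hcore Q (Subgroup.normalizer_eq_top_iff.1 e) hQ hQp
      refine CfsgLib.Base.MinNonNilpotent.commute_of_nilpotent (hprop _ hN ?_) hQp Subgroup.le_normalizer hg hgo
      obtain ⟨k, hk⟩ := IsPGroup.iff_card.1 hQp
      rcases Nat.eq_zero_or_pos k with rfl | hk0
      · exact absurd (Q.eq_bot_of_card_eq (by simpa using hk)) hQ
      · exact (hk ▸ dvd_pow_self p hk0.ne').trans (Subgroup.card_dvd_of_le Subgroup.le_normalizer)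
    set K := Cfsg.pResidual p G with hKdef
    haveI : K.Normal := CfsgLib.Transfer.pResidual_normal
    have hKp : ¬ p ∣ Nat.card K := CfsgLib.Transfer.hasNormalPComplement_iff_pResidual.1 hcomp
    have hMK : M = K := by
      refine ((hM.le_iff).1 (fun m hm => CfsgLib.Transfer.mem_pResidual_of_coprime
        (((hp.out.coprime_iff_not_dvd.2 hpM).symm).coprime_dvd_left
          (Subgroup.orderOf_dvd_natCard M hm)))).resolve_left (fun e => hKp ?_) |>.symm
      rw [show K = ⊤ from e, Subgroup.card_top]; exact hpG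
    haveI : Nontrivial (P : Subgroup G) :=
      (Subgroup.nontrivial_iff_ne_bot _).2 (P.ne_bot_of_dvd_card hpG)
    haveI := P.isPGroup'.center_nontrivial
    have hdZ : p ∣ Nat.card ↥(Subgroup.center ↥(P : Subgroup G)) := by
      obtain ⟨k, hk⟩ := IsPGroup.iff_card.1 (P.isPGroup'.to_subgroup (Subgroup.center _))
      rcases Nat.eq_zero_or_pos k with rfl | hk0
      · exact absurd (Subgroup.eq_bot_of_card_eq _ (by simpa using hk))
          ((Subgroup.nontrivial_iff_ne_bot _).1 inferInstance)
      · exact hk ▸ dvd_pow_self p hk0.ne'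
    obtain ⟨z', hz'⟩ := exists_prime_orderOf_dvd_card' p hdZ
    set z : G := (((z' : ↥(P : Subgroup G))) : G) with hz
    have hzo : orderOf z = p := by rw [hz, Subgroup.orderOf_coe, Subgroup.orderOf_coe, hz']
    set R := Subgroup.zpowers z with hR
    have hRp : IsPGroup p R := IsPGroup.of_card (n := 1) (by rw [Nat.card_zpowers, hzo, pow_one])
    have hRne : R ≠ ⊥ := fun e => by
      rw [hR, Subgroup.zpowers_eq_bot] at e
      rw [e, orderOf_one] at hzo
      exact hp.out.one_lt.ne hzo
    have hRP : R ≤ (P : Subgroup G) := Subgroup.zpowers_le.2 (z' : ↥(P : Subgroup G)).2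
    have hPc : (P : Subgroup G) ≤ Subgroup.centralizer (R : Set G) := fun x hx => by
      rw [hR, Subgroup.zpowers_eq_closure, Subgroup.centralizer_closure]
      exact Subgroup.mem_centralizer_iff.2 fun v hv => by
        rw [Set.mem_singleton_iff.1 hv, hz]
        exact (congrArg Subtype.val (Subgroup.mem_center_iff.1 z'.2 ⟨x, hx⟩)).symm
    have hKP : K ⊔ (P : Subgroup G) = ⊤ := by
      rw [sup_comm]; exact CfsgLib.Transfer.sup_pResidual_eq_top P
    have hfinal : ¬ K ≤ Subgroup.centralizer (R : Set G) := fun hKc => by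
      have hcen : R ≤ Subgroup.center G := fun r hr => Subgroup.mem_center_iff.2 fun g =>
        ((Subgroup.mem_centralizer_iff.1 ((hKP.ge.trans (sup_le hKc hPc)) (Subgroup.mem_top g))) r hr).symm
      exact hcore R (CfsgLib.Base.normal_of_le_center hcen) hRne hRp
    have hKR : K ⊔ R = ⊤ := by
      by_contra hne
      refine hfinal fun k hk => CfsgLib.Base.MinNonNilpotent.commute_of_nilpotent
        (hprop _ hne ((show p ∣ Nat.card R by rw [Nat.card_zpowers, hzo]).trans
          (Subgroup.card_dvd_of_le le_sup_right))) hRp le_sup_right (le_sup_left (b := R) hk) ?_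
      exact ((hp.out.coprime_iff_not_dvd.2 hKp).symm).coprime_dvd_left (Subgroup.orderOf_dvd_natCard K hk)
    have hcardG : Nat.card G = p * Nat.card K := by
      have h1 := CfsgLib.Base.card_sup_of_disjoint R K (CfsgLib.Base.inf_eq_bot_of_coprime (by
        rw [Nat.card_zpowers, hzo]; exact hp.out.coprime_iff_not_dvd.2 hKp))
      rwa [sup_comm, hKR, Subgroup.card_top, Nat.card_zpowers, hzo] at h1
    have hnormK : R ≤ Subgroup.normalizer (K : Set G) :=
      le_top.trans (Subgroup.normalizer_eq_top_iff.2 inferInstance).ge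
    have hcop : (Nat.card R).Coprime (Nat.card K) := by
      rw [Nat.card_zpowers, hzo]; exact hp.out.coprime_iff_not_dvd.2 hKp
    have hsolv : Group.IsSolvable R := Group.isSolvable_of_comm fun a b => mul_comm' a b
    choose S hS using fun q : Nat.Primes =>
      haveI := Fact.mk q.2
      CfsgLib.Coprime.exists_invariant_sylow (p := (q : ℕ)) hnormK hcop (Or.inl hsolv)
    refine hfinal ?_
    have hall : ∀ q : Nat.Primes, ((S q : Subgroup K)).map K.subtype ≤ Subgroup.centralizer (R : Set G) := by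
      intro q
      haveI := Fact.mk q.2
      set T := ((S q : Subgroup K)).map K.subtype with hT
      have hTK : T ≤ K := Subgroup.map_subtype_le _
      have hTne : T ≠ K := fun e => hMn (hMK ▸ (by
        haveI := (((S q).isPGroup').map K.subtype).isNilpotent
        exact e ▸ (inferInstance : Group.IsNilpotent T)))
      have hne : T ⊔ R ≠ ⊤ := fun e => by
        refine hTne (Subgroup.eq_of_le_of_card_ge hTK ?_)
        have h1 : Nat.card ↥(T ⊔ R) ≤ Nat.card T * Nat.card R :=
          (CfsgLib.Coprime.card_sup_mul_card_inf (hS q)).le.trans' (by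
            rw [sup_comm]
            exact Nat.le_mul_of_pos_right _ Nat.card_pos) |>.trans (le_of_eq (mul_comm _ _))
        rw [e, Subgroup.card_top, hcardG, Nat.card_zpowers, hzo, mul_comm (Nat.card T)] at h1
        exact Nat.le_of_mul_le_mul_left h1 hp.out.pos
      intro t ht
      refine CfsgLib.Base.MinNonNilpotent.commute_of_nilpotent
        (hprop _ hne ((show p ∣ Nat.card R by rw [Nat.card_zpowers, hzo]).trans
          (Subgroup.card_dvd_of_le le_sup_right))) hRp le_sup_right (le_sup_left (b := R) ht) ?_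
      exact ((hp.out.coprime_iff_not_dvd.2 hKp).symm).coprime_dvd_left
        (Subgroup.orderOf_dvd_natCard K (hTK ht))
    have htop := CfsgLib.Base.iSup_sylow_eq_top S
    intro k hk
    have hk' : (⟨k, hk⟩ : K) ∈ ⨆ q, (S q : Subgroup K) := htop ▸ Subgroup.mem_top _
    have := Subgroup.mem_map_of_mem K.subtype hk'
    rw [Subgroup.map_iSup] at this
    exact (iSup_le hall) this

/-- Let G be a finite group and p a prime dividing its order. Every maximal subgroup of G of order divisible by p is nilpotent if and only if G is nilpotent, or G is a minimal non-nilpotent group, or G is the internal direct product of a normal subgroup of order p and a normal minimal non-nilpotent subgroup of order prime to p. -/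
theorem result {G : Type*} [Group G] [Finite G] (p : ℕ) (hp : p.Prime) (hpG : p ∣ Nat.card G) :
    (∀ M : Subgroup G, IsCoatom M → p ∣ Nat.card M → Group.IsNilpotent M) ↔
      (Group.IsNilpotent G ∨ Cfsg.IsMinimalNonNilpotent G ∨
        ∃ Z K : Subgroup G, Z.Normal ∧ K.Normal ∧ Z ⊓ K = ⊥ ∧ Z ⊔ K = ⊤ ∧ Nat.card Z = p ∧
          Cfsg.IsMinimalNonNilpotent K ∧ ¬ p ∣ Nat.card K) := by
  haveI := Fact.mk hp
  constructor
  · intro h
    by_cases hnn : Group.IsNilpotent G
    · exact Or.inl hnn
    by_cases hnm : Cfsg.IsMinimalNonNilpotent G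
    · exact Or.inr (Or.inl hnm)
    exact Or.inr (Or.inr (le_sup_forward hpG h hnn hnm))
  · rintro (hn | hm | ⟨Z, K, hZ, hK, hZK, hsup, hZc, hKm, hKp⟩) M hM hpM
    · exact CfsgLib.Base.isNilpotent_of_le le_top (Group.isNilpotent_top.2 hn)
    · exact hm.2 M hM.1
    haveI := hZ
    haveI := hK
    obtain ⟨x, hx⟩ := exists_prime_orderOf_dvd_card' p hpM
    have hxZ : (x : G) ∈ Z := by
      have h1 : orderOf (QuotientGroup.mk' Z (x : G)) ∣ p :=
        (orderOf_map_dvd _ _).trans (by rw [Subgroup.orderOf_coe, hx])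
      have h2 : orderOf (QuotientGroup.mk' Z (x : G)) ∣ Nat.card K := by
        refine (orderOf_dvd_natCard _).trans (dvd_of_eq ?_)
        have h3 := CfsgLib.Base.card_sup_of_disjoint K Z (by rw [inf_comm]; exact hZK)
        rw [sup_comm, hsup, Subgroup.card_top, ← Z.index_mul_card] at h3
        rw [← Subgroup.index_eq_card]
        exact Nat.eq_of_mul_eq_mul_right Nat.card_pos h3
      have h4 := Nat.eq_one_of_dvd_coprimes (hp.coprime_iff_not_dvd.2 hKp) h1 h2
      rwa [orderOf_eq_one_iff, QuotientGroup.mk'_apply, QuotientGroup.eq_one_iff] at h4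
    have hZx : Subgroup.zpowers (x : G) = Z := Subgroup.eq_of_le_of_card_ge (Subgroup.zpowers_le.2 hxZ)
      (by rw [Nat.card_zpowers, Subgroup.orderOf_coe, hx, hZc])
    have hZM : Z ≤ M := hZx ▸ Subgroup.zpowers_le.2 x.2
    have h1 : Group.IsNilpotent ↥(Z.subgroupOf M) :=
      CfsgLib.Base.isNilpotent_of_isPGroup (p := p) (IsPGroup.of_card (n := 1)
        (by rw [CfsgLib.Base.card_subgroupOf hZM, hZc, pow_one]))
    have hne : M ⊓ K ≠ K := fun e => hM.1 (top_le_iff.1 (hsup.ge.trans (sup_le hZM (inf_eq_right.1 e))))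
    have h2 : Group.IsNilpotent ↥(K.subgroupOf M) := by
      haveI : Group.IsNilpotent ↥((M ⊓ K).subgroupOf K) :=
        hKm.2 _ fun e => hne (le_antisymm inf_le_right (Subgroup.subgroupOf_eq_top.1 e))
      haveI : Group.IsNilpotent ↥(M ⊓ K) :=
        Group.nilpotent_of_mulEquiv (Subgroup.subgroupOfEquivOfLe inf_le_right)
      rw [← Subgroup.inf_subgroupOf_left]
      exact Group.nilpotent_of_mulEquiv (Subgroup.subgroupOfEquivOfLe inf_le_left).symm
    have h3 := CfsgLib.Base.isNilpotent_sup _ _ h1 h2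
    have htop : Z.subgroupOf M ⊔ K.subgroupOf M = ⊤ := by
      rw [eq_top_iff]
      rintro ⟨m, hm⟩ -
      obtain ⟨a, ha, b, hb, rfl⟩ := Subgroup.mem_sup_of_normal_left.1 (hsup.ge (Subgroup.mem_top m))
      have hbM : b ∈ M := by simpa using M.mul_mem (M.inv_mem (hZM ha)) hm
      exact Subgroup.mul_mem_sup (show (⟨a, hZM ha⟩ : M) ∈ Z.subgroupOf M from ha)
        (show (⟨b, hbM⟩ : M) ∈ K.subgroupOf M from hb)
    rw [htop] at h3
    exact Group.isNilpotent_top.1 h3

end Cfsg.Agent.S4242
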