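import Cfsg.Statements.S4244
import Cfsg.Agent.Lib.Base.Transport

set_option autoImplicit false
open Cfsg

namespace Cfsg.Agent.S4244

/-- Let H be a subnormal subgroup of a finite group G. Then for every subgroup K of G the index of H ∩ K in H divides the index of K in G. -/
theorem result {G : Type*} [Group G] [Finite G] (H : Subgroup G) (hH : H.IsSubnormal) (K : Subgroup G) :
    (H ⊓ K).relIndex H ∣ K.index := by
  induction hH with
  | top => simp [Subgroup.relIndex_top_right]
  | step H L hHL _ hN ih =>
    refine Dvd.dvd.trans ?_ ih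
    rw [Subgroup.inf_relIndex_left, Subgroup.inf_relIndex_left]
    haveI := hN
    have e1 : (K.subgroupOf L).relIndex (H.subgroupOf L) = K.relIndex H :=
      Subgroup.relIndex_subgroupOf hHL
    rw [← e1]
    have e2 : (K.subgroupOf L).relIndex (H.subgroupOf L) =
        (K.subgroupOf L).relIndex (K.subgroupOf L ⊔ H.subgroupOf L) := by
      set K' := K.subgroupOf L
      set H' := H.subgroupOf L
      have h1 := CfsgLib.Base.card_sup_mul_card_inf K' H'
      have h2 : (K' ⊓ H').relIndex H' * Nat.card ↥(K' ⊓ H') = Nat.card H' := by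
        rw [← Subgroup.relIndex_bot_left (H := K' ⊓ H'), ← Subgroup.relIndex_bot_left (H := H'), mul_comm]
        exact Subgroup.relIndex_mul_relIndex _ _ _ bot_le inf_le_right
      have h3 : K'.relIndex (K' ⊔ H') * Nat.card K' = Nat.card ↥(K' ⊔ H') := by
        rw [← Subgroup.relIndex_bot_left (H := K'), ← Subgroup.relIndex_bot_left (H := K' ⊔ H'), mul_comm]
        exact Subgroup.relIndex_mul_relIndex _ _ _ bot_le le_sup_left
      rw [Subgroup.inf_relIndex_right] at h2
      rw [← h2, ← h3] at h1
      have h4 : K'.relIndex (K' ⊔ H') * (Nat.card K' * Nat.card ↥(K' ⊓ H')) =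
          K'.relIndex H' * (Nat.card K' * Nat.card ↥(K' ⊓ H')) := by linarith [h1]
      exact (Nat.eq_of_mul_eq_mul_right (Nat.mul_pos Nat.card_pos Nat.card_pos) h4).symm
    rw [e2]
    exact ⟨_, (Subgroup.relIndex_mul_index (le_sup_left : K.subgroupOf L ≤ _ ⊔ H.subgroupOf L)).symm⟩

end Cfsg.Agent.S4244
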