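import Cfsg.Statements.S4248
import Cfsg.Agent.Lib.Recog.PartitionType.Refine
import Cfsg.Agent.Lib.Recog.PartitionType.NormalComponent
import Cfsg.Agent.Lib.Recog.PartitionType.AbelianNormal
import Cfsg.Agent.Lib.Recog.PartitionType.SylowComponent
import Cfsg.Agent.Lib.Recog.PartitionType.SplitSylow

set_option autoImplicit false
open Cfsg

namespace Cfsg.Agent.S4248

/-- Let G be a finite group admitting a nontrivial partition: a family of at least two nontrivial subgroups such that every non-identity element of G lies in exactly one member. Then G is isomorphic to the symmetric group of degree 4; or, for some prime p, the Hughes subgroup generated by the elements g with g^p ≠ 1 is proper (G a p-group or a group of Hughes–Thompson type); or G is a Frobenius group; or G is isomorphic to PSL(2, q) with q ≥ 4, to PGL(2, q) with q ≥ 5 odd, or to a Suzuki group. -/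
theorem result {G : Type*} [Group G] [Finite G] (S : Set (Subgroup G)) (hS2 : ∃ H ∈ S, ∃ K ∈ S, H ≠ K)
    (hS1 : ∀ H ∈ S, H ≠ ⊥) (hpart : ∀ g : G, g ≠ 1 → ∃! H : Subgroup G, H ∈ S ∧ g ∈ H) :
    Nonempty (G ≃* Equiv.Perm (Fin 4)) ∨
    (∃ p : ℕ, p.Prime ∧ Subgroup.closure {g : G | g ^ p ≠ 1} ≠ ⊤) ∨
    (∃ H : Subgroup G, Cfsg.IsFrobeniusComplement H) ∨
    (∃ (F : Type) (_ : Field F) (_ : Fintype F), 4 ≤ Fintype.card F ∧
        Nonempty (G ≃* Matrix.ProjectiveSpecialLinearGroup (Fin 2) F)) ∨
    (∃ (F : Type) (_ : Field F) (_ : Fintype F), 5 ≤ Fintype.card F ∧ Odd (Fintype.card F) ∧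
        Nonempty (G ≃* (GL (Fin 2) F ⧸ Subgroup.center (GL (Fin 2) F)))) ∨
    Cfsg.Lie.IsoSuzuki G := by
  classical
  set K := CfsgLib.Recog.PartitionType.refineAt S
  have hP : CfsgLib.Recog.PartitionType.Part K :=
    CfsgLib.Recog.PartitionType.part_refineAt S hS2 hS1 hpart
  by_cases hN : CfsgLib.Recog.PartitionType.NoSelfNorm K
  swap
  · simp only [CfsgLib.Recog.PartitionType.NoSelfNorm, not_forall, not_exists, not_and,
      not_not] at hN
    obtain ⟨g, hg, h⟩ := hN
    exact Or.inr (Or.inr (Or.inl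
      ⟨_, CfsgLib.Recog.PartitionType.isFrobeniusComplement_of_selfNorm hP hg h⟩))
  by_cases hrad : ∀ N : Subgroup G, N.Normal → Group.IsSolvable N → N = ⊥
  swap
  · simp only [not_forall] at hrad
    obtain ⟨N, hNn, hNs, hN1⟩ := hrad
    haveI := hNn
    obtain ⟨p, V, hp, hVn, hV, hV1⟩ :=
      CfsgLib.Recog.PartitionType.exists_elementaryAbelian_normal N hNs hN1
    haveI := hVn
    by_cases hle : ∃ g : G, g ≠ 1 ∧ V ≤ K g
    · obtain ⟨g, hg, hgV⟩ := hle
      rcases CfsgLib.Recog.PartitionType.of_normal_component hP hN hg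
        (CfsgLib.Recog.PartitionType.normal_of_normal_le hP hg V hV1 hgV) with h | h
      · exact Or.inr (Or.inl h)
      · exact Or.inr (Or.inr (Or.inl h))
    · rcases CfsgLib.Recog.PartitionType.of_abelian_normal hP hN hp V hV hV1
        (fun g hg hgV => hle ⟨g, hg, hgV⟩) with h | h
      · exact Or.inl h
      · exact Or.inr (Or.inl h)
  -- no soluble normal subgroups
  have hns : ¬ Group.IsSolvable G := fun h => by
    obtain ⟨H, hH, -⟩ := hS2
    haveI := h
    have := hrad ⊤ inferInstance inferInstance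
    exact hS1 H hH (le_bot_iff.1 (this ▸ le_top))
  obtain ⟨P⟩ := (inferInstance : Nonempty (Sylow 2 G))
  by_cases hz : ∃ z : G, orderOf z = 2 ∧ z ∈ (P : Subgroup G) ∧ (P : Subgroup G) ≤ K z
  · obtain ⟨z, hzo, -, hle⟩ := hz
    rcases CfsgLib.Recog.PartitionType.of_sylow_le_component hP
      (fun g hg => hP.isNilpotent hg (hN g hg)) hns hrad P hzo hle with h | h
    · exact Or.inr (Or.inr (Or.inr (Or.inl h)))
    · exact Or.inr (Or.inr (Or.inr (Or.inr (Or.inr h))))
  · rcases CfsgLib.Recog.PartitionType.linearType_of_split hP hns hrad P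
      (fun z hzo hzP hle => hz ⟨z, hzo, hzP, hle⟩) with h | h
    · exact Or.inr (Or.inr (Or.inr (Or.inl h)))
    · exact Or.inr (Or.inr (Or.inr (Or.inr (Or.inl h))))

end Cfsg.Agent.S4248
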