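import Cfsg.Statements.S4249
import Cfsg.Agent.Lib.FgsC.Hughes

set_option autoImplicit false
open Cfsg

namespace Cfsg.Agent.S4249

/-- Let G be a finite group and p a prime such that G is not a p-group, and suppose the Hughes subgroup H_p(G), generated by all elements g with g^p ≠ 1, is a proper subgroup. Then H_p(G) is nilpotent and has index p in G. -/
theorem result {G : Type*} [Group G] [Finite G] (p : ℕ) (hp : p.Prime) (hG : ¬ IsPGroup p G)
    (hH : Subgroup.closure {g : G | g ^ p ≠ 1} ≠ ⊤) :
    Group.IsNilpotent (Subgroup.closure {g : G | g ^ p ≠ 1}) ∧ (Subgroup.closure {g : G | g ^ p ≠ 1}).index = p := by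
  haveI := Fact.mk hp
  set S : Set G := {g : G | g ^ p ≠ 1} with hS
  have hout : ∀ g ∉ Subgroup.closure S, g ^ p = 1 := fun g hg => by
    by_contra h
    exact hg (Subgroup.subset_closure h)
  haveI : (Subgroup.closure S).Normal := by
    refine ⟨fun x hx g => ?_⟩
    have hle : Subgroup.closure S ≤ (Subgroup.closure S).comap (MulAut.conj g).toMonoidHom := by
      refine (Subgroup.closure_le _).mpr fun y hy => Subgroup.subset_closure ?_
      show ((MulAut.conj g) y) ^ p ≠ 1
      rw [← map_pow, map_ne_one_iff _ (MulAut.conj g).injective]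
      exact hy
    exact hle hx
  have hidx := CfsgLib.FgsC.Hughes.index_eq hG hH hout
  exact ⟨CfsgLib.FgsC.Hughes.isNilpotent hidx hout, hidx⟩

end Cfsg.Agent.S4249
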