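import Cfsg.Statements.S4250
import Cfsg.Agent.Lib.FgsC.FocalLocal

set_option autoImplicit false
open Cfsg

namespace Cfsg.Agent.S4250

/-- Let P be a Sylow p-subgroup of a finite group G. Call an intersection H = P ∩ Q with a Sylow p-subgroup Q tame when N_P(H) and N_Q(H) are Sylow p-subgroups of N_G(H). Then P ∩ G′ is generated by [P, N_G(P)] together with the commutator subgroups [P ∩ Q, ⟨x⟩] for all tame intersections P ∩ Q and all p-elements x of N_G(P ∩ Q). -/
theorem result {G : Type*} [Group G] [Finite G] (p : ℕ) [Fact p.Prime] (P : Sylow p G) :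
    (P : Subgroup G) ⊓ commutator G =
      ⁅(P : Subgroup G), Subgroup.normalizer ((P : Subgroup G) : Set G)⁆ ⊔
        ⨆ (Q : Sylow p G) (_ : (¬ p ∣ ((P : Subgroup G) ⊓ Subgroup.normalizer (((P : Subgroup G) ⊓ (Q : Subgroup G) : Subgroup G) : Set G)).relIndex (Subgroup.normalizer (((P : Subgroup G) ⊓ (Q : Subgroup G) : Subgroup G) : Set G)) ∧ ¬ p ∣ ((Q : Subgroup G) ⊓ Subgroup.normalizer (((P : Subgroup G) ⊓ (Q : Subgroup G) : Subgroup G) : Set G)).relIndex (Subgroup.normalizer (((P : Subgroup G) ⊓ (Q : Subgroup G) : Subgroup G) : Set G))))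
          (x : G) (_ : x ∈ Subgroup.normalizer (((P : Subgroup G) ⊓ (Q : Subgroup G) : Subgroup G) : Set G) ∧ ∃ k : ℕ, orderOf x = p ^ k),
          ⁅(P : Subgroup G) ⊓ (Q : Subgroup G), Subgroup.zpowers x⁆ := by
  have hN : ∀ (Q : Sylow p G), ∀ x ∈ Subgroup.normalizer (((P : Subgroup G) ⊓ (Q : Subgroup G) : Subgroup G) : Set G),
      ∀ a ∈ (P : Subgroup G) ⊓ (Q : Subgroup G), x * a * x⁻¹ ∈ (P : Subgroup G) ⊓ (Q : Subgroup G) :=
    fun Q x hx a ha => (Subgroup.mem_normalizer_iff.mp hx a).mp ha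
  refine le_antisymm ?_ (sup_le ?_ (iSup_le fun Q => iSup_le fun hQ => iSup_le fun x => iSup_le fun hx => ?_))
  · rw [inf_comm, Subgroup.commutator_inf_eq_focalSubgroup, Subgroup.focalSubgroup_def, Subgroup.closure_le]
    rintro z ⟨hz, a, ha, u, rfl⟩
    have h2 : u * a⁻¹ * u⁻¹ ∈ (P : Subgroup G) := by
      have := Subgroup.mul_mem _ (Subgroup.inv_mem _ ha) hz
      rw [commutatorElement_def] at this
      simpa [mul_assoc] using this
    obtain ⟨-, h⟩ := CfsgLib.FgsC.diff_mem P _ (fun Q hQ x hx hp => le_sup_right.trans' (le_iSup_of_le Q (le_iSup_of_le hQ (le_iSup_of_le (f := fun y : G => ⨆ (_ : y ∈ Subgroup.normalizer (((P : Subgroup G) ⊓ (Q : Subgroup G) : Subgroup G) : Set G) ∧ ∃ k : ℕ, orderOf y = p ^ k), ⁅(P : Subgroup G) ⊓ (Q : Subgroup G), Subgroup.zpowers y⁆) x (le_iSup_of_le ⟨hx, hp⟩ le_rfl)))))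
      le_sup_left (Subgroup.zpowers a) u⁻¹ (Subgroup.zpowers_le.mpr ha)
      (fun b hb => by
        obtain ⟨k, rfl⟩ := Subgroup.mem_zpowers_iff.mp hb
        have e : u⁻¹⁻¹ * a ^ k * u⁻¹ = (u * a⁻¹ * u⁻¹) ^ (-k) := by rw [conj_zpow, inv_zpow, zpow_neg, inv_inv, inv_inv]
        rw [e]; exact Subgroup.zpow_mem _ h2 _)
    have := h a (Subgroup.mem_zpowers _)
    simp only [commutatorElement_def, mul_assoc, inv_inv, SetLike.mem_coe] at this ⊢
    exact this
  · refine le_inf ?_ (Subgroup.commutator_mono le_top le_top)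
    rw [Subgroup.commutator_le]
    intro a ha n hn
    have := (Subgroup.mem_normalizer_iff.mp hn a⁻¹).mp (Subgroup.inv_mem _ ha)
    have h2 := Subgroup.mul_mem _ ha this
    simpa [commutatorElement_def, mul_assoc] using h2
  · refine le_inf ?_ (Subgroup.commutator_mono le_top le_top)
    rw [Subgroup.commutator_le]
    intro a ha n hn
    have hn' : n ∈ Subgroup.normalizer (((P : Subgroup G) ⊓ (Q : Subgroup G) : Subgroup G) : Set G) :=
      Subgroup.zpowers_le.mpr hx.1 hn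
    have h2 := Subgroup.mul_mem _ ha (hN Q n hn' a⁻¹ (Subgroup.inv_mem _ ha))
    have h3 : a * n * a⁻¹ * n⁻¹ ∈ (P : Subgroup G) ⊓ (Q : Subgroup G) := by simpa [mul_assoc] using h2
    exact h3.1

end Cfsg.Agent.S4250
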