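import Cfsg.Statements.S4252
import Cfsg.Agent.Lib.Base.Transport

set_option autoImplicit false
open Cfsg

namespace Cfsg.Agent.S4252

open scoped Pointwise

/-- Let a finite group G act on a finite set Ω with more than one point, transitively but not regularly, so that no non-identity element of G fixes two distinct points. Then the stabilizer H of any point is a Frobenius complement in G (nontrivial, proper, meeting its other conjugates trivially), and the Frobenius kernel of G with respect to H (the identity together with the elements lying in no conjugate of H) is exactly the set consisting of the identity and the elements fixing no point. -/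
theorem result {G Ω : Type*} [Group G] [Finite G] [Fintype Ω] [MulAction G Ω] (hΩ : 1 < Fintype.card Ω)
    (htrans : ∀ α β : Ω, ∃ g : G, g • α = β) (hnreg : ∃ g : G, g ≠ 1 ∧ ∃ α : Ω, g • α = α)
    (hfix : ∀ g : G, g ≠ 1 → ∀ α β : Ω, g • α = α → g • β = β → α = β) (α : Ω) :
    Cfsg.IsFrobeniusComplement (MulAction.stabilizer G α) ∧
      Cfsg.frobeniusKernel (MulAction.stabilizer G α) = {g : G | g = 1 ∨ ∀ ω : Ω, g • ω ≠ ω} := by
  classical
  have hstab : ∀ g : G, MulAction.stabilizer G (g • α) = MulAut.conj g • MulAction.stabilizer G α := by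
    intro g
    rw [MulAction.stabilizer_smul_eq_stabilizer_map_conj, CfsgLib.Base.map_conj_eq_smul]
  refine ⟨⟨?_, ?_, fun g hg => ?_⟩, ?_⟩
  · obtain ⟨g, hg, β, hβ⟩ := hnreg
    obtain ⟨t, rfl⟩ := htrans α β
    intro hbot
    have : g ∈ MulAut.conj t • MulAction.stabilizer G α := hstab t ▸ MulAction.mem_stabilizer_iff.mpr hβ
    rw [hbot, Subgroup.smul_bot, Subgroup.mem_bot] at this
    exact hg this
  · intro htop
    obtain ⟨β, hβ⟩ := Fintype.exists_ne_of_one_lt_card hΩ α
    obtain ⟨t, rfl⟩ := htrans α β
    exact hβ (MulAction.mem_stabilizer_iff.mp (htop ▸ Subgroup.mem_top t))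
  · rw [← hstab g, Subgroup.eq_bot_iff_forall]
    rintro h ⟨h1, h2⟩
    by_contra hne
    exact hg (hfix h hne α (g • α) h1 h2).symm
  · ext g
    simp only [Cfsg.frobeniusKernel, Set.mem_setOf_eq]
    refine or_congr Iff.rfl ⟨fun h ω hω => ?_, fun h t ht => ?_⟩
    · obtain ⟨t, rfl⟩ := htrans α ω
      exact h t (hstab t ▸ MulAction.mem_stabilizer_iff.mpr hω)
    · rw [← hstab t] at ht
      exact h _ (MulAction.mem_stabilizer_iff.mp ht)

end Cfsg.Agent.S4252
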