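import Cfsg.Statements.S4255
import Cfsg.Agent.Lib.FgsC.DisconnectedClassGraph

set_option autoImplicit false
open Cfsg

namespace Cfsg.Agent.S4255

/-- Let G be a finite group. Call a prime a vertex if it divides some conjugacy class size of G, and two distinct vertices adjacent if their product divides some class size. Suppose this graph is disconnected: the vertices split into two nonempty parts with no vertex of one part adjacent to a vertex of the other. Then G/Z(G) is a Frobenius group with abelian Frobenius complement and with a Frobenius kernel all of whose elements commute. -/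
theorem result {G : Type*} [Group G] [Finite G] (S : Set ℕ) (hS : ∃ p ∈ S, (p.Prime ∧ ∃ g : G, p ∣ (Subgroup.centralizer ({g} : Set G)).index)) (hS' : ∃ q ∉ S, (q.Prime ∧ ∃ g : G, q ∣ (Subgroup.centralizer ({g} : Set G)).index))
    (hdisc : ∀ p q : ℕ, (p.Prime ∧ ∃ g : G, p ∣ (Subgroup.centralizer ({g} : Set G)).index) → (q.Prime ∧ ∃ g : G, q ∣ (Subgroup.centralizer ({g} : Set G)).index) → p ∈ S → q ∉ S → ¬ (∃ g : G, p * q ∣ (Subgroup.centralizer ({g} : Set G)).index)) :
    ∃ H : Subgroup (G ⧸ Subgroup.center G), Cfsg.IsFrobeniusComplement H ∧ IsMulCommutative H ∧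
      ∀ x ∈ Cfsg.frobeniusKernel H, ∀ y ∈ Cfsg.frobeniusKernel H, x * y = y * x := by
  obtain ⟨p, hpS, hp, a, ha⟩ := hS
  obtain ⟨q, hqS, hq, b, hb⟩ := hS'
  have hdich : ∀ g : G, CfsgLib.FgsC.DiscGraph.InS S (CfsgLib.FgsC.PrimeClasses.sz g) ∨
      CfsgLib.FgsC.DiscGraph.OutS S (CfsgLib.FgsC.PrimeClasses.sz g) := by
    intro g
    by_contra hc
    rw [not_or] at hc
    obtain ⟨h1, h2⟩ := hc
    simp only [CfsgLib.FgsC.DiscGraph.InS, CfsgLib.FgsC.DiscGraph.OutS, not_forall] at h1 h2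
    obtain ⟨r, hr, hrd, hrS⟩ := h1
    obtain ⟨s, hs, hsd, hsS⟩ := h2
    refine hdisc s r ⟨hs, g, hsd⟩ ⟨hr, g, hrd⟩ (not_not.1 hsS) hrS ⟨g, ?_⟩
    exact ((Nat.coprime_primes hs hr).2 (fun e => hrS (e ▸ not_not.1 hsS))).mul_dvd_of_dvd_of_dvd hsd hrd
  refine CfsgLib.FgsC.DiscGraph.main S hdich a b ?_ ?_ ?_ ?_
  · exact (hdich a).resolve_right fun h => h p hp ha hpS
  · exact fun e => hp.ne_one (Nat.dvd_one.1 (e ▸ ha))
  · exact (hdich b).resolve_left fun h => hqS (h q hq hb)
  · exact fun e => hq.ne_one (Nat.dvd_one.1 (e ▸ hb))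

end Cfsg.Agent.S4255
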