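import Cfsg.Statements.S4257
import Cfsg.Agent.Lib.FgsC.ClassGraphDiameter

set_option autoImplicit false
open Cfsg

namespace Cfsg.Agent.S4257

/-- Let G be a finite group. Call a prime a vertex if it divides some conjugacy class size of G, and two distinct vertices adjacent if their product divides some class size. If this graph is connected, then its diameter is at most 3: any two distinct vertices p and q are adjacent, or joined through one or two intermediate vertices. -/
theorem result {G : Type*} [Group G] [Finite G]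
    (hconn : ∀ S : Set ℕ, (∃ p ∈ S, (p.Prime ∧ ∃ g : G, p ∣ (Subgroup.centralizer ({g} : Set G)).index)) → (∃ q ∉ S, (q.Prime ∧ ∃ g : G, q ∣ (Subgroup.centralizer ({g} : Set G)).index)) →
      ∃ p q : ℕ, (p.Prime ∧ ∃ g : G, p ∣ (Subgroup.centralizer ({g} : Set G)).index) ∧ (q.Prime ∧ ∃ g : G, q ∣ (Subgroup.centralizer ({g} : Set G)).index) ∧ p ∈ S ∧ q ∉ S ∧ (∃ g : G, p * q ∣ (Subgroup.centralizer ({g} : Set G)).index))
    (p q : ℕ) (hp : (p.Prime ∧ ∃ g : G, p ∣ (Subgroup.centralizer ({g} : Set G)).index)) (hq : (q.Prime ∧ ∃ g : G, q ∣ (Subgroup.centralizer ({g} : Set G)).index)) (hpq : p ≠ q) :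
    (∃ g : G, p * q ∣ (Subgroup.centralizer ({g} : Set G)).index) ∨ (∃ r : ℕ, (r.Prime ∧ ∃ g : G, r ∣ (Subgroup.centralizer ({g} : Set G)).index) ∧ r ≠ p ∧ r ≠ q ∧ (∃ g : G, p * r ∣ (Subgroup.centralizer ({g} : Set G)).index) ∧ (∃ g : G, r * q ∣ (Subgroup.centralizer ({g} : Set G)).index)) ∨
      (∃ r s : ℕ, (r.Prime ∧ ∃ g : G, r ∣ (Subgroup.centralizer ({g} : Set G)).index) ∧ (s.Prime ∧ ∃ g : G, s ∣ (Subgroup.centralizer ({g} : Set G)).index) ∧ r ≠ p ∧ s ≠ q ∧ r ≠ s ∧ r ≠ q ∧ s ≠ p ∧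
        (∃ g : G, p * r ∣ (Subgroup.centralizer ({g} : Set G)).index) ∧ (∃ g : G, r * s ∣ (Subgroup.centralizer ({g} : Set G)).index) ∧ (∃ g : G, s * q ∣ (Subgroup.centralizer ({g} : Set G)).index)) := by
  classical
  obtain ⟨hpp, gp, hgp⟩ := hp
  obtain ⟨hqp, gq, hgq⟩ := hq
  by_contra hcon
  let V : ℕ → Prop := fun a => a.Prime ∧ ∃ g : G, a ∣ (Subgroup.centralizer ({g} : Set G)).index
  let D : ℕ → ℕ → Prop := fun a b => ∃ g : G,
    a ∣ (Subgroup.centralizer ({g} : Set G)).index ∧ b ∣ (Subgroup.centralizer ({g} : Set G)).index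
  have edge : ∀ a b : ℕ, a.Prime → b.Prime → a ≠ b → D a b →
      ∃ g : G, a * b ∣ (Subgroup.centralizer ({g} : Set G)).index := by
    rintro a b ha hb hab ⟨z, h1, h2⟩
    exact ⟨z, ((Nat.coprime_primes ha hb).2 hab).mul_dvd_of_dvd_of_dvd h1 h2⟩
  have hsep : ∀ x y w : G, p ∣ (Subgroup.centralizer ({x} : Set G)).index →
      q ∣ (Subgroup.centralizer ({y} : Set G)).index → ∀ t u : ℕ, t.Prime → u.Prime →
      t ∣ (Subgroup.centralizer ({x} : Set G)).index → u ∣ (Subgroup.centralizer ({y} : Set G)).index →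
      t ∣ (Subgroup.centralizer ({w} : Set G)).index → u ∣ (Subgroup.centralizer ({w} : Set G)).index →
      False := by
    intro x y w hx hy t u ht hu htx huy htw huw
    apply hcon
    have hpt : D p t := ⟨x, hx, htx⟩
    have htu : D t u := ⟨w, htw, huw⟩
    have huq : D u q := ⟨y, huy, hy⟩
    by_cases h1 : D p q
    · exact Or.inl (edge p q hpp hqp hpq h1)
    right
    have hup : u ≠ p := fun e => h1 (e ▸ huq)
    have htq : t ≠ q := fun e => h1 (e ▸ hpt)
    have htV : V t := ⟨ht, w, htw⟩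
    have huV : V u := ⟨hu, w, huw⟩
    by_cases h2 : D p u
    · have huq' : u ≠ q := fun e => h1 (e ▸ h2)
      exact Or.inl ⟨u, huV, hup, huq', edge p u hpp hu (Ne.symm hup) h2, edge u q hu hqp huq' huq⟩
    by_cases h3 : D t q
    · have htp : t ≠ p := fun e => h1 (e ▸ h3)
      exact Or.inl ⟨t, htV, htp, htq, edge p t hpp ht (Ne.symm htp) hpt, edge t q ht hqp htq h3⟩
    have htp : t ≠ p := fun e => h2 (e ▸ htu)
    have huq' : u ≠ q := fun e => h3 (e ▸ htu)
    have htu' : t ≠ u := fun e => h2 (e ▸ hpt)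
    exact Or.inr ⟨t, u, htV, huV, htp, huq', htu', htq, hup, edge p t hpp ht (Ne.symm htp) hpt,
      edge t u ht hu htu' htu, edge u q hu hqp huq' huq⟩
  -- the largest class sizes of either kind
  haveI : Fintype G := Fintype.ofFinite G
  obtain ⟨b, hb, hbmax⟩ := Set.exists_max_image
    {g : G | p ∣ (Subgroup.centralizer ({g} : Set G)).index}
    (fun g => (Subgroup.centralizer ({g} : Set G)).index) (Set.toFinite _) ⟨gp, hgp⟩
  obtain ⟨d, hd, hdmax⟩ := Set.exists_max_image
    {g : G | q ∣ (Subgroup.centralizer ({g} : Set G)).index}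
    (fun g => (Subgroup.centralizer ({g} : Set G)).index) (Set.toFinite _) ⟨gq, hgq⟩
  have hcop : ∀ t : ℕ, t.Prime → t ∣ (Subgroup.centralizer ({b} : Set G)).index →
      ¬ t ∣ (Subgroup.centralizer ({d} : Set G)).index :=
    fun t ht h1 h2 => hsep b d b hb hd t t ht ht h1 h2 h1 h1
  have hall : ∀ r : ℕ, r.Prime → ∀ g : G, r ∣ (Subgroup.centralizer ({g} : Set G)).index →
      r ∣ (Subgroup.centralizer ({b} : Set G)).index ∨ r ∣ (Subgroup.centralizer ({d} : Set G)).index := by
    rcases le_total (Subgroup.centralizer ({d} : Set G)).index (Subgroup.centralizer ({b} : Set G)).index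
      with hle | hle
    · exact Cfsg.FgsC.GraphDiameter.vertices p q hpp hqp b d hb hd
        (fun y hy => (hdmax y hy).trans hle) hsep
    · intro r hr g hg
      exact (Cfsg.FgsC.GraphDiameter.vertices q p hqp hpp d b hd hb
        (fun y hy => (hbmax y hy).trans hle)
        (fun x y w hx hy t u ht hu htx huy htw huw => hsep y x w hy hx u t hu ht huy htx huw htw)
        r hr g hg).symm
  obtain ⟨a, c, haV, hcV, haS, hcS, w, hw⟩ := hconn
    {r : ℕ | r ∣ (Subgroup.centralizer ({b} : Set G)).index}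
    ⟨p, hb, hpp, gp, hgp⟩ ⟨q, fun h => hcop q hqp h hd, hqp, gq, hgq⟩
  obtain ⟨hc, gc, hgc⟩ := hcV
  exact hsep b d w hb hd a c haV.1 hc haS ((hall c hc gc hgc).resolve_left hcS)
    ((dvd_mul_right a c).trans hw) ((dvd_mul_left c a).trans hw)

end Cfsg.Agent.S4257
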