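import Cfsg.Statements.S4261
import Cfsg.Agent.Lib.FgsC.Basic
import Cfsg.Agent.Lib.Transfer.NormalPComplement

set_option autoImplicit false
open Cfsg

namespace Cfsg.Agent.S4261

/-- Let M be a maximal subgroup of a finite solvable group G such that x^[G : M] lies in M for every x in G. Then M is normal in G. -/
theorem result {G : Type*} [Group G] [Finite G] (hG : Group.IsSolvable G) (M : Subgroup G) (hM : IsCoatom M)
    (hexp : ∀ x : G, x ^ M.index ∈ M) : M.Normal := by
  obtain ⟨q, k, hq, hk⟩ := CfsgLib.FgsC.exists_index_eq_prime_pow hG M hM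
  have := Fact.mk hq
  have hR : Cfsg.pResidual q G ≤ M := by
    rw [Cfsg.pResidual, Subgroup.closure_le]
    intro x hx
    have h2 : (orderOf x).Coprime M.index := hk ▸ Nat.Coprime.pow_right k hx
    obtain ⟨m, hm⟩ := exists_pow_eq_self_of_coprime h2.symm
    rw [← hm]
    exact M.pow_mem (hexp x) m
  have hn := CfsgLib.Transfer.pResidual_normal (p := q) (G := G)
  have hp := CfsgLib.Transfer.isPGroup_quotient_pResidual (p := q) (G := G)
  have hf : Function.Surjective (QuotientGroup.mk' (Cfsg.pResidual q G)) :=
    QuotientGroup.mk'_surjective _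
  have hMc : (M.map (QuotientGroup.mk' (Cfsg.pResidual q G))).comap
      (QuotientGroup.mk' (Cfsg.pResidual q G)) = M :=
    Subgroup.comap_map_eq_self (by simpa using hR)
  rw [← hMc]
  refine Subgroup.Normal.comap ?_ _
  have := hp.isNilpotent
  refine Subgroup.NormalizerCondition.normal_of_coatom _ Group.normalizerCondition_of_isNilpotent ⟨?_, ?_⟩
  · intro h
    apply hM.1
    rw [← hMc, h, Subgroup.comap_top]
  · intro K hK
    have h := hM.2 _ (hMc.symm.trans_lt ((Subgroup.comap_lt_comap_of_surjective hf).mpr hK))
    rw [← Subgroup.map_comap_eq_self_of_surjective hf K, h, Subgroup.map_top_of_surjective _ hf]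

end Cfsg.Agent.S4261
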