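import Cfsg.Statements.S4262
import Cfsg.Agent.Lib.FgsC.NilpotentMaximal

set_option autoImplicit false
open Cfsg

namespace Cfsg.Agent.S4262

open Subgroup

theorem isNilpotent_of_le {G : Type*} [Group G] {H K : Subgroup G} (hle : H ≤ K)
    (hK : Group.IsNilpotent K) : Group.IsNilpotent H :=
  CfsgLib.Base.isNilpotent_of_le hle hK

/-- The centralizer of a non-central element of prime-power order is nilpotent. -/
theorem nilpotent_centralizer {G : Type*} [Group G] [Finite G] {q : ℕ} [Fact q.Prime]
    (h : ∀ g : G, g ∉ Subgroup.center G → IsCoatom (Subgroup.centralizer ({g} : Set G)))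
    {x : G} (hxc : x ∉ Subgroup.center G) (hxo : ∃ k, orderOf x = q ^ k) :
    Group.IsNilpotent (centralizer ({x} : Set G)) := by
  set M := centralizer ({x} : Set G) with hM
  have hcentral : ∀ w ∈ M, Nat.Coprime (orderOf w) q → ∀ m ∈ M, m * w = w * m := by
    intro w hw hwo m hm
    have hxw : Commute x w := (mem_centralizer_singleton_iff.mp hw).symm
    obtain ⟨k, hk⟩ := hxo
    have hco : Nat.Coprime (orderOf x) (orderOf w) := by
      rw [hk]; exact (hwo.pow_right k).symm
    have hx' : x ∈ zpowers (x * w) := by
      obtain ⟨n, hn1, hn2⟩ := Nat.chineseRemainder hco 1 0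
      refine ⟨(n : ℤ), ?_⟩
      show (x * w) ^ (n : ℤ) = x
      rw [zpow_natCast, hxw.mul_pow, pow_eq_pow_iff_modEq.mpr hn1, pow_one,
        orderOf_dvd_iff_pow_eq_one.mp (Nat.modEq_zero_iff_dvd.mp hn2), mul_one]
    have hw' : w ∈ zpowers (x * w) := by
      have := mul_mem (inv_mem hx') (mem_zpowers (x * w))
      simpa using this
    have hnc : x * w ∉ center G := by
      intro hc
      exact hxc ((zpowers_le.mpr hc) hx')
    have hle : ∀ z ∈ zpowers (x * w),
        centralizer ({x * w} : Set G) ≤ centralizer ({z} : Set G) := by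
      intro z hz g hg
      obtain ⟨i, rfl⟩ := hz
      have : Commute g (x * w) := mem_centralizer_singleton_iff.mp hg
      exact mem_centralizer_singleton_iff.mpr (this.zpow_right i)
    have heq : centralizer ({x * w} : Set G) = M := by
      rcases eq_or_lt_of_le (hle x hx') with he | hlt
      · exact he
      · exact absurd ((h _ hnc).2 _ hlt) (h x hxc).1
    exact mem_centralizer_singleton_iff.mp (hle w hw' (heq.symm ▸ hm))
  refine Group.of_quotient_center_nilpotent ?_
  have hp : IsPGroup q (↥M ⧸ Subgroup.center ↥M) := by
    intro z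
    obtain ⟨g, rfl⟩ := QuotientGroup.mk_surjective z
    refine ⟨(orderOf (g : G)).factorization q, ?_⟩
    rw [← QuotientGroup.mk_pow, QuotientGroup.eq_one_iff, mem_center_iff]
    intro m
    apply Subtype.ext
    push_cast
    refine hcentral _ (pow_mem g.2 _) ?_ _ m.2
    refine Nat.Coprime.coprime_dvd_left ?_ (Nat.coprime_ordCompl (n := orderOf (g : G)) (p := q)
      Fact.out (orderOf_pos _).ne').symm
    rw [orderOf_pow' _ (pow_ne_zero _ (Nat.Prime.ne_zero Fact.out)),
      Nat.gcd_eq_right (Nat.ordProj_dvd _ _)]
  exact hp.isNilpotent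

/-- Let G be a finite group in which the centralizer of every non-central element is a maximal subgroup of G. Then G is solvable. -/
theorem result {G : Type*} [Group G] [Finite G]
    (h : ∀ g : G, g ∉ Subgroup.center G → IsCoatom (Subgroup.centralizer ({g} : Set G))) :
    Group.IsSolvable G := by
  haveI := CfsgLib.Base.fittingSubgroup_normal' G
  refine CfsgLib.FgsC.isSolvable_of_forall_hasNormalPComplement_quotient (Cfsg.fittingSubgroup G)
    (haveI := CfsgLib.Base.isNilpotent_fittingSubgroup G; inferInstance) fun q hq hq2 => ?_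
  by_cases hx : ∃ x : G, x ∉ center G ∧ (∃ k, orderOf x = q ^ k) ∧ ∃ P : Sylow q G,
      (P : Subgroup G) ≤ centralizer ({x} : Set G)
  · obtain ⟨x, hxc, hxo, P, hP⟩ := hx
    refine CfsgLib.FgsC.hasNormalPComplement_quotient_of_nilpotent_coatom hq2 (h x hxc)
      (nilpotent_centralizer h hxc hxo) P hP _ ?_
    exact CfsgLib.Base.le_fittingSubgroup (isNilpotent_of_le (normalCore_le _)
      (nilpotent_centralizer h hxc hxo))
  · -- every centralizer of a non-central `q`-element has a normal Sylow `q`-subgroup in `G`
    refine CfsgLib.Transfer.hasNormalPComplement_of_not_dvd ?_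
    rw [← index_eq_card]
    obtain ⟨S⟩ : Nonempty (Sylow q G) := inferInstance
    have hle : (S : Subgroup G) ≤ Cfsg.fittingSubgroup G := by
      intro y hy
      by_cases hyc : y ∈ center G
      · exact CfsgLib.Base.center_le_fittingSubgroup G hyc
      obtain ⟨k, hk⟩ := IsPGroup.iff_orderOf.mp S.2 ⟨y, hy⟩
      have hyo : ∃ k, orderOf y = q ^ k := ⟨k, by rwa [Subgroup.orderOf_mk] at hk⟩
      set M := centralizer ({y} : Set G) with hM
      haveI hMn : Group.IsNilpotent M := nilpotent_centralizer h hyc hyo
      obtain ⟨R⟩ : Nonempty (Sylow q M) := inferInstance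
      haveI hRn : (R : Subgroup M).Normal :=
        Sylow.normal_of_normalizerCondition Group.normalizerCondition_of_isNilpotent R
      set R' := (R : Subgroup M).map M.subtype with hR'
      have hR'p : IsPGroup q R' := R.2.map _
      have hMR : M ≤ normalizer (R' : Set G) := by
        refine (normal_subgroupOf_iff_le_normalizer (map_subtype_le _)).mp ?_
        rw [subgroupOf, comap_map_eq_self_of_injective M.subtype_injective]
        exact hRn
      have hyR : y ∈ R' := by
        have hyM : y ∈ M := mem_centralizer_singleton_iff.mpr rfl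
        have h1 : IsPGroup q (zpowers (⟨y, hyM⟩ : M)) := by
          obtain ⟨k, hk⟩ := hyo
          exact IsPGroup.of_card (n := k) (by rw [Nat.card_zpowers, Subgroup.orderOf_mk, hk])
        obtain ⟨R₂, hR₂⟩ := h1.exists_le_sylow
        haveI := Sylow.unique_of_normal R hRn
        rw [Subsingleton.elim R₂ R] at hR₂
        exact ⟨⟨y, hyM⟩, hR₂ (mem_zpowers _), rfl⟩
      rcases eq_or_lt_of_le hMR with he | hlt
      · exfalso
        -- `R'` is a Sylow subgroup of `G`
        obtain ⟨T, hT⟩ := hR'p.exists_le_sylow
        have hTR : (T : Subgroup G) ≤ R' := by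
          by_contra hc
          have hlt : R' < T := lt_of_le_not_ge hT hc
          haveI : Group.IsNilpotent (T : Subgroup G) := T.2.isNilpotent
          have hnc := Group.normalizerCondition_of_isNilpotent (G := (T : Subgroup G))
            (R'.subgroupOf T) (lt_top_iff_ne_top.mpr fun he' => hc (subgroupOf_eq_top.mp he'))
          obtain ⟨t, htn, htR⟩ := SetLike.exists_of_lt hnc
          have htM : (t : G) ∈ M := by
            rw [he]
            refine mem_normalizer_iff.mpr fun z => ?_
            constructor
            · intro hz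
              have := (mem_normalizer_iff.mp htn ⟨z, hT hz⟩).mp hz
              exact this
            · intro hz
              have hzT : z ∈ (T : Subgroup G) := by
                have := mul_mem (mul_mem (inv_mem t.2) (hT hz)) t.2
                simpa [mul_assoc] using this
              exact (mem_normalizer_iff.mp htn ⟨z, hzT⟩).mpr hz
          refine htR ?_
          rw [mem_subgroupOf]
          have h1 : IsPGroup q (zpowers (⟨(t : G), htM⟩ : M)) := by
            obtain ⟨k, hk⟩ := IsPGroup.iff_orderOf.mp T.2 t
            exact IsPGroup.of_card (n := k)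
              (by rw [Nat.card_zpowers, Subgroup.orderOf_mk, orderOf_coe, hk])
          obtain ⟨R₂, hR₂⟩ := h1.exists_le_sylow
          haveI := Sylow.unique_of_normal R hRn
          rw [Subsingleton.elim R₂ R] at hR₂
          exact ⟨⟨(t : G), htM⟩, hR₂ (mem_zpowers _), rfl⟩
        exact hx ⟨y, hyc, hyo, T, hTR.trans (map_subtype_le _)⟩
      · haveI : R'.Normal := normalizer_eq_top_iff.mp ((h y hyc).2 _ hlt)
        exact CfsgLib.Base.le_fittingSubgroup hR'p.isNilpotent hyR
    exact fun hd => S.not_dvd_index (hd.trans (index_dvd_of_le hle))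

end Cfsg.Agent.S4262
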