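import Cfsg.Statements.S4263
import Cfsg.Agent.Lib.Base.Fitting
import Cfsg.Agent.Lib.FgsC.Index

set_option autoImplicit false
open Cfsg

namespace Cfsg.Agent.S4263

/-- Let G be a finite group. An element x lies in the Fitting subgroup F(G) if and only if, for every subgroup H of G, the power x^[G : H] lies in H. -/
theorem result {G : Type*} [Group G] [Finite G] (x : G) :
    x ∈ Cfsg.fittingSubgroup G ↔ ∀ H : Subgroup G, x ^ H.index ∈ H := by
  constructor
  · intro hx H
    have hF := CfsgLib.Base.isNilpotent_fittingSubgroup G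
    have := CfsgLib.Base.fittingSubgroup_normal' G
    have hsn := CfsgLib.FgsC.isSubnormal_of_isNilpotent hF (H.subgroupOf (Cfsg.fittingSubgroup G))
    have h := CfsgLib.FgsC.pow_index_mem_of_isSubnormal hsn ⟨x, hx⟩
    rw [Subgroup.mem_subgroupOf, SubmonoidClass.coe_pow] at h
    obtain ⟨k, hk⟩ := CfsgLib.FgsC.relIndex_dvd_index H (Cfsg.fittingSubgroup G)
    rw [hk, pow_mul]
    exact H.pow_mem h k
  · intro h
    have hp : ∀ p : ℕ, p.Prime → ∃ m : ℕ, 0 < m ∧ ¬ p ∣ m ∧ x ^ m ∈ Cfsg.fittingSubgroup G := by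
      intro p hp
      have := Fact.mk hp
      obtain ⟨P⟩ := Sylow.nonempty (p := p) (G := G)
      refine ⟨(P : Subgroup G).index, Nat.pos_of_ne_zero Subgroup.index_ne_zero_of_finite,
        P.not_dvd_index, ?_⟩
      apply CfsgLib.Base.pCore_le_fittingSubgroup p G
      rw [CfsgLib.Base.pCore_eq_iInf_sylow, Subgroup.mem_iInf]
      intro Q
      have e : (P : Subgroup G).index = (Q : Subgroup G).index := by
        refine Nat.eq_of_mul_eq_mul_left (Nat.card_pos (α := (P : Subgroup G))) ?_
        rw [Subgroup.card_mul_index, Nat.card_congr (Sylow.equiv P Q).toEquiv, Subgroup.card_mul_index]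
      exact e ▸ h (Q : Subgroup G)
    let S : AddSubgroup ℤ :=
      { carrier := {n | x ^ n ∈ Cfsg.fittingSubgroup G}
        zero_mem' := by simp
        add_mem' := fun {a b} ha hb => by
          simp only [Set.mem_setOf_eq, zpow_add] at *
          exact Subgroup.mul_mem _ ha hb
        neg_mem' := fun {a} ha => by
          simp only [Set.mem_setOf_eq, zpow_neg] at *
          exact Subgroup.inv_mem _ ha }
    obtain ⟨d, hd⟩ := Int.subgroup_cyclic S
    have hd' : d.natAbs = 1 := by
      by_contra hne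
      obtain ⟨p, hp', hpd⟩ := Nat.exists_prime_and_dvd hne
      obtain ⟨m, -, hm, hmem⟩ := hp p hp'
      have : (m : ℤ) ∈ S := show x ^ (m : ℤ) ∈ _ by rwa [zpow_natCast]
      rw [hd, AddSubgroup.mem_closure_singleton] at this
      obtain ⟨k, hk⟩ := this
      refine hm (hpd.trans ?_)
      have h2 := congrArg Int.natAbs hk
      rw [smul_eq_mul, Int.natAbs_mul, Int.natAbs_natCast] at h2
      exact ⟨k.natAbs, by rw [← h2, mul_comm]⟩
    have h1 : (1 : ℤ) ∈ S := by
      rw [hd, AddSubgroup.mem_closure_singleton]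
      rcases Int.natAbs_eq_iff.mp hd' with rfl | rfl
      · exact ⟨1, by simp⟩
      · exact ⟨-1, by simp⟩
    simpa [S] using h1

end Cfsg.Agent.S4263
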