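import Cfsg.Statements.S4266
import Cfsg.Agent.Lib.FgsC.Sharp.Linear
import Cfsg.Agent.Lib.FgsC.Sharp.Reduce

set_option autoImplicit false
open Cfsg

namespace Cfsg.Agent.S4266

/-- Let p be a prime and G a finite solvable group whose order is divisible by p². Then G has at least 49p/60 conjugacy classes. -/
theorem result {G : Type*} [Group G] [Finite G] (hsolv : Group.IsSolvable G) (p : ℕ) [Fact p.Prime] (hp : p ^ 2 ∣ Nat.card G) : 49 * p ≤ 60 * Nat.card (ConjClasses G) := by
  have pp : p.Prime := Fact.out
  refine CfsgLib.Sharp.classes_bound_of_linear pp (fun X _ _ V _ _ _ _ n hn hcard hs hirr => ?_) G hsolv hp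
  rcases Nat.lt_or_ge p 11 with h | h
  · have h7 : p ≤ 7 := by
      by_contra h7
      interval_cases p <;> norm_num at pp
    exact CfsgLib.Sharp.linear_small pp h7 hn hcard hirr
  · exact CfsgLib.Sharp.linear_large pp h hn hcard hs hirr

end Cfsg.Agent.S4266
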