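import Cfsg.Statements.S4269
import Cfsg.Agent.Lib.Coprime.Action
import Cfsg.Agent.Lib.Base.Transport

set_option autoImplicit false
open Cfsg

namespace Cfsg.Agent.S4269

open scoped commutatorElement

/-- Let G be a finite group, V an abelian normal subgroup and H a subgroup with HV = G. Then H is pronormal in G (H and gHg⁻¹ are conjugate inside the subgroup they generate, for every g) if and only if every H-invariant subgroup U of V satisfies U = N_U(H)·[H, U], that is, U is the join of U ∩ N_G(H) and the commutator subgroup [H, U]. -/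
theorem result {G : Type*} [Group G] [Finite G]
    (V : Subgroup G) [V.Normal] (hV : IsMulCommutative ↥V) (H : Subgroup G) (hHV : H ⊔ V = ⊤) :
    Cfsg.IsPronormal H ↔
      ∀ U : Subgroup G, U ≤ V → (∀ h ∈ H, U.map (MulAut.conj h).toMonoidHom = U) →
        U = (U ⊓ Subgroup.normalizer (H : Set G)) ⊔ ⁅H, U⁆ := by
  classical
  have hVc : ∀ a ∈ V, ∀ b ∈ V, a * b = b * a := fun a ha b hb =>
    congrArg Subtype.val (hV.is_comm.comm (⟨a, ha⟩ : V) ⟨b, hb⟩)
  have hNV : H ≤ Subgroup.normalizer (V : Set G) := le_top.trans_eq (Subgroup.normalizer_eq_top V).symm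
  have hconj : ∀ a b : G, H.map (MulAut.conj (a * b)).toMonoidHom
      = (H.map (MulAut.conj b).toMonoidHom).map (MulAut.conj a).toMonoidHom := fun a b => by
    rw [Subgroup.map_map, map_mul]; rfl
  have hnor : ∀ a ∈ Subgroup.normalizer (H : Set G), H.map (MulAut.conj a).toMonoidHom = H :=
    fun a ha => CfsgLib.Base.map_conj_eq_self_iff.2 ha
  constructor
  · intro hp U hU hUinv
    have hHU : H ≤ Subgroup.normalizer (U : Set G) := fun h hh =>
      CfsgLib.Base.map_conj_eq_self_iff.1 (hUinv h hh)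
    have hle : ⁅H, U⁆ ≤ U := Subgroup.commutator_comm U H ▸
      CfsgLib.Coprime.commutator_le_of_le_normalizer hHU
    refine le_antisymm (fun u hu => ?_) (sup_le inf_le_left hle)
    obtain ⟨x, hx, he⟩ := hp u
    have hX : H ⊔ H.map (MulAut.conj u).toMonoidHom ≤ H ⊔ ⁅H, U⁆ := by
      refine sup_le le_sup_left ?_
      rintro _ ⟨h, hh, rfl⟩
      show u * h * u⁻¹ ∈ _
      rw [show u * h * u⁻¹ = h * ⁅h⁻¹, u⁆ by rw [commutatorElement_def]; group]
      exact Subgroup.mul_mem_sup hh (Subgroup.commutator_mem_commutator (H.inv_mem hh) hu)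
    have hHn : H ≤ Subgroup.normalizer ((⁅H, U⁆ : Subgroup G) : Set G) :=
      Subgroup.normalizer_commutator_ge_left H U
    obtain ⟨h, hh, w, hw, rfl⟩ := (CfsgLib.Coprime.mem_sup_iff_of_le_normalizer hHn).mp (hX hx)
    have hw' : h * w * h⁻¹ ∈ ⁅H, U⁆ := (Subgroup.mem_normalizer_iff.mp (hHn hh) w).mp hw
    rw [show h * w = h * w * h⁻¹ * h by group, hconj _ h, hnor h (Subgroup.le_normalizer hh)] at he
    set y := h * w * h⁻¹
    have hN : y⁻¹ * u ∈ Subgroup.normalizer (H : Set G) := by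
      rw [← CfsgLib.Base.map_conj_eq_self_iff, hconj, he, ← hconj, inv_mul_cancel, map_one]
      exact Subgroup.map_id H
    rw [show u = y * (y⁻¹ * u) by group]
    exact mul_mem (Subgroup.mem_sup_right hw') (Subgroup.mem_sup_left ⟨U.mul_mem (U.inv_mem (hle hw')) hu, hN⟩)
  · intro hU g
    obtain ⟨h₀, hh₀, v₀, hv₀, rfl⟩ := (CfsgLib.Coprime.mem_sup_iff_of_le_normalizer hNV).mp
      (hHV.symm ▸ Subgroup.mem_top g)
    set v := h₀ * v₀ * h₀⁻¹ with hv
    have hvV : v ∈ V := (inferInstance : V.Normal).conj_mem v₀ hv₀ h₀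
    have hg : H.map (MulAut.conj (h₀ * v₀)).toMonoidHom = H.map (MulAut.conj v).toMonoidHom := by
      rw [show h₀ * v₀ = v * h₀ by rw [hv]; group, hconj v h₀, hnor h₀ (Subgroup.le_normalizer hh₀)]
    rw [hg]
    set X := H ⊔ H.map (MulAut.conj v).toMonoidHom with hX
    set U := Subgroup.closure {u | ∃ k ∈ H, u = k * v * k⁻¹} with hUdef
    have hUV : U ≤ V := (Subgroup.closure_le _).mpr fun u ⟨k, _, e⟩ =>
      e ▸ (inferInstance : V.Normal).conj_mem v hvV k
    have hUinv : ∀ k ∈ H, U.map (MulAut.conj k).toMonoidHom = U := fun k hk => by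
      refine Subgroup.eq_of_le_of_card_ge ?_ (Subgroup.card_map_of_injective (MulAut.conj k).injective).ge
      rw [Subgroup.map_le_iff_le_comap, hUdef, Subgroup.closure_le]
      rintro _ ⟨l, hl, rfl⟩
      exact Subgroup.subset_closure ⟨k * l, H.mul_mem hk hl, by
        show k * (l * v * l⁻¹) * k⁻¹ = _
        group⟩
    let S : Subgroup G :=
      { carrier := {u | u ∈ V ∧ ∀ k ∈ H, ⁅k, u⁆ ∈ X}
        mul_mem' := by
          rintro a b ⟨ha, ha'⟩ ⟨hb, hb'⟩
          refine ⟨V.mul_mem ha hb, fun k hk => ?_⟩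
          have hcV : ⁅k, b⁆ ∈ V := by
            rw [commutatorElement_def]
            exact V.mul_mem ((inferInstance : V.Normal).conj_mem b hb k) (V.inv_mem hb)
          have hc : a * ⁅k, b⁆ * a⁻¹ = ⁅k, b⁆ := by rw [hVc a ha _ hcV, mul_inv_cancel_right]
          rw [show ⁅k, a * b⁆ = ⁅k, a⁆ * (a * ⁅k, b⁆ * a⁻¹) by simp only [commutatorElement_def]; group, hc]
          exact X.mul_mem (ha' k hk) (hb' k hk)
        one_mem' := ⟨V.one_mem, fun k _ => by rw [commutatorElement_one_right]; exact X.one_mem⟩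
        inv_mem' := by
          rintro a ⟨ha, ha'⟩
          refine ⟨V.inv_mem ha, fun k hk => ?_⟩
          have hcV : ⁅k, a⁆ ∈ V := by
            rw [commutatorElement_def]
            exact V.mul_mem ((inferInstance : V.Normal).conj_mem a ha k) (V.inv_mem ha)
          have hc : a⁻¹ * ⁅k, a⁆⁻¹ * a = ⁅k, a⁆⁻¹ := by
            rw [hVc _ (V.inv_mem ha) _ (V.inv_mem hcV), inv_mul_cancel_right]
          rw [show ⁅k, a⁻¹⁆ = a⁻¹ * ⁅k, a⁆⁻¹ * a by simp only [commutatorElement_def]; group, hc]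
          exact X.inv_mem (ha' k hk) }
    have hUS : U ≤ S := (Subgroup.closure_le _).mpr fun u ⟨l, hl, e⟩ => by
      refine ⟨e ▸ (inferInstance : V.Normal).conj_mem v hvV l, fun k hk => ?_⟩
      rw [e, show ⁅k, l * v * l⁻¹⁆ = l * ((l⁻¹ * k * l) * (v * (l⁻¹ * k * l)⁻¹ * v⁻¹)) * l⁻¹ by
        simp only [commutatorElement_def]; group]
      have hm : l⁻¹ * k * l ∈ H := H.mul_mem (H.mul_mem (H.inv_mem hl) hk) hl
      exact X.mul_mem (X.mul_mem (Subgroup.mem_sup_left hl) (X.mul_mem (Subgroup.mem_sup_left hm)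
        (Subgroup.mem_sup_right ⟨_, H.inv_mem hm, rfl⟩))) (Subgroup.mem_sup_left (H.inv_mem hl))
    have hcomm : ⁅H, U⁆ ≤ X := Subgroup.commutator_le.mpr fun k hk u hu => (hUS hu).2 k hk
    have hvU : v ∈ U := Subgroup.subset_closure ⟨1, H.one_mem, by group⟩
    rw [hU U hUV hUinv] at hvU
    have hleV : ⁅H, U⁆ ≤ V := Subgroup.commutator_le.mpr fun k _ u hu => by
      rw [commutatorElement_def]
      exact V.mul_mem ((inferInstance : V.Normal).conj_mem u (hUV hu) k) (V.inv_mem (hUV hu))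
    have hnc : U ⊓ Subgroup.normalizer (H : Set G) ≤ Subgroup.normalizer ((⁅H, U⁆ : Subgroup G) : Set G) :=
      fun c hc => Subgroup.centralizer_le_normalizer _ (Subgroup.mem_centralizer_iff.mpr fun w hw =>
        hVc w (hleV hw) c (hUV hc.1))
    obtain ⟨c, hc, w, hw, hcw⟩ := (CfsgLib.Coprime.mem_sup_iff_of_le_normalizer hnc).mp hvU
    refine ⟨w, hcomm hw, ?_⟩
    rw [← hcw, hVc c (hUV hc.1) w (hleV hw), hconj w c, hnor c hc.2]

end Cfsg.Agent.S4269
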