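import Cfsg.Statements.S4271
import Cfsg.Agent.Lib.FgsC.Pronormal

set_option autoImplicit false
open Cfsg

namespace Cfsg.Agent.S4271

/-- Let p be a prime and G a finite group with a normal subgroup A such that every subgroup of A containing a Sylow p-subgroup of A is pronormal in A, and the Sylow p-subgroups of G/A are self-normalizing. Let T be a Sylow p-subgroup of A. Then every subgroup of G containing a Sylow p-subgroup of G is pronormal in G if and only if every subgroup of N_G(T)/T containing a Sylow p-subgroup of N_G(T)/T is pronormal in N_G(T)/T. (Pronormal: H and gHg⁻¹ are conjugate inside the subgroup they generate, for every g.) -/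
theorem result {G : Type*} [Group G] [Finite G] {p : ℕ} [Fact p.Prime]
    (A : Subgroup G) [A.Normal] (hA : (∀ K : Subgroup ↥A, (∃ P : Sylow p ↥A, (P : Subgroup ↥A) ≤ K) → Cfsg.IsPronormal K))
    (hQ : ∀ P : Sylow p (G ⧸ A), Subgroup.normalizer ((P : Subgroup (G ⧸ A)) : Set (G ⧸ A)) = P)
    (T : Subgroup G) (hT : ∃ P : Sylow p ↥A, (P : Subgroup ↥A).map A.subtype = T) [(T.subgroupOf (Subgroup.normalizer (T : Set G))).Normal] :
    (∀ K : Subgroup G, (∃ P : Sylow p G, (P : Subgroup G) ≤ K) → Cfsg.IsPronormal K) ↔ (∀ K : Subgroup (↥(Subgroup.normalizer (T : Set G)) ⧸ T.subgroupOf (Subgroup.normalizer (T : Set G))), (∃ P : Sylow p (↥(Subgroup.normalizer (T : Set G)) ⧸ T.subgroupOf (Subgroup.normalizer (T : Set G))), (P : Subgroup (↥(Subgroup.normalizer (T : Set G)) ⧸ T.subgroupOf (Subgroup.normalizer (T : Set G)))) ≤ K) → Cfsg.IsPronormal K) := by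
  obtain ⟨P, hP⟩ := hT
  obtain ⟨S, hS⟩ := Cfsg.FgsC.Pronormal.exists_sylow_inf A P
  rw [hP] at hS
  constructor
  · exact fun hG K hK => Cfsg.FgsC.Pronormal.quot_of_all hG hS K hK
  · intro hN
    have hsn := Cfsg.FgsC.Pronormal.pronormal_of_sylow_self_normalizing hQ
    refine Cfsg.FgsC.Pronormal.all_of A hA (fun K hK => (hsn K hK).1) T ⟨P, hP⟩ hN ?_
    rintro K ⟨Q, hQK⟩
    have h := (hsn (K.map (QuotientGroup.mk' A)) (Cfsg.FgsC.Pronormal.exists_sylow_le fun hd =>
      Cfsg.FgsC.Pronormal.not_dvd_index hQK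
        (hd.trans (K.index_map_dvd (QuotientGroup.mk'_surjective A))))).2
    refine le_antisymm ?_ (h.trans_le (Subgroup.map_mono Subgroup.le_normalizer))
    rintro _ ⟨g, hg, rfl⟩
    rw [← Cfsg.FgsC.Pronormal.cj_eq_self_iff, ← Cfsg.FgsC.Pronormal.map_cj,
      Cfsg.FgsC.Pronormal.cj_eq_self_iff.2 hg]

end Cfsg.Agent.S4271
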