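import Cfsg.Statements.S4275
import Mathlib

set_option autoImplicit false
open Cfsg

namespace Cfsg.Agent.S4275

/-- Let G be a transitive group of permutations of a finite set Ω, let o ∈ Ω, and let α be an automorphism of G. Then α is induced by conjugation by a permutation of Ω normalizing G if and only if the image under α of the stabilizer of o fixes some point of Ω. -/
theorem result {Ω : Type*} [Fintype Ω] (G : Subgroup (Equiv.Perm Ω)) (htr : MulAction.IsPretransitive G Ω) (o : Ω) (α : G ≃* G) : (∃ σ : Equiv.Perm Ω, σ ∈ Subgroup.normalizer (G : Set (Equiv.Perm Ω)) ∧ ∀ g : G, ((α g : G) : Equiv.Perm Ω) = σ * (g : Equiv.Perm Ω) * σ⁻¹) ↔ ∃ ω : Ω, ∀ g ∈ (MulAction.stabilizer G o).map α.toMonoidHom, g • ω = ω := by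
  classical
  constructor
  · rintro ⟨σ, -, hσ⟩
    refine ⟨σ o, ?_⟩
    rintro _ ⟨g, hg, rfl⟩
    show ((α g : G) : Equiv.Perm Ω) (σ o) = σ o
    rw [hσ g]
    simp only [Equiv.Perm.mul_apply, Equiv.Perm.inv_def, Equiv.symm_apply_apply]
    exact congrArg σ hg
  · rintro ⟨ω, hω⟩
    have hex : ∀ x : Ω, ∃ g : G, g • o = x := fun x => htr.exists_smul_eq o x
    choose s hs using hex
    let f : Ω → Ω := fun x => α (s x) • ω
    have hf : ∀ g : G, f (g • o) = α g • ω := by
      intro g
      have hmem : g⁻¹ * s (g • o) ∈ MulAction.stabilizer G o := by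
        rw [MulAction.mem_stabilizer_iff, mul_smul, hs, inv_smul_smul]
      have := hω _ (Subgroup.mem_map_of_mem α.toMonoidHom hmem)
      rw [MulEquiv.coe_toMonoidHom, map_mul, map_inv, mul_smul, inv_smul_eq_iff] at this
      exact this
    have hsurj : Function.Surjective f := fun y => by
      obtain ⟨g, hg⟩ := htr.exists_smul_eq ω y
      exact ⟨α.symm g • o, by rw [hf, MulEquiv.apply_symm_apply, hg]⟩
    let σ : Equiv.Perm Ω := Equiv.ofBijective f (Finite.surjective_iff_bijective.mp hsurj)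
    have hσf : ∀ x, σ x = f x := fun x => rfl
    have hcomm : ∀ g : G, ((α g : G) : Equiv.Perm Ω) * σ = σ * (g : Equiv.Perm Ω) := by
      intro g
      refine Equiv.ext fun x => ?_
      obtain ⟨h, rfl⟩ := htr.exists_smul_eq o x
      show α g • σ (h • o) = σ (g • h • o)
      rw [hσf, hσf, hf, ← mul_smul g h, hf, map_mul, mul_smul]
    have hconj : ∀ g : G, ((α g : G) : Equiv.Perm Ω) = σ * (g : Equiv.Perm Ω) * σ⁻¹ := fun g => by
      rw [← hcomm, mul_inv_cancel_right]
    refine ⟨σ, Subgroup.mem_normalizer_iff.mpr fun x => ⟨fun hx => ?_, fun hx => ?_⟩, hconj⟩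
    · have := hconj ⟨x, hx⟩
      exact this ▸ (α ⟨x, hx⟩).2
    · have := hconj (α.symm ⟨_, hx⟩)
      rw [MulEquiv.apply_symm_apply] at this
      have hxe : (σ * x * σ⁻¹ : Equiv.Perm Ω) = σ * ((α.symm ⟨_, hx⟩ : G) : Equiv.Perm Ω) * σ⁻¹ := this
      rw [mul_left_inj, mul_right_inj] at hxe
      exact hxe ▸ (α.symm ⟨_, hx⟩).2

end Cfsg.Agent.S4275
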