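import Cfsg.Statements.S4277
import Cfsg.Agent.Lib.Techniques.PrimeDegreeAut

set_option autoImplicit false
open Cfsg

namespace Cfsg.Agent.S4277

/-- A case of the Schreier conjecture: if a finite simple group G has a subgroup of prime index, then the outer automorphism group of G is solvable. -/
theorem result {G : Type*} [Group G] [Finite G] [IsSimpleGroup G] (H : Subgroup G) (hH : H.index.Prime) : Group.IsSolvable (Cfsg.Out G) := by
  classical
  obtain ⟨p, hidx⟩ : ∃ p, H.index = p := ⟨_, rfl⟩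
  rw [hidx] at hH
  haveI := Fact.mk hH
  haveI := Fintype.ofFinite (G ⧸ H)
  have hcard : Fintype.card (G ⧸ H) = p := by
    rw [← Nat.card_eq_fintype_card, ← Subgroup.index_eq_card, hidx]
  have hHt : H ≠ ⊤ := fun e => hH.one_lt.ne' (by rw [← hidx, e, Subgroup.index_top])
  have hinj : Function.Injective (MulAction.toPermHom G (G ⧸ H)) := by
    rw [← MonoidHom.ker_eq_bot_iff, ← Subgroup.normalCore_eq_ker]
    rcases (inferInstance : H.normalCore.Normal).eq_bot_or_eq_top with h | h
    · exact h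
    · exact absurd (top_le_iff.mp (h ▸ H.normalCore_le)) hHt
  haveI : FaithfulSMul G (G ⧸ H) := ⟨fun {g₁ g₂} h => hinj (Equiv.ext h)⟩
  have hp2 : ¬ p ^ 2 ∣ Nat.card G := by
    intro hd
    have h1 : Nat.card G ∣ p.factorial := by
      have h := Subgroup.card_dvd_of_injective _ hinj
      rwa [Nat.card_eq_fintype_card (α := Equiv.Perm (G ⧸ H)), Fintype.card_perm, hcard] at h
    have h2 := hd.trans h1
    obtain ⟨k, hk⟩ : ∃ k, p = k + 1 := ⟨p - 1, by have := hH.pos; omega⟩
    rw [hk, Nat.factorial_succ, pow_two, ← hk] at h2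
    have h3 := hH.dvd_factorial.1 ((Nat.mul_dvd_mul_iff_left hH.pos).1 h2)
    omega
  have hpG : p ∣ Nat.card G := hidx ▸ Subgroup.index_dvd_card H
  obtain ⟨π, hπ⟩ := exists_prime_orderOf_dvd_card' (G := G) p hpG
  obtain ⟨P, hPle⟩ := (IsPGroup.of_card (p := p) (n := 1)
    (by rw [Nat.card_zpowers, hπ, pow_one] : Nat.card ↥(Subgroup.zpowers π) = p ^ 1)).exists_le_sylow
  have hP : (P : Subgroup G) = Subgroup.zpowers π := by
    obtain ⟨k, hk⟩ := P.2.exists_card_eq
    refine (Subgroup.eq_of_le_of_card_ge hPle ?_).symm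
    rw [Nat.card_zpowers, hπ, hk]
    rcases k with _ | _ | k
    · simp [hH.one_lt.le]
    · simp
    · exact absurd ((pow_dvd_pow p (by omega : 2 ≤ k + 2)).trans (hk ▸ Subgroup.card_subgroup_dvd_card _)) hp2
  set a : G ⧸ H := QuotientGroup.mk 1
  have hreg : ∀ ω : G ⧸ H, ∃ n, n < p ∧ π ^ n • a = ω := by
    have hinj' : Function.Injective fun k : Fin p => π ^ (k : ℕ) • a := by
      intro m n e
      have key : ∀ m n : Fin p, (m : ℕ) ≤ n → π ^ (m : ℕ) • a = π ^ (n : ℕ) • a → m = n := by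
        intro m n hmn e
        by_contra hne
        have hlt : 0 < (n : ℕ) - m ∧ (n : ℕ) - m < p := by
          have := n.2
          have : (m : ℕ) ≠ n := fun e => hne (Fin.ext e)
          omega
        have h1 : π ^ ((n : ℕ) - m) • a = a := by
          apply smul_left_cancel (π ^ (m : ℕ))
          rw [← mul_smul, ← pow_add, Nat.add_sub_cancel' hmn, e]
        have hcop : ((n : ℕ) - m).Coprime (orderOf π) := by
          rw [hπ, Nat.coprime_comm, hH.coprime_iff_not_dvd]
          intro hd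
          have := Nat.le_of_dvd hlt.1 hd
          omega
        obtain ⟨k, hk⟩ := exists_pow_eq_self_of_coprime hcop
        have hπa : π • a = a := by
          conv_lhs => rw [← hk]
          exact MulAction.mem_stabilizer_iff.1
            (pow_mem (MulAction.mem_stabilizer_iff.2 h1 : π ^ ((n : ℕ) - m) ∈ MulAction.stabilizer G a) k)
        have hπH : π ∈ H := by
          have h2 : ((π : G) : G ⧸ H) = ((1 : G) : G ⧸ H) := by simpa [a] using hπa
          rw [QuotientGroup.eq] at h2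
          simpa using inv_mem h2
        apply hp2
        rw [← Subgroup.card_mul_index H, hidx, pow_two]
        exact Nat.mul_dvd_mul_right (hπ ▸ Subgroup.orderOf_dvd_natCard H hπH) p
      rcases le_total (m : ℕ) n with h | h
      · exact key m n h e
      · exact (key n m h e.symm).symm
    intro ω
    obtain ⟨k, hk⟩ := ((Fintype.bijective_iff_injective_and_card _).2
      ⟨hinj', by rw [Fintype.card_fin, hcard]⟩).2 ω
    exact ⟨k, k.2, hk⟩
  let St : Subgroup (MulAut G) :=
    { carrier := {φ | Subgroup.map φ.toMonoidHom (Subgroup.zpowers π) = Subgroup.zpowers π}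
      one_mem' := by
        change Subgroup.map (MonoidHom.id G) (Subgroup.zpowers π) = _
        exact Subgroup.map_id _
      mul_mem' := fun {φ ψ} hφ hψ => by
        change Subgroup.map (φ.toMonoidHom.comp ψ.toMonoidHom) (Subgroup.zpowers π) = _
        rw [← Subgroup.map_map, hψ, hφ]
      inv_mem' := fun {φ} hφ => by
        change Subgroup.map φ.symm.toMonoidHom (Subgroup.zpowers π) = _
        conv_lhs => rw [← hφ]
        rw [Subgroup.map_map]
        convert Subgroup.map_id (Subgroup.zpowers π)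
        ext g
        simp }
  have hmv : ∀ φ : St, ∃ i : ℤ, (φ : MulAut G) π = π ^ i := by
    intro φ
    have h : (φ : MulAut G) π ∈ Subgroup.zpowers π :=
      φ.2 ▸ Subgroup.mem_map_of_mem _ (Subgroup.mem_zpowers π)
    obtain ⟨i, hi⟩ := Subgroup.mem_zpowers_iff.1 h
    exact ⟨i, hi.symm⟩
  let C : Subgroup St := (MulAction.stabilizer (MulAut G) π).subgroupOf St
  have hC : commutator St ≤ C := by
    rw [commutator_def, Subgroup.commutator_le]
    intro φ _ ψ _
    have key : ∀ φ ψ : St, (φ : MulAut G) ((ψ : MulAut G) π) = (ψ : MulAut G) ((φ : MulAut G) π) := by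
      intro φ ψ
      obtain ⟨i, hi⟩ := hmv φ
      obtain ⟨j, hj⟩ := hmv ψ
      rw [hi, hj, map_zpow, map_zpow, hi, hj, ← zpow_mul, ← zpow_mul, mul_comm]
    have h1 : ((φ * ψ : St) : MulAut G) • π = ((ψ * φ : St) : MulAut G) • π := key φ ψ
    rw [Subgroup.mem_subgroupOf, MulAction.mem_stabilizer_iff, commutatorElement_def,
      show φ * ψ * φ⁻¹ * ψ⁻¹ = (φ * ψ) * (ψ * φ)⁻¹ by group]
    simp only [Subgroup.coe_mul, Subgroup.coe_inv, mul_smul] at h1 ⊢
    rw [mul_inv_rev, mul_smul]
    have h2 : ((φ : MulAut G)⁻¹ • (ψ : MulAut G)⁻¹ • π) =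
        (φ : MulAut G)⁻¹ • (ψ : MulAut G)⁻¹ • (π : G) := rfl
    obtain ⟨z, hz⟩ : ∃ z, (ψ : MulAut G) • (φ : MulAut G) • z = π :=
      ⟨(φ : MulAut G)⁻¹ • (ψ : MulAut G)⁻¹ • π, by rw [smul_inv_smul, smul_inv_smul]⟩
    have hzmem : z ∈ Subgroup.zpowers π := by
      have e : z = ((φ⁻¹ * ψ⁻¹ : St) : MulAut G) π := by
        rw [← hz]
        change z = ((φ : MulAut G)⁻¹ * (ψ : MulAut G)⁻¹) • ((ψ : MulAut G) • (φ : MulAut G) • z)
        rw [mul_smul, inv_smul_smul, inv_smul_smul]
      obtain ⟨i, hi⟩ := hmv (φ⁻¹ * ψ⁻¹)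
      rw [e, hi]
      exact Subgroup.zpow_mem _ (Subgroup.mem_zpowers π) i
    obtain ⟨i, hi⟩ := Subgroup.mem_zpowers_iff.1 hzmem
    conv_lhs => rw [← hz, inv_smul_smul, inv_smul_smul, ← hi]
    conv_rhs => rw [← hz, ← hi]
    change (φ : MulAut G) ((ψ : MulAut G) (π ^ i)) = (ψ : MulAut G) ((φ : MulAut G) (π ^ i))
    rw [map_zpow, map_zpow, map_zpow, map_zpow, key φ ψ]
  have hsolv : Group.IsSolvable St := by
    refine ⟨⟨2, ?_⟩⟩
    rw [show derivedSeries St 2 = ⁅commutator St, commutator St⁆ by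
      rw [derivedSeries_succ, derivedSeries_one]]
    rw [eq_bot_iff, Subgroup.commutator_le]
    intro φ hφ ψ hψ
    rw [Subgroup.mem_bot, commutatorElement_eq_one_iff_mul_comm]
    have h1 : ((φ : St) : MulAut G) π = π := Subgroup.mem_subgroupOf.1 (hC hφ)
    have h2 : ((ψ : St) : MulAut G) π = π := Subgroup.mem_subgroupOf.1 (hC hψ)
    exact Subtype.ext (MulEquiv.ext fun g =>
      CfsgLib.Techniques.PrimeDegreeAut.commute_of_fix hp2 hcard π hπ a hreg _ _ h1 h2 g)
  refine solvable_of_surjective (f := (QuotientGroup.mk' (Cfsg.Inn G)).comp St.subtype) ?_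
  intro o
  obtain ⟨φ, rfl⟩ := QuotientGroup.mk_surjective o
  have hp' : IsPGroup p ↥(Subgroup.map φ.toMonoidHom (P : Subgroup G)) := P.2.map _
  obtain ⟨Q, hQ⟩ := hp'.exists_le_sylow
  obtain ⟨g, hg⟩ := MulAction.exists_smul_eq G Q P
  refine ⟨⟨MulAut.conj g * φ, ?_⟩, ?_⟩
  · change Subgroup.map (MulAut.conj g * φ).toMonoidHom (Subgroup.zpowers π) = Subgroup.zpowers π
    refine Subgroup.eq_of_le_of_card_ge ?_ (le_of_eq ?_)
    · rintro _ ⟨z, hz, rfl⟩
      suffices h : (MulAut.conj g * φ).toMonoidHom z ∈ ((g • Q : Sylow p G) : Subgroup G) by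
        rwa [hg, hP] at h
      exact ⟨φ z, hQ (Subgroup.mem_map_of_mem φ.toMonoidHom (hP ▸ hz)), rfl⟩
    · exact (Nat.card_congr (Subgroup.equivMapOfInjective _ _ (MulAut.conj g * φ).injective).toEquiv)
  · change QuotientGroup.mk (MulAut.conj g * φ) = QuotientGroup.mk φ
    rw [QuotientGroup.eq, mul_inv_rev, mul_assoc]
    exact (inferInstance : (Cfsg.Inn G).Normal).conj_mem' _ (inv_mem ⟨g, rfl⟩) φ

end Cfsg.Agent.S4277
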