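import Cfsg.Statements.S4279
import Cfsg.Agent.Lib.FgsC.G2InvolMain

set_option autoImplicit false
open Cfsg

namespace Cfsg.Agent.S4279

/-- In the Chevalley group G of type G₂ over a finite field F of odd order q, the centralizer of an involution t has order q²(q² − 1)² and contains two elementwise commuting subgroups, each isomorphic to SL(2, F), which meet exactly in the subgroup generated by t and whose join has index 2 in the centralizer. -/
theorem result {F : Type*} [Field F] [Fintype F] (hF : Odd (Fintype.card F)) (t : ↥(Cfsg.Lie.chevG2.group F)) (ht : orderOf t = 2) : Nat.card (Subgroup.centralizer ({t} : Set ↥(Cfsg.Lie.chevG2.group F))) = Fintype.card F ^ 2 * (Fintype.card F ^ 2 - 1) ^ 2 ∧ ∃ L₁ L₂ : Subgroup ↥(Cfsg.Lie.chevG2.group F), Nonempty (L₁ ≃* Matrix.SpecialLinearGroup (Fin 2) F) ∧ Nonempty (L₂ ≃* Matrix.SpecialLinearGroup (Fin 2) F) ∧ (∀ x ∈ L₁, ∀ y ∈ L₂, x * y = y * x) ∧ L₁ ⊓ L₂ = Subgroup.zpowers t ∧ L₁ ⊔ L₂ ≤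 Subgroup.centralizer ({t} : Set ↥(Cfsg.Lie.chevG2.group F)) ∧ (L₁ ⊔ L₂).relIndex (Subgroup.centralizer ({t} : Set ↥(Cfsg.Lie.chevG2.group F))) = 2 := by
  have h2 := CfsgLib.FgsC.G2Invol.two_ne_zero' hF
  obtain ⟨g, hg⟩ := CfsgLib.FgsC.G2Invol.isConj_zz h2 ht
  obtain ⟨hcard, L₁, L₂, ⟨e1⟩, ⟨e2⟩, hcomm, hinf, hle, hrel⟩ :=
    CfsgLib.FgsC.G2Invol.centralizer_zz_data (F := F) h2
  rw [← CfsgLib.FgsC.G2Invol.centralizer_zz h2] at hcard hle hrel
  have hinj : Function.Injective (MulAut.conj g).toMonoidHom := (MulAut.conj g).injective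
  have hmap : (Subgroup.centralizer ({CfsgLib.FgsC.G2Invol.zz} : Set ↥(Cfsg.Lie.chevG2.group F))).map
      (MulAut.conj g).toMonoidHom = Subgroup.centralizer ({t} : Set ↥(Cfsg.Lie.chevG2.group F)) := by
    subst hg
    ext w
    rw [Subgroup.mem_map, Subgroup.mem_centralizer_singleton_iff]
    constructor
    · rintro ⟨v, hv, rfl⟩
      rw [Subgroup.mem_centralizer_singleton_iff] at hv
      simp only [MulEquiv.coe_toMonoidHom, MulAut.conj_apply]
      calc g * v * g⁻¹ * (g * _ * g⁻¹) = g * (v * CfsgLib.FgsC.G2Invol.zz) * g⁻¹ := by group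
        _ = _ := by rw [hv]; group
    · intro h
      refine ⟨g⁻¹ * w * g, ?_, by simp only [MulEquiv.coe_toMonoidHom, MulAut.conj_apply]; group⟩
      rw [Subgroup.mem_centralizer_singleton_iff]
      calc g⁻¹ * w * g * CfsgLib.FgsC.G2Invol.zz
          = g⁻¹ * (w * (g * CfsgLib.FgsC.G2Invol.zz * g⁻¹)) * g := by group
        _ = _ := by rw [h]; group
  refine ⟨?_, L₁.map (MulAut.conj g).toMonoidHom, L₂.map (MulAut.conj g).toMonoidHom,
    ⟨((L₁.equivMapOfInjective _ hinj).symm).trans e1⟩,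
    ⟨((L₂.equivMapOfInjective _ hinj).symm).trans e2⟩, ?_, ?_, ?_, ?_⟩
  · rw [← hmap, ← Nat.card_congr (Subgroup.equivMapOfInjective _ _ hinj).toEquiv, hcard,
      Nat.card_eq_fintype_card]
  · rintro _ ⟨x, hx, rfl⟩ _ ⟨y, hy, rfl⟩
    rw [← map_mul, ← map_mul, hcomm x hx y hy]
  · rw [← Subgroup.map_inf _ _ _ hinj, hinf, MonoidHom.map_zpowers]
    simp [MulAut.conj_apply, hg]
  · rw [← Subgroup.map_sup, ← hmap]
    exact Subgroup.map_mono hle
  · rw [← Subgroup.map_sup, ← hmap, Subgroup.relIndex_map_map_of_injective _ _ hinj, hrel]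

end Cfsg.Agent.S4279
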