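import Cfsg.Statements.S4282
import Cfsg.Agent.Lib.FgsC.HallHigman

set_option autoImplicit false
open Cfsg

namespace Cfsg.Agent.S4282

open CfsgLib.FgsC.HallHigman

/-- A critical case behind the Hall–Higman theorem. Let p ≠ q be primes and G a finite group generated by a normal q-subgroup Q and a cyclic p-subgroup generated by x, such that the centralizer of every non-identity element of that cyclic subgroup is its product with the centre of G. Let K be an algebraically closed field of characteristic p and ρ a faithful representation of G on a nonzero finite-dimensional K-space whose restriction to Q is irreducible. If s is the least exponent with (ρ(x) − 1)^s = 0, then |⟨x⟩| − 1 ≤ s ≤ |⟨x⟩|; and if s = |⟨x⟩| − 1 then |⟨x⟩| − 1 is a power of q and Q is non-abelian. -/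
theorem result {G : Type*} [Group G] [Finite G] (p q : ℕ) [Fact p.Prime] [Fact q.Prime] (hpq : p ≠ q) (Q : Subgroup G) [Q.Normal] (hQ : IsPGroup q Q) (x : G) (hx : IsPGroup p (Subgroup.zpowers x)) (hgen : Q ⊔ Subgroup.zpowers x = ⊤) (hC : ∀ y ∈ Subgroup.zpowers x, y ≠ 1 → Subgroup.centralizer ({y} : Set G) = Subgroup.zpowers x ⊔ Subgroup.center G) {K : Type*} [Field K] [IsAlgClosed K] [CharP K p] {V : Type*} [AddCommGroup V] [Module K V] [FiniteDimensional K V] [Nontrivial V] (ρ : Representation K G V) (hfaith : Function.Injective ρ) (hirr : ∀ W : Submodule K V, (∀ g ∈ Q, Submodule.map (ρ g) W ≤ W) → W = ⊥ ∨ W = ⊤) (s : ℕ) (hs : (ρ x - 1) ^ s = 0) (hmin : ∀ k < s, (ρ x - 1) ^ k ≠ 0) : Nat.card (Subgroup.zpowers x) - 1 ≤ s ∧ s ≤ Nat.card (Subgroup.zpowers x) ∧ (s = Nat.card (Subgroup.zpowers x) - 1 → (∃ b : ℕ, Nat.card (Subgroup.zpowers x) - 1 = q ^ b) ∧ ¬ IsMulCommutative Q) := by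
  classical
  have hKP : CharP (Module.End K V) p :=
    charP_of_injective_algebraMap (algebraMap K (Module.End K V)).injective p
  obtain ⟨n, hn⟩ := IsPGroup.iff_card.mp hx
  rw [hn]
  have hxP : x ^ p ^ n = 1 := by
    rw [← hn, Nat.card_zpowers]
    exact pow_orderOf_eq_one x
  have hpow : (ρ x - 1) ^ p ^ n = 0 := by
    rw [sub_pow_char_pow_of_commute (R := Module.End K V) p n (Commute.one_right (ρ x)), one_pow,
      ← map_pow, hxP, map_one, sub_self]
  have hle : s ≤ p ^ n := not_lt.mp fun h => hmin _ h hpow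
  have hspos : 0 < s := by
    refine Nat.pos_of_ne_zero fun h => ?_
    rw [h, pow_zero] at hs
    exact one_ne_zero hs
  rcases Nat.eq_zero_or_pos n with hn0 | hnpos
  · subst hn0
    rw [pow_zero] at hle ⊢
    exact ⟨by omega, hle, fun h => absurd h (by omega)⟩
  have hirr' : IsIrredOn ρ Q := fun W hW => hirr W fun g hg => by
    rintro _ ⟨w, hw, rfl⟩
    exact hW g hg w hw
  have hfix : ∀ i, 0 < i → i < p ^ n → ∀ k ∈ Q, Commute k (x ^ i) → IsScalar ρ k := by
    intro i hi0 hilt k hk hki
    have hxi : x ^ i ≠ 1 := by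
      intro h
      have := Nat.le_of_dvd hi0 (orderOf_dvd_of_pow_eq_one h)
      rw [← Nat.card_zpowers, hn] at this
      omega
    have hmem : k ∈ Subgroup.centralizer ({x ^ i} : Set G) :=
      Subgroup.mem_centralizer_singleton_iff.mpr hki.eq
    rw [hC _ (Subgroup.pow_mem _ (Subgroup.mem_zpowers x) i) hxi,
      Subgroup.mem_sup_of_normal_right] at hmem
    obtain ⟨_, ⟨j, rfl⟩, z, hz, hkz⟩ := hmem
    obtain ⟨⟨c, hc⟩⟩ : Nonempty (∃ c, orderOf k = q ^ c) := by
      obtain ⟨c, hc⟩ := hQ ⟨k, hk⟩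
      obtain ⟨c', -, hc'⟩ := (Nat.dvd_prime_pow (Fact.out : q.Prime)).mp
        (orderOf_dvd_of_pow_eq_one (show k ^ q ^ c = 1 by simpa using congrArg Subtype.val hc))
      exact ⟨⟨c', hc'⟩⟩
    have hcop : (p ^ n).Coprime (q ^ c) := Nat.coprime_pow_primes n c Fact.out Fact.out hpq
    obtain ⟨m, hm1, hm2⟩ := Nat.chineseRemainder hcop 0 1
    have hkm : k ^ m = k := by
      conv_rhs => rw [← pow_one k]
      exact pow_eq_pow_iff_modEq.mpr (hc ▸ hm2)
    have hxm : (x ^ j) ^ m = 1 := by
      obtain ⟨d, rfl⟩ := Nat.modEq_zero_iff_dvd.mp hm1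
      rw [pow_mul, ← zpow_natCast (x ^ j), ← zpow_mul, mul_comm, zpow_mul, zpow_natCast, hxP,
        one_zpow, one_pow]
    have hkc : k ∈ Subgroup.center G := by
      have hcomm : Commute (x ^ j) z := Subgroup.mem_center_iff.mp hz (x ^ j)
      rw [← hkm, ← hkz]
      show (x ^ j * z) ^ m ∈ _
      rw [hcomm.mul_pow, hxm, one_mul]
      exact Subgroup.pow_mem _ hz m
    exact isScalar_of_commute hirr' fun g _ => by
      rw [← map_mul, ← map_mul, Subgroup.mem_center_iff.mp hkc g]
  have hns : ∃ k ∈ Q, ¬ IsScalar ρ k := by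
    by_contra hall
    push Not at hall
    obtain ⟨v, hv⟩ := exists_ne (0 : V)
    have htop : Submodule.span K {v} = ⊤ := (hirr' _ fun g hg w hw => by
      obtain ⟨a, ha⟩ := hall g hg
      rw [ha, LinearMap.smul_apply, Module.End.one_apply]
      exact Submodule.smul_mem _ a hw).resolve_left
        (fun h => hv (Submodule.span_singleton_eq_bot.mp h))
    obtain ⟨c, hc⟩ := Submodule.mem_span_singleton.mp
      (htop.symm ▸ Submodule.mem_top : ρ x v ∈ Submodule.span K {v})
    have hlam : ∀ i, ((ρ x - 1) ^ i) v = (c - 1) ^ i • v := by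
      intro i
      induction i with
      | zero => simp
      | succ i ih =>
        rw [pow_succ', Module.End.mul_apply, ih, map_smul, LinearMap.sub_apply,
          Module.End.one_apply, ← hc, pow_succ, mul_smul, sub_smul, one_smul]
    have hc1 : c = 1 := by
      have h := hlam s
      rw [hs, LinearMap.zero_apply, eq_comm, smul_eq_zero] at h
      exact sub_eq_zero.mp (pow_eq_zero_iff hspos.ne' |>.mp (h.resolve_right hv))
    rw [hc1, one_smul] at hc
    have hx1 : ρ x = 1 := LinearMap.ext fun w => by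
      obtain ⟨a, rfl⟩ := Submodule.mem_span_singleton.mp
        (htop.symm ▸ Submodule.mem_top : w ∈ Submodule.span K {v})
      rw [map_smul, ← hc, Module.End.one_apply]
    have : x = 1 := hfaith (hx1.trans (map_one ρ).symm)
    rw [this, Subgroup.zpowers_one_eq_bot, Subgroup.card_bot] at hn
    exact absurd hn.symm (Nat.one_lt_pow hnpos.ne' (Fact.out : p.Prime).one_lt).ne'
  rcases critical hpq hQ hirr' hnpos hxP hfix hns hs with h | ⟨h1, -, h3, a, ha, b, hb, hne⟩
  · refine ⟨by omega, hle, fun h' => absurd h ?_⟩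
    have := Nat.one_lt_pow hnpos.ne' (Fact.out : p.Prime).one_lt
    omega
  · refine ⟨h1, hle, fun _ => ⟨h3, fun hab => hne ?_⟩⟩
    rw [← map_mul, ← map_mul]
    exact congrArg ρ (congrArg Subtype.val (hab.is_comm.comm (⟨a, ha⟩ : Q) ⟨b, hb⟩))

end Cfsg.Agent.S4282
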