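import Cfsg.Statements.S4283
import Cfsg.Agent.Lib.Base.Frobenius
import Mathlib

set_option autoImplicit false
open Cfsg

namespace Cfsg.Agent.S4283

/-- Let G be a finite group with centre Z and let K, H be abelian subgroups of G containing Z such that G/Z is a Frobenius group with complement H/Z and kernel K/Z. Then the conjugacy class sizes of G are exactly 1, [G : K] and [G : H], and these two indices are coprime. (This is the converse half of the characterization of finite groups whose conjugacy class sizes are exactly 1, m and n with m and n coprime.) -/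
theorem result {G : Type*} [Group G] [Finite G] (K H : Subgroup G) (hZK : Subgroup.center G ≤ K) (hZH : Subgroup.center G ≤ H) (hK : IsMulCommutative K) (hH : IsMulCommutative H) (hFrob : Cfsg.IsFrobeniusComplement (H.map (QuotientGroup.mk' (Subgroup.center G)))) (hker : Cfsg.frobeniusKernel (H.map (QuotientGroup.mk' (Subgroup.center G))) = (K.map (QuotientGroup.mk' (Subgroup.center G)) : Set (G ⧸ Subgroup.center G))) : Set.range (fun x : G => (Subgroup.centralizer ({x} : Set G)).index) = ({1, K.index, H.index} : Set ℕ) ∧ K.index.Coprime H.index := by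
  classical
  set Z := Subgroup.center G with hZ
  set π := QuotientGroup.mk' Z with hπ
  have hsurj : Function.Surjective π := QuotientGroup.mk'_surjective Z
  have hmemK : ∀ y, π y ∈ K.map π → y ∈ K := fun y hy => by
    obtain ⟨a, ha, e⟩ := hy
    obtain ⟨z, hz, rfl⟩ := (QuotientGroup.mk'_eq_mk' Z).mp e
    exact K.mul_mem ha (hZK hz)
  have hmemH : ∀ y, π y ∈ H.map π → y ∈ H := fun y hy => by
    obtain ⟨a, ha, e⟩ := hy
    obtain ⟨z, hz, rfl⟩ := (QuotientGroup.mk'_eq_mk' Z).mp e
    exact H.mul_mem ha (hZH hz)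
  have hKi : (K.map π).index = K.index :=
    K.index_map_eq hsurj (by rw [hπ, QuotientGroup.ker_mk']; exact hZK)
  have hHi : (H.map π).index = H.index :=
    H.index_map_eq hsurj (by rw [hπ, QuotientGroup.ker_mk']; exact hZH)
  -- the centralizer of an element of the kernel lies in the kernel
  have hkerc : ∀ a ∈ K.map π, a ≠ 1 → ∀ b, b * a = a * b → b ∈ K.map π := by
    intro a ha ha1 b hb
    rw [← SetLike.mem_coe, ← hker] at ha ⊢
    rw [CfsgLib.Base.Frobenius.mem_frobeniusKernel_iff] at ha ⊢
    by_contra hcon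
    push Not at hcon
    obtain ⟨hb1, g, hg⟩ := hcon
    refine ha.resolve_left ha1 g ?_
    refine CfsgLib.Base.Frobenius.mem_of_commute hFrob hg (fun e => hb1 ?_) ?_
    · simpa [mul_assoc] using congrArg (fun t => g * t * g⁻¹) e
    · calc g⁻¹ * a * g * (g⁻¹ * b * g) = g⁻¹ * (a * b) * g := by group
        _ = g⁻¹ * (b * a) * g := by rw [hb]
        _ = g⁻¹ * b * g * (g⁻¹ * a * g) := by group
  have hcK : ∀ x ∈ K, x ∉ Z → Subgroup.centralizer ({x} : Set G) = K := by
    intro x hx hxZ
    refine le_antisymm (fun y hy => hmemK y ?_) fun y hy => ?_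
    · refine hkerc (π x) (Subgroup.mem_map_of_mem π hx) (fun e => hxZ ((QuotientGroup.eq_one_iff x).mp e)) _ ?_
      rw [← map_mul, ← map_mul, Subgroup.mem_centralizer_iff.mp hy x rfl]
    · rw [Subgroup.mem_centralizer_iff]
      rintro _ rfl
      exact congrArg Subtype.val (hK.is_comm.comm ⟨_, hx⟩ ⟨y, hy⟩)
  have hcH : ∀ x ∈ H, x ∉ Z → Subgroup.centralizer ({x} : Set G) = H := by
    intro x hx hxZ
    refine le_antisymm (fun y hy => hmemH y ?_) fun y hy => ?_
    · refine CfsgLib.Base.Frobenius.mem_of_commute hFrob (Subgroup.mem_map_of_mem π hx)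
        (fun e => hxZ ((QuotientGroup.eq_one_iff x).mp e)) ?_
      rw [← map_mul, ← map_mul, Subgroup.mem_centralizer_iff.mp hy x rfl]
    · rw [Subgroup.mem_centralizer_iff]
      rintro _ rfl
      exact congrArg Subtype.val (hH.is_comm.comm ⟨_, hx⟩ ⟨y, hy⟩)
  have hconj : ∀ g x : G, (Subgroup.centralizer ({g * x * g⁻¹} : Set G)).index =
      (Subgroup.centralizer ({x} : Set G)).index := by
    intro g x
    have e : Subgroup.centralizer ({g * x * g⁻¹} : Set G) =
        (Subgroup.centralizer ({x} : Set G)).map (MulAut.conj g).toMonoidHom := by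
      ext y
      rw [Subgroup.mem_map_equiv, Subgroup.mem_centralizer_iff, Subgroup.mem_centralizer_iff, MulAut.conj_symm_apply]
      simp only [Set.mem_singleton_iff, forall_eq]
      constructor
      · intro h
        calc x * (g⁻¹ * y * g) = g⁻¹ * (g * x * g⁻¹ * y) * g := by group
          _ = g⁻¹ * (y * (g * x * g⁻¹)) * g := by rw [h]
          _ = g⁻¹ * y * g * x := by group
      · intro h
        calc g * x * g⁻¹ * y = g * (x * (g⁻¹ * y * g)) * g⁻¹ := by group
          _ = g * (g⁻¹ * y * g * x) * g⁻¹ := by rw [h]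
          _ = y * (g * x * g⁻¹) := by group
    rw [e]
    exact Subgroup.index_map_of_bijective (f := (MulAut.conj g).toMonoidHom) (MulAut.conj g).bijective _
  refine ⟨Set.ext fun n => ⟨?_, ?_⟩, ?_⟩
  · rintro ⟨x, rfl⟩
    by_cases hxZ : x ∈ Z
    · refine Or.inl ?_
      rw [Subgroup.index_eq_one]
      exact Subgroup.centralizer_eq_top_iff_subset.mpr (Set.singleton_subset_iff.mpr hxZ)
    by_cases hxK : x ∈ K
    · exact Or.inr (Or.inl (by show Subgroup.index _ = _; rw [hcK x hxK hxZ]))
    have hnk : π x ∉ Cfsg.frobeniusKernel (H.map π) := by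
      rw [hker]; exact fun h => hxK (hmemK x h)
    rw [CfsgLib.Base.Frobenius.mem_frobeniusKernel_iff] at hnk
    push Not at hnk
    obtain ⟨-, a, ha⟩ := hnk
    obtain ⟨g, rfl⟩ := hsurj a
    rw [← map_inv, ← map_mul, ← map_mul] at ha
    have hH' := hmemH _ ha
    refine Or.inr (Or.inr (?_ : Subgroup.index _ = H.index))
    rw [show x = g * (g⁻¹ * x * g) * g⁻¹ by group, hconj, hcH _ hH' fun h => hxZ ?_]
    have := (Subgroup.center G).mul_mem h (one_mem _)
    have h2 : g⁻¹ * x * g = x := by
      have h3 := Subgroup.mem_center_iff.mp h g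
      have h4 : g⁻¹ * x * g * g⁻¹ = g⁻¹ * (g⁻¹ * x * g) := by
        rw [Subgroup.mem_center_iff.mp h g⁻¹]
      calc g⁻¹ * x * g = g * (g⁻¹ * x * g) * g⁻¹ := by rw [h3, mul_inv_cancel_right]
        _ = x := by group
    rwa [h2] at h
  · rintro (rfl | rfl | rfl)
    · exact ⟨1, by show Subgroup.index _ = _; rw [Subgroup.index_eq_one]; exact Subgroup.centralizer_eq_top_iff_subset.mpr (by simp)⟩
    · obtain ⟨x, hx, hxZ⟩ : ∃ x ∈ K, x ∉ Z := by
        by_contra hall
        push Not at hall
        have hbot : K.map π = ⊥ := (Subgroup.map_eq_bot_iff K).mpr (by rw [hπ, QuotientGroup.ker_mk']; exact hall)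
        have h1 := CfsgLib.Base.Frobenius.card_frobeniusKernel hFrob
        rw [hker] at h1
        have h2 : Nat.card (K.map π) = (H.map π).index := h1
        rw [hbot, Subgroup.card_bot, eq_comm, Subgroup.index_eq_one] at h2
        exact hFrob.2.1 h2
      exact ⟨x, by show Subgroup.index _ = _; rw [hcK x hx hxZ]⟩
    · obtain ⟨x, hx, hxZ⟩ : ∃ x ∈ H, x ∉ Z := by
        by_contra hall
        push Not at hall
        exact hFrob.1 ((Subgroup.map_eq_bot_iff H).mpr (by rw [hπ, QuotientGroup.ker_mk']; exact hall))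
      exact ⟨x, by show Subgroup.index _ = _; rw [hcH x hx hxZ]⟩
  · have hcop := CfsgLib.Base.Frobenius.coprime_card_index hFrob
    have h1 : Nat.card (K.map π) = (H.map π).index := by
      have h := CfsgLib.Base.Frobenius.card_frobeniusKernel hFrob
      rw [hker] at h
      exact h
    have h2 : (K.map π).index = Nat.card (H.map π) := by
      have a := (K.map π).index_mul_card
      have b := (H.map π).index_mul_card
      rw [h1, ← b, mul_comm (H.map π).index] at a
      exact Nat.eq_of_mul_eq_mul_right (Nat.pos_of_ne_zero Subgroup.index_ne_zero_of_finite) a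
    rw [← hKi, ← hHi, h2]
    exact hcop

end Cfsg.Agent.S4283
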