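import Cfsg.Statements.S4284
import Cfsg.Agent.Lib.CharApps.ClassSizes.ThreeStructure

set_option autoImplicit false
set_option linter.style.haveILetI false
open Cfsg
open scoped commutatorElement

namespace Cfsg.Agent.S4284

/-- Let G be a finite group with no nontrivial abelian direct factor whose conjugacy class sizes are exactly 1, m and m·n with m, n > 1 coprime. Then m is a prime p dividing n − 1; the elements whose class has size 1 or p form an abelian normal subgroup of index p; G has a normal p-complement; and the commutator subgroup of a Sylow p-subgroup of G has order p. -/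
theorem result {G : Type*} [Group G] [Finite G] (hnodf : ∀ A B : Subgroup G, A.Normal → B.Normal → A ⊓ B = ⊥ → A ⊔ B = ⊤ → IsMulCommutative A → A = ⊥) (m n : ℕ) (hm : 1 < m) (hn : 1 < n) (hcop : m.Coprime n) (h : Set.range (fun x : G => (Subgroup.centralizer ({x} : Set G)).index) = ({1, m, m * n} : Set ℕ)) : m.Prime ∧ m ∣ n - 1 ∧ (∃ M : Subgroup G, M.Normal ∧ (M : Set G) = {x : G | (Subgroup.centralizer ({x} : Set G)).index = 1 ∨ (Subgroup.centralizer ({x} : Set G)).index = m} ∧ M.index = m ∧ IsMulCommutative M) ∧ (∃ N : Subgroup G, N.Normal ∧ (Nat.card N).Coprime m ∧ ∃ a : ℕ, N.index = m ^ a) ∧ ∀ P : Sylow m G, Nat.card (commutator (P : Subgroup G)) = m := by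
  open CfsgLib.CharApps.ClassSizes in
  have hcases : ∀ g : G, g ∉ Subgroup.center G → idx g = m ∨ idx g = m * n := fun g hg => by
    have h1 : idx g ∈ ({1, m, m * n} : Set ℕ) := h ▸ ⟨g, rfl⟩
    rcases h1 with h1 | h1 | h1
    · exact absurd (idx_eq_one_iff.1 h1) hg
    · exact Or.inl h1
    · exact Or.inr h1
  have hex : ∀ k ∈ ({m, m * n} : Set ℕ), ∃ g : G, idx g = k := fun k hk => by
    have h1 : k ∈ Set.range fun x : G => (Subgroup.centralizer ({x} : Set G)).index :=
      h ▸ Or.inr hk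
    exact h1
  have S : Three G m n := ⟨hm, hn, hcop, hcases, hex m (Or.inl rfl), hex (m * n) (Or.inr rfl)⟩
  obtain ⟨x, H, hN, hp, hrelx, hout⟩ := S.structure_thm
  haveI := hN
  haveI := Fact.mk hp
  have hxZ : x ∉ Subgroup.center G := S.notMem_of_idx (Or.inl H.idx_x)
  have hidxM : (Subgroup.centralizer ({x} : Set G)).index = m := H.idx_x
  -- the normal complement
  let K : Subgroup G := Three.coprimePart H
  haveI hKn : K.Normal := ⟨fun a ha g => ⟨hN.conj_mem a ha.1 g, by
    have h1 := (MulAut.conj g).orderOf_eq a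
    rw [MulAut.conj_apply] at h1
    rw [h1]; exact ha.2⟩⟩
  have hKcop : (Nat.card K).Coprime m := by
    refine (Nat.Prime.coprime_iff_not_dvd hp).2 ?_ |>.symm
    intro hd
    obtain ⟨a, ha⟩ := exists_prime_orderOf_dvd_card' m hd
    have h1 : (orderOf (a : G)).Coprime m := a.2.2
    rw [Subgroup.orderOf_coe, ha, Nat.coprime_self] at h1
    exact hp.ne_one h1
  have hKprim : ∀ s : ℕ, s.Prime → s ≠ m → ∀ a ∈ Subgroup.centralizer ({x} : Set G),
      (∃ e, orderOf a = s ^ e) → a ∈ K := fun s hs hne a ha ⟨e, he⟩ =>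
    ⟨ha, by rw [he]; exact ((Nat.coprime_primes hs hp).2 hne).pow_left e⟩
  have hKidx : ∀ s : ℕ, s.Prime → s ∣ K.index → s = m := by
    intro s hs hsd
    by_contra hne
    haveI := Fact.mk hs
    obtain ⟨Q⟩ : Nonempty (Sylow s ↥(Subgroup.centralizer ({x} : Set G))) := inferInstance
    rw [← Subgroup.relIndex_mul_index (show K ≤ Subgroup.centralizer ({x} : Set G) from
      fun a ha => ha.1), hidxM] at hsd
    refine Q.not_dvd_index (((hs.dvd_mul.1 hsd).resolve_right fun hd =>
      hne ((Nat.prime_dvd_prime_iff_eq hs hp).1 hd)).trans (Subgroup.index_dvd_of_le fun a ha => ?_))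
    obtain ⟨e, he⟩ := (IsPGroup.iff_orderOf.1 Q.isPGroup') ⟨a, ha⟩
    rw [Subgroup.orderOf_mk, ← Subgroup.orderOf_coe] at he
    exact hKprim s hs hne a a.2 ⟨e, he⟩
  refine ⟨hp, ?_, ⟨Subgroup.centralizer ({x} : Set G), hN, ?_, hidxM,
    ⟨⟨fun a b => Subtype.ext (H.comm a a.2 b b.2).eq⟩⟩⟩,
    ⟨K, hKn, hKcop, _, Nat.eq_prime_pow_of_unique_prime_dvd Subgroup.index_ne_zero_of_finite
      fun hs hd => hKidx _ hs hd⟩, fun P => ?_⟩
  · -- `p ∣ n - 1`
    obtain ⟨P⟩ : Nonempty (Sylow m G) := inferInstance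
    obtain ⟨g, hgP, hgx⟩ : ∃ g ∈ P, g ∉ Subgroup.centralizer ({x} : Set G) := by
      by_contra hsub
      push Not at hsub
      exact P.not_dvd_index ((dvd_of_eq hidxM.symm).trans (Subgroup.index_dvd_of_le hsub))
    have h1 := dvd_relIndex_sub_one (CfsgLib.FgsB.exists_orderOf_eq_pow_of_mem P.isPGroup' hgP) K hKcop
      (fun k hk => hKn.conj_mem k hk g)
      (fun c hc => by
        by_contra hcZ
        exact hgx ((H.C_eq c hc.1.1 hcZ).le (mem_C.2 (mem_C.1 hc.2).symm)))
    have hr : (Subgroup.center G).relIndex K = n := by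
      have hle : K ⊔ Subgroup.center G ≤ Subgroup.centralizer ({x} : Set G) :=
        sup_le (fun a ha => ha.1) (center_le_C x)
      have h2 := Subgroup.relIndex_mul_relIndex _ _ _
        (le_sup_right : Subgroup.center G ≤ K ⊔ Subgroup.center G) hle
      rw [Subgroup.relIndex_sup_right, show (Subgroup.center G).relIndex
        (Subgroup.centralizer ({x} : Set G)) = m * n from hrelx] at h2
      have hcm : ((Subgroup.center G).relIndex K).Coprime m :=
        hKcop.coprime_dvd_left (Subgroup.relIndex_dvd_card _ _)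
      have hcn : ((K ⊔ Subgroup.center G).relIndex (Subgroup.centralizer ({x} : Set G))).Coprime n := by
        by_contra hnc
        obtain ⟨s, hs, hsd, hsn⟩ := Nat.Prime.not_coprime_iff_dvd.1 hnc
        have hd : s ∣ K.index := (hsd.trans
          (Subgroup.relIndex_dvd_of_le_left _ le_sup_left)).trans
          (Dvd.intro _ (Subgroup.relIndex_mul_index (fun a ha => ha.1)))
        exact S.not_dvd_n hs (dvd_of_eq (hKidx s hs hd)) hsn
      exact Nat.dvd_antisymm (hcm.dvd_of_dvd_mul_left (Dvd.intro _ h2))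
        (hcn.symm.dvd_of_dvd_mul_right (Dvd.intro_left m h2.symm))
    rwa [hr] at h1
  · -- the elements of class size `1` or `m`
    ext g
    constructor
    · intro hg
      by_cases hgZ : g ∈ Subgroup.center G
      · exact Or.inl (idx_eq_one_iff.2 hgZ)
      · exact Or.inr ((congrArg Subgroup.index (H.C_eq g hg hgZ)).trans hidxM)
    · rintro (hg | hg)
      · exact center_le_C x (idx_eq_one_iff.1 hg)
      · by_contra hgx
        exact hout g hgx hg
  · -- the derived subgroup of a Sylow `p`-subgroup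
    set M := Subgroup.centralizer ({x} : Set G) with hM
    obtain ⟨g, hgP, hgx⟩ : ∃ g ∈ P, g ∉ M := by
      by_contra hsub
      push Not at hsub
      exact P.not_dvd_index ((dvd_of_eq hidxM.symm).trans (Subgroup.index_dvd_of_le hsub))
    have hMP : M.relIndex (P : Subgroup G) = m := by
      have h1 : M.relIndex (P : Subgroup G) ∣ m :=
        (Subgroup.relIndex_dvd_index_of_normal _ _).trans (dvd_of_eq hidxM)
      exact ((Nat.dvd_prime hp).1 h1).resolve_left fun h2 => hgx
        ((Subgroup.relIndex_eq_one.1 h2) hgP)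
    have hnc : ¬ M ⊓ (P : Subgroup G) ≤ Subgroup.center G := by
      obtain ⟨u, hu, huo, huZ⟩ := S.exists_in_C hp dvd_rfl hxZ
      obtain ⟨k, hk⟩ := CfsgLib.FgsB.exists_conj_mem_sylow huo P
      intro hle
      have h1 : k⁻¹ * u * k ∈ Subgroup.center G :=
        hle (Subgroup.mem_inf.2 ⟨by simpa using hN.conj_mem u hu k⁻¹, hk⟩)
      exact huZ ((mem_center_conj (g := k⁻¹)).1 (by simpa using h1))
    obtain ⟨t, ht, htZ, htp, htc⟩ := exists_t P.isPGroup' (inf_le_right : M ⊓ (P : Subgroup G) ≤ P)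
      (fun g hg r hr => Subgroup.mem_inf.2
        ⟨hN.conj_mem r hr.1 g, mul_mem (mul_mem hg hr.2) (inv_mem hg)⟩) hnc
    generalize hz : g * t * g⁻¹ * t⁻¹ = z
    have hzZ : z ∈ Subgroup.center G := hz ▸ htc g hgP
    have hzP : z ∈ P := hz ▸ mul_mem (mul_mem (mul_mem hgP ht.2) (inv_mem hgP)) (inv_mem ht.2)
    have hzp : z ^ m = 1 := by
      have h1 : (g * t * g⁻¹) ^ m = t ^ m := by
        rw [conj_pow, Subgroup.mem_center_iff.1 htp g, mul_inv_cancel_right]
      rw [show g * t * g⁻¹ = z * t by rw [← hz]; group,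
        (show Commute z t from (Subgroup.mem_center_iff.1 hzZ t).symm).mul_pow] at h1
      exact mul_eq_right.1 h1
    have hz1 : z ≠ 1 := by
      intro h1
      rw [← hz, mul_inv_eq_one, mul_inv_eq_iff_eq_mul] at h1
      exact hgx ((H.C_eq t ht.1 htZ).le (mem_C.2 h1))
    -- `P₀ ≤ ⟨t⟩ Z`
    have hP0 : M ⊓ (P : Subgroup G) ≤ Subgroup.zpowers t ⊔ Subgroup.center G := by
      rw [← Subgroup.relIndex_eq_one]
      set W := Subgroup.zpowers t ⊔ Subgroup.center G
      obtain ⟨i, hi⟩ := IsPGroup.iff_card.1 (P.isPGroup'.to_le (inf_le_right : M ⊓ (P : Subgroup G) ≤ P))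
      have h1 : (Subgroup.center G).relIndex (M ⊓ (P : Subgroup G)) ∣ m := by
        obtain ⟨j, -, hj⟩ := (Nat.dvd_prime_pow hp).1
          (hi ▸ Subgroup.relIndex_dvd_card (Subgroup.center G) (M ⊓ (P : Subgroup G)))
        have h2 : (Subgroup.center G).relIndex (M ⊓ (P : Subgroup G)) ∣ m * n :=
          (relIndex_center_dvd inf_le_left).trans (dvd_of_eq hrelx)
        rw [hj] at h2 ⊢
        exact Nat.Coprime.dvd_of_dvd_mul_right (hcop.pow_left j) h2
      have h3 : W.relIndex (M ⊓ (P : Subgroup G)) ∣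
          (Subgroup.center G).relIndex (M ⊓ (P : Subgroup G)) :=
        Subgroup.relIndex_dvd_of_le_left _ le_sup_right
      rcases (Nat.dvd_prime hp).1 (h3.trans h1) with h4 | h4
      · exact h4
      · exfalso
        have h5 : (Subgroup.center G).relIndex (M ⊓ (P : Subgroup G)) = m :=
          Nat.dvd_antisymm h1 ((dvd_of_eq h4.symm).trans h3)
        have h6 : (W ⊓ (M ⊓ (P : Subgroup G))) ≤ Subgroup.center G := by
          have h7 := Subgroup.relIndex_mul_relIndex (Subgroup.center G ⊓ (M ⊓ (P : Subgroup G)))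
            (W ⊓ (M ⊓ (P : Subgroup G))) (M ⊓ (P : Subgroup G))
            (inf_le_inf_right _ le_sup_right) inf_le_right
          rw [Subgroup.inf_relIndex_right, Subgroup.inf_relIndex_right, h4, h5,
            Nat.mul_eq_right hp.ne_zero, Subgroup.relIndex_eq_one] at h7
          exact h7.trans inf_le_left
        exact htZ (h6 ⟨Subgroup.mem_sup_left (Subgroup.mem_zpowers t), ht⟩)
    -- the quotient by `⟨z⟩` is commutative
    let N : Subgroup ↥(P : Subgroup G) := Subgroup.zpowers ⟨z, hzP⟩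
    haveI : N.Normal := ⟨fun a ha b => by
      obtain ⟨i, rfl⟩ := Subgroup.mem_zpowers_iff.1 ha
      have h1 : Commute b (⟨z, hzP⟩ : ↥(P : Subgroup G)) :=
        Subtype.ext (Subgroup.mem_center_iff.1 hzZ b)
      rw [(h1.zpow_right i).eq, mul_inv_cancel_right]
      exact Subgroup.zpow_mem _ (Subgroup.mem_zpowers _) i⟩
    let f := QuotientGroup.mk' N
    have hfz : f ⟨z, hzP⟩ = 1 := (QuotientGroup.eq_one_iff _).2 (Subgroup.mem_zpowers _)
    have hfgt : Commute (f ⟨g, hgP⟩) (f ⟨t, ht.2⟩) := by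
      have h1 : (⟨g, hgP⟩ : ↥(P : Subgroup G)) * ⟨t, ht.2⟩ = ⟨z, hzP⟩ * (⟨t, ht.2⟩ * ⟨g, hgP⟩) :=
        Subtype.ext (by
          change g * t = z * (t * g)
          rw [← hz]; group)
      change f _ * f _ = f _ * f _
      rw [← map_mul, h1, map_mul, hfz, one_mul, map_mul]
    have hgen : ∀ a : ↥(P : Subgroup G), ∃ i j : ℕ, ∃ w : ↥(P : Subgroup G),
        (w : G) ∈ Subgroup.center G ∧ a = w * ⟨t, ht.2⟩ ^ j * ⟨g, hgP⟩ ^ i := by
      intro a
      haveI : (M.subgroupOf (P : Subgroup G)).Normal := inferInstance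
      haveI : IsCyclic (↥(P : Subgroup G) ⧸ M.subgroupOf (P : Subgroup G)) :=
        isCyclic_of_prime_card (p := m) hMP
      have hg1 : (QuotientGroup.mk ⟨g, hgP⟩ : ↥(P : Subgroup G) ⧸ M.subgroupOf (P : Subgroup G)) ≠ 1 :=
        fun h1 => hgx (Subgroup.mem_subgroupOf.1 ((QuotientGroup.eq_one_iff _).1 h1))
      have h2 : (QuotientGroup.mk a : ↥(P : Subgroup G) ⧸ M.subgroupOf (P : Subgroup G)) ∈
          Subgroup.zpowers (QuotientGroup.mk ⟨g, hgP⟩) :=
        mem_zpowers_of_prime_card (p := m) hMP hg1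
      obtain ⟨i, hi⟩ := mem_powers_iff_mem_zpowers.2 h2
      have h3 : a * ((⟨g, hgP⟩ : ↥(P : Subgroup G)) ^ i)⁻¹ ∈ M.subgroupOf (P : Subgroup G) := by
        rw [← QuotientGroup.eq_one_iff, QuotientGroup.mk_mul, QuotientGroup.mk_inv,
          QuotientGroup.mk_pow]
        simp only at hi
        rw [hi, mul_inv_cancel]
      have h4 := hP0 ⟨Subgroup.mem_subgroupOf.1 h3, (a * ((⟨g, hgP⟩ : ↥(P : Subgroup G)) ^ i)⁻¹).2⟩
      obtain ⟨b, hb, w, hw, hbw⟩ := Subgroup.mem_sup_of_normal_right.1 h4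
      obtain ⟨j, rfl⟩ := mem_powers_iff_mem_zpowers.2 hb
      have hwP : w ∈ P := by
        have e1 : w = (t ^ j)⁻¹ * (a * ((⟨g, hgP⟩ : ↥(P : Subgroup G)) ^ i)⁻¹ : ↥(P : Subgroup G)) := by
          rw [← hbw]; group
        rw [e1]
        exact mul_mem (inv_mem (pow_mem ht.2 j)) (Subtype.coe_prop _)
      refine ⟨i, j, ⟨w, hwP⟩, hw, ?_⟩
      rw [← mul_inv_eq_iff_eq_mul]
      refine Subtype.ext ?_
      rw [← hbw]
      exact Subgroup.mem_center_iff.1 hw _
    have hfw : ∀ w : ↥(P : Subgroup G), (w : G) ∈ Subgroup.center G → ∀ b, Commute (f w) b := by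
      intro w hw b
      obtain ⟨b, rfl⟩ := QuotientGroup.mk'_surjective N b
      exact ((show Commute w b from Subtype.ext (Subgroup.mem_center_iff.1 hw b).symm)).map f
    have hcommutative : ∀ a b : ↥(P : Subgroup G), Commute (f a) (f b) := by
      intro a b
      obtain ⟨i, j, w, hw, rfl⟩ := hgen a
      obtain ⟨i', j', w', hw', rfl⟩ := hgen b
      simp only [map_mul, map_pow]
      have c1 : ∀ k, Commute (f ⟨t, ht.2⟩ ^ k) (f ⟨g, hgP⟩ ^ i') := fun k =>
        (hfgt.symm.pow_left k).pow_right i'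
      have c2 : ∀ k, Commute (f ⟨g, hgP⟩ ^ k) (f ⟨t, ht.2⟩ ^ j') := fun k =>
        (hfgt.pow_left k).pow_right j'
      exact ((((hfw w hw _).mul_left (((hfw w' hw' _).symm.mul_right
        (Commute.pow_pow (Commute.refl _) _ _)).mul_right (c1 j))).mul_left
        (((hfw w' hw' _).symm.mul_right (c2 i)).mul_right (Commute.pow_pow (Commute.refl _) _ _))))
    have hle : commutator ↥(P : Subgroup G) ≤ N := by
      rw [commutator_eq_closure, Subgroup.closure_le]
      rintro _ ⟨a, b, rfl⟩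
      rw [SetLike.mem_coe, ← QuotientGroup.eq_one_iff]
      change f ⁅a, b⁆ = 1
      rw [map_commutatorElement]
      exact commutatorElement_eq_one_iff_commute.2 (hcommutative a b)
    have hzmem : (⟨z, hzP⟩ : ↥(P : Subgroup G)) ∈ commutator ↥(P : Subgroup G) := by
      have h1 : (⟨z, hzP⟩ : ↥(P : Subgroup G)) = ⁅(⟨g, hgP⟩ : ↥(P : Subgroup G)), ⟨t, ht.2⟩⁆ :=
        Subtype.ext hz.symm
      rw [h1, commutator_def]
      exact Subgroup.commutator_mem_commutator (Subgroup.mem_top _) (Subgroup.mem_top _)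
    rw [le_antisymm hle (Subgroup.zpowers_le.2 hzmem), Nat.card_zpowers]
    exact orderOf_eq_prime (Subtype.ext hzp) (fun h1 => hz1 (congrArg Subtype.val h1))

end Cfsg.Agent.S4284
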