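import Cfsg.Statements.S4292
import Cfsg.Agent.Lib.Perm.Zass.Apply

set_option autoImplicit false
open Cfsg

namespace Cfsg.Agent.S4292

/-- Let A and B be nontrivial finite groups. Then the direct product A × B occurs as a Frobenius complement if and only if A and B both occur as Frobenius complements and the orders of A and B are coprime. -/
theorem result {A B : Type*} [Group A] [Finite A] [Nontrivial A] [Group B] [Finite B] [Nontrivial B] :
    (∃ (L : Type) (_ : Group L) (_ : Finite L) (H : Subgroup L), Cfsg.IsFrobeniusComplement H ∧ Nonempty ((A × B) ≃* H)) ↔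
    ((∃ (L : Type) (_ : Group L) (_ : Finite L) (H : Subgroup L), Cfsg.IsFrobeniusComplement H ∧ Nonempty (A ≃* H)) ∧
     (∃ (L : Type) (_ : Group L) (_ : Finite L) (H : Subgroup L), Cfsg.IsFrobeniusComplement H ∧ Nonempty (B ≃* H)) ∧
     (Nat.card A).Coprime (Nat.card B)) := by
  constructor
  · intro h
    have hrep := CfsgLib.Perm.Zass.hasIntFpf_of_frobeniusComplement h
    refine ⟨(hrep.comap (MonoidHom.inl A B) (Prod.mk_left_injective _)).exists_frobenius,
      (hrep.comap (MonoidHom.inr A B) (Prod.mk_right_injective _)).exists_frobenius, ?_⟩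
    obtain ⟨n, ρ, hρ⟩ := hrep.exists_fpf (AlgebraicClosure ℚ)
    refine Nat.coprime_of_dvd fun p hp hpA hpB => ?_
    have := Fact.mk hp
    obtain ⟨a, ha⟩ := exists_prime_orderOf_dvd_card' p hpA
    obtain ⟨b, hb⟩ := exists_prime_orderOf_dvd_card' p hpB
    obtain ⟨i, hi⟩ := Subgroup.mem_zpowers_iff.1 (CfsgLib.Perm.Zass.mem_zpowers_of_commute hρ
      (z := ((1 : A), b)) (y := (a, (1 : B)))
      (Prod.ext (one_pow p) (by rw [Prod.pow_snd, ← hb]; exact pow_orderOf_eq_one b))
      (fun h0 => hp.one_lt.ne (by rw [← hb, show b = 1 from congrArg Prod.snd h0]; exact orderOf_one.symm))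
      (Prod.ext (by rw [Prod.pow_fst, ← ha]; exact pow_orderOf_eq_one a) (one_pow p))
      (Prod.ext (by simp) (by simp)))
    have h1 := congrArg Prod.fst hi
    simp at h1
    exact hp.one_lt.ne (by rw [← ha, ← h1, orderOf_one])
  · rintro ⟨hA, hB, hcop⟩
    exact ((CfsgLib.Perm.Zass.hasIntFpf_of_frobeniusComplement hA).prod
      (CfsgLib.Perm.Zass.hasIntFpf_of_frobeniusComplement hB) hcop).exists_frobenius

end Cfsg.Agent.S4292
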