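import Cfsg.Statements.S4293
import Cfsg.Agent.Lib.FgsC.Fpf

set_option autoImplicit false
open Cfsg

namespace Cfsg.Agent.S4293

/-- The regular representation of a finite group of units on its span. -/
theorem exists_rep {R : Type} [CommRing R] [IsDomain R] [IsPrincipalIdealRing R] {D : Type*} [DivisionRing D] [Algebra R D]
    [Module.IsTorsionFree R D] (H : Subgroup Dˣ) [Finite H] :
    ∃ d : ℕ, 0 < d ∧ ∃ ρ : H →* Matrix (Fin d) (Fin d) R, ∀ c : H, c ≠ 1 → (ρ c - 1).det ≠ 0 := by
  classical
  let V : Submodule R D := Submodule.span R (Set.range fun h : H => ((h : Dˣ) : D))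
  have : Module.Finite R V := Module.Finite.span_of_finite R (Set.finite_range _)
  have : Module.IsTorsionFree R V := inferInstance
  have : Module.Free R V := Module.free_of_finite_type_torsion_free'
  have h1 : (1 : D) ∈ V := Submodule.subset_span ⟨1, by simp⟩
  have : Nontrivial V := ⟨⟨⟨1, h1⟩, 0, fun h => one_ne_zero (congrArg Subtype.val h)⟩⟩
  let b := Module.finBasis R V
  have hmem : ∀ c : H, ∀ x ∈ V, ((c : Dˣ) : D) * x ∈ V := by
    intro c x hx
    have : V ≤ V.comap (LinearMap.mulLeft R ((c : Dˣ) : D)) := Submodule.span_le.mpr (by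
      rintro _ ⟨h, rfl⟩
      exact Submodule.subset_span ⟨c * h, by simp⟩)
    exact this hx
  let act : H →* Module.End R V :=
    { toFun := fun c : H => (LinearMap.mulLeft R ((c : Dˣ) : D)).restrict (hmem c)
      map_one' := LinearMap.ext fun x => Subtype.ext (by simp)
      map_mul' := fun a c => LinearMap.ext fun x => Subtype.ext (mul_assoc ((a : Dˣ) : D) ((c : Dˣ) : D) (x : D)) }
  refine ⟨_, Module.finrank_pos, (LinearMap.toMatrixAlgEquiv b).toMonoidHom.comp act, fun c hc h0 => ?_⟩
  have h0' : LinearMap.det (act c - 1) = 0 := by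
    rw [← LinearMap.det_toMatrix b, ← h0]
    congr 1
    simp only [MonoidHom.comp_apply]
    exact (map_sub (LinearMap.toMatrixAlgEquiv b) (act c) 1).trans (congrArg _ (map_one (LinearMap.toMatrixAlgEquiv b)))
  obtain ⟨x, hx, hx0⟩ := Submodule.exists_mem_ne_zero_of_ne_bot (LinearMap.bot_lt_ker_of_det_eq_zero h0').ne'
  have hx' : (((c : Dˣ) : D) - 1) * (x : D) = 0 := by
    have := congrArg Subtype.val (LinearMap.mem_ker.mp hx)
    rw [sub_mul, one_mul]
    exact this
  rcases mul_eq_zero.mp hx' with h | h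
  · exact hc (Subtype.ext (Units.ext (sub_eq_zero.mp h)))
  · exact hx0 (Subtype.ext h)

/-- A nontrivial finite subgroup of the multiplicative group of a division ring occurs as a Frobenius complement of some finite Frobenius group. -/
theorem result {D : Type*} [DivisionRing D] (H : Subgroup Dˣ) [Finite H] (hH : H ≠ ⊥) :
    ∃ (L : Type) (_ : Group L) (_ : Finite L) (C : Subgroup L), Cfsg.IsFrobeniusComplement C ∧ Nonempty (H ≃* C) := by
  classical
  have hnt : Nontrivial H := (Subgroup.nontrivial_iff_ne_bot H).mpr hH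
  obtain ⟨q, hq⟩ := CharP.exists D
  rcases CharP.char_is_prime_or_zero D q with hqp | rfl
  · have := Fact.mk hqp
    let _ : Algebra (ZMod q) D := ZMod.algebra D q
    obtain ⟨d, hd, ρ, hρ⟩ := exists_rep (R := ZMod q) H
    obtain ⟨L, i1, i2, C, h1, -, h3⟩ := CfsgLib.FgsC.exists_frobenius_of_matrix hd H ρ
      (fun c hc => isUnit_iff_ne_zero.mpr (hρ c hc))
    exact ⟨L, i1, i2, C, h1, h3⟩
  · have : CharZero D := CharP.charP_to_charZero D
    obtain ⟨d, hd, ρ, hρ⟩ := exists_rep (R := ℤ) H
    have := Fintype.ofFinite H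
    obtain ⟨ℓ, hℓ, hℓp⟩ := Nat.exists_infinite_primes ((Finset.univ.sup fun c : H => (ρ c - 1).det.natAbs) + 1)
    have := Fact.mk hℓp
    obtain ⟨L, i1, i2, C, h1, -, h3⟩ := CfsgLib.FgsC.exists_frobenius_of_matrix (R := ZMod ℓ) hd H
      ((Int.castRingHom (ZMod ℓ)).mapMatrix.toMonoidHom.comp ρ) (fun c hc => by
        have e : ((Int.castRingHom (ZMod ℓ)).mapMatrix.toMonoidHom.comp ρ) c - 1 =
            (Int.castRingHom (ZMod ℓ)).mapMatrix (ρ c - 1) := by
          rw [map_sub, map_one]; rfl
        rw [isUnit_iff_ne_zero, e, ← RingHom.map_det, eq_intCast, ne_eq,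
          ZMod.intCast_zmod_eq_zero_iff_dvd]
        intro hdvd
        have h1' := Nat.le_of_dvd (Int.natAbs_pos.mpr (hρ c hc)) (Int.natCast_dvd.mp hdvd)
        have h2' := Finset.le_sup (f := fun c : H => (ρ c - 1).det.natAbs) (Finset.mem_univ c)
        omega)
    exact ⟨L, i1, i2, C, h1, h3⟩

end Cfsg.Agent.S4293
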