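import Cfsg.Statements.S4294
import Cfsg.Agent.Lib.Perm.Zass.DivisionRing
import Cfsg.Agent.S4293

set_option autoImplicit false
open Cfsg

namespace Cfsg.Agent.S4294

/-- A finite non-solvable subgroup of the multiplicative group of a division ring is isomorphic to the binary icosahedral group SL(2,5). -/
theorem result {D : Type*} [DivisionRing D] (H : Subgroup Dˣ) [Finite H] (hH : ¬ Group.IsSolvable H) :
    Nonempty (H ≃* Matrix.SpecialLinearGroup (Fin 2) (ZMod 5)) := by
  classical
  obtain ⟨q, hq⟩ := CharP.exists D
  rcases CharP.char_is_prime_or_zero D q with hqp | rfl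
  · exfalso
    have := Fact.mk hqp
    let _ : Algebra (ZMod q) D := ZMod.algebra D q
    let V : Submodule (ZMod q) D := Submodule.span (ZMod q) (Set.range fun h : H => ((h : Dˣ) : D))
    have hVfg : Module.Finite (ZMod q) V := Module.Finite.span_of_finite _ (Set.finite_range _)
    have : Finite V := Module.finite_of_finite (ZMod q)
    have hmul : ∀ a b, a ∈ V → b ∈ V → a * b ∈ V := by
      intro a b ha hb
      have h := Submodule.mul_mem_mul ha hb
      rw [Submodule.span_mul_span] at h
      refine Submodule.span_le.2 ?_ h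
      rintro _ ⟨_, ⟨x, rfl⟩, _, ⟨y, rfl⟩, rfl⟩
      exact Submodule.subset_span ⟨x * y, by simp⟩
    let S : Subalgebra (ZMod q) D := Submodule.toSubalgebra V (Submodule.subset_span ⟨1, by simp⟩) hmul
    have : Finite S := ‹Finite V›
    have hF := Finite.isDomain_to_isField S
    apply hH
    exact Group.isSolvable_of_comm fun a b => Subtype.ext (Units.ext (congrArg Subtype.val
      (hF.mul_comm (⟨((a : Dˣ) : D), Submodule.subset_span ⟨a, rfl⟩⟩ : S)
        ⟨((b : Dˣ) : D), Submodule.subset_span ⟨b, rfl⟩⟩)))
  · have : CharZero D := CharP.charP_to_charZero D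
    exact CfsgLib.Perm.Zass.mulEquiv_SL_five_of_divisionRing H hH
      (Cfsg.Agent.S4293.exists_rep (R := ℤ) H)

end Cfsg.Agent.S4294
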