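import Cfsg.Statements.S4295
import Cfsg.Agent.Lib.FgsC.FrobeniusEven

set_option autoImplicit false
open Cfsg

namespace Cfsg.Agent.S4295

theorem exists_sq_add_sq (k : ℕ) (hk : Odd k) : ∃ a b : ZMod k, a ^ 2 + b ^ 2 = -1 := by
  obtain ⟨j, rfl⟩ := hk
  -- a residue congruent to 1 modulo 4 and to -1 modulo `2j+1`
  obtain ⟨r, hr4, hrk⟩ := Nat.chineseRemainder (show Nat.Coprime 4 (2 * j + 1) by
    rw [show (4 : ℕ) = 2 ^ 2 by norm_num]; exact Nat.Coprime.pow_left 2 (Nat.coprime_two_left.mpr ⟨j, rfl⟩)) 1 (2 * j)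
  have hc : r.Coprime (4 * (2 * j + 1)) := by
    refine Nat.Coprime.mul_right ?_ ?_
    · rw [Nat.Coprime, hr4.gcd_eq]; decide
    · rw [Nat.Coprime, hrk.gcd_eq]
      exact Nat.coprime_self_add_right.mpr (Nat.coprime_one_right _)
  obtain ⟨P, -, hP, hPm⟩ := Nat.forall_exists_prime_gt_and_modEq 0 (q := 4 * (2 * j + 1)) (by omega) hc
  have := Fact.mk hP
  have h4 : P % 4 = 1 := (hPm.of_mul_right _).trans hr4
  obtain ⟨a, b, hab⟩ := Nat.Prime.sq_add_sq (p := P) (by omega)
  refine ⟨a, b, ?_⟩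
  have h := (ZMod.natCast_eq_natCast_iff _ _ _).mpr ((hPm.of_mul_left _).trans hrk)
  rw [← hab] at h
  push_cast at h
  rw [h, eq_neg_iff_add_eq_zero]
  exact_mod_cast ZMod.natCast_self (2 * j + 1)

variable {k : ℕ}

/-- The eight matrices. -/
def mat (a b : ZMod k) : QuaternionGroup 2 → Matrix (Fin 2) (Fin 2) (ZMod k)
  | .a i => !![0, -1; 1, 0] ^ i.val
  | .xa i => !![a, b; b, -a] * !![0, -1; 1, 0] ^ i.val

theorem mat_mul (a b : ZMod k) (hab : a ^ 2 + b ^ 2 = -1) (x y : QuaternionGroup 2) :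
    mat a b (x * y) = mat a b x * mat a b y := by
  set I : Matrix (Fin 2) (Fin 2) (ZMod k) := !![0, -1; 1, 0] with hI
  set J : Matrix (Fin 2) (Fin 2) (ZMod k) := !![a, b; b, -a] with hJ
  have hI4 : I ^ 4 = 1 := by
    rw [hI, pow_succ, pow_succ, pow_two, Matrix.one_fin_two]
    simp
  have hIJ : I * J = J * I ^ 3 := by
    rw [hI, hJ, pow_succ, pow_two]
    simp
  have hJJ : J * J = I ^ 2 := by
    rw [hI, hJ, pow_two, Matrix.mul_fin_two, Matrix.mul_fin_two]
    ext i j
    fin_cases i <;> fin_cases j <;> simp <;> first | linear_combination hab | linear_combination -hab | ring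
  have red : ∀ m : ℕ, I ^ m = I ^ (m % 4) := fun m => by
    conv_lhs => rw [← Nat.div_add_mod m 4, pow_add, pow_mul, hI4, one_pow, one_mul]
  have sw : ∀ m : ℕ, I ^ m * J = J * I ^ (3 * m) := fun m => by
    induction m with
    | zero => simp
    | succ m ih => rw [pow_succ, mul_assoc, hIJ, ← mul_assoc, ih, mul_assoc, ← pow_add]; rfl
  rcases x with i | i <;> rcases y with j | j
  · rw [QuaternionGroup.a_mul_a]
    show I ^ (i + j).val = I ^ i.val * I ^ j.val
    rw [← pow_add, red (i.val + j.val), ZMod.val_add]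
  · rw [QuaternionGroup.a_mul_xa]
    show J * I ^ (j - i).val = I ^ i.val * (J * I ^ j.val)
    rw [← mul_assoc, sw, mul_assoc, ← pow_add, red (3 * i.val + j.val)]
    have : ∀ i j : ZMod (2 * 2), (3 * i.val + j.val) % 4 = (j - i).val := by decide
    rw [this]
  · rw [QuaternionGroup.xa_mul_a]
    show J * I ^ (i + j).val = J * I ^ i.val * I ^ j.val
    rw [mul_assoc, ← pow_add, red (i.val + j.val), ZMod.val_add]
  · rw [QuaternionGroup.xa_mul_xa]
    show I ^ (((2 : ℕ) : ZMod (2 * 2)) + j - i).val = J * I ^ i.val * (J * I ^ j.val)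
    rw [mul_assoc, ← mul_assoc (I ^ i.val), sw, ← mul_assoc, ← mul_assoc, hJJ, ← pow_add, ← pow_add,
      red (2 + 3 * i.val + j.val)]
    have : ∀ i j : ZMod (2 * 2), (2 + 3 * i.val + j.val) % 4 = (((2 : ℕ) : ZMod (2 * 2)) + j - i).val := by decide
    rw [this]

noncomputable def rep (a b : ZMod k) (hab : a ^ 2 + b ^ 2 = -1) :
    QuaternionGroup 2 →* Matrix (Fin 2) (Fin 2) (ZMod k) where
  toFun := mat a b
  map_one' := by show mat a b (.a 0) = 1; simp [mat]
  map_mul' := mat_mul a b hab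

theorem rep_fpf (a b : ZMod k) (hab : a ^ 2 + b ^ 2 = -1) (hk : Odd k) (c : QuaternionGroup 2) (hc : c ≠ 1) :
    IsUnit (rep a b hab c - 1).det := by
  have h2 : IsUnit (2 : ZMod k) := by
    rw [show (2 : ZMod k) = ((2 : ℕ) : ZMod k) by norm_num]
    exact (ZMod.isUnit_iff_coprime 2 k).mpr (Nat.coprime_two_left.mpr hk)
  show IsUnit (mat a b c - 1).det
  rcases c with i | i
  · fin_cases i
    · exact absurd rfl hc
    all_goals
      simp only [mat]
      first
        | (convert h2 using 1; simp [Matrix.det_fin_two, ZMod.val, pow_succ] <;> norm_num; done)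
        | (convert h2.mul h2 using 1; simp [Matrix.det_fin_two, ZMod.val, pow_succ] <;> norm_num; done)
  · fin_cases i
    all_goals
      simp only [mat]
      convert h2 using 1
      simp [Matrix.det_fin_two, ZMod.val, pow_succ]
      linear_combination -hab

/-- For a natural number m the following are equivalent: (a) some finite group has a Frobenius complement isomorphic to the quaternion group of order 8 whose Frobenius kernel (the identity together with the elements lying in no conjugate of the complement) has exactly m elements; (b) m is an odd perfect square greater than 1. -/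
theorem result (m : ℕ) :
    (∃ (L : Type) (_ : Group L) (_ : Finite L) (H : Subgroup L), Cfsg.IsFrobeniusComplement H ∧
        Nonempty (H ≃* QuaternionGroup 2) ∧ Nat.card (Cfsg.frobeniusKernel H) = m) ↔
    (Odd m ∧ IsSquare m ∧ 1 < m) := by
  classical
  constructor
  · rintro ⟨L, _, _, H, hF, ⟨e⟩, hm⟩
    obtain ⟨N, hN, hk, hidx, hne, hfpf⟩ := CfsgLib.FgsC.exists_kernel H hF
    let f : QuaternionGroup 2 →* L := H.subtype.comp e.symm.toMonoidHom
    have hf : Function.Injective f := H.subtype_injective.comp e.symm.injective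
    have huv : f (QuaternionGroup.xa 0) * f (QuaternionGroup.a 1) =
        f (QuaternionGroup.a 1) * f (QuaternionGroup.xa 0) * f (QuaternionGroup.a 2) := by
      simp only [← map_mul]
      congr 1
    obtain ⟨ho, hs⟩ := CfsgLib.FgsC.isSquare_of_pair H N hfpf (w := f (QuaternionGroup.a 2))
      (e.symm (QuaternionGroup.a 2)).2 (by rw [← map_pow, ← map_one f]; congr 1)
      (by rw [← map_one f]; exact fun h => absurd (hf h) (by decide)) huv
    rw [← hk, hm] at ho hs
    refine ⟨ho, hs, ?_⟩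
    rw [← hm, hk]
    exact (Subgroup.one_lt_card_iff_ne_bot N).mpr hne
  · rintro ⟨hodd, ⟨k, rfl⟩, h1⟩
    have hk : 1 < k := by
      rcases k with _ | _ | k <;> simp_all
    have : NeZero k := ⟨by omega⟩
    have : Fact (1 < k) := ⟨hk⟩
    have hkodd : Odd k := (Nat.odd_mul.mp hodd).1
    obtain ⟨a, b, hab⟩ := exists_sq_add_sq k hkodd
    obtain ⟨L, i1, i2, H, hF, hidx, ⟨h3⟩⟩ := CfsgLib.FgsC.exists_frobenius_of_matrix (R := ZMod k) Nat.two_pos
      (QuaternionGroup 2) (rep a b hab) (fun c hc => rep_fpf a b hab hkodd c hc)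
    refine ⟨L, i1, i2, H, hF, ⟨h3.symm⟩, ?_⟩
    obtain ⟨N, hN, hkc, hi, -, -⟩ := CfsgLib.FgsC.exists_kernel H hF
    rw [hkc, hi, hidx, Nat.card_zmod, pow_two]

end Cfsg.Agent.S4295
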