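import Cfsg.Statements.S4296
import Cfsg.Agent.Lib.FgsC.FrobeniusEven
import Cfsg.Agent.Lib.PGroups.UniqueOrderP
import Cfsg.Agent.Lib.Coprime.Action2

set_option autoImplicit false
open Cfsg

namespace Cfsg.Agent.S4296

/-- An element of order `p` acting on a group of order divisible by `p` fixes a nontrivial element. -/
theorem exists_fixed {L : Type*} [Group L] [Finite L] {p : ℕ} [Fact p.Prime] (N : Subgroup L) [N.Normal]
    (c : L) (hc : c ^ p = 1) (hn : ∃ n : N, orderOf n = p) :
    ∃ m : N, c * (m : L) * c⁻¹ = m ∧ m ≠ 1 := by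
  have hp : p.Prime := Fact.out
  have hC : IsPGroup p (Subgroup.zpowers c) := by
    intro x
    obtain ⟨_, k, rfl⟩ := x
    refine ⟨1, Subtype.ext ?_⟩
    rw [SubmonoidClass.coe_pow, pow_one, OneMemClass.coe_one]
    rw [← zpow_natCast, ← zpow_mul, mul_comm, zpow_mul, zpow_natCast, hc, one_zpow]
  let act : MulAction (Subgroup.zpowers c) N := MulAction.compHom N ((MulAut.conjNormal (H := N)).comp (Subgroup.zpowers c).subtype)
  have h1 : p ∣ Nat.card N := by
    obtain ⟨n, hn⟩ := hn
    exact hn ▸ orderOf_dvd_natCard n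
  obtain ⟨m, hm, hm1⟩ := hC.exists_fixed_point_of_prime_dvd_card_of_fixed_point (α := N) h1 (a := 1)
    (fun g => map_one (MulAut.conjNormal (g : L)))
  exact ⟨m, congrArg Subtype.val (hm ⟨c, Subgroup.mem_zpowers c⟩), fun h => hm1 h.symm⟩

/-- A complement has at most one subgroup of order `p` in each of its `p`-subgroups. -/
theorem unique_subgroup {L : Type*} [Group L] [Finite L] (H N : Subgroup L) [N.Normal] (hne : N ≠ ⊥)
    (hfpf : ∀ h ∈ H, h ≠ 1 → ∀ n ∈ N, h * n * h⁻¹ = n → n = 1)
    {p : ℕ} [Fact p.Prime] (P : Sylow p H) (z : P) (hz : orderOf z = p) :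
    ∀ y : P, y ^ p = 1 → y ∈ Subgroup.zpowers z := by
  classical
  have hp : p.Prime := Fact.out
  intro y hy
  by_contra hyz
  -- replace `z` by a central element of order `p`
  have : Nontrivial P := ⟨⟨z, 1, fun h => by rw [h, orderOf_one] at hz; exact hp.one_lt.ne hz⟩⟩
  obtain ⟨c, hco⟩ := exists_prime_orderOf_dvd_card' (G := Subgroup.center P) p (by
    obtain ⟨e, he⟩ := IsPGroup.iff_card.mp (P.isPGroup'.to_subgroup (Subgroup.center P))
    rw [he]
    refine dvd_pow_self p fun e0 => ?_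
    have := P.isPGroup'.center_nontrivial
    rw [e0, pow_zero] at he
    exact (Finite.one_lt_card (α := Subgroup.center P)).ne' he)
  -- some element of order dividing `p` lies outside `⟨c⟩`
  obtain ⟨w, hw, hwc⟩ : ∃ w : P, w ^ p = 1 ∧ w ∉ Subgroup.zpowers (c : P) := by
    by_contra hall
    push Not at hall
    have hcc : Nat.card (Subgroup.zpowers (c : P)) = p := by rw [Nat.card_zpowers, Subgroup.orderOf_coe, hco]
    have : Subgroup.zpowers z = Subgroup.zpowers (c : P) :=
      Subgroup.eq_of_le_of_card_ge (Subgroup.zpowers_le.mpr (hall z (orderOf_dvd_iff_pow_eq_one.mp hz.dvd)))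
        (by rw [Nat.card_zpowers, Nat.card_zpowers, hz, Subgroup.orderOf_coe, hco])
    exact hyz (this ▸ hall y hy)
  let f : P →* L := H.subtype.comp (P : Subgroup H).subtype
  have hf : Function.Injective f := H.subtype_injective.comp (P : Subgroup H).subtype_injective
  let A' : Subgroup P := Subgroup.closure ({(c : P), w} : Set P)
  have hA'c : IsMulCommutative A' := by
    refine Subgroup.isMulCommutative_closure fun a ha b hb => ?_
    have hcen : ∀ t, (c : P) * t = t * c := fun t => (Subgroup.mem_center_iff.mp c.2 t).symm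
    rcases ha with rfl | rfl <;> rcases hb with rfl | rfl
    · rfl
    · exact hcen _
    · exact (hcen _).symm
    · rfl
  have hpow : ∀ a ∈ A', a ^ p = 1 := by
    intro a ha
    induction ha using Subgroup.closure_induction with
    | mem a h =>
      rcases h with rfl | rfl
      · exact orderOf_dvd_iff_pow_eq_one.mp (by rw [Subgroup.orderOf_coe, hco])
      · exact hw
    | one => exact one_pow p
    | mul a b ha hb h1 h2 =>
      rw [Commute.mul_pow (congrArg Subtype.val (hA'c.is_comm.comm ⟨a, ha⟩ ⟨b, hb⟩) : a * b = b * a), h1, h2, one_mul]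
    | inv a _ h1 => rw [inv_pow, h1, inv_one]
  set A : Subgroup L := A'.map f with hA
  have : IsMulCommutative A := ⟨⟨fun ⟨a, a', ha', e⟩ ⟨b, b', hb', e'⟩ => Subtype.ext (by
    show a * b = b * a
    rw [← e, ← e', ← map_mul, ← map_mul]
    exact congrArg f (congrArg Subtype.val (hA'c.is_comm.comm ⟨a', ha'⟩ ⟨b', hb'⟩)))⟩⟩
  have hAH : A ≤ H := by
    rintro _ ⟨a, -, rfl⟩
    exact (a : H).2
  have hnc : ¬ IsCyclic A := by
    intro hcyc
    obtain ⟨g, hg⟩ := hcyc.exists_generator
    have hcA : f c ∈ A := ⟨c, Subgroup.subset_closure (by simp), rfl⟩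
    have hwA : f w ∈ A := ⟨w, Subgroup.subset_closure (by simp), rfl⟩
    have hgp : orderOf g ∣ p := by
      obtain ⟨a, ha, hae⟩ := g.2
      refine orderOf_dvd_of_pow_eq_one (Subtype.ext ?_)
      rw [SubmonoidClass.coe_pow, ← hae, ← map_pow, hpow a ha, map_one]; rfl
    have hcard : Nat.card A ∣ p := by rwa [← orderOf_eq_card_of_forall_mem_zpowers hg]
    have h3 : Subgroup.zpowers (f c) = A := by
      refine Subgroup.eq_of_le_of_card_ge (Subgroup.zpowers_le.mpr hcA) ?_
      rw [Nat.card_zpowers, orderOf_injective f hf, Subgroup.orderOf_coe, hco]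
      exact Nat.le_of_dvd hp.pos hcard
    rw [← h3, Subgroup.mem_zpowers_iff] at hwA
    obtain ⟨k, hk⟩ := hwA
    rw [← map_zpow] at hk
    exact hwc ⟨k, hf hk⟩
  refine hne (le_bot_iff.mp (CfsgLib.Coprime.le_of_centralizer_le_of_not_isCyclic hnc
    (Subgroup.le_normalizer_of_normal) ?_ fun a ha ha1 => ?_))
  · have h1 : Nat.card A ∣ Nat.card A' := Subgroup.card_map_dvd _ f
    obtain ⟨e, he⟩ := IsPGroup.iff_card.mp (P.isPGroup'.to_subgroup A')
    refine Nat.Coprime.coprime_dvd_left (h1.trans he.dvd) (Nat.Coprime.pow_left e ?_)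
    rw [hp.coprime_iff_not_dvd]
    intro hd
    obtain ⟨n, hn⟩ := exists_prime_orderOf_dvd_card' p hd
    have hcH : f (c : P) ∈ H := (((c : P) : P) : H).2
    have hc1 : f (c : P) ≠ 1 := fun h => by
      have := hf (h.trans (map_one f).symm)
      rw [← Subgroup.orderOf_coe, this, orderOf_one] at hco
      exact hp.one_lt.ne hco
    obtain ⟨m, hm, hm1⟩ := exists_fixed (p := p) N (f (c : P)) (by
      rw [← map_pow, orderOf_dvd_iff_pow_eq_one.mp (by rw [Subgroup.orderOf_coe, hco] : orderOf (c : P) ∣ p), map_one]) ⟨n, hn⟩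
    exact hm1 (Subtype.ext (hfpf _ hcH hc1 m m.2 hm))
  · intro x hx
    obtain ⟨hxN, hxC⟩ := Subgroup.mem_inf.mp hx
    refine Subgroup.mem_bot.mpr (hfpf a (hAH ha) ha1 x hxN ?_)
    rw [← Subgroup.mem_centralizer_singleton_iff.mp hxC, mul_inv_cancel_right]

/-- Let H be a Frobenius complement in a finite group, and suppose some Sylow subgroup of H is not cyclic. Then the number of elements of the Frobenius kernel (the identity together with the elements lying in no conjugate of H) is an odd perfect square. -/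
theorem result {L : Type*} [Group L] [Finite L] (H : Subgroup L) (hF : Cfsg.IsFrobeniusComplement H)
    (hZ : ∃ (p : ℕ) (_ : Fact p.Prime) (P : Sylow p H), ¬ IsCyclic P) :
    Odd (Nat.card (Cfsg.frobeniusKernel H)) ∧ IsSquare (Nat.card (Cfsg.frobeniusKernel H)) := by
  obtain ⟨p, hp, P, hP⟩ := hZ
  obtain ⟨N, hN, hk, hidx, hne, hfpf⟩ := CfsgLib.FgsC.exists_kernel H hF
  rw [hk]
  have hpP : p ∣ Nat.card H := by
    by_contra h
    refine hP ?_
    have : Subsingleton P := by
      obtain ⟨e, he⟩ := IsPGroup.iff_card.mp P.isPGroup'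
      rcases e with _ | e
      · exact (Nat.card_eq_one_iff_unique.mp (by rw [he, pow_zero])).1
      · exact absurd ((dvd_pow_self p (Nat.succ_ne_zero e)).trans (he ▸ Subgroup.card_subgroup_dvd_card _)) h
    exact isCyclic_of_subsingleton
  have hPne := P.ne_bot_of_dvd_card hpP
  obtain ⟨z, hzo⟩ : ∃ z : P, orderOf z = p := exists_prime_orderOf_dvd_card' p (by
    obtain ⟨e, he⟩ := IsPGroup.iff_card.mp P.isPGroup'
    have he0 : e ≠ 0 := fun e0 => hPne (Subgroup.card_eq_one.mp (by rw [he, e0, pow_zero]))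
    exact he.symm ▸ dvd_pow_self p he0)
  have huniq : ∀ y : P, y ^ p = 1 → y ∈ Subgroup.zpowers z := unique_subgroup H N hne hfpf P z hzo
  rcases CfsgLib.PGroups.isCyclic_or_quaternion_of_unique P.isPGroup' (orderOf_dvd_iff_pow_eq_one.mp hzo.dvd) huniq with h | ⟨-, n, hn, ⟨e⟩⟩
  · exact absurd h hP
  let f : QuaternionGroup (2 ^ n) →* L := (H.subtype.comp (P : Subgroup H).subtype).comp e.symm.toMonoidHom
  have hf : Function.Injective f :=
    (H.subtype_injective.comp (P : Subgroup H).subtype_injective).comp e.symm.injective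
  have hm : ((2 ^ (n - 1) : ℕ) : ZMod (2 * 2 ^ n)) + ((2 ^ (n - 1) : ℕ) : ZMod (2 * 2 ^ n)) = ((2 ^ n : ℕ) : ZMod (2 * 2 ^ n)) := by
    rw [← Nat.cast_add, ← two_mul]
    congr 1
    rw [← pow_succ', show n - 1 + 1 = n by omega]
  have hwne : ((2 ^ n : ℕ) : ZMod (2 * 2 ^ n)) ≠ 0 := by
    rw [ne_eq, ZMod.natCast_eq_zero_iff]
    intro h
    have := Nat.le_of_dvd (pow_pos two_pos n) h
    have := pow_pos (two_pos : (0 : ℕ) < 2) n
    omega
  refine CfsgLib.FgsC.isSquare_of_pair H N hfpf (u := f (.xa 0)) (v := f (.a ((2 ^ (n - 1) : ℕ) : ZMod (2 * 2 ^ n))))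
    (w := f (.a ((2 ^ n : ℕ) : ZMod (2 * 2 ^ n)))) (SetLike.coe_mem _) ?_ ?_ ?_
  · rw [← map_pow, pow_two, QuaternionGroup.a_mul_a, ← Nat.cast_add, ← two_mul, ZMod.natCast_self,
      ← QuaternionGroup.one_def, map_one]
  · rw [← map_one f, QuaternionGroup.one_def]
    exact fun h => hwne (QuaternionGroup.a.inj (hf h))
  · simp only [← map_mul, QuaternionGroup.xa_mul_a, QuaternionGroup.a_mul_xa]
    rw [← hm]
    congr 2
    ring

end Cfsg.Agent.S4296
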