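import Cfsg.Statements.S4297
import Cfsg.Agent.Lib.FgsC.Fpf
import Mathlib

set_option autoImplicit false
open Cfsg

namespace Cfsg.Agent.S4297

variable {n : ℕ} [NeZero n] {F : Type} [Field F] (χ : ZMod (2 * n) → F)

/-- Monomial matrices for the dicyclic group. -/
def mat : QuaternionGroup n → Matrix (Fin 2) (Fin 2) F
  | .a i => !![χ i, 0; 0, χ (-i)]
  | .xa i => !![0, -χ (-i); χ i, 0]

variable (hadd : ∀ i j, χ (i + j) = χ i * χ j) (h0 : χ 0 = 1) (hker : ∀ i, χ i = 1 → i = 0)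

include hadd h0 hker in
theorem chi_half : χ ((n : ℕ) : ZMod (2 * n)) = -1 := by
  refine (mul_self_eq_one_iff.mp ?_).resolve_left fun h => ?_
  · rw [← hadd, ← Nat.cast_add, ← two_mul, ZMod.natCast_self, h0]
  · have h' := hker _ h
    rw [ZMod.natCast_eq_zero_iff] at h'
    have := Nat.le_of_dvd (Nat.pos_of_ne_zero (NeZero.ne n)) h'
    have := NeZero.ne n
    omega

/-- The representation. -/
def rep : QuaternionGroup n →* Matrix (Fin 2) (Fin 2) F where
  toFun := mat χ
  map_one' := by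
    show mat χ (.a 0) = 1
    simp [mat, h0, Matrix.one_fin_two]
  map_mul' x y := by
    have hh := chi_half χ hadd h0 hker
    have e : ((n : ℕ) : ZMod (2 * n)) + (n : ℕ) = 0 := by rw [← Nat.cast_add, ← two_mul, ZMod.natCast_self]
    rcases x with i | i <;> rcases y with j | j
    · simp [mat, ← hadd, neg_add_rev, add_comm]
    · simp [mat, ← hadd, sub_eq_add_neg, neg_add_rev, add_comm]
    · simp [mat, ← hadd, neg_add_rev, add_comm]
    · rw [QuaternionGroup.xa_mul_xa]
      have e1 : χ (((n : ℕ) : ZMod (2 * n)) + j - i) = -(χ (-i) * χ j) := by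
        rw [add_sub_assoc, hadd, hh, neg_one_mul, ← hadd, sub_eq_neg_add]
      have e2 : χ (-(((n : ℕ) : ZMod (2 * n)) + j - i)) = -(χ i * χ (-j)) := by
        rw [neg_sub, ← hadd, show i - (((n : ℕ) : ZMod (2 * n)) + j) = (n : ℕ) + (i + -j) by linear_combination (-1 : ZMod (2 * n)) * e]
        rw [hadd, hh, neg_one_mul]
      rw [neg_sub] at e2
      simp [mat, e1, e2]

include hadd h0 hker in
theorem rep_fpf (h2 : (2 : F) ≠ 0) (c : QuaternionGroup n) (hc : c ≠ 1) : (rep χ hadd h0 hker c - 1).det ≠ 0 := by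
  show (mat χ c - 1).det ≠ 0
  rcases c with i | i
  · have hi : i ≠ 0 := fun h => hc (by subst h; rfl)
    simp only [mat, Matrix.det_fin_two, Matrix.sub_apply, Matrix.one_apply_eq, Matrix.of_apply, Matrix.cons_val',
      Matrix.cons_val_zero, Matrix.cons_val_one, Matrix.cons_val_fin_one, ne_eq, zero_ne_one, one_ne_zero,
      not_false_eq_true, Matrix.one_apply_ne, sub_zero, mul_zero, mul_eq_zero, sub_eq_zero, not_or]
    exact ⟨fun h => hi (hker _ h), fun h => hi (neg_eq_zero.mp (hker _ h))⟩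
  · convert h2 using 1
    simp only [mat, Matrix.det_fin_two]
    simp
    rw [← hadd, neg_add_cancel, h0]
    norm_num

/-- For every n ≥ 2 the dicyclic group of order 4n (generated by an element a of order 2n and an element x with x² = aⁿ and x a x⁻¹ = a⁻¹) occurs as a Frobenius complement of some finite Frobenius group. -/
theorem result (n : ℕ) (hn : 2 ≤ n) :
    ∃ (L : Type) (_ : Group L) (_ : Finite L) (H : Subgroup L), Cfsg.IsFrobeniusComplement H ∧ Nonempty (H ≃* QuaternionGroup n) := by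
  classical
  have : NeZero n := ⟨by omega⟩
  obtain ⟨ℓ, hℓ, hℓ2, hℓn⟩ := Nat.exists_prime_gt_modEq_one (k := 2 * n) 2 (by omega)
  have := Fact.mk hℓ
  have hcard : Nat.card (ZMod ℓ)ˣ = ℓ - 1 := by rw [Nat.card_eq_fintype_card, ZMod.card_units]
  obtain ⟨m, hm⟩ : 2 * n ∣ ℓ - 1 := (Nat.modEq_iff_dvd' hℓ.one_le).mp hℓn.symm
  obtain ⟨v, hv⟩ := IsCyclic.exists_generator (α := (ZMod ℓ)ˣ)
  have hne : m ≠ 0 := by
    rintro rfl
    have := hℓ.two_le
    omega
  have hou : orderOf (v ^ m) = 2 * n := by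
    rw [orderOf_pow' v hne, orderOf_eq_card_of_forall_mem_zpowers hv, hcard, hm,
      Nat.gcd_eq_right (dvd_mul_left m _), Nat.mul_div_cancel _ (Nat.pos_of_ne_zero hne)]
  let χ : ZMod (2 * n) → ZMod ℓ := fun i => (((v ^ m) ^ i.val : (ZMod ℓ)ˣ) : ZMod ℓ)
  have hadd : ∀ i j, χ (i + j) = χ i * χ j := fun i j => by
    simp only [χ, ← Units.val_mul, ← pow_add]
    congr 1
    rw [ZMod.val_add]
    conv_rhs => rw [← pow_mod_orderOf, hou]
  have h0 : χ 0 = 1 := by simp [χ]
  have hker : ∀ i, χ i = 1 → i = 0 := fun i h => by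
    have h2 : 2 * n ∣ i.val := by
      refine hou.symm.dvd.trans ?_
      exact orderOf_dvd_of_pow_eq_one (Units.ext (by simpa [χ] using h))
    exact (ZMod.val_eq_zero i).mp (Nat.eq_zero_of_dvd_of_lt h2 (ZMod.val_lt i))
  have h2ne : (2 : ZMod ℓ) ≠ 0 := by
    intro h
    have h' : ((2 : ℕ) : ZMod ℓ) = 0 := by exact_mod_cast h
    rw [ZMod.natCast_eq_zero_iff] at h'
    have := Nat.le_of_dvd two_pos h'
    omega
  obtain ⟨L, i1, i2, H, h1, -, ⟨h3⟩⟩ := CfsgLib.FgsC.exists_frobenius_of_matrix (R := ZMod ℓ) Nat.two_pos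
    (QuaternionGroup n) (rep χ hadd h0 hker) (fun c hc => isUnit_iff_ne_zero.mpr (rep_fpf χ hadd h0 hker h2ne c hc))
  exact ⟨L, i1, i2, H, h1, ⟨h3.symm⟩⟩

end Cfsg.Agent.S4297
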