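import Cfsg.Statements.S4298
import Cfsg.Agent.Lib.FgsC.Fpf

set_option autoImplicit false
open Cfsg

namespace Cfsg.Agent.S4298

/-- The images of the elements of `SL(2,3)` in `SL(2,5)`. -/
def codes : List ℕ :=
  [0, 0, 0, 0, 0, 0, 0, 0, 0, 0, 0, 0, 0, 0, 0, 105, 369, 431, 0, 0, 0, 45, 349, 411, 0, 0, 0, 0, 126, 0, 0, 183, 0, 0, 471, 0, 0, 163, 0, 0, 0, 60, 557, 0, 0, 0, 491, 0, 537, 0, 0, 0, 0, 377, 0, 0, 504, 0, 0, 309, 0, 0, 597, 0, 0, 289, 0, 253, 0, 243, 0, 0, 0, 0, 617, 223, 0, 0, 0, 90, 0]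

def tab (a b c d : ZMod 3) : ZMod 5 × ZMod 5 × ZMod 5 × ZMod 5 :=
  let n := codes.getD (27 * a.val + 9 * b.val + 3 * c.val + d.val) 0
  ((n / 125 : ℕ), (n / 25 % 5 : ℕ), (n / 5 % 5 : ℕ), (n % 5 : ℕ))

def toMat (t : ZMod 5 × ZMod 5 × ZMod 5 × ZMod 5) : Matrix (Fin 2) (Fin 2) (ZMod 5) :=
  !![t.1, t.2.1; t.2.2.1, t.2.2.2]

theorem tab_mul : ∀ a b c d : ZMod 3, a * d - b * c = 1 → ∀ a' b' c' d' : ZMod 3, a' * d' - b' * c' = 1 →
    tab (a * a' + b * c') (a * b' + b * d') (c * a' + d * c') (c * b' + d * d') =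
      ((tab a b c d).1 * (tab a' b' c' d').1 + (tab a b c d).2.1 * (tab a' b' c' d').2.2.1,
       (tab a b c d).1 * (tab a' b' c' d').2.1 + (tab a b c d).2.1 * (tab a' b' c' d').2.2.2,
       (tab a b c d).2.2.1 * (tab a' b' c' d').1 + (tab a b c d).2.2.2 * (tab a' b' c' d').2.2.1,
       (tab a b c d).2.2.1 * (tab a' b' c' d').2.1 + (tab a b c d).2.2.2 * (tab a' b' c' d').2.2.2) := by
  decide +kernel

theorem tab_one : toMat (tab 1 0 0 1) = 1 := by decide +kernel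

theorem tab_fpf : ∀ a b c d : ZMod 3, a * d - b * c = 1 →
    ((tab a b c d).1 - 1) * ((tab a b c d).2.2.2 - 1) - (tab a b c d).2.1 * (tab a b c d).2.2.1 = 0 →
    a = 1 ∧ b = 0 ∧ c = 0 ∧ d = 1 := by
  decide +kernel

/-- The group SL(2,3) of order 24 (the binary tetrahedral group) occurs as a Frobenius complement of some finite Frobenius group. -/
theorem result :
    ∃ (L : Type) (_ : Group L) (_ : Finite L) (H : Subgroup L), Cfsg.IsFrobeniusComplement H ∧ Nonempty (H ≃* Matrix.SpecialLinearGroup (Fin 2) (ZMod 3)) := by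
  classical
  have : Fact (Nat.Prime 5) := ⟨by norm_num⟩
  have : Fact (Nat.Prime 3) := ⟨by norm_num⟩
  have : Nontrivial (Matrix.SpecialLinearGroup (Fin 2) (ZMod 3)) :=
    ⟨⟨⟨!![1, 1; 0, 1], by simp [Matrix.det_fin_two]⟩, 1, fun h => by
      simpa using congrArg (fun g : Matrix.SpecialLinearGroup (Fin 2) (ZMod 3) => (g : Matrix (Fin 2) (Fin 2) (ZMod 3)) 0 1) h⟩⟩
  let ρ : Matrix.SpecialLinearGroup (Fin 2) (ZMod 3) →* Matrix (Fin 2) (Fin 2) (ZMod 5) :=
    { toFun := fun g => toMat (tab (g.1 0 0) (g.1 0 1) (g.1 1 0) (g.1 1 1))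
      map_one' := by
        simp only [Matrix.SpecialLinearGroup.coe_one, Matrix.one_apply_eq, ne_eq, zero_ne_one,
          not_false_eq_true, Matrix.one_apply_ne, one_ne_zero]
        exact tab_one
      map_mul' := fun g h => by
        have hg := g.2; have hh := h.2
        rw [Matrix.det_fin_two] at hg hh
        simp only [Matrix.SpecialLinearGroup.coe_mul, Matrix.mul_apply, Fin.sum_univ_two]
        rw [tab_mul _ _ _ _ hg _ _ _ _ hh]
        simp only [toMat, Matrix.mul_fin_two] }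
  obtain ⟨L, i1, i2, H, h1, -, ⟨h3⟩⟩ := CfsgLib.FgsC.exists_frobenius_of_matrix (R := ZMod 5) Nat.two_pos
    (Matrix.SpecialLinearGroup (Fin 2) (ZMod 3)) ρ (fun g hg => by
      have hd := g.2
      rw [Matrix.det_fin_two] at hd
      rw [isUnit_iff_ne_zero, Matrix.det_fin_two]
      intro h0
      refine hg ?_
      obtain ⟨ha, hb, hc, hd'⟩ := tab_fpf _ _ _ _ hd (by simpa [ρ, toMat] using h0)
      ext i j
      fin_cases i <;> fin_cases j <;> simp [ha, hb, hc, hd'])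
  exact ⟨L, i1, i2, H, h1, ⟨h3.symm⟩⟩

end Cfsg.Agent.S4298
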