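import Cfsg.Statements.S4299
import Cfsg.Agent.Lib.FgsC.Fpf

set_option autoImplicit false
open Cfsg

namespace Cfsg.Agent.S4299

/-- Every nontrivial finite cyclic group occurs as a Frobenius complement of some finite Frobenius group. -/
theorem result {C : Type*} [Group C] [Finite C] [IsCyclic C] [Nontrivial C] :
    ∃ (L : Type) (_ : Group L) (_ : Finite L) (H : Subgroup L), Cfsg.IsFrobeniusComplement H ∧ Nonempty (C ≃* H) := by
  classical
  obtain ⟨ℓ, hℓ, hℓ2, hℓn⟩ := Nat.exists_prime_gt_modEq_one (k := Nat.card C) 2 Nat.card_pos.ne'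
  have := Fact.mk hℓ
  have hcard : Nat.card (ZMod ℓ)ˣ = ℓ - 1 := by rw [Nat.card_eq_fintype_card, ZMod.card_units]
  have hd : Nat.card C ∣ ℓ - 1 := (Nat.modEq_iff_dvd' hℓ.one_le).mp hℓn.symm
  obtain ⟨g, hg⟩ := IsCyclic.exists_generator (α := C)
  obtain ⟨u, hu⟩ := IsCyclic.exists_generator (α := (ZMod ℓ)ˣ)
  obtain ⟨m, hm⟩ := hd
  have hou : orderOf (u ^ m) = Nat.card C := by
    have hne : m ≠ 0 := by
      rintro rfl
      have := hℓ.two_le
      omega
    rw [orderOf_pow' u hne, orderOf_eq_card_of_forall_mem_zpowers hu, hcard, hm,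
      Nat.gcd_eq_right (dvd_mul_left m _), Nat.mul_div_cancel _ (Nat.pos_of_ne_zero hne)]
  have hog : orderOf g = Nat.card C := orderOf_eq_card_of_forall_mem_zpowers hg
  let f : C →* (ZMod ℓ)ˣ := monoidHomOfForallMemZpowers hg (g' := u ^ m) (by rw [hou, hog])
  have hf : Function.Injective f := by
    rw [injective_iff_map_eq_one]
    intro c hc
    obtain ⟨k, rfl⟩ := Subgroup.mem_zpowers_iff.mp (hg c)
    rw [map_zpow, monoidHomOfForallMemZpowers_apply_gen, ← orderOf_dvd_iff_zpow_eq_one, hou, ← hog,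
      orderOf_dvd_iff_zpow_eq_one] at hc
    exact hc
  obtain ⟨L, i1, i2, H, h1, -, h3⟩ := CfsgLib.FgsC.exists_frobenius_of_matrix (R := ZMod ℓ) Nat.one_pos C
    (((Matrix.scalar (Fin 1)).toMonoidHom.comp (Units.coeHom (ZMod ℓ))).comp f) (fun c hc => by
      rw [isUnit_iff_ne_zero, Matrix.det_fin_one]
      simp only [MonoidHom.comp_apply, Matrix.sub_apply, RingHom.toMonoidHom_eq_coe, MonoidHom.coe_coe,
        Matrix.scalar_apply, Matrix.diagonal_apply_eq, Units.coeHom_apply, Matrix.one_apply_eq, ne_eq, sub_eq_zero]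
      intro h
      exact hc (hf (by rw [map_one]; exact Units.ext h)))
  exact ⟨L, i1, i2, H, h1, h3⟩

end Cfsg.Agent.S4299
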