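import Cfsg.Statements.S4300

set_option autoImplicit false
open Cfsg

namespace Cfsg.Agent.S4300

/-- Let G act faithfully and primitively on a set X, and suppose the stabilizer of some point is a simple group. Then either G is simple, or G has a normal subgroup, neither trivial nor the whole group, that acts regularly on X (transitively with trivial point stabilizers). -/
theorem result {G : Type*} [Group G] {X : Type*} [MulAction G X] [FaithfulSMul G X]
    (hprim : MulAction.IsPreprimitive G X) (x : X) (hsimple : IsSimpleGroup (MulAction.stabilizer G x)) :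
    IsSimpleGroup G ∨ ∃ N : Subgroup G, N.Normal ∧ N ≠ ⊥ ∧ N ≠ ⊤ ∧
      MulAction.IsPretransitive N X ∧ ∀ y : X, MulAction.stabilizer N y = ⊥ := by
  by_cases hG : IsSimpleGroup G
  · exact Or.inl hG
  refine Or.inr ?_
  have hnt : Nontrivial G := by
    have := hsimple.toNontrivial
    exact Function.Injective.nontrivial (MulAction.stabilizer G x).subtype_injective
  obtain ⟨N, hN, hNb, hNt⟩ : ∃ N : Subgroup G, N.Normal ∧ N ≠ ⊥ ∧ N ≠ ⊤ := by
    by_contra hc
    push Not at hc
    exact hG ⟨fun N hN => or_iff_not_imp_left.mpr (hc N hN)⟩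
  have hNX : ¬ ∀ n ∈ N, ∀ y : X, n • y = y := by
    intro hfix
    exact hNb ((Subgroup.eq_bot_iff_forall _).mpr fun n hn =>
      FaithfulSMul.eq_of_smul_eq_smul (α := X) fun y => by rw [hfix n hn y, one_smul])
  have hfp : MulAction.fixedPoints N X ≠ Set.univ := fun e => hNX fun n hn y =>
    (MulAction.mem_fixedPoints.mp (e ▸ Set.mem_univ y)) ⟨n, hn⟩
  have hqp : MulAction.IsQuasiPreprimitive G X := inferInstance
  have htr : MulAction.IsPretransitive N X := hqp.isPretransitive_of_normal hfp
  refine ⟨N, hN, hNb, hNt, htr, fun y => ?_⟩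
  have hb : N.subgroupOf (MulAction.stabilizer G x) = ⊥ := by
    refine (hsimple.eq_bot_or_eq_top_of_normal _ inferInstance).resolve_right fun e => hNt ?_
    rw [eq_top_iff]
    intro g _
    obtain ⟨n, hn⟩ := htr.exists_smul_eq x (g • x)
    have h1 : (n : G)⁻¹ * g ∈ MulAction.stabilizer G x := by
      rw [MulAction.mem_stabilizer_iff, mul_smul, ← hn, Subgroup.smul_def, inv_smul_smul]
    have := N.mul_mem n.2 (Subgroup.subgroupOf_eq_top.mp e h1)
    simpa using this
  rw [Subgroup.eq_bot_iff_forall]
  intro m hm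
  obtain ⟨n, hn⟩ := htr.exists_smul_eq x y
  rw [MulAction.mem_stabilizer_iff] at hm
  have h1 : ((n⁻¹ * m * n : N) : G) ∈ MulAction.stabilizer G x := by
    rw [MulAction.mem_stabilizer_iff]
    show (n⁻¹ * m * n : N) • x = x
    rw [mul_smul, mul_smul, hn, hm, inv_smul_eq_iff, hn]
  have h2 : (⟨_, h1⟩ : MulAction.stabilizer G x) ∈ N.subgroupOf (MulAction.stabilizer G x) :=
    Subgroup.mem_subgroupOf.mpr (n⁻¹ * m * n).2
  rw [hb, Subgroup.mem_bot] at h2
  have h3 : n⁻¹ * m * n = 1 := Subtype.ext (congrArg Subtype.val h2 :)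
  have := congrArg (fun t => n * t * n⁻¹) h3
  simpa [mul_assoc] using this

end Cfsg.Agent.S4300
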