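import Cfsg.Statements.S4301
import Mathlib

set_option autoImplicit false
open Cfsg

namespace Cfsg.Agent.S4301

/-- One-point extension of a multiply transitive group. Let X be a set and G a group of permutations of Option X (the set X with one extra point ∗ = none) all of whose elements fix ∗, such that G is k-transitive on the points of X for some k ≥ 2, X having at least k points. Suppose a permutation h of Option X and an element g of G satisfy: h interchanges ∗ with a point x of X and fixes a point y of X; g interchanges x and y; (g h)³ and h² lie in G; and for every f in G fixing x, the product h f h lies in G and fixes x. Then an element of the group generated by G and h fixes ∗ exactly when it lies in G, and that group acts (k+1)-transitively on Option X. -/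
theorem result {X : Type*} (G : Subgroup (Equiv.Perm (Option X))) (hfix : ∀ f ∈ G, f none = none)
    (k : ℕ) (hk : 2 ≤ k) (hkX : Nonempty (Fin k ↪ X))
    (htrans : ∀ a b : Fin k ↪ X, ∃ f ∈ G, ∀ i, f (some (a i)) = some (b i))
    (h g : Equiv.Perm (Option X)) (hg : g ∈ G) (x y : X)
    (h1 : h none = some x) (h2 : h (some x) = none) (h3 : h (some y) = some y)
    (h4 : g (some x) = some y) (h5 : g (some y) = some x)
    (h6 : (g * h) ^ 3 ∈ G) (h7 : h ^ 2 ∈ G)
    (h8 : ∀ f ∈ G, f (some x) = some x → h * f * h ∈ G ∧ (h * f * h) (some x) = some x) :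
    (∀ f ∈ Subgroup.closure ((G : Set (Equiv.Perm (Option X))) ∪ {h}), f none = none ↔ f ∈ G) ∧
      MulAction.IsMultiplyPretransitive (Subgroup.closure ((G : Set (Equiv.Perm (Option X))) ∪ {h})) (Option X) (k + 1) := by
  classical
  set K := Subgroup.closure ((G : Set (Equiv.Perm (Option X))) ∪ {h}) with hKdef
  have hGK : G ≤ K := fun f hf => Subgroup.subset_closure (Or.inl hf)
  have hhK : h ∈ K := Subgroup.subset_closure (Or.inr rfl)
  obtain ⟨e0⟩ := hkX
  have hxy : x ≠ y := fun e => by rw [← e] at h3; rw [h2] at h3; exact Option.some_ne_none x h3.symm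
  -- double transitivity
  have htwo : ∀ z, z ≠ x → ∃ a ∈ G, a (some x) = some x ∧ a (some y) = some z := by
    intro z hz
    have mkE : ∀ z, z ≠ x → ∃ e : Fin k ↪ X, e ⟨0, by omega⟩ = x ∧ e ⟨1, by omega⟩ = z := by
      intro z hz
      set i0 : Fin k := ⟨0, by omega⟩
      set i1 : Fin k := ⟨1, by omega⟩
      let e1 := e0.trans (Equiv.swap (e0 i0) x).toEmbedding
      have he0 : e1 i0 = x := Equiv.swap_apply_left _ _
      refine ⟨e1.trans (Equiv.swap (e1 i1) z).toEmbedding, ?_, Equiv.swap_apply_left _ _⟩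
      show Equiv.swap (e1 i1) z (e1 i0) = x
      rw [he0]
      exact Equiv.swap_apply_of_ne_of_ne (fun e => absurd (e1.injective (he0.trans e)) (by simp [i0, i1])) (Ne.symm hz)
    obtain ⟨a, ha0, ha1⟩ := mkE y hxy.symm
    obtain ⟨b, hb0, hb1⟩ := mkE z hz
    obtain ⟨f, hf, hfab⟩ := htrans a b
    exact ⟨f, hf, by rw [← ha0, hfab, hb0, ha0], by rw [← ha1, hfab, hb1]⟩
  -- the set `G ∪ G h G`
  let S : Equiv.Perm (Option X) → Prop := fun f => f ∈ G ∨ ∃ a ∈ G, ∃ b ∈ G, f = a * h * b
  have hSl : ∀ a ∈ G, ∀ f, S f → S (a * f) := by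
    rintro a ha f (hf | ⟨a', ha', b', hb', rfl⟩)
    · exact Or.inl (G.mul_mem ha hf)
    · exact Or.inr ⟨a * a', G.mul_mem ha ha', b', hb', by group⟩
  have hSr : ∀ b ∈ G, ∀ f, S f → S (f * b) := by
    rintro b hb f (hf | ⟨a', ha', b', hb', rfl⟩)
    · exact Or.inl (G.mul_mem hf hb)
    · exact Or.inr ⟨a', ha', b' * b, G.mul_mem hb' hb, by group⟩
  have hhh : ∀ f ∈ G, S (h * f * h) := by
    intro f hf
    by_cases hfx : f (some x) = some x
    · exact Or.inl (h8 f hf hfx).1
    obtain ⟨z, hz⟩ : ∃ z, f (some x) = some z := by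
      rcases hfs : f (some x) with _ | z
      · exact absurd (f.injective (hfs.trans (hfix f hf).symm)) (Option.some_ne_none x)
      · exact ⟨z, rfl⟩
    obtain ⟨a, ha, hax, hay⟩ := htwo z (fun e => hfx (e ▸ hz))
    set b := g⁻¹ * a⁻¹ * f with hb
    have hbG : b ∈ G := G.mul_mem (G.mul_mem (G.inv_mem hg) (G.inv_mem ha)) hf
    have hbx : b (some x) = some x := by
      rw [hb]
      simp only [Equiv.Perm.mul_apply, Equiv.Perm.inv_def]
      rw [hz, Equiv.symm_apply_eq, Equiv.symm_apply_eq, h4, hay]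
    have hfab : f = a * g * b := by rw [hb]; group
    have hghg : h * g * h = g⁻¹ * ((g * h) ^ 3 * (h ^ 2)⁻¹) * h * g⁻¹ := by
      simp only [pow_succ, pow_zero, one_mul]; group
    have e : h * f * h = (h * a * h) * (h ^ 2)⁻¹ * (h * g * h) * (h ^ 2)⁻¹ * (h * b * h) := by
      rw [hfab]; group
    rw [e]
    refine hSr _ (h8 b hbG hbx).1 _ (hSr _ (G.inv_mem h7) _ (hSl _ (G.mul_mem (h8 a ha hax).1 (G.inv_mem h7)) _ ?_))
    exact Or.inr ⟨g⁻¹ * ((g * h) ^ 3 * (h ^ 2)⁻¹), G.mul_mem (G.inv_mem hg) (G.mul_mem h6 (G.inv_mem h7)), g⁻¹, G.inv_mem hg, hghg⟩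
  have hSh : ∀ f, S f → S (h * f) := by
    rintro f (hf | ⟨a, ha, b, hb, rfl⟩)
    · exact Or.inr ⟨1, G.one_mem, f, hf, by rw [one_mul]⟩
    · rw [show h * (a * h * b) = (h * a * h) * b by group]
      exact hSr b hb _ (hhh a ha)
  have hall : ∀ f ∈ K, S f := by
    intro f hf
    refine Subgroup.closure_induction_left (p := fun f _ => S f) (Or.inl G.one_mem) ?_ ?_ hf
    · rintro a (ha | ha) y _ hy
      · exact hSl a ha y hy
      · rw [Set.mem_singleton_iff] at ha; rw [ha]; exact hSh y hy
    · rintro a (ha | ha) y _ hy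
      · exact hSl _ (G.inv_mem ha) y hy
      · rw [Set.mem_singleton_iff] at ha
        rw [ha, show h⁻¹ * y = (h ^ 2)⁻¹ * (h * y) by group]
        exact hSl _ (G.inv_mem h7) _ (hSh y hy)
  refine ⟨fun f hf => ⟨fun hfn => ?_, fun hfG => hfix f hfG⟩, ⟨fun a b => ?_⟩⟩
  · rcases hall f hf with h' | ⟨a, ha, b, hb, rfl⟩
    · exact h'
    · rw [Equiv.Perm.mul_apply, Equiv.Perm.mul_apply, hfix b hb, h1] at hfn
      exact absurd (a.injective (hfn.trans (hfix a ha).symm)) (Option.some_ne_none x)
  · -- transport both tuples to tuples starting at `none`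
    have norm : ∀ a : Fin (k + 1) ↪ Option X, ∃ u ∈ K, u (a 0) = none ∧
        ∃ e : Fin k ↪ X, ∀ i, u (a i.succ) = some (e i) := by
      intro a
      obtain ⟨u, hu, hu0⟩ : ∃ u ∈ K, u (a 0) = none := by
        rcases a 0 with _ | z
        · exact ⟨1, K.one_mem, rfl⟩
        · obtain ⟨w, hw, hwz⟩ : ∃ w ∈ G, w (some z) = some x := by
            let i0 : Fin k := ⟨0, by omega⟩
            obtain ⟨w, hw, hwe⟩ := htrans (e0.trans (Equiv.swap (e0 i0) z).toEmbedding) (e0.trans (Equiv.swap (e0 i0) x).toEmbedding)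
            refine ⟨w, hw, ?_⟩
            have := hwe i0
            simpa using this
          exact ⟨h * w, K.mul_mem hhK (hGK hw), by rw [Equiv.Perm.mul_apply, hwz, h2]⟩
      have hne : ∀ i : Fin k, ∃ z, u (a i.succ) = some z := fun i => by
        rcases he : u (a i.succ) with _ | z
        · exact absurd (a.injective (u.injective (he.trans hu0.symm))) (Fin.succ_ne_zero i)
        · exact ⟨z, rfl⟩
      choose e he using hne
      exact ⟨u, hu, hu0, ⟨e, fun i j hij => Fin.succ_injective _ (a.injective (u.injective (by rw [he, he, hij])))⟩, he⟩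
    obtain ⟨u, hu, hu0, ea, hea⟩ := norm a
    obtain ⟨v, hv, hv0, eb, heb⟩ := norm b
    obtain ⟨w, hw, hwe⟩ := htrans ea eb
    refine ⟨⟨v⁻¹ * w * u, K.mul_mem (K.mul_mem (K.inv_mem hv) (hGK hw)) hu⟩, Function.Embedding.ext fun i => ?_⟩
    show (v⁻¹ * w * u) (a i) = b i
    simp only [Equiv.Perm.mul_apply, Equiv.Perm.inv_def, Equiv.symm_apply_eq]
    refine Fin.cases ?_ (fun j => ?_) i
    · rw [hu0, hfix w hw, hv0]
    · rw [hea, hwe, heb]

end Cfsg.Agent.S4301
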