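import Cfsg.Statements.S4304
import Cfsg.Agent.Lib.FgsC.SylowCount
import Cfsg.Agent.Lib.FgsC.SylowTwoPSucc

set_option autoImplicit false
open Cfsg

namespace Cfsg.Agent.S4304

/-- No finite group has exactly 15 Sylow 7-subgroups. -/
theorem result {G : Type*} [Group G] [Finite G] : Nat.card (Sylow 7 G) ≠ 15 := by
  intro hn
  have := Fact.mk (by norm_num : Nat.Prime 7)
  obtain ⟨l, hl, hm⟩ := CfsgLib.FgsC.exists_sylow_factors (p := 7) (Nat.card G) G rfl
  obtain ⟨m, hml, hm1⟩ : ∃ m ∈ l, m ≠ 1 := by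
    by_contra hc
    push Not at hc
    rw [List.prod_eq_one hc, hn] at hl
    omega
  have hmd : m ∣ 15 := hn ▸ hl ▸ List.dvd_prod hml
  obtain ⟨S, i1, i2, hS, hmS⟩ : ∃ (S : Type _) (_ : Group S) (_ : Finite S), IsSimpleGroup S ∧
      Nat.card (Sylow 7 S) = 15 := by
    have hdiv : m ∈ Nat.divisors 15 := Nat.mem_divisors.mpr ⟨hmd, by norm_num⟩
    rw [show Nat.divisors 15 = {1, 3, 5, 15} from by decide] at hdiv
    simp only [Finset.mem_insert, Finset.mem_singleton] at hdiv
    rcases hm m hml with ⟨hpp, hmod⟩ | ⟨S, i1, i2, ⟨h1, -⟩, h3⟩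
    · exfalso
      rcases hdiv with rfl | rfl | rfl | rfl <;> first | omega |
        exact absurd ((isPrimePow_iff_unique_prime_dvd.mp hpp).unique (y₁ := 3) (y₂ := 5) ⟨by norm_num, by norm_num⟩ ⟨by norm_num, by norm_num⟩) (by norm_num)
    · refine ⟨S, i1, i2, h1, ?_⟩
      have h4 := card_sylow_modEq_one 7 S
      rw [← h3] at h4 ⊢
      rcases hdiv with rfl | rfl | rfl | rfl <;> first | rfl | omega | exact absurd h4 (by decide)
  have hnab : ¬ IsMulCommutative S := by
    intro hc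
    obtain ⟨P⟩ : Nonempty (Sylow 7 S) := inferInstance
    have h1 : Nat.card (Sylow 7 S) = 1 := by
      rw [CfsgLib.Small.card_sylow_eq_index P, Subgroup.index_eq_one, Subgroup.normalizer_eq_top_iff]
      exact ⟨fun x hx g => by rw [hc.is_comm.comm g x, mul_inv_cancel_right]; exact hx⟩
    omega
  obtain ⟨e, he1, hed, ⟨j, hj⟩, hcard⟩ := CfsgLib.FgsC.exists_card_eq (p := 7) hnab (by norm_num) hmS
  have hd : e ∈ Nat.divisors 6 := Nat.mem_divisors.mpr ⟨by simpa using hed, by norm_num⟩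
  rw [show Nat.divisors 6 = {1, 2, 3, 6} from by decide] at hd
  simp only [Finset.mem_insert, Finset.mem_singleton] at hd
  have he : e = 3 := by omega
  subst he
  -- a simple group of order `315` has a normal `5`-complement
  have h5 : Fact (Nat.Prime 5) := ⟨by norm_num⟩
  obtain ⟨P⟩ : Nonempty (Sylow 5 S) := inferInstance
  have hP : Nat.card (P : Subgroup S) = 5 := by
    simpa using CfsgLib.Small.card_sylow_eq (p := 5) 1 63 (by omega) (by norm_num) P
  obtain ⟨e', he'1, he'd, hece⟩ := CfsgLib.Small.exists_normalizer_centralizer hnab P hP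
  have hN : e' ∣ Nat.card S :=
    (Dvd.intro_left _ hece).trans (Subgroup.card_subgroup_dvd_card _)
  have hd4 : e' ∣ 4 := he'd
  have h315 : e' ∣ Nat.gcd 4 315 := Nat.dvd_gcd hd4 (by rw [hcard] at hN; exact hN)
  rw [show Nat.gcd 4 315 = 1 from rfl, Nat.dvd_one] at h315
  omega

end Cfsg.Agent.S4304
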