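import Cfsg.Statements.S4305
import Cfsg.Agent.Lib.FgsC.FrobeniusAction
import Cfsg.Agent.Lib.FgsC.FrobeniusSym

set_option autoImplicit false
open Cfsg

namespace Cfsg.Agent.S4305

open scoped commutatorElement

universe u v w

/-- Generators of the symmetric group of degree three. -/
theorem sym3 : Nat.card (Equiv.Perm (Fin 3)) = 3 * 2 ∧ ∃ z h : Equiv.Perm (Fin 3), z ^ 3 = 1 ∧
    h ^ 2 = 1 ∧ h * z * h⁻¹ = z⁻¹ ∧ Subgroup.zpowers z ⊔ Subgroup.zpowers h = ⊤ := by
  have hA : Nat.card (Equiv.Perm (Fin 3)) = 3 * 2 := by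
    rw [Nat.card_eq_fintype_card, Fintype.card_perm, Fintype.card_fin]; rfl
  refine ⟨hA, Equiv.swap 0 1 * Equiv.swap 1 2, Equiv.swap 0 1, by decide, by decide, by decide, ?_⟩
  refine Subgroup.eq_top_of_card_eq _ (Nat.dvd_antisymm (Subgroup.card_subgroup_dvd_card _) ?_)
  rw [hA]
  refine Nat.Coprime.mul_dvd_of_dvd_of_dvd (by norm_num) ?_ ?_
  · haveI : Fact (Nat.Prime 3) := ⟨Nat.prime_three⟩
    have e := orderOf_eq_prime (x := Equiv.swap (0 : Fin 3) 1 * Equiv.swap 1 2) (p := 3)
      (by decide) (by decide)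
    have h1 := Subgroup.orderOf_dvd_natCard
      (Subgroup.zpowers (Equiv.swap (0 : Fin 3) 1 * Equiv.swap 1 2) ⊔
        Subgroup.zpowers (Equiv.swap (0 : Fin 3) 1))
      (Subgroup.mem_sup_left (Subgroup.mem_zpowers _))
    rw [e] at h1
    exact h1
  · haveI : Fact (Nat.Prime 2) := ⟨Nat.prime_two⟩
    have e := orderOf_eq_prime (x := Equiv.swap (0 : Fin 3) 1) (p := 2) (by decide) (by decide)
    have h1 := Subgroup.orderOf_dvd_natCard
      (Subgroup.zpowers (Equiv.swap (0 : Fin 3) 1 * Equiv.swap 1 2) ⊔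
        Subgroup.zpowers (Equiv.swap (0 : Fin 3) 1))
      (Subgroup.mem_sup_right (Subgroup.mem_zpowers _))
    rw [e] at h1
    exact h1

/-- The linear step: an abelian group. -/
theorem linear {A : Type w} [Group A] [Finite A] {Γ : Type u} [Group Γ] [Finite Γ] {V : Type v}
    [CommGroup V] [Finite V] [Nontrivial V] (φ : Γ →* MulAut V) (ι : A →* Γ) (L : Subgroup Γ)
    (hA : Nat.card A = 3 * 2) (hAs : Group.IsSolvable A) {z h : A} (hzp : z ^ 3 = 1)
    (hhq : h ^ 2 = 1) (hzh' : h * z * h⁻¹ = z⁻¹) (hzh : h * z * h⁻¹ ∈ Subgroup.zpowers z)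
    (hgen : Subgroup.zpowers z ⊔ Subgroup.zpowers h = ⊤)
    (hexp : ∃ r, r.Prime ∧ ∀ v : V, v ^ r = 1) (hAL : ι.range ≤ Subgroup.normalizer (L : Set Γ))
    (hL : Group.IsSolvable L) (hLA : (Nat.card L).Coprime (Nat.card A))
    (hVA : (Nat.card V).Coprime (Nat.card A)) (hinj : ∀ x ∈ L, φ x = 1 → x = 1)
    (hfpfV : ∀ v : V, (∀ a, φ (ι a) v = v) → v = 1)
    (hfpfL : ∀ x ∈ L, (∀ a, ι a * x = x * ι a) → x = 1)
    (hirr : ∀ W : Subgroup V, (∀ g, g ∈ ι.range ∨ g ∈ L → ∀ v ∈ W, φ g v ∈ W) → W = ⊥ ∨ W = ⊤) :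
    (⊤ : Subgroup L).lowerCentralSeries 1 = ⊥ := by
  classical
  have hnil := CfsgLib.FgsC.FrobeniusAction.isNilpotent_of_action φ ι L Nat.prime_three
    Nat.prime_two hA hAs (by norm_num) hzp hhq hzh hgen hexp hAL hL hLA hVA hinj hfpfV hfpfL hirr
  obtain ⟨r, hr, hexp⟩ := hexp
  haveI := Fact.mk hr
  haveI := hnil
  rw [hA] at hLA hVA
  have hrange : ι.range = Subgroup.zpowers (ι z) ⊔ Subgroup.zpowers (ι h) := by
    rw [MonoidHom.range_eq_map, ← hgen, Subgroup.map_sup, MonoidHom.map_zpowers,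
      MonoidHom.map_zpowers]
  haveI : Group.IsNilpotent (L.map φ) := Group.nilpotent_of_surjective (φ.subgroupMap L)
    (φ.subgroupMap_surjective L)
  have hnorm : ∀ a, φ (ι a) ∈ Subgroup.normalizer ((L.map φ : Subgroup (MulAut V)) : Set (MulAut V)) :=
    fun a => Subgroup.le_normalizer_map φ ⟨_, hAL ⟨a, rfl⟩, rfl⟩
  have hlift : ∀ x ∈ L, ∀ a, Commute (φ x) (φ (ι a)) → Commute x (ι a) := fun x hx a hc => by
    refine commutatorElement_eq_one_iff_mul_comm.mp (hinj _ ?_ ?_)
    · rw [commutatorElement_def, mul_assoc, mul_assoc]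
      exact L.mul_mem hx (by
        rw [← mul_assoc]; exact (Subgroup.mem_normalizer_iff.mp (hAL ⟨a, rfl⟩) _).mp (L.inv_mem hx))
    · rw [map_commutatorElement]
      exact commutatorElement_eq_one_iff_mul_comm.mpr hc.eq
  have hcomm := CfsgLib.FgsC.FrobeniusSym.commute_of_nilpotent (L := L.map φ) (r := r) hexp hVA
    (hLA.coprime_dvd_left (Subgroup.card_map_dvd L φ)) (z := φ (ι z)) (h := φ (ι h))
    (by rw [← map_pow, ← map_pow, hzp, map_one, map_one])
    (by rw [← map_pow, ← map_pow, hhq, map_one, map_one])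
    (by rw [← map_inv, ← map_inv, ← map_mul, ← map_mul, ← map_mul, ← map_mul, hzh', map_inv,
      map_inv])
    (hnorm z) (hnorm h)
    (fun v hvz hvh => hfpfV v fun a => by
      have hle : (⊤ : Subgroup A) ≤ (MulAction.stabilizer (MulAut V) v).comap (φ.comp ι) :=
        hgen ▸ sup_le (Subgroup.zpowers_le.mpr hvz) (Subgroup.zpowers_le.mpr hvh)
      exact hle (Subgroup.mem_top a))
    (by
      rintro _ ⟨x, hx, rfl⟩ hxz hxh
      have hle : ι.range ≤ Subgroup.centralizer ({x} : Set Γ) := hrange ▸ sup_le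
        (Subgroup.zpowers_le.mpr (Subgroup.mem_centralizer_singleton_iff.mpr
          (hlift x hx z hxz).symm.eq))
        (Subgroup.zpowers_le.mpr (Subgroup.mem_centralizer_singleton_iff.mpr
          (hlift x hx h hxh).symm.eq))
      rw [hfpfL x hx fun a => Subgroup.mem_centralizer_singleton_iff.mp (hle ⟨a, rfl⟩), map_one])
    (fun W hW => hirr W fun g hg v hv => by
      rcases hg with hg | hg
      · obtain ⟨a, rfl⟩ := hg
        have hmem : ∀ g : MulAut V, g = φ (ι z) ∨ g = φ (ι h) →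
            W.map g.toMonoidHom = W := fun g hg =>
          Subgroup.eq_of_le_of_card_ge (by
            rintro _ ⟨w, hw, rfl⟩
            exact hW g (hg.elim Or.inl fun e => Or.inr (Or.inl e)) w hw)
            (Subgroup.card_map_of_injective g.injective).ge
        let F : Subgroup (MulAut V) :=
          { carrier := {g | W.map g.toMonoidHom = W}
            mul_mem' := fun {g g'} hg hg' => by
              show W.map (g * g').toMonoidHom = W
              conv_rhs => rw [← show W.map g.toMonoidHom = W from hg,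
                ← show W.map g'.toMonoidHom = W from hg', Subgroup.map_map]
              rfl
            one_mem' := Subgroup.map_id W
            inv_mem' := fun {g} hg => by
              show W.map g⁻¹.toMonoidHom = W
              conv_lhs => rw [← show W.map g.toMonoidHom = W from hg]
              rw [Subgroup.map_map]
              convert Subgroup.map_id W
              exact MonoidHom.ext fun w => MulAut.inv_apply_self V g w }
        have hle : (⊤ : Subgroup A) ≤ F.comap (φ.comp ι) := hgen ▸ sup_le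
          (Subgroup.zpowers_le.mpr (hmem _ (Or.inl rfl)))
          (Subgroup.zpowers_le.mpr (hmem _ (Or.inr rfl)))
        exact (show W.map (φ (ι a)).toMonoidHom = W from hle (Subgroup.mem_top a)).le
          (Subgroup.mem_map_of_mem _ hv)
      · exact hW _ (Or.inr (Or.inr ⟨g, hg, rfl⟩)) v hv)
  rw [Subgroup.lowerCentralSeries_succ, Subgroup.lowerCentralSeries_zero,
    Subgroup.commutator_eq_bot_iff_le_centralizer]
  intro a _
  refine Subgroup.mem_centralizer_iff.mpr fun b _ => Subtype.ext ?_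
  refine commutatorElement_eq_one_iff_mul_comm.mp (hinj _ ?_ ?_)
  · rw [commutatorElement_def]
    exact L.mul_mem (L.mul_mem (L.mul_mem b.2 a.2) (L.inv_mem b.2)) (L.inv_mem a.2)
  · rw [map_commutatorElement]
    exact commutatorElement_eq_one_iff_mul_comm.mpr
      (hcomm _ ⟨_, b.2, rfl⟩ _ ⟨_, a.2, rfl⟩).eq

/-- Let the symmetric group of degree 3 act by automorphisms on a finite solvable group `G` of order prime to 6, so that only the identity of `G` is fixed by all of it. Then the derived subgroup of `G` is nilpotent. -/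
theorem result {G : Type*} [Group G] [Finite G] [Group.IsSolvable G]
    [MulDistribMulAction (Equiv.Perm (Fin 3)) G] (hcop : (Nat.card G).Coprime 6)
    (hfpf : ∀ g : G, (∀ a : Equiv.Perm (Fin 3), a • g = g) → g = 1) :
    Group.IsNilpotent ↥(commutator G) := by
  classical
  obtain ⟨hA, z, h, hzp, hhq, hzh', hgen⟩ := sym3
  have hzh : h * z * h⁻¹ ∈ Subgroup.zpowers z :=
    hzh' ▸ (Subgroup.zpowers z).inv_mem (Subgroup.mem_zpowers z)
  have hAs := CfsgLib.FgsC.FrobeniusAction.isSolvable_of_generators hzh hgen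
  obtain ⟨k, rfl, hk⟩ := CfsgLib.FgsC.FittingReduction.exists_lowerCentralSeries_le_fitting
    (A := Equiv.Perm (Fin 3)) hAs (fun k => k = 1) ⟨1, rfl⟩ (fun a b ha hb => by rw [ha, hb]; rfl)
    (fun Γ _ _ V _ _ _ φ ι L hexp hAL hL hLA hVA hinj hfV hfL hirr =>
      ⟨1, rfl, linear φ ι L hA hAs hzp hhq hzh' hzh hgen hexp hAL hL hLA hVA hinj hfV hfL hirr⟩)
    _ G rfl inferInstance (hA ▸ hcop) (MulDistribMulAction.toMulAut (Equiv.Perm (Fin 3)) G) hfpf
  refine CfsgLib.Base.isNilpotent_of_le ?_ (CfsgLib.Base.isNilpotent_fittingSubgroup G)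
  rw [commutator_def]
  refine le_trans ?_ hk
  rw [Subgroup.lowerCentralSeries_succ, Subgroup.lowerCentralSeries_zero]

end Cfsg.Agent.S4305
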