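import Cfsg.Statements.S4306
import Cfsg.Agent.Lib.FgsC.FrobeniusAction

set_option autoImplicit false
open Cfsg

namespace Cfsg.Agent.S4306

/-- Let `A` be a non-abelian group of order `pq` with `p, q` distinct primes, acting by automorphisms on a finite solvable group `G` of order prime to `pq`, so that only the identity of `G` is fixed by all of `A`. Then `G` has Fitting height at most 2: there is a normal nilpotent subgroup `F` of `G` with `G/F` nilpotent. -/
theorem result {G A : Type*} [Group G] [Finite G]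
    [Group.IsSolvable G] [Group A] [Finite A] [MulDistribMulAction A G] (p q : ℕ) (hp : p.Prime) (hq : q.Prime) (hpq : p ≠ q)
    (hA : Nat.card A = p * q) (hAna : ¬ IsMulCommutative A) (hcop : (Nat.card G).Coprime (p * q))
    (hfpf : ∀ g : G, (∀ a : A, a • g = g) → g = 1) :
    ∃ F : Subgroup G, ∃ hF : F.Normal, Group.IsNilpotent ↥F ∧ Group.IsNilpotent (G ⧸ F) := by
  classical
  wlog hlt : q < p generalizing p q
  · exact this q p hq hp hpq.symm (by rw [hA, mul_comm]) (by rwa [mul_comm]) (by omega)
  obtain ⟨z, h, hzp, hhq, hzh, hgen, hqp⟩ :=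
    CfsgLib.FgsC.FrobeniusAction.exists_generators hp hq hlt hA hAna
  have hAs := CfsgLib.FgsC.FrobeniusAction.isSolvable_of_generators hzh hgen
  obtain ⟨k, -, hk⟩ := CfsgLib.FgsC.FittingReduction.exists_lowerCentralSeries_le_fitting
    (A := A) hAs (fun _ => True) ⟨0, trivial⟩ (fun _ _ _ _ => trivial)
    (fun Γ _ _ V _ _ _ φ ι L hexp hAL hL hLA hVA hinj hfV hfL hirr => by
      have hn := CfsgLib.FgsC.FrobeniusAction.isNilpotent_of_action φ ι L hp hq hA hAs hqp hzp hhq
        hzh hgen hexp hAL hL hLA hVA hinj hfV hfL hirr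
      obtain ⟨k, hk⟩ := Subgroup.nilpotent_iff_lowerCentralSeries.mp hn
      exact ⟨k, trivial, hk⟩)
    _ G rfl inferInstance (hA ▸ hcop) (MulDistribMulAction.toMulAut A G) hfpf
  refine ⟨fittingSubgroup G, CfsgLib.Base.fittingSubgroup_normal' G,
    CfsgLib.Base.isNilpotent_fittingSubgroup G, ?_⟩
  haveI := CfsgLib.Base.fittingSubgroup_normal' G
  refine Subgroup.nilpotent_iff_lowerCentralSeries.mpr ⟨k, ?_⟩
  rw [← Subgroup.map_top_of_surjective (QuotientGroup.mk' (fittingSubgroup G))
    (QuotientGroup.mk'_surjective _), ← Subgroup.map_lowerCentralSeries,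
    Subgroup.map_eq_bot_iff, QuotientGroup.ker_mk']
  exact hk

end Cfsg.Agent.S4306
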