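import Cfsg.Statements.S4321
import Cfsg.Agent.Lib.FgsC.SingularClassGraph

set_option autoImplicit false
open Cfsg

namespace Cfsg.Agent.S4321

/-- Let `G` be a finite group and `p` a prime not dividing the order of the centre of `G`. Consider the primes dividing the size of some conjugacy class of a `p`-singular element (an element of order divisible by `p`), two of them adjacent when their product divides such a class size. Then any two distinct such primes are joined by a path with at most 3 edges (the graph is connected of diameter at most 3). -/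
theorem result {G : Type*} [Group G] [Finite G] (p : ℕ) [Fact p.Prime]
    (hZ : ¬ p ∣ Nat.card ↥(Subgroup.center G)) (r s : ℕ) (hr : (r.Prime ∧ ∃ x : G, p ∣ orderOf x ∧ r ∣ (Subgroup.centralizer ({x} : Set G)).index)) (hs : (s.Prime ∧ ∃ x : G, p ∣ orderOf x ∧ s ∣ (Subgroup.centralizer ({x} : Set G)).index)) (hrs : r ≠ s) :
    (∃ x : G, p ∣ orderOf x ∧ r * s ∣ (Subgroup.centralizer ({x} : Set G)).index) ∨ (∃ t : ℕ, (t.Prime ∧ ∃ x : G, p ∣ orderOf x ∧ t ∣ (Subgroup.centralizer ({x} : Set G)).index) ∧ t ≠ r ∧ t ≠ s ∧ (∃ x : G, p ∣ orderOf x ∧ r * t ∣ (Subgroup.centralizer ({x} : Set G)).index) ∧ (∃ x : G, p ∣ orderOf x ∧ t * s ∣ (Subgroup.centralizer ({x} : Set G)).index)) ∨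
      (∃ t u : ℕ, (t.Prime ∧ ∃ x : G, p ∣ orderOf x ∧ t ∣ (Subgroup.centralizer ({x} : Set G)).index) ∧ (u.Prime ∧ ∃ x : G, p ∣ orderOf x ∧ u ∣ (Subgroup.centralizer ({x} : Set G)).index) ∧ t ≠ r ∧ u ≠ s ∧ t ≠ u ∧ (∃ x : G, p ∣ orderOf x ∧ r * t ∣ (Subgroup.centralizer ({x} : Set G)).index) ∧ (∃ x : G, p ∣ orderOf x ∧ t * u ∣ (Subgroup.centralizer ({x} : Set G)).index) ∧ (∃ x : G, p ∣ orderOf x ∧ u * s ∣ (Subgroup.centralizer ({x} : Set G)).index)) := by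
  classical
  obtain ⟨hrp, x, hx, hrx⟩ := hr
  obtain ⟨hsp, y, hy, hsy⟩ := hs
  let V : ℕ → Prop := fun a => a.Prime ∧ ∃ x : G, p ∣ orderOf x ∧
    a ∣ (Subgroup.centralizer ({x} : Set G)).index
  let D : ℕ → ℕ → Prop := fun a b => ∃ x : G, p ∣ orderOf x ∧
    a ∣ (Subgroup.centralizer ({x} : Set G)).index ∧ b ∣ (Subgroup.centralizer ({x} : Set G)).index
  have edge : ∀ a b : ℕ, a.Prime → b.Prime → a ≠ b → D a b →
      ∃ x : G, p ∣ orderOf x ∧ a * b ∣ (Subgroup.centralizer ({x} : Set G)).index := by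
    rintro a b ha hb hab ⟨z, hz, h1, h2⟩
    exact ⟨z, hz, ((Nat.coprime_primes ha hb).2 hab).mul_dvd_of_dvd_of_dvd h1 h2⟩
  obtain ⟨w₁, hw₁, hd₁⟩ := Cfsg.FgsC.SingularGraph.exists_order_p hx
  obtain ⟨w₂, hw₂, hd₂⟩ := Cfsg.FgsC.SingularGraph.exists_order_p hy
  obtain ⟨z, hz, t, u, ht, hu, ht1, hu2, htz, huz⟩ :=
    Cfsg.FgsC.SingularGraph.linked hZ hw₁ hw₂
  have hrt : D r t := ⟨x, hx, hrx, ht1.trans hd₁⟩
  have htu : D t u := ⟨z, hz, htz, huz⟩
  have hus : D u s := ⟨y, hy, hu2.trans hd₂, hsy⟩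
  by_cases h1 : D r s
  · exact Or.inl (edge r s hrp hsp hrs h1)
  right
  have hur : u ≠ r := fun e => h1 (e ▸ hus)
  have hts : t ≠ s := fun e => h1 (e ▸ hrt)
  have htV : t.Prime ∧ ∃ x : G, p ∣ orderOf x ∧ t ∣ (Subgroup.centralizer ({x} : Set G)).index :=
    ⟨ht, z, hz, htz⟩
  have huV : u.Prime ∧ ∃ x : G, p ∣ orderOf x ∧ u ∣ (Subgroup.centralizer ({x} : Set G)).index :=
    ⟨hu, z, hz, huz⟩
  by_cases h2 : D r u
  · have hus' : u ≠ s := fun e => h1 (e ▸ h2)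
    exact Or.inl ⟨u, huV, hur, hus', edge r u hrp hu (Ne.symm hur) h2, edge u s hu hsp hus' hus⟩
  by_cases h3 : D t s
  · have htr : t ≠ r := fun e => h1 (e ▸ h3)
    exact Or.inl ⟨t, htV, htr, hts, edge r t hrp ht (Ne.symm htr) hrt, edge t s ht hsp hts h3⟩
  have htr : t ≠ r := fun e => h2 (e ▸ htu)
  have hus' : u ≠ s := fun e => h3 (e ▸ htu)
  have htu' : t ≠ u := fun e => h2 (e ▸ hrt)
  exact Or.inr ⟨t, u, htV, huV, htr, hus', htu', edge r t hrp ht (Ne.symm htr) hrt,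
    edge t u ht hu htu' htu, edge u s hu hsp hus' hus⟩

end Cfsg.Agent.S4321
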