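import Cfsg.Statements.S4323
import Cfsg.Agent.Lib.FgsB.AbCent.Main
-- import your own Cfsg.Agent.* helpers here

set_option autoImplicit false
open Cfsg

namespace Cfsg.Agent.S4323

/-- Let `q` be a prime and `A` a non-cyclic group of order `q²` acting by automorphisms on a finite group `G` of order prime to `q`, such that the fixed-point subgroup `C_G(a)` is abelian for every non-identity `a ∈ A`. Then `G` is solvable. -/
theorem result {A G : Type*} [Group A] [Finite A]
    [Group G] [Finite G] [MulDistribMulAction A G] (q : ℕ) (hq : q.Prime) (hA : Nat.card A = q ^ 2) (hnc : ¬ IsCyclic A)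
    (hcop : ¬ q ∣ Nat.card G) (h : ∀ a : A, a ≠ 1 → IsMulCommutative ↥(FixedPoints.subgroup (Subgroup.zpowers a) G)) :
    Group.IsSolvable G := by
  classical
  haveI := Fact.mk hq
  haveI hAc : IsMulCommutative A := ⟨⟨IsPGroup.commutative_of_card_eq_prime_sq hA⟩⟩
  have hexp : ∀ a : A, a ^ q = 1 := by
    intro a
    obtain ⟨k, hk, hk'⟩ := (Nat.dvd_prime_pow hq).1 (hA ▸ orderOf_dvd_natCard a)
    have hk2 : k ≠ 2 := fun e => hnc (isCyclic_of_orderOf_eq_card a (by rw [hk', hA, e]))
    refine orderOf_dvd_iff_pow_eq_one.1 (hk' ▸ ?_)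
    simpa using pow_dvd_pow q (show k ≤ 1 by omega)
  let φ : A →* MulAut G := MulDistribMulAction.toMulAut A G
  let i : G →* G ⋊[φ] A := SemidirectProduct.inl
  let j : A →* G ⋊[φ] A := SemidirectProduct.inr
  have hi : Function.Injective i := SemidirectProduct.inl_injective
  have hj : Function.Injective j := SemidirectProduct.inr_injective
  haveI : Finite (G ⋊[φ] A) := Finite.of_equiv _ SemidirectProduct.equivProd.symm
  have hpre : CfsgLib.FgsB.AbCent.Pre q i.range j.range := by
    refine ⟨hq, ⟨⟨?_⟩⟩, ?_, ?_, ?_, ?_, ?_⟩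
    · rintro ⟨_, a, rfl⟩ ⟨_, b, rfl⟩
      exact Subtype.ext (show j a * j b = j b * j a by rw [← map_mul, ← map_mul, mul_comm'])
    · rintro _ ⟨a, rfl⟩
      rw [← map_pow, hexp, map_one]
    · rw [← Nat.card_congr (MonoidHom.ofInjective hj).toEquiv, hA]
    · rwa [← Nat.card_congr (MonoidHom.ofInjective hi).toEquiv]
    · refine CfsgLib.FgsB.AbCent.le_normalizer_of_conj_mem ?_
      rintro _ ⟨a, rfl⟩ _ ⟨g, rfl⟩
      exact ⟨φ a g, by simp [i, j, SemidirectProduct.inl_aut]⟩
    · rintro _ ⟨a, rfl⟩ ha1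
      have ha : a ≠ 1 := fun e => ha1 (by rw [e, map_one])
      have key : ∀ g : G, i g ∈ Subgroup.centralizer ({j a} : Set (G ⋊[φ] A)) →
          g ∈ FixedPoints.subgroup (Subgroup.zpowers a) G := by
        intro g hg
        have h1 : φ a g = g := by
          have h2 : i g * j a = j a * i g := Subgroup.mem_centralizer_singleton_iff.1 hg
          apply hi
          show SemidirectProduct.inl (φ a g) = SemidirectProduct.inl g
          rw [SemidirectProduct.inl_aut]
          show j a * i g * j a⁻¹ = i g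
          rw [← h2, map_inv, mul_inv_cancel_right]
        intro m
        have hst : a ∈ MulAction.stabilizer A g := h1
        exact (Subgroup.zpowers_le.2 hst) m.2
      refine ⟨⟨?_⟩⟩
      rintro ⟨_, ⟨g, rfl⟩, hg⟩ ⟨_, ⟨g', rfl⟩, hg'⟩
      refine Subtype.ext (show i g * i g' = i g' * i g from ?_)
      rw [← map_mul, ← map_mul]
      exact congrArg i (congrArg Subtype.val
        ((h a ha).is_comm.comm ⟨g, key g hg⟩ ⟨g', key g' hg'⟩))
  haveI := CfsgLib.FgsB.AbCent.isSolvable_of_pre _ rfl hpre
  exact Group.isSolvable_of_surjective (f := (MonoidHom.ofInjective hi).symm.toMonoidHom)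
    (MonoidHom.ofInjective hi).symm.surjective

end Cfsg.Agent.S4323
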