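import Cfsg.Statements.S4325

set_option autoImplicit false
open Cfsg

namespace Cfsg.Agent.S4325

theorem exists_invariant (r : ℕ) : ∀ (m : ℕ) (t : Fin m → Equiv.Perm (Fin r)), (∀ i, (t i).IsSwap) →
    ∃ f : Fin r → Fin r, (∀ i x, f (t i x) = f x) ∧ r ≤ (Finset.univ.image f).card + m := by
  intro m
  induction m with
  | zero => intro t _; exact ⟨id, fun i => i.elim0, by simp⟩
  | succ m ih =>
    intro t ht
    obtain ⟨f, hf, hc⟩ := ih (fun i => t i.succ) (fun i => ht _)
    obtain ⟨a, b, -, hab⟩ := ht 0
    refine ⟨fun x => if f x = f a then f b else f x, fun i x => ?_, ?_⟩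
    · induction i using Fin.cases with
      | zero =>
        rcases eq_or_ne x a with rfl | h1
        · simp [hab]
        rcases eq_or_ne x b with rfl | h2
        · simp [hab]
        · simp [hab, Equiv.swap_apply_of_ne_of_ne h1 h2]
      | succ i => simp [hf i x]
    · have : (Finset.univ.image f).erase (f a) ⊆
          Finset.univ.image (fun x => if f x = f a then f b else f x) := by
        intro y hy
        simp only [Finset.mem_erase, Finset.mem_image, Finset.mem_univ, true_and] at hy ⊢
        obtain ⟨hne, x, rfl⟩ := hy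
        exact ⟨x, by simp [hne]⟩
      have h1 := Finset.card_le_card this
      rw [Finset.card_erase_of_mem (by simp)] at h1
      omega

theorem no_full_cycle (r : ℕ) (hr : r.Prime) (m : ℕ) (hm : m + 1 < r)
    (t : Fin m → Equiv.Perm (Fin r)) (ht : ∀ i, (t i).IsSwap) :
    ¬ r ∣ Nat.card (Subgroup.closure (Set.range t)) := by
  intro hd
  have := Fact.mk hr
  obtain ⟨⟨σ, hσ⟩, ho⟩ := exists_prime_orderOf_dvd_card' r hd
  rw [Subgroup.orderOf_mk] at ho
  obtain ⟨f, hf, hc⟩ := exists_invariant r m t ht
  have hinv : ∀ τ ∈ Subgroup.closure (Set.range t), ∀ x, f (τ x) = f x := by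
    intro τ hτ
    induction hτ using Subgroup.closure_induction with
    | mem τ h => obtain ⟨i, rfl⟩ := h; exact hf i
    | one => simp
    | mul a b _ _ h1 h2 => intro x; rw [Equiv.Perm.mul_apply, h1, h2]
    | inv a _ h1 => intro x; have := h1 (a⁻¹ x); rwa [Equiv.Perm.coe_inv, Equiv.apply_symm_apply, eq_comm] at this
  have hcyc : σ.IsCycle := Equiv.Perm.isCycle_of_prime_order' (ho.symm ▸ hr) (by
    rw [Fintype.card_fin, ho]; omega)
  have hsupp : σ.support = Finset.univ := by
    apply Finset.eq_univ_of_card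
    rw [Fintype.card_fin, ← hcyc.orderOf, ho]
  have hconst : ∀ x y, f x = f y := by
    intro x y
    have hx : σ x ≠ x := Equiv.Perm.mem_support.mp (hsupp ▸ Finset.mem_univ x)
    have hy : σ y ≠ y := Equiv.Perm.mem_support.mp (hsupp ▸ Finset.mem_univ y)
    obtain ⟨k, rfl⟩ := hcyc.exists_zpow_eq hx hy
    exact (hinv _ (Subgroup.zpow_mem _ hσ k) x).symm
  have : (Finset.univ.image f).card ≤ 1 := Finset.card_le_one.mpr (by
    simp only [Finset.mem_image, Finset.mem_univ, true_and]
    rintro _ ⟨x, rfl⟩ _ ⟨y, rfl⟩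
    exact hconst x y)
  omega

/-- Let r be a prime and m a natural number with m + 1 < r, and let π be a set of primes containing every prime below r but not r itself. Then in the symmetric group of degree r any m transpositions generate a π-subgroup, while O_π of the symmetric group is trivial. (So no bound on the number of conjugates that works for all π exists in the π-radical analogue of the Baer–Suzuki Theorem.) -/
theorem result (r m : ℕ) (hr : r.Prime)
    (hm : m + 1 < r) (π : Set ℕ) (hπ : ∀ q : ℕ, q.Prime → q < r → q ∈ π) (hrπ : r ∉ π)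
    (t : Fin m → Equiv.Perm (Fin r)) (ht : ∀ i, (t i).IsSwap) :
    Cfsg.IsPiSubgroup π (Subgroup.closure (Set.range t)) ∧ Cfsg.piCore π (Equiv.Perm (Fin r)) = ⊥ := by
  have hpi : ∀ q : ℕ, q.Prime → q ∣ r.factorial → q ≠ r → q ∈ π := fun q hq hd hne =>
    hπ q hq (lt_of_le_of_ne ((Nat.Prime.dvd_factorial hq).mp hd) hne)
  refine ⟨fun q hq hd => ?_, ?_⟩
  · have hd' : q ∣ r.factorial := by
      rw [← Fintype.card_fin r, ← Fintype.card_perm, ← Nat.card_eq_fintype_card]
      exact hd.trans (Subgroup.card_subgroup_dvd_card _)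
    refine hpi q hq hd' ?_
    rintro rfl
    exact no_full_cycle q hq m hm t ht hd
  · rw [eq_bot_iff, Cfsg.piCore, sSup_le_iff]
    rintro N ⟨hN, hNπ⟩ σ hσ
    rw [Subgroup.mem_bot]
    by_contra hne
    obtain ⟨a, ha⟩ : ∃ a, σ a ≠ a := by
      by_contra h; push_neg at h; exact hne (Equiv.ext h)
    have htr : MulAction.orbit N a = Set.univ := by
      refine Set.eq_univ_of_forall fun b => ?_
      by_cases hb : b = a
      · rw [hb]; exact MulAction.mem_orbit_self a
      refine ⟨⟨_, hN.conj_mem σ hσ (Equiv.swap (σ a) b)⟩, ?_⟩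
      show (Equiv.swap (σ a) b * σ * (Equiv.swap (σ a) b)⁻¹) a = b
      rw [Equiv.Perm.mul_apply, Equiv.Perm.mul_apply, Equiv.swap_inv,
        Equiv.swap_apply_of_ne_of_ne (fun e => ha e.symm) (fun e => hb e.symm), Equiv.swap_apply_left]
    have hd : r ∣ Nat.card N := by
      refine ⟨Nat.card (MulAction.stabilizer N a), ?_⟩
      have h1 := MulAction.index_stabilizer N a
      rw [htr, Set.ncard_univ, Nat.card_eq_fintype_card, Fintype.card_fin] at h1
      have h2 := Subgroup.card_mul_index (MulAction.stabilizer N a)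
      rw [h1] at h2
      rw [← h2, mul_comm]
    exact hrπ (hNπ r hr hd)

end Cfsg.Agent.S4325
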