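import Cfsg.Statements.S4326
import Mathlib

set_option autoImplicit false
open Pointwise
open Cfsg

namespace Cfsg.Agent.S4326

/-- Let G be a finite group, p a prime, x an automorphism of G of p-power order and M the subgroup of fixed points of x. Suppose that p divides the index of M and that either M is self-normalizing or M has trivial center. Then some conjugate of M is mapped onto itself by x but is not fixed elementwise by x. -/
theorem result {G : Type*} [Group G] [Finite G]
    (p : ℕ) [Fact p.Prime] (x : MulAut G) (hx : ∃ k : ℕ, orderOf x = p ^ k) (M : Subgroup G)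
    (hM : ∀ g : G, g ∈ M ↔ x g = g) (hp : p ∣ M.index)
    (hself : Subgroup.normalizer (M : Set G) = M ∨ Subgroup.center M = ⊥) :
    ∃ g : G, (∀ y ∈ MulAut.conj g • M, x y ∈ MulAut.conj g • M) ∧ ∃ y ∈ MulAut.conj g • M, x y ≠ y := by
  classical
  obtain ⟨k, hk⟩ := hx
  have hC : IsPGroup p (Subgroup.zpowers x) := IsPGroup.of_card (n := k) (by rw [Nat.card_zpowers, hk])
  have hfix : ∀ a ∈ Subgroup.zpowers x, ∀ m ∈ M, a m = m := by
    intro a ha m hm
    have h1 : Subgroup.zpowers x ≤ MulAction.stabilizer (MulAut G) m := Subgroup.zpowers_le.mpr ((hM m).mp hm)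
    exact h1 ha
  let sm : Subgroup.zpowers x → G ⧸ M → G ⧸ M := fun a => Quotient.map' (fun g => (a : MulAut G) g) fun g g' h => by
    rw [QuotientGroup.leftRel_apply] at h ⊢
    rw [← map_inv, ← map_mul, hfix a a.2 _ h]
    exact h
  let act : MulAction (Subgroup.zpowers x) (G ⧸ M) :=
    { smul := sm
      one_smul := fun q => Quotient.inductionOn' q fun g => rfl
      mul_smul := fun a b q => Quotient.inductionOn' q fun g => rfl }
  obtain ⟨q, hq, hq1⟩ := hC.exists_fixed_point_of_prime_dvd_card_of_fixed_point (α := G ⧸ M)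
    (by rwa [← Subgroup.index_eq_card]) (a := ((1 : G) : G ⧸ M)) fun a => by
      show ((((a : MulAut G) 1 : G)) : G ⧸ M) = ((1 : G) : G ⧸ M)
      rw [map_one]
  obtain ⟨g, rfl⟩ := QuotientGroup.mk_surjective q
  have hgM : g ∉ M := fun h => hq1 (QuotientGroup.eq.mpr (by simpa using h))
  have hgx : ((x g : G) : G ⧸ M) = (g : G ⧸ M) := hq ⟨x, Subgroup.mem_zpowers x⟩
  rw [QuotientGroup.eq] at hgx
  -- `x g = g * m` with `m` fixed by `x`
  obtain ⟨m, hm, hxg⟩ : ∃ m ∈ M, x g = g * m := ⟨g⁻¹ * x g, by
    have := M.inv_mem hgx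
    rwa [mul_inv_rev, inv_inv] at this, by group⟩
  refine ⟨g, fun y hy => ?_, ?_⟩
  · rw [Subgroup.mem_pointwise_smul_iff_inv_smul_mem, MulAut.smul_def, MulAut.inv_apply, MulAut.conj_symm_apply] at hy ⊢
    have e : g⁻¹ * x y * g = m * (g⁻¹ * y * g) * m⁻¹ := by
      have h2 : x (g⁻¹ * y * g) = g⁻¹ * y * g := (hM _).mp hy
      rw [map_mul, map_mul, map_inv, hxg] at h2
      conv_rhs => rw [← h2]
      group
    rw [e]
    exact M.mul_mem (M.mul_mem hm hy) (M.inv_mem hm)
  · by_contra hall
    push Not at hall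
    have hmem : ∀ z ∈ M, g * z * g⁻¹ ∈ M := fun z hz => (hM _).mpr (hall _ (by
      rw [Subgroup.mem_pointwise_smul_iff_inv_smul_mem, MulAut.smul_def, MulAut.inv_apply, MulAut.conj_symm_apply]
      simpa [mul_assoc] using hz))
    rcases hself with h | h
    · refine hgM (h ▸ ?_)
      exact Subgroup.mem_normalizer_fintype hmem
    · have hcen : (⟨m, hm⟩ : M) ∈ Subgroup.center M := Subgroup.mem_center_iff.mpr fun z => Subtype.ext (by
        show (z : G) * m = m * z
        have h2 := (hM _).mp (hmem z z.2)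
        rw [map_mul, map_mul, map_inv, hxg, (hM _).mp z.2, mul_inv_rev] at h2
        have h3 : g * ((m * z) * m⁻¹) * g⁻¹ = g * z * g⁻¹ := by
          rw [← h2]; group
        rw [mul_left_inj, mul_right_inj, mul_inv_eq_iff_eq_mul] at h3
        exact h3.symm)
      rw [h, Subgroup.mem_bot] at hcen
      have hm1 : m = 1 := congrArg Subtype.val hcen
      exact hgM ((hM g).mpr (by rw [hxg, hm1, mul_one]))

end Cfsg.Agent.S4326
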