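import Cfsg.Statements.S4330
import Cfsg.Agent.Lib.FgsC.AvoidFixed
import Cfsg.Agent.Lib.Base.MinimalNormal
import Cfsg.Agent.Lib.Base.Cores
import Cfsg.Agent.Lib.Base.Nilpotent

set_option autoImplicit false
open Pointwise
open Cfsg

namespace Cfsg.Agent.S4330

open scoped Pointwise
open Cfsg CfsgLib.Base

universe u

/-- The hypothesis for one element. -/
def Hyp (p : ℕ) {G : Type u} [Group G] (a : G) : Prop :=
  ∀ c : G, ∃ g : G, IsConj c g ∧ IsPGroup p (Subgroup.closure {a, g * a * g⁻¹})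

theorem hyp_pow {p : ℕ} {G : Type u} [Group G] {a : G} (h : Hyp p a) (n : ℕ) :
    Hyp p (a ^ n) := by
  intro c
  obtain ⟨g, hg, hp⟩ := h c
  refine ⟨g, hg, hp.to_le ((Subgroup.closure_le _).2 ?_)⟩
  rintro x (rfl | rfl)
  · exact pow_mem (Subgroup.subset_closure (by simp)) n
  · rw [← conj_pow]
    exact pow_mem (Subgroup.subset_closure (by simp)) n

theorem hyp_map {p : ℕ} {G : Type u} [Group G] {H : Type u} [Group H] (f : G →* H)
    (hf : Function.Surjective f) {a : G} (h : Hyp p a) : Hyp p (f a) := by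
  intro c
  obtain ⟨c, rfl⟩ := hf c
  obtain ⟨g, hg, hp⟩ := h c
  refine ⟨f g, f.map_isConj hg, ?_⟩
  have := hp.map f
  rwa [MonoidHom.map_closure, Set.image_pair, map_mul, map_mul, map_inv] at this

theorem not_hyp {p : ℕ} [Fact p.Prime] (hp2 : p ≠ 2) {G : Type u} [Group G] [Finite G] (hG : Group.IsSolvable G)
    (hcore : pCore p G = ⊥) {a : G} (hoa : orderOf a = p)
    (hind : ∀ N : Subgroup G, N.Normal → N ≠ ⊥ → ∀ [N.Normal],
      QuotientGroup.mk' N a ∈ pCore p (G ⧸ N)) : ¬ Hyp p a := by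
  classical
  intro h
  haveI : Nontrivial G := nontrivial_of_ne a 1 fun he => by
    rw [he, orderOf_one] at hoa
    exact (Fact.out : p.Prime).ne_one hoa.symm
  obtain ⟨N, hN⟩ := exists_isMinimalNormal (G := G)
  haveI := hN.normal
  obtain ⟨q, hq, hNc, hNe, hNq⟩ := hN.exists_prime inferInstance
  have hqp : q ≠ p := by
    rintro rfl
    exact hN.ne_bot (le_bot_iff.1 (hcore ▸ le_pCore hNq))
  set K := (pCore p (G ⧸ N)).comap (QuotientGroup.mk' N) with hK
  have haK : a ∈ K := hind N hN.normal hN.ne_bot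
  haveI : K.Normal := Subgroup.Normal.comap inferInstance _
  have hKpow : ∀ x ∈ K, ∃ k : ℕ, x ^ p ^ k ∈ N := by
    intro x hx
    obtain ⟨k, hk⟩ := isPGroup_pCore p (G ⧸ N) ⟨_, hx⟩
    refine ⟨k, (QuotientGroup.eq_one_iff _).1 ?_⟩
    simpa using congrArg Subtype.val hk
  have hcopN : (Nat.card N).Coprime p := by
    haveI := Fact.mk hq
    obtain ⟨m, hm⟩ := IsPGroup.iff_card.1 hNq
    rw [hm]
    exact ((Nat.coprime_primes hq Fact.out).2 hqp).pow_left m
  letI : CommGroup N := { (inferInstance : Group N) with mul_comm := hNc.is_comm.comm }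
  let ψ : G →* MulAut N := MulAut.conjNormal
  have hψN : ∀ x ∈ N, ψ x = 1 := fun x hx => MulEquiv.ext fun n => Subtype.ext (by
    rw [MulAut.conjNormal_apply, MulAut.one_apply]
    have := congrArg Subtype.val (hNc.is_comm.comm (⟨x, hx⟩ : N) n)
    rw [Subgroup.coe_mul, Subgroup.coe_mul] at this
    rw [this, mul_inv_cancel_right])
  have hap : a ^ p = 1 := by rw [← hoa, pow_orderOf_eq_one]
  have ha1 : a ≠ 1 := fun he => by
    rw [he, orderOf_one] at hoa
    exact (Fact.out : p.Prime).ne_one hoa.symm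
  -- `a` does not centralise `N`
  have hψa : ψ a ≠ 1 := by
    intro he
    set L := K ⊓ Subgroup.centralizer (N : Set G) with hL
    haveI : L.Normal := inferInstance
    have haL : a ∈ L := ⟨haK, Subgroup.mem_centralizer_iff.2 fun n hn => by
      have := congrArg Subtype.val (DFunLike.congr_fun he (⟨n, hn⟩ : N))
      rw [MulAut.conjNormal_apply, MulAut.one_apply] at this
      exact (mul_inv_eq_iff_eq_mul.1 this).symm⟩
    let f : L →* pCore p (G ⧸ N) :=
      ((QuotientGroup.mk' N).comp L.subtype).codRestrict _ fun x => x.2.1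
    haveI : Group.IsNilpotent (pCore p (G ⧸ N)) := (isPGroup_pCore p (G ⧸ N)).isNilpotent
    haveI : Group.IsNilpotent L := Subgroup.isNilpotent_of_ker_le_center f (fun x hx => by
      rw [Subgroup.mem_center_iff]
      intro y
      have hxN : (x : G) ∈ N := (QuotientGroup.eq_one_iff _).1 (congrArg Subtype.val hx)
      exact Subtype.ext (Subgroup.mem_centralizer_iff.1 y.2.2 x hxN).symm)
    have hsub : (Subgroup.zpowers a).IsSubnormal :=
      Subgroup.IsSubnormal.trans (Subgroup.zpowers_le.2 haL)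
        (CfsgLib.Base.isSubnormal_of_isNilpotent _) (Subgroup.Normal.isSubnormal inferInstance)
    have hpz : IsPGroup p (Subgroup.zpowers a) :=
      IsPGroup.of_card (n := 1) (by rw [Nat.card_zpowers, hoa, pow_one])
    have := le_pCore_of_isSubnormal hsub hpz (Subgroup.mem_zpowers a)
    rw [hcore, Subgroup.mem_bot] at this
    exact ha1 this
  obtain ⟨n, hn⟩ := CfsgLib.FgsC.AvoidFixed.exists_avoid hp2 (Nat.card N) (V := N) le_rfl hcopN
    ψ.range (K.map ψ) (ψ a) (by rw [MonoidHom.range_eq_map]; exact Subgroup.map_mono le_top)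
    (by
      rintro _ ⟨g, rfl⟩ _ ⟨x, hx, rfl⟩
      exact ⟨g * x * g⁻¹, (inferInstance : K.Normal).conj_mem x hx g, by simp⟩)
    (by
      rintro ⟨_, ⟨x, hx, rfl⟩⟩
      obtain ⟨k, hk⟩ := hKpow x hx
      exact ⟨k, Subtype.ext (by
        rw [SubmonoidClass.coe_pow, ← map_pow, hψN _ hk, OneMemClass.coe_one])⟩)
    ⟨a, haK, rfl⟩ (by rw [← map_pow, hap, map_one]) hψa
  obtain ⟨g, hg, hpg⟩ := h (n : G)
  obtain ⟨x, hx⟩ := isConj_iff.1 hg
  have hgN : g ∈ N := hx ▸ hN.normal.conj_mem _ n.2 x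
  set w := g * a * g⁻¹ * a⁻¹ with hw
  have hwN : w ∈ N := by
    rw [hw, show g * a * g⁻¹ * a⁻¹ = g * (a * g⁻¹ * a⁻¹) by group]
    exact N.mul_mem hgN (hN.normal.conj_mem _ (N.inv_mem hgN) a)
  have hwp : w ∈ Subgroup.closure {a, g * a * g⁻¹} :=
    mul_mem (Subgroup.subset_closure (by simp)) (inv_mem (Subgroup.subset_closure (by simp)))
  have hw1 : w = 1 := by
    obtain ⟨m, hm⟩ := IsPGroup.iff_card.1 hpg
    exact orderOf_eq_one_iff.1 (Nat.eq_one_of_dvd_coprimes (hcopN.pow_right m)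
      (Subgroup.orderOf_dvd_natCard N hwN) (hm ▸ Subgroup.orderOf_dvd_natCard _ hwp))
  have hag : a * g * a⁻¹ = g := by
    have h1 : g * a = a * g := by
      rw [hw, mul_inv_eq_one] at hw1
      exact mul_inv_eq_iff_eq_mul.1 hw1
    rw [← h1, mul_inv_cancel_right]
  refine hn (ψ x⁻¹) ⟨x⁻¹, rfl⟩ (Subtype.ext ?_)
  rw [← map_inv, ← map_mul, ← map_mul, MulAut.conjNormal_apply]
  calc x⁻¹ * a * x⁻¹⁻¹ * (n : G) * (x⁻¹ * a * x⁻¹⁻¹)⁻¹
      = x⁻¹ * (a * (x * n * x⁻¹) * a⁻¹) * x := by group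
    _ = (n : G) := by rw [hx, hag, ← hx]; group

theorem key {p : ℕ} [Fact p.Prime] (hp2 : p ≠ 2) : ∀ (M : ℕ) {G : Type u} [Group G] [Finite G],
    Nat.card G ≤ M → Group.IsSolvable G → ∀ a : G, (∃ k, a ^ p ^ k = 1) → Hyp p a →
      a ∈ pCore p G := by
  intro M
  induction M with
  | zero => intro G _ _ hG; exact absurd hG (not_le.2 Nat.card_pos)
  | succ M ih =>
    intro G _ _ hM hsol a ⟨k, hk⟩ h
    have hq : ∀ (N : Subgroup G) [N.Normal], N ≠ ⊥ → ∀ b : G, (∃ k, b ^ p ^ k = 1) → Hyp p b →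
        QuotientGroup.mk' N b ∈ pCore p (G ⧸ N) := by
      intro N _ hN b ⟨k, hk⟩ hb
      have hlt : Nat.card (G ⧸ N) < Nat.card G := by
        rw [← Subgroup.index_eq_card, ← N.card_mul_index]
        exact lt_mul_of_one_lt_left (Nat.pos_of_ne_zero N.index_ne_zero_of_finite)
          (Subgroup.one_lt_card_iff_ne_bot N |>.2 hN)
      exact ih (by omega) inferInstance _ ⟨k, by rw [← map_pow, hk, map_one]⟩
        (hyp_map _ (QuotientGroup.mk'_surjective N) hb)
    by_cases hcore : pCore p G = ⊥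
    · rw [hcore, Subgroup.mem_bot]
      by_contra ha
      have hd : orderOf a ∣ p ^ k := orderOf_dvd_of_pow_eq_one hk
      obtain ⟨j, -, hj⟩ := (Nat.dvd_prime_pow Fact.out).1 hd
      have hj0 : j ≠ 0 := fun h0 => ha (orderOf_eq_one_iff.1 (by rw [hj, h0, pow_zero]))
      have ho : orderOf (a ^ p ^ (j - 1)) = p := by
        rw [orderOf_pow, hj, Nat.gcd_eq_right (pow_dvd_pow p (Nat.sub_le j 1)),
          Nat.pow_div (Nat.sub_le j 1) (Fact.out : p.Prime).pos,
          show j - (j - 1) = 1 by omega, pow_one]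
      exact not_hyp hp2 hsol hcore ho (fun N hN hne => @fun _ => hq N hne _
        ⟨1, by rw [pow_one, ← pow_mul, ← pow_succ, Nat.sub_add_cancel (Nat.pos_of_ne_zero hj0), ← hj,
          pow_orderOf_eq_one]⟩ (hyp_pow h _)) (hyp_pow h _)
    · have := hq (pCore p G) hcore a ⟨k, hk⟩ h
      rw [pCore_quotient_pCore, Subgroup.mem_bot] at this
      exact (QuotientGroup.eq_one_iff a).1 this

/-- Let G be a finite solvable group, p an odd prime and A a p-subgroup of G such that every conjugacy class of G contains an element g for which A is subnormal in the subgroup generated by A and its conjugate by g. Then A is contained in O_p(G). (The hypothesis that p is odd is needed.) -/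
theorem result {G : Type*} [Group G] [Finite G]
    (hG : Group.IsSolvable G) (p : ℕ) [Fact p.Prime] (hp : p ≠ 2) (A : Subgroup G) (hA : IsPGroup p A)
    (h : ∀ c : G, ∃ g : G, IsConj c g ∧ (A.subgroupOf (A ⊔ MulAut.conj g • A)).IsSubnormal) :
    A ≤ Cfsg.pCore p G := by
  intro a ha
  refine key hp (Nat.card G) le_rfl hG a ?_ fun c => ?_
  · obtain ⟨k, hk⟩ := hA ⟨a, ha⟩
    exact ⟨k, by simpa using congrArg Subtype.val hk⟩
  obtain ⟨g, hg, hsn⟩ := h c
  refine ⟨g, hg, ?_⟩
  set H := A ⊔ MulAut.conj g • A with hH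
  haveI hMn : (Cfsg.pCore p H).Normal := inferInstance
  have hle : A.subgroupOf H ≤ Cfsg.pCore p H := CfsgLib.Base.le_pCore_of_isSubnormal hsn
    (hA.comap_of_injective H.subtype H.subtype_injective)
  have hgA : IsPGroup p ((MulAut.conj g • A).subgroupOf H) := by
    refine IsPGroup.comap_of_injective ?_ H.subtype H.subtype_injective
    exact hA.map (MulDistribMulAction.toMonoidEnd (MulAut G) G (MulAut.conj g))
  have hsup : Cfsg.pCore p H ⊔ (MulAut.conj g • A).subgroupOf H = ⊤ := by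
    rw [eq_top_iff, ← Subgroup.subgroupOf_self H, hH,
      Subgroup.subgroupOf_sup le_sup_left le_sup_right]
    exact sup_le_sup_right hle _
  have hpH : IsPGroup p H := by
    have := (CfsgLib.Base.isPGroup_pCore p H).to_sup_of_normal_left' hgA
      (by rw [Subgroup.normalizer_eq_top]; exact le_top)
    rw [hsup] at this
    exact this.of_equiv Subgroup.topEquiv
  refine hpH.to_le ((Subgroup.closure_le _).2 ?_)
  rintro x (rfl | rfl)
  · exact Subgroup.mem_sup_left ha
  · exact Subgroup.mem_sup_right (Subgroup.smul_mem_pointwise_smul a (MulAut.conj g) A ha)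

end Cfsg.Agent.S4330
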