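import Cfsg.Statements.S4331
import Mathlib
import Cfsg.Agent.Lib.Base.Nilpotent
import Cfsg.Agent.Lib.Base.Cores

set_option autoImplicit false
open Cfsg

namespace Cfsg.Agent.S4331

/-- The quarter turn. -/
abbrev Jm : Matrix (Fin 2) (Fin 2) (ZMod 3) := !![0, 1; 2, 0]

/-- The reflection. -/
abbrev Am : Matrix (Fin 2) (Fin 2) (ZMod 3) := !![2, 0; 0, 1]

theorem pow8 : ∀ M : Matrix (Fin 2) (Fin 2) (ZMod 3), M.det ≠ 0 → (M * Jm = Jm * M ∨ M * Jm = -(Jm * M)) →
    ((M * M) * (M * M)) * ((M * M) * (M * M)) = 1 := by decide +kernel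

theorem trans_e2 : ∀ w : Fin 2 → ZMod 3, w ≠ 0 → ∃ M : Matrix (Fin 2) (Fin 2) (ZMod 3), M.det ≠ 0 ∧
    (M * Jm = Jm * M ∨ M * Jm = -(Jm * M)) ∧ M.mulVec ![0, 1] = w := by decide +kernel

theorem fixed_conj : ∀ M : Matrix (Fin 2) (Fin 2) (ZMod 3), M.det ≠ 0 → (M * Jm = Jm * M ∨ M * Jm = -(Jm * M)) →
    M ≠ 1 → ∀ w : Fin 2 → ZMod 3, w ≠ 0 → M.mulVec w = w → ∃ K : Matrix (Fin 2) (Fin 2) (ZMod 3), K.det ≠ 0 ∧
    (K * Jm = Jm * K ∨ K * Jm = -(Jm * K)) ∧ M * K = K * Am := by decide +kernel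

theorem split_eq : ∀ x y : ZMod 3,
    (![x, 0] : Fin 2 → ZMod 3) + ![x, y] = ![0, y] + Am.mulVec ![x, 0] := by decide +kernel

theorem fix_y : ∀ y : ZMod 3, Am.mulVec ![0, y] = ![0, y] := by decide

/-- There is a finite solvable group G with a subgroup A of order 2 such that every conjugacy class of G contains an element g for which A is subnormal in the subgroup generated by A and g, and yet A is not contained in O_2(G). (So the corresponding criteria for odd primes fail at the prime 2, even for solvable groups.) -/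
theorem result :
    ∃ (G : Type) (_ : Group G) (_ : Finite G) (A : Subgroup G), Group.IsSolvable G ∧ Nat.card A = 2 ∧
      (∀ c : G, ∃ g : G, IsConj c g ∧ (A.subgroupOf (A ⊔ Subgroup.zpowers g)).IsSubnormal) ∧
      ¬ A ≤ Cfsg.pCore 2 G := by
  classical
  let H : Subgroup (Matrix.GeneralLinearGroup (Fin 2) (ZMod 3)) :=
    { carrier := {g | (g : Matrix (Fin 2) (Fin 2) (ZMod 3)) * Jm = Jm * g ∨
        (g : Matrix (Fin 2) (Fin 2) (ZMod 3)) * Jm = -(Jm * g)}
      one_mem' := Or.inl (by simp)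
      mul_mem' := fun {a b} ha hb => by
        simp only [Set.mem_setOf_eq, Matrix.GeneralLinearGroup.coe_mul] at ha hb ⊢
        rcases ha with ha | ha <;> rcases hb with hb | hb
        · exact Or.inl (by rw [mul_assoc, hb, ← mul_assoc, ha, mul_assoc])
        · exact Or.inr (by rw [mul_assoc, hb, mul_neg, ← mul_assoc, ha, mul_assoc])
        · exact Or.inr (by rw [mul_assoc, hb, ← mul_assoc, ha, neg_mul, mul_assoc])
        · exact Or.inl (by rw [mul_assoc, hb, mul_neg, ← mul_assoc, ha, neg_mul, neg_neg, mul_assoc])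
      inv_mem' := fun {a} ha => by
        simp only [Set.mem_setOf_eq] at ha ⊢
        set A := (a : Matrix (Fin 2) (Fin 2) (ZMod 3))
        set B := ((a⁻¹ : Matrix.GeneralLinearGroup (Fin 2) (ZMod 3)) : Matrix (Fin 2) (Fin 2) (ZMod 3))
        have h1 : A * B = 1 := a.mul_inv
        have h2 : B * A = 1 := a.inv_mul
        have h : B * (A * Jm) * B = Jm * B := by rw [← mul_assoc B, h2, one_mul]
        have h' : B * (Jm * A) * B = B * Jm := by rw [← mul_assoc B, mul_assoc (B * Jm), h1, mul_one]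
        rcases ha with ha | ha
        · rw [ha, h'] at h; exact Or.inl h
        · rw [ha, mul_neg, neg_mul, h'] at h; exact Or.inr (by rw [← h, neg_neg]) }
  let f : ↥H → Matrix (Fin 2) (Fin 2) (ZMod 3) := fun h => ((h : Matrix.GeneralLinearGroup (Fin 2) (ZMod 3)) : Matrix (Fin 2) (Fin 2) (ZMod 3))
  have fmul : ∀ x y, f (x * y) = f x * f y := fun x y => rfl
  have fone : f 1 = 1 := rfl
  have finj : ∀ x y, f x = f y → x = y := fun x y h => Subtype.ext (Units.ext h)
  have hdet : ∀ x, (f x).det ≠ 0 := fun x =>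
    ((Matrix.isUnit_iff_isUnit_det _).1 (Units.isUnit (x : Matrix.GeneralLinearGroup (Fin 2) (ZMod 3)))).ne_zero
  have mk : ∀ M : Matrix (Fin 2) (Fin 2) (ZMod 3), M.det ≠ 0 → (M * Jm = Jm * M ∨ M * Jm = -(Jm * M)) →
      ∃ x : ↥H, f x = M := fun M hM hP => ⟨⟨Matrix.GeneralLinearGroup.mkOfDetNeZero M hM, hP⟩, rfl⟩
  let act : ↥H →* MulAut (Multiplicative (Fin 2 → ZMod 3)) :=
    { toFun := fun x => AddEquiv.toMultiplicative
        { toFun := fun v => (f x).mulVec v
          invFun := fun v => (f x⁻¹).mulVec v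
          left_inv := fun v => by
            show (f x⁻¹).mulVec ((f x).mulVec v) = v
            rw [Matrix.mulVec_mulVec, ← fmul, inv_mul_cancel, fone, Matrix.one_mulVec]
          right_inv := fun v => by
            show (f x).mulVec ((f x⁻¹).mulVec v) = v
            rw [Matrix.mulVec_mulVec, ← fmul, mul_inv_cancel, fone, Matrix.one_mulVec]
          map_add' := fun v w => Matrix.mulVec_add _ v w }
      map_one' := by
        refine MulEquiv.ext fun v => ?_
        show (Multiplicative.ofAdd ((f 1).mulVec v.toAdd)) = v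
        rw [fone, Matrix.one_mulVec]; rfl
      map_mul' := fun x y => by
        refine MulEquiv.ext fun v => ?_
        show Multiplicative.ofAdd ((f (x * y)).mulVec v.toAdd) = Multiplicative.ofAdd ((f x).mulVec ((f y).mulVec v.toAdd))
        rw [fmul, Matrix.mulVec_mulVec] }
  let mkG : (Fin 2 → ZMod 3) → ↥H → Multiplicative (Fin 2 → ZMod 3) ⋊[act] ↥H :=
    fun v x => ⟨Multiplicative.ofAdd v, x⟩
  have gmul : ∀ v w x y, mkG v x * mkG w y = mkG (v + (f x).mulVec w) (x * y) := fun v w x y => rfl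
  haveI : Finite (Multiplicative (Fin 2 → ZMod 3) ⋊[act] ↥H) := Finite.of_equiv _ SemidirectProduct.equivProd.symm
  obtain ⟨a, ha⟩ := mk Am (by decide) (Or.inr (by decide))
  have ha2 : a * a = 1 := finj _ _ (by rw [fmul, ha, fone]; decide)
  have hane : a ≠ 1 := fun h => by
    have h' := congrArg f h
    rw [ha, fone] at h'
    revert h'; decide
  have h2H : IsPGroup 2 ↥H := fun x => ⟨3, finj _ _ (by
    have h := pow8 (f x) (hdet x) x.2
    rw [show (2 : ℕ) ^ 3 = 8 from rfl, fone]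
    rw [show x ^ 8 = ((x * x) * (x * x)) * ((x * x) * (x * x)) by simp [pow_succ, mul_assoc], fmul, fmul, fmul]
    exact h)⟩
  haveI : Fact (Nat.Prime 2) := ⟨Nat.prime_two⟩
  refine ⟨Multiplicative (Fin 2 → ZMod 3) ⋊[act] ↥H, inferInstance, inferInstance,
    Subgroup.zpowers (mkG 0 a), ?_, ?_, ?_, ?_⟩
  · haveI := h2H.isNilpotent
    exact solvable_of_ker_le_range (SemidirectProduct.inl) SemidirectProduct.rightHom
      (le_of_eq SemidirectProduct.range_inl_eq_ker_rightHom.symm)
  · rw [Nat.card_zpowers, orderOf_eq_prime_iff]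
    refine ⟨?_, fun h => hane (congrArg SemidirectProduct.right h)⟩
    rw [sq, gmul, ha2, Matrix.mulVec_zero, add_zero]
    rfl
  · -- classes
    have comm_case : ∀ g, mkG 0 a * g = g * mkG 0 a →
        ((Subgroup.zpowers (mkG 0 a)).subgroupOf (Subgroup.zpowers (mkG 0 a) ⊔ Subgroup.zpowers g)).IsSubnormal := by
      intro g hg
      haveI : ((Subgroup.zpowers (mkG 0 a)).subgroupOf (Subgroup.zpowers (mkG 0 a) ⊔ Subgroup.zpowers g)).Normal := by
        rw [Subgroup.normal_subgroupOf_iff_le_normalizer le_sup_left]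
        refine le_trans ?_ (Subgroup.centralizer_le_normalizer _)
        refine sup_le ?_ ?_ <;> rw [Subgroup.zpowers_le, Subgroup.mem_centralizer_iff] <;> intro w hw <;>
          obtain ⟨i, rfl⟩ := Subgroup.mem_zpowers_iff.1 hw
        · exact ((Commute.refl (mkG 0 a)).zpow_left i).eq
        · exact ((show Commute (mkG 0 a) g from hg).zpow_left i).eq
      exact Subgroup.Normal.isSubnormal inferInstance
    have pure_case : ∀ x : ↥H,
        ((Subgroup.zpowers (mkG 0 a)).subgroupOf (Subgroup.zpowers (mkG 0 a) ⊔ Subgroup.zpowers (mkG 0 x))).IsSubnormal := by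
      intro x
      have hp : IsPGroup 2 ↥(SemidirectProduct.inr : ↥H →* Multiplicative (Fin 2 → ZMod 3) ⋊[act] ↥H).range :=
        h2H.of_surjective _ (MonoidHom.rangeRestrict_surjective _)
      have hp' := hp.to_le (sup_le (Subgroup.zpowers_le.2 (MonoidHom.mem_range.2 ⟨a, rfl⟩)) (Subgroup.zpowers_le.2 (MonoidHom.mem_range.2 ⟨x, rfl⟩)) :
        Subgroup.zpowers (mkG 0 a) ⊔ Subgroup.zpowers (mkG 0 x) ≤ _)
      haveI := hp'.isNilpotent
      exact CfsgLib.Base.isSubnormal_of_isNilpotent _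
    intro c
    obtain ⟨v, x, rfl⟩ : ∃ v x, mkG v x = c := ⟨c.left.toAdd, c.right, rfl⟩
    have conj : ∀ v' x' u k, mkG u k * mkG v x = mkG v' x' * mkG u k → IsConj (mkG v x) (mkG v' x') :=
      fun v' x' u k h => isConj_iff.2 ⟨mkG u k, by rw [h, mul_inv_cancel_right]⟩
    by_cases hs : Function.Surjective fun u : Fin 2 → ZMod 3 => (f x).mulVec u - u
    · obtain ⟨u, hu⟩ := hs v
      refine ⟨mkG 0 x, conj 0 x u 1 ?_, pure_case x⟩
      rw [gmul, gmul, fone, Matrix.one_mulVec, one_mul, mul_one, ← hu]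
      refine congrArg (fun z => mkG z x) ?_
      simp
    · obtain ⟨w, hw, hw0⟩ : ∃ w, (f x).mulVec w = w ∧ w ≠ 0 := by
        by_contra hno
        push_neg at hno
        apply hs
        rw [← Finite.injective_iff_surjective]
        intro p q hpq
        have : (f x).mulVec (p - q) = p - q := by
          rw [Matrix.mulVec_sub]
          exact sub_eq_sub_iff_sub_eq_sub.1 hpq
        exact sub_eq_zero.1 (hno _ this)
      by_cases hx : x = 1
      · subst hx
        rcases eq_or_ne v 0 with rfl | hv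
        · exact ⟨_, IsConj.refl _, pure_case 1⟩
        obtain ⟨M, hMd, hMP, hMv⟩ := trans_e2 v hv
        obtain ⟨k, hk⟩ := mk M hMd hMP
        refine ⟨mkG ![0, 1] 1, conj ![0, 1] 1 0 k⁻¹ ?_, comm_case _ ?_⟩
        · rw [gmul, gmul, Matrix.mulVec_zero, one_mul, mul_one, zero_add, add_zero, ← hMv, ← hk,
            Matrix.mulVec_mulVec, ← fmul, inv_mul_cancel, fone, Matrix.one_mulVec]
        · rw [gmul, gmul, fone, Matrix.mulVec_zero, one_mul, mul_one, zero_add, add_zero, ha]
          congr 1; decide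
      · obtain ⟨K, hKd, hKP, hK⟩ := fixed_conj (f x) (hdet x) x.2 (fun h => hx (finj _ _ (h.trans fone.symm))) w hw0 hw
        obtain ⟨k, hk⟩ := mk K hKd hKP
        have hxk : x * k = k * a := finj _ _ (by rw [fmul, fmul, hk, ha, hK])
        have hxk' : k⁻¹ * x = a * k⁻¹ := by
          rw [eq_mul_inv_iff_mul_eq, mul_assoc, hxk, inv_mul_cancel_left]
        set v' := (f k⁻¹).mulVec v with hv'
        refine ⟨mkG ![0, v' 1] a, conj _ a ![v' 0, 0] k⁻¹ ?_, comm_case _ ?_⟩
        · rw [gmul, gmul, hxk', ha, ← hv']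
          congr 1
          have hv : v' = ![v' 0, v' 1] := (List.ofFn_inj.1 rfl : v' = v').trans (by funext i; fin_cases i <;> rfl)
          rw [hv]
          exact split_eq (v' 0) (v' 1)
        · rw [gmul, gmul, Matrix.mulVec_zero, add_zero, zero_add, ha]
          congr 1
          exact fix_y (v' 1)
  · intro hle
    have hm : mkG 0 a ∈ Cfsg.pCore 2 (Multiplicative (Fin 2 → ZMod 3) ⋊[act] ↥H) := hle (Subgroup.mem_zpowers _)
    have hP := CfsgLib.Base.isPGroup_pCore 2 (Multiplicative (Fin 2 → ZMod 3) ⋊[act] ↥H)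
    haveI hN : (Cfsg.pCore 2 (Multiplicative (Fin 2 → ZMod 3) ⋊[act] ↥H)).Normal := Cfsg.pCore_normal 2 _
    have h1 : mkG 0 a * (mkG ![1, 0] 1 * (mkG 0 a)⁻¹ * (mkG ![1, 0] 1)⁻¹) ∈
        Cfsg.pCore 2 (Multiplicative (Fin 2 → ZMod 3) ⋊[act] ↥H) :=
      mul_mem hm (hN.conj_mem _ (inv_mem hm) _)
    have hi : (mkG 0 a)⁻¹ = mkG 0 a := inv_eq_of_mul_eq_one_right (by rw [gmul, ha2, Matrix.mulVec_zero, add_zero]; rfl)
    have hi1 : (mkG ![1, 0] 1)⁻¹ = mkG ![2, 0] 1 := inv_eq_of_mul_eq_one_right (by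
      rw [gmul, fone, Matrix.one_mulVec, mul_one]
      exact congrArg (fun u => mkG u 1) (by decide))
    simp only [hi, hi1, gmul, one_mul, mul_one, fone, Matrix.one_mulVec, ha2, Matrix.mulVec_zero, add_zero,
      zero_add, ha] at h1
    obtain ⟨k, hk⟩ := hP ⟨_, h1⟩
    have hk' := congrArg (fun z => z.1) hk
    simp only [SubgroupClass.coe_pow, OneMemClass.coe_one] at hk'
    have h3 : mkG (Am.mulVec (![1, 0] + Am.mulVec ![2, 0])) 1 ^ 3 = 1 := by
      rw [pow_succ, pow_two, gmul, gmul, fone, Matrix.one_mulVec, one_mul, mul_one]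
      exact congrArg (fun u => mkG u 1) (by decide)
    have h4 := pow_gcd_eq_one.2 ⟨hk', h3⟩
    rw [Nat.Coprime.pow_left k (show Nat.Coprime 2 3 by decide), pow_one] at h4
    have h5 : Am.mulVec (![1, 0] + Am.mulVec ![2, 0]) = (0 : Fin 2 → ZMod 3) := congrArg (fun z => z.left.toAdd) h4
    exact absurd h5 (by decide)

end Cfsg.Agent.S4331
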