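import Cfsg.Statements.S4332
import Cfsg.Agent.Lib.Base.Cores
import Mathlib

set_option autoImplicit false
open Pointwise
open Cfsg

namespace Cfsg.Agent.S4332

/-- Every permutation of at least eight points commutes up to conjugation with some three-cycle. -/
theorem exists_commuting {α : Type*} [Fintype α] [DecidableEq α] (h8 : 8 ≤ Fintype.card α) (c : Equiv.Perm α) :
    ∃ s : Equiv.Perm α, s.IsThreeCycle ∧ Commute s (c * s * c⁻¹) := by
  classical
  have conj : ∀ a b d : α, c * (Equiv.swap a b * Equiv.swap a d) * c⁻¹ =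
      Equiv.swap (c a) (c b) * Equiv.swap (c a) (c d) := by
    intro a b d
    rw [show c * (Equiv.swap a b * Equiv.swap a d) * c⁻¹ = (c * Equiv.swap a b) * (Equiv.swap a d * c⁻¹) from by group,
      Equiv.mul_swap_eq_swap_mul, mul_assoc (Equiv.swap (c a) (c b)), ← mul_assoc c, Equiv.mul_swap_eq_swap_mul,
      mul_inv_cancel_right]
  by_cases h3 : 3 ≤ (Finset.univ.filter fun y => c y = y).card
  · obtain ⟨T, hT, hTc⟩ := Finset.exists_subset_card_eq h3
    obtain ⟨a, b, d, hab, had, hbd, rfl⟩ := Finset.card_eq_three.mp hTc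
    simp only [Finset.insert_subset_iff, Finset.singleton_subset_iff, Finset.mem_filter, Finset.mem_univ, true_and] at hT
    obtain ⟨ha, hb, hd⟩ := hT
    refine ⟨_, Equiv.Perm.isThreeCycle_swap_mul_swap_same hab had hbd, ?_⟩
    rw [conj, ha, hb, hd]
  set M := Finset.univ.filter fun y => c y ≠ y with hMdef
  have hM : 6 ≤ M.card := by
    have h := Finset.card_filter_add_card_filter_not (s := (Finset.univ : Finset α)) (p := fun y => c y = y)
    rw [Finset.card_univ] at h
    simp only [ne_eq, hMdef]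
    omega
  by_cases hcyc : ∃ a, c a ≠ a ∧ c (c (c a)) = a
  · obtain ⟨a, ha, ha3⟩ := hcyc
    have h2 : a ≠ c (c a) := fun h => ha (by rw [← h] at ha3; exact ha3)
    have h3' : c a ≠ c (c a) := fun h => ha (c.injective h).symm
    refine ⟨_, Equiv.Perm.isThreeCycle_swap_mul_swap_same (Ne.symm ha) h2 h3', ?_⟩
    rw [conj, ha3]
    have e : Equiv.swap (c a) (c (c a)) * Equiv.swap (c a) a = Equiv.swap a (c a) * Equiv.swap a (c (c a)) := by
      refine Equiv.ext fun y => ?_
      simp only [Equiv.Perm.mul_apply, Equiv.swap_apply_def]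
      grind
    rw [e]
  push Not at hcyc
  obtain ⟨a, haM⟩ := Finset.card_pos.mp (by omega : 0 < M.card)
  have ha : c a ≠ a := (Finset.mem_filter.mp haM).2
  obtain ⟨b, hbm, hba, hbca, hcba, hsmall⟩ : ∃ b, c b ≠ b ∧ b ≠ a ∧ b ≠ c a ∧ c b ≠ a ∧
      ({a, c a, c⁻¹ a, b, c b, c⁻¹ b} : Finset α).card < 6 := by
    by_cases h : c (c a) = a
    · obtain ⟨b, hb, hb'⟩ := Finset.exists_mem_notMem_of_card_lt_card
        (s := ({a, c a} : Finset α)) (t := M) (lt_of_le_of_lt Finset.card_le_two (by omega))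
      simp only [Finset.mem_insert, Finset.mem_singleton, not_or] at hb'
      have hi : c⁻¹ a = c a := by
        rw [Equiv.Perm.inv_def, Equiv.symm_apply_eq]
        exact h.symm
      refine ⟨b, (Finset.mem_filter.mp hb).2, hb'.1, hb'.2, fun e => hb'.2 ?_, ?_⟩
      · exact c.injective (e.trans h.symm)
      · rw [hi, show ({a, c a, c a, b, c b, c⁻¹ b} : Finset α) = {a, c a, b, c b, c⁻¹ b} by simp]
        exact lt_of_le_of_lt Finset.card_le_five (by norm_num)
    · refine ⟨c (c a), fun e => ha (c.injective (c.injective e)), h, fun e => ha (c.injective e), hcyc a ha, ?_⟩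
      rw [show c⁻¹ (c (c a)) = c a by simp,
        show ({a, c a, c⁻¹ a, c (c a), c (c (c a)), c a} : Finset α) = {a, c a, c⁻¹ a, c (c a), c (c (c a))} by
          ext y; simp only [Finset.mem_insert, Finset.mem_singleton]; tauto]
      exact lt_of_le_of_lt Finset.card_le_five (by norm_num)
  obtain ⟨d, hdM, hd⟩ := Finset.exists_mem_notMem_of_card_lt_card (lt_of_lt_of_le hsmall hM)
  have hdm : c d ≠ d := (Finset.mem_filter.mp hdM).2
  simp only [Finset.mem_insert, Finset.mem_singleton, not_or, Equiv.Perm.inv_def, Equiv.eq_symm_apply] at hd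
  obtain ⟨hda, hdca, hcda, hdb, hdcb, hcdb⟩ := hd
  refine ⟨_, Equiv.Perm.isThreeCycle_swap_mul_swap_same (Ne.symm hba) (Ne.symm hda) (Ne.symm hdb), ?_⟩
  rw [conj]
  refine Equiv.Perm.Disjoint.commute fun y => ?_
  by_cases hy : y = a ∨ y = b ∨ y = d
  · right
    simp only [Equiv.Perm.mul_apply, Equiv.swap_apply_def]
    rcases hy with rfl | rfl | rfl <;> simp_all [eq_comm]
  · left
    push Not at hy
    simp [Equiv.Perm.mul_apply, Equiv.swap_apply_of_ne_of_ne, hy.1, hy.2.1, hy.2.2]

/-- In the symmetric group of degree 8, let A be the subgroup generated by a 3-cycle. Then every conjugacy class contains an element g for which A is subnormal in the subgroup generated by A and its conjugate by g, although O_3 of the symmetric group of degree 8 is trivial. -/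
theorem result
    (σ : Equiv.Perm (Fin 8)) (hσ : σ.IsThreeCycle) :
    (∀ c : Equiv.Perm (Fin 8), ∃ g : Equiv.Perm (Fin 8), IsConj c g ∧
      ((Subgroup.zpowers σ).subgroupOf (Subgroup.zpowers σ ⊔ MulAut.conj g • Subgroup.zpowers σ)).IsSubnormal) ∧
    Cfsg.pCore 3 (Equiv.Perm (Fin 8)) = ⊥ := by
  classical
  constructor
  · intro c
    obtain ⟨s, hs, hcs⟩ := exists_commuting (α := Fin 8) (by simp) c
    obtain ⟨τ, hτ⟩ := isConj_iff.mp (Equiv.Perm.isConj_iff_cycleType_eq.mpr (hs.trans hσ.symm))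
    refine ⟨τ * c * τ⁻¹, isConj_iff.mpr ⟨τ, rfl⟩, ?_⟩
    refine Subgroup.Normal.isSubnormal ?_
    have hcomm : Commute σ ((τ * c * τ⁻¹) * σ * (τ * c * τ⁻¹)⁻¹) := by
      have h := (Commute.conj_iff τ).mpr hcs
      rw [hτ] at h
      have e : (τ * c * τ⁻¹) * σ * (τ * c * τ⁻¹)⁻¹ = τ * (c * s * c⁻¹) * τ⁻¹ := by rw [← hτ]; group
      rw [e]; exact h
    rw [Subgroup.normal_subgroupOf_iff_le_normalizer le_sup_left]
    refine sup_le Subgroup.le_normalizer ?_
    refine le_trans ?_ (Subgroup.centralizer_le_normalizer _)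
    rintro _ ⟨y, hy, rfl⟩
    obtain ⟨i, rfl⟩ := Subgroup.mem_zpowers_iff.mp hy
    rw [Subgroup.mem_centralizer_iff]
    rintro _ ⟨j, rfl⟩
    show σ ^ j * (MulAut.conj (τ * c * τ⁻¹) (σ ^ i)) = MulAut.conj (τ * c * τ⁻¹) (σ ^ i) * σ ^ j
    rw [map_zpow, MulAut.conj_apply]
    exact (hcomm.zpow_zpow j i).eq
  · have hA : IsSimpleGroup (alternatingGroup (Fin 8)) := alternatingGroup.isSimpleGroup (by simp)
    set K := Cfsg.pCore 3 (Equiv.Perm (Fin 8)) with hK
    have hKp : IsPGroup 3 K := CfsgLib.Base.isPGroup_pCore 3 _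
    have := Fact.mk Nat.prime_three
    rcases hA.eq_bot_or_eq_top_of_normal (K.subgroupOf (alternatingGroup (Fin 8))) inferInstance with h | h
    · -- then `K` embeds into a group of order two
      have h2 : Nat.card K ∣ 2 := by
        have hdis : K ⊓ alternatingGroup (Fin 8) = ⊥ := Subgroup.subgroupOf_eq_bot.mp h |>.eq_bot
        have hinj : Function.Injective (Equiv.Perm.sign.comp K.subtype) := by
          rw [injective_iff_map_eq_one]
          intro y hy
          exact Subtype.ext ((Subgroup.mem_bot).mp (hdis ▸ Subgroup.mem_inf.mpr ⟨y.2, Equiv.Perm.mem_alternatingGroup.mpr hy⟩))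
        have h' := Subgroup.card_dvd_of_injective _ hinj
        rwa [Nat.card_eq_fintype_card (α := ℤˣ), Fintype.card_units_int] at h'
      obtain ⟨e, he⟩ := IsPGroup.iff_card.mp hKp
      rw [he] at h2
      rcases e with _ | e
      · exact Subgroup.card_eq_one.mp he
      · exact absurd ((dvd_pow_self 3 (Nat.succ_ne_zero e)).trans h2) (by norm_num)
    · exfalso
      have hle : alternatingGroup (Fin 8) ≤ K := Subgroup.subgroupOf_eq_top.mp h
      obtain ⟨e, he⟩ := IsPGroup.iff_card.mp (hKp.to_le hle)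
      have h8 : Nat.card (alternatingGroup (Fin 8)) = 20160 := by
        rw [Nat.card_eq_fintype_card, card_alternatingGroup, Fintype.card_fin]; decide
      have h2 : 2 ∣ 3 ^ e := by rw [← he, h8]; norm_num
      exact absurd (Nat.prime_two.dvd_of_dvd_pow h2) (by norm_num)

end Cfsg.Agent.S4332
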