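import Cfsg.Statements.S4333
import Cfsg.Agent.Lib.Base.Wielandt

set_option autoImplicit false
open Pointwise
open Cfsg

namespace Cfsg.Agent.S4333

open scoped Pointwise
open CfsgLib.Base

universe u

theorem refinement {G : Type u} [Group G] [Finite G] (A : Subgroup G)
    (h : ∀ a ∈ A, ∀ g : G, (A.subgroupOf (A ⊔ MulAut.conj (g⁻¹ * a * g) • A)).IsSubnormal) :
    A.IsSubnormal := by
  induction hn : Nat.card G using Nat.strong_induction_on generalizing G with
  | _ n ih =>
  subst hn
  by_contra hA
  have hsub : ∀ H : Subgroup G, A ≤ H → H ≠ ⊤ → IsSubnormalIn A H := by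
    intro H hAH hH
    refine ⟨hAH, ih (Nat.card H) ?_ (A.subgroupOf H) (fun a ha g => ?_) rfl⟩
    · exact lt_of_le_of_ne (Subgroup.card_le_card_group H) fun e =>
        hH (Subgroup.eq_top_of_card_eq _ e)
    · have hle : MulAut.conj ((g⁻¹ * a * g : H) : G) • A ≤ H := by
        rintro _ ⟨b, hb, rfl⟩
        exact H.mul_mem (H.mul_mem (g⁻¹ * a * g).2 (hAH hb)) (H.inv_mem (g⁻¹ * a * g).2)
      have he : A.subgroupOf H ⊔ MulAut.conj (g⁻¹ * a * g) • A.subgroupOf H =
          (A ⊔ MulAut.conj ((g⁻¹ * a * g : H) : G) • A).subgroupOf H := by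
        rw [Subgroup.subgroupOf_sup hAH hle]
        congr 1
        apply Subgroup.map_injective H.subtype_injective
        rw [Subgroup.map_subgroupOf_eq_of_le hle, ← map_conj_eq_smul, ← map_conj_eq_smul,
          Subgroup.map_map]
        conv_rhs => rw [← Subgroup.map_subgroupOf_eq_of_le hAH, Subgroup.map_map]
        congr 1
      rw [he]
      exact (h (a : G) ha (g : G)).comap
        ((Subgroup.subgroupOfEquivOfLe (sup_le hAH hle)).toMonoidHom)
  have hAt : A ≠ ⊤ := fun e => hA (e ▸ Subgroup.IsSubnormal.top)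
  obtain ⟨M, hM, hAM⟩ := (IsCoatomic.eq_top_or_exists_le_coatom A).resolve_left hAt
  have hNM : Subgroup.normalizer (M : Set G) = M := by
    by_contra hne
    have htop := hM.2 _ (lt_of_le_of_ne Subgroup.le_normalizer (Ne.symm hne))
    have h1 := hsub M hAM hM.1
    exact hA (Subgroup.IsSubnormal.trans h1.1 h1.2
      (Subgroup.normalizer_eq_top_iff.1 htop).isSubnormal)
  have hall : Subgroup.normalClosure (A : Set G) ≤ M := by
    rw [Subgroup.normalClosure, Subgroup.closure_le]
    intro y hy
    obtain ⟨a, ha, hc⟩ := Group.mem_conjugatesOfSet_iff.1 hy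
    obtain ⟨c, rfl⟩ := isConj_iff.1 hc
    set x := c⁻¹⁻¹ * a * c⁻¹ with hx
    have hne : A ⊔ MulAut.conj x • A ≠ ⊤ := fun e => by
      have := h a ha c⁻¹
      rw [← hx, e] at this
      exact hA (Subgroup.IsSubnormal.trans le_top this Subgroup.IsSubnormal.top)
    obtain ⟨K, hK, hle⟩ :=
      (IsCoatomic.eq_top_or_exists_le_coatom (A ⊔ MulAut.conj x • A)).resolve_left hne
    rw [← eq_of_isCoatom_of_not_isSubnormal A hsub hA hM hAM hK (le_sup_left.trans hle)] at hle
    -- so `x` normalises `M`
    have hle' : A ≤ MulAut.conj x⁻¹ • M := fun b hb => by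
      rw [Subgroup.mem_pointwise_smul_iff_inv_smul_mem, ← map_inv, inv_inv]
      exact hle (Subgroup.mem_sup_right (Subgroup.smul_mem_pointwise_smul b _ A hb))
    have hM' : IsCoatom (MulAut.conj x⁻¹ • M) :=
      ((MulAut.conj x⁻¹).mapSubgroup.isCoatom_iff M).2 hM
    have hxM : MulAut.conj x⁻¹ • M = M :=
      (eq_of_isCoatom_of_not_isSubnormal A hsub hA hM hAM hM' hle').symm
    have hxN : x⁻¹ ∈ M := by
      rw [← hNM, ← map_conj_eq_self_iff, map_conj_eq_smul]
      exact hxM
    have := M.inv_mem hxN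
    simpa [hx, mul_assoc] using this
  have h1 := hsub (Subgroup.normalClosure (A : Set G)) (fun a ha => Subgroup.subset_normalClosure ha)
    fun e => hM.1 (top_le_iff.1 (e ▸ hall))
  exact hA (Subgroup.IsSubnormal.trans h1.1 h1.2 (Subgroup.Normal.isSubnormal inferInstance))

/-- Let A be a subgroup of a finite group G. If A is subnormal in the subgroup generated by A and its conjugate by g⁻¹ a g, for every a ∈ A and every g ∈ G, then A is subnormal in G. (A sharpening of Wielandt's subnormality criterion: only conjugates of A by conjugates of elements of A are needed.) -/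
theorem result {G : Type*} [Group G] [Finite G]
    (A : Subgroup G)
    (h : ∀ a ∈ A, ∀ g : G, (A.subgroupOf (A ⊔ MulAut.conj (g⁻¹ * a * g) • A)).IsSubnormal) :
    A.IsSubnormal := by
  exact refinement A h

end Cfsg.Agent.S4333
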