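import Cfsg.Statements.S4337
import Cfsg.Agent.Lib.FgsC.Basic

set_option autoImplicit false
open Cfsg

namespace Cfsg.Agent.S4337

theorem le_fixingSubgroup_solvable {α : Type*} [Finite α] (S : Finset α) (hS : S.card ≤ 4)
    (H : Subgroup (Equiv.Perm α)) (h : ∀ σ ∈ H, ∀ x, σ x ≠ x → x ∈ S) : Group.IsSolvable H := by
  classical
  have := Fintype.ofFinite α
  have hinv : ∀ σ ∈ H, ∀ x, σ x ∈ S ↔ x ∈ S := by
    intro σ hσ x
    by_cases hx : σ x = x
    · rw [hx]
    · exact ⟨fun _ => h σ hσ x hx, fun _ => h σ hσ _ fun e => hx (σ.injective e)⟩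
  let f : H →* Equiv.Perm {x // x ∈ S} :=
    { toFun := fun σ => (σ : Equiv.Perm α).subtypePerm (hinv σ σ.2)
      map_one' := by ext; rfl
      map_mul' := fun σ τ => by ext; rfl }
  refine CfsgLib.FgsC.isSolvable_of_injective_perm (by simpa using hS) f ?_
  rw [injective_iff_map_eq_one]
  intro σ hσ
  ext x
  by_cases hx : x ∈ S
  · exact congrArg Subtype.val (Equiv.Perm.congr_fun hσ ⟨x, hx⟩)
  · by_contra hne
    exact hx (h σ σ.2 x hne)

theorem closure_swaps_support {α : Type*} [DecidableEq α] (S : Finset α) (s : Set (Equiv.Perm α))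
    (hs : ∀ σ ∈ s, ∀ x, σ x ≠ x → x ∈ S) : ∀ σ ∈ Subgroup.closure s, ∀ x, σ x ≠ x → x ∈ S := by
  intro σ hσ
  induction hσ using Subgroup.closure_induction with
  | mem σ h => exact hs σ h
  | one => simp
  | mul σ τ _ _ h1 h2 =>
    intro x hx
    by_cases h : τ x = x
    · exact h1 x fun e => hx (by rw [Equiv.Perm.mul_apply, h, e])
    · exact h2 x h
  | inv σ _ h1 =>
    intro x hx
    exact h1 x fun e => hx (by rw [Equiv.Perm.inv_eq_iff_eq, e])

theorem solvable_insert_comm {G : Type*} [Group G] {A : Subgroup G} (hA : Group.IsSolvable A) (c : G)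
    (hc : ∀ a ∈ A, a * c = c * a) : Group.IsSolvable ↥(A ⊔ Subgroup.zpowers c) := by
  have hcom : ∀ (x : A) (y : Subgroup.zpowers c), Commute (x : G) (y : G) := by
    rintro x ⟨y, k, rfl⟩
    exact Commute.zpow_right (hc x x.2) k
  have : Group.IsSolvable (Subgroup.zpowers c) :=
    Group.isSolvable_of_comm fun a b => Subtype.ext (by
      obtain ⟨a, i, rfl⟩ := a; obtain ⟨b, j, rfl⟩ := b
      exact zpow_mul_comm c i j)
  have hle : A ⊔ Subgroup.zpowers c = (A.subtype.noncommCoprod (Subgroup.zpowers c).subtype hcom).range := by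
    refine Eq.trans ?_ (MonoidHom.noncommCoprod_range A.subtype (Subgroup.zpowers c).subtype hcom).symm
    rw [Subgroup.range_subtype, Subgroup.range_subtype]
  rw [hle]
  exact Group.isSolvable_of_surjective (MonoidHom.rangeRestrict_surjective _)

theorem swap_support {α : Type*} [DecidableEq α] (a b x : α) (h : Equiv.swap a b x ≠ x) :
    x ∈ ({a, b} : Finset α) := by
  rcases eq_or_ne x a with rfl | h1
  · simp
  rcases eq_or_ne x b with rfl | h2
  · simp
  exact absurd (Equiv.swap_apply_of_ne_of_ne h1 h2) h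

theorem disjoint_comm {α : Type*} [Finite α] [DecidableEq α] {a b c : Finset α} {A : Subgroup (Equiv.Perm α)}
    (hA : ∀ σ ∈ A, ∀ x, σ x ≠ x → x ∈ a ∪ b) {z : Equiv.Perm α} (hz : ∀ x, z x ≠ x → x ∈ c)
    (hd : Disjoint (a ∪ b) c) : ∀ σ ∈ A, σ * z = z * σ := by
  intro σ hσ
  refine (Equiv.Perm.Disjoint.commute fun x => ?_)
  by_cases h : σ x = x
  · exact Or.inl h
  · exact Or.inr (by_contra fun h' => Finset.disjoint_left.mp hd (hA σ hσ x h) (hz x h'))

theorem three_swaps {α : Type*} [Finite α] [DecidableEq α] (a1 a2 b1 b2 c1 c2 : α) :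
    Group.IsSolvable (Subgroup.closure
      ({Equiv.swap a1 a2, Equiv.swap b1 b2, Equiv.swap c1 c2} : Set (Equiv.Perm α))) := by
  classical
  set a : Finset α := {a1, a2} with haS
  set b : Finset α := {b1, b2} with hbS
  set c : Finset α := {c1, c2} with hcS
  by_cases h : ((a ∪ b) ∪ c).card ≤ 4
  · refine le_fixingSubgroup_solvable _ h _ (closure_swaps_support _ _ ?_)
    rintro σ (rfl | rfl | rfl) x hx
    · exact Finset.mem_union_left _ (Finset.mem_union_left _ (swap_support _ _ _ hx))
    · exact Finset.mem_union_left _ (Finset.mem_union_right _ (swap_support _ _ _ hx))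
    · exact Finset.mem_union_right _ (swap_support _ _ _ hx)
  · have key : ∀ p q r : α × α, Disjoint (({p.1, p.2} : Finset α) ∪ {q.1, q.2}) {r.1, r.2} →
        Group.IsSolvable (Subgroup.closure
          ({Equiv.swap p.1 p.2, Equiv.swap q.1 q.2, Equiv.swap r.1 r.2} : Set (Equiv.Perm α))) := by
      intro p q r hd
      set A := Subgroup.closure ({Equiv.swap p.1 p.2, Equiv.swap q.1 q.2} : Set (Equiv.Perm α)) with hA
      have hAs : ∀ σ ∈ A, ∀ x, σ x ≠ x → x ∈ ({p.1, p.2} : Finset α) ∪ {q.1, q.2} := by
        refine closure_swaps_support _ _ ?_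
        rintro σ (rfl | rfl) x hx
        · exact Finset.mem_union_left _ (swap_support _ _ _ hx)
        · exact Finset.mem_union_right _ (swap_support _ _ _ hx)
      have hcard : (({p.1, p.2} : Finset α) ∪ {q.1, q.2}).card ≤ 4 :=
        (Finset.card_union_le _ _).trans (Nat.add_le_add Finset.card_le_two Finset.card_le_two)
      have e : Subgroup.closure
          ({Equiv.swap p.1 p.2, Equiv.swap q.1 q.2, Equiv.swap r.1 r.2} : Set (Equiv.Perm α))
          = A ⊔ Subgroup.zpowers (Equiv.swap r.1 r.2) := by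
        rw [hA, Subgroup.zpowers_eq_closure, ← Subgroup.closure_union]
        congr 1
        ext; simp [or_assoc, or_left_comm, or_comm]
      rw [e]
      exact solvable_insert_comm (le_fixingSubgroup_solvable _ hcard A hAs) _
        (disjoint_comm hAs (fun x hx => swap_support _ _ x hx) hd)
    have hA2 : a.card ≤ 2 := Finset.card_le_two
    have hB2 : b.card ≤ 2 := Finset.card_le_two
    have hC2 : c.card ≤ 2 := Finset.card_le_two
    have hcases : Disjoint (a ∪ b) c ∨ Disjoint (a ∪ c) b ∨ Disjoint (b ∪ c) a := by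
      by_contra hc'
      simp only [not_or, Finset.disjoint_union_left, not_and_or] at hc'
      have := Finset.card_union_add_card_inter (a ∪ b) c
      have := Finset.card_union_add_card_inter a b
      have := Finset.card_le_two (a := a1) (b := a2)
      have := Finset.card_le_two (a := b1) (b := b2)
      have := Finset.card_le_two (a := c1) (b := c2)
      have h1 : ¬ Disjoint a b ∨ ¬ Disjoint c b := hc'.2.1
      have h2 : ¬ Disjoint (a ∪ b) c := by
        rw [Finset.disjoint_union_left, not_and_or]; exact hc'.1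
      rw [Finset.not_disjoint_iff_nonempty_inter, ← Finset.card_pos] at h2
      by_cases hab : Disjoint a b
      · have hac : ¬ Disjoint a c := by
          rcases hc'.2.2 with hh | hh
          · exact absurd hab.symm hh
          · exact fun e => hh e.symm
        have hbc : ¬ Disjoint b c := fun e => (h1.resolve_left (not_not_intro hab)) e.symm
        rw [Finset.not_disjoint_iff_nonempty_inter, ← Finset.card_pos] at hac hbc
        have e1 : ((a ∪ b) ∩ c).card = (a ∩ c).card + (b ∩ c).card := by
          rw [Finset.union_inter_distrib_right, Finset.card_union_of_disjoint]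
          exact hab.mono Finset.inter_subset_left Finset.inter_subset_left
        omega
      · rw [Finset.not_disjoint_iff_nonempty_inter, ← Finset.card_pos] at hab
        omega
    rcases hcases with hd | hd | hd
    · exact key (a1, a2) (b1, b2) (c1, c2) hd
    · rw [Set.pair_comm (Equiv.swap b1 b2) (Equiv.swap c1 c2)]
      exact key (a1, a2) (c1, c2) (b1, b2) hd
    · rw [Set.insert_comm (Equiv.swap a1 a2) (Equiv.swap b1 b2), Set.pair_comm (Equiv.swap a1 a2) (Equiv.swap c1 c2)]
      exact key (b1, b2) (c1, c2) (a1, a2) hd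

/-- In a finite symmetric group, any three transpositions generate a solvable subgroup. -/
theorem result (n : ℕ) (a b c : Equiv.Perm (Fin n))
    (ha : a.IsSwap) (hb : b.IsSwap) (hc : c.IsSwap) :
    Group.IsSolvable (Subgroup.closure ({a, b, c} : Set (Equiv.Perm (Fin n)))) := by
  classical
  obtain ⟨a1, a2, -, rfl⟩ := ha
  obtain ⟨b1, b2, -, rfl⟩ := hb
  obtain ⟨c1, c2, -, rfl⟩ := hc
  exact three_swaps _ _ _ _ _ _

end Cfsg.Agent.S4337
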