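import Cfsg.Statements.S4342
import Cfsg.Agent.Lib.FgsC.Index

set_option autoImplicit false
open Cfsg

namespace Cfsg.Agent.S4342

/-- Let H be a normal subgroup of a finite group G and p a prime not dividing the index of H. Then the number of Sylow p-subgroups of H/Z(H) equals the number of Sylow p-subgroups of G. -/
theorem result {G : Type*} [Group G] [Finite G]
    (p : ℕ) [Fact p.Prime] (H : Subgroup G) [H.Normal] (hp : ¬ p ∣ H.index) :
    Nat.card (Sylow p (H ⧸ Subgroup.center H)) = Nat.card (Sylow p G) := by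
  have hmap := QuotientGroup.mk'_surjective (Subgroup.center H)
  have h1 : Nat.card (Sylow p (H ⧸ Subgroup.center H)) = Nat.card (Sylow p H) := by
    refine (Nat.card_congr (Equiv.ofBijective (fun P : Sylow p H => P.mapSurjective hmap) ⟨?_, ?_⟩)).symm
    · intro P Q e
      have e' : (P : Subgroup H).map (QuotientGroup.mk' (Subgroup.center H)) =
          (Q : Subgroup H).map (QuotientGroup.mk' (Subgroup.center H)) := congrArg Sylow.toSubgroup e
      have hle : (P : Subgroup H) ≤ Subgroup.normalizer ((Q : Subgroup H) : Set H) := by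
        intro x hx
        obtain ⟨y, hy, hyx⟩ := (e' ▸ Subgroup.mem_map_of_mem _ hx : QuotientGroup.mk' (Subgroup.center H) x ∈ (Q : Subgroup H).map (QuotientGroup.mk' (Subgroup.center H)))
        obtain ⟨z, hz, rfl⟩ := (QuotientGroup.mk'_eq_mk' _).mp hyx
        exact Subgroup.mul_mem _ (Subgroup.le_normalizer hy) (Subgroup.center_le_normalizer _ hz)
      have h2 := P.isPGroup'.inf_normalizer_sylow Q
      rw [inf_eq_left.mpr (show (P : Subgroup H) ≤ Subgroup.normalizer (Q : Set H) from hle)] at h2
      exact (Sylow.ext (P.is_maximal' Q.isPGroup' (inf_eq_left.mp h2.symm))).symm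
    · intro Q
      exact Sylow.mapSurjective_surjective hmap p Q
  rw [h1]
  obtain ⟨P⟩ := Sylow.nonempty (p := p) (G := G)
  have hPH : (P : Subgroup G) ≤ H := by
    intro x hx
    obtain ⟨k, hk⟩ := P.isPGroup' ⟨x, hx⟩
    have hx' : x ^ p ^ k = 1 := by simpa using congrArg Subtype.val hk
    have hc : (orderOf x).Coprime H.index :=
      Nat.Coprime.coprime_dvd_left (orderOf_dvd_of_pow_eq_one hx')
        (Nat.Coprime.pow_left k ((Fact.out : p.Prime).coprime_iff_not_dvd.mpr hp))
    obtain ⟨m, hm⟩ := exists_pow_eq_self_of_coprime hc.symm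
    rw [← hm]
    exact H.pow_mem (H.pow_index_mem x) m
  rw [(P.subtype hPH).card_eq_index_normalizer, P.card_eq_index_normalizer]
  have h3 : Subgroup.normalizer ((P : Subgroup G) : Set G) ⊔ H = ⊤ :=
    Sylow.normalizer_sup_eq_top' (N := H) P hPH
  have h4 := CfsgLib.FgsC.relIndex_sup_of_normal (Subgroup.normalizer ((P : Subgroup G) : Set G)) H
  rw [h3, Subgroup.relIndex_top_right] at h4
  refine Eq.trans ?_ h4.symm
  rw [Subgroup.relIndex, Subgroup.subgroupOf_normalizer_eq hPH]
  rfl

end Cfsg.Agent.S4342
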