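import Cfsg.Statements.S4343
import Cfsg.Agent.Lib.Small.SylowInter
import Cfsg.Agent.Lib.Base.Cores

set_option autoImplicit false
open Cfsg

namespace Cfsg.Agent.S4343

open Subgroup CfsgLib MulAction
open scoped commutatorElement
set_option linter.style.haveILetI false

theorem relIndex_eq {G : Type*} [Group G] [Finite G] {p : ℕ} [hp : Fact p.Prime]
    (hn : Nat.card (Sylow p G) < p ^ 2) {P Q : Sylow p G} (hne : P ≠ Q) :
    (Q : Subgroup G).relIndex (P : Subgroup G) = p := by
  obtain ⟨k, hk⟩ := P.isPGroup'.index ((Q : Subgroup G).subgroupOf (P : Subgroup G))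
  have hlt : p ^ k < p ^ 2 := by
    rw [← hk, ← Small.stabilizer_sylow_eq, index_stabilizer]
    exact lt_of_le_of_lt (Set.ncard_le_card _) hn
  have hk1 := (Nat.pow_lt_pow_iff_right hp.out.one_lt).mp hlt
  have hk0 : k ≠ 0 := by
    rintro rfl
    rw [pow_zero] at hk
    exact hne (Sylow.ext (P.3 Q.isPGroup' (relIndex_eq_one.mp hk)).symm)
  change ((Q : Subgroup G).subgroupOf (P : Subgroup G)).index = p
  rw [hk, show k = 1 by omega, pow_one]

/-- Let S be a finite non-abelian simple group and p a prime dividing its order. If S has fewer than p² Sylow p-subgroups, then its Sylow p-subgroups have order p. -/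
theorem result {S : Type*} [Group S] [Finite S]
    [IsSimpleGroup S] (hS : ¬ IsMulCommutative S) (p : ℕ) [Fact p.Prime] (hp : p ∣ Nat.card S)
    (hn : Nat.card (Sylow p S) < p ^ 2) (P : Sylow p S) : Nat.card P = p := by
  haveI hpp : p.Prime := Fact.out
  have hcore : pCore p S = ⊥ := by
    haveI : (pCore p S).Normal := pCore_normal p S
    refine ((inferInstance : (pCore p S).Normal).eq_bot_or_eq_top).resolve_right fun h => ?_
    have hP := Base.pCore_eq_top_iff.mp h
    haveI : Nontrivial S := IsSimpleGroup.toNontrivial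
    have hcne : center S ≠ ⊥ := (nontrivial_iff_ne_bot _).mp hP.center_nontrivial
    exact hS (center_eq_top_iff.mp
      (((inferInstance : (center S).Normal).eq_bot_or_eq_top).resolve_left hcne))
  have hne : ∀ R : Sylow p S, (R : Subgroup S) ≠ ⊥ := fun R h => R.not_dvd_index (by
    rw [h, index_bot]; exact hp)
  have hinf : ⨅ R : Sylow p S, (R : Subgroup S) = ⊥ := by
    rw [← Base.pCore_eq_iInf_sylow, hcore]
  have hab : ∀ R : Sylow p S, IsMulCommutative ↥(R : Subgroup S) := by
    intro R
    refine ⟨⟨fun a b => ?_⟩⟩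
    have hall : ∀ T : Sylow p S, ((⁅a, b⁆ : ↥(R : Subgroup S)) : S) ∈ (T : Subgroup S) := by
      intro T
      rcases eq_or_ne R T with rfl | hRT
      · exact (⁅a, b⁆ : ↥(R : Subgroup S)).2
      · set M : Subgroup ↥(R : Subgroup S) := (T : Subgroup S).subgroupOf (R : Subgroup S) with hM
        have hidx : M.index = p := relIndex_eq hn hRT
        obtain ⟨m, hm⟩ := IsPGroup.iff_card.mp R.isPGroup'
        have hm0 : m ≠ 0 := by
          rintro rfl
          rw [pow_zero, card_eq_one] at hm
          exact hne R hm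
        haveI : M.Normal := normal_of_index_eq_minFac_card
          (by rw [hidx, hm, Nat.pow_minFac hm0, hpp.minFac_eq])
        haveI : IsCyclic (↥(R : Subgroup S) ⧸ M) := isCyclic_of_prime_card (p := p) hidx
        have hq : QuotientGroup.mk' M ⁅a, b⁆ = 1 := by
          rw [map_commutatorElement, commutatorElement_eq_one_iff_mul_comm]
          exact IsMulCommutative.is_comm.comm _ _
        exact mem_subgroupOf.mp ((QuotientGroup.eq_one_iff (N := M) _).mp hq)
    have h1 : ((⁅a, b⁆ : ↥(R : Subgroup S)) : S) ∈ (⊥ : Subgroup S) := by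
      rw [← hinf]
      exact mem_iInf.mpr hall
    exact commutatorElement_eq_one_iff_mul_comm.mp (Subtype.ext (mem_bot.mp h1))
  obtain ⟨P₀, Q₀, h0⟩ := Small.exists_inf_eq_iInf hab
  rw [hinf] at h0
  have hPQ : P₀ ≠ Q₀ := by
    rintro rfl
    rw [inf_idem] at h0
    exact hne P₀ h0
  have h := relIndex_eq hn hPQ
  rw [← inf_relIndex_left, h0, relIndex_bot_left] at h
  exact (Nat.card_congr (P.equiv P₀).toEquiv).trans h

end Cfsg.Agent.S4343
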