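import Cfsg.Statements.S4344
import Cfsg.Agent.Lib.Base.Transport

set_option autoImplicit false
open Cfsg

namespace Cfsg.Agent.S4344

/-- Let S be a finite non-abelian simple group, M a maximal subgroup of S and C a cyclic normal subgroup of M. If a Sylow p-subgroup P of S (for a prime p dividing the order of S) is contained in C, then the number of Sylow p-subgroups of S equals the index of M. -/
theorem result {S : Type*} [Group S] [Finite S]
    [IsSimpleGroup S] (hS : ¬ IsMulCommutative S) (p : ℕ) [Fact p.Prime] (hp : p ∣ Nat.card S)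
    (M : Subgroup S) (hM : IsCoatom M) (C : Subgroup S) (hCM : C ≤ M) (hCn : (C.subgroupOf M).Normal)
    (hC : IsCyclic C) (P : Sylow p S) (hP : (P : Subgroup S) ≤ C) :
    Nat.card (Sylow p S) = M.index := by
  have hPC : (P : Subgroup S) ≠ ⊥ := P.ne_bot_of_dvd_card hp
  have hPtop : (P : Subgroup S) ≠ ⊤ := by
    intro e
    have hpg : IsPGroup p S := fun x => by
      obtain ⟨k, hk⟩ := P.isPGroup' ⟨x, e ▸ Subgroup.mem_top x⟩
      exact ⟨k, by simpa using congrArg Subtype.val hk⟩
    have := hpg.isNilpotent
    exact hS ⟨⟨fun a b => IsSimpleGroup.comm_iff_isSolvable.mpr inferInstance a b⟩⟩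
  have hcC : IsMulCommutative C := ⟨⟨(IsCyclic.commGroup (α := C)).mul_comm⟩⟩
  have hPn : ((P.subtype hP) : Subgroup C).Normal :=
    CfsgLib.Base.normal_of_le_center fun x _ => Subgroup.mem_center_iff.mpr fun y => hcC.is_comm.comm y x
  have := Sylow.characteristic_of_normal (P.subtype hP) hPn
  have hMN : M ≤ Subgroup.normalizer ((P : Subgroup S) : Set S) := by
    have h1 : M ≤ Subgroup.normalizer (C : Set S) := (Subgroup.normal_subgroupOf_iff_le_normalizer hCM).mp hCn
    refine h1.trans ?_
    have h2 := CfsgLib.Base.normalizer_le_normalizer_map_subtype C ((P.subtype hP : Subgroup C))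
    rwa [Sylow.coe_subtype, Subgroup.subgroupOf_map_subtype, inf_eq_left.mpr hP] at h2
  have hne : Subgroup.normalizer ((P : Subgroup S) : Set S) ≠ ⊤ := by
    intro e
    exact (IsSimpleGroup.eq_bot_or_eq_top_of_normal _ (Subgroup.normalizer_eq_top_iff.mp e)).elim hPC hPtop
  rw [P.card_eq_index_normalizer]
  rcases hMN.eq_or_lt with e | e
  · show (Subgroup.normalizer ((P : Subgroup S) : Set S)).index = _
    rw [← e]
  · exact absurd (hM.2 _ e) hne

end Cfsg.Agent.S4344
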