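import Cfsg.Statements.S4345
import Cfsg.Agent.Lib.FgsC.SylowCount
import Cfsg.Agent.Lib.Small.Basic

set_option autoImplicit false
open Cfsg

namespace Cfsg.Agent.S4345

/-- Let G be a finite solvable group and p, ℓ primes. Then the largest power of ℓ dividing the number of Sylow p-subgroups of G is congruent to 1 modulo p. -/
theorem result {G : Type*} [Group G] [Finite G]
    (hG : Group.IsSolvable G) (p ℓ : ℕ) [Fact p.Prime] (hℓ : ℓ.Prime) :
    ℓ ^ (Nat.card (Sylow p G)).factorization ℓ ≡ 1 [MOD p] := by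
  have hp : p.Prime := Fact.out
  obtain ⟨l, hl, hm⟩ := CfsgLib.FgsC.exists_sylow_factors (p := p) (Nat.card G) G rfl
  have hm' : ∀ m ∈ l, m = 1 ∨ (IsPrimePow m ∧ m % p = 1) := by
    intro m hml
    rcases hm m hml with h | ⟨S, i1, i2, ⟨h1, h2⟩, h3⟩
    · exact Or.inr h
    · refine Or.inl ?_
      have := h2 hG
      have hcomm : IsMulCommutative S := ⟨⟨IsSimpleGroup.comm_iff_isSolvable.mpr this⟩⟩
      obtain ⟨P⟩ : Nonempty (Sylow p S) := inferInstance
      rw [h3, CfsgLib.Small.card_sylow_eq_index P, Subgroup.index_eq_one, Subgroup.normalizer_eq_top_iff]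
      exact ⟨fun x hx g => by rw [hcomm.is_comm.comm g x, mul_inv_cancel_right]; exact hx⟩
  rw [← hl]
  clear hl hm
  induction l with
  | nil => simp [Nat.ModEq]
  | cons a l ih =>
    have ha := hm' a (by simp)
    have ih' := ih (fun m h => hm' m (List.mem_cons_of_mem _ h))
    have hne : ∀ m ∈ a :: l, m ≠ 0 := by
      intro m h
      rcases hm' m h with rfl | h
      · exact one_ne_zero
      · exact h.1.ne_zero
    have hl0 : l.prod ≠ 0 := List.prod_ne_zero fun h => hne 0 (List.mem_cons_of_mem _ h) rfl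
    rw [List.prod_cons, Nat.factorization_mul (hne a (by simp)) hl0, Finsupp.add_apply, pow_add,
      show (1 : ℕ) = 1 * 1 from rfl]
    refine Nat.ModEq.mul ?_ ih'
    rcases ha with rfl | ⟨hpp, hmod⟩
    · simp [Nat.ModEq]
    · obtain ⟨r, k, hr, -, rfl⟩ := hpp
      rw [Nat.prime_iff.mpr hr |>.factorization_pow]
      by_cases h : r = ℓ
      · subst h
        rw [Finsupp.single_eq_same]
        rw [Nat.ModEq, hmod, Nat.one_mod_eq_one.mpr hp.ne_one]
      · rw [Finsupp.single_eq_of_ne (Ne.symm h), pow_zero]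

end Cfsg.Agent.S4345
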