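import Cfsg.Statements.S4346
import Cfsg.Agent.Lib.FgsC.SylowCount
import Cfsg.Agent.Lib.FgsC.SylowThree22

set_option autoImplicit false
open Cfsg

namespace Cfsg.Agent.S4346

/-- No finite group has exactly 22 Sylow 3-subgroups. -/
theorem result {G : Type*} [Group G] [Finite G] : Nat.card (Sylow 3 G) ≠ 22 := by
  intro hn
  have := Fact.mk Nat.prime_three
  obtain ⟨l, hl, hm⟩ := CfsgLib.FgsC.exists_sylow_factors (p := 3) (Nat.card G) G rfl
  obtain ⟨m, hml, hm1⟩ : ∃ m ∈ l, m ≠ 1 := by
    by_contra hc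
    push Not at hc
    rw [List.prod_eq_one hc, hn] at hl
    omega
  have hmd : m ∣ 22 := hn ▸ hl ▸ List.dvd_prod hml
  have hdiv : m ∈ Nat.divisors 22 := Nat.mem_divisors.mpr ⟨hmd, by norm_num⟩
  rw [show Nat.divisors 22 = {1, 2, 11, 22} from by decide] at hdiv
  simp only [Finset.mem_insert, Finset.mem_singleton] at hdiv
  rcases hm m hml with ⟨hpp, hmod⟩ | ⟨S, i1, i2, ⟨h1, -⟩, h3⟩
  · rcases hdiv with rfl | rfl | rfl | rfl <;> first | omega |
      exact absurd ((isPrimePow_iff_unique_prime_dvd.mp hpp).unique (y₁ := 2) (y₂ := 11) ⟨by norm_num, by norm_num⟩ ⟨by norm_num, by norm_num⟩) (by norm_num)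
  · have h4 := card_sylow_modEq_one 3 S
    rw [← h3] at h4
    have hS : Nat.card (Sylow 3 S) = 22 := by
      rw [← h3]
      rcases hdiv with rfl | rfl | rfl | rfl <;> first | rfl | omega | exact absurd h4 (by decide)
    have hnab : ¬ IsMulCommutative S := by
      intro hc
      obtain ⟨P⟩ : Nonempty (Sylow 3 S) := inferInstance
      rw [CfsgLib.Small.card_sylow_eq_index P, show (Subgroup.normalizer ((P : Subgroup S) : Set S)).index = 1 by
        rw [Subgroup.index_eq_one, Subgroup.normalizer_eq_top_iff]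
        exact ⟨fun x hx g => by rw [hc.is_comm.comm g x, mul_inv_cancel_right]; exact hx⟩] at hS
      omega
    exact CfsgLib.FgsC.card_sylow_three_ne hnab hS

end Cfsg.Agent.S4346
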