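import Cfsg.Statements.S4347

set_option autoImplicit false
open Cfsg

namespace Cfsg.Agent.S4347

open scoped Pointwise

/-- Let G be a finite group and p a prime. Say a Sylow p-subgroup Q is redundant when every element of p-power order lies in some Sylow p-subgroup other than Q. Then G has no redundant Sylow p-subgroup if and only if some element of p-power order lies in exactly one Sylow p-subgroup. -/
theorem result {G : Type*} [Group G] [Finite G]
    (p : ℕ) [Fact p.Prime] :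
    (¬ ∃ Q : Sylow p G, ∀ x : G, (∃ k : ℕ, orderOf x = p ^ k) → ∃ P : Sylow p G, P ≠ Q ∧ x ∈ P) ↔
      ∃ x : G, (∃ k : ℕ, orderOf x = p ^ k) ∧ ∃! P : Sylow p G, x ∈ P := by
  constructor
  · intro h
    obtain ⟨Q⟩ := Sylow.nonempty (p := p) (G := G)
    obtain ⟨x, hx, hxu⟩ : ∃ x : G, (∃ k : ℕ, orderOf x = p ^ k) ∧ ∀ P : Sylow p G, x ∈ P → P = Q := by
      by_contra hc
      refine h ⟨Q, fun x hx => ?_⟩
      by_contra hc'
      exact hc ⟨x, hx, fun P hP => by_contra fun hne => hc' ⟨P, hne, hP⟩⟩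
    obtain ⟨k, hk⟩ := hx
    obtain ⟨P, hP⟩ := (IsPGroup.of_card (show Nat.card (Subgroup.zpowers x) = p ^ k by
      rw [Nat.card_zpowers, hk])).exists_le_sylow
    have hxP : x ∈ P := hP (Subgroup.mem_zpowers x)
    exact ⟨x, ⟨k, hk⟩, P, hxP, fun R hR => (hxu R hR).trans (hxu P hxP).symm⟩
  · rintro ⟨x, ⟨k, hk⟩, P₀, hxP, huniq⟩ ⟨Q, hQ⟩
    obtain ⟨g, hg⟩ := MulAction.exists_smul_eq G P₀ Q
    obtain ⟨R, hRne, hR⟩ := hQ (g * x * g⁻¹) ⟨k, by
      have e : g * x * g⁻¹ = MulAut.conj g x := rfl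
      rw [e, MulEquiv.orderOf_eq, hk]⟩
    refine hRne ?_
    rw [← hg, ← huniq (g⁻¹ • R) ?_, smul_inv_smul]
    show x ∈ MulAut.conj g⁻¹ • (R : Subgroup G)
    rw [Subgroup.mem_pointwise_smul_iff_inv_smul_mem, map_inv, inv_inv, MulAut.smul_def, MulAut.conj_apply]
    exact hR

end Cfsg.Agent.S4347
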