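import Cfsg.Statements.S4348
import Cfsg.Agent.Lib.Base.Cores

set_option autoImplicit false
open Cfsg

namespace Cfsg.Agent.S4348

/-- Let G be a finite group, p a prime and P a Sylow p-subgroup of G, and let O_p(G) be the largest normal p-subgroup of G. If P/O_p(G) is cyclic, then some element of p-power order of G lies in exactly one Sylow p-subgroup. -/
theorem result {G : Type*} [Group G] [Finite G]
    (p : ℕ) [Fact p.Prime] (P : Sylow p G)
    [hn : ((Cfsg.pCore p G).subgroupOf (P : Subgroup G)).Normal]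
    (hc : IsCyclic ((P : Subgroup G) ⧸ (Cfsg.pCore p G).subgroupOf (P : Subgroup G))) :
    ∃ x : G, (∃ k : ℕ, orderOf x = p ^ k) ∧ ∃! Q : Sylow p G, x ∈ Q := by
  obtain ⟨⟨y, hy⟩, hgen⟩ : ∃ y : (P : Subgroup G), ∀ z : (P : Subgroup G),
      z ∈ Subgroup.zpowers y ⊔ (Cfsg.pCore p G).subgroupOf (P : Subgroup G) := by
    obtain ⟨g, hg⟩ := hc.exists_generator
    obtain ⟨y, rfl⟩ := QuotientGroup.mk'_surjective _ g
    refine ⟨y, fun z => ?_⟩
    obtain ⟨k, hk⟩ := Subgroup.mem_zpowers_iff.mp (hg (QuotientGroup.mk' _ z))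
    rw [← map_zpow] at hk
    obtain ⟨c, hc', hcz⟩ := (QuotientGroup.mk'_eq_mk' _).mp hk
    rw [← hcz]
    exact Subgroup.mul_mem_sup (Subgroup.zpow_mem_zpowers y k) hc'
  obtain ⟨k, hk⟩ : ∃ k : ℕ, orderOf y = p ^ k := by
    obtain ⟨k, hk⟩ := IsPGroup.iff_orderOf.mp P.isPGroup' ⟨y, hy⟩
    exact ⟨k, by rwa [Subgroup.orderOf_mk] at hk⟩
  refine ⟨y, ⟨k, hk⟩, P, hy, fun Q hQ => ?_⟩
  have hle : (P : Subgroup G) ≤ Q := by
    intro z hz
    have h := Subgroup.mem_map_of_mem (P : Subgroup G).subtype (hgen ⟨z, hz⟩)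
    rw [Subgroup.map_sup, MonoidHom.map_zpowers] at h
    refine (sup_le ?_ ?_ : _ ≤ (Q : Subgroup G)) h
    · exact (Subgroup.zpowers_le).mpr hQ
    · rw [Subgroup.subgroupOf_map_subtype]
      exact inf_le_left.trans (CfsgLib.Base.pCore_le_sylow Q)
  exact Sylow.ext (P.is_maximal' Q.isPGroup' hle)

end Cfsg.Agent.S4348
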