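import Cfsg.Statements.S4351
import Cfsg.Agent.Lib.Recog.CIT.CNStructure.Reduce
import Cfsg.Agent.Lib.Recog.SzModule.Main

set_option autoImplicit false
open Cfsg

namespace Cfsg.Agent.S4351

/-- Let G be a finite non-solvable group in which the centralizer of every non-identity element is nilpotent. Then G is a non-abelian simple group; or G has a normal subgroup of index 2 isomorphic to PSL(2, 9); or G has a nontrivial normal elementary abelian 2-subgroup N such that G/N is isomorphic to PSL(2, q) for some q = 2ⁿ ≥ 4 or is a simple group of Suzuki type (simple, of the order of a Suzuki group). -/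
theorem result {G : Type*} [Group G] [Finite G] (hG : ¬ Group.IsSolvable G)
    (hCN : ∀ x : G, x ≠ 1 → Group.IsNilpotent (Subgroup.centralizer ({x} : Set G))) :
    (IsSimpleGroup G ∧ ¬ IsMulCommutative G) ∨
    (∃ (N : Subgroup G), N.Normal ∧ N.index = 2 ∧ ∃ (F : Type) (_ : Field F) (_ : Fintype F), Fintype.card F = 9 ∧
        Nonempty (N ≃* Matrix.ProjectiveSpecialLinearGroup (Fin 2) F)) ∨
    (∃ (N : Subgroup G) (_ : N.Normal), N ≠ ⊥ ∧ IsPGroup 2 N ∧ IsMulCommutative N ∧ (∀ x ∈ N, x * x = 1) ∧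
        ((∃ (F : Type) (_ : Field F) (_ : Fintype F), CharP F 2 ∧ 4 ≤ Fintype.card F ∧
            Nonempty (G ⧸ N ≃* Matrix.ProjectiveSpecialLinearGroup (Fin 2) F)) ∨ Cfsg.IsSuzuki (G ⧸ N))) := by
  rcases CfsgLib.Recog.CIT.CNStructure.cn_reduce (G := G) hCN hG with h | h |
    ⟨N, hN, hne, hp, hfpf, ⟨⟨hc, h2⟩, hF⟩ | ⟨hsz, F, iF, jF, m, hm, hcard, ⟨e⟩⟩⟩
  · refine Or.inl ⟨h, fun hc => hG ?_⟩
    have := hc
    exact Group.isSolvable_of_comm fun a b => hc.is_comm.comm a b
  · exact Or.inr (Or.inl h)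
  · exact Or.inr (Or.inr ⟨N, hN, hne, hp, hc, h2, Or.inl hF⟩)
  · let π : G →* Cfsg.Lie.Sz F (2 ^ (m + 1)) := e.toMonoidHom.comp (QuotientGroup.mk' N)
    have hker : π.ker = N := by
      ext g
      simp [π]
    have h8 : 8 ≤ Nat.card F := by
      rw [Nat.card_eq_fintype_card, hcard]
      exact le_trans (by norm_num) (Nat.pow_le_pow_right two_pos (show 3 ≤ 2 * m + 1 by omega))
    obtain ⟨hc, h2⟩ := CfsgLib.Recog.SzModule.elementary
      (CfsgLib.KnownA.Suzuki.titsField_of_card hcard) h8 π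
      (e.surjective.comp (QuotientGroup.mk'_surjective N)) (hker.symm ▸ hp)
      (fun g hg hgo n hn hgn => hfpf g n hg hgo (hker ▸ hn) (mul_inv_eq_iff_eq_mul.2 hgn))
    refine Or.inr (Or.inr ⟨N, hN, hne, hp, hker ▸ hc, fun x hx => h2 x (hker.symm ▸ hx), Or.inr hsz⟩)

end Cfsg.Agent.S4351
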