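import Cfsg.Statements.S4354
import Cfsg.Agent.Lib.Components.ExtendedLayer

set_option autoImplicit false
open Cfsg

namespace Cfsg.Agent.S4354

open Subgroup CfsgLib
open scoped commutatorElement Pointwise
set_option linter.style.haveILetI false
set_option linter.unusedSectionVars false

variable {G : Type*} [Group G] [Finite G] {p : ℕ} [hp : Fact p.Prime]

/-- All `p`-elements have class size prime to `p`. -/
def PClassCoprime (p : ℕ) (G : Type*) [Group G] : Prop :=
  ∀ x : G, (∃ k : ℕ, orderOf x = p ^ k) → ¬ p ∣ (centralizer ({x} : Set G)).index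

theorem relIndex_dvd_index (C N : Subgroup G) [N.Normal] : C.relIndex N ∣ C.index := by
  have h1 := relIndex_mul_relIndex (C ⊓ N) N (N ⊔ C) inf_le_right le_sup_left
  have h2 := relIndex_mul_relIndex (C ⊓ N) C (N ⊔ C) inf_le_left le_sup_right
  rw [relIndex_sup_left, inf_relIndex_right] at h1
  rw [inf_relIndex_left, ← h1, mul_comm (C.relIndex N)] at h2
  have h0 : N.relIndex C ≠ 0 := index_ne_zero_of_finite
  rw [← Nat.eq_of_mul_eq_mul_left (Nat.pos_of_ne_zero h0) h2]
  exact relIndex_dvd_index_of_le le_sup_right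

theorem of_normal (h : PClassCoprime p G) (N : Subgroup G) [N.Normal] : PClassCoprime p N := by
  rintro x ⟨k, hk⟩ hd
  refine h x ⟨k, by rw [orderOf_coe, hk]⟩ ?_
  have he : centralizer ({x} : Set N) = (centralizer ({(x : G)} : Set G)).subgroupOf N := by
    ext y
    rw [mem_subgroupOf, mem_centralizer_singleton_iff, mem_centralizer_singleton_iff, Subtype.ext_iff]
    rfl
  rw [he] at hd
  exact hd.trans (relIndex_dvd_index _ N)

theorem of_quotient (h : PClassCoprime p G) (N : Subgroup G) [N.Normal] :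
    PClassCoprime p (G ⧸ N) := by
  rintro xb ⟨k, hk⟩ hd
  obtain ⟨x, rfl⟩ := QuotientGroup.mk'_surjective N xb
  obtain ⟨a, m, hm, ha⟩ := Nat.exists_eq_pow_mul_and_not_dvd (orderOf_pos x).ne' p hp.out.ne_one
  have hx : orderOf (x ^ m) = p ^ a := by
    rw [orderOf_pow, ha, Nat.gcd_mul_left_left, Nat.mul_div_cancel]
    exact Nat.pos_of_ne_zero (by rintro rfl; exact hm (dvd_zero p))
  refine h (x ^ m) ⟨a, hx⟩ (hd.trans ?_)
  refine dvd_trans (index_dvd_of_le ?_) (index_map_dvd _ (QuotientGroup.mk'_surjective N))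
  rintro _ ⟨g, hg, rfl⟩
  rw [mem_centralizer_singleton_iff]
  obtain ⟨c, hc⟩ := exists_pow_eq_self_of_coprime (x := QuotientGroup.mk' N x) (n := m)
    (by rw [hk]; exact ((hp.out.coprime_iff_not_dvd.mpr hm).symm.pow_right k))
  rw [← hc, ← map_pow (QuotientGroup.mk' N) x m]
  exact ((Commute.map (mem_centralizer_singleton_iff.mp hg :) (QuotientGroup.mk' N)).pow_right c).eq

theorem exists_sylow_le {H : Subgroup G} (hH : ¬ p ∣ H.index) :
    ∃ Q : Sylow p G, (Q : Subgroup G) ≤ H := by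
  obtain ⟨S⟩ : Nonempty (Sylow p H) := inferInstance
  have hidx : ¬ p ∣ ((S : Subgroup H).map H.subtype).index := by
    rw [index_map_subtype]
    exact fun hd => ((hp.out.dvd_mul).mp hd).elim S.not_dvd_index hH
  exact ⟨(S.isPGroup'.map H.subtype).toSylow hidx, map_subtype_le _⟩

/-- If a normal subgroup and its quotient have abelian Sylow `p`-subgroups, so does the group. -/
theorem isMulCommutative_sylow (h : PClassCoprime p G) (N : Subgroup G) [N.Normal]
    (hN : ∀ S : Sylow p N, IsMulCommutative (S : Subgroup N))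
    (hQ : ∀ S : Sylow p (G ⧸ N), IsMulCommutative (S : Subgroup (G ⧸ N))) (P : Sylow p G) :
    IsMulCommutative (P : Subgroup G) := by
  classical
  obtain ⟨P₀⟩ : Nonempty (Sylow p G) := inferInstance
  have hsyl : ∀ Q : Sylow p G, ¬ p ∣ ((Q : Subgroup G).subgroupOf N).index := fun Q =>
    Components.not_dvd_relIndex_of_isSubnormal Q (Subgroup.Normal.isSubnormal inferInstance)
  let sN : Sylow p G → Sylow p N := fun Q =>
    (Q.isPGroup'.comap_of_injective N.subtype N.subtype_injective).toSylow (hsyl Q)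
  set R : Subgroup G := (P₀ : Subgroup G) ⊓ N with hR
  set C : Subgroup G := centralizer (R : Set G) with hC
  have hRab : R ≤ C := by
    intro r hr
    rw [mem_centralizer_iff]
    intro s hs
    have hc := (hN (sN P₀)).is_comm.comm ⟨⟨s, (hs : s ∈ R).2⟩, (hs : s ∈ R).1⟩ ⟨⟨r, hr.2⟩, hr.1⟩
    exact congrArg (fun z : ↥((sN P₀ : Subgroup N)) => ((z : N) : G)) hc
  have hpel : ∀ x : G, (∃ k : ℕ, orderOf x = p ^ k) → x ∈ N ⊔ C := by
    intro x hx
    obtain ⟨Q, hQx⟩ := exists_sylow_le (h x hx)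
    obtain ⟨m, hm⟩ := MulAction.exists_smul_eq ↥N (sN P₀) (sN Q)
    have hmem : (m : G)⁻¹ * x * m ∈ C := by
      rw [mem_centralizer_iff]
      intro r hr
      have hr' : (m : G) * r * (m : G)⁻¹ ∈ (Q : Subgroup G) := by
        have h1 : m * (⟨r, (hr : r ∈ R).2⟩ : N) * m⁻¹ ∈ (sN Q : Subgroup N) := by
          rw [← hm, Sylow.smul_def, Sylow.pointwise_smul_def]
          exact ⟨_, (hr : r ∈ R).1, rfl⟩
        exact h1
      have h2 := mem_centralizer_singleton_iff.mp (hQx hr')
      calc r * ((m : G)⁻¹ * x * m) = (m : G)⁻¹ * (((m : G) * r * (m : G)⁻¹) * x) * m := by group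
        _ = (m : G)⁻¹ * (x * ((m : G) * r * (m : G)⁻¹)) * m := by rw [h2]
        _ = (m : G)⁻¹ * x * m * r := by group
    have h3 := mul_mem (mul_mem (mem_sup_left (T := C) m.2) (mem_sup_right hmem))
      (inv_mem (mem_sup_left m.2))
    rwa [show (m : G) * ((m : G)⁻¹ * x * m) * (m : G)⁻¹ = x by group] at h3
  have hCidx : ¬ p ∣ C.index := by
    have h1 : ¬ p ∣ (N ⊔ C).index := fun hd =>
      P₀.not_dvd_index (hd.trans (index_dvd_of_le fun x hx => hpel x (by
        obtain ⟨k, hk⟩ := (IsPGroup.iff_orderOf.mp P₀.isPGroup') ⟨x, hx⟩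
        exact ⟨k, by rwa [orderOf_mk] at hk⟩)))
    have h2 : C.relIndex (N ⊔ C) = C.relIndex N := by
      have e1 := relIndex_mul_relIndex (C ⊓ N) N (N ⊔ C) inf_le_right le_sup_left
      have e2 := relIndex_mul_relIndex (C ⊓ N) C (N ⊔ C) inf_le_left le_sup_right
      rw [relIndex_sup_left, inf_relIndex_right] at e1
      rw [inf_relIndex_left, ← e1, mul_comm (C.relIndex N)] at e2
      exact Nat.eq_of_mul_eq_mul_left (Nat.pos_of_ne_zero index_ne_zero_of_finite) e2
    rw [← relIndex_mul_index (le_sup_right : C ≤ N ⊔ C), h2, hp.out.dvd_mul]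
    rintro (hd | hd)
    · refine hsyl P₀ (hd.trans ?_)
      have h3 : C.relIndex N ∣ R.relIndex N := by
        rw [← relIndex_mul_relIndex R (C ⊓ N) N (le_inf hRab inf_le_right) inf_le_right,
          inf_relIndex_right]
        exact dvd_mul_left _ _
      rwa [hR, inf_relIndex_right] at h3
    · exact h1 hd
  obtain ⟨P₁, hP₁⟩ := exists_sylow_le hCidx
  have hRP : R ≤ (P₁ : Subgroup G) := by
    have hle : (P₁ : Subgroup G) ≤ normalizer (R : Set G) :=
      hP₁.trans (by rw [hC]; exact centralizer_le_normalizer (R : Set G))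
    have hpg : IsPGroup p ↥((P₁ : Subgroup G) ⊔ R) :=
      P₁.isPGroup'.to_sup_of_normal_right' (P₀.isPGroup'.to_le inf_le_left) hle
    exact (le_sup_right : R ≤ (P₁ : Subgroup G) ⊔ R).trans (P₁.3 hpg le_sup_left).le
  have hR1 : (P₁ : Subgroup G) ⊓ N = R := by
    refine le_antisymm ?_ (le_inf hRP inf_le_right)
    intro y hy
    have hle : (sN P₀ : Subgroup N) ≤ (sN P₁ : Subgroup N) := fun z hz => hRP ⟨hz, z.2⟩
    have heq := (sN P₀).3 (sN P₁).isPGroup' hle
    have hyy : (⟨y, hy.2⟩ : N) ∈ (sN P₁ : Subgroup N) := hy.1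
    rw [heq] at hyy
    exact ⟨hyy, hy.2⟩
  haveI hQab := hQ (P₁.mapSurjective (QuotientGroup.mk'_surjective N))
  have hcentral : ∀ x ∈ (P₁ : Subgroup G), ∀ y ∈ (P₁ : Subgroup G), x * y = y * x := by
    intro x hx
    obtain ⟨k, hk⟩ := (IsPGroup.iff_orderOf.mp P₁.isPGroup') ⟨x, hx⟩
    rw [orderOf_mk] at hk
    obtain ⟨Q, hQx⟩ := exists_sylow_le (h x ⟨k, hk⟩)
    obtain ⟨g, rfl⟩ := MulAction.exists_smul_eq G P₁ Q
    set z : G := g⁻¹ * x * g with hz
    have hzc : ∀ y ∈ (P₁ : Subgroup G), y * z = z * y := by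
      intro y hy
      have h1 : g * y * g⁻¹ ∈ ((g • P₁ : Sylow p G) : Subgroup G) := by
        rw [Sylow.smul_def, Sylow.pointwise_smul_def]
        exact ⟨y, hy, rfl⟩
      have h2 := mem_centralizer_singleton_iff.mp (hQx h1)
      calc y * z = g⁻¹ * ((g * y * g⁻¹) * x) * g := by rw [hz]; group
        _ = g⁻¹ * (x * (g * y * g⁻¹)) * g := by rw [h2]
        _ = z * y := by rw [hz]; group
    have hzP : z ∈ (P₁ : Subgroup G) := by
      have hzp : IsPGroup p (zpowers z) := by
        refine IsPGroup.of_card (n := k) ?_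
        have hzx : z = MulAut.conj g⁻¹ x := by rw [MulAut.conj_apply, hz, inv_inv]
        rw [Nat.card_zpowers, hzx, MulEquiv.orderOf_eq, hk]
      have hle : (P₁ : Subgroup G) ≤ normalizer (zpowers z : Set G) :=
        le_trans (fun y hy => mem_centralizer_iff.mpr fun w hw => by
          obtain ⟨i, rfl⟩ := mem_zpowers_iff.mp hw
          exact ((Commute.zpow_right (hzc y hy) i).symm).eq) (centralizer_le_normalizer _)
      have hpg : IsPGroup p ↥((P₁ : Subgroup G) ⊔ zpowers z) :=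
        P₁.isPGroup'.to_sup_of_normal_right' hzp hle
      exact (P₁.3 hpg le_sup_left).le (mem_sup_right (mem_zpowers z))
    set f := QuotientGroup.mk' N with hf
    obtain ⟨nb, hnb, hconj⟩ := (P₁.mapSurjective (QuotientGroup.mk'_surjective N)).conj_eq_normalizer_conj_of_mem
      (f x) (f g) (mem_map_of_mem f hx) (by
        rw [← map_inv, ← map_mul, ← map_mul]
        exact mem_map_of_mem f hzP)
    obtain ⟨n, rfl⟩ := QuotientGroup.mk'_surjective N nb
    simp only [← hf] at hconj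
    -- the conjugate `n • P₁` lies in `N P₁`
    have hnle : ∀ y ∈ (P₁ : Subgroup G), n * y * n⁻¹ ∈ (P₁ : Subgroup G) ⊔ N := by
      intro y hy
      have h1 := (mem_normalizer_iff.mp hnb (f y)).mp (mem_map_of_mem f hy)
      rw [← map_inv, ← map_mul, ← map_mul] at h1
      have h2 : n * y * n⁻¹ ∈ ((P₁ : Subgroup G).map f).comap f := h1
      rwa [hf, QuotientGroup.comap_map_mk', sup_comm] at h2
    set L : Subgroup G := (P₁ : Subgroup G) ⊔ N with hL
    have hnP : ((n • P₁ : Sylow p G) : Subgroup G) ≤ L := by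
      rw [Sylow.smul_def, Sylow.pointwise_smul_def]
      rintro _ ⟨y, hy, rfl⟩
      exact hnle y hy
    obtain ⟨⟨l', hl'⟩, hll⟩ := MulAction.exists_smul_eq ↥L (P₁.subtype le_sup_left) ((n • P₁).subtype hnP)
    obtain ⟨u, hu, l, hlN, rfl⟩ := mem_sup_of_normal_right.mp hl'
    -- conjugation by `u * l` carries `P₁` to `n • P₁`
    have hmap : ∀ y ∈ (P₁ : Subgroup G), n * y * n⁻¹ ∈ ((P₁ : Subgroup G).map (MulAut.conj (u * l)).toMonoidHom) := by
      intro y hy
      have h1 : (⟨n * y * n⁻¹, hnle y hy⟩ : L) ∈ (((n • P₁).subtype hnP : Sylow p L) : Subgroup L) := by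
        change n * y * n⁻¹ ∈ ((n • P₁ : Sylow p G) : Subgroup G)
        rw [Sylow.smul_def, Sylow.pointwise_smul_def]
        exact ⟨y, hy, rfl⟩
      rw [← hll, Sylow.smul_def, Sylow.pointwise_smul_def] at h1
      obtain ⟨w, hw, hwe⟩ := h1
      exact ⟨(w : G), hw, congrArg Subtype.val hwe⟩
    obtain ⟨y', hy', hye⟩ := hmap z hzP
    change (u * l) * y' * (u * l)⁻¹ = n * z * n⁻¹ at hye
    have hy'c : ∀ y ∈ (P₁ : Subgroup G), y * y' = y' * y := by
      -- `y'` is central in `P₁`, being the image of `z`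
      intro y hy
      have hsurj : ∃ w ∈ (P₁ : Subgroup G), n * w * n⁻¹ = (u * l) * y * (u * l)⁻¹ := by
        have hu' : (u * l) * y * (u * l)⁻¹ ∈ ((n • P₁ : Sylow p G) : Subgroup G) := by
          have h1 : (⟨u * l, hl'⟩ : L) * ⟨y, mem_sup_left hy⟩ * (⟨u * l, hl'⟩ : L)⁻¹ ∈
              (((n • P₁).subtype hnP : Sylow p L) : Subgroup L) := by
            rw [← hll, Sylow.smul_def, Sylow.pointwise_smul_def]
            exact ⟨_, hy, rfl⟩
          exact h1
        rw [Sylow.smul_def, Sylow.pointwise_smul_def] at hu'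
        exact hu'
      obtain ⟨w, hw, hwe⟩ := hsurj
      have h2 : ((u * l) * y * (u * l)⁻¹) * ((u * l) * y' * (u * l)⁻¹) =
          ((u * l) * y' * (u * l)⁻¹) * ((u * l) * y * (u * l)⁻¹) := by
        rw [hye, ← hwe]
        calc n * w * n⁻¹ * (n * z * n⁻¹) = n * (w * z) * n⁻¹ := by group
          _ = n * (z * w) * n⁻¹ := by rw [hzc w hw]
          _ = n * z * n⁻¹ * (n * w * n⁻¹) := by group
      calc y * y' = (u * l)⁻¹ * (((u * l) * y * (u * l)⁻¹) * ((u * l) * y' * (u * l)⁻¹)) * (u * l) := by group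
        _ = (u * l)⁻¹ * (((u * l) * y' * (u * l)⁻¹) * ((u * l) * y * (u * l)⁻¹)) * (u * l) := by rw [h2]
        _ = y' * y := by group
    have hxy : x⁻¹ * y' ∈ N := by
      rw [← QuotientGroup.eq_one_iff, ← QuotientGroup.mk'_apply, ← hf, map_mul, map_inv, inv_mul_eq_one]
      have hfl : f l = 1 := (QuotientGroup.eq_one_iff l).mpr hlN
      have hconj2 : f x = f n * f z * (f n)⁻¹ := by
        rw [hz, map_mul, map_mul, map_inv, hconj]
        group
      have h3 : f u * f y' * (f u)⁻¹ = f n * f z * (f n)⁻¹ := by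
        rw [← map_inv, ← map_mul, ← map_mul, ← map_inv f n, ← map_mul, ← map_mul, ← hye]
        simp only [map_mul, map_inv, hfl, mul_one]
      have hcom : f u * f y' = f y' * f u := by rw [← map_mul, hy'c u hu, map_mul]
      rw [hconj2, ← h3, hcom, mul_inv_cancel_right]
    have hmem : x⁻¹ * y' ∈ R := hR1.le (mem_inf.mpr ⟨(P₁ : Subgroup G).mul_mem ((P₁ : Subgroup G).inv_mem hx) hy', hxy⟩)
    intro y hy
    have hRc : ∀ r ∈ R, r * y = y * r := fun r hr => mem_centralizer_iff.mp (hP₁ hy) r hr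
    have hx' : x = y' * (x⁻¹ * y')⁻¹ := by group
    rw [hx']
    exact (Commute.mul_left (hy'c y hy).symm (hRc _ (inv_mem hmem) :)).eq
  obtain ⟨g, rfl⟩ := MulAction.exists_smul_eq G P₁ P
  haveI : IsMulCommutative (P₁ : Subgroup G) :=
    ⟨⟨fun a b => Subtype.ext (hcentral a a.2 b b.2)⟩⟩
  rw [Sylow.smul_def, Sylow.pointwise_smul_def]
  exact Subgroup.map_isMulCommutative (H := (P₁ : Subgroup G)) _

/-- Let G be a finite group and p a prime such that the Sylow p-subgroups of G are non-abelian while every element of p-power order has conjugacy class size prime to p, and suppose no nontrivial proper normal subgroup N of G has this property and no quotient G/N by such an N has it. Then G is simple. -/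
theorem result {G : Type*} [Group G] [Finite G]
    (p : ℕ) [Fact p.Prime] (h : ((∃ P : Sylow p G, ¬ IsMulCommutative P) ∧ ∀ x : G, (∃ k : ℕ, orderOf x = p ^ k) → ¬ p ∣ (Subgroup.centralizer ({x} : Set G)).index))
    (hmin : ∀ (N : Subgroup G) [N.Normal], N ≠ ⊥ → N ≠ ⊤ →
      ¬ ((∃ P : Sylow p N, ¬ IsMulCommutative P) ∧ ∀ x : N, (∃ k : ℕ, orderOf x = p ^ k) → ¬ p ∣ (Subgroup.centralizer ({x} : Set N)).index) ∧
      ¬ ((∃ P : Sylow p (G ⧸ N), ¬ IsMulCommutative P) ∧ ∀ x : (G ⧸ N), (∃ k : ℕ, orderOf x = p ^ k) → ¬ p ∣ (Subgroup.centralizer ({x} : Set (G ⧸ N))).index)) :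
    IsSimpleGroup G := by
  obtain ⟨⟨P, hP⟩, hx⟩ := h
  haveI : Nontrivial G := by
    by_contra hc
    rw [not_nontrivial_iff_subsingleton] at hc
    exact hP ⟨⟨fun a b => Subsingleton.elim _ _⟩⟩
  refine ⟨fun N hN => ?_⟩
  by_contra hcon
  rw [not_or] at hcon
  obtain ⟨h1, h2⟩ := hmin N hcon.1 hcon.2
  refine hP (isMulCommutative_sylow hx N (fun S => ?_) (fun S => ?_) P)
  · by_contra hS
    exact h1 ⟨⟨S, hS⟩, of_normal hx N⟩
  · by_contra hS
    exact h2 ⟨⟨S, hS⟩, of_quotient hx N⟩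

end Cfsg.Agent.S4354
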