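import Cfsg.Statements.S4355
import Cfsg.Agent.S4194

set_option autoImplicit false
open Cfsg

namespace Cfsg.Agent.S4355

/-- If every element of 2-power order of a finite group has a conjugacy class of odd size, then the Sylow 2-subgroups of the group are abelian. -/
theorem result {G : Type*} [Group G] [Finite G]
    (h : ∀ x : G, (∃ k : ℕ, orderOf x = 2 ^ k) → ¬ 2 ∣ (Subgroup.centralizer ({x} : Set G)).index) (P : Sylow 2 G) :
    IsMulCommutative P := by
  haveI := Fact.mk Nat.prime_two
  refine (Cfsg.Agent.S4194.result P).2 fun x hx => ?_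
  obtain ⟨R⟩ : Nonempty (Sylow 2 (Subgroup.centralizer ({x} : Set G))) := inferInstance
  obtain ⟨Q, hQ⟩ := (R.isPGroup'.map (Subgroup.centralizer ({x} : Set G)).subtype).exists_le_sylow
  refine ⟨Q, ?_⟩
  generalize hR' : (R : Subgroup _).map (Subgroup.centralizer ({x} : Set G)).subtype = R' at hQ
  have hle : R' ≤ (Q : Subgroup G) := hQ
  have hidx : ¬ 2 ∣ R'.index := by
    rw [← hR', Subgroup.index_map_subtype]
    exact Nat.Prime.not_dvd_mul Nat.prime_two R.not_dvd_index (h x hx)
  have heq : R' = (Q : Subgroup G) := by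
    obtain ⟨n, hn⟩ := IsPGroup.index (Q.isPGroup') (R'.subgroupOf (Q : Subgroup G))
    refine le_antisymm hle ?_
    rw [← Subgroup.relIndex_eq_one]
    by_contra h1
    have h2 : 2 ∣ R'.relIndex (Q : Subgroup G) := by
      rw [Subgroup.relIndex, hn] at h1 ⊢
      rcases Nat.eq_zero_or_pos n with rfl | hpos
      · simp at h1
      · exact dvd_pow_self 2 hpos.ne'
    exact hidx (h2.trans (Subgroup.relIndex_dvd_index_of_le hle))
  rw [← heq, ← hR']
  exact Subgroup.map_subtype_le _

end Cfsg.Agent.S4355
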