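import Cfsg.Statements.S4358
import Cfsg.Agent.Lib.FgsC.RedundantGL

set_option autoImplicit false
open Cfsg

namespace Cfsg.Agent.S4358

/-- Let p be an odd prime and F a finite field with q elements such that p divides q - 1 but p² does not. Then GL(p, F) has a Sylow p-subgroup Q such that every element of p-power order lies in some Sylow p-subgroup other than Q (a redundant Sylow p-subgroup). -/
theorem result {F : Type*} [Field F] [Fintype F] (p : ℕ) [Fact p.Prime]
    (hp : p ≠ 2) (h1 : p ∣ Fintype.card F - 1) (h2 : ¬ p ^ 2 ∣ Fintype.card F - 1) :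
    ∃ Q : Sylow p (Matrix.GeneralLinearGroup (Fin p) F), ∀ x : Matrix.GeneralLinearGroup (Fin p) F,
      (∃ k : ℕ, orderOf x = p ^ k) → ∃ P : Sylow p (Matrix.GeneralLinearGroup (Fin p) F), P ≠ Q ∧ x ∈ P := by
  obtain ⟨S, hS⟩ := Cfsg.FgsC.RedundantGL.redundant (F := F) (p := p) hp h1 h2
  let e : Matrix.GeneralLinearGroup (ZMod p) F ≃* Matrix.GeneralLinearGroup (Fin p) F :=
    Units.mapEquiv (Matrix.reindexAlgEquiv F F (ZMod.finEquiv p).symm.toEquiv).toMulEquiv
  have hf : Function.Surjective e.toMonoidHom := e.surjective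
  refine ⟨S.mapSurjective hf, fun x hx => ?_⟩
  obtain ⟨k, hk⟩ := hx
  obtain ⟨P, hP, hxP⟩ := hS (e.symm x) ⟨k, by rw [MulEquiv.orderOf_eq, hk]⟩
  refine ⟨P.mapSurjective hf, fun h => hP ?_, ?_⟩
  · apply Sylow.ext
    have h' := congrArg (fun Q : Sylow p (Matrix.GeneralLinearGroup (Fin p) F) =>
      (Q : Subgroup (Matrix.GeneralLinearGroup (Fin p) F))) h
    simp only [Sylow.coe_mapSurjective] at h'
    exact Subgroup.map_injective (f := e.toMonoidHom) e.injective h'
  · show x ∈ ((P.mapSurjective hf : Sylow p (Matrix.GeneralLinearGroup (Fin p) F)) :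
      Subgroup (Matrix.GeneralLinearGroup (Fin p) F))
    rw [Sylow.coe_mapSurjective]
    exact ⟨e.symm x, hxP, e.apply_symm_apply x⟩

end Cfsg.Agent.S4358
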