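import Cfsg.Statements.S4365
import Cfsg.Agent.Lib.PGroups.Basic

set_option autoImplicit false
open Cfsg

namespace Cfsg.Agent.S4365

open scoped commutatorElement

variable {P : Type*} [Group P] [Finite P]

/-- The product of the translates of `a` by the powers of `c`. -/
theorem mul_pow_eq {A : Subgroup P} [A.Normal] (hA : ∀ u ∈ A, ∀ v ∈ A, u * v = v * u)
    (a : A) (c : P) :
    letI : CommGroup A := { (inferInstance : Group A) with
      mul_comm := fun u v => Subtype.ext (hA u u.2 v v.2) }
    ∀ n : ℕ, ((a : P) * c) ^ n =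
      ((∏ i ∈ Finset.range n, MulAut.conjNormal (c ^ i) a : A) : P) * c ^ n := by
  intro n
  letI : CommGroup A := { (inferInstance : Group A) with
    mul_comm := fun u v => Subtype.ext (hA u u.2 v v.2) }
  induction n with
  | zero => simp
  | succ n ih =>
    rw [Finset.prod_range_succ, pow_succ, ih, Subgroup.coe_mul, MulAut.conjNormal_apply]
    group

/-- Let P be a finite p-group whose conjugacy class sizes are exactly 1 and pᵃ for some a ≥ 1. Then every element of P has its p-th power in the center of P (P/Z(P) has exponent p). -/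
theorem result {P : Type*} [Group P] [Finite P] (p : ℕ) [Fact p.Prime]
    (hP : IsPGroup p P) (a : ℕ) (ha : 1 ≤ a)
    (hcs : {k : ℕ | ∃ x : P, (Subgroup.centralizer ({x} : Set P)).index = k} = {1, p ^ a}) (x : P) :
    x ^ p ∈ Subgroup.center P := by
  classical
  haveI := hP.isNilpotent
  set Z := Subgroup.center P with hZ
  have hidx : ∀ y : P, y ∉ Z → (Subgroup.centralizer {y}).index = p ^ a := by
    intro y hy
    have h1 : (Subgroup.centralizer {y}).index ∈
        ({k : ℕ | ∃ x : P, (Subgroup.centralizer ({x} : Set P)).index = k}) := ⟨y, rfl⟩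
    rw [hcs] at h1
    rcases h1 with h1 | h1
    · refine absurd ?_ hy
      rw [Subgroup.index_eq_one] at h1
      exact Subgroup.mem_center_iff.2 fun g =>
        Subgroup.mem_centralizer_singleton_iff.1 (h1 ▸ Subgroup.mem_top g)
    · exact h1
  have heq : ∀ y z : P, y ∉ Z → z ∉ Z →
      Subgroup.centralizer {y} ≤ Subgroup.centralizer {z} →
      Subgroup.centralizer {y} = Subgroup.centralizer {z} := by
    intro y z hy hz hle
    refine Subgroup.eq_of_le_of_card_ge hle (le_of_eq ?_)
    have h1 := (Subgroup.centralizer {y}).card_mul_index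
    have h2 := (Subgroup.centralizer {z}).card_mul_index
    rw [hidx y hy, ← h2, hidx z hz] at h1
    exact (Nat.eq_of_mul_eq_mul_right (pow_pos (Fact.out : p.Prime).pos a) h1).symm
  have hpw : ∀ (y : P) (k : ℕ), y ^ k ∉ Z →
      Subgroup.centralizer {y} = Subgroup.centralizer {y ^ k} := by
    intro y k hk
    refine heq _ _ (fun h => hk (Z.pow_mem h k)) hk fun g hg => ?_
    rw [Subgroup.mem_centralizer_singleton_iff] at hg ⊢
    exact ((show Commute g y from hg).pow_right k).eq
  have hcmem : ∀ y z : P, Subgroup.centralizer {y} = Subgroup.centralizer {z} → Commute y z := by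
    intro y z h
    have : y ∈ Subgroup.centralizer {y} := Subgroup.mem_centralizer_singleton_iff.2 rfl
    rw [h] at this
    exact Subgroup.mem_centralizer_singleton_iff.1 this
  -- commuting elements of different orders modulo the centre have the same centraliser
  have hL : ∀ (y z : P) (k : ℕ), Commute y z → y ^ k ∉ Z → z ^ k ∈ Z → z ∉ Z →
      Subgroup.centralizer {y} = Subgroup.centralizer {z} := by
    intro y z k hc hy hz hz1
    have h1 : Subgroup.centralizer {y * z} = Subgroup.centralizer {y ^ k} := by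
      have hyz : (y * z) ^ k ∉ Z := fun h => hy (by
        rw [hc.mul_pow] at h
        exact (Subgroup.mul_mem_cancel_right Z hz).1 h)
      rw [hpw _ k hyz]
      ext g
      rw [Subgroup.mem_centralizer_singleton_iff, Subgroup.mem_centralizer_singleton_iff,
        hc.mul_pow]
      have hzc : g * z ^ k = z ^ k * g := Subgroup.mem_center_iff.1 hz g
      rw [← mul_assoc, mul_assoc (y ^ k) (z ^ k) g, ← hzc, ← mul_assoc, mul_left_inj]
    rw [← hpw y k hy] at h1
    refine heq y z (fun h => hy (Z.pow_mem h k)) hz1 fun g hg => ?_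
    have hg' : Commute g (y * z) := by
      rw [← h1] at hg
      exact Subgroup.mem_centralizer_singleton_iff.1 hg
    rw [Subgroup.mem_centralizer_singleton_iff] at hg ⊢
    have := (show Commute g y from hg).inv_right.mul_right hg'
    rw [inv_mul_cancel_left] at this
    exact this.eq
  have hord : ∀ y : P, ∃ j, y ^ p ^ j ∈ Z := fun y => by
    obtain ⟨j, hj⟩ := hP y
    exact ⟨j, hj ▸ Z.one_mem⟩
  by_contra hx
  set S : Set P := {s | s ^ p ∉ Z} with hS
  have habel : ∀ s ∈ S, ∀ y : P, Commute s y → y ∉ Z →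
      Subgroup.centralizer {s} = Subgroup.centralizer {y} := by
    intro s hs y hc hy
    set i := Nat.find (hord s) with hi
    set j := Nat.find (hord y) with hj
    rcases lt_trichotomy j i with h | h | h
    · exact hL s y (p ^ j) hc (Nat.find_min (hord s) h) (Nat.find_spec (hord y)) hy
    · have hi2 : 2 ≤ i := by
        by_contra hlt
        have h2 := Nat.find_spec (hord s)
        rcases Nat.lt_or_ge i 1 with h0 | h0
        · rw [← hi, show i = 0 by omega, pow_zero, pow_one] at h2
          exact hs (Z.pow_mem h2 p)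
        · rw [← hi, show i = 1 by omega, pow_one] at h2
          exact hs h2
      have hyp : y ^ p ∉ Z := by
        have := Nat.find_min (hord y) (m := 1) (by omega)
        rwa [pow_one] at this
      rw [hpw y p hyp]
      refine hL s (y ^ p) (p ^ (i - 1)) (hc.pow_right p) (Nat.find_min (hord s) (by omega)) ?_ hyp
      rw [← pow_mul, ← pow_succ', Nat.sub_add_cancel (by omega : 1 ≤ i), ← h]
      exact Nat.find_spec (hord y)
    · exact (hL y s (p ^ i) hc.symm (Nat.find_min (hord y) h) (Nat.find_spec (hord s))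
        (fun hh => hs (Z.pow_mem hh p))).symm
  -- an element `w` of the second centre, of order `p` modulo the centre
  obtain ⟨w₀, hw₀, hw₀Z⟩ : ∃ w, (∀ g : P, ⁅w, g⁆ ∈ Z) ∧ w ∉ Z := by
    by_contra hno
    push Not at hno
    have h2 : Subgroup.upperCentralSeries P 2 ≤ Subgroup.upperCentralSeries P 1 := by
      intro w hw
      rw [Subgroup.upperCentralSeries_one]
      refine hno w fun g => ?_
      have := Subgroup.mem_upperCentralSeries_succ_iff.1 hw g
      rwa [Subgroup.upperCentralSeries_one] at this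
    have hall : ∀ n, Subgroup.upperCentralSeries P n ≤ Subgroup.upperCentralSeries P 1 := by
      intro n
      induction n with
      | zero => simp
      | succ n ih =>
        intro w hw
        apply h2
        rw [Subgroup.mem_upperCentralSeries_succ_iff]
        exact fun g => ih (Subgroup.mem_upperCentralSeries_succ_iff.1 hw g)
    have htop := hall (Group.nilpotencyClass P)
    rw [Subgroup.upperCentralSeries_nilpotencyClass, Subgroup.upperCentralSeries_one] at htop
    exact hx (htop (Subgroup.mem_top _))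
  set l := Nat.find (hord w₀) with hl
  have hl1 : 1 ≤ l := Nat.one_le_iff_ne_zero.2 fun h0 => hw₀Z (by
    have := Nat.find_spec (hord w₀)
    rwa [← hl, h0, pow_zero, pow_one] at this)
  set w := w₀ ^ p ^ (l - 1) with hw
  have hwZ : w ∉ Z := Nat.find_min (hord w₀) (by omega)
  have hwp : w ^ p ∈ Z := by
    rw [hw, ← pow_mul, ← pow_succ, Nat.sub_add_cancel hl1]
    exact Nat.find_spec (hord w₀)
  have hlin : ∀ (u v g : P), ⁅v, g⁆ ∈ Z → ⁅u * v, g⁆ = ⁅v, g⁆ * ⁅u, g⁆ := by
    intro u v g h
    calc ⁅u * v, g⁆ = u * ⁅v, g⁆ * u⁻¹ * ⁅u, g⁆ := by simp only [commutatorElement_def]; group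
      _ = ⁅v, g⁆ * ⁅u, g⁆ := by rw [Subgroup.mem_center_iff.1 h u, mul_inv_cancel_right]
  have hpowc : ∀ (v g : P), ⁅v, g⁆ ∈ Z → ∀ n : ℕ, ⁅v ^ n, g⁆ = ⁅v, g⁆ ^ n := by
    intro v g h n
    induction n with
    | zero => rw [pow_zero, pow_zero, commutatorElement_one_left]
    | succ n ih => rw [pow_succ, hlin _ _ _ h, ih, pow_succ']
  have hwc : ∀ g, ⁅w, g⁆ ∈ Z := fun g => by
    rw [hw, hpowc _ _ (hw₀ g)]
    exact Z.pow_mem (hw₀ g) _
  have hgp : ∀ g : P, Commute (g ^ p) w := by
    intro g
    have h1 : ⁅g, w⁆ ∈ Z := by rw [← commutatorElement_inv]; exact Z.inv_mem (hwc g)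
    have h2 := hpowc g w h1 p
    rw [← commutatorElement_inv w g, inv_pow, ← hpowc w g (hwc g),
      commutatorElement_eq_one_iff_mul_comm.2 (Subgroup.mem_center_iff.1 hwp g).symm, inv_one] at h2
    exact commutatorElement_eq_one_iff_mul_comm.1 h2
  set A := Subgroup.centralizer ({w} : Set P) with hA
  have hSA : ∀ s ∈ S, Subgroup.centralizer {s} = A := by
    intro s hs
    have hc : Commute s w := by
      have h1 : w ∈ Subgroup.centralizer {s ^ p} :=
        Subgroup.mem_centralizer_singleton_iff.2 (hgp s).eq.symm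
      rw [← hpw s p hs] at h1
      exact (Subgroup.mem_centralizer_singleton_iff.1 h1).symm
    exact habel s hs w hc hwZ
  have hxA : x ∈ A := by
    rw [← hSA x hx]
    exact Subgroup.mem_centralizer_singleton_iff.2 rfl
  have hAc : ∀ u ∈ A, ∀ v ∈ A, u * v = v * u := by
    intro u hu v hv
    rw [← hSA x hx, Subgroup.mem_centralizer_singleton_iff] at hu hv
    by_cases hvZ : v ∈ Z
    · exact Subgroup.mem_center_iff.1 hvZ u
    have h := habel x hx v (Commute.symm hv) hvZ
    have : u ∈ Subgroup.centralizer {v} := h ▸ Subgroup.mem_centralizer_singleton_iff.2 hu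
    exact Subgroup.mem_centralizer_singleton_iff.1 this
  haveI hAn : A.Normal := by
    refine ⟨fun u hu g => ?_⟩
    rw [Subgroup.mem_centralizer_singleton_iff] at hu ⊢
    have hgw : g⁻¹ * w * g = ⁅w, g⁻¹⁆⁻¹ * w := by simp only [commutatorElement_def]; group
    have hc : Commute u (g⁻¹ * w * g) := by
      rw [hgw]
      exact Commute.mul_right (Subgroup.mem_center_iff.1 (Z.inv_mem (hwc g⁻¹)) u) hu
    calc g * u * g⁻¹ * w = g * (u * (g⁻¹ * w * g)) * g⁻¹ := by group
      _ = g * ((g⁻¹ * w * g) * u) * g⁻¹ := by rw [hc.eq]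
      _ = w * (g * u * g⁻¹) := by group
  have hout : ∀ g : P, g ∉ A → g ^ p ∈ Z := fun g hg => by
    by_contra h
    exact hg (hSA g h ▸ Subgroup.mem_centralizer_singleton_iff.2 rfl)
  have hAindex : A.index = p ^ a := hidx w hwZ
  rcases Nat.lt_or_ge a 2 with ha2 | ha2
  · -- all centralisers are normal of index `p`
    obtain rfl : a = 1 := by omega
    apply hx
    rw [Subgroup.mem_center_iff]
    intro y
    by_cases hy : y ∈ Z
    · exact (Subgroup.mem_center_iff.1 hy (x ^ p)).symm
    have hi := hidx y hy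
    rw [pow_one] at hi
    haveI := CfsgLib.PGroups.normal_of_isCoatom hP (CfsgLib.PGroups.isCoatom_of_index_eq_prime hi)
    have hmem : x ^ p ∈ Subgroup.centralizer {y} := hi ▸ Subgroup.pow_index_mem _ x
    exact (Subgroup.mem_centralizer_singleton_iff.1 hmem).symm
  -- two independent elements modulo `A`
  have hQ : IsPGroup p (P ⧸ A) := hP.to_quotient A
  have hQcard : Nat.card (P ⧸ A) = p ^ a := by rw [← Subgroup.index_eq_card, hAindex]
  haveI : Nontrivial (P ⧸ A) := by
    rw [← Finite.one_lt_card_iff_nontrivial, hQcard]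
    exact Nat.one_lt_pow (by omega) (Fact.out : p.Prime).one_lt
  haveI := hQ.center_nontrivial
  obtain ⟨⟨g', hg'⟩, hg'1⟩ := exists_ne (1 : Subgroup.center (P ⧸ A))
  obtain ⟨g, rfl⟩ := QuotientGroup.mk'_surjective A g'
  have hgA : g ∉ A := fun h => hg'1 (Subtype.ext ((QuotientGroup.eq_one_iff g).2 h))
  have hgpA : (QuotientGroup.mk' A g) ^ p = 1 := by
    rw [← map_pow]
    exact (QuotientGroup.eq_one_iff _).2 (Subgroup.center_le_centralizer _ (hout g hgA))
  obtain ⟨h, hh⟩ : ∃ h : P, QuotientGroup.mk' A h ∉ Subgroup.zpowers (QuotientGroup.mk' A g) := by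
    by_contra hall
    push Not at hall
    have htop : Subgroup.zpowers (QuotientGroup.mk' A g) = ⊤ := eq_top_iff.2 fun q _ => by
      obtain ⟨h, rfl⟩ := QuotientGroup.mk'_surjective A q
      exact hall h
    have h1 := congrArg (fun K : Subgroup (P ⧸ A) => Nat.card K) htop
    simp only [Nat.card_zpowers, Subgroup.card_top, hQcard] at h1
    have h2 := Nat.le_of_dvd (Fact.out : p.Prime).pos (orderOf_dvd_of_pow_eq_one hgpA)
    rw [h1] at h2
    exact absurd (lt_of_le_of_lt h2 (lt_self_pow₀ (Fact.out : p.Prime).one_lt ha2)) (lt_irrefl _)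
  have hhA : h ∉ A := fun hm => hh (by
    rw [show QuotientGroup.mk' A h = 1 from (QuotientGroup.eq_one_iff h).2 hm]
    exact one_mem _)
  letI : CommGroup A := { (inferInstance : Group A) with
    mul_comm := fun u v => Subtype.ext (hAc u u.2 v v.2) }
  set W := Z.subgroupOf A with hW
  let ψ : P →* MulAut A := MulAut.conjNormal
  have hψA : ∀ c ∈ A, ψ c = 1 := fun c hc => MulEquiv.ext fun u => Subtype.ext (by
    rw [MulAut.conjNormal_apply, MulAut.one_apply, hAc c hc u u.2, mul_inv_cancel_right])
  have hnorm : ∀ c : P, c ∉ A → ∀ u : A, ∏ i ∈ Finset.range p, (ψ c ^ i) u ∈ W := by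
    intro c hc u
    have h1 : ((u : P) * c) ^ p ∈ Z := hout _ fun h => hc ((Subgroup.mul_mem_cancel_left A u.2).1 h)
    rw [mul_pow_eq hAc u c p, Subgroup.mul_mem_cancel_right Z (hout c hc)] at h1
    simp only [← map_pow]
    exact Subgroup.mem_subgroupOf.2 h1
  have hcomm : Commute (ψ g) (ψ h) := by
    have hgh : QuotientGroup.mk' A (g * h) = QuotientGroup.mk' A (h * g) := by
      rw [map_mul, map_mul]
      exact (Subgroup.mem_center_iff.1 hg' _).symm
    have hm : (g * h)⁻¹ * (h * g) ∈ A := QuotientGroup.eq.1 hgh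
    have h1 := hψA _ hm
    rw [map_mul, map_inv, inv_mul_eq_one, map_mul, map_mul] at h1
    exact h1
  refine hx (show (⟨x, hxA⟩ : A) ^ p ∈ W from ?_)
  have hrow : ∀ i ∈ Finset.range p,
      ∏ n ∈ Finset.range p, (ψ (g * h ^ i) ^ n) (⟨x, hxA⟩ : A) ∈ W := by
    intro i hi
    refine hnorm _ (fun hm => ?_) _
    rcases Nat.eq_zero_or_pos i with rfl | hi0
    · rw [pow_zero, mul_one] at hm; exact hgA hm
    refine hh ?_
    have h1 : QuotientGroup.mk' A g * (QuotientGroup.mk' A h) ^ i = 1 := by
      rw [← map_pow, ← map_mul]; exact (QuotientGroup.eq_one_iff _).2 hm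
    have hcop : i.Coprime (orderOf (QuotientGroup.mk' A h)) := by
      have hd : orderOf (QuotientGroup.mk' A h) ∣ p := orderOf_dvd_of_pow_eq_one (by
        rw [← map_pow]
        exact (QuotientGroup.eq_one_iff _).2 (Subgroup.center_le_centralizer _ (hout h hhA)))
      refine Nat.Coprime.coprime_dvd_right hd ?_
      exact ((Nat.Prime.coprime_iff_not_dvd (n := i) Fact.out).2 fun hd' => by
        have := Nat.le_of_dvd hi0 hd'
        have := Finset.mem_range.1 hi
        omega).symm
    obtain ⟨m, hm'⟩ := exists_pow_eq_self_of_coprime hcop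
    rw [← hm', eq_inv_of_mul_eq_one_right h1]
    exact pow_mem (inv_mem (Subgroup.mem_zpowers _)) m
  have hall := W.prod_mem hrow
  rw [Finset.prod_comm, Finset.prod_eq_mul_prod_sdiff_singleton_of_mem
    (Finset.mem_range.2 (Fact.out : p.Prime).pos)] at hall
  simp only [pow_zero, MulAut.one_apply, Finset.prod_const, Finset.card_range] at hall
  refine (Subgroup.mul_mem_cancel_right W (W.prod_mem fun n hn => ?_)).1 hall
  obtain ⟨hn, hn0⟩ := Finset.mem_sdiff.1 hn
  rw [Finset.mem_singleton] at hn0
  have hcol : ∀ i, (ψ (g * h ^ i) ^ n) (⟨x, hxA⟩ : A) =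
      (ψ (h ^ n) ^ i) ((ψ g ^ n) (⟨x, hxA⟩ : A)) := fun i => by
    rw [← MulAut.mul_apply, map_mul, map_pow, (hcomm.pow_right i).mul_pow, ← pow_mul, map_pow,
      ← pow_mul, mul_comm i n, (hcomm.pow_pow n (n * i)).eq]
  simp only [hcol]
  refine hnorm _ (fun hm => hh ?_) _
  have h1 : (QuotientGroup.mk' A h) ^ n = 1 := by
    rw [← map_pow]; exact (QuotientGroup.eq_one_iff _).2 hm
  have hd : orderOf (QuotientGroup.mk' A h) ∣ p := orderOf_dvd_of_pow_eq_one (by
    rw [← map_pow]
    exact (QuotientGroup.eq_one_iff _).2 (Subgroup.center_le_centralizer _ (hout h hhA)))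
  rcases (Nat.dvd_prime Fact.out).1 hd with h2 | h2
  · rw [orderOf_eq_one_iff.1 h2]; exact one_mem _
  · have h3 := orderOf_dvd_of_pow_eq_one h1
    rw [h2] at h3
    exact absurd (Nat.eq_zero_of_dvd_of_lt h3 (Finset.mem_range.1 hn)) hn0

end Cfsg.Agent.S4365
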