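import Cfsg.Statements.S4370
import Cfsg.Agent.Lib.PGroups.UniqueOrderP
import Cfsg.Agent.Lib.Transfer.Control

set_option autoImplicit false
open Cfsg

namespace Cfsg.Agent.S4370

/-- The solutions of `2 j = 0` in `ZMod (2 n)`. -/
theorem two_torsion {n : ℕ} [NeZero n] {j : ZMod (2 * n)} (h : j + j = 0) : j = 0 ∨ j = (n : ZMod (2 * n)) := by
  haveI : NeZero (2 * n) := ⟨by have := NeZero.ne n; omega⟩
  have h1 : ((j.val + j.val : ℕ) : ZMod (2 * n)) = 0 := by
    rw [Nat.cast_add, ZMod.natCast_zmod_val, h]
  obtain ⟨c, hc⟩ := (ZMod.natCast_eq_zero_iff _ _).mp h1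
  have hlt := j.val_lt
  have h2 : j.val = n * c := by rw [mul_assoc] at hc; omega
  have hc2 : c < 2 := by
    by_contra hcon
    have := Nat.mul_le_mul_left n (not_lt.mp hcon)
    omega
  rw [← ZMod.natCast_zmod_val j, h2]
  interval_cases c
  · left; simp
  · right; simp

open QuaternionGroup in
/-- Centralisers of noncentral elements of a quaternion group are cyclic. -/
theorem quaternion_centralizer {n : ℕ} [NeZero n] {g : QuaternionGroup n}
    (hg : g ∉ Subgroup.center (QuaternionGroup n)) :
    ∃ w, ∀ x, Commute x g → x ∈ Subgroup.zpowers w := by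
  haveI : NeZero (2 * n) := ⟨by have := NeZero.ne n; omega⟩
  rcases g with i | i
  · have hi : i + i ≠ 0 := fun h => hg (Subgroup.mem_center_iff.mpr fun x => by
      rcases x with j | j
      · rw [a_mul_a, a_mul_a, add_comm]
      · rw [xa_mul_a, a_mul_xa, sub_eq_add_neg, ← eq_neg_of_add_eq_zero_left h])
    refine ⟨a 1, fun x hx => ?_⟩
    rcases x with j | j
    · exact ⟨(j.val : ℤ), by show a 1 ^ ((j.val : ℤ)) = a j; rw [zpow_natCast, a_one_pow, ZMod.natCast_zmod_val]⟩
    · have h : xa j * a i = a i * xa j := hx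
      rw [xa_mul_a, a_mul_xa] at h
      injection h with h
      exact absurd (add_left_cancel (a := j) (b := i + i) (c := 0) (by
        rw [← add_assoc, h, sub_add_cancel, add_zero])) hi
  · refine ⟨xa i, fun x hx => ?_⟩
    rcases x with j | j
    · have h : a j * xa i = xa i * a j := hx
      rw [a_mul_xa, xa_mul_a] at h
      injection h with h
      have hj : j + j = 0 := add_left_cancel (a := i) (b := j + j) (c := 0) (by
        rw [← add_assoc, ← h, sub_add_cancel, add_zero])
      rcases two_torsion hj with rfl | rfl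
      · exact ⟨0, by show xa i ^ (0 : ℤ) = a 0; rw [zpow_zero, a_zero]⟩
      · exact ⟨2, by show xa i ^ (2 : ℤ) = a n; rw [show (2 : ℤ) = ((2 : ℕ) : ℤ) from rfl, zpow_natCast, xa_sq]⟩
    · have h : xa j * xa i = xa i * xa j := hx
      rw [xa_mul_xa, xa_mul_xa] at h
      injection h with h
      have hj : (j - i) + (j - i) = 0 := by
        calc (j - i) + (j - i) = ((n : ZMod (2 * n)) + j - i) - ((n : ZMod (2 * n)) + i - j) := by ring
          _ = 0 := by rw [← h, sub_self]
      rcases two_torsion hj with hji | hji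
      · rw [sub_eq_zero.mp hji]; exact Subgroup.mem_zpowers _
      · refine ⟨3, ?_⟩
        show xa i ^ (3 : ℤ) = xa j
        rw [show (3 : ℤ) = ((3 : ℕ) : ℤ) from rfl, zpow_natCast, pow_succ', xa_sq, xa_mul_a, ← hji,
          add_sub_cancel]

/-- Let G be a finite non-abelian nilpotent group. Then the centralizer of every non-central element of G is cyclic if and only if G is isomorphic to the direct product of a generalized quaternion group and a cyclic group of odd order. -/
theorem result {G : Type*} [Group G] [Finite G] (hG : Group.IsNilpotent G)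
    (hna : ¬ IsMulCommutative G) :
    (∀ x : G, x ∉ Subgroup.center G → IsCyclic (Subgroup.centralizer ({x} : Set G))) ↔
      ∃ (k m : ℕ), 1 ≤ k ∧ Odd m ∧ Nonempty (G ≃* QuaternionGroup (2 ^ k) × Multiplicative (ZMod m)) := by
  classical
  constructor
  · intro h
    obtain ⟨x₀, hx₀⟩ : ∃ x : G, x ∉ Subgroup.center G := by
      by_contra hc
      push Not at hc
      exact hna ⟨⟨fun a b => Subgroup.mem_center_iff.mp (hc b) a⟩⟩
    haveI := hG
    have hnorm : ∀ {p : ℕ} [Fact p.Prime] (P : Sylow p G), P.Normal := fun {p} _ P =>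
      ((Group.isNilpotent_of_finite_tfae (G := G)).out 0 3 rfl rfl).1 hG p inferInstance P
    obtain ⟨p, hpf, P, hPna⟩ : ∃ (p : ℕ) (_ : Fact p.Prime) (P : Sylow p G),
        ¬ IsMulCommutative (P : Subgroup G) := by
      by_contra hc
      push Not at hc
      refine hna ⟨⟨fun a b => ?_⟩⟩
      let e := Sylow.directProductOfNormal hnorm
      obtain ⟨a, rfl⟩ := e.surjective a
      obtain ⟨b, rfl⟩ := e.surjective b
      rw [← map_mul, ← map_mul]
      refine congrArg e (funext fun q => funext fun Q => ?_)
      haveI := Fact.mk (Nat.prime_of_mem_primeFactors q.2)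
      exact (hc q inferInstance Q).is_comm.comm _ _
    haveI := hpf
    haveI : (P : Subgroup G).Normal := hnorm P
    obtain ⟨N, hNn, hNP⟩ := (CfsgLib.Transfer.exists_normal_isComplement'_iff P).mpr
      CfsgLib.Transfer.hasNormalPComplement_of_isNilpotent
    haveI := hNn
    have hcomm : ∀ a ∈ (P : Subgroup G), ∀ b ∈ N, Commute a b := fun a ha b hb =>
      Subgroup.commute_of_normal_of_disjoint _ _ inferInstance inferInstance hNP.disjoint.symm a b ha hb
    have hNc : ∀ b ∈ N, b ∈ Subgroup.center G := by
      intro b hb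
      by_contra hb'
      haveI := h b hb'
      refine hPna ⟨⟨fun u v => Subtype.ext ?_⟩⟩
      obtain ⟨w, hw⟩ := IsCyclic.exists_generator (α := Subgroup.centralizer ({b} : Set G))
      obtain ⟨i, hi⟩ := hw ⟨u, Subgroup.mem_centralizer_singleton_iff.mpr (hcomm u u.2 b hb).eq⟩
      obtain ⟨j, hj⟩ := hw ⟨v, Subgroup.mem_centralizer_singleton_iff.mpr (hcomm v v.2 b hb).eq⟩
      have e := congrArg Subtype.val ((Commute.refl w).zpow_zpow i j).eq
      dsimp only at hi hj
      rw [hi, hj] at e
      exact e
    have hcyc : ∀ {H : Subgroup G} (_ : IsCyclic H) {a b : G}, a ∈ H → b ∈ H → a ^ p = 1 → b ^ p = 1 →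
        a ≠ 1 → b ∈ Subgroup.zpowers a := by
      intro H hH a b ha hb hap hbp ha1
      haveI := hH
      haveI := Fintype.ofFinite H
      let S := Finset.univ.filter fun x : H => x ^ p = 1
      have hsub : (Finset.univ.filter fun x : H => (x : G) ∈ Subgroup.zpowers a) ⊆ S := fun x hx => by
        obtain ⟨i, hi⟩ := (Finset.mem_filter.mp hx).2
        refine Finset.mem_filter.mpr ⟨Finset.mem_univ _, Subtype.ext ?_⟩
        rw [Subgroup.coe_pow, ← hi, OneMemClass.coe_one]
        show (a ^ i) ^ p = 1
        rw [← zpow_natCast, ← zpow_mul, mul_comm, zpow_mul, zpow_natCast, hap, one_zpow]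
      have hcard : p ≤ (Finset.univ.filter fun x : H => (x : G) ∈ Subgroup.zpowers a).card := by
        rw [← Fintype.card_subtype, ← Nat.card_eq_fintype_card, ← orderOf_eq_prime hap ha1,
          ← Nat.card_zpowers a]
        exact le_of_eq (Nat.card_congr
          { toFun := fun x => ⟨⟨x, Subgroup.zpowers_le.mpr ha x.2⟩, x.2⟩
            invFun := fun x => ⟨x.1, x.2⟩
            left_inv := fun x => rfl
            right_inv := fun x => rfl })
      have heq := Finset.eq_of_subset_of_card_le hsub
        ((IsCyclic.card_pow_eq_one_le (α := H) (Fact.out : p.Prime).pos).trans hcard)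
      have hbS : (⟨b, hb⟩ : H) ∈ S := Finset.mem_filter.mpr ⟨Finset.mem_univ _, Subtype.ext hbp⟩
      rw [← heq] at hbS
      exact (Finset.mem_filter.mp hbS).2
    have hZ : ∀ a ∈ (P : Subgroup G), (∀ b ∈ (P : Subgroup G), Commute a b) → a ∈ Subgroup.center G := by
      intro a ha hab
      refine Subgroup.mem_center_iff.mpr fun g => ?_
      obtain ⟨⟨⟨n, hn⟩, ⟨b, hb⟩⟩, rfl⟩ := hNP.2 g
      exact (((hcomm a ha n hn).mul_right (hab b hb))).eq.symm
    have hPne : Nontrivial (P : Subgroup G) := by
      by_contra hc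
      haveI := not_nontrivial_iff_subsingleton.mp hc
      exact hPna ⟨⟨fun u v => Subsingleton.elim _ _⟩⟩
    obtain ⟨z, hz⟩ : ∃ z : Subgroup.center (P : Subgroup G), orderOf z = p := by
      refine exists_prime_orderOf_dvd_card' p ?_
      exact CfsgLib.PGroups.dvd_card_of_ne_bot P.isPGroup'
        ((Subgroup.nontrivial_iff_ne_bot _).mp P.isPGroup'.center_nontrivial)
    have hz' : orderOf (z : (P : Subgroup G)) = p := by rw [Subgroup.orderOf_coe]; exact hz
    have hzp : (z : (P : Subgroup G)) ^ p = 1 := orderOf_dvd_iff_pow_eq_one.mp hz'.dvd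
    have hzG : ((z : (P : Subgroup G)) : G) ∈ Subgroup.center G := hZ _ (z : (P : Subgroup G)).2
      fun b hb => (congrArg Subtype.val (Subgroup.mem_center_iff.mp z.2 ⟨b, hb⟩)).symm
    have hz1 : ((z : (P : Subgroup G)) : G) ≠ 1 := fun e => by
      rw [OneMemClass.coe_eq_one.mp e, orderOf_one] at hz'
      exact (Fact.out : p.Prime).ne_one hz'.symm
    have huniq : ∀ y : (P : Subgroup G), y ^ p = 1 → y ∈ Subgroup.zpowers (z : (P : Subgroup G)) := by
      intro y hy
      have hy' : (y : G) ∈ Subgroup.zpowers ((z : (P : Subgroup G)) : G) := by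
        by_cases hyc : (y : G) ∈ Subgroup.center G
        · exact hcyc (h x₀ hx₀)
            (Subgroup.mem_centralizer_singleton_iff.mpr (Subgroup.mem_center_iff.mp hzG x₀).symm)
            (Subgroup.mem_centralizer_singleton_iff.mpr (Subgroup.mem_center_iff.mp hyc x₀).symm)
            (congrArg Subtype.val hzp) (congrArg Subtype.val hy) hz1
        · exact hcyc (h y hyc)
            (Subgroup.mem_centralizer_singleton_iff.mpr (Subgroup.mem_center_iff.mp hzG y).symm)
            (Subgroup.mem_centralizer_singleton_iff.mpr rfl)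
            (congrArg Subtype.val hzp) (congrArg Subtype.val hy) hz1
      obtain ⟨i, hi⟩ := hy'
      exact ⟨i, Subtype.ext (by simpa using hi)⟩
    rcases CfsgLib.PGroups.isCyclic_or_quaternion_of_unique P.isPGroup' hzp huniq with
      hc | ⟨rfl, k, hk, ⟨eP⟩⟩
    · exact absurd (by haveI := hc; exact inferInstance) hPna
    have hNcyc : IsCyclic N := by
      haveI := h x₀ hx₀
      exact isCyclic_of_injective (f := Subgroup.inclusion (H := N)
        (K := Subgroup.centralizer ({x₀} : Set G)) fun b hb =>
          Subgroup.mem_centralizer_singleton_iff.mpr (Subgroup.mem_center_iff.mp (hNc b hb) x₀).symm)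
        (Subgroup.inclusion_injective _)
    refine ⟨k, Nat.card N, hk, ?_, ⟨?_⟩⟩
    · have := CfsgLib.Transfer.card_eq_of_isComplement' P hNP
      exact Nat.not_even_iff_odd.mp fun he => this he.two_dvd
    let f : ↥(P : Subgroup G) × N →* G := MonoidHom.noncommCoprod (P : Subgroup G).subtype N.subtype
      fun a b => hcomm a a.2 b b.2
    have hf : Function.Bijective f := by
      have hb := (Subgroup.isComplement'_comm.mp hNP)
      exact hb
    exact (MulEquiv.ofBijective f hf).symm.trans (MulEquiv.prodCongr eP (zmodCyclicMulEquiv hNcyc).symm)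
  · rintro ⟨k, m, hk, hm, ⟨e⟩⟩ x hx
    haveI : NeZero m := ⟨fun h => by rw [h] at hm; exact absurd hm (by decide)⟩
    haveI : NeZero (2 ^ k) := ⟨(pow_pos two_pos k).ne'⟩
    have hg : (e x).1 ∉ Subgroup.center (QuaternionGroup (2 ^ k)) := fun hc =>
      hx (Subgroup.mem_center_iff.mpr fun y => e.injective (by
        rw [map_mul, map_mul]
        exact Prod.ext (Subgroup.mem_center_iff.mp hc (e y).1) (mul_comm _ _)))
    obtain ⟨w, hw⟩ := quaternion_centralizer hg
    let f : Subgroup.centralizer ({x} : Set G) →*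
        Subgroup.zpowers w × Multiplicative (ZMod m) :=
      { toFun := fun y => (⟨(e y).1, hw _ (by
            have h1 := congrArg (fun t => (e t).1) (Subgroup.mem_centralizer_singleton_iff.mp y.2)
            simp only [map_mul, Prod.fst_mul] at h1
            exact h1)⟩, (e y).2)
        map_one' := by simp
        map_mul' := fun a b => Prod.ext (Subtype.ext (by simp)) (by simp) }
    haveI : IsCyclic (Subgroup.zpowers w × Multiplicative (ZMod m)) := by
      refine Group.isCyclic_prod_iff.mpr ⟨inferInstance, inferInstance, ?_⟩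
      have h1 : Nat.card (Subgroup.zpowers w) ∣ 2 ^ (k + 2) := by
        refine (Subgroup.card_subgroup_dvd_card _).trans ?_
        rw [Nat.card_eq_fintype_card, QuaternionGroup.card, pow_add]
        exact dvd_of_eq (by ring)
      rw [Nat.card_congr Multiplicative.toAdd, Nat.card_zmod]
      exact Nat.Coprime.coprime_dvd_left h1
        (Nat.Coprime.pow_left _ (Nat.coprime_two_left.mpr hm))
    exact isCyclic_of_injective (f := f) fun a b hab => Subtype.ext (e.injective
      (Prod.ext (congrArg (fun t => (t.1 : QuaternionGroup (2 ^ k))) hab) (congrArg Prod.snd hab :)))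

end Cfsg.Agent.S4370
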