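import Cfsg.Statements.S4376
import Mathlib
import Cfsg.Agent.Lib.FgsC.OrderTypeData

set_option autoImplicit false
open Cfsg

namespace Cfsg.Agent.S4376

open CfsgLib.FgsC.OrderType
open scoped Matrix commutatorElement

/-- The solvable group. -/
abbrev Pos : Type := (i : Fin 17) → Fin (Data.posE i) → (Data.posB i).G

/-- The solvable factor of the non-solvable group. -/
abbrev Neg : Type := (i : Fin 16) → Fin (Data.negE i) → (Data.negB i).G

/-- `GL(3, 2)`. -/
abbrev U : Type := (Matrix (Fin 3) (Fin 3) (ZMod 2))ˣ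

theorem pow_block (B : Block) (h : B.F 420 = B.C₁.q ^ B.C₁.r * B.C₂.q ^ B.C₂.r * (B.a * B.b))
    (x : B.G) : x ^ 420 = 1 := by
  classical
  haveI := Fintype.ofFinite B.G
  rw [← B.card_pow_eq_one, ← B.card_eq] at h
  by_contra hx
  simp only [Nat.card_eq_fintype_card] at h
  exact (Fintype.card_subtype_lt (p := fun y : B.G => y ^ 420 = 1) hx).ne h

theorem pos_exp : ∀ i, (Data.posB i).F 420 = (Data.posB i).C₁.q ^ (Data.posB i).C₁.r *
    (Data.posB i).C₂.q ^ (Data.posB i).C₂.r * ((Data.posB i).a * (Data.posB i).b) := by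
  decide +kernel

theorem neg_exp : ∀ i, (Data.negB i).F 420 = (Data.negB i).C₁.q ^ (Data.negB i).C₁.r *
    (Data.negB i).C₂.q ^ (Data.negB i).C₂.r * ((Data.negB i).a * (Data.negB i).b) := by
  decide +kernel

theorem card_pos (m : ℕ) : Nat.card {x : Pos // x ^ m = 1} =
    ∏ i, (Data.posB i).F m ^ Data.posE i := by
  rw [card_pow_eq_one_pi]
  refine Finset.prod_congr rfl fun i _ => ?_
  rw [card_pow_eq_one_pi, Finset.prod_const, Finset.card_univ, Fintype.card_fin,
    Block.card_pow_eq_one]

theorem card_neg (m : ℕ) : Nat.card {x : Neg // x ^ m = 1} =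
    ∏ i, (Data.negB i).F m ^ Data.negE i := by
  rw [card_pow_eq_one_pi]
  refine Finset.prod_congr rfl fun i _ => ?_
  rw [card_pow_eq_one_pi, Finset.prod_const, Finset.card_univ, Fintype.card_fin,
    Block.card_pow_eq_one]

/-! A bit code for `3 × 3` matrices over `ZMod 2`. -/

/-- The matrix with code `c`: column `j` is the `j`-th octal digit. -/
def dec (c : ℕ) : Matrix (Fin 3) (Fin 3) (ZMod 2) :=
  Matrix.of fun i j => (((c / 8 ^ (j : ℕ)) / 2 ^ (i : ℕ) : ℕ) : ZMod 2)

/-- The vector with code `k`. -/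
def dv (k : ℕ) : Fin 3 → ZMod 2 := fun i => ((k / 2 ^ (i : ℕ) : ℕ) : ZMod 2)

/-- The action on codes. -/
def f (c k : ℕ) : ℕ :=
  Nat.xor (k % 2 * (c % 8)) (Nat.xor (k / 2 % 2 * (c / 8 % 8)) (k / 4 % 2 * (c / 64 % 8)))

theorem step : ∀ c : Fin 512, ∀ k : Fin 8, dec c *ᵥ dv k = dv (f c k) ∧ f c k < 8 := by
  decide +kernel

theorem dv_inj : ∀ k k' : Fin 8, dv k = dv k' → k = k' := by decide +kernel

theorem iterate_step (c : Fin 512) (n : ℕ) (k : ℕ) (hk : k < 8) :
    (dec c) ^ n *ᵥ dv k = dv ((f c)^[n] k) ∧ (f c)^[n] k < 8 := by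
  induction n with
  | zero => simp [hk]
  | succ n ih =>
    obtain ⟨h1, h2⟩ := ih
    rw [Function.iterate_succ_apply', pow_succ', ← Matrix.mulVec_mulVec, h1]
    exact step c ⟨_, h2⟩

theorem pow_eq_one_iff_code (c : Fin 512) (n : ℕ) :
    dec c ^ n = 1 ↔ ∀ j : Fin 3, (f c)^[n] (2 ^ (j : ℕ)) = 2 ^ (j : ℕ) := by
  have hlt : ∀ j : Fin 3, 2 ^ (j : ℕ) < 8 := by decide
  have hsingle : ∀ j : Fin 3, dv (2 ^ (j : ℕ)) = Pi.single j 1 := by decide +kernel
  constructor
  · intro h j
    obtain ⟨h1, h2⟩ := iterate_step c n _ (hlt j)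
    rw [h, Matrix.one_mulVec] at h1
    exact congrArg Fin.val (dv_inj ⟨_, h2⟩ ⟨_, hlt j⟩ h1.symm)
  · intro h
    ext i j
    obtain ⟨h1, -⟩ := iterate_step c n _ (hlt j)
    rw [h j, hsingle] at h1
    have := congrFun h1 i
    rw [Matrix.mulVec_single_one] at this
    simpa [Matrix.col_apply, Matrix.one_apply, Pi.single_apply] using this

theorem dec_bijective : Function.Bijective (fun c : Fin 512 => dec c) := by
  have hleft : ∀ c : Fin 512, (∑ j : Fin 3, ∑ i : Fin 3,
      (dec c i j).val * 2 ^ (i : ℕ) * 8 ^ (j : ℕ)) = (c : ℕ) := by decide +kernel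
  rw [Fintype.bijective_iff_injective_and_card]
  refine ⟨fun c c' h => Fin.ext ?_, by rw [Fintype.card_fin]; decide +kernel⟩
  rw [← hleft c, ← hleft c']
  simp only at h
  rw [h]

/-- The number of codes of `n`-th roots of the identity. -/
def FU (n : ℕ) : ℕ :=
  (List.range 512).countP fun c =>
    decide ((f c)^[n] 1 = 1 ∧ (f c)^[n] 2 = 2 ∧ (f c)^[n] 4 = 4)

theorem card_U (m : ℕ) : Nat.card {x : U // x ^ m = 1} = if m = 0 then Nat.card U else FU m := by
  split_ifs with hm
  · subst hm
    exact Nat.card_congr (Equiv.subtypeUnivEquiv fun x => pow_zero x)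
  · have e1 : {x : U // x ^ m = 1} ≃ {M : Matrix (Fin 3) (Fin 3) (ZMod 2) // M ^ m = 1} :=
      { toFun := fun x => ⟨x.1.val, by rw [← Units.val_pow_eq_pow_val, x.2, Units.val_one]⟩
        invFun := fun M => ⟨Units.ofPowEqOne M.1 m M.2 hm, Units.pow_ofPowEqOne M.2 hm⟩
        left_inv := fun x => Subtype.ext (Units.ext rfl)
        right_inv := fun M => rfl }
    have e2 : {c : Fin 512 // dec c ^ m = 1} ≃
        {M : Matrix (Fin 3) (Fin 3) (ZMod 2) // M ^ m = 1} :=
      Equiv.subtypeEquiv (Equiv.ofBijective _ dec_bijective) fun c => Iff.rfl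
    rw [Nat.card_congr (e1.trans e2.symm)]
    classical
    rw [Nat.card_eq_fintype_card, Fintype.card_subtype, FU]
    have hiff : ∀ c : Fin 512, dec c ^ m = 1 ↔
        ((f c)^[m] 1 = 1 ∧ (f c)^[m] 2 = 2 ∧ (f c)^[m] 4 = 4) := by
      intro c
      rw [pow_eq_one_iff_code, Fin.forall_fin_succ, Fin.forall_fin_succ, Fin.forall_fin_succ]
      simp
    rw [Finset.filter_congr fun c _ => hiff c, ← List.map_coe_finRange_eq_range, List.countP_map,
      List.countP_eq_length_filter]
    rfl

theorem pow_U (x : U) : x ^ 420 = 1 := by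
  obtain ⟨c, hc⟩ := dec_bijective.2 x.val
  have key : ∀ c : Fin 512, (∀ k : Fin 8, (k : ℕ) ≠ 0 → f c k ≠ 0) →
      ((f c)^[84] 1 = 1 ∧ (f c)^[84] 2 = 2 ∧ (f c)^[84] 4 = 4) := by decide +kernel
  have h : dec c ^ 84 = 1 := by
    rw [pow_eq_one_iff_code, Fin.forall_fin_succ, Fin.forall_fin_succ, Fin.forall_fin_succ]
    have hinj : ∀ k : Fin 8, (k : ℕ) ≠ 0 → f c k ≠ 0 := by
      intro k hk h0
      apply hk
      simp only at hc
      have h1 := (step c k).1
      rw [hc, h0, show dv 0 = 0 from by funext i; simp [dv]] at h1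
      have h2 := congrArg (fun v => (x⁻¹ : U).val *ᵥ v) h1
      simp only [Matrix.mulVec_mulVec, Units.inv_mul, Matrix.one_mulVec, Matrix.mulVec_zero] at h2
      exact congrArg Fin.val (dv_inj k 0 (h2.trans (by funext i; simp [dv])))
    obtain ⟨a1, a2, a3⟩ := key c hinj
    simp [a1, a2, a3]
  simp only at hc
  rw [hc] at h
  refine Units.ext ?_
  rw [Units.val_pow_eq_pow_val, show (420 : ℕ) = 84 * 5 from rfl, pow_mul, h, one_pow,
    Units.val_one]

/-- Elementary transvections. -/
def tv (i j : Fin 3) : U :=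
  if h : i = j then 1 else
    { val := 1 + Matrix.single i j 1
      inv := 1 + Matrix.single i j 1
      val_inv := by revert h; revert i j; decide +kernel
      inv_val := by revert h; revert i j; decide +kernel }

theorem not_isSolvable_U : ¬ Group.IsSolvable U := by
  intro hs
  obtain ⟨n, hn⟩ := (Group.isSolvable_def _).mp hs
  have hcomm : ∀ i j : Fin 3, i ≠ j → ∃ k : Fin 3, k ≠ i ∧ k ≠ j ∧
      ((tv i k : U) * tv k j * tv i k * tv k j).val = (tv i j : U).val := by decide +kernel
  have hinv : ∀ i j : Fin 3, (tv i j)⁻¹ = tv i j := by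
    intro i j
    refine inv_eq_of_mul_eq_one_left (Units.ext ?_)
    revert i j; decide +kernel
  have hmem : ∀ m, ∀ i j : Fin 3, i ≠ j → tv i j ∈ derivedSeries U m := by
    intro m
    induction m with
    | zero => intro i j _; exact Subgroup.mem_top _
    | succ m ih =>
      intro i j hij
      obtain ⟨k, hki, hkj, h⟩ := hcomm i j hij
      rw [derivedSeries_succ, ← Units.ext h]
      have h2 := Subgroup.commutator_mem_commutator (ih i k hki.symm) (ih k j hkj)
      rwa [commutatorElement_def, hinv, hinv] at h2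
  have := hn ▸ hmem n 0 1 (by decide)
  rw [Subgroup.mem_bot] at this
  have h01 : (tv 0 1 : U).val ≠ 1 := by decide +kernel
  exact h01 (by rw [this]; rfl)

theorem counts_eq : ∀ m ∈ Nat.divisors 420, ∏ i, (Data.posB i).F m ^ Data.posE i =
    (if m = 0 then Nat.card U else FU m) ^ Fintype.card (Fin 3) *
      ∏ i, (Data.negB i).F m ^ Data.negE i := by
  intro m hm
  rw [if_neg (Nat.pos_of_mem_divisors hm).ne', Fintype.card_fin]
  revert m
  decide +kernel

/-- There are finite groups G and H having the same number of elements of each order (the same order type) with G solvable and H not solvable. -/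
theorem result :
    ∃ (G : Type) (_ : Group G) (_ : Finite G) (H : Type) (_ : Group H) (_ : Finite H),
      Group.IsSolvable G ∧ ¬ Group.IsSolvable H ∧ ∀ n : ℕ, Nat.card {g : G // orderOf g = n} = Nat.card {h : H // orderOf h = n} := by
  refine ⟨Pos, inferInstance, inferInstance, (Fin 3 → U) × Neg, inferInstance, inferInstance,
    ?_, ?_, fun n => ?_⟩
  · exact isSolvable_pi _ fun i => isSolvable_pi _ fun _ => (Data.posB i).isSolvable
  · intro hs
    haveI := hs
    exact not_isSolvable_U (Group.isSolvable_of_surjective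
      (f := (Pi.evalMonoidHom (fun _ : Fin 3 => U) 0).comp (MonoidHom.fst _ Neg))
      (fun u => ⟨(fun _ => u, 1), rfl⟩))
  · refine card_orderOf_congr (L := 420) ?_ ?_ ?_ n
    · exact fun x => funext fun i => funext fun j => pow_block _ (pos_exp i) (x i j)
    · exact fun x => Prod.ext (funext fun i => pow_U (x.1 i))
        (funext fun i => funext fun j => pow_block _ (neg_exp i) (x.2 i j))
    · intro m hm
      rw [card_pos, card_pow_eq_one_prod, card_neg, card_pow_eq_one_pi, Finset.prod_const,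
        card_U m]
      exact counts_eq m (Nat.mem_divisors.mpr ⟨hm, by norm_num⟩)

end Cfsg.Agent.S4376
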