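import Cfsg.Statements.S4377

set_option autoImplicit false
open Cfsg

namespace Cfsg.Agent.S4377

theorem count {K : Type*} [Group K] [Fintype K] (n : ℕ) (hn : 0 < n) :
    Nat.card {g : K // g ^ n = 1} = ∑ d ∈ n.divisors, Nat.card {g : K // orderOf g = d} := by
  classical
  simp only [Nat.card_eq_fintype_card, Fintype.card_subtype]
  rw [Finset.card_eq_sum_card_fiberwise (f := fun g : K => orderOf g) (t := n.divisors)]
  · refine Finset.sum_congr rfl fun d hd => ?_
    congr 1
    ext g
    simp only [Finset.mem_filter, Finset.mem_univ, true_and]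
    constructor
    · exact fun h => h.2
    · intro h
      refine ⟨orderOf_dvd_iff_pow_eq_one.mp ?_, h⟩
      rw [h]; exact (Nat.mem_divisors.mp hd).1
  · intro g hg
    simp only [Finset.coe_filter, Finset.mem_univ, true_and, Set.mem_setOf_eq] at hg
    exact Nat.mem_divisors.mpr ⟨orderOf_dvd_of_pow_eq_one hg, hn.ne'⟩

/-- Two finite groups have the same number of elements of each order if and only if, for every n, they have the same number of elements g with gⁿ = 1. -/
theorem result {G H : Type*} [Group G] [Finite G] [Group H] [Finite H] :
    (∀ n : ℕ, Nat.card {g : G // orderOf g = n} = Nat.card {h : H // orderOf h = n}) ↔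
      ∀ n : ℕ, Nat.card {g : G // g ^ n = 1} = Nat.card {h : H // h ^ n = 1} := by
  classical
  have := Fintype.ofFinite G
  have := Fintype.ofFinite H
  constructor
  · intro h n
    rcases Nat.eq_zero_or_pos n with rfl | hn
    · let N := Fintype.card G * Fintype.card H
      have hN : 0 < N := Nat.mul_pos Fintype.card_pos Fintype.card_pos
      have e1 : ∀ g : G, g ^ 0 = 1 ↔ g ^ N = 1 := fun g => by
        simp [N, pow_mul]
      have e2 : ∀ g : H, g ^ 0 = 1 ↔ g ^ N = 1 := fun g => by
        simp [N, mul_comm (Fintype.card G), pow_mul]
      rw [Nat.card_congr (Equiv.subtypeEquivRight e1), Nat.card_congr (Equiv.subtypeEquivRight e2),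
        count N hN, count N hN]
      exact Finset.sum_congr rfl fun d _ => h d
    · rw [count n hn, count n hn]
      exact Finset.sum_congr rfl fun d _ => h d
  · intro h n
    induction n using Nat.strong_induction_on with
    | _ n ih =>
      rcases Nat.eq_zero_or_pos n with rfl | hn
      · have : IsEmpty {g : G // orderOf g = 0} := ⟨fun g => (orderOf_pos g.1).ne' g.2⟩
        have : IsEmpty {g : H // orderOf g = 0} := ⟨fun g => (orderOf_pos g.1).ne' g.2⟩
        rw [Nat.card_of_isEmpty, Nat.card_of_isEmpty]
      · have h1 := h n
        rw [count n hn, count n hn, ← Nat.cons_self_properDivisors hn.ne', Finset.sum_cons,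
          Finset.sum_cons, Finset.sum_congr rfl (fun d hd => ih d (Nat.mem_properDivisors.mp hd).2)] at h1
        omega

end Cfsg.Agent.S4377
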