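import Cfsg.Statements.S4381
import Cfsg.Agent.Lib.Coprime.Action
import Cfsg.Agent.Lib.PGroups.CoprimeIndecomposable
import Cfsg.Agent.Lib.PGroups.Basic
import Cfsg.Agent.Lib.Base.Frattini

set_option autoImplicit false
open Pointwise
open Cfsg

namespace Cfsg.Agent.S4381

open Subgroup CfsgLib
open scoped Pointwise commutatorElement
set_option linter.style.haveILetI false
set_option linter.unusedSectionVars false

variable {A G : Type*} [Group A] [Finite A] [Group G] [Finite G] [MulDistribMulAction A G]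

/-- An `A`-invariant Sylow subgroup for a coprime action. -/
theorem exists_inv_sylow (q : ℕ) [Fact q.Prime] (hcop : (Nat.card A).Coprime (Nat.card G))
    (hsol : Group.IsSolvable A ∨ Group.IsSolvable G) :
    ∃ P : Subgroup G, (∀ a : A, ∀ x ∈ P, a • x ∈ P) ∧ IsPGroup q P ∧ ¬ q ∣ P.index := by
  let φ : A →* MulAut G := MulDistribMulAction.toMulAut A G
  haveI : Finite (G ⋊[φ] A) := Finite.of_equiv _ SemidirectProduct.equivProd.symm
  let G' : Subgroup (G ⋊[φ] A) := (SemidirectProduct.inl (φ := φ)).range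
  let A' : Subgroup (G ⋊[φ] A) := (SemidirectProduct.inr (φ := φ)).range
  have hG' : Nat.card G' = Nat.card G :=
    (Nat.card_congr (MonoidHom.ofInjective SemidirectProduct.inl_injective).toEquiv).symm
  have hA' : Nat.card A' = Nat.card A :=
    (Nat.card_congr (MonoidHom.ofInjective SemidirectProduct.inr_injective).toEquiv).symm
  haveI : G'.Normal := by
    change (SemidirectProduct.inl (φ := φ)).range.Normal
    rw [SemidirectProduct.range_inl_eq_ker_rightHom]
    infer_instance
  have hn : A' ≤ normalizer (G' : Set (G ⋊[φ] A)) := by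
    rw [normalizer_eq_top]
    exact le_top
  obtain ⟨P, hP⟩ := Coprime.exists_invariant_sylow (p := q) (A := A') (K := G') hn
    (by rw [hA', hG']; exact hcop)
    (hsol.imp
      (fun (h : Group.IsSolvable A) => haveI := h
        Group.isSolvable_of_surjective (MonoidHom.ofInjective (SemidirectProduct.inr_injective (φ := φ))).surjective (f := (MonoidHom.ofInjective (SemidirectProduct.inr_injective (φ := φ))).toMonoidHom))
      (fun (h : Group.IsSolvable G) => haveI := h
        Group.isSolvable_of_surjective (MonoidHom.ofInjective (SemidirectProduct.inl_injective (φ := φ))).surjective (f := (MonoidHom.ofInjective (SemidirectProduct.inl_injective (φ := φ))).toMonoidHom)))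
  set Q : Subgroup (G ⋊[φ] A) := (P : Subgroup G').map G'.subtype with hQ
  refine ⟨Q.comap SemidirectProduct.inl, fun a x hx => ?_, ?_, ?_⟩
  · rw [mem_comap] at hx ⊢
    change SemidirectProduct.inl (φ a x) ∈ Q
    rw [SemidirectProduct.inl_aut, map_inv]
    exact (mem_normalizer_iff.mp (hP ⟨a, rfl⟩) _).mp hx
  · exact (P.isPGroup'.map G'.subtype).comap_of_injective _ SemidirectProduct.inl_injective
  · rw [index_comap]
    change ¬ q ∣ Q.relIndex G'
    have hc : Q.comap G'.subtype = P := comap_map_eq_self_of_injective G'.subtype_injective _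
    rw [relIndex, subgroupOf, hc]
    exact P.not_dvd_index

/-- The frattini subgroup is invariant. -/
theorem smul_mem_frattini (a : A) {x : G} (hx : x ∈ frattini G) : a • x ∈ frattini G := by
  rw [← Base.map_frattini_mulEquiv (MulDistribMulAction.toMulEquiv G a)]
  exact ⟨x, hx, rfl⟩

/-- Invariant subgroups over the Frattini subgroup of a `p`-group have invariant supplements. -/
theorem exists_supplement (hcop : (Nat.card A).Coprime (Nat.card G)) {p : ℕ} [Fact p.Prime]
    (hG : IsPGroup p G) {L : Subgroup G} (hinv : ∀ a : A, ∀ x ∈ L, a • x ∈ L)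
    (hL : frattini G < L) :
    ∃ K : Subgroup G, K ≠ ⊤ ∧ (∀ a : A, ∀ x ∈ K, a • x ∈ K) ∧ L ⊔ K = ⊤ := by
  let ψ : A →* MulAut (G ⧸ frattini G) :=
    { toFun := fun a => QuotientGroup.congr _ _ (MulDistribMulAction.toMulEquiv G a)
        (Base.map_frattini_mulEquiv _)
      map_one' := by
        refine MulEquiv.ext fun v => ?_
        obtain ⟨g, rfl⟩ := QuotientGroup.mk'_surjective (frattini G) v
        exact congrArg (QuotientGroup.mk' (frattini G)) (one_smul A g)
      map_mul' := fun a b => by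
        refine MulEquiv.ext fun v => ?_
        obtain ⟨g, rfl⟩ := QuotientGroup.mk'_surjective (frattini G) v
        exact congrArg (QuotientGroup.mk' (frattini G)) (mul_smul a b g) }
  have hψ : ∀ a g, ψ a (QuotientGroup.mk' (frattini G) g) = QuotientGroup.mk' (frattini G) (a • g) :=
    fun a g => rfl
  letI : CommGroup (G ⧸ frattini G) :=
    { (inferInstance : Group (G ⧸ frattini G)) with
      mul_comm := fun u v => by
        obtain ⟨x, rfl⟩ := QuotientGroup.mk'_surjective (frattini G) u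
        obtain ⟨y, rfl⟩ := QuotientGroup.mk'_surjective (frattini G) v
        rw [← commutatorElement_eq_one_iff_mul_comm, ← map_commutatorElement]
        exact (QuotientGroup.eq_one_iff _).mpr (PGroups.commutator_le_frattini hG
          (commutator_mem_commutator (mem_top x) (mem_top y))) }
  set Lb : Subgroup (G ⧸ frattini G) := L.map (QuotientGroup.mk' (frattini G)) with hLb
  have hexp : ∀ v : G ⧸ frattini G, v ^ p ^ 1 = 1 := fun v => by
    obtain ⟨x, rfl⟩ := QuotientGroup.mk'_surjective (frattini G) v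
    rw [pow_one, ← map_pow]
    exact (QuotientGroup.eq_one_iff _).mpr (PGroups.pow_mem_frattini hG x)
  obtain ⟨π, h1, h2⟩ := PGroups.Indecomposable.exists_retraction (hG.to_quotient _) Lb hexp
    fun v _ => ⟨v, by simp⟩
  have hc : (Nat.card ψ.range).Coprime (Nat.card (G ⧸ frattini G)) :=
    (hcop.coprime_dvd_left (card_range_dvd ψ)).coprime_dvd_right (card_quotient_dvd_card _)
  have hLi : PGroups.Indecomposable.Inv ψ.range Lb := by
    refine PGroups.Indecomposable.inv_of_mem ?_
    rintro _ ⟨a, rfl⟩ _ ⟨x, hx, rfl⟩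
    rw [hψ]
    exact mem_map_of_mem _ (hinv a x hx)
  obtain ⟨D, hDi, -, -, hDL, hDsup⟩ := PGroups.Indecomposable.exists_inv_complement hc
    PGroups.Indecomposable.inv_top hLi PGroups.Indecomposable.inv_bot le_top bot_le π h1 h2
    (fun w hw => by rw [show w = 1 from Subtype.ext (mem_bot.mp hw), map_one])
  refine ⟨D.comap (QuotientGroup.mk' (frattini G)), fun h => ?_, fun a x hx => ?_, ?_⟩
  · obtain ⟨x, hxL, hxF⟩ := SetLike.exists_of_lt hL
    have hx : QuotientGroup.mk' (frattini G) x ∈ D ⊓ Lb :=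
      ⟨mem_comap.mp (h ▸ mem_top x), mem_map_of_mem _ hxL⟩
    rw [hDL, mem_bot] at hx
    exact hxF ((QuotientGroup.eq_one_iff x).mp hx)
  · rw [mem_comap] at hx ⊢
    rw [← hψ]
    exact hDi.mem ⟨a, rfl⟩ hx
  · rw [← comap_map_eq_self (show (QuotientGroup.mk' (frattini G)).ker ≤
        L ⊔ D.comap (QuotientGroup.mk' (frattini G)) from
        (QuotientGroup.ker_mk' _).le.trans (hL.le.trans le_sup_left)), Subgroup.map_sup,
      map_comap_eq_self_of_surjective (QuotientGroup.mk'_surjective _), sup_comm, hDsup, comap_top]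

/-- Let the finite group A act by automorphisms on the finite group G with the orders of A and G coprime, and assume that A or G is solvable. Call a proper A-invariant subgroup of G maximal A-invariant when no A-invariant subgroup lies strictly between it and G. Then all maximal A-invariant subgroups of G are conjugate under elements of the fixed-point subgroup C_G(A) if and only if G is a p-group for some prime p and A leaves invariant no subgroup strictly between the Frattini subgroup of G and G. In that case, if G is nontrivial, the Frattini subgroup is the only maximal A-invariant subgroup (a trivial G has none). -/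
theorem result {A G : Type*} [Group A] [Finite A]
    [Group G] [Finite G] [MulDistribMulAction A G] (hcop : (Nat.card A).Coprime (Nat.card G)) (hsol : Group.IsSolvable A ∨ Group.IsSolvable G) :
    ((∀ M N : Subgroup G, (M ≠ ⊤ ∧ (∀ a : A, ∀ x ∈ M, a • x ∈ M) ∧ ∀ L : Subgroup G, M < L → (∀ a : A, ∀ x ∈ L, a • x ∈ L) → L = ⊤) → (N ≠ ⊤ ∧ (∀ a : A, ∀ x ∈ N, a • x ∈ N) ∧ ∀ L : Subgroup G, N < L → (∀ a : A, ∀ x ∈ L, a • x ∈ L) → L = ⊤) →
        ∃ c : G, (∀ a : A, a • c = c) ∧ N = MulAut.conj c • M) ↔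
      ((∃ p : ℕ, p.Prime ∧ IsPGroup p G) ∧ ∀ L : Subgroup G, frattini G < L → (∀ a : A, ∀ x ∈ L, a • x ∈ L) → L = ⊤)) ∧
    (((∃ p : ℕ, p.Prime ∧ IsPGroup p G) ∧ ∀ L : Subgroup G, frattini G < L → (∀ a : A, ∀ x ∈ L, a • x ∈ L) → L = ⊤) →
      ∀ M : Subgroup G, (M ≠ ⊤ ∧ (∀ a : A, ∀ x ∈ M, a • x ∈ M) ∧ ∀ L : Subgroup G, M < L → (∀ a : A, ∀ x ∈ L, a • x ∈ L) → L = ⊤) ↔ (M = frattini G ∧ M ≠ ⊤)) := by
  classical
  let Inv : Subgroup G → Prop := fun M => ∀ a : A, ∀ x ∈ M, a • x ∈ M
  have hge : ∀ U : Subgroup G, U ≠ ⊤ → Inv U → ∃ M : Subgroup G, U ≤ M ∧ M ≠ ⊤ ∧ Inv M ∧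
      ∀ L : Subgroup G, M < L → Inv L → L = ⊤ := by
    intro U hU hUi
    obtain ⟨M, hUM, ⟨hM1, hM2⟩, hmax⟩ := Set.Finite.exists_le_maximal
      (Set.toFinite {V : Subgroup G | V ≠ ⊤ ∧ Inv V}) (a := U) ⟨hU, hUi⟩
    exact ⟨M, hUM, hM1, hM2, fun L hL hLi => by_contra fun h => hL.not_ge (hmax ⟨h, hLi⟩ hL.le)⟩
  have hsupinv : ∀ U V : Subgroup G, Inv U → Inv V → Inv (U ⊔ V) := by
    intro U V hU hV a x hx
    have hle : U ⊔ V ≤ (U ⊔ V).comap (MulDistribMulAction.toMonoidHom G a) :=
      sup_le (fun y hy => mem_sup_left (hU a y hy)) (fun y hy => mem_sup_right (hV a y hy))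
    exact hle hx
  have hFi : Inv (frattini G) := fun a x hx => smul_mem_frattini a hx
  have third : ((∃ p : ℕ, p.Prime ∧ IsPGroup p G) ∧ ∀ L : Subgroup G, frattini G < L → Inv L → L = ⊤) →
      ∀ M : Subgroup G, (M ≠ ⊤ ∧ Inv M ∧ ∀ L : Subgroup G, M < L → Inv L → L = ⊤) ↔
        (M = frattini G ∧ M ≠ ⊤) := by
    rintro ⟨-, hirr⟩ M
    refine ⟨fun ⟨hM, hMi, hmax⟩ => ⟨?_, hM⟩, ?_⟩
    · have hle : frattini G ≤ M := by
        by_contra h
        exact hM (Base.eq_top_of_sup_frattini
          (hmax _ (left_lt_sup.mpr h) (hsupinv _ _ hMi hFi)))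
      exact (hle.eq_or_lt.resolve_right fun h => hM (hirr M h hMi)).symm
    · rintro ⟨rfl, hM⟩
      exact ⟨hM, hFi, hirr⟩
  refine ⟨⟨fun hconj => ?_, fun h M N hM hN => ⟨1, fun a => smul_one a, ?_⟩⟩, third⟩
  · have hidx : ∀ M N : Subgroup G, (M ≠ ⊤ ∧ Inv M ∧ ∀ L : Subgroup G, M < L → Inv L → L = ⊤) →
        (N ≠ ⊤ ∧ Inv N ∧ ∀ L : Subgroup G, N < L → Inv L → L = ⊤) → M.index = N.index := by
      intro M N hM hN
      obtain ⟨c, -, rfl⟩ := hconj M N hM hN
      exact (index_map_equiv M (MulAut.conj c)).symm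
    have hp : ∃ p : ℕ, p.Prime ∧ IsPGroup p G := by
      by_contra hno
      push Not at hno
      have hbig : ∀ r : ℕ, r.Prime → ∃ M : Subgroup G, ¬ r ∣ M.index ∧
          (M ≠ ⊤ ∧ Inv M ∧ ∀ L : Subgroup G, M < L → Inv L → L = ⊤) := by
        intro r hr
        haveI := Fact.mk hr
        obtain ⟨P, hPi, hPp, hPd⟩ := exists_inv_sylow r hcop hsol
        obtain ⟨M, hPM, hM⟩ := hge P (fun h => hno r hr ((h ▸ hPp).of_equiv topEquiv)) hPi
        exact ⟨M, fun h => hPd (h.trans (index_dvd_of_le hPM)), hM⟩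
      obtain ⟨M, -, hM⟩ := hbig 2 Nat.prime_two
      obtain ⟨r, hr, hrd⟩ := Nat.exists_prime_and_dvd (n := M.index)
        (fun h => hM.1 (index_eq_one.mp h))
      obtain ⟨N, hNr, hN⟩ := hbig r hr
      exact hNr (hidx M N hM hN ▸ hrd)
    refine ⟨hp, fun L hL hLi => by_contra fun hLt => ?_⟩
    obtain ⟨p, hpr, hpG⟩ := hp
    haveI := Fact.mk hpr
    obtain ⟨K, hKt, hKi, hLK⟩ := exists_supplement hcop hpG hLi hL
    obtain ⟨M, hLM, hM⟩ := hge L hLt hLi
    obtain ⟨N, hKN, hN⟩ := hge K hKt hKi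
    obtain ⟨c, -, rfl⟩ := hconj M N hM hN
    haveI : M.Normal := Subgroup.Normal.of_commutator_le G
      ((PGroups.commutator_le_frattini hpG).trans (hL.le.trans hLM))
    rw [Subgroup.Normal.conj_smul_eq_self] at hKN
    exact hM.1 (top_le_iff.mp (hLK ▸ sup_le hLM hKN))
  · rw [(((third h) M).mp hM).1, (((third h) N).mp hN).1, map_one, one_smul]

end Cfsg.Agent.S4381
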