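import Cfsg.Statements.S4387

set_option autoImplicit false
open Pointwise
open Cfsg

namespace Cfsg.Agent.S4387

open scoped Pointwise

/-- Let G be a non-trivial finite group in which any two maximal subgroups are conjugate. Then G is cyclic of prime-power order. -/
theorem result {G : Type*} [Group G] [Finite G] [Nontrivial G]
    (h : ∀ M N : Subgroup G, IsCoatom M → IsCoatom N → ∃ g : G, N = MulAut.conj g • M) :
    IsCyclic G ∧ IsPrimePow (Nat.card G) := by
  have hidx : ∀ M N : Subgroup G, IsCoatom M → IsCoatom N → M.index = N.index := by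
    intro M N hM hN
    obtain ⟨g, rfl⟩ := h M N hM hN
    refine Nat.eq_of_mul_eq_mul_left (Nat.card_pos (α := M)) ?_
    rw [Subgroup.card_mul_index, Nat.card_congr (Subgroup.equivSMul (MulAut.conj g) M).toEquiv,
      Subgroup.card_mul_index]
  obtain ⟨M, hM, -⟩ := (IsCoatomic.eq_top_or_exists_le_coatom (⊥ : Subgroup G)).resolve_left bot_ne_top
  have hi1 : M.index ≠ 1 := fun e => hM.1 (Subgroup.index_eq_one.mp e)
  obtain ⟨q, hq, hqd⟩ := Nat.exists_prime_and_dvd hi1
  have := Fact.mk hq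
  obtain ⟨Q⟩ := Sylow.nonempty (p := q) (G := G)
  have hQ : (Q : Subgroup G) = ⊤ := by
    by_contra hne
    obtain ⟨N, hN, hle⟩ := (IsCoatomic.eq_top_or_exists_le_coatom (Q : Subgroup G)).resolve_left hne
    have h1 : ¬ q ∣ N.index := fun hd => Q.not_dvd_index (hd.trans (Subgroup.index_dvd_of_le hle))
    exact h1 (hidx M N hM hN ▸ hqd)
  have hp : IsPGroup q G := fun x => by
    obtain ⟨k, hk⟩ := Q.isPGroup' ⟨x, hQ ▸ Subgroup.mem_top x⟩
    exact ⟨k, by simpa using congrArg Subtype.val hk⟩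
  have := hp.isNilpotent
  have huniq : ∀ N : Subgroup G, IsCoatom N → N = M := by
    intro N hN
    obtain ⟨g, hg⟩ := h M N hM hN
    have := Subgroup.NormalizerCondition.normal_of_coatom M Group.normalizerCondition_of_isNilpotent hM
    rw [hg, Subgroup.Normal.conj_smul_eq_self]
  obtain ⟨x, hx⟩ : ∃ x, x ∉ M := by
    by_contra hc
    push Not at hc
    exact hM.1 (eq_top_iff.mpr fun y _ => hc y)
  have hx' : Subgroup.zpowers x = ⊤ := by
    by_contra hne
    obtain ⟨N, hN, hle⟩ := (IsCoatomic.eq_top_or_exists_le_coatom (Subgroup.zpowers x)).resolve_left hne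
    exact hx (huniq N hN ▸ hle (Subgroup.mem_zpowers x))
  refine ⟨isCyclic_iff_exists_zpowers_eq_top.mpr ⟨x, hx'⟩, ?_⟩
  obtain ⟨k, hk⟩ := IsPGroup.iff_card.mp hp
  rw [hk]
  refine hq.isPrimePow.pow ?_
  rintro rfl
  rw [pow_zero] at hk
  exact (Finite.one_lt_card (α := G)).ne' hk

end Cfsg.Agent.S4387
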