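import Cfsg.Statements.S4396
import Cfsg.Agent.Lib.FgsC.FreeModule
import Cfsg.Agent.Lib.Base.Cores
import Cfsg.Agent.Lib.Base.Fitting
import Cfsg.Agent.Lib.Perm.Module

set_option autoImplicit false
open Cfsg

namespace Cfsg.Agent.S4396

open scoped Pointwise
open CfsgLib.FgsC.FreeModule

/-- Let the finite group A act faithfully and linearly on a finite-dimensional vector space V over a field k, and suppose A is a Frobenius group with nilpotent kernel F (every Frobenius kernel is nilpotent) and complement H such that F fixes no nonzero vector. Then V is free as a module for H: there is a subspace W with V the direct sum of the translates hW, h ∈ H. (No assumption on the characteristic of k.) -/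
theorem result {k V A : Type*} [Field k] [AddCommGroup V] [Module k V] [FiniteDimensional k V] [Group A] [Finite A] [DecidableEq A]
    (ρ : Representation k A V) (hρ : Function.Injective ρ)
    (Fk Hc : Subgroup A) [Fk.Normal] (hHc : Cfsg.IsFrobeniusComplement Hc) (hker : Cfsg.frobeniusKernel Hc = (Fk : Set A)) (hnil : Group.IsNilpotent ↥Fk)
    (hCF : ∀ v : V, (∀ f ∈ Fk, ρ f v = v) → v = 0) :
    ∃ W : Submodule k V, DirectSum.IsInternal (fun h : ↥Hc => W.map (ρ (h : A))) := by
  classical
  haveI := Fintype.ofFinite ↥Hc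
  haveI := Fact.mk (Nat.prime_two)
  -- the complement acts without fixed points on the kernel
  have hfpf : ∀ h ∈ Hc, h ≠ 1 → ∀ f ∈ Fk, h * f * h⁻¹ = f → f = 1 := by
    intro h hh hh1 f hf he
    have hfk : f ∈ Cfsg.frobeniusKernel Hc := by rw [hker]; exact hf
    rcases hfk with h1 | h1
    · exact h1
    exfalso
    have hfH : f ∉ Hc := fun hin => h1 1 (by rw [map_one, one_smul]; exact hin)
    have hmem : h ∈ Hc ⊓ MulAut.conj f • Hc := by
      refine Subgroup.mem_inf.2 ⟨hh, ?_⟩
      rw [Subgroup.mem_pointwise_smul_iff_inv_smul_mem, ← map_inv,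
        MulAut.smul_def, MulAut.conj_apply, inv_inv, mul_assoc,
        show h * f = f * h from mul_inv_eq_iff_eq_mul.1 he, inv_mul_cancel_left]
      exact hh
    rw [hHc.2.2 f hfH, Subgroup.mem_bot] at hmem
    exact hh1 hmem
  -- the part of the kernel of order prime to the characteristic
  obtain ⟨M, hMn, hMF, hMk, hMfix⟩ : ∃ M : Subgroup A, M.Normal ∧ M ≤ Fk ∧
      (Nat.card M : k) ≠ 0 ∧ ∀ v : V, (∀ m ∈ M, ρ m v = v) → v = 0 := by
    obtain hr | hr := CharP.char_is_prime_or_zero k (ringChar k)
    swap
    · haveI : CharP k 0 := hr ▸ ringChar.charP k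
      haveI : CharZero k := CharP.charP_to_charZero k
      exact ⟨Fk, inferInstance, le_rfl, Nat.cast_ne_zero.2 Nat.card_pos.ne', hCF⟩
    haveI := Fact.mk hr
    haveI : CharP k (ringChar k) := ringChar.charP k
    have hMn : ((Cfsg.pPrimeCore (ringChar k) Fk).map Fk.subtype).Normal :=
      CfsgLib.Base.normal_map_subtype _
    refine ⟨_, hMn, Subgroup.map_subtype_le _, ?_, fun v hv => ?_⟩
    · rw [CfsgLib.Base.card_map_subtype, Ne, CharP.cast_eq_zero_iff k (ringChar k)]
      exact hr.coprime_iff_not_dvd.1 (CfsgLib.Base.pPrimeCore_coprime (ringChar k) Fk).symm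
    · by_contra hv0
      let U : Submodule k V :=
        { carrier := {u | ∀ m ∈ (Cfsg.pPrimeCore (ringChar k) Fk).map Fk.subtype, ρ m u = u}
          add_mem' := fun {a b} ha hb m hm => by rw [map_add, ha m hm, hb m hm]
          zero_mem' := fun m hm => map_zero _
          smul_mem' := fun c u hu m hm => by rw [map_smul, hu m hm] }
      have hU : ∀ g : A, ∀ u ∈ U, ρ g u ∈ U := by
        intro g u hu m hm
        have := hMn.conj_mem m hm g⁻¹
        rw [inv_inv] at this
        rw [← Module.End.mul_apply, ← map_mul, show m * g = g * (g⁻¹ * m * g) by group, map_mul,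
          Module.End.mul_apply, hu _ this]
      obtain ⟨w, hwU, hw0, hw⟩ := CfsgLib.Perm.exists_fixed_vector
        (CfsgLib.Base.isPGroup_pCore (ringChar k) Fk)
        (ρ.comp (Fk.subtype.comp (Cfsg.pCore (ringChar k) Fk).subtype)) U
        (fun g u hu => hU _ u hu) hv hv0
      refine hw0 (hCF w fun f hf => ?_)
      -- `Fk` is generated by its two parts
      let S : Subgroup Fk :=
        { carrier := {g | ρ (g : A) w = w}
          mul_mem' := fun {a b} (ha : ρ (a : A) w = w) (hb : ρ (b : A) w = w) => by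
            show ρ ((a * b : Fk) : A) w = w
            rw [Subgroup.coe_mul, map_mul, Module.End.mul_apply, hb, ha]
          one_mem' := by show ρ ((1 : Fk) : A) w = w; simp
          inv_mem' := fun {a} (ha : ρ (a : A) w = w) => by
            show ρ ((a⁻¹ : Fk) : A) w = w
            conv_lhs => rw [← ha]
            rw [← Module.End.mul_apply, ← map_mul, InvMemClass.coe_inv, inv_mul_cancel, map_one,
              Module.End.one_apply] }
      have htop : (⊤ : Subgroup Fk) ≤ S := by
        rw [← CfsgLib.Base.fittingSubgroup_eq_top_iff.2 hnil,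
          CfsgLib.Base.fittingSubgroup_eq_iSup_pCore]
        refine iSup_le fun q => ?_
        haveI := Fact.mk q.2
        by_cases hq : (q : ℕ) = ringChar k
        · rw [hq]
          exact fun g hg => hw ⟨g, hg⟩
        · obtain ⟨n, hn⟩ := IsPGroup.iff_card.1 (CfsgLib.Base.isPGroup_pCore (q : ℕ) Fk)
          have hle : Cfsg.pCore (q : ℕ) Fk ≤ Cfsg.pPrimeCore (ringChar k) Fk :=
            CfsgLib.Base.le_pPrimeCore (hn ▸ ((Nat.coprime_primes q.2 hr).2 hq).pow_left n)
          exact fun g hg => hwU g (Subgroup.mem_map_of_mem _ (hle hg))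
      exact htop (Subgroup.mem_top ⟨f, hf⟩)
  haveI := hMn
  obtain ⟨W, hi, -, hs⟩ := free_of_nilpotent ρ M Hc (CfsgLib.Base.isNilpotent_of_le hMF hnil)
    hMk (fun h hh h1 z hz => hfpf h hh h1 z (hMF hz)) hMfix
  refine ⟨W, ?_, fun v => ?_⟩
  · rw [injective_iff_map_eq_zero]
    intro x hx
    have hxh : ∀ h : ↥Hc, ρ (h : A) (ρ (h : A)⁻¹ (x h : V)) = x h := fun h => by
      rw [← Module.End.mul_apply, ← map_mul, mul_inv_cancel, map_one, Module.End.one_apply]
    have h0 := hi (fun h => ρ (h : A)⁻¹ (x h : V)) (fun h => by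
      obtain ⟨w, hw, he⟩ := Submodule.mem_map.1 (x h).2
      rw [← he, ← Module.End.mul_apply, ← map_mul, inv_mul_cancel, map_one, Module.End.one_apply]
      exact hw) (by
      simp only [hxh]
      rw [← hx, ← DirectSum.sum_univ_of x, map_sum]
      simp only [DirectSum.coeAddMonoidHom_of, DirectSum.sum_univ_of])
    refine DFinsupp.ext fun h => Subtype.ext ?_
    rw [← hxh h, congrFun h0 h, Pi.zero_apply, map_zero]
    rfl
  · obtain ⟨f, hf, rfl⟩ := hs v trivial
    refine ⟨∑ h, DirectSum.of _ h ⟨ρ (h : A) (f h), Submodule.mem_map_of_mem (hf h)⟩, ?_⟩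
    simp

end Cfsg.Agent.S4396
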