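import Cfsg.Statements.S4398
import Cfsg.Agent.Lib.PGroups.MaximalClassTwo
open scoped commutatorElement

set_option autoImplicit false
open Cfsg

namespace Cfsg.Agent.S4398

/-- Let S be a finite 2-group of sectional 2-rank at most 2 that contains a subgroup isomorphic to the dihedral group of order 8 or to the quaternion group of order 8. Then S is dihedral of order at least 8, semidihedral of order at least 16 (order 2^(k+4) with an element a of order 2^(k+3) and an involution b with b a b⁻¹ = a^(2^(k+2)−1)), or generalized quaternion of order at least 8. -/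
theorem result {S : Type*} [Group S] [Finite S] (h2 : IsPGroup 2 S) (hr : Cfsg.SectionalPRankLE 2 2 S)
    (hsub : ∃ H : Subgroup S, Nonempty (↥H ≃* DihedralGroup 4) ∨ Nonempty (↥H ≃* QuaternionGroup 2)) :
    ((∃ k : ℕ, Nonempty (S ≃* DihedralGroup (2 ^ (k + 2)))) ∨
      (∃ k : ℕ, Nat.card S = 2 ^ (k + 4) ∧ ∃ a b : S, orderOf a = 2 ^ (k + 3) ∧ orderOf b = 2 ∧ b * a * b⁻¹ = a ^ (2 ^ (k + 2) - 1)) ∨
      (∃ k : ℕ, Nonempty (S ≃* QuaternionGroup (2 ^ (k + 1))))) := by
  obtain ⟨B, hiso⟩ := hsub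
  obtain ⟨n, hn⟩ := IsPGroup.iff_card.mp h2
  have hB8 : Nat.card B = 2 ^ 3 ∧ ¬ IsMulCommutative B := by
    rcases hiso with ⟨⟨e⟩⟩ | ⟨⟨e⟩⟩
    · refine ⟨(Nat.card_congr e.toEquiv).trans (by rw [DihedralGroup.nat_card]; norm_num), fun h => ?_⟩
      have h1 := congrArg e (h.is_comm.comm (e.symm (DihedralGroup.r 1)) (e.symm (DihedralGroup.sr 0)))
      simp at h1
      exact absurd h1 (by decide)
    · refine ⟨(Nat.card_congr e.toEquiv).trans (by rw [Nat.card_eq_fintype_card, QuaternionGroup.card]; norm_num), fun h => ?_⟩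
      have h1 := congrArg e (h.is_comm.comm (e.symm (QuaternionGroup.a 1)) (e.symm (QuaternionGroup.xa 0)))
      simp at h1
      exact absurd h1 (by decide)
  obtain ⟨hB, hBna⟩ := hB8
  have hn3 : 3 ≤ n := by
    have := Subgroup.card_subgroup_dvd_card B
    rwa [hB, hn, Nat.pow_dvd_pow_iff_le_right one_lt_two] at this
  refine CfsgLib.PGroups.maximalClass_two_classification hn3 hn
    (CfsgLib.PGroups.maximalClass_of_centralizer_le hn hB hBna ?_)
  -- otherwise some section is elementary abelian of order at least 8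
  by_contra hC
  obtain ⟨x, hx, hxB⟩ := SetLike.not_le_iff_exists.mp hC
  classical
  obtain ⟨e, he⟩ := IsPGroup.iff_orderOf.mp h2 x
  have hex : ∃ k, x ^ 2 ^ k ∈ B := ⟨e, by rw [← he, pow_orderOf_eq_one]; exact one_mem B⟩
  have h0 : Nat.find hex ≠ 0 := fun h0 => hxB (by simpa [h0] using Nat.find_spec hex)
  set c := x ^ 2 ^ (Nat.find hex - 1) with hcdef
  have hcC : c ∈ Subgroup.centralizer (B : Set S) := pow_mem hx _
  have hcB : c ∉ B := Nat.find_min hex (by omega)
  have hc2 : c ^ 2 ∈ B := by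
    rw [hcdef, ← pow_mul, ← pow_succ, Nat.sub_add_cancel (Nat.one_le_iff_ne_zero.mpr h0)]
    exact Nat.find_spec hex
  have hBP : IsPGroup 2 B := h2.to_subgroup B
  let K := B ⊔ Subgroup.zpowers c
  let N : Subgroup K := ((Subgroup.center B).map B.subtype).subgroupOf K
  have hNc : ∀ z ∈ (Subgroup.center B).map B.subtype, ∀ k ∈ K, k * z = z * k := by
    rintro _ ⟨z, hz, rfl⟩ k hk
    have hle : K ≤ Subgroup.centralizer ({(z : S)} : Set S) := by
      refine sup_le (fun b hb => ?_) (Subgroup.zpowers_le.mpr ?_)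
      · exact Subgroup.mem_centralizer_singleton_iff.mpr
          (congrArg Subtype.val (Subgroup.mem_center_iff.mp hz ⟨b, hb⟩))
      · exact Subgroup.mem_centralizer_singleton_iff.mpr (hcC z z.2).symm
    exact Subgroup.mem_centralizer_singleton_iff.mp (hle hk)
  haveI hNn : N.Normal := by
    constructor
    intro z hz g
    have h1 : g * z = z * g := Subtype.ext (hNc z hz g g.2)
    rwa [h1, mul_inv_cancel_right]
  have hmk : ∀ b, ∀ hb : b ∈ B, ∀ hbK : b ∈ K, ((⟨b, hbK⟩ : K) : K ⧸ N) = 1 ↔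
      (⟨b, hb⟩ : B) ∈ Subgroup.center B := by
    intro b hb hbK
    rw [QuotientGroup.eq_one_iff, Subgroup.mem_subgroupOf, Subgroup.mem_map]
    constructor
    · rintro ⟨z, hz, hzb⟩
      have : z = ⟨b, hb⟩ := Subtype.ext hzb
      exact this ▸ hz
    · exact fun h => ⟨_, h, rfl⟩
  -- squares and commutators of B are central in B
  have hΦ : ∀ b : B, b ∈ frattini B → b ∈ Subgroup.center B := by
    have hΦ2 : Nat.card (frattini B) ≤ 2 := by
      have h1 := Subgroup.card_mul_index (frattini B)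
      have h2' := CfsgLib.PGroups.sq_le_index_frattini hBP hBna
      rw [hB] at h1
      nlinarith
    rcases eq_or_ne (frattini B) ⊥ with h | h
    · intro b hb
      rw [h, Subgroup.mem_bot] at hb
      exact hb ▸ one_mem _
    have hi := CfsgLib.PGroups.inf_center_ne_bot hBP h
    have hge := Nat.le_of_dvd Nat.card_pos (CfsgLib.PGroups.dvd_card_of_ne_bot hBP hi)
    intro b hb
    rw [← Subgroup.eq_of_le_of_card_ge (inf_le_left : frattini B ⊓ Subgroup.center B ≤ _)
      (hΦ2.trans hge)] at hb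
    exact hb.2
  let π := QuotientGroup.mk' N
  have hcK : c ∈ K := (le_sup_right : Subgroup.zpowers c ≤ K) (Subgroup.mem_zpowers c)
  have hBK : B ≤ K := le_sup_left
  have hext : ∀ T : Subgroup K, (∀ b : B, (⟨b, hBK b.2⟩ : K) ∈ T) → (⟨c, hcK⟩ : K) ∈ T → T = ⊤ := by
    intro T hB' hc'
    have hle : K ≤ T.map K.subtype :=
      sup_le (fun b hb => ⟨_, hB' ⟨b, hb⟩, rfl⟩) (Subgroup.zpowers_le.mpr ⟨_, hc', rfl⟩)
    rw [eq_top_iff]
    rintro k -
    obtain ⟨k', hk', he⟩ := hle k.2
    rwa [Subtype.ext he] at hk'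
  have hBb : ∀ b b' : B, Commute (π ⟨b, hBK b.2⟩) (π ⟨b', hBK b'.2⟩) := by
    intro b b'
    rw [← commutatorElement_eq_one_iff_commute, ← map_commutatorElement]
    exact (hmk _ ((⁅b, b'⁆).2) _).mpr (hΦ _ (CfsgLib.PGroups.commutator_le_frattini hBP
      (Subgroup.commutator_mem_commutator (Subgroup.mem_top b) (Subgroup.mem_top b'))))
  have hBc : ∀ b : B, Commute (π ⟨c, hcK⟩) (π ⟨b, hBK b.2⟩) := fun b =>
    (show Commute (⟨c, hcK⟩ : K) ⟨b, hBK b.2⟩ from Subtype.ext (hcC b b.2).symm).map π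
  have hcomm : ∀ q q' : K ⧸ N, q * q' = q' * q := by
    have htop : (Subgroup.center (K ⧸ N)).comap π = ⊤ := by
      have key : ∀ k : K, (∀ b : B, Commute (π k) (π ⟨b, hBK b.2⟩)) → Commute (π k) (π ⟨c, hcK⟩) →
          k ∈ (Subgroup.center (K ⧸ N)).comap π := by
        intro k h1 h2'
        rw [Subgroup.mem_comap, Subgroup.mem_center_iff]
        intro q
        obtain ⟨g, rfl⟩ := QuotientGroup.mk_surjective q
        have := hext ((Subgroup.centralizer ({π k} : Set (K ⧸ N))).comap π)
          (fun b => Subgroup.mem_centralizer_singleton_iff.mpr (h1 b).symm.eq)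
          (Subgroup.mem_centralizer_singleton_iff.mpr h2'.symm.eq)
        have hg : g ∈ (Subgroup.centralizer ({π k} : Set (K ⧸ N))).comap π := this ▸ Subgroup.mem_top g
        exact Subgroup.mem_centralizer_singleton_iff.mp hg
      exact hext _ (fun b => key _ (fun b' => hBb b b') (hBc b).symm)
        (key _ hBc (Commute.refl _))
    intro q q'
    obtain ⟨g, rfl⟩ := QuotientGroup.mk_surjective q
    have hg : g ∈ (Subgroup.center (K ⧸ N)).comap π := htop ▸ Subgroup.mem_top g
    exact (Subgroup.mem_center_iff.mp hg q').symm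
  have hsq : ∀ q : K ⧸ N, q ^ 2 = 1 := by
    let f : K →* K ⧸ N :=
      { toFun := fun k => π k ^ 2
        map_one' := by simp
        map_mul' := fun a b => by
          rw [map_mul]; exact Commute.mul_pow (hcomm _ _) 2 }
    have hker : f.ker = ⊤ := by
      refine hext _ (fun b => ?_) ?_
      · show π ⟨b, hBK b.2⟩ ^ 2 = 1
        rw [← map_pow]
        exact (hmk _ (pow_mem b.2 2) _).mpr (hΦ _ (CfsgLib.PGroups.pow_mem_frattini hBP b))
      · show π ⟨c, hcK⟩ ^ 2 = 1
        rw [← map_pow]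
        refine (hmk _ hc2 _).mpr (Subgroup.mem_center_iff.mpr fun b => Subtype.ext ?_)
        exact (pow_mem hcC 2) b b.2
    intro q
    obtain ⟨g, rfl⟩ := QuotientGroup.mk_surjective q
    have hg : g ∈ f.ker := hker ▸ Subgroup.mem_top g
    exact hg
  have hle := hr K N (⊤ : Subgroup (K ⧸ N)) ⟨⟨fun a b => Subtype.ext (hcomm a b)⟩⟩
    (fun a _ => hsq a)
  rw [Subgroup.card_top] at hle
  have h5 : Nat.card (Option (B ⧸ Subgroup.center B)) ≤ Nat.card (K ⧸ N) := by
    refine Nat.card_le_card_of_injective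
      (fun o => o.elim (π ⟨c, hcK⟩) fun q => π ⟨(q.out : B), hBK q.out.2⟩) ?_
    have hcne : ∀ b : B, π ⟨c, hcK⟩ ≠ π ⟨b, hBK b.2⟩ := by
      intro b h
      have h' := QuotientGroup.eq.mp h.symm
      rw [Subgroup.mem_subgroupOf, Subgroup.mem_map] at h'
      obtain ⟨z, -, hz⟩ := h'
      refine hcB ?_
      have hz' : (z : S) = (b : S)⁻¹ * c := hz
      have := mul_mem b.2 z.2
      rwa [hz', mul_inv_cancel_left] at this
    rintro (_ | q) (_ | q') h <;> simp only [Option.elim] at h
    · rfl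
    · exact absurd h (hcne _)
    · exact absurd h.symm (hcne _)
    · refine congrArg some ?_
      rw [← QuotientGroup.out_eq' q, ← QuotientGroup.out_eq' q', QuotientGroup.eq]
      have h' := QuotientGroup.eq.mp h
      rw [Subgroup.mem_subgroupOf, Subgroup.mem_map] at h'
      obtain ⟨z, hz, hze⟩ := h'
      have : z = q.out⁻¹ * q'.out := Subtype.ext hze
      exact this ▸ hz
  rw [Finite.card_option, ← Subgroup.index] at h5
  have := CfsgLib.PGroups.sq_le_index_center hBP hBna
  omega

end Cfsg.Agent.S4398
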