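import Cfsg.Statements.S4400
import Cfsg.Agent.Lib.PGroups.MaximalClass
import Cfsg.Agent.Lib.Base.Transport

set_option autoImplicit false
open Cfsg Subgroup
open scoped commutatorElement

namespace Cfsg.Agent.S4400

variable {S : Type*} [Group S] [Finite S]

/-- A normal subgroup meeting `P` nontrivially contains the centre of order two of `P`. -/
theorem center_map_le (h2 : IsPGroup 2 S) (P N : Subgroup S) [P.Normal] [N.Normal]
    (hZ : Nat.card ↥(center ↥P) = 2) (hne : N ⊓ P ≠ ⊥) : (center ↥P).map P.subtype ≤ N := by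
  haveI : Fact (Nat.Prime 2) := ⟨Nat.prime_two⟩
  have hN : N.subgroupOf P ≠ ⊥ := fun h => hne (by
    rw [← subgroupOf_map_subtype, h, Subgroup.map_bot])
  have h := CfsgLib.PGroups.inf_center_ne_bot (h2.to_subgroup P) hN
  have hle : center ↥P ≤ N.subgroupOf P := by
    refine le_trans (b := N.subgroupOf P ⊓ center ↥P) (le_of_eq ?_) inf_le_left
    refine (eq_of_le_of_card_ge inf_le_right ?_).symm
    rw [hZ]
    exact (one_lt_card_iff_ne_bot _).mpr h
  exact (map_mono hle).trans (by rw [subgroupOf_map_subtype]; exact inf_le_left)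

/-- The Frattini subgroup of a nonabelian `2`-subgroup has index at least four. -/
theorem four_le_index_frattini (h2 : IsPGroup 2 S) (P : Subgroup S) (hP : ¬ IsMulCommutative ↥P) :
    4 ≤ (frattini ↥P).index := by
  haveI : Fact (Nat.Prime 2) := ⟨Nat.prime_two⟩
  exact CfsgLib.PGroups.sq_le_index_frattini (h2.to_subgroup P) hP

/-- Let S be a finite 2-group of sectional 2-rank at most 4, and let P and Q be normal non-abelian subgroups of S whose centres have order 2 and are different. Then P and Q commute elementwise and intersect trivially, and PQ contains its own centralizer in S. -/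
theorem result {S : Type*} [Group S] [Finite S] (h2 : IsPGroup 2 S) (hr : Cfsg.SectionalPRankLE 2 4 S)
    (P Q : Subgroup S) [P.Normal] [Q.Normal] (hP : ¬ IsMulCommutative ↥P) (hQ : ¬ IsMulCommutative ↥Q)
    (hZP : Nat.card ↥(Subgroup.center ↥P) = 2) (hZQ : Nat.card ↥(Subgroup.center ↥Q) = 2)
    (hne : (Subgroup.center ↥P).map P.subtype ≠ (Subgroup.center ↥Q).map Q.subtype) :
    ⁅P, Q⁆ = ⊥ ∧ P ⊓ Q = ⊥ ∧ Subgroup.centralizer ((P ⊔ Q : Subgroup S) : Set S) ≤ P ⊔ Q := by
  haveI : Fact (Nat.Prime 2) := ⟨Nat.prime_two⟩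
  set zP := (center ↥P).map P.subtype with hzP
  set zQ := (center ↥Q).map Q.subtype with hzQ
  have hcen : ∀ (R : Subgroup S) [R.Normal], Nat.card ↥(center ↥R) = 2 →
      (center ↥R).map R.subtype ≤ center S := by
    intro R _ hR z hz
    refine mem_center_iff.mpr fun g => ?_
    have hmem : g * z * g⁻¹ ∈ (center ↥R).map R.subtype := by
      obtain ⟨w, hw, rfl⟩ := hz
      refine ⟨⟨g * w * g⁻¹, Normal.conj_mem inferInstance _ w.2 g⟩, mem_center_iff.mpr fun v => ?_, rfl⟩
      apply Subtype.ext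
      have hv : g⁻¹ * v * g ∈ R := by simpa using Normal.conj_mem inferInstance _ v.2 g⁻¹
      have h1 : g⁻¹ * v * g * w = w * (g⁻¹ * v * g) :=
        congrArg Subtype.val (mem_center_iff.mp hw ⟨_, hv⟩)
      show (v : S) * (g * w * g⁻¹) = g * w * g⁻¹ * v
      calc (v : S) * (g * w * g⁻¹) = g * (g⁻¹ * v * g * w) * g⁻¹ := by group
        _ = g * ((w : S) * (g⁻¹ * v * g)) * g⁻¹ := by rw [h1]
        _ = _ := by group
    rcases eq_or_ne z 1 with rfl | hz1
    · simp
    · haveI := Fintype.ofFinite ↥((center ↥R).map R.subtype)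
      have hc2 : Nat.card ↥((center ↥R).map R.subtype) = 2 := by
        rw [card_map_of_injective R.subtype_injective, hR]
      obtain ⟨a, b, hab, huniv⟩ := Nat.card_eq_two_iff.mp hc2
      have h3 : ∀ x : ↥((center ↥R).map R.subtype), x = 1 ∨ x = ⟨z, hz⟩ := fun x => by
        have e1 : ⟨z, hz⟩ ≠ (1 : ↥((center ↥R).map R.subtype)) := fun h =>
          hz1 (congrArg Subtype.val h)
        have hx := huniv.ge (Set.mem_univ x)
        have hy := huniv.ge (Set.mem_univ (1 : ↥((center ↥R).map R.subtype)))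
        have hw := huniv.ge (Set.mem_univ (⟨z, hz⟩ : ↥((center ↥R).map R.subtype)))
        simp only [Set.mem_insert_iff, Set.mem_singleton_iff] at hx hy hw
        rcases hx with h | h <;> rcases hy with h' | h' <;> rcases hw with h'' | h'' <;>
          simp_all
      rcases h3 ⟨_, hmem⟩ with h | h
      · exfalso
        apply hz1
        have h4 : g * z * g⁻¹ = 1 := congrArg Subtype.val h
        simpa using h4
      · exact mul_inv_eq_iff_eq_mul.mp (congrArg Subtype.val h)
  have hinf : P ⊓ Q = ⊥ := by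
    by_contra hb
    have h1 : zP ≤ Q := center_map_le h2 P Q hZP (by rwa [inf_comm])
    have h3 : zP ≤ zQ := fun z hz => ⟨⟨z, h1 hz⟩, mem_center_iff.mpr fun v =>
      Subtype.ext (mem_center_iff.mp (hcen P hZP hz) v), rfl⟩
    refine hne (eq_of_le_of_card_ge h3 ?_)
    rw [card_map_of_injective Q.subtype_injective, card_map_of_injective P.subtype_injective,
      hZP, hZQ]
  have hcomm : ⁅P, Q⁆ = ⊥ := le_bot_iff.mp (hinf ▸ commutator_le_inf P Q)
  refine ⟨hcomm, hinf, ?_⟩
  by_contra hnot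
  obtain ⟨c₀, hc₀, hc₀'⟩ := SetLike.not_le_iff_exists.mp hnot
  obtain ⟨c, hc, hcPQ, hcsq⟩ : ∃ c, c ∈ centralizer ((P ⊔ Q : Subgroup S) : Set S) ∧ c ∉ P ⊔ Q ∧
      c ^ 2 ∈ P ⊔ Q := by
    classical
    obtain ⟨k, hk⟩ := h2 c₀
    have hex : ∃ j, c₀ ^ 2 ^ j ∈ P ⊔ Q := ⟨k, hk ▸ one_mem _⟩
    have hj0 : Nat.find hex ≠ 0 := fun h => hc₀' (by simpa [h] using Nat.find_spec hex)
    obtain ⟨j, hj⟩ := Nat.exists_eq_add_one_of_ne_zero hj0
    refine ⟨c₀ ^ 2 ^ j, pow_mem hc₀ _, Nat.find_min hex (by omega), ?_⟩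
    rw [← pow_mul, ← pow_succ, ← hj]
    exact Nat.find_spec hex
  set FP := (frattini ↥P).map P.subtype with hFP
  set FQ := (frattini ↥Q).map Q.subtype with hFQ
  haveI : FP.Normal := ConjAct.normal_of_characteristic_of_normal
  haveI : FQ.Normal := ConjAct.normal_of_characteristic_of_normal
  set π := QuotientGroup.mk' (FP ⊔ FQ) with hπ
  have hker : ∀ x ∈ FP ⊔ FQ, π x = 1 := fun x hx => (QuotientGroup.eq_one_iff x).mpr hx
  have hsub : ∀ (R : Subgroup S) (F : Subgroup S), F = (frattini ↥R).map R.subtype → F ≤ FP ⊔ FQ →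
      ∀ a ∈ R, ∀ b ∈ R, Commute (π a) (π b) ∧ π a ^ 2 = 1 := by
    intro R F hF hle a ha b hb
    constructor
    · refine commutatorElement_eq_one_iff_mul_comm.mp ?_
      rw [← map_commutatorElement]
      refine hker _ (hle (hF ▸ ⟨⁅(⟨a, ha⟩ : R), ⟨b, hb⟩⁆, ?_, rfl⟩))
      exact CfsgLib.PGroups.commutator_le_frattini (h2.to_subgroup R)
        (commutator_mem_commutator (mem_top _) (mem_top _))
    · rw [← map_pow]
      exact hker _ (hle (hF ▸ ⟨(⟨a, ha⟩ : R) ^ 2,
        CfsgLib.PGroups.pow_mem_frattini (h2.to_subgroup R) _, rfl⟩))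
  have hzle : ∀ (R : Subgroup S) [R.Normal], ¬ IsMulCommutative ↥R → Nat.card ↥(center ↥R) = 2 →
      (center ↥R).map R.subtype ≤ (frattini ↥R).map R.subtype := by
    intro R _ hR hZ
    refine map_mono ?_
    have hne' : commutator ↥R ≠ ⊥ := fun hb => hR ⟨⟨fun a b => by
      have h5 := commutator_mem_commutator (mem_top a) (mem_top b)
      rw [← _root_.commutator_def, hb, mem_bot] at h5
      exact commutatorElement_eq_one_iff_mul_comm.mp h5⟩⟩
    have h := CfsgLib.PGroups.inf_center_ne_bot (h2.to_subgroup R) hne'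
    refine le_trans (b := commutator ↥R ⊓ center ↥R) (le_of_eq ?_)
      (inf_le_left.trans (CfsgLib.PGroups.commutator_le_frattini (h2.to_subgroup R)))
    refine (eq_of_le_of_card_ge inf_le_right ?_).symm
    rw [hZ]
    exact (one_lt_card_iff_ne_bot _).mpr h
  have hcc : ∀ a ∈ P ⊔ Q, Commute a c := fun a ha => mem_centralizer_iff.mp hc a ha
  have hPQc : ∀ a ∈ P, ∀ b ∈ Q, Commute a b := fun a ha b hb =>
    commutatorElement_eq_one_iff_mul_comm.mp (mem_bot.mp (hcomm ▸ commutator_mem_commutator ha hb))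
  have hc2 : π c ^ 2 = 1 := by
    rw [← map_pow]
    obtain ⟨a, ha, b, hb, hab⟩ := mem_sup_of_normal_left.mp hcsq
    rw [← hab]
    refine hker _ (mul_mem (mem_sup_left (hzle P hP hZP ?_)) (mem_sup_right (hzle Q hQ hZQ ?_)))
    · refine ⟨⟨a, ha⟩, mem_center_iff.mpr fun v => Subtype.ext ?_, rfl⟩
      have h5 := ((hcc v (mem_sup_left v.2)).pow_right 2).eq
      rw [← hab, ← mul_assoc, mul_assoc a b, ← (hPQc v v.2 b hb).eq, ← mul_assoc] at h5
      exact mul_right_cancel h5
    · refine ⟨⟨b, hb⟩, mem_center_iff.mpr fun v => Subtype.ext ?_, rfl⟩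
      have h5 := ((hcc v (mem_sup_right v.2)).pow_right 2).eq
      rw [← hab, ← mul_assoc, ← (hPQc a ha v v.2).eq, mul_assoc, mul_assoc] at h5
      exact mul_left_cancel h5
  set H := P ⊔ Q ⊔ zpowers c with hH
  have hgen : ∀ g ∈ H, ∃ a ∈ P, ∃ b ∈ Q, ∃ i : ℤ, g = a * b * c ^ i := by
    intro g hg
    obtain ⟨y, hy, z, ⟨i, rfl⟩, rfl⟩ := mem_sup_of_normal_left.mp hg
    obtain ⟨a, ha, b, hb, rfl⟩ := mem_sup_of_normal_left.mp hy
    exact ⟨a, ha, b, hb, i, rfl⟩
  have key := hr H ((FP ⊔ FQ).subgroupOf H) ⊤ ?_ ?_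
  · rw [card_top, ← index_eq_card] at key
    have h6 : Nat.card H = Nat.card ↥((FP ⊔ FQ).subgroupOf H) * ((FP ⊔ FQ).subgroupOf H).index :=
      (card_mul_index _).symm
    have hFle : FP ⊔ FQ ≤ H := (sup_le_sup (map_subtype_le _) (map_subtype_le _)).trans le_sup_left
    rw [Nat.card_congr (subgroupOfEquivOfLe hFle).toEquiv] at h6
    have h7 : Nat.card ↥(FP ⊔ FQ) ≤ Nat.card (frattini ↥P) * Nat.card (frattini ↥Q) := by
      rw [← card_map_of_injective P.subtype_injective, ← card_map_of_injective Q.subtype_injective]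
      exact Nat.le_of_dvd (Nat.mul_pos Nat.card_pos Nat.card_pos) (CfsgLib.Base.card_sup_dvd FP FQ)
    have h8 : 2 * (Nat.card P * Nat.card Q) ≤ Nat.card H := by
      have hlt : P ⊔ Q < H := lt_of_le_of_ne le_sup_left fun he =>
        hcPQ (he.ge (mem_sup_right (mem_zpowers c)))
      have hd := card_dvd_of_le hlt.le
      obtain ⟨m, hm⟩ := hd
      have hm2 : 2 ≤ m := by
        rcases Nat.lt_or_ge m 2 with h | h
        · exfalso
          interval_cases m
          · exact Nat.card_pos.ne' (by rwa [mul_zero] at hm)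
          · exact hlt.ne (eq_of_le_of_card_ge hlt.le (by rw [hm, mul_one]))
        · exact h
      rw [hm, CfsgLib.Base.card_sup_of_disjoint P Q hinf, mul_comm 2]
      exact Nat.mul_le_mul le_rfl hm2
    have hP4 := four_le_index_frattini h2 P hP
    have hQ4 := four_le_index_frattini h2 Q hQ
    have hfp := card_mul_index (frattini ↥P)
    have hfq := card_mul_index (frattini ↥Q)
    have hpos : 0 < Nat.card (frattini ↥P) * Nat.card (frattini ↥Q) :=
      Nat.mul_pos Nat.card_pos Nat.card_pos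
    have h9 : 32 * (Nat.card (frattini ↥P) * Nat.card (frattini ↥Q)) ≤ Nat.card H := by
      refine le_trans ?_ h8
      rw [← hfp, ← hfq]
      calc 32 * (Nat.card (frattini ↥P) * Nat.card (frattini ↥Q))
          = 2 * ((Nat.card (frattini ↥P) * 4) * (Nat.card (frattini ↥Q) * 4)) := by ring
        _ ≤ _ := Nat.mul_le_mul le_rfl (Nat.mul_le_mul (Nat.mul_le_mul le_rfl hP4)
            (Nat.mul_le_mul le_rfl hQ4))
    have h10 := h9.trans (h6.le.trans (Nat.mul_le_mul h7 key))
    norm_num at h10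
    nlinarith
  · have hcomm' : ∀ g ∈ H, ∀ g' ∈ H, Commute (π g) (π g') := by
      intro g hg g' hg'
      obtain ⟨a, ha, b, hb, i, rfl⟩ := hgen g hg
      obtain ⟨a', ha', b', hb', i', rfl⟩ := hgen g' hg'
      have e1 : ∀ x ∈ P ⊔ Q, ∀ j : ℤ, Commute (π x) (π (c ^ j)) := fun x hx j =>
        ((hcc x hx).zpow_right j).map π
      have e2 : ∀ x ∈ P, ∀ y ∈ Q, Commute (π x) (π y) := fun x hx y hy => (hPQc x hx y hy).map π
      simp only [map_mul]
      refine Commute.mul_left (Commute.mul_left ?_ ?_) ?_ <;>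
        refine Commute.mul_right (Commute.mul_right ?_ ?_) ?_
      · exact (hsub P FP hFP le_sup_left a ha a' ha').1
      · exact e2 a ha b' hb'
      · exact e1 a (mem_sup_left ha) i'
      · exact (e2 a' ha' b hb).symm
      · exact (hsub Q FQ hFQ le_sup_right b hb b' hb').1
      · exact e1 b (mem_sup_right hb) i'
      · exact (e1 a' (mem_sup_left ha') i).symm
      · exact (e1 b' (mem_sup_right hb') i).symm
      · exact ((Commute.refl c).zpow_zpow i i').map π
    refine ⟨⟨?_⟩⟩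
    rintro ⟨x, -⟩ ⟨y, -⟩
    obtain ⟨⟨g, hg⟩, rfl⟩ := QuotientGroup.mk_surjective x
    obtain ⟨⟨g', hg'⟩, rfl⟩ := QuotientGroup.mk_surjective y
    refine Subtype.ext (commutatorElement_eq_one_iff_mul_comm.mp ?_)
    show ⁅(QuotientGroup.mk' ((FP ⊔ FQ).subgroupOf H)) ⟨g, hg⟩,
      (QuotientGroup.mk' ((FP ⊔ FQ).subgroupOf H)) ⟨g', hg'⟩⁆ = 1
    rw [← map_commutatorElement]
    refine (QuotientGroup.eq_one_iff _).mpr ((QuotientGroup.eq_one_iff (N := FP ⊔ FQ) _).mp ?_)
    show π ⁅g, g'⁆ = 1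
    rw [map_commutatorElement]
    exact commutatorElement_eq_one_iff_mul_comm.mpr (hcomm' g hg g' hg').eq
  · intro x _
    obtain ⟨⟨g, hg⟩, rfl⟩ := QuotientGroup.mk_surjective x
    rw [← QuotientGroup.mk_pow]
    refine (QuotientGroup.eq_one_iff _).mpr ((QuotientGroup.eq_one_iff (N := FP ⊔ FQ) _).mp ?_)
    show π (g ^ 2) = 1
    obtain ⟨a, ha, b, hb, i, rfl⟩ := hgen g hg
    rw [map_pow, map_mul, map_mul, map_zpow]
    have e1 : Commute (π a * π b) (π c ^ i) :=
      (((hcc a (mem_sup_left ha)).map π).mul_left ((hcc b (mem_sup_right hb)).map π)).zpow_right i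
    rw [e1.mul_pow, ((hPQc a ha b hb).map π).mul_pow, (hsub P FP hFP le_sup_left a ha a ha).2,
      (hsub Q FQ hFQ le_sup_right b hb b hb).2, one_mul, one_mul, ← zpow_natCast, ← zpow_mul,
      mul_comm, zpow_mul, zpow_natCast, hc2, one_zpow]

end Cfsg.Agent.S4400
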