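import Cfsg.Statements.S4403
import Cfsg.Agent.Lib.Transfer.CentralTransfer
import Cfsg.Agent.Lib.Transfer.NormalPComplement
import Cfsg.Agent.Lib.LocalEven.IsoRankTwo
import Cfsg.Agent.Lib.Components.PComponents
import Cfsg.Agent.Lib.Base.MinimalNormal

set_option autoImplicit false
open Cfsg

namespace Cfsg.Agent.S4403

open Subgroup CfsgLib Cfsg
open scoped commutatorElement
set_option linter.style.haveILetI false

/-- An automorphism of order prime to `p` of a cyclic `p`-group fixing a nontrivial element is
trivial. -/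
theorem eq_one_of_fixed_cyclic {p : ℕ} [hp : Fact p.Prime] {C : Type*} [Group C] [Finite C]
    [IsCyclic C] (hC : IsPGroup p C) {f : MulAut C} (hf : (orderOf f).Coprime p) {x : C}
    (hx : x ≠ 1) (hfx : f x = x) : f = 1 := by
  obtain ⟨g, hg⟩ := IsCyclic.exists_generator (α := C)
  obtain ⟨a, ha⟩ := mem_zpowers_iff.mp (hg (f g))
  have hy : ∀ y : C, f y = y ^ a := by
    intro y
    obtain ⟨i, rfl⟩ := mem_zpowers_iff.mp (hg y)
    rw [map_zpow, ← ha, ← zpow_mul, ← zpow_mul, mul_comm]
  have hpow : ∀ (k : ℕ) (y : C), (f ^ k) y = y ^ (a ^ k) := by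
    intro k
    induction k with
    | zero => intro y; simp
    | succ k ih =>
      intro y
      rw [pow_succ, MulAut.mul_apply, ih, hy, ← zpow_mul, ← pow_succ']
  have ha1 : (p : ℤ) ∣ a - 1 := by
    obtain ⟨j, hj⟩ := (IsPGroup.iff_orderOf.mp hC) x
    have h1 : x ^ (a - 1) = 1 := by rw [zpow_sub_one, ← hy, hfx, mul_inv_cancel]
    have h2 := orderOf_dvd_iff_zpow_eq_one.mpr h1
    rw [hj] at h2
    rcases j with _ | j
    · rw [pow_zero, orderOf_eq_one_iff] at hj
      exact absurd hj hx
    · exact dvd_trans (by exact_mod_cast dvd_pow_self p (Nat.succ_ne_zero j)) h2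
  obtain ⟨n, hn⟩ := IsPGroup.iff_card.mp hC
  have hd : ((Nat.card C : ℕ) : ℤ) ∣ a ^ p ^ n - 1 := by
    have h := dvd_sub_pow_of_dvd_sub (R := ℤ) (p := p) ha1 n
    rw [one_pow] at h
    rw [hn]
    push_cast
    exact (pow_dvd_pow _ (Nat.le_succ n)).trans h
  have hone : f ^ p ^ n = 1 := by
    refine MulEquiv.ext fun y => ?_
    rw [hpow, MulAut.one_apply]
    obtain ⟨c, hc⟩ := hd
    rw [show a ^ p ^ n = (Nat.card C : ℤ) * c + 1 by rw [← hc]; ring, zpow_add_one, zpow_mul,
      zpow_natCast, pow_card_eq_one', one_zpow, one_mul]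
  have hord : orderOf f ∣ p ^ n := orderOf_dvd_of_pow_eq_one hone
  exact orderOf_eq_one_iff.mp (Nat.Coprime.eq_one_of_dvd (hf.pow_right n) hord)

/-- In a finite cyclic group, two subgroups generated by elements of the same prime order agree. -/
theorem mem_zpowers_of_orderOf_eq {p : ℕ} [hp : Fact p.Prime] {C : Type*} [Group C] [Finite C]
    [IsCyclic C] {u v : C} (hu : orderOf u = p) (hv : orderOf v = p) : v ∈ zpowers u := by
  letI : CommGroup C := IsCyclic.commGroup
  have hle : zpowers u ≤ (powMonoidHom p : C →* C).ker := by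
    rw [zpowers_le, MonoidHom.mem_ker, powMonoidHom_apply]
    exact hu ▸ pow_orderOf_eq_one u
  have heq : zpowers u = (powMonoidHom p : C →* C).ker := by
    refine eq_of_le_of_card_ge hle ?_
    rw [IsCyclic.card_powMonoidHom_ker, Nat.card_zpowers, hu]
    exact Nat.le_of_dvd hp.out.pos (Nat.gcd_dvd_right _ _)
  rw [heq, MonoidHom.mem_ker, powMonoidHom_apply]
  exact hv ▸ pow_orderOf_eq_one v

/-- An element of order `p` of a cyclic Sylow subgroup lying in a component is not centralised by
that component. -/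
theorem not_mem_centralizer_component {K : Type*} [Group K] [Finite K] {p : ℕ} [hp : Fact p.Prime]
    (P : Sylow p K) [IsCyclic ↥(P : Subgroup K)] {L : Subgroup K} (hL : IsComponent L) {u : K}
    (huP : u ∈ (P : Subgroup K)) (huL : u ∈ L) (hu : orderOf u = p) :
    u ∉ centralizer (L : Set K) := by
  intro huc
  haveI hperf := hL.2.1
  let H : Subgroup ↥L := (P : Subgroup K).subgroupOf L
  have hc : IsMulCommutative H := by
    refine ⟨⟨fun a b => ?_⟩⟩
    have hab := IsMulCommutative.is_comm.comm (⟨((a : L) : K), a.2⟩ : ↥(P : Subgroup K))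
      ⟨((b : L) : K), b.2⟩
    exact Subtype.ext (Subtype.ext (congrArg Subtype.val hab :))
  have hcop : Nat.Coprime (Nat.card H) H.index := by
    have hH : IsPGroup p H := P.isPGroup'.comap_of_injective L.subtype L.subtype_injective
    obtain ⟨k, hk⟩ := IsPGroup.iff_card.mp hH
    rw [hk]
    exact Nat.Coprime.pow_left k (hp.out.coprime_iff_not_dvd.mpr
      (Components.not_dvd_relIndex_of_isSubnormal P hL.1))
  have hbot := Transfer.inf_commutator_inf_center_eq_bot H hc hcop
  have hmem : (⟨u, huL⟩ : ↥L) ∈ H ⊓ _root_.commutator ↥L ⊓ center ↥L := by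
    refine ⟨⟨huP, ?_⟩, mem_center_iff.mpr fun y => Subtype.ext (mem_centralizer_iff.mp huc y y.2)⟩
    rw [Group.IsPerfect.commutator_eq_top]
    exact mem_top _
  rw [hbot, mem_bot] at hmem
  rw [show u = 1 from congrArg Subtype.val hmem, orderOf_one] at hu
  exact hp.out.ne_one hu.symm

/-- The normal case: `K ⧸ P` is cyclic of order dividing `p - 1`. -/
theorem quotient_cyclic {K : Type*} [Group K] [Finite K] {p : ℕ} [hp : Fact p.Prime]
    (P : Sylow p K) [hPc : IsCyclic ↥(P : Subgroup K)] [hN : (P : Subgroup K).Normal]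
    (hC : centralizer ((P : Subgroup K) : Set K) = (P : Subgroup K)) (hne : p ∣ Nat.card K) :
    IsCyclic (K ⧸ (P : Subgroup K)) ∧ (P : Subgroup K).index ∣ p - 1 := by
  obtain ⟨n, hn⟩ := IsPGroup.iff_card.mp P.isPGroup'
  have hn0 : n ≠ 0 := by
    rintro rfl
    exact P.not_dvd_index (by rwa [← (P : Subgroup K).card_mul_index, hn, pow_zero, one_mul] at hne)
  let φ : K →* MulAut ↥(P : Subgroup K) := MulAut.conjNormal
  have hker : φ.ker = (P : Subgroup K) := by
    refine Eq.trans ?_ hC
    ext g
    rw [MonoidHom.mem_ker, mem_centralizer_iff]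
    refine ⟨fun h x hx => ?_, fun h => MulEquiv.ext fun x => Subtype.ext ?_⟩
    · have h1 := congrArg (fun e : MulAut ↥(P : Subgroup K) => ((e ⟨x, hx⟩ : ↥(P : Subgroup K)) : K)) h
      simp only [φ, MulAut.conjNormal_apply, MulAut.one_apply] at h1
      exact (mul_inv_eq_iff_eq_mul.mp h1).symm
    · rw [MulAut.conjNormal_apply, MulAut.one_apply, ← h x x.2, mul_inv_cancel_right]
  have hlift : Function.Injective
      ((IsCyclic.mulAutMulEquiv ↥(P : Subgroup K)).toMonoidHom.comp φ.range.subtype) :=
    (IsCyclic.mulAutMulEquiv _).injective.comp φ.range.subtype_injective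
  have hcard : Nat.card φ.range = (P : Subgroup K).index := by rw [← index_ker, hker]
  have hdvd : (P : Subgroup K).index ∣ p - 1 := by
    have h := (card_subgroup_dvd_card φ.range).trans (dvd_of_eq (IsCyclic.card_mulAut _))
    rw [hcard, hn, Nat.totient_prime_pow hp.out (Nat.pos_of_ne_zero hn0)] at h
    exact ((hp.out.coprime_iff_not_dvd.mpr P.not_dvd_index).symm.pow_right _).dvd_of_dvd_mul_left h
  refine ⟨?_, hdvd⟩
  by_cases hp2 : p = 2
  · have h1 : Nat.card (K ⧸ (P : Subgroup K)) = 1 := by
      change (P : Subgroup K).index = 1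
      exact Nat.dvd_one.mp (by simpa [hp2] using hdvd)
    haveI := (Nat.card_eq_one_iff_unique.mp h1).1
    exact isCyclic_of_subsingleton
  · haveI : IsCyclic (ZMod (Nat.card ↥(P : Subgroup K)))ˣ := by
      rw [hn]
      exact ZMod.isCyclic_units_of_prime_pow p hp.out hp2 n
    haveI : IsCyclic φ.range := isCyclic_of_injective _ hlift
    exact isCyclic_of_injective
      ((QuotientGroup.quotientKerEquivRange φ).toMonoidHom.comp
        (QuotientGroup.quotientMulEquivOfEq hker.symm).toMonoidHom)
      ((QuotientGroup.quotientKerEquivRange φ).injective.comp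
        (QuotientGroup.quotientMulEquivOfEq hker.symm).injective)

/-- A cyclic Sylow `p`-subgroup lies in every normal non-abelian simple subgroup of order
divisible by `p`. -/
theorem sylow_le_of_simple {K : Type*} [Group K] [Finite K] {p : ℕ} [hp : Fact p.Prime]
    (P : Sylow p K) [hPc : IsCyclic ↥(P : Subgroup K)] (L : Subgroup K) [L.Normal]
    [IsSimpleGroup L] (hna : ¬ IsMulCommutative L) (hd : p ∣ Nat.card L) :
    (P : Subgroup K) ≤ L := by
  set H : Subgroup K := L ⊔ (P : Subgroup K) with hH
  have hLH : L ≤ H := le_sup_left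
  have hcomm : ∀ a ∈ H, ∀ b ∈ H, ⁅a, b⁆ ∈ L := by
    intro a ha b hb
    obtain ⟨l, hl, x, hx, rfl⟩ := mem_sup_of_normal_left.mp ha
    obtain ⟨m, hm, y, hy, rfl⟩ := mem_sup_of_normal_left.mp hb
    have hxy : x * y = y * x :=
      congrArg Subtype.val (IsMulCommutative.is_comm.comm (⟨x, hx⟩ : ↥(P : Subgroup K)) ⟨y, hy⟩)
    rw [← QuotientGroup.eq_one_iff (N := L)]
    rw [← QuotientGroup.mk'_apply, map_commutatorElement, map_mul, map_mul,
      show QuotientGroup.mk' L l = 1 from (QuotientGroup.eq_one_iff l).mpr hl,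
      show QuotientGroup.mk' L m = 1 from (QuotientGroup.eq_one_iff m).mpr hm, one_mul, one_mul,
      commutatorElement_eq_one_iff_mul_comm, ← map_mul, ← map_mul, hxy]
  let Q : Sylow p ↥H := P.subtype le_sup_right
  let N : Subgroup ↥H := normalizer ((Q : Subgroup ↥H) : Set ↥H)
  obtain ⟨n, hn⟩ : ∃ n : N, (Q : Subgroup ↥H).normalizerMonoidHom n ≠ 1 := by
    by_contra hno
    push Not at hno
    obtain ⟨M, hM, h1, k, hk⟩ := Transfer.hasNormalPComplement_iff_exists.mp
      (Transfer.hasNormalPComplement_of_normalizer_le_centralizer Q fun g hg => by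
        have : (⟨g, hg⟩ : N) ∈ (Q : Subgroup ↥H).normalizerMonoidHom.ker := hno _
        rwa [normalizerMonoidHom_ker, mem_subgroupOf] at this)
    haveI := hM
    let i : ↥L →* ↥H := Subgroup.inclusion hLH
    have hi : Function.Injective i := Subgroup.inclusion_injective _
    rcases (hM.comap i).eq_bot_or_eq_top with hb | ht
    · have hinj : Function.Injective ((QuotientGroup.mk' M).comp i) := by
        rw [← MonoidHom.ker_eq_bot_iff, ← MonoidHom.comap_ker, QuotientGroup.ker_mk', hb]
      have hpL : IsPGroup p ↥L := (IsPGroup.of_card (n := k) (show Nat.card (↥H ⧸ M) = p ^ k from hk)).of_injective _ hinj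
      haveI : Nontrivial ↥L := IsSimpleGroup.toNontrivial
      have hcne : center ↥L ≠ ⊥ := (nontrivial_iff_ne_bot _).mp hpL.center_nontrivial
      have htop := ((inferInstance : (center ↥L).Normal).eq_bot_or_eq_top).resolve_left hcne
      exact hna (center_eq_top_iff.mp htop)
    · refine h1 (hd.trans ?_)
      have h2 : ∀ x : ↥L, i x ∈ M := fun x => (ht ▸ mem_top x : x ∈ M.comap i)
      exact Subgroup.card_dvd_of_injective (i.codRestrict M h2)
        (fun a b hab => hi (congrArg Subtype.val hab :))
  set f : MulAut ↥(Q : Subgroup ↥H) := (Q : Subgroup ↥H).normalizerMonoidHom n with hf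
  haveI : IsCyclic ↥(Q : Subgroup ↥H) :=
    isCyclic_of_injective
      ((H.subtype.comp (Q : Subgroup ↥H).subtype).codRestrict (P : Subgroup K) fun x => x.2)
      (fun a b hab => Subtype.ext (Subtype.ext (congrArg Subtype.val hab :)))
  have hcop : (orderOf f).Coprime p := by
    have hQN : (Q : Subgroup ↥H).subgroupOf N ≤ (Q : Subgroup ↥H).normalizerMonoidHom.ker := by
      rw [normalizerMonoidHom_ker]
      exact fun x hx => Q.le_centralizer hx
    have h1 : orderOf f ∣ (Q : Subgroup ↥H).normalizerMonoidHom.ker.index := by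
      rw [index_ker, hf]
      exact Subgroup.orderOf_dvd_natCard _ ⟨n, rfl⟩
    have h2 := (h1.trans (index_dvd_of_le hQN)).trans (relIndex_dvd_index_of_le le_normalizer)
    exact ((hp.out.coprime_iff_not_dvd.mpr Q.not_dvd_index).symm).coprime_dvd_left h2
  have hfix : ∀ x : ↥(Q : Subgroup ↥H), f x = x → x = 1 := fun x hx => by
    by_contra hx1
    exact hn (eq_one_of_fixed_cyclic Q.isPGroup' hcop hx1 hx)
  letI : CommGroup ↥(Q : Subgroup ↥H) := IsCyclic.commGroup
  have hsurj : Function.Surjective (fun x : ↥(Q : Subgroup ↥H) => f x * x⁻¹) := by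
    refine Finite.injective_iff_surjective.mp fun a b hab => ?_
    have : f (a * b⁻¹) = a * b⁻¹ := by
      have h1 : f a = f b * b⁻¹ * a := by rw [← mul_inv_eq_iff_eq_mul]; exact hab
      rw [map_mul, map_inv, h1, mul_comm (f b * b⁻¹) a, mul_assoc, mul_assoc, mul_comm (f b),
        mul_assoc, inv_mul_cancel, mul_one]
    exact mul_inv_eq_one.mp (hfix _ this)
  intro x hx
  obtain ⟨⟨⟨y, hyH⟩, hy⟩, hxy⟩ := hsurj ⟨⟨x, le_sup_right (a := L) hx⟩, hx⟩
  have h3 : x = ⁅((n : ↥H) : K), y⁆ := by
    have := congrArg (fun z : ↥(Q : Subgroup ↥H) => ((z : ↥H) : K)) hxy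
    exact this.symm
  rw [h3]
  exact hcomm _ (n : ↥H).2 y hyH

/-- Let K be a finite group, p a prime dividing its order with O_{p'}(K) = 1 (no nontrivial normal subgroup of order prime to p), and P a cyclic Sylow p-subgroup of K. Then either P is normal and self-centralizing in K with K/P cyclic of order dividing p − 1 (so K is the semidirect product of P by a group of automorphisms of P of order dividing p − 1), or the generalized Fitting subgroup F*(K) is a non-abelian simple group and p does not divide the index of F*(K) in K. -/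
theorem result {K : Type*} [Group K] [Finite K] (p : ℕ) [Fact p.Prime] (hp : p ∣ Nat.card K) (hO : Cfsg.pPrimeCore p K = ⊥)
    (P : Sylow p K) (hP : IsCyclic ↥(P : Subgroup K)) :
    ((P : Subgroup K).Normal ∧ Subgroup.centralizer ((P : Subgroup K) : Set K) = (P : Subgroup K) ∧
      (∀ (_ : (P : Subgroup K).Normal), IsCyclic (K ⧸ (P : Subgroup K))) ∧ (P : Subgroup K).index ∣ p - 1) ∨
    (IsSimpleGroup ↥(Cfsg.generalizedFittingSubgroup K) ∧ ¬ IsMulCommutative ↥(Cfsg.generalizedFittingSubgroup K) ∧
      ¬ p ∣ (Cfsg.generalizedFittingSubgroup K).index) := by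
  haveI hpp : p.Prime := Fact.out
  haveI := hP
  haveI : IsMulCommutative ↥(P : Subgroup K) := inferInstance
  have hU : fittingSubgroup K = pCore p K := Base.fittingSubgroup_eq_pCore_of_pPrimeCore_eq_bot hO
  have hUP : pCore p K ≤ (P : Subgroup K) := Base.pCore_le_sylow P
  rcases eq_or_ne (layer K) ⊥ with hlay | hlay
  · left
    have hC : centralizer (pCore p K : Set K) ≤ pCore p K := by
      have := Components.centralizer_fitting_le_iff.mpr hlay
      rwa [hU] at this
    have hPc : (P : Subgroup K) ≤ centralizer ((P : Subgroup K) : Set K) :=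
      le_centralizer_iff_isMulCommutative.mpr inferInstance
    have hPU : (P : Subgroup K) = pCore p K :=
      le_antisymm ((hPc.trans (centralizer_le hUP)).trans hC) hUP
    haveI hN : (P : Subgroup K).Normal := by
      rw [hPU, ← hU]
      exact Base.fittingSubgroup_normal' K
    have hCP : centralizer ((P : Subgroup K) : Set K) = (P : Subgroup K) :=
      le_antisymm (((centralizer_le hUP).trans hC).trans hUP) hPc
    obtain ⟨h1, h2⟩ := quotient_cyclic P hCP hp
    exact ⟨hN, hCP, fun _ => h1, h2⟩
  · right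
    obtain ⟨L, hL⟩ := Components.layer_ne_bot_iff.mp hlay
    obtain ⟨u, huP, huL, hu⟩ := LocalEven.IsoRankTwo.exists_mem_sylow_component hO P hL
    have hun := not_mem_centralizer_component P hL huP huL hu
    have key : ∀ (v : K), v ∈ (P : Subgroup K) → orderOf v = p → u ∈ zpowers v := by
      intro v hv hvo
      have := mem_zpowers_of_orderOf_eq (p := p) (C := ↥(P : Subgroup K)) (u := ⟨v, hv⟩) (v := ⟨u, huP⟩)
        (by rw [orderOf_mk]; exact hvo) (by rw [orderOf_mk]; exact hu)
      obtain ⟨i, hi⟩ := mem_zpowers_iff.mp this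
      exact mem_zpowers_iff.mpr ⟨i, congrArg Subtype.val hi⟩
    have hfit : fittingSubgroup K = ⊥ := by
      rw [hU]
      by_contra hne
      haveI : Nontrivial ↥(pCore p K) := (nontrivial_iff_ne_bot _).mpr hne
      obtain ⟨k, hk0, hk⟩ := ((P.isPGroup'.to_le hUP).nontrivial_iff_card).mp inferInstance
      obtain ⟨v, hv⟩ := exists_prime_orderOf_dvd_card' (G := ↥(pCore p K)) p
        (by rw [hk]; exact dvd_pow_self p hk0.ne')
      have hu' : u ∈ pCore p K :=
        zpowers_le.mpr v.2 (key v (hUP v.2) (by rw [Subgroup.orderOf_coe, hv]))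
      rw [← hU] at hu'
      exact hun (le_centralizer_iff.mp (Components.component_le_centralizer_fitting hL) hu')
    have huniq : ∀ L' : Subgroup K, IsComponent L' → L' = L := by
      intro L' hL'
      by_contra hne
      obtain ⟨v, hvP, hvL, hv⟩ := LocalEven.IsoRankTwo.exists_mem_sylow_component hO P hL'
      have hu' : u ∈ L' := zpowers_le.mpr hvL (key v hvP hv)
      exact hun (commutator_eq_bot_iff_le_centralizer.mp
        (Components.components_commute hL' hL hne) hu')
    have hlayL : layer K = L := le_antisymm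
      (Components.layer_le_iff.mpr fun L' hL' => (huniq L' hL').le) (Components.component_le_layer hL)
    have hF : generalizedFittingSubgroup K = L := by
      rw [generalizedFittingSubgroup, hfit, sup_bot_eq, hlayL]
    haveI hLn : L.Normal := hlayL ▸ Components.layer_normal
    have hz : L ⊓ centralizer (L : Set K) = ⊥ := by
      have := Components.fitting_inf_layer_eq (G := K)
      rwa [hfit, bot_inf_eq, hlayL, eq_comm] at this
    have hcen : center ↥L = ⊥ := by
      rw [eq_bot_iff]
      intro x hx
      have hmem : (x : K) ∈ L ⊓ centralizer (L : Set K) :=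
        ⟨x.2, mem_centralizer_iff.mpr fun y hy =>
          congrArg Subtype.val (mem_center_iff.mp hx ⟨y, hy⟩)⟩
      rw [hz, mem_bot] at hmem
      exact mem_bot.mpr (Subtype.ext hmem)
    haveI hLs : IsSimpleGroup ↥L := by
      haveI := hL.2.2
      haveI : Nontrivial ↥L := Components.quasisimple_nontrivial hL.2
      exact IsSimpleGroup.isSimpleGroup_of_surjective
        ((QuotientGroup.quotientBot (G := ↥L)).toMonoidHom.comp
          (QuotientGroup.quotientMulEquivOfEq hcen).toMonoidHom)
        ((QuotientGroup.quotientBot (G := ↥L)).surjective.comp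
          (QuotientGroup.quotientMulEquivOfEq hcen).surjective)
    have hna : ¬ IsMulCommutative ↥L := Components.quasisimple_not_isMulCommutative hL.2
    rw [hF]
    refine ⟨hLs, hna, fun h => P.not_dvd_index (h.trans (index_dvd_of_le ?_))⟩
    exact sylow_le_of_simple P L hna (Components.dvd_card_component hO hL)

end Cfsg.Agent.S4403
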