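import Cfsg.Statements.S4405
import Cfsg.Agent.Lib.PGroups.Extraspecial
import Cfsg.Agent.Lib.Chars.Burnside
import Cfsg.Agent.Lib.Base.MinimalNormal
import Cfsg.Agent.Lib.Base.Cores
import Cfsg.Agent.Lib.PLocal.PSolvable
import Cfsg.Agent.Lib.Coprime.Basic

set_option autoImplicit false
open Cfsg

namespace Cfsg.Agent.S4405

open Subgroup
open scoped commutatorElement Pointwise

/-- Fixed points of an element of order dividing five. -/
theorem card_fix {Q : Type*} [Group Q] [Finite Q] (D : Subgroup Q) (x : Q) (hx : x ^ 5 = 1)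
    (hxD : ∀ y ∈ D, x * y * x⁻¹ ∈ D) :
    Nat.card ↥(D ⊓ centralizer ({x} : Set Q)) ≡ Nat.card D [MOD 5] := by
  haveI : Fact (Nat.Prime 5) := ⟨by norm_num⟩
  have hle : zpowers x ≤ normalizer (D : Set Q) := by
    rw [zpowers_le]
    exact mem_normalizer_fintype hxD
  have h5 : IsPGroup 5 ↥(zpowers x) := by
    intro y
    refine ⟨1, ?_⟩
    obtain ⟨⟨i, hi⟩⟩ := (⟨y.2⟩ : PLift ((y : Q) ∈ zpowers x))
    refine Subtype.ext ?_
    rw [SubgroupClass.coe_pow, ← hi, OneMemClass.coe_one, pow_one]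
    change (x ^ i) ^ 5 = 1
    rw [← zpow_natCast, ← zpow_mul, mul_comm, zpow_mul, zpow_natCast, hx, one_zpow]
  letI : MulAction ↥(zpowers x) ↥D :=
    MulAction.compHom _ ((normalizerMonoidHom D).comp (Subgroup.inclusion hle))
  have hmod := h5.card_modEq_card_fixedPoints ↥D
  have hfp : Nat.card (MulAction.fixedPoints ↥(zpowers x) ↥D) =
      Nat.card ↥((D ⊓ centralizer ({x} : Set Q)).subgroupOf D) := by
    refine Nat.card_congr (Equiv.setCongr ?_)
    ext y
    rw [MulAction.mem_fixedPoints, SetLike.mem_coe, mem_subgroupOf, mem_inf,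
      mem_centralizer_singleton_iff]
    constructor
    · intro h
      have h' : x * (y : Q) * x⁻¹ = y := congrArg Subtype.val (h ⟨x, mem_zpowers x⟩)
      exact ⟨y.2, (mul_inv_eq_iff_eq_mul.mp h').symm⟩
    · rintro ⟨-, h⟩ ⟨s, hs⟩
      obtain ⟨i, rfl⟩ := mem_zpowers_iff.mp hs
      refine Subtype.ext ?_
      change x ^ i * (y : Q) * (x ^ i)⁻¹ = y
      rw [← ((show Commute (y : Q) x from h).zpow_right i).eq, mul_inv_cancel_right]
  rw [hfp, Nat.card_congr (subgroupOfEquivOfLe inf_le_left).toEquiv] at hmod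
  exact hmod.symm

theorem sixteen_or_one {n m : ℕ} (hn : n ∣ 16) (h : n ≡ m [MOD 5]) :
    (m = 16 → n = 1 ∨ n = 16) ∧ (m = 4 → n = 4) ∧ (m = 8 → n = 8) := by
  have := Nat.le_of_dvd (by norm_num) hn
  refine ⟨?_, ?_, ?_⟩ <;> rintro rfl <;> unfold Nat.ModEq at h <;> interval_cases n <;> omega

/-- Let G be a finite group of order 320 = 64·5 whose largest normal 2-subgroup H = O₂(G) equals the Fitting subgroup F(G) and is extraspecial of order 32 containing no elementary abelian subgroup of order 8 (so H is the central product of a quaternion group and a dihedral group of order 8). If T is an involution of G outside H whose centralizer in H contains an elementary abelian subgroup of order 4, then C_H(T) itself is elementary abelian of order 4. -/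
theorem result {G : Type*} [Group G] [Finite G]
    (hG : Nat.card G = 320) (hHF : Cfsg.pCore 2 G = Cfsg.fittingSubgroup G)
    (hex : Cfsg.IsExtraspecial 2 ↥(Cfsg.pCore 2 G)) (h32 : Nat.card ↥(Cfsg.pCore 2 G) = 32)
    (hminus : ∀ A : Subgroup G, A ≤ Cfsg.pCore 2 G → Cfsg.IsElementaryAbelian 2 A → Nat.card ↥A ≤ 4)
    (T : G) (hT : orderOf T = 2) (hTH : T ∉ Cfsg.pCore 2 G)
    (V : Subgroup G) (hV : V ≤ Cfsg.pCore 2 G ⊓ Subgroup.centralizer ({T} : Set G)) (hV4 : Nat.card ↥V = 4) (hVe : Cfsg.IsElementaryAbelian 2 V) :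
    Nat.card ↥(Cfsg.pCore 2 G ⊓ Subgroup.centralizer ({T} : Set G)) = 4 ∧
      Cfsg.IsElementaryAbelian 2 (Cfsg.pCore 2 G ⊓ Subgroup.centralizer ({T} : Set G)) := by
  classical
  haveI : Fact (Nat.Prime 2) := ⟨Nat.prime_two⟩
  haveI : Fact (Nat.Prime 5) := ⟨by norm_num⟩
  haveI : Group.IsSolvable G := CfsgLib.Chars.isSolvable_of_card_eq_pow_mul_pow (p := 2) (q := 5)
    (a := 6) (b := 1) Nat.prime_two (by norm_num) (by rw [hG]; norm_num)
  set H := pCore 2 G with hH
  haveI hHn : H.Normal := pCore_normal 2 G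
  set Z : Subgroup G := (center ↥H).map H.subtype with hZ
  haveI hZn : Z.Normal := ConjAct.normal_of_characteristic_of_normal
  have hZ2 : Nat.card Z = 2 := by rw [hZ, card_map_of_injective H.subtype_injective]; exact hex.2
  have hZH : Z ≤ H := map_subtype_le _
  have hZc : ∀ z ∈ Z, ∀ h ∈ H, h * z = z * h := by
    rintro _ ⟨z, hz, rfl⟩ h hh
    exact congrArg Subtype.val (mem_center_iff.mp hz ⟨h, hh⟩)
  have hZsq : ∀ z ∈ Z, z * z = 1 := by
    intro z hz
    have h : (⟨z, hz⟩ : ↥Z) ^ 2 = 1 := by rw [← hZ2]; exact pow_card_eq_one'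
    rw [← sq]
    exact congrArg Subtype.val h
  have hCH : ∀ g : G, (∀ h ∈ H, h * g = g * h) → g ∈ H := by
    intro g hg
    have := CfsgLib.Base.centralizer_fittingSubgroup_le (G := G)
    rw [← hHF] at this
    exact this (mem_centralizer_iff.mpr hg)
  set π := QuotientGroup.mk' Z with hπ
  set Hb : Subgroup (G ⧸ Z) := H.map π with hHb
  haveI hHbn : Hb.Normal := hHn.map π (QuotientGroup.mk'_surjective Z)
  have hHb16 : Nat.card Hb = 16 := by
    have h1 : Nat.card Hb = Z.relIndex H := CfsgLib.PLocal.card_map_mk'_eq_relIndex Z H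
    have h2 := relIndex_mul_relIndex ⊥ Z H bot_le hZH
    rw [relIndex_bot_left, relIndex_bot_left, hZ2, h32] at h2
    omega
  have hkerπ : ∀ x : G, π x = 1 → x ∈ Z := fun x h => (QuotientGroup.eq_one_iff x).mp h
  have hmemZ : ∀ x : H, x ∈ center ↥H → π (x : G) = 1 := fun x hx =>
    (QuotientGroup.eq_one_iff _).mpr (mem_map_of_mem H.subtype hx)
  have hcomm : ∀ x ∈ Hb, ∀ y ∈ Hb, x * y = y * x := by
    rintro _ ⟨x, hx, rfl⟩ _ ⟨y, hy, rfl⟩
    rw [← commutatorElement_eq_one_iff_mul_comm, ← map_commutatorElement]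
    exact hmemZ ⁅(⟨x, hx⟩ : H), ⟨y, hy⟩⁆ (CfsgLib.PGroups.Extraspecial.commutator_mem_center hex _ _)
  have hsq : ∀ x ∈ Hb, x * x = 1 := by
    rintro _ ⟨x, hx, rfl⟩
    rw [← map_mul, ← sq]
    exact hmemZ ((⟨x, hx⟩ : H) ^ 2) (CfsgLib.PGroups.Extraspecial.pow_mem_center hex _)
  -- the kernel of the action on `H / Z` is `H`
  set K : Subgroup G := (centralizer (Hb : Set (G ⧸ Z))).comap π with hK
  have hKH : K ≤ H := by
    haveI : K.Normal := (inferInstance : (centralizer (Hb : Set (G ⧸ Z))).Normal).comap π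
    refine CfsgLib.Base.le_pCore (IsPGroup.of_card (n := (Nat.card K).primeFactorsList.length)
      (Nat.eq_prime_pow_of_unique_prime_dvd Nat.card_pos.ne' fun {d} hd hdvd => ?_))
    by_contra hd2
    haveI : Fact d.Prime := ⟨hd⟩
    obtain ⟨⟨k, hk⟩, hkd⟩ := exists_prime_orderOf_dvd_card' (G := K) d hdvd
    rw [orderOf_mk] at hkd
    have hkH : ∀ h ∈ H, h * k = k * h := by
      intro h hh
      have h1 : ⁅k, h⁆ ∈ Z := by
        refine hkerπ _ ?_
        rw [map_commutatorElement, commutatorElement_eq_one_iff_mul_comm]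
        exact (mem_centralizer_iff.mp (mem_comap.mp hk) _ (mem_map_of_mem π hh)).symm
      set z := ⁅k, h⁆ with hz
      have hconj : k * h * k⁻¹ = z * h := by rw [hz, commutatorElement_def]; group
      have hzk : k * z * k⁻¹ = z := by
        -- the centre has order two, so its involution is central
        have h2 := hZn.conj_mem z h1 k
        have hall : ∀ a ∈ Z, ∀ b ∈ Z, a ≠ 1 → b ≠ 1 → a = b := by
          intro a ha b hb ha1 hb1
          obtain ⟨c, hc, hne⟩ := Nat.card_eq_two_iff' (1 : ↥Z) |>.mp hZ2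
          exact congrArg Subtype.val ((hne ⟨a, ha⟩ fun h => ha1 (congrArg Subtype.val h)).trans
            (hne ⟨b, hb⟩ fun h => hb1 (congrArg Subtype.val h)).symm)
        rcases eq_or_ne z 1 with hz1 | hz1
        · rw [hz1, mul_one, mul_inv_cancel]
        · refine hall _ h2 _ h1 (fun h => hz1 ?_) hz1
          exact conj_eq_one_iff.mp h
      have hpow : ∀ n : ℕ, k ^ n * h * (k ^ n)⁻¹ = z ^ n * h := by
        intro n
        induction n with
        | zero => simp
        | succ n ih =>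
          calc k ^ (n + 1) * h * (k ^ (n + 1))⁻¹ = k * (k ^ n * h * (k ^ n)⁻¹) * k⁻¹ := by
                rw [pow_succ' k n]; group
            _ = k * (z ^ n * h) * k⁻¹ := by rw [ih]
            _ = (k * z ^ n * k⁻¹) * (k * h * k⁻¹) := by group
            _ = z ^ n * (z * h) := by rw [← conj_pow, hzk, hconj]
            _ = z ^ (n + 1) * h := by rw [pow_succ, mul_assoc]
      have h2 := hpow d
      rw [← hkd, pow_orderOf_eq_one, hkd, one_mul, inv_one, mul_one] at h2
      obtain ⟨c, hc⟩ := hd.odd_of_ne_two hd2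
      rw [hc, pow_succ, pow_mul, sq, hZsq z h1, one_pow, one_mul] at h2
      rw [show z = 1 from mul_eq_right.mp h2.symm, one_mul] at hconj
      conv_lhs => rw [← hconj]
      group
    have hkmem := hCH k hkH
    obtain ⟨n, hn⟩ := (IsPGroup.iff_orderOf.mp (CfsgLib.Base.isPGroup_pCore 2 G)) ⟨k, hkmem⟩
    rw [orderOf_mk, hkd] at hn
    exact hd2 ((Nat.prime_dvd_prime_iff_eq hd Nat.prime_two).mp (hd.dvd_of_dvd_pow (dvd_of_eq hn)))
  -- the fixed points of `T` on `H / Z`
  set Tb := π T with hTb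
  have hTT : Tb * Tb = 1 := by
    rw [hTb, ← map_mul, ← sq, ← hT, pow_orderOf_eq_one, map_one]
  have hTinv : Tb⁻¹ = Tb := inv_eq_of_mul_eq_one_right hTT
  set C : Subgroup (G ⧸ Z) := Hb ⊓ centralizer ({Tb} : Set (G ⧸ Z)) with hC
  have hmemC : ∀ y, y ∈ C ↔ y ∈ Hb ∧ y * Tb = Tb * y := fun y => by
    rw [hC, mem_inf, mem_centralizer_singleton_iff]
  let δ : ↥Hb →* ↥Hb := MonoidHom.mk' (fun y => ⟨Tb * y * Tb⁻¹, hHbn.conj_mem y y.2 Tb⟩ * y⁻¹)
    (fun y w => by
      refine Subtype.ext ?_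
      change Tb * ((y : G ⧸ Z) * w) * Tb⁻¹ * ((y : G ⧸ Z) * w)⁻¹ =
        Tb * y * Tb⁻¹ * (y : G ⧸ Z)⁻¹ * (Tb * w * Tb⁻¹ * (w : G ⧸ Z)⁻¹)
      have hm := hHbn.conj_mem w w.2 Tb
      have hm' := hHbn.conj_mem y y.2 Tb
      calc Tb * ((y : G ⧸ Z) * w) * Tb⁻¹ * ((y : G ⧸ Z) * w)⁻¹
          = (Tb * y * Tb⁻¹) * ((Tb * w * Tb⁻¹ * (w : G ⧸ Z)⁻¹) * (y : G ⧸ Z)⁻¹) := by group
        _ = (Tb * y * Tb⁻¹) * ((y : G ⧸ Z)⁻¹ * (Tb * w * Tb⁻¹ * (w : G ⧸ Z)⁻¹)) := by
            rw [hcomm _ (mul_mem hm (inv_mem w.2)) _ (inv_mem y.2)]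
        _ = _ := by group)
  have hδ : ∀ y : ↥Hb, ((δ y : ↥Hb) : G ⧸ Z) = Tb * y * Tb⁻¹ * (y : G ⧸ Z)⁻¹ := fun y => rfl
  have hker : δ.ker = C.subgroupOf Hb := by
    ext y
    rw [MonoidHom.mem_ker, mem_subgroupOf, hmemC, Subtype.ext_iff, hδ]
    change Tb * (y : G ⧸ Z) * Tb⁻¹ * (y : G ⧸ Z)⁻¹ = 1 ↔ _
    rw [mul_inv_eq_one, mul_inv_eq_iff_eq_mul]
    exact ⟨fun h => ⟨y.2, h.symm⟩, fun h => h.2.symm⟩
  have hrange : δ.range ≤ C.subgroupOf Hb := by
    rintro _ ⟨y, rfl⟩
    rw [mem_subgroupOf, hmemC]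
    refine ⟨(δ y).2, ?_⟩
    rw [hδ]
    have h1 : (y : G ⧸ Z)⁻¹ = y := inv_eq_of_mul_eq_one_right (hsq _ y.2)
    rw [h1, hTinv]
    calc Tb * (y : G ⧸ Z) * Tb * y * Tb = (Tb * y * Tb) * y * Tb := by group
      _ = (y * (Tb * y * Tb)) * Tb := by
          rw [hcomm _ (by have := hHbn.conj_mem _ y.2 Tb; rwa [hTinv] at this) _ y.2]
      _ = y * Tb * y * (Tb * Tb) := by group
      _ = y * Tb * y := by rw [hTT, mul_one]
      _ = (Tb * Tb) * y * Tb * y := by rw [hTT, one_mul]
      _ = Tb * (Tb * y * Tb * y) := by group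
  have hcardC : Nat.card (C.subgroupOf Hb) = Nat.card C :=
    Nat.card_congr (subgroupOfEquivOfLe inf_le_left).toEquiv
  have hlow : 4 ≤ Nat.card C := by
    have h1 := δ.ker.card_mul_index
    rw [index_ker, hker, hcardC, hHb16] at h1
    have h2 : Nat.card δ.range ≤ Nat.card C := hcardC ▸ Nat.card_le_card_of_injective
      (Subgroup.inclusion hrange) (inclusion_injective hrange)
    nlinarith
  -- an element of order five
  obtain ⟨r, hr⟩ := exists_prime_orderOf_dvd_card' (G := G) 5 (by rw [hG]; norm_num)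
  have hrH : r ∉ H := fun h => by
    obtain ⟨n, hn⟩ := (IsPGroup.iff_orderOf.mp (CfsgLib.Base.isPGroup_pCore 2 G)) ⟨r, h⟩
    rw [orderOf_mk, hr] at hn
    have h5 : 5 ∣ 2 := (Fact.out : Nat.Prime 5).dvd_of_dvd_pow (dvd_of_eq hn)
    omega
  set rb := π r with hrb
  have hr5 : rb ^ 5 = 1 := by rw [hrb, ← map_pow, ← hr, pow_orderOf_eq_one, map_one]
  have hfix : ∀ y ∈ Hb, y * rb = rb * y → y = 1 := by
    intro y hy hyc
    have hmod := card_fix Hb rb hr5 (fun w hw => hHbn.conj_mem w hw rb)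
    have hdvd := card_dvd_of_le (show Hb ⊓ centralizer ({rb} : Set (G ⧸ Z)) ≤ Hb from inf_le_left)
    rw [hHb16] at hdvd
    rcases (sixteen_or_one hdvd hmod).1 hHb16 with h | h
    · rw [card_eq_one] at h
      exact mem_bot.mp (h ▸ (⟨hy, mem_centralizer_singleton_iff.mpr hyc⟩ :
        y ∈ Hb ⊓ centralizer ({rb} : Set (G ⧸ Z))))
    · exfalso
      have hall := eq_of_le_of_card_ge (show Hb ⊓ centralizer ({rb} : Set (G ⧸ Z)) ≤ Hb from inf_le_left)
        (by rw [h, hHb16])
      exact hrH (hKH (mem_comap.mpr (mem_centralizer_iff.mpr fun w hw =>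
        mem_centralizer_singleton_iff.mp ((hall.ge hw :).2))))
  -- `|C| = 4`
  set rT := rb * Tb * rb⁻¹ with hrT
  have hC4 : Nat.card C = 4 := by
    set C' : Subgroup (G ⧸ Z) := Hb ⊓ centralizer ({rT} : Set (G ⧸ Z)) with hC'
    have hmem' : ∀ y, y ∈ C' ↔ y ∈ Hb ∧ y * rT = rT * y := fun y => by
      rw [hC', mem_inf, mem_centralizer_singleton_iff]
    have hinter : C ⊓ C' = ⊥ := by
      rw [eq_bot_iff]
      rintro y ⟨hy1, hy2⟩
      rw [mem_bot]
      obtain ⟨hyH, hyT⟩ := (hmemC y).mp hy1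
      obtain ⟨-, hyT'⟩ := (hmem' y).mp hy2
      -- `y` commutes with `T (r T r⁻¹)`, which is a nontrivial power of `r` modulo `H`
      have hN5 : (H ⊔ zpowers r).index = 2 := by
        have hdj : Disjoint H (zpowers r) := by
          rw [disjoint_iff, eq_bot_iff]
          rintro x ⟨hx1, hx2⟩
          have h1 := Subgroup.orderOf_dvd_natCard H hx1
          have h2 := Subgroup.orderOf_dvd_natCard (zpowers r) hx2
          rw [h32] at h1
          rw [Nat.card_zpowers, hr] at h2
          exact mem_bot.mpr (orderOf_eq_one_iff.mp (Nat.eq_one_of_dvd_coprimes (by norm_num) h1 h2))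
        have h1 : Nat.card ↥(H ⊔ zpowers r) = 32 * 5 := by
          refine Nat.dvd_antisymm ?_ ?_
          · have hd := CfsgLib.Coprime.card_sup_dvd (H := zpowers r) (N := H)
              (by rw [normalizer_eq_top]; exact le_top)
            rw [Nat.card_zpowers, hr, h32, sup_comm] at hd
            exact hd.trans (dvd_of_eq (mul_comm _ _))
          · refine Nat.Coprime.mul_dvd_of_dvd_of_dvd (by norm_num) ?_ ?_
            · exact h32 ▸ card_dvd_of_le le_sup_left
            · have h5' := card_dvd_of_le (le_sup_right : zpowers r ≤ H ⊔ zpowers r)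
              rwa [Nat.card_zpowers, hr] at h5'
        have h2 := (H ⊔ zpowers r).card_mul_index
        rw [h1, hG] at h2
        omega
      haveI := normal_of_index_eq_two hN5
      have hmem : T * (r * T * r⁻¹) ∈ H ⊔ zpowers r := by
        have h1 := mul_mem ((inferInstance : (H ⊔ zpowers r).Normal).conj_mem r
          (mem_sup_right (mem_zpowers r)) T) (inv_mem (mem_sup_right (S := H) (mem_zpowers r)))
        have hTi : T⁻¹ = T := inv_eq_of_mul_eq_one_right (by rw [← sq, ← hT, pow_orderOf_eq_one])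
        rw [hTi] at h1
        rwa [mul_assoc T r T, mul_assoc T] at h1
      obtain ⟨h, hh, v, hv, hhv⟩ := mem_sup_of_normal_left.mp hmem
      obtain ⟨i, rfl⟩ := mem_zpowers_iff.mp hv
      have hh' : Commute y (π h) := hcomm _ hyH _ (mem_map_of_mem π hh)
      have hyv : Commute y (π (r ^ i)) := by
        have h1 : Commute y (π (h * r ^ i)) := by
          rw [hhv, map_mul, map_mul, map_mul, map_inv]
          exact Commute.mul_right hyT hyT'
        rw [map_mul] at h1
        have := (hh'.inv_right).mul_right h1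
        rwa [inv_mul_cancel_left] at this
      by_cases hi : (5 : ℤ) ∣ i
      · -- `T` and `r` would commute modulo `H`
        exfalso
        have hri : r ^ i = 1 := orderOf_dvd_iff_zpow_eq_one.mp (by rw [hr]; exact_mod_cast hi)
        rw [hri, mul_one] at hhv
        have hTr : ∀ w ∈ C, rb * w * rb⁻¹ ∈ C := by
          intro w hw
          obtain ⟨hwH, hwT⟩ := (hmemC w).mp hw
          refine (hmemC _).mpr ⟨hHbn.conj_mem w hwH rb, ?_⟩
          have hπh : Tb * rT = π h := by
            rw [hhv, hrT, hTb, hrb, map_mul, map_mul, map_mul, map_inv]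
          have hrTe : rT = Tb * π h := by rw [← hπh, ← mul_assoc, hTT, one_mul]
          have h1 : Commute (rb * w * rb⁻¹) rT := by
            rw [hrT]
            exact (show Commute w Tb from hwT).map (MulAut.conj rb).toMonoidHom
          rw [hrTe] at h1
          have h2 : Commute (rb * w * rb⁻¹) (π h) :=
            hcomm _ (hHbn.conj_mem w hwH rb) _ (mem_map_of_mem π hh)
          have := h1.mul_right h2.inv_right
          rwa [mul_inv_cancel_right] at this
        have hmod := card_fix C rb hr5 hTr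
        have hone : Nat.card ↥(C ⊓ centralizer ({rb} : Set (G ⧸ Z))) = 1 := by
          rw [card_eq_one, eq_bot_iff]
          rintro w ⟨hw, hwr⟩
          exact mem_bot.mpr (hfix w ((hmemC w).mp hw).1 (mem_centralizer_singleton_iff.mp hwr))
        rw [hone] at hmod
        have hd' : Nat.card C ∣ 16 := by
          have h' := card_dvd_of_le (show C ≤ Hb from inf_le_left)
          rwa [hHb16] at h'
        have hCall : Nat.card C = 16 := by
          have := Nat.le_of_dvd (by norm_num) hd'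
          unfold Nat.ModEq at hmod
          interval_cases hc : Nat.card C <;> omega
        have hCHb : C = Hb := eq_of_le_of_card_ge inf_le_left (by rw [hCall, hHb16])
        exact hTH (hKH (mem_comap.mpr (mem_centralizer_iff.mpr fun w hw =>
          ((hmemC w).mp (hCHb.ge hw)).2)))
      · obtain ⟨u, u', hu⟩ : IsCoprime (5 : ℤ) i :=
          ((Nat.prime_iff_prime_int.mp (Fact.out : Nat.Prime 5)).coprime_iff_not_dvd).mpr hi
        refine hfix y hyH ?_
        have : r = (r ^ i) ^ u' := by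
          conv_lhs => rw [← zpow_one r, ← hu, zpow_add, mul_comm u, zpow_mul, show ((5 : ℤ)) = ((5 : ℕ) : ℤ) from rfl, zpow_natCast, ← hr, pow_orderOf_eq_one, one_zpow, one_mul, mul_comm u', zpow_mul]
        rw [hrb, this, map_zpow]
        exact (hyv.zpow_right u').eq
    have hC'card : Nat.card C' = Nat.card C := by
      refine Nat.card_congr (((MulAut.conj rb⁻¹).toEquiv.subtypeEquiv fun y => ?_))
      change y ∈ C' ↔ rb⁻¹ * y * rb⁻¹⁻¹ ∈ C
      rw [hmem', hmemC, inv_inv]
      constructor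
      · rintro ⟨hy, hyr⟩
        refine ⟨by have := hHbn.conj_mem y hy rb⁻¹; rwa [inv_inv] at this, ?_⟩
        calc rb⁻¹ * y * rb * Tb = rb⁻¹ * (y * rT) * rb := by rw [hrT]; group
          _ = rb⁻¹ * (rT * y) * rb := by rw [hyr]
          _ = Tb * (rb⁻¹ * y * rb) := by rw [hrT]; group
      · rintro ⟨hy, hyr⟩
        refine ⟨by simpa [mul_assoc] using hHbn.conj_mem _ hy rb, ?_⟩
        calc y * rT = rb * (rb⁻¹ * y * rb * Tb) * rb⁻¹ := by rw [hrT]; group
          _ = rb * (Tb * (rb⁻¹ * y * rb)) * rb⁻¹ := by rw [hyr]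
          _ = rT * y := by rw [hrT]; group
    have hle : Nat.card C * Nat.card C' ≤ 16 := by
      rw [← hHb16, ← Nat.card_prod]
      refine Nat.card_le_card_of_injective
        (fun q => (⟨(q.1 : G ⧸ Z) * q.2, mul_mem q.1.2.1 q.2.2.1⟩ : ↥Hb)) ?_
      rintro ⟨a, b⟩ ⟨a', b'⟩ h
      have h' : (a : G ⧸ Z) * b = a' * b' := congrArg Subtype.val h
      have h'' : (a' : G ⧸ Z)⁻¹ * a = b' * (b : G ⧸ Z)⁻¹ := by
        rw [inv_mul_eq_iff_eq_mul, ← mul_assoc, ← h', mul_inv_cancel_right]
      have hmem : (a' : G ⧸ Z)⁻¹ * a ∈ C ⊓ C' :=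
        ⟨C.mul_mem (C.inv_mem a'.2) a.2, h'' ▸ C'.mul_mem b'.2 (C'.inv_mem b.2)⟩
      rw [hinter, mem_bot, inv_mul_eq_one] at hmem
      have hb : (b : G ⧸ Z) = b' := by rwa [hmem, mul_right_inj] at h'
      exact Prod.ext (Subtype.ext hmem.symm) (Subtype.ext hb)
    rw [hC'card] at hle
    nlinarith
  -- the centralizer of `T` in `H`
  set CH := H ⊓ centralizer ({T} : Set G) with hCHdef
  set W : Subgroup G := H ⊓ C.comap π with hW
  have hW8 : Nat.card W = 8 := by
    have h1 : Nat.card (W.map π) = Z.relIndex W := CfsgLib.PLocal.card_map_mk'_eq_relIndex Z W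
    have hZW : Z ≤ W := le_inf hZH fun x hx => by
      rw [mem_comap, hπ, QuotientGroup.mk'_apply, (QuotientGroup.eq_one_iff x).mpr hx]
      exact one_mem C
    have hmap : W.map π = C := by
      refine le_antisymm (map_le_iff_le_comap.mpr inf_le_right) fun y hy => ?_
      obtain ⟨x, hx, rfl⟩ := ((hmemC y).mp hy).1
      exact ⟨x, ⟨hx, hy⟩, rfl⟩
    have h2 := relIndex_mul_relIndex ⊥ Z W bot_le hZW
    rw [relIndex_bot_left, relIndex_bot_left, hZ2, ← h1, hmap, hC4] at h2
    omega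
  have hCHW : CH ≤ W := by
    rintro x ⟨hx, hxT⟩
    refine ⟨hx, mem_comap.mpr ((hmemC _).mpr ⟨mem_map_of_mem π hx, ?_⟩)⟩
    rw [hTb, ← map_mul, ← map_mul, mem_centralizer_singleton_iff.mp hxT]
  have hne : ¬ W ≤ CH := by
    intro hle
    -- every element of `W` would square to one
    have hinv : ∀ h ∈ H, (T * h * T⁻¹ * h⁻¹) * (T * h * T⁻¹ * h⁻¹) = 1 := by
      intro h hh
      set w := T * h * T⁻¹ * h⁻¹ with hw
      have hwW : w ∈ W := by
        refine ⟨H.mul_mem (hHn.conj_mem h hh T) (H.inv_mem hh), mem_comap.mpr ?_⟩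
        have := hrange ⟨⟨π h, mem_map_of_mem π hh⟩, rfl⟩
        rw [mem_subgroupOf, hδ] at this
        rw [hw, map_mul, map_mul, map_mul, map_inv, map_inv]
        exact this
      have hwT : w * T = T * w := mem_centralizer_singleton_iff.mp (hle hwW).2
      have hT2 : T * T = 1 := by rw [← sq, ← hT, pow_orderOf_eq_one]
      have h1 : T * h * T⁻¹ = w * h := by rw [hw]; group
      have h3 : T * (T * h * T⁻¹) * T⁻¹ = w * (w * h) := by
        calc T * (T * h * T⁻¹) * T⁻¹ = T * w * h * T⁻¹ := by rw [h1]; group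
          _ = w * T * h * T⁻¹ := by rw [hwT]
          _ = w * (T * h * T⁻¹) := by group
          _ = w * (w * h) := by rw [h1]
      rw [show T * (T * h * T⁻¹) * T⁻¹ = (T * T) * h * (T * T)⁻¹ by group, hT2, one_mul, inv_one,
        mul_one, ← mul_assoc] at h3
      exact mul_eq_right.mp h3.symm
    have hall : ∀ x ∈ W, x * x = 1 := by
      rintro x ⟨hx, hxC⟩
      have hr : δ.range = C.subgroupOf Hb := by
        refine eq_of_le_of_card_ge hrange ?_
        have h1 := δ.ker.card_mul_index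
        rw [index_ker, hker, hcardC, hHb16, hC4] at h1
        rw [hcardC, hC4]
        omega
      have hm : (⟨π x, mem_map_of_mem π hx⟩ : ↥Hb) ∈ C.subgroupOf Hb := hxC
      rw [← hr] at hm
      obtain ⟨⟨_, h, hh, rfl⟩, he⟩ := hm
      have he' : π (T * h * T⁻¹ * h⁻¹) = π x := by
        rw [map_mul, map_mul, map_mul, map_inv, map_inv]
        exact congrArg Subtype.val he
      set w := T * h * T⁻¹ * h⁻¹ with hw
      have hwH : w ∈ H := mul_mem (hHn.conj_mem h hh T) (inv_mem hh)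
      have hz : w⁻¹ * x ∈ Z := hkerπ _ (by rw [map_mul, map_inv, he', inv_mul_cancel])
      obtain ⟨z, hzz, hxz⟩ : ∃ z ∈ Z, x = w * z := ⟨_, hz, by group⟩
      rw [hxz, ← mul_assoc, mul_assoc w z w, ← hZc z hzz w hwH, mul_assoc w (w * z) z,
        mul_assoc w z z, hZsq z hzz, mul_one]
      exact hinv h hh
    have hel : Cfsg.IsElementaryAbelian 2 W := by
      refine ⟨⟨⟨fun a b => Subtype.ext ?_⟩⟩, fun a ha => by rw [sq]; exact hall a ha⟩
      have ha := hall _ a.2
      have hb := hall _ b.2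
      have hab := hall _ (mul_mem a.2 b.2)
      calc (a : G) * b = (a : G) * b * ((b * a : G) * (b * a : G)⁻¹) := by group
        _ = ((a : G) * ((b : G) * b) * a) * ((b : G) * a)⁻¹ := by group
        _ = ((b : G) * a)⁻¹ := by rw [hb, mul_one, ha, one_mul]
        _ = (b : G) * a := by
          have hab' := hall _ (mul_mem b.2 a.2)
          exact inv_eq_of_mul_eq_one_right hab'
    have := hminus W inf_le_left hel
    omega
  have hlt : Nat.card CH < 8 := by
    by_contra h
    exact hne (eq_of_le_of_card_ge hCHW (by omega)).ge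
  have hd8 : Nat.card CH ∣ 2 ^ 3 := by
    rw [show (2 : ℕ) ^ 3 = 8 from rfl, ← hW8]
    exact card_dvd_of_le hCHW
  have hV : V ≤ CH := hV
  have h4 : 4 ≤ Nat.card CH := hV4 ▸ Nat.card_le_card_of_injective (inclusion hV) (inclusion_injective hV)
  obtain ⟨k, hk, hkC⟩ := (Nat.dvd_prime_pow Nat.prime_two).mp hd8
  have hk2 : k = 2 := by
    rw [hkC] at hlt h4
    interval_cases k <;> omega
  rw [hk2] at hkC
  refine ⟨hkC, ?_⟩
  rw [← eq_of_le_of_card_ge hV (by rw [hkC, hV4]; norm_num)]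
  exact hVe

end Cfsg.Agent.S4405
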