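import Cfsg.Statements.S4406
import Mathlib

set_option autoImplicit false
open Cfsg

namespace Cfsg.Agent.S4406

theorem pow_twelve : ∀ c : alternatingGroup (Fin 4), c ^ 4 = 1 → c * c = 1 := by decide +kernel

theorem pow_nine : ∀ c : alternatingGroup (Fin 4), c ^ 9 = 1 → c ^ 3 = 1 := by decide +kernel

theorem cyc : ∀ c v w : alternatingGroup (Fin 4), c ^ 3 = 1 → c ≠ 1 → v * v = 1 → w * w = 1 → v ≠ 1 → w ≠ 1 → v ≠ w →
    (c * v * c⁻¹ = w ∧ c * w * c⁻¹ = v * w) ∨ (c * v * c⁻¹ = v * w ∧ c * w * c⁻¹ = v) := by decide +kernel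

set_option synthInstance.maxSize 4096 in
theorem cyc_inv1 : ∀ c v w : alternatingGroup (Fin 4), c ^ 3 = 1 → c ≠ 1 → v * v = 1 → w * w = 1 → v ≠ 1 → w ≠ 1 → v ≠ w →
    c * v * c⁻¹ = w → c⁻¹ * v * c⁻¹⁻¹ ≠ w := by decide +kernel

set_option synthInstance.maxSize 4096 in
theorem cyc_inv : ∀ c v w : alternatingGroup (Fin 4), c ^ 3 = 1 → c ≠ 1 → v * v = 1 → w * w = 1 → v ≠ 1 → w ≠ 1 → v ≠ w →
    c * v * c⁻¹ = v * w → c⁻¹ * v * c⁻¹⁻¹ ≠ v * w := by decide +kernel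

theorem sq_eq_one (i : ℕ) (c : alternatingGroup (Fin 4)) (h : c ^ 2 ^ i = 1) : c * c = 1 := by
  refine pow_twelve c ?_
  obtain ⟨j, -, hj⟩ := (Nat.dvd_prime_pow Nat.prime_two).mp (orderOf_dvd_of_pow_eq_one h)
  have h12 : orderOf c ∣ 12 := by
    have := orderOf_dvd_natCard c
    rwa [Nat.card_eq_fintype_card, card_alternatingGroup, Fintype.card_fin, show Nat.factorial 4 / 2 = 12 by decide] at this
  rw [← orderOf_dvd_iff_pow_eq_one, hj]
  rw [hj] at h12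
  exact (Nat.Coprime.pow_left j (by norm_num : Nat.Coprime 2 3)).dvd_of_dvd_mul_right (show 2 ^ j ∣ 4 * 3 from h12)

theorem cube_eq_one (i : ℕ) (c : alternatingGroup (Fin 4)) (h : c ^ 3 ^ i = 1) : c ^ 3 = 1 := by
  refine pow_nine c ?_
  obtain ⟨j, -, hj⟩ := (Nat.dvd_prime_pow Nat.prime_three).mp (orderOf_dvd_of_pow_eq_one h)
  have h12 : orderOf c ∣ 12 := by
    have := orderOf_dvd_natCard c
    rwa [Nat.card_eq_fintype_card, card_alternatingGroup, Fintype.card_fin, show Nat.factorial 4 / 2 = 12 by decide] at this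
  rw [hj] at h12
  have h3 : 3 ^ j ∣ 3 := (Nat.Coprime.pow_left j (by norm_num : Nat.Coprime 3 4)).dvd_of_dvd_mul_left (show 3 ^ j ∣ 4 * 3 from h12)
  rw [← orderOf_dvd_iff_pow_eq_one, hj]
  exact h3.trans (by norm_num)

theorem exists_factor (Q : Sylow 3 (↥(alternatingGroup (Fin 4)) × ↥(alternatingGroup (Fin 4))))
    (f : (↥(alternatingGroup (Fin 4)) × ↥(alternatingGroup (Fin 4))) →* ↥(alternatingGroup (Fin 4)))
    (h9 : 3 ^ 2 ∣ Nat.card (Q : Subgroup (↥(alternatingGroup (Fin 4)) × ↥(alternatingGroup (Fin 4))))) :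
    ∃ c ∈ (Q : Subgroup _), c ≠ 1 ∧ f c = 1 := by
  by_contra hcon
  push Not at hcon
  have hinj : Function.Injective (f.comp (Q : Subgroup _).subtype) := by
    rw [injective_iff_map_eq_one]
    intro y hy
    by_contra hy1
    exact hcon y y.2 (fun e => hy1 (Subtype.ext e)) hy
  have := h9.trans (Subgroup.card_dvd_of_injective _ hinj)
  rw [Nat.card_eq_fintype_card, card_alternatingGroup, Fintype.card_fin] at this
  exact absurd this (by decide)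

/-- In the direct product P = A₄ × A₄, let X be the Sylow 2-subgroup, X₁ and X₂ its intersections with the two direct factors, Q a Sylow 3-subgroup and Q₁, Q₂ its intersections with the two factors. Then every subgroup B of X of order 4 either meets X₁ or X₂ nontrivially, or is normalized by one of the two subgroups of Q of order 3 other than Q₁ and Q₂. -/
theorem result
    (X : Sylow 2 (↥(alternatingGroup (Fin 4)) × ↥(alternatingGroup (Fin 4))))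
    (Q : Sylow 3 (↥(alternatingGroup (Fin 4)) × ↥(alternatingGroup (Fin 4))))
    (B : Subgroup (↥(alternatingGroup (Fin 4)) × ↥(alternatingGroup (Fin 4)))) (hBX : B ≤ (X : Subgroup _)) (hB4 : Nat.card ↥B = 4) :
    B ⊓ ((X : Subgroup _) ⊓ Subgroup.prod ⊤ ⊥) ≠ ⊥ ∨ B ⊓ ((X : Subgroup _) ⊓ Subgroup.prod ⊥ ⊤) ≠ ⊥ ∨
      ∃ R : Subgroup (↥(alternatingGroup (Fin 4)) × ↥(alternatingGroup (Fin 4))), R ≤ (Q : Subgroup _) ∧ Nat.card ↥R = 3 ∧
        R ≠ (Q : Subgroup _) ⊓ Subgroup.prod ⊤ ⊥ ∧ R ≠ (Q : Subgroup _) ⊓ Subgroup.prod ⊥ ⊤ ∧ R ≤ Subgroup.normalizer (B : Set _) := by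
  classical
  by_contra hcon
  push Not at hcon
  obtain ⟨h1, h2, h3⟩ := hcon
  have hinv : ∀ z : ↥(alternatingGroup (Fin 4)) × ↥(alternatingGroup (Fin 4)), z ∈ (X : Subgroup _) →
      z.1 * z.1 = 1 ∧ z.2 * z.2 = 1 := by
    intro z hz
    obtain ⟨i, hi⟩ := X.isPGroup' ⟨z, hz⟩
    have hi' : z ^ 2 ^ i = 1 := congrArg Subtype.val hi
    exact ⟨sq_eq_one i _ (congrArg Prod.fst hi'), sq_eq_one i _ (congrArg Prod.snd hi')⟩
  have hi1 : ∀ z ∈ B, z.2 = 1 → z = 1 := fun z hz he => by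
    have : z ∈ B ⊓ ((X : Subgroup _) ⊓ Subgroup.prod ⊤ ⊥) := ⟨hz, hBX hz, trivial, Subgroup.mem_bot.mpr he⟩
    rw [h1] at this; exact Subgroup.mem_bot.mp this
  have hi2 : ∀ z ∈ B, z.1 = 1 → z = 1 := fun z hz he => by
    have : z ∈ B ⊓ ((X : Subgroup _) ⊓ Subgroup.prod ⊥ ⊤) := ⟨hz, hBX hz, Subgroup.mem_bot.mpr he, trivial⟩
    rw [h2] at this; exact Subgroup.mem_bot.mp this
  have : Nontrivial B := Finite.one_lt_card_iff_nontrivial.mp (by rw [hB4]; norm_num : 1 < Nat.card B)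
  obtain ⟨⟨u, hu⟩, hu1⟩ := exists_ne (1 : B)
  have hu1' : u ≠ 1 := fun h => hu1 (Subtype.ext h)
  obtain ⟨⟨w, hw⟩, hw1, hwu⟩ : ∃ w : B, w ≠ 1 ∧ w ≠ ⟨u, hu⟩ := by
    by_contra hall
    push Not at hall
    have hsub : (Finset.univ : Finset B) ⊆ {1, ⟨u, hu⟩} := fun w _ => by
      by_cases hw : w = 1
      · simp [hw]
      · simp [hall w hw]
    have := (Finset.card_le_card hsub).trans Finset.card_le_two
    rw [Finset.card_univ, ← Nat.card_eq_fintype_card, hB4] at this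
    omega
  have hw1' : w ≠ 1 := fun h => hw1 (Subtype.ext h)
  have hwu' : w ≠ u := fun h => hwu (Subtype.ext h)
  obtain ⟨hu1a, hu2a⟩ := hinv u (hBX hu)
  obtain ⟨hw1a, hw2a⟩ := hinv w (hBX hw)
  have hne : ∀ z ∈ B, z ≠ 1 → z.1 ≠ 1 ∧ z.2 ≠ 1 := fun z hz h => ⟨fun e => h (hi2 z hz e), fun e => h (hi1 z hz e)⟩
  have huw : u.1 ≠ w.1 ∧ u.2 ≠ w.2 := by
    have h := hne (u * w⁻¹) (B.mul_mem hu (B.inv_mem hw)) (fun e => hwu' (mul_inv_eq_one.mp e).symm)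
    exact ⟨fun e => h.1 (by simp [e]), fun e => h.2 (by simp [e])⟩
  have hBsub : ∀ z ∈ B, z = 1 ∨ z = u ∨ z = w ∨ z = u * w := by
    have huw0 : u * w ≠ 1 ∧ u * w ≠ u ∧ u * w ≠ w := by
      refine ⟨fun e => hwu' ?_, fun e => hw1' (mul_eq_left.mp e), fun e => hu1' (mul_eq_right.mp e)⟩
      have huu : u * u = 1 := Prod.ext hu1a hu2a
      exact mul_left_cancel (e.trans huu.symm)
    let e1 : B := ⟨u, hu⟩
    let e2 : B := ⟨w, hw⟩
    have hc4 : ({1, e1, e2, e1 * e2} : Finset B).card = 4 := by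
      refine Finset.card_eq_four.mpr ⟨1, e1, e2, e1 * e2, Ne.symm hu1, Ne.symm hw1, fun e => huw0.1 (congrArg Subtype.val e).symm,
        Ne.symm hwu, fun e => huw0.2.1 (congrArg Subtype.val e).symm, fun e => huw0.2.2 (congrArg Subtype.val e).symm, rfl⟩
    have hall := Finset.eq_univ_of_card _ (hc4.trans (by rw [← Nat.card_eq_fintype_card, hB4]))
    intro z hz
    have hm : (⟨z, hz⟩ : B) ∈ ({1, e1, e2, e1 * e2} : Finset B) := by rw [hall]; exact Finset.mem_univ _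
    simpa [e1, e2, Subtype.ext_iff] using hm
  -- elements of order three in the two factors of `Q`
  have := Fact.mk Nat.prime_three
  have hQ9 : 3 ^ 2 ∣ Nat.card (Q : Subgroup (↥(alternatingGroup (Fin 4)) × ↥(alternatingGroup (Fin 4)))) := Q.pow_dvd_card_of_pow_dvd_card (n := 2) (by
    rw [Nat.card_prod, Nat.card_eq_fintype_card, card_alternatingGroup, Fintype.card_fin]; decide)
  obtain ⟨c, hcQ, hc1, hc3⟩ := exists_factor Q (MonoidHom.snd _ _) hQ9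
  obtain ⟨c', hcQ', hc1', hc3'⟩ := exists_factor Q (MonoidHom.fst _ _) hQ9
  have hc11 : c.1 ≠ 1 := fun h => hc1 (Prod.ext h hc3)
  have hc22 : c'.2 ≠ 1 := fun h => hc1' (Prod.ext hc3' h)
  have hcp : ∀ z : ↥(alternatingGroup (Fin 4)) × ↥(alternatingGroup (Fin 4)), z ∈ (Q : Subgroup _) →
      z.1 ^ 3 = 1 ∧ z.2 ^ 3 = 1 := by
    intro z hz
    obtain ⟨i, hi⟩ := Q.isPGroup' ⟨z, hz⟩
    have hi' : z ^ 3 ^ i = 1 := congrArg Subtype.val hi
    exact ⟨cube_eq_one i _ (congrArg Prod.fst hi'), cube_eq_one i _ (congrArg Prod.snd hi')⟩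
  obtain ⟨r, hrQ, hr1, hr2, hr⟩ : ∃ r ∈ (Q : Subgroup (↥(alternatingGroup (Fin 4)) × ↥(alternatingGroup (Fin 4)))), r.1 ≠ 1 ∧ r.2 ≠ 1 ∧
      ((r * u * r⁻¹ = w ∧ r * w * r⁻¹ = u * w) ∨ (r * u * r⁻¹ = u * w ∧ r * w * r⁻¹ = u)) := by
    have hE : (c'⁻¹).2 ≠ 1 := inv_ne_one.mpr hc22
    have k1 := cyc c.1 u.1 w.1 (hcp c hcQ).1 hc11 hu1a hw1a (hne u hu hu1').1 (hne w hw hw1').1 huw.1
    have k2 := cyc c'.2 u.2 w.2 (hcp c' hcQ').2 hc22 hu2a hw2a (hne u hu hu1').2 (hne w hw hw1').2 huw.2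
    have k3 := cyc (c'⁻¹).2 u.2 w.2 (hcp _ (inv_mem hcQ')).2 hE hu2a hw2a (hne u hu hu1').2 (hne w hw hw1').2 huw.2
    have p1 : (c * c').1 = c.1 := by show c.1 * c'.1 = c.1; rw [show c'.1 = 1 from hc3', mul_one]
    have p2 : (c * c').2 = c'.2 := by show c.2 * c'.2 = c'.2; rw [show c.2 = 1 from hc3, one_mul]
    have p3 : (c * c'⁻¹).1 = c.1 := by show c.1 * c'.1⁻¹ = c.1; rw [show c'.1 = 1 from hc3', inv_one, mul_one]
    have p4 : (c * c'⁻¹).2 = c'.2⁻¹ := by show c.2 * c'.2⁻¹ = c'.2⁻¹; rw [show c.2 = 1 from hc3, one_mul]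
    have e1 : c'.1 = 1 := hc3'
    have e2 : c.2 = 1 := hc3
    have opp1 := cyc_inv1 c'.2 u.2 w.2 (hcp c' hcQ').2 hc22 hu2a hw2a (hne u hu hu1').2 (hne w hw hw1').2 huw.2
    have opp := cyc_inv c'.2 u.2 w.2 (hcp c' hcQ').2 hc22 hu2a hw2a (hne u hu hu1').2 (hne w hw hw1').2 huw.2
    rcases k1 with ⟨a1, a2⟩ | ⟨a1, a2⟩ <;> rcases k2 with ⟨b1, b2⟩ | ⟨b1, b2⟩ <;> rcases k3 with ⟨d1, d2⟩ | ⟨d1, d2⟩ <;>
      first
        | exact absurd d1 (opp1 b1)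
        | exact absurd d1 (opp b1)
        | exact ⟨c * c', mul_mem hcQ hcQ', p1.symm ▸ hc11, p2.symm ▸ hc22, Or.inl ⟨Prod.ext (by simpa [e1, e2] using a1) (by simpa [e1, e2] using b1), Prod.ext (by simpa [e1, e2] using a2) (by simpa [e1, e2] using b2)⟩⟩
        | exact ⟨c * c', mul_mem hcQ hcQ', p1.symm ▸ hc11, p2.symm ▸ hc22, Or.inr ⟨Prod.ext (by simpa [e1, e2] using a1) (by simpa [e1, e2] using b1), Prod.ext (by simpa [e1, e2] using a2) (by simpa [e1, e2] using b2)⟩⟩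
        | exact ⟨c * c'⁻¹, mul_mem hcQ (inv_mem hcQ'), p3.symm ▸ hc11, p4.symm ▸ hE, Or.inl ⟨Prod.ext (by simpa [e1, e2] using a1) (by simpa [e1, e2] using d1), Prod.ext (by simpa [e1, e2] using a2) (by simpa [e1, e2] using d2)⟩⟩
        | exact ⟨c * c'⁻¹, mul_mem hcQ (inv_mem hcQ'), p3.symm ▸ hc11, p4.symm ▸ hE, Or.inr ⟨Prod.ext (by simpa [e1, e2] using a1) (by simpa [e1, e2] using d1), Prod.ext (by simpa [e1, e2] using a2) (by simpa [e1, e2] using d2)⟩⟩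
  have hr3 : orderOf r = 3 := by
    refine orderOf_eq_prime (Prod.ext (hcp r hrQ).1 (hcp r hrQ).2) fun e => hr1 (by rw [e]; rfl)
  refine h3 (Subgroup.zpowers r) (Subgroup.zpowers_le.mpr hrQ) (by rw [Nat.card_zpowers, hr3]) ?_ ?_ ?_
  · intro e
    have : r ∈ (Q : Subgroup _) ⊓ Subgroup.prod ⊤ ⊥ := e ▸ Subgroup.mem_zpowers r
    exact hr2 (Subgroup.mem_bot.mp this.2.2)
  · intro e
    have : r ∈ (Q : Subgroup _) ⊓ Subgroup.prod ⊥ ⊤ := e ▸ Subgroup.mem_zpowers r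
    exact hr1 (Subgroup.mem_bot.mp this.2.1)
  · refine Subgroup.zpowers_le.mpr (Subgroup.mem_normalizer_fintype fun z hz => ?_)
    rcases hBsub z hz with rfl | rfl | rfl | rfl
    · rw [mul_one, mul_inv_cancel]; exact B.one_mem
    · rcases hr with ⟨e, -⟩ | ⟨e, -⟩ <;> rw [e]
      exacts [hw, B.mul_mem hu hw]
    · rcases hr with ⟨-, e⟩ | ⟨-, e⟩ <;> rw [e]
      exacts [B.mul_mem hu hw, hu]
    · rw [show r * (u * w) * r⁻¹ = (r * u * r⁻¹) * (r * w * r⁻¹) by group]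
      rcases hr with ⟨e, e'⟩ | ⟨e, e'⟩ <;> rw [e, e']
      exacts [B.mul_mem hw (B.mul_mem hu hw), B.mul_mem (B.mul_mem hu hw) hu]

end Cfsg.Agent.S4406
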