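import Cfsg.Statements.S4408
import Cfsg.Agent.Lib.Base.MinimalNormal
import Cfsg.Agent.Lib.Base.Fitting
import Cfsg.Agent.Lib.Coprime.Action2

set_option autoImplicit false
open Cfsg

namespace Cfsg.Agent.S4408

open scoped Pointwise

variable {S : Type*} [Group S] [Finite S]

/-- Coprime involution centralising a self-centralising part of a nilpotent group. -/
theorem centralizes_of_fixed (D : Subgroup S) (hnil : Group.IsNilpotent D)
    (hodd : Odd (Nat.card D)) (j : S) (hj : j * j = 1) (hjD : ∀ u ∈ D, j * u * j⁻¹ ∈ D)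
    (h : ∀ v ∈ D, (∀ c ∈ D, j * c * j⁻¹ = c → v * c = c * v) → j * v * j⁻¹ = v) :
    ∀ u ∈ D, j * u * j⁻¹ = u := by
  set C := D ⊓ Subgroup.centralizer ({j} : Set S) with hC
  have hmem : ∀ u, u ∈ C ↔ u ∈ D ∧ j * u * j⁻¹ = u := by
    intro u
    rw [hC, Subgroup.mem_inf, Subgroup.mem_centralizer_singleton_iff, mul_inv_eq_iff_eq_mul]
    exact and_congr_right fun _ => eq_comm
  suffices hDC : D ≤ C from fun u hu => ((hmem u).1 (hDC hu)).2
  by_contra hne
  have hlt : C.subgroupOf D < ⊤ := lt_top_iff_ne_top.mpr fun he =>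
    hne (Subgroup.subgroupOf_eq_top.mp he)
  obtain ⟨x, hx, hxC⟩ := SetLike.exists_of_lt (Group.normalizerCondition_of_isNilpotent _ hlt)
  rw [← Subgroup.subgroupOf_normalizer_eq inf_le_left, Subgroup.mem_subgroupOf] at hx
  apply hxC
  rw [Subgroup.mem_subgroupOf, hmem]
  refine ⟨x.2, ?_⟩
  obtain ⟨u, hu⟩ := x
  dsimp only at hx ⊢
  set v := u⁻¹ * (j * u * j⁻¹) with hv
  have hvD : v ∈ D := D.mul_mem (D.inv_mem hu) (hjD u hu)
  have hvj : j * v * j⁻¹ = v := by
    refine h v hvD fun c hc hcj => ?_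
    have hcc : u * c * u⁻¹ ∈ C := (Subgroup.mem_normalizer_iff.mp hx c).mp ((hmem c).2 ⟨hc, hcj⟩)
    have h2 := ((hmem _).1 hcc).2
    have h3 : j * u * j⁻¹ * c * (j * u * j⁻¹)⁻¹ = u * c * u⁻¹ := by
      calc j * u * j⁻¹ * c * (j * u * j⁻¹)⁻¹
          = j * u * j⁻¹ * (j * c * j⁻¹) * (j * u * j⁻¹)⁻¹ := by rw [hcj]
        _ = j * (u * c * u⁻¹) * j⁻¹ := by group
        _ = u * c * u⁻¹ := h2
    calc v * c = u⁻¹ * (j * u * j⁻¹ * c * (j * u * j⁻¹)⁻¹) * (j * u * j⁻¹) := by rw [hv]; group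
      _ = u⁻¹ * (u * c * u⁻¹) * (j * u * j⁻¹) := by rw [h3]
      _ = c * v := by rw [hv]; group
  have h4 : v * v = 1 := by
    calc v * v = v * (j * v * j⁻¹) := by rw [hvj]
      _ = u⁻¹ * (j * u * j⁻¹) * (j * u⁻¹ * (j * u * j⁻¹) * j⁻¹) := by rw [hv]; group
      _ = u⁻¹ * ((j * j) * u * (j * j)⁻¹) := by group
      _ = 1 := by rw [hj]; group
  have hv1 : v = 1 := by
    have ho : orderOf v ∣ Nat.card D := Subgroup.orderOf_dvd_natCard D hvD
    have h5 : orderOf v ∣ 2 := orderOf_dvd_of_pow_eq_one (by rw [pow_two]; exact h4)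
    rcases (Nat.dvd_prime Nat.prime_two).1 h5 with h6 | h6
    · exact orderOf_eq_one_iff.1 h6
    · rw [h6] at ho
      exact absurd ho (fun h7 => Nat.not_even_iff_odd.2 hodd (even_iff_two_dvd.2 h7))
  rw [hv, inv_mul_eq_one] at hv1
  exact hv1.symm

theorem mem_normalizer_zpowers (w a : S) (hw : w * w = 1)
    (h : w * a * w⁻¹ = a ∨ w * a * w⁻¹ = a⁻¹) :
    w ∈ Subgroup.normalizer (Subgroup.zpowers a : Set S) := by
  have key : ∀ x ∈ Subgroup.zpowers a, w * x * w⁻¹ ∈ Subgroup.zpowers a := by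
    intro x hx
    obtain ⟨k, rfl⟩ := Subgroup.mem_zpowers_iff.1 hx
    rw [← conj_zpow]
    refine Subgroup.zpow_mem _ ?_ k
    rcases h with h | h <;> rw [h]
    · exact Subgroup.mem_zpowers a
    · exact Subgroup.inv_mem _ (Subgroup.mem_zpowers a)
  rw [Subgroup.mem_normalizer_iff]
  refine fun x => ⟨key x, fun hx => ?_⟩
  have h2 := key _ hx
  rwa [show w * (w * x * w⁻¹) * w⁻¹ = x by
    calc w * (w * x * w⁻¹) * w⁻¹ = (w * w) * x * (w * w)⁻¹ := by group
      _ = x := by rw [hw]; group] at h2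

/-- The inductive statement. -/
theorem frame (I : Subgroup S) [IsMulCommutative I] (hI : ∀ w ∈ I, w * w = 1) :
    ∀ (n : ℕ) (J D : Subgroup S), Nat.card J = 2 ^ n → J ≤ I → Group.IsNilpotent D →
      Odd (Nat.card D) → I ≤ Subgroup.normalizer (D : Set S) →
      J ⊓ Subgroup.centralizer (D : Set S) = ⊥ →
      ∃ (a t : Fin n → S), (∀ i, a i ∈ D) ∧ (∀ i, (orderOf (a i)).Prime) ∧
        (∀ i, t i ∈ J ∧ t i * a i * (t i)⁻¹ = (a i)⁻¹) ∧
        (∀ i k, k ≠ i → t i * a k * (t i)⁻¹ = a k) ∧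
        (∀ i k, a i * a k = a k * a i) ∧
        (∀ w ∈ I, ∀ i, w * a i * w⁻¹ = a i ∨ w * a i * w⁻¹ = (a i)⁻¹) ∧
        (∀ w ∈ J, (∀ i, w * a i * w⁻¹ = a i) → w = 1) ∧
        Nat.card ↥(⨆ i, Subgroup.zpowers (a i)) = ∏ i, orderOf (a i) := by
  have hcom : ∀ u ∈ I, ∀ w ∈ I, u * w = w * u := fun u hu w hw =>
    congrArg Subtype.val (mul_comm' (⟨u, hu⟩ : I) ⟨w, hw⟩)
  intro n
  induction n with
  | zero =>
    intro J D hJ _ _ _ _ _
    refine ⟨fun i => i.elim0, fun i => i.elim0, fun i => i.elim0, fun i => i.elim0,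
      fun i => i.elim0, fun i => i.elim0, fun i => i.elim0, fun _ _ i => i.elim0, ?_, ?_⟩
    · intro w hw _
      have h1 : J = ⊥ := Subgroup.card_eq_one.1 (by simpa using hJ)
      rw [h1, Subgroup.mem_bot] at hw
      exact hw
    · simp
  | succ n ih =>
    intro J D hJ hJI hnil hodd hID hbot
    have hJne : J ≠ ⊥ := by
      intro h
      rw [h, Subgroup.card_bot] at hJ
      exact (Nat.one_lt_two_pow (Nat.succ_ne_zero n)).ne hJ
    have hcop : (Nat.card I).Coprime (Nat.card D) := by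
      have hI2 : IsPGroup 2 I := fun x => ⟨1, Subtype.ext (by
        simpa [pow_two] using hI x x.2)⟩
      obtain ⟨m, hm⟩ := IsPGroup.iff_card.1 hI2
      rw [hm]
      exact (Nat.coprime_two_left.2 hodd).pow_left m
    obtain ⟨B, hBI, ⟨x, hxI, hBx⟩, hBne⟩ : ∃ B : Subgroup S, B ≤ I ∧
        (∃ x ∈ I, B ⊔ Subgroup.zpowers x = I) ∧
        ¬ D ⊓ Subgroup.centralizer (B : Set S) ≤ D ⊓ Subgroup.centralizer (J : Set S) := by
      by_contra hno
      push Not at hno
      have h := CfsgLib.Coprime.le_of_cyclic_quotient hID hcop hno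
      exact hJne (le_bot_iff.1 (hbot ▸ le_inf le_rfl
        (Subgroup.le_centralizer_iff.mp (h.trans inf_le_right))))
    obtain ⟨y, hyB, hyJ⟩ := SetLike.not_le_iff_exists.1 hBne
    have hyD : y ∈ D := hyB.1
    have hconjD : ∀ w ∈ I, ∀ u ∈ D, w * u * w⁻¹ ∈ D := fun w hw u hu =>
      (Subgroup.mem_normalizer_iff.mp (hID hw) u).mp hu
    -- the elements of `I` are `b` or `b * x`
    have hIx : ∀ w ∈ I, w ∈ B ∨ ∃ b ∈ B, w = b * x := by
      intro w hw
      have hBn : B ≤ Subgroup.normalizer (Subgroup.zpowers x : Set S) := fun b hb =>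
        mem_normalizer_zpowers b x (hI b (hBI hb)) (Or.inl (by
          rw [hcom b (hBI hb) x hxI, mul_inv_cancel_right]))
      rw [← hBx] at hw
      obtain ⟨b, hb, c, hc, rfl⟩ := (CfsgLib.Coprime.mem_sup_iff_of_le_normalizer hBn).1 hw
      obtain ⟨k, rfl⟩ := Subgroup.mem_zpowers_iff.1 hc
      rcases Int.even_or_odd k with ⟨m, rfl⟩ | ⟨m, rfl⟩
      · left
        have : x ^ (m + m) = 1 := by
          rw [zpow_add, ← (Commute.refl x).mul_zpow, hI x hxI, one_zpow]
        rwa [this, mul_one]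
      · right
        refine ⟨b, hb, ?_⟩
        have : x ^ (2 * m + 1) = x := by
          rw [zpow_add_one, two_mul, zpow_add, ← (Commute.refl x).mul_zpow, hI x hxI, one_zpow,
            one_mul]
        rw [this]
    have hBy : ∀ b ∈ B, b * y = y * b := fun b hb => Subgroup.mem_centralizer_iff.mp hyB.2 b hb
    obtain ⟨j, hjJ, hjy⟩ : ∃ j ∈ J, j * y ≠ y * j := by
      by_contra hno
      push Not at hno
      exact hyJ ⟨hyD, Subgroup.mem_centralizer_iff.mpr hno⟩
    obtain ⟨bj, hbj, rfl⟩ : ∃ b ∈ B, j = b * x := by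
      rcases hIx j (hJI hjJ) with h | h
      · exact absurd (hBy j h) hjy
      · exact h
    have hxy : x * y ≠ y * x := by
      intro h
      apply hjy
      rw [mul_assoc, h, ← mul_assoc, hBy bj hbj, mul_assoc]
    set z := y⁻¹ * (x * y * x⁻¹) with hz
    have hzD : z ∈ D := D.mul_mem (D.inv_mem hyD) (hconjD x hxI y hyD)
    have hz1 : z ≠ 1 := by
      intro h
      rw [hz, inv_mul_eq_one, eq_mul_inv_iff_mul_eq] at h
      exact hxy h.symm
    have hxz : x * z * x⁻¹ = z⁻¹ := by
      calc x * z * x⁻¹ = (x * y⁻¹ * x⁻¹) * ((x * x) * y * (x * x)⁻¹) := by rw [hz]; group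
        _ = z⁻¹ := by rw [hI x hxI, hz]; group
    have hbz : ∀ b ∈ B, b * z = z * b := by
      intro b hb
      have c1 : Commute b x := hcom b (hBI hb) x hxI
      have c2 : Commute b y := hBy b hb
      rw [hz]
      exact (c2.inv_right.mul_right ((c1.mul_right c2).mul_right c1.inv_right)).eq
    set p := (orderOf z).minFac with hp
    have hoz : orderOf z ≠ 1 := fun h => hz1 (orderOf_eq_one_iff.1 h)
    have hpp : p.Prime := Nat.minFac_prime hoz
    set a := z ^ (orderOf z / p) with ha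
    have hoa : orderOf a = p :=
      orderOf_pow_orderOf_div (orderOf_pos z).ne' (Nat.minFac_dvd _)
    have haD : a ∈ D := D.pow_mem hzD _
    have hxa : x * a * x⁻¹ = a⁻¹ := by rw [ha, ← conj_pow, hxz, inv_pow]
    have hba : ∀ b ∈ B, b * a = a * b := fun b hb => ((show Commute b z from hbz b hb).pow_right _).eq
    have haI : ∀ w ∈ I, w * a * w⁻¹ = a ∨ w * a * w⁻¹ = a⁻¹ := by
      intro w hw
      rcases hIx w hw with h | ⟨b, hb, rfl⟩
      · left; rw [hba w h, mul_inv_cancel_right]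
      · right
        calc b * x * a * (b * x)⁻¹ = b * (x * a * x⁻¹) * b⁻¹ := by group
          _ = a⁻¹ := by
            rw [hxa, ((show Commute b a from hba b hb).inv_right).eq, mul_inv_cancel_right]
    have hja : bj * x * a * (bj * x)⁻¹ = a⁻¹ := by
      calc bj * x * a * (bj * x)⁻¹ = bj * (x * a * x⁻¹) * bj⁻¹ := by group
        _ = a⁻¹ := by
          rw [hxa, ((show Commute bj a from hba bj hbj).inv_right).eq, mul_inv_cancel_right]
    have hane : a⁻¹ ≠ a := by
      intro h
      have h2 : p ∣ 2 := hoa ▸ orderOf_dvd_of_pow_eq_one (by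
        rw [pow_two]; nth_rewrite 1 [← h]; rw [inv_mul_cancel])
      have h3 : p ∣ Nat.card D := hoa ▸ Subgroup.orderOf_dvd_natCard D haD
      rw [(Nat.prime_dvd_prime_iff_eq hpp Nat.prime_two).1 h2] at h3
      exact Nat.not_even_iff_odd.2 hodd (even_iff_two_dvd.2 h3)
    set J' := J ⊓ Subgroup.centralizer ({a} : Set S) with hJ'
    set D' := D ⊓ Subgroup.centralizer ({a} : Set S) with hD'
    have hmemJ' : ∀ w, w ∈ J' ↔ w ∈ J ∧ w * a * w⁻¹ = a := by
      intro w
      rw [hJ', Subgroup.mem_inf, Subgroup.mem_centralizer_singleton_iff, mul_inv_eq_iff_eq_mul]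
    have hJ'card : Nat.card J' = 2 ^ n := by
      have hind : (J'.subgroupOf J).index = 2 := by
        rw [Subgroup.index_eq_two_iff]
        refine ⟨⟨bj * x, hjJ⟩, fun b => ?_⟩
        have hmul : (b * ⟨bj * x, hjJ⟩ : J).1 * a * ((b * ⟨bj * x, hjJ⟩ : J).1)⁻¹
            = (b.1 * a * b.1⁻¹)⁻¹ := by
          calc _ = b.1 * (bj * x * a * (bj * x)⁻¹) * b.1⁻¹ := by
                rw [Subgroup.coe_mul]; group
            _ = _ := by rw [hja]; group
        rw [Subgroup.mem_subgroupOf, Subgroup.mem_subgroupOf, hmemJ', hmemJ', hmul]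
        rcases haI b.1 (hJI b.2) with h | h
        · exact Or.inr ⟨⟨b.2, h⟩, fun h' => hane (by have h2 := h'.2; rwa [h] at h2)⟩
        · exact Or.inl ⟨⟨(b * _ : J).2, by rw [h, inv_inv]⟩, fun h' => hane (h ▸ h'.2)⟩
      have h1 := Subgroup.card_mul_index (J'.subgroupOf J)
      rw [hind, hJ, Nat.card_congr (Subgroup.subgroupOfEquivOfLe
        (show J' ≤ J from inf_le_left)).toEquiv, pow_succ] at h1
      omega
    have hID' : I ≤ Subgroup.normalizer (D' : Set S) := by
      intro w hw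
      rw [Subgroup.mem_normalizer_iff]
      have key : ∀ u ∈ D', w * u * w⁻¹ ∈ D' := by
        intro u hu
        refine ⟨hconjD w hw u hu.1, Subgroup.mem_centralizer_singleton_iff.mpr ?_⟩
        have h2 : Commute u a := Subgroup.mem_centralizer_singleton_iff.mp hu.2
        have h3 : Commute (w * u * w⁻¹) (w * a * w⁻¹) := (show w * u * w⁻¹ * (w * a * w⁻¹) = w * a * w⁻¹ * (w * u * w⁻¹) by
            calc w * u * w⁻¹ * (w * a * w⁻¹) = w * (u * a) * w⁻¹ := by group
              _ = w * (a * u) * w⁻¹ := by rw [h2.eq]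
              _ = _ := by group)
        rcases haI w hw with h | h <;> rw [h] at h3
        · exact h3.eq
        · simpa using h3.inv_right.eq
      refine fun u => ⟨key u, fun hu => ?_⟩
      have h2 := key _ hu
      rwa [show w * (w * u * w⁻¹) * w⁻¹ = u by
        calc w * (w * u * w⁻¹) * w⁻¹ = (w * w) * u * (w * w)⁻¹ := by group
          _ = u := by rw [hI w hw]; group] at h2
    have hbot' : J' ⊓ Subgroup.centralizer (D' : Set S) = ⊥ := by
      rw [eq_bot_iff]
      rintro w ⟨hw, hwc⟩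
      obtain ⟨hwJ, hwa⟩ := (hmemJ' w).1 hw
      rw [← hbot]
      refine ⟨hwJ, Subgroup.mem_centralizer_iff.mpr fun u hu => ?_⟩
      have h := centralizes_of_fixed D hnil hodd w (hI w (hJI hwJ)) (hconjD w (hJI hwJ))
        (fun v hv hc => ?_) u hu
      · exact (mul_inv_eq_iff_eq_mul.1 h).symm
      · have hv' : v ∈ D' := ⟨hv, Subgroup.mem_centralizer_singleton_iff.mpr (hc a haD hwa)⟩
        rw [mul_inv_eq_iff_eq_mul]
        exact (Subgroup.mem_centralizer_iff.mp hwc v hv').symm
    obtain ⟨a', t', ha'D, ha'p, ht', ht'f, ha'c, ha'I, ha'1, hcard'⟩ := ih J' D' hJ'card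
      (inf_le_left.trans hJI) (CfsgLib.Base.isNilpotent_of_le inf_le_left hnil)
      (hodd.of_dvd_nat (Subgroup.card_dvd_of_le inf_le_left)) hID' hbot'
    -- adjust `bj * x` so that it fixes all `a' i`
    obtain ⟨t₀, ht₀J, ht₀a, ht₀f⟩ : ∃ t ∈ J, t * a * t⁻¹ = a⁻¹ ∧
        ∀ i ∈ (Finset.univ : Finset (Fin n)), t * a' i * t⁻¹ = a' i := by
      generalize (Finset.univ : Finset (Fin n)) = s
      induction s using Finset.induction_on with
      | empty => exact ⟨bj * x, hjJ, hja, fun i hi => absurd hi (Finset.notMem_empty i)⟩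
      | @insert i s his ihs =>
        obtain ⟨t, htJ, hta, htf⟩ := ihs
        rcases ha'I t (hJI htJ) i with h | h
        · exact ⟨t, htJ, hta, fun k hk => (Finset.mem_insert.1 hk).elim
            (fun hki => hki ▸ h) (htf k)⟩
        · refine ⟨t * t' i, J.mul_mem htJ ((hmemJ' _).1 (ht' i).1).1, ?_, fun k hk => ?_⟩
          · calc t * t' i * a * (t * t' i)⁻¹ = t * (t' i * a * (t' i)⁻¹) * t⁻¹ := by group
              _ = a⁻¹ := by rw [((hmemJ' _).1 (ht' i).1).2, hta]
          · have e : t * t' i * a' k * (t * t' i)⁻¹ = t * (t' i * a' k * (t' i)⁻¹) * t⁻¹ := by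
              group
            rw [e]
            rcases Finset.mem_insert.1 hk with rfl | hks
            · calc t * (t' k * a' k * (t' k)⁻¹) * t⁻¹ = t * (a' k)⁻¹ * t⁻¹ := by rw [(ht' k).2]
                _ = (t * a' k * t⁻¹)⁻¹ := by group
                _ = a' k := by rw [h, inv_inv]
            · rw [ht'f i k (fun he => his (he ▸ hks)), htf k hks]
    have hac' : ∀ i, a * a' i = a' i * a := fun i =>
      (Subgroup.mem_centralizer_singleton_iff.mp (ha'D i).2).symm
    refine ⟨Fin.cons a a', Fin.cons t₀ t', Fin.cases haD fun i => (ha'D i).1,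
      Fin.cases (by rw [Fin.cons_zero, hoa]; exact hpp) fun i => by simpa using ha'p i,
      Fin.cases (by simpa using And.intro ht₀J ht₀a) fun i => by
        simpa using And.intro ((hmemJ' _).1 (ht' i).1).1 (ht' i).2,
      Fin.cases (Fin.cases (fun h => absurd rfl h) fun k _ => by
          simpa using ht₀f k (Finset.mem_univ k))
        fun i => Fin.cases (fun _ => by simpa using ((hmemJ' _).1 (ht' i).1).2)
          fun k hk => by simpa using ht'f i k (fun he => hk (he ▸ rfl)),
      Fin.cases (Fin.cases rfl fun k => by simpa using hac' k)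
        fun i => Fin.cases (by simpa using (hac' i).symm) fun k => by simpa using ha'c i k,
      fun w hw => Fin.cases (by simpa using haI w hw) fun i => by simpa using ha'I w hw i,
      fun w hw hfix => ha'1 w ((hmemJ' w).2 ⟨hw, by simpa using hfix 0⟩)
        (fun i => by simpa using hfix i.succ), ?_⟩
    set X := ⨆ i, Subgroup.zpowers (a' i) with hX
    have hsup : (⨆ i, Subgroup.zpowers ((Fin.cons a a' : Fin (n + 1) → S) i)) = Subgroup.zpowers a ⊔ X := by
      apply le_antisymm
      · refine iSup_le (Fin.cases ?_ fun i => ?_)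
        · rw [Fin.cons_zero]; exact le_sup_left
        · rw [Fin.cons_succ]
          exact le_sup_of_le_right (le_iSup (fun k => Subgroup.zpowers (a' k)) i)
      · refine sup_le ?_ (iSup_le fun i => ?_)
        · exact le_trans (by simp) (le_iSup
            (fun k => Subgroup.zpowers ((Fin.cons a a' : Fin (n + 1) → S) k)) 0)
        · exact le_trans (by simp) (le_iSup
            (fun k => Subgroup.zpowers ((Fin.cons a a' : Fin (n + 1) → S) k)) i.succ)
    have hXa : X ≤ Subgroup.centralizer ({a} : Set S) := iSup_le fun i =>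
      Subgroup.zpowers_le.mpr (Subgroup.mem_centralizer_singleton_iff.mpr (hac' i).symm)
    have hXt : X ≤ Subgroup.centralizer ({t₀} : Set S) := iSup_le fun i =>
      Subgroup.zpowers_le.mpr (Subgroup.mem_centralizer_singleton_iff.mpr
        (mul_inv_eq_iff_eq_mul.1 (ht₀f i (Finset.mem_univ i))).symm)
    have hdisj : Disjoint (Subgroup.zpowers a) X := by
      rw [disjoint_iff, eq_bot_iff]
      rintro u ⟨hu, huX⟩
      obtain ⟨k, rfl⟩ := Subgroup.mem_zpowers_iff.1 hu
      have h1 : (a ^ k) * t₀ = t₀ * a ^ k := Subgroup.mem_centralizer_singleton_iff.mp (hXt huX)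
      have h2 : t₀ * a ^ k * t₀⁻¹ = (a⁻¹) ^ k := by rw [← conj_zpow, ht₀a]
      rw [← h1, mul_inv_cancel_right, inv_zpow] at h2
      have h3 : (a ^ k) ^ 2 = 1 := by rw [pow_two]; nth_rewrite 1 [h2]; rw [inv_mul_cancel]
      rw [Subgroup.mem_bot]
      have h4 : orderOf (a ^ k) ∣ 2 := orderOf_dvd_of_pow_eq_one h3
      rcases (Nat.dvd_prime Nat.prime_two).1 h4 with h5 | h5
      · exact orderOf_eq_one_iff.1 h5
      · have h6 := Subgroup.orderOf_dvd_natCard D (D.zpow_mem haD k)
        rw [h5] at h6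
        exact absurd (even_iff_two_dvd.2 h6) (Nat.not_even_iff_odd.2 hodd)
    have hcomm : ∀ (u : Subgroup.zpowers a) (v : X),
        Commute ((Subgroup.zpowers a).subtype u) (X.subtype v) := by
      rintro ⟨u, hu⟩ ⟨v, hv⟩
      obtain ⟨k, rfl⟩ := Subgroup.mem_zpowers_iff.1 hu
      exact ((show Commute a v from
        (Subgroup.mem_centralizer_singleton_iff.mp (hXa hv)).symm).zpow_left k)
    set f := (Subgroup.zpowers a).subtype.noncommCoprod X.subtype hcomm
    have hinj : Function.Injective f := by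
      rw [MonoidHom.noncommCoprod_injective, Subgroup.range_subtype, Subgroup.range_subtype]
      exact ⟨Subgroup.subtype_injective _, Subgroup.subtype_injective _, hdisj⟩
    have hrange : f.range = Subgroup.zpowers a ⊔ X := by
      rw [MonoidHom.noncommCoprod_range, Subgroup.range_subtype, Subgroup.range_subtype]
    rw [Fin.prod_univ_succ, hsup, ← hrange, ← Nat.card_congr (MonoidHom.ofInjective hinj).toEquiv,
      Nat.card_prod, Nat.card_zpowers, hX, hcard']
    simp

/-- Let S be a finite solvable group whose Fitting subgroup F(S) has odd order, and let I be an elementary abelian 2-subgroup of S of order 2ⁿ with n ≥ 1. Then F(S) contains subgroups A₁, …, Aₙ of prime order, each normalized by I, pairwise commuting and generating a subgroup A of order |A₁|⋯|Aₙ| (their internal direct product), such that no non-identity element of I centralizes A. -/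
theorem result {S : Type*} [Group S] [Finite S]
    [Group.IsSolvable S] (hF : Odd (Nat.card ↥(Cfsg.fittingSubgroup S)))
    (I : Subgroup S) (hI : Cfsg.IsElementaryAbelian 2 I) (n : ℕ) (hn : 1 ≤ n) (hIn : Nat.card ↥I = 2 ^ n) :
    ∃ f : Fin n → Subgroup S, (∀ i, (Nat.card ↥(f i)).Prime) ∧ (∀ i, f i ≤ Cfsg.fittingSubgroup S) ∧
      (∀ i, I ≤ Subgroup.normalizer ((f i) : Set S)) ∧ (∀ i j, i ≠ j → ∀ a ∈ f i, ∀ b ∈ f j, a * b = b * a) ∧
      Nat.card ↥(⨆ i, f i) = ∏ i, Nat.card ↥(f i) ∧ I ⊓ Subgroup.centralizer ((⨆ i, f i : Subgroup S) : Set S) = ⊥ := by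
  haveI : IsMulCommutative I := hI.1
  have hI2 : ∀ w ∈ I, w * w = 1 := fun w hw => by rw [← pow_two]; exact hI.2 w hw
  haveI := CfsgLib.Base.fittingSubgroup_normal' S
  have hdisj : I ⊓ Cfsg.fittingSubgroup S = ⊥ := Subgroup.inf_eq_bot_of_coprime (by
    rw [hIn]; exact (Nat.coprime_two_left.2 hF).pow_left n)
  have hbot : I ⊓ Subgroup.centralizer (Cfsg.fittingSubgroup S : Set S) = ⊥ :=
    le_bot_iff.1 (hdisj ▸ inf_le_inf_left I CfsgLib.Base.centralizer_fittingSubgroup_le)
  obtain ⟨a, t, haF, hap, -, -, hac, haI, ha1, hcard⟩ := frame I hI2 n I (Cfsg.fittingSubgroup S)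
    hIn le_rfl (CfsgLib.Base.isNilpotent_fittingSubgroup S) hF
    (by rw [Subgroup.normalizer_eq_top]; exact le_top) hbot
  refine ⟨fun i => Subgroup.zpowers (a i), fun i => by rw [Nat.card_zpowers]; exact hap i,
    fun i => Subgroup.zpowers_le.mpr (haF i),
    fun i w hw => mem_normalizer_zpowers w (a i) (hI2 w hw) (haI w hw i), ?_, ?_, ?_⟩
  · intro i j _ u hu v hv
    obtain ⟨k, rfl⟩ := Subgroup.mem_zpowers_iff.1 hu
    obtain ⟨l, rfl⟩ := Subgroup.mem_zpowers_iff.1 hv
    exact ((show Commute (a i) (a j) from hac i j).zpow_left k).zpow_right l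
  · simp only [Nat.card_zpowers]
    exact hcard
  · rw [eq_bot_iff]
    rintro w ⟨hw, hwc⟩
    refine Subgroup.mem_bot.mpr (ha1 w hw fun i => ?_)
    have h : a i * w = w * a i := Subgroup.mem_centralizer_iff.mp hwc (a i)
      (Subgroup.mem_iSup_of_mem i (Subgroup.mem_zpowers (a i)))
    rw [← h, mul_inv_cancel_right]

end Cfsg.Agent.S4408
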