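import Cfsg.Statements.S4410
import Cfsg.Agent.Lib.Base.MinimalNormal
import Cfsg.Agent.Lib.Base.Cores
import Cfsg.Agent.Lib.Base.Fitting
import Mathlib.LinearAlgebra.Matrix.GeneralLinearGroup.Card

set_option autoImplicit false
open Cfsg

namespace Cfsg.Agent.S4410

open Subgroup CfsgLib
set_option linter.style.haveILetI false
set_option linter.unusedSectionVars false

variable {V : Type*} [AddCommGroup V] [Module (ZMod 2) V] [Finite V]

theorem add_self (v : V) : v + v = 0 := by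
  rw [← two_smul (ZMod 2) v, show (2 : ZMod 2) = 0 by decide, zero_smul]

theorem finite_equiv : Finite (V ≃ₗ[ZMod 2] V) :=
  Finite.of_injective (fun e => (e : V → V)) DFunLike.coe_injective

/-- The automorphisms moving every vector inside `W`. -/
def stab (W : Submodule (ZMod 2) V) : Subgroup (V ≃ₗ[ZMod 2] V) where
  carrier := {g | ∀ v, g v - v ∈ W}
  mul_mem' {g h} hg hh v := by
    rw [LinearEquiv.mul_apply, ← sub_add_sub_cancel (g (h v)) (h v) v]
    exact W.add_mem (hg _) (hh v)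
  one_mem' v := by simp
  inv_mem' {g} hg v := by
    have h := hg (g⁻¹ v)
    rw [← LinearEquiv.mul_apply, mul_inv_cancel, LinearEquiv.coe_one, id_eq] at h
    rw [← neg_sub]
    exact W.neg_mem h

theorem mapsTo_stab {W : Submodule (ZMod 2) V} (g : stab W) : ∀ w ∈ W, g.1 w ∈ W := fun w hw => by
  rw [← sub_add_cancel (g.1 w) w]
  exact W.add_mem (g.2 w) hw

/-- Restriction to `W`. -/
noncomputable def resHom (W : Submodule (ZMod 2) V) : stab W →* Module.End (ZMod 2) W where
  toFun g := (g.1 : V →ₗ[ZMod 2] V).restrict (mapsTo_stab g)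
  map_one' := LinearMap.ext fun w => Subtype.ext rfl
  map_mul' g h := LinearMap.ext fun w => Subtype.ext rfl

/-- Kernel elements of the restriction square to one. -/
theorem sq_eq_one_of_ker {W : Submodule (ZMod 2) V} {g : stab W}
    (h : (resHom W).toHomUnits g = 1) : g ^ 2 = 1 := by
  refine Subtype.ext (LinearEquiv.ext fun v => ?_)
  have h1 : resHom W g = 1 := congrArg Units.val h
  have h2 : g.1 (g.1 v - v) = g.1 v - v := congrArg Subtype.val (LinearMap.congr_fun h1 ⟨_, g.2 v⟩)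
  rw [map_sub, sub_eq_iff_eq_add] at h2
  rw [SubgroupClass.coe_pow, sq, LinearEquiv.mul_apply, OneMemClass.coe_one, LinearEquiv.coe_one, id_eq,
    h2, sub_add_eq_add_sub, add_self, zero_sub]
  exact neg_eq_of_add_eq_zero_left (add_self v)

theorem card_units_dvd {W : Submodule (ZMod 2) V} :
    (Module.finrank (ZMod 2) W ≤ 2 → Nat.card (Module.End (ZMod 2) W)ˣ ∣ 6) ∧
    (Module.finrank (ZMod 2) W ≤ 3 → Nat.card (Module.End (ZMod 2) W)ˣ ∣ 168) := by
  set d := Module.finrank (ZMod 2) W with hd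
  have hb : Module.Basis (Fin d) (ZMod 2) W := Module.finBasis (ZMod 2) W
  have he : Nat.card (Module.End (ZMod 2) W)ˣ = Nat.card (GL (Fin d) (ZMod 2)) :=
    Nat.card_congr (Units.mapEquiv (LinearMap.toMatrixAlgEquiv hb).toMulEquiv).toEquiv
  rw [he, Matrix.card_GL_field, ZMod.card]
  constructor
  · intro h
    interval_cases d <;> simp [Fin.prod_univ_succ]
  · intro h
    interval_cases d <;> norm_num [Fin.prod_univ_succ]

/-- The rank of a span. -/
theorem finrank_span_le (n : ℕ) (s : Finset V) (hs : s.card ≤ n) :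
    Module.finrank (ZMod 2) (Submodule.span (ZMod 2) (s : Set V)) ≤ n :=
  (finrank_span_finset_le_card s).trans hs

/-- Let V be a finite-dimensional vector space over the field with two elements and S a solvable group of linear automorphisms of V with O₂(S) = 1. If P ∈ S has order 4 and (P − 1)³ = 0 on V, then the image of (P − 1)² has at least 4 elements; equivalently, in the decomposition of V into indecomposable modules for the cyclic group generated by P, at least two summands have dimension 3. -/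
theorem result
    {V : Type*} [AddCommGroup V] [Module (ZMod 2) V] [Finite V]
    (S : Subgroup (V ≃ₗ[ZMod 2] V)) (hS : Group.IsSolvable ↥S) (hO2 : Cfsg.pCore 2 ↥S = ⊥)
    (P : V ≃ₗ[ZMod 2] V) (hPS : P ∈ S) (hP4 : orderOf P = 4)
    (hcub : ((P : V →ₗ[ZMod 2] V) - LinearMap.id) ^ 3 = 0) :
    4 ≤ Nat.card ↥(LinearMap.range (((P : V →ₗ[ZMod 2] V) - LinearMap.id) ^ 2)) := by
  classical
  haveI : Finite (V ≃ₗ[ZMod 2] V) := finite_equiv
  haveI := hS
  set T : V →ₗ[ZMod 2] V := ((P : V →ₗ[ZMod 2] V) - LinearMap.id) ^ 2 with hT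
  set t : V ≃ₗ[ZMod 2] V := P ^ 2 with ht
  have hTt : ∀ v, T v = t v - v := by
    intro v
    rw [hT, ht, sq, sq, Module.End.mul_apply, LinearEquiv.mul_apply]
    simp only [LinearMap.sub_apply, LinearEquiv.coe_coe, LinearMap.id_apply, map_sub]
    rw [sub_sub, ← add_sub_assoc, add_self, zero_sub]
    simp only [sub_eq_add_neg, show ∀ w : V, -w = w from fun w => neg_eq_of_add_eq_zero_left (add_self w)]
  have ht1 : t ≠ 1 := fun h => by
    have := orderOf_dvd_of_pow_eq_one (x := P) (n := 2) h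
    rw [hP4] at this
    omega
  have htt : t * t = 1 := by
    rw [ht, ← pow_add, show 2 + 2 = orderOf P by rw [hP4], pow_orderOf_eq_one]
  by_contra hcon
  push Not at hcon
  -- the image is a line
  obtain ⟨v₀, hv₀⟩ : ∃ v, T v ≠ 0 := by
    by_contra h
    push Not at h
    exact ht1 (LinearEquiv.ext fun v => sub_eq_zero.mp ((hTt v).symm.trans (h v)))
  set a := T v₀ with ha
  have hcard : Nat.card ↥(LinearMap.range T) = 2 := by
    haveI : Nontrivial ↥(LinearMap.range T) :=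
      ⟨⟨⟨a, v₀, rfl⟩, 0, fun h => hv₀ (congrArg Subtype.val h)⟩⟩
    have h1 := Finite.one_lt_card (α := ↥(LinearMap.range T))
    have h2 := Module.natCard_eq_pow_finrank (K := ZMod 2) (V := ↥(LinearMap.range T))
    rw [Nat.card_zmod] at h2
    rcases Nat.lt_or_ge (Module.finrank (ZMod 2) ↥(LinearMap.range T)) 2 with h | h
    · interval_cases hr : Module.finrank (ZMod 2) ↥(LinearMap.range T) <;> simp only [pow_zero, pow_one] at h2 <;> omega
    · have := Nat.pow_le_pow_right (show 0 < 2 by norm_num) h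
      omega
  have hline : ∀ v, t v - v ∈ Submodule.span (ZMod 2) ({a} : Set V) := by
    intro v
    have hle : Submodule.span (ZMod 2) ({a} : Set V) ≤ LinearMap.range T :=
      Submodule.span_le.mpr (Set.singleton_subset_iff.mpr ⟨v₀, rfl⟩)
    have h1 : Nontrivial ↥(Submodule.span (ZMod 2) ({a} : Set V)) :=
      ⟨⟨⟨a, Submodule.mem_span_singleton_self a⟩, 0, fun h => hv₀ (congrArg Subtype.val h)⟩⟩
    have h2 := Finite.one_lt_card (α := ↥(Submodule.span (ZMod 2) ({a} : Set V)))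
    have heq : Submodule.span (ZMod 2) ({a} : Set V) = LinearMap.range T := by
      refine SetLike.coe_injective (Set.eq_of_subset_of_ncard_le hle ?_ (Set.toFinite _))
      rw [← Nat.card_coe_set_eq, ← Nat.card_coe_set_eq]
      exact (le_of_eq hcard).trans h2
    rw [heq, ← hTt]
    exact ⟨v, rfl⟩
  -- the Fitting subgroup of `S`
  set F := fittingSubgroup ↥S with hF
  haveI hFn : F.Normal := Base.fittingSubgroup_normal' ↥S
  haveI hFnil : Group.IsNilpotent F := Base.isNilpotent_fittingSubgroup ↥S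
  have hcore : ∀ (r : ℕ) [Fact r.Prime] (x : F), (∃ k, orderOf x = r ^ k) → x ∈ pCore r F := by
    intro r _ x hx
    obtain ⟨k, hk⟩ := hx
    obtain ⟨Q, hQ⟩ := (IsPGroup.of_card (G := ↥(zpowers x)) (n := k)
      (by rw [Nat.card_zpowers, hk])).exists_le_sylow
    haveI : (Q : Subgroup F).Normal :=
      Q.normal_of_normalizerCondition Group.normalizerCondition_of_isNilpotent
    exact Base.le_pCore Q.isPGroup' (hQ (mem_zpowers x))
  have hFodd : Odd (Nat.card F) := by
    rw [Nat.odd_iff, ← Nat.two_dvd_ne_zero]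
    intro h
    haveI : Fact (Nat.Prime 2) := ⟨Nat.prime_two⟩
    obtain ⟨x, hx⟩ := exists_prime_orderOf_dvd_card' (G := F) 2 h
    have h1 := Base.map_pCore_le_of_isSubnormal (p := 2) (Subgroup.Normal.isSubnormal hFn)
      (mem_map_of_mem F.subtype (hcore 2 x ⟨1, by rw [hx, pow_one]⟩))
    rw [hO2, mem_bot] at h1
    rw [show x = 1 from Subtype.ext h1, orderOf_one] at hx
    omega
  set Ps : ↥S := ⟨P, hPS⟩ with hPs
  set ts : ↥S := Ps ^ 2 with hts
  have hts' : ((ts : ↥S) : V ≃ₗ[ZMod 2] V) = t := rfl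
  -- `t` moves some element of `F`
  obtain ⟨f, hf, hft⟩ : ∃ f ∈ F, ts * f ≠ f * ts := by
    by_contra h
    push Not at h
    have h1 : ts ∈ F := Base.centralizer_fittingSubgroup_le
      (mem_centralizer_iff.mpr fun f hf => (h f hf).symm)
    have h2 : orderOf ts ∣ 2 := orderOf_dvd_of_pow_eq_one (Subtype.ext (by
      rw [sq]; exact htt))
    have h3 := Nat.eq_one_of_dvd_coprimes (Nat.coprime_two_right.mpr hFodd)
      (Subgroup.orderOf_dvd_natCard F h1) h2
    exact ht1 (by rw [← hts', orderOf_eq_one_iff.mp h3]; rfl)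
  have hts2 : ts * ts = 1 := Subtype.ext htt
  have htinv : ts⁻¹ = ts := inv_eq_of_mul_eq_one_right hts2
  set u : ↥S := f⁻¹ * (ts * f * ts⁻¹) with hu
  have huF : u ∈ F := mul_mem (inv_mem hf) (hFn.conj_mem f hf ts)
  have hu1 : u ≠ 1 := fun h => hft (by
    rw [hu, inv_mul_eq_one] at h
    conv_rhs => rw [h]
    rw [inv_mul_cancel_right])
  have huinv : ts * u * ts⁻¹ = u⁻¹ := by
    rw [hu, htinv, mul_inv_rev, inv_inv, mul_inv_rev, mul_inv_rev, htinv]
    calc ts * (f⁻¹ * (ts * f * ts)) * ts = ts * f⁻¹ * ts * f * (ts * ts) := by group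
      _ = ts * f⁻¹ * ts * f := by rw [hts2, mul_one]
      _ = _ := by group
  -- inverted elements of `F` move vectors into a plane through `a`
  have hplane : ∀ x ∈ F, ts * x * ts⁻¹ = x⁻¹ →
      ∃ b : V, (x : V ≃ₗ[ZMod 2] V) ∈ stab (Submodule.span (ZMod 2) ({a, b} : Set V)) := by
    intro x hx hxi
    obtain ⟨y, hy⟩ := exists_pow_eq_self_of_coprime (x := x) (n := 2)
      ((Nat.coprime_two_right.mpr (hFodd.of_dvd_nat (Subgroup.orderOf_dvd_natCard F hx))).symm)
    set c := x ^ y with hc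
    have hc2 : c * c = x := by
      rw [hc, ← pow_add, ← two_mul, pow_mul, hy]
    have hci : ts * c * ts⁻¹ = c⁻¹ := by rw [hc, ← conj_pow, hxi, inv_pow]
    -- `x = t * (conjugate of t)`
    have hx' : x = ts * (c⁻¹ * ts * c⁻¹⁻¹)⁻¹⁻¹ := by
      rw [inv_inv, inv_inv, ← hc2]
      calc c * c = (c⁻¹)⁻¹ * c := by rw [inv_inv]
        _ = (ts * c * ts⁻¹)⁻¹ * c := by rw [hci]
        _ = ts * c⁻¹ * ts⁻¹ * c := by group
        _ = ts * (c⁻¹ * ts * c) := by rw [htinv]; group
    refine ⟨((c⁻¹ : ↥S) : V ≃ₗ[ZMod 2] V) a, ?_⟩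
    have h1 : t ∈ stab (Submodule.span (ZMod 2) ({a, ((c⁻¹ : ↥S) : V ≃ₗ[ZMod 2] V) a} : Set V)) :=
      fun v => Submodule.span_mono (by simp) (hline v)
    have h2 : ((c⁻¹ * ts * c⁻¹⁻¹ : ↥S) : V ≃ₗ[ZMod 2] V) ∈
        stab (Submodule.span (ZMod 2) ({a, ((c⁻¹ : ↥S) : V ≃ₗ[ZMod 2] V) a} : Set V)) := by
      intro v
      set g : V ≃ₗ[ZMod 2] V := ((c⁻¹ : ↥S) : V ≃ₗ[ZMod 2] V) with hg
      have hv : ((c⁻¹ * ts * c⁻¹⁻¹ : ↥S) : V ≃ₗ[ZMod 2] V) v = g (t (g⁻¹ v)) := rfl
      obtain ⟨r, hr⟩ := Submodule.mem_span_singleton.mp (hline (g⁻¹ v))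
      have h3 : g (t (g⁻¹ v)) - v = r • g a := by
        have : g (g⁻¹ v) = v := by rw [← LinearEquiv.mul_apply, mul_inv_cancel, LinearEquiv.coe_one, id_eq]
        rw [← map_smul, hr, map_sub, this]
      rw [hv, h3]
      exact Submodule.smul_mem _ r (Submodule.subset_span (by simp))
    have := mul_mem h1 (inv_mem (inv_mem h2))
    rw [hx']
    exact this
  have hord : ∀ x ∈ F, ts * x * ts⁻¹ = x⁻¹ → x ^ 3 = 1 := by
    intro x hx hxi
    obtain ⟨b, hb⟩ := hplane x hx hxi
    set W := Submodule.span (ZMod 2) ({a, b} : Set V) with hW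
    have hd : Module.finrank (ZMod 2) W ≤ 2 := by
      have := finrank_span_le 2 ({a, b} : Finset V) (Finset.card_le_two)
      rwa [Finset.coe_pair] at this
    have h6 := (card_units_dvd (W := W)).1 hd
    have h1 : (resHom W).toHomUnits (⟨(x : V ≃ₗ[ZMod 2] V), hb⟩ ^ 6) = 1 := by
      rw [map_pow]
      exact orderOf_dvd_iff_pow_eq_one.mp ((_root_.orderOf_dvd_natCard _).trans h6)
    have h2 : x ^ 12 = 1 := by
      have := congrArg Subtype.val (sq_eq_one_of_ker h1)
      rw [← pow_mul] at this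
      exact Subtype.ext this
    have hodd : Odd (orderOf x) := hFodd.of_dvd_nat (Subgroup.orderOf_dvd_natCard F hx)
    apply orderOf_dvd_iff_pow_eq_one.mp
    have h12 : orderOf x ∣ 4 * 3 := orderOf_dvd_of_pow_eq_one h2
    exact (Nat.Coprime.pow_right 2 (Nat.coprime_two_right.mpr hodd)).dvd_of_dvd_mul_left h12
  haveI : Fact (Nat.Prime 3) := ⟨Nat.prime_three⟩
  have hu3 : orderOf u = 3 := orderOf_eq_prime (hord u huF huinv) hu1
  -- the conjugate by `P`
  set u' : ↥S := Ps * u * Ps⁻¹ with hu'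
  have hu'F : u' ∈ F := hFn.conj_mem u huF Ps
  have hu'i : ts * u' * ts⁻¹ = u'⁻¹ := by
    calc ts * (Ps * u * Ps⁻¹) * ts⁻¹ = Ps * (ts * u * ts⁻¹) * Ps⁻¹ := by rw [hts, sq]; group
      _ = (Ps * u * Ps⁻¹)⁻¹ := by rw [huinv]; group
  have hu'3 : orderOf u' = 3 := by
    rw [hu', ← MulAut.conj_apply, MulEquiv.orderOf_eq, hu3]
  obtain ⟨b, hb⟩ := hplane u huF huinv
  obtain ⟨b', hb'⟩ := hplane u' hu'F hu'i
  set W := Submodule.span (ZMod 2) ({a, b, b'} : Set V) with hW
  have hd : Module.finrank (ZMod 2) W ≤ 3 := by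
    have := finrank_span_le 3 ({a, b, b'} : Finset V) Finset.card_le_three
    rwa [Finset.coe_insert, Finset.coe_pair] at this
  have hsub : ∀ {s : Set V}, s ⊆ ({a, b, b'} : Set V) → ∀ g ∈ stab (Submodule.span (ZMod 2) s),
      g ∈ stab W := fun hs g hg v => Submodule.span_mono hs (hg v)
  set Q : Subgroup (stab W) := Subgroup.closure
    {⟨(u : V ≃ₗ[ZMod 2] V), hsub (by simp [Set.insert_subset_iff]) _ hb⟩,
      ⟨(u' : V ≃ₗ[ZMod 2] V), hsub (by simp [Set.insert_subset_iff]) _ hb'⟩} with hQ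
  have hQ3 : IsPGroup 3 Q := by
    have hp3 : IsPGroup 3 ↥(((pCore 3 F).map F.subtype).map S.subtype) :=
      ((Base.isPGroup_pCore 3 F).map F.subtype).map S.subtype
    have hm : Q.map (stab W).subtype ≤ ((pCore 3 F).map F.subtype).map S.subtype := by
      rw [hQ, MonoidHom.map_closure, closure_le]
      rintro _ ⟨z, hz, rfl⟩
      rcases hz with rfl | rfl
      · exact ⟨u, ⟨⟨u, huF⟩, hcore 3 _ ⟨1, by rw [orderOf_mk, hu3, pow_one]⟩, rfl⟩, rfl⟩
      · exact ⟨u', ⟨⟨u', hu'F⟩, hcore 3 _ ⟨1, by rw [orderOf_mk, hu'3, pow_one]⟩, rfl⟩, rfl⟩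
    exact (hp3.to_le hm).of_equiv (equivMapOfInjective Q _ (stab W).subtype_injective).symm
  have hinj : Function.Injective ((resHom W).toHomUnits.comp Q.subtype) := by
    rw [← MonoidHom.ker_eq_bot_iff, eq_bot_iff]
    intro z hz
    have h2 : z ^ 2 = 1 := Subtype.ext (sq_eq_one_of_ker hz)
    obtain ⟨k, hk⟩ := (IsPGroup.iff_orderOf.mp hQ3) z
    have h3 := orderOf_dvd_of_pow_eq_one h2
    rw [hk] at h3
    have : orderOf z = 1 := by
      rw [hk]
      exact Nat.eq_one_of_dvd_coprimes ((show Nat.Coprime 3 2 by norm_num).pow_left k) dvd_rfl h3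
    exact mem_bot.mpr (orderOf_eq_one_iff.mp this)
  have hQcard : Nat.card Q ∣ 3 := by
    obtain ⟨k, hk⟩ := IsPGroup.iff_card.mp hQ3
    have h1 := (Subgroup.card_dvd_of_injective _ hinj).trans ((card_units_dvd (W := W)).2 hd)
    rw [hk] at h1 ⊢
    have : k ≤ 1 := by
      by_contra hk2
      have h9 : (3 : ℕ) ^ 2 ∣ 168 := (pow_dvd_pow 3 (show 2 ≤ k by omega)).trans h1
      norm_num at h9
    exact (pow_dvd_pow 3 this).trans (dvd_of_eq (pow_one 3))
  have hmem : u' ∈ zpowers u := by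
    set uW : Q := ⟨_, subset_closure (Or.inl rfl)⟩
    set uW' : Q := ⟨_, subset_closure (Or.inr rfl)⟩
    have hou : orderOf uW = 3 := by
      rw [← Subgroup.orderOf_coe, ← Subgroup.orderOf_coe]
      exact (Subgroup.orderOf_coe u).trans hu3
    have hQc : Nat.card Q = 3 := Nat.dvd_antisymm hQcard (hou ▸ _root_.orderOf_dvd_natCard uW)
    have htop : zpowers uW = ⊤ := eq_top_of_card_eq _ (by rw [Nat.card_zpowers, hou, hQc])
    obtain ⟨i, hi⟩ := mem_zpowers_iff.mp (htop ▸ mem_top uW' : uW' ∈ zpowers uW)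
    refine mem_zpowers_iff.mpr ⟨i, Subtype.ext ?_⟩
    have := congrArg (fun z : Q => ((z : stab W) : V ≃ₗ[ZMod 2] V)) hi
    simpa [uW, uW'] using this
  obtain ⟨i, hi⟩ := mem_zpowers_iff.mp hmem
  have hcases : u' = u ∨ u' = u⁻¹ := by
    rw [← hi, ← zpow_mod_orderOf, hu3]
    rcases (show i % ((3 : ℕ) : ℤ) = 0 ∨ i % ((3 : ℕ) : ℤ) = 1 ∨ i % ((3 : ℕ) : ℤ) = 2 by omega) with h | h | h
    · exfalso
      rw [← zpow_mod_orderOf, hu3, h, zpow_zero] at hi
      rw [← hi, orderOf_one] at hu'3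
      omega
    · left; rw [h, zpow_one]
    · right
      rw [h]
      refine eq_inv_of_mul_eq_one_left ?_
      rw [← zpow_add_one, show (2 : ℤ) + 1 = ((3 : ℕ) : ℤ) by norm_num, zpow_natCast, ← hu3,
        pow_orderOf_eq_one]
  have hfin : ts * u * ts⁻¹ = u := by
    have h : ∀ x : ↥S, ts * x * ts⁻¹ = Ps * (Ps * x * Ps⁻¹) * Ps⁻¹ := fun x => by
      rw [hts, sq]; group
    rw [h, ← hu']
    rcases hcases with h' | h'
    · rw [h', ← hu', h']
    · rw [h', ← conj_inv, ← hu', h', inv_inv]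
  have h2 : u ^ 2 = 1 := by
    rw [sq]
    calc u * u = u⁻¹⁻¹ * u := by rw [inv_inv]
      _ = u⁻¹⁻¹ * u⁻¹ := by rw [← huinv, hfin]
      _ = 1 := by group
  have := orderOf_dvd_of_pow_eq_one h2
  rw [hu3] at this
  omega

end Cfsg.Agent.S4410
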