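import Cfsg.Statements.S4415
import Cfsg.Agent.Lib.SolvStruct.JordanThree.Reduction
import Cfsg.Agent.Lib.Base.Fitting
import Cfsg.Agent.Lib.Base.MinimalNormal

set_option autoImplicit false
open Cfsg CfsgLib CfsgLib.SolvStruct.JordanThree
open scoped commutatorElement

namespace Cfsg.Agent.S4415

/-- Let S be a finite solvable group acting faithfully on a finite-dimensional space E over the field with three elements, with O₃(S) = 1. Let B ≤ S have order 3 and suppose: E = E₀ ⊕ E₁ with B fixing E₁ pointwise, E₀ B-invariant of order 27 and indecomposable under B (a generator of B has a single Jordan block on E₀); B normalizes but does not centralize some subgroup Q of S that is elementary abelian of order 4; and B is the centre of a Sylow 3-subgroup of S. Put R = [O_{3'}(S), B]. Then R is elementary abelian of order 4 or extraspecial of order 32 containing an elementary abelian subgroup of order 8 (a central product of two quaternion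 groups), and E is the direct sum of a subspace fixed pointwise by R and an RB-invariant subspace on which the subgroup RB acts faithfully and irreducibly. -/
theorem result {S : Type*} [Group S] [Finite S]
    [Group.IsSolvable S] {E : Type*} [AddCommGroup E] [Module (ZMod 3) E] [Finite E] (ρ : Representation (ZMod 3) S E)
    (hfaith : Function.Injective ρ) (hO3 : Cfsg.pCore 3 S = ⊥)
    (B : Subgroup S) (hB : Nat.card ↥B = 3) (b : S) (hb : Subgroup.zpowers b = B)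
    (E₀ E₁ : Submodule (ZMod 3) E) (hE01 : E₀ ⊓ E₁ = ⊥) (hE01' : E₀ ⊔ E₁ = ⊤)
    (hE1 : ∀ v ∈ E₁, ρ b v = v) (hE0inv : ∀ v ∈ E₀, ρ b v ∈ E₀) (hE0 : Nat.card ↥E₀ = 27)
    (hind : ∃ v ∈ E₀, ρ b (ρ b v - v) - (ρ b v - v) ≠ 0)
    (Q : Subgroup S) (hQ : Cfsg.IsElementaryAbelian 2 Q) (hQ4 : Nat.card ↥Q = 4)
    (hBQ : B ≤ Subgroup.normalizer (Q : Set S)) (hBQ' : ¬ B ≤ Subgroup.centralizer (Q : Set S))
    (P : Sylow 3 S) (hBZ : (Subgroup.center ↥(P : Subgroup S)).map (P : Subgroup S).subtype = B) :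
    ((Cfsg.IsElementaryAbelian 2 ⁅Cfsg.pPrimeCore 3 S, B⁆ ∧ Nat.card ↥⁅Cfsg.pPrimeCore 3 S, B⁆ = 4) ∨
      (Cfsg.IsExtraspecial 2 ↥⁅Cfsg.pPrimeCore 3 S, B⁆ ∧ Nat.card ↥⁅Cfsg.pPrimeCore 3 S, B⁆ = 32 ∧
        ∃ A : Subgroup S, A ≤ ⁅Cfsg.pPrimeCore 3 S, B⁆ ∧ Cfsg.IsElementaryAbelian 2 A ∧ Nat.card ↥A = 8)) ∧
    ∃ F₀ F₁ : Submodule (ZMod 3) E, F₀ ⊓ F₁ = ⊥ ∧ F₀ ⊔ F₁ = ⊤ ∧
      (∀ r ∈ ⁅Cfsg.pPrimeCore 3 S, B⁆, ∀ v ∈ F₁, ρ r v = v) ∧ (∀ r ∈ ⁅Cfsg.pPrimeCore 3 S, B⁆ ⊔ B, ∀ v ∈ F₀, ρ r v ∈ F₀) ∧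
      (∀ r ∈ ⁅Cfsg.pPrimeCore 3 S, B⁆ ⊔ B, (∀ v ∈ F₀, ρ r v = v) → r = 1) ∧
      (∀ N : Submodule (ZMod 3) E, N ≤ F₀ → (∀ r ∈ ⁅Cfsg.pPrimeCore 3 S, B⁆ ⊔ B, ∀ v ∈ N, ρ r v ∈ N) → N = ⊥ ∨ N = F₀) := by
  subst hb
  haveI : Fact (Nat.Prime 3) := ⟨Nat.prime_three⟩
  have hb3 : b ^ 3 = 1 := by
    rw [← orderOf_dvd_iff_pow_eq_one, ← Nat.card_zpowers, hB]
  -- the ranks
  set N := (ρ b - 1 : Module.End (ZMod 3) E) with hN
  have hNa : ∀ v, N v = ρ b v - v := fun v => rfl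
  have hN3 : ∀ v, N (N (N v)) = 0 := fun v => by
    simp only [hNa, map_sub]
    rw [← rep_mul, ← rep_mul, show b * b * b = b ^ 3 by rw [pow_three, mul_assoc], hb3, map_one,
      Module.End.one_apply]
    calc _ = -((ρ (b * b) v - ρ b v) + (ρ (b * b) v - ρ b v) + (ρ (b * b) v - ρ b v)) := by
          rw [rep_mul]; abel
      _ = 0 := by rw [three_smul, neg_zero]
  have hlt : ∀ W : Submodule (ZMod 3) E, W ≠ ⊥ → (∀ v ∈ W, N v ∈ W) →
      Module.finrank (ZMod 3) (W.map N) < Module.finrank (ZMod 3) W := by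
    intro W hW hinv
    refine Submodule.finrank_lt_finrank_of_lt (lt_of_le_of_ne ?_ fun h => hW ?_)
    · rintro _ ⟨v, hv, rfl⟩; exact hinv v hv
    · have h3 : ((W.map N).map N).map N = W := by rw [h, h, h]
      refine (Submodule.eq_bot_iff _).2 fun v hv => ?_
      rw [← h3] at hv
      obtain ⟨_, ⟨_, ⟨w, hw, rfl⟩, rfl⟩, rfl⟩ := hv
      exact hN3 w
  have hE0ne : E₀ ≠ ⊥ := fun h => by
    rw [h] at hE0; simp at hE0
  have hr1 : Module.finrank (ZMod 3) (LinearMap.range N) ≤ 2 := by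
    have hle : LinearMap.range N ≤ E₀.map N := by
      rintro _ ⟨v, rfl⟩
      obtain ⟨a, ha, c, hc, rfl⟩ := Submodule.mem_sup.1 (hE01' ▸ Submodule.mem_top : v ∈ E₀ ⊔ E₁)
      refine ⟨a, ha, ?_⟩
      rw [map_add, show N c = 0 by rw [hNa, hE1 c hc, sub_self], add_zero]
    have h3 : Module.finrank (ZMod 3) E₀ = 3 := by
      have h := Module.natCard_eq_pow_finrank (K := ZMod 3) (V := E₀)
      rw [hE0, Nat.card_zmod] at h
      exact (Nat.pow_right_injective (le_refl 2 |>.trans (by norm_num : 2 ≤ 3))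
        (show 3 ^ 3 = 3 ^ _ from h)).symm
    have := hlt E₀ hE0ne (fun v hv => by rw [hNa]; exact sub_mem (hE0inv v hv) hv)
    have := Submodule.finrank_mono hle
    omega
  have hr2 : Module.finrank (ZMod 3) (LinearMap.range (N ^ 2)) ≤ 1 := by
    have heq : LinearMap.range (N ^ 2) = (LinearMap.range N).map N := by
      rw [pow_two, Module.End.mul_eq_comp, LinearMap.range_comp]
    rw [heq]
    by_cases h0 : LinearMap.range N = ⊥
    · rw [h0, Submodule.map_bot, finrank_bot]; omega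
    · have := hlt _ h0 (fun v _ => LinearMap.mem_range_self N v)
      omega
  have hJ : Jordan ρ b := ⟨hb3, hr1, hr2⟩
  -- the four-group
  have hbQ : b ∈ Subgroup.normalizer (Q : Set S) := hBQ (Subgroup.mem_zpowers b)
  have hQc : ∀ u ∈ Q, ∀ w ∈ Q, Commute u w := fun u hu w hw =>
    congrArg Subtype.val (hQ.1.is_comm.comm (⟨u, hu⟩ : Q) ⟨w, hw⟩)
  obtain ⟨z1, hz1, hz1b⟩ : ∃ u ∈ Q, b * u * b⁻¹ ≠ u := by
    by_contra h
    push Not at h
    exact hBQ' (Subgroup.zpowers_le.2 (Subgroup.mem_centralizer_iff.2 fun g hg =>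
      (mul_inv_eq_iff_eq_mul.1 (h g hg)).symm))
  have hQ2 : ∀ u ∈ Q, u * u = 1 := fun u hu => (pow_two u).symm.trans (hQ.2 u hu)
  have hbz : b * z1 * b⁻¹ ∈ Q := (Subgroup.mem_normalizer_iff.1 hbQ z1).1 hz1
  obtain ⟨z, hz, hz0⟩ := Triple.of_conj hb3 (fun h => hz1b (inv_mul_eq_one.1 h).symm)
    (hQ2 _ (mul_mem (inv_mem hz1) hbz))
  have hzQ : ∀ i, z i ∈ Q := by
    have h0 : z 0 ∈ Q := hz0 ▸ mul_mem (inv_mem hz1) hbz
    have h1 : z 1 ∈ Q := by
      have := (Subgroup.mem_normalizer_iff.1 hbQ _).1 h0; rwa [hz.conj] at this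
    intro i
    fin_cases i
    · exact h0
    · exact h1
    · have := mul_mem h0 h1; rwa [show z 0 * z 1 = z 2 from hz.mul 0] at this
  -- `Q` lies in the three-prime core
  set L := pPrimeCore 3 S with hLdef
  haveI hLn : L.Normal := Subgroup.sSup_normal _ fun _ h => h.1
  have hbT : QuotientGroup.mk' L b ∈ pCore 3 (S ⧸ L) := by
    refine Base.centralizer_pCore_le_of_isSolvable (Base.pPrimeCore_quotient_pPrimeCore 3 S) ?_
    rw [Subgroup.mem_centralizer_iff]
    intro t ht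
    have htP := Base.pCore_le_sylow (P.mapSurjective (QuotientGroup.mk'_surjective L)) ht
    rw [Sylow.coe_mapSurjective] at htP
    obtain ⟨u, hu, rfl⟩ := htP
    obtain ⟨c, hc, hcb⟩ : b ∈ (Subgroup.center ↥(P : Subgroup S)).map (P : Subgroup S).subtype :=
      hBZ ▸ Subgroup.mem_zpowers b
    rw [← map_mul, ← map_mul]
    congr 1
    have := congrArg Subtype.val (Subgroup.mem_center_iff.1 hc ⟨u, hu⟩)
    rw [← hcb]
    exact this
  have hzL : ∀ i, z i ∈ L := by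
    intro i
    rw [← QuotientGroup.eq_one_iff, ← QuotientGroup.mk'_apply]
    -- `z i` is a commutator of `b` with an element of `Q`
    obtain ⟨g, hg, hgz⟩ : ∃ g ∈ Q, z i = g * (b * g⁻¹ * b⁻¹) := by
      refine ⟨z (i + 1), hzQ _, ?_⟩
      rw [inv_eq_of_mul_eq_one_right (hz.sq _), hz.conj,
        hz.mul, show i + 1 + 2 = i by fin_cases i <;> rfl]
    have hmem : QuotientGroup.mk' L (z i) ∈ pCore 3 (S ⧸ L) := by
      haveI : (pCore 3 (S ⧸ L)).Normal := Subgroup.sSup_normal _ fun _ h => h.1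
      rw [hgz, ← mul_assoc, ← mul_assoc, map_mul, map_inv]
      refine mul_mem ?_ (inv_mem hbT)
      rw [map_mul, map_mul, map_inv]
      exact Subgroup.Normal.conj_mem inferInstance _ hbT _
    obtain ⟨n, hn⟩ := Base.isPGroup_pCore 3 (S ⧸ L) ⟨_, hmem⟩
    have h3 : QuotientGroup.mk' L (z i) ^ 3 ^ n = 1 := congrArg Subtype.val hn
    have h2 : QuotientGroup.mk' L (z i) ^ 2 = 1 := by rw [← map_pow, pow_two, hz.sq, map_one]
    have hcop : Nat.Coprime 2 (3 ^ n) := Nat.Coprime.pow_right _ (by norm_num)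
    simpa [hcop.gcd_eq_one] using
      (pow_gcd_eq_one (a := QuotientGroup.mk' L (z i)) (m := 2) (n := 3 ^ n)).2 ⟨h2, h3⟩
  set R := ⁅L, Subgroup.zpowers b⁆ with hRdef
  have hzR : ∀ i, z i ∈ R := by
    intro i
    have h := Subgroup.commutator_mem_commutator (hzL (i + 1)) (Subgroup.mem_zpowers b)
    have heq : ⁅z (i + 1), b⁆ = z i := by
      rw [commutatorElement_def,
        show z (i + 1) * b * (z (i + 1))⁻¹ * b⁻¹ = z (i + 1) * (b * (z (i + 1))⁻¹ * b⁻¹) by group,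
        inv_eq_of_mul_eq_one_right (hz.sq _), hz.conj, hz.mul,
        show i + 1 + 2 = i by fin_cases i <;> rfl]
    rwa [heq] at h
  have hbL : Subgroup.zpowers b ≤ Subgroup.normalizer (L : Set S) := by
    rw [Subgroup.normalizer_eq_top]; exact le_top
  have hRL : R ≤ L := Coprime.commutator_le_of_le_normalizer hbL
  have hcop : ¬ 3 ∣ Nat.card R := fun h =>
    Base.not_dvd_card_pPrimeCore 3 S (h.trans (Subgroup.card_dvd_of_le hRL))
  have hcomm : ⁅R, Subgroup.zpowers b⁆ = R := by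
    refine Coprime.commutator_commutator_eq hbL ?_ (Or.inr inferInstance)
    rw [hB]
    exact Nat.prime_three.coprime_iff_not_dvd.2 (Base.not_dvd_card_pPrimeCore 3 S)
  exact structure_of_commutator hfaith hJ
    (Subgroup.normalizer_commutator_ge_right L (Subgroup.zpowers b) (Subgroup.mem_zpowers b))
    hcop hcomm hz hzR

end Cfsg.Agent.S4415
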