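import Cfsg.Statements.S4416
import Cfsg.Agent.Lib.PGroups.ExtraspecialBasis

set_option autoImplicit false
open Cfsg

namespace Cfsg.Agent.S4416

/-- Classification of extraspecial 2-groups in intrinsic form. An extraspecial 2-group has order 2^(2m+1) for some m ≥ 1, and the number of its elements squaring to the identity is either 2^(2m) + 2^m or 2^(2m) − 2^m; two extraspecial 2-groups of the same order with the same number of such elements are isomorphic. (The two cases are the central products of m dihedral groups of order 8, and of m − 1 dihedral groups with one quaternion group.) -/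
theorem result (E : Type*) [Group E] [Finite E] (hE : Cfsg.IsExtraspecial 2 E) :
    (∃ m : ℕ, 1 ≤ m ∧ Nat.card E = 2 ^ (2 * m + 1) ∧
      (Nat.card {x : E // x ^ 2 = 1} = 2 ^ (2 * m) + 2 ^ m ∨ Nat.card {x : E // x ^ 2 = 1} = 2 ^ (2 * m) - 2 ^ m)) ∧
    ∀ (E' : Type*) [Group E'] [Finite E'], Cfsg.IsExtraspecial 2 E' → Nat.card E' = Nat.card E →
      Nat.card {x : E' // x ^ 2 = 1} = Nat.card {x : E // x ^ 2 = 1} → Nonempty (E ≃* E') := by
  obtain ⟨z, m, hm, S⟩ := CfsgLib.PGroups.exists_isSympGroup hE
  refine ⟨⟨m, hm, S.card_eq, ?_⟩, ?_⟩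
  · by_cases c : CfsgLib.PGroups.HasMaxElem E m
    · exact Or.inl (S.classify.1 c).2
    · exact Or.inr (Nat.eq_sub_of_add_eq (S.classify.2 c).2.2.1)
  intro E' _ _ hE' hcard hcount
  obtain ⟨z', m', -, S'⟩ := CfsgLib.PGroups.exists_isSympGroup hE'
  obtain rfl : m = m' := by
    have := Nat.pow_right_injective le_rfl (S.card_eq.symm.trans (hcard.symm.trans S'.card_eq))
    omega
  by_cases c : CfsgLib.PGroups.HasMaxElem E m <;> by_cases c' : CfsgLib.PGroups.HasMaxElem E' m
  · obtain ⟨a, b, B⟩ := (S.classify.1 c).1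
    obtain ⟨a', b', B'⟩ := (S'.classify.1 c').1
    exact CfsgLib.PGroups.nonempty_mulEquiv_of_basis S S' B B'
  · have e := (S.classify.1 c).2
    have e' := (S'.classify.2 c').2.2.1
    have := pow_pos (two_pos (α := ℕ)) m
    omega
  · have e := (S.classify.2 c).2.2.1
    have e' := (S'.classify.1 c').2
    have := pow_pos (two_pos (α := ℕ)) m
    omega
  · obtain ⟨a, b, B⟩ := (S.classify.2 c).2.1
    obtain ⟨a', b', B'⟩ := (S'.classify.2 c').2.1
    exact CfsgLib.PGroups.nonempty_mulEquiv_of_basis S S' B B'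

end Cfsg.Agent.S4416
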