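import Cfsg.Statements.S4419
import Cfsg.Agent.Lib.FTCons.MetacyclicNilpotent

set_option autoImplicit false
open Cfsg

namespace Cfsg.Agent.S4419

/-- Let p be a prime and G a finite group whose Sylow p-subgroups are metacyclic (a cyclic normal subgroup with cyclic quotient). Then G has a normal p-complement if and only if the order of G/O_{p′,p}(G) is coprime to p² − 1. -/
theorem result {G : Type*} [Group G] [Finite G] (p : ℕ) [Fact p.Prime] (S : Sylow p G) (hS : Cfsg.IsMetacyclic ↥(S : Subgroup G)) : Cfsg.HasNormalPComplement p G ↔ Nat.Coprime (Nat.card (G ⧸ Cfsg.pPrimePCore p G)) (p ^ 2 - 1) := by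
  exact CfsgLib.FTCons.hasNormalPComplement_iff_coprime S hS

end Cfsg.Agent.S4419
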