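import Cfsg.Statements.S4420

set_option autoImplicit false
open Cfsg

namespace Cfsg.Agent.S4420

/-- Structure of groups in which every element outside some proper subgroup has square 1. Let H be a finite group with a proper subgroup A such that every element outside A has square 1. Then H has an abelian normal subgroup B of index 2 such that every element outside B is an involution inverting every element of B; and if H is not an elementary abelian 2-group, B is the only abelian normal subgroup of index 2 with this property. -/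
theorem result {H : Type*} [Group H] [Finite H] (A : Subgroup H) (hA : A ≠ ⊤) (hD : ∀ x : H, x ∉ A → x ^ 2 = 1) :
    ∃ B : Subgroup H, B.Normal ∧ IsMulCommutative ↥B ∧ B.index = 2 ∧
      (∀ x : H, x ∉ B → x ^ 2 = 1 ∧ ∀ b ∈ B, x * b * x⁻¹ = b⁻¹) ∧
      (¬ (IsMulCommutative H ∧ ∀ x : H, x ^ 2 = 1) →
        ∀ B' : Subgroup H, B'.Normal → IsMulCommutative ↥B' → B'.index = 2 →
          (∀ x : H, x ∉ B' → x ^ 2 = 1 ∧ ∀ b ∈ B', x * b * x⁻¹ = b⁻¹) → B' = B) := by
  classical
  by_cases hexp : ∀ x : H, x ^ 2 = 1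
  · have hsq : ∀ x : H, x⁻¹ = x := fun x => inv_eq_of_mul_eq_one_right (by rw [← pow_two, hexp x])
    have hcom : ∀ a b : H, a * b = b * a := fun a b => by
      rw [← hsq (a * b), mul_inv_rev, hsq a, hsq b]
    have hnt : Nontrivial H := by
      by_contra h
      rw [not_nontrivial_iff_subsingleton] at h
      exact hA (Subsingleton.elim _ _)
    have hp : IsPGroup 2 H := fun x => ⟨1, by simpa using hexp x⟩
    obtain ⟨n, hn⟩ := IsPGroup.iff_card.mp hp
    have hn0 : n ≠ 0 := by
      rintro rfl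
      exact (Finite.one_lt_card (α := H)).ne' (by simpa using hn)
    obtain ⟨B, hB⟩ := Sylow.exists_subgroup_card_pow_prime 2 (n := n - 1) (G := H) (by
      rw [hn]; exact pow_dvd_pow 2 (Nat.sub_le n 1))
    have hi : B.index = 2 := by
      have := B.card_mul_index
      rw [hB, hn] at this
      refine Nat.eq_of_mul_eq_mul_left (pow_pos (by norm_num : 0 < 2) (n - 1)) (this.trans ?_)
      rw [← pow_succ]; congr 1; omega
    refine ⟨B, ⟨fun b hb g => by rwa [hcom g b, mul_inv_cancel_right]⟩,
      ⟨⟨fun a b => Subtype.ext (hcom a b)⟩⟩, hi, fun x _ => ⟨hexp x, fun b _ => ?_⟩,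
      fun hne => absurd ⟨⟨⟨hcom⟩⟩, hexp⟩ hne⟩
    rw [hcom x b, mul_inv_cancel_right, hsq]
  · have hinv : ∀ x : H, x ∉ A → ∀ a ∈ A, x * a * x⁻¹ = a⁻¹ := by
      intro x hx a ha
      have h1 : x * a ∉ A := fun h => hx (by simpa using A.mul_mem h (A.inv_mem ha))
      have h2 := hD _ h1
      have hxinv : x⁻¹ = x := inv_eq_of_mul_eq_one_right (by rw [← pow_two]; exact hD x hx)
      rw [eq_inv_iff_mul_eq_one, hxinv]
      rw [pow_two] at h2
      simpa [mul_assoc] using h2
    have hAc : ∀ a ∈ A, ∀ b ∈ A, a * b = b * a := by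
      intro a ha b hb
      obtain ⟨x, hx⟩ : ∃ x, x ∉ A := by
        by_contra hc; push Not at hc; exact hA (eq_top_iff.mpr fun y _ => hc y)
      have h := hinv x hx (a * b) (A.mul_mem ha hb)
      have h' : x * (a * b) * x⁻¹ = (x * a * x⁻¹) * (x * b * x⁻¹) := by simp [mul_assoc]
      rw [h', hinv x hx a ha, hinv x hx b hb, mul_inv_rev] at h
      have := congrArg (·⁻¹) h
      simpa using this.symm
    have hAne : ∃ a ∈ A, a ^ 2 ≠ 1 := by
      by_contra hc; push Not at hc
      exact hexp fun x => if hx : x ∈ A then hc x hx else hD x hx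
    have hi : A.index = 2 := by
      rw [Subgroup.index_eq_two_iff]
      obtain ⟨x, hx⟩ : ∃ x, x ∉ A := by
        by_contra hc; push Not at hc; exact hA (eq_top_iff.mpr fun y _ => hc y)
      refine ⟨x, fun y => ?_⟩
      by_cases hy : y ∈ A
      · exact Or.inr ⟨hy, fun h => hx (by simpa using A.mul_mem (A.inv_mem hy) h)⟩
      · refine Or.inl ⟨?_, hy⟩
        by_contra hyx
        obtain ⟨a, ha, ha2⟩ := hAne
        have h1 := hinv _ hyx a ha
        have h2 : (y * x) * a * (y * x)⁻¹ = y * (x * a * x⁻¹) * y⁻¹ := by simp [mul_assoc]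
        rw [h2, hinv x hx a ha, hinv y hy a⁻¹ (A.inv_mem ha), inv_inv] at h1
        exact ha2 (by rw [pow_two]; nth_rewrite 2 [h1]; exact mul_inv_cancel a)
    refine ⟨A, Subgroup.normal_of_index_eq_two hi, ⟨⟨fun a b => Subtype.ext (hAc a a.2 b b.2)⟩⟩, hi,
      fun x hx => ⟨hD x hx, hinv x hx⟩, fun _ B' _ hB'c hB'2 hB' => ?_⟩
    by_contra hne
    obtain ⟨a, ha, ha2⟩ := hAne
    obtain ⟨c, hcA, hcB⟩ : ∃ c ∈ A, c ∉ B' := by
      by_contra hc; push Not at hc
      have h1 : A.relIndex B' * B'.index = A.relIndex ⊤ :=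
        (Subgroup.relIndex_top_right (H := B')).symm ▸ Subgroup.relIndex_mul_relIndex A B' ⊤ hc le_top
      rw [Subgroup.relIndex_top_right, hi, hB'2] at h1
      exact hne (le_antisymm (Subgroup.relIndex_eq_one.mp (by omega)) hc)
    refine ha2 ?_
    by_cases haB : a ∈ B'
    · have hcaB : c * a ∉ B' := fun h => hcB (by simpa using B'.mul_mem h (B'.inv_mem haB))
      have e1 := (hB' _ hcaB).1
      have hcc : Commute c a := hAc c hcA a ha
      rw [hcc.mul_pow, (hB' c hcB).1, one_mul] at e1
      exact e1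
    · exact (hB' a haB).1

end Cfsg.Agent.S4420
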