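import Cfsg.Statements.S4421
import Cfsg.Agent.Lib.Base.Transport

set_option autoImplicit false
open Cfsg

namespace Cfsg.Agent.S4421

/-- A factorization of a normalizer from two-step control of fusion. Let `G` be a finite group and `A ≤ S ≤ H` subgroups of `G` such that: (i) `S` controls the `G`-fusion of `A` in the sense that every `G`-conjugate of `A` lying in `S` is an `S`-conjugate of `A`; (ii) `H` controls the `G`-fusion of `S` in the same sense; (iii) every conjugate of `S` by an element of the normalizer of `A` lies in `H`. Then `N_G(A) = N_H(A) · (N_G(S) ∩ N_G(A))`: every element of the normalizer of `A` is a product of an element of `H` normalizing `A` and an element normalizing both `S` and `A`. -/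
theorem result {G : Type*} [Group G] [Finite G] (A S H : Subgroup G)
    (hAS : A ≤ S) (hSH : S ≤ H)
    (h1 : ∀ g : G, A.map (MulAut.conj g).toMonoidHom ≤ S → ∃ s ∈ S, A.map (MulAut.conj g).toMonoidHom = A.map (MulAut.conj s).toMonoidHom)
    (h2 : ∀ g : G, S.map (MulAut.conj g).toMonoidHom ≤ H → ∃ y ∈ H, S.map (MulAut.conj g).toMonoidHom = S.map (MulAut.conj y).toMonoidHom)
    (h3 : ∀ x ∈ Subgroup.normalizer (A : Set G), S.map (MulAut.conj x).toMonoidHom ≤ H) :
    ∀ x ∈ Subgroup.normalizer (A : Set G), ∃ y ∈ H ⊓ Subgroup.normalizer (A : Set G),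
      ∃ z ∈ Subgroup.normalizer (S : Set G) ⊓ Subgroup.normalizer (A : Set G), x = y * z := by
  intro x hx
  have hx1 := Subgroup.mem_normalizer_iff.mp hx
  obtain ⟨y, hyH, hy⟩ := h2 x (h3 x hx)
  have key : ∀ (a b : G) (T : Subgroup G), T.map (MulAut.conj a).toMonoidHom = T.map (MulAut.conj b).toMonoidHom →
      b⁻¹ * a ∈ Subgroup.normalizer (T : Set G) := by
    intro a b T e
    rw [← CfsgLib.Base.map_conj_eq_self_iff]
    have : T.map (MulAut.conj (b⁻¹ * a)).toMonoidHom =
        (T.map (MulAut.conj a).toMonoidHom).map (MulAut.conj b⁻¹).toMonoidHom := by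
      rw [Subgroup.map_map]; congr 1; ext t; simp [mul_assoc]
    rw [this, e, Subgroup.map_map]
    ext t; simp [mul_assoc]
  have hz : y⁻¹ * x ∈ Subgroup.normalizer (S : Set G) := key x y S hy
  obtain ⟨s, hs, hse⟩ := h1 (y⁻¹ * x) (by
    refine le_trans (Subgroup.map_mono hAS) ?_
    rw [CfsgLib.Base.map_conj_eq_self_iff.mpr hz])
  have hz' : s⁻¹ * (y⁻¹ * x) ∈ Subgroup.normalizer (A : Set G) := key _ s A hse
  have hz'' : s⁻¹ * (y⁻¹ * x) ∈ Subgroup.normalizer (S : Set G) :=
    Subgroup.mul_mem _ (Subgroup.inv_mem _ (Subgroup.le_normalizer hs)) hz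
  refine ⟨y * s, ⟨H.mul_mem hyH (hSH hs), ?_⟩, s⁻¹ * (y⁻¹ * x), ⟨hz'', hz'⟩, by group⟩
  have := Subgroup.mul_mem _ hx (Subgroup.inv_mem _ hz')
  simpa [mul_assoc] using this

end Cfsg.Agent.S4421
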