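import Cfsg.Statements.S4422

set_option autoImplicit false
open Cfsg

namespace Cfsg.Agent.S4422

/-- Primitive divisors of `q^e - 1` are congruent to 1 modulo `e`. Let `q ≥ 2` and `e ≥ 1` be natural numbers and let `m` be a divisor of `q^e - 1` that is coprime to `q^i - 1` for every `1 ≤ i < e` (so `m` divides the primitive part of `q^e - 1`, the largest such divisor). Then `m ≡ 1 (mod e)`. -/
theorem result (q e m : ℕ) (hq : 2 ≤ q) (he : 1 ≤ e)
    (hm : m ∣ q ^ e - 1) (hcop : ∀ i : ℕ, 1 ≤ i → i < e → Nat.Coprime m (q ^ i - 1)) :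
    m % e = 1 % e := by
  have hm0 : m ≠ 0 := by
    rintro rfl
    have := Nat.zero_dvd.mp hm
    have h2 : 2 ^ e ≤ q ^ e := Nat.pow_le_pow_left hq e
    have h3 : 1 < 2 ^ e := Nat.one_lt_two_pow (by omega)
    omega
  have key : ∀ r : ℕ, r.Prime → r ∣ m → r % e = 1 % e := by
    intro r hr hrm
    have := Fact.mk hr
    have hqe : (q : ZMod r) ^ e = 1 := by
      have h1 : (r : ℕ) ∣ q ^ e - 1 := hrm.trans hm
      rw [← ZMod.natCast_eq_zero_iff] at h1
      rwa [Nat.cast_sub (Nat.one_le_pow _ _ (by omega)), Nat.cast_one, Nat.cast_pow, sub_eq_zero] at h1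
    have hord : orderOf (q : ZMod r) = e := by
      apply le_antisymm (Nat.le_of_dvd he (orderOf_dvd_of_pow_eq_one hqe))
      by_contra hlt
      push Not at hlt
      have hpos : 0 < orderOf (q : ZMod r) :=
        (isOfFinOrder_iff_pow_eq_one.mpr ⟨e, he, hqe⟩).orderOf_pos
      have h2 : r ∣ q ^ orderOf (q : ZMod r) - 1 := by
        rw [← ZMod.natCast_eq_zero_iff, Nat.cast_sub (Nat.one_le_pow _ _ (by omega)),
          Nat.cast_one, Nat.cast_pow, pow_orderOf_eq_one, sub_self]
      exact hr.not_dvd_one (hcop _ hpos hlt ▸ Nat.dvd_gcd hrm h2)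
    have hq0 : (q : ZMod r) ≠ 0 := by
      intro h0
      rw [h0, zero_pow (by omega)] at hqe
      exact zero_ne_one hqe
    have := ZMod.orderOf_dvd_card_sub_one hq0
    rw [hord] at this
    exact ((Nat.modEq_iff_dvd' hr.one_le).mpr this).symm
  have : ∀ l : List ℕ, (∀ r ∈ l, r % e = 1 % e) → l.prod % e = 1 % e := by
    intro l hl
    induction l with
    | nil => simp
    | cons a l ih =>
      rw [List.prod_cons, Nat.mul_mod, hl a (by simp), ih (fun r hr => hl r (by simp [hr])), ← Nat.mul_mod]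
  rw [← Nat.prod_primeFactorsList hm0]
  exact this _ fun r hr => key r (Nat.prime_of_mem_primeFactorsList hr) (Nat.dvd_of_mem_primeFactorsList hr)

end Cfsg.Agent.S4422
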