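import Cfsg.Statements.S4424
import Cfsg.Agent.Lib.BlockOrth.Span

set_option autoImplicit false
open Cfsg CfsgLib.BlockOrth

namespace Cfsg.Agent.S4424

/-- Let χ be an irreducible character of the finite group G lying in the p-block B (relative to a maximal ideal M of the algebraic integers containing p), and let p^a be the p-part of the order of G. Then the class function that equals p^a · χ on the p-regular elements and vanishes on the p-singular elements is an integer combination of the irreducible characters in B: there are integers a_ψ, zero for ψ outside B, with that function equal to Σ a_ψ ψ. -/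
theorem result {G : Type*} [Group G] [Finite G] (p : ℕ) [Fact p.Prime] (M : Ideal Cfsg.AlgInt) (hM : Cfsg.IsPModular p M) (B : Set (Cfsg.IrrCharacter G)) (hB : Cfsg.IsPBlock M B) (χ : Cfsg.IrrCharacter G) (hχ : χ ∈ B) : ∃ a : Cfsg.IrrCharacter G → ℤ, (∀ ψ, ψ ∉ B → a ψ = 0) ∧ (fun x : G => if p ∣ orderOf x then (0 : ℂ) else ((p ^ (Nat.card G).factorization p : ℕ) : ℂ) * (χ : G → ℂ) x) = fun x => ∑ᶠ ψ : Cfsg.IrrCharacter G, (a ψ : ℂ) * (ψ : G → ℂ) x := by
  classical
  haveI := Fintype.ofFinite G
  haveI := CfsgLib.Blocks.isPrime_of_isPModular hM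
  have hpM := hM.2.2
  haveI := CfsgLib.Chars.irrFintype G
  refine ⟨fun ψ => pInt p χ ψ, fun ψ hψ => pInt_eq_zero hpM hB hχ hψ, ?_⟩
  funext x
  rw [congrFun (ite_dvd_eq_mul_pRegularPart p _ _) x, finsum_eq_sum_of_fintype]
  conv_lhs => rw [CfsgLib.Chars.classFun_eq_sum
    (isClassFunction_pRegularPart (p := p) (CfsgLib.Chars.isClassFunction_irr χ))]
  rw [Pi.smul_apply, Finset.sum_apply, Finset.smul_sum]
  refine Finset.sum_congr rfl fun ψ _ => ?_
  rw [← pInt_spec, pInner, Pi.smul_apply, smul_eq_mul, smul_eq_mul, mul_assoc]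
end Cfsg.Agent.S4424
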