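import Cfsg.Statements.S4425
import Cfsg.Agent.Lib.BlockOrth.Span

set_option autoImplicit false
open Cfsg CfsgLib.BlockOrth

namespace Cfsg.Agent.S4425

/-- Let χ be an irreducible character of the finite group G, p a prime, p^a the p-part of the order of G and p^b the p-part of the degree χ(1). Let χ̃ be the class function equal to p^a · χ on p-regular elements and zero on p-singular elements. Then p^(−b) · χ̃ is a generalized character of G, while p^(−(b+1)) · χ̃ is not. -/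
theorem result {G : Type*} [Group G] [Finite G] (p : ℕ) [Fact p.Prime] (χ : Cfsg.IrrCharacter G) : Cfsg.IsGeneralizedCharacter G (fun x : G => if p ∣ orderOf x then (0 : ℂ) else ((p ^ ((Nat.card G).factorization p - (Cfsg.charDegree (χ : G → ℂ)).factorization p) : ℕ) : ℂ) * (χ : G → ℂ) x) ∧ ¬ Cfsg.IsGeneralizedCharacter G (fun x : G => if p ∣ orderOf x then (0 : ℂ) else ((p ^ (Nat.card G).factorization p : ℕ) : ℂ) / ((p ^ ((Cfsg.charDegree (χ : G → ℂ)).factorization p + 1) : ℕ) : ℂ) * (χ : G → ℂ) x) := by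
  classical
  haveI := Fintype.ofFinite G
  obtain ⟨M, hMmax, hpM⟩ : ∃ M : Ideal Cfsg.AlgInt, M.IsMaximal ∧ (p : Cfsg.AlgInt) ∈ M :=
    exists_maximal_above p
  haveI := hMmax.isPrime
  set e := (Cfsg.charDegree (χ : G → ℂ)).factorization p with he
  set a := (Nat.card G).factorization p with ha
  have hea : e ≤ a := degVal_le χ
  have hp0 : (p : ℂ) ≠ 0 := Nat.cast_ne_zero.mpr (Fact.out : p.Prime).ne_zero
  have hpz : (p : ℤ) ≠ 0 := Nat.cast_ne_zero.mpr (Fact.out : p.Prime).ne_zero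
  have hcl := isClassFunction_pRegularPart (p := p) (CfsgLib.Chars.isClassFunction_irr χ)
  rw [ite_dvd_eq_mul_pRegularPart, ite_dvd_eq_mul_pRegularPart]
  have hval : ∀ ψ : Cfsg.IrrCharacter G, (p : ℂ) ^ a *
      Cfsg.classInner (Cfsg.pRegularPart p (χ : G → ℂ)) (ψ : G → ℂ) = (pInt p χ ψ : ℂ) := fun ψ => by
    rw [← pInt_spec, pInner, Nat.cast_pow]
  refine ⟨CfsgLib.Chars.isGeneralized_iff_inner.mpr
    ⟨CfsgLib.Chars.isClassFunction_smul _ hcl, fun ψ => ?_⟩, fun hgen => ?_⟩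
  · obtain ⟨k, hk⟩ := pow_degVal_dvd_pInt' hpM χ ψ
    refine ⟨k, ?_⟩
    rw [CfsgLib.Chars.inner_smul_left]
    apply mul_left_cancel₀ (pow_ne_zero e hp0)
    rw [← mul_assoc, Nat.cast_pow, ← pow_add, Nat.add_sub_cancel' hea, hval, hk]
    push_cast
    rfl
  · obtain ⟨ψ, hψ⟩ := exists_pInt_exact hpM χ
    obtain ⟨k, hk⟩ := (CfsgLib.Chars.isGeneralized_iff_inner.mp hgen).2 ψ
    apply hψ
    rw [pInt_symm]
    refine ⟨k, ?_⟩
    apply Int.cast_injective (α := ℂ)
    push_cast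
    rw [← hval, ← hk, CfsgLib.Chars.inner_smul_left]
    push_cast
    change _ = (p : ℂ) ^ (e + 1) * _
    field_simp [hp0]
end Cfsg.Agent.S4425
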