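import Cfsg.Statements.S4426
import Cfsg.Agent.Lib.BlockOrth.Span

set_option autoImplicit false
open Cfsg CfsgLib.BlockOrth

namespace Cfsg.Agent.S4426

/-- Let χ be an irreducible character in the p-block B of the finite group G (relative to a maximal ideal M of the algebraic integers containing p), let p^a be the p-part of the order of G, and let χ̃ be the class function equal to p^a · χ on p-regular elements and zero elsewhere. For ξ ∈ B the inner product [χ̃, ξ] is an integer. The following are equivalent: (a) χ has height zero in B; (b) for some ξ ∈ B the integer [χ̃, ξ] is nonzero and the exact power of p dividing it equals the exact power of p dividing ξ(1); (c) the same holds for every ξ ∈ B. -/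
theorem result {G : Type*} [Group G] [Fintype G] (p : ℕ) [Fact p.Prime] (M : Ideal Cfsg.AlgInt) (hM : Cfsg.IsPModular p M) (B : Set (Cfsg.IrrCharacter G)) (hB : Cfsg.IsPBlock M B) (χ : Cfsg.IrrCharacter G) (hχ : χ ∈ B) : (Cfsg.blockHeight p B (χ : G → ℂ) = 0 ↔ ∃ ξ ∈ B, ∃ n : ℤ, Cfsg.classInner (fun x : G => if p ∣ orderOf x then (0 : ℂ) else ((p ^ (Nat.card G).factorization p : ℕ) : ℂ) * (χ : G → ℂ) x) (ξ : G → ℂ) = (n : ℂ) ∧ n ≠ 0 ∧ padicValInt p n = (Cfsg.charDegree (ξ : G → ℂ)).factorization p) ∧ (Cfsg.blockHeight p B (χ : G → ℂ) = 0 ↔ ∀ ξ ∈ B, ∃ n : ℤ, Cfsg.classInner (fun x : G => if p ∣ orderOf x then (0 : ℂ) else ((p ^ (Nat.card G).factorization p : ℕ) : ℂ) * (χ : G → ℂ) x) (ξ : G → ℂ) = (n : ℂ) ∧ n ≠ 0 ∧ padicValInt p n = (Cfsg.charDegree (ξ : G → ℂ)).factorization p) := by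
  classical
  haveI := CfsgLib.Blocks.isPrime_of_isPModular hM
  have hpM := hM.2.2
  haveI := CfsgLib.Chars.irrFintype G
  have hinner : ∀ ξ : Cfsg.IrrCharacter G, Cfsg.classInner (fun x : G => if p ∣ orderOf x then (0 : ℂ) else ((p ^ (Nat.card G).factorization p : ℕ) : ℂ) * (χ : G → ℂ) x) (ξ : G → ℂ) = (pInt p χ ξ : ℂ) := by
    intro ξ
    rw [ite_dvd_eq_mul_pRegularPart, ← pInt_spec, pInner_eq_inner]
  simp only [hinner, Int.cast_inj]
  have key : ∀ ξ ∈ B, (∃ n : ℤ, pInt p χ ξ = n ∧ n ≠ 0 ∧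
      padicValInt p n = (Cfsg.charDegree (ξ : G → ℂ)).factorization p) ↔
      Cfsg.blockHeight p B (χ : G → ℂ) = 0 := by
    intro ξ hξ
    constructor
    · rintro ⟨n, rfl, hn0, hv⟩
      refine (blockHeight_eq_zero_iff hχ).mpr (degVal_eq_of_exact hpM hB hχ hξ fun h => ?_)
      have := (padicValInt_dvd_iff _ _).mp h
      rcases this with h0 | h0
      · exact hn0 h0
      · rw [hv, degVal] at h0; omega
    · intro h0
      have hne := pInt_exact_of_height_zero hpM hB hχ hξ ((blockHeight_eq_zero_iff hχ).mp h0)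
      have h1 := pow_degVal_dvd_pInt hpM χ ξ
      have hn0 : pInt p χ ξ ≠ 0 := fun h => hne (h ▸ dvd_zero _)
      refine ⟨_, rfl, hn0, le_antisymm ?_ ?_⟩
      · by_contra hlt
        exact hne ((padicValInt_dvd_iff _ _).mpr (Or.inr (by rw [degVal]; omega)))
      · exact ((padicValInt_dvd_iff _ _).mp h1).resolve_left hn0
  refine ⟨⟨fun h => ⟨χ, hχ, (key χ hχ).mpr h⟩, fun ⟨ξ, hξ, h⟩ => (key ξ hξ).mp h⟩,
    fun h ξ hξ => (key ξ hξ).mpr h, fun h => (key χ hχ).mp (h χ hχ)⟩
end Cfsg.Agent.S4426
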