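import Cfsg.Statements.S4429
import Cfsg.Agent.Lib.Small.Order7920Five
-- import your own Cfsg.Agent.* helpers here

set_option autoImplicit false
open Cfsg

namespace Cfsg.Agent.S4429

/-- Let G be a simple group of order 7920. Then G has exactly ten irreducible complex characters, and their degrees, listed with multiplicity, are 1, 10, 10, 10, 11, 16, 16, 44, 45, 55: for every natural number n, the number of irreducible characters of degree n is 1 if n ∈ {1, 11, 44, 45, 55}, 3 if n = 10, 2 if n = 16, and 0 otherwise. -/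
theorem result {G : Type*} [Group G] [Finite G] [IsSimpleGroup G] (hG : Nat.card G = 7920) : Nat.card (Cfsg.IrrCharacter G) = 10 ∧ ∀ n : ℕ, Nat.card {χ : Cfsg.IrrCharacter G // Cfsg.charDegree (χ : G → ℂ) = n} = (if n = 1 ∨ n = 11 ∨ n = 44 ∨ n = 45 ∨ n = 55 then 1 else if n = 10 then 3 else if n = 16 then 2 else 0) := by
  classical
  obtain ⟨T⟩ := CfsgLib.Small.O7920.exists_table hG
  refine ⟨by rw [← Nat.card_congr T.c, Nat.card_eq_fintype_card, Fintype.card_fin], fun n => ?_⟩
  have hc : Nat.card {χ : Cfsg.IrrCharacter G // Cfsg.charDegree (χ : G → ℂ) = n} =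
      (Finset.univ.filter fun i : Fin 10 => CfsgLib.Small.O7920.degs i = n).card := by
    rw [← Nat.card_congr (T.c.subtypeEquiv (p := fun i => CfsgLib.Small.O7920.degs i = n)
      (fun i => by rw [T.deg i])), Nat.card_eq_fintype_card, Fintype.card_subtype]
  rw [hc]
  by_cases hn : n ∈ ({1, 10, 11, 16, 44, 45, 55} : Finset ℕ)
  · simp only [Finset.mem_insert, Finset.mem_singleton] at hn
    rcases hn with rfl | rfl | rfl | rfl | rfl | rfl | rfl <;> rfl
  · simp only [Finset.mem_insert, Finset.mem_singleton, not_or] at hn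
    rw [if_neg (by tauto), if_neg hn.2.1, if_neg hn.2.2.2.1, Finset.card_eq_zero,
      Finset.filter_eq_empty_iff]
    intro i _ hi
    fin_cases i <;> simp [CfsgLib.Small.O7920.degs] at hi <;> omega

end Cfsg.Agent.S4429
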