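import Cfsg.Statements.S4435
import Cfsg.Agent.Lib.Blocks.FongReynolds

set_option autoImplicit false
open Cfsg Subgroup
open scoped Pointwise commutatorElement

namespace Cfsg.Agent.S4435

open CfsgLib.Chars CfsgLib.Blocks


/-- Let N be a normal subgroup of the finite group G, b a block of N (relative to a maximal ideal M of the algebraic integers containing p), and T the stabilizer of b in G (the elements g such that conjugating any member of b by g gives a member of b); N ≤ T. Say that a block of T (or of G) covers b when some member has a constituent in b on restriction to N. Then: (i) every block B′ of T covering b induces a block B of G, B covers b, every ψ ∈ B′ induces to an irreducible character of G, and B consists exactly of the characters induced from members of B′; (ii) distinct blocks of T covering b induce distinct blocks of G; (iii) every block of G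 covering b is induced by some block of T covering b. -/
theorem result {G : Type*} [Group G] [Fintype G] (p : ℕ) [Fact p.Prime] (M : Ideal Cfsg.AlgInt) (hM : Cfsg.IsPModular p M) (N : Subgroup G) [hN : N.Normal] [Fintype N] (b : Set (Cfsg.IrrCharacter N)) (hb : Cfsg.IsPBlock M b) (T : Subgroup G) [Fintype T] (hT : ∀ g : G, g ∈ T ↔ ∀ θ ∈ b, ∀ θ' : Cfsg.IrrCharacter N, (∀ n : N, (θ' : N → ℂ) n = (θ : N → ℂ) ⟨g * n * g⁻¹, hN.conj_mem n n.2 g⟩) → θ' ∈ b) (hNT : N ≤ T) : (∀ B' : Set (Cfsg.IrrCharacter T), Cfsg.IsPBlock M B' → (∃ ψ ∈ B', ∃ θ ∈ b, Cfsg.classInner (fun n : N => (ψ : T → ℂ) ⟨(n : G), hNT n.2⟩) (θ : N → ℂ) ≠ 0) → ∃ B : Set (Cfsg.IrrCharacter G), Cfsg.IsInducedBlock M T B' B ∧ (∃ χ ∈ B, ∃ θ ∈ b, Cfsg.classInner (fun n : N => (χ : G → ℂ) n) (θ : N → ℂ) ≠ 0) ∧ (∀ ψ ∈ B', Cfsg.IsIrrCharacter G (Cfsg.indFun T (ψ : T → ℂ))) ∧ ∀ χ : Cfsg.IrrCharacter G, χ ∈ B ↔ ∃ ψ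 ∈ B', (χ : G → ℂ) = Cfsg.indFun T (ψ : T → ℂ)) ∧ (∀ B'₁ B'₂ : Set (Cfsg.IrrCharacter T), Cfsg.IsPBlock M B'₁ → Cfsg.IsPBlock M B'₂ → (∃ ψ ∈ B'₁, ∃ θ ∈ b, Cfsg.classInner (fun n : N => (ψ : T → ℂ) ⟨(n : G), hNT n.2⟩) (θ : N → ℂ) ≠ 0) → (∃ ψ ∈ B'₂, ∃ θ ∈ b, Cfsg.classInner (fun n : N => (ψ : T → ℂ) ⟨(n : G), hNT n.2⟩) (θ : N → ℂ) ≠ 0) → ∀ B : Set (Cfsg.IrrCharacter G), Cfsg.IsInducedBlock M T B'₁ B → Cfsg.IsInducedBlock M T B'₂ B → B'₁ = B'₂) ∧ (∀ B : Set (Cfsg.IrrCharacter G), Cfsg.IsPBlock M B → (∃ χ ∈ B, ∃ θ ∈ b, Cfsg.classInner (fun n : N => (χ : G → ℂ) n) (θ : N → ℂ) ≠ 0) → ∃ B' : Set (Cfsg.IrrCharacter T), Cfsg.IsPBlock M B' ∧ (∃ ψ ∈ B', ∃ θ ∈ b, Cfsg.classInner (fun n : N => (ψ : T → ℂ) ⟨(n : G), hNT n.2⟩) (θ : N → ℂ) ≠ 0) ∧ Cfsg.IsInducedBlock M T B' B) := by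
  classical
  haveI := isPrime_of_isPModular hM
  have hT' : ∀ g : G, g ∈ T ↔ ∀ θ ∈ b, conjIrr N g θ ∈ b := fun g =>
    (hT g).trans ⟨fun h θ hθ => h θ hθ _ fun _ => rfl, fun h θ hθ θ' he => by
      rw [show θ' = conjIrr N g θ from Subtype.ext (funext he)]
      exact h θ hθ⟩
  refine ⟨fun B' hB' hcov => ?_, fun B'₁ B'₂ h1 h2 hc1 hc2 B hi1 hi2 => ?_, fun B hB hcov => ?_⟩
  · obtain ⟨ψ, hψ, hov⟩ := hcov
    have hind := isInducedBlock_indFun hT' hb hNT hB' hψ hov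
    have hiff := mem_induced_iff hT' hb hNT hB' hψ hov hind
    obtain ⟨θ, hθ, h0⟩ := exists_constituent_indFun hT' hb hNT hov
    exact ⟨_, hind, ⟨⟨_, isIrr_indFun_of_overBlock hT' hb hNT hov⟩, (hiff _).2 ⟨ψ, hψ, rfl⟩, θ, hθ, h0⟩,
      fun ψ' hψ' => isIrr_indFun_of_overBlock hT' hb hNT
        (OverBlock.of_sameBlock hT' hb hNT (IsPBlock.sameBlock hB' hψ hψ') hov), hiff⟩
  · obtain ⟨ψ₁, hψ₁, hov₁⟩ := hc1
    obtain ⟨ψ₂, hψ₂, hov₂⟩ := hc2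
    let χ₂ : IrrCharacter G := ⟨_, isIrr_indFun_of_overBlock hT' hb hNT hov₂⟩
    obtain ⟨ψ, hψ, he⟩ := (mem_induced_iff hT' hb hNT h1 hψ₁ hov₁ hi1 χ₂).1
      ((mem_induced_iff hT' hb hNT h2 hψ₂ hov₂ hi2 χ₂).2 ⟨ψ₂, hψ₂, rfl⟩)
    have := indFun_injective_overBlock hT' hb hNT hov₂
      (OverBlock.of_sameBlock hT' hb hNT (IsPBlock.sameBlock h1 hψ₁ hψ) hov₁) he
    subst this
    exact IsPBlock.eq_of_mem h1 h2 hψ hψ₂
  · obtain ⟨χ, hχ, hov⟩ := hcov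
    obtain ⟨ψ, hψ, he⟩ := exists_overBlock_indFun_eq hT' hb hNT hov
    refine ⟨_, isPBlock_blockOf ψ, ⟨ψ, mem_blockOf_self ψ, hψ⟩, ?_⟩
    have hind := isInducedBlock_indFun hT' hb hNT (isPBlock_blockOf ψ) (mem_blockOf_self ψ) hψ
    rwa [he, ← IsPBlock.eq_blockOf hB hχ] at hind


end Cfsg.Agent.S4435
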