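import Cfsg.Statements.S4436
import Cfsg.Agent.Lib.Blocks.FongReynolds
import Cfsg.Agent.Lib.Blocks.Correspondence
import Cfsg.Agent.Lib.BlockOrth.DefectOrder

set_option autoImplicit false
open Cfsg Subgroup
open scoped Pointwise commutatorElement

namespace Cfsg.Agent.S4436

open CfsgLib.Chars CfsgLib.Blocks CfsgLib.BlockOrth


/-- Let N be a normal subgroup of the finite group G, b a block of N (relative to a maximal ideal M of the algebraic integers containing p), T the stabilizer of b in G, N ≤ T, and B′ a block of T covering b (some member of B′ has a constituent in b on restriction to N) that induces the block B of G. Then every defect group of B′ is a defect group of B, and for every ψ ∈ B′ the induced character ψ^G is an irreducible character of G lying in B with the same height as ψ. -/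
theorem result {G : Type*} [Group G] [Fintype G] (p : ℕ) [Fact p.Prime] (M : Ideal Cfsg.AlgInt) (hM : Cfsg.IsPModular p M) (N : Subgroup G) [hN : N.Normal] [Fintype N] (b : Set (Cfsg.IrrCharacter N)) (hb : Cfsg.IsPBlock M b) (T : Subgroup G) [Fintype T] (hT : ∀ g : G, g ∈ T ↔ ∀ θ ∈ b, ∀ θ' : Cfsg.IrrCharacter N, (∀ n : N, (θ' : N → ℂ) n = (θ : N → ℂ) ⟨g * n * g⁻¹, hN.conj_mem n n.2 g⟩) → θ' ∈ b) (hNT : N ≤ T) (B' : Set (Cfsg.IrrCharacter T)) (hB' : Cfsg.IsPBlock M B') (hcov : (∃ ψ ∈ B', ∃ θ ∈ b, Cfsg.classInner (fun n : N => (ψ : T → ℂ) ⟨(n : G), hNT n.2⟩) (θ : N → ℂ) ≠ 0)) (B : Set (Cfsg.IrrCharacter G)) (hind : Cfsg.IsInducedBlock M T B' B) : (∀ D : Subgroup T, Cfsg.IsDefectGroup p M B' D → Cfsg.IsDefectGroup p M B (D.map T.subtype)) ∧ ∀ ψ ∈ B', ∃ χ ∈ B, (χ : G → ℂ) = Cfsg.indFun T (ψ : T → ℂ) ∧ Cfsg.blockHeight p B (χ : G → ℂ) = Cfsg.blockHeight p B' (ψ : T → ℂ) := by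
  classical
  haveI := isPrime_of_isPModular hM
  have hT' : ∀ g : G, g ∈ T ↔ ∀ θ ∈ b, conjIrr N g θ ∈ b := fun g =>
    (hT g).trans ⟨fun h θ hθ => h θ hθ _ fun _ => rfl, fun h θ hθ θ' he => by
      rw [show θ' = conjIrr N g θ from Subtype.ext (funext he)]
      exact h θ hθ⟩
  obtain ⟨ψ₀, hψ₀, hov⟩ := hcov
  have hiff := mem_induced_iff hT' hb hNT hB' hψ₀ hov hind
  have hirr : ∀ ψ ∈ B', IsIrrCharacter G (indFun T (ψ : T → ℂ)) := fun ψ hψ =>
    isIrr_indFun_of_overBlock hT' hb hNT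
      (OverBlock.of_sameBlock hT' hb hNT (IsPBlock.sameBlock hB' hψ₀ hψ) hov)
  have hdeg : ∀ χ : IrrCharacter G, ∀ ψ : IrrCharacter T, (χ : G → ℂ) = indFun T (ψ : T → ℂ) →
      degVal p χ = T.index.factorization p + degVal p ψ := by
    intro χ ψ he
    have : charDegree (χ : G → ℂ) = T.index * charDegree (ψ : T → ℂ) := by
      have h := irr_apply_one χ
      rw [he, indFun_one_apply, irr_apply_one, ← he] at h
      exact_mod_cast h.symm
    rw [degVal, this, Nat.factorization_mul Subgroup.index_ne_zero_of_finite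
      (irr_charDegree_ne_zero ψ)]
    rfl
  have hmin : blockMin p B = T.index.factorization p + blockMin p B' := by
    obtain ⟨χ, hχ, hχm⟩ := exists_degVal_eq_blockMin (p := p) (IsPBlock.nonempty hind.2.1)
    obtain ⟨ψ, hψ, he⟩ := (hiff χ).1 hχ
    obtain ⟨ψ₁, hψ₁, hψm⟩ := exists_degVal_eq_blockMin (p := p) (IsPBlock.nonempty hB')
    have h1 := blockMin_le (p := p) hψ
    have h2 := blockMin_le (p := p) ((hiff ⟨_, hirr ψ₁ hψ₁⟩).2 ⟨ψ₁, hψ₁, rfl⟩)
    rw [hdeg ⟨_, hirr ψ₁ hψ₁⟩ ψ₁ rfl] at h2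
    rw [hdeg χ ψ he] at hχm
    omega
  refine ⟨fun D hD => ?_, fun ψ hψ => ?_⟩
  · obtain ⟨E, hE, hle⟩ := IsInducedBlock.exists_defect_le hM.2.2 hind hD
    have hdef : blockDefect p B = blockDefect p B' := by
      rw [blockDefect_eq, blockDefect_eq, hmin, ← T.index_mul_card,
        Nat.factorization_mul Subgroup.index_ne_zero_of_finite Nat.card_pos.ne', Finsupp.add_apply]
      omega
    have hcard : Nat.card (D.map T.subtype) = Nat.card E := by
      rw [Subgroup.card_map_of_injective T.subtype_injective, card_defectGroup hM.2.2 hB' hD,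
        card_defectGroup hM.2.2 hind.2.1 hE, hdef]
    rwa [Subgroup.eq_of_le_of_card_ge hle hcard.ge]
  · refine ⟨⟨_, hirr ψ hψ⟩, (hiff _).2 ⟨ψ, hψ, rfl⟩, rfl, ?_⟩
    rw [blockHeight_eq, blockHeight_eq, hdeg ⟨_, hirr ψ hψ⟩ ψ rfl, hmin]
    omega


end Cfsg.Agent.S4436
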