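import Cfsg.Statements.S4437
import Cfsg.Agent.Lib.Blocks.MaximalCriterion

set_option autoImplicit false
open Cfsg Subgroup
open scoped Pointwise commutatorElement

namespace Cfsg.Agent.S4437

/-- Let P be a p-subgroup of the finite group G, H = P·C_G(P), and b a block of H (relative to a maximal ideal M of the algebraic integers containing p) having P as a defect group; let B be the block of G induced by b. Let T be the stabilizer of b in N_G(P): the elements g of N_G(P) such that the g-conjugate of every member of b is again a member of b. Then B has defect group P if and only if p does not divide the index of H in T. -/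
theorem result {G : Type*} [Group G] [Fintype G] (p : ℕ) [Fact p.Prime] (M : Ideal Cfsg.AlgInt) (hM : Cfsg.IsPModular p M) (P : Subgroup G) (hP : IsPGroup p P) (H : Subgroup G) [Fintype H] (hH : H = P ⊔ Subgroup.centralizer (P : Set G)) (b : Set (Cfsg.IrrCharacter H)) (hb : Cfsg.IsPBlock M b) (hbP : Cfsg.IsDefectGroup p M b (P.subgroupOf H)) (B : Set (Cfsg.IrrCharacter G)) (hind : Cfsg.IsInducedBlock M H b B) (T : Subgroup G) (hT : ∀ g : G, g ∈ T ↔ (g ∈ Subgroup.normalizer (P : Set G) ∧ ∀ θ ∈ b, ∀ θ' : Cfsg.IrrCharacter H, (∀ h h' : H, (h' : G) = g * h * g⁻¹ → (θ' : H → ℂ) h' = (θ : H → ℂ) h) → θ' ∈ b)) : Cfsg.IsDefectGroup p M B P ↔ ¬ p ∣ H.relIndex T := by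
  classical
  subst hH
  haveI : M.IsPrime := hM.2.1.isPrime
  haveI := Fintype.ofFinite (Subgroup.centralizer (P : Set G))
  have hpM := hM.2.2
  have hp : p.Prime := Fact.out
  haveI := CfsgLib.Blocks.charP_resField (M := M) hp hpM
  have hLN : P ⊔ Subgroup.centralizer (P : Set G) ≤ Subgroup.normalizer (P : Set G) :=
    sup_le Subgroup.le_normalizer (Subgroup.centralizer_le_normalizer _)
  obtain ⟨e, he, hmul⟩ : ∃ (e : Set (IrrCharacter (Subgroup.centralizer (P : Set G))))
      (he : IsPBlock M e), CfsgLib.Blocks.pairIdem he * CfsgLib.Blocks.pairIdem hb =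
        CfsgLib.Blocks.pairIdem he := by
    by_contra hcon
    apply CfsgLib.Blocks.pairIdem_ne_zero hb
    rw [← one_mul (CfsgLib.Blocks.pairIdem hb), ← CfsgLib.Blocks.sum_pairIdem (M := M)
      (CfsgLib.Blocks.blockFinset M (Subgroup.centralizer (P : Set G))) rfl
      (fun e => if he : IsPBlock M e then CfsgLib.Blocks.pairIdem he else 0)
      (fun e he => dif_pos he), Finset.sum_mul]
    refine Finset.sum_eq_zero fun e he => ?_
    rw [dif_pos (CfsgLib.Blocks.mem_blockFinset.1 he)]
    exact (CfsgLib.Blocks.pairIdem_mul_local hpM hP le_sup_left le_sup_right hLN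
      (CfsgLib.Blocks.mem_blockFinset.1 he) hb).resolve_left fun h => hcon ⟨e, _, h⟩
  have hPe : IsBrauerPair p M P e := ⟨hP, he⟩
  have hLT := CfsgLib.Blocks.sup_centralizer_le_stabPair hpM hPe
  obtain ⟨b', hb', hbe'⟩ := CfsgLib.Blocks.exists_block_sup hpM hPe
  obtain rfl : b = b' := by
    by_contra hne
    apply CfsgLib.Blocks.pairIdem_ne_zero he
    have h1 : CfsgLib.Blocks.pairIdem hb' = CfsgLib.Blocks.pairIdem he := by
      apply MonoidAlgebra.ext
      ext y
      rw [CfsgLib.Blocks.coeff_pairIdem, CfsgLib.Blocks.coeff_pairIdem]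
      exact congrArg CfsgLib.Blocks.red (Subtype.ext (congrFun hbe' y))
    rw [← hmul, ← h1]
    exact CfsgLib.Blocks.pairIdem_mul_of_ne hb' hb fun h => hne h.symm
  obtain ⟨-, hcard, -⟩ := CfsgLib.Blocks.fong_local hpM hPe le_sup_right hLT hb hbe' le_sup_left hbP
  have hd : blockDefect p e =
      (Nat.card ↥(P ⊓ Subgroup.centralizer (P : Set G))).factorization p := by
    rw [hcard, hp.factorization_pow, Finsupp.single_eq_same]
  have hTeq : T = CfsgLib.Blocks.stabPair (⟨P, e⟩ : BrauerPairIdx G) := by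
    ext g
    rw [hT, CfsgLib.Blocks.mem_stabPair_iff he]
    refine and_congr_right fun hg => ?_
    have hgH := CfsgLib.Blocks.le_normalizer_sup_centralizer P hg
    have hiff : StabilizesBlock (P ⊔ Subgroup.centralizer (P : Set G)) b g ↔
        StabilizesBlock (Subgroup.centralizer (P : Set G)) e g := by
      rw [CfsgLib.Blocks.stabilizesBlock_iff hb, CfsgLib.Blocks.stabilizesBlock_iff he, hbe']
      simp only [hgH, CfsgLib.Blocks.mem_normalizer_centralizer hg, true_and]
    rw [← hiff]
    constructor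
    · intro h
      refine ⟨hgH, fun θ hθ => ?_⟩
      refine ⟨CfsgLib.Blocks.pullIrr (CfsgLib.Blocks.conjIso g
        (CfsgLib.Blocks.conj_mem_iff_of_mem_normalizer hgH)).symm θ, h θ hθ _ ?_, ?_⟩
      all_goals
        intro k k' hk
        have e1 : k' = CfsgLib.Blocks.conjIso g
          (CfsgLib.Blocks.conj_mem_iff_of_mem_normalizer hgH) k := Subtype.ext hk
        rw [e1, CfsgLib.Blocks.pullIrr_apply, MulEquiv.symm_apply_apply]
    · intro h θ hθ θ' hθ'
      obtain ⟨χ', hχ', hc⟩ := h.2 θ hθ
      have : θ' = χ' := Subtype.ext (funext fun k' => by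
        have hk : (k' : G) = g * ((CfsgLib.Blocks.conjIso g
            (CfsgLib.Blocks.conj_mem_iff_of_mem_normalizer hgH)).symm k' : G) * g⁻¹ := by
          rw [← CfsgLib.Blocks.coe_conjIso g
            (CfsgLib.Blocks.conj_mem_iff_of_mem_normalizer hgH), MulEquiv.apply_symm_apply]
        rw [hθ' _ k' hk, hc _ k' hk])
      exact this ▸ hχ'
  obtain ⟨B', hB', -⟩ := CfsgLib.Blocks.existsUnique_block_of_pair hpM hPe
  obtain rfl : B = B' := CfsgLib.Blocks.IsInducedBlock.unique hind
    (CfsgLib.Blocks.isInducedBlock_of_pair hpM hP le_sup_left le_sup_right hLN hB' hb hmul)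
  rw [hTeq]
  constructor
  · intro hBP
    exact (CfsgLib.Blocks.maximal_pair_facts hpM
      (CfsgLib.Blocks.isMaximal_of_defectGroup hpM hBP hB')).2
  · intro hidx
    refine CfsgLib.Blocks.isDefectGroup_of_maximal hpM
      (CfsgLib.Blocks.isMaximal_of_criterion hpM hPe hd (fun g hgT ⟨k, hk⟩ => ?_) hB')
    set S := CfsgLib.Blocks.stabPair (⟨P, e⟩ : BrauerPairIdx G) with hS
    haveI : ((P ⊔ Subgroup.centralizer (P : Set G)).subgroupOf S).Normal :=
      (Subgroup.normal_subgroupOf_iff_le_normalizer hLT).2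
        ((CfsgLib.Blocks.stabPair_le_normalizer _).trans
          (CfsgLib.Blocks.le_normalizer_sup_centralizer P))
    have h1 : (QuotientGroup.mk (⟨g, hgT⟩ : S) :
        S ⧸ (P ⊔ Subgroup.centralizer (P : Set G)).subgroupOf S) = 1 := by
      rw [← orderOf_eq_one_iff]
      refine Nat.eq_one_of_dvd_coprimes
        (Nat.Coprime.pow_left k (hp.coprime_iff_not_dvd.2 hidx)) ?_ (orderOf_dvd_natCard _)
      rw [← hk, show orderOf g = orderOf (⟨g, hgT⟩ : S) from Subgroup.orderOf_coe (⟨g, hgT⟩ : S)]
      exact orderOf_map_dvd (QuotientGroup.mk' _) _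
    exact Subgroup.mem_subgroupOf.1 ((QuotientGroup.eq_one_iff _).1 h1)


end Cfsg.Agent.S4437
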