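import Cfsg.Statements.S4440
import Cfsg.Agent.Lib.Blocks.GoodIdemMain

set_option autoImplicit false
open Cfsg

namespace Cfsg.Agent.S4440

/-- Let G be a finite p-solvable group and fix a maximal ideal M of the algebraic integers containing p. Let U be a set of irreducible characters of G such that the class function Σ_{χ ∈ U} χ(1)·χ vanishes at every p-singular element of G. Then U is a union of p-blocks: if χ ∈ U and ψ lies in the same block as χ, then ψ ∈ U. -/
theorem result {G : Type*} [Group G] [Finite G] (p : ℕ) [Fact p.Prime] (M : Ideal Cfsg.AlgInt) (hM : Cfsg.IsPModular p M) (hsolv : Cfsg.IsPSolvable p G) (U : Set (Cfsg.IrrCharacter G)) (hU : ∀ x : G, p ∣ orderOf x → ∑ᶠ χ ∈ U, (χ : G → ℂ) 1 * (χ : G → ℂ) x = 0) (χ : Cfsg.IrrCharacter G) (hχ : χ ∈ U) (ψ : Cfsg.IrrCharacter G) (hψ : Cfsg.SameBlock M (χ : G → ℂ) (ψ : G → ℂ)) : ψ ∈ U := by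
  classical
  haveI : Fintype G := Fintype.ofFinite G
  haveI := hM.2.1.isPrime
  haveI := CfsgLib.Chars.irrFintype G
  set z : MonoidAlgebra ℂ G :=
    MonoidAlgebra.ofCoeff (Finsupp.equivFunOnFinite.symm (blockCoeff U)) with hz
  have hzc : ∀ g, z.coeff g = blockCoeff U g := fun g => by simp [hz]
  have hgood : CfsgLib.Blocks.GoodIdem.Good p z := by
    refine ⟨?_, fun g => ?_, fun x hx => ?_⟩
    · apply MonoidAlgebra.ext
      ext x
      rw [CfsgLib.Blocks.GoodIdem.coeff_mul_eq]
      simp only [hzc]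
      exact congrFun (CfsgLib.Blocks.conv_blockCoeff_self U) x
    · apply MonoidAlgebra.ext
      ext x
      rw [CfsgLib.Blocks.GoodIdem.coeff_el_mul, CfsgLib.Blocks.GoodIdem.coeff_mul_el, hzc, hzc]
      have h := CfsgLib.Blocks.isClassFunction_blockCoeff U (g⁻¹ * x) g
      rwa [mul_inv_cancel_left, eq_comm] at h
    · rw [hzc, blockCoeff]
      have h := hU x⁻¹ (by rwa [orderOf_inv])
      have hterm : ∀ φ : IrrCharacter G,
          (φ : G → ℂ) 1 * starRingEnd ℂ ((φ : G → ℂ) x) = (φ : G → ℂ) 1 * (φ : G → ℂ) x⁻¹ :=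
        fun φ => by rw [CfsgLib.Chars.irr_inv]
      simp only [hterm]
      rw [h, mul_zero]
  have hint : ∀ g, MemLocalRing M (blockCoeff U g) := fun g => by
    rw [← hzc]
    exact CfsgLib.Blocks.GoodIdem.Good.coeff_mem_loc hM.2.2 hsolv hgood g
  exact CfsgLib.Blocks.union_blocks_of_mem_loc hint hχ hψ

end Cfsg.Agent.S4440
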