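import Cfsg.Statements.S4442
import Cfsg.Agent.Lib.Blocks.DefectOneValues

set_option autoImplicit false
open Cfsg Subgroup
open scoped Pointwise commutatorElement

namespace Cfsg.Agent.S4442

/-- Blocks of defect one. Let p be an odd prime and G a finite group whose Sylow p-subgroup P has order p; let C = C_G(P) and N = N_G(P), and fix a maximal ideal M of the algebraic integers containing p. Let B be a block of G with defect group P, b a block of C inducing B, and θ the member of b having P in its kernel (there is exactly one). Let T be the stabilizer of θ in N (the elements g ∈ N with θ(g c g⁻¹) = θ(c) for all c ∈ C) and e the index of C in T. Then e divides p − 1 and B contains exactly e + (p − 1)/e irreducible characters. Moreover B is the disjoint union of a set X of e characters and a set Y of (p − 1)/e characters such that, with f the index of C in N: every χ ∈ X has χ(1) ≡ ±(f/e)·θ(1) (mod p), there is one sign ε with ψ(1) ≡ ε f θ(1) (mod p) for all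 ψ ∈ Y, and all members of Y agree on the p-regular elements of G. -/
theorem result {G : Type*} [Group G] [Finite G] (p : ℕ) [Fact p.Prime] (M : Ideal Cfsg.AlgInt) (hM : Cfsg.IsPModular p M) (hodd : p ≠ 2) (P : Sylow p G) (hP : Nat.card P = p) (B : Set (Cfsg.IrrCharacter G)) (hB : Cfsg.IsPBlock M B) (hBP : Cfsg.IsDefectGroup p M B P) (b : Set (Cfsg.IrrCharacter (Subgroup.centralizer ((P : Subgroup G) : Set G)))) (hind : Cfsg.IsInducedBlock M (Subgroup.centralizer ((P : Subgroup G) : Set G)) b B) (θ : Cfsg.IrrCharacter (Subgroup.centralizer ((P : Subgroup G) : Set G))) (hθ : θ ∈ b) (hθP : ∀ x : Subgroup.centralizer ((P : Subgroup G) : Set G), (x : G) ∈ (P : Subgroup G) → (θ : Subgroup.centralizer ((P : Subgroup G) : Set G) → ℂ) x = (θ : Subgroup.centralizer ((P : Subgroup G) : Set G) → ℂ) 1) (T : Subgroup G) (hT : ∀ g : G, g ∈ T ↔ (g ∈ Subgroup.normalizer ((P : Subgroup G) : Set G) ∧ ∀ c c' : Subgroup.centralizer ((P : Subgroup G) : Set G), (c' : G) = g * c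 * g⁻¹ → (θ : Subgroup.centralizer ((P : Subgroup G) : Set G) → ℂ) c' = (θ : Subgroup.centralizer ((P : Subgroup G) : Set G) → ℂ) c)) (e f : ℕ) (he : (Subgroup.centralizer ((P : Subgroup G) : Set G)).relIndex T = e) (hf : (Subgroup.centralizer ((P : Subgroup G) : Set G)).relIndex (Subgroup.normalizer ((P : Subgroup G) : Set G)) = f) : e ∣ p - 1 ∧ Nat.card B = e + (p - 1) / e ∧ ∃ X Y : Set (Cfsg.IrrCharacter G), B = X ∪ Y ∧ Disjoint X Y ∧ Nat.card X = e ∧ Nat.card Y = (p - 1) / e ∧ (∀ χ ∈ X, (Cfsg.charDegree (χ : G → ℂ) : ℤ) ≡ ((f / e * Cfsg.charDegree (θ : Subgroup.centralizer ((P : Subgroup G) : Set G) → ℂ) : ℕ) : ℤ) [ZMOD p] ∨ (Cfsg.charDegree (χ : G → ℂ) : ℤ) ≡ -((f / e * Cfsg.charDegree (θ : Subgroup.centralizer ((P : Subgroup G) : Set G) → ℂ) : ℕ) : ℤ) [ZMOD p]) ∧ (∃ ε : ℤ, (ε = 1 ∨ ε = -1) ∧ ∀ ψ ∈ Y, (Cfsg.charDegree (ψ : G → ℂ) : ℤ) ≡ ε * ((f * Cfsg.charDegree (θ : Subgroup.centralizer ((P : Subgroup G) : Set G) → ℂ) : ℕ) : ℤ) [ZMOD p]) ∧ ∀ ψ ∈ Y, ∀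 ψ' ∈ Y, ∀ g : G, ¬ p ∣ orderOf g → (ψ : G → ℂ) g = (ψ' : G → ℂ) g := by
  classical
  haveI := Fintype.ofFinite G
  haveI := hM.2.1.isPrime
  haveI : Fintype (centralizer ((P : Subgroup G) : Set G)) := Fintype.ofFinite _
  have hcard : Nat.card (P : Subgroup G) = p := hP
  have hsq : ¬ p ^ 2 ∣ Nat.card G := by
    intro h
    have h1 := P.card_eq_multiplicity
    rw [hcard] at h1
    have h2 := ((Fact.out : p.Prime).pow_dvd_iff_le_factorization Nat.card_pos.ne').1 h
    have h3 : (Nat.card G).factorization p = 1 :=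
      (Nat.pow_right_injective (Fact.out : p.Prime).two_le
        (show p ^ (Nat.card G).factorization p = p ^ 1 by rw [pow_one, ← h1]))
    omega
  have hpair := (CfsgLib.Blocks.isInducedBlock_centralizer_iff hM.2.2 P.2).1 hind
  have hTeq : CfsgLib.Blocks.stabPair ⟨(P : Subgroup G), b⟩ = T := by
    ext g
    rw [hT, CfsgLib.Blocks.mem_stabPair_canonical_iff hM hcard hsq hpair hθ hθP]
  obtain ⟨Y, ε, a, hε, hYB, hte, hX, -, hB', ha, hY, hagree, -, -, -, -⟩ :=
    CfsgLib.Blocks.defect_one_structure hM hcard hsq hpair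
  rw [hTeq, he] at hte hX hB' hY
  have hef : e ∣ f := by
    rw [← he, ← hf, ← hTeq]
    exact CfsgLib.Blocks.relIndex_stab_dvd hpair
  have hediv : p - 1 = Nat.card Y * e := by omega
  have he0 : 0 < e := Nat.pos_of_ne_zero fun h => by
    rw [h, mul_zero, zero_add] at hte
    exact (Fact.out : p.Prime).ne_one hte.symm
  have hYt : Nat.card Y = (p - 1) / e := by rw [hediv, Nat.mul_div_cancel _ he0]
  have hdeg : ∀ χ ∈ B, ∀ c : ℤ, (∀ v : (P : Subgroup G), v ≠ 1 → Cfsg.MemLocalIdeal M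
      (CfsgLib.Blocks.xiFun b (χ : G → ℂ) v - (c : ℂ))) →
      (Cfsg.charDegree (χ : G → ℂ) : ℤ) ≡ ((f / e * Cfsg.charDegree
        (θ : centralizer ((P : Subgroup G) : Set G) → ℂ) : ℕ) : ℤ) * c [ZMOD p] := fun χ hχ c hc => by
    have h := CfsgLib.Blocks.degree_modEq hM hcard hsq hpair hθ hθP hχ hc
    rwa [hTeq, he, hf] at h
  refine ⟨Dvd.intro_left _ hediv.symm, by rw [hB', hYt], B \ Y, Y,
    (Set.sdiff_union_of_subset hYB).symm, Set.disjoint_sdiff_left, hX, hYt, fun χ hχ => ?_,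
    ⟨ε, hε, fun ψ hψ => ?_⟩, hagree⟩
  · obtain ⟨h1, h2⟩ := ha χ hχ
    have h := hdeg χ hχ.1 (a χ) fun v hv => by
      rw [h2 v hv, sub_self]
      exact CfsgLib.Blocks.MemLocalIdeal.zero'
    rcases h1 with h1 | h1 <;> rw [h1] at h
    · left; simpa using h
    · right; simpa using h
  · have h := hdeg ψ (hYB hψ) (ε * e) fun v hv => by
      exact_mod_cast hY ψ hψ v hv
    convert h using 1
    obtain ⟨m, rfl⟩ := hef
    rw [Nat.mul_div_cancel_left _ he0]
    push_cast
    ring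


end Cfsg.Agent.S4442
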