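import Cfsg.Statements.S4444
import Cfsg.Agent.Lib.Glauberman.PGroup

set_option autoImplicit false
open Cfsg

namespace Cfsg.Agent.S4444

/-- The Glauberman correspondence for a p-group of operators. Inside a finite group Γ let S normalise G with the orders of G and S coprime, S a p-group, and let C = G ⊓ C(S) be the fixed points. Call an irreducible character χ of G S-invariant when χ(s g s⁻¹) = χ(g) for s ∈ S, g ∈ G. Then: (i) for every S-invariant χ there is exactly one irreducible character β of C whose multiplicity [χ_C, β] in the restriction of χ is not divisible by p; (ii) that multiplicity is ≡ 1 or ≡ −1 (mod p); (iii) distinct S-invariant χ give distinct β; (iv) every irreducible character of C arises in this way. So χ ↦ β is a bijection from the S-invariant irreducible characters of G onto the irreducible characters of C. -/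
theorem result {Γ : Type*} [Group Γ] [Fintype Γ] (G S : Subgroup Γ) [Fintype G] (hnorm : ∀ s ∈ S, ∀ g ∈ G, s * g * s⁻¹ ∈ G) (hcop : (Nat.card G).Coprime (Nat.card S)) (p : ℕ) (hp : p.Prime) (hS : IsPGroup p S) (C : Subgroup Γ) [Fintype C] (hC : C = G ⊓ Subgroup.centralizer (S : Set Γ)) (hCG : C ≤ G) : (∀ χ : Cfsg.IrrCharacter G, (∀ s ∈ S, ∀ g g' : G, (g' : Γ) = s * g * s⁻¹ → (χ : G → ℂ) g' = (χ : G → ℂ) g) → ∃! β : Cfsg.IrrCharacter C, ∃ m : ℕ, Cfsg.classInner (fun c : C => (χ : G → ℂ) ⟨c, hCG c.2⟩) (β : C → ℂ) = (m : ℂ) ∧ ¬ p ∣ m) ∧ (∀ χ : Cfsg.IrrCharacter G, (∀ s ∈ S, ∀ g g' : G, (g' : Γ) = s * g * s⁻¹ → (χ : G → ℂ) g' = (χ : G → ℂ) g) → ∀ β : Cfsg.IrrCharacter C, ∀ m : ℕ, Cfsg.classInner (fun c : C => (χ : G → ℂ) ⟨c, hCG c.2⟩) (β : C → ℂ) = (m : ℂ) → ¬ p ∣ m → ((m : ℤ) ≡ 1 [ZMOD p] ∨ (m : ℤ) ≡ -1 [ZMOD p])) ∧ (∀ χ χ' : Cfsg.IrrCharacter G, (∀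 s ∈ S, ∀ g g' : G, (g' : Γ) = s * g * s⁻¹ → (χ : G → ℂ) g' = (χ : G → ℂ) g) → (∀ s ∈ S, ∀ g g' : G, (g' : Γ) = s * g * s⁻¹ → (χ' : G → ℂ) g' = (χ' : G → ℂ) g) → ∀ β : Cfsg.IrrCharacter C, ∀ m m' : ℕ, Cfsg.classInner (fun c : C => (χ : G → ℂ) ⟨c, hCG c.2⟩) (β : C → ℂ) = (m : ℂ) → ¬ p ∣ m → Cfsg.classInner (fun c : C => (χ' : G → ℂ) ⟨c, hCG c.2⟩) (β : C → ℂ) = (m' : ℂ) → ¬ p ∣ m' → χ = χ') ∧ (∀ β : Cfsg.IrrCharacter C, ∃ χ : Cfsg.IrrCharacter G, (∀ s ∈ S, ∀ g g' : G, (g' : Γ) = s * g * s⁻¹ → (χ : G → ℂ) g' = (χ : G → ℂ) g) ∧ ∃ m : ℕ, Cfsg.classInner (fun c : C => (χ : G → ℂ) ⟨c, hCG c.2⟩) (β : C → ℂ) = (m : ℂ) ∧ ¬ p ∣ m) := by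
  haveI : Fact p.Prime := ⟨hp⟩
  obtain ⟨R, hinj, htot, hsurj, hmult⟩ := CfsgLib.Glauberman.exists_pgroup_rel
    (fun s hs => Subgroup.mem_normalizer_iff.mpr fun x =>
      ⟨hnorm s hs x, fun h => by simpa [mul_assoc] using hnorm s⁻¹ (inv_mem hs) _ h⟩)
    hcop hS hC hCG
  have key : ∀ (χ : Cfsg.IrrCharacter G) (β γ : Cfsg.IrrCharacter C), CfsgLib.Glauberman.InvBy S G χ.1 → R χ β → ∀ m : ℕ,
      Cfsg.classInner (fun c : C => (χ : G → ℂ) ⟨c, hCG c.2⟩) (γ : C → ℂ) = (m : ℂ) → ¬ p ∣ m →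
      γ = β := fun χ β γ hχ hr m hm hd => by
    obtain ⟨ε, -, h⟩ := hmult χ β hχ hr
    by_contra hne
    exact hd ((h γ m hm).2 hne)
  refine ⟨fun χ hχ => ?_, fun χ hχ β m hm hd => ?_, fun χ χ' hχ hχ' β m m' hm hd hm' hd' => ?_,
    fun β => ?_⟩
  · obtain ⟨β, hr⟩ := htot χ hχ
    obtain ⟨ε, hε, h⟩ := hmult χ β hχ hr
    obtain ⟨m, hm⟩ := CfsgLib.Chars.inner_irr_right_nat
      (CfsgLib.Chars.isCharacter_comp (Subgroup.inclusion hCG)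
        (CfsgLib.Chars.isCharacter_of_irr χ.2)) β
    exact ⟨β, ⟨m, hm, CfsgLib.Glauberman.not_dvd_of_modEq_sign hε ((h β m hm).1 rfl)⟩,
      fun γ ⟨k, hk, hkd⟩ => key χ β γ hχ hr k hk hkd⟩
  · obtain ⟨β₀, hr⟩ := htot χ hχ
    obtain ⟨ε, hε, h⟩ := hmult χ β₀ hχ hr
    have h1 := (h β m hm).1 (key χ β₀ β hχ hr m hm hd)
    rcases hε with rfl | rfl
    exacts [Or.inl h1, Or.inr h1]
  · obtain ⟨β₀, hr⟩ := htot χ hχ
    obtain ⟨β₁, hr'⟩ := htot χ' hχ'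
    rw [← key χ β₀ β hχ hr m hm hd] at hr
    rw [← key χ' β₁ β hχ' hr' m' hm' hd'] at hr'
    exact hinj χ χ' β hχ hχ' hr hr'
  · obtain ⟨χ, hχ, hr⟩ := hsurj β
    obtain ⟨ε, hε, h⟩ := hmult χ β hχ hr
    obtain ⟨m, hm⟩ := CfsgLib.Chars.inner_irr_right_nat
      (CfsgLib.Chars.isCharacter_comp (Subgroup.inclusion hCG)
        (CfsgLib.Chars.isCharacter_of_irr χ.2)) β
    exact ⟨χ, hχ, m, hm, CfsgLib.Glauberman.not_dvd_of_modEq_sign hε ((h β m hm).1 rfl)⟩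

end Cfsg.Agent.S4444
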