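import Cfsg.Statements.S4446
import Cfsg.Agent.Lib.Glauberman.Cyclic

set_option autoImplicit false
open Cfsg

namespace Cfsg.Agent.S4446

/-- Let the finite group Γ be generated by a normal subgroup G and a cyclic subgroup S of coprime orders, C = G ⊓ C(S), and let χ be an S-invariant irreducible character of G with canonical extension χ̂ to Γ (the extension whose determinantal order is coprime to the order of S). Then there are exactly one irreducible character β of C and one sign ε such that χ̂(c s) = ε β(c) for every c ∈ C and every generator s of S; this β is a constituent of the restriction of χ to C; distinct S-invariant χ give distinct β; and every irreducible character of C arises in this way. -/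
theorem result {Γ : Type*} [Group Γ] [Fintype Γ] (G S : Subgroup Γ) [Fintype G] (hnorm : ∀ s ∈ S, ∀ g ∈ G, s * g * s⁻¹ ∈ G) (hcop : (Nat.card G).Coprime (Nat.card S)) (htop : G ⊔ S = ⊤) (hcyc : IsCyclic S) (C : Subgroup Γ) [Fintype C] (hC : C = G ⊓ Subgroup.centralizer (S : Set Γ)) (hCG : C ≤ G) : (∀ (χ : Cfsg.IrrCharacter G) (χh : Cfsg.IrrCharacter Γ), (∀ s ∈ S, ∀ g g' : G, (g' : Γ) = s * g * s⁻¹ → (χ : G → ℂ) g' = (χ : G → ℂ) g) → (∀ g : G, (χh : Γ → ℂ) g = (χ : G → ℂ) g) → (Cfsg.detOrder (χh : Γ → ℂ)).Coprime (Nat.card S) → (∃! βε : Cfsg.IrrCharacter C × ℤ, (βε.2 = 1 ∨ βε.2 = -1) ∧ ∀ c : C, ∀ s : Γ, Subgroup.zpowers s = S → (χh : Γ → ℂ) ((c : Γ) * s) = (βε.2 : ℂ) * (βε.1 : C → ℂ) c) ∧ ∀ β : Cfsg.IrrCharacter C, ∀ ε : ℤ, (ε = 1 ∨ ε = -1) → (∀ c : C, ∀ s : Γ, Subgroup.zpowers s = S → (χh : Γ → ℂ) ((c : Γ) * s) = (ε : ℂ) * (β : C → ℂ) c) → Cfsg.classInner (fun c : C =>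 (χ : G → ℂ) ⟨c, hCG c.2⟩) (β : C → ℂ) ≠ 0) ∧ (∀ (χ χ' : Cfsg.IrrCharacter G) (χh χh' : Cfsg.IrrCharacter Γ), (∀ s ∈ S, ∀ g g' : G, (g' : Γ) = s * g * s⁻¹ → (χ : G → ℂ) g' = (χ : G → ℂ) g) → (∀ s ∈ S, ∀ g g' : G, (g' : Γ) = s * g * s⁻¹ → (χ' : G → ℂ) g' = (χ' : G → ℂ) g) → (∀ g : G, (χh : Γ → ℂ) g = (χ : G → ℂ) g) → (∀ g : G, (χh' : Γ → ℂ) g = (χ' : G → ℂ) g) → (Cfsg.detOrder (χh : Γ → ℂ)).Coprime (Nat.card S) → (Cfsg.detOrder (χh' : Γ → ℂ)).Coprime (Nat.card S) → ∀ β : Cfsg.IrrCharacter C, ∀ ε ε' : ℤ, (ε = 1 ∨ ε = -1) → (ε' = 1 ∨ ε' = -1) → (∀ c : C, ∀ s : Γ, Subgroup.zpowers s = S → (χh : Γ → ℂ) ((c : Γ) * s) = (ε : ℂ) * (β : C → ℂ) c) → (∀ c : C, ∀ s : Γ, Subgroup.zpowers s = S → (χh' : Γ → ℂ) ((c : Γ) * s) = (ε' : ℂ) * (β : C → ℂ) c) → χ = χ') ∧ (∀ β : Cfsg.IrrCharacter C, ∃ (χ : Cfsg.IrrCharacter G) (χh : Cfsg.IrrCharacter Γ) (ε : ℤ), (∀ s ∈ S, ∀ g g' : G, (g' : Γ)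 = s * g * s⁻¹ → (χ : G → ℂ) g' = (χ : G → ℂ) g) ∧ (∀ g : G, (χh : Γ → ℂ) g = (χ : G → ℂ) g) ∧ (Cfsg.detOrder (χh : Γ → ℂ)).Coprime (Nat.card S) ∧ (ε = 1 ∨ ε = -1) ∧ ∀ c : C, ∀ s : Γ, Subgroup.zpowers s = S → (χh : Γ → ℂ) ((c : Γ) * s) = (ε : ℂ) * (β : C → ℂ) c) := by
  haveI : G.Normal := by
    refine ⟨fun g hg x => ?_⟩
    have hle : G ⊔ S ≤ Subgroup.normalizer (G : Set Γ) :=
      sup_le Subgroup.le_normalizer fun s hs => Subgroup.mem_normalizer_iff.mpr fun y =>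
        ⟨hnorm s hs y, fun h => by simpa [mul_assoc] using hnorm s⁻¹ (inv_mem hs) _ h⟩
    exact (Subgroup.mem_normalizer_iff.mp (hle (htop ▸ Subgroup.mem_top x)) g).mp hg
  obtain ⟨s, rfl, h⟩ := CfsgLib.Glauberman.CyclicSetup.of_eq hcop htop hcyc hC
  rw [Nat.card_zpowers]
  have hcanon : ∀ (χ : Cfsg.IrrCharacter G) (χh : Cfsg.IrrCharacter Γ),
      (∀ g : G, (χh : Γ → ℂ) g = (χ : G → ℂ) g) →
      (Cfsg.detOrder (χh : Γ → ℂ)).Coprime (orderOf s) →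
      CfsgLib.Glauberman.CyclicSetup.IsCanon G s (χ : G → ℂ) χh :=
    fun χ χh h1 h2 => ⟨χh.2, χ.2, h1, h2⟩
  have hinner : ∀ (β β' : Cfsg.IrrCharacter C) (ε ε' : ℤ), (ε = 1 ∨ ε = -1) →
      (∀ c : C, (ε : ℂ) * (β : C → ℂ) c = (ε' : ℂ) * (β' : C → ℂ) c) → β = β' ∧ ε = ε' := by
    intro β β' ε ε' hε he
    have h1 : (fun c : C => (ε : ℂ) * (β : C → ℂ) c) = fun c : C => (ε' : ℂ) * (β' : C → ℂ) c :=
      funext he
    have h2 := congrArg (fun f => Cfsg.classInner f (β : C → ℂ)) h1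
    rw [show (fun c : C => (ε : ℂ) * (β : C → ℂ) c) = (ε : ℂ) • (β : C → ℂ) from rfl,
      show (fun c : C => (ε' : ℂ) * (β' : C → ℂ) c) = (ε' : ℂ) • (β' : C → ℂ) from rfl,
      CfsgLib.Chars.inner_smul_left, CfsgLib.Chars.inner_smul_left,
      CfsgLib.Chars.inner_irr_self] at h2
    rcases Classical.em (β' = β) with e | e
    · subst e
      rw [CfsgLib.Chars.inner_irr_self, mul_one, mul_one] at h2
      exact ⟨rfl, by exact_mod_cast h2⟩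
    · rw [CfsgLib.Chars.inner_irr_of_isIrr β'.2 β.2, if_neg fun h' => e (Subtype.ext h'), mul_one,
        mul_zero] at h2
      rcases hε with rfl | rfl <;> norm_num at h2
  refine ⟨fun χ χh hinv hext hdet => ⟨?_, fun β ε hε hβ => ?_⟩, ?_, fun β => ?_⟩
  · obtain ⟨β, ε, hε, hβ⟩ := h.exists_beta (hcanon χ χh hext hdet)
    refine ⟨(β, ε), ⟨hε, fun c x hx => ?_⟩, ?_⟩
    · rw [h.eval_generator (hcanon χ χh hext hdet) c hx, hβ]
    · rintro ⟨β', ε'⟩ ⟨hε', hβ'⟩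
      obtain ⟨rfl, rfl⟩ := hinner β β' ε ε' hε fun c => (hβ c).symm.trans (hβ' c s rfl)
      rfl
  · exact h.constituent (hcanon χ χh hext hdet) (by rcases hε with rfl | rfl <;> norm_num)
      fun c => hβ c s rfl
  · intro χ χ' χh χh' _ _ h1 h2 d1 d2 β ε ε' hε hε' e1 e2
    by_contra hne
    haveI := Classical.propDecidable ((χ : G → ℂ) = (χ' : G → ℂ))
    have h3 := h.inner_shift_eq (hcanon χ χh h1 d1) (hcanon χ' χh' h2 d2)
    rw [if_neg fun e => hne (Subtype.ext e),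
      show (fun c : C => (χh : Γ → ℂ) ((c : Γ) * s)) = (ε : ℂ) • (β : C → ℂ) from
        funext fun c => e1 c s rfl,
      show (fun c : C => (χh' : Γ → ℂ) ((c : Γ) * s)) = (ε' : ℂ) • (β : C → ℂ) from
        funext fun c => e2 c s rfl,
      CfsgLib.Chars.inner_smul_left, CfsgLib.Chars.inner_smul_right, CfsgLib.Chars.inner_irr_self,
      mul_one, map_intCast] at h3
    rcases hε with rfl | rfl <;> rcases hε' with rfl | rfl <;> norm_num at h3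
  · obtain ⟨χ, χh, ε, hinv, hc, hε, hβ⟩ := h.surj_beta β
    exact ⟨χ, χh, ε, hinv, hc.2.2.1, hc.2.2.2, hε, fun c x hx =>
      by rw [h.eval_generator hc c hx, hβ]⟩

end Cfsg.Agent.S4446
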