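import Cfsg.Statements.S4453
import Cfsg.Agent.Lib.CharsMore.Parity.Ambient

set_option autoImplicit false
open Cfsg CfsgLib CfsgLib.CharsMore.Parity

namespace Cfsg.Agent.S4453

/-- Inside a finite group Γ let S normalise the solvable subgroup G of odd order with the orders of G and S coprime, let C = G ⊓ C(S), and let L ≤ K be S-invariant normal subgroups of G with K/L abelian, G = KC and H = LC (so C ≤ H ≤ G). Then for each S-invariant irreducible character χ of G there is exactly one S-invariant irreducible character ψ of H whose multiplicity in the restriction of χ to H is odd, and χ ↦ ψ is a bijection from the S-invariant irreducible characters of G onto those of H (distinct χ give distinct ψ, and every S-invariant ψ arises). -/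
theorem result {Γ : Type*} [Group Γ] [Fintype Γ] (G S : Subgroup Γ) [Fintype G] (hnorm : ∀ s ∈ S, ∀ g ∈ G, s * g * s⁻¹ ∈ G) (hcop : (Nat.card G).Coprime (Nat.card S)) (hGsolv : Group.IsSolvable G) (hodd : Odd (Nat.card G)) (C : Subgroup Γ) [Fintype C] (hC : C = G ⊓ Subgroup.centralizer (S : Set Γ)) (hCG : C ≤ G) (K L H : Subgroup Γ) [Fintype H] (hLK : L ≤ K) (hKG : K ≤ G) (hKn : ∀ g ∈ G, ∀ k ∈ K, g * k * g⁻¹ ∈ K) (hLn : ∀ g ∈ G, ∀ l ∈ L, g * l * g⁻¹ ∈ L) (hKS : ∀ s ∈ S, ∀ k ∈ K, s * k * s⁻¹ ∈ K) (hLS : ∀ s ∈ S, ∀ l ∈ L, s * l * s⁻¹ ∈ L) (hab : ∀ a ∈ K, ∀ b ∈ K, a * b * a⁻¹ * b⁻¹ ∈ L) (hGKC : K ⊔ C = G) (hH : H = L ⊔ C) (hHG : H ≤ G) : (∀ χ : Cfsg.IrrCharacter G, (∀ s ∈ S, ∀ g g' : G, (g' : Γ) = s * g * s⁻¹ → (χ : G → ℂ) g' = (χ : G → ℂ) g) → ∃! ψ : Cfsg.IrrCharacter H, (∀ s ∈ S, ∀ g g' : H, (g' : Γ) = s * g * s⁻¹ → (ψ : H → ℂ) g' = (ψ : H → ℂ) g) ∧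 ∃ m : ℕ, Cfsg.classInner (fun h : H => (χ : G → ℂ) ⟨h, hHG h.2⟩) (ψ : H → ℂ) = (m : ℂ) ∧ Odd m) ∧ (∀ χ χ' : Cfsg.IrrCharacter G, (∀ s ∈ S, ∀ g g' : G, (g' : Γ) = s * g * s⁻¹ → (χ : G → ℂ) g' = (χ : G → ℂ) g) → (∀ s ∈ S, ∀ g g' : G, (g' : Γ) = s * g * s⁻¹ → (χ' : G → ℂ) g' = (χ' : G → ℂ) g) → ∀ ψ : Cfsg.IrrCharacter H, (∀ s ∈ S, ∀ g g' : H, (g' : Γ) = s * g * s⁻¹ → (ψ : H → ℂ) g' = (ψ : H → ℂ) g) → ∀ m m' : ℕ, Cfsg.classInner (fun h : H => (χ : G → ℂ) ⟨h, hHG h.2⟩) (ψ : H → ℂ) = (m : ℂ) → Odd m → Cfsg.classInner (fun h : H => (χ' : G → ℂ) ⟨h, hHG h.2⟩) (ψ : H → ℂ) = (m' : ℂ) → Odd m' → χ = χ') ∧ (∀ ψ : Cfsg.IrrCharacter H, (∀ s ∈ S, ∀ g g' : H, (g' : Γ) = s * g * s⁻¹ → (ψ : H → ℂ) g' = (ψ : H → ℂ) g) → ∃ χ : Cfsg.IrrCharacter G, (∀ s ∈ S, ∀ g g' : G, (g' : Γ) = s * g * s⁻¹ → (χ : G → ℂ) g' = (χ : G → ℂ) g) ∧ ∃ m : ℕ, Cfsg.classInner (fun h : H => (χ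 : G → ℂ) ⟨h, hHG h.2⟩) (ψ : H → ℂ) = (m : ℂ) ∧ Odd m) := by
  classical
  have hCS : ∀ c ∈ C, ∀ s ∈ S, s * c * s⁻¹ = c := by
    intro c hc s hs
    rw [hC] at hc
    rw [Subgroup.mem_centralizer_iff.1 hc.2 s hs, mul_inv_cancel_right]
  have hCfix : ∀ x ∈ G, (∀ s ∈ S, s * x = x * s) → x ∈ C := by
    intro x hx hs
    rw [hC]
    exact ⟨hx, Subgroup.mem_centralizer_iff.2 hs⟩
  -- decompositions
  have hCnK : C ≤ Subgroup.normalizer (K : Set Γ) := by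
    intro c hc
    rw [Subgroup.mem_normalizer_iff]
    intro x
    refine ⟨fun hx => hKn c (hCG hc) x hx, fun hx => ?_⟩
    have := hKn c⁻¹ (G.inv_mem (hCG hc)) _ hx
    rwa [show c⁻¹ * (c * x * c⁻¹) * c⁻¹⁻¹ = x by group] at this
  have hdecG : ∀ g ∈ G, ∃ k ∈ K, ∃ c ∈ C, g = k * c := by
    intro g hg
    rw [← hGKC, ← SetLike.mem_coe, Subgroup.coe_mul_of_right_le_normalizer_left K C hCnK] at hg
    obtain ⟨k, hk, c, hc, rfl⟩ := Set.mem_mul.1 hg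
    exact ⟨k, hk, c, hc, rfl⟩
  -- enlarge `L` by `C ⊓ K`
  set L' := L ⊔ (C ⊓ K) with hL'
  have hL'K : L' ≤ K := sup_le hLK inf_le_right
  have hLL' : L ≤ L' := le_sup_left
  have hL'n : ∀ g ∈ G, ∀ l ∈ L', g * l * g⁻¹ ∈ L' := by
    intro g hg l hl
    obtain ⟨k, hk, c, hc, rfl⟩ := hdecG g hg
    have hle : L' ≤ L'.comap (MulAut.conj (k * c)).toMonoidHom := by
      refine sup_le (fun x hx => hLL' (hLn _ hg x hx)) fun x hx => ?_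
      show k * c * x * (k * c)⁻¹ ∈ L'
      have hy : c * x * c⁻¹ ∈ C ⊓ K :=
        ⟨C.mul_mem (C.mul_mem hc hx.1) (C.inv_mem hc), hKn c (hCG hc) x hx.2⟩
      have := L'.mul_mem (hLL' (hab k hk _ hy.2)) ((le_sup_right : C ⊓ K ≤ L') hy)
      rwa [show k * (c * x * c⁻¹) * k⁻¹ * (c * x * c⁻¹)⁻¹ * (c * x * c⁻¹) =
        k * c * x * (k * c)⁻¹ by group] at this
    exact hle hl
  have hL'S : ∀ s ∈ S, ∀ l ∈ L', s * l * s⁻¹ ∈ L' := by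
    intro s hs l hl
    have hle : L' ≤ L'.comap (MulAut.conj s).toMonoidHom := by
      refine sup_le (fun x hx => hLL' (hLS s hs x hx)) fun x hx => ?_
      show s * x * s⁻¹ ∈ L'
      rw [hCS x hx.1 s hs]
      exact (le_sup_right : C ⊓ K ≤ L') hx
    exact hle hl
  have hdecH : ∀ h, h ∈ H ↔ ∃ l ∈ L', ∃ c ∈ C, h = l * c := by
    intro h
    constructor
    · intro hh
      have hCnL : C ≤ Subgroup.normalizer (L : Set Γ) := by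
        intro c hc
        rw [Subgroup.mem_normalizer_iff]
        intro x
        refine ⟨fun hx => hLn c (hCG hc) x hx, fun hx => ?_⟩
        have := hLn c⁻¹ (G.inv_mem (hCG hc)) _ hx
        rwa [show c⁻¹ * (c * x * c⁻¹) * c⁻¹⁻¹ = x by group] at this
      rw [hH, ← SetLike.mem_coe, Subgroup.coe_mul_of_right_le_normalizer_left L C hCnL] at hh
      obtain ⟨l, hl, c, hc, rfl⟩ := Set.mem_mul.1 hh
      exact ⟨l, hLL' hl, c, hc, rfl⟩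
    · rintro ⟨l, hl, c, hc, rfl⟩
      rw [hH]
      refine Subgroup.mul_mem _ ?_ ((le_sup_right : C ≤ L ⊔ C) hc)
      exact (sup_le le_sup_left (inf_le_left.trans le_sup_right) : L' ≤ L ⊔ C) hl
  obtain ⟨T, hTH, hθ⟩ := exists_setup G S C K L' hnorm hcop hGsolv hodd hCG hCS hCfix hL'K hKG hKn
    hL'n hKS hL'S (fun a ha b hb => hLL' (hab a ha b hb)) hdecG le_sup_right H hdecH
  haveI : Fintype T.H := Fintype.ofFinite _
  let e : T.H ≃* H :=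
    (MulEquiv.subgroupCongr hTH).trans (Subgroup.subgroupOfEquivOfLe hHG)
  have he : ∀ x : T.H, ((e x : H) : Γ) = ((x : G) : Γ) := fun x => rfl
  have hinner : ∀ (χ : G → ℂ) (ψ : H → ℂ),
      classInner (fun x : T.H => χ x) (fun x => ψ (e x)) =
        classInner (fun h : H => χ ⟨h, hHG h.2⟩) ψ := by
    intro χ ψ
    rw [Chars.inner_def, Chars.inner_def, Nat.card_congr e.toEquiv]
    congr 1
    refine Fintype.sum_equiv e.toEquiv _ _ fun x => ?_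
    rfl
  have hirr : ∀ ψ : IrrCharacter H, IsIrrCharacter T.H (fun x => (ψ : H → ℂ) (e x)) := fun ψ =>
    Chars.isIrrCharacter_comp e.toMonoidHom e.surjective ψ.2
  have hinvG : ∀ χ : G → ℂ, (∀ s ∈ S, ∀ g g' : G, (g' : Γ) = s * g * s⁻¹ → χ g' = χ g) →
      T.InvG χ := fun χ hχ s g => hχ s s.2 g _ (hθ s g)
  have hinvG' : ∀ χ : G → ℂ, T.InvG χ →
      ∀ s ∈ S, ∀ g g' : G, (g' : Γ) = s * g * s⁻¹ → χ g' = χ g := by
    intro χ hχ s hs g g' hg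
    rw [← hχ ⟨s, hs⟩ g]
    congr 1
    exact Subtype.ext (hg.trans (hθ ⟨s, hs⟩ g).symm)
  have hinvH : ∀ ψ : H → ℂ, (∀ s ∈ S, ∀ g g' : H, (g' : Γ) = s * g * s⁻¹ → ψ g' = ψ g) →
      T.InvH (fun x => ψ (e x)) := fun ψ hψ s x => hψ s s.2 (e x) (e (T.θH s x)) (by
    rw [he, he, Setup.coe_θH]
    exact hθ s x)
  have hinvH' : ∀ ψ : T.H → ℂ, T.InvH ψ →
      ∀ s ∈ S, ∀ g g' : H, (g' : Γ) = s * g * s⁻¹ → ψ (e.symm g') = ψ (e.symm g) := by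
    intro ψ hψ s hs g g' hg
    rw [← hψ ⟨s, hs⟩ (e.symm g)]
    congr 1
    refine e.injective ?_
    rw [e.apply_symm_apply]
    refine Subtype.ext ?_
    rw [he, Setup.coe_θH, hθ, hg, ← he (e.symm g), e.apply_symm_apply]
  refine ⟨fun χ hχ => ?_, fun χ χ' hχ hχ' ψ hψ m m' hm hm1 hm' hm1' => ?_, fun ψ hψ => ?_⟩
  · have hI := hinvG _ hχ
    have hA := T.adm_of_inv χ.2 hI
    obtain ⟨ψ0, hψ0, hψ0inv, hsign⟩ := T.forward χ.2 hI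
    have hψH : IsIrrCharacter H (fun g => ψ0 (e.symm g)) :=
      Chars.isIrrCharacter_comp e.symm.toMonoidHom e.symm.surjective hψ0
    obtain ⟨m, hm, hiff⟩ := T.odd_iff χ.2 hA hψ0 hsign hψ0 hψ0inv
    refine ⟨⟨_, hψH⟩, ⟨hinvH' ψ0 hψ0inv, m, ?_, hiff.2 rfl⟩, ?_⟩
    · rw [← hm, ← hinner (χ : G → ℂ) (fun g => ψ0 (e.symm g))]
      congr 1
    · rintro ψ ⟨hψinv, n, hn, hnodd⟩
      obtain ⟨n', hn', hiff'⟩ := T.odd_iff χ.2 hA hψ0 hsign (hirr ψ) (hinvH _ hψinv)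
      rw [hinner, hn] at hn'
      have h0 : ψ0 = fun x => (ψ : H → ℂ) (e x) := hiff'.1 (Nat.cast_inj.1 hn' ▸ hnodd)
      refine Subtype.ext (funext fun g => ?_)
      show (ψ : H → ℂ) g = ψ0 (e.symm g)
      rw [h0]
      simp only [e.apply_symm_apply]
  · refine Subtype.ext (T.eq_of_odd χ.2 χ'.2 (T.adm_of_inv χ.2 (hinvG _ hχ))
      (T.adm_of_inv χ'.2 (hinvG _ hχ')) (hirr ψ) (hinvH _ hψ) ?_ hm1 ?_ hm1')
    · rw [hinner, hm]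
    · rw [hinner, hm']
  · obtain ⟨χ, hχ, hχinv, m, hm, hmodd⟩ := T.exists_above (hirr ψ) (hinvH _ hψ)
    exact ⟨⟨χ, hχ⟩, hinvG' χ hχinv, m, by rw [← hm, ← hinner], hmodd⟩

end Cfsg.Agent.S4453
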