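import Cfsg.Statements.S4457
import Cfsg.Agent.Lib.CharsMore.CdTwo
import Cfsg.Agent.S0855
import Mathlib

set_option autoImplicit false
set_option linter.style.haveILetI false
open Cfsg

namespace Cfsg.Agent.S4457

/-- Let G be a finite group whose irreducible character degrees are exactly 1 and m (m ≠ 1). Then either G has an abelian normal subgroup of index m, or m is a power of a prime p and G is the direct product of a p-group and an abelian group: there are normal subgroups P and A with P a p-group, A abelian, P ⊓ A = 1 and P ⊔ A = G. -/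
theorem result {G : Type*} [Group G] [Finite G] (m : ℕ) (hcd : ∀ χ : Cfsg.IrrCharacter G, Cfsg.charDegree (χ : G → ℂ) = 1 ∨ Cfsg.charDegree (χ : G → ℂ) = m) (hm : ∃ χ : Cfsg.IrrCharacter G, Cfsg.charDegree (χ : G → ℂ) = m) (hm1 : m ≠ 1) : (∃ A : Subgroup G, A.Normal ∧ (∀ a ∈ A, ∀ b ∈ A, a * b = b * a) ∧ A.index = m) ∨ ∃ p e : ℕ, p.Prime ∧ m = p ^ e ∧ ∃ P A : Subgroup G, P.Normal ∧ A.Normal ∧ IsPGroup p P ∧ (∀ a ∈ A, ∀ b ∈ A, a * b = b * a) ∧ P ⊓ A = ⊥ ∧ P ⊔ A = ⊤ := by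
  classical
  let _ := Fintype.ofFinite G
  have hm0 : m ≠ 0 := by
    obtain ⟨χ, hχ⟩ := hm
    exact hχ ▸ (CfsgLib.CharApps.deg_pos χ).ne'
  by_cases hnil : Group.IsNilpotent G
  swap
  · exact Or.inl (CfsgLib.CharsMore.CdTwo.abelian_index_of_not_nilpotent hm0 hcd hnil)
  right
  haveI := hnil
  obtain ⟨p, e, hp, he⟩ := CfsgLib.CharsMore.CdTwo.prime_pow_of_nilpotent hm1 hm0 hcd hm
  haveI := Fact.mk hp
  obtain ⟨A, hA, hAc, hAp, k, hk⟩ := (Cfsg.Agent.S0855.result (G := G) p hp).1 fun χ => by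
    rcases hcd χ with h | h
    · exact ⟨0, by rw [CfsgLib.CharApps.deg_eq, h, pow_zero, Nat.cast_one]⟩
    · exact ⟨e, by rw [CfsgLib.CharApps.deg_eq, h, he]; push_cast; rfl⟩
  have hall : ∀ (r : ℕ) (_ : Fact r.Prime) (S : Sylow r G), (S : Subgroup G).Normal :=
    ((Group.isNilpotent_of_finite_tfae (G := G)).out 0 3).1 hnil
  obtain ⟨P⟩ : Nonempty (Sylow p G) := inferInstance
  obtain ⟨i, hi⟩ := IsPGroup.iff_card.1 P.2
  refine ⟨p, e, hp, he, P, A, hall p inferInstance P, hA, P.2, hAc, ?_, ?_⟩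
  · exact disjoint_iff.1 (Subgroup.disjoint_of_coprime_natCard (hi ▸ hAp.symm.pow_left i))
  · rw [← Subgroup.index_eq_one]
    refine Nat.eq_one_of_dvd_coprimes ((hp.coprime_iff_not_dvd.2 P.not_dvd_index).pow_left k)
      (hk ▸ Subgroup.index_dvd_of_le le_sup_right) (Subgroup.index_dvd_of_le le_sup_left)

end Cfsg.Agent.S4457
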