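import Cfsg.Statements.S4459
import Cfsg.Agent.Lib.CharsMore.CdPrime
import Cfsg.Agent.Lib.CharsMore.ItoDegree
import Mathlib

set_option autoImplicit false
set_option linter.style.haveILetI false
open Cfsg

namespace Cfsg.Agent.S4459

/-- Let G be a non-abelian finite group and p a prime. Then the irreducible character degrees of G are exactly 1 and p if and only if either G has an abelian normal subgroup of index p or the centre of G has index p³. -/
theorem result {G : Type*} [Group G] [Finite G] (hG : ∃ a b : G, a * b ≠ b * a) (p : ℕ) (hp : p.Prime) : ((∀ χ : Cfsg.IrrCharacter G, Cfsg.charDegree (χ : G → ℂ) = 1 ∨ Cfsg.charDegree (χ : G → ℂ) = p) ∧ ∃ χ : Cfsg.IrrCharacter G, Cfsg.charDegree (χ : G → ℂ) = p) ↔ ((∃ A : Subgroup G, A.Normal ∧ (∀ a ∈ A, ∀ b ∈ A, a * b = b * a) ∧ A.index = p) ∨ (Subgroup.center G).index = p ^ 3) := by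
  classical
  let _ := Fintype.ofFinite G
  haveI := Fact.mk hp
  have hnc : ¬ IsMulCommutative G := fun h => by
    obtain ⟨a, b, hab⟩ := hG
    exact hab (h.is_comm.comm a b)
  constructor
  · rintro ⟨hcd, -⟩
    by_cases hA : ∃ A : Subgroup G, A.Normal ∧ (∀ a ∈ A, ∀ b ∈ A, a * b = b * a) ∧ A.index = p
    · exact Or.inl hA
    · exact Or.inr (CfsgLib.CharsMore.CdTwo.center_index_eq_cube hcd hnc
        fun B hB hBc hBi => hA ⟨B, hB, hBc, hBi⟩)
  · intro h
    have hcd : ∀ χ : Cfsg.IrrCharacter G, Cfsg.charDegree (χ : G → ℂ) = 1 ∨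
        Cfsg.charDegree (χ : G → ℂ) = p := by
      intro χ
      rcases h with ⟨A, hA, hAc, hAi⟩ | hZ
      · haveI := hA
        let _ := Fintype.ofFinite A
        obtain ⟨k, hk, hkd⟩ := CfsgLib.CharsMore.ito_degree_dvd A hAc χ.2
        rw [CfsgLib.CharApps.deg_eq, Nat.cast_inj] at hk
        exact (Nat.dvd_prime hp).1 (hAi ▸ hk ▸ hkd)
      · have hdvd : Cfsg.charDegree (χ : G → ℂ) ∣ p ^ 3 := by
          obtain ⟨n, ρ, hρ, he⟩ := χ.2
          haveI := hρ
          have h1 := CfsgLib.Chars.finrank_dvd_index_center ρ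
          rw [Module.finrank_fin_fun, hZ] at h1
          rwa [show Cfsg.charDegree (χ : G → ℂ) = n by
            rw [← he]; simp [Cfsg.charDegree, Representation.char_one]]
        have hsq := CfsgLib.CharsMore.degree_sq_le_index χ.2 (Subgroup.center G) fun z hz =>
          CfsgLib.CharsMore.norm_eq_of_commutes_mod_ker χ.2 fun c => by
            rw [← Subgroup.mem_center_iff.1 hz c, mul_inv_cancel_right, mul_inv_cancel]
        rw [hZ] at hsq
        obtain ⟨i, -, hi⟩ := (Nat.dvd_prime_pow hp).1 hdvd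
        rw [hi] at hsq ⊢
        rw [← pow_mul] at hsq
        have := (Nat.pow_le_pow_iff_right hp.one_lt).1 hsq
        rcases (show i = 0 ∨ i = 1 by omega) with rfl | rfl
        · exact Or.inl (pow_zero p)
        · exact Or.inr (pow_one p)
    refine ⟨hcd, ?_⟩
    by_contra hcon
    push Not at hcon
    obtain ⟨a, b, hab⟩ := hG
    refine hab (CfsgLib.CharsMore.CdTwo.abelian_of_linear (⊤ : Subgroup G) (fun θ => ?_) a
      (Subgroup.mem_top a) b (Subgroup.mem_top b))
    let e : G ≃* (⊤ : Subgroup G) := Subgroup.topEquiv.symm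
    let θ' : Cfsg.IrrCharacter G :=
      ⟨_, CfsgLib.Chars.isIrrCharacter_comp e.toMonoidHom e.surjective θ.2⟩
    have h1 : Cfsg.charDegree (θ' : G → ℂ) = 1 := (hcd θ').resolve_right (hcon θ')
    have h2 : (θ' : G → ℂ) 1 = 1 := by rw [CfsgLib.CharApps.deg_eq, h1, Nat.cast_one]
    rw [← h2]
    show _ = (θ : _ → ℂ) (e 1)
    rw [map_one]

end Cfsg.Agent.S4459
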