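import Cfsg.Statements.S4460
import Cfsg.Agent.Lib.CharsMore.CdThree
import Mathlib
import Mathlib

set_option autoImplicit false
set_option linter.style.haveILetI false
open Cfsg

namespace Cfsg.Agent.S4460

/-- A finite group with exactly three distinct irreducible character degrees is solvable of derived length at most 3: its third derived subgroup is trivial. -/
theorem result {G : Type*} [Group G] [Finite G] (hcd : Nat.card {n : ℕ // ∃ χ : Cfsg.IrrCharacter G, Cfsg.charDegree (χ : G → ℂ) = n} = 3) : derivedSeries G 3 = ⊥ := by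
  classical
  let _ := Fintype.ofFinite G
  set S : Set ℕ := {n | ∃ χ : Cfsg.IrrCharacter G, Cfsg.charDegree (χ : G → ℂ) = n} with hS
  have hcard : S.ncard = 3 := by rw [← Nat.card_coe_set_eq]; exact hcd
  obtain ⟨x, y, z, -, -, -, hxyz⟩ := Set.ncard_eq_three.1 hcard
  have hmem : ∀ χ : Cfsg.IrrCharacter G, charDegree (χ : G → ℂ) = x ∨
      charDegree (χ : G → ℂ) = y ∨ charDegree (χ : G → ℂ) = z := fun χ => by
    have : charDegree (χ : G → ℂ) ∈ S := ⟨χ, rfl⟩
    simpa [hxyz] using this
  have hne : ∀ n ∈ S, n ≠ 0 := by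
    rintro n ⟨χ, rfl⟩
    exact (CfsgLib.CharApps.deg_pos χ).ne'
  have h0 : (x ≠ 0 ∧ y ≠ 0 ∧ z ≠ 0) :=
    ⟨hne x (by simp [hxyz]), hne y (by simp [hxyz]), hne z (by simp [hxyz])⟩
  have h1 : (1 : ℕ) ∈ S := ⟨CfsgLib.Chars.principal G, by
    have h := CfsgLib.CharApps.deg_eq (CfsgLib.Chars.principal G)
    rw [CfsgLib.Chars.principal_apply] at h
    exact_mod_cast h.symm⟩
  rw [hxyz] at h1
  have key := fun a b ha hb h =>
    CfsgLib.CharsMore.CdThree.derived_three (Nat.card G) G le_rfl a b ha hb h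
  rcases h1 with h | h | h
  · exact key y z h0.2.1 h0.2.2 fun χ => h ▸ hmem χ
  · exact key x z h0.1 h0.2.2 fun χ => by rcases hmem χ with e | e | e <;> simp_all
  · rw [Set.mem_singleton_iff] at h
    exact key x y h0.1 h0.2.1 fun χ => by rcases hmem χ with e | e | e <;> simp_all

end Cfsg.Agent.S4460
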