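import Cfsg.Statements.S4471
import Cfsg.Agent.Lib.CharsMore.DegreeLtTwoP

set_option autoImplicit false
open Cfsg

namespace Cfsg.Agent.S4471

/-- Let p ≥ 7 be a prime and let the finite group G have a faithful irreducible character of degree n with n < 2p and n ≠ p. If the Sylow p-subgroups of G are non-abelian then p² does not divide the index of O_p(G) in G; consequently, in every case G/O_p(G) has abelian Sylow p-subgroups. -/
theorem result {G : Type*} [Group G] [Finite G] (χ : Cfsg.IrrCharacter G) (hfaith : ∀ g : G, (χ : G → ℂ) g = (χ : G → ℂ) 1 → g = 1) (n : ℕ) (hn : Cfsg.charDegree (χ : G → ℂ) = n) (p : ℕ) (hp : p.Prime) (h7 : 7 ≤ p) (hn2 : n < 2 * p) (hnp : n ≠ p) : ((∃ P : Sylow p G, ∃ x ∈ (P : Subgroup G), ∃ y ∈ (P : Subgroup G), x * y ≠ y * x) → ¬ p ^ 2 ∣ (Cfsg.pCore p G).index) ∧ ∀ Q : Sylow p (G ⧸ Cfsg.pCore p G), ∀ x ∈ (Q : Subgroup (G ⧸ Cfsg.pCore p G)), ∀ y ∈ (Q : Subgroup (G ⧸ Cfsg.pCore p G)),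 x * y = y * x := by
  haveI : Fact p.Prime := ⟨hp⟩
  let _ := Fintype.ofFinite G
  have hn1 : (χ : G → ℂ) 1 = n := by
    obtain ⟨m, -, hm⟩ := CfsgLib.Chars.irr_degree_nat χ.2
    rw [hm, ← hn, Cfsg.charDegree, hm]
    simp
  have key : (∃ P : Sylow p G, ∃ x ∈ (P : Subgroup G), ∃ y ∈ (P : Subgroup G), x * y ≠ y * x) →
      ¬ p ^ 2 ∣ (Cfsg.pCore p G).index := fun ⟨P, h⟩ =>
    CfsgLib.CharsMore.LtTwoP.not_sq_dvd_index χ.2 hfaith h7 hn1 hn2 hnp P.2 h
  refine ⟨key, ?_⟩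
  haveI : (Cfsg.pCore p G).Normal := inferInstance
  intro Q x hx y hy
  by_cases hab : ∃ P : Sylow p G, ∃ x ∈ (P : Subgroup G), ∃ y ∈ (P : Subgroup G), x * y ≠ y * x
  · obtain ⟨k, hk⟩ := IsPGroup.iff_card.1 Q.2
    have hk2 : k < 2 := by
      by_contra hcon
      exact key hab ((pow_dvd_pow p (not_lt.1 hcon)).trans
        (hk ▸ Subgroup.card_subgroup_dvd_card (Q : Subgroup (G ⧸ Cfsg.pCore p G))))
    have hc : IsCyclic (Q : Subgroup (G ⧸ Cfsg.pCore p G)) := by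
      obtain rfl | rfl : k = 0 ∨ k = 1 := by omega
      · have := (Nat.card_eq_one_iff_unique.1 (hk.trans (pow_zero p))).1
        exact isCyclic_of_subsingleton
      · exact isCyclic_of_prime_card (hk.trans (pow_one p))
    exact congrArg Subtype.val (IsMulCommutative.is_comm.comm (⟨x, hx⟩ : (Q : Subgroup _)) ⟨y, hy⟩)
  · push Not at hab
    obtain ⟨P, rfl⟩ := Sylow.mapSurjective_surjective (QuotientGroup.mk'_surjective _) p Q
    rw [Sylow.coe_mapSurjective] at hx hy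
    obtain ⟨a, ha, rfl⟩ := hx
    obtain ⟨b, hb, rfl⟩ := hy
    rw [← map_mul, ← map_mul, hab P a ha b hb]

end Cfsg.Agent.S4471
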