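import Cfsg.Statements.S4473
import Cfsg.Agent.Lib.CharApps.PrimitiveDegreeTwo

set_option autoImplicit false
open Cfsg Subgroup
open scoped Pointwise commutatorElement

namespace Cfsg.Agent.S4473

/-- Let the finite group G have a faithful irreducible character χ of degree 2 that is primitive: χ is not induced from a character of any proper subgroup. Then the centre of G has index 12, 24 or 60. -/
theorem result {G : Type*} [Group G] [Fintype G] (χ : Cfsg.IrrCharacter G) (hfaith : ∀ g : G, (χ : G → ℂ) g = (χ : G → ℂ) 1 → g = 1) (h2 : Cfsg.charDegree (χ : G → ℂ) = 2) (hprim : ∀ H : Subgroup G, H ≠ ⊤ → ∀ θ : H → ℂ, Cfsg.IsCharacter H θ → (χ : G → ℂ) ≠ Cfsg.indFun H θ) : (Subgroup.center G).index = 12 ∨ (Subgroup.center G).index = 24 ∨ (Subgroup.center G).index = 60 := by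
  obtain ⟨m, ρ, hirr, hρ⟩ := χ.2
  obtain ⟨m', hm'⟩ := CfsgLib.Chars.character_degree_nat (CfsgLib.Chars.isCharacter_of_irr χ.2)
  have hmn : m = 2 := by
    have h1 : (χ : G → ℂ) 1 = (m : ℂ) := by
      rw [← hρ, Representation.char_one, Module.finrank_fin_fun]
    rw [← h2]; simp [charDegree, h1]
  subst hmn
  refine CfsgLib.CharApps.DegreeTwo.index_center ρ hirr (fun g hg => hfaith g ?_) (fun H hH θ hθ => ?_)
  · rw [← hρ]
    exact congrArg (LinearMap.trace ℂ _) (hg.trans (map_one ρ).symm)
  · rw [hρ]; exact hprim H hH θ hθ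


end Cfsg.Agent.S4473
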