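import Cfsg.Statements.S4474
import Cfsg.Agent.Lib.CharApps.RealForm

set_option autoImplicit false
open Cfsg Subgroup
open scoped Pointwise commutatorElement

namespace Cfsg.Agent.S4474

/-- Let χ be an irreducible character of the finite group G. Then the Frobenius–Schur indicator of χ (the average over s ∈ G of χ(s²)) equals 1 if and only if χ is afforded by a real representation: there is a representation of G on a real coordinate space whose trace function, viewed in ℂ, is χ. -/
theorem result {G : Type*} [Group G] [Fintype G] (χ : Cfsg.IrrCharacter G) : ((Nat.card G : ℂ)⁻¹ * ∑ s : G, (χ : G → ℂ) (s * s)) = 1 ↔ ∃ (n : ℕ) (ρ : Representation ℝ G (Fin n → ℝ)), ∀ g : G, ((LinearMap.trace ℝ (Fin n → ℝ) (ρ g) : ℝ) : ℂ) = (χ : G → ℂ) g := by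
  classical
  change CfsgLib.CharApps.fsInd (χ : G → ℂ) = 1 ↔ _
  constructor
  · intro h1
    obtain ⟨n, ρ, hρ, hχ⟩ := χ.2
    haveI := hρ
    have hreal : ∀ g, (starRingEnd ℂ) (ρ.character g) = ρ.character g := by
      by_contra hcon
      push Not at hcon
      rw [hχ] at hcon
      rw [CfsgLib.CharApps.fsInd_eq_zero χ hcon] at h1
      exact zero_ne_one h1
    obtain ⟨⟨M, hM0, hM⟩, hall⟩ := CfsgLib.CharApps.exists_invariant_form ρ hreal
    have hsym : M.transpose = M := by rw [hall M hM, hχ, h1, one_smul]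
    obtain ⟨m, σ, hσ⟩ := CfsgLib.CharApps.exists_real_form ρ hM0 hM hsym
    exact ⟨m, σ, fun g => by rw [hσ g, hχ]⟩
  · rintro ⟨m, σ, hσ⟩
    exact CfsgLib.CharApps.fsInd_eq_one_of_real σ χ hσ


end Cfsg.Agent.S4474
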