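import Cfsg.Statements.S4476
import Cfsg.Agent.Lib.CharApps.FrobeniusSchur
import Cfsg.Agent.Lib.FgsB.Basic

set_option autoImplicit false
open Cfsg Subgroup
open scoped Pointwise commutatorElement

namespace Cfsg.Agent.S4476

theorem sum_indicator_data {G : Type*} [Group G] [Fintype G] [Fintype (Cfsg.IrrCharacter G)]
    [DecidableEq (Cfsg.IrrCharacter G)] (t : ℕ) (ht : Nat.card {x : G // orderOf x = 2} = t) :
    (t : ℝ) ≤ ∑ χ ∈ ((Finset.univ : Finset (Cfsg.IrrCharacter G)).erase
        (CfsgLib.CharApps.oneIrr G)).filter (fun χ : Cfsg.IrrCharacter G =>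
        ∀ g, ((χ : G → ℂ) g).im = 0), (Cfsg.charDegree (χ : G → ℂ) : ℝ) ∧
    ∑ χ ∈ (Finset.univ : Finset (Cfsg.IrrCharacter G)).erase (CfsgLib.CharApps.oneIrr G),
      (Cfsg.charDegree (χ : G → ℂ) : ℝ) ^ 2 = (Nat.card G : ℝ) - 1 := by
  classical
  have hone : Cfsg.charDegree ((CfsgLib.CharApps.oneIrr G : Cfsg.IrrCharacter G) : G → ℂ) = 1 :=
    (CfsgLib.CharApps.deg_eq_one_iff _).mp rfl
  constructor
  · set ν : Cfsg.IrrCharacter G → ℂ := fun χ => CfsgLib.CharApps.fsInd (χ : G → ℂ)
    have hcount : Nat.card {u : G // u * u = 1} = t + 1 := by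
      rw [← ht, ← Nat.card_unique (α := {x : G // x = 1})]
      rw [← Nat.card_sum]
      refine Nat.card_congr ((Equiv.subtypeEquivRight fun u => ?_).trans
        (subtypeOrEquiv (fun u : G => orderOf u = 2) (fun u => u = 1) ?_))
      · rw [orderOf_eq_prime_iff]
        constructor
        · intro h
          by_cases h1 : u = 1
          · exact Or.inr h1
          · exact Or.inl ⟨by rw [pow_two, h], h1⟩
        · rintro (⟨h, -⟩ | h)
          · rwa [← pow_two]
          · rw [h, one_mul]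
      · intro r h1 h2 u hu
        have := h1 u hu
        rw [h2 u hu, orderOf_one] at this
        exact absurd this (by norm_num)
    have h1 := CfsgLib.CharApps.card_sqrt_eq (1 : G)
    rw [hcount, ← Finset.add_sum_erase _ _ (Finset.mem_univ (CfsgLib.CharApps.oneIrr G))] at h1
    have h0 : CfsgLib.CharApps.fsInd ((CfsgLib.CharApps.oneIrr G : Cfsg.IrrCharacter G) : G → ℂ) = 1 :=
      CfsgLib.CharApps.fsInd_one
    rw [h0, CfsgLib.CharApps.oneIrr_apply, one_mul, Nat.cast_add, Nat.cast_one, add_comm] at h1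
    have h2 := congrArg Complex.re (add_left_cancel h1)
    rw [Complex.natCast_re, Complex.re_sum] at h2
    rw [h2, Finset.sum_filter]
    refine Finset.sum_le_sum fun χ _ => ?_
    rw [CfsgLib.CharApps.deg_eq]
    split_ifs with h
    · rcases CfsgLib.CharApps.fsInd_of_real χ (fun g => Complex.conj_eq_iff_im.mpr (h g)) with h3 | h3
      · simp [h3]
      · simp [h3]
    · push Not at h
      obtain ⟨g, hg⟩ := h
      rw [CfsgLib.CharApps.fsInd_eq_zero χ ⟨g, fun hc => hg (Complex.conj_eq_iff_im.mp hc)⟩]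
      simp
  · have h1 := CfsgLib.Chars.sum_degree_sq (G := G)
    rw [← Finset.add_sum_erase _ _ (Finset.mem_univ (CfsgLib.CharApps.oneIrr G))] at h1
    simp only [CfsgLib.CharApps.deg_eq, hone] at h1
    have h2 : (1 : ℝ) + ∑ χ ∈ (Finset.univ : Finset (Cfsg.IrrCharacter G)).erase
        (CfsgLib.CharApps.oneIrr G), (Cfsg.charDegree (χ : G → ℂ) : ℝ) ^ 2 = (Nat.card G : ℝ) := by
      apply Complex.ofReal_injective
      push_cast
      simpa using h1
    linarith


/-- Let G be a finite group of even order g with exactly t involutions, and put α = (g − 1)/t (a rational number). Then (a) some non-identity element x of G has at most α² conjugates; and (b) some non-principal real-valued irreducible character of G has degree at most α. -/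
theorem result {G : Type*} [Group G] [Fintype G] (heven : Even (Nat.card G)) (t : ℕ) (ht : Nat.card {x : G // orderOf x = 2} = t) : (∃ x : G, x ≠ 1 ∧ ((Subgroup.centralizer ({x} : Set G)).index : ℚ) ≤ (((Nat.card G : ℚ) - 1) / t) ^ 2) ∧ ∃ χ : Cfsg.IrrCharacter G, (χ : G → ℂ) ≠ (fun _ => 1) ∧ (∀ g : G, ((χ : G → ℂ) g).im = 0) ∧ (Cfsg.charDegree (χ : G → ℂ) : ℚ) ≤ ((Nat.card G : ℚ) - 1) / t := by
  classical
  haveI := Fintype.ofFinite (Cfsg.IrrCharacter G)
  obtain ⟨hsum, hsq⟩ := sum_indicator_data t ht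
  set E := (Finset.univ : Finset (Cfsg.IrrCharacter G)).erase (CfsgLib.CharApps.oneIrr G) with hE
  set S := E.filter (fun χ : Cfsg.IrrCharacter G => ∀ g, ((χ : G → ℂ) g).im = 0) with hS
  have htpos : 0 < t := by
    obtain ⟨x, hx⟩ := exists_prime_orderOf_dvd_card' (G := G) 2 heven.two_dvd
    haveI : Nonempty {x : G // orderOf x = 2} := ⟨⟨x, hx⟩⟩
    rw [← ht]; exact Nat.card_pos
  have htR : (0 : ℝ) < t := Nat.cast_pos.mpr htpos
  set α : ℝ := ((Nat.card G : ℝ) - 1) / t with hα
  have hαt : α * t = (Nat.card G : ℝ) - 1 := div_mul_cancel₀ _ htR.ne'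
  have hα0 : 0 ≤ α := div_nonneg (sub_nonneg.mpr (Nat.one_le_cast.mpr Nat.card_pos)) htR.le
  have hcast : (((((Nat.card G : ℚ) - 1) / t) : ℚ) : ℝ) = α := by rw [hα]; push_cast; ring
  constructor
  · by_contra hcon
    push Not at hcon
    have hbig : ∀ C ∈ (Finset.univ : Finset (ConjClasses G)).erase (ConjClasses.mk 1),
        α ^ 2 < (C.carrier.ncard : ℝ) := by
      intro C hC
      obtain ⟨x, rfl⟩ := ConjClasses.mk_surjective C
      have hx : x ≠ 1 := fun h => (Finset.mem_erase.mp hC).1 (by rw [h])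
      rw [CfsgLib.FgsB.ncard_carrier_eq_index, ← hcast]
      exact_mod_cast hcon x hx
    have htot : ((Finset.univ : Finset (ConjClasses G)).erase (ConjClasses.mk 1)).sum
        (fun C => (C.carrier.ncard : ℝ)) = (Nat.card G : ℝ) - 1 := by
      have h1 : ∑ C : ConjClasses G, C.carrier.ncard = Nat.card G := by
        rw [Nat.card_eq_fintype_card, ← sum_conjClasses_card_eq_card G]
        exact Finset.sum_congr rfl fun C _ => Set.ncard_eq_toFinset_card' _
      have h2 : (ConjClasses.mk (1 : G)).carrier.ncard = 1 := by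
        rw [CfsgLib.FgsB.ncard_carrier_eq_index]
        exact Subgroup.index_eq_one.mpr (by ext g; simp [Subgroup.mem_centralizer_iff])
      rw [← h1, ← Finset.add_sum_erase _ _ (Finset.mem_univ (ConjClasses.mk (1 : G))), h2]
      push_cast; ring
    have hk : (((Finset.univ : Finset (ConjClasses G)).erase (ConjClasses.mk 1)).card : ℝ) =
        (E.card : ℝ) := by
      rw [hE, Finset.card_erase_of_mem (Finset.mem_univ _), Finset.card_erase_of_mem (Finset.mem_univ _),
        Finset.card_univ, Finset.card_univ, ← Nat.card_eq_fintype_card, ← Nat.card_eq_fintype_card,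
        CfsgLib.Chars.card_irr_eq_card_classes]
    have hCS : (t : ℝ) ^ 2 ≤ (E.card : ℝ) * ((Nat.card G : ℝ) - 1) := by
      rw [← hsq]
      refine le_trans ?_ (sq_sum_le_card_mul_sum_sq)
      refine pow_le_pow_left₀ htR.le (hsum.trans ?_) 2
      exact Finset.sum_le_sum_of_subset_of_nonneg (Finset.filter_subset _ _)
        fun _ _ _ => Nat.cast_nonneg _
    have hEne : (0 : ℝ) < (E.card : ℝ) := by
      by_contra h0
      have : (E.card : ℝ) = 0 := le_antisymm (not_lt.mp h0) (Nat.cast_nonneg _)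
      rw [this, zero_mul] at hCS
      nlinarith
    have hlt : (E.card : ℝ) * α ^ 2 < (Nat.card G : ℝ) - 1 := by
      rw [← htot, ← hk, ← nsmul_eq_mul, ← Finset.sum_const]
      refine Finset.sum_lt_sum_of_nonempty (Finset.card_pos.mp ?_) hbig
      rw [← hk] at hEne
      exact_mod_cast hEne
    rw [← hαt] at hCS hlt
    rcases hα0.eq_or_lt with ha | ha
    · rw [← ha] at hCS; nlinarith
    · have : (t : ℝ) ≤ E.card * α := by nlinarith
      nlinarith
  · by_contra hcon
    push Not at hcon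
    have hne : S.Nonempty := by
      rcases S.eq_empty_or_nonempty with h | h
      · rw [h, Finset.sum_empty] at hsum; linarith
      · exact h
    have hlt : ∑ χ ∈ S, α * (Cfsg.charDegree (χ : G → ℂ) : ℝ) <
        ∑ χ ∈ S, (Cfsg.charDegree (χ : G → ℂ) : ℝ) ^ 2 := by
      refine Finset.sum_lt_sum_of_nonempty hne fun χ hχ => ?_
      obtain ⟨hχE, hreal⟩ := Finset.mem_filter.mp hχ
      have h1 : (((((Nat.card G : ℚ) - 1) / t) : ℚ) : ℝ) < (Cfsg.charDegree (χ : G → ℂ) : ℝ) := by
        exact_mod_cast hcon χ (fun h => (Finset.mem_erase.mp hχE).1 (Subtype.ext h)) hreal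
      rw [hcast] at h1
      rw [sq]
      exact mul_lt_mul_of_pos_right h1 (Nat.cast_pos.mpr (CfsgLib.CharApps.deg_pos χ))
    have hle : ∑ χ ∈ S, (Cfsg.charDegree (χ : G → ℂ) : ℝ) ^ 2 ≤ (Nat.card G : ℝ) - 1 :=
      hsq ▸ Finset.sum_le_sum_of_subset_of_nonneg (Finset.filter_subset _ _)
        fun _ _ _ => sq_nonneg _
    rw [← Finset.mul_sum] at hlt
    have := mul_le_mul_of_nonneg_left hsum hα0
    linarith


end Cfsg.Agent.S4476
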