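import Cfsg.Statements.S4477
import Cfsg.Agent.Lib.CharApps.FrobeniusSchur
import Cfsg.Agent.Lib.Chars.Linear
import Cfsg.Agent.Lib.Chars.Integral
import Cfsg.Agent.Lib.Coprime.Action2
import Cfsg.Agent.Lib.PGroups.UniqueOrderP

set_option autoImplicit false
open Cfsg Subgroup
open scoped Pointwise commutatorElement

namespace Cfsg.Agent.S4477

theorem sq_dvd {a : ℕ} (ha : 2 ∣ a) (e : ℤ) (he : e = 1 ∨ e = -1) :
    (4 : ℤ) ∣ e * (a : ℤ) - a := by
  obtain ⟨b, rfl⟩ := ha
  rcases he with rfl | rfl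
  · simp
  · exact ⟨-(b : ℤ), by push_cast; ring⟩

theorem isCyclic_of_abelianization {G : Type*} [Group G] [Finite G] (hG : IsPGroup 2 G)
    (h : IsCyclic (Abelianization G)) : IsCyclic G := by
  haveI : Group.IsNilpotent G := hG.isNilpotent
  obtain ⟨y, hy⟩ := h.exists_generator
  obtain ⟨x, rfl⟩ := QuotientGroup.mk_surjective y
  refine ⟨x, fun g => ?_⟩
  by_contra hg
  have hne : Subgroup.zpowers x ≠ ⊤ := fun h => hg (show g ∈ Subgroup.zpowers x by
    rw [h]; exact Subgroup.mem_top g)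
  obtain hM | ⟨M, hM, hle⟩ := eq_top_or_exists_le_coatom (Subgroup.zpowers x)
  · exact hne hM
  have hc := CfsgLib.Coprime.commutator_le_coatom hM
  refine hM.1 (eq_top_iff.mpr fun z _ => ?_)
  obtain ⟨k, hk⟩ := Subgroup.mem_zpowers_iff.mp (hy (QuotientGroup.mk z))
  have hk' : (QuotientGroup.mk (x ^ k) : G ⧸ commutator G) = QuotientGroup.mk z := hk
  simpa using mul_mem (hle (zpow_mem (Subgroup.mem_zpowers x) k)) (hc (QuotientGroup.eq.mp hk'))

theorem isCyclic_of_hom {G : Type*} [Group G] [Finite G] (hG : IsPGroup 2 G)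
    (h : Nat.card {μ : G →* ℂˣ // μ ^ 2 = 1} ≤ 2) : IsCyclic (Abelianization G) := by
  classical
  haveI : NeZero (Monoid.exponent (Abelianization G) : ℂ) :=
    ⟨Nat.cast_ne_zero.mpr Monoid.exponent_ne_zero_of_finite⟩
  obtain ⟨e⟩ := CommGroup.monoidHom_mulEquiv_of_hasEnoughRootsOfUnity (Abelianization G) ℂ
  have hA : IsPGroup 2 (Abelianization G) := hG.to_quotient _
  have hA2 : Nat.card {a : Abelianization G // a ^ 2 = 1} ≤ 2 := by
    refine le_trans (le_of_eq ?_) h
    refine Nat.card_congr ((e.symm.toEquiv.trans (Abelianization.lift (A := ℂˣ)).symm).subtypeEquiv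
      fun a => ?_)
    constructor
    · intro ha
      have h1 : (e.symm a) ^ 2 = 1 := by rw [← map_pow, ha, map_one]
      refine MonoidHom.ext fun g => ?_
      exact DFunLike.congr_fun h1 (Abelianization.of g)
    · intro ha
      apply e.symm.injective
      rw [map_pow, map_one]
      refine Abelianization.hom_ext _ _ (MonoidHom.ext fun g => ?_)
      exact DFunLike.congr_fun ha g
  haveI : IsMulCommutative (Abelianization G) := ⟨⟨mul_comm⟩⟩
  by_cases hz : ∃ z : Abelianization G, z ^ 2 = 1 ∧ z ≠ 1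
  · obtain ⟨z, hz, hz1⟩ := hz
    refine CfsgLib.PGroups.isCyclic_of_abelian_of_unique hA (z := z) (fun y hy => ?_) hz
    by_contra hcon
    have h3 : ({1, z, y} : Finset (Abelianization G)).card ≤ 2 := by
      classical
      refine le_trans ?_ hA2
      rw [← Nat.card_eq_finsetCard]
      refine Nat.card_le_card_of_injective (fun w => ⟨w.1, ?_⟩)
        (fun a b hab => Subtype.ext (congrArg Subtype.val hab :))
      have := w.2
      simp only [Finset.mem_insert, Finset.mem_singleton] at this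
      rcases this with h1 | h1 | h1 <;> rw [h1] <;> simp [hz, hy]
    rw [Finset.card_eq_three.mpr ⟨1, z, y, hz1.symm, fun h1 => hcon (h1 ▸ one_mem _),
      fun h1 => hcon (h1 ▸ Subgroup.mem_zpowers z), rfl⟩] at h3
    omega
  · push Not at hz
    exact CfsgLib.PGroups.isCyclic_of_abelian_of_unique hA (z := 1)
      (fun y hy => by rw [hz y hy]; exact one_mem _) (one_pow 2)


/-- Let G be a finite 2-group whose number of involutions is congruent to 1 modulo 4. Then G is cyclic or its commutator subgroup has index 4. -/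
theorem result {G : Type*} [Group G] [Finite G] (hG : IsPGroup 2 G) (ht : Nat.card {x : G // orderOf x = 2} % 4 = 1) : IsCyclic G ∨ (commutator G).index = 4 := by
  classical
  letI := Fintype.ofFinite G
  haveI := Fintype.ofFinite (Cfsg.IrrCharacter G)
  haveI := Fintype.ofFinite (G →* ℂˣ)
  obtain ⟨k, hk⟩ := hG.exists_card_eq
  let X := {χ : Cfsg.IrrCharacter G // (χ : G → ℂ) 1 = 2 ∧
    ∀ g, (starRingEnd ℂ) ((χ : G → ℂ) g) = (χ : G → ℂ) g}
  by_cases hcyc : Nat.card {μ : G →* ℂˣ // μ ^ 2 = 1} ≤ 2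
  · exact Or.inl (isCyclic_of_abelianization hG (isCyclic_of_hom hG hcyc))
  right
  have hreal : ∀ (μ : G →* ℂˣ) (g : G), (starRingEnd ℂ) (μ g : ℂ) = ((μ⁻¹ : G →* ℂˣ) g : ℂ) := by
    intro μ g
    rw [← CfsgLib.Chars.char_inv (CfsgLib.Chars.isCharacter_of_irr
      (CfsgLib.Chars.isIrrCharacter_linear μ)) g, map_inv, MonoidHom.inv_apply]
  letI act : MulAction (G →* ℂˣ) (Cfsg.IrrCharacter G) :=
    { smul := fun μ χ => ⟨fun g => (μ g : ℂ) * (χ : G → ℂ) g,
        CfsgLib.Chars.isIrrCharacter_linear_mul μ χ.2⟩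
      one_smul := fun χ => Subtype.ext (funext fun g => by
        show ((1 : G →* ℂˣ) g : ℂ) * (χ : G → ℂ) g = _
        simp)
      mul_smul := fun μ ν χ => Subtype.ext (funext fun g => by
        show ((μ * ν) g : ℂ) * (χ : G → ℂ) g = (μ g : ℂ) * ((ν g : ℂ) * (χ : G → ℂ) g)
        rw [MonoidHom.mul_apply, Units.val_mul, mul_assoc]) }
  have hact : ∀ (μ : G →* ℂˣ) (χ : Cfsg.IrrCharacter G) (g : G),
      ((μ • χ : Cfsg.IrrCharacter G) : G → ℂ) g = (μ g : ℂ) * (χ : G → ℂ) g := fun _ _ _ => rfl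
  have hH : IsPGroup 2 (G →* ℂˣ) := by
    intro μ
    refine ⟨k, MonoidHom.ext fun g => ?_⟩
    rw [MonoidHom.pow_apply, ← map_pow, ← hk, pow_card_eq_one', map_one, MonoidHom.one_apply]
  set Ω : Subgroup (G →* ℂˣ) :=
    { carrier := {μ | μ ^ 2 = 1}
      one_mem' := one_pow 2
      mul_mem' := fun {a b} ha hb => by
        show (a * b) ^ 2 = 1
        exact ((mul_pow a b 2).trans (congrArg₂ (· * ·) ha hb)).trans (one_mul (1 : G →* ℂˣ))
      inv_mem' := fun {a} ha => by
        show a⁻¹ ^ 2 = 1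
        exact (inv_pow a 2).trans (inv_eq_one.mpr ha) }
  have hΩcard : Nat.card Ω = Nat.card {μ : G →* ℂˣ // μ ^ 2 = 1} := rfl
  have hΩ4 : 4 ∣ Nat.card Ω := by
    obtain ⟨j, hj⟩ := (hH.to_subgroup Ω).exists_card_eq
    rw [hj]
    refine (pow_dvd_pow 2 (?_ : 2 ≤ j) : (2 ^ 2) ∣ _)
    by_contra hlt
    have : 2 ^ j ≤ 2 ^ 1 := Nat.pow_le_pow_right (by norm_num) (by omega)
    omega
  have hX : Odd (Nat.card X) := by
    have h1 := CfsgLib.CharApps.card_sqrt_eq (1 : G)
    have hcount : Nat.card {u : G // u * u = 1} = Nat.card {x : G // orderOf x = 2} + 1 := by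
      rw [← Nat.card_unique (α := {x : G // x = 1}), ← Nat.card_sum]
      refine Nat.card_congr ((Equiv.subtypeEquivRight fun u => ?_).trans
        (subtypeOrEquiv (fun u : G => orderOf u = 2) (fun u => u = 1) ?_))
      · rw [orderOf_eq_prime_iff]
        constructor
        · intro h
          by_cases h1 : u = 1
          · exact Or.inr h1
          · exact Or.inl ⟨by rw [pow_two, h], h1⟩
        · rintro (⟨h, -⟩ | h)
          · rwa [← pow_two]
          · rw [h, one_mul]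
      · intro r h1 h2 u hu
        have := h1 u hu
        rw [h2 u hu, orderOf_one] at this
        exact absurd this (by norm_num)
    have hterm : ∀ χ : Cfsg.IrrCharacter G, ∃ v : ℤ,
        CfsgLib.CharApps.fsInd (χ : G → ℂ) * (χ : G → ℂ) 1 = (v : ℂ) ∧
        (4 : ℤ) ∣ v - ((if ∀ g, (starRingEnd ℂ) ((χ : G → ℂ) g) = (χ : G → ℂ) g then
          (if (χ : G → ℂ) 1 = 1 then 1 else if (χ : G → ℂ) 1 = 2 then 2 else 0) else 0 : ℕ) : ℤ) := by
      intro χ
      by_cases hr : ∀ g, (starRingEnd ℂ) ((χ : G → ℂ) g) = (χ : G → ℂ) g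
      swap
      · push Not at hr
        refine ⟨0, by rw [CfsgLib.CharApps.fsInd_eq_zero χ hr, zero_mul, Int.cast_zero], ?_⟩
        rw [if_neg (by push Not; exact hr)]
        simp
      rw [if_pos hr]
      obtain ⟨d, hd0, hd, hdvd⟩ := CfsgLib.Chars.irr_degree_dvd_card χ.2
      rw [hk, Nat.dvd_prime_pow Nat.prime_two] at hdvd
      obtain ⟨a, -, rfl⟩ := hdvd
      have hs : ∃ e : ℤ, CfsgLib.CharApps.fsInd (χ : G → ℂ) = (e : ℂ) ∧ (e = 1 ∨ e = -1) := by
        rcases CfsgLib.CharApps.fsInd_of_real χ hr with h | h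
        · exact ⟨1, by simp [h], Or.inl rfl⟩
        · exact ⟨-1, by simp [h], Or.inr rfl⟩
      obtain ⟨e, he, he'⟩ := hs
      refine ⟨e * (2 ^ a : ℕ), by rw [he, hd]; push_cast; ring, ?_⟩
      rw [hd]
      rcases a with _ | _ | a
      · obtain ⟨lam, hlam⟩ := CfsgLib.Chars.exists_hom_of_degree_one
          (CfsgLib.Chars.isCharacter_of_irr χ.2) (by simpa using hd)
        have h2 : CfsgLib.CharApps.fsInd (χ : G → ℂ) = 1 := by
          rw [hlam]
          have hsq : ∀ g, (lam (g * g) : ℂ) = 1 := fun g => by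
            have h3 := hr g
            rw [hlam] at h3
            simp only at h3
            rw [hreal, MonoidHom.inv_apply] at h3
            have h4 : (lam g)⁻¹ = lam g := Units.ext h3
            have h5 : lam g * lam g = 1 := by
              conv_lhs => arg 1; rw [← h4]
              exact inv_mul_cancel _
            rw [map_mul, h5, Units.val_one]
          unfold CfsgLib.CharApps.fsInd
          rw [Finset.sum_congr rfl (fun g _ => hsq g)]
          simp [Nat.card_eq_fintype_card]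
        have he1 : e = 1 := by exact_mod_cast (he.symm.trans h2)
        simp [he1]
      · simpa using sq_dvd (a := 2) dvd_rfl e he'
      · have hne1 : ((2 ^ (a + 2) : ℕ) : ℂ) ≠ 1 := fun h => by
          have h' : (2 : ℕ) ^ (a + 2) = 2 ^ 0 := by exact_mod_cast h
          exact absurd (Nat.pow_right_injective le_rfl h') (by omega)
        have hne2 : ((2 ^ (a + 2) : ℕ) : ℂ) ≠ 2 := fun h => by
          have h' : (2 : ℕ) ^ (a + 2) = 2 ^ 1 := by exact_mod_cast h
          exact absurd (Nat.pow_right_injective le_rfl h') (by omega)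
        rw [if_neg hne1, if_neg hne2, Nat.cast_zero, sub_zero]
        exact dvd_mul_of_dvd_right ⟨((2 ^ a : ℕ) : ℤ), by push_cast; ring⟩ _
    choose v hv hv4 using hterm
    simp only [hv] at h1
    have h2 : ((Nat.card {u : G // u * u = 1} : ℤ)) = ∑ χ, v χ := by exact_mod_cast h1
    have h3 := Finset.dvd_sum (fun χ (_ : χ ∈ (Finset.univ : Finset (Cfsg.IrrCharacter G))) => hv4 χ)
    rw [Finset.sum_sub_distrib, ← h2, hcount, ← Nat.cast_sum] at h3
    have h4 : ∑ χ : Cfsg.IrrCharacter G,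
        (if ∀ g, (starRingEnd ℂ) ((χ : G → ℂ) g) = (χ : G → ℂ) g then
          (if (χ : G → ℂ) 1 = 1 then 1 else if (χ : G → ℂ) 1 = 2 then 2 else 0) else 0) =
        Nat.card Ω + 2 * Nat.card X := by
      have hΩe : Nat.card Ω = Nat.card {χ : Cfsg.IrrCharacter G // (χ : G → ℂ) 1 = 1 ∧
          ∀ g, (starRingEnd ℂ) ((χ : G → ℂ) g) = (χ : G → ℂ) g} := by
        refine Nat.card_congr (((CfsgLib.Chars.linearEquiv G).subtypeEquiv fun μ => ?_).trans
          (Equiv.subtypeSubtypeEquivSubtypeInter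
            (fun χ : Cfsg.IrrCharacter G => (χ : G → ℂ) 1 = 1)
            (fun χ : Cfsg.IrrCharacter G =>
              ∀ g, (starRingEnd ℂ) ((χ : G → ℂ) g) = (χ : G → ℂ) g)))
        rw [CfsgLib.Chars.linearEquiv_apply]
        simp only [hreal]
        show μ ^ 2 = 1 ↔ _
        rw [pow_two, mul_eq_one_iff_eq_inv]
        exact ⟨fun h g => by rw [← h], fun h => MonoidHom.ext fun g => Units.ext (h g).symm⟩
      rw [hΩe, Nat.card_eq_fintype_card, Nat.card_eq_fintype_card, Fintype.card_subtype,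
        Fintype.card_subtype, Finset.card_filter, Finset.card_filter, Finset.mul_sum,
        ← Finset.sum_add_distrib]
      refine Finset.sum_congr rfl fun χ _ => ?_
      by_cases hA : (χ : G → ℂ) 1 = 1
      · simp [hA]
      · by_cases hB : (χ : G → ℂ) 1 = 2 <;> simp [hA, hB]
    rw [h4] at h3
    obtain ⟨w, hw⟩ := hΩ4
    rw [Nat.odd_iff]
    omega
  have hstep : ∀ (A : Subgroup (G →* ℂˣ)) (P : Cfsg.IrrCharacter G → Prop)
      (hP : ∀ μ ∈ A, ∀ χ, P χ → P (μ • χ)), Odd (Nat.card {χ // P χ}) →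
      Odd (Nat.card {χ // P χ ∧ ∀ μ ∈ A, μ • χ = χ}) := by
    intro A P hP hodd
    letI : MulAction A {χ // P χ} :=
      { smul := fun μ χ => ⟨(μ : G →* ℂˣ) • χ.1, hP μ μ.2 χ.1 χ.2⟩
        one_smul := fun χ => Subtype.ext (one_smul _ _)
        mul_smul := fun μ ν χ => Subtype.ext (mul_smul _ _ _) }
    have hm := (hH.to_subgroup A).card_modEq_card_fixedPoints {χ // P χ}
    rw [Nat.odd_iff] at hodd ⊢
    rw [← hodd, hm]
    congr 1
    exact Nat.card_congr
      { toFun := fun χ => ⟨⟨χ.1, χ.2.1⟩, fun μ => Subtype.ext (χ.2.2 μ μ.2)⟩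
        invFun := fun χ => ⟨χ.1.1, χ.1.2, fun μ hμ => congrArg Subtype.val (χ.2 ⟨μ, hμ⟩)⟩
        left_inv := fun χ => rfl
        right_inv := fun χ => rfl }
  have hdeg : ∀ (μ : G →* ℂˣ) (χ : Cfsg.IrrCharacter G),
      ((μ • χ : Cfsg.IrrCharacter G) : G → ℂ) 1 = (χ : G → ℂ) 1 := fun μ χ => by
    rw [hact, map_one, Units.val_one, one_mul]
  let P0 : Cfsg.IrrCharacter G → Prop := fun χ => (χ : G → ℂ) 1 = 2 ∧
    ∀ g, (starRingEnd ℂ) ((χ : G → ℂ) g) = (χ : G → ℂ) g
  let P1 : Cfsg.IrrCharacter G → Prop := fun χ => P0 χ ∧ ∀ μ ∈ Ω, μ • χ = χ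
  have hX1 : Odd (Nat.card {χ // P1 χ}) := by
    refine hstep Ω P0 (fun μ hμ χ hχ => ⟨by rw [hdeg]; exact hχ.1, fun g => ?_⟩) hX
    have h5 : μ⁻¹ = μ := inv_eq_of_mul_eq_one_right (G := G →* ℂˣ) ((pow_two μ).symm.trans hμ)
    rw [hact, map_mul, hreal, h5, hχ.2]
  set A : Subgroup (G →* ℂˣ) :=
    { carrier := {μ | μ ^ 4 = 1}
      one_mem' := one_pow 4
      mul_mem' := fun {a b} ha hb => by
        show (a * b) ^ 4 = 1
        exact ((mul_pow a b 4).trans (congrArg₂ (· * ·) ha hb)).trans (one_mul (1 : G →* ℂˣ))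
      inv_mem' := fun {a} ha => by
        show a⁻¹ ^ 4 = 1
        exact (inv_pow a 4).trans (inv_eq_one.mpr ha) }
  have hΩA : Ω ≤ A := fun μ (hμ : μ ^ 2 = 1) => by
    show μ ^ 4 = 1
    exact (pow_mul μ 2 2).trans ((congrArg (· ^ 2) hμ).trans (MonoidHom.ext fun g => by simp))
  have hX2 : Odd (Nat.card {χ // P1 χ ∧ ∀ μ ∈ A, μ • χ = χ}) := by
    refine hstep A P1 (fun μ hμ χ hχ => ?_) hX1
    have hfix : ∀ ν ∈ Ω, ν • (μ • χ) = μ • χ := fun ν hν => by
      exact (mul_smul ν μ χ).symm.trans ((congrArg (· • χ) (mul_comm ν μ)).trans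
        ((mul_smul μ ν χ).trans (congrArg (μ • ·) (hχ.2 ν hν))))
    refine ⟨⟨by rw [hdeg]; exact hχ.1.1, fun g => ?_⟩, hfix⟩
    have h6 : μ⁻¹ = (μ ^ 2) * μ := inv_eq_of_mul_eq_one_right (G := G →* ℂˣ)
      (((congrArg (μ * ·) (pow_succ μ 2).symm).trans (pow_succ' μ 3).symm).trans hμ)
    have h7 : (μ ^ 2) • χ = χ := hχ.2 _ ((pow_mul μ 2 2).symm.trans hμ : (μ ^ 2) ^ 2 = 1)
    rw [hact, map_mul, hreal, hχ.1.2, h6, ← hact,
      (congrArg (· • χ) (mul_comm (μ ^ 2) μ)).trans (mul_smul μ (μ ^ 2) χ), h7, hact]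
  obtain ⟨⟨χ, hχ1, hχA⟩⟩ : Nonempty {χ // P1 χ ∧ ∀ μ ∈ A, μ • χ = χ} := by
    by_contra hcon
    haveI := not_nonempty_iff.mp hcon
    rw [Nat.card_of_isEmpty] at hX2
    exact Nat.not_odd_zero hX2
  have hA4 : Nat.card A ≤ 4 := by
    have hch : Cfsg.IsCharacter G (fun g => (χ : G → ℂ) g * (starRingEnd ℂ) ((χ : G → ℂ) g)) :=
      CfsgLib.Chars.isCharacter_mul (CfsgLib.Chars.isCharacter_of_irr χ.2)
        (CfsgLib.Chars.isCharacter_conj (CfsgLib.Chars.isCharacter_of_irr χ.2))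
    have hf := CfsgLib.Chars.isClassFunction_of_isCharacter hch
    have h8 := congrFun (CfsgLib.Chars.classFun_eq_sum hf) 1
    rw [Finset.sum_apply] at h8
    simp only [Pi.smul_apply, smul_eq_mul] at h8
    set L : Finset (Cfsg.IrrCharacter G) :=
      Finset.univ.image (fun μ : A => (CfsgLib.Chars.linearEquiv G (μ : G →* ℂˣ)).1)
    have hL : L.card = Nat.card A := by
      rw [Finset.card_image_of_injective, Finset.card_univ, Nat.card_eq_fintype_card]
      exact fun a b h => Subtype.ext ((CfsgLib.Chars.linearEquiv G).injective (Subtype.ext h))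
    have hin : ∀ φ ∈ L, Cfsg.classInner (fun g => (χ : G → ℂ) g *
        (starRingEnd ℂ) ((χ : G → ℂ) g)) (φ : G → ℂ) * (φ : G → ℂ) 1 = 1 := by
      intro φ hφ
      obtain ⟨μ, -, rfl⟩ := Finset.mem_image.mp hφ
      rw [CfsgLib.Chars.linearEquiv_apply]
      simp only [map_one, Units.val_one, mul_one]
      have h9 := CfsgLib.Chars.inner_irr_self χ
      rw [CfsgLib.Chars.inner_def] at h9 ⊢
      refine Eq.trans (congrArg _ (Finset.sum_congr rfl fun g _ => ?_)) h9
      have h10 := congrFun (congrArg Subtype.val (hχA (μ : G →* ℂˣ) μ.2)) g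
      rw [hact] at h10
      conv_rhs => arg 2; rw [← h10]
      rw [map_mul]; ring
    have hnn : ∀ φ : Cfsg.IrrCharacter G, ∃ m : ℕ, Cfsg.classInner (fun g => (χ : G → ℂ) g *
        (starRingEnd ℂ) ((χ : G → ℂ) g)) (φ : G → ℂ) * (φ : G → ℂ) 1 = (m : ℂ) := by
      intro φ
      obtain ⟨a, ha⟩ := CfsgLib.Chars.inner_char_nat hch (CfsgLib.Chars.isCharacter_of_irr φ.2)
      exact ⟨a * Cfsg.charDegree (φ : G → ℂ), by rw [ha, CfsgLib.CharApps.deg_eq]; push_cast; ring⟩
    choose m hm using hnn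
    simp only [hm] at h8
    rw [hχ1.1.1, map_ofNat] at h8
    have h9 : ∑ φ, m φ = 4 := by
      have : ((∑ φ, m φ : ℕ) : ℂ) = ((4 : ℕ) : ℂ) := by push_cast; rw [← h8]; norm_num
      exact_mod_cast this
    rw [← hL, ← h9, Finset.card_eq_sum_ones]
    refine le_trans (le_of_eq (Finset.sum_congr rfl fun φ hφ => ?_))
      (Finset.sum_le_sum_of_subset_of_nonneg (Finset.subset_univ L) fun _ _ _ => Nat.zero_le _)
    exact_mod_cast ((hm φ).symm.trans (hin φ hφ)).symm
  have hΩle : Nat.card Ω ≤ Nat.card A := Subgroup.card_le_of_le hΩA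
  have hΩ0 : 0 < Nat.card Ω := Nat.card_pos
  have hΩeq : Ω = A := Subgroup.eq_of_le_of_card_ge hΩA (by
    obtain ⟨w, hw⟩ := hΩ4; omega)
  have hall : ∀ j, ∀ μ : G →* ℂˣ, μ ^ 2 ^ (j + 1) = 1 → μ ∈ Ω := by
    intro j
    induction j with
    | zero => exact fun μ hμ => hμ
    | succ j ih =>
      intro μ hμ
      refine ih μ ?_
      have hA' : μ ^ 2 ^ j ∈ A := by
        show (μ ^ 2 ^ j) ^ 4 = 1
        rw [← pow_mul, show 2 ^ j * 4 = 2 ^ (j + 1 + 1) by ring]
        exact hμ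
      rw [← hΩeq] at hA'
      have hA'' : (μ ^ 2 ^ j) ^ 2 = 1 := hA'
      rwa [← pow_mul, ← pow_succ] at hA''
  have htop : Ω = ⊤ := eq_top_iff.mpr fun μ _ => by
    obtain ⟨j, hj⟩ := hH μ
    exact hall j μ (by rw [pow_succ, pow_mul, hj, one_pow])
  have hcard : Nat.card Ω = (commutator G).index := by
    rw [htop, Subgroup.card_top, CfsgLib.Chars.card_monoidHom_units]
  obtain ⟨w, hw⟩ := hΩ4
  omega


end Cfsg.Agent.S4477
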