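import Cfsg.Statements.S4478
import Cfsg.Agent.Lib.CharApps.Basic
import Cfsg.Agent.Lib.Chars.DefectZero
import Cfsg.Agent.Lib.Chars.Indicator

set_option autoImplicit false
open Cfsg

namespace Cfsg.Agent.S4478

/-- Let G be a finite group of even order and χ an irreducible character of G whose degree x is divisible by the full power of 2 dividing the order of G and, for every odd prime p such that G has an element of order 2p, by the full power of p dividing the order of G. Then all involutions of G are conjugate, the centralizer of every involution has order exactly x with x coprime to its index, and the Frobenius–Schur indicator of χ equals 1. -/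
theorem result {G : Type*} [Group G] [Fintype G] (heven : Even (Nat.card G)) (χ : Cfsg.IrrCharacter G) (h2 : 2 ^ (Nat.card G).factorization 2 ∣ Cfsg.charDegree (χ : G → ℂ)) (hp : ∀ p : ℕ, p.Prime → p ≠ 2 → (∃ g : G, orderOf g = 2 * p) → p ^ (Nat.card G).factorization p ∣ Cfsg.charDegree (χ : G → ℂ)) : (∀ s t : G, orderOf s = 2 → orderOf t = 2 → IsConj s t) ∧ (∀ s : G, orderOf s = 2 → Nat.card (Subgroup.centralizer ({s} : Set G)) = Cfsg.charDegree (χ : G → ℂ) ∧ (Nat.card (Subgroup.centralizer ({s} : Set G))).Coprime (Subgroup.centralizer ({s} : Set G)).index) ∧ (Nat.card G : ℂ)⁻¹ * ∑ g : G, (χ : G → ℂ) (g * g) = 1 := by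
  classical
  set x := Cfsg.charDegree (χ : G → ℂ) with hx
  have hxval : (χ : G → ℂ) 1 = (x : ℂ) := CfsgLib.CharApps.deg_eq χ
  have hx0 : 0 < x := CfsgLib.CharApps.deg_pos χ
  have hG0 : Nat.card G ≠ 0 := Nat.card_pos.ne'
  have hvan : ∀ p : ℕ, p.Prime → p ^ (Nat.card G).factorization p ∣ x →
      ∀ g : G, p ∣ orderOf g → (χ : G → ℂ) g = 0 := fun p hp' hd g hg =>
    CfsgLib.Chars.eq_zero_of_dvd_orderOf χ.2 hp' hxval
      (Nat.pow_succ_factorization_not_dvd hG0 hp') hd hg
  -- the primes of an involution centralizer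
  have hfull : ∀ s : G, orderOf s = 2 → ∀ p : ℕ, p.Prime →
      p ∣ Nat.card (Subgroup.centralizer ({s} : Set G)) → p ^ (Nat.card G).factorization p ∣ x := by
    intro s hs p hp' hpd
    by_cases h2' : p = 2
    · subst h2'; exact h2
    haveI := Fact.mk hp'
    obtain ⟨⟨y, hy⟩, hyo⟩ := exists_prime_orderOf_dvd_card' p hpd
    rw [Subgroup.orderOf_mk] at hyo
    refine hp p hp' h2' ⟨s * y, ?_⟩
    have hc : Commute s y := (Subgroup.mem_centralizer_singleton_iff.1 hy).symm
    rw [hc.orderOf_mul_eq_mul_orderOf_of_coprime, hs, hyo]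
    rw [hs, hyo]
    exact (Nat.coprime_primes Nat.prime_two hp').2 (Ne.symm h2')
  have hdvd : ∀ s : G, orderOf s = 2 → Nat.card (Subgroup.centralizer ({s} : Set G)) ∣ x := by
    intro s hs
    refine (Nat.factorization_prime_le_iff_dvd Nat.card_pos.ne' hx0.ne').1 fun p hp' => ?_
    by_cases hpd : p ∣ Nat.card (Subgroup.centralizer ({s} : Set G))
    · exact ((Nat.factorization_le_iff_dvd Nat.card_pos.ne' hG0).2
        (Subgroup.card_subgroup_dvd_card _) p).trans
        ((hp'.pow_dvd_iff_le_factorization hx0.ne').1 (hfull s hs p hp' hpd))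
    · rw [Nat.factorization_eq_zero_of_not_dvd hpd]; exact Nat.zero_le _
  -- the squares
  set I := Finset.univ.filter (fun g : G => orderOf g = 2) with hI
  set O := Finset.univ.filter (fun g : G => Odd (orderOf g)) with hO
  have hrest : ∀ g : G, g ∉ O → g ∉ I → (χ : G → ℂ) (g * g) = 0 := by
    intro g hgO hgI
    simp only [hO, hI, Finset.mem_filter, Finset.mem_univ, true_and, Nat.not_odd_iff_even] at hgO hgI
    rw [← pow_two]
    obtain ⟨m, hm⟩ := hgO
    have h2g : orderOf (g ^ 2) = m := by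
      rw [orderOf_pow, hm, show m + m = m * 2 by ring, Nat.gcd_mul_left_left,
        Nat.mul_div_cancel _ two_pos]
    have hm1 : m ≠ 1 := fun h => hgI (by rw [hm, h])
    obtain ⟨p, hp', hpm⟩ := Nat.exists_prime_and_dvd hm1
    refine hvan p hp' ?_ _ (h2g.symm ▸ hpm)
    by_cases h2' : p = 2
    · subst h2'; exact h2
    refine hp p hp' h2' ⟨g ^ (orderOf g / (2 * p)),
      orderOf_pow_orderOf_div (orderOf_pos g).ne' ?_⟩
    rw [hm, show m + m = 2 * m by ring]
    exact mul_dvd_mul_left 2 hpm
  have hodd : ∑ g ∈ O, (χ : G → ℂ) (g * g) = ∑ g : G, (χ : G → ℂ) g := by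
    rw [← Finset.sum_subset (Finset.subset_univ O) (fun g _ hg => by
      simp only [hO, Finset.mem_filter, Finset.mem_univ, true_and, Nat.not_odd_iff_even] at hg
      exact hvan 2 Nat.prime_two h2 g (even_iff_two_dvd.1 hg))]
    have hmem : ∀ g : G, g ∈ O ↔ Odd (orderOf g) := fun g => by simp [hO]
    have hinv : ∀ g : G, Odd (orderOf g) →
        (g * g) ^ ((orderOf g + 1) / 2) = g ∧ g ^ ((orderOf g + 1) / 2) * g ^ ((orderOf g + 1) / 2) = g := by
      rintro g ⟨j, hj⟩
      have h1 : (orderOf g + 1) / 2 + (orderOf g + 1) / 2 = orderOf g + 1 := by omega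
      have h3 : g ^ ((orderOf g + 1) / 2) * g ^ ((orderOf g + 1) / 2) = g := by
        rw [← pow_add, h1, pow_succ, pow_orderOf_eq_one, one_mul]
      exact ⟨by rw [(Commute.refl g).mul_pow, h3], h3⟩
    have hsqo : ∀ g : G, Odd (orderOf g) → orderOf (g * g) = orderOf g := fun g hg => by
      rw [← pow_two, Nat.Coprime.orderOf_pow (Nat.coprime_two_right.2 hg)]
    refine Finset.sum_bij' (fun g _ => g * g) (fun g _ => g ^ ((orderOf g + 1) / 2)) ?_ ?_ ?_ ?_ ?_
    · intro g hg
      rw [hmem] at hg ⊢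
      rw [hsqo g hg]; exact hg
    · intro g hg
      rw [hmem] at hg ⊢
      exact hg.of_dvd_nat (orderOf_pow_dvd _)
    · intro g hg
      rw [hmem] at hg
      show (g * g) ^ ((orderOf (g * g) + 1) / 2) = g
      rw [hsqo g hg]; exact (hinv g hg).1
    · intro g hg
      exact (hinv g ((hmem g).1 hg)).2
    · intro g _; rfl
  have hsum0 : ∑ g : G, (χ : G → ℂ) g = 0 := by
    have hne : χ ≠ CfsgLib.CharApps.oneIrr G := by
      intro h
      have h1 : (χ : G → ℂ) 1 = 1 := by rw [h]; rfl
      rw [hxval, Nat.cast_eq_one] at h1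
      rw [h1, Nat.dvd_one] at h2
      have : 1 ≤ (Nat.card G).factorization 2 :=
        Nat.Prime.factorization_pos_of_dvd Nat.prime_two hG0 (even_iff_two_dvd.1 heven)
      exact absurd (h2) (Nat.one_lt_two_pow (by omega)).ne'
    have h1 := CfsgLib.Chars.inner_irr_ne hne
    rw [CfsgLib.Chars.inner_def, mul_eq_zero] at h1
    simpa [CfsgLib.CharApps.oneIrr_apply] using
      h1.resolve_left (inv_ne_zero (CfsgLib.Chars.card_ne_zero G))
  have hsum : ∑ g : G, (χ : G → ℂ) (g * g) = ((I.card * x : ℕ) : ℂ) := by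
    have hdis : Disjoint O I := Finset.disjoint_left.2 fun g hg hg' => by
      simp only [hO, hI, Finset.mem_filter, Finset.mem_univ, true_and] at hg hg'
      rw [hg'] at hg
      exact absurd hg (by decide)
    rw [← Finset.sum_subset (Finset.subset_univ (O ∪ I)) (fun g _ hg => by
      rw [Finset.mem_union, not_or] at hg
      exact hrest g hg.1 hg.2), Finset.sum_union hdis, hodd, hsum0, zero_add,
      Finset.sum_congr rfl (g := fun _ => (x : ℂ)) (fun g hg => by
        have h' := (Finset.mem_filter.1 hg).2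
        rw [← pow_two, show g ^ 2 = 1 from h' ▸ pow_orderOf_eq_one g, hxval]),
      Finset.sum_const, nsmul_eq_mul, Nat.cast_mul]
  -- each class of involutions gives at least `|G|`
  have hcls : ∀ s : G, orderOf s = 2 →
      (Finset.univ.filter fun y => IsConj s y) ⊆ I ∧
      ∃ t, 0 < t ∧ x = Nat.card (Subgroup.centralizer ({s} : Set G)) * t ∧
        (Finset.univ.filter fun y => IsConj s y).card * x = Nat.card G * t := by
    intro s hs
    refine ⟨fun y hy => ?_, ?_⟩
    · simp only [hI, Finset.mem_filter, Finset.mem_univ, true_and] at hy ⊢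
      obtain ⟨c, rfl⟩ := isConj_iff.1 hy
      rw [← hs]
      exact (MulAut.conj c).orderOf_eq s
    obtain ⟨t, ht⟩ := hdvd s hs
    refine ⟨t, Nat.pos_of_ne_zero fun h => by rw [h, mul_zero] at ht; omega, ht, ?_⟩
    have h1 := CfsgLib.Chars.card_isConj_mul_card_centralizer s
    rw [Nat.card_eq_fintype_card, Fintype.card_subtype] at h1
    rw [ht, ← mul_assoc, h1]
  obtain ⟨s₀, hs₀⟩ : ∃ s : G, orderOf s = 2 :=
    exists_prime_orderOf_dvd_card' 2 (even_iff_two_dvd.1 heven)
  obtain ⟨hsub, t, ht0, -, hk⟩ := hcls s₀ hs₀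
  have hν : (Nat.card G : ℂ)⁻¹ * ∑ g : G, (χ : G → ℂ) (g * g) = 1 ∧ I.card * x = Nat.card G := by
    have hlow : Nat.card G ≤ I.card * x := by
      calc Nat.card G = Nat.card G * 1 := (mul_one _).symm
        _ ≤ Nat.card G * t := Nat.mul_le_mul_left _ ht0
        _ ≤ I.card * x := hk ▸ Nat.mul_le_mul_right x (Finset.card_le_card hsub)
    have hG0' : (Nat.card G : ℂ) ≠ 0 := CfsgLib.Chars.card_ne_zero G
    rcases (CfsgLib.Chars.indicator_trichotomy χ.2).1 with h | h | h
    · exfalso
      rw [hsum, mul_eq_zero, or_iff_right (inv_ne_zero hG0'), Nat.cast_eq_zero] at h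
      omega
    · refine ⟨h, ?_⟩
      rw [hsum, inv_mul_eq_iff_eq_mul₀ hG0', mul_one] at h
      exact_mod_cast h
    · exfalso
      rw [hsum, inv_mul_eq_iff_eq_mul₀ hG0'] at h
      have h' : ((I.card * x + Nat.card G : ℕ) : ℂ) = ((0 : ℕ) : ℂ) := by
        push_cast at h ⊢
        linear_combination h
      have := Nat.cast_injective h'
      omega
  have hone : ∀ s : G, orderOf s = 2 →
      Nat.card (Subgroup.centralizer ({s} : Set G)) = x ∧
        (Finset.univ.filter fun y => IsConj s y) = I := by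
    intro s hs
    obtain ⟨hsub', t', ht', hxt, hk'⟩ := hcls s hs
    have h1 : Nat.card G * t' ≤ Nat.card G * 1 := by
      rw [← hk', mul_one, ← hν.2]
      exact Nat.mul_le_mul_right x (Finset.card_le_card hsub')
    have ht1 : t' = 1 := by
      have := Nat.le_of_mul_le_mul_left h1 Nat.card_pos
      omega
    rw [ht1, mul_one] at hxt hk'
    exact ⟨hxt.symm, Finset.eq_of_subset_of_card_le hsub'
      (Nat.eq_of_mul_eq_mul_right hx0 (hν.2.trans hk'.symm)).le⟩
  refine ⟨fun s u hs hu => ?_, fun s hs => ⟨(hone s hs).1, ?_⟩, hν.1⟩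
  · have : u ∈ I := by simp [hI, hu]
    rw [← (hone s hs).2] at this
    exact (Finset.mem_filter.1 this).2
  · refine Nat.coprime_of_dvd fun p hp' hpC hpi => ?_
    have h1 := hfull s hs p hp' hpC
    rw [← (hone s hs).1] at h1
    refine Nat.pow_succ_factorization_not_dvd hG0 hp' ?_
    rw [← (Subgroup.centralizer ({s} : Set G)).card_mul_index, pow_succ]
    rw [(Subgroup.centralizer ({s} : Set G)).card_mul_index]
    rw [← (Subgroup.centralizer ({s} : Set G)).card_mul_index] at h1 ⊢
    exact mul_dvd_mul h1 hpi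

end Cfsg.Agent.S4478
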