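import Cfsg.Statements.S4482
import Cfsg.Agent.Lib.Blocks.DihedralOrder

set_option autoImplicit false
open Cfsg

set_option linter.style.haveILetI false

namespace Cfsg.Agent.S4482

/-- An order formula for groups with dihedral Sylow 2-subgroups and one class of involutions. Let G be a finite group whose Sylow 2-subgroup P = ⟨σ, τ⟩ is dihedral of order 2^n ≥ 8 (σ of order 2^(n−1), τ an involution inverting σ), let J be the central involution σ^(2^(n−2)), and suppose J, τ and στ are conjugate in G. Fix M over 2 and let χ₁ be an irreducible character in the principal 2-block taking one constant value δ₁ = ±1 at every non-identity power of σ, with χ₁ ≠ 1. Then, with x₁ = χ₁(1) and c(·) denoting orders of centralizers, x₁ ≠ δ₁ and #G · (x₁ − δ₁)² = 2·x₁(x₁ + δ₁)·c(J)³·(1/c(J, τ) + 1/c(J, στ))², where c(J, y) is the order of the joint centralizer of J and y. -/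
theorem result {G : Type*} [Group G] [Finite G] (M : Ideal Cfsg.AlgInt) (hM : Cfsg.IsPModular 2 M) (n : ℕ) (hn : 3 ≤ n) (P : Sylow 2 G) (σ τ : G) (hσ : σ ∈ (P : Subgroup G)) (hτ : τ ∈ (P : Subgroup G)) (hσo : orderOf σ = 2 ^ (n - 1)) (hτo : orderOf τ = 2) (hrel : τ * σ * τ⁻¹ = σ⁻¹) (hgen : Subgroup.closure ({σ, τ} : Set G) = (P : Subgroup G)) (hconj : IsConj (σ ^ (2 ^ (n - 2))) τ ∧ IsConj (σ ^ (2 ^ (n - 2))) (σ * τ)) (χ₁ : Cfsg.IrrCharacter G) (hχ₁ : χ₁ ∈ Cfsg.principalBlock M G) (h1 : (χ₁ : G → ℂ) ≠ (fun _ => 1)) (δ₁ : ℤ) (hδ₁ : δ₁ = 1 ∨ δ₁ = -1) (hval : ∀ l : ℕ, 0 < l → l < 2 ^ (n - 1) → (χ₁ : G → ℂ) (σ ^ l) = δ₁) : (Cfsg.charDegree (χ₁ : G → ℂ) : ℤ) ≠ δ₁ ∧ (Nat.card G : ℚ) * ((Cfsg.charDegree (χ₁ : G → ℂ) : ℚ) - δ₁) ^ 2 = 2 * (Cfsg.charDegree (χ₁ : G → ℂ) : ℚ) * ((Cfsg.charDegree (χ₁ : G → ℂ) : ℚ) + δ₁) * (Nat.card (Subgroup.centralizer ({σ ^ (2 ^ (n - 2))} : Set G)) : ℚ) ^ 3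 * (1 / (Nat.card (Subgroup.centralizer ({σ ^ (2 ^ (n - 2)), τ} : Set G)) : ℚ) + 1 / (Nat.card (Subgroup.centralizer ({σ ^ (2 ^ (n - 2)), σ * τ} : Set G)) : ℚ)) ^ 2 := by
  open CfsgLib CfsgLib.Blocks CfsgLib.Chars CfsgLib.Involutions in
  haveI := Fintype.ofFinite G
  haveI := isPrime_of_isPModular hM
  haveI : Fact (Nat.Prime 2) := ⟨Nat.prime_two⟩
  have hτ2 : τ * τ = 1 := invol_mul_self hτo
  have hnot : τ ∉ Subgroup.zpowers σ := by
    rintro ⟨i, hi⟩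
    have h1 : τ * σ * τ⁻¹ = σ := by
      rw [← hi]; exact mul_inv_eq_iff_eq_mul.2 ((Commute.refl σ).zpow_left i).eq
    rw [hrel] at h1
    have h2 : σ ^ 2 = 1 := by rw [sq]; nth_rewrite 1 [← h1]; exact inv_mul_cancel σ
    have h3 := Nat.le_of_dvd two_pos (hσo ▸ orderOf_dvd_of_pow_eq_one h2)
    have h4 : 2 ^ 2 ≤ 2 ^ (n - 1) := Nat.pow_le_pow_right two_pos (by omega)
    omega
  have hcomm : ∀ i : ℤ, τ * σ ^ i = σ ^ (-i) * τ := fun i => by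
    rw [← mul_inv_eq_iff_eq_mul, ← conj_zpow, hrel, inv_zpow, zpow_neg]
  have hcover : ∀ g ∈ (P : Subgroup G), (∃ i : ℤ, g = σ ^ i) ∨ ∃ i : ℤ, g = σ ^ i * τ := by
    intro g hg
    rw [← hgen] at hg
    induction hg using Subgroup.closure_induction with
    | mem a ha =>
      rcases ha with rfl | rfl
      · exact Or.inl ⟨1, (zpow_one _).symm⟩
      · exact Or.inr ⟨0, by rw [zpow_zero, one_mul]⟩
    | one => exact Or.inl ⟨0, (zpow_zero _).symm⟩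
    | mul a b _ _ iha ihb =>
      rcases iha with ⟨i, rfl⟩ | ⟨i, rfl⟩ <;> rcases ihb with ⟨j, rfl⟩ | ⟨j, rfl⟩
      · exact Or.inl ⟨i + j, (zpow_add _ _ _).symm⟩
      · exact Or.inr ⟨i + j, by rw [zpow_add, mul_assoc]⟩
      · exact Or.inr ⟨i + -j, by rw [mul_assoc, hcomm, ← mul_assoc, zpow_add]⟩
      · exact Or.inl ⟨i + -j, by
          rw [mul_assoc, ← mul_assoc τ, hcomm, mul_assoc (σ ^ (-j)), hτ2, mul_one, zpow_add]⟩
    | inv a _ iha =>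
      rcases iha with ⟨i, rfl⟩ | ⟨i, rfl⟩
      · exact Or.inl ⟨-i, (zpow_neg _ _).symm⟩
      · exact Or.inr ⟨i, by rw [mul_inv_rev, invol_inv hτo, ← zpow_neg, hcomm, neg_neg]⟩
  set d : DP (P : Subgroup G) :=
    ⟨n - 1, σ, τ, by omega, hσ, hτ, hσo, hτo, hrel, hnot, hcover⟩ with hd
  have hz : d.z = σ ^ 2 ^ (n - 2) := by
    show σ ^ ((2 : ℤ) ^ (n - 1 - 1)) = _
    rw [show n - 1 - 1 = n - 2 by omega, ← zpow_natCast σ (2 ^ (n - 2)), Nat.cast_pow, Nat.cast_ofNat]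
  have hr0 : d.r 0 = τ := by show σ ^ (0 : ℤ) * τ = τ; rw [zpow_zero, one_mul]
  have hr1 : d.r 1 = σ * τ := by show σ ^ (1 : ℤ) * τ = σ * τ; rw [zpow_one]
  have hone : ∀ s : G, orderOf s = 2 → IsConj d.z s := by
    intro s hs
    rcases exists_conj_cases d ⟨1, by rw [hs, pow_one]⟩ with ⟨l, hl⟩ | ⟨i, hi⟩
    · obtain ⟨c, hc⟩ := isConj_iff.1 hl
      have h2 : orderOf (d.x ^ l) = 2 := by rw [← hc]; exact conj_invol c hs
      have h3 := invol_mul_self h2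
      rw [← zpow_add, d.zpow_eq_one, ← two_mul] at h3
      rcases d.zpow_of_half_dvd ((Int.mul_dvd_mul_iff_left two_ne_zero).1 h3) with h4 | h4
      · exact absurd h4 (invol_ne_one h2)
      · exact (h4 ▸ hl).symm
    · obtain ⟨j, hj | hj⟩ : ∃ j : ℤ, i = 0 + 2 * j ∨ i = 1 + 2 * j := ⟨i / 2, by omega⟩
      · rw [hj] at hi
        refine IsConj.trans ?_ hi.symm
        rw [← d.conj_r, hr0, hz]
        exact hconj.1.trans (isConj_iff.2 ⟨d.x ^ j, rfl⟩)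
      · rw [hj] at hi
        refine IsConj.trans ?_ hi.symm
        rw [← d.conj_r, hr1, hz]
        exact hconj.2.trans (isConj_iff.2 ⟨d.x ^ j, rfl⟩)
  have h := dihedral_order_formula d hM (show 2 ≤ n - 1 by omega) hone χ₁ hχ₁
    (fun e => h1 (by rw [e]; rfl)) δ₁ hδ₁ hval
  rwa [hr0, hr1, hz] at h

end Cfsg.Agent.S4482
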