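import Cfsg.Statements.S4483
import Cfsg.Agent.Lib.BlockOrth.TwoBlocks

set_option autoImplicit false
open Cfsg CfsgLib.BlockOrth

namespace Cfsg.Agent.S4483

/-- Let G be a finite group of order 2^n·g₀ with g₀ odd, and M a maximal ideal of the algebraic integers containing 2. Every real-valued irreducible character of G of odd degree lies in the principal 2-block; consequently G has at most 2^(2n) real-valued irreducible characters of odd degree. -/
theorem result {G : Type*} [Group G] [Finite G] (M : Ideal Cfsg.AlgInt) (hM : Cfsg.IsPModular 2 M) : (∀ χ : Cfsg.IrrCharacter G, (∀ g : G, ((χ : G → ℂ) g).im = 0) → Odd (Cfsg.charDegree (χ : G → ℂ)) → χ ∈ Cfsg.principalBlock M G) ∧ Nat.card {χ : Cfsg.IrrCharacter G // (∀ g : G, ((χ : G → ℂ) g).im = 0) ∧ Odd (Cfsg.charDegree (χ : G → ℂ))} ≤ 2 ^ (2 * (Nat.card G).factorization 2) := by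
  haveI := Fintype.ofFinite G
  haveI := CfsgLib.Chars.irrFintype G
  haveI : Fact (Nat.Prime 2) := ⟨Nat.prime_two⟩
  haveI := CfsgLib.Blocks.isPrime_of_isPModular hM
  have hpM : (2 : Cfsg.AlgInt) ∈ M := by exact_mod_cast hM.2.2
  refine ⟨fun χ h1 h2 => mem_principalBlock_of_real_odd hpM χ h1 h2, ?_⟩
  have hB := CfsgLib.Blocks.isPBlock_principalBlock (G := G) M
  have h0 := CfsgLib.Blocks.principal_mem_principalBlock (G := G) M
  have hdef : Cfsg.blockDefect 2 (Cfsg.principalBlock M G) = (Nat.card G).factorization 2 := by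
    have h1 : degVal 2 (CfsgLib.Chars.principal G) = 0 := by
      simp [degVal, Cfsg.charDegree, CfsgLib.Chars.principal_apply]
    have := blockMin_le (p := 2) h0
    rw [blockDefect_eq]
    omega
  have h4 := four_mul_card_le hM.2.2 hB
  rw [hdef] at h4
  have hle : Nat.card {χ : Cfsg.IrrCharacter G // (∀ g : G, ((χ : G → ℂ) g).im = 0) ∧
      Odd (Cfsg.charDegree (χ : G → ℂ))} ≤ Nat.card (Cfsg.principalBlock M G) :=
    Nat.card_le_card_of_injective
      (fun χ => ⟨χ.1, mem_principalBlock_of_real_odd hpM χ.1 χ.2.1 χ.2.2⟩)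
      (fun a b h => Subtype.ext (congrArg (fun z => (z : Cfsg.principalBlock M G).1) h))
  have := Nat.one_le_two_pow (n := 2 * (Nat.card G).factorization 2)
  omega

end Cfsg.Agent.S4483
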