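import Cfsg.Statements.S4484
import Cfsg.Agent.Lib.LocalEven.BlichfeldtTwoSided
import Cfsg.Agent.Lib.CharApps.AbelianSylow
import Cfsg.Agent.Lib.CharApps.Basic
import Cfsg.Agent.Lib.Blocks.RegularTwist
import Cfsg.Agent.Lib.Blocks.Degree
import Cfsg.Agent.Lib.Blocks.DefectOneValues
import Cfsg.Agent.Lib.Blocks.Omega
import Cfsg.Agent.Lib.Chars.Integral

set_option autoImplicit false
open Cfsg

set_option linter.unusedSectionVars false
set_option linter.style.haveILetI false

namespace Cfsg.Agent.S4484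

open CfsgLib.Chars CfsgLib.CharApps CfsgLib.Blocks
open scoped ComplexConjugate

universe u

variable {G : Type u} [Group G] [Fintype G] {p : ℕ} [Fact p.Prime] {M : Ideal AlgInt} [M.IsPrime]

/-- Roots of unity of order dividing `p` are congruent to one. -/
lemma root_congr (hpM : (p : AlgInt) ∈ M) {z : ℂ} (hz : z ^ p = 1) : MemLocalIdeal M (z - 1) := by
  haveI := charP_resField (M := M) (Fact.out (p := p.Prime)) hpM
  have hzl : z ∈ loc M := isIntegral_mem_loc
    (IsIntegral.of_pow (Fact.out (p := p.Prime)).pos (hz ▸ isIntegral_one))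
  set w : loc M := ⟨z, hzl⟩
  have hw : w ^ p = 1 := Subtype.ext hz
  have h : red (w - 1) = 0 := by
    have h1 : (red (w - 1)) ^ p = 0 := by
      rw [map_sub, map_one, sub_pow_char, ← map_pow, hw, map_one, one_pow, sub_self]
    exact eq_zero_of_pow_eq_zero h1
  exact red_eq_zero_iff.1 h

/-- A character of the principal block whose values at a central element of a Sylow subgroup leave
few eigenvalues. -/
lemma few_eigenvalues (hM : IsPModular p M) (χ : IrrCharacter G) (hχ : χ ∈ principalBlock M G)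
    {x : G} (hx : orderOf x = p) (hh : ¬ p ∣ (Subgroup.centralizer ({x} : Set G)).index) {g0 : ℕ}
    (hg : Nat.gcd (Subgroup.centralizer ({x} : Set G)).index (charDegree (χ : G → ℂ)) ∣ g0)
    (hg0 : 0 < g0) (hgp : g0 < p) {ι : Type*} [Fintype ι] (ζ : ℂ) (hζ : IsPrimitiveRoot ζ p)
    (e : ι → ℕ) (he : ∀ i, e i < p) (hcard : Fintype.card ι = charDegree (χ : G → ℂ))
    (hval : ∀ k : ℕ, (χ : G → ℂ) (x ^ k) = ∑ i, ζ ^ (e i * k)) :
    (Finset.univ.image e).card ≤ g0 := by
  classical
  have hp : p.Prime := Fact.out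
  have hpM := hM.2.2
  set h := (Subgroup.centralizer ({x} : Set G)).index with hhdef
  set D := charDegree (χ : G → ℂ) with hD
  have hD0 : 0 < D := CfsgLib.Blocks.charDegree_pos χ
  set m := Nat.gcd h D with hm
  have hm0 : 0 < m := Nat.gcd_pos_of_pos_right _ hD0
  have hmle : m ≤ g0 := Nat.le_of_dvd hg0 hg
  obtain ⟨d, hd⟩ : m ∣ D := Nat.gcd_dvd_right _ _
  obtain ⟨e', he'⟩ : m ∣ h := Nat.gcd_dvd_left _ _
  have hd0 : 0 < d := Nat.pos_of_ne_zero fun h0 => by simp [h0] at hd; omega
  have hdC : (d : ℂ) ≠ 0 := Nat.cast_ne_zero.2 hd0.ne'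
  have hmC : (m : ℂ) ≠ 0 := Nat.cast_ne_zero.2 hm0.ne'
  -- the values divided by `d` are integral
  have hint : ∀ k : ℕ, IsIntegral ℤ ((χ : G → ℂ) (x ^ k) / (d : ℂ)) := by
    intro k
    by_cases hk : p ∣ k
    · rw [orderOf_dvd_iff_pow_eq_one.1 (hx ▸ hk), deg_eq, ← hD, hd]
      push_cast
      rw [mul_div_assoc, div_self hdC, mul_one]
      exact isIntegral_natCast _
    have hC : Subgroup.centralizer ({x ^ k} : Set G) = Subgroup.centralizer ({x} : Set G) := by
      ext y
      simp only [Subgroup.mem_centralizer_singleton_iff]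
      refine ⟨fun hy => ?_, fun hy => ((Commute.pow_right (show Commute y x from hy) k))⟩
      obtain ⟨l, hl⟩ := exists_pow_eq_self_of_coprime
        (show k.Coprime (orderOf x) from hx ▸ (hp.coprime_iff_not_dvd.2 hk).symm)
      rw [← hl]
      exact (Commute.pow_right (show Commute y (x ^ k) from hy) l)
    have hcc := CfsgLib.Blocks.isIntegral_centralChar χ (x ^ k)
    rw [centralChar, hC, ← hhdef, deg_eq, ← hD] at hcc
    have hbez := Nat.gcd_eq_gcd_ab h D
    rw [← hm] at hbez
    have key : (χ : G → ℂ) (x ^ k) / (d : ℂ) = (Nat.gcdA h D : ℂ) * ((h : ℂ) * (χ : G → ℂ) (x ^ k) / (D : ℂ))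
        + (Nat.gcdB h D : ℂ) * (χ : G → ℂ) (x ^ k) := by
      have hb : (m : ℂ) = (h : ℂ) * (Nat.gcdA h D : ℂ) + (D : ℂ) * (Nat.gcdB h D : ℂ) := by
        exact_mod_cast hbez
      have hDC : (D : ℂ) = (m : ℂ) * (d : ℂ) := by exact_mod_cast hd
      rw [hDC] at hb ⊢
      field_simp
      linear_combination (χ : G → ℂ) (x ^ k) * hb
    rw [key]
    exact ((isIntegral_intCast _).mul hcc).add
      ((isIntegral_intCast _).mul (char_isIntegral (isCharacter_of_irr χ.2) _))
  -- the congruence from the principal block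
  have hcong : MemLocalIdeal M ((m : ℂ) - (χ : G → ℂ) x / (d : ℂ)) := by
    have h1 : MemLocalIdeal M (centralChar (fun _ : G => (1 : ℂ)) x - centralChar (χ : G → ℂ) x) := hχ x
    have h2 : centralChar (fun _ : G => (1 : ℂ)) x - centralChar (χ : G → ℂ) x =
        (e' : ℂ) * ((m : ℂ) - (χ : G → ℂ) x / (d : ℂ)) := by
      rw [centralChar, centralChar, ← hhdef, deg_eq, ← hD, hd, he']
      push_cast
      field_simp
    rw [h2] at h1
    have hx' := hint 1
    rw [pow_one] at hx'
    refine (MemLocalIdeal.mem_or_mem (natCast_mem_loc e')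
      (sub_mem (natCast_mem_loc m) (isIntegral_mem_loc hx')) h1).resolve_left fun h3 => hh ?_
    rw [he']
    exact dvd_mul_of_dvd_right ((memLocalIdeal_natCast_iff hp hpM e').1 h3) _
  -- multiplicities
  set c : ℕ → ℕ := fun l => (Finset.univ.filter (fun i => e i = l)).card with hc
  have hζp : ∀ a : ℕ, (ζ ^ a) ^ p = 1 := fun a => by
    rw [← pow_mul, mul_comm, pow_mul, hζ.pow_eq_one, one_pow]
  have hdft : ∀ l < p, ((p * c l : ℕ) : ℂ) =
      ∑ k ∈ Finset.range p, (χ : G → ℂ) (x ^ k) * (ζ ^ (p - l)) ^ k := by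
    intro l hl
    have hgeo : ∀ i, ∑ k ∈ Finset.range p, ζ ^ (e i * k) * (ζ ^ (p - l)) ^ k =
        if e i = l then (p : ℂ) else 0 := by
      intro i
      have h1 : ∀ k, ζ ^ (e i * k) * (ζ ^ (p - l)) ^ k = (ζ ^ (e i + (p - l))) ^ k := fun k => by
        rw [pow_add, mul_pow, pow_mul]
      simp only [h1]
      split_ifs with hil
      · rw [hil, Nat.add_sub_cancel' hl.le, hζ.pow_eq_one]
        simp
      · have hne : ζ ^ (e i + (p - l)) ≠ 1 := fun h0 => by
          have hdvd := (hζ.pow_eq_one_iff_dvd _).1 h0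
          obtain ⟨q, hq⟩ := hdvd
          have := he i
          rcases q with _ | _ | q
          · omega
          · omega
          · have : p * 2 ≤ p * (q + 1 + 1) := Nat.mul_le_mul_left p (by omega)
            omega
        have h2 := geom_sum_mul (ζ ^ (e i + (p - l))) p
        rw [hζp, sub_self] at h2
        exact (mul_eq_zero.1 h2).resolve_right (sub_ne_zero.2 hne)
    simp only [hval, Finset.sum_mul]
    rw [Finset.sum_comm, Finset.sum_congr rfl fun i _ => hgeo i, Finset.sum_ite, Finset.sum_const,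
      Finset.sum_const_zero, add_zero, nsmul_eq_mul, hc]
    push_cast
    ring
  have hmod : ∀ l < p, c l % d = c 0 % d := by
    intro l hl
    set z : ℂ := (((((p : ℤ) * ((c l : ℤ) - c 0) : ℤ) : ℚ) / (d : ℚ) : ℚ) : ℂ) with hz
    have hzeq : z = ∑ k ∈ Finset.range p,
        ((χ : G → ℂ) (x ^ k) / (d : ℂ)) * ((ζ ^ (p - l)) ^ k - (ζ ^ (p - 0)) ^ k) := by
      simp only [mul_sub, div_mul_eq_mul_div, Finset.sum_sub_distrib, ← Finset.sum_div]
      rw [← hdft l hl, ← hdft 0 hp.pos, hz]
      push_cast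
      ring
    have hzint : IsIntegral ℤ z := by
      rw [hzeq]
      exact IsIntegral.sum _ fun k _ => (hint k).mul
        ((((hζ.isIntegral hp.pos).pow _).pow _).sub (((hζ.isIntegral hp.pos).pow _).pow _))
    obtain ⟨N, hN⟩ := exists_int_of_isIntegral_rat _ hzint
    have hzM : MemLocalIdeal M z := by
      rw [hzeq]
      refine MemLocalIdeal.sum' fun k _ => MemLocalIdeal.mul_left' (isIntegral_mem_loc (hint k)) ?_
      have e1 : (ζ ^ (p - l)) ^ k - (ζ ^ (p - 0)) ^ k = ((ζ ^ (p - l)) ^ k - 1) - ((ζ ^ (p - 0)) ^ k - 1) := by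
        ring
      rw [e1]
      exact MemLocalIdeal.sub'
        (root_congr hpM (by rw [← pow_mul, mul_comm, pow_mul, hζp, one_pow]))
        (root_congr hpM (by rw [← pow_mul, mul_comm, pow_mul, hζp, one_pow]))
    have hzN : z = (N : ℂ) := by rw [hz, hN]; norm_cast
    rw [hzN] at hzM
    obtain ⟨N', hN'⟩ := dvd_of_memLocalIdeal_intCast hpM hzM
    rw [div_eq_iff (by exact_mod_cast hd0.ne')] at hN
    have hN2 : (p : ℤ) * ((c l : ℤ) - c 0) = N * d := by exact_mod_cast hN
    rw [hN', mul_assoc] at hN2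
    have hN3 := mul_left_cancel₀ (Int.natCast_ne_zero.2 hp.ne_zero) hN2
    have h5 : ((c 0 : ℤ) % d) = (c l : ℤ) % d :=
      Int.emod_eq_emod_iff_emod_sub_eq_zero.2 (Int.emod_eq_zero_of_dvd ⟨-N', by linarith⟩)
    exact_mod_cast h5.symm
  set r := c 0 % d with hr
  set K := ∑ l ∈ Finset.range p, c l / d with hK
  have hsum : D = ∑ l ∈ Finset.range p, c l := by
    rw [← hcard, ← Finset.card_univ]
    exact Finset.card_eq_sum_card_fiberwise fun i _ => Finset.mem_range.2 (he i)
  have hDK : D = p * r + d * K := by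
    rw [hsum, hK, Finset.mul_sum, ← Finset.card_range p, ← smul_eq_mul, ← Finset.sum_const,
      Finset.card_range, ← Finset.sum_add_distrib]
    exact Finset.sum_congr rfl fun l hl => by
      rw [← hmod l (Finset.mem_range.1 hl), Nat.mod_add_div]
  have hxβ : (χ : G → ℂ) x / (d : ℂ) = ∑ l ∈ Finset.range p, ((c l / d : ℕ) : ℂ) * ζ ^ l := by
    rw [div_eq_iff hdC, Finset.sum_mul]
    have h1 : (χ : G → ℂ) x = ∑ l ∈ Finset.range p, (c l : ℂ) * ζ ^ l := by
      have h2 := hval 1
      rw [pow_one] at h2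
      rw [h2, ← Finset.sum_fiberwise_of_maps_to (g := e) (t := Finset.range p)
        (fun i _ => Finset.mem_range.2 (he i))]
      refine Finset.sum_congr rfl fun l _ => ?_
      rw [Finset.sum_congr rfl (g := fun _ => ζ ^ l) fun i hi => by
        rw [(Finset.mem_filter.1 hi).2, mul_one], Finset.sum_const, nsmul_eq_mul]
    have h2 : ∀ l ∈ Finset.range p, (c l : ℂ) * ζ ^ l =
        (r : ℂ) * ζ ^ l + ((c l / d : ℕ) : ℂ) * ζ ^ l * (d : ℂ) := by
      intro l hl
      conv_lhs => rw [← Nat.mod_add_div (c l) d, hmod l (Finset.mem_range.1 hl)]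
      push_cast
      ring
    rw [h1, Finset.sum_congr rfl h2, Finset.sum_add_distrib, ← Finset.mul_sum,
      hζ.geom_sum_eq_zero hp.one_lt, mul_zero, zero_add]
  have hKm : (p : ℤ) ∣ (m : ℤ) - K := by
    refine dvd_of_memLocalIdeal_intCast hpM ?_
    have h2 : MemLocalIdeal M ((χ : G → ℂ) x / (d : ℂ) - (K : ℂ)) := by
      rw [hxβ, hK, Nat.cast_sum, ← Finset.sum_sub_distrib]
      refine MemLocalIdeal.sum' fun l _ => ?_
      rw [show ((c l / d : ℕ) : ℂ) * ζ ^ l - ((c l / d : ℕ) : ℂ) =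
        ((c l / d : ℕ) : ℂ) * (ζ ^ l - 1) by ring]
      exact MemLocalIdeal.mul_left' (natCast_mem_loc _) (root_congr hpM (hζp l))
    have h3 := MemLocalIdeal.add' hcong h2
    push_cast
    rwa [sub_add_sub_cancel] at h3
  have hKle : K ≤ m := by
    refine Nat.le_of_mul_le_mul_left ?_ hd0
    rw [mul_comm d m, ← hd, hDK]
    exact Nat.le_add_left _ _
  have hKeq : K = m := by
    have h0 := Int.eq_zero_of_dvd_of_natAbs_lt_natAbs hKm (by rw [Int.natAbs_natCast]; omega)
    omega
  have hr0 : r = 0 := by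
    rw [hKeq, hd, mul_comm m d] at hDK
    have : p * r = 0 := by omega
    exact (mul_eq_zero.1 this).resolve_left hp.ne_zero
  -- each eigenvalue occurs at least `d` times
  have hle : (Finset.univ.image e).card * d ≤ D := by
    rw [← hcard, ← Finset.card_univ]
    refine le_trans (le_of_eq (mul_comm _ _)) (Finset.mul_card_image_le_card (f := e) (Finset.univ) d fun l hl => ?_)
    obtain ⟨i, -, rfl⟩ := Finset.mem_image.1 hl
    refine Nat.le_of_dvd (Finset.card_pos.2 ⟨i, by simp⟩) ?_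
    exact Nat.dvd_of_mod_eq_zero ((hmod (e i) (he i)).trans hr0)
  rw [hd] at hle
  exact (Nat.le_of_mul_le_mul_right hle hd0).trans hmle

/-- Simultaneous approximation. -/
lemma exists_multiplier {p : ℕ} (hp : 0 < p) (E : Finset ℕ) (hE : 6 ^ E.card < p) :
    ∃ t, 0 < t ∧ t < p ∧ ∀ s ∈ E, ∃ a b : ℕ, 6 * a < p + 6 * b ∧ 6 * b < p + 6 * a ∧
      (t * s + a) % p = b % p := by
  classical
  let F : Fin p → (E → Fin 6) := fun j s => ⟨6 * ((j.1 * s.1) % p) / p, by
    rw [Nat.div_lt_iff_lt_mul hp]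
    have := Nat.mod_lt (j.1 * s.1) hp
    omega⟩
  obtain ⟨j1, j2, hne, heq⟩ := Fintype.exists_ne_map_eq_of_card_lt F (by simpa using hE)
  wlog hlt : j1.1 < j2.1 generalizing j1 j2
  · exact this j2 j1 hne.symm heq.symm (by omega)
  refine ⟨j2.1 - j1.1, by omega, by omega, fun s hs => ⟨(j1.1 * s) % p, (j2.1 * s) % p, ?_, ?_, ?_⟩⟩
  all_goals
    have hbox := congrArg (fun f : E → Fin 6 => (f ⟨s, hs⟩).1) heq
  · change 6 * ((j1.1 * s) % p) / p = 6 * ((j2.1 * s) % p) / p at hbox
    have h1 := Nat.lt_mul_div_succ (6 * ((j1.1 * s) % p)) hp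
    have h2 := Nat.div_mul_le_self (6 * ((j2.1 * s) % p)) p
    rw [← hbox, mul_comm] at h2
    rw [mul_add, mul_one] at h1
    omega
  · change 6 * ((j1.1 * s) % p) / p = 6 * ((j2.1 * s) % p) / p at hbox
    have h1 := Nat.lt_mul_div_succ (6 * ((j2.1 * s) % p)) hp
    have h2 := Nat.div_mul_le_self (6 * ((j1.1 * s) % p)) p
    rw [hbox, mul_comm] at h2
    rw [mul_add, mul_one] at h1
    omega
  · rw [Nat.add_mod_mod, ← add_mul, Nat.sub_add_cancel hlt.le, Nat.mod_mod]

/-- A root of unity of small argument is near one. -/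
lemma norm_pow_sub_lt {p a b : ℕ} (hp : 0 < p) (h1 : 6 * a < p + 6 * b) (h2 : 6 * b < p + 6 * a) :
    ‖Complex.exp (2 * Real.pi * Complex.I / p) ^ b - Complex.exp (2 * Real.pi * Complex.I / p) ^ a‖
      < 1 := by
  set δ : ℝ := 2 * Real.pi * ((b : ℝ) - a) / p with hδ
  have hpC : (p : ℂ) ≠ 0 := Nat.cast_ne_zero.2 hp.ne'
  have e1 : Complex.exp (2 * Real.pi * Complex.I / p) ^ b =
      Complex.exp (2 * Real.pi * Complex.I / p) ^ a * Complex.exp ((δ : ℂ) * Complex.I) := by
    rw [← Complex.exp_nat_mul, ← Complex.exp_nat_mul, ← Complex.exp_add, hδ]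
    congr 1
    push_cast
    field_simp
    ring
  have hna : ‖Complex.exp (2 * Real.pi * Complex.I / p) ^ a‖ = 1 := by
    rw [norm_pow, show (2 * Real.pi * Complex.I / p : ℂ) = ((2 * Real.pi / p : ℝ) : ℂ) * Complex.I by
      push_cast; ring, Complex.norm_exp_ofReal_mul_I, one_pow]
  rw [e1, show ∀ z w : ℂ, z * w - z = z * (w - 1) by intros; ring, norm_mul, hna, one_mul]
  have hcos : 1 / 2 < Real.cos δ := by
    have hp' : (0 : ℝ) < p := Nat.cast_pos.2 hp
    have h1' : (6 : ℝ) * a < p + 6 * b := by exact_mod_cast h1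
    have h2' : (6 : ℝ) * b < p + 6 * a := by exact_mod_cast h2
    have hπ := Real.pi_pos
    have habs : |δ| < Real.pi / 3 := by
      rw [abs_lt, hδ, lt_div_iff₀ hp', div_lt_iff₀ hp']
      constructor <;> nlinarith
    have h3 := Real.cos_lt_cos_of_nonneg_of_le_pi (abs_nonneg δ) (by linarith) habs
    rwa [Real.cos_pi_div_three, Real.cos_abs] at h3
  have hsq : ‖Complex.exp ((δ : ℂ) * Complex.I) - 1‖ ^ 2 = 2 - 2 * Real.cos δ := by
    rw [← Complex.normSq_eq_norm_sq, Complex.normSq_apply]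
    simp only [Complex.sub_re, Complex.sub_im, Complex.exp_ofReal_mul_I_re,
      Complex.exp_ofReal_mul_I_im, Complex.one_re, Complex.one_im, sub_zero]
    have := Real.sin_sq_add_cos_sq δ
    nlinarith
  nlinarith [norm_nonneg (Complex.exp ((δ : ℂ) * Complex.I) - 1)]

end Cfsg.Agent.S4484

namespace Cfsg.Agent.S4484

open CfsgLib.Chars CfsgLib.CharApps CfsgLib.Blocks


set_option maxHeartbeats 1600000 in
/-- A refinement of Burnside's result on simple groups of order divisible by only two primes. Let G be a finite simple group of order p^a · q^b · g₀ with p, q distinct primes, a > 0, g₀ coprime to p and q, and the order of G different from p. Then g₀ − 1 > log p / log 6, that is 6^(g₀ − 1) > p. -/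
theorem result {G : Type*} [Group G] [Finite G] [IsSimpleGroup G] (p q a b g₀ : ℕ) (hp : p.Prime) (hq : q.Prime) (hpq : p ≠ q) (ha : 0 < a) (hg : Nat.card G = p ^ a * q ^ b * g₀) (hcop : ¬ p ∣ g₀) (hcoq : ¬ q ∣ g₀) (hne : Nat.card G ≠ p) : p < 6 ^ (g₀ - 1) := by
  classical
  haveI := Fintype.ofFinite G
  haveI := irrFintype G
  haveI := Fact.mk hp
  have hpG : p ∣ Nat.card G := hg ▸ dvd_mul_of_dvd_left (dvd_mul_of_dvd_left (dvd_pow_self p ha.ne') _) _
  have hg0 : 0 < g₀ := Nat.pos_of_ne_zero fun h => hcop (h ▸ dvd_zero p)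
  have hna : ¬ IsMulCommutative G := by
    intro hc
    letI : CommGroup G := { ‹Group G› with mul_comm := fun x y => IsMulCommutative.is_comm.comm x y }
    exact hne ((Nat.prime_dvd_prime_iff_eq hp (IsSimpleGroup.prime_card (α := G))).1 hpG).symm
  by_contra hcon
  push Not at hcon
  have h6 : 6 ^ (g₀ - 1) < p := by
    refine lt_of_le_of_ne hcon fun h => ?_
    rcases Nat.eq_zero_or_pos (g₀ - 1) with h0 | h0
    · rw [h0, pow_zero] at h
      exact hp.one_lt.ne h
    · obtain ⟨k, hk⟩ := Nat.exists_eq_add_of_le h0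
      rw [hk, pow_add, pow_one] at h
      exact Nat.not_prime_mul (by norm_num) (by
        intro h1; rw [h1, mul_one] at h; exact absurd (h ▸ hp) (by norm_num)) (h ▸ hp)
  have hgp : g₀ < p := by
    have := Nat.lt_pow_self (n := g₀ - 1) (show 1 < 6 by norm_num)
    omega
  -- an element of order `p` whose class has size prime to `p`
  obtain ⟨P⟩ : Nonempty (Sylow p G) := inferInstance
  haveI : Nontrivial (P : Subgroup G) := (Subgroup.nontrivial_iff_ne_bot _).2 fun h => by
    have := P.not_dvd_index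
    rw [h, Subgroup.index_bot] at this
    exact this hpG
  haveI := P.2.center_nontrivial
  obtain ⟨k, hk0, hk⟩ := (P.2.to_subgroup (Subgroup.center (P : Subgroup G))).nontrivial_iff_card.1 ‹_›
  obtain ⟨z, hz⟩ := exists_prime_orderOf_dvd_card' (G := Subgroup.center (P : Subgroup G)) p
    (hk ▸ dvd_pow_self p hk0.ne')
  set x : G := ((z : (P : Subgroup G)) : G) with hxdef
  have hx : orderOf x = p := by rw [hxdef, Subgroup.orderOf_coe, Subgroup.orderOf_coe, hz]
  have hx1 : x ≠ 1 := fun h => by rw [h, orderOf_one] at hx; exact hp.one_lt.ne hx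
  have hPC : (P : Subgroup G) ≤ Subgroup.centralizer ({x} : Set G) := fun y hy =>
    Subgroup.mem_centralizer_singleton_iff.2
      (congrArg Subtype.val (Subgroup.mem_center_iff.1 z.2 ⟨y, hy⟩))
  have hh : ¬ p ∣ (Subgroup.centralizer ({x} : Set G)).index := fun h =>
    P.not_dvd_index (h.trans (Subgroup.index_dvd_of_le hPC))
  obtain ⟨M, hM⟩ := exists_pModular p
  haveI := hM.2.1.isPrime
  -- the character
  obtain ⟨χ, hχB, hχ1, hχq⟩ : ∃ χ : IrrCharacter G, χ ∈ principalBlock M G ∧ χ ≠ principal G ∧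
      ¬ q ∣ charDegree (χ : G → ℂ) := by
    by_contra hno
    push Not at hno
    have horth := weak_orthogonality (x := (1 : G)) (y := x) hp hM.2.2
      (isPBlock_principalBlock (G := G) M) (by simp [hp.ne_one]) (by rw [hx])
    rw [finsum_mem_eq_sum_of_inter_support_eq
      (t := Finset.univ.filter (· ∈ principalBlock M G)) _ (by ext; simp),
      ← Finset.add_sum_erase _ _ (show principal G ∈ Finset.univ.filter (· ∈ principalBlock M G) by
        simpa using principal_mem_principalBlock (G := G) M)] at horth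
    simp only [principal_apply, map_one, mul_one] at horth
    have hqC : (q : ℂ) ≠ 0 := Nat.cast_ne_zero.2 hq.ne_zero
    have hint : IsIntegral ℤ (((1 : ℕ) : ℂ) / (q : ℂ)) := by
      rw [Nat.cast_one, eq_neg_of_add_eq_zero_left horth, neg_div, Finset.sum_div]
      refine (IsIntegral.sum _ fun ψ hψ => ?_).neg
      simp only [Finset.mem_erase, Finset.mem_filter, Finset.mem_univ, true_and] at hψ
      obtain ⟨w, hw⟩ := hno ψ hψ.2 hψ.1
      rw [deg_eq, hw]
      push_cast
      rw [mul_assoc, mul_div_cancel_left₀ _ hqC, ← irr_inv]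
      exact (isIntegral_natCast w).mul (char_isIntegral (isCharacter_of_irr ψ.2) _)
    exact hq.ne_one (Nat.dvd_one.1 (dvd_of_isIntegral_div hq.ne_zero hint))
  set m := Nat.gcd (Subgroup.centralizer ({x} : Set G)).index (charDegree (χ : G → ℂ)) with hm
  have hmg : m ∣ g₀ := by
    have h1 : m ∣ Nat.card G :=
      (Nat.gcd_dvd_left _ _).trans (Subgroup.index_dvd_card _)
    rw [hg, mul_assoc] at h1
    have h2 : m.Coprime p := (hp.coprime_iff_not_dvd.2 fun h => hh (h.trans (Nat.gcd_dvd_left _ _))).symm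
    have h3 : m.Coprime q := (hq.coprime_iff_not_dvd.2 fun h => hχq (h.trans (Nat.gcd_dvd_right _ _))).symm
    exact (h3.pow_right b).dvd_of_dvd_mul_left ((h2.pow_right a).dvd_of_dvd_mul_left h1)
  obtain ⟨n, ρ, hirr, hρχ⟩ := χ.2
  haveI := hirr
  have hn : n = charDegree (χ : G → ℂ) := by simp [charDegree, ← hρχ]
  obtain ⟨b', μ, hμp, hb⟩ := exists_eigenbasis (ρ x) hp.pos
    (by rw [← map_pow, ← hx, pow_orderOf_eq_one, map_one])
  set ζ := Complex.exp (2 * Real.pi * Complex.I / p) with hζdef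
  have hζ : IsPrimitiveRoot ζ p := Complex.isPrimitiveRoot_exp p hp.ne_zero
  haveI : NeZero p := ⟨hp.ne_zero⟩
  choose e he heμ using fun i => hζ.eq_pow_of_pow_eq_one (hμp i)
  have hbk : ∀ (k : ℕ) i, ρ (x ^ k) (b' i) = ζ ^ (e i * k) • b' i := by
    intro k i
    induction k with
    | zero => simp
    | succ k ih =>
      rw [pow_succ', map_mul, Module.End.mul_apply, ih, map_smul, hb, smul_smul, ← heμ i,
        ← pow_add, Nat.mul_succ]
  have hval : ∀ k : ℕ, (χ : G → ℂ) (x ^ k) = ∑ i, ζ ^ (e i * k) := fun k => by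
    rw [← hρχ]
    exact trace_eq_sum_of_eigenbasis _ b' _ (hbk k)
  have hrank : Module.finrank ℂ (Fin n → ℂ) = n := by simp
  have hfew := few_eigenvalues hM χ hχB hx hh hmg hg0 hgp ζ hζ e he
    (by rw [Fintype.card_fin, hrank, hn]) hval
  -- faithful
  have hρinj : Function.Injective ρ := by
    have hsim := (inferInstance : (MonoidHom.ker (ρ : G →* Module.End ℂ (Fin n → ℂ))).Normal).eq_bot_or_eq_top
    rcases hsim with hb0 | ht
    · exact (MonoidHom.ker_eq_bot_iff _).1 hb0
    · exfalso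
      have hconst : ∀ g : G, (χ : G → ℂ) g = (charDegree (χ : G → ℂ) : ℂ) := fun g => by
        have h1 : ρ g = 1 := (ht ▸ Subgroup.mem_top g : g ∈ MonoidHom.ker (ρ : G →* Module.End ℂ _))
        rw [← deg_eq, ← hρχ]
        simp [Representation.character, h1]
      have h0 := inner_irr_ne hχ1
      rw [inner_def] at h0
      simp only [hconst, principal_apply, map_one, mul_one, Finset.sum_const, nsmul_eq_mul] at h0
      simp [Nat.card_eq_fintype_card, (CfsgLib.Blocks.charDegree_pos χ).ne'] at h0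
  obtain ⟨i0⟩ : Nonempty (Fin (Module.finrank ℂ (Fin n → ℂ))) :=
    ⟨⟨0, by rw [hrank, hn]; exact CfsgLib.Blocks.charDegree_pos χ⟩⟩
  -- the multiplier
  set E := ((Finset.univ.image e).erase (e i0)).image (fun l => l + (p - e i0)) with hE
  have hEcard : 6 ^ E.card < p := lt_of_le_of_lt (Nat.pow_le_pow_right (by norm_num) (by
    refine (Finset.card_image_le).trans ?_
    rw [Finset.card_erase_of_mem (Finset.mem_image_of_mem e (Finset.mem_univ i0))]
    omega)) h6
  obtain ⟨t, ht0, htp, ht⟩ := exists_multiplier hp.pos E hEcard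
  have hω : ‖ζ ^ ((p - e i0) * t)‖ = 1 := by
    rw [norm_pow, Complex.norm_eq_one_of_pow_eq_one hζ.pow_eq_one hp.ne_zero, one_pow]
  have hnear : ∀ i, ‖ζ ^ ((p - e i0) * t) * ζ ^ (e i * t) - 1‖ < 1 := by
    intro i
    rw [← pow_add, ← add_mul, add_comm, mul_comm]
    by_cases hi : e i = e i0
    · rw [hi, Nat.add_sub_cancel' (he i0).le, mul_comm, pow_mul, hζ.pow_eq_one, one_pow, sub_self,
        norm_zero]
      norm_num
    · obtain ⟨a', c', h1, h2, h3⟩ := ht _ (Finset.mem_image_of_mem _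
        (Finset.mem_erase.2 ⟨hi, Finset.mem_image_of_mem e (Finset.mem_univ i)⟩))
      have h4 : ζ ^ (t * (e i + (p - e i0))) * ζ ^ a' = ζ ^ c' := by
        rw [← pow_add]
        rw [pow_eq_pow_mod _ hζ.pow_eq_one, h3, ← pow_eq_pow_mod _ hζ.pow_eq_one]
      have hna : ‖ζ ^ a'‖ = 1 := by
        rw [norm_pow, Complex.norm_eq_one_of_pow_eq_one hζ.pow_eq_one hp.ne_zero, one_pow]
      have h5 := norm_pow_sub_lt hp.pos h1 h2
      rw [← hζdef, ← h4, show ∀ u w : ℂ, u * w - w = (u - 1) * w by intros; ring, norm_mul, hna,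
        mul_one] at h5
      exact h5
  have hone := CfsgLib.LocalEven.TwoSided.eq_one_of_near hna hρinj (a := x ^ t)
    (ζ ^ ((p - e i0) * t)) hω b' (fun i => ζ ^ (e i * t)) (hbk t)
    (fun i => by rw [norm_pow, Complex.norm_eq_one_of_pow_eq_one hζ.pow_eq_one hp.ne_zero, one_pow])
    hnear (i0 := i0) (by
      rw [← pow_add, ← add_mul, Nat.sub_add_cancel (he i0).le, pow_mul, hζ.pow_eq_one, one_pow])
  have h1 := orderOf_dvd_of_pow_eq_one hone
  rw [hx] at h1
  exact absurd (Nat.le_of_dvd ht0 h1) (by omega)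

end Cfsg.Agent.S4484
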