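import Cfsg.Statements.S4487
import Cfsg.Agent.Lib.BlockOrth.NormalCentralizer
import Cfsg.Agent.Lib.BlockOrth.DefectOrder
import Cfsg.Agent.Lib.Base.Cores

set_option autoImplicit false
open Cfsg Subgroup
open scoped Pointwise commutatorElement

namespace Cfsg.Agent.S4487

/-- Let G be a finite group and p a prime such that G has no non-trivial normal subgroup of order prime to p and C_G(O_p(G)) ≤ O_p(G). Then G has a single p-block: any two irreducible characters lie in the same block relative to every maximal ideal M of the algebraic integers containing p. -/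
theorem result {G : Type*} [Group G] [Finite G] (p : ℕ) [Fact p.Prime] (M : Ideal Cfsg.AlgInt) (hM : Cfsg.IsPModular p M) (hcore : Cfsg.pPrimeCore p G = ⊥) (hconstr : Subgroup.centralizer ((Cfsg.pCore p G) : Set G) ≤ Cfsg.pCore p G) (χ ψ : Cfsg.IrrCharacter G) : Cfsg.SameBlock M (χ : G → ℂ) (ψ : G → ℂ) := by
  classical
  haveI := CfsgLib.Blocks.isPrime_of_isPModular hM
  haveI := Fintype.ofFinite G
  have hP : IsPGroup p (pCore p G) := CfsgLib.Base.isPGroup_pCore p G
  haveI : (pCore p G).Normal := pCore_normal p G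
  obtain ⟨C, hC⟩ : ∃ C : Subgroup G, C = Subgroup.centralizer ((pCore p G : Subgroup G) : Set G) :=
    ⟨_, rfl⟩
  haveI : C.Normal := by rw [hC]; infer_instance
  haveI : Fintype C := Fintype.ofFinite _
  have hCp : IsPGroup p C := hP.to_le (hC ▸ hconstr)
  obtain ⟨θ, hθ⟩ := CfsgLib.Blocks.exists_constituent_restrict C χ
  obtain ⟨η, hη⟩ := CfsgLib.Blocks.exists_constituent_restrict C ψ
  exact CfsgLib.BlockOrth.sameBlock_of_constituent_centralizer hM.2.2 hP C hC hθ hη
    (CfsgLib.BlockOrth.sameBlock_of_isPGroup hM.2.2 hCp θ η)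


end Cfsg.Agent.S4487
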