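import Cfsg.Statements.S4488
import Cfsg.Agent.Lib.CharApps.SchurBound

set_option autoImplicit false
open Cfsg Subgroup
open scoped Pointwise commutatorElement

namespace Cfsg.Agent.S4488

/-- Let the finite group G have a faithful p-rational character χ of degree n (all values of χ lie in the field generated over ℚ by a root of unity of order prime to p), and let p^a be the order of a Sylow p-subgroup of G. Then a ≤ Σ_{i ≥ 0} ⌊n / ((p − 1)·p^i)⌋ (a finite sum; the terms vanish once (p − 1)p^i > n). -/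
theorem result {G : Type*} [Group G] [Finite G] (p : ℕ) (hp : p.Prime) (χ : G → ℂ) (hχ : Cfsg.IsCharacter G χ) (hfaith : ∀ g : G, χ g = χ 1 → g = 1) (hrat : (∃ r : ℕ, 0 < r ∧ ¬ p ∣ r ∧ ∀ g : G, χ g ∈ IntermediateField.adjoin ℚ ({Complex.exp (2 * Real.pi * Complex.I / r)} : Set ℂ))) (n : ℕ) (hn : Cfsg.charDegree χ = n) : (Nat.card G).factorization p ≤ ∑ i ∈ Finset.range (n + 1), n / ((p - 1) * p ^ i) := by
  classical
  haveI := Fintype.ofFinite G
  haveI : Fact p.Prime := ⟨hp⟩
  obtain ⟨r, hr0, hrp, hr⟩ := hrat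
  let S : Sylow p G := default
  haveI : Fintype (S : Subgroup G) := Fintype.ofFinite _
  have hdeg : χ 1 = (n : ℂ) := by
    obtain ⟨d, ρ, rfl⟩ := hχ
    rw [← hn, Cfsg.charDegree, Representation.char_one]
    simp
  have h := CfsgLib.CharApps.SchurBound.factorization_le (P := (S : Subgroup G)) S.2
    (CfsgLib.Chars.isCharacter_restrict (S : Subgroup G) hχ) hdeg
    (fun g hg => Subtype.ext (hfaith (g : G) hg)) (fun g t ht => ?_)
  · rwa [S.card_eq_multiplicity, hp.factorization_pow, Finsupp.single_eq_same] at h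
  show χ ((g : G) ^ t) = χ (g : G)
  obtain ⟨e, he⟩ := IsPGroup.iff_orderOf.1 S.2 g
  rw [← Subgroup.orderOf_coe] at he
  have hco : r.Coprime (p ^ e) :=
    Nat.Coprime.pow_right e (Nat.coprime_comm.1 (hp.coprime_iff_not_dvd.2 hrp))
  obtain ⟨k, hk1, hkt⟩ := Nat.chineseRemainder hco 1 t
  have hkN : k.Coprime (r * p ^ e) := by
    refine Nat.Coprime.mul_right ?_ ?_
    · rw [Nat.Coprime, hk1.gcd_eq, Nat.gcd_one_left]
    · rw [Nat.Coprime, hkt.gcd_eq]
      exact Nat.Coprime.pow_right e (Nat.coprime_comm.1 (hp.coprime_iff_not_dvd.2 ht))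
  haveI : NeZero (r * p ^ e) := ⟨Nat.mul_ne_zero hr0.ne' (pow_ne_zero _ hp.ne_zero)⟩
  obtain ⟨σ, hσ⟩ := CfsgLib.CharApps.exists_galois_pow (r * p ^ e) hkN
  have hg1 : (g : G) ^ (r * p ^ e) = 1 := by rw [mul_comm, pow_mul, ← he, pow_orderOf_eq_one, one_pow]
  have hfix : σ (χ (g : G)) = χ (g : G) := by
    obtain ⟨w, hw⟩ : ∃ w, w = χ (g : G) := ⟨_, rfl⟩
    rw [← hw]
    have hmem := hr (g : G)
    rw [← hw] at hmem
    clear hw
    induction hmem using IntermediateField.adjoin_induction with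
    | mem z hz =>
      rw [Set.mem_singleton_iff] at hz
      have hzr : z ^ r = 1 := by
        rw [hz]; exact (Complex.isPrimitiveRoot_exp r hr0.ne').pow_eq_one
      rw [hσ z (by rw [pow_mul, hzr, one_pow]), pow_eq_pow_mod _ hzr, hk1, ← pow_eq_pow_mod _ hzr,
        pow_one]
    | algebraMap q => simp
    | add x y _ _ hx hy => rw [map_add, hx, hy]
    | inv x _ hx => rw [map_inv₀, hx]
    | mul x y _ _ hx hy => rw [map_mul, hx, hy]
  rw [CfsgLib.CharApps.galois_apply σ hσ hχ (g : G) hg1] at hfix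
  rw [← hfix]
  exact congrArg χ (pow_eq_pow_iff_modEq.2 (he ▸ hkt.symm))


end Cfsg.Agent.S4488
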