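import Cfsg.Statements.S4490
import Cfsg.Agent.Lib.BlockOrth.TwoBlocks

set_option autoImplicit false
open Cfsg CfsgLib.BlockOrth

namespace Cfsg.Agent.S4490

/-- Let G be a finite group and M a maximal ideal of the algebraic integers containing 2. Every 2-block B of G whose defect groups are the Sylow 2-subgroups of G (a block of full defect) and which is not the principal block is different from its complex-conjugate block, the block formed by the complex conjugates of the members of B. -/
theorem result {G : Type*} [Group G] [Finite G] (M : Ideal Cfsg.AlgInt) (hM : Cfsg.IsPModular 2 M) (B : Set (Cfsg.IrrCharacter G)) (hB : Cfsg.IsPBlock M B) (P : Sylow 2 G) (hfull : Cfsg.IsDefectGroup 2 M B (P : Subgroup G)) (hnp : B ≠ Cfsg.principalBlock M G) : {ψ : Cfsg.IrrCharacter G | ∃ χ ∈ B, (ψ : G → ℂ) = fun g => (starRingEnd ℂ) ((χ : G → ℂ) g)} ≠ B := by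
  haveI := Fintype.ofFinite G
  haveI : Fact (Nat.Prime 2) := ⟨Nat.prime_two⟩
  haveI := CfsgLib.Blocks.isPrime_of_isPModular hM
  intro hset
  have hdef : Cfsg.blockDefect 2 B = (Nat.card G).factorization 2 :=
    Nat.pow_right_injective le_rfl
      ((card_defectGroup hM.2.2 hB hfull).symm.trans P.card_eq_multiplicity)
  refine hnp (eq_principalBlock_of_inv_stable (by exact_mod_cast hM.2.2) hB hdef (fun g => g⁻¹)
    (fun g _ => rfl) (fun g => ⟨g⁻¹, inv_inv g⟩) fun χ hχ => ?_)
  refine ⟨⟨_, CfsgLib.Chars.isIrrCharacter_conj χ.2⟩, ?_,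
    fun g => (CfsgLib.Chars.char_inv (CfsgLib.Chars.isCharacter_of_irr χ.2) g).symm⟩
  exact hset ▸ ⟨χ, hχ, rfl⟩

end Cfsg.Agent.S4490
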