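import Cfsg.Statements.S4492
import Cfsg.Agent.Lib.Blocks.PSolvableFong
import Cfsg.Agent.Lib.PLocal.Constrained

set_option autoImplicit false
open Cfsg Subgroup
open scoped Pointwise commutatorElement

namespace Cfsg.Agent.S4492

/-- Let G be a finite p-solvable group, N = O_{p'}(G) its largest normal subgroup of order prime to p, and θ an irreducible character of N invariant under conjugation by G; fix a maximal ideal M of the algebraic integers containing p. Then the irreducible characters of G lying over θ (those whose restriction to N contains θ) form a single p-block of G, and the defect groups of that block are exactly the Sylow p-subgroups of G. -/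
theorem result {G : Type*} [Group G] [Fintype G] (p : ℕ) [Fact p.Prime] (M : Ideal Cfsg.AlgInt) (hM : Cfsg.IsPModular p M) (hsolv : Cfsg.IsPSolvable p G) (N : Subgroup G) [hN : N.Normal] [Fintype N] (hNdef : N = Cfsg.pPrimeCore p G) (θ : Cfsg.IrrCharacter N) (hinv : ∀ (g : G) (n : N), (θ : N → ℂ) ⟨g * n * g⁻¹, hN.conj_mem n n.2 g⟩ = (θ : N → ℂ) n) : ∃ B : Set (Cfsg.IrrCharacter G), Cfsg.IsPBlock M B ∧ (∀ χ : Cfsg.IrrCharacter G, χ ∈ B ↔ Cfsg.classInner (fun n : N => (χ : G → ℂ) n) (θ : N → ℂ) ≠ 0) ∧ (∀ P : Sylow p G, Cfsg.IsDefectGroup p M B (P : Subgroup G)) ∧ ∀ D : Subgroup G, Cfsg.IsDefectGroup p M B D → ∃ P : Sylow p G, D = (P : Subgroup G) := by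
  classical
  haveI : M.IsPrime := hM.2.1.isPrime
  have hcard : ¬ p ∣ Nat.card N := by
    rw [hNdef]; exact CfsgLib.Base.not_dvd_card_pPrimeCore p G
  haveI := CfsgLib.PLocal.pPrimePCore_normal p G
  obtain ⟨S⟩ : Nonempty (Sylow p ↥(pPrimePCore p G)) := inferInstance
  obtain ⟨k, hk⟩ := IsPGroup.iff_card.mp (CfsgLib.Base.isPGroup_pCore p (G ⧸ pPrimeCore p G))
  have hrel : N.relIndex (pPrimePCore p G) = p ^ k := by
    rw [hNdef, ← hk, ← CfsgLib.PLocal.card_map_mk'_eq_relIndex, pPrimePCore,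
      Subgroup.map_comap_eq_self_of_surjective (QuotientGroup.mk'_surjective _)]
  have hRS : ¬ p ∣ ((S : Subgroup ↥(pPrimePCore p G)).map (pPrimePCore p G).subtype).relIndex
      (pPrimePCore p G) := by
    rw [Subgroup.relIndex, Subgroup.subgroupOf,
      Subgroup.comap_map_eq_self_of_injective (pPrimePCore p G).subtype_injective]
    exact S.not_dvd_index
  obtain ⟨hB, hS⟩ := CfsgLib.Blocks.fong_single_block hM.2.2 N hcard (pPrimePCore p G)
    (hNdef ▸ CfsgLib.Base.pPrimeCore_le_pPrimePCore p G) hrel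
    (Subgroup.map_subtype_le _) (S.2.map _) hRS
    ((CfsgLib.PLocal.isPConstrained_of_isPSolvable hsolv) S) θ hinv
  refine ⟨_, hB, fun χ => Iff.rfl, hS, fun D hD => ?_⟩
  obtain ⟨P₀⟩ : Nonempty (Sylow p G) := inferInstance
  obtain ⟨x, hx⟩ := CfsgLib.Blocks.IsDefectGroup.exists_conj_eq hM.2.2 hB (hS P₀) hD
  exact ⟨x • P₀, hx.symm⟩


end Cfsg.Agent.S4492
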