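import Cfsg.Statements.S4495
import Cfsg.Agent.Lib.BlockOrth.SelfCentralFacts

set_option autoImplicit false
open Cfsg Subgroup
open scoped Pointwise commutatorElement

namespace Cfsg.Agent.S4495

/-- Let the finite group G contain an element x of prime order p with C_G(x) = ⟨x⟩, and let t be the number of conjugacy classes of elements of order p. If t ≠ p − 1 then the commutator subgroup has index at most (p − 1)/t; if t = p − 1 it has index exactly p. -/
theorem result {G : Type*} [Group G] [Finite G] (p : ℕ) (hp : p.Prime) (x : G) (hx : orderOf x = p) (hC : Subgroup.centralizer ({x} : Set G) = Subgroup.zpowers x) (t : ℕ) (ht : Nat.card {C : ConjClasses G // ∃ g ∈ C.carrier, orderOf g = p} = t) : (t ≠ p - 1 → (commutator G).index * t ≤ p - 1) ∧ (t = p - 1 → (commutator G).index = p) := by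
  haveI := Fact.mk hp
  have hkey := CfsgLib.BlockOrth.card_classes_mul hx hC
  rw [ht] at hkey
  have hp2 := hp.two_le
  constructor
  · intro hne
    have he : (zpowers x).relIndex (normalizer (zpowers x : Set G)) ≠ 1 := fun h => hne (by
      rw [h, mul_one] at hkey; exact hkey)
    have hd := (CfsgLib.BlockOrth.normal_of_mem hx hC (commutator G)
      (CfsgLib.BlockOrth.mem_commutator hx hC he)).2
    rw [mul_comm]
    rw [← hkey]
    refine Nat.mul_le_mul_left t (Nat.le_of_dvd (Nat.pos_of_ne_zero fun h => ?_) hd)
    rw [h, mul_zero] at hkey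
    omega
  · intro heq
    rw [heq] at hkey
    exact (CfsgLib.BlockOrth.commutator_of_relIndex_one hx hC
      ((Nat.mul_eq_left (by omega)).mp hkey)).2.1


end Cfsg.Agent.S4495
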