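import Cfsg.Statements.S4496
import Cfsg.Agent.Lib.BlockOrth.SelfCentralFacts

set_option autoImplicit false
open Cfsg Subgroup
open scoped Pointwise commutatorElement

namespace Cfsg.Agent.S4496

/-- Let the finite group G contain an element x of prime order p with C_G(x) = ⟨x⟩. Then: (a) every normal subgroup of order divisible by p contains the commutator subgroup; (b) every normal subgroup S of order prime to p has order dividing the number of subgroups of order p of G and congruent to 1 modulo p, and in G/S the image of x again has prime order p and commutes only with its own powers. -/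
theorem result {G : Type*} [Group G] [Finite G] (p : ℕ) (hp : p.Prime) (x : G) (hx : orderOf x = p) (hC : Subgroup.centralizer ({x} : Set G) = Subgroup.zpowers x) (S : Subgroup G) [S.Normal] : (p ∣ Nat.card S → commutator G ≤ S) ∧ (¬ p ∣ Nat.card S → Nat.card S ∣ Nat.card {H : Subgroup G // Nat.card H = p} ∧ Nat.card S % p = 1 ∧ orderOf (QuotientGroup.mk x : G ⧸ S) = p ∧ Subgroup.centralizer ({(QuotientGroup.mk x : G ⧸ S)} : Set (G ⧸ S)) = Subgroup.zpowers (QuotientGroup.mk x : G ⧸ S)) := by
  haveI := Fact.mk hp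
  constructor
  · exact fun h => (CfsgLib.BlockOrth.normal_of_mem hx hC S
      ((CfsgLib.BlockOrth.mem_normal_iff hx hC S).mpr h)).1
  intro hS
  have hxS : x ∉ S := fun h => hS ((CfsgLib.BlockOrth.mem_normal_iff hx hC S).mp h)
  have hord : orderOf (QuotientGroup.mk x : G ⧸ S) = p := by
    have hd : orderOf (QuotientGroup.mk x : G ⧸ S) ∣ p :=
      hx ▸ orderOf_map_dvd (QuotientGroup.mk' S) x
    exact ((Nat.dvd_prime hp).mp hd).resolve_left fun h =>
      hxS ((QuotientGroup.eq_one_iff x).mp (orderOf_eq_one_iff.mp h))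
  refine ⟨?_, CfsgLib.BlockOrth.card_mod_eq_one hx hC hxS, hord, le_antisymm (fun q hq => ?_) ?_⟩
  · rw [CfsgLib.BlockOrth.card_prime_subgroups hx hC]
    exact (CfsgLib.BlockOrth.card_dvd_index_normalizer hx hC S hxS).2
  · obtain ⟨g, rfl⟩ := QuotientGroup.mk_surjective q
    have hcomm : Commute (g : G ⧸ S) (x : G ⧸ S) := mem_centralizer_singleton_iff.mp hq
    have hg : g * x * g⁻¹ * x⁻¹ ∈ S := (QuotientGroup.eq_one_iff (g * x * g⁻¹ * x⁻¹)).mp
      (commutatorElement_eq_one_iff_commute.mpr hcomm)
    obtain ⟨s, hs, z, hz, rfl⟩ := Subgroup.mem_sup_of_normal_left.mp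
      (CfsgLib.BlockOrth.mem_sup_of_commutator_mem hx hC hxS hg)
    obtain ⟨i, rfl⟩ := mem_zpowers_iff.mp hz
    rw [QuotientGroup.mk_mul, (QuotientGroup.eq_one_iff s).mpr hs, one_mul]
    exact mem_zpowers_iff.mpr ⟨i, (QuotientGroup.mk_zpow S x i).symm⟩
  · rw [zpowers_le, mem_centralizer_singleton_iff]


end Cfsg.Agent.S4496
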