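import Cfsg.Statements.S4497
import Cfsg.Agent.Lib.BlockOrth.SelfCentralFacts

set_option autoImplicit false
open Cfsg Subgroup
open scoped Pointwise commutatorElement

namespace Cfsg.Agent.S4497

/-- Let the finite group G contain an element x of prime order p with C_G(x) = ⟨x⟩, let t be the number of conjugacy classes of elements of order p, and let S* = O_{p′}(G) be the largest normal subgroup of order prime to p. Then S* ≤ G′; if t ≠ p − 1 the quotient G′/S* is simple (in particular non-trivial); if t = p − 1 then G′ = S*. -/
theorem result {G : Type*} [Group G] [Finite G] (p : ℕ) (hp : p.Prime) (x : G) (hx : orderOf x = p) (hC : Subgroup.centralizer ({x} : Set G) = Subgroup.zpowers x) (t : ℕ) (ht : Nat.card {C : ConjClasses G // ∃ g ∈ C.carrier, orderOf g = p} = t) : Cfsg.pPrimeCore p G ≤ commutator G ∧ (t ≠ p - 1 → ∀ h : ((Cfsg.pPrimeCore p G).subgroupOf (commutator G)).Normal, IsSimpleGroup (↥(commutator G) ⧸ (Cfsg.pPrimeCore p G).subgroupOf (commutator G))) ∧ (t = p - 1 → commutator G = Cfsg.pPrimeCore p G) := by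
  haveI := Fact.mk hp
  have hkey := CfsgLib.BlockOrth.card_classes_mul hx hC
  rw [ht] at hkey
  have hp2 := hp.two_le
  haveI hRn : (pPrimeCore p G).Normal := Cfsg.pPrimeCore_normal p G
  have hRle := CfsgLib.BlockOrth.pPrimeCore_le_commutator hx hC
  refine ⟨hRle, fun hne h => ?_, fun heq => ?_⟩
  · have he : (zpowers x).relIndex (normalizer (zpowers x : Set G)) ≠ 1 := fun h => hne (by
      rw [h, mul_one] at hkey; exact hkey)
    have hxG := CfsgLib.BlockOrth.mem_commutator hx hC he
    set R := (pPrimeCore p G).subgroupOf (commutator G) with hR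
    haveI : Nontrivial (↥(commutator G) ⧸ R) := by
      refine ⟨⟨((⟨x, hxG⟩ : commutator G) : ↥(commutator G) ⧸ R), 1, fun h1 => ?_⟩⟩
      exact CfsgLib.Base.not_dvd_card_pPrimeCore p G ((CfsgLib.BlockOrth.mem_normal_iff hx hC _).mp
        (Subgroup.mem_subgroupOf.mp ((QuotientGroup.eq_one_iff _).mp h1)))
    refine ⟨fun H hH => ?_⟩
    set M : Subgroup (commutator G) := H.comap (QuotientGroup.mk' R) with hM
    haveI : M.Normal := hH.comap _
    have hRM : R ≤ M := fun r hr => by
      show QuotientGroup.mk' R r ∈ H
      rw [show QuotientGroup.mk' R r = 1 from (QuotientGroup.eq_one_iff r).mpr hr]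
      exact one_mem _
    have hmap : H = M.map (QuotientGroup.mk' R) :=
      (Subgroup.map_comap_eq_self_of_surjective (QuotientGroup.mk'_surjective R) H).symm
    by_cases hdvd : p ∣ Nat.card M
    · right
      -- `M` contains all conjugates of `x`
      have hmem : ∀ g : G, (⟨g * x * g⁻¹, Subgroup.Normal.conj_mem inferInstance x hxG g⟩ :
          commutator G) ∈ M := by
        intro g
        set y : commutator G := ⟨g * x * g⁻¹, Subgroup.Normal.conj_mem inferInstance x hxG g⟩
        have hy : orderOf y = p := by
          rw [← Subgroup.orderOf_coe]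
          show orderOf (MulAut.conj g x) = p
          rw [MulEquiv.orderOf_eq, hx]
        refine (CfsgLib.BlockOrth.mem_normal_iff hy (le_antisymm (fun z hz => ?_)
          (by rw [zpowers_le, mem_centralizer_singleton_iff])) M).mpr hdvd
        have hz' : g⁻¹ * (z : G) * g ∈ centralizer ({x} : Set G) := by
          rw [mem_centralizer_singleton_iff]
          have e : (z : G) * (g * x * g⁻¹) = g * x * g⁻¹ * z :=
            congrArg Subtype.val (mem_centralizer_singleton_iff.mp hz)
          calc g⁻¹ * (z : G) * g * x = g⁻¹ * ((z : G) * (g * x * g⁻¹)) * g := by group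
            _ = _ := by rw [e]; group
        rw [hC] at hz'
        obtain ⟨i, hi⟩ := mem_zpowers_iff.mp hz'
        refine mem_zpowers_iff.mpr ⟨i, Subtype.ext ?_⟩
        rw [SubgroupClass.coe_zpow]
        show (g * x * g⁻¹) ^ i = (z : G)
        rw [conj_zpow, hi]; group
      have hall : Subgroup.normalClosure ({x} : Set G) ≤ M.map (commutator G).subtype := by
        refine (Subgroup.closure_le _).mpr ?_
        intro a ha
        obtain ⟨b, rfl, hb⟩ := Group.mem_conjugatesOfSet_iff.mp ha
        obtain ⟨c, rfl⟩ := isConj_iff.mp hb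
        exact ⟨_, hmem c, rfl⟩
      have hMtop : M = ⊤ := by
        refine eq_top_iff.mpr fun m _ => ?_
        obtain ⟨a, ha, hae⟩ := hall ((CfsgLib.BlockOrth.normal_of_mem hx hC _
          (Subgroup.subset_normalClosure (Set.mem_singleton x))).1 m.2)
        exact (Subtype.ext hae : a = m) ▸ ha
      rw [hmap, hMtop, Subgroup.map_top_of_surjective _ (QuotientGroup.mk'_surjective R)]
    · left
      have hsub : (M.map (commutator G).subtype).IsSubnormal := by
        refine Subgroup.IsSubnormal.step _ (commutator G) (Subgroup.map_subtype_le M)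
          (Subgroup.Normal.isSubnormal inferInstance) ?_
        rw [← Subgroup.comap_subtype, Subgroup.comap_map_eq_self_of_injective
          (Subgroup.subtype_injective _)]
        infer_instance
      have hle := CfsgLib.Base.le_pPrimeCore_of_isSubnormal (p := p) hsub (by
        rw [Subgroup.card_map_of_injective (Subgroup.subtype_injective _)]
        exact (hp.coprime_iff_not_dvd.mpr hdvd).symm)
      rw [hmap, Subgroup.map_eq_bot_iff, QuotientGroup.ker_mk']
      exact fun m hm => Subgroup.mem_subgroupOf.mpr (hle ⟨m, hm, rfl⟩)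
  · rw [heq] at hkey
    have h1 := (CfsgLib.BlockOrth.commutator_of_relIndex_one hx hC
      ((Nat.mul_eq_left (by omega)).mp hkey)).1
    exact le_antisymm (CfsgLib.BlockOrth.le_pPrimeCore_of_notMem hx hC _ h1) hRle


end Cfsg.Agent.S4497
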