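import Cfsg.Statements.S4498
import Cfsg.Agent.Lib.Blocks.RegularTwist
import Cfsg.Agent.Lib.Chars.Char

/-!
Two principal blocks for distinct primes `p`, `q` share a non-principal character when there is no
element of order `p * q`: weak block orthogonality.
-/

set_option autoImplicit false
open Cfsg
open scoped ComplexConjugate

namespace Cfsg.Agent.S4498

open CfsgLib CfsgLib.Chars CfsgLib.Blocks

theorem aux {G : Type*} [Group G] [Fintype G] {p : ℕ} (hp : p.Prime) {M : Ideal AlgInt}
    [M.IsPrime] (hpM : (p : AlgInt) ∈ M) {x g : G} (hx : p ∣ orderOf x) (hg : ¬ p ∣ orderOf g) :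
    ∑ᶠ χ ∈ principalBlock M G, (χ : G → ℂ) x * conj ((χ : G → ℂ) g) = 0 := by
  classical
  haveI := irrFintype G
  haveI := Fact.mk hp
  have hB : IsPBlock M (principalBlock M G) := ⟨principal G, rfl⟩
  have h := weak_orthogonality hp hpM hB hg hx
  rw [finsum_mem_eq_sum_of_inter_support_eq (t := Finset.univ.filter (· ∈ principalBlock M G)) _
    (by ext; simp)] at h ⊢
  have h2 := congrArg conj h
  rw [map_sum, map_zero] at h2
  rw [← h2]
  exact Finset.sum_congr rfl fun χ _ => by rw [map_mul, Complex.conj_conj, mul_comm]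

/-- Let p and q be distinct primes dividing the order of the finite group G, and suppose G has no element of order p·q. Fix maximal ideals M_p over p and M_q over q of the algebraic integers. Then the principal p-block and the principal q-block of G have a non-principal irreducible character in common. -/
theorem result {G : Type*} [Group G] [Finite G] (p q : ℕ) [Fact p.Prime] [Fact q.Prime] (hpq : p ≠ q) (hp : p ∣ Nat.card G) (hq : q ∣ Nat.card G) (hno : ∀ g : G, orderOf g ≠ p * q) (Mp Mq : Ideal Cfsg.AlgInt) (hMp : Cfsg.IsPModular p Mp) (hMq : Cfsg.IsPModular q Mq) : ∃ χ : Cfsg.IrrCharacter G, (χ : G → ℂ) ≠ (fun _ => 1) ∧ χ ∈ Cfsg.principalBlock Mp G ∧ χ ∈ Cfsg.principalBlock Mq G := by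
  classical
  haveI := Fintype.ofFinite G
  haveI := irrFintype G
  haveI : Mp.IsPrime := hMp.2.1.isPrime
  haveI : Mq.IsPrime := hMq.2.1.isPrime
  by_contra hcon
  push Not at hcon
  obtain ⟨x, hx⟩ := exists_prime_orderOf_dvd_card' p hp
  obtain ⟨y, hy⟩ := exists_prime_orderOf_dvd_card' q hq
  set SP := Finset.univ.filter (· ∈ principalBlock Mp G)
  set SQ := Finset.univ.filter (· ∈ principalBlock Mq G)
  set f : G → ℂ := fun g => ∑ χ ∈ SP, (χ : G → ℂ) x * conj ((χ : G → ℂ) g) with hf
  set k : G → ℂ := fun g => ∑ χ ∈ SQ, (χ : G → ℂ) y * conj ((χ : G → ℂ) g) with hk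
  have hf0 : ∀ g, ¬ p ∣ orderOf g → f g = 0 := fun g hg => by
    have := aux (Fact.out : p.Prime) hMp.2.2 (x := x) (g := g) (by rw [hx]) hg
    rwa [finsum_mem_eq_sum_of_inter_support_eq (t := SP) _ (by ext; simp [SP])] at this
  have hk0 : ∀ g, ¬ q ∣ orderOf g → k g = 0 := fun g hg => by
    have := aux (Fact.out : q.Prime) hMq.2.2 (x := y) (g := g) (by rw [hy]) hg
    rwa [finsum_mem_eq_sum_of_inter_support_eq (t := SQ) _ (by ext; simp [SQ])] at this
  have hzero : ∑ g, f g * conj (k g) = 0 := Finset.sum_eq_zero fun g _ => by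
    by_cases h1 : p ∣ orderOf g
    · by_cases h2 : q ∣ orderOf g
      · exfalso
        have hd : p * q ∣ orderOf g :=
          Nat.Coprime.mul_dvd_of_dvd_of_dvd
            ((Nat.coprime_primes (Fact.out : p.Prime) (Fact.out : q.Prime)).2 hpq) h1 h2
        obtain ⟨m, hm⟩ := hd
        have ho : 0 < orderOf g := orderOf_pos g
        have hm0 : m ≠ 0 := fun h => by rw [h, mul_zero] at hm; omega
        refine hno (g ^ m) ?_
        rw [orderOf_pow' g hm0, hm, Nat.gcd_mul_left_left,
          Nat.mul_div_cancel _ (Nat.pos_of_ne_zero hm0)]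
      · rw [hk0 g h2, map_zero, mul_zero]
    · rw [hf0 g h1, zero_mul]
  have horth : ∀ χ ψ : IrrCharacter G, ∑ g, conj ((χ : G → ℂ) g) * (ψ : G → ℂ) g =
      if χ = ψ then (Nat.card G : ℂ) else 0 := fun χ ψ => by
    have h := inner_irr ψ χ
    rw [classInner, inv_mul_eq_iff_eq_mul₀ (card_ne_zero G)] at h
    rw [Finset.sum_congr rfl fun g _ => mul_comm (conj ((χ : G → ℂ) g)) _, h]
    by_cases hc : χ = ψ
    · rw [if_pos hc, if_pos hc.symm, mul_one]
    · rw [if_neg hc, if_neg (Ne.symm hc), mul_zero]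
  have hexp : ∑ g, f g * conj (k g) =
      ∑ χ ∈ SP, ∑ ψ ∈ SQ, (χ : G → ℂ) x * conj ((ψ : G → ℂ) y) *
        if χ = ψ then (Nat.card G : ℂ) else 0 := by
    simp only [hf, hk, map_sum, map_mul, Complex.conj_conj, Finset.sum_mul_sum]
    rw [Finset.sum_comm]
    refine Finset.sum_congr rfl fun χ _ => ?_
    rw [Finset.sum_comm]
    refine Finset.sum_congr rfl fun ψ _ => ?_
    rw [← horth χ ψ, Finset.mul_sum]
    exact Finset.sum_congr rfl fun g _ => by ring
  have h1 : principal G ∈ SP := by
    simp only [SP, Finset.mem_filter, Finset.mem_univ, true_and]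
    intro g; exact ⟨0, 1, Submodule.zero_mem _, fun h => hMp.2.1.ne_top ((Ideal.eq_top_iff_one _).2 h),
      by rw [sub_eq_zero.2]; · simp
         · rfl⟩
  have h2 : principal G ∈ SQ := by
    simp only [SQ, Finset.mem_filter, Finset.mem_univ, true_and]
    intro g; exact ⟨0, 1, Submodule.zero_mem _, fun h => hMq.2.1.ne_top ((Ideal.eq_top_iff_one _).2 h),
      by rw [sub_eq_zero.2]; · simp
         · rfl⟩
  rw [hexp, Finset.sum_eq_single (principal G), Finset.sum_eq_single (principal G)] at hzero
  · rw [if_pos rfl, principal_apply, principal_apply, map_one, one_mul, one_mul] at hzero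
    exact card_ne_zero G hzero
  · intro ψ _ hne; rw [if_neg (Ne.symm hne), mul_zero]
  · intro h; exact absurd h2 h
  · intro χ hχ hne
    refine Finset.sum_eq_zero fun ψ hψ => ?_
    rw [if_neg, mul_zero]
    rintro rfl
    refine hne ?_
    by_contra h3
    exact hcon χ (fun h4 => h3 (Subtype.ext h4)) (Finset.mem_filter.1 hχ).2 (Finset.mem_filter.1 hψ).2
  · intro h; exact absurd h1 h

end Cfsg.Agent.S4498
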