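import Cfsg.Statements.S4499
import Cfsg.Agent.Lib.BlockOrth.Span

set_option autoImplicit false
open Cfsg CfsgLib.BlockOrth

namespace Cfsg.Agent.S4499

/-- Let G be a finite group whose order has p-part p^a (a ≥ 1), and fix a maximal ideal M of the algebraic integers containing p. If the degree of one irreducible character of a p-block B is divisible by p^(a−1), then the degree of every irreducible character in B is divisible by p^(a−1) (so B has defect at most 1). -/
theorem result {G : Type*} [Group G] [Finite G] (p : ℕ) [Fact p.Prime] (M : Ideal Cfsg.AlgInt) (hM : Cfsg.IsPModular p M) (hpa : p ∣ Nat.card G) (B : Set (Cfsg.IrrCharacter G)) (hB : Cfsg.IsPBlock M B) (χ : Cfsg.IrrCharacter G) (hχ : χ ∈ B) (hdiv : p ^ ((Nat.card G).factorization p - 1) ∣ Cfsg.charDegree (χ : G → ℂ)) (ψ : Cfsg.IrrCharacter G) (hψ : ψ ∈ B) : p ^ ((Nat.card G).factorization p - 1) ∣ Cfsg.charDegree (ψ : G → ℂ) := by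
  classical
  haveI := Fintype.ofFinite G
  haveI := CfsgLib.Blocks.isPrime_of_isPModular hM
  have hpM := hM.2.2
  have hψle := blockMin_le (p := p) hψ
  have hdeg := (Nat.Prime.pow_dvd_iff_le_factorization (Fact.out : p.Prime)
    (irr_charDegree_ne_zero χ)).mp hdiv
  refine (Nat.Prime.pow_dvd_iff_le_factorization (Fact.out : p.Prime)
    (irr_charDegree_ne_zero ψ)).mpr ?_
  have hsum := blockMin_add_blockDefect (p := p) (CfsgLib.Blocks.IsPBlock.nonempty hB)
  have hh := blockHeight_eq (p := p) (B := B) χ
  rcases Nat.eq_zero_or_pos (Cfsg.blockHeight p B (χ : G → ℂ)) with h | h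
  · rw [blockHeight_eq_zero_iff hχ] at h
    simp only [degVal] at h hψle ⊢
    omega
  · have h2 := height_add_two_le hpM hB hχ h
    have h3 := blockMin_le (p := p) hχ
    simp only [degVal] at *
    omega
end Cfsg.Agent.S4499
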