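import Cfsg.Statements.S4502
import Cfsg.Agent.Lib.Blocks.DefectOneCount

set_option autoImplicit false
open Cfsg Subgroup
open scoped Pointwise commutatorElement

namespace Cfsg.Agent.S4502

/-- Let G be a finite group whose order is divisible by the prime p exactly once, and let P be a Sylow p-subgroup. Then the number of irreducible characters of G of degree not divisible by p equals the number of conjugacy classes of the normalizer of P. -/
theorem result {G : Type*} [Group G] [Finite G] (p : ℕ) [Fact p.Prime] (hdiv : p ∣ Nat.card G) (hsq : ¬ p ^ 2 ∣ Nat.card G) (P : Sylow p G) : Nat.card {χ : Cfsg.IrrCharacter G // ¬ p ∣ Cfsg.charDegree (χ : G → ℂ)} = Nat.card (ConjClasses (Subgroup.normalizer ((P : Subgroup G) : Set G))) := by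
  haveI := Fintype.ofFinite G
  have hp : p.Prime := Fact.out
  have hcard : Nat.card (P : Subgroup G) = p := by
    rw [P.card_eq_multiplicity]
    have h1 := (hp.dvd_iff_one_le_factorization Nat.card_pos.ne').1 hdiv
    have h2 : ¬ 2 ≤ (Nat.card G).factorization p := fun h =>
      hsq ((pow_dvd_pow p h).trans (Nat.ordProj_dvd _ p))
    rw [show (Nat.card G).factorization p = 1 by omega, pow_one]
  haveI : Fintype (centralizer ((P : Subgroup G) : Set G)) := Fintype.ofFinite _
  exact CfsgLib.Blocks.card_not_dvd_degree_eq P rfl hcard hsq


end Cfsg.Agent.S4502
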