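import Cfsg.Statements.S4506
import Cfsg.Agent.Lib.Blocks.PConjugate
import Cfsg.Agent.Lib.Blocks.DefectOneGalois

set_option autoImplicit false
open Cfsg Subgroup
open scoped Pointwise commutatorElement

namespace Cfsg.Agent.S4506

/-- Let G be a finite group, p a prime, p^a the p-part of the order of G and g′ its p′-part. Call two irreducible characters p-conjugate when one is obtained from the other by applying a field automorphism of ℂ that fixes the g′-th roots of unity, and let r be the number of characters p-conjugate to the irreducible character χ (χ included). Then the exponent of p in r·χ(1) is at most a; and if p^a divides r·χ(1) then p^a already divides χ(1). -/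
theorem result {G : Type*} [Group G] [Finite G] (p : ℕ) (hp : p.Prime) (χ : Cfsg.IrrCharacter G) (r : ℕ) (hr : Nat.card {ψ : Cfsg.IrrCharacter G // ∃ σ : ℂ ≃+* ℂ, σ (Complex.exp (2 * Real.pi * Complex.I / ((Nat.card G / p ^ (Nat.card G).factorization p) : ℕ))) = Complex.exp (2 * Real.pi * Complex.I / ((Nat.card G / p ^ (Nat.card G).factorization p) : ℕ)) ∧ (ψ : G → ℂ) = fun g => σ ((χ : G → ℂ) g)} = r) : (r * Cfsg.charDegree (χ : G → ℂ)).factorization p ≤ (Nat.card G).factorization p ∧ (p ^ (Nat.card G).factorization p ∣ r * Cfsg.charDegree (χ : G → ℂ) → p ^ (Nat.card G).factorization p ∣ Cfsg.charDegree (χ : G → ℂ)) := by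
  classical
  haveI : Fact p.Prime := ⟨hp⟩
  haveI : Fintype G := Fintype.ofFinite G
  obtain ⟨m, hm⟩ : ∃ m, m = Nat.card G / p ^ (Nat.card G).factorization p := ⟨_, rfl⟩
  have hm0 : m ≠ 0 := by
    rw [hm]
    exact (Nat.ordCompl_pos p Nat.card_pos.ne').ne'
  obtain ⟨Orb, hOrb⟩ : ∃ Orb : Set (IrrCharacter G), ∀ ψ, ψ ∈ Orb ↔ ∃ σ : ℂ ≃+* ℂ,
      (∀ z : ℂ, z ^ m = 1 → σ z = z) ∧ ψ = CfsgLib.CharApps.galoisIrr σ χ :=
    ⟨{ψ | _}, fun ψ => Iff.rfl⟩
  have hcard : Nat.card Orb = r := by
    rw [← hr]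
    refine Nat.card_congr (Equiv.setCongr (Set.ext fun ψ => ?_))
    rw [hOrb]
    constructor
    · rintro ⟨σ, h1, rfl⟩
      refine ⟨σ, ?_, funext fun g => CfsgLib.CharApps.galoisIrr_apply σ χ g⟩
      rw [← hm]
      exact h1 _ (Complex.isPrimitiveRoot_exp m hm0).pow_eq_one
    · rintro ⟨σ, h1, h2⟩
      refine ⟨σ, CfsgLib.Blocks.fix_roots_of_exp hm0 (by rw [hm]; exact h1),
        Subtype.ext (h2.trans (funext fun g => (CfsgLib.CharApps.galoisIrr_apply σ χ g).symm))⟩
  have key : p ^ (Nat.card G).factorization p ∣ r * charDegree (χ : G → ℂ) → r = 1 := fun h => by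
    rw [← hcard] at h ⊢
    exact CfsgLib.Blocks.card_pConjugates_eq_one χ Orb (fun ψ => by rw [hOrb, hm]) h
  have hdvd : charDegree (χ : G → ℂ) ∣ Nat.card G := by
    obtain ⟨n, -, hn, hnd⟩ := CfsgLib.Chars.irr_degree_dvd_card χ.2
    rwa [show charDegree (χ : G → ℂ) = n from Nat.cast_injective (R := ℂ)
      (by rw [CfsgLib.Blocks.charDegree_cast]; exact hn)]
  have hd0 : charDegree (χ : G → ℂ) ≠ 0 := CfsgLib.BlockOrth.irr_charDegree_ne_zero χ
  refine ⟨?_, fun h => ?_⟩
  · by_contra hlt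
    have h1 := key ((pow_dvd_pow p (le_of_lt (not_le.1 hlt))).trans (Nat.ordProj_dvd _ p))
    rw [h1, one_mul] at hlt
    exact hlt (((Nat.factorization_le_iff_dvd hd0 Nat.card_pos.ne').2 hdvd) p)
  · rw [key h, one_mul] at h
    exact h


end Cfsg.Agent.S4506
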