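import Cfsg.Statements.S4507
import Cfsg.Agent.Lib.Blocks.DefectOneGalois

set_option autoImplicit false
open Cfsg Subgroup
open scoped Pointwise commutatorElement

namespace Cfsg.Agent.S4507

/-- Let G be a finite group whose order g is divisible by the prime p exactly once, g′ = g/p, and fix a maximal ideal M of the algebraic integers containing p. Call two irreducible characters p-conjugate when a field automorphism of ℂ fixing the g′-th roots of unity carries one to the other. Let B be a p-block of positive defect (its defect group is a Sylow p-subgroup). Then B contains a subset Y (the exceptional family) such that: Y is a full p-conjugacy class (its members are pairwise p-conjugate and every p-conjugate of a member of Y lies in Y); every member of B outside Y is p-conjugate only to itself; the size t of Y divides p − 1 and B has exactly t + (p − 1)/t members; and there are signs δ_χ = ±1 (χ ∈ B) such that for every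 p-regular element x and every θ ∈ Y, Σ_{χ ∈ B ∖ Y} δ_χ χ(x) + δ_θ θ(x) = 0. -/
theorem result {G : Type*} [Group G] [Finite G] (p : ℕ) [Fact p.Prime] (M : Ideal Cfsg.AlgInt) (hM : Cfsg.IsPModular p M) (hdiv : p ∣ Nat.card G) (hsq : ¬ p ^ 2 ∣ Nat.card G) (B : Set (Cfsg.IrrCharacter G)) (hB : Cfsg.IsPBlock M B) (hd : 0 < Cfsg.blockDefect p B) : ∃ Y : Set (Cfsg.IrrCharacter G), Y ⊆ B ∧ Y.Nonempty ∧ (∀ θ ∈ Y, ∀ ψ : Cfsg.IrrCharacter G, (∃ σ : ℂ ≃+* ℂ, σ (Complex.exp (2 * Real.pi * Complex.I / ((Nat.card G / p ^ (Nat.card G).factorization p) : ℕ))) = Complex.exp (2 * Real.pi * Complex.I / ((Nat.card G / p ^ (Nat.card G).factorization p) : ℕ)) ∧ (ψ : G → ℂ) = fun g => σ ((θ : G → ℂ) g)) ↔ ψ ∈ Y) ∧ (∀ χ ∈ B, χ ∉ Y → ∀ ψ : Cfsg.IrrCharacter G, (∃ σ : ℂ ≃+* ℂ, σ (Complex.exp (2 * Real.pi * Complex.I / ((Nat.card G / p ^ (Nat.card G).factorization p) : ℕ))) = Complex.exp (2 * Real.pi * Complex.I / ((Nat.card G / p ^ (Nat.card G).factorization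 p) : ℕ)) ∧ (ψ : G → ℂ) = fun g => σ ((χ : G → ℂ) g)) → ψ = χ) ∧ Nat.card Y ∣ p - 1 ∧ Nat.card B = Nat.card Y + (p - 1) / Nat.card Y ∧ ∃ δ : Cfsg.IrrCharacter G → ℤ, (∀ χ ∈ B, δ χ = 1 ∨ δ χ = -1) ∧ ∀ x : G, ¬ p ∣ orderOf x → ∀ θ ∈ Y, (∑ᶠ χ ∈ B \ Y, (δ χ : ℂ) * (χ : G → ℂ) x) + (δ θ : ℂ) * (θ : G → ℂ) x = 0 := by
  classical
  haveI := Fintype.ofFinite G
  haveI := hM.2.1.isPrime
  obtain ⟨P, b, hcard, hpair⟩ := CfsgLib.Blocks.exists_pair_of_pos_defect hM.2.2 hsq hB hd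
  haveI : Fintype (centralizer (P : Set G)) := Fintype.ofFinite _
  obtain ⟨Y, ε, a, hYB, hte, hcardB, hε, ha, hrel, hgal, htrans⟩ :=
    CfsgLib.Blocks.defect_one_galois hM hcard hsq hpair
  have hN0 : Nat.card G / p ^ (Nat.card G).factorization p ≠ 0 := (Nat.ordCompl_pos p Nat.card_pos.ne').ne'
  have hY0 : Nat.card Y ≠ 0 := fun h => by
    rw [h, zero_mul, zero_add] at hte
    exact (Fact.out : p.Prime).ne_one hte.symm
  have he0 : 0 < (centralizer (P : Set G)).relIndex (CfsgLib.Blocks.stabPair ⟨P, b⟩) :=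
    CfsgLib.Blocks.card_inertia b ▸ Nat.card_pos
  refine ⟨Y, hYB, ?_, fun θ hθ ψ => ⟨?_, fun hψ => ?_⟩, fun χ hχ hχY ψ => ?_, ?_, ?_, ?_⟩
  · exact Set.nonempty_iff_ne_empty.2 fun h => hY0 (by rw [h]; simp)
  · rintro ⟨σ, hσ, hψ⟩
    have h := (hgal σ (CfsgLib.Blocks.fix_roots_of_exp hN0 hσ)).2 θ hθ
    rwa [show CfsgLib.CharApps.galoisIrr σ θ = ψ from Subtype.ext hψ.symm] at h
  · obtain ⟨σ, hσ, hσθ⟩ := htrans θ hθ ψ hψ
    refine ⟨σ, hσ _ (Complex.isPrimitiveRoot_exp _ hN0).pow_eq_one, ?_⟩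
    rw [← hσθ]
    rfl
  · rintro ⟨σ, hσ, hψ⟩
    have h := (hgal σ (CfsgLib.Blocks.fix_roots_of_exp hN0 hσ)).1 χ ⟨hχ, hχY⟩
    rwa [show CfsgLib.CharApps.galoisIrr σ χ = ψ from Subtype.ext hψ.symm] at h
  · exact Dvd.intro ((centralizer (P : Set G)).relIndex (CfsgLib.Blocks.stabPair ⟨P, b⟩)) (by omega)
  · rw [hcardB, show p - 1 = Nat.card Y * (centralizer (P : Set G)).relIndex
        (CfsgLib.Blocks.stabPair ⟨P, b⟩) by omega,
      Nat.mul_div_cancel_left _ (Nat.pos_of_ne_zero hY0), add_comm]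
  · refine ⟨fun χ => if χ ∈ Y then -ε else a χ, fun χ hχ => ?_, fun x hx θ hθ => ?_⟩
    · by_cases h : χ ∈ Y
      · simp only [if_pos h]; rcases hε with h' | h' <;> simp [h']
      · simp only [if_neg h]; exact ha χ ⟨hχ, h⟩
    · simp only [if_pos hθ]
      rw [finsum_mem_congr rfl (g := fun χ : IrrCharacter G => (a χ : ℂ) * (χ : G → ℂ) x)
        (fun χ hχ => by rw [if_neg hχ.2]), ← hrel θ hθ x hx]
      push_cast
      ring


end Cfsg.Agent.S4507
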