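import Cfsg.Statements.S4509
import Cfsg.Agent.Lib.BlockOrth.SelfCentralFacts

set_option autoImplicit false
open Cfsg Subgroup
open scoped Pointwise commutatorElement

namespace Cfsg.Agent.S4509

/-- Let the finite group G contain an element x of prime order p with C_G(x) = ⟨x⟩; let t be the number of conjugacy classes of elements of order p and 1 + n·p the number of subgroups of order p. Then G has a normal subgroup of order 1 + n·p if and only if either t = p − 1, or t < p − 1 and G″ ≠ G′. Moreover, if t = p − 1 then G′ has order 1 + n·p and G/G′ is cyclic of order p; and if t < p − 1 and G″ ≠ G′ then G″ has order 1 + n·p and G′ has order p·(1 + n·p). -/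
theorem result {G : Type*} [Group G] [Finite G] (p : ℕ) (hp : p.Prime) (x : G) (hx : orderOf x = p) (hC : Subgroup.centralizer ({x} : Set G) = Subgroup.zpowers x) (t : ℕ) (ht : Nat.card {C : ConjClasses G // ∃ g ∈ C.carrier, orderOf g = p} = t) (n : ℕ) (hn : Nat.card {H : Subgroup G // Nat.card H = p} = 1 + n * p) : ((∃ S : Subgroup G, S.Normal ∧ Nat.card S = 1 + n * p) ↔ (t = p - 1 ∨ (t < p - 1 ∧ derivedSeries G 2 ≠ derivedSeries G 1))) ∧ (t = p - 1 → Nat.card (commutator G) = 1 + n * p ∧ IsCyclic (G ⧸ commutator G) ∧ (commutator G).index = p) ∧ (t < p - 1 → derivedSeries G 2 ≠ derivedSeries G 1 → Nat.card (derivedSeries G 2) = 1 + n * p ∧ Nat.card (commutator G) = p * (1 + n * p)) := by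
  haveI := Fact.mk hp
  have hkey := CfsgLib.BlockOrth.card_classes_mul hx hC
  rw [ht] at hkey
  have hp2 := hp.two_le
  rw [CfsgLib.BlockOrth.card_prime_subgroups hx hC] at hn
  have hd2 : derivedSeries G 2 = ⁅commutator G, commutator G⁆ := by
    rw [derivedSeries_succ, derivedSeries_one]
  have he1 : t = p - 1 → (zpowers x).relIndex (normalizer (zpowers x : Set G)) = 1 := fun h => by
    rw [h] at hkey; exact (Nat.mul_eq_left (by omega)).mp hkey
  have he2 : t < p - 1 → (zpowers x).relIndex (normalizer (zpowers x : Set G)) ≠ 1 := fun h h' => by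
    rw [h', mul_one] at hkey; omega
  have hA : t = p - 1 → Nat.card (commutator G) = 1 + n * p ∧ IsCyclic (G ⧸ commutator G) ∧
      (commutator G).index = p := fun h => by
    obtain ⟨-, h2, h3⟩ := CfsgLib.BlockOrth.commutator_of_relIndex_one hx hC (he1 h)
    exact ⟨h3.trans hn, isCyclic_of_prime_card (p := p) h2, h2⟩
  have hB : t < p - 1 → derivedSeries G 2 ≠ derivedSeries G 1 →
      Nat.card (derivedSeries G 2) = 1 + n * p ∧ Nat.card (commutator G) = p * (1 + n * p) :=
    fun h h' => by
      rw [← hn]; exact CfsgLib.BlockOrth.derived_of_ne hx hC (he2 h) h'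
  refine ⟨⟨?_, ?_⟩, hA, hB⟩
  · rintro ⟨S, hS, hcard⟩
    rcases eq_or_ne t (p - 1) with h | h
    · exact Or.inl h
    have hlt : t < p - 1 := by
      refine lt_of_le_of_ne ?_ h
      rw [← hkey]
      refine Nat.le_mul_of_pos_right t (Nat.pos_of_ne_zero fun h0 => ?_)
      rw [h0, mul_zero] at hkey; omega
    refine Or.inr ⟨hlt, ?_⟩
    have hxS : x ∉ S := fun hm => by
      have := (CfsgLib.BlockOrth.mem_normal_iff hx hC S).mp hm
      rw [hcard, Nat.dvd_add_left (Dvd.intro_left n rfl)] at this
      exact hp.not_dvd_one this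
    obtain ⟨hinf, -⟩ := CfsgLib.BlockOrth.card_dvd_index_normalizer hx hC S hxS
    have htop : normalizer (zpowers x : Set G) ⊔ S = ⊤ := by
      rw [sup_comm]
      apply Subgroup.eq_top_of_card_eq
      rw [CfsgLib.BlockOrth.sup_card_eq hinf, hcard, ← hn, Subgroup.index_mul_card]
    have hle := CfsgLib.BlockOrth.derived_le_of_complement hC S htop
    rw [derivedSeries_one, hd2]
    intro he
    exact hxS (hle (he.ge (CfsgLib.BlockOrth.mem_commutator hx hC (he2 hlt))))
  · rintro (h | ⟨h, h'⟩)
    · exact ⟨commutator G, inferInstance, (hA h).1⟩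
    · exact ⟨derivedSeries G 2, derivedSeries_normal G 2, (hB h h').1⟩


end Cfsg.Agent.S4509
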