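import Cfsg.Statements.S4512
import Cfsg.Agent.Lib.Blocks.FourDefect
import Cfsg.Agent.Lib.Blocks.ThirdMain

set_option autoImplicit false
open Cfsg Subgroup
open scoped Pointwise commutatorElement

namespace Cfsg.Agent.S4512

/-- If G is a finite group with a Sylow 2-subgroup that is a Klein four-group and a single conjugacy class of involutions, then its principal 2-block (relative to a maximal ideal M of the algebraic integers containing 2) has 2-regular rank 3: the restrictions of its irreducible characters to the elements of odd order span a space of dimension 3 (it has three irreducible Brauer characters). -/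
theorem result {G : Type*} [Group G] [Finite G] (M : Ideal Cfsg.AlgInt) (hM : Cfsg.IsPModular 2 M) (P : Sylow 2 G)
    (hP : Nat.card P = 4) (hexp : ∀ x : P, x * x = 1)
    (hone : ∀ s t : G, orderOf s = 2 → orderOf t = 2 → IsConj s t) :
    Cfsg.blockRank 2 (Cfsg.principalBlock M G) = 3 := by
  classical
  haveI : M.IsPrime := hM.2.1.isPrime
  haveI := Fintype.ofFinite G
  have hpM := hM.2.2
  have hmax := CfsgLib.Blocks.isMaximal_principal_sylow (M := M) hpM P
  have hsq : ∀ x ∈ (P : Subgroup G), x * x = 1 := fun x hx =>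
    congrArg Subtype.val (hexp ⟨x, hx⟩)
  have hab := CfsgLib.Blocks.four_comm hsq
  obtain ⟨hr, -, hl⟩ := CfsgLib.Blocks.four_defect hM hmax hP hsq
  rw [hl]
  refine hr.resolve_left fun h1 => ?_
  have htriv : CfsgLib.Blocks.stabPair (⟨(P : Subgroup G),
      (CfsgLib.Blocks.principalPair M (P : Subgroup G)).2⟩ : BrauerPairIdx G) ≤
      centralizer ((P : Subgroup G) : Set G) := Subgroup.relIndex_eq_one.1 h1
  obtain ⟨⟨u, hu⟩, hu1'⟩ := Subgroup.ne_bot_iff_exists_ne_one.1
    (fun h : (P : Subgroup G) = ⊥ => by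
      have h2 : Nat.card (P : Subgroup G) = 4 := hP
      rw [h, Subgroup.card_bot] at h2; omega)
  have hu1 : u ≠ 1 := fun h => hu1' (Subtype.ext h)
  obtain ⟨v, hv, hv1, hvu⟩ : ∃ v ∈ (P : Subgroup G), v ≠ 1 ∧ v ≠ u := by
    by_contra hne
    simp only [not_exists, not_and, not_not] at hne
    haveI := Fintype.ofFinite (P : Subgroup G)
    have hle := Finset.card_le_card (s := (Finset.univ : Finset (P : Subgroup G)))
      (t := {1, ⟨u, hu⟩}) fun w _ => by
        by_cases hw : (w : G) = 1
        · simp [Subtype.ext_iff, hw]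
        · simp [Subtype.ext_iff, hne w w.2 hw]
    rw [Finset.card_univ, ← Nat.card_eq_fintype_card,
      show Nat.card (P : Subgroup G) = 4 from hP] at hle
    exact absurd (hle.trans Finset.card_le_two) (by norm_num)
  have hord : ∀ w ∈ (P : Subgroup G), w ≠ 1 → orderOf w = 2 := fun w hw hw1 =>
    orderOf_eq_prime (by rw [sq]; exact hsq w hw) hw1
  obtain ⟨g, hg⟩ := isConj_iff.1 (hone u v (hord u hu hu1) (hord v hv hv1))
  obtain ⟨f, hf⟩ := CfsgLib.Blocks.exists_below (M := M) (p := 2) (b := ⟨(P : Subgroup G), (CfsgLib.Blocks.principalPair M (P : Subgroup G)).2⟩) hpM hmax.1.1 (zpowers u)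
    (zpowers_le.2 hu)
  obtain ⟨f', hf'⟩ := CfsgLib.Blocks.exists_below (M := M) (p := 2) (b := ⟨(P : Subgroup G), (CfsgLib.Blocks.principalPair M (P : Subgroup G)).2⟩) hpM hmax.1.1 (zpowers v)
    (zpowers_le.2 hv)
  have hfp := (CfsgLib.Blocks.isBrauerPairOf_iff_of_below hpM hf (principalBlock M G)).2 hmax.1
  have hfp' := (CfsgLib.Blocks.isBrauerPairOf_iff_of_below hpM hf' (principalBlock M G)).2 hmax.1
  have hconj := CfsgLib.Blocks.isBrauerPairOf_conj hfp g
  have hmap : (zpowers u).map (MulAut.conj g).toMonoidHom = zpowers v := by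
    rw [MonoidHom.map_zpowers]
    exact congrArg zpowers hg
  have heq : CfsgLib.Blocks.conjPair g ⟨zpowers u, f⟩ = (⟨zpowers v, f'⟩ : BrauerPairIdx G) := by
    have hfst : (CfsgLib.Blocks.conjPair g ⟨zpowers u, f⟩).1 = zpowers v := hmap
    generalize CfsgLib.Blocks.conjPair g ⟨zpowers u, f⟩ = a at hfst hconj
    obtain ⟨Q', b⟩ := a
    obtain rfl : Q' = zpowers v := hfst
    rw [show b = f' from (CfsgLib.Blocks.third_main hpM hconj).trans
      (CfsgLib.Blocks.third_main hpM hfp').symm]
  have h4 := CfsgLib.Blocks.below_conj hf g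
  rw [heq] at h4
  obtain ⟨d, hd, hdg⟩ := CfsgLib.Blocks.exists_centralizer_conj_of_below hpM hmax hab hf' h4
  have h5 := Subgroup.mem_centralizer_iff.1 (htriv hdg) u hu
  have h6 := Subgroup.mem_centralizer_iff.1 hd v (mem_zpowers v)
  refine hvu ?_
  calc v = d * v * d⁻¹ := by rw [← h6, mul_inv_cancel_right]
    _ = d * g * u * (d * g)⁻¹ := by rw [← hg]; group
    _ = u := by rw [← h5, mul_inv_cancel_right]


end Cfsg.Agent.S4512
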