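import Cfsg.Statements.S4513
import Cfsg.Agent.Lib.BlockOrth.DefectOneTwo
import Cfsg.Agent.Lib.BlockOrth.ContribAverage

set_option autoImplicit false
open Cfsg Subgroup
open scoped Pointwise commutatorElement

namespace Cfsg.Agent.S4513

open CfsgLib.Chars CfsgLib.Blocks CfsgLib.BlockOrth Finset
open scoped ComplexConjugate

private theorem main {G : Type*} [Group G] [Fintype G] (M : Ideal Cfsg.AlgInt) [M.IsPrime]
    (hM : Cfsg.IsPModular 2 M) {x : G} (hx : orderOf x = 2)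
    {B : Set (Cfsg.IrrCharacter G)} (hB : Cfsg.IsPBlock M B)
    (hBD : Cfsg.IsDefectGroup 2 M B (Subgroup.zpowers x)) {H : Subgroup G} [Fintype H]
    (hH : ∀ c : G, c ∈ H ↔ c * x = x * c) {b : Set (Cfsg.IrrCharacter H)}
    (hb : Cfsg.IsInducedBlock M H b B) {θ : Cfsg.IrrCharacter H} (hθ : θ ∈ b) :
    Nat.card B = 2 ∧ (∀ χ ∈ B, ∀ ψ ∈ B, ∀ g : G, ¬ 2 ∣ orderOf g → (χ : G → ℂ) g = (ψ : G → ℂ) g) ∧
      ∃ χ₁ ∈ B, ∃ χ₂ ∈ B, χ₁ ≠ χ₂ ∧ ∃ ε₁ ε₂ : ℤ, (ε₁ = 1 ∨ ε₁ = -1) ∧ (ε₂ = 1 ∨ ε₂ = -1) ∧ ε₁ * ε₂ = -1 ∧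
        ∀ y : H, ¬ 2 ∣ orderOf y →
          (χ₁ : G → ℂ) (x * y) = (ε₁ : ℂ) * (θ : H → ℂ) y ∧ (χ₂ : G → ℂ) (x * y) = (ε₂ : ℂ) * (θ : H → ℂ) y := by
  classical
  have hpM := hM.2.2
  have hx2 : ∃ k, orderOf x = 2 ^ k := ⟨1, by rw [hx, pow_one]⟩
  set x' : H := ⟨x, (hH x).2 rfl⟩ with hx'
  haveI := irrFintype G
  haveI := irrFintype H
  -- both defects are one
  have hdB : blockDefect 2 B = 1 := by
    have h := card_defectGroup (p := 2) hpM hB hBD
    rw [Nat.card_zpowers, hx] at h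
    exact Nat.pow_right_injective le_rfl (h.symm.trans (pow_one 2).symm)
  have hdb : blockDefect 2 b = 1 := by
    obtain ⟨E, hE⟩ := exists_isDefectGroup (p := 2) hb.1
    have hxE : x' ∈ E := mem_defectGroup_of_mem_center (mem_center_of_self hH)
      ⟨1, by rw [Subgroup.orderOf_mk, hx, pow_one]⟩ hE
    obtain ⟨F, hF, hle⟩ := IsInducedBlock.exists_defect_le hpM hb hE
    have h1 : Nat.card E ≤ 2 := by
      rw [← Subgroup.card_map_of_injective (H.subtype_injective)]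
      refine (Subgroup.card_le_of_le hle).trans (le_of_eq ?_)
      rw [card_defectGroup (p := 2) hpM hB hF, hdB, pow_one]
    have h2 : 2 ≤ Nat.card E := by
      have : orderOf (⟨x', hxE⟩ : E) ≤ Nat.card E := Nat.le_of_dvd Nat.card_pos (orderOf_dvd_natCard _)
      rwa [Subgroup.orderOf_mk, Subgroup.orderOf_mk, hx] at this
    have h := card_defectGroup (p := 2) hpM hb.1 hE
    rw [le_antisymm h1 h2] at h
    exact Nat.pow_right_injective le_rfl (h.symm.trans (pow_one 2).symm)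
  obtain ⟨hkB, -, hregB⟩ := two_block_defect_one hpM hB hdB
  obtain ⟨hkb, hdint, hregb⟩ := two_block_defect_one hpM hb.1 hdb
  have hval : ∀ χ ∈ B, ∀ ψ ∈ B, ∀ g : G, ¬ 2 ∣ orderOf g → (χ : G → ℂ) g = (ψ : G → ℂ) g := by
    intro χ hχ ψ hψ g hg
    have h := congrFun (hregB χ hχ ψ hψ) g
    simpa [pRegularPart_apply, hg] using h
  refine ⟨hkB, hval, ?_⟩
  set t := univ.filter (· ∈ b) with ht
  set s : IrrCharacter G → ℂ := fun χ => ∑ η ∈ t, classInner (secFun H x (χ : G → ℂ)) (η : H → ℂ)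
    with hs
  have hsint : ∀ χ, ∃ m : ℤ, s χ = m := by
    intro χ
    have hterm : ∀ η : IrrCharacter H,
        ∃ m : ℤ, classInner (secFun H x (χ : G → ℂ)) (η : H → ℂ) = m := fun η => by
      obtain ⟨m, hm⟩ := inner_irr_right_nat (isCharacter_restrict H (isCharacter_of_irr χ.2)) η
      have he := centralScalar_self_pow hH (N := 2) (by rw [← hx]; exact pow_orderOf_eq_one x) η
      rw [inner_secFun_eq hH, hm]
      rcases sq_eq_one_iff.1 he with h | h <;> rw [h]
      · exact ⟨m, by simp⟩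
      · exact ⟨-(m : ℤ), by simp⟩
    choose m hm using hterm
    exact ⟨∑ η ∈ t, m η, by simp [hs, hm]⟩
  have hu : ∀ χ : IrrCharacter G, ∀ η ∈ t,
      2 * classInner (pRegularPart 2 (secFun H x (χ : G → ℂ))) (η : H → ℂ) = s χ := by
    intro χ η hη
    have h := sum_inner_mul_dInt (p := 2) hpM hb.1
      (isClassFunction_secFun hH (isClassFunction_irr χ)) (mem_filter.1 hη).2
    rw [hdb, pow_one, Nat.cast_ofNat] at h
    rw [← h]
    exact Finset.sum_congr rfl fun θ' hθ' => by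
      rw [hdint η (mem_filter.1 hη).2 θ' (mem_filter.1 hθ').2, Int.cast_one, mul_one]
  have hsne : ∀ χ ∈ B, s χ ≠ 0 := by
    intro χ hχ h0
    have hh := (blockHeight_eq_zero_iff hχ).1
      (height_eq_zero_of_defect_le_one (p := 2) hpM hB hχ (le_of_eq hdB))
    refine not_memLocalIdeal_contrib hpM hH hx2 hb hχ hχ hh hh ?_
    have e : contrib 2 b x χ χ = s χ * conj (s χ) := by
      simp only [hs, contrib, map_sum, Finset.sum_mul_sum]
      refine Finset.sum_congr rfl fun η hη => Finset.sum_congr rfl fun θ' hθ' => ?_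
      rw [hdint η (mem_filter.1 hη).2 θ' (mem_filter.1 hθ').2, Int.cast_one, mul_one]
    rw [e, h0, zero_mul]
    exact MemLocalIdeal.zero'
  obtain ⟨χ₁, hχ₁, χ₂, hχ₂, hne, hBeq⟩ : ∃ χ₁ ∈ B, ∃ χ₂ ∈ B, χ₁ ≠ χ₂ ∧
      univ.filter (· ∈ B) = {χ₁, χ₂} := by
    rw [Nat.card_eq_fintype_card, Fintype.card_subtype, Finset.card_eq_two] at hkB
    obtain ⟨a, c, hac, he⟩ := hkB
    refine ⟨a, (mem_filter.1 (?_ : a ∈ univ.filter (· ∈ B))).2, c,
      (mem_filter.1 (?_ : c ∈ univ.filter (· ∈ B))).2, hac, he⟩ <;> simp [he]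
  -- the values on the section of `x` are opposite
  have hopp : ∀ y : H, pRegularPart 2 (secFun H x (χ₂ : G → ℂ)) y =
      -pRegularPart 2 (secFun H x (χ₁ : G → ℂ)) y := by
    intro y
    simp only [pRegularPart_apply]
    split_ifs with hy
    · exact neg_zero.symm
    have hcomm : Commute x (y : G) := ((hH y).1 y.2).symm
    have hord : 2 ∣ orderOf (x * (y : G)) := by
      rw [hcomm.orderOf_mul_eq_mul_orderOf_of_coprime (by
        rw [hx, Subgroup.orderOf_coe]; exact (Nat.prime_two.coprime_iff_not_dvd).2 hy), hx]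
      exact dvd_mul_right _ _
    have h := congrArg conj (blockCoeff_eq_zero_of_dvd Nat.prime_two hpM hB hord)
    rw [blockCoeff, sum_mem_block, hBeq, Finset.sum_pair hne, map_mul, map_inv₀, map_natCast,
      map_zero, mul_eq_zero, inv_eq_zero] at h
    have h' := h.resolve_left (Nat.cast_ne_zero.2 Nat.card_pos.ne')
    rw [map_add, map_mul, map_mul, Complex.conj_conj, Complex.conj_conj, irr_apply_one,
      irr_apply_one, map_natCast, map_natCast,
      show charDegree (χ₂ : G → ℂ) = charDegree (χ₁ : G → ℂ) by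
        have := hval χ₂ hχ₂ χ₁ hχ₁ 1 (by simp)
        rw [irr_apply_one, irr_apply_one] at this
        exact_mod_cast this, ← mul_add, mul_eq_zero] at h'
    exact eq_neg_of_add_eq_zero_right
      (h'.resolve_left (Nat.cast_ne_zero.2 (irr_charDegree_ne_zero χ₁)))
  have hu2 : ∀ η : H → ℂ, classInner (pRegularPart 2 (secFun H x (χ₂ : G → ℂ))) η =
      -classInner (pRegularPart 2 (secFun H x (χ₁ : G → ℂ))) η := fun η => by
    simp only [inner_def, hopp, neg_mul, Finset.sum_neg_distrib, mul_neg]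
  have hsum : ∀ η ∈ t, ∀ η' : IrrCharacter H, (dInt 2 b η η' : ℂ) =
      4 * (classInner (pRegularPart 2 (secFun H x (χ₁ : G → ℂ))) (η' : H → ℂ) *
        conj (classInner (pRegularPart 2 (secFun H x (χ₁ : G → ℂ))) (η : H → ℂ))) := by
    intro η hη η'
    rw [dInt_spec hpM (mem_filter.1 hη).2, hdb,
      ← sum_irr_inner_secFun hH hx2 (isClassFunction_irr η),
      ← Finset.sum_subset (Finset.subset_univ (univ.filter (· ∈ B))) (fun χ _ hχ => by
        rw [secFun_eq_zero_of_notMem hM hH hx2 hb (η := η) (by simpa using hχ) (mem_filter.1 hη).2,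
          map_zero, mul_zero]), hBeq, Finset.sum_pair hne, hu2, hu2, map_neg]
    push_cast
    ring
  obtain ⟨η₀, hη₀⟩ := CfsgLib.Blocks.IsPBlock.nonempty hb.1
  have hη₀t : η₀ ∈ t := mem_filter.2 ⟨mem_univ _, hη₀⟩
  obtain ⟨e, he⟩ := hsint χ₁
  have he1 : e = 1 ∨ e = -1 := by
    have h := hsum η₀ hη₀t η₀
    rw [hdint η₀ hη₀ η₀ hη₀, show (4 : ℂ) = 2 * 2 by norm_num, mul_mul_mul_comm,
      hu χ₁ η₀ hη₀t, ← Complex.conj_ofNat 2, ← map_mul, hu χ₁ η₀ hη₀t, he, map_intCast] at h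
    have : e * e = 1 := by exact_mod_cast h.symm
    exact mul_self_eq_one_iff.1 this
  have hout : ∀ η' : IrrCharacter H, η' ∉ b →
      classInner (pRegularPart 2 (secFun H x (χ₁ : G → ℂ))) (η' : H → ℂ) = 0 := by
    intro η' hη'
    have h := hsum η₀ hη₀t η'
    rw [dInt_eq_zero hpM hb.1 hη₀ hη', Int.cast_zero, eq_comm, mul_eq_zero, mul_eq_zero] at h
    refine (h.resolve_left (by norm_num)).resolve_right fun h0 => hsne χ₁ hχ₁ ?_
    rw [map_eq_zero] at h0
    rw [← hu χ₁ η₀ hη₀t, h0, mul_zero]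
  have hv : ∀ y : H, ¬ 2 ∣ orderOf y → (χ₁ : G → ℂ) (x * y) = (e : ℂ) * (θ : H → ℂ) y := by
    intro y hy
    have hexp := congrFun (classFun_eq_sum (isClassFunction_pRegularPart (p := 2)
      (isClassFunction_secFun hH (isClassFunction_irr χ₁)))) y
    rw [Finset.sum_apply, ← Finset.sum_subset (Finset.subset_univ t) (fun η _ hη => by
      rw [Pi.smul_apply, hout η (by simpa [ht] using hη), zero_smul])] at hexp
    simp only [pRegularPart_apply, Pi.smul_apply, smul_eq_mul] at hexp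
    rw [if_pos hy] at hexp
    rw [show (χ₁ : G → ℂ) (x * y) = secFun H x (χ₁ : G → ℂ) y from rfl, hexp]
    have hterm : ∀ η ∈ t, classInner (pRegularPart 2 (secFun H x (χ₁ : G → ℂ))) (η : H → ℂ) *
        (η : H → ℂ) y = (e : ℂ) / 2 * (θ : H → ℂ) y := fun η hη => by
      have h := congrFun (hregb η (mem_filter.1 hη).2 θ hθ) y
      simp only [pRegularPart_apply, if_pos hy] at h
      rw [h, ← he, ← hu χ₁ η hη]
      ring
    rw [Finset.sum_congr rfl hterm, Finset.sum_const, nsmul_eq_mul,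
      show t.card = 2 by rw [← hkb, Nat.card_eq_fintype_card, Fintype.card_subtype]]
    push_cast
    ring
  refine ⟨χ₁, hχ₁, χ₂, hχ₂, hne, e, -e, he1, ?_, ?_, fun y hy => ⟨hv y hy, ?_⟩⟩
  · rcases he1 with rfl | rfl <;> simp
  · rcases he1 with rfl | rfl <;> norm_num
  · have h := hopp y
    simp only [pRegularPart_apply, if_pos hy, secFun] at h
    rw [h, hv y hy]
    push_cast
    ring


/-- Blocks of defect one for p = 2. Let M be a maximal ideal of the algebraic integers containing 2, B a 2-block of the finite group G whose defect group is the subgroup generated by an involution x, C = C_G(x), b a block of C inducing B and θ a member of b taking the same value at x as at 1 (there is exactly one). Then B consists of exactly two irreducible characters, which agree on every element of odd order, and they can be labelled χ₁, χ₂ with signs ε₁, ε₂ = ±1, ε₁ε₂ = −1, such that χᵢ(x y) = εᵢ θ(y) for every element y of C of odd order. -/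
theorem result {G : Type*} [Group G] [Finite G] (M : Ideal Cfsg.AlgInt) (hM : Cfsg.IsPModular 2 M) (x : G) (hx : orderOf x = 2)
    (B : Set (Cfsg.IrrCharacter G)) (hB : Cfsg.IsPBlock M B) (hBD : Cfsg.IsDefectGroup 2 M B (Subgroup.zpowers x))
    (b : Set (Cfsg.IrrCharacter ↥(Subgroup.centralizer ({x} : Set G)))) (hb : Cfsg.IsInducedBlock M (Subgroup.centralizer ({x} : Set G)) b B)
    (θ : Cfsg.IrrCharacter ↥(Subgroup.centralizer ({x} : Set G))) (hθ : θ ∈ b)
    (hθx : ∀ z : ↥(Subgroup.centralizer ({x} : Set G)), (z : G) = x → (θ : ↥(Subgroup.centralizer ({x} : Set G)) → ℂ) z = (θ : ↥(Subgroup.centralizer ({x} : Set G)) → ℂ) 1) :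
    Nat.card B = 2 ∧ (∀ χ ∈ B, ∀ ψ ∈ B, ∀ g : G, ¬ 2 ∣ orderOf g → (χ : G → ℂ) g = (ψ : G → ℂ) g) ∧
      ∃ χ₁ ∈ B, ∃ χ₂ ∈ B, χ₁ ≠ χ₂ ∧ ∃ ε₁ ε₂ : ℤ, (ε₁ = 1 ∨ ε₁ = -1) ∧ (ε₂ = 1 ∨ ε₂ = -1) ∧ ε₁ * ε₂ = -1 ∧
        ∀ y : ↥(Subgroup.centralizer ({x} : Set G)), ¬ 2 ∣ orderOf y →
          (χ₁ : G → ℂ) (x * y) = (ε₁ : ℂ) * (θ : ↥(Subgroup.centralizer ({x} : Set G)) → ℂ) y ∧ (χ₂ : G → ℂ) (x * y) = (ε₂ : ℂ) * (θ : ↥(Subgroup.centralizer ({x} : Set G)) → ℂ) y := by
  haveI := Fintype.ofFinite G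
  haveI := Fintype.ofFinite (Subgroup.centralizer ({x} : Set G))
  haveI := isPrime_of_isPModular hM
  exact main M hM hx hB hBD (fun _ => Subgroup.mem_centralizer_singleton_iff) hb hθ


end Cfsg.Agent.S4513
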