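import Cfsg.Statements.S4518
import Cfsg.Agent.Lib.CharsMore.GaloisOdd

set_option autoImplicit false
open Cfsg Subgroup
open scoped Pointwise commutatorElement

namespace Cfsg.Agent.S4518

/-- Let N be a normal subgroup of the finite group G whose index is not divisible by the prime p, and let k be coprime to the order of G with k ^ (p ^ e) ≡ 1 modulo the order of G for some e (so g ↦ g ^ k induces a field automorphism of p-power order on character values). If an irreducible character χ of G satisfies χ (g ^ k) = χ g for all g, then every irreducible constituent θ of the restriction of χ to N satisfies θ (n ^ k) = θ n for all n. -/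
theorem result {G : Type*} [Group G] [Fintype G] (p : ℕ) [Fact p.Prime] (N : Subgroup G) [N.Normal] [Fintype N] (hidx : ¬ p ∣ N.index) (k e : ℕ) (hk : Nat.Coprime k (Nat.card G)) (hke : k ^ (p ^ e) ≡ 1 [MOD Nat.card G]) (χ : Cfsg.IrrCharacter G) (hχ : ∀ g : G, (χ : G → ℂ) (g ^ k) = (χ : G → ℂ) g) (θ : Cfsg.IrrCharacter N) (hθ : Cfsg.classInner (fun n : N => (χ : G → ℂ) n) (θ : N → ℂ) ≠ 0) : ∀ n : N, (θ : N → ℂ) (n ^ k) = (θ : N → ℂ) n := by
  classical
  haveI := CfsgLib.Chars.irrFintype N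
  set S := {φ : Cfsg.IrrCharacter N //
    Cfsg.classInner (fun n : N => (χ : G → ℂ) n) (φ : N → ℂ) ≠ 0} with hS
  have hkN : k.Coprime (Nat.card N) := hk.coprime_dvd_right (Subgroup.card_subgroup_dvd_card N)
  have hχN : ∀ n : N, (χ : G → ℂ) ((n ^ k : N) : G) = (χ : G → ℂ) n := fun n => by
    rw [SubgroupClass.coe_pow, hχ]
  let σ := CfsgLib.GaloisOdd.powIrr hkN
  have hσ : ∀ φ : Cfsg.IrrCharacter N,
      Cfsg.classInner (fun n : N => (χ : G → ℂ) n) (σ φ : N → ℂ) =
        Cfsg.classInner (fun n : N => (χ : G → ℂ) n) (φ : N → ℂ) := by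
    intro φ
    rw [← CfsgLib.GaloisOdd.inner_pow hkN (fun n : N => (χ : G → ℂ) n) (φ : N → ℂ)]
    congr 1
    · exact funext fun n => (hχN n).symm
    · exact funext fun n => CfsgLib.GaloisOdd.powIrr_apply hkN φ n
  let π : Equiv.Perm S := σ.subtypeEquiv fun φ => by rw [hσ]
  have hit : ∀ (j : ℕ) (φ : S) (n : N), (((π ^ j) φ).1 : N → ℂ) n = (φ.1 : N → ℂ) (n ^ k ^ j) := by
    intro j
    induction j with
    | zero => intro φ n; simp
    | succ j ih =>
      intro φ n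
      rw [pow_succ, Equiv.Perm.mul_apply, ih, show ((π φ).1 : N → ℂ) (n ^ k ^ j) =
        (φ.1 : N → ℂ) ((n ^ k ^ j) ^ k) from CfsgLib.GaloisOdd.powIrr_apply hkN φ.1 _, ← pow_mul,
        ← pow_succ]
  have hπ : π ^ p ^ e = 1 := by
    refine Equiv.ext fun φ => Subtype.ext (Subtype.ext (funext fun n => ?_))
    rw [hit, Equiv.Perm.one_apply]
    have e1 : n ^ k ^ p ^ e = n ^ 1 := pow_eq_pow_iff_modEq.2 (hke.of_dvd
      ((orderOf_dvd_natCard n).trans (Subgroup.card_subgroup_dvd_card N)))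
    rw [e1, pow_one]
  have hcard : Fintype.card S = (CfsgLib.CharsMore.inertia N (θ : N → ℂ)).index := by
    rw [← CfsgLib.CharsMore.card_orbitFn N (θ : N → ℂ)]
    refine Finset.card_bij (s := Finset.univ) (fun φ _ => (φ.1 : N → ℂ)) (fun φ _ => ?_)
      (fun a _ b _ h => Subtype.ext (Subtype.ext h)) (fun φ hφ => ?_) |>.trans rfl
    · obtain ⟨g, hg⟩ := CfsgLib.CharsMore.restrict_constituents_conj N χ.2 θ.2 φ.1.2 hθ φ.2
      exact (CfsgLib.CharsMore.mem_orbitFn N).2 ⟨g, hg⟩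
    · obtain ⟨g, rfl⟩ := (CfsgLib.CharsMore.mem_orbitFn N).1 hφ
      refine ⟨⟨⟨_, CfsgLib.CharsMore.isIrr_conjFn N g θ.2⟩, ?_⟩, Finset.mem_univ _, rfl⟩
      rwa [CfsgLib.CharsMore.inner_restrict_conjFn N (CfsgLib.Chars.isClassFunction_irr χ)]
  obtain ⟨φ, hφ⟩ := Equiv.Perm.exists_fixed_point_of_prime (p := p) (n := e)
    (fun hd => hidx (((hcard ▸ hd : p ∣ _).trans (Subgroup.index_dvd_of_le
      (CfsgLib.CharsMore.le_inertia N (CfsgLib.Chars.isClassFunction_irr θ)))))) hπ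
  have hfix : ∀ n : N, (φ.1 : N → ℂ) (n ^ k) = (φ.1 : N → ℂ) n := fun n => by
    have h := hit 1 φ n
    rw [pow_one, pow_one, hφ] at h
    exact h.symm
  obtain ⟨g, hg⟩ := CfsgLib.CharsMore.restrict_constituents_conj N χ.2 φ.1.2 θ.2 φ.2 hθ
  intro n
  rw [← hg]
  show (φ.1 : N → ℂ) (CfsgLib.CharsMore.conjBy N g (n ^ k)) =
    (φ.1 : N → ℂ) (CfsgLib.CharsMore.conjBy N g n)
  rw [map_pow, hfix]


end Cfsg.Agent.S4518
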