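import Cfsg.Statements.S4520
import Cfsg.Agent.Lib.Blocks.CoveringOrbit
import Cfsg.Agent.Lib.Blocks.PrincipalExtension
import Cfsg.Agent.Lib.Blocks.Counting
import Cfsg.Agent.Lib.BlockOrth.Height
import Cfsg.Agent.Lib.CharsMore.GaloisOdd

set_option autoImplicit false
open Cfsg Subgroup
open scoped Pointwise commutatorElement

namespace Cfsg.Agent.S4520

open CfsgLib CfsgLib.Blocks CfsgLib.Chars
open scoped ComplexConjugate

/-- An element of odd order with odd class size conjugate to its inverse is trivial. -/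
theorem eq_one_of_real_odd_class {G : Type*} [Group G] [Finite G] {g : G} (hg : Odd (orderOf g))
    (hcl : (Nat.card (Subgroup.centralizer ({g} : Set G))).factorization 2 =
      (Nat.card G).factorization 2) (h : IsConj g g⁻¹) : g = 1 := by
  classical
  haveI := Fintype.ofFinite G
  let σ : Equiv.Perm {x : G // IsConj g x} := (Equiv.inv G).subtypeEquiv fun x => by
    have : ∀ {a b : G}, IsConj a b → IsConj a⁻¹ b⁻¹ := fun {a b} hab => by
      obtain ⟨c, rfl⟩ := isConj_iff.1 hab
      exact isConj_iff.2 ⟨c, by group⟩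
    exact ⟨fun hx => h.trans (this hx), fun hx => h.trans (by simpa using this hx)⟩
  have hσ : σ ^ 2 ^ 1 = 1 := Equiv.ext fun x => Subtype.ext (by simp [σ, pow_succ])
  have hcard : ¬ 2 ∣ Fintype.card {x : G // IsConj g x} := by
    rw [← Nat.card_eq_fintype_card]
    intro hd
    have h1 := congrArg (fun n => n.factorization 2) (card_isConj_mul_card_centralizer g)
    haveI : Nonempty {x : G // IsConj g x} := ⟨⟨g, IsConj.refl g⟩⟩
    simp only [Nat.factorization_mul (Nat.card_pos.ne') (Nat.card_pos.ne'),
      Finsupp.coe_add, Pi.add_apply, hcl] at h1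
    have := Nat.Prime.factorization_pos_of_dvd Nat.prime_two Nat.card_pos.ne' hd
    omega
  obtain ⟨⟨x, hx⟩, hfix⟩ := Equiv.Perm.exists_fixed_point_of_prime (p := 2) (n := 1) hcard hσ
  have hx1 : x⁻¹ = x := congrArg Subtype.val hfix
  obtain ⟨c, rfl⟩ := isConj_iff.1 hx
  obtain ⟨m, hm⟩ := hg
  have h2 : g ^ 2 = 1 := by
    have h3 : g⁻¹ = g := by
      rw [conj_inv] at hx1
      simpa using hx1
    rw [pow_two]
    nth_rewrite 1 [← h3]
    exact inv_mul_cancel g
  have := pow_orderOf_eq_one g
  rwa [hm, pow_succ, pow_mul, h2, one_pow, one_mul] at this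

/-- In a block of full defect at two, invariant under inversion on odd elements, the central
character pairs against a real coefficient function through the identity only. -/
theorem omega_congr_one {G : Type*} [Group G] [Fintype G] {M : Ideal AlgInt} [M.IsPrime]
    (hpM : (2 : AlgInt) ∈ M) {a : G → ℂ} (ha : IsLocClassFun M a)
    (hsing : ∀ g : G, 2 ∣ orderOf g → a g = 0) (hreal : ∀ g : G, a g⁻¹ = a g)
    {χ : IrrCharacter G} (hfull : blockDefect 2 (blockOf M (χ : G → ℂ)) =
      (Nat.card G).factorization 2)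
    (hχ : ∀ g : G, Odd (orderOf g) → (χ : G → ℂ) g⁻¹ = (χ : G → ℂ) g) :
    MemLocalIdeal M (omega (χ : G → ℂ) a - a 1) := by
  classical
  haveI : Fact (2 : ℕ).Prime := ⟨Nat.prime_two⟩
  have hpM' : ((2 : ℕ) : AlgInt) ∈ M := by exact_mod_cast hpM
  haveI := charP_resField (M := M) Nat.prime_two hpM'
  haveI := Fintype.ofFinite (ConjClasses G)
  rw [omega_eq_sum_centralChar χ ha.1, ← Finset.add_sum_erase _ _ (Finset.mem_univ (ConjClasses.mk (1 : G)))]
  have h1 : classRep (ConjClasses.mk (1 : G)) = 1 := by
    obtain ⟨c, hc⟩ := isConj_iff.1 (ConjClasses.mk_eq_mk_iff_isConj.1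
      (mk_classRep (ConjClasses.mk (1 : G)))).symm
    simpa using hc.symm
  rw [h1, centralChar_one, mul_one, add_sub_cancel_left]
  set F : ConjClasses G → ℂ := fun C => a (classRep C) * centralChar (χ : G → ℂ) (classRep C)
    with hF
  have hFm : ∀ C, F C ∈ loc M := fun C => mul_mem (ha.2 _) (centralChar_mem_loc χ _)
  set J : ConjClasses G → ConjClasses G := fun C => ConjClasses.mk (classRep C)⁻¹ with hJ
  have hrep : ∀ g : G, IsConj (classRep (ConjClasses.mk g)) g := fun g =>
    ConjClasses.mk_eq_mk_iff_isConj.1 (mk_classRep (ConjClasses.mk g))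
  have hinvc : ∀ {u v : G}, IsConj u v → IsConj u⁻¹ v⁻¹ := fun {u v} hab => by
    obtain ⟨c, rfl⟩ := isConj_iff.1 hab
    exact isConj_iff.2 ⟨c, by group⟩
  have hJJ : ∀ C, J (J C) = C := fun C => by
    show ConjClasses.mk (classRep (ConjClasses.mk (classRep C)⁻¹))⁻¹ = C
    conv_rhs => rw [← mk_classRep C]
    rw [ConjClasses.mk_eq_mk_iff_isConj]
    simpa using hinvc (hrep (classRep C)⁻¹)
  have hcc : ∀ {u v : G}, IsConj u v →
      a u * centralChar (χ : G → ℂ) u = a v * centralChar (χ : G → ℂ) v := fun {u v} huv => by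
    rw [← omega_classInd χ u, ← omega_classInd χ v]
    obtain ⟨c, rfl⟩ := isConj_iff.1 huv
    rw [ha.1 u c, show classInd (c * u * c⁻¹) = classInd u from funext fun x => by
      rw [classInd_apply, classInd_apply]
      split_ifs with h1 h2 h2
      · rfl
      · exact absurd (huv.trans h1) h2
      · exact absurd (huv.symm.trans h2) h1
      · rfl]
  have hpair : ∀ C, MemLocalIdeal M (F C + F (J C)) := by
    intro C
    set g := classRep C
    have e : F (J C) = a g⁻¹ * centralChar (χ : G → ℂ) g⁻¹ := hcc (hrep g⁻¹)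
    rw [e, hreal]
    rcases Nat.even_or_odd (orderOf g) with he | ho
    · rw [hsing g he.two_dvd, zero_mul, add_zero]
      show MemLocalIdeal M (a g * _)
      rw [hsing g he.two_dvd, zero_mul]
      exact MemLocalIdeal.zero'
    · have hcen : centralChar (χ : G → ℂ) g⁻¹ = centralChar (χ : G → ℂ) g := by
        simp only [centralChar, hχ g ho]
        congr 4
        ext y
        simp only [Subgroup.mem_centralizer_singleton_iff]
        exact ⟨fun h => by simpa using (Commute.inv_right (a := y) (b := g⁻¹) h).eq,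
          fun h => (Commute.inv_right (a := y) (b := g) h).eq⟩
      rw [hcen, show F C = a g * centralChar (χ : G → ℂ) g from rfl, ← two_mul]
      refine MemLocalIdeal.mul_right' ?_ (mul_mem (ha.2 g) (centralChar_mem_loc χ g))
      exact_mod_cast (memLocalIdeal_natCast_iff (M := M) Nat.prime_two hpM' 2).2 dvd_rfl
  rw [← red_eq_zero_iff (x := ⟨_, sum_mem fun C _ => hFm C⟩)]
  have hsum : (⟨_, sum_mem fun C (_ : C ∈ Finset.univ.erase (ConjClasses.mk (1 : G))) => hFm C⟩ :
      loc M) = ∑ C ∈ Finset.univ.erase (ConjClasses.mk (1 : G)), ⟨F C, hFm C⟩ :=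
    Subtype.ext (by push_cast; rfl)
  rw [hsum, map_sum]
  refine Finset.sum_involution (fun C _ => J C) (fun C _ => ?_) (fun C hC hne => ?_)
    (fun C hC => ?_) (fun C _ => hJJ C)
  · rw [← map_add, red_eq_zero_iff]
    exact hpair C
  · intro hJC
    set g := classRep C
    have hreg : Odd (orderOf g) := Nat.not_even_iff_odd.1 fun he => hne (by
      rw [red_eq_zero_iff]
      show MemLocalIdeal M (a g * _)
      rw [hsing g he.two_dvd, zero_mul]
      exact MemLocalIdeal.zero')
    have hfullC : (Nat.card (Subgroup.centralizer ({g} : Set G))).factorization 2 =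
        (Nat.card G).factorization 2 := by
      refine le_antisymm ((Nat.factorization_le_iff_dvd Nat.card_pos.ne' Nat.card_pos.ne').2
        (Subgroup.card_subgroup_dvd_card _) 2) (not_lt.1 fun hlt => hne ?_)
      rw [red_eq_zero_iff]
      exact MemLocalIdeal.mul_left' (ha.2 g) (centralChar_mem_of_small_defect hpM'
        (isPBlock_blockOf χ) (hfull ▸ hlt) (mem_blockOf_self χ))
    have hg1 : g = 1 := eq_one_of_real_odd_class hreg hfullC
      (ConjClasses.mk_eq_mk_iff_isConj.1 (show ConjClasses.mk g = ConjClasses.mk g⁻¹ from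
        (mk_classRep C).trans hJC.symm))
    exact (Finset.mem_erase.1 hC).1 (by rw [← mk_classRep C]; exact congrArg _ hg1)
  · refine Finset.mem_erase.2 ⟨fun hJC => (Finset.mem_erase.1 hC).1 ?_, Finset.mem_univ _⟩
    obtain ⟨c, hc⟩ := isConj_iff.1 (ConjClasses.mk_eq_mk_iff_isConj.1 hJC)
    rw [← mk_classRep C, show classRep C = 1 by simpa using hc]

/-- Complex conjugation preserves the principal block, so its idempotent is real. -/
theorem blockCoeff_principal_inv {G : Type*} [Group G] [Fintype G] {M : Ideal AlgInt} [M.IsPrime]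
    (g : G) : blockCoeff (principalBlock M G) g⁻¹ = blockCoeff (principalBlock M G) g := by
  classical
  haveI := irrFintype G
  let J : IrrCharacter G → IrrCharacter G := fun χ =>
    ⟨fun x => conj ((χ : G → ℂ) x), isIrrCharacter_conj χ.2⟩
  have hJJ : ∀ χ, J (J χ) = χ := fun χ => Subtype.ext (funext fun x => Complex.conj_conj _)
  have hmem : ∀ χ ∈ principalBlock M G, J χ ∈ principalBlock M G := by
    intro χ hχ x
    have hx := hχ x⁻¹
    have hC : Subgroup.centralizer ({x⁻¹} : Set G) = Subgroup.centralizer ({x} : Set G) := by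
      ext y
      simp only [Subgroup.mem_centralizer_singleton_iff]
      exact ⟨fun h => by simpa using (Commute.inv_right (a := y) (b := x⁻¹) h).eq,
        fun h => (Commute.inv_right (a := y) (b := x) h).eq⟩
    have e : centralChar (J χ : G → ℂ) x = centralChar (χ : G → ℂ) x⁻¹ := by
      simp only [centralChar, hC, J]
      rw [← irr_inv, ← irr_inv, inv_one]
    rw [e]
    simpa [centralChar, hC] using hx
  simp only [blockCoeff]
  congr 1
  rw [finsum_mem_eq_sum_of_inter_support_eq (t := Finset.univ.filter (· ∈ principalBlock M G)) _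
      (by ext; simp),
    finsum_mem_eq_sum_of_inter_support_eq (t := Finset.univ.filter (· ∈ principalBlock M G)) _
      (by ext; simp)]
  refine Finset.sum_nbij' J J (fun χ hχ => ?_) (fun χ hχ => ?_) (fun χ _ => hJJ χ)
    (fun χ _ => hJJ χ) fun χ _ => ?_
  · simpa using hmem χ (by simpa using hχ)
  · simpa using hmem χ (by simpa using hχ)
  · show (χ : G → ℂ) 1 * conj ((χ : G → ℂ) g⁻¹) = conj ((χ : G → ℂ) 1) * conj (conj ((χ : G → ℂ) g))
    rw [irr_inv, ← irr_inv χ 1, inv_one]


/-- Let N be a normal subgroup of odd index in the finite group G, M a maximal ideal of the algebraic integers containing 2, and k coprime to the order of G with k ^ (2 ^ e) ≡ 1 modulo the order of G for some e and g ^ k = g⁻¹ for every element g of odd order. Let θ be an irreducible character of N and χ an irreducible character of G over θ, both unchanged by composing with g ↦ g ^ k. Then χ lies in the principal 2-block of G if and only if θ lies in the principal 2-block of N. -/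
theorem result {G : Type*} [Group G] [Fintype G] (M : Ideal Cfsg.AlgInt) (hM : Cfsg.IsPModular 2 M) (N : Subgroup G) [N.Normal] [Fintype N] (hidx : Odd N.index) (k e : ℕ) (hk : Nat.Coprime k (Nat.card G)) (hke : k ^ (2 ^ e) ≡ 1 [MOD Nat.card G]) (hk₂ : ∀ g : G, Odd (orderOf g) → g ^ k = g⁻¹) (θ : Cfsg.IrrCharacter N) (hθ : ∀ n : N, (θ : N → ℂ) (n ^ k) = (θ : N → ℂ) n) (χ : Cfsg.IrrCharacter G) (hχ : ∀ g : G, (χ : G → ℂ) (g ^ k) = (χ : G → ℂ) g) (hover : Cfsg.classInner (fun n : N => (χ : G → ℂ) n) (θ : N → ℂ) ≠ 0) : χ ∈ Cfsg.principalBlock M G ↔ θ ∈ Cfsg.principalBlock M N := by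
  classical
  haveI := isPrime_of_isPModular hM
  haveI : Fact (2 : ℕ).Prime := ⟨Nat.prime_two⟩
  have hpM : (2 : AlgInt) ∈ M := by exact_mod_cast hM.2.2
  have hpM' : ((2 : ℕ) : AlgInt) ∈ M := hM.2.2
  refine ⟨fun h => PrincExt.constituent_mem N h hover, fun h => ?_⟩
  set B := blockOf M (χ : G → ℂ) with hBdef
  have hB : IsPBlock M B := isPBlock_blockOf χ
  obtain ⟨χ', hχ'B, hχ'⟩ := exists_over_of_covered N hB (isPBlock_principalBlock M)
    ⟨χ, mem_blockOf_self χ, θ, h, hover⟩ (principal_mem_principalBlock (G := N) M)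
  -- a member of odd degree
  have hfull : blockDefect 2 B = (Nat.card G).factorization 2 := by
    have hker : ∀ x ∈ N, (χ' : G → ℂ) x = (χ' : G → ℂ) 1 := by
      have hr := fun n : N => CharsMore.restrict_eq_mul_of_invariant N χ'.2 (principal N).2
        (fun _ _ => rfl) hχ' n
      intro x hx
      have h1 := hr ⟨x, hx⟩
      have h2 := hr 1
      simp only [principal_apply, OneMemClass.coe_one] at h1 h2
      rw [h1, h2]
    obtain ⟨f, hf, hfe⟩ := exists_deflate_irr N χ'.2 hker
    obtain ⟨d, hd0, hd1, hd2⟩ := irr_degree_dvd_card hf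
    have hdeg : charDegree (χ' : G → ℂ) = d := by
      simp [charDegree, hfe, hd1]
    rw [← Subgroup.index_eq_card] at hd2
    have hodd : ¬ 2 ∣ charDegree (χ' : G → ℂ) := by
      rw [hdeg]; exact fun h2 => (hidx.not_two_dvd_nat) (h2.trans hd2)
    have h0 := BlockOrth.blockMin_le (p := 2) hχ'B
    rw [BlockOrth.degVal, Nat.factorization_eq_zero_of_not_dvd hodd] at h0
    have := BlockOrth.blockMin_add_blockDefect (p := 2) (B := B) ⟨χ', hχ'B⟩
    omega
  set a := blockCoeff (principalBlock M G)
  have ha : IsLocClassFun M a := isLocClassFun_blockCoeff (isPBlock_principalBlock M)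
  have hsing : ∀ g : G, 2 ∣ orderOf g → a g = 0 := fun g hg =>
    blockCoeff_eq_zero_of_dvd Nat.prime_two hpM' (isPBlock_principalBlock M) hg
  have hreal := fun g : G => blockCoeff_principal_inv (M := M) g
  have h1 := omega_congr_one hpM ha hsing hreal (χ := χ) hfull fun g hg => by
    rw [← hk₂ g hg, hχ]
  have hfull1 : blockDefect 2 (blockOf M ((principal G : IrrCharacter G) : G → ℂ)) =
      (Nat.card G).factorization 2 := by
    have h0 := BlockOrth.blockMin_le (p := 2)
      (B := blockOf M ((principal G : IrrCharacter G) : G → ℂ)) (mem_blockOf_self _)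
    rw [BlockOrth.degVal, show charDegree ((principal G : IrrCharacter G) : G → ℂ) = 1 by
      simp [charDegree, principal_apply], Nat.factorization_one] at h0
    have := BlockOrth.blockMin_add_blockDefect (p := 2)
      (B := blockOf M ((principal G : IrrCharacter G) : G → ℂ)) ⟨_, mem_blockOf_self _⟩
    simp only [Finsupp.coe_zero, Pi.zero_apply] at h0
    omega
  have h2 := omega_congr_one hpM ha hsing hreal (χ := principal G) hfull1 fun g _ => rfl
  rw [omega_blockCoeff, if_pos (principal_mem_principalBlock M)] at h2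
  by_contra hne
  rw [omega_blockCoeff, if_neg hne] at h1
  have h3 := MemLocalIdeal.add' h2 (MemLocalIdeal.neg' h1)
  rw [show (1 : ℂ) - a 1 + -(0 - a 1) = 1 by ring] at h3
  exact not_memLocalIdeal_one h3


end Cfsg.Agent.S4520
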