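import Cfsg.Statements.S4521
import Cfsg.Agent.Lib.Blocks.QuotientP
import Cfsg.Agent.Lib.CharApps.Basic
import Cfsg.Agent.Lib.Chars.Product
import Cfsg.Agent.Lib.FgsB.Basic

set_option autoImplicit false
open Cfsg Subgroup
open scoped Pointwise commutatorElement

namespace Cfsg.Agent.S4521

theorem regular_split {G : Type*} [Group G] [Finite G] (p : ℕ) [Fact p.Prime] {u v : G}
    (huv : Commute u v) (hg : ¬ p ∣ orderOf (u * v)) :
    ∃ e : ℕ, ¬ p ∣ orderOf (u ^ e) ∧ ¬ p ∣ orderOf (v ^ e) ∧ u ^ e * v ^ e = u * v := by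
  set a := (Nat.card G).factorization p
  have hc : (p ^ a).Coprime (orderOf (u * v)) :=
    ((Fact.out : p.Prime).coprime_iff_not_dvd.2 hg).pow_left _
  obtain ⟨e, h0, h1⟩ := Nat.chineseRemainder hc 0 1
  have hreg : ∀ w : G, ¬ p ∣ orderOf (w ^ e) := by
    intro w hd
    obtain ⟨t, ht⟩ := Nat.modEq_zero_iff_dvd.1 h0
    have h2 : (w ^ e) ^ (Nat.card G / p ^ a) = 1 := by
      rw [← pow_mul, ht, mul_assoc, mul_comm t, ← mul_assoc, Nat.ordProj_mul_ordCompl_eq_self,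
        pow_mul, pow_card_eq_one', one_pow]
    exact Nat.not_dvd_ordCompl Fact.out Nat.card_pos.ne' (hd.trans (orderOf_dvd_of_pow_eq_one h2))
  refine ⟨e, hreg u, hreg v, ?_⟩
  rw [← huv.mul_pow]
  conv_rhs => rw [← pow_one (u * v)]
  exact pow_eq_pow_iff_modEq.2 h1

theorem regular_factor_unique {G : Type*} [Group G] [Finite G] (p : ℕ) [Fact p.Prime] {U₁ U₂ : Subgroup G}
    (hcomm : ∀ u ∈ U₁, ∀ v ∈ U₂, u * v = v * u) (hZ : IsPGroup p ↥(U₁ ⊓ U₂)) {u u' v v' : G}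
    (hu : u ∈ U₁) (hu' : u' ∈ U₁) (hv : v ∈ U₂) (hv' : v' ∈ U₂)
    (hru : ¬ p ∣ orderOf u) (hru' : ¬ p ∣ orderOf u') (he : u * v = u' * v') : u = u' ∧ v = v' := by
  set z := u'⁻¹ * u with hz
  have hz2 : z = v' * v⁻¹ := by
    calc z = u'⁻¹ * (u * v) * v⁻¹ := by rw [hz]; group
      _ = v' * v⁻¹ := by rw [he]; group
  have hzmem : z ∈ U₁ ⊓ U₂ := Subgroup.mem_inf.2 ⟨mul_mem (inv_mem hu') hu, hz2 ▸ mul_mem hv' (inv_mem hv)⟩
  obtain ⟨k, hk⟩ := IsPGroup.iff_orderOf.1 hZ ⟨z, hzmem⟩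
  rw [Subgroup.orderOf_mk] at hk
  have hzu : Commute u' z := (hcomm _ hu' _ hzmem.2 :)
  have h1 : u = u' * z := by rw [hz]; group
  have h2 : u ^ (p ^ k) = u' ^ (p ^ k) := by
    rw [h1, hzu.mul_pow, ← hk, pow_orderOf_eq_one, mul_one]
  have hcp : (p ^ k).Coprime (orderOf u * orderOf u') :=
    (((Fact.out : p.Prime).coprime_iff_not_dvd.2 hru).mul_right
      ((Fact.out : p.Prime).coprime_iff_not_dvd.2 hru')).pow_left _
  obtain ⟨t, -, ht⟩ := Nat.exists_mul_mod_eq_of_coprime 1 hcp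
    (Nat.mul_ne_zero (orderOf_pos u).ne' (orderOf_pos u').ne')
  have h3 : p ^ k * t ≡ 1 [MOD orderOf u * orderOf u'] := ht
  have huu : u = u' := by
    calc u = u ^ 1 := (pow_one u).symm
      _ = u ^ (p ^ k * t) := (pow_eq_pow_iff_modEq.2 (Nat.ModEq.of_mul_right _ h3)).symm
      _ = u' ^ (p ^ k * t) := by rw [pow_mul, h2, ← pow_mul]
      _ = u' ^ 1 := pow_eq_pow_iff_modEq.2 (Nat.ModEq.of_mul_left _ h3)
      _ = u' := pow_one u'
  exact ⟨huu, mul_left_cancel (huu ▸ he)⟩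


/-- Let the finite group G be generated by subgroups U₁ and U₂ that commute elementwise and whose intersection is a p-group, and let M be a maximal ideal of the algebraic integers containing the prime p. If the irreducible character χ of G has the irreducible constituents ψ₁ on U₁ and ψ₂ on U₂, then χ lies in the principal block of G if and only if ψ₁ and ψ₂ lie in the principal blocks of U₁ and U₂. -/
theorem result {G : Type*} [Group G] [Fintype G] (p : ℕ) [Fact p.Prime] (M : Ideal Cfsg.AlgInt) (hM : Cfsg.IsPModular p M) (U₁ U₂ : Subgroup G) [Fintype U₁] [Fintype U₂] (hcomm : ∀ u ∈ U₁, ∀ v ∈ U₂, u * v = v * u) (hgen : U₁ ⊔ U₂ = ⊤) (hZ : IsPGroup p ↥(U₁ ⊓ U₂)) (χ : Cfsg.IrrCharacter G) (ψ₁ : Cfsg.IrrCharacter U₁) (ψ₂ : Cfsg.IrrCharacter U₂) (h₁ : Cfsg.classInner (fun u : U₁ => (χ : G → ℂ) u) (ψ₁ : U₁ → ℂ) ≠ 0) (h₂ : Cfsg.classInner (fun u : U₂ => (χ : G → ℂ) u) (ψ₂ : U₂ → ℂ) ≠ 0) : χ ∈ Cfsg.principalBlock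 M G ↔ (ψ₁ ∈ Cfsg.principalBlock M U₁ ∧ ψ₂ ∈ Cfsg.principalBlock M U₂) := by
  classical
  haveI := CfsgLib.Blocks.isPrime_of_isPModular hM
  have hpM : (p : Cfsg.AlgInt) ∈ M := hM.2.2
  let f : U₁ × U₂ →* G :=
    { toFun := fun w => (w.1 : G) * w.2
      map_one' := by simp
      map_mul' := fun a b => by
        show ((a.1 * b.1 : U₁) : G) * ((a.2 * b.2 : U₂) : G) = _
        rw [Subgroup.coe_mul, Subgroup.coe_mul, mul_assoc, ← mul_assoc (b.1 : G),
          hcomm _ b.1.2 _ a.2.2]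
        group }
  have hf : Function.Surjective f := by
    intro g
    have hle : U₁ ⊔ U₂ ≤ f.range := sup_le (fun u hu => ⟨(⟨u, hu⟩, 1), by simp [f]⟩)
      (fun v hv => ⟨(1, ⟨v, hv⟩), by simp [f]⟩)
    exact hle (hgen ▸ Subgroup.mem_top g)
  obtain ⟨φ₁, φ₂, hφ₁, hφ₂, he⟩ :=
    (CfsgLib.Chars.isIrrCharacter_prod_iff _).1 (CfsgLib.Chars.isIrrCharacter_comp f hf χ.2)
  have hfac : ∀ (u : U₁) (v : U₂), (χ : G → ℂ) ((u : G) * v) = φ₁ u * φ₂ v := fun u v =>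
    congrFun he (u, v)
  have hne1 : φ₁ 1 ≠ 0 := CfsgLib.Chars.irr_degree_ne_zero hφ₁
  have hne2 : φ₂ 1 ≠ 0 := CfsgLib.Chars.irr_degree_ne_zero hφ₂
  have h1' : φ₁ = (ψ₁ : U₁ → ℂ) := by
    have e : (fun u : U₁ => (χ : G → ℂ) u) = φ₂ 1 • φ₁ := funext fun u => by
      have := hfac u 1
      rw [OneMemClass.coe_one, mul_one] at this
      rw [this, Pi.smul_apply, smul_eq_mul, mul_comm]
    rw [e, CfsgLib.Chars.inner_smul_left] at h₁
    by_contra hne
    exact h₁ (by rw [CfsgLib.Chars.inner_irr_of_isIrr hφ₁ ψ₁.2, if_neg hne, mul_zero])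
  have h2' : φ₂ = (ψ₂ : U₂ → ℂ) := by
    have e : (fun u : U₂ => (χ : G → ℂ) u) = φ₁ 1 • φ₂ := funext fun u => by
      have := hfac 1 u
      rw [OneMemClass.coe_one, one_mul] at this
      rw [this, Pi.smul_apply, smul_eq_mul]
    rw [e, CfsgLib.Chars.inner_smul_left] at h₂
    by_contra hne
    exact h₂ (by rw [CfsgLib.Chars.inner_irr_of_isIrr hφ₂ ψ₂.2, if_neg hne, mul_zero])
  subst h1' h2'
  -- class sizes
  have hclass : ∀ (u : U₁) (v : U₂), ¬ p ∣ orderOf (u : G) → ¬ p ∣ orderOf (v : G) →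
      (Subgroup.centralizer ({(u : G) * v} : Set G)).index =
        (Subgroup.centralizer ({u} : Set U₁)).index * (Subgroup.centralizer ({v} : Set U₂)).index := by
    intro u v hu hv
    rw [← CfsgLib.FgsB.card_isConj_eq_index, ← CfsgLib.FgsB.card_isConj_eq_index,
      ← CfsgLib.FgsB.card_isConj_eq_index, ← Nat.card_prod]
    symm
    refine Nat.card_congr (Equiv.ofBijective (fun w => ⟨((w.1.1 : U₁) : G) * ((w.2.1 : U₂) : G), ?_⟩) ⟨?_, ?_⟩)
    · obtain ⟨c, hc⟩ := isConj_iff.1 w.1.2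
      obtain ⟨d, hd⟩ := isConj_iff.1 w.2.2
      refine isConj_iff.2 ⟨f (c, d), ?_⟩
      have h := congrArg f (Prod.ext hc hd : ((c, d) : U₁ × U₂) * (_, _) * (c, d)⁻¹ = (_, _))
      rw [map_mul, map_mul, map_inv] at h
      exact h
    · intro w w' h
      have h' : ((w.1.1 : U₁) : G) * ((w.2.1 : U₂) : G) =
          ((w'.1.1 : U₁) : G) * ((w'.2.1 : U₂) : G) := congrArg Subtype.val h
      have hr : ∀ a : {x : U₁ // IsConj u x}, ¬ p ∣ orderOf ((a.1 : U₁) : G) := fun a => by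
        obtain ⟨c, hc⟩ := isConj_iff.1 a.2
        rw [← hc, Subgroup.orderOf_coe]
        have h3 : orderOf (c * u * c⁻¹) = orderOf u := orderOf_injective (MulAut.conj c).toMonoidHom
          (MulAut.conj c).injective u
        rw [h3, ← Subgroup.orderOf_coe]; exact hu
      obtain ⟨ha, hb⟩ := regular_factor_unique p hcomm hZ w.1.1.2 w'.1.1.2 w.2.1.2 w'.2.1.2
        (hr w.1) (hr w'.1) h'
      exact Prod.ext (Subtype.ext (Subtype.ext ha)) (Subtype.ext (Subtype.ext hb))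
    · rintro ⟨x, hx⟩
      obtain ⟨g, hg⟩ := isConj_iff.1 hx
      obtain ⟨⟨c, d⟩, rfl⟩ := hf g
      refine ⟨(⟨c * u * c⁻¹, isConj_iff.2 ⟨c, rfl⟩⟩, ⟨d * v * d⁻¹, isConj_iff.2 ⟨d, rfl⟩⟩),
        Subtype.ext ?_⟩
      show f (c * u * c⁻¹, d * v * d⁻¹) = x
      rw [← hg]
      show f ((c, d) * (u, v) * (c, d)⁻¹) = f (c, d) * f (u, v) * (f (c, d))⁻¹
      rw [map_mul, map_mul, map_inv]
  have hcc : ∀ (u : U₁) (v : U₂), ¬ p ∣ orderOf (u : G) → ¬ p ∣ orderOf (v : G) →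
      centralChar (χ : G → ℂ) ((u : G) * v) =
        centralChar (ψ₁ : U₁ → ℂ) u * centralChar (ψ₂ : U₂ → ℂ) v := by
    intro u v hu hv
    have h1 := hfac 1 1
    simp only [OneMemClass.coe_one, mul_one] at h1
    simp only [centralChar]
    rw [hclass u v hu hv, hfac, h1, Nat.cast_mul]
    field_simp
  have hone : ∀ (u : U₁) (v : U₂), ¬ p ∣ orderOf (u : G) → ¬ p ∣ orderOf (v : G) →
      centralChar (fun _ : G => (1 : ℂ)) ((u : G) * v) =
        centralChar (fun _ : U₁ => (1 : ℂ)) u * centralChar (fun _ : U₂ => (1 : ℂ)) v := by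
    intro u v hu hv
    simp only [centralChar]
    rw [hclass u v hu hv, Nat.cast_mul]
    simp
  have hlift : ∀ {H : Subgroup G} (x : H), (¬ p ∣ orderOf x) ↔ ¬ p ∣ orderOf (x : G) :=
    fun x => by rw [Subgroup.orderOf_coe]
  constructor
  · intro h
    have h' : SameBlock M (fun _ : G => (1 : ℂ)) (χ : G → ℂ) := h
    constructor
    · refine CfsgLib.Blocks.sameBlock_of_regular hpM (χ := ⟨_, CfsgLib.CharApps.isIrr_one⟩) fun y hy => ?_
      have h3 := h' ((y : G) * ((1 : U₂) : G))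
      rw [hcc y 1 ((hlift y).1 hy) (by simp [(Fact.out : p.Prime).not_dvd_one]),
        hone y 1 ((hlift y).1 hy) (by simp [(Fact.out : p.Prime).not_dvd_one])] at h3
      have e1 : centralChar (ψ₂ : U₂ → ℂ) 1 = 1 := CfsgLib.Blocks.centralChar_one ψ₂
      have e2 : centralChar (fun _ : U₂ => (1 : ℂ)) 1 = 1 :=
        CfsgLib.Blocks.centralChar_one ⟨_, CfsgLib.CharApps.isIrr_one⟩
      rw [e1, e2, mul_one, mul_one] at h3
      exact h3
    · refine CfsgLib.Blocks.sameBlock_of_regular hpM (χ := ⟨_, CfsgLib.CharApps.isIrr_one⟩) fun y hy => ?_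
      have h3 := h' (((1 : U₁) : G) * (y : G))
      rw [hcc 1 y (by simp [(Fact.out : p.Prime).not_dvd_one]) ((hlift y).1 hy),
        hone 1 y (by simp [(Fact.out : p.Prime).not_dvd_one]) ((hlift y).1 hy)] at h3
      have e1 : centralChar (ψ₁ : U₁ → ℂ) 1 = 1 := CfsgLib.Blocks.centralChar_one ψ₁
      have e2 : centralChar (fun _ : U₁ => (1 : ℂ)) 1 = 1 :=
        CfsgLib.Blocks.centralChar_one ⟨_, CfsgLib.CharApps.isIrr_one⟩
      rw [e1, e2, one_mul, one_mul] at h3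
      exact h3
  · rintro ⟨ha, hb⟩
    have ha' : SameBlock M (fun _ : U₁ => (1 : ℂ)) (ψ₁ : U₁ → ℂ) := ha
    have hb' : SameBlock M (fun _ : U₂ => (1 : ℂ)) (ψ₂ : U₂ → ℂ) := hb
    refine CfsgLib.Blocks.sameBlock_of_regular hpM (χ := ⟨_, CfsgLib.CharApps.isIrr_one⟩) fun g hg => ?_
    obtain ⟨⟨u, v⟩, rfl⟩ := hf g
    obtain ⟨e, hu, hv, hmul⟩ := regular_split p (show Commute (u : G) (v : G) from
      hcomm _ u.2 _ v.2) hg
    have hg' : f (u, v) = ((u ^ e : U₁) : G) * ((v ^ e : U₂) : G) := by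
      rw [Subgroup.coe_pow, Subgroup.coe_pow, hmul]; rfl
    have hu' : ¬ p ∣ orderOf ((u ^ e : U₁) : G) := by rwa [Subgroup.coe_pow]
    have hv' : ¬ p ∣ orderOf ((v ^ e : U₂) : G) := by rwa [Subgroup.coe_pow]
    show MemLocalIdeal M (centralChar (fun _ : G => (1 : ℂ)) (f (u, v)) - centralChar (χ : G → ℂ) (f (u, v)))
    rw [hg', hone _ _ hu' hv', hcc _ _ hu' hv']
    have hl1 : centralChar (fun _ : U₁ => (1 : ℂ)) (u ^ e) ∈ CfsgLib.Blocks.loc M :=
      CfsgLib.Blocks.isIntegral_mem_loc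
        (CfsgLib.Blocks.isIntegral_centralChar ⟨_, CfsgLib.CharApps.isIrr_one⟩ _)
    have hl2 : centralChar (ψ₂ : U₂ → ℂ) (v ^ e) ∈ CfsgLib.Blocks.loc M :=
      CfsgLib.Blocks.isIntegral_mem_loc (CfsgLib.Blocks.isIntegral_centralChar ψ₂ _)
    have h5 := CfsgLib.Blocks.MemLocalIdeal.add'
      (CfsgLib.Blocks.MemLocalIdeal.mul_left' hl1 (hb' (v ^ e)))
      (CfsgLib.Blocks.MemLocalIdeal.mul_right' (ha' (u ^ e)) hl2)
    convert h5 using 1
    ring


end Cfsg.Agent.S4521
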