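import Cfsg.Statements.S4531
import Cfsg.Agent.Lib.Blocks.SmallRankTwo.Center
import Cfsg.Agent.Lib.Blocks.SmallRankTwo.Solvable

set_option autoImplicit false
open Cfsg

namespace Cfsg.Agent.S4531

/-- Let the finite group G have a 2-block B (relative to a maximal ideal M of the algebraic integers containing 2) of 2-regular rank three (three irreducible Brauer characters) whose defect group D is dihedral of order 2 ^ n with n ≥ 3 or semidihedral. Then the centre of G has odd order and G is not solvable. -/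
theorem result {G : Type*} [Group G] [Finite G] (M : Ideal Cfsg.AlgInt) (hM : Cfsg.IsPModular 2 M) (B : Set (Cfsg.IrrCharacter G)) (hB : Cfsg.IsPBlock M B) (D : Subgroup G) (hD : Cfsg.IsDefectGroup 2 M B D) (hD' : (∃ n : ℕ, 3 ≤ n ∧ Nonempty (D ≃* DihedralGroup (2 ^ (n - 1)))) ∨ Cfsg.IsQuasiDihedral D) (hl : Cfsg.blockRank 2 B = 3) : Odd (Nat.card (Subgroup.center G)) ∧ ¬ Group.IsSolvable G := by
  haveI := Fintype.ofFinite G
  haveI : Fact (Nat.Prime 2) := ⟨Nat.prime_two⟩
  haveI : M.IsPrime := hM.2.1.isPrime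
  open CfsgLib.Blocks.SmallRankTwo in
  refine ⟨?_, fun hsol => ?_⟩
  · rw [← Nat.not_even_iff_odd]
    intro hev
    obtain ⟨z, hz⟩ := exists_prime_orderOf_dvd_card' (G := Subgroup.center G) 2 hev.two_dvd
    obtain ⟨q⟩ := nonempty_gens hD'
    have h := blockRank_le_two_of_central hM hB hD q z.2 (by rw [Subgroup.orderOf_coe, hz])
    omega
  · have hshape : DShape D := hD'.imp_left fun ⟨n, hn, he⟩ =>
      ⟨2 ^ (n - 1), le_trans (by norm_num) (Nat.pow_le_pow_right two_pos (show 2 ≤ n - 1 by omega)), he⟩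
    have h := solvable_rank_le_two_aux _ rfl hM hsol B hB D hD hshape
    omega

end Cfsg.Agent.S4531
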