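import Cfsg.Statements.S4540
import Cfsg.Agent.Lib.BlockOrth.MajorTwo

set_option autoImplicit false
open Cfsg Subgroup
open scoped Pointwise commutatorElement

namespace Cfsg.Agent.S4540

open CfsgLib.Chars CfsgLib.Blocks CfsgLib.BlockOrth Finset

private theorem card_split {α : Type*} [Fintype α] [DecidableEq α] (B : Set α)
    [DecidablePred (· ∈ B)] (f : α → ℕ) :
    Nat.card B = Nat.card {χ : α // χ ∈ B ∧ f χ = 0} +
        (univ.filter fun χ => χ ∈ B ∧ 1 ≤ f χ).card ∧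
      ∑ᶠ χ ∈ {χ : α | χ ∈ B ∧ 1 ≤ f χ}, 2 ^ f χ =
        ∑ χ ∈ univ.filter (fun χ => χ ∈ B ∧ 1 ≤ f χ), 2 ^ f χ := by
  refine ⟨?_, ?_⟩
  · rw [Nat.card_eq_fintype_card, Nat.card_eq_fintype_card, Fintype.card_subtype,
      Fintype.card_subtype, ← Finset.card_union_of_disjoint]
    · congr 1
      ext χ
      simp only [mem_filter, mem_univ, true_and, mem_union]
      by_cases h : χ ∈ B <;> simp [h]
      omega
    · exact Finset.disjoint_filter.2 fun χ _ h h' => by omega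
  · exact finsum_mem_eq_sum_of_inter_support_eq _ (by ext; simp)


/-- Let B be a 2-block of the finite group G (relative to a maximal ideal M of the algebraic integers containing 2) of defect d with defect group D. Let z be an element of D commuting with every element of D, and let b be a block of the centralizer C of z with defect group D that induces B (a major subsection (z, b)). If b has 2-regular rank at most three, then 3·k(B) ≤ 3·k₀(B) + 2·Σ 2 ^ h(χ), where k(B) is the number of members of B, k₀(B) the number of members of height zero, and the sum runs over the members χ of B of positive height h(χ); this bound is at most 3·2 ^ d, so in particular B contains at most 2 ^ d irreducible characters. -/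
theorem result {G : Type*} [Group G] [Finite G] (M : Ideal Cfsg.AlgInt) (hM : Cfsg.IsPModular 2 M) (B : Set (Cfsg.IrrCharacter G)) (hB : Cfsg.IsPBlock M B) (D : Subgroup G) (hD : Cfsg.IsDefectGroup 2 M B D) (z : G) (hzD : z ∈ D) (hzc : ∀ d ∈ D, d * z = z * d) (b : Set (Cfsg.IrrCharacter ↥(Subgroup.centralizer ({z} : Set G)))) (hb : Cfsg.IsInducedBlock M (Subgroup.centralizer ({z} : Set G)) b B) (hbD : Cfsg.IsDefectGroup 2 M b (D.subgroupOf (Subgroup.centralizer ({z} : Set G)))) (hl : Cfsg.blockRank 2 b ≤ 3) : 3 * Nat.card B ≤ 3 * Nat.card {χ : Cfsg.IrrCharacter G // χ ∈ B ∧ Cfsg.blockHeight 2 B (χ : G → ℂ) = 0} + 2 * (∑ᶠ χ ∈ {χ : Cfsg.IrrCharacter G | χ ∈ B ∧ 1 ≤ Cfsg.blockHeight 2 B (χ : G → ℂ)}, 2 ^ Cfsg.blockHeight 2 B (χ : G → ℂ)) ∧ 3 * Nat.card {χ : Cfsg.IrrCharacter G // χ ∈ B ∧ Cfsg.blockHeight 2 B (χ : G → ℂ) = 0} + 2 * (∑ᶠ χ ∈ {χ : Cfsg.IrrCharacter G | χ ∈ B ∧ 1 ≤ Cfsg.blockHeight 2 B (χ : G → ℂ)}, 2 ^ Cfsg.blockHeight 2 B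 (χ : G → ℂ)) ≤ 3 * 2 ^ Cfsg.blockDefect 2 B := by
  classical
  haveI := Fintype.ofFinite G
  haveI := Fintype.ofFinite (Subgroup.centralizer ({z} : Set G))
  haveI := irrFintype G
  haveI := irrFintype (Subgroup.centralizer ({z} : Set G))
  haveI := isPrime_of_isPModular hM
  obtain ⟨n, hn⟩ := exists_orderOf_of_mem_defectGroup hD hzD
  have hH : ∀ c : G, c ∈ Subgroup.centralizer ({z} : Set G) ↔ c * z = z * c :=
    fun _ => Subgroup.mem_centralizer_singleton_iff
  have hmaj : blockDefect 2 b = blockDefect 2 B :=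
    blockDefect_eq_of_major hM.2.2 hB hb.1 hD (fun d hd => (hH d).2 (hzc d hd)) hbD
  set ht : IrrCharacter G → ℕ := fun χ => blockHeight 2 B (χ : G → ℂ) with hht
  obtain ⟨hk, hsum⟩ := card_split B ht
  simp only [hht] at hk hsum
  rw [hk, hsum]
  set s0 := univ.filter fun χ : IrrCharacter G => χ ∈ B ∧ ht χ = 0 with hs0
  set s1 := univ.filter fun χ : IrrCharacter G => χ ∈ B ∧ 1 ≤ ht χ with hs1
  have h0c : Nat.card {χ : IrrCharacter G // χ ∈ B ∧ blockHeight 2 B (χ : G → ℂ) = 0} = s0.card := by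
    rw [Nat.card_eq_fintype_card, Fintype.card_subtype]
  rw [h0c]
  refine ⟨?_, ?_⟩
  · have : s1.card * 2 ≤ ∑ χ ∈ s1, 2 ^ ht χ := by
      refine le_trans ?_ (Finset.card_nsmul_le_sum s1 _ 2 fun χ hχ => ?_)
      · rw [smul_eq_mul]
      · exact le_self_pow₀ one_le_two (Nat.one_le_iff_ne_zero.1 (mem_filter.1 hχ).2.2)
    change _ ≤ 3 * s0.card + 2 * ∑ χ ∈ s1, 2 ^ ht χ
    omega
  change 3 * s0.card + 2 * ∑ χ ∈ s1, 2 ^ ht χ ≤ _
  by_cases hex : ∃ χ ∈ s0, avgDiag n b z χ = 1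
  · obtain ⟨χ, hχ, h1⟩ := hex
    obtain ⟨-, hχB, hχ0⟩ := mem_filter.1 hχ
    have hrow := sum_four_pow_height_le hM hH hn hb hmaj hχB hχ0
    rw [h1] at hrow
    have hsub : (s0.erase χ ∪ s1) ⊆ (univ.filter (· ∈ B)).erase χ := by
      intro ψ hψ
      rcases mem_union.1 hψ with h | h
      · exact mem_erase.2 ⟨ne_of_mem_erase h,
          mem_filter.2 ⟨mem_univ _, (mem_filter.1 (mem_of_mem_erase h)).2.1⟩⟩
      · refine mem_erase.2 ⟨fun he => ?_, mem_filter.2 ⟨mem_univ _, (mem_filter.1 h).2.1⟩⟩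
        subst he
        have := (mem_filter.1 h).2.2
        omega
    have hle := le_trans (Nat.add_le_add_right (Finset.sum_le_sum_of_subset (f := fun ψ => 4 ^ ht ψ) hsub) _) hrow
    rw [Finset.sum_union (Finset.disjoint_left.2 fun ψ h h' => by
      have h1 := (mem_filter.1 (mem_of_mem_erase h)).2.2
      have h2 := (mem_filter.1 h').2.2
      omega)] at hle
    have hA : (s0.erase χ).card ≤ ∑ ψ ∈ s0.erase χ, 4 ^ ht ψ := by
      simpa using Finset.card_nsmul_le_sum (s0.erase χ) (fun ψ => 4 ^ ht ψ) 1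
        fun ψ _ => Nat.one_le_pow _ _ (by norm_num)
    have hB' : ∑ ψ ∈ s1, 2 ^ ht ψ ≤ ∑ ψ ∈ s1, 4 ^ ht ψ :=
      Finset.sum_le_sum fun ψ _ => Nat.pow_le_pow_left (by norm_num) _
    have hc := Finset.card_erase_add_one hχ
    omega
  · push Not at hex
    have h3 : ∀ χ ∈ s0, 3 ≤ avgDiag n b z χ := fun χ hχ => by
      obtain ⟨-, hχB, hχ0⟩ := mem_filter.1 hχ
      obtain ⟨j, hj⟩ := odd_avgDiag hM hH hn hb hχB ((blockHeight_eq_zero_iff hχB).1 hχ0)
      have := hex χ hχ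
      omega
    have h4 : ∀ χ ∈ s1, 2 * 2 ^ ht χ ≤ avgDiag n b z χ := fun χ hχ => by
      obtain ⟨-, hχB, hχ1⟩ := mem_filter.1 hχ
      rw [← pow_succ']
      exact Nat.le_of_dvd (avgDiag_pos_and_le hM hH hn hb hmaj hχB hχ1).1
        (two_pow_succ_dvd_avgDiag hM hH hn hb hmaj hχB hχ1)
    have htot := sum_avgDiag (B := B) hM hH hn hb
    rw [hmaj] at htot
    have hsub : ∑ χ ∈ s0 ∪ s1, avgDiag n b z χ ≤ 2 ^ blockDefect 2 B * blockRank 2 b := by
      rw [← htot]
      exact Finset.sum_le_sum_of_subset fun χ hχ =>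
        mem_filter.2 ⟨mem_univ _, (mem_union.1 hχ).elim (fun h => (mem_filter.1 h).2.1)
          (fun h => (mem_filter.1 h).2.1)⟩
    rw [Finset.sum_union (show Disjoint s0 s1 from Finset.disjoint_filter.2 fun χ _ h h' => by omega)] at hsub
    have hA : s0.card * 3 ≤ ∑ χ ∈ s0, avgDiag n b z χ := by
      simpa using Finset.card_nsmul_le_sum s0 _ 3 h3
    have hB' : 2 * ∑ χ ∈ s1, 2 ^ ht χ ≤ ∑ χ ∈ s1, avgDiag n b z χ := by
      rw [Finset.mul_sum]; exact Finset.sum_le_sum h4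
    have hl3 : 2 ^ blockDefect 2 B * blockRank 2 b ≤ 2 ^ blockDefect 2 B * 3 :=
      Nat.mul_le_mul_left _ hl
    omega


end Cfsg.Agent.S4540
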