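import Cfsg.Statements.S4541
import Cfsg.Agent.Lib.BlockOrth.AverageDiag

set_option autoImplicit false
open Cfsg Subgroup
open scoped Pointwise commutatorElement

namespace Cfsg.Agent.S4541

open CfsgLib.Chars CfsgLib.Blocks CfsgLib.BlockOrth Finset

private theorem bounds {α : Type*} (s : Finset α) (t : α → ℕ) (P l : ℕ)
    (hrow : ∀ χ ∈ s, Odd (t χ) ∧ s.card - 1 + t χ ^ 2 ≤ P * t χ)
    (htr : ∑ χ ∈ s, t χ ≤ P * l) :
    (Odd (Nat.sqrt l) → s.card ≤ Nat.sqrt l * P) ∧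
      (¬ Odd (Nat.sqrt l) → (Nat.sqrt l + 1) * s.card ≤ l * P) ∧
      (l ≤ 3 → s.card ≤ P) := by
  set a := Nat.sqrt l with ha
  have h1 : a * a ≤ l := Nat.sqrt_le l
  have h2 : l < (a + 1) * (a + 1) := Nat.lt_succ_sqrt l
  have hsmall : ∀ c, (∃ χ ∈ s, t χ ≤ c) → s.card ≤ c * P := by
    rintro c ⟨χ, hχ, hc⟩
    obtain ⟨⟨j, hj⟩, hr⟩ := hrow χ hχ
    have : 1 ≤ t χ ^ 2 := Nat.one_le_pow _ _ (by omega)
    have : P * t χ ≤ P * c := Nat.mul_le_mul_left P hc
    rw [mul_comm c P]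
    omega
  have hlarge : ∀ c, (∀ χ ∈ s, c ≤ t χ) → s.card * c ≤ P * l := fun c hc => by
    refine le_trans ?_ htr
    simpa using Finset.card_nsmul_le_sum s t c hc
  have hodd : Odd a → s.card ≤ a * P := fun hoa => by
    by_cases hex : ∃ χ ∈ s, t χ ≤ a
    · exact hsmall a hex
    · push Not at hex
      have h := hlarge (a + 2) fun χ hχ => by
        obtain ⟨j, hj⟩ := (hrow χ hχ).1
        obtain ⟨i, hi⟩ := hoa
        have := hex χ hχ
        omega
      have : P * l ≤ P * (a * (a + 2)) := Nat.mul_le_mul_left P (by nlinarith)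
      exact Nat.le_of_mul_le_mul_right (by nlinarith : s.card * (a + 2) ≤ a * P * (a + 2))
        (Nat.succ_pos _)
  refine ⟨hodd, fun hea => ?_, fun hl => ?_⟩
  · obtain ⟨i, hi⟩ := Nat.not_odd_iff_even.1 hea
    by_cases hex : ∃ χ ∈ s, t χ ≤ a
    · obtain ⟨χ, hχ, hc⟩ := hex
      obtain ⟨j, hj⟩ := (hrow χ hχ).1
      have h := hsmall (a - 1) ⟨χ, hχ, by omega⟩
      obtain ⟨a', ha'⟩ : ∃ a', a = a' + 1 := ⟨a - 1, by omega⟩
      rw [ha'] at h h1 ⊢
      simp only [Nat.add_sub_cancel] at h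
      nlinarith
    · push Not at hex
      have h := hlarge (a + 1) fun χ hχ => hex χ hχ
      linarith
  · rcases Nat.eq_zero_or_pos a with h0 | h0
    · rw [h0] at h2
      obtain rfl : l = 0 := by omega
      have : s = ∅ := Finset.eq_empty_of_forall_notMem fun χ hχ => by
        obtain ⟨j, hj⟩ := (hrow χ hχ).1
        have := Finset.single_le_sum (f := t) (fun _ _ => Nat.zero_le _) hχ
        omega
      simp [this]
    · obtain h4 | h4 : a = 1 ∨ 2 ≤ a := by omega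
      · simpa [h4] using hodd (by rw [h4]; exact odd_one)
      · nlinarith

/-- Let B be a 2-block of the finite group G (relative to a maximal ideal M of the algebraic integers containing 2), u a 2-element, and b a block of the centralizer of u inducing B (a subsection (u, b)), of defect q and 2-regular rank l; write s for the integer square root of l and k₀(B) for the number of members of B of height zero. If s is odd then k₀(B) ≤ s·2 ^ q, and otherwise (s + 1)·k₀(B) ≤ l·2 ^ q; in particular k₀(B) ≤ 2 ^ q when l ≤ 3. -/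
theorem result {G : Type*} [Group G] [Finite G] (M : Ideal Cfsg.AlgInt) (hM : Cfsg.IsPModular 2 M) (B : Set (Cfsg.IrrCharacter G)) (hB : Cfsg.IsPBlock M B) (u : G) (hu : ∃ j : ℕ, orderOf u = 2 ^ j) (b : Set (Cfsg.IrrCharacter ↥(Subgroup.centralizer ({u} : Set G)))) (hb : Cfsg.IsInducedBlock M (Subgroup.centralizer ({u} : Set G)) b B) : (Odd (Nat.sqrt (Cfsg.blockRank 2 b)) → Nat.card {χ : Cfsg.IrrCharacter G // χ ∈ B ∧ Cfsg.blockHeight 2 B (χ : G → ℂ) = 0} ≤ Nat.sqrt (Cfsg.blockRank 2 b) * 2 ^ Cfsg.blockDefect 2 b) ∧ (¬ Odd (Nat.sqrt (Cfsg.blockRank 2 b)) → (Nat.sqrt (Cfsg.blockRank 2 b) + 1) * Nat.card {χ : Cfsg.IrrCharacter G // χ ∈ B ∧ Cfsg.blockHeight 2 B (χ : G → ℂ) = 0} ≤ Cfsg.blockRank 2 b * 2 ^ Cfsg.blockDefect 2 b) ∧ (Cfsg.blockRank 2 b ≤ 3 → Nat.card {χ : Cfsg.IrrCharacter G // χ ∈ B ∧ Cfsg.blockHeight 2 B (χ : G → ℂ) = 0} ≤ 2 ^ Cfsg.blockDefect 2 b) := by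
  classical
  haveI := Fintype.ofFinite G
  haveI := Fintype.ofFinite (Subgroup.centralizer ({u} : Set G))
  haveI := irrFintype G
  haveI := irrFintype (Subgroup.centralizer ({u} : Set G))
  haveI := isPrime_of_isPModular hM
  obtain ⟨n, hn⟩ := hu
  have hH : ∀ c : G, c ∈ Subgroup.centralizer ({u} : Set G) ↔ c * u = u * c :=
    fun _ => Subgroup.mem_centralizer_singleton_iff
  set s := univ.filter fun χ : IrrCharacter G => χ ∈ B ∧ degVal 2 χ = blockMin 2 B with hs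
  have hk : Nat.card {χ : IrrCharacter G // χ ∈ B ∧ blockHeight 2 B (χ : G → ℂ) = 0} = s.card := by
    rw [Nat.card_eq_fintype_card, Fintype.card_subtype]
    refine congrArg Finset.card (Finset.filter_congr fun χ _ => ?_)
    exact ⟨fun h => ⟨h.1, (blockHeight_eq_zero_iff h.1).1 h.2⟩,
      fun h => ⟨h.1, (blockHeight_eq_zero_iff h.1).2 h.2⟩⟩
  rw [hk]
  refine bounds s (avgDiag n b u) _ _ (fun χ hχ => ?_) ?_
  · obtain ⟨-, hχB, hχ0⟩ := mem_filter.1 hχ
    refine ⟨odd_avgDiag hM hH hn hb hχB hχ0, le_trans ?_ (sum_add_sq_avgDiag_le hM hH hn hb hχB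
      (fun ψ => if ψ ∈ s then 1 else 0) fun ψ hψB hne => ?_)⟩
    · refine Nat.add_le_add_right ?_ _
      rw [← Finset.sum_filter, Finset.sum_const, smul_eq_mul, mul_one, ← Finset.card_erase_of_mem hχ]
      refine Finset.card_le_card fun ψ hψ => ?_
      obtain ⟨h1, h2⟩ := Finset.mem_erase.1 hψ
      exact mem_filter.2 ⟨Finset.mem_erase.2 ⟨h1, mem_filter.2 ⟨mem_univ _, (mem_filter.1 h2).2.1⟩⟩,
        h2⟩
    · by_cases hψs : ψ ∈ s
      · rw [if_pos hψs, one_mul]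
        exact one_mul_card_le_avg_normSq hM hH hn hb hχB hψB hχ0 (mem_filter.1 hψs).2.2
      · rw [if_neg hψs, zero_mul, Nat.cast_zero]
        exact Finset.sum_nonneg fun _ _ => by positivity
  · rw [← sum_avgDiag hM hH hn hb]
    exact Finset.sum_le_sum_of_subset fun χ hχ => mem_filter.2 ⟨mem_univ _, (mem_filter.1 hχ).2.1⟩


end Cfsg.Agent.S4541
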