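import Cfsg.Statements.S4552
import Cfsg.Agent.Lib.Blocks.HomocyclicDefect
import Cfsg.Agent.Lib.Blocks.FreeColumns.Main

set_option autoImplicit false
open Cfsg

namespace Cfsg.Agent.S4552

/-- Let B be a 2-block of the finite group G (relative to a maximal ideal M of the algebraic integers containing 2) whose defect group D is the direct product of two cyclic groups of the same order 2 ^ m, m ≥ 2. Then either B has 2-regular rank one and exactly 4 ^ m irreducible characters, or B has 2-regular rank three and exactly (4 ^ m + 8) / 3 irreducible characters. -/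
theorem result {G : Type*} [Group G] [Finite G] (M : Ideal Cfsg.AlgInt) (hM : Cfsg.IsPModular 2 M) (B : Set (Cfsg.IrrCharacter G)) (hB : Cfsg.IsPBlock M B) (D : Subgroup G) (hD : Cfsg.IsDefectGroup 2 M B D) (m : ℕ) (hm : 2 ≤ m) (hiso : Nonempty (D ≃* Multiplicative (ZMod (2 ^ m) × ZMod (2 ^ m)))) : (Cfsg.blockRank 2 B = 1 ∧ Nat.card B = 4 ^ m) ∨ (Cfsg.blockRank 2 B = 3 ∧ 3 * Nat.card B = 4 ^ m + 8) := by
  haveI := Fintype.ofFinite G
  haveI := hM.2.1.isPrime
  haveI : Fact (Nat.Prime 2) := ⟨Nat.prime_two⟩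
  obtain ⟨φ⟩ := hiso
  have hpM := hM.2.2
  have hP := CfsgLib.Blocks.IsDefectGroup.isPGroup hD
  obtain ⟨h, hh⟩ := CfsgLib.Blocks.exists_pair_on_defectGroup hpM hB hD
  have hmax := CfsgLib.Blocks.isMaximal_of_defectGroup hpM hD hh
  have hcomm : ∀ a b : D, a * b = b * a := fun a b =>
    φ.injective (by rw [map_mul, map_mul, mul_comm])
  have hab : ∀ x ∈ D, ∀ y ∈ D, x * y = y * x := fun x hx y hy =>
    congrArg Subtype.val (hcomm ⟨x, hx⟩ ⟨y, hy⟩)
  have hfew := CfsgLib.Blocks.card_two_torsion_le D m (by omega) φ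
  obtain ⟨he, hfree⟩ := CfsgLib.Blocks.automizer_of_few D _ hP hcomm hfew
    (CfsgLib.Blocks.stabPair_le_normalizer (⟨D, h⟩ : BrauerPairIdx G))
    (CfsgLib.Blocks.not_dvd_index_centralizer_stab hpM hmax hab)
  haveI : NeZero (2 ^ m) := ⟨(Nat.two_pow_pos m).ne'⟩
  have hcard : Nat.card D = 4 ^ m := by
    rw [Nat.card_congr φ.toEquiv, Nat.card_congr Multiplicative.toAdd, Nat.card_prod,
      Nat.card_zmod, ← mul_pow]; norm_num
  have hD1 : D ≠ ⊥ := by
    intro h0
    rw [h0, Subgroup.card_bot] at hcard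
    exact absurd hcard.symm (Nat.one_lt_pow (by omega) (by omega)).ne'
  obtain ⟨t, ht, hk, -, hrank⟩ := CfsgLib.FreeColumns.free_counts hM hmax hab hfree hD1 rfl
  rw [hcard] at ht
  rcases he with he | he <;> rw [he] at ht hrank <;> have hr := hrank (by omega) <;> rw [hr] at hk
  · exact Or.inl ⟨hr, by omega⟩
  · exact Or.inr ⟨hr, by omega⟩

end Cfsg.Agent.S4552
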