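import Cfsg.Statements.S4558
import Cfsg.Agent.Lib.BlockOrth.Integrality
import Cfsg.Agent.Lib.Chars.Char

set_option autoImplicit false
open Cfsg CfsgLib.BlockOrth CfsgLib.Blocks CfsgLib.Chars

namespace Cfsg.Agent.S4558

/-- Let χ be a character of the finite group G and g an element of p-power order for the prime p. If χ g = 0, then p divides the degree of χ. -/
theorem result {G : Type*} [Group G] [Finite G] (p : ℕ) [Fact p.Prime] (χ : G → ℂ) (hχ : Cfsg.IsCharacter G χ) (g : G) (hg : ∃ j : ℕ, orderOf g = p ^ j) (h0 : χ g = 0) : p ∣ Cfsg.charDegree χ := by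
  classical
  haveI := Fintype.ofFinite G
  obtain ⟨j, hj⟩ := hg
  obtain ⟨M, hM, hpM⟩ := exists_maximal_above p
  haveI := hM.isPrime
  have hp1 : pPrimePart p g = 1 := IsPPrimePart.eq_pPrimePart
    ⟨g, mul_one g, Commute.one_right g, ⟨j, hj⟩, by simp [(Fact.out (p := p.Prime)).not_dvd_one]⟩
  have h := memLocalIdeal_char_sub hpM hχ g
  rw [hp1, h0, zero_sub] at h
  have h2 := MemLocalIdeal.neg' h
  rw [neg_neg] at h2
  obtain ⟨n, hn⟩ := character_degree_nat hχ
  rw [hn, memLocalIdeal_natCast_iff Fact.out hpM] at h2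
  rwa [Cfsg.charDegree, hn, Complex.natCast_re, Nat.floor_natCast]

end Cfsg.Agent.S4558
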