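import Cfsg.Statements.S4560
import Cfsg.Agent.Lib.CharApps.AlternatingVanishing

set_option autoImplicit false
open Cfsg Subgroup
open scoped Pointwise commutatorElement

namespace Cfsg.Agent.S4560

/-- For n ≥ 7 the alternating group on n letters has an irreducible character that vanishes at some 2-element and is the restriction of an irreducible character of the symmetric group, and an irreducible character that vanishes at some element of order 3 and is the restriction of an irreducible character of the symmetric group. -/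
theorem result (n : ℕ) (hn : 7 ≤ n) : (∃ χ : Cfsg.IrrCharacter (alternatingGroup (Fin n)), (∃ x : alternatingGroup (Fin n), (∃ j : ℕ, orderOf x = 2 ^ j) ∧ (χ : alternatingGroup (Fin n) → ℂ) x = 0) ∧ ∃ ψ : Cfsg.IrrCharacter (Equiv.Perm (Fin n)), ∀ x : alternatingGroup (Fin n), (ψ : Equiv.Perm (Fin n) → ℂ) x = (χ : alternatingGroup (Fin n) → ℂ) x) ∧ (∃ χ : Cfsg.IrrCharacter (alternatingGroup (Fin n)), (∃ y : alternatingGroup (Fin n), orderOf y = 3 ∧ (χ : alternatingGroup (Fin n) → ℂ) y = 0) ∧ ∃ ψ : Cfsg.IrrCharacter (Equiv.Perm (Fin n)), ∀ x : alternatingGroup (Fin n), (ψ : Equiv.Perm (Fin n) → ℂ) x = (χ : alternatingGroup (Fin n) → ℂ) x) := by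
  classical
  obtain ⟨⟨F, hF, hA, x, hx, hx0⟩, G, hG, hB, y, hy, hy0⟩ :=
    CfsgLib.CharApps.AltVanish.vanishing hn
  exact ⟨⟨⟨fun x => F x, hA⟩, ⟨x, hx, hx0⟩, ⟨F, hF⟩, fun _ => rfl⟩,
    ⟨⟨fun x => G x, hB⟩, ⟨y, hy, hy0⟩, ⟨G, hG⟩, fun _ => rfl⟩⟩


end Cfsg.Agent.S4560
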