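import Cfsg.Statements.S4567
import Cfsg.Agent.Lib.CharApps.Basic
import Cfsg.Agent.Lib.Chars.Degree

set_option autoImplicit false
open Cfsg Subgroup
open scoped Pointwise commutatorElement

namespace Cfsg.Agent.S4567

theorem exists_central_hom {G : Type*} [Group G] [Fintype G] (N : Subgroup G)
    (hN : N ≤ Subgroup.center G) (χ : Cfsg.IrrCharacter G) :
    ∃ c : ↥N →* ℂˣ, ∀ (n : ↥N) (x : G), (χ : G → ℂ) ((n : G) * x) = (c n : ℂ) * (χ : G → ℂ) x := by
  obtain ⟨m, ρ, hρ, hχ⟩ := χ.2
  haveI := hρ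
  choose a ha using fun n : ↥N => CfsgLib.Chars.exists_scalar_of_mem_center ρ (n : G) (hN n.2)
  have hval : ∀ (n : ↥N) (x : G), (χ : G → ℂ) ((n : G) * x) = a n * (χ : G → ℂ) x := by
    intro n x
    rw [← hχ, Representation.character, map_mul, ha n, Module.End.mul_eq_comp,
      LinearMap.smul_comp, LinearMap.id_comp, map_smul]
    rfl
  have hone : (χ : G → ℂ) 1 ≠ 0 := CfsgLib.CharApps.deg_ne_zero χ
  have ha1 : a 1 = 1 := by
    have h := hval 1 1
    rw [OneMemClass.coe_one, one_mul] at h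
    exact mul_right_cancel₀ hone (h.symm.trans (one_mul _).symm)
  have hamul : ∀ n n', a (n * n') = a n * a n' := by
    intro n n'
    have h := hval (n * n') 1
    rw [Subgroup.coe_mul, mul_assoc, hval n, hval n', ← mul_assoc] at h
    exact (mul_right_cancel₀ hone h).symm
  refine ⟨MonoidHom.toHomUnits ⟨⟨a, ha1⟩, hamul⟩, hval⟩

theorem special_classes {G : Type*} [Group G] [Fintype G] (N : Subgroup G) [N.Normal]
    (hN : N ≤ Subgroup.center G) (lam : ↥N →* ℂˣ) (hinj : ∀ n, lam n = 1 → n = 1) :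
    Nat.card {χ : Cfsg.IrrCharacter G //
        ∀ (n : ↥N) (x : G), (χ : G → ℂ) ((n : G) * x) = (lam n : ℂ) * (χ : G → ℂ) x} =
      Nat.card {C : ConjClasses (G ⧸ N) // ∃ g : G, ConjClasses.mk (g : G ⧸ N) = C ∧
        ∀ x : G, x⁻¹ * g⁻¹ * x * g ∈ N → x * g = g * x} := by
  classical
  haveI := Fintype.ofFinite (Cfsg.IrrCharacter G)
  haveI := Fintype.ofFinite (G ⧸ N)
  haveI := Fintype.ofFinite (ConjClasses (G ⧸ N))
  let K := {χ : Cfsg.IrrCharacter G //
    ∀ (n : ↥N) (x : G), (χ : G → ℂ) ((n : G) * x) = (lam n : ℂ) * (χ : G → ℂ) x}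
  let S := {C : ConjClasses (G ⧸ N) // ∃ g : G, ConjClasses.mk (g : G ⧸ N) = C ∧
    ∀ x : G, x⁻¹ * g⁻¹ * x * g ∈ N → x * g = g * x}
  let rep : S → G := fun C => Classical.choose C.2
  have hrep : ∀ C : S, ConjClasses.mk ((rep C : G) : G ⧸ N) = C.1 ∧
      ∀ x : G, x⁻¹ * (rep C)⁻¹ * x * rep C ∈ N → x * rep C = rep C * x :=
    fun C => Classical.choose_spec C.2
  have hcen : ∀ (n : ↥N) (y : G), (n : G) * y = y * (n : G) := fun n y =>
    ((Subgroup.mem_center_iff.mp (hN n.2)) y).symm
  have hdec : ∀ g y : G, ConjClasses.mk (y : G ⧸ N) = ConjClasses.mk (g : G ⧸ N) →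
      ∃ (n : ↥N) (h : G), y = (n : G) * (h * g * h⁻¹) := by
    intro g y h
    obtain ⟨c, hc⟩ := isConj_iff.mp (ConjClasses.mk_eq_mk_iff_isConj.mp h.symm)
    obtain ⟨h, rfl⟩ := QuotientGroup.mk_surjective c
    rw [← QuotientGroup.mk_inv, ← QuotientGroup.mk_mul, ← QuotientGroup.mk_mul,
      QuotientGroup.eq] at hc
    refine ⟨⟨_, hc⟩, h, ?_⟩
    rw [hcen]; simp [mul_assoc]
  -- functions with central character `lam` vanishing at the representatives vanish
  have hzero : ∀ f : G → ℂ, Cfsg.IsClassFunction G f →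
      (∀ (n : ↥N) (x : G), f ((n : G) * x) = (lam n : ℂ) * f x) →
      (∀ C : S, f (rep C) = 0) → f = 0 := by
    intro f hf hlam h0
    funext y
    by_cases hy : ∀ x : G, x⁻¹ * y⁻¹ * x * y ∈ N → x * y = y * x
    · obtain ⟨n, h, he⟩ := hdec (rep ⟨ConjClasses.mk (y : G ⧸ N), y, rfl, hy⟩) y
        (hrep ⟨ConjClasses.mk (y : G ⧸ N), y, rfl, hy⟩).1.symm
      rw [he, hlam, hf, h0, mul_zero]; rfl
    · push Not at hy
      obtain ⟨x, hxN, hx⟩ := hy
      set n : ↥N := ⟨_, hxN⟩ with hn
      have hne : (lam n : ℂ) ≠ 1 := by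
        intro h1
        have h2 := congrArg Subtype.val (hinj n (Units.ext (by simpa using h1)))
        simp only [hn, OneMemClass.coe_one] at h2
        apply hx
        calc x * y = x * y * 1 := (mul_one _).symm
          _ = x * y * (x⁻¹ * y⁻¹ * x * y) := by rw [h2]
          _ = y * x := by
            have h3 : x⁻¹ * y⁻¹ * x * y = 1 := h2
            have h4 : x * y = y * x := by
              have h5 : y * x * (x⁻¹ * y⁻¹ * x * y) = y * x := by rw [h3, mul_one]
              simpa [mul_assoc] using h5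
            rw [h3, mul_one, h4]
      have e' : f y = (lam n : ℂ) * f y := by
        have h8 : x⁻¹ * y * x = (n : G)⁻¹ * y := by
          rw [show (n : G)⁻¹ * y = y * (n : G)⁻¹ from (hcen n⁻¹ y)]
          simp [hn, mul_assoc]
        have h7 := hf y x⁻¹
        rw [inv_inv, h8, show ((n : G))⁻¹ = ((n⁻¹ : ↥N) : G) from rfl, hlam] at h7
        conv_rhs => rw [← h7]
        rw [← mul_assoc, ← Units.val_mul, ← map_mul, mul_inv_cancel, map_one, Units.val_one, one_mul]
      rcases mul_eq_zero.mp (show ((lam n : ℂ) - 1) * f y = 0 by rw [sub_mul, one_mul, ← e', sub_self])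
        with h | h
      · exact absurd (sub_eq_zero.mp h) hne
      · exact h
  let T : (K → ℂ) →ₗ[ℂ] (S → ℂ) :=
    { toFun := fun c C => ∑ χ : K, c χ * (χ.1 : G → ℂ) (rep C)
      map_add' := fun a b => funext fun C => by simp [add_mul, Finset.sum_add_distrib]
      map_smul' := fun a b => funext fun C => by simp [Finset.mul_sum, mul_assoc] }
  have hTinj : Function.Injective T := by
    rw [injective_iff_map_eq_zero]
    intro c hc
    set f : G → ℂ := ∑ χ : K, c χ • (χ.1 : G → ℂ) with hf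
    have hfc : Cfsg.IsClassFunction G f := CfsgLib.Chars.isClassFunction_sum _ fun χ _ =>
      CfsgLib.Chars.isClassFunction_smul _ (CfsgLib.Chars.isClassFunction_irr χ.1)
    have hf0 : f = 0 := by
      refine hzero f hfc (fun n x => ?_) fun C => ?_
      · simp only [hf, Finset.sum_apply, Pi.smul_apply, smul_eq_mul, Finset.mul_sum]
        exact Finset.sum_congr rfl fun χ _ => by rw [χ.2 n x]; ring
      · have := congrFun hc C
        simpa [hf, T] using this
    have hli := (CfsgLib.Chars.linearIndependent_irr (G := G)).comp (fun χ : K => χ.1)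
      Subtype.val_injective
    funext χ
    exact Fintype.linearIndependent_iff.mp hli c hf0 χ
  have hTsurj : Function.Surjective T := by
    intro a
    let f : G → ℂ := fun y =>
      if h : ∃ (C : S) (n : ↥N) (k : G), y = (n : G) * (k * rep C * k⁻¹) then
        (lam (Classical.choose (Classical.choose_spec h)) : ℂ) * a (Classical.choose h) else 0
    have hval : ∀ (C : S) (n : ↥N) (k : G),
        f ((n : G) * (k * rep C * k⁻¹)) = (lam n : ℂ) * a C := by
      intro C n k
      have h : ∃ (C' : S) (n' : ↥N) (k' : G),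
          (n : G) * (k * rep C * k⁻¹) = (n' : G) * (k' * rep C' * k'⁻¹) := ⟨C, n, k, rfl⟩
      simp only [f, dif_pos h]
      obtain ⟨k', hk'⟩ := Classical.choose_spec (Classical.choose_spec h)
      generalize Classical.choose (Classical.choose_spec h) = n' at hk' ⊢
      generalize Classical.choose h = C' at hk' ⊢
      have hCC : C' = C := by
        apply Subtype.ext
        rw [← (hrep C).1, ← (hrep C').1]
        refine ConjClasses.mk_eq_mk_iff_isConj.mpr (isConj_iff.mpr
          ⟨((k⁻¹ * k' : G) : G ⧸ N), ?_⟩)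
        have h9 := congrArg (fun z : G => (z : G ⧸ N)) hk'
        simp only [QuotientGroup.mk_mul, QuotientGroup.mk_inv, (QuotientGroup.eq_one_iff (n : G)).2 n.2,
          (QuotientGroup.eq_one_iff (n' : G)).2 n'.2, one_mul] at h9
        simp only [QuotientGroup.mk_mul, QuotientGroup.mk_inv, mul_inv_rev, inv_inv]
        calc (k : G ⧸ N)⁻¹ * (k' : G ⧸ N) * (rep C' : G ⧸ N) * ((k' : G ⧸ N)⁻¹ * (k : G ⧸ N))
            = (k : G ⧸ N)⁻¹ * ((k' : G ⧸ N) * (rep C' : G ⧸ N) * (k' : G ⧸ N)⁻¹) * (k : G ⧸ N) := by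
              group
          _ = (rep C : G ⧸ N) := by rw [← h9]; group
      subst hCC
      set g := rep C'
      have hnk : (n : G) * (k * g * k⁻¹) = (n' : G) * (k' * g * k'⁻¹) := hk'
      have key : ((n'⁻¹ * n : ↥N) : G) = (k⁻¹ * k') * g * (k⁻¹ * k')⁻¹ * g⁻¹ := by
        have h10 : k' * g * k'⁻¹ = ((n'⁻¹ * n : ↥N) : G) * (k * g * k⁻¹) := by
          rw [Subgroup.coe_mul, Subgroup.coe_inv,
            show (n' : G)⁻¹ * (n : G) * (k * g * k⁻¹) = (n' : G)⁻¹ * ((n : G) * (k * g * k⁻¹)) from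
              mul_assoc _ _ _, hnk, inv_mul_cancel_left]
        calc ((n'⁻¹ * n : ↥N) : G) = k⁻¹ * k * ((n'⁻¹ * n : ↥N) : G) := by group
          _ = k⁻¹ * ((n'⁻¹ * n : ↥N) : G) * k := by
            rw [mul_assoc, ← hcen _ k, ← mul_assoc]
          _ = k⁻¹ * (((n'⁻¹ * n : ↥N) : G) * (k * g * k⁻¹)) * k * g⁻¹ := by group
          _ = _ := by rw [← h10]; group
      set x := k⁻¹ * k'
      have hmem : x⁻¹ * g⁻¹ * x * g ∈ N := by
        have h11 : x * g * x⁻¹ * g⁻¹ ∈ N := key ▸ SetLike.coe_mem _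
        have h12 := (inferInstance : N.Normal).conj_mem _ h11 g⁻¹
        have h13 := (inferInstance : N.Normal).conj_mem _ h12 x⁻¹
        simpa [mul_assoc] using h13
      have hcomm := (hrep C').2 x hmem
      have h14 : n'⁻¹ * n = 1 := Subtype.ext (by rw [key, show x * g = g * x from hcomm]; simp [mul_assoc])
      rw [inv_mul_eq_one] at h14
      rw [h14]
    have hout : ∀ y : G, (¬ ∃ (C : S) (n : ↥N) (k : G), y = (n : G) * (k * rep C * k⁻¹)) → f y = 0 :=
      fun y h => by simp only [f, dif_neg h]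
    have hfl : ∀ (n : ↥N) (x : G), f ((n : G) * x) = (lam n : ℂ) * f x := by
      intro n x
      by_cases h : ∃ (C : S) (m : ↥N) (k : G), x = (m : G) * (k * rep C * k⁻¹)
      · obtain ⟨C, m, k, rfl⟩ := h
        rw [← mul_assoc, ← Subgroup.coe_mul, hval, hval, map_mul, Units.val_mul, mul_assoc]
      · rw [hout x h, mul_zero, hout]
        rintro ⟨C, m, k, he⟩
        exact h ⟨C, n⁻¹ * m, k, by
          rw [Subgroup.coe_mul, mul_assoc, ← he, Subgroup.coe_inv, inv_mul_cancel_left]⟩
    have hfc : Cfsg.IsClassFunction G f := by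
      intro y z
      by_cases h : ∃ (C : S) (m : ↥N) (k : G), y = (m : G) * (k * rep C * k⁻¹)
      · obtain ⟨C, m, k, rfl⟩ := h
        rw [show z * ((m : G) * (k * rep C * k⁻¹)) * z⁻¹ =
          (m : G) * ((z * k) * rep C * (z * k)⁻¹) by
            rw [← mul_assoc z (m : G), ← hcen m z]; group, hval, hval]
      · rw [hout y h, hout]
        rintro ⟨C, m, k, he⟩
        refine h ⟨C, m, z⁻¹ * k, ?_⟩
        calc y = z⁻¹ * (z * y * z⁻¹) * z := by group
          _ = _ := by rw [he, ← mul_assoc z⁻¹, ← hcen m z⁻¹]; group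
    refine ⟨fun χ => Cfsg.classInner f (χ.1 : G → ℂ), funext fun C => ?_⟩
    show ∑ χ : K, Cfsg.classInner f (χ.1 : G → ℂ) * (χ.1 : G → ℂ) (rep C) = a C
    have h15 := congrFun (CfsgLib.Chars.classFun_eq_sum hfc) (rep C)
    rw [Finset.sum_apply] at h15
    simp only [Pi.smul_apply, smul_eq_mul] at h15
    have h16 : f (rep C) = a C := by
      have h17 := hval C 1 1
      simpa using h17
    rw [← h16, h15]
    rw [← Finset.sum_subset (Finset.subset_univ
      ((Finset.univ : Finset K).map (Function.Embedding.subtype _)))]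
    · rw [Finset.sum_map]; rfl
    · intro χ _ hχ
      have hnot : ¬ ∀ (n : ↥N) (x : G), (χ : G → ℂ) ((n : G) * x) = (lam n : ℂ) * (χ : G → ℂ) x :=
        fun hh => hχ (Finset.mem_map.2 ⟨⟨χ, hh⟩, Finset.mem_univ _, rfl⟩)
      obtain ⟨c, hc⟩ := exists_central_hom N hN χ
      have hne : ∃ n, (c n : ℂ) ≠ (lam n : ℂ) := by
        by_contra hcon
        push Not at hcon
        exact hnot fun n x => by rw [hc, hcon]
      obtain ⟨n, hn⟩ := hne
      have hin : Cfsg.classInner f (χ : G → ℂ) * (lam n : ℂ) * (starRingEnd ℂ) (c n : ℂ) =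
          Cfsg.classInner f (χ : G → ℂ) := by
        rw [CfsgLib.Chars.inner_def]
        conv_rhs => rw [← Equiv.sum_comp (Equiv.mulLeft (n : G))]
        simp only [Equiv.coe_mulLeft, hfl, hc, map_mul]
        rw [mul_assoc, mul_assoc, Finset.sum_mul]
        exact congrArg _ (Finset.sum_congr rfl fun y _ => by ring)
      have hunit : (c n : ℂ) * (starRingEnd ℂ) (c n : ℂ) = 1 := by
        rw [← CfsgLib.Chars.char_inv (CfsgLib.Chars.isCharacter_of_irr
          (CfsgLib.Chars.isIrrCharacter_linear c)) n, ← Units.val_mul, ← map_mul, mul_inv_cancel,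
          map_one, Units.val_one]
      have h18 : Cfsg.classInner f (χ : G → ℂ) * ((lam n : ℂ) - (c n : ℂ)) = 0 := by
        linear_combination (c n : ℂ) * hin - Cfsg.classInner f (χ : G → ℂ) * (lam n : ℂ) * hunit
      rcases mul_eq_zero.mp h18 with h | h
      · rw [h, zero_mul]
      · exact absurd (sub_eq_zero.mp h).symm hn
  have h := (LinearEquiv.ofBijective T ⟨hTinj, hTsurj⟩).finrank_eq
  rw [Module.finrank_fintype_fun_eq_card, Module.finrank_fintype_fun_eq_card] at h
  show Nat.card K = Nat.card S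
  rw [Nat.card_eq_fintype_card, Nat.card_eq_fintype_card, h]


/-- Let N be a central subgroup of the finite group G and ψ a faithful irreducible (hence degree-one) character of N. Call a coset g N special when every x ∈ G whose commutator x⁻¹ g⁻¹ x g lies in N actually commutes with g (this depends only on the coset). Then the number of irreducible characters of G whose restriction to N contains ψ equals the number of conjugacy classes of G/N consisting of special cosets. -/
theorem result {G : Type*} [Group G] [Fintype G] (N : Subgroup G) [N.Normal] [Fintype N] (hN : N ≤ Subgroup.center G) (ψ : Cfsg.IrrCharacter ↥N) (hfaith : ∀ n : ↥N, (ψ : ↥N → ℂ) n = (ψ : ↥N → ℂ) 1 → n = 1) : Nat.card {χ : Cfsg.IrrCharacter G // Cfsg.classInner (fun n : ↥N => (χ : G → ℂ) n) (ψ : ↥N → ℂ) ≠ 0} = Nat.card {C : ConjClasses (G ⧸ N) // ∃ g : G, ConjClasses.mk (g : G ⧸ N) = C ∧ ∀ x : G, x⁻¹ * g⁻¹ * x * g ∈ N → x * g = g * x} := by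
  classical
  have hcomm : ∀ a b : ↥N, a * b = b * a := fun a b =>
    Subtype.ext ((Subgroup.mem_center_iff.mp (hN b.2)) a)
  obtain ⟨lam, hlam⟩ := CfsgLib.Chars.exists_hom_of_degree_one
    (CfsgLib.Chars.isCharacter_of_irr ψ.2) (CfsgLib.Chars.irr_abelian_degree hcomm ψ.2)
  have hinj : ∀ n, lam n = 1 → n = 1 := fun n h => hfaith n (by rw [hlam]; simp [h])
  rw [← special_classes N hN lam hinj]
  refine Nat.card_congr (Equiv.subtypeEquivRight fun χ => ?_)
  obtain ⟨c, hc⟩ := exists_central_hom N hN χ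
  have e : (fun n : ↥N => (χ : G → ℂ) n) = (χ : G → ℂ) 1 • fun n : ↥N => (c n : ℂ) := by
    funext n
    have := hc n 1
    rw [mul_one] at this
    rw [this, Pi.smul_apply, smul_eq_mul, mul_comm]
  rw [e, CfsgLib.Chars.inner_smul_left]
  constructor
  · intro h
    have hcl : (⟨_, CfsgLib.Chars.isIrrCharacter_linear c⟩ : Cfsg.IrrCharacter ↥N) = ψ := by
      by_contra hne
      exact h (by rw [CfsgLib.Chars.inner_irr_ne hne, mul_zero])
    intro n x
    have h2 : (c n : ℂ) = (ψ : ↥N → ℂ) n := by rw [← hcl]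
    rw [hc, h2, hlam]
  · intro h
    have h3 : (fun n : ↥N => (c n : ℂ)) = (ψ : ↥N → ℂ) := by
      funext n
      have h1 := h n 1
      rw [hc n 1] at h1
      rw [mul_right_cancel₀ (CfsgLib.CharApps.deg_ne_zero χ) h1, hlam]
    rw [h3, CfsgLib.Chars.inner_irr_self, mul_one]
    exact CfsgLib.CharApps.deg_ne_zero χ


end Cfsg.Agent.S4567
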