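import Cfsg.Statements.S4571
import Cfsg.Agent.Lib.Blocks.QuotientP
import Cfsg.Agent.Lib.BlockOrth.Subsection
import Cfsg.Agent.Lib.Blocks.PrincipalBlock

set_option autoImplicit false
open Cfsg Subgroup
open scoped Pointwise commutatorElement

namespace Cfsg.Agent.S4571

open CfsgLib CfsgLib.Chars CfsgLib.Blocks

/-- Let Q be a normal p-subgroup of the finite group G with G = Q·C_G(Q), and M a maximal ideal of the algebraic integers containing p. Then the principal p-blocks of G and of G/Q have the same p-regular rank (the same number of irreducible Brauer characters). -/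
theorem result {G : Type*} [Group G] [Finite G] (p : ℕ) [Fact p.Prime] (M : Ideal Cfsg.AlgInt) (hM : Cfsg.IsPModular p M) (Q : Subgroup G) [Q.Normal] (hQ : IsPGroup p Q) (hsup : Q ⊔ Subgroup.centralizer (Q : Set G) = ⊤) : Cfsg.blockRank p (Cfsg.principalBlock M G) = Cfsg.blockRank p (Cfsg.principalBlock M (G ⧸ Q)) := by
  classical
  haveI := Fintype.ofFinite G
  haveI : Fintype (G ⧸ Q) := Fintype.ofFinite _
  haveI := isPrime_of_isPModular hM
  haveI := irrFintype (G ⧸ Q)
  have hpM := hM.2.2
  obtain ⟨k, hk⟩ : ∃ k, (Subgroup.centralizer (Q : Set G)).index = p ^ k := by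
    haveI : (Subgroup.centralizer (Q : Set G)).Normal := ⟨fun c hc g =>
      (conj_mem_centralizer_iff (by rw [Subgroup.normalizer_eq_top]; exact Subgroup.mem_top g) c).2 hc⟩
    rw [← Subgroup.relIndex_top_right, ← hsup, Subgroup.relIndex_sup_right]
    obtain ⟨n, hn⟩ := IsPGroup.iff_card.1 hQ
    obtain ⟨i, -, hi⟩ := (Nat.dvd_prime_pow Fact.out).1
      (hn ▸ Subgroup.relIndex_dvd_card (Subgroup.centralizer (Q : Set G)) Q)
    exact ⟨i, hi⟩
  have hblk : ∀ ψ : IrrCharacter (G ⧸ Q), ψ ∈ principalBlock M (G ⧸ Q) ↔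
      (⟨_, isIrrCharacter_inflate Q ψ.2⟩ : IrrCharacter G) ∈ principalBlock M G := fun ψ =>
    sameBlock_inflate_iff hpM hQ hk (principal (G ⧸ Q)) ψ
  have hreg : ∀ g : G, ¬ p ∣ orderOf g → ¬ p ∣ orderOf (g : G ⧸ Q) := fun g hg h =>
    hg (h.trans (orderOf_map_dvd (QuotientGroup.mk' Q) g))
  let L : ((G ⧸ Q) → ℂ) →ₗ[ℂ] (G → ℂ) :=
    { toFun := fun f => pRegularPart p (fun g => f g)
      map_add' := fun f f' => BlockOrth.pRegularPart_add p (fun g : G => f g) (fun g : G => f' g)
      map_smul' := fun c f => BlockOrth.pRegularPart_smul p c (fun g : G => f g) }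
  set S := Submodule.span ℂ
    ((fun χ : IrrCharacter (G ⧸ Q) => pRegularPart p (χ : G ⧸ Q → ℂ)) '' principalBlock M (G ⧸ Q))
    with hS
  have hL : ∀ f : G ⧸ Q → ℂ, L (pRegularPart p f) = L f := fun f => by
    funext g
    show pRegularPart p (fun g : G => pRegularPart p f g) g = pRegularPart p (fun g : G => f g) g
    simp only [BlockOrth.pRegularPart_apply]
    by_cases hg : p ∣ orderOf g
    · simp [hg]
    · simp [hg, hreg g hg]
  have hinj : Function.Injective (L.domRestrict S) := by
    rw [← LinearMap.ker_eq_bot, LinearMap.ker_eq_bot']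
    rintro ⟨f, hf⟩ h
    have hsupp : pRegularPart p f = f := by
      clear h
      induction hf using Submodule.span_induction with
      | mem x hx =>
        obtain ⟨χ, -, rfl⟩ := hx
        exact BlockOrth.pRegularPart_pRegularPart p _
      | zero => funext q; rw [BlockOrth.pRegularPart_apply]; simp
      | add x y _ _ hx hy => rw [BlockOrth.pRegularPart_add, hx, hy]
      | smul c x _ hx => rw [BlockOrth.pRegularPart_smul, hx]
    refine Subtype.ext (funext fun q => ?_)
    show f q = 0
    rw [← hsupp, BlockOrth.pRegularPart_apply]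
    by_cases hq : p ∣ orderOf q
    · rw [if_neg (not_not.2 hq)]
    · rw [if_pos hq]
      obtain ⟨y, hy, rfl⟩ := exists_regular_lift q hq
      have := congrFun h y
      change pRegularPart p (fun g : G => f g) y = 0 at this
      rwa [BlockOrth.pRegularPart_apply, if_pos hy] at this
  show Module.finrank ℂ _ = Module.finrank ℂ S
  rw [← LinearMap.finrank_range_of_inj hinj, LinearMap.range_domRestrict]
  suffices h : Submodule.span ℂ ((fun χ : IrrCharacter G => pRegularPart p (χ : G → ℂ)) '' principalBlock M G) = Submodule.map L S by rw [h]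
  rw [hS, Submodule.map_span, ← Set.image_comp]
  refine le_antisymm (Submodule.span_le.2 ?_) (Submodule.span_le.2 ?_)
  · rintro _ ⟨χ, hχ, rfl⟩
    -- the function on the quotient with the values of `χ` on regular elements
    have hlift := fun q : G ⧸ Q => exists_regular_lift (p := p) q
    choose y hy₁ hy₂ using hlift
    let f : G ⧸ Q → ℂ := fun q => if h : ¬ p ∣ orderOf q then (χ : G → ℂ) (y q h) else 0
    have huniq : ∀ {a b : G}, ¬ p ∣ orderOf a → ¬ p ∣ orderOf b →
        (a : G ⧸ Q) = b → a = b := by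
      intro a b ha hb hab
      have h1 : a⁻¹ * b ∈ Q := QuotientGroup.eq.1 hab
      obtain ⟨i, hi⟩ := IsPGroup.iff_orderOf.1 hQ ⟨_, h1⟩
      have hcomm : Commute (a⁻¹ * b) a :=
        Subgroup.mem_centralizer_iff.1 (mem_centralizer_of_regular hk ha) _ h1
      have e1 : BlockOrth.IsPPrimePart p b a :=
        ⟨a⁻¹ * b, by rw [hcomm.eq, mul_inv_cancel_left], hcomm,
          ⟨i, by rw [← hi, ← Subgroup.orderOf_coe]⟩, ha⟩
      exact e1.unique ⟨1, one_mul _, Commute.one_left _, ⟨0, by simp⟩, hb⟩
    have hfcl : IsClassFunction (G ⧸ Q) f := by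
      intro q c
      have hord : orderOf (c * q * c⁻¹) = orderOf q := by
        have := orderOf_injective (MulAut.conj c).toMonoidHom (MulAut.conj c).injective q
        simpa using this
      simp only [f, hord]
      split_ifs with hq
      · rfl
      · obtain ⟨c, rfl⟩ := QuotientGroup.mk_surjective c
        have hq' : ¬ p ∣ orderOf ((c : G ⧸ Q) * q * (c : G ⧸ Q)⁻¹) := by rwa [hord]
        have e : y ((c : G ⧸ Q) * q * (c : G ⧸ Q)⁻¹) hq' = c * y q hq * c⁻¹ := by
          refine huniq (hy₁ _ hq') ?_ (by rw [hy₂]; simp [hy₂])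
          have := orderOf_injective (MulAut.conj c).toMonoidHom (MulAut.conj c).injective (y q hq)
          simp only [MulEquiv.coe_toMonoidHom, MulAut.conj_apply] at this
          rw [this]; exact hy₁ q hq
        rw [e, isClassFunction_irr χ]
    haveI := irrFintype G
    set c : IrrCharacter (G ⧸ Q) → ℂ := fun ψ => classInner f (ψ : G ⧸ Q → ℂ) with hc
    set φ : G → ℂ := fun g => f g with hφ
    have hφcl : IsClassFunction G φ := fun g h => by simp [hφ, hfcl (g : G ⧸ Q) h]
    have hφχ : pRegularPart p φ = pRegularPart p (χ : G → ℂ) := by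
      funext g
      rw [BlockOrth.pRegularPart_apply, BlockOrth.pRegularPart_apply]
      by_cases hg : p ∣ orderOf g
      · rw [if_neg (not_not.2 hg), if_neg (not_not.2 hg)]
      · rw [if_pos hg, if_pos hg]
        simp only [hφ, f, dif_pos (hreg g hg)]
        rw [huniq (hy₁ _ _) hg (hy₂ _ _)]
    have hB := isPBlock_principalBlock (G := G) M
    have hpart : pRegularPart p (blockPart (principalBlock M G) φ) =
        pRegularPart p (χ : G → ℂ) := by
      refine ext_inner_irr (BlockOrth.isClassFunction_pRegularPart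
        (fun g h => by simp only [blockPart]; exact finsum_congr fun θ => finsum_congr fun _ => by rw [isClassFunction_irr θ g h]))
        (BlockOrth.isClassFunction_pRegularPart (isClassFunction_irr χ)) fun η => ?_
      rw [BlockOrth.inner_pRegularPart_blockPart hpM hB hφcl η, hφχ,
        ← BlockOrth.inner_pRegularPart_blockPart hpM hB (isClassFunction_irr χ) η]
      congr 2
      exact funext fun g => blockPart_irr_of_mem hχ g
    have hbp : blockPart (principalBlock M G) φ =
        ∑ ψ ∈ Finset.univ.filter (· ∈ principalBlock M (G ⧸ Q)),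
          c ψ • fun g : G => (ψ : G ⧸ Q → ℂ) g := by
      funext u
      have hexp : ∀ g : G, φ g = ∑ ψ : IrrCharacter (G ⧸ Q), c ψ * (ψ : G ⧸ Q → ℂ) g := fun g => by
        have := congrFun (classFun_eq_sum hfcl) (g : G ⧸ Q)
        simpa [hc, hφ, Finset.sum_apply] using this
      rw [blockPart_eq_sum _ hφcl]
      simp only [hexp, Finset.mul_sum, Finset.sum_apply, Pi.smul_apply, smul_eq_mul]
      rw [Finset.sum_comm, Finset.sum_filter]
      refine Finset.sum_congr rfl fun ψ _ => ?_
      simp only [mul_left_comm _ (c ψ), ← Finset.mul_sum]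
      have := sum_mul_blockCoeff (principalBlock M G) ⟨_, isIrrCharacter_inflate Q ψ.2⟩ u
      simp only [← hblk] at this
      rw [this]
      split_ifs <;> simp
    show pRegularPart p (χ : G → ℂ) ∈ _
    rw [← hpart, hbp, BlockOrth.pRegularPart_sum]
    refine Submodule.sum_mem _ fun ψ hψ => ?_
    rw [BlockOrth.pRegularPart_smul]
    exact Submodule.smul_mem _ _ (Submodule.subset_span ⟨ψ, (Finset.mem_filter.1 hψ).2, hL _⟩)
  · rintro _ ⟨ψ, hψ, rfl⟩
    show L (pRegularPart p (ψ : G ⧸ Q → ℂ)) ∈ _
    rw [hL]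
    exact Submodule.subset_span ⟨_, (hblk ψ).1 hψ, rfl⟩


end Cfsg.Agent.S4571
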