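import Cfsg.Statements.S4574
import Cfsg.Agent.Lib.CharApps.Galois
import Cfsg.Agent.Lib.Blocks.Degree

set_option autoImplicit false
open Cfsg Subgroup
open scoped Pointwise commutatorElement

namespace Cfsg.Agent.S4574

/-- Let χ be an irreducible character of the finite group G, of degree d, and let Z(χ) be the set of elements g with |χ g| = d (the centre of χ). Then χ vanishes on at least (d ^ 2 - 1) · |Z(χ)| elements of G, with equality when every value |χ g| is 0, 1 or d. -/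
theorem result {G : Type*} [Group G] [Fintype G] [DecidableEq G] (χ : G → ℂ) (hχ : Cfsg.IsIrrCharacter G χ) : (Cfsg.charDegree χ ^ 2 - 1) * (Finset.univ.filter (fun g : G => ‖χ g‖ = (Cfsg.charDegree χ : ℝ))).card ≤ (Finset.univ.filter (fun g : G => χ g = 0)).card ∧ ((∀ g : G, ‖χ g‖ = 0 ∨ ‖χ g‖ = 1 ∨ ‖χ g‖ = (Cfsg.charDegree χ : ℝ)) → (Cfsg.charDegree χ ^ 2 - 1) * (Finset.univ.filter (fun g : G => ‖χ g‖ = (Cfsg.charDegree χ : ℝ))).card = (Finset.univ.filter (fun g : G => χ g = 0)).card) := by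
  classical
  set d : ℕ := charDegree χ with hd
  set χ' : IrrCharacter G := ⟨χ, hχ⟩ with hχ'
  have hd1 : (χ 1) = (d : ℂ) := (CfsgLib.Blocks.charDegree_cast χ').symm
  have hdpos : 1 ≤ d := CfsgLib.Blocks.charDegree_pos χ'
  set Z := Finset.univ.filter (fun g : G => ‖χ g‖ = (d : ℝ)) with hZ
  set O := Finset.univ.filter (fun g : G => χ g = 0) with hO
  set S := Finset.univ.filter (fun g : G => χ g ≠ 0 ∧ ‖χ g‖ ≠ (d : ℝ)) with hS
  have hchar : IsCharacter G χ := CfsgLib.Chars.isCharacter_of_irr hχ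
  have hsum : ∑ g : G, ‖χ g‖ ^ 2 = (Fintype.card G : ℝ) := by
    have h := CfsgLib.Chars.inner_irr_self χ'
    rw [CfsgLib.Chars.inner_def, inv_mul_eq_one₀ (CfsgLib.Chars.card_ne_zero G)] at h
    have h2 : ((∑ g : G, ‖χ g‖ ^ 2 : ℝ) : ℂ) = ∑ g : G, χ g * (starRingEnd ℂ) (χ g) := by
      push_cast
      exact Finset.sum_congr rfl fun g _ => by rw [Complex.mul_conj']
    rw [Nat.card_eq_fintype_card] at h
    exact_mod_cast h2.trans h.symm
  have hsplit : ∀ (f : G → ℝ), ∑ g : G, f g = (∑ g ∈ Z, f g) + (∑ g ∈ O, f g) + ∑ g ∈ S, f g := by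
    intro f
    simp only [hZ, hO, hS, Finset.sum_filter, ← Finset.sum_add_distrib]
    refine Finset.sum_congr rfl fun g _ => ?_
    by_cases h1 : χ g = 0
    · have : ¬ ‖χ g‖ = (d : ℝ) := by
        rw [h1, norm_zero]; exact_mod_cast (by omega : ¬ 0 = d)
      rw [if_neg this, if_pos h1, if_neg (fun h => h.1 h1), zero_add, add_zero]
    · by_cases h2 : ‖χ g‖ = (d : ℝ)
      · rw [if_pos h2, if_neg h1, if_neg (fun h => h.2 h2), add_zero, add_zero]
      · rw [if_neg h2, if_neg h1, if_pos ⟨h1, h2⟩, zero_add, zero_add]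
  have hcard : (Fintype.card G : ℝ) = Z.card + O.card + S.card := by
    have := hsplit fun _ => 1
    simpa using this
  have hZsum : ∑ g ∈ Z, ‖χ g‖ ^ 2 = (Z.card : ℝ) * (d : ℝ) ^ 2 := by
    rw [Finset.sum_congr rfl (fun g hg => by rw [(Finset.mem_filter.mp hg).2] :
      ∀ g ∈ Z, ‖χ g‖ ^ 2 = (d : ℝ) ^ 2), Finset.sum_const, nsmul_eq_mul]
  have hOsum : ∑ g ∈ O, ‖χ g‖ ^ 2 = 0 := Finset.sum_eq_zero fun g hg => by
    rw [(Finset.mem_filter.mp hg).2]; simp
  have hkey := hsplit fun g => ‖χ g‖ ^ 2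
  rw [hsum, hcard, hZsum, hOsum] at hkey
  have hcast : ∀ a b : ℕ, (((d ^ 2 - 1) * a : ℕ) : ℝ) ≤ (b : ℝ) → (d ^ 2 - 1) * a ≤ b :=
    fun a b h => by exact_mod_cast h
  have hd2 : ((d ^ 2 - 1 : ℕ) : ℝ) = (d : ℝ) ^ 2 - 1 := by
    rw [Nat.cast_sub (Nat.one_le_pow _ _ hdpos)]; push_cast; ring
  constructor
  · have hS1 : (S.card : ℝ) ≤ ∑ g ∈ S, ‖χ g‖ ^ 2 := by
      refine CfsgLib.CharApps.card_le_sum_normSq S (fun _ => χ) id (fun _ _ => hchar)
        (fun g hg => (Finset.mem_filter.mp hg).2.1) fun k σ hk hσ => ?_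
      have hga : ∀ g : G, σ (χ g) = χ (g ^ k) := fun g =>
        CfsgLib.CharApps.galois_apply σ hσ hchar g pow_card_eq_one'
      refine ⟨fun g => g ^ k, fun g hg => ?_, fun a _ b _ h => ?_, fun g _ => hga g⟩
      · obtain ⟨h1, h2⟩ := (Finset.mem_filter.mp hg).2
        refine Finset.mem_filter.mpr ⟨Finset.mem_univ _, ?_, ?_⟩
        · rw [← hga]; exact (map_ne_zero σ).mpr h1
        · intro h3
          apply h2
          have hsq : ∀ x : G, χ x * χ x⁻¹ = ((‖χ x‖ ^ 2 : ℝ) : ℂ) := fun x => by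
            rw [CfsgLib.Chars.char_inv hchar x, Complex.mul_conj']; push_cast; rfl
          have h4 : σ (χ g * χ g⁻¹) = ((d : ℕ) : ℂ) ^ 2 := by
            rw [map_mul, hga, hga, inv_pow, hsq, h3]; push_cast; rfl
          have h5 : χ g * χ g⁻¹ = ((d : ℕ) : ℂ) ^ 2 := by
            apply σ.injective; rw [h4, map_pow, map_natCast]
          rw [hsq] at h5
          have h6 : ‖χ g‖ ^ 2 = (d : ℝ) ^ 2 := by exact_mod_cast h5
          exact (pow_left_inj₀ (norm_nonneg _) (Nat.cast_nonneg d) two_ne_zero).mp h6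
      · exact (powCoprime (Nat.coprime_comm.mp hk)).injective h
    apply hcast
    rw [Nat.cast_mul, hd2]
    linarith
  · intro h
    have hS1 : ∑ g ∈ S, ‖χ g‖ ^ 2 = (S.card : ℝ) := by
      rw [Finset.sum_congr rfl (fun g hg => ?_ : ∀ g ∈ S, ‖χ g‖ ^ 2 = (1 : ℝ))]
      · simp
      · obtain ⟨h1, h2⟩ := (Finset.mem_filter.mp hg).2
        rcases h g with h3 | h3 | h3
        · exact absurd (norm_eq_zero.mp h3) h1
        · rw [h3, one_pow]
        · exact absurd h3 h2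
    have : (((d ^ 2 - 1) * Z.card : ℕ) : ℝ) = (O.card : ℝ) := by
      rw [Nat.cast_mul, hd2]
      linarith
    exact_mod_cast this


end Cfsg.Agent.S4574
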