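import Cfsg.Statements.S4575
import Cfsg.Agent.Lib.BlockOrth.MajorTwo

set_option autoImplicit false
open Cfsg Subgroup
open scoped Pointwise commutatorElement

namespace Cfsg.Agent.S4575

open CfsgLib.Chars CfsgLib.Blocks CfsgLib.BlockOrth Finset


/-- Let B be a 2-block of the finite group G (relative to a maximal ideal M of the algebraic integers containing 2) of defect d with defect group D. Let z be an element of D commuting with every element of D, and let b be a block of the centralizer of z with defect group D that induces B (a major subsection (z, b)). If the number of irreducible characters in B exceeds the 2-regular rank of b by at most three, then B contains at most 2 ^ d irreducible characters. -/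
theorem result {G : Type*} [Group G] [Finite G] (M : Ideal Cfsg.AlgInt) (hM : Cfsg.IsPModular 2 M) (B : Set (Cfsg.IrrCharacter G)) (hB : Cfsg.IsPBlock M B) (D : Subgroup G) (hD : Cfsg.IsDefectGroup 2 M B D) (z : G) (hzD : z ∈ D) (hzc : ∀ d ∈ D, d * z = z * d) (b : Set (Cfsg.IrrCharacter ↥(Subgroup.centralizer ({z} : Set G)))) (hb : Cfsg.IsInducedBlock M (Subgroup.centralizer ({z} : Set G)) b B) (hbD : Cfsg.IsDefectGroup 2 M b (D.subgroupOf (Subgroup.centralizer ({z} : Set G)))) (h : Nat.card B ≤ Cfsg.blockRank 2 b + 3) : Nat.card B ≤ 2 ^ Cfsg.blockDefect 2 B := by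
  classical
  haveI := Fintype.ofFinite G
  haveI := Fintype.ofFinite (Subgroup.centralizer ({z} : Set G))
  haveI := irrFintype G
  haveI := irrFintype (Subgroup.centralizer ({z} : Set G))
  haveI := isPrime_of_isPModular hM
  obtain ⟨n, hn⟩ := exists_orderOf_of_mem_defectGroup hD hzD
  have hH : ∀ c : G, c ∈ Subgroup.centralizer ({z} : Set G) ↔ c * z = z * c :=
    fun _ => Subgroup.mem_centralizer_singleton_iff
  have hmaj : blockDefect 2 b = blockDefect 2 B :=
    blockDefect_eq_of_major hM.2.2 hB hb.1 hD (fun d hd => (hH d).2 (hzc d hd)) hbD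
  set P := 2 ^ blockDefect 2 B with hP
  set s := univ.filter (· ∈ B) with hs
  have hk : Nat.card B = s.card := by
    rw [Nat.card_eq_fintype_card, Fintype.card_subtype]
  rw [hk] at h ⊢
  by_cases hex : ∃ χ ∈ s, blockHeight 2 B (χ : G → ℂ) = 0 ∧ P ≤ avgDiag n b z χ + 1
  · obtain ⟨χ, hχ, h0, hbig⟩ := hex
    have hrow := sum_four_pow_height_le hM hH hn hb hmaj (mem_filter.1 hχ).2 h0
    rw [← hP, ← hs] at hrow
    have hA : (s.erase χ).card ≤ ∑ ψ ∈ s.erase χ, 4 ^ blockHeight 2 B (ψ : G → ℂ) := by
      simpa using Finset.card_nsmul_le_sum (s.erase χ)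
        (fun ψ : IrrCharacter G => 4 ^ blockHeight 2 B (ψ : G → ℂ)) 1
        fun ψ _ => Nat.one_le_pow _ _ (by norm_num)
    have hc := Finset.card_erase_add_one hχ
    have h1 : 1 ≤ P := Nat.one_le_two_pow
    rcases Nat.le_or_eq_of_le_succ hbig with h2 | h2
    · have : P * avgDiag n b z χ ≤ avgDiag n b z χ ^ 2 := by rw [sq]; exact Nat.mul_le_mul_right _ h2
      omega
    · have : P * avgDiag n b z χ = avgDiag n b z χ ^ 2 + avgDiag n b z χ := by
        rw [show P = avgDiag n b z χ + 1 by omega]; ring
      omega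
  · push Not at hex
    have h3 : ∀ χ ∈ s, 3 + avgDiag n b z χ ≤ P := fun χ hχ => by
      have hχB := (mem_filter.1 hχ).2
      rcases Nat.eq_zero_or_pos (blockHeight 2 B (χ : G → ℂ)) with h0 | hpos
      · obtain ⟨j, hj⟩ := odd_avgDiag hM hH hn hb hχB ((blockHeight_eq_zero_iff hχB).1 h0)
        have hlt := hex χ hχ h0
        obtain ⟨i, hi⟩ : ∃ i, P = 2 * i := by
          rcases Nat.eq_zero_or_pos (blockDefect 2 B) with hd | hd
          · rw [hP, hd, pow_zero] at hlt
            omega
          · exact ⟨2 ^ (blockDefect 2 B - 1), by rw [hP, ← pow_succ', Nat.sub_add_cancel hd]⟩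
        omega
      · obtain ⟨hp1, hp2⟩ := avgDiag_pos_and_le hM hH hn hb hmaj hχB hpos
        have hdvd := two_pow_succ_dvd_avgDiag hM hH hn hb hmaj hχB hpos
        have hd2 := height_add_two_le hM.2.2 hB hχB hpos
        have hdP : 2 ^ (blockHeight 2 B (χ : G → ℂ) + 1) ∣ P := pow_dvd_pow 2 (by omega)
        have := Nat.le_of_dvd (Nat.sub_pos_of_lt hp2) (Nat.dvd_sub hdP hdvd)
        have h4 : 4 ≤ 2 ^ (blockHeight 2 B (χ : G → ℂ) + 1) :=
          le_trans (by norm_num) (Nat.pow_le_pow_right (by norm_num) (show 2 ≤ _ + 1 by omega))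
        omega
    have htot := sum_avgDiag (B := B) hM hH hn hb
    rw [hmaj, ← hP, ← hs] at htot
    have hsum := Finset.sum_le_card_nsmul s (fun ψ => 3 + avgDiag n b z ψ) P h3
    rw [Finset.sum_add_distrib, Finset.sum_const, smul_eq_mul, smul_eq_mul, htot] at hsum
    have hle := Nat.mul_le_mul_right P h
    rw [Nat.add_mul, mul_comm P (blockRank 2 b)] at *
    omega


end Cfsg.Agent.S4575
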