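import Cfsg.Statements.S4581
import Cfsg.Agent.Lib.CharApps.RealOdd.Main
import Cfsg.Agent.Lib.Base.Frattini

set_option autoImplicit false
open Cfsg

namespace Cfsg.Agent.S4581

/-- Let G be a finite solvable group, P a Sylow 2-subgroup and N its normalizer. Then G and N have the same number of real-valued irreducible characters of odd degree; and every odd-degree irreducible character of G is real-valued exactly when the derived subgroup of P equals the Frattini subgroup of P and P is its own normalizer in G. -/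
theorem result {G : Type*} [Group G] [Finite G] [Group.IsSolvable G] (P : Sylow 2 G) :
    Nat.card {χ : Cfsg.IrrCharacter G // (∀ g : G, ((χ : G → ℂ) g).im = 0) ∧ Odd (Cfsg.charDegree (χ : G → ℂ))} =
      Nat.card {ψ : Cfsg.IrrCharacter (Subgroup.normalizer ((P : Subgroup G) : Set G)) // (∀ g, ((ψ : Subgroup.normalizer ((P : Subgroup G) : Set G) → ℂ) g).im = 0) ∧ Odd (Cfsg.charDegree (ψ : Subgroup.normalizer ((P : Subgroup G) : Set G) → ℂ))} ∧
    ((∀ χ : Cfsg.IrrCharacter G, Odd (Cfsg.charDegree (χ : G → ℂ)) → ∀ g : G, ((χ : G → ℂ) g).im = 0) ↔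
      (commutator (P : Subgroup G) = frattini (P : Subgroup G) ∧ Subgroup.normalizer ((P : Subgroup G) : Set G) = (P : Subgroup G))) := by
  classical
  haveI := Fintype.ofFinite G
  set N := Subgroup.normalizer ((P : Subgroup G) : Set G) with hN
  have hPN : (P : Subgroup G) ≤ N := Subgroup.le_normalizer
  obtain ⟨h1, h2⟩ := CfsgLib.RealOdd.comparison P
  rw [Subgroup.bot_subgroupOf] at h1 h2
  refine ⟨?_, ?_⟩
  · refine (Nat.card_congr (Equiv.subtypeEquivRight fun χ => ?_)).trans (h1.trans
      (Nat.card_congr (Equiv.subtypeEquivRight fun χ => ?_)))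
    · rw [CfsgLib.RealOdd.oddIn_bot]; exact and_comm
    · rw [CfsgLib.RealOdd.oddIn_bot]; exact and_comm
  · have hn : ((P.subtype hPN : Sylow 2 N) : Subgroup N).Normal := by
      rw [Sylow.coe_subtype]; exact Subgroup.normal_in_normalizer
    have hA : (∀ χ : Cfsg.IrrCharacter G, Odd (Cfsg.charDegree (χ : G → ℂ)) →
        ∀ g : G, ((χ : G → ℂ) g).im = 0) ↔ CfsgLib.RealOdd.AR (⊥ : Subgroup G) :=
      forall_congr' fun χ => by rw [CfsgLib.RealOdd.oddIn_bot]; exact Iff.rfl
    rw [hA, h2, CfsgLib.RealOdd.ar_normal_sylow (P.subtype hPN)]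
    let e : ((P.subtype hPN : Sylow 2 N) : Subgroup N) ≃* (P : Subgroup G) :=
      (MulEquiv.subgroupCongr (Sylow.coe_subtype (P := P) (h := hPN))).trans
        (Subgroup.subgroupOfEquivOfLe hPN)
    refine and_congr ?_ ?_
    · rw [← (Subgroup.map_injective (f := e.toMonoidHom) e.injective).eq_iff,
        map_commutator_eq, MonoidHom.range_eq_top.2 e.surjective, ← commutator_def,
        CfsgLib.Base.map_frattini_mulEquiv e]
    · rw [Sylow.coe_subtype, Subgroup.subgroupOf_eq_top]
      exact ⟨fun h => le_antisymm h hPN, fun h => h.le⟩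

end Cfsg.Agent.S4581
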