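import Cfsg.Statements.S4582
import Cfsg.Agent.Lib.Glauberman.Cyclic
import Cfsg.Agent.Lib.Blocks.Covering
import Cfsg.Agent.Lib.CharsMore.Clifford
import Cfsg.Agent.Lib.Chars.Linear
import Cfsg.Agent.Lib.Chars.Integral
import Cfsg.Agent.Lib.PLocal.NormalizeSylow

set_option autoImplicit false
open Cfsg Subgroup
open scoped Pointwise commutatorElement

namespace Cfsg.Agent.S4582

theorem card_odd_fixed_of_involutive {X : Type*} [Finite X] (f : X → X) (hf : Function.Involutive f)
    (h : Odd (Nat.card X)) : Odd (Nat.card {x // f x = x}) := by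
  classical
  haveI := Fintype.ofFinite X
  have h0 : (Nat.card {x // f x ≠ x} : ZMod 2) = 0 := by
    rw [Nat.card_eq_fintype_card, Fintype.card_subtype, Finset.cast_card]
    refine Finset.sum_involution (fun x _ => f x) (fun x _ => by decide) ?_ ?_ ?_
    · exact fun x hx _ => (Finset.mem_filter.mp hx).2
    · intro x hx
      refine Finset.mem_filter.mpr ⟨Finset.mem_univ _, fun he => (Finset.mem_filter.mp hx).2 ?_⟩
      rw [hf x] at he
      exact he.symm
    · exact fun x _ => hf x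
  have hsum : Nat.card X = Nat.card {x // f x = x} + Nat.card {x // f x ≠ x} := by
    rw [← Nat.card_sum]
    exact (Nat.card_congr (Equiv.sumCompl fun x => f x = x)).symm
  rw [← ZMod.natCast_eq_one_iff_odd] at h ⊢
  rw [hsum, Nat.cast_add, h0, add_zero] at h
  exact h

theorem transfer_elementary {G : Type*} [Group G] [Finite G] (N : Subgroup G) [N.Normal]
    (hidx : ∃ a, N.index = 2 ^ a) (P : Sylow 2 G)
    (hP : ∀ x ∈ (P : Subgroup G), x ^ 2 ∈ ((P : Subgroup G) ⊓ N) ⊔ ⁅(P : Subgroup G), (P : Subgroup G)⁆)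
    (hQ : ∀ x ∈ (P : Subgroup G) ⊓ N, x ^ 2 ∈ ⁅(P : Subgroup G) ⊓ N, (P : Subgroup G) ⊓ N⁆)
    (hodd : Odd (Nat.card (Abelianization N))) :
    ∀ x ∈ (P : Subgroup G), x ^ 2 ∈ ⁅(P : Subgroup G), (P : Subgroup G)⁆ := by
  classical
  letI := Fintype.ofFinite G
  intro x0 hx0
  by_contra hnot
  set S : Subgroup G := (P : Subgroup G) with hS
  obtain ⟨lam, hlamx⟩ : ∃ lam : S →* ℂˣ, lam (⟨x0, hx0⟩ ^ 2) ≠ 1 := by
    haveI : NeZero (Monoid.exponent (Abelianization S) : ℂ) :=
      ⟨Nat.cast_ne_zero.mpr Monoid.exponent_ne_zero_of_finite⟩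
    have hne : Abelianization.of ((⟨x0, hx0⟩ : S) ^ 2) ≠ 1 := by
      intro h
      have h2 : ((⟨x0, hx0⟩ : S) ^ 2) ∈ commutator S := (QuotientGroup.eq_one_iff _).mp h
      apply hnot
      rw [← Subgroup.map_subtype_commutator]
      exact ⟨_, h2, rfl⟩
    obtain ⟨φ, hφ⟩ := CommGroup.exists_apply_ne_one_of_hasEnoughRootsOfUnity (Abelianization S) ℂ hne
    exact ⟨φ.comp Abelianization.of, hφ⟩
  -- basic facts about `lam`
  have hder : ∀ c : S, (c : G) ∈ ⁅S, S⁆ → lam c = 1 := by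
    intro c hc
    rw [← Subgroup.map_subtype_commutator] at hc
    obtain ⟨c', hc', he⟩ := hc
    rw [← (Subtype.ext he : c' = c)]
    exact Abelianization.commutator_subset_ker lam hc'
  have hQ2 : ∀ q : S, (q : G) ∈ N → lam q ^ 2 = 1 := fun q hq => by
    rw [← map_pow]
    refine hder _ ?_
    rw [Subgroup.coe_pow]
    exact Subgroup.commutator_mono inf_le_left inf_le_left (hQ _ ⟨q.2, hq⟩)
  have hdecomp : ∀ z : S, ∃ q : S, (q : G) ∈ N ∧ lam (z ^ 2) = lam q := by
    intro z
    have h1 := hP z z.2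
    haveI : (((S ⊓ N : Subgroup G)).subgroupOf S).Normal := by
      rw [inf_comm, Subgroup.inf_subgroupOf_right]; infer_instance
    have hle : S ⊓ N ≤ S := inf_le_left
    have h2 : (z ^ 2 : S) ∈ ((S ⊓ N : Subgroup G)).subgroupOf S ⊔ (⁅S, S⁆).subgroupOf S := by
      rw [← Subgroup.subgroupOf_sup hle (Subgroup.commutator_le_self S), Subgroup.mem_subgroupOf,
        Subgroup.coe_pow]
      exact h1
    rw [Subgroup.mem_sup_of_normal_left] at h2
    obtain ⟨q, hq, c, hc, he⟩ := h2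
    refine ⟨q, hq.2, ?_⟩
    rw [← he, map_mul, hder c hc, mul_one]
  -- the exponent acting as inversion on 2-elements and trivially on elements of odd order
  set a2 := (Nat.card G).factorization 2 with ha2
  have hcop : (2 ^ a2).Coprime (Nat.card G / 2 ^ a2) :=
    (Nat.coprime_ordCompl Nat.prime_two Nat.card_pos.ne').pow_left _
  have hsplit : 2 ^ a2 * (Nat.card G / 2 ^ a2) = Nat.card G :=
    Nat.ordProj_mul_ordCompl_eq_self _ _
  obtain ⟨k, hk1, hk2⟩ := Nat.chineseRemainder hcop (2 ^ a2 - 1) 1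
  have hksq : k * k ≡ 1 [MOD Nat.card G] := by
    rw [← hsplit]
    refine (Nat.modEq_and_modEq_iff_modEq_mul hcop).mp ⟨?_, by simpa using hk2.mul hk2⟩
    have hpos : 0 < 2 ^ a2 := Nat.two_pow_pos a2
    have e : ((2 ^ a2 - 1 : ℕ) : ZMod (2 ^ a2)) = -1 := by
      rw [Nat.cast_sub hpos, ZMod.natCast_self, Nat.cast_one, zero_sub]
    rw [← ZMod.natCast_eq_natCast_iff] at hk1 ⊢
    rw [Nat.cast_mul, hk1, e, Nat.cast_one]; ring
  have hkcop : k.Coprime (Nat.card G) :=
    Nat.coprime_of_mul_modEq_one k hksq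
  haveI : NeZero (Nat.card G) := ⟨Nat.card_pos.ne'⟩
  obtain ⟨σ, hσ⟩ := CfsgLib.CharApps.exists_galois_pow (Nat.card G) hkcop
  have hkk : ∀ {Y : Type _} [Group Y] (y : Y), orderOf y ∣ Nat.card G → (y ^ k) ^ k = y := by
    intro Y _ y hy
    rw [← pow_mul]
    conv_rhs => rw [← pow_one y]
    exact pow_eq_pow_iff_modEq.mpr (Nat.ModEq.of_dvd hy hksq)
  have hkP : ∀ z : S, z ^ k = z⁻¹ := by
    intro z
    obtain ⟨j, hj⟩ := IsPGroup.iff_orderOf.mp P.2 z
    have hja : j ≤ a2 := by
      have h3 : 2 ^ j ∣ Nat.card G := hj ▸ ((orderOf_dvd_natCard z).trans (Subgroup.card_subgroup_dvd_card S))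
      exact (Nat.Prime.pow_dvd_iff_le_factorization Nat.prime_two Nat.card_pos.ne').mp h3
    refine eq_inv_of_mul_eq_one_left ?_
    rw [← pow_succ, ← orderOf_dvd_iff_pow_eq_one, hj, ← Nat.modEq_zero_iff_dvd]
    have h4 := (hk1.of_dvd (pow_dvd_pow 2 hja)).add_right 1
    rw [Nat.sub_add_cancel Nat.one_le_two_pow] at h4
    exact h4.trans ((Nat.modEq_zero_iff_dvd).mpr (pow_dvd_pow 2 hja))
  have hordN : ∀ n : N, orderOf n ∣ Nat.card G := fun n =>
    (orderOf_dvd_natCard n).trans (Subgroup.card_subgroup_dvd_card N)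
  have hgalN : ∀ (χ : Cfsg.IrrCharacter N) (n : N), σ ((χ : N → ℂ) n) = (χ : N → ℂ) (n ^ k) :=
    fun χ n => CfsgLib.CharApps.galois_apply σ hσ (CfsgLib.Chars.isCharacter_of_irr χ.2) n
      (orderOf_dvd_iff_pow_eq_one.mp (hordN n))
  -- the Sylow subgroup of `N` and the character to induce
  set Qs : Subgroup N := S.subgroupOf N with hQs
  letI := Fintype.ofFinite N
  letI := Fintype.ofFinite Qs
  haveI := Fintype.ofFinite (Cfsg.IrrCharacter N)
  let inc : Qs →* S :=
    { toFun := fun q => ⟨((q : N) : G), q.2⟩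
      map_one' := rfl
      map_mul' := fun _ _ => rfl }
  set l : Qs →* ℂˣ := lam.comp inc with hl
  have hll : ∀ q : Qs, (l q : ℂ) = 1 ∨ (l q : ℂ) = -1 := fun q => by
    have h := congrArg Units.val (hQ2 (inc q) (q : N).2)
    rw [Units.val_pow_eq_pow_val, Units.val_one, pow_two] at h
    exact mul_self_eq_one_iff.mp h
  have hlk : ∀ q : Qs, (l (q ^ k) : ℂ) = (l q : ℂ) := fun q => by
    have h1 : inc (q ^ k) = (inc q)⁻¹ := by rw [map_pow, hkP]
    show (lam (inc (q ^ k)) : ℂ) = _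
    rw [h1, map_inv, Units.val_inv_eq_inv_val]
    rcases hll q with h | h <;> (change (lam (inc q) : ℂ) = _ at h; rw [hl]; show _ = (lam (inc q) : ℂ); rw [h]) <;>
      norm_num
  have hmult : ∀ θ : Cfsg.IrrCharacter N, ∃ m : ℕ,
      Cfsg.classInner (fun q : Qs => (θ : N → ℂ) q) (fun q => (l q : ℂ)) = (m : ℂ) := fun θ =>
    CfsgLib.Chars.inner_char_nat (CfsgLib.Chars.isCharacter_restrict Qs
      (CfsgLib.Chars.isCharacter_of_irr θ.2))
      (CfsgLib.Chars.isCharacter_of_irr (CfsgLib.Chars.isIrrCharacter_linear l))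
  choose m hm using hmult
  set d : Cfsg.IrrCharacter N → ℕ := fun θ => Cfsg.charDegree (θ : N → ℂ)
  -- odd total
  have hodd0 : Odd (∑ θ : Cfsg.IrrCharacter N, m θ * d θ) := by
    have h1 := congrFun (CfsgLib.Chars.classFun_eq_sum
      (CfsgLib.Chars.isClassFunction_indFun Qs fun q => (l q : ℂ))) 1
    rw [Finset.sum_apply, CfsgLib.Chars.indFun_one_apply, map_one, Units.val_one, mul_one] at h1
    have h2 : ∀ θ : Cfsg.IrrCharacter N, Cfsg.classInner (Cfsg.indFun Qs fun q => (l q : ℂ))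
        (θ : N → ℂ) = (m θ : ℂ) := fun θ => by
      rw [CfsgLib.Chars.inner_indFun Qs _ (CfsgLib.Chars.isClassFunction_irr θ),
        ← CfsgLib.Chars.inner_conj, hm, map_natCast]
    simp only [Pi.smul_apply, smul_eq_mul, h2, CfsgLib.CharApps.deg_eq] at h1
    have h3 : Qs.index = ∑ θ : Cfsg.IrrCharacter N, m θ * d θ := by exact_mod_cast h1
    rw [← h3, ← Nat.not_even_iff_odd, even_iff_two_dvd]
    intro h2d
    refine P.not_dvd_index (h2d.trans ?_)
    show S.relIndex N ∣ S.index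
    rw [← CfsgLib.PLocal.NormalizeSylow.relIndex_sup_of_normal]
    exact Dvd.intro _ (Subgroup.relIndex_mul_index le_sup_left)
  -- the two commuting actions
  let gal : Cfsg.IrrCharacter N → Cfsg.IrrCharacter N := fun θ =>
    ⟨fun n => σ.toRingHom ((θ : N → ℂ) n), CfsgLib.Chars.isIrrCharacter_ringHom _ θ.2⟩
  have hgal : ∀ θ n, ((gal θ : Cfsg.IrrCharacter N) : N → ℂ) n = (θ : N → ℂ) (n ^ k) := hgalN
  have hgg : Function.Involutive gal := fun θ => Subtype.ext (funext fun n => by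
    rw [hgal, hgal, hkk n (hordN n)])
  let powQ : Qs ≃ Qs :=
    { toFun := fun q => q ^ k
      invFun := fun q => q ^ k
      left_inv := fun q => hkk q (((orderOf_dvd_natCard q).trans
        (Subgroup.card_subgroup_dvd_card Qs)).trans (Subgroup.card_subgroup_dvd_card N))
      right_inv := fun q => hkk q (((orderOf_dvd_natCard q).trans
        (Subgroup.card_subgroup_dvd_card Qs)).trans (Subgroup.card_subgroup_dvd_card N)) }
  have hmgal : ∀ θ, m (gal θ) = m θ := fun θ => by
    have h : (m (gal θ) : ℂ) = (m θ : ℂ) := by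
      rw [← hm, ← hm, CfsgLib.Chars.inner_def, CfsgLib.Chars.inner_def]
      refine congrArg _ (Fintype.sum_equiv powQ _ _ fun q => ?_)
      show ((gal θ : Cfsg.IrrCharacter N) : N → ℂ) q * _ = (θ : N → ℂ) ((q ^ k : Qs) : N) * _
      rw [hgal, Subgroup.coe_pow]
      congr 2
      exact (hlk q).symm
    exact_mod_cast h
  have hdgal : ∀ θ, d (gal θ) = d θ := fun θ => by
    have h : (d (gal θ) : ℂ) = (d θ : ℂ) := by
      simp only [d, ← CfsgLib.CharApps.deg_eq]
      rw [hgal, one_pow]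
    exact_mod_cast h
  have hmconj : ∀ (z : S) θ, m (CfsgLib.Blocks.conjIrr N (z : G) θ) = m θ := fun z θ => by
    have h : (m (CfsgLib.Blocks.conjIrr N (z : G) θ) : ℂ) = (m θ : ℂ) := by
      rw [← hm, ← hm, CfsgLib.Chars.inner_def, CfsgLib.Chars.inner_def]
      refine congrArg _ (Fintype.sum_bijective (fun q : Qs => (⟨CfsgLib.CharsMore.conjBy N (z : G) (q : N),
        by
          rw [Subgroup.mem_subgroupOf, CfsgLib.CharsMore.coe_conjBy]
          exact mul_mem (mul_mem z.2 q.2) (inv_mem z.2)⟩ : Qs)) ?_ _ _ fun q => ?_)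
      · refine (Finite.injective_iff_bijective).mp fun a b hab => Subtype.ext ?_
        exact (CfsgLib.Blocks.bijective_conjBy N (z : G)).1 (congrArg Subtype.val hab)
      · rw [CfsgLib.Blocks.coe_conjIrr]
        congr 2
        show (lam (inc q) : ℂ) = (lam _ : ℂ)
        have e : inc (⟨CfsgLib.CharsMore.conjBy N (z : G) (q : N), by
            rw [Subgroup.mem_subgroupOf, CfsgLib.CharsMore.coe_conjBy]
            exact mul_mem (mul_mem z.2 q.2) (inv_mem z.2)⟩ : Qs) = z * inc q * z⁻¹ :=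
          Subtype.ext (CfsgLib.CharsMore.coe_conjBy N (z : G) (q : N))
        rw [e, map_mul, map_mul, map_inv, mul_comm (lam z), mul_inv_cancel_right]
    exact_mod_cast h
  have hdconj : ∀ (g : G) θ, d (CfsgLib.Blocks.conjIrr N g θ) = d θ := fun g θ => by
    have h : (d (CfsgLib.Blocks.conjIrr N g θ) : ℂ) = (d θ : ℂ) := by
      show (Cfsg.charDegree ((CfsgLib.Blocks.conjIrr N g θ : Cfsg.IrrCharacter N) : N → ℂ) : ℂ) = (Cfsg.charDegree (θ : N → ℂ) : ℂ)
      rw [← CfsgLib.CharApps.deg_eq, ← CfsgLib.CharApps.deg_eq, CfsgLib.Blocks.coe_conjIrr]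
      show (θ : N → ℂ) (CfsgLib.CharsMore.conjBy N g 1) = _
      rw [map_one]
    exact_mod_cast h
  have hX : Odd (Nat.card {θ : Cfsg.IrrCharacter N // Odd (m θ * d θ)}) := by
    rw [Nat.card_eq_fintype_card, Fintype.card_subtype]
    exact (Finset.odd_sum_iff_odd_card_odd _).mp hodd0
  have hX1 : Odd (Nat.card {θ : Cfsg.IrrCharacter N // Odd (m θ * d θ) ∧ gal θ = θ}) := by
    have h := card_odd_fixed_of_involutive
      (fun θ : {θ : Cfsg.IrrCharacter N // Odd (m θ * d θ)} =>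
        (⟨gal θ.1, by rw [hmgal, hdgal]; exact θ.2⟩ : {θ : Cfsg.IrrCharacter N // Odd (m θ * d θ)}))
      (fun θ => Subtype.ext (hgg θ.1)) hX
    convert h using 1
    exact Nat.card_congr
      { toFun := fun θ => ⟨⟨θ.1, θ.2.1⟩, Subtype.ext θ.2.2⟩
        invFun := fun θ => ⟨θ.1.1, θ.1.2, congrArg Subtype.val θ.2⟩
        left_inv := fun θ => rfl
        right_inv := fun θ => rfl }
  have hgalconj : ∀ (g : G) θ, gal (CfsgLib.Blocks.conjIrr N g θ) = CfsgLib.Blocks.conjIrr N g (gal θ) :=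
    fun g θ => Subtype.ext (funext fun n => by
      rw [hgal, CfsgLib.Blocks.coe_conjIrr, CfsgLib.Blocks.coe_conjIrr]
      show (θ : N → ℂ) (CfsgLib.CharsMore.conjBy N g (n ^ k)) = _
      rw [map_pow]
      exact (hgal θ _).symm)
  let X1 := {θ : Cfsg.IrrCharacter N // Odd (m θ * d θ) ∧ gal θ = θ}
  letI : MulAction S X1 :=
    { smul := fun z θ => ⟨CfsgLib.Blocks.conjIrr N ((z : G)⁻¹) θ.1, by
          have h := hmconj z⁻¹ θ.1
          rw [Subgroup.coe_inv] at h
          rw [h, hdconj]; exact θ.2.1, by rw [hgalconj, θ.2.2]⟩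
      one_smul := fun θ => Subtype.ext (by
        show CfsgLib.Blocks.conjIrr N (((1 : S) : G)⁻¹) θ.1 = θ.1
        rw [OneMemClass.coe_one, inv_one, CfsgLib.Blocks.conjIrr_one])
      mul_smul := fun z w θ => Subtype.ext (by
        show CfsgLib.Blocks.conjIrr N (((z * w : S) : G)⁻¹) θ.1 =
          CfsgLib.Blocks.conjIrr N ((z : G)⁻¹) (CfsgLib.Blocks.conjIrr N ((w : G)⁻¹) θ.1)
        rw [← CfsgLib.Blocks.conjIrr_mul, Subgroup.coe_mul, mul_inv_rev]) }
  obtain ⟨⟨θ, hθodd, hθgal⟩, hθfix⟩ : ∃ θ : X1, ∀ z : S, z • θ = θ := by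
    have hm2 := P.2.card_modEq_card_fixedPoints X1
    have hne : (MulAction.fixedPoints S X1).Nonempty := by
      by_contra hcon
      rw [Set.not_nonempty_iff_eq_empty] at hcon
      rw [hcon, Nat.card_coe_set_eq, Set.ncard_empty, Nat.modEq_zero_iff_dvd] at hm2
      exact (Nat.not_even_iff_odd.mpr hX1) (even_iff_two_dvd.mpr hm2)
    obtain ⟨θ, hθ⟩ := hne
    exact ⟨θ, hθ⟩
  obtain ⟨hm_odd, hd_odd⟩ := Nat.odd_mul.mp hθodd
  -- invariance
  obtain ⟨a, ha⟩ := hidx
  have htop : N ⊔ S = ⊤ := by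
    rw [← Subgroup.index_eq_one]
    obtain ⟨j, -, hj⟩ := (Nat.dvd_prime_pow Nat.prime_two).mp
      (ha ▸ Subgroup.index_dvd_of_le (le_sup_left : N ≤ N ⊔ S))
    rcases j with _ | j
    · simpa using hj
    · exact absurd (Dvd.dvd.trans (Dvd.intro _ (by rw [hj, pow_succ']))
        (Subgroup.index_dvd_of_le (le_sup_right : S ≤ N ⊔ S))) P.not_dvd_index
  have hinv : ∀ g : G, CfsgLib.Blocks.conjIrr N g θ = θ := by
    intro g
    obtain ⟨n, hn, z, hz, rfl⟩ := Subgroup.mem_sup_of_normal_left.mp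
      (htop ▸ Subgroup.mem_top g : g ∈ N ⊔ S)
    have hzfix : CfsgLib.Blocks.conjIrr N z θ = θ := by
      have h := congrArg Subtype.val (hθfix ⟨z⁻¹, inv_mem hz⟩)
      change CfsgLib.Blocks.conjIrr N ((z⁻¹)⁻¹) θ = θ at h
      rwa [inv_inv] at h
    have hnfix : CfsgLib.Blocks.conjIrr N n θ = θ := Subtype.ext (funext fun y => by
      rw [CfsgLib.Blocks.coe_conjIrr]
      show (θ : N → ℂ) (CfsgLib.CharsMore.conjBy N n y) = _
      rw [show CfsgLib.CharsMore.conjBy N n y = (⟨n, hn⟩ : N) * y * (⟨n, hn⟩ : N)⁻¹ from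
        Subtype.ext (CfsgLib.CharsMore.coe_conjBy N n y)]
      exact CfsgLib.Chars.isClassFunction_irr θ y _)
    rw [CfsgLib.Blocks.conjIrr_mul, hnfix, hzfix]
  have hinv' : ∀ (g : G) (n : N),
      (θ : N → ℂ) ⟨g * n * g⁻¹, (inferInstance : N.Normal).conj_mem (n : G) n.2 g⟩ = (θ : N → ℂ) n := by
    intro g n
    have h := congrFun (congrArg Subtype.val (hinv g)) n
    rw [CfsgLib.Blocks.coe_conjIrr] at h
    refine Eq.trans (congrArg (θ : N → ℂ) (Subtype.ext ?_)) h
    exact (CfsgLib.CharsMore.coe_conjBy N g n).symm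
  -- the canonical extension
  have hdet : Odd (Cfsg.detOrder (θ : N → ℂ)) := by
    obtain ⟨r, ρ, hρ, hρχ⟩ := θ.2
    haveI := hρ
    rw [← hρχ, Cfsg.detOrder, CfsgLib.CharsMore.detChar_eq ρ rfl, CfsgLib.CharsMore.orderOf_linFun]
    refine Odd.of_dvd_nat hodd (orderOf_dvd_of_pow_eq_one (MonoidHom.ext fun n => ?_))
    rw [MonoidHom.pow_apply, ← map_pow]
    exact Abelianization.commutator_subset_ker (CfsgLib.CharsMore.detHom ρ)
      ((QuotientGroup.eq_one_iff _).mp (pow_card_eq_one' (x := Abelianization.of n)))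
  have hcopidx : ∀ j, Odd j → Nat.Coprime N.index j := fun j hj => by
    rw [ha]; exact Nat.Coprime.pow_left _ (Nat.coprime_two_left.mpr hj)
  obtain ⟨χ, ⟨hχ, hχN, hχdet⟩, huniq⟩ := Cfsg.Agent.S0867.result N (θ : N → ℂ) θ.2 hinv' (d θ)
    (CfsgLib.CharApps.deg_eq θ) (hcopidx _ (hdet.mul hd_odd))
  have hχgal : ∀ g, σ (χ g) = χ g := by
    have h := huniq (fun g => σ.toRingHom (χ g)) (CfsgLib.Chars.isIrrCharacter_ringHom _ hχ)
      (fun n => by
        show σ (χ n) = _
        rw [hχN]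
        exact congrFun (congrArg Subtype.val hθgal) n)
      (by rw [CfsgLib.Glauberman.detOrder_galois hχ, hχdet]; exact hcopidx _ hdet)
    exact fun g => congrFun h g
  have hχk : ∀ g, χ (g ^ k) = χ g := fun g => by
    rw [← CfsgLib.CharApps.galois_apply σ hσ (CfsgLib.Chars.isCharacter_of_irr hχ) g pow_card_eq_one',
      hχgal]
  -- restriction to the Sylow subgroup
  letI := Fintype.ofFinite S
  set Qp : Subgroup S := N.subgroupOf S with hQp
  letI := Fintype.ofFinite Qp
  haveI := Fintype.ofFinite (Cfsg.IrrCharacter S)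
  set lp : Qp →* ℂˣ := lam.comp Qp.subtype with hlp
  set ψ : S → ℂ := fun z => χ z with hψ
  have hψc : Cfsg.IsCharacter S ψ :=
    CfsgLib.Chars.isCharacter_restrict S (CfsgLib.Chars.isCharacter_of_irr hχ)
  choose A hA using fun η : Cfsg.IrrCharacter S =>
    CfsgLib.Chars.inner_char_nat hψc (CfsgLib.Chars.isCharacter_of_irr η.2)
  choose B hB using fun η : Cfsg.IrrCharacter S => CfsgLib.Chars.inner_char_nat
    (CfsgLib.Chars.isCharacter_restrict Qp (CfsgLib.Chars.isCharacter_of_irr η.2))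
    (CfsgLib.Chars.isCharacter_of_irr (CfsgLib.Chars.isIrrCharacter_linear lp))
  have htotal : m θ = ∑ η : Cfsg.IrrCharacter S, A η * B η := by
    have h : (m θ : ℂ) = ((∑ η : Cfsg.IrrCharacter S, A η * B η : ℕ) : ℂ) := by
      rw [← hm]
      let e : Qs ≃ Qp :=
        { toFun := fun q => ⟨⟨((q : N) : G), q.2⟩, (q : N).2⟩
          invFun := fun q => ⟨⟨((q : S) : G), q.2⟩, (q : S).2⟩
          left_inv := fun _ => rfl
          right_inv := fun _ => rfl }
      have h0 : Cfsg.classInner (fun q : Qs => (θ : N → ℂ) q) (fun q => (l q : ℂ)) =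
          Cfsg.classInner (fun q : Qp => ψ q) (fun q => (lp q : ℂ)) := by
        rw [CfsgLib.Chars.inner_def, CfsgLib.Chars.inner_def, Nat.card_congr e]
        refine congrArg _ (Fintype.sum_equiv e _ _ fun q => ?_)
        rw [← hχN]
        rfl
      have h1 : (fun q : Qp => ψ q) =
          ∑ η : Cfsg.IrrCharacter S, (A η : ℂ) • fun q : Qp => (η : S → ℂ) q := by
        funext q
        have h2 := congrFun (CfsgLib.Chars.classFun_eq_sum
          (CfsgLib.Chars.isClassFunction_of_isCharacter hψc)) (q : S)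
        rw [h2]
        simp [Finset.sum_apply, hA]
      rw [h0, h1, CfsgLib.Chars.inner_sum_left, Nat.cast_sum]
      refine Finset.sum_congr rfl fun η _ => ?_
      rw [CfsgLib.Chars.inner_smul_left, hB, Nat.cast_mul]
    exact_mod_cast h
  -- evenness
  let galS : Cfsg.IrrCharacter S → Cfsg.IrrCharacter S := fun η =>
    ⟨fun z => σ.toRingHom ((η : S → ℂ) z), CfsgLib.Chars.isIrrCharacter_ringHom _ η.2⟩
  have hgalS : ∀ η z, ((galS η : Cfsg.IrrCharacter S) : S → ℂ) z = (η : S → ℂ) z⁻¹ := fun η z => by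
    show σ ((η : S → ℂ) z) = _
    rw [CfsgLib.CharApps.galois_apply σ hσ (CfsgLib.Chars.isCharacter_of_irr η.2) z
      (orderOf_dvd_iff_pow_eq_one.mp ((orderOf_dvd_natCard z).trans
        (Subgroup.card_subgroup_dvd_card S))), hkP]
  have hAgal : ∀ η, A (galS η) = A η := fun η => by
    have h : (A (galS η) : ℂ) = (A η : ℂ) := by
      rw [← hA, ← hA, CfsgLib.Chars.inner_def, CfsgLib.Chars.inner_def]
      refine congrArg _ (Fintype.sum_equiv (Equiv.inv S) _ _ fun z => ?_)
      rw [hgalS, Equiv.inv_apply]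
      congr 1
      show χ z = χ ((z⁻¹ : S) : G)
      rw [← hkP z, Subgroup.coe_pow, hχk]
    exact_mod_cast h
  have hlpsq : ∀ q : Qp, (lp q)⁻¹ = lp q := fun q =>
    inv_eq_of_mul_eq_one_right (by rw [← pow_two]; exact hQ2 q q.2)
  have hBgal : ∀ η, B (galS η) = B η := fun η => by
    have h : (B (galS η) : ℂ) = (B η : ℂ) := by
      rw [← hB, ← hB, CfsgLib.Chars.inner_def, CfsgLib.Chars.inner_def]
      refine congrArg _ (Fintype.sum_equiv (Equiv.inv Qp) _ _ fun q => ?_)
      rw [Equiv.inv_apply, hgalS, Subgroup.coe_inv, map_inv, hlpsq]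
    exact_mod_cast h
  have hlpirr := CfsgLib.Chars.isIrrCharacter_linear lp
  have hlpinv : ∀ (z : S) (q : Qp), (lp (CfsgLib.CharsMore.conjBy Qp z q) : ℂ) = (lp q : ℂ) := by
    intro z q
    show (lam ((CfsgLib.CharsMore.conjBy Qp z q : Qp) : S) : ℂ) = (lam (q : S) : ℂ)
    rw [CfsgLib.CharsMore.coe_conjBy, map_mul, map_mul, map_inv, mul_comm (lam z),
      mul_inv_cancel_right]
  have hfixed : ∀ η, galS η = η → Even (A η * B η) := by
    intro η hη
    by_cases hB0 : B η = 0
    · simp [hB0]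
    have hne : Cfsg.classInner (fun q : Qp => (η : S → ℂ) q) (fun q => (lp q : ℂ)) ≠ 0 := by
      rw [hB]; exact Nat.cast_ne_zero.mpr hB0
    have hres := CfsgLib.CharsMore.restrict_eq_mul_of_invariant Qp η.2 hlpirr hlpinv hne
    have hdeg : (η : S → ℂ) 1 = (B η : ℂ) := by
      have h := hres 1
      rwa [map_one, Units.val_one, mul_one, hB, OneMemClass.coe_one] at h
    obtain ⟨n, hn0, hn, hdvd⟩ := CfsgLib.Chars.irr_degree_dvd_card η.2
    obtain ⟨j, hj⟩ := P.2.exists_card_eq
    obtain ⟨i, -, hi⟩ := (Nat.dvd_prime_pow Nat.prime_two).mp (hj ▸ hdvd)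
    have hBn : B η = 2 ^ i := by
      rw [← hi]; exact_mod_cast hdeg.symm.trans hn
    rcases i with _ | i
    · exfalso
      have h1 : (η : S → ℂ) 1 = 1 := by rw [hdeg, hBn]; norm_num
      obtain ⟨μ, hμ⟩ := CfsgLib.Chars.exists_hom_of_degree_one
        (CfsgLib.Chars.isCharacter_of_irr η.2) h1
      have hμsq : ∀ z : S, μ (z ^ 2) = 1 := fun z => by
        have h2 := congrFun (congrArg Subtype.val hη) z
        rw [hgalS, hμ] at h2
        have h3 : μ z⁻¹ = μ z := Units.ext h2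
        rw [map_pow, pow_two]
        nth_rw 1 [← h3]
        rw [← map_mul, inv_mul_cancel, map_one]
      obtain ⟨q, hqN, hq⟩ := hdecomp ⟨x0, hx0⟩
      haveI : (((S ⊓ N : Subgroup G)).subgroupOf S).Normal := by
        rw [inf_comm, Subgroup.inf_subgroupOf_right]; infer_instance
      have h4 : ((⟨x0, hx0⟩ : S) ^ 2) ∈
          ((S ⊓ N : Subgroup G)).subgroupOf S ⊔ (⁅S, S⁆).subgroupOf S := by
        rw [← Subgroup.subgroupOf_sup inf_le_left (Subgroup.commutator_le_self S),
          Subgroup.mem_subgroupOf, Subgroup.coe_pow]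
        exact hP x0 hx0
      obtain ⟨q', hq', c, hc, he⟩ := Subgroup.mem_sup_of_normal_left.mp h4
      apply hlamx
      have h5 : μ c = 1 := by
        have hc' : (c : G) ∈ ⁅S, S⁆ := hc
        rw [← Subgroup.map_subtype_commutator] at hc'
        obtain ⟨c', hc'', he'⟩ := hc'
        rw [← (Subtype.ext he' : c' = c)]
        exact Abelianization.commutator_subset_ker μ hc''
      have h6 : (μ q' : ℂ) = (lam q' : ℂ) := by
        have h7 := hres ⟨q', hq'.2⟩
        rw [hB, hBn, pow_zero, Nat.cast_one, one_mul] at h7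
        rw [hμ] at h7
        exact h7
      have h8 := hμsq ⟨x0, hx0⟩
      rw [← he, map_mul, h5, mul_one] at h8
      rw [← he, map_mul, hder c hc, mul_one]
      exact Units.ext (h6 ▸ congrArg Units.val h8)
    · rw [hBn, pow_succ]
      exact ((even_two).mul_left _).mul_left _
  have hev : Even (m θ) := by
    rw [← ZMod.natCast_eq_zero_iff_even, htotal, Nat.cast_sum,
      ← Finset.sum_filter_add_sum_filter_not Finset.univ (fun η => galS η = η)]
    rw [Finset.sum_eq_zero (s := Finset.univ.filter fun η => galS η = η) fun η hη =>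
      (ZMod.natCast_eq_zero_iff_even).mpr (hfixed η (Finset.mem_filter.mp hη).2), zero_add]
    have hinvS : Function.Involutive galS := fun η => Subtype.ext (funext fun z => by
      rw [hgalS, hgalS, inv_inv])
    refine Finset.sum_involution (fun η _ => galS η) (fun η _ => ?_) ?_ ?_ ?_
    · rw [hAgal, hBgal]; exact CharTwo.add_self_eq_zero _
    · exact fun η hη _ => (Finset.mem_filter.mp hη).2
    · intro η hη
      refine Finset.mem_filter.mpr ⟨Finset.mem_univ _, fun he => (Finset.mem_filter.mp hη).2 ?_⟩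
      rw [hinvS η] at he
      exact he.symm
    · exact fun η _ => hinvS η
  exact (Nat.not_even_iff_odd.mpr hm_odd) hev


/-- Let N be a normal subgroup of the finite group G, P a Sylow 2-subgroup of G and Q = P ∩ N. Suppose that P/QP' and Q/Q' are elementary abelian (every square of an element of P lies in the subgroup generated by Q and the derived subgroup of P, and every square of an element of Q lies in the derived subgroup of Q), and that the commutator factor group N/N' has odd order. Then P/P' is elementary abelian. -/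
theorem result {G : Type*} [Group G] [Finite G] (N : Subgroup G) [N.Normal] (P : Sylow 2 G)
    (hP : ∀ x ∈ (P : Subgroup G), x ^ 2 ∈ ((P : Subgroup G) ⊓ N) ⊔ ⁅(P : Subgroup G), (P : Subgroup G)⁆)
    (hQ : ∀ x ∈ (P : Subgroup G) ⊓ N, x ^ 2 ∈ ⁅(P : Subgroup G) ⊓ N, (P : Subgroup G) ⊓ N⁆)
    (hodd : Odd (Nat.card (Abelianization N))) :
    ∀ x ∈ (P : Subgroup G), x ^ 2 ∈ ⁅(P : Subgroup G), (P : Subgroup G)⁆ := by
  classical
  intro x hx
  set K : Subgroup G := (P : Subgroup G) ⊔ N with hK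
  have hPK : (P : Subgroup G) ≤ K := le_sup_left
  have hNK : N ≤ K := le_sup_right
  haveI : (N.subgroupOf K).Normal := inferInstance
  have hidx : ∃ a, (N.subgroupOf K).index = 2 ^ a := by
    obtain ⟨j, hj⟩ := P.2.exists_card_eq
    have h : (N.subgroupOf K).index ∣ 2 ^ j := by
      show N.relIndex ((P : Subgroup G) ⊔ N) ∣ _
      rw [Subgroup.relIndex_sup_right, ← hj]
      exact Subgroup.index_dvd_card _
    obtain ⟨a, -, ha⟩ := (Nat.dvd_prime_pow Nat.prime_two).mp h
    exact ⟨a, ha⟩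
  have hmap : ∀ A B : Subgroup G, A ≤ K → B ≤ K →
      (⁅A.subgroupOf K, B.subgroupOf K⁆).map K.subtype = ⁅A, B⁆ := fun A B hA hB => by
    rw [Subgroup.map_commutator, Subgroup.map_subgroupOf_eq_of_le hA,
      Subgroup.map_subgroupOf_eq_of_le hB]
  have hcoe : ((P.subtype hPK : Sylow 2 K) : Subgroup K) = (P : Subgroup G).subgroupOf K :=
    Sylow.coe_subtype _ _
  have hinj : Function.Injective K.subtype := K.subtype_injective
  have hPN : ((P : Subgroup G).subgroupOf K ⊓ N.subgroupOf K) =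
      ((P : Subgroup G) ⊓ N).subgroupOf K := (Subgroup.comap_inf _ _ _).symm
  have e : Nat.card (Abelianization (N.subgroupOf K)) = Nat.card (Abelianization N) :=
    Nat.card_congr (MulEquiv.abelianizationCongr (Subgroup.subgroupOfEquivOfLe hNK)).toEquiv
  have hres := transfer_elementary (N.subgroupOf K) hidx (P.subtype hPK) (fun z hz => ?_)
    (fun z hz => ?_) (e ▸ hodd) ⟨x, hPK hx⟩ (hcoe ▸ hx)
  · rw [hcoe] at hres
    have h := Subgroup.mem_map_of_mem K.subtype hres
    rw [hmap _ _ hPK hPK] at h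
    exact h
  · rw [hcoe] at hz ⊢
    rw [hPN, ← Subgroup.mem_map_iff_mem hinj, Subgroup.map_sup, hmap _ _ hPK hPK,
      Subgroup.map_subgroupOf_eq_of_le (inf_le_left.trans hPK)]
    exact hP _ hz
  · rw [hcoe, hPN] at hz ⊢
    rw [← Subgroup.mem_map_iff_mem hinj, hmap _ _ (inf_le_left.trans hPK) (inf_le_left.trans hPK)]
    exact hQ _ hz


end Cfsg.Agent.S4582
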