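import Cfsg.Statements.S4583
import Cfsg.Agent.Lib.Blocks.PrincipalCoeff
import Cfsg.Agent.Lib.Blocks.PrincipalExtension
import Cfsg.Agent.Lib.BlockOrth.InducedDegree

set_option autoImplicit false
open Cfsg Subgroup
open scoped Pointwise commutatorElement

namespace Cfsg.Agent.S4583

open CfsgLib CfsgLib.Chars CfsgLib.Blocks

/-- Let N be a normal subgroup of the finite group G, p a prime, M a maximal ideal of the algebraic integers containing p, and P a Sylow p-subgroup of G. Let θ be an irreducible character of N of degree prime to p lying in the principal p-block of N, and suppose θ extends to the subgroup NP (some irreducible character of NP restricts to θ). Then some irreducible character χ of G of degree prime to p in the principal p-block of G lies over θ (θ is a constituent of the restriction of χ to N). -/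
theorem result {G : Type*} [Group G] [Finite G] (N : Subgroup G) [N.Normal] (p : ℕ) [Fact p.Prime] (M : Ideal Cfsg.AlgInt) (hM : Cfsg.IsPModular p M) (P : Sylow p G)
    (θ : Cfsg.IrrCharacter N) (hθ : θ ∈ Cfsg.principalBlock M N) (hdeg : ¬ p ∣ Cfsg.charDegree (θ : N → ℂ))
    (hext : ∃ η : Cfsg.IrrCharacter ↥(N ⊔ (P : Subgroup G)), ∀ n : N, (η : ↥(N ⊔ (P : Subgroup G)) → ℂ) (Subgroup.inclusion le_sup_left n) = (θ : N → ℂ) n) :
    ∃ χ : Cfsg.IrrCharacter G, χ ∈ Cfsg.principalBlock M G ∧ ¬ p ∣ Cfsg.charDegree (χ : G → ℂ) ∧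
      haveI := Fintype.ofFinite N; Cfsg.classInner (fun n : N => (χ : G → ℂ) n) (θ : N → ℂ) ≠ 0 := by
  classical
  haveI := Fintype.ofFinite G
  haveI := Fintype.ofFinite N
  haveI := isPrime_of_isPModular hM
  haveI := irrFintype G
  have hpM := hM.2.2
  set H : Subgroup G := N ⊔ (P : Subgroup G) with hH
  haveI := Fintype.ofFinite H
  obtain ⟨η, hη⟩ := hext
  haveI := Fintype.ofFinite (N.subgroupOf H)
  have hNH : N ≤ H := le_sup_left
  obtain ⟨k, hk⟩ : ∃ k, (N.subgroupOf H).index = p ^ k := by
    show ∃ k, N.relIndex H = p ^ k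
    rw [hH, sup_comm, Subgroup.relIndex_sup_right]
    obtain ⟨n, hn⟩ := IsPGroup.iff_card.1 P.2
    obtain ⟨i, -, hi⟩ := (Nat.dvd_prime_pow Fact.out).1 (hn ▸ Subgroup.relIndex_dvd_card N (P : Subgroup G))
    exact ⟨i, hi⟩
  set B := principalBlock M G with hBdef
  have hB : IsPBlock M B := isPBlock_principalBlock M
  set aH : H → ℂ := fun h => blockCoeff B (h : G) with haH
  have haHl : IsLocClassFun M aH :=
    ⟨fun x y => by simpa [haH] using (isClassFunction_blockCoeff B) (x : G) (y : G),
      fun x => blockCoeff_mem_loc hB _⟩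
  -- the principal value
  have hone : ¬ MemLocalIdeal M (omega ((principal H : IrrCharacter H) : H → ℂ) aH) := by
    rw [omega_principal]
    have e : ∑ h : H, aH h = ∑ n : N, blockCoeff B (n : G) := by
      rw [← Finset.sum_subset (Finset.subset_univ (Finset.univ.filter fun h : H => (h : G) ∈ N))
        (fun h _ hh => by
          refine blockCoeff_eq_zero_of_dvd (p := p) Fact.out hpM hB (by_contra fun hr => hh ?_)
          refine Finset.mem_filter.2 ⟨Finset.mem_univ _, Subgroup.mem_subgroupOf.1
            (index_eq_pow_mem_of_regular (N := N.subgroupOf H) hk (g := h) ?_)⟩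
          rwa [← Subgroup.orderOf_coe])]
      exact Finset.sum_bij' (fun h hh => (⟨h, (Finset.mem_filter.1 hh).2⟩ : N))
        (fun n _ => ⟨n, hNH n.2⟩) (fun _ _ => Finset.mem_univ _)
        (fun n _ => Finset.mem_filter.2 ⟨Finset.mem_univ _, n.2⟩) (fun _ _ => rfl) (fun _ _ => rfl)
        (fun _ _ => rfl)
    rw [e]
    exact sum_blockCoeff_principal_not_mem hpM N
  -- `η` is in the principal block
  have hsame : SameBlock M ((principal H : IrrCharacter H) : H → ℂ) (η : H → ℂ) := by
    let θ' : IrrCharacter (N.subgroupOf H) := pullIrr (Subgroup.subgroupOfEquivOfLe hNH) θ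
    have hres : (fun n : N.subgroupOf H => (η : H → ℂ) n) = (θ' : N.subgroupOf H → ℂ) :=
      funext fun n => by rw [pullIrr_apply]; exact hη (Subgroup.subgroupOfEquivOfLe hNH n)
    refine sameBlock_of_covering_pow_index (N.subgroupOf H) hpM hk (θ := principal (N.subgroupOf H))
      (θ' := θ') ?_ (PrincExt.inner_restrict_principal _) ?_
    · have h1 := PrincExt.pullIrr_mem_principal (M := M) (Subgroup.subgroupOfEquivOfLe hNH) hθ
      rw [principalBlock_eq] at h1
      exact mem_blockOf.1 h1
    · rw [hres, inner_irr_self]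
      exact one_ne_zero
  have hval : ¬ MemLocalIdeal M (omega (η : H → ℂ) aH) := fun h => hone (by
    have h1 := MemLocalIdeal.add' h (omega_sub_mem hsame haHl)
    rwa [add_sub_cancel] at h1)
  -- the block part of the induced character
  set f := indFun H (η : H → ℂ) with hf
  have hchar := isCharacter_indFun H (isCharacter_of_irr η.2)
  have hratio : blockPart B f 1 = omega (η : H → ℂ) aH * f 1 := by
    have hne : ((Nat.card G : ℂ)) ≠ 0 := Nat.cast_ne_zero.2 Nat.card_pos.ne'
    have hneH : ((Nat.card H : ℂ)) ≠ 0 := Nat.cast_ne_zero.2 Nat.card_pos.ne'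
    have hη1 : (η : H → ℂ) 1 ≠ 0 := irr_degree_ne_zero η.2
    have hcl : IsClassFunction G (fun g => starRingEnd ℂ (blockCoeff B g)) :=
      fun g k => congrArg (starRingEnd ℂ) (isClassFunction_blockCoeff B g k)
    have hf' := inner_indFun H (η : H → ℂ) hcl
    simp only [inner_def, Complex.conj_conj] at hf'
    rw [← H.index_mul_card, Nat.cast_mul] at hf'
    rw [hf, blockPart_eq_sum B (isClassFunction_indFun H _), indFun_one_apply, omega]
    simp only [mul_one, haH]
    have e1 : ∑ g, blockCoeff B g * indFun H (η : H → ℂ) g =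
        ∑ g, indFun H (η : H → ℂ) g * blockCoeff B g := Finset.sum_congr rfl fun g _ => mul_comm _ _
    have e2 : ∑ h : H, blockCoeff B h * (η : H → ℂ) h =
        ∑ h : H, (η : H → ℂ) h * blockCoeff B h := Finset.sum_congr rfl fun g _ => mul_comm _ _
    rw [e1, e2]
    have hi : (H.index : ℂ) ≠ 0 := Nat.cast_ne_zero.2 Subgroup.index_ne_zero_of_finite
    field_simp at hf' ⊢
    linear_combination hf'
  have hd : ∃ d : ℕ, f 1 = d ∧ ¬ p ∣ d := by
    refine ⟨H.index * charDegree (θ : N → ℂ), ?_, ?_⟩
    · rw [hf, indFun_one_apply, Nat.cast_mul, ← CharApps.deg_eq θ, ← hη 1, map_one]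
    · rw [Nat.Prime.dvd_mul Fact.out]
      exact not_or.2 ⟨fun h => P.not_dvd_index (h.trans (Subgroup.index_dvd_of_le le_sup_right)), hdeg⟩
  obtain ⟨d, hd1, hd2⟩ := hd
  -- some constituent in the block has degree prime to `p`
  obtain ⟨χ, hχB, hχp, hχ0⟩ : ∃ χ ∈ B, ¬ p ∣ charDegree (χ : G → ℂ) ∧
      classInner f (χ : G → ℂ) ≠ 0 := by
    by_contra hcon
    push Not at hcon
    apply hval
    have hmem : MemLocalIdeal M (blockPart B f 1) := by
      rw [blockPart_apply_eq_sum]
      refine MemLocalIdeal.sum' fun χ hχ => ?_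
      obtain ⟨m, hm⟩ := inner_irr_right_nat hchar χ
      by_cases hdiv : p ∣ charDegree (χ : G → ℂ)
      · rw [hm, CharApps.deg_eq χ]
        exact MemLocalIdeal.mul_left' (natCast_mem_loc m)
          ((memLocalIdeal_natCast_iff Fact.out hpM _).2 hdiv)
      · rw [hcon χ (Finset.mem_filter.1 hχ).2 hdiv, zero_mul]
        exact MemLocalIdeal.zero'
    rw [hratio, hd1] at hmem
    exact (MemLocalIdeal.mem_or_mem (omega_mem_loc η haHl) (natCast_mem_loc d) hmem).resolve_right
      fun h => hd2 ((memLocalIdeal_natCast_iff Fact.out hpM d).1 h)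
  refine ⟨χ, hχB, hχp, ?_⟩
  have hχc := isCharacter_of_irr χ.2
  have hresc : IsCharacter H (fun h : H => (χ : G → ℂ) h) := isCharacter_restrict H hχc
  have h0 : classInner (fun h : H => (χ : G → ℂ) h) (η : H → ℂ) ≠ 0 := fun h => hχ0 (by
    rw [hf, inner_indFun H _ (isClassFunction_irr χ), ← inner_conj, h, map_zero])
  have h1 := CharsMore.inner_restrict_ge (Subgroup.inclusion hNH) hresc (isCharacter_of_irr θ.2) {η}
  rw [Finset.sum_singleton] at h1
  have hm : CharsMore.multNat ((η : H → ℂ) ∘ Subgroup.inclusion hNH) (θ : N → ℂ) = 1 := by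
    rw [show (η : H → ℂ) ∘ Subgroup.inclusion hNH = (θ : N → ℂ) from funext hη]
    have := CharsMore.inner_eq_multNat (isCharacter_of_irr θ.2) (isCharacter_of_irr θ.2)
    rw [inner_irr_self] at this
    exact_mod_cast this.symm
  rw [hm, mul_one] at h1
  intro hzero
  have h2 := CharsMore.inner_eq_multNat (isCharacter_comp (Subgroup.inclusion hNH) hresc)
    (isCharacter_of_irr θ.2)
  change classInner (fun n : N => (χ : G → ℂ) n) (θ : N → ℂ) =
    (CharsMore.multNat (fun n : N => (χ : G → ℂ) n) (θ : N → ℂ) : ℂ) at h2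
  change CharsMore.multNat (fun h : H => (χ : G → ℂ) h) (η : H → ℂ) ≤
    CharsMore.multNat (fun n : N => (χ : G → ℂ) n) (θ : N → ℂ) at h1
  have h3 : CharsMore.multNat (fun n : N => (χ : G → ℂ) n) (θ : N → ℂ) = 0 := by
    have h5 := h2.symm.trans ((Chars.inner_congr_inst (φ := fun n : N => (χ : G → ℂ) n) (ψ := (θ : N → ℂ)) _ _).trans hzero)
    exact_mod_cast h5
  have h4 := CharsMore.multNat_ne_zero hresc (isCharacter_of_irr η.2) h0
  omega


end Cfsg.Agent.S4583
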