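import Cfsg.Statements.S4584
import Cfsg.Agent.Lib.BlockOrth.OrderPFour

set_option autoImplicit false
open Cfsg Subgroup
open scoped Pointwise commutatorElement

namespace Cfsg.Agent.S4584

/-- Let p be a prime and P a group of order p^4. Then the derived subgroup P' has order p if and only if the centre Z(P) has index p^2 in P. -/
theorem result {P : Type*} [Group P] [Finite P] (p : ℕ) [Fact p.Prime] (hP : Nat.card P = p ^ 4) :
    Nat.card (commutator P) = p ↔ (Subgroup.center P).index = p ^ 2 := by
  have hp : p.Prime := Fact.out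
  have hG : IsPGroup p P := IsPGroup.of_card hP
  have hidx : ∀ n, n ≤ 4 → (Nat.card (center P) = p ^ n ↔ (center P).index = p ^ (4 - n)) := by
    intro n hn
    have h := (center P).card_mul_index
    have e : p ^ n * p ^ (4 - n) = p ^ 4 := by rw [← pow_add, Nat.add_sub_cancel' hn]
    rw [hP, ← e] at h
    constructor
    · intro hc; rw [hc] at h; exact Nat.eq_of_mul_eq_mul_left (pow_pos hp.pos _) h
    · intro hc; rw [hc] at h; exact Nat.eq_of_mul_eq_mul_right (pow_pos hp.pos _) h
  constructor
  · intro hc
    have hle : commutator P ≤ center P := CfsgLib.BlockOrth.le_center_of_card_eq_prime hG hc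
    have hcm : ∀ a b : P, ⁅a, b⁆ ∈ commutator P := fun a b =>
      commutator_mem_commutator (mem_top a) (mem_top b)
    have hne : center P ≠ ⊤ := by
      intro ht
      have : commutator P = ⊥ := by
        rw [commutator_def, commutator_eq_bot_iff_le_centralizer]
        intro x _
        rw [mem_centralizer_iff]
        intro y _
        exact mem_center_iff.mp (ht ▸ mem_top x) y
      rw [this, Subgroup.card_bot] at hc
      exact hp.ne_one hc.symm
    have hsq := CfsgLib.BlockOrth.index_center_sq_dvd_of_not_comm hG hne
    -- the centralizer of any non central element has index `p`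
    have hC : ∀ a : P, a ∉ center P → ∃ (f : P →* commutator P), (∀ b, (f b : P) = ⁅a, b⁆) ∧
        f.ker = centralizer ({a} : Set P) := by
      intro a _
      refine ⟨MonoidHom.mk' (fun b => ⟨⁅a, b⁆, hcm a b⟩) ?_, fun b => rfl, ?_⟩
      · intro b c
        apply Subtype.ext
        show ⁅a, b * c⁆ = ⁅a, b⁆ * ⁅a, c⁆
        have hz := mem_center_iff.mp (hle (hcm a c)) b
        calc ⁅a, b * c⁆ = ⁅a, b⁆ * (b * ⁅a, c⁆ * b⁻¹) := by
              simp only [commutatorElement_def]; group
          _ = ⁅a, b⁆ * ⁅a, c⁆ := by rw [hz]; group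
      · ext b
        simp only [MonoidHom.mem_ker, MonoidHom.mk'_apply, Subtype.ext_iff, OneMemClass.coe_one,
          mem_centralizer_singleton_iff, commutatorElement_eq_one_iff_mul_comm]
        exact eq_comm
    obtain ⟨k, hk0, hk⟩ := IsPGroup.card_center_eq_prime_pow hP (by norm_num)
    have hk4 : k ≤ 4 := by
      have := (center P).card_subgroup_dvd_card
      rw [hk, hP] at this
      exact Nat.pow_dvd_pow_iff_le_right hp.one_lt |>.mp this
    have hk2 : k ≤ 2 := by
      by_contra hlt
      rw [(hidx k hk4).mp hk] at hsq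
      have := Nat.pow_dvd_pow_iff_le_right hp.one_lt |>.mp hsq
      omega
    rcases Nat.lt_or_ge k 2 with hk1 | hk1
    swap
    · have : k = 2 := by omega
      subst this; exact (hidx 2 hk4).mp hk
    exfalso
    have hk1' : k = 1 := by omega
    subst hk1'
    obtain ⟨a, -, ha⟩ := SetLike.exists_of_lt (lt_top_iff_ne_top.mpr hne)
    have bound : ∀ a : P, a ∉ center P → p ^ 3 ≤ Nat.card (centralizer ({a} : Set P)) := by
      intro a ha
      obtain ⟨f, -, hf⟩ := hC a ha
      have h1 := (f.ker).card_mul_index
      rw [Subgroup.index_ker, hP, hf] at h1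
      have h2 : Nat.card f.range ≤ p := hc ▸ Subgroup.card_le_card_group f.range
      have : p ^ 3 * p ≤ Nat.card (centralizer ({a} : Set P)) * p := by
        rw [← pow_succ, show 3 + 1 = 4 from rfl, ← h1]
        exact Nat.mul_le_mul_left _ h2
      exact Nat.le_of_mul_le_mul_right this hp.pos
    set M := centralizer ({a} : Set P) with hM
    have hMcard := bound a ha
    have haM : a ∈ M := by rw [hM, mem_centralizer_singleton_iff]
    -- the subgroup `⟨a, Z⟩` is central in `M`
    have hZM : center P ≤ M := center_le_centralizer _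
    have hX : zpowers a ⊔ center P ≤ M := sup_le (zpowers_le.mpr haM) hZM
    have hXc : (zpowers a ⊔ center P).subgroupOf M ≤ center M := by
      rw [← Subgroup.map_le_map_iff_of_injective M.subtype_injective, Subgroup.subgroupOf,
        Subgroup.map_comap_eq, M.range_subtype, inf_eq_right.mpr hX]
      refine sup_le (zpowers_le.mpr ⟨⟨a, haM⟩, ?_, rfl⟩) ?_
      · rw [SetLike.mem_coe, mem_center_iff]
        intro g
        exact Subtype.ext (mem_centralizer_singleton_iff.mp g.2)
      · intro z hz
        refine ⟨⟨z, hZM hz⟩, ?_, rfl⟩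
        rw [SetLike.mem_coe, mem_center_iff]
        intro g
        exact Subtype.ext (mem_center_iff.mp hz g)
    have hXgt : center P < zpowers a ⊔ center P :=
      lt_of_le_of_ne le_sup_right fun h => ha (h ▸ mem_sup_left (mem_zpowers a))
    have hXp : p ^ 2 ≤ Nat.card (zpowers a ⊔ center P : Subgroup P) := by
      have hd := Subgroup.card_dvd_of_le hXgt.le
      obtain ⟨j, hj⟩ := IsPGroup.iff_card.mp (hG.to_subgroup (zpowers a ⊔ center P))
      rw [hj, hk] at hd
      rw [hj]
      refine Nat.pow_le_pow_right hp.pos ?_
      have h1 := Nat.pow_dvd_pow_iff_le_right hp.one_lt |>.mp hd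
      by_contra hj2
      have : j = 1 := by omega
      exact hXgt.ne (Subgroup.eq_of_le_of_card_ge hXgt.le (by rw [hj, hk, this]))
    have hMab : center M = ⊤ := by
      by_contra hne'
      have hp2 := CfsgLib.BlockOrth.index_center_sq_dvd_of_not_comm (hG.to_subgroup M) hne'
      have h1 := (center M).card_mul_index
      have hMle : Nat.card M ≤ p ^ 3 := by
        have hlt : M ≠ ⊤ := by
          intro ht
          exact ha (mem_center_iff.mpr fun g =>
            mem_centralizer_singleton_iff.mp (ht ▸ mem_top g : g ∈ M))
        obtain ⟨j, hj⟩ := IsPGroup.iff_card.mp (hG.to_subgroup M)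
        rw [hj]
        refine Nat.pow_le_pow_right hp.pos ?_
        have hd := M.card_subgroup_dvd_card
        rw [hj, hP] at hd
        have := Nat.pow_dvd_pow_iff_le_right hp.one_lt |>.mp hd
        by_contra h4
        have : j = 4 := by omega
        exact hlt (Subgroup.eq_top_of_card_eq _ (by rw [hj, hP, this]))
      have hc2 : p ^ 2 ≤ Nat.card (center M) := by
        refine hXp.trans ?_
        rw [← Nat.card_congr (Subgroup.subgroupOfEquivOfLe hX).toEquiv]
        exact Subgroup.card_le_of_le hXc
      have hi : p ^ 2 ≤ (center M).index := Nat.le_of_dvd (Nat.pos_of_ne_zero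
        Subgroup.index_ne_zero_of_finite) hp2
      have h4 : p ^ 4 ≤ p ^ 3 := by
        calc p ^ 4 = p ^ 2 * p ^ 2 := by ring
          _ ≤ Nat.card (center M) * (center M).index := Nat.mul_le_mul hc2 hi
          _ = Nat.card M := h1
          _ ≤ p ^ 3 := hMle
      exact absurd h4 (not_le.mpr (Nat.pow_lt_pow_right hp.one_lt (by norm_num)))
    -- now take `x` outside `M`
    have hlt : M ≠ ⊤ := fun ht => ha (mem_center_iff.mpr fun g =>
      mem_centralizer_singleton_iff.mp (ht ▸ mem_top g : g ∈ M))
    obtain ⟨x, -, hx⟩ := SetLike.exists_of_lt (lt_top_iff_ne_top.mpr hlt)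
    have hxZ : x ∉ center P := fun h => hx (hZM h)
    have hint : M ⊓ centralizer ({x} : Set P) ≤ center P := by
      rintro m ⟨hm, hmx⟩
      have hMle : M ≤ centralizer ({m} : Set P) := fun g hg => by
        rw [mem_centralizer_singleton_iff]
        have := mem_center_iff.mp (hMab ▸ mem_top (⟨m, hm⟩ : M)) ⟨g, hg⟩
        exact congrArg Subtype.val this
      have hxm : x ∈ centralizer ({m} : Set P) := by
        rw [mem_centralizer_singleton_iff]
        exact (mem_centralizer_singleton_iff.mp hmx).symm
      by_contra hmZ
      have hlt' : M < centralizer ({m} : Set P) :=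
        lt_of_le_of_ne hMle fun h => hx (h ▸ hxm)
      have htop : centralizer ({m} : Set P) ≠ ⊤ := fun ht => hmZ (mem_center_iff.mpr fun g =>
        mem_centralizer_singleton_iff.mp (ht ▸ mem_top g : g ∈ centralizer ({m} : Set P)))
      have hd := Subgroup.card_dvd_of_le hlt'.le
      obtain ⟨i, hi⟩ := IsPGroup.iff_card.mp (hG.to_subgroup M)
      obtain ⟨j, hj⟩ := IsPGroup.iff_card.mp (hG.to_subgroup (centralizer ({m} : Set P)))
      have hd2 := (centralizer ({m} : Set P)).card_subgroup_dvd_card
      rw [hi, hj] at hd
      rw [hj, hP] at hd2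
      have h3 : 3 ≤ i := (Nat.pow_le_pow_iff_right hp.one_lt).mp (hi ▸ hMcard)
      have h4 := Nat.pow_dvd_pow_iff_le_right hp.one_lt |>.mp hd
      have h5 := Nat.pow_dvd_pow_iff_le_right hp.one_lt |>.mp hd2
      rcases (show j = i ∨ j = 4 by omega) with h | h
      · exact hlt'.ne (Subgroup.eq_of_le_of_card_ge hlt'.le (by rw [hi, hj, h]))
      · exact htop (Subgroup.eq_top_of_card_eq _ (by rw [hj, hP, h]))
    have hcount : Nat.card M * Nat.card (centralizer ({x} : Set P)) ≤
        Nat.card (center P) * Nat.card P := by
      have hinj : Nat.card M ≤ Nat.card (M ⊓ centralizer ({x} : Set P) : Subgroup P) *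
          (centralizer ({x} : Set P)).index := by
        have h := ((centralizer ({x} : Set P)).subgroupOf M).card_mul_index
        rw [← h, Nat.card_congr ?_]
        · exact Nat.mul_le_mul_left _ (by
            show (centralizer ({x} : Set P)).relIndex M ≤ _
            refine Nat.le_of_mul_le_mul_right (c := M.index) ?_
              (Nat.pos_of_ne_zero Subgroup.index_ne_zero_of_finite)
            rw [← Subgroup.inf_relIndex_right, Subgroup.relIndex_mul_index inf_le_right]
            exact Subgroup.index_inf_le)
        · exact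
            { toFun := fun g => ⟨g.1.1, g.1.2, g.2⟩
              invFun := fun g => ⟨⟨g.1, g.2.1⟩, g.2.2⟩
              left_inv := fun g => rfl
              right_inv := fun g => rfl }
      calc Nat.card M * Nat.card (centralizer ({x} : Set P))
          ≤ Nat.card (M ⊓ centralizer ({x} : Set P) : Subgroup P) *
            (centralizer ({x} : Set P)).index * Nat.card (centralizer ({x} : Set P)) :=
            Nat.mul_le_mul_right _ hinj
        _ ≤ Nat.card (center P) * Nat.card P := by
            rw [mul_assoc, Subgroup.index_mul_card]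
            exact Nat.mul_le_mul_right _ (Subgroup.card_le_of_le hint)
    have h6 : p ^ 6 ≤ p ^ 5 := by
      calc p ^ 6 = p ^ 3 * p ^ 3 := by ring
        _ ≤ Nat.card M * Nat.card (centralizer ({x} : Set P)) :=
            Nat.mul_le_mul hMcard (bound x hxZ)
        _ ≤ Nat.card (center P) * Nat.card P := hcount
        _ = p ^ 5 := by rw [hk, hP]; ring
    exact absurd h6 (not_le.mpr (Nat.pow_lt_pow_right hp.one_lt (by norm_num)))
  · intro hi
    have hle : commutator P ≤ center P := by
      rw [← Normal.quotient_commutative_iff_commutator_le]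
      exact CfsgLib.BlockOrth.isMulCommutative_of_card_dvd_sq (p := p)
        (by rw [← Subgroup.index_eq_card, hi])
    have hcyc : ∃ a b : P, ∀ g : P, ∃ i j : ℕ, ∃ z ∈ center P, g = a ^ i * b ^ j * z := by
      have hne : center P ≠ ⊤ := fun h => by
        rw [h, index_top] at hi
        exact absurd hi.symm (ne_of_gt (Nat.one_lt_pow (by norm_num) hp.one_lt))
      obtain ⟨a, -, ha⟩ := SetLike.exists_of_lt (lt_top_iff_ne_top.mpr hne)
      let Q := P ⧸ center P
      have hQ : Nat.card Q = p ^ 2 := hi
      have hcQ : ∀ u v : Q, u * v = v * u :=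
        (IsPGroup.isMulCommutative_of_card_eq_prime_sq hQ).is_comm.comm
      have hA : zpowers (a : Q) ≠ ⊤ := by
        intro ht
        have : IsCyclic Q := ⟨⟨(a : Q), fun q => mem_zpowers_iff.mp (ht ▸ mem_top q)⟩⟩
        have := isMulCommutative_of_isCyclic_quotient_center_self P
        exact hne (eq_top_iff.mpr fun x _ => mem_center_iff.mpr fun y => this.is_comm.comm y x)
      obtain ⟨v, -, hv⟩ := SetLike.exists_of_lt (lt_top_iff_ne_top.mpr hA)
      obtain ⟨b, rfl⟩ := QuotientGroup.mk_surjective v
      refine ⟨a, b, fun g => ?_⟩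
      have : (zpowers (a : Q) ⊔ zpowers (b : Q)) = ⊤ := by
        apply Subgroup.eq_top_of_card_eq
        have hd := (zpowers (a : Q) ⊔ zpowers (b : Q)).card_subgroup_dvd_card
        rw [hQ] at hd
        obtain ⟨j, hj2, hj⟩ := (Nat.dvd_prime_pow hp).mp hd
        rw [hj, hQ]
        interval_cases j
        · exfalso
          have hb := Subgroup.eq_bot_of_card_eq _ (hj.trans (pow_zero p))
          exact ha ((QuotientGroup.eq_one_iff a).mp (Subgroup.mem_bot.mp
            (hb ▸ mem_sup_left (mem_zpowers (a : Q)))))
        · exfalso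
          have hA1 : Nat.card (zpowers (a : Q)) = p := by
            have hd := Subgroup.card_dvd_of_le (le_sup_left : zpowers (a : Q) ≤ zpowers (a : Q) ⊔ zpowers (b : Q))
            rw [hj, pow_one] at hd
            refine ((Nat.dvd_prime hp).mp hd).resolve_left fun h1 => ?_
            exact ha ((QuotientGroup.eq_one_iff a).mp
              (zpowers_eq_bot.mp (Subgroup.eq_bot_of_card_eq _ h1)))
          have := Subgroup.eq_of_le_of_card_ge
            (le_sup_left : zpowers (a : Q) ≤ zpowers (a : Q) ⊔ zpowers (b : Q))
            (by rw [hj, hA1, pow_one])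
          exact hv (this ▸ mem_sup_right (mem_zpowers (b : Q)))
        · rfl
      have hg : (g : Q) ∈ zpowers (a : Q) ⊔ zpowers (b : Q) := this ▸ mem_top _
      let : CommGroup Q := { (inferInstance : Group Q) with mul_comm := hcQ }
      classical
      obtain ⟨u, hu, w, hw, huw⟩ := mem_sup.mp hg
      obtain ⟨i, -, rfl⟩ := (mem_zpowers_iff_mem_range_orderOf.mp hu |> Finset.mem_image.mp)
      obtain ⟨j, -, rfl⟩ := (mem_zpowers_iff_mem_range_orderOf.mp hw |> Finset.mem_image.mp)
      refine ⟨i, j, (a ^ i * b ^ j)⁻¹ * g, ?_, by group⟩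
      exact QuotientGroup.eq.mp huw
    obtain ⟨a, b, hgen⟩ := hcyc
    set c := ⁅a, b⁆ with hcdef
    have hcc : c ∈ commutator P := commutator_mem_commutator (mem_top a) (mem_top b)
    have hcz : ∀ g, g * c = c * g := mem_center_iff.mp (hle hcc)
    have hle' : commutator P ≤ zpowers c := by
      have : (zpowers c).Normal := ⟨fun m hm g => by
        have hmz : m ∈ center P := zpowers_le.mpr (hle hcc) hm
        rw [mem_center_iff.mp hmz g, mul_inv_cancel_right]; exact hm⟩
      rw [← Normal.quotient_commutative_iff_commutator_le]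
      have hab : Commute (a : P ⧸ zpowers c) (b : P ⧸ zpowers c) := by
        rw [← commutatorElement_eq_one_iff_commute]
        exact (QuotientGroup.eq_one_iff c).mpr (mem_zpowers c)
      refine ⟨⟨fun x y => ?_⟩⟩
      obtain ⟨x, rfl⟩ := QuotientGroup.mk_surjective x
      obtain ⟨y, rfl⟩ := QuotientGroup.mk_surjective y
      obtain ⟨i, j, z, hz, rfl⟩ := hgen x
      obtain ⟨k, l, w, hw, rfl⟩ := hgen y
      have hzc : ∀ z ∈ center P, ∀ q : P ⧸ zpowers c, Commute (z : P ⧸ zpowers c) q := by
        intro z hz q
        obtain ⟨g, rfl⟩ := QuotientGroup.mk_surjective q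
        exact congrArg (QuotientGroup.mk (s := zpowers c)) (mem_center_iff.mp hz g).symm
      show Commute _ _
      simp only [QuotientGroup.mk_mul, QuotientGroup.mk_pow]
      refine ((((Commute.refl _).pow_pow i k).mul_right (hab.pow_pow i l)).mul_right
        ((hzc w hw _).symm)).mul_left ?_ |>.mul_left (hzc z hz _)
      exact (((hab.symm.pow_pow j k)).mul_right ((Commute.refl _).pow_pow j l)).mul_right
        ((hzc w hw _).symm)
    have hcp : c ^ p = 1 := by
      have hpow : ∀ n, ⁅a ^ n, b⁆ = c ^ n := by
        intro n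
        induction n with
        | zero => simp
        | succ n ih =>
          calc ⁅a ^ (n + 1), b⁆ = a * ⁅a ^ n, b⁆ * a⁻¹ * c := by
                rw [pow_succ']; simp only [hcdef, commutatorElement_def]; group
            _ = c ^ (n + 1) := by
                rw [ih, ((Commute.pow_right (hcz a) n).eq), mul_inv_cancel_right, ← pow_succ]
      have hap : a ^ p ∈ center P := by
        obtain ⟨i, j, z, hz, -⟩ := hgen 1
        have hord : (a : P ⧸ center P) ^ (p ^ 2) = 1 := by
          rw [← hi, Subgroup.index_eq_card]; exact pow_card_eq_one'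
        by_contra hh
        have hne' : (a : P ⧸ center P) ^ p ≠ 1 := fun h => hh ((QuotientGroup.eq_one_iff _).mp h)
        have : orderOf (a : P ⧸ center P) = p ^ 2 :=
          orderOf_eq_prime_pow (n := 1) (by simpa using hne') hord
        have : IsCyclic (P ⧸ center P) := isCyclic_of_orderOf_eq_card _ (by rw [this, ← hi, Subgroup.index_eq_card])
        have hcm := isMulCommutative_of_isCyclic_quotient_center_self P
        exact hh (mem_center_iff.mpr fun g => hcm.is_comm.comm g (a ^ p))
      rw [← hpow]
      exact commutatorElement_eq_one_iff_mul_comm.mpr (mem_center_iff.mp hap b).symm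
    have hd : Nat.card (commutator P) ∣ p := by
      refine (Subgroup.card_dvd_of_le hle').trans ?_
      rw [Nat.card_zpowers]
      exact orderOf_dvd_of_pow_eq_one hcp
    refine ((Nat.dvd_prime hp).mp hd).resolve_left fun h1 => ?_
    have hb := Subgroup.eq_bot_of_card_eq _ h1
    have : center P = ⊤ := eq_top_iff.mpr fun x _ => mem_center_iff.mpr fun y => by
      rw [← commutatorElement_eq_one_iff_mul_comm, ← Subgroup.mem_bot, ← hb]
      exact commutator_mem_commutator (mem_top y) (mem_top x)
    rw [this, index_top] at hi
    exact absurd hi.symm (ne_of_gt (Nat.one_lt_pow (by norm_num) hp.one_lt))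


end Cfsg.Agent.S4584
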