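import Cfsg.Statements.S4585
import Cfsg.Agent.Lib.BlockOrth.OrderPFour
import Cfsg.Agent.S4584

set_option autoImplicit false
open Cfsg Subgroup
open scoped Pointwise commutatorElement

namespace Cfsg.Agent.S4585

/-- Let p be a prime and P a group of order p^4. Then P' has index p^2 in P if and only if P has maximal nilpotency class, that is, nilpotency class exactly 3. -/
theorem result {P : Type*} [Group P] [Finite P] (p : ℕ) [Fact p.Prime] (hP : Nat.card P = p ^ 4) :
    (commutator P).index = p ^ 2 ↔ Group.nilpotencyClass P = 3 := by
  have hp : p.Prime := Fact.out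
  have hG : IsPGroup p P := IsPGroup.of_card hP
  have hnil : Group.IsNilpotent P := hG.isNilpotent
  have h84 := Cfsg.Agent.S4584.result p hP
  have hmul := (commutator P).card_mul_index
  rw [hP] at hmul
  have hnt : Nontrivial P := Finite.one_lt_card_iff_nontrivial.mp
    (by rw [hP]; exact Nat.one_lt_pow (by norm_num) hp.one_lt)
  have hne : commutator P ≠ ⊤ := Group.IsSolvable.commutator_lt_top_of_nontrivial P |>.ne
  -- class at most three
  have hle3 : Group.nilpotencyClass P ≤ 3 := by
    rw [Group.nilpotencyClass_eq_quotient_center_plus_one]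
    have hdvd : Nat.card (P ⧸ center P) ∣ p ^ 3 := by
      obtain ⟨k, hk0, hk⟩ := IsPGroup.card_center_eq_prime_pow hP (by norm_num)
      have h := (center P).card_mul_index
      rw [hP] at h
      rw [← Subgroup.index_eq_card]
      refine Nat.dvd_of_mul_dvd_mul_right hp.pos ?_
      rw [← pow_succ, show 3 + 1 = 4 from rfl, ← h, hk, mul_comm]
      exact mul_dvd_mul (dvd_pow_self p (by omega)) dvd_rfl
    have := CfsgLib.BlockOrth.commutator_le_center_of_card_dvd_cube (p := p) hdvd
    have h2 : Group.nilpotencyClass (P ⧸ center P) ≤ 2 := by
      rw [← Subgroup.upperCentralSeries_eq_top_iff_nilpotencyClass_le, eq_top_iff]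
      intro x _
      rw [Subgroup.mem_upperCentralSeries_succ_iff]
      intro y
      rw [Subgroup.upperCentralSeries_one]
      exact this (commutator_mem_commutator (mem_top x) (mem_top y))
    omega
  have key : Group.nilpotencyClass P ≤ 2 ↔ commutator P ≤ center P := by
    rw [← Subgroup.upperCentralSeries_eq_top_iff_nilpotencyClass_le, eq_top_iff]
    constructor
    · intro h
      rw [_root_.commutator_def, Subgroup.commutator_le]
      intro a _ b _
      have := Subgroup.mem_upperCentralSeries_succ_iff.mp (h (mem_top a)) b
      rw [Subgroup.upperCentralSeries_one] at this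
      exact this
    · intro h x _
      rw [Subgroup.mem_upperCentralSeries_succ_iff]
      intro y
      rw [Subgroup.upperCentralSeries_one]
      exact h (commutator_mem_commutator (mem_top x) (mem_top y))
  constructor
  · intro hi
    refine le_antisymm hle3 ?_
    by_contra h
    have hle := key.mp (by omega)
    have hcard : Nat.card (commutator P) = p ^ 2 := by
      rw [hi, show p ^ 4 = p ^ 2 * p ^ 2 by ring] at hmul
      exact Nat.eq_of_mul_eq_mul_right (pow_pos hp.pos _) hmul
    have hcne : center P ≠ ⊤ := by
      intro ht
      have : commutator P = ⊥ := by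
        rw [_root_.commutator_def, commutator_eq_bot_iff_le_centralizer]
        intro x _
        rw [mem_centralizer_iff]
        exact fun y _ => mem_center_iff.mp (ht ▸ mem_top x) y
      rw [this, Subgroup.card_bot] at hcard
      exact absurd hcard.symm (ne_of_gt (Nat.one_lt_pow (by norm_num) hp.one_lt))
    have h1 := CfsgLib.BlockOrth.index_center_sq_dvd_of_not_comm hG hcne
    have h2 : (center P).index = p ^ 2 := Nat.dvd_antisymm (hi ▸ Subgroup.index_dvd_of_le hle) h1
    rw [h84.mpr h2] at hcard
    have := Nat.pow_right_injective hp.two_le (show p ^ 1 = p ^ 2 by rw [pow_one]; exact hcard)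
    omega
  · intro hc
    have hnle : ¬ commutator P ≤ center P := fun h => by have := key.mpr h; omega
    obtain ⟨k, hk⟩ := IsPGroup.iff_card.mp (hG.to_subgroup (commutator P))
    have hk4 : k < 4 := by
      by_contra h4
      have hd := (commutator P).card_subgroup_dvd_card
      rw [hk, hP] at hd
      have := Nat.pow_dvd_pow_iff_le_right hp.one_lt |>.mp hd
      exact hne (Subgroup.eq_top_of_card_eq _ (by rw [hk, hP, show k = 4 by omega]))
    rw [hk] at hmul
    have hidx : (commutator P).index = p ^ (4 - k) := by
      rw [show p ^ 4 = p ^ k * p ^ (4 - k) by rw [← pow_add]; congr 1; omega] at hmul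
      exact Nat.eq_of_mul_eq_mul_left (pow_pos hp.pos _) hmul
    interval_cases k
    · exact absurd (by rw [Subgroup.eq_bot_of_card_eq _ (hk.trans (pow_zero p))]; exact bot_le) hnle
    · exact absurd (CfsgLib.BlockOrth.le_center_of_card_eq_prime hG (hk.trans (pow_one p))) hnle
    · exact hidx
    · exfalso
      -- then `P/P'` is cyclic, so the upper central series stops
      set Z := Subgroup.upperCentralSeries P 2 with hZ
      have hCle : commutator P ≤ Z := by
        rw [_root_.commutator_def, Subgroup.commutator_le]
        intro a _ b _
        have h3 : Subgroup.upperCentralSeries P 3 = ⊤ :=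
          Subgroup.upperCentralSeries_eq_top_iff_nilpotencyClass_le.mpr hc.le
        exact Subgroup.mem_upperCentralSeries_succ_iff.mp (h3 ▸ mem_top a) b
      have hZ2 : Z ≠ ⊤ := fun h => by
        have := Subgroup.upperCentralSeries_eq_top_iff_nilpotencyClass_le.mp h; omega
      have hZP : Z = commutator P := (le_antisymm hCle (by
        have hd := Subgroup.card_dvd_of_le hCle
        have hd2 := Z.card_subgroup_dvd_card
        obtain ⟨j, hj⟩ := IsPGroup.iff_card.mp (hG.to_subgroup Z)
        rw [hj, hk] at hd
        rw [hj, hP] at hd2
        have := Nat.pow_dvd_pow_iff_le_right hp.one_lt |>.mp hd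
        have := Nat.pow_dvd_pow_iff_le_right hp.one_lt |>.mp hd2
        have : j = 3 := by
          by_contra
          exact hZ2 (Subgroup.eq_top_of_card_eq _ (by rw [hj, hP, show j = 4 by omega]))
        exact le_of_eq (Subgroup.eq_of_le_of_card_ge hCle (by rw [hj, hk, this])).symm)).symm
      set Z1 := Subgroup.upperCentralSeries P 1 with hZ1
      have hcent : Z.map (QuotientGroup.mk' (center P)) ≤ center (P ⧸ center P) := by
        rintro _ ⟨x, hx, rfl⟩
        rw [mem_center_iff]
        intro q
        obtain ⟨y, rfl⟩ := QuotientGroup.mk_surjective q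
        have hxy := Subgroup.mem_upperCentralSeries_succ_iff.mp hx y
        rw [Subgroup.upperCentralSeries_one] at hxy
        exact (commutatorElement_eq_one_iff_mul_comm.mp
          ((QuotientGroup.eq_one_iff ⁅x, y⁆).mpr hxy)).symm
      have hidxc : (center (P ⧸ center P)).index ∣ p := by
        refine (Subgroup.index_dvd_of_le hcent).trans ?_
        refine (Subgroup.index_map_dvd _ (QuotientGroup.mk'_surjective _)).trans ?_
        rw [hZP, hidx]; simp
      rcases (Nat.dvd_prime hp).mp hidxc with h1 | h1
      · refine hnle ?_
        have : IsMulCommutative (P ⧸ center P) := ⟨⟨fun a b => mem_center_iff.mp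
          ((Subgroup.index_eq_one.mp h1) ▸ mem_top b) a⟩⟩
        exact Normal.quotient_commutative_iff_commutator_le.mp this
      · exact CfsgLib.BlockOrth.index_center_ne_prime h1


end Cfsg.Agent.S4585
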