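import Cfsg.Statements.S4586

set_option autoImplicit false
open Cfsg Subgroup
open scoped Pointwise commutatorElement

namespace Cfsg.Agent.S4586

/-- Let p be a prime, P a finite p-group and N a normal subgroup of P of index p. For x ∈ P write c(x) for the number of elements n of N whose commutator x n x⁻¹ n⁻¹ lies in the derived subgroup N' (so c(x)/#N' is the order of the centralizer of x acting on N/N'). Then [P : P'] = p² if and only if c(x) = p·#N' for every x ∈ P outside N, and also if and only if c(x) = p·#N' for some x ∈ P outside N. -/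
theorem result {P : Type*} [Group P] [Finite P] (p : ℕ) [Fact p.Prime] (hP : IsPGroup p P) (N : Subgroup P) [N.Normal] (hN : N.index = p) :
    ((commutator P).index = p ^ 2 ↔ ∀ x : P, x ∉ N →
        Nat.card {n : N // x * n * x⁻¹ * (n : P)⁻¹ ∈ (commutator N).map N.subtype} = p * Nat.card (commutator N)) ∧
    ((commutator P).index = p ^ 2 ↔ ∃ x : P, x ∉ N ∧
        Nat.card {n : N // x * n * x⁻¹ * (n : P)⁻¹ ∈ (commutator N).map N.subtype} = p * Nat.card (commutator N)) := by
  have hp : p.Prime := Fact.out
  suffices key : ∀ x : P, x ∉ N → ((commutator P).index = p ^ 2 ↔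
      Nat.card {n : N // x * n * x⁻¹ * (n : P)⁻¹ ∈ (commutator N).map N.subtype} =
        p * Nat.card (commutator N)) by
    have hex : ∃ x : P, x ∉ N := by
      by_contra h
      push Not at h
      rw [show N = ⊤ from eq_top_iff.mpr fun x _ => h x, index_top] at hN
      exact hp.ne_one hN.symm
    obtain ⟨x₀, hx₀⟩ := hex
    exact ⟨⟨fun h x hx => (key x hx).mp h, fun h => (key x₀ hx₀).mpr (h x₀ hx₀)⟩,
      ⟨fun h => ⟨x₀, hx₀, (key x₀ hx₀).mp h⟩, fun ⟨x, hx, h⟩ => (key x hx).mpr h⟩⟩
  intro x hx
  -- the endomorphism `n ↦ ⁅x, n⁆` of `N / N'`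
  let f : N →* Abelianization N := MonoidHom.mk'
    (fun n => Abelianization.of (MulAut.conjNormal x n) * (Abelianization.of n)⁻¹)
    (fun a b => by simp only [map_mul]; rw [mul_inv, mul_mul_mul_comm])
  have hfmem : ∀ n : N, f n = 1 ↔ x * n * x⁻¹ * (n : P)⁻¹ ∈ (commutator N).map N.subtype := by
    intro n
    have e : f n = Abelianization.of (MulAut.conjNormal x n * n⁻¹) := by
      simp [f, MonoidHom.mk'_apply]
    rw [e, ← MonoidHom.mem_ker, Abelianization.ker_of, mem_map]
    constructor
    · intro h; exact ⟨_, h, by simp [MulAut.conjNormal_apply]⟩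
    · rintro ⟨m, hm, he⟩
      have : m = MulAut.conjNormal x n * n⁻¹ := Subtype.ext (by
        simpa [MulAut.conjNormal_apply] using he)
      exact this ▸ hm
  have hcount : Nat.card {n : N // x * n * x⁻¹ * (n : P)⁻¹ ∈ (commutator N).map N.subtype} =
      Nat.card f.ker := Nat.card_congr (Equiv.subtypeEquivRight fun n => (hfmem n).symm)
  rw [hcount]
  -- the preimage of the image is the derived subgroup of `P`
  set K : Subgroup N := f.range.comap Abelianization.of with hK
  set L : Subgroup P := K.map N.subtype with hL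
  have hN'L : (commutator N).map N.subtype ≤ L := by
    refine map_mono fun n hn => ?_
    show Abelianization.of n ∈ f.range
    rw [(MonoidHom.mem_ker).mp ((Abelianization.ker_of (G := N)).symm ▸ hn)]
    exact one_mem _
  have hprime : (N.index).Prime := hN ▸ hp
  have hgen : ∀ g : P, ∃ n ∈ N, ∃ i : ℤ, g = n * x ^ i := by
    intro g
    have hQ : Nat.card (P ⧸ N) = p := hN
    have := mem_zpowers_of_prime_card hQ (g' := (g : P ⧸ N)) (g := (x : P ⧸ N))
      (fun h => hx ((QuotientGroup.eq_one_iff x).mp h))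
    obtain ⟨i, hi⟩ := mem_zpowers_iff.mp this
    refine ⟨g * (x ^ i)⁻¹, ?_, i, by group⟩
    rw [← QuotientGroup.eq_one_iff, QuotientGroup.mk_mul, QuotientGroup.mk_inv,
      QuotientGroup.mk_zpow, hi, mul_inv_cancel]
  have hmemL : ∀ n : N, x * n * x⁻¹ * (n : P)⁻¹ ∈ L := fun n =>
    ⟨MulAut.conjNormal x n * n⁻¹, ⟨n, by simp [f, MonoidHom.mk'_apply]⟩,
      by simp [MulAut.conjNormal_apply]⟩
  have hfx : ∀ n : N, f (MulAut.conjNormal x n) =
      Abelianization.map (MulAut.conjNormal x).toMonoidHom (f n) := by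
    intro n; simp [f, MonoidHom.mk'_apply]
  have hLnormal : L.Normal := by
    refine ⟨fun l hl g => ?_⟩
    obtain ⟨m, hm, i, rfl⟩ := hgen g
    have hNconj : ∀ l ∈ L, ∀ m ∈ N, m * l * m⁻¹ ∈ L := by
      rintro _ ⟨k, hk, rfl⟩ m hm
      refine ⟨⟨m, hm⟩ * k * ⟨m, hm⟩⁻¹, ?_, rfl⟩
      show Abelianization.of _ ∈ f.range
      rw [map_mul, map_mul, map_inv, mul_right_comm, mul_inv_cancel, one_mul]
      exact hk
    have hxconj : ∀ l ∈ L, x * l * x⁻¹ ∈ L := by
      rintro _ ⟨k, ⟨n, hn⟩, rfl⟩
      refine ⟨MulAut.conjNormal x k, ⟨MulAut.conjNormal x n, ?_⟩, by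
        simp [MulAut.conjNormal_apply]⟩
      rw [hfx, hn]; simp
    have hpow : ∀ k : ℕ, ∀ l ∈ L, x ^ k * l * (x ^ k)⁻¹ ∈ L := by
      intro k
      induction k with
      | zero => simp
      | succ k ih =>
        intro l hl
        have := hxconj _ (ih l hl)
        simpa [pow_succ', mul_assoc] using this
    obtain ⟨k, hk⟩ : ∃ k : ℕ, x ^ i = x ^ k := by
      have hmem : x ^ i ∈ zpowers x := mem_zpowers_iff.mpr ⟨i, rfl⟩
      obtain ⟨k, hk⟩ := (isOfFinOrder_of_finite x).mem_powers_iff_mem_zpowers.mpr hmem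
      exact ⟨k, hk.symm⟩
    have := hNconj _ (hpow k l hl) m hm
    rw [← hk] at this
    simpa [mul_assoc] using this
  have hLcomm : commutator P ≤ L := by
    rw [← Normal.quotient_commutative_iff_commutator_le]
    have hNN : ∀ a ∈ N, ∀ b ∈ N, Commute (a : P ⧸ L) (b : P ⧸ L) := fun a ha b hb => by
      rw [← commutatorElement_eq_one_iff_commute]
      exact (QuotientGroup.eq_one_iff ⁅a, b⁆).mpr (hN'L ⟨⁅(⟨a, ha⟩ : N), ⟨b, hb⟩⁆,
        commutator_mem_commutator (mem_top _) (mem_top _), rfl⟩)
    have hxN : ∀ a ∈ N, Commute (x : P ⧸ L) (a : P ⧸ L) := fun a ha => by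
      rw [← commutatorElement_eq_one_iff_commute]
      exact (QuotientGroup.eq_one_iff ⁅x, a⁆).mpr (hmemL ⟨a, ha⟩)
    refine ⟨⟨fun u v => ?_⟩⟩
    obtain ⟨g, rfl⟩ := QuotientGroup.mk_surjective u
    obtain ⟨h, rfl⟩ := QuotientGroup.mk_surjective v
    obtain ⟨a, ha, i, rfl⟩ := hgen g
    obtain ⟨b, hb, j, rfl⟩ := hgen h
    show Commute _ _
    simp only [QuotientGroup.mk_mul, QuotientGroup.mk_zpow]
    exact ((hNN a ha b hb).mul_right ((hxN a ha).symm.zpow_right j)).mul_left
      (((hxN b hb).zpow_left i).mul_right (((Commute.refl _).zpow_right j).zpow_left i))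
  have hLle : L ≤ commutator P := by
    rintro _ ⟨k, ⟨n, hn⟩, rfl⟩
    have hk : k * (MulAut.conjNormal x n * n⁻¹)⁻¹ ∈ commutator N := by
      rw [← Abelianization.ker_of, MonoidHom.mem_ker]
      simp only [map_mul, map_inv]
      rw [← hn]; simp [f, MonoidHom.mk'_apply]
    have h1 : N.subtype (k * (MulAut.conjNormal x n * n⁻¹)⁻¹) ∈ commutator P := by
      have : (commutator N).map N.subtype ≤ commutator P := by
        rw [map_subtype_commutator]; exact commutator_mono le_top le_top
      exact this (mem_map_of_mem _ hk)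
    have h2 : x * n * x⁻¹ * (n : P)⁻¹ ∈ commutator P :=
      commutator_mem_commutator (mem_top x) (mem_top (n : P))
    simpa [MulAut.conjNormal_apply, mul_assoc] using mul_mem h1 h2
  have hLeq : commutator P = L := le_antisymm hLcomm hLle
  -- index computation
  have hsurj : Function.Surjective (Abelianization.of (G := N)) := Quotient.mk_surjective
  have : Finite (Abelianization N) := Finite.of_surjective _ hsurj
  have hcardK : Nat.card K = Nat.card (commutator N) * Nat.card f.range := by
    have h := (commutator N).card_mul_index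
    have h2 := K.card_mul_index
    rw [hK, Subgroup.index_comap_of_surjective _ hsurj] at h2
    have h3 := f.range.card_mul_index
    have h4 : (commutator N).index = Nat.card (Abelianization N) := rfl
    rw [h4, ← h2, ← h3, ← mul_assoc] at h
    exact (Nat.eq_of_mul_eq_mul_right
      (Nat.pos_of_ne_zero Subgroup.index_ne_zero_of_finite) h).symm
  have hidx : (commutator P).index * Nat.card (commutator N) = p * Nat.card f.ker := by
    have h1 := (commutator P).card_mul_index
    rw [hLeq, Subgroup.card_map_of_injective N.subtype_injective, hcardK, ← hLeq] at h1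
    have h2 := N.card_mul_index
    rw [hN] at h2
    have h3 := f.ker.card_mul_index
    rw [Subgroup.index_ker] at h3
    apply Nat.eq_of_mul_eq_mul_right (Nat.card_pos (α := f.range))
    calc (commutator P).index * Nat.card (commutator N) * Nat.card f.range
        = Nat.card P := by rw [← h1]; ring
      _ = p * Nat.card f.ker * Nat.card f.range := by rw [← h2, ← h3]; ring
  constructor
  · intro h
    rw [h] at hidx
    apply Nat.eq_of_mul_eq_mul_left hp.pos
    rw [← hidx]; ring
  · intro h
    rw [h] at hidx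
    apply Nat.eq_of_mul_eq_mul_right (Nat.card_pos (α := commutator N))
    rw [hidx]; ring


end Cfsg.Agent.S4586
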