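import Cfsg.Statements.S4604
import Cfsg.Agent.Lib.BlockOrth.Integrality

set_option autoImplicit false
open Cfsg CfsgLib.BlockOrth CfsgLib.Blocks CfsgLib.Chars

namespace Cfsg.Agent.S4604

theorem pow_sub_pow_mem_span {G : Type*} [Group G] [Finite G] (p : ℕ) [hp : Fact p.Prime]
    {χ : G → ℂ} (hχ : Cfsg.IsCharacter G χ) {g y : G} (h : IsPPrimePart p g y) :
    ∃ γ : Cfsg.AlgInt, χ g ^ (p ^ (Nat.card G).factorization p) -
      χ y ^ (p ^ (Nat.card G).factorization p) = (p : ℂ) * (γ : ℂ) := by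
  set a := (Nat.card G).factorization p
  obtain ⟨d, ρ, rfl⟩ := hχ
  obtain ⟨b, μ, hμ, -, hb, -, htr, -⟩ := exists_eigenbasis_rep ρ g
  obtain ⟨n, hn⟩ := h.exists_pow
  have hb' : ∀ m i, ρ (g ^ m) (b i) = μ i ^ m • b i := by
    intro m i
    induction m with
    | zero => simp
    | succ m ih =>
      rw [pow_succ', map_mul, Module.End.mul_apply, ih, map_smul, hb, smul_smul, pow_succ]
  have htr' : ρ.character y = ∑ i, μ i ^ n := by
    rw [← hn]
    exact trace_eq_sum_of_eigenbasis _ b _ (hb' n)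
  obtain ⟨u, h1, h2, ⟨k, h3⟩, -⟩ := h
  have hka : k ≤ a := by
    rw [← hp.out.pow_dvd_iff_le_factorization Nat.card_pos.ne', ← h3]
    exact orderOf_dvd_natCard u
  have hpow : ∀ i, μ i ^ (p ^ a) = (μ i ^ n) ^ (p ^ a) := by
    intro i
    have hu : u ^ (p ^ a) = 1 := orderOf_dvd_iff_pow_eq_one.mp (h3 ▸ pow_dvd_pow p hka)
    have e : g ^ (p ^ a) = g ^ (n * p ^ a) := by
      rw [pow_mul, hn]
      conv_lhs => rw [← h1, h2.mul_pow, hu, one_mul]
    have h5 : μ i ^ (p ^ a) • b i = μ i ^ (n * p ^ a) • b i := by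
      rw [← hb', ← hb', e]
    rw [← pow_mul]
    exact smul_left_injective ℂ (b.ne_zero i) h5
  have hint : ∀ i, IsIntegral ℤ (μ i) := fun i => by
    refine IsIntegral.of_pow (orderOf_pos g) ?_
    rw [hμ i]
    exact isIntegral_one
  let ν : Fin (Module.finrank ℂ (Fin d → ℂ)) → Cfsg.AlgInt := fun i => ⟨μ i, hint i⟩
  obtain ⟨M, hM, hpM⟩ := exists_maximal_above p
  haveI : CharP (Cfsg.AlgInt ⧸ Ideal.span {((p : Cfsg.AlgInt))}) p := by
    haveI : Nontrivial (Cfsg.AlgInt ⧸ Ideal.span {((p : Cfsg.AlgInt))}) :=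
      Ideal.Quotient.nontrivial_iff.mpr fun ht => hM.ne_top
        (top_le_iff.mp (ht ▸ (Ideal.span_singleton_le_iff_mem M).mpr hpM))
    refine CharP.quotient Cfsg.AlgInt p fun hu => ?_
    exact hM.ne_top (Ideal.eq_top_of_isUnit_mem M hpM hu)
  have hq : Ideal.Quotient.mk (Ideal.span {((p : Cfsg.AlgInt))}) ((∑ i, ν i) ^ (p ^ a)) =
      Ideal.Quotient.mk (Ideal.span {((p : Cfsg.AlgInt))}) ((∑ i, ν i ^ n) ^ (p ^ a)) := by
    simp only [map_pow, map_sum, sum_pow_char_pow]
    refine Finset.sum_congr rfl fun i _ => ?_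
    rw [← map_pow, ← map_pow, ← map_pow]
    exact congrArg _ (Subtype.ext (by simpa [ν] using hpow i))
  obtain ⟨γ, hγ⟩ := Ideal.mem_span_singleton'.mp (Ideal.Quotient.eq.mp hq)
  refine ⟨γ, ?_⟩
  have := congrArg (fun z : Cfsg.AlgInt => (z : ℂ)) hγ
  push_cast [ν] at this
  rw [htr, htr', ← this]
  ring

/-- Let G be a finite group, p a prime and p^a the p-part of the order of G. Let x, y ∈ G and let x′, y′ be their p-regular parts: x′ has order prime to p, commutes with x·x′⁻¹, and x·x′⁻¹ has p-power order (likewise for y). Then x′ and y′ are conjugate in G if and only if for every irreducible character χ of G the algebraic integer χ(x)^(p^a) − χ(y)^(p^a) is p times an algebraic integer. -/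
theorem result {G : Type*} [Group G] [Finite G] (p : ℕ) [Fact p.Prime] (x y x' y' : G)
    (hx : (∃ k : ℕ, orderOf (x * x'⁻¹) = p ^ k) ∧ Commute (x * x'⁻¹) x' ∧ ¬ p ∣ orderOf x')
    (hy : (∃ k : ℕ, orderOf (y * y'⁻¹) = p ^ k) ∧ Commute (y * y'⁻¹) y' ∧ ¬ p ∣ orderOf y') :
    IsConj x' y' ↔ ∀ χ : Cfsg.IrrCharacter G, ∃ γ : Cfsg.AlgInt,
      (χ : G → ℂ) x ^ (p ^ (Nat.card G).factorization p) - (χ : G → ℂ) y ^ (p ^ (Nat.card G).factorization p) = (p : ℂ) * (γ : ℂ) := by
  classical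
  haveI := Fintype.ofFinite G
  obtain ⟨hx1, hx2, hx3⟩ := hx
  obtain ⟨hy1, hy2, hy3⟩ := hy
  have hpx : IsPPrimePart p x x' := ⟨x * x'⁻¹, inv_mul_cancel_right x x', hx2, hx1, hx3⟩
  have hpy : IsPPrimePart p y y' := ⟨y * y'⁻¹, inv_mul_cancel_right y y', hy2, hy1, hy3⟩
  constructor
  · intro hc χ
    obtain ⟨γ, hγ⟩ := pow_sub_pow_mem_span p (isCharacter_of_irr χ.2) hpx
    obtain ⟨δ, hδ⟩ := pow_sub_pow_mem_span p (isCharacter_of_irr χ.2) hpy
    obtain ⟨c, hc'⟩ := isConj_iff.1 hc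
    have he : (χ : G → ℂ) x' = (χ : G → ℂ) y' := by
      rw [← hc']
      exact (isClassFunction_irr χ x' c).symm
    refine ⟨γ - δ, ?_⟩
    rw [he] at hγ
    push_cast
    linear_combination hγ - hδ
  · intro hall
    obtain ⟨M, hM, hpM⟩ := exists_maximal_above p
    haveI := hM.isPrime
    by_contra hc
    have hspan := inCharSpan_section_indicator (M := M) hpM x' hx3
    haveI := irrFintype G
    refine not_memLocalIdeal_one (M := M) ?_
    have hkey : MemLocalIdeal M
        ((fun z => if IsConj x' (pPrimePart p z) then (1 : ℂ) else 0) x' -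
          (fun z => if IsConj x' (pPrimePart p z) then (1 : ℂ) else 0) y') := by
      rw [show (fun z => if IsConj x' (pPrimePart p z) then (1 : ℂ) else 0) x' = _ from hspan.eq_sum x',
        show (fun z => if IsConj x' (pPrimePart p z) then (1 : ℂ) else 0) y' = _ from hspan.eq_sum y',
        ← Finset.sum_sub_distrib]
      refine MemLocalIdeal.sum' fun χ _ => ?_
      rw [← mul_sub]
      refine MemLocalIdeal.mul_left' (hspan.2 χ) ?_
      obtain ⟨γ, hγ⟩ := pow_sub_pow_mem_span p (isCharacter_of_irr χ.2) hpx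
      obtain ⟨δ, hδ⟩ := pow_sub_pow_mem_span p (isCharacter_of_irr χ.2) hpy
      obtain ⟨ε, hε⟩ := hall χ
      have hi : ∀ z : G, (χ : G → ℂ) z ∈ loc M := fun z => isIntegral_mem_loc (char_isIntegral (isCharacter_of_irr χ.2) z)
      haveI : CharP (IsLocalRing.ResidueField (loc M)) p := charP_residueField Fact.out hpM
      have hdiff : MemLocalIdeal M ((χ : G → ℂ) x' ^ (p ^ (Nat.card G).factorization p) -
          (χ : G → ℂ) y' ^ (p ^ (Nat.card G).factorization p)) := by
        rw [show (χ : G → ℂ) x' ^ (p ^ (Nat.card G).factorization p) -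
          (χ : G → ℂ) y' ^ (p ^ (Nat.card G).factorization p) =
            (p : ℂ) * ((ε : ℂ) + (δ : ℂ) - (γ : ℂ)) by linear_combination hε + hδ - hγ]
        exact MemLocalIdeal.mul_right' (memLocalIdeal_prime hpM)
          (sub_mem (add_mem (algInt_mem_loc ε) (algInt_mem_loc δ)) (algInt_mem_loc γ))
      have h1 : red (⟨_, hi x'⟩ : loc M) ^ (p ^ (Nat.card G).factorization p) =
          red (⟨_, hi y'⟩ : loc M) ^ (p ^ (Nat.card G).factorization p) := by
        rw [← sub_eq_zero, ← map_pow, ← map_pow, ← map_sub, red_eq_zero_iff]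
        exact hdiff
      have h2 : red (⟨_, hi x'⟩ : loc M) = red (⟨_, hi y'⟩ : loc M) := by
        apply iterateFrobenius_inj (IsLocalRing.ResidueField (loc M)) p
          ((Nat.card G).factorization p)
        simpa [iterateFrobenius_def] using h1
      rw [← sub_eq_zero, ← map_sub, red_eq_zero_iff] at h2
      exact h2
    simp only [pPrimePart_of_regular hx3, pPrimePart_of_regular hy3, if_pos (IsConj.refl x'), if_neg hc, sub_zero] at hkey
    exact hkey

end Cfsg.Agent.S4604
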