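import Cfsg.Statements.S4733
import Cfsg.Agent.Lib.BlockOrth.BrauerFeit
import Cfsg.Agent.Lib.BlockOrth.Dimension
import Cfsg.Agent.Lib.CharApps.Basic

set_option autoImplicit false
open Cfsg

namespace Cfsg.Agent.S4733

/-- Let p be a prime, M a maximal ideal of the algebraic integers containing p, and B a p-block of the finite group G with k irreducible characters and p-regular rank l (the number of irreducible Brauer characters). Then l ≤ k, and the following are equivalent: B has defect 0; k = l = 1; k = l. -/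
theorem result {G : Type*} [Group G] [Finite G] (p : ℕ) [Fact p.Prime] (M : Ideal Cfsg.AlgInt) (hM : Cfsg.IsPModular p M) (B : Set (Cfsg.IrrCharacter G)) (hB : Cfsg.IsPBlock M B) : Cfsg.blockRank p B ≤ Nat.card B ∧ (Cfsg.blockDefect p B = 0 ↔ (Nat.card B = 1 ∧ Cfsg.blockRank p B = 1)) ∧ (Cfsg.blockDefect p B = 0 ↔ Nat.card B = Cfsg.blockRank p B) := by
  classical
  haveI := Fintype.ofFinite G
  haveI := hM.2.1.isPrime
  haveI := CfsgLib.Chars.irrFintype G
  have hp := (Fact.out : p.Prime)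
  set d := Cfsg.blockDefect p B
  have hle : Cfsg.blockRank p B ≤ Nat.card B := by
    rw [Cfsg.blockRank, Nat.card_eq_fintype_card, Set.image_eq_range]
    exact finrank_range_le_card _
  obtain ⟨χ₀, hχ₀, h0⟩ := CfsgLib.BlockOrth.exists_blockHeight_eq_zero (p := p) hB
  have hAB : d = 0 → Nat.card B = 1 ∧ Cfsg.blockRank p B = 1 := by
    intro hd
    have h := CfsgLib.BlockOrth.four_mul_card_le (p := p) hM.2.2 hB
    rw [show Cfsg.blockDefect p B = 0 from hd] at h
    simp only [mul_zero, pow_zero] at h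
    haveI : Nonempty B := ⟨⟨χ₀, hχ₀⟩⟩
    have hk : Nat.card B = 1 := le_antisymm (by omega) Nat.card_pos
    refine ⟨hk, le_antisymm (hle.trans_eq hk) ?_⟩
    rw [Nat.one_le_iff_ne_zero, Cfsg.blockRank]
    intro hr
    have hbot := Submodule.finrank_eq_zero.mp hr
    have hmem : Cfsg.pRegularPart p (χ₀ : G → ℂ) = 0 :=
      Submodule.span_eq_bot.mp hbot _ ⟨χ₀, hχ₀, rfl⟩
    have := congrFun hmem 1
    rw [CfsgLib.BlockOrth.pRegularPart_apply, if_pos (by simpa using hp.ne_one)] at this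
    exact CfsgLib.CharApps.deg_ne_zero χ₀ this
  have hCA : Nat.card B = Cfsg.blockRank p B → d = 0 := by
    intro he
    have hsum := CfsgLib.BlockOrth.blockRank_eq_sum (p := p) (B := B) hM.2.2 hB
    rw [← he, Nat.card_eq_fintype_card, Fintype.card_subtype] at hsum
    have hbd : ∀ χ ∈ B, CfsgLib.BlockOrth.dInt p B χ χ ≤ (p : ℤ) ^ d := by
      intro χ hχ
      have h := CfsgLib.BlockOrth.sum_dInt_sq_erase (p := p) hM.2.2 hB hχ
      have hnn : (0 : ℤ) ≤ CfsgLib.BlockOrth.dInt p B χ χ *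
          ((p : ℤ) ^ d - CfsgLib.BlockOrth.dInt p B χ χ) :=
        h ▸ Finset.sum_nonneg fun ξ _ => sq_nonneg _
      nlinarith [pow_nonneg (Int.natCast_nonneg p) d]
    have htot : ∑ χ ∈ Finset.univ.filter (· ∈ B),
        ((p : ℤ) ^ d - CfsgLib.BlockOrth.dInt p B χ χ) = 0 := by
      have : ((∑ χ ∈ Finset.univ.filter (· ∈ B),
          ((p : ℤ) ^ d - CfsgLib.BlockOrth.dInt p B χ χ) : ℤ) : ℂ) = 0 := by
        push_cast
        rw [Finset.sum_sub_distrib, Finset.sum_const, nsmul_eq_mul, hsum, Finset.sum_mul,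
          ← Finset.sum_sub_distrib]
        refine Finset.sum_eq_zero fun χ hχ => ?_
        rw [CfsgLib.BlockOrth.dInt_spec hM.2.2 (Finset.mem_filter.mp hχ).2]
        push_cast
        ring
      exact_mod_cast this
    have hall := (Finset.sum_eq_zero_iff_of_nonneg fun χ hχ =>
      sub_nonneg.mpr (hbd χ (Finset.mem_filter.mp hχ).2)).mp htot χ₀
      (Finset.mem_filter.mpr ⟨Finset.mem_univ _, hχ₀⟩)
    have hnd := CfsgLib.BlockOrth.not_pow_succ_height_dvd_dInt (p := p) hM.2.2 hB hχ₀ hχ₀ h0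
    rw [h0, zero_add, pow_one, ← sub_eq_zero.mp hall] at hnd
    by_contra hd
    exact hnd (dvd_pow_self _ hd)
  exact ⟨hle, ⟨hAB, fun h => hCA (h.1.trans h.2.symm)⟩,
    ⟨fun h => (hAB h).1.trans (hAB h).2.symm, hCA⟩⟩

end Cfsg.Agent.S4733
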