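import Cfsg.Statements.S4607
import Cfsg.Agent.Lib.Blocks.TwoChars
import Cfsg.Agent.Lib.Blocks.CountBound
import Cfsg.Agent.Lib.Blocks.TrivialInertia
import Cfsg.Agent.Lib.BlockOrth.DefectOrder
import Cfsg.Agent.S4733

set_option autoImplicit false
open Cfsg

set_option linter.style.haveILetI false

namespace Cfsg.Agent.S4607

/-- Let G be a finite group, p a prime, M a maximal ideal of the algebraic integers containing p, and B a p-block of G with defect group D. Then B contains exactly two irreducible characters if and only if D has order 2. -/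
theorem result {G : Type*} [Group G] [Finite G] (p : ℕ) [Fact p.Prime] (M : Ideal Cfsg.AlgInt) (hM : Cfsg.IsPModular p M) (B : Set (Cfsg.IrrCharacter G)) (hB : Cfsg.IsPBlock M B) (D : Subgroup G) (hD : Cfsg.IsDefectGroup p M B D) : Nat.card B = 2 ↔ Nat.card D = 2 := by
  classical
  haveI := Fintype.ofFinite G
  haveI := hM.2.1.isPrime
  have hp := (Fact.out : p.Prime)
  haveI := CfsgLib.Chars.irrFintype G
  have hcard : Nat.card D = p ^ blockDefect p B :=
    CfsgLib.BlockOrth.card_defectGroup hM.2.2 hB hD
  obtain ⟨hle, hd0, hdk⟩ := S4733.result p M hM B hB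
  have hl1 : 1 ≤ blockRank p B := CfsgLib.Blocks.one_le_blockRank hB
  rw [hcard]
  constructor
  · intro hk
    have hd : blockDefect p B ≠ 0 := fun h => by
      have := (hd0.1 h).1
      omega
    have hl : blockRank p B = 1 := by
      have := mt hdk.2 hd
      omega
    have h := CfsgLib.Blocks.pow_defect_le_card hM.2.2 hB hl (Or.inl (by omega))
    have : 2 ≤ p ^ blockDefect p B :=
      hp.two_le.trans (Nat.le_self_pow hd p)
    omega
  · intro h2
    have hd : blockDefect p B ≠ 0 := fun h => by
      rw [h, pow_zero] at h2
      omega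
    have hd2 : blockDefect p B ≤ 2 := by
      have := Nat.lt_pow_self (n := blockDefect p B) hp.one_lt
      omega
    have h := (CfsgLib.Blocks.card_block_le_pow hM (blockDefect p B) G B hB rfl).1 hd2
    have := mt hdk.2 hd
    omega

end Cfsg.Agent.S4607
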