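import Cfsg.Statements.S4611
import Cfsg.Agent.S4492
import Cfsg.Agent.Lib.Blocks.PrincipalExtension
import Cfsg.Agent.Lib.PLocal.Constrained

set_option autoImplicit false
open Cfsg Subgroup
open scoped Pointwise commutatorElement

namespace Cfsg.Agent.S4611

open CfsgLib CfsgLib.Chars CfsgLib.Blocks

theorem mem_principal_iff {G : Type*} [Group G] [Finite G] [Group.IsSolvable G] {p : ℕ}
    [Fact p.Prime] {M : Ideal AlgInt} (hM : IsPModular p M) (χ : IrrCharacter G) :
    χ ∈ principalBlock M G ↔ ∀ n ∈ pPrimeCore p G, (χ : G → ℂ) n = (χ : G → ℂ) 1 := by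
  classical
  haveI := Fintype.ofFinite G
  haveI := isPrime_of_isPModular hM
  haveI := Fintype.ofFinite (pPrimeCore p G)
  set N := pPrimeCore p G
  obtain ⟨B, hB, hBm, -, -⟩ := Cfsg.Agent.S4492.result p M hM CfsgLib.PLocal.isPSolvable_of_isSolvable
    N rfl (principal N) fun _ _ => rfl
  have h1 : principal G ∈ B := (hBm _).2 (PrincExt.inner_restrict_principal N)
  have he : B = principalBlock M G :=
    IsPBlock.eq_of_mem hB (isPBlock_principalBlock M) h1 (principal_mem_principalBlock M)
  rw [← he, hBm]
  constructor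
  · intro h n hn
    have hr := fun m : N => CharsMore.restrict_eq_mul_of_invariant N χ.2 (principal N).2
      (fun _ _ => rfl) h m
    have a := hr ⟨n, hn⟩
    have b := hr 1
    simp only [principal_apply, OneMemClass.coe_one] at a b
    rw [a, b]
  · intro h
    rw [show (fun n : N => (χ : G → ℂ) n) = (χ : G → ℂ) 1 • (principal N : N → ℂ) from
      funext fun n => by rw [h n n.2, Pi.smul_apply, principal_apply, smul_eq_mul, mul_one],
      Chars.inner_smul_left, inner_irr_self, mul_one]
    exact irr_degree_ne_zero χ.2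

/-- Let G be a finite solvable group and π a nonempty set of primes, each dividing the order of G; fix for each p in π a maximal ideal M p of the algebraic integers containing p. Then the only irreducible character lying in the principal p-block for every p in π is the principal character if and only if G is generated by the subgroups O_{p'}(G), p in π (the largest normal subgroups of order prime to p). -/
theorem result {G : Type*} [Group G] [Finite G] [Group.IsSolvable G] (π : Set ℕ) (hπ : ∀ p ∈ π, p.Prime ∧ p ∣ Nat.card G) (hne : π.Nonempty) (M : ℕ → Ideal Cfsg.AlgInt) (hM : ∀ p ∈ π, Cfsg.IsPModular p (M p)) :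
    (∀ χ : Cfsg.IrrCharacter G, (∀ p ∈ π, χ ∈ Cfsg.principalBlock (M p) G) → (χ : G → ℂ) = fun _ => 1) ↔
      ⨆ p ∈ π, Cfsg.pPrimeCore p G = ⊤ := by
  classical
  haveI := Fintype.ofFinite G
  have key : ∀ χ : IrrCharacter G, (∀ p ∈ π, χ ∈ principalBlock (M p) G) ↔
      ⨆ p ∈ π, Cfsg.pPrimeCore p G ≤ CharApps.charKer χ := by
    intro χ
    simp only [iSup_le_iff]
    refine forall₂_congr fun p hp => ?_
    haveI : Fact p.Prime := ⟨(hπ p hp).1⟩
    rw [mem_principal_iff (hM p hp)]
    exact ⟨fun h n hn => CharApps.mem_charKer.2 (h n hn), fun h n hn => CharApps.mem_charKer.1 (h hn)⟩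
  constructor
  · intro h
    set K := ⨆ p ∈ π, Cfsg.pPrimeCore p G with hK
    haveI hKn : K.Normal := by
      rw [hK]
      refine ⟨fun x hx g => ?_⟩
      have hle : K ≤ K.comap (MulAut.conj g).toMonoidHom := by
        rw [hK]
        refine iSup₂_le fun p hp n hn => ?_
        refine (le_iSup₂ (f := fun p (_ : p ∈ π) => Cfsg.pPrimeCore p G) p hp : _ ≤ K) ?_
        exact (inferInstance : (Cfsg.pPrimeCore p G).Normal).conj_mem n hn g
      exact hle hx
    by_contra hne
    have htriv : ∀ ψ : IrrCharacter (G ⧸ K), ψ = principal (G ⧸ K) := by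
      intro ψ
      have h1 := h ⟨_, isIrrCharacter_inflate K ψ.2⟩ ((key _).2 fun n hn =>
        CharApps.mem_charKer.2 (by
          show (ψ : G ⧸ K → ℂ) n = (ψ : G ⧸ K → ℂ) ((1 : G) : G ⧸ K)
          rw [(QuotientGroup.eq_one_iff n).2 hn, QuotientGroup.mk_one]))
      refine Subtype.ext (funext fun q => ?_)
      obtain ⟨g, rfl⟩ := QuotientGroup.mk_surjective q
      rw [principal_apply]
      exact congrFun h1 g
    haveI : Subsingleton (IrrCharacter (G ⧸ K)) := ⟨fun a b => (htriv a).trans (htriv b).symm⟩
    have hc : Nat.card (IrrCharacter (G ⧸ K)) ≤ 1 := Finite.card_le_one_iff_subsingleton.2 inferInstance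
    rw [card_irr_eq_card_classes, Finite.card_le_one_iff_subsingleton] at hc
    apply hne
    rw [eq_top_iff]
    intro g _
    have h2 := isConj_iff.1 (ConjClasses.mk_eq_mk_iff_isConj.1
      (Subsingleton.elim (ConjClasses.mk ((g : G) : G ⧸ K)) (ConjClasses.mk 1)))
    obtain ⟨c, hc⟩ := h2
    exact (QuotientGroup.eq_one_iff g).1 (conj_eq_one_iff.1 hc)
  · intro h χ hχ
    have hker := (key χ).1 hχ
    rw [h] at hker
    have hconst : ∀ g : G, (χ : G → ℂ) g = (χ : G → ℂ) 1 := fun g =>
      CharApps.mem_charKer.1 (hker (Subgroup.mem_top g))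
    have h2 := inner_irr χ (principal G)
    rw [inner_def] at h2
    simp only [principal_apply, map_one, mul_one, hconst, Finset.sum_const, Finset.card_univ,
      nsmul_eq_mul, ← Nat.card_eq_fintype_card, inv_mul_cancel_left₀ (card_ne_zero G)] at h2
    split_ifs at h2 with he
    · funext g
      rw [he, principal_apply]
    · exact absurd h2 (irr_degree_ne_zero χ.2)


end Cfsg.Agent.S4611
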