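import Cfsg.Statements.S4619

set_option autoImplicit false
open scoped Pointwise
open Cfsg Pointwise

namespace Cfsg.Agent.S4619

theorem conj_smul_eq_of_mem_normalizer {G : Type*} [Group G] {Q : Subgroup G} {g : G}
    (hg : g ∈ Subgroup.normalizer (Q : Set G)) : MulAut.conj g • Q = Q := by
  ext y
  rw [Subgroup.mem_pointwise_smul_iff_inv_smul_mem, ← map_inv, MulAut.smul_def, MulAut.conj_apply,
    inv_inv]
  exact (Subgroup.mem_normalizer_iff''.1 hg y).symm

/-- Let P be a Sylow p-subgroup of the finite group G that is a trivial-intersection set: P meets each conjugate g P g⁻¹ with g outside N_G(P) trivially. Then for every nontrivial subgroup Q of P the normalizer of Q lies in the normalizer of P, and any g ∈ G conjugating Q into P lies in N_G(P). -/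
theorem result {G : Type*} [Group G] [Finite G] (p : ℕ) [Fact p.Prime] (P : Sylow p G) (hTI : (∀ g : G, g ∉ Subgroup.normalizer ((P : Subgroup G) : Set G) → (P : Subgroup G) ⊓ (MulAut.conj g • (P : Subgroup G)) = ⊥)) (Q : Subgroup G) (hQ : Q ≤ (P : Subgroup G)) (hQ1 : Q ≠ ⊥) :
    Subgroup.normalizer (Q : Set G) ≤ Subgroup.normalizer ((P : Subgroup G) : Set G) ∧
      ∀ g : G, MulAut.conj g • Q ≤ (P : Subgroup G) → g ∈ Subgroup.normalizer ((P : Subgroup G) : Set G) := by
  have h2 : ∀ g : G, MulAut.conj g • Q ≤ (P : Subgroup G) →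
      g ∈ Subgroup.normalizer ((P : Subgroup G) : Set G) := fun g hg => by
    by_contra h
    have h1 : MulAut.conj g • Q ≤ (P : Subgroup G) ⊓ (MulAut.conj g • (P : Subgroup G)) :=
      le_inf hg (Subgroup.pointwise_smul_le_pointwise_smul_iff.2 hQ)
    rw [hTI g h, le_bot_iff] at h1
    apply hQ1
    have h3 := congrArg (fun K => (MulAut.conj g)⁻¹ • K) h1
    simpa using h3
  refine ⟨fun g hg => h2 g ?_, h2⟩
  rw [conj_smul_eq_of_mem_normalizer hg]
  exact hQ

end Cfsg.Agent.S4619
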