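import Cfsg.Statements.S4620
import Cfsg.Agent.Lib.Base.Cores
import Cfsg.Agent.Lib.Base.MinimalNormal

set_option autoImplicit false
open scoped Pointwise
open Cfsg Subgroup
open scoped Pointwise commutatorElement

namespace Cfsg.Agent.S4620

theorem sylow_ti {H : Type*} [Group H] [Finite H] {p : ℕ} [Fact p.Prime] (P : Sylow p H)
    (hTI : ∀ g : H, g ∉ Subgroup.normalizer ((P : Subgroup H) : Set H) →
      (P : Subgroup H) ⊓ (MulAut.conj g • (P : Subgroup H)) = ⊥)
    (R : Sylow p H) {z y : H} (hz1 : z ≠ 1) (hz : z ∈ (R : Subgroup H))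
    (hy : y⁻¹ * z * y ∈ (R : Subgroup H)) :
    y ∈ Subgroup.normalizer ((R : Subgroup H) : Set H) := by
  obtain ⟨g, hg⟩ := MulAction.exists_smul_eq H P R
  have hmem : ∀ x : H, x ∈ (R : Subgroup H) ↔ g⁻¹ * x * g ∈ (P : Subgroup H) := fun x => by
    rw [← hg, Sylow.coe_subgroup_smul, Subgroup.mem_pointwise_smul_iff_inv_smul_mem]
    simp
  have hw : g⁻¹ * y * g ∈ Subgroup.normalizer ((P : Subgroup H) : Set H) := by
    by_contra hn
    have h1 : g⁻¹ * z * g ∈ (⊥ : Subgroup H) := by
      rw [← hTI _ hn]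
      refine ⟨(hmem z).mp hz, ?_⟩
      show g⁻¹ * z * g ∈ MulAut.conj (g⁻¹ * y * g) • (P : Subgroup H)
      rw [Subgroup.mem_pointwise_smul_iff_inv_smul_mem]
      have h2 := (hmem _).mp hy
      simp only [MulAut.smul_def, MulAut.conj_inv_apply]
      convert h2 using 1
      group
    apply hz1
    have h3 : g⁻¹ * z * g = 1 := Subgroup.mem_bot.mp h1
    calc z = g * (g⁻¹ * z * g) * g⁻¹ := by group
      _ = 1 := by rw [h3]; group
  rw [Subgroup.mem_normalizer_iff] at hw ⊢
  intro x
  rw [hmem, hmem]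
  refine (hw (g⁻¹ * x * g)).trans (iff_of_eq (congrArg (· ∈ (P : Subgroup H)) ?_))
  group

theorem centralizing_eq_bot {H : Type*} [Group H] [Finite H] {p : ℕ} [Fact p.Prime]
    (hOp : Cfsg.pCore p H = ⊥) (hOp' : Cfsg.pPrimeCore p H = ⊥) (P : Sylow p H)
    (hTI : ∀ g : H, g ∉ Subgroup.normalizer ((P : Subgroup H) : Set H) →
      (P : Subgroup H) ⊓ (MulAut.conj g • (P : Subgroup H)) = ⊥)
    {K L : Subgroup H} (hK : K.IsSubnormal) (hK0 : K ≠ ⊥) (hL : L.IsSubnormal)
    (hc : ∀ k ∈ K, ∀ l ∈ L, k * l = l * k) : L = ⊥ := by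
  have hdiv : ∀ {K : Subgroup H}, K.IsSubnormal → K ≠ ⊥ →
      ∃ x : H, x ∈ K ∧ orderOf x = p := by
    intro K hK hK0
    have hd : p ∣ Nat.card K := by
      by_contra hd
      exact hK0 (le_bot_iff.mp (hOp' ▸ CfsgLib.Base.le_pPrimeCore_of_isSubnormal hK
        (((Fact.out : p.Prime).coprime_iff_not_dvd.mpr hd).symm)))
    obtain ⟨x, hx⟩ := exists_prime_orderOf_dvd_card' p hd
    exact ⟨x, x.2, by rw [← hx, Subgroup.orderOf_coe]⟩
  by_contra hL0
  obtain ⟨x, hxK, hx⟩ := hdiv hK hK0
  have hpg : IsPGroup p (Subgroup.zpowers x) := IsPGroup.of_card (n := 1) (by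
    rw [Nat.card_zpowers, hx, pow_one])
  obtain ⟨R, hR⟩ := hpg.exists_le_sylow
  have hx1 : x ≠ 1 := fun h => (Fact.out : p.Prime).one_lt.ne' (by rw [← hx, h, orderOf_one])
  have hLN : L ≤ Subgroup.normalizer ((R : Subgroup H) : Set H) := fun l hl =>
    sylow_ti P hTI R hx1 (hR (Subgroup.mem_zpowers x)) (by
      rw [mul_assoc, hc x hxK l hl, ← mul_assoc, inv_mul_cancel, one_mul]
      exact hR (Subgroup.mem_zpowers x))
  obtain ⟨z, hzL, hz⟩ := hdiv hL hL0
  have hzg : IsPGroup p (Subgroup.zpowers z) := IsPGroup.of_card (n := 1) (by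
    rw [Nat.card_zpowers, hz, pow_one])
  have hzR : z ∈ (R : Subgroup H) := by
    have h1 : Subgroup.zpowers z ≤ Subgroup.normalizer ((R : Subgroup H) : Set H) :=
      (Subgroup.zpowers_le (g := z)).mpr (hLN hzL)
    exact (hzg.inf_normalizer_sylow R).le ⟨Subgroup.mem_zpowers z, h1 (Subgroup.mem_zpowers z)⟩
      |>.2
  haveI : ((R : Subgroup H).subgroupOf L).Normal := Subgroup.normal_subgroupOf_of_le_normalizer hLN
  haveI : (((R : Subgroup H) ⊓ L).subgroupOf L).Normal := by
    rw [Subgroup.inf_subgroupOf_right]; infer_instance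
  have h2 : (R : Subgroup H) ⊓ L ≤ pCore p H := CfsgLib.Base.le_pCore_of_isSubnormal
    (Subgroup.IsSubnormal.step _ _ inf_le_right hL inferInstance) (R.2.to_le inf_le_left)
  rw [hOp] at h2
  have h3 : z = 1 := Subgroup.mem_bot.mp (h2 ⟨hzR, hzL⟩)
  exact (Fact.out : p.Prime).one_lt.ne' (by rw [← hz, h3, orderOf_one])


/-- Let H be a finite group with no nontrivial normal p-subgroup and no nontrivial normal subgroup of order prime to p, whose Sylow p-subgroup P is nontrivial and a trivial-intersection set (P meets its conjugates by elements outside N_H(P) trivially). Then H has a unique minimal normal subgroup N; N is non-abelian simple with trivial centralizer in H (so H embeds in Aut(N)), and a Sylow p-subgroup of N is again a nontrivial trivial-intersection set in N. -/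
theorem result {H : Type*} [Group H] [Finite H] (p : ℕ) [Fact p.Prime] (hOp : Cfsg.pCore p H = ⊥) (hOp' : Cfsg.pPrimeCore p H = ⊥) (P : Sylow p H) (hP1 : (P : Subgroup H) ≠ ⊥)
    (hTI : ∀ g : H, g ∉ Subgroup.normalizer ((P : Subgroup H) : Set H) → (P : Subgroup H) ⊓ (MulAut.conj g • (P : Subgroup H)) = ⊥) :
    ∃ N : Subgroup H, N.Normal ∧ N ≠ ⊥ ∧ (∀ K : Subgroup H, K.Normal → K ≠ ⊥ → N ≤ K) ∧
      IsSimpleGroup N ∧ ¬ IsMulCommutative N ∧ Subgroup.centralizer (N : Set H) = ⊥ ∧
      ∀ Q : Sylow p N, (Q : Subgroup N) ≠ ⊥ ∧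
        ∀ n : N, n ∉ Subgroup.normalizer ((Q : Subgroup N) : Set N) → (Q : Subgroup N) ⊓ (MulAut.conj n • (Q : Subgroup N)) = ⊥ := by
  classical
  haveI : Nontrivial H := (Subgroup.nontrivial_iff).mp ⟨⟨(P : Subgroup H), ⊥, hP1⟩⟩
  obtain ⟨N, hN⟩ := CfsgLib.Base.exists_isMinimalNormal (G := H)
  haveI hNn := hN.normal
  have hsub : ∀ {K : Subgroup H}, K.Normal → K.IsSubnormal := fun h =>
    haveI := h; Subgroup.Normal.isSubnormal h
  have hC : Subgroup.centralizer (N : Set H) = ⊥ :=
    centralizing_eq_bot hOp hOp' P hTI (hsub hNn) hN.ne_bot (hsub inferInstance)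
      (fun k hk l hl => Subgroup.mem_centralizer_iff.mp hl k hk)
  have hnc : ¬ IsMulCommutative N := fun h => hN.ne_bot (le_bot_iff.mp (hC ▸
    (fun x hx => Subgroup.mem_centralizer_iff.mpr fun y hy => congrArg Subtype.val
      (mul_comm' (⟨y, hy⟩ : N) ⟨x, hx⟩))))
  haveI : Nontrivial N := (Subgroup.nontrivial_iff_ne_bot N).mpr hN.ne_bot
  have hmin : ∀ K : Subgroup N, CfsgLib.Base.IsMinimalNormal K → K = ⊤ := by
    intro K hK
    haveI := hK.normal
    have hconj : ∀ h : H, K.map (MulAut.conjNormal h).toMonoidHom ≤ K := by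
      intro h
      by_contra hne
      haveI hKn : (K.map (MulAut.conjNormal h).toMonoidHom).Normal :=
        Subgroup.Normal.map hK.normal _ (MulAut.conjNormal h).surjective
      have hinf : K.map (MulAut.conjNormal h).toMonoidHom ⊓ K = ⊥ := by
        rcases hK.eq_bot_or_eq (inferInstance : (K.map (MulAut.conjNormal h).toMonoidHom ⊓ K).Normal)
          inf_le_right with h1 | h1
        · exact h1
        · exfalso
          have h2 : K ≤ K.map (MulAut.conjNormal h).toMonoidHom := inf_eq_right.mp h1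
          exact hne (le_of_eq (Subgroup.eq_of_le_of_card_ge h2
            (le_of_eq (Subgroup.card_map_of_injective (MulAut.conjNormal h).injective))).symm)
      have hcomm := Subgroup.commute_of_normal_of_disjoint
        (K.map (MulAut.conjNormal h).toMonoidHom) K hKn hK.normal (disjoint_iff.mpr hinf)
      have hsn : ∀ L : Subgroup N, L.Normal → (L.map N.subtype).IsSubnormal := by
        intro L hL
        refine Subgroup.IsSubnormal.step _ _ (Subgroup.map_subtype_le L) (hsub hNn) ?_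
        have he : (L.map N.subtype).subgroupOf N = L :=
          Subgroup.comap_map_eq_self_of_injective N.subtype_injective L
        rw [he]; exact hL
      have h3 := centralizing_eq_bot hOp hOp' P hTI (hsn K hK.normal)
        (fun h4 => hK.ne_bot ((Subgroup.map_eq_bot_iff_of_injective _ N.subtype_injective).mp h4))
        (hsn _ hKn) (by
          rintro _ ⟨k, hk, rfl⟩ _ ⟨l, hl, rfl⟩
          exact congrArg Subtype.val (hcomm l k hl hk).symm.eq)
      rw [Subgroup.map_eq_bot_iff_of_injective _ N.subtype_injective] at h3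
      exact hK.ne_bot ((Subgroup.map_eq_bot_iff_of_injective (f := (MulAut.conjNormal h).toMonoidHom)
        K (MulAut.conjNormal h).injective).mp h3)
    haveI : (K.map N.subtype).Normal := ⟨by
      rintro _ ⟨k, hk, rfl⟩ h
      exact ⟨MulAut.conjNormal h k, hconj h ⟨k, hk, rfl⟩, by simp⟩⟩
    rcases hN.eq_bot_or_eq (inferInstance : (K.map N.subtype).Normal) (Subgroup.map_subtype_le K)
      with h1 | h1
    · exact absurd ((Subgroup.map_eq_bot_iff_of_injective _ N.subtype_injective).mp h1) hK.ne_bot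
    · refine Subgroup.map_injective N.subtype_injective ?_
      rw [h1, ← MonoidHom.range_eq_map, Subgroup.range_subtype]
  refine ⟨N, hNn, hN.ne_bot, ?_, ⟨fun K hK => ?_⟩, hnc, hC, ?_⟩
  · intro K hK hK0
    haveI := hK
    by_contra hle
    rcases hN.eq_bot_or_eq (inferInstance : (N ⊓ K).Normal) inf_le_left with h1 | h1
    · refine hK0 (le_bot_iff.mp (hC ▸ fun x hx => Subgroup.mem_centralizer_iff.mpr fun y hy =>
        (Subgroup.commute_of_normal_of_disjoint N K hNn hK (disjoint_iff.mpr h1) y x hy hx).eq))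
    · exact hle (inf_eq_left.mp h1)
  · by_cases h0 : K = ⊥
    · exact Or.inl h0
    · right
      haveI := hK
      obtain ⟨L, hLK, hL⟩ := CfsgLib.Base.exists_isMinimalNormal_le (N := K) h0
      exact top_le_iff.mp (hmin L hL ▸ hLK)
  · intro Q
    refine ⟨?_, fun n hn => ?_⟩
    · refine Q.ne_bot_of_dvd_card ?_
      by_contra hd
      exact hN.ne_bot (le_bot_iff.mp (hOp' ▸ CfsgLib.Base.le_pPrimeCore
        (((Fact.out : p.Prime).coprime_iff_not_dvd.mpr hd).symm)))
    · rw [eq_bot_iff]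
      rintro z ⟨hz, hz'⟩
      rw [Subgroup.mem_bot]
      by_contra hz1
      obtain ⟨R, hR⟩ := (Q.2.map N.subtype).exists_le_sylow
      have hz'' : n⁻¹ * z * n ∈ (Q : Subgroup N) := by
        replace hz' : z ∈ MulAut.conj n • (Q : Subgroup N) := hz'
        rw [Subgroup.mem_pointwise_smul_iff_inv_smul_mem] at hz'
        simpa using hz'
      have hnR : (n : H) ∈ Subgroup.normalizer ((R : Subgroup H) : Set H) :=
        sylow_ti P hTI R (z := (z : H)) (fun h => hz1 (Subtype.ext h)) (hR ⟨z, hz, rfl⟩)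
          (hR ⟨_, hz'', by simp⟩)
      have hQ : (R : Subgroup H).subgroupOf N = (Q : Subgroup N) :=
        Q.3 (R.2.comap_subtype) (fun x hx => hR ⟨x, hx, rfl⟩)
      apply hn
      rw [Subgroup.mem_normalizer_iff] at hnR ⊢
      intro x
      rw [← hQ, Subgroup.mem_subgroupOf, Subgroup.mem_subgroupOf]
      exact hnR x


end Cfsg.Agent.S4620
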