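import Cfsg.Statements.S4623
import Cfsg.Agent.Lib.BlockApps.SylowSymGen

set_option autoImplicit false
open Cfsg

namespace Cfsg.Agent.S4623

/-- For every prime p and every n, a Sylow p-subgroup P of the symmetric group on n letters has P/P' elementary abelian (the p-th power of every element of P lies in the derived subgroup of P), and the same holds for a Sylow p-subgroup of the alternating group on n letters. -/
theorem result (p : ℕ) [Fact p.Prime] (n : ℕ) (P : Sylow p (Equiv.Perm (Fin n))) (Q : Sylow p (alternatingGroup (Fin n))) :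
    (∀ x : (P : Subgroup (Equiv.Perm (Fin n))), x ^ p ∈ commutator (P : Subgroup (Equiv.Perm (Fin n)))) ∧
    (∀ x : (Q : Subgroup (alternatingGroup (Fin n))), x ^ p ∈ commutator (Q : Subgroup (alternatingGroup (Fin n)))) := by
  classical
  haveI hp : Fact p.Prime := inferInstance
  obtain ⟨W, hWp, hWc, hWgen, hWA⟩ := CfsgLib.BlockApps.SylowSymGen.exists_good p n
  rw [Fintype.card_fin] at hWc
  have hall : ∀ S : Sylow p (Equiv.Perm (Fin n)), Nat.card S = Nat.card W ∧
      ∃ g : Equiv.Perm (Fin n), (S : Subgroup (Equiv.Perm (Fin n))) = W.map (MulAut.conj g).toMonoidHom := by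
    intro S
    obtain ⟨T, hT⟩ := hWp.exists_le_sylow
    have hcS : Nat.card S = p ^ padicValNat p n.factorial := by
      rw [S.card_eq_multiplicity, Nat.card_eq_fintype_card, Fintype.card_perm, Fintype.card_fin,
        Nat.factorization_def _ hp.out]
    have hcT : Nat.card T = p ^ padicValNat p n.factorial := by
      rw [T.card_eq_multiplicity, Nat.card_eq_fintype_card, Fintype.card_perm, Fintype.card_fin,
        Nat.factorization_def _ hp.out]
    have hTW : W = (T : Subgroup (Equiv.Perm (Fin n))) :=
      Subgroup.eq_of_le_of_card_ge hT (hcT.le.trans hWc)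
    obtain ⟨g, hg⟩ := MulAction.exists_smul_eq (Equiv.Perm (Fin n)) T S
    refine ⟨by rw [hcS, hTW]; exact hcT.symm, g, ?_⟩
    rw [hTW, ← hg]
    rfl
  constructor
  · obtain ⟨-, g, hg⟩ := hall P
    have e : W ≃* (P : Subgroup (Equiv.Perm (Fin n))) :=
      (W.equivMapOfInjective _ (MulAut.conj g).injective).trans (MulEquiv.subgroupCongr hg.symm)
    exact CfsgLib.BlockApps.SylowSymGen.pow_mem_commutator_of_equiv e p
      (CfsgLib.BlockApps.SylowSymGen.pow_mem_commutator_of_le p W hWgen)
  · set Qi := (Q : Subgroup (alternatingGroup (Fin n))).map (alternatingGroup (Fin n)).subtype with hQi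
    obtain ⟨S, hS⟩ := (Q.isPGroup'.map (alternatingGroup (Fin n)).subtype).exists_le_sylow
    obtain ⟨-, g, hg⟩ := hall S
    have hle : Qi ≤ (W ⊓ (alternatingGroup (Fin n))).map (MulAut.conj g).toMonoidHom := by
      rw [Subgroup.map_inf _ _ _ (MulAut.conj g).injective, hQi]
      refine le_inf (hg ▸ hS) ?_
      rintro _ ⟨a, -, rfl⟩
      refine ⟨g⁻¹ * a * g, ?_, by simp [mul_assoc]⟩
      simpa using (Subgroup.Normal.conj_mem inferInstance a.1 a.2 g⁻¹ : g⁻¹ * a.1 * g⁻¹⁻¹ ∈ (alternatingGroup (Fin n)))
    obtain ⟨R, hR⟩ := ((hWp.to_le inf_le_left).of_equiv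
      (Subgroup.subgroupOfEquivOfLe (inf_le_right : W ⊓ (alternatingGroup (Fin n)) ≤ (alternatingGroup (Fin n)))).symm).exists_le_sylow
    have hcard : Nat.card ↥((W ⊓ (alternatingGroup (Fin n))).map (MulAut.conj g).toMonoidHom) ≤ Nat.card Qi := by
      calc Nat.card ↥((W ⊓ (alternatingGroup (Fin n))).map (MulAut.conj g).toMonoidHom) = Nat.card ↥(W ⊓ (alternatingGroup (Fin n))) :=
            Subgroup.card_map_of_injective (MulAut.conj g).injective
        _ = Nat.card ↥((W ⊓ (alternatingGroup (Fin n))).subgroupOf (alternatingGroup (Fin n))) :=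
            (Nat.card_congr (Subgroup.subgroupOfEquivOfLe inf_le_right).toEquiv).symm
        _ ≤ Nat.card R := Subgroup.card_le_of_le hR
        _ = Nat.card Q := Nat.card_congr (R.equiv Q).toEquiv
        _ = Nat.card Qi := (Subgroup.card_map_of_injective (alternatingGroup (Fin n)).subtype_injective).symm
    have e : ↥(W ⊓ (alternatingGroup (Fin n))) ≃* (Q : Subgroup (alternatingGroup (Fin n))) :=
      ((W ⊓ (alternatingGroup (Fin n))).equivMapOfInjective _ (MulAut.conj g).injective).trans
        ((MulEquiv.subgroupCongr (Subgroup.eq_of_le_of_card_ge hle hcard).symm).trans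
          ((Q : Subgroup (alternatingGroup (Fin n))).equivMapOfInjective _ (alternatingGroup (Fin n)).subtype_injective).symm)
    exact CfsgLib.BlockApps.SylowSymGen.pow_mem_commutator_of_equiv e p
      (CfsgLib.BlockApps.SylowSymGen.pow_mem_commutator_of_le p (W ⊓ (alternatingGroup (Fin n))) hWA)

end Cfsg.Agent.S4623
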