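import Cfsg.Statements.S4626
import Cfsg.Agent.Lib.BlockOrth.NormalCentralizer
import Cfsg.Agent.Lib.CharApps.Inflation
import Cfsg.Agent.Lib.Blocks.Degree

set_option autoImplicit false
open Cfsg Subgroup
open scoped Pointwise commutatorElement

namespace Cfsg.Agent.S4626

/-- Let G be a finite group, p a prime, M a maximal ideal of the algebraic integers containing p, P a Sylow p-subgroup of G and N a normal subgroup of index prime to p containing the centralizer C_G(P). Then every irreducible character of G whose kernel contains N lies in the principal p-block of G. -/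
theorem result {G : Type*} [Group G] [Finite G] (p : ℕ) [Fact p.Prime] (M : Ideal Cfsg.AlgInt) (hM : Cfsg.IsPModular p M) (P : Sylow p G) (N : Subgroup G) [N.Normal] (hidx : ¬ p ∣ N.index)
    (hC : Subgroup.centralizer ((P : Subgroup G) : Set G) ≤ N) (χ : Cfsg.IrrCharacter G) (hker : ∀ n ∈ N, (χ : G → ℂ) n = (χ : G → ℂ) 1) :
    χ ∈ Cfsg.principalBlock M G := by
  classical
  haveI := CfsgLib.Blocks.isPrime_of_isPModular hM
  haveI := Fintype.ofFinite G
  have hpM := hM.2.2
  intro g
  have hsame : ∀ n ∈ N, (χ : G → ℂ) n = (χ : G → ℂ) 1 := hker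
  have hne : (χ : G → ℂ) 1 ≠ 0 := CfsgLib.Chars.irr_degree_ne_zero χ.2
  unfold centralChar
  by_cases hg : g ∈ N
  · simp only [hker g hg, div_one, mul_one, mul_div_assoc, div_self hne, sub_self]
    exact CfsgLib.Blocks.MemLocalIdeal.zero'
  · -- the class of `g` has size divisible by `p`
    have hdvd : p ∣ (Subgroup.centralizer ({g} : Set G)).index := by
      by_contra hnd
      obtain ⟨S, hS⟩ : ∃ S : Sylow p G, (S : Subgroup G) ≤ Subgroup.centralizer ({g} : Set G) := by
        obtain ⟨T⟩ := (inferInstance : Nonempty (Sylow p (Subgroup.centralizer ({g} : Set G))))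
        have hT : ¬ p ∣ ((T : Subgroup _).map (Subgroup.centralizer ({g} : Set G)).subtype).index := by
          rw [Subgroup.index_map_subtype]
          exact fun h => ((Fact.out : p.Prime).dvd_mul.mp h).elim T.not_dvd_index hnd
        exact ⟨(T.isPGroup'.map _).toSylow hT, Subgroup.map_subtype_le _⟩
      obtain ⟨c, hc⟩ := MulAction.exists_smul_eq G S P
      have hcg : c * g * c⁻¹ ∈ Subgroup.centralizer ((P : Subgroup G) : Set G) := by
        rw [Subgroup.mem_centralizer_iff]
        intro y hy
        rw [← hc] at hy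
        obtain ⟨s, hs, rfl⟩ := hy
        have h1 := Subgroup.mem_centralizer_singleton_iff.mp (hS hs)
        show (c * s * c⁻¹) * (c * g * c⁻¹) = (c * g * c⁻¹) * (c * s * c⁻¹)
        calc (c * s * c⁻¹) * (c * g * c⁻¹) = c * (s * g) * c⁻¹ := by group
          _ = c * (g * s) * c⁻¹ := by rw [h1]
          _ = _ := by group
      exact hg (by simpa [mul_assoc] using
        Subgroup.Normal.conj_mem (inferInstance : N.Normal) _ (hC hcg) c⁻¹)
    obtain ⟨m, hm⟩ := hdvd
    -- both central characters lie in the ideal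
    have hp : MemLocalIdeal M ((p : ℕ) : ℂ) := by
      simpa using (CfsgLib.Blocks.memLocalIdeal_algInt_iff (M := M) (p : AlgInt)).mpr hpM
    have hle : N ≤ CfsgLib.CharApps.charKer χ := fun n hn =>
      CfsgLib.CharApps.mem_charKer.mpr (hker n hn)
    have hd := CfsgLib.CharApps.degree_dvd_index N χ hle
    obtain ⟨d, hdd⟩ := hd
    have hloc : (χ : G → ℂ) g / (χ : G → ℂ) 1 ∈ CfsgLib.Blocks.loc M := by
      have e : (χ : G → ℂ) g / (χ : G → ℂ) 1 = ((d : ℂ) * (χ : G → ℂ) g) * ((N.index : ℕ) : ℂ)⁻¹ := by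
        have hd0 : (d : ℂ) ≠ 0 := by
          intro h0
          rw [Nat.cast_eq_zero] at h0
          exact Subgroup.index_ne_zero_of_finite (by rw [hdd, h0, mul_zero])
        rw [hdd, Nat.cast_mul, CfsgLib.Blocks.charDegree_cast]
        field_simp
      rw [e]
      exact mul_mem (mul_mem (CfsgLib.Blocks.natCast_mem_loc d) (CfsgLib.Blocks.irr_mem_loc χ g))
        (CfsgLib.Blocks.inv_natCast_mem_loc Fact.out hpM hidx)
    rw [hm, Nat.cast_mul, div_one, mul_one]
    refine CfsgLib.Blocks.MemLocalIdeal.sub' ?_ ?_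
    · rw [mul_comm]
      exact CfsgLib.Blocks.MemLocalIdeal.mul_left' (CfsgLib.Blocks.natCast_mem_loc m) hp
    · rw [mul_div_assoc, mul_assoc, mul_comm]
      exact CfsgLib.Blocks.MemLocalIdeal.mul_left'
        (mul_mem (CfsgLib.Blocks.natCast_mem_loc m) hloc) hp


end Cfsg.Agent.S4626
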