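import Cfsg.Statements.S4633
import Cfsg.Agent.Lib.Blocks.PairInduced
import Cfsg.Agent.Lib.Blocks.InertialQuotient
import Mathlib.RingTheory.ZMod.UnitsCyclic
import Mathlib.NumberTheory.Basic

set_option autoImplicit false
open Cfsg Subgroup
open scoped Pointwise commutatorElement

namespace Cfsg.Agent.S4633

/-- Let B be a block of the finite group G relative to a maximal ideal M of the algebraic integers containing the prime p, with a nontrivial cyclic defect group P. Let c be a block of C_G(P) inducing B and T the stabilizer of c in N_G(P) (the elements of N_G(P) conjugating c to itself); T contains C_G(P). Then T/C_G(P) is cyclic of order dividing p − 1, and it acts freely on the non-identity elements of P: an element of T fixing some non-identity element of P under conjugation lies in C_G(P). -/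
theorem result {G : Type*} [Group G] [Finite G] (p : ℕ) [Fact p.Prime] (M : Ideal Cfsg.AlgInt) (hM : Cfsg.IsPModular p M) (B : Set (Cfsg.IrrCharacter G)) (hB : Cfsg.IsPBlock M B) (P : Subgroup G) (hPD : Cfsg.IsDefectGroup p M B P) (hP1 : P ≠ ⊥) (hcyc : IsCyclic P) (c : Set (Cfsg.IrrCharacter (Subgroup.centralizer (P : Set G)))) (hc : Cfsg.IsInducedBlock M (Subgroup.centralizer (P : Set G)) c B) (T : Subgroup G) (hT : ∀ g : G, g ∈ T ↔ (g ∈ Subgroup.normalizer (P : Set G) ∧ Cfsg.StabilizesBlock (Subgroup.centralizer (P : Set G)) c g)) [hn : ((Subgroup.centralizer (P : Set G)).subgroupOf T).Normal] : IsCyclic (T ⧸ (Subgroup.centralizer (P : Set G)).subgroupOf T) ∧ (Subgroup.centralizer (P : Set G)).relIndex T ∣ p - 1 ∧ ∀ g ∈ T, ∀ x ∈ P, x ≠ 1 → g * x * g⁻¹ = x → g ∈ Subgroup.centralizer (P : Set G) := by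
  classical
  haveI : M.IsPrime := hM.2.1.isPrime
  haveI := Fintype.ofFinite G
  have hp : p.Prime := Fact.out
  have hpM := hM.2.2
  have hPp : IsPGroup p P := CfsgLib.Blocks.IsDefectGroup.isPGroup hPD
  haveI := hcyc
  have hab : ∀ x ∈ P, ∀ y ∈ P, x * y = y * x := fun x hx y hy =>
    congrArg Subtype.val (@mul_comm P (IsCyclic.commGroup).toCommMonoid.toCommSemigroup.toCommMagma ⟨x, hx⟩ ⟨y, hy⟩)
  have hpair := (CfsgLib.Blocks.isInducedBlock_centralizer_iff hpM hPp).1 hc
  have hmax := CfsgLib.Blocks.isMaximal_of_defectGroup hpM hPD hpair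
  have hTeq : T = CfsgLib.Blocks.stabPair (⟨P, c⟩ : BrauerPairIdx G) := by
    ext g
    rw [hT, CfsgLib.Blocks.mem_stabPair_iff hpair.1.2]
  have he : ¬ p ∣ (Subgroup.centralizer (P : Set G)).relIndex T := by
    rw [hTeq]; exact CfsgLib.Blocks.not_dvd_index_centralizer_stab hpM hmax hab
  have hTN : T ≤ Subgroup.normalizer (P : Set G) := fun g hg => ((hT g).1 hg).1
  set C := (Subgroup.centralizer (P : Set G)).subgroupOf T with hC
  have he' : ¬ p ∣ Nat.card (T ⧸ C) := he
  let ψ : T →* MulAut P := P.normalizerMonoidHom.comp (Subgroup.inclusion hTN)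
  have hker : ψ.ker = C := by
    rw [← MonoidHom.comap_ker, Subgroup.normalizerMonoidHom_ker]
    rfl
  obtain ⟨a, ha⟩ := IsPGroup.iff_card.1 hPp
  have ha0 : a ≠ 0 := fun h => hP1 (Subgroup.card_eq_one.1 (by rw [ha, h, pow_zero]))
  let ι : T ⧸ C →* (ZMod (Nat.card P))ˣ :=
    (IsCyclic.mulAutMulEquiv P).toMonoidHom.comp
      ((QuotientGroup.kerLift ψ).comp (QuotientGroup.quotientMulEquivOfEq hker.symm).toMonoidHom)
  have hι : Function.Injective ι :=
    (IsCyclic.mulAutMulEquiv P).injective.comp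
      ((QuotientGroup.kerLift_injective ψ).comp (MulEquiv.injective _))
  have hdvd : Nat.card (T ⧸ C) ∣ p - 1 := by
    have h1 := Subgroup.card_dvd_of_injective ι hι
    rw [Nat.card_eq_fintype_card (α := (ZMod (Nat.card P))ˣ), ZMod.card_units_eq_totient, ha,
      Nat.totient_prime_pow hp (Nat.pos_of_ne_zero ha0)] at h1
    exact (Nat.Coprime.pow_right (a - 1) ((hp.coprime_iff_not_dvd.2 he').symm)).dvd_of_dvd_mul_left h1
  refine ⟨?_, hdvd, fun g hg x hx hx1 hfix => ?_⟩
  · rcases hp.eq_two_or_odd with h2 | hodd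
    · subst h2
      haveI : Subsingleton (T ⧸ C) := (Nat.card_eq_one_iff_unique.1 (Nat.dvd_one.1 hdvd)).1
      exact isCyclic_of_subsingleton
    · haveI : IsCyclic (ZMod (Nat.card P))ˣ := by
        rw [ha]
        exact ZMod.isCyclic_units_of_prime_pow p hp (fun h => by omega) a
      exact isCyclic_of_injective ι hι
  · obtain ⟨u, hu⟩ := hcyc.exists_generator
    have hzu : ∀ y ∈ P, ∃ i : ℤ, (u : G) ^ i = y := fun y hy => by
      obtain ⟨i, hi⟩ := Subgroup.mem_zpowers_iff.1 (hu ⟨y, hy⟩)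
      exact ⟨i, by simpa using congrArg Subtype.val hi⟩
    have hgN := hTN hg
    obtain ⟨m, hm⟩ := hzu (g * u * g⁻¹) ((Subgroup.mem_normalizer_iff.1 hgN u).1 u.2)
    obtain ⟨i, hi⟩ := hzu x hx
    have hord : orderOf (u : G) = p ^ a := by
      rw [Subgroup.orderOf_coe, orderOf_eq_card_of_forall_mem_zpowers hu, ha]
    have hfix' : (u : G) ^ (m * i) = (u : G) ^ i := by
      rw [zpow_mul, hm, conj_zpow, hi, hfix]
    have h1 : (orderOf (u : G) : ℤ) ∣ (m - 1) * i := by
      rw [orderOf_dvd_iff_zpow_eq_one, sub_mul, one_mul, zpow_sub, hfix', mul_inv_cancel]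
    have h2 : (p : ℤ) ∣ m - 1 := by
      by_contra hn
      have h3 : IsCoprime ((p : ℤ) ^ a) (m - 1) :=
        ((Nat.prime_iff_prime_int.1 hp).coprime_iff_not_dvd.2 hn).pow_left
      have h4 : (orderOf (u : G) : ℤ) ∣ i := by
        rw [hord, Nat.cast_pow] at h1 ⊢
        exact h3.dvd_of_dvd_mul_left h1
      rw [orderOf_dvd_iff_zpow_eq_one, hi] at h4
      exact hx1 h4
    have h5 : ((p : ℤ) ^ (a + 1)) ∣ m ^ p ^ a - 1 := by
      simpa using dvd_sub_pow_of_dvd_sub (R := ℤ) (p := p) (a := m) (b := 1) h2 a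
    have hiter : ∀ n : ℕ, g ^ n * (u : G) * (g ^ n)⁻¹ = (u : G) ^ (m ^ n) := by
      intro n
      induction n with
      | zero => simp
      | succ n ih =>
        rw [pow_succ', show g * g ^ n * (u : G) * (g * g ^ n)⁻¹ =
          g * (g ^ n * (u : G) * (g ^ n)⁻¹) * g⁻¹ by group, ih, ← conj_zpow, ← hm, ← zpow_mul,
          pow_succ']
    have h6 : g ^ (p ^ a) ∈ Subgroup.centralizer (P : Set G) := by
      rw [Subgroup.mem_centralizer_iff]
      intro y hy
      obtain ⟨j, rfl⟩ := hzu y hy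
      have h7 : g ^ (p ^ a) * (u : G) * (g ^ (p ^ a))⁻¹ = u := by
        rw [hiter]
        conv_rhs => rw [← zpow_one (u : G)]
        rw [← orderOf_dvd_sub_iff_zpow_eq_zpow, hord, Nat.cast_pow]
        exact dvd_trans (pow_dvd_pow _ (Nat.le_succ a)) h5
      have hcm : Commute (u : G) (g ^ (p ^ a)) := (mul_inv_eq_iff_eq_mul.1 h7).symm
      exact (hcm.zpow_left j).eq
    have h8 : (QuotientGroup.mk (⟨g, hg⟩ : T) : T ⧸ C) = 1 := by
      rw [← orderOf_eq_one_iff]
      refine Nat.eq_one_of_dvd_coprimes (k := orderOf (QuotientGroup.mk (⟨g, hg⟩ : T) : T ⧸ C))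
        (Nat.Coprime.pow_left a (hp.coprime_iff_not_dvd.2 he')) ?_ (orderOf_dvd_natCard _)
      rw [orderOf_dvd_iff_pow_eq_one, ← QuotientGroup.mk_pow, QuotientGroup.eq_one_iff]
      exact h6
    exact Subgroup.mem_subgroupOf.1 ((QuotientGroup.eq_one_iff (⟨g, hg⟩ : T)).1 h8)


end Cfsg.Agent.S4633
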