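import Cfsg.Statements.S4634
import Cfsg.Agent.Lib.Blocks.CyclicCols
import Cfsg.Agent.Lib.Blocks.FrobCols
import Cfsg.Agent.Lib.Blocks.PairInduced

set_option autoImplicit false
open Cfsg

set_option linter.style.haveILetI false

namespace Cfsg.Agent.S4634

/-- Let B be a block of the finite group G relative to a maximal ideal M of the algebraic integers containing the prime p, with a nontrivial cyclic defect group P, let c be a block of C_G(P) inducing B, T the stabilizer of c in N_G(P) and e the index of C_G(P) in T. Let F be any finite group of order #P · e having a cyclic subgroup Q of order #P that is its own centralizer (F is then the semidirect product of Q by a cyclic group of order e acting faithfully). Then there is a perfect isometry from the set of all irreducible characters of F onto B whose signs agree on all the characters of F that do not contain Q in their kernel. -/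
theorem result {G : Type*} [Group G] [Finite G] (p : ℕ) [Fact p.Prime] (M : Ideal Cfsg.AlgInt) (hM : Cfsg.IsPModular p M) (B : Set (Cfsg.IrrCharacter G)) (hB : Cfsg.IsPBlock M B) (P : Subgroup G) (hPD : Cfsg.IsDefectGroup p M B P) (hP1 : P ≠ ⊥) (hcyc : IsCyclic P) (c : Set (Cfsg.IrrCharacter (Subgroup.centralizer (P : Set G)))) (hc : Cfsg.IsInducedBlock M (Subgroup.centralizer (P : Set G)) c B) (T : Subgroup G) (hT : ∀ g : G, g ∈ T ↔ (g ∈ Subgroup.normalizer (P : Set G) ∧ Cfsg.StabilizesBlock (Subgroup.centralizer (P : Set G)) c g)) (e : ℕ) (he : (Subgroup.centralizer (P : Set G)).relIndex T = e) (F : Type*) [Group F] [Finite F] (hF : Nat.card F = Nat.card P * e) (Q : Subgroup F) (hQ : IsCyclic Q) (hQcard : Nat.card Q = Nat.card P) (hQC : Subgroup.centralizer (Q : Set F) = Q) : ∃ (I : Cfsg.IrrCharacter F → Cfsg.IrrCharacter G) (ε : Cfsg.IrrCharacter F → ℤ), Cfsg.IsPerfectIsometry p M (Set.univ : Set (Cfsg.IrrCharacter F)) B I ε ∧ ∀ η η' : Cfsg.IrrCharacter F, (∃ x ∈ Q, (η : F → ℂ) x ≠ (η : F →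 ℂ) 1) → (∃ x ∈ Q, (η' : F → ℂ) x ≠ (η' : F → ℂ) 1) → ε η = ε η' := by
  classical
  haveI : M.IsPrime := hM.2.1.isPrime
  haveI := Fintype.ofFinite G
  haveI := Fintype.ofFinite F
  haveI := Fintype.ofFinite P
  haveI : IsCyclic P := hcyc
  haveI : IsCyclic Q := hQ
  have hpM := hM.2.2
  have hp : p.Prime := Fact.out
  have hPp : IsPGroup p P := CfsgLib.Blocks.IsDefectGroup.isPGroup hPD
  have hpair := (CfsgLib.Blocks.isInducedBlock_centralizer_iff hpM hPp).1 hc
  have hmax := CfsgLib.Blocks.isMaximal_of_defectGroup hpM hPD hpair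
  obtain rfl : T = CfsgLib.Blocks.stabPair ⟨P, c⟩ := by
    ext g
    rw [hT, CfsgLib.Blocks.mem_stabPair_iff hpair.1.2]
  obtain ⟨Z, fZ, L⟩ := CfsgLib.Blocks.exists_cycLocal hM hmax hcyc hP1
  have hcard : Nat.card (CfsgLib.Blocks.inertia c) = e := (CfsgLib.Blocks.card_inertia c).trans he
  have hdvd : Nat.card (CfsgLib.Blocks.inertia c) ∣ p - 1 :=
    CfsgLib.Blocks.card_inertia c ▸ L.relIndex_dvd
  obtain ⟨n, hn⟩ := IsPGroup.iff_card.1 hPp
  have hindex : Q.index = e := by
    have h := Q.card_mul_index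
    rw [hF, hQcard] at h
    exact Nat.eq_of_mul_eq_mul_left Nat.card_pos h
  have hep : e < p := by
    have := Nat.le_of_dvd (by have := hp.two_le; omega) (hcard ▸ hdvd)
    have := hp.two_le
    omega
  haveI : Q.Normal := by
    suffices h : Q = Q.normalCore from h ▸ Subgroup.normalCore_normal Q
    refine le_antisymm (fun q hq => ?_) Q.normalCore_le
    rw [Subgroup.normalCore_eq_ker, MonoidHom.mem_ker, ← orderOf_eq_one_iff]
    have h1 : orderOf (MulAction.toPermHom F (F ⧸ Q) q) ∣ p ^ n := by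
      refine (orderOf_map_dvd _ q).trans ?_
      rw [← hn, ← hQcard]
      exact Subgroup.orderOf_dvd_natCard Q hq
    have h2 : orderOf (MulAction.toPermHom F (F ⧸ Q) q) ∣ e.factorial := by
      rw [← hindex, Subgroup.index, ← Nat.card_perm]
      exact orderOf_dvd_natCard _
    exact Nat.eq_one_of_dvd_coprimes (Nat.Coprime.pow_left n (hp.coprime_iff_not_dvd.2 fun h => by
      have := hp.dvd_factorial.1 h
      omega)) h1 h2
  obtain ⟨φ⟩ : Nonempty (P ≃* Q) := ⟨mulEquivOfCyclicCardEq hQcard.symm⟩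
  obtain ⟨s, Y, y, a, δ, hs, hstd⟩ := L.exists_colSys
  obtain ⟨t, Y', y', a', δ', ht, hstd', hY'⟩ := CfsgLib.Blocks.exists_frob_colSys
    (E := CfsgLib.Blocks.inertia c) φ hpM hPp L.one_lt_card L.inertia_free hdvd
    (by rw [hcard, hF]) hQC
  obtain ⟨I, ε, hI, hε, hst, hsign⟩ := hstd.exists_matching hstd'
  refine ⟨I, ε, hs.isPerfectIsometry hpM (by convert ht) I ε hI hε hst, fun η η' hη hη' => ?_⟩
  rcases hY' η η' hη hη' with rfl | ⟨h, h'⟩
  · rfl
  · rw [hsign η h, hsign η' h']

end Cfsg.Agent.S4634
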