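import Cfsg.Statements.S4635
import Cfsg.Agent.Lib.Blocks.CyclicCols
import Cfsg.Agent.Lib.Blocks.CyclicStructure
import Cfsg.Agent.Lib.Blocks.PairTransit

set_option autoImplicit false
open Cfsg

set_option linter.style.haveILetI false

namespace Cfsg.Agent.S4635

/-- Let B be a block of the finite group G relative to a maximal ideal M of the algebraic integers containing the prime p, with a nontrivial cyclic defect group P; let Z be the subgroup of order p of P and H = N_G(Z), which contains N_G(P). Let c be the block of H with defect group P that induces B. Then B and c contain the same number of irreducible characters, have the same p-regular rank, and there is a perfect isometry from c onto B. -/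
theorem result {G : Type*} [Group G] [Finite G] (p : ℕ) [Fact p.Prime] (M : Ideal Cfsg.AlgInt) (hM : Cfsg.IsPModular p M) (B : Set (Cfsg.IrrCharacter G)) (hB : Cfsg.IsPBlock M B) (P : Subgroup G) (hPD : Cfsg.IsDefectGroup p M B P) (hP1 : P ≠ ⊥) (hcyc : IsCyclic P) (Z : Subgroup G) (hZ : Z ≤ P) (hZcard : Nat.card Z = p) (H : Subgroup G) (hH : H = Subgroup.normalizer (Z : Set G)) (c : Set (Cfsg.IrrCharacter H)) (hcD : Cfsg.IsDefectGroup p M c (P.subgroupOf H)) (hc : Cfsg.IsInducedBlock M H c B) : Nat.card c = Nat.card B ∧ Cfsg.blockRank p c = Cfsg.blockRank p B ∧ ∃ (I : Cfsg.IrrCharacter H → Cfsg.IrrCharacter G) (ε : Cfsg.IrrCharacter H → ℤ), Cfsg.IsPerfectIsometry p M c B I ε := by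
  classical
  haveI : M.IsPrime := hM.2.1.isPrime
  haveI := Fintype.ofFinite G
  haveI := Fintype.ofFinite H
  haveI := Fintype.ofFinite P
  haveI := Fintype.ofFinite (P.subgroupOf H)
  have hpM := hM.2.2
  have hPp : IsPGroup p P := CfsgLib.Blocks.IsDefectGroup.isPGroup hPD
  haveI : IsCyclic P := hcyc
  have hab : ∀ x ∈ P, ∀ y ∈ P, x * y = y * x := fun x hx y hy =>
    congrArg Subtype.val ((IsCyclic.commGroup (α := P)).mul_comm ⟨x, hx⟩ ⟨y, hy⟩)
  have hPH : P ≤ H := by
    rw [hH]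
    exact (CfsgLib.Blocks.le_centralizer_of_abelian hZ hab).trans
      (CfsgLib.Blocks.centralizer_le_normalizer' _)
  have hCH : Subgroup.centralizer (P : Set G) ≤ H := by
    rw [hH]
    exact (Subgroup.centralizer_le hZ).trans (CfsgLib.Blocks.centralizer_le_normalizer' _)
  -- a maximal pair of `c` gives one of `B`
  obtain ⟨h, hh⟩ := CfsgLib.Blocks.exists_pair_on_defectGroup hpM hc.1 hcD
  have hmaxH := CfsgLib.Blocks.isMaximal_of_defectGroup hpM hcD hh
  obtain ⟨e, he, rfl⟩ := CfsgLib.Blocks.exists_relBlock hPH hCH hh.1.2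
  have hpair := CfsgLib.Blocks.isBrauerPairOf_of_rel hpM hPp hPH hCH he hh hc
  have hmax := CfsgLib.Blocks.isMaximal_of_defectGroup hpM hPD hpair
  obtain ⟨fZ, hfZ⟩ := CfsgLib.Blocks.exists_below (b := ⟨P, e⟩) hpM hmax.1.1 Z hZ
  have L : CfsgLib.Blocks.CycLocal p M B P e Z fZ := ⟨hM, hmax, hcyc, hZ, hZcard, hfZ⟩
  haveI : IsCyclic (P.subgroupOf H) :=
    isCyclic_of_surjective (Subgroup.subgroupOfEquivOfLe hPH).symm.toMonoidHom
      (Subgroup.subgroupOfEquivOfLe hPH).symm.surjective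
  have hZH : Z.subgroupOf H ≤ P.subgroupOf H := fun u hu => hZ hu
  obtain ⟨gZ, hgZ⟩ := CfsgLib.Blocks.exists_below
    (b := ⟨P.subgroupOf H, CfsgLib.Blocks.relBlock hPH hCH e⟩) hpM hmaxH.1.1 _ hZH
  have L' : CfsgLib.Blocks.CycLocal p M c (P.subgroupOf H) (CfsgLib.Blocks.relBlock hPH hCH e)
      (Z.subgroupOf H) gZ :=
    ⟨hM, hmaxH, inferInstance, hZH,
      (Nat.card_congr (Subgroup.subgroupOfEquivOfLe (hZ.trans hPH)).toEquiv).trans hZcard, hgZ⟩
  -- the inertial groups correspond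
  have hE : ∀ σ : MulAut (P.subgroupOf H),
      σ ∈ CfsgLib.Blocks.inertia (CfsgLib.Blocks.relBlock hPH hCH e) ↔
        ((Subgroup.subgroupOfEquivOfLe hPH).symm.trans σ).trans (Subgroup.subgroupOfEquivOfLe hPH) ∈
          CfsgLib.Blocks.inertia e := by
    intro σ
    rw [CfsgLib.Blocks.mem_inertia, CfsgLib.Blocks.mem_inertia]
    constructor
    · rintro ⟨g, hg, hgu⟩
      refine ⟨(g : G), (CfsgLib.Blocks.conjPair_rel_iff hPH hCH hPH hCH e e g).1 hg, fun u => ?_⟩
      exact congrArg (fun x : H => (x : G)) (hgu ((Subgroup.subgroupOfEquivOfLe hPH).symm u))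
    · rintro ⟨g, hg, hgu⟩
      have hgH : g ∈ H := by
        rw [hH]
        exact L.normalizer_le (CfsgLib.Blocks.stabPair_le_normalizer _ hg)
      refine ⟨⟨g, hgH⟩, (CfsgLib.Blocks.conjPair_rel_iff hPH hCH hPH hCH e e ⟨g, hgH⟩).2 hg,
        fun u => Subtype.ext ?_⟩
      have h1 := hgu (Subgroup.subgroupOfEquivOfLe hPH u)
      simp only [MulEquiv.trans_apply, MulEquiv.symm_apply_apply] at h1
      exact h1
  obtain ⟨s, Y, y, a, δ, hs, hstd⟩ := L.exists_colSys
  obtain ⟨t, Y', y', a', δ', ht, hstd'⟩ := L'.exists_colSys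
  have hstd2 := hstd.transport (Subgroup.subgroupOfEquivOfLe hPH) hE
  obtain ⟨I, ε, hI, hε, hst, -⟩ := hstd2.exists_matching hstd'
  let ι : {u : P.subgroupOf H // u ≠ 1} ≃ {u : P // u ≠ 1} :=
    (Subgroup.subgroupOfEquivOfLe hPH).toEquiv.subtypeEquiv fun u =>
      not_congr (MulEquiv.map_eq_one_iff _).symm
  refine ⟨?_, ?_, I, ε, (hs.reindex ι).isPerfectIsometry hpM (by convert ht) I ε hI hε hst⟩
  · rw [Nat.card_coe_set_eq, Nat.card_coe_set_eq, ← hI.image_eq,
      Set.ncard_image_of_injOn hI.injOn]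
  · obtain ⟨-, -, -, -, -, -, hl, -⟩ := L.dade_structure
    obtain ⟨-, -, -, -, -, -, hl', -⟩ := L'.dade_structure
    rw [hl, hl', ← CfsgLib.Blocks.card_inertia, ← CfsgLib.Blocks.card_inertia, ← hstd.card_diff,
      hstd2.card_diff]

end Cfsg.Agent.S4635
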