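import Cfsg.Statements.S4636
import Cfsg.Agent.S4619

set_option autoImplicit false
open scoped Pointwise
open Cfsg Pointwise

namespace Cfsg.Agent.S4636

/-- Let P be a nontrivial cyclic p-subgroup of the finite group G and Z its subgroup of order p. For every x outside N_G(Z), P meets its conjugate xPx⁻¹ trivially; consequently N_G(Q) ≤ N_G(Z) for every nontrivial subgroup Q of P. -/
theorem result {G : Type*} [Group G] [Finite G] (p : ℕ) [Fact p.Prime] (P : Subgroup G) (hP : IsPGroup p P) (hP1 : P ≠ ⊥) (hcyc : IsCyclic P) (Z : Subgroup G) (hZ : Z ≤ P) (hZcard : Nat.card Z = p) : (∀ x : G, x ∉ Subgroup.normalizer (Z : Set G) → P ⊓ MulAut.conj x • P = ⊥) ∧ ∀ Q : Subgroup G, Q ≤ P → Q ≠ ⊥ → Subgroup.normalizer (Q : Set G) ≤ Subgroup.normalizer (Z : Set G) := by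
  classical
  have huniq : ∀ K : Subgroup G, K ≤ P → Nat.card K = p → K = Z := by
    intro K hK hKc
    haveI := Fintype.ofFinite P
    have hsol : (Finset.univ.filter fun y : P => y ^ p = 1).card ≤ p :=
      IsCyclic.card_pow_eq_one_le (Fact.out (p := p.Prime)).pos
    have hmem : ∀ L : Subgroup G, L ≤ P → Nat.card L = p →
        ∀ y : P, (y : G) ∈ L → y ^ p = 1 := fun L _ hL y hy => by
      refine Subtype.ext ?_
      have h := congrArg Subtype.val (pow_card_eq_one' (x := (⟨(y : G), hy⟩ : L)))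
      simpa [hL] using h
    have key : ∀ L : Subgroup G, L ≤ P → Nat.card L = p →
        (Finset.univ.filter fun y : P => (y : G) ∈ L) = Finset.univ.filter fun y : P => y ^ p = 1 := by
      intro L hL hLc
      refine Finset.eq_of_subset_of_card_le (fun y hy => ?_) ?_
      · exact Finset.mem_filter.2 ⟨Finset.mem_univ _, hmem L hL hLc y (Finset.mem_filter.1 hy).2⟩
      · refine hsol.trans (le_of_eq ?_)
        rw [← hLc, ← Fintype.card_subtype, ← Nat.card_eq_fintype_card]
        exact Nat.card_congr (Subgroup.subgroupOfEquivOfLe hL).toEquiv.symm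
    ext y
    by_cases hy : y ∈ P
    · have h := Finset.ext_iff.1 ((key K hK hKc).trans (key Z hZ hZcard).symm) ⟨y, hy⟩
      simpa using h
    · exact ⟨fun h => absurd (hK h) hy, fun h => absurd (hZ h) hy⟩
  have h1 : ∀ x : G, x ∉ Subgroup.normalizer (Z : Set G) → P ⊓ MulAut.conj x • P = ⊥ := by
    intro x hx
    by_contra hne
    obtain ⟨y, hy, hy1⟩ := (Subgroup.bot_or_exists_ne_one _).resolve_left hne
    haveI : Nontrivial ↥(P ⊓ MulAut.conj x • P) := ⟨⟨⟨y, hy⟩, 1, fun h => hy1 (congrArg Subtype.val h)⟩⟩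
    obtain ⟨n, hn, hcard⟩ := (IsPGroup.to_le hP (inf_le_left (b := MulAut.conj x • P))).nontrivial_iff_card.1 inferInstance
    obtain ⟨w, hw⟩ := exists_prime_orderOf_dvd_card' (G := ↥(P ⊓ MulAut.conj x • P)) p
      (hcard ▸ dvd_pow_self p hn.ne')
    set K : Subgroup G := Subgroup.zpowers (w : G)
    have hKle : K ≤ P ⊓ MulAut.conj x • P := Subgroup.zpowers_le.2 w.2
    have hKc : Nat.card K = p := by rw [Nat.card_zpowers, Subgroup.orderOf_coe, hw]
    have hK1 : K = Z := huniq K (hKle.trans inf_le_left) hKc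
    have hK2 : (MulAut.conj x)⁻¹ • K ≤ P := by
      rw [← Subgroup.subset_pointwise_smul_iff]
      exact hKle.trans inf_le_right
    have hK3 : Nat.card ↥((MulAut.conj x)⁻¹ • K) = p := by
      rw [← hKc]; exact (Nat.card_congr (Subgroup.equivSMul _ K).toEquiv).symm
    have hK4 := huniq _ hK2 hK3
    apply hx
    rw [Subgroup.mem_normalizer_iff]
    intro h
    have hfix : MulAut.conj x • Z = Z := by
      conv_lhs => rw [← hK4, smul_inv_smul, hK1]
    constructor
    · intro hh
      rw [← hfix]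
      exact Subgroup.smul_mem_pointwise_smul h (MulAut.conj x) Z hh
    · intro hh
      rw [← hfix, Subgroup.mem_pointwise_smul_iff_inv_smul_mem] at hh
      simpa [← map_inv, MulAut.smul_def, mul_assoc] using hh
  refine ⟨h1, fun Q hQ hQ1 g hg => ?_⟩
  by_contra hgn
  have h2 := Cfsg.Agent.S4619.conj_smul_eq_of_mem_normalizer hg
  refine hQ1 (le_bot_iff.1 ?_)
  rw [← h1 g hgn]
  exact le_inf hQ (h2.ge.trans (Subgroup.pointwise_smul_le_pointwise_smul_iff.2 hQ))

end Cfsg.Agent.S4636
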