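import Cfsg.Statements.S4638
import Cfsg.Agent.Lib.Blocks.KleinCols
import Cfsg.Agent.Lib.Blocks.PairTransit

set_option autoImplicit false
open Cfsg

set_option linter.style.haveILetI false

namespace Cfsg.Agent.S4638

/-- Let B be a block of the finite group G relative to a maximal ideal M of the algebraic integers containing 2, with a Klein four defect group P, and let c be its Brauer correspondent: the block of N_G(P) with defect group P that induces B. Then there is a perfect isometry from c onto B. -/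
theorem result {G : Type*} [Group G] [Finite G] (M : Ideal Cfsg.AlgInt) (hM : Cfsg.IsPModular 2 M) (B : Set (Cfsg.IrrCharacter G)) (hB : Cfsg.IsPBlock M B) (P : Subgroup G) (hPD : Cfsg.IsDefectGroup 2 M B P) (hV : IsKleinFour P) (c : Set (Cfsg.IrrCharacter (Subgroup.normalizer (P : Set G)))) (hcD : Cfsg.IsDefectGroup 2 M c (P.subgroupOf (Subgroup.normalizer (P : Set G)))) (hc : Cfsg.IsInducedBlock M (Subgroup.normalizer (P : Set G)) c B) : ∃ (I : Cfsg.IrrCharacter (Subgroup.normalizer (P : Set G)) → Cfsg.IrrCharacter G) (ε : Cfsg.IrrCharacter (Subgroup.normalizer (P : Set G)) → ℤ), Cfsg.IsPerfectIsometry 2 M c B I ε := by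
  classical
  haveI : M.IsPrime := hM.2.1.isPrime
  haveI := Fintype.ofFinite G
  haveI := Fintype.ofFinite (Subgroup.normalizer (P : Set G))
  haveI := Fintype.ofFinite P
  haveI := Fintype.ofFinite (P.subgroupOf (Subgroup.normalizer (P : Set G)))
  have hpM := hM.2.2
  have hPp : IsPGroup 2 P := CfsgLib.Blocks.IsDefectGroup.isPGroup hPD
  have hsq : ∀ x ∈ P, x * x = 1 := fun x hx => by
    have h := Monoid.pow_exponent_eq_one (⟨x, hx⟩ : P)
    rw [hV.exponent_two, sq] at h
    exact congrArg Subtype.val h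
  have hPH : P ≤ Subgroup.normalizer (P : Set G) := Subgroup.le_normalizer
  have hCH : Subgroup.centralizer (P : Set G) ≤ Subgroup.normalizer (P : Set G) :=
    CfsgLib.Blocks.centralizer_le_normalizer' _
  obtain ⟨h, hh⟩ := CfsgLib.Blocks.exists_pair_on_defectGroup hpM hc.1 hcD
  have hmaxH := CfsgLib.Blocks.isMaximal_of_defectGroup hpM hcD hh
  obtain ⟨e, he, rfl⟩ := CfsgLib.Blocks.exists_relBlock hPH hCH hh.1.2
  have hpair := CfsgLib.Blocks.isBrauerPairOf_of_rel hpM hPp hPH hCH he hh hc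
  have hmax := CfsgLib.Blocks.isMaximal_of_defectGroup hpM hPD hpair
  have hP4 : Nat.card P = 4 := hV.card_four
  have hP4' : Nat.card (P.subgroupOf (Subgroup.normalizer (P : Set G))) = 4 :=
    (Nat.card_congr (Subgroup.subgroupOfEquivOfLe hPH).toEquiv).trans hP4
  have hsq' : ∀ x ∈ P.subgroupOf (Subgroup.normalizer (P : Set G)), x * x = 1 :=
    fun x hx => Subtype.ext (hsq x hx)
  -- the inertial groups correspond
  have hE : ∀ σ : MulAut (P.subgroupOf (Subgroup.normalizer (P : Set G))),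
      σ ∈ CfsgLib.Blocks.inertia (CfsgLib.Blocks.relBlock hPH hCH e) ↔
        ((Subgroup.subgroupOfEquivOfLe hPH).symm.trans σ).trans (Subgroup.subgroupOfEquivOfLe hPH) ∈
          CfsgLib.Blocks.inertia e := by
    intro σ
    rw [CfsgLib.Blocks.mem_inertia, CfsgLib.Blocks.mem_inertia]
    constructor
    · rintro ⟨g, hg, hgu⟩
      refine ⟨(g : G), (CfsgLib.Blocks.conjPair_rel_iff hPH hCH hPH hCH e e g).1 hg, fun u => ?_⟩
      exact congrArg (fun x : Subgroup.normalizer (P : Set G) => (x : G))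
        (hgu ((Subgroup.subgroupOfEquivOfLe hPH).symm u))
    · rintro ⟨g, hg, hgu⟩
      have hgH := CfsgLib.Blocks.stabPair_le_normalizer _ hg
      refine ⟨⟨g, hgH⟩, (CfsgLib.Blocks.conjPair_rel_iff hPH hCH hPH hCH e e ⟨g, hgH⟩).2 hg,
        fun u => Subtype.ext ?_⟩
      have h1 := hgu (Subgroup.subgroupOfEquivOfLe hPH u)
      simp only [MulEquiv.trans_apply, MulEquiv.symm_apply_apply] at h1
      exact h1
  have hcard : Nat.card (CfsgLib.Blocks.inertia (CfsgLib.Blocks.relBlock hPH hCH e)) =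
      Nat.card (CfsgLib.Blocks.inertia e) :=
    Nat.card_congr ((MulAut.congr (Subgroup.subgroupOfEquivOfLe hPH)).toEquiv.subtypeEquiv hE)
  obtain ⟨σ, hs, hσ, hσ3, hσ1⟩ := CfsgLib.Blocks.exists_klein_colSys hM hmax hP4 hsq
  obtain ⟨τ, ht, hτ, hτ3, hτ1⟩ := CfsgLib.Blocks.exists_klein_colSys hM hmaxH hP4' hsq'
  obtain ⟨hr, hB4, -⟩ := CfsgLib.Blocks.four_defect hM hmax hP4 hsq
  obtain ⟨-, hc4, -⟩ := CfsgLib.Blocks.four_defect hM hmaxH hP4' hsq'
  let ι : {u : P.subgroupOf (Subgroup.normalizer (P : Set G)) // u ≠ 1} ≃ {u : P // u ≠ 1} :=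
    (Subgroup.subgroupOfEquivOfLe hPH).toEquiv.subtypeEquiv fun u =>
      not_congr (MulEquiv.map_eq_one_iff _).symm
  have hU : Nat.card {u : P.subgroupOf (Subgroup.normalizer (P : Set G)) // u ≠ 1} = 3 := by
    rw [Nat.card_eq_fintype_card, Fintype.card_subtype_compl, Fintype.card_subtype_eq,
      ← Nat.card_eq_fintype_card, hP4']
  obtain ⟨I, ε, hI, hε, hst⟩ := CfsgLib.Blocks.exists_klein_matching (B := B) (d := c) hU hB4 hc4
    (σ := fun χ a => σ χ (ι a)) (τ := τ) (fun χ hχ a => hσ χ hχ (ι a)) hτ (by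
      rw [← CfsgLib.Blocks.card_inertia] at hr
      rcases hr with h1 | h3
      · exact Or.inr ⟨fun a b hab => hσ1 h1 _ _ (ι.injective.ne hab), hτ1 (hcard.trans h1)⟩
      · exact Or.inl ⟨fun χ hχ a b => hσ3 h3 χ hχ _ _, hτ3 (hcard.trans h3)⟩)
  exact ⟨I, ε, (hs.reindex ι).isPerfectIsometry hpM (by convert ht) I ε hI hε hst⟩

end Cfsg.Agent.S4638
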