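import Cfsg.Statements.S4641
import Cfsg.Agent.Lib.Modular.BrauerDegree
import Cfsg.Agent.Lib.BlockOrth.DefectOrder

set_option autoImplicit false
open Cfsg Subgroup
open scoped Pointwise commutatorElement

namespace Cfsg.Agent.S4641

/-- Let B be a block of the finite group G relative to a maximal ideal M of the algebraic integers containing the prime p, let p^a be the p-part of the order of G and p^d the order of a defect group D of B, and let g be the greatest common divisor of the degrees of the members of B. Then the p-part of g is exactly p^(a−d), and writing g = p^(a−d)·u there is a positive integer v, prime to p and at least the p-regular rank of B (its number of irreducible Brauer characters), with Σ_{χ ∈ B} χ(1)² = p^(2a−d)·u²·v. -/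
theorem result {G : Type*} [Group G] [Finite G] (p : ℕ) [Fact p.Prime] (M : Ideal Cfsg.AlgInt) (hM : Cfsg.IsPModular p M) (B : Set (Cfsg.IrrCharacter G)) (hB : Cfsg.IsPBlock M B) (D : Subgroup G) (hD : Cfsg.IsDefectGroup p M B D) (a d : ℕ) (ha : (Nat.card G).factorization p = a) (hd : Nat.card D = p ^ d) (g : ℕ) (hg1 : ∀ χ ∈ B, g ∣ Cfsg.charDegree (χ : G → ℂ)) (hg2 : ∀ g' : ℕ, (∀ χ ∈ B, g' ∣ Cfsg.charDegree (χ : G → ℂ)) → g' ∣ g) : g.factorization p = a - d ∧ ∃ v : ℕ, 0 < v ∧ ¬ p ∣ v ∧ Cfsg.blockRank p B ≤ v ∧ ∑ᶠ χ ∈ B, Cfsg.charDegree (χ : G → ℂ) ^ 2 = p ^ (2 * a - d) * (g / p ^ (a - d)) ^ 2 * v := by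
  classical
  haveI := Fintype.ofFinite G
  haveI := CfsgLib.Blocks.isPrime_of_isPModular hM
  have hp : p.Prime := Fact.out
  obtain ⟨V, hV⟩ := CfsgLib.BrauerChar.exists_place hM.2.2
  haveI := hV.charP
  have hne := CfsgLib.Blocks.IsPBlock.nonempty hB
  obtain ⟨χ₀, hχ₀, hmin⟩ := CfsgLib.BlockOrth.exists_degVal_eq_blockMin (p := p) hne
  have hd0 : d = blockDefect p B := by
    have h1 := CfsgLib.BlockOrth.card_defectGroup hM.2.2 hB hD
    rw [hd] at h1
    exact Nat.pow_right_injective hp.two_le h1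
  have hmd := CfsgLib.BlockOrth.blockMin_add_blockDefect (p := p) hne
  rw [ha, ← hd0] at hmd
  have hg0 : g ≠ 0 := fun h => CfsgLib.BlockOrth.irr_charDegree_ne_zero χ₀
    (by simpa [h] using hg1 χ₀ hχ₀)
  have hgp : g.factorization p = a - d := by
    refine le_antisymm ?_ ?_
    · calc g.factorization p ≤ CfsgLib.BlockOrth.degVal p χ₀ :=
            (Nat.factorization_le_iff_dvd hg0 (CfsgLib.BlockOrth.irr_charDegree_ne_zero χ₀)).2
              (hg1 χ₀ hχ₀) p
        _ = a - d := by omega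
    · refine (hp.pow_dvd_iff_le_factorization hg0).1 (hg2 _ fun χ hχ => ?_)
      refine (hp.pow_dvd_iff_le_factorization
        (CfsgLib.BlockOrth.irr_charDegree_ne_zero χ)).2 ?_
      have := CfsgLib.BlockOrth.blockMin_le (p := p) hχ
      unfold CfsgLib.BlockOrth.degVal at this
      omega
  refine ⟨hgp, ?_⟩
  set u := g / p ^ (a - d) with hu
  have hgu : g = p ^ (a - d) * u := by
    rw [hu, Nat.mul_div_cancel' (hgp ▸ Nat.ordProj_dvd g p)]
  have hu0 : u ≠ 0 := fun h => hg0 (by rw [hgu, h, mul_zero])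
  have hup : ¬ p ∣ u := by
    rw [hu, ← hgp]
    exact Nat.not_dvd_ordCompl hp hg0
  set S := ∑ᶠ χ ∈ B, charDegree (χ : G → ℂ) ^ 2 with hS
  have hSp : S.factorization p = 2 * a - d := by
    rw [hS, CfsgLib.BlockOrth.sum_degree_sq_factorization hM.2.2 hB, ha]
    omega
  have hlow : blockRank p B * (g * (p ^ a * u)) ≤ S := by
    have h := CfsgLib.BrauerChar.blockRank_mul_le_sum_degree_sq hV hB hg1
    rw [ha] at h
    refine le_trans (Nat.mul_le_mul_left _ (Nat.mul_le_mul_left _ (Nat.le_of_dvd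
      (Nat.pos_of_ne_zero (Nat.lcm_ne_zero (pow_ne_zero _ hp.ne_zero) hg0)) ?_))) h
    exact Nat.Coprime.mul_dvd_of_dvd_of_dvd
      (Nat.Coprime.pow_left _ ((Nat.Prime.coprime_iff_not_dvd hp).2 hup))
      (Nat.dvd_lcm_left _ _) ((Dvd.intro_left _ hgu.symm).trans (Nat.dvd_lcm_right _ _))
  have hS0 : S ≠ 0 := by
    intro h0
    have h1 : charDegree (χ₀ : G → ℂ) ^ 2 ≤ S := by
      haveI := CfsgLib.Chars.irrFintype G
      rw [hS, CfsgLib.BlockOrth.sum_mem_block]
      exact Finset.single_le_sum (f := fun χ : IrrCharacter G => charDegree (χ : G → ℂ) ^ 2)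
        (fun _ _ => Nat.zero_le _) (Finset.mem_filter.2 ⟨Finset.mem_univ _, hχ₀⟩)
    rw [h0, Nat.le_zero] at h1
    exact CfsgLib.BlockOrth.irr_charDegree_ne_zero χ₀ (eq_zero_of_pow_eq_zero h1)
  have hdvd : p ^ (2 * a - d) * u ^ 2 ∣ S := by
    refine Nat.Coprime.mul_dvd_of_dvd_of_dvd
      (Nat.Coprime.pow _ _ ((Nat.Prime.coprime_iff_not_dvd hp).2 hup))
      (hSp ▸ Nat.ordProj_dvd S p) ?_
    haveI := CfsgLib.Chars.irrFintype G
    rw [hS, CfsgLib.BlockOrth.sum_mem_block]
    exact Finset.dvd_sum fun χ hχ =>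
      pow_dvd_pow_of_dvd ((Dvd.intro_left _ hgu.symm).trans (hg1 χ (Finset.mem_filter.1 hχ).2)) 2
  obtain ⟨v, hv⟩ := hdvd
  have hv0 : v ≠ 0 := fun h => hS0 (by rw [hv, h, mul_zero])
  refine ⟨v, Nat.pos_of_ne_zero hv0, fun hpv => ?_, ?_, hv⟩
  · have h1 := hSp
    rw [hv, Nat.factorization_mul (by first | positivity | simp [hp.ne_zero, hu0, pos_iff_ne_zero]) hv0, Nat.factorization_mul (by first | positivity | simp [hp.ne_zero, hu0, pos_iff_ne_zero])
      (by first | positivity | simp [hp.ne_zero, hu0, pos_iff_ne_zero])] at h1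
    simp only [Finsupp.coe_add, Pi.add_apply, Nat.factorization_pow, Finsupp.coe_smul, Pi.smul_apply,
      hp.factorization_self, smul_eq_mul, mul_one] at h1
    have := hp.factorization_pos_of_dvd hv0 hpv
    omega
  · have e : g * (p ^ a * u) = p ^ (2 * a - d) * u ^ 2 := by
      rw [hgu, show 2 * a - d = (a - d) + a by omega, pow_add]
      ring
    rw [e, hv, mul_comm _ v] at hlow
    exact Nat.le_of_mul_le_mul_right hlow (by first | positivity | simp [hp.ne_zero, hu0, pos_iff_ne_zero])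


end Cfsg.Agent.S4641
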