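import Cfsg.Statements.S4642
import Cfsg.Agent.Lib.Blocks.FongPairs
import Cfsg.Agent.Lib.PLocal.Constrained

set_option autoImplicit false
open Cfsg Subgroup
open scoped Pointwise commutatorElement

namespace Cfsg.Agent.S4642

/-- Let G be a finite group, p a prime, M a maximal ideal of the algebraic integers containing p, K the largest normal subgroup of G of order prime to p, and L the preimage in G of the largest normal p-subgroup of G/K. Let Q be a Sylow p-subgroup of L and suppose C_G(Q) ≤ L. Let θ be an irreducible character of K invariant under conjugation by every element of G, and let B be the set of irreducible characters of G whose restriction to K contains θ. Then B is a block of G, every Sylow p-subgroup of G is a defect group of B, and B is of principal type: for every p-subgroup R of G exactly one block of C_G(R) induces B. -/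
theorem result {G : Type*} [Group G] [Fintype G] (p : ℕ) [Fact p.Prime] (M : Ideal Cfsg.AlgInt) (hM : Cfsg.IsPModular p M) (K : Subgroup G) (hK : K = Cfsg.pPrimeCore p G) [Fintype K] (L : Subgroup G) (hL : L = Cfsg.pPrimePCore p G) (Q : Subgroup G) (hQL : Q ≤ L) (hQp : IsPGroup p Q) (hQS : ¬ p ∣ Q.relIndex L) (hCQ : Subgroup.centralizer (Q : Set G) ≤ L) (θ : Cfsg.IrrCharacter K) (hθ : ∀ g : G, Cfsg.IsConjCharOf K g (θ : K → ℂ) (θ : K → ℂ)) (B : Set (Cfsg.IrrCharacter G)) (hBdef : ∀ χ : Cfsg.IrrCharacter G, χ ∈ B ↔ Cfsg.classInner (fun k : K => (χ : G → ℂ) k) (θ : K → ℂ) ≠ 0) : Cfsg.IsPBlock M B ∧ (∀ S : Sylow p G, Cfsg.IsDefectGroup p M B S) ∧ ∀ R : Subgroup G, IsPGroup p R → ∃! f : Set (Cfsg.IrrCharacter (Subgroup.centralizer (R : Set G))), Cfsg.IsInducedBlock M (Subgroup.centralizer (R : Set G)) f B := by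
  classical
  haveI : M.IsPrime := hM.2.1.isPrime
  subst hK
  subst hL
  haveI hKn : (pPrimeCore p G).Normal := inferInstance
  haveI hLn := CfsgLib.PLocal.pPrimePCore_normal p G
  have hcard : ¬ p ∣ Nat.card (pPrimeCore p G) := CfsgLib.Base.not_dvd_card_pPrimeCore p G
  have hrel : ∀ (H : Type _) [Group H] [Finite H], ∃ k,
      (pPrimeCore p H).relIndex (pPrimePCore p H) = p ^ k := by
    intro H _ _
    obtain ⟨k, hk⟩ := IsPGroup.iff_card.mp (CfsgLib.Base.isPGroup_pCore p (H ⧸ pPrimeCore p H))
    refine ⟨k, ?_⟩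
    rw [← hk, ← CfsgLib.PLocal.card_map_mk'_eq_relIndex, pPrimePCore,
      Subgroup.map_comap_eq_self_of_surjective (QuotientGroup.mk'_surjective _)]
  have hinv : ∀ (g : G) (n : pPrimeCore p G), (θ : pPrimeCore p G → ℂ)
      (CfsgLib.CharsMore.conjBy (pPrimeCore p G) g n) = (θ : pPrimeCore p G → ℂ) n := fun g n =>
    hθ g n _ (CfsgLib.CharsMore.coe_conjBy _ g n)
  obtain ⟨k, hk⟩ := hrel G
  obtain ⟨hBb, hBS⟩ := CfsgLib.Blocks.fong_single_block hM.2.2 (pPrimeCore p G) hcard
    (pPrimePCore p G) (CfsgLib.Base.pPrimeCore_le_pPrimePCore p G) hk hQL hQp hQS hCQ θ hinv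
  have hBeq : B = {χ : IrrCharacter G | classInner (fun n : pPrimeCore p G => (χ : G → ℂ) n)
      (θ : pPrimeCore p G → ℂ) ≠ 0} := Set.ext hBdef
  rw [← hBeq] at hBb hBS
  refine ⟨hBb, hBS, fun R hR => ?_⟩
  simp only [CfsgLib.Blocks.isInducedBlock_centralizer_iff hM.2.2 hR]
  -- `G` is `p`-constrained
  have hcons : IsPConstrained p G := by
    intro P
    obtain ⟨x, hx⟩ := MulAction.exists_smul_eq (pPrimePCore p G)
      ((CfsgLib.Blocks.isPGroup_subgroupOf hQp hQL).toSylow hQS) P
    have hP : ((P : Subgroup (pPrimePCore p G)).map (pPrimePCore p G).subtype) =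
        Q.map (MulAut.conj (x : G)).toMonoidHom := by
      rw [← hx]
      show (((Q.subgroupOf (pPrimePCore p G)).map (MulAut.conj x).toMonoidHom)).map _ = _
      conv_rhs => rw [← CfsgLib.Blocks.map_subgroupOf_subtype hQL]
      rw [Subgroup.map_map, Subgroup.map_map]
      rfl
    rw [hP]
    intro c hc
    have h1 : (x : G)⁻¹ * c * x ∈ Subgroup.centralizer (Q : Set G) := by
      rw [Subgroup.mem_centralizer_iff]
      intro u hu
      have h2 := Subgroup.mem_centralizer_iff.1 hc _ ⟨u, hu, rfl⟩
      simp only [MulEquiv.coe_toMonoidHom, MulAut.conj_apply] at h2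
      calc u * ((x : G)⁻¹ * c * x) = (x : G)⁻¹ * ((x * u * (x : G)⁻¹) * c) * x := by group
        _ = (x : G)⁻¹ * (c * (x * u * (x : G)⁻¹)) * x := by rw [h2]
        _ = (x : G)⁻¹ * c * x * u := by group
    have := (pPrimePCore p G).mul_mem ((pPrimePCore p G).mul_mem x.2 (hCQ h1)) ((pPrimePCore p G).inv_mem x.2)
    simpa [mul_assoc] using this
  have hC := CfsgLib.PLocal.isPConstrained_centralizer hcons hR
  have hsub : (pPrimeCore p G).subgroupOf (Subgroup.centralizer (R : Set G)) =
      pPrimeCore p (Subgroup.centralizer (R : Set G)) := by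
    apply Subgroup.map_injective (Subgroup.centralizer (R : Set G)).subtype_injective
    rw [Subgroup.subgroupOf, Subgroup.map_comap_eq, Subgroup.range_subtype]
    have hCN : Subgroup.centralizer (R : Set G) ≤ Subgroup.normalizer (R : Set G) :=
      Subgroup.centralizer_le_normalizer _
    refine le_antisymm (CfsgLib.Base.le_map_pPrimeCore inf_le_left ?_
      ((CfsgLib.Base.pPrimeCore_coprime p G).coprime_dvd_left
        (Subgroup.card_dvd_of_le inf_le_right))) (le_inf (Subgroup.map_subtype_le _) ?_)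
    · intro c hc
      rw [Subgroup.mem_normalizer_iff]
      intro y
      refine ⟨fun h => ⟨Subgroup.mul_mem _ (Subgroup.mul_mem _ hc h.1) (Subgroup.inv_mem _ hc),
        hKn.conj_mem _ h.2 _⟩, fun h => ⟨?_, ?_⟩⟩
      · simpa [mul_assoc] using
          Subgroup.mul_mem _ (Subgroup.mul_mem _ (Subgroup.inv_mem _ hc) h.1) hc
      · simpa [mul_assoc] using hKn.conj_mem _ h.2 c⁻¹
    · refine le_trans (CfsgLib.Base.map_pPrimeCore_le_of_normal_subgroupOf hCN
        ((Subgroup.normal_subgroupOf_iff_le_normalizer hCN).2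
          fun z hz => CfsgLib.Blocks.mem_normalizer_centralizer hz)) ?_
      rw [CfsgLib.PLocal.map_pPrimeCore_normalizer hcons hR]
      exact inf_le_left
  haveI hLC := CfsgLib.PLocal.pPrimePCore_normal p (Subgroup.centralizer (R : Set G))
  obtain ⟨S⟩ : Nonempty (Sylow p ↥(pPrimePCore p (Subgroup.centralizer (R : Set G)))) :=
    inferInstance
  obtain ⟨j, hj⟩ := hrel (Subgroup.centralizer (R : Set G))
  have hSi : ¬ p ∣ ((S : Subgroup (pPrimePCore p (Subgroup.centralizer (R : Set G)))).map
      (pPrimePCore p (Subgroup.centralizer (R : Set G))).subtype).relIndex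
      (pPrimePCore p (Subgroup.centralizer (R : Set G))) := by
    rw [Subgroup.relIndex, Subgroup.subgroupOf, Subgroup.comap_map_eq_self_of_injective
      (pPrimePCore p (Subgroup.centralizer (R : Set G))).subtype_injective]
    exact S.not_dvd_index
  exact CfsgLib.Blocks.existsUnique_pair_at hM.2.2 (pPrimeCore p G) hcard θ hinv hBb hBdef hBS hR
    (pPrimePCore p (Subgroup.centralizer (R : Set G)))
    (hsub ▸ CfsgLib.Base.pPrimeCore_le_pPrimePCore p _) (hsub ▸ hj)
    (Subgroup.map_subtype_le _) (S.2.map _) hSi (hC S)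


end Cfsg.Agent.S4642
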