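import Cfsg.Statements.S4645
import Cfsg.Agent.S4633
import Cfsg.Agent.Lib.Blocks.TrivialInertia
import Cfsg.Agent.Lib.Blocks.FreeAction

set_option autoImplicit false
open Cfsg Subgroup
open scoped Pointwise commutatorElement

namespace Cfsg.Agent.S4645

/-- Let B be a block of the finite group G relative to a maximal ideal M of the algebraic integers containing the prime p, with a nontrivial cyclic defect group P; let c be a block of C_G(P) inducing B and T the stabilizer of c in N_G(P). Let Q be a nontrivial subgroup of P (so C_G(P) ≤ C_G(Q)), f the block of C_G(Q) induced by c inside C_G(Q), and T' the stabilizer of f in N_G(Q). Then T' = T·C_G(Q), the index of C_G(Q) in T' equals the index of C_G(P) in T, f has p-regular rank 1, and f is a nilpotent block of C_G(Q). -/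
theorem result {G : Type*} [Group G] [Finite G] (p : ℕ) [Fact p.Prime] (M : Ideal Cfsg.AlgInt) (hM : Cfsg.IsPModular p M) (B : Set (Cfsg.IrrCharacter G)) (hB : Cfsg.IsPBlock M B) (P : Subgroup G) (hPD : Cfsg.IsDefectGroup p M B P) (hP1 : P ≠ ⊥) (hcyc : IsCyclic P) (c : Set (Cfsg.IrrCharacter (Subgroup.centralizer (P : Set G)))) (hc : Cfsg.IsInducedBlock M (Subgroup.centralizer (P : Set G)) c B) (T : Subgroup G) (hT : ∀ g : G, g ∈ T ↔ (g ∈ Subgroup.normalizer (P : Set G) ∧ Cfsg.StabilizesBlock (Subgroup.centralizer (P : Set G)) c g)) (Q : Subgroup G) (hQP : Q ≤ P) (hQ1 : Q ≠ ⊥) (f : Set (Cfsg.IrrCharacter (Subgroup.centralizer (Q : Set G)))) (hf : Cfsg.IsInducedBlockIn M (Subgroup.centralizer (Q : Set G)) (Subgroup.centralizer (P : Set G)) c f) (T' : Subgroup G) (hT' : ∀ g : G, g ∈ T' ↔ (g ∈ Subgroup.normalizer (Q : Set G) ∧ Cfsg.StabilizesBlock (Subgroup.centralizer (Q : Set G)) f g)) : T' = T ⊔ Subgroup.centralizer (Q : Set G) ∧ (Subgroup.centralizer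 (Q : Set G)).relIndex T' = (Subgroup.centralizer (P : Set G)).relIndex T ∧ Cfsg.blockRank p f = 1 ∧ Cfsg.IsNilpotentBlock p M f := by
  classical
  haveI : M.IsPrime := hM.2.1.isPrime
  haveI := Fintype.ofFinite G
  have hpM := hM.2.2
  have hPp : IsPGroup p P := CfsgLib.Blocks.IsDefectGroup.isPGroup hPD
  have hab : ∀ x ∈ P, ∀ y ∈ P, x * y = y * x := fun x hx y hy =>
    congrArg Subtype.val (@mul_comm P (IsCyclic.commGroup).toCommMonoid.toCommSemigroup.toCommMagma ⟨x, hx⟩ ⟨y, hy⟩)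
  have hpair := (CfsgLib.Blocks.isInducedBlock_centralizer_iff hpM hPp).1 hc
  have hmax := CfsgLib.Blocks.isMaximal_of_defectGroup hpM hPD hpair
  obtain rfl : T = CfsgLib.Blocks.stabPair ⟨P, c⟩ := by
    ext g
    rw [hT, CfsgLib.Blocks.mem_stabPair_iff hpair.1.2]
  have hCPT : centralizer (P : Set G) ≤ CfsgLib.Blocks.stabPair ⟨P, c⟩ :=
    CfsgLib.Blocks.centralizer_le_stabPair hpair.1.2
  have hTN : CfsgLib.Blocks.stabPair ⟨P, c⟩ ≤ normalizer (P : Set G) :=
    fun g hg => ((hT g).1 hg).1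
  haveI : ((centralizer (P : Set G)).subgroupOf (CfsgLib.Blocks.stabPair ⟨P, c⟩)).Normal :=
    (normal_subgroupOf_iff_le_normalizer hCPT).2
      fun g hg => CfsgLib.Blocks.mem_normalizer_centralizer (hTN hg)
  have hfree := (Cfsg.Agent.S4633.result p M hM B hB P hPD hP1 hcyc c hc _ hT).2.2
  have hTQ : CfsgLib.Blocks.stabPair ⟨P, c⟩ ≤ normalizer (Q : Set G) := by
    intro g hg
    haveI := hcyc
    have hchar : (Q.subgroupOf P).Characteristic := by
      refine Subgroup.characteristic_iff_map_le.2 fun φ => ?_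
      rintro _ ⟨x, hx, rfl⟩
      obtain ⟨m, hm⟩ := MonoidHom.map_cyclic φ.toMonoidHom
      rw [hm]
      exact zpow_mem hx m
    rw [Subgroup.mem_normalizer_iff_map_conj_eq]
    have h1 := hchar.fixed (P.normalizerMonoidHom ⟨g, hTN hg⟩)
    ext v
    constructor
    · rintro ⟨w, hw, rfl⟩
      exact (h1.ge (show (⟨w, hQP hw⟩ : P) ∈ Q.subgroupOf P from hw) :)
    · intro hv
      have h2 := h1.le
      obtain ⟨w, hw⟩ : ∃ w : P, P.normalizerMonoidHom ⟨g, hTN hg⟩ w = ⟨v, hQP hv⟩ :=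
        ⟨(P.normalizerMonoidHom ⟨g, hTN hg⟩).symm ⟨v, hQP hv⟩, MulEquiv.apply_symm_apply _ _⟩
      refine ⟨w, ?_, congrArg Subtype.val hw⟩
      have h3 : P.normalizerMonoidHom ⟨g, hTN hg⟩ w ∈ Q.subgroupOf P := by
        rw [hw]; exact hv
      exact (h1.le h3 :)
  have hle := (CfsgLib.Blocks.induced_iff_below hpM hpair.1 hab hQP).1 hf
  have hQf := CfsgLib.Blocks.below_isBrauerPair hle hpair.1
  have hT'eq : T' = CfsgLib.Blocks.stabPair ⟨Q, f⟩ := by
    ext g
    rw [hT', CfsgLib.Blocks.mem_stabPair_iff hQf.2]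
  have hsup : T' = CfsgLib.Blocks.stabPair ⟨P, c⟩ ⊔ centralizer (Q : Set G) := by
    rw [hT'eq]
    refine le_antisymm (fun x hx => ?_) (sup_le
      ((le_inf le_rfl hTQ).trans (CfsgLib.Blocks.inf_normalizer_le_stabPair hpM hpair.1 hle))
      (CfsgLib.Blocks.centralizer_le_stabPair hQf.2))
    obtain ⟨d, hd, hdx⟩ := CfsgLib.Blocks.exists_centralizer_conj hpM hmax hab hle hx
    have := Subgroup.mul_mem _ (Subgroup.mem_sup_right (S := CfsgLib.Blocks.stabPair ⟨P, c⟩)
      (inv_mem hd)) (Subgroup.mem_sup_left (T := centralizer (Q : Set G)) hdx)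
    simpa using this
  have hint : CfsgLib.Blocks.stabPair ⟨P, c⟩ ⊓ centralizer (Q : Set G) ≤
      centralizer (P : Set G) := by
    intro g hg
    obtain ⟨⟨q, hq⟩, hq1'⟩ := Subgroup.ne_bot_iff_exists_ne_one.1 hQ1
    refine hfree g hg.1 q (hQP hq) (fun h => hq1' (Subtype.ext h)) ?_
    rw [← Subgroup.mem_centralizer_iff.1 hg.2 q hq, mul_inv_cancel_right]
  refine ⟨hsup, ?_, ?_, CfsgLib.Blocks.local_nilpotent_of_free hpM hmax hab hfree hQ1 hle⟩
  · rw [hsup]
    obtain ⟨L, hL⟩ : ∃ L, L = CfsgLib.Blocks.stabPair ⟨P, c⟩ ⊔ centralizer (Q : Set G) := ⟨_, rfl⟩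
    rw [← hL]
    have hTL : CfsgLib.Blocks.stabPair ⟨P, c⟩ ≤ L := hL ▸ le_sup_left
    have hCL : centralizer (Q : Set G) ≤ L := hL ▸ le_sup_right
    have hLN : L ≤ normalizer (centralizer (Q : Set G) : Set G) := hL ▸ sup_le
      (fun g hg => CfsgLib.Blocks.mem_normalizer_centralizer (hTQ hg)) le_normalizer
    haveI : ((centralizer (Q : Set G)).subgroupOf L).Normal :=
      (normal_subgroupOf_iff_le_normalizer hCL).2 hLN
    have h1 := Subgroup.relIndex_sup_right ((CfsgLib.Blocks.stabPair ⟨P, c⟩).subgroupOf L)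
      ((centralizer (Q : Set G)).subgroupOf L)
    rw [← Subgroup.subgroupOf_sup hTL hCL, ← hL, Subgroup.relIndex_subgroupOf le_rfl,
      Subgroup.relIndex_subgroupOf hTL] at h1
    rw [h1, ← Subgroup.inf_relIndex_right, le_antisymm ((inf_comm _ _).trans_le hint)
      (le_inf (CfsgLib.Blocks.centralizer_antitone hQP) hCPT)]
  · haveI := Fintype.ofFinite (centralizer (Q : Set G))
    obtain ⟨e', hPC, hmax', htriv'⟩ := CfsgLib.Blocks.exists_maximal_local hpM (a := ⟨Q, f⟩)
      (c := ⟨P, c⟩) hmax hab hint hle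
    exact CfsgLib.Blocks.blockRank_eq_one_of_trivial_inertia hM hmax'
      (fun x hx y hy => Subtype.ext (hab _ hx _ hy)) htriv'


end Cfsg.Agent.S4645
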