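import Cfsg.Statements.S4648
import Cfsg.Agent.Lib.Blocks.SmallRankOne
import Cfsg.Agent.Lib.Blocks.MaximalPairs

set_option autoImplicit false
open Cfsg

set_option linter.style.haveILetI false

namespace Cfsg.Agent.S4648

/-- Let B be a block of the finite group G relative to a maximal ideal M of the algebraic integers containing the prime p, with a nontrivial defect group D. If B has p-regular rank 1 and at most four irreducible characters, then B is nilpotent, D has exactly as many elements as B has irreducible characters, and p is 2 or 3. -/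
theorem result {G : Type*} [Group G] [Finite G] (p : ℕ) [Fact p.Prime] (M : Ideal Cfsg.AlgInt) (hM : Cfsg.IsPModular p M) (B : Set (Cfsg.IrrCharacter G)) (hB : Cfsg.IsPBlock M B) (D : Subgroup G) (hD : Cfsg.IsDefectGroup p M B D) (hD1 : D ≠ ⊥) (hl : Cfsg.blockRank p B = 1) (hk : Nat.card B ≤ 4) : Cfsg.IsNilpotentBlock p M B ∧ Nat.card D = Nat.card B ∧ (p = 2 ∨ p = 3) := by
  haveI := hM.2.1.isPrime
  haveI := Fintype.ofFinite G
  have hpM := hM.2.2
  obtain ⟨h, hh⟩ := CfsgLib.Blocks.exists_pair_on_defectGroup hpM hB hD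
  obtain ⟨hnil, hcard⟩ := CfsgLib.Blocks.nilpotent_of_rank_one_card_le_four hM
    (CfsgLib.Blocks.isMaximal_of_defectGroup hpM hD hh) hl hk
  refine ⟨hnil, hcard, ?_⟩
  have hp := (Fact.out : p.Prime)
  obtain ⟨n, hn⟩ := IsPGroup.iff_card.1 hh.1.1
  have hn0 : n ≠ 0 := fun h0 => hD1 (Subgroup.card_eq_one.1 (by rw [hn, h0, pow_zero]))
  have : p ≤ 4 := (Nat.le_self_pow hn0 p).trans (hn ▸ hcard ▸ hk)
  have hne : p ≠ 4 := fun h4 => absurd (h4 ▸ hp) (by norm_num)
  have := hp.two_le
  omega

end Cfsg.Agent.S4648
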