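import Cfsg.Statements.S4649
import Cfsg.Agent.Lib.Blocks.SmallRankOne
import Cfsg.Agent.Lib.Blocks.CyclicCorner
import Cfsg.Agent.Lib.Blocks.MaximalPairs
import Cfsg.Agent.Lib.Blocks.NilpotentStar
import Cfsg.Agent.Lib.Blocks.PairInduced
import Cfsg.Agent.S4633

set_option autoImplicit false
open Cfsg

set_option linter.style.haveILetI false

namespace Cfsg.Agent.S4649

/-- A block with cyclic defect group, of a finite group relative to a maximal ideal M of the algebraic integers containing the prime p, is nilpotent if and only if its p-regular rank is 1 (it has a unique irreducible Brauer character). -/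
theorem result {G : Type*} [Group G] [Finite G] (p : ℕ) [Fact p.Prime] (M : Ideal Cfsg.AlgInt) (hM : Cfsg.IsPModular p M) (B : Set (Cfsg.IrrCharacter G)) (hB : Cfsg.IsPBlock M B) (P : Subgroup G) (hPD : Cfsg.IsDefectGroup p M B P) (hcyc : IsCyclic P) : Cfsg.IsNilpotentBlock p M B ↔ Cfsg.blockRank p B = 1 := by
  classical
  haveI : M.IsPrime := hM.2.1.isPrime
  haveI := Fintype.ofFinite G
  have hpM := hM.2.2
  have hPp : IsPGroup p P := CfsgLib.Blocks.IsDefectGroup.isPGroup hPD
  haveI := hcyc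
  have hab : ∀ x ∈ P, ∀ y ∈ P, x * y = y * x := fun x hx y hy =>
    congrArg Subtype.val (@mul_comm P (IsCyclic.commGroup).toCommMonoid.toCommSemigroup.toCommMagma ⟨x, hx⟩ ⟨y, hy⟩)
  obtain ⟨c, hpair⟩ := CfsgLib.Blocks.exists_pair_on_defectGroup hpM hB hPD
  have hmax := CfsgLib.Blocks.isMaximal_of_defectGroup hpM hPD hpair
  refine ⟨fun hnil => (CfsgLib.Blocks.nilpotent_rank_one hpM hnil hmax).1, fun hl => ?_⟩
  refine CfsgLib.Blocks.nilpotent_of_trivial_inertia hpM hmax hab ?_
  by_cases hP1 : P = ⊥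
  · intro g _
    rw [Subgroup.mem_centralizer_iff]
    intro z hz
    rw [SetLike.mem_coe, hP1, Subgroup.mem_bot] at hz
    rw [hz, one_mul, mul_one]
  have hT : ∀ g : G, g ∈ CfsgLib.Blocks.stabPair ⟨P, c⟩ ↔ (g ∈ Subgroup.normalizer (P : Set G) ∧
      Cfsg.StabilizesBlock (Subgroup.centralizer (P : Set G)) c g) := fun g =>
    CfsgLib.Blocks.mem_stabPair_iff hpair.1.2
  haveI : ((Subgroup.centralizer (P : Set G)).subgroupOf (CfsgLib.Blocks.stabPair ⟨P, c⟩)).Normal :=
    (Subgroup.normal_subgroupOf_iff_le_normalizer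
      (CfsgLib.Blocks.centralizer_le_stabPair hpair.1.2)).2
      fun g hg => CfsgLib.Blocks.mem_normalizer_centralizer ((hT g).1 hg).1
  have hfree := (Cfsg.Agent.S4633.result p M hM B hB P hPD hP1 hcyc c
    ((CfsgLib.Blocks.isInducedBlock_centralizer_iff hpM hPp).2 hpair) _ hT).2.2
  obtain ⟨u, hu⟩ : ∃ u, P = Subgroup.zpowers u := by
    obtain ⟨u, hu⟩ := P.isCyclic_iff_exists_zpowers_eq_top.1 hcyc
    exact ⟨u, hu.symm⟩
  have hk := CfsgLib.Blocks.card_block_eq_pow_defect hpM hB hl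
    (Or.inr (CfsgLib.Blocks.cornerCyclic_of_cyclic hpM hB hPD hPp hu))
  rw [← CfsgLib.BlockOrth.card_defectGroup hpM hB hPD] at hk
  obtain ⟨t, ht, hkt⟩ := CfsgLib.Blocks.card_eq_rank_add_sections hM hmax hab hfree
  refine Subgroup.relIndex_eq_one.1 ?_
  rcases Nat.eq_zero_or_pos t with h0 | hpos
  · exact absurd (Subgroup.card_eq_one.1 (by rw [h0, zero_mul] at ht; omega)) hP1
  refine Nat.eq_of_mul_eq_mul_left hpos ?_
  omega

end Cfsg.Agent.S4649
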