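import Cfsg.Statements.S4650
import Cfsg.Agent.Lib.Blocks.FreeAction

set_option autoImplicit false
open Cfsg

set_option linter.style.haveILetI false

namespace Cfsg.Agent.S4650

/-- Let B be a block of the finite group G relative to a maximal ideal M of the algebraic integers containing the prime p, with a nontrivial commutative defect group P; let c be a block of C_G(P) inducing B and T the stabilizer of c in N_G(P). Then T/C_G(P) acts freely on the non-identity elements of P (an element of T fixing a non-identity element of P under conjugation lies in C_G(P)) if and only if, for every nontrivial subgroup Q of P, the block of C_G(Q) induced by c inside C_G(Q) is a nilpotent block of C_G(Q). -/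
theorem result {G : Type*} [Group G] [Finite G] (p : ℕ) [Fact p.Prime] (M : Ideal Cfsg.AlgInt) (hM : Cfsg.IsPModular p M) (B : Set (Cfsg.IrrCharacter G)) (hB : Cfsg.IsPBlock M B) (P : Subgroup G) (hPD : Cfsg.IsDefectGroup p M B P) (hPab : ∀ x ∈ P, ∀ y ∈ P, x * y = y * x) (hP1 : P ≠ ⊥) (c : Set (Cfsg.IrrCharacter (Subgroup.centralizer (P : Set G)))) (hc : Cfsg.IsInducedBlock M (Subgroup.centralizer (P : Set G)) c B) (T : Subgroup G) (hT : ∀ g : G, g ∈ T ↔ (g ∈ Subgroup.normalizer (P : Set G) ∧ Cfsg.StabilizesBlock (Subgroup.centralizer (P : Set G)) c g)) : (∀ g ∈ T, ∀ x ∈ P, x ≠ 1 → g * x * g⁻¹ = x → g ∈ Subgroup.centralizer (P : Set G)) ↔ ∀ Q : Subgroup G, Q ≤ P → Q ≠ ⊥ → ∀ f : Set (Cfsg.IrrCharacter (Subgroup.centralizer (Q : Set G))), Cfsg.IsInducedBlockIn M (Subgroup.centralizer (Q : Set G)) (Subgroup.centralizer (P : Set G)) c f → Cfsg.IsNilpotentBlock p M f := by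
  haveI := hM.2.1.isPrime
  haveI := Fintype.ofFinite G
  have hpM := hM.2.2
  have hpair : IsBrauerPairOf p M B P c := CfsgLib.Blocks.isBrauerPairOf_of_induced hpM
    (CfsgLib.Blocks.IsDefectGroup.isPGroup hPD) hPab hc
  have hmax : IsMaximalBrauerPair p M B P c :=
    CfsgLib.Blocks.isMaximal_of_defectGroup hpM hPD hpair
  obtain rfl : T = CfsgLib.Blocks.stabPair ⟨P, c⟩ := by
    ext g
    rw [hT, CfsgLib.Blocks.mem_stabPair_iff hpair.1.2]
  constructor
  · intro hfree Q hQ hQ1 f hf
    exact CfsgLib.Blocks.local_nilpotent_of_free hpM hmax hPab hfree hQ1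
      ((CfsgLib.Blocks.induced_iff_below hpM hpair.1 hPab hQ).1 hf)
  · intro hnil g hg x hx hx1 hfix
    exact CfsgLib.Blocks.free_of_local_nilpotent hpM hmax hPab
      (fun Q hQ hQ1 f hf => hnil Q hQ hQ1 f
        ((CfsgLib.Blocks.induced_iff_below hpM hpair.1 hPab hQ).2 hf)) hg hx hx1 hfix

end Cfsg.Agent.S4650
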