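import Cfsg.Statements.S4651
import Cfsg.Agent.Lib.CharsMore.Chains.LocalRanks
import Cfsg.Agent.Lib.CharsMore.Chains.Toggle
import Mathlib

set_option autoImplicit false
set_option linter.style.haveILetI false
open Cfsg

namespace Cfsg.Agent.S4651

open CfsgLib.CharsMore.Chains


/-- An alternating-sum identity over chains of p-subgroups (the character-count form behind the chain reformulation of Alperin's weight conjecture, which holds unconditionally for the difference k − l). Let b be a block of the finite group G relative to a maximal ideal M of the algebraic integers containing the prime p. Consider the nonempty chains s = {Q_0 < Q_1 < ⋯ < Q_m} of nontrivial p-subgroups of G in which every member is normal in the largest member; let N_G(s) be the intersection of the normalizers of the members (the stabilizer of the chain), and let b_s be the set of irreducible characters of N_G(s) lying in blocks of N_G(s) that induce b. Then #G · (k(b) − l(b)) equals the sum over all such chains s of (−1)^m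 · #N_G(s) · (k(b_s) − l(b_s)), where k counts irreducible characters and l is the p-regular rank; equivalently, k(b) − l(b) is the alternating sum of k(b_s) − l(b_s) over representatives of the conjugacy classes of such chains. -/
theorem result {G : Type*} [Group G] [Finite G] (p : ℕ) [Fact p.Prime] (M : Ideal Cfsg.AlgInt) (hM : Cfsg.IsPModular p M) (b : Set (Cfsg.IrrCharacter G)) (hb : Cfsg.IsPBlock M b) : (Nat.card G : ℤ) * ((Nat.card b : ℤ) - (Cfsg.blockRank p b : ℤ)) = ∑ᶠ s ∈ {s : Finset (Subgroup G) | s.Nonempty ∧ (∀ Q ∈ s, ∀ R ∈ s, Q ≤ R ∨ R ≤ Q) ∧ (∀ Q ∈ s, Q ≠ ⊥ ∧ IsPGroup p Q) ∧ ∃ T ∈ s, ∀ Q ∈ s, Q ≤ T ∧ T ≤ Subgroup.normalizer ((Q : Subgroup G) : Set G)}, (-1 : ℤ) ^ (s.card - 1) * (Nat.card (((⨅ Q ∈ s, Subgroup.normalizer ((Q : Subgroup G) : Set G) : Subgroup G))) : ℤ) * ((Nat.card {ψ : Cfsg.IrrCharacter (((⨅ Q ∈ s, Subgroup.normalizer ((Q : Subgroup G) : Set G) : Subgroup G))) | ∃ β : Set (Cfsg.IrrCharacter (((⨅ Q ∈ s, Subgroup.normalizer ((Q : Subgroup G) : Set G) : Subgroup G)))),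 ψ ∈ β ∧ Cfsg.IsInducedBlock M (((⨅ Q ∈ s, Subgroup.normalizer ((Q : Subgroup G) : Set G) : Subgroup G))) β b} : ℤ) - (Cfsg.blockRank p {ψ : Cfsg.IrrCharacter (((⨅ Q ∈ s, Subgroup.normalizer ((Q : Subgroup G) : Set G) : Subgroup G))) | ∃ β : Set (Cfsg.IrrCharacter (((⨅ Q ∈ s, Subgroup.normalizer ((Q : Subgroup G) : Set G) : Subgroup G)))), ψ ∈ β ∧ Cfsg.IsInducedBlock M (((⨅ Q ∈ s, Subgroup.normalizer ((Q : Subgroup G) : Set G) : Subgroup G))) β b} : ℤ)) := by
  -- proof
  classical
  haveI := Fintype.ofFinite G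
  haveI := hM.2.1.isPrime
  haveI := Fintype.ofFinite (⊤ : Subgroup G)
  -- the weights
  let F : Subgroup G → ℤ := fun V => (Nat.card V : ℤ) * (localRank p M V b : ℤ)
  let C : Finset (Finset (Subgroup G)) :=
    (Set.toFinite {s : Finset (Subgroup G) | IsNormalChain p s}).toFinset
  have hterm : ∀ (V : Subgroup G),
      (Nat.card V : ℤ) * ((Nat.card (belowUnion M V b) : ℤ) - (blockRank p (belowUnion M V b) : ℤ)) =
        ∑ x ∈ (pElts p V).erase 1, F (Subgroup.centralizer ({x} : Set G) ⊓ V) := by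
    intro V
    haveI := Fintype.ofFinite V
    have h1 : (1 : G) ∈ pElts p V := mem_pElts.2 ⟨one_mem V, 0, by simp⟩
    have h := congrArg (Nat.cast : ℕ → ℤ) (card_mul_card_belowUnion hM V b hb)
    rw [Nat.cast_mul, Nat.cast_sum, ← Finset.add_sum_erase _ _ h1] at h
    have hc : Subgroup.centralizer ({(1 : G)} : Set G) ⊓ V = V :=
      inf_eq_right.2 fun g _ => Subgroup.mem_centralizer_singleton_iff.2 (by simp)
    rw [hc] at h
    simp only [Nat.cast_mul] at h
    rw [mul_sub, h, blockRank_belowUnion hM.2.2 V b, add_sub_cancel_left]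
  have hlhs : (Nat.card G : ℤ) * ((Nat.card b : ℤ) - (blockRank p b : ℤ)) =
      ∑ x ∈ (pElts p (⊤ : Subgroup G)).erase 1, F (Subgroup.centralizer ({x} : Set G)) := by
    have h := hterm ⊤
    rw [card_belowUnion_top b hb, blockRank_belowUnion hM.2.2 _ b, localRank_top b hb, Subgroup.card_top] at h
    rw [h]
    exact Finset.sum_congr rfl fun x _ => by rw [inf_top_eq]
  rw [finsum_mem_eq_finite_toFinset_sum _ (Set.toFinite _), hlhs]
  symm
  refine (Finset.sum_congr (s₂ := C) (g := fun s => ∑ x ∈ (pElts p (chainStab s)).erase 1,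
    (-1 : ℤ) ^ (s.card - 1) * F (Subgroup.centralizer ({x} : Set G) ⊓ chainStab s)) ?_ fun s _ => ?_).trans ?_
  · ext s
    simp only [C, Set.Finite.mem_toFinset]
    rfl
  · rw [← Finset.mul_sum, ← hterm (chainStab s), ← mul_assoc]
    rfl
  rw [Finset.sum_comm' (t' := (pElts p (⊤ : Subgroup G)).erase 1)
    (s' := fun x => C.filter fun s => x ∈ chainStab s) (fun s x => ?_)]
  · refine Finset.sum_congr rfl fun x hx => ?_
    obtain ⟨hx1, hxp⟩ := Finset.mem_erase.1 hx
    refine sum_chains_fixed_by (mem_pElts.1 hxp).2 hx1 _ (fun t => ?_) F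
    simp [C]
  · simp only [Finset.mem_erase, mem_pElts, Finset.mem_filter, Subgroup.mem_top, true_and]
    tauto

end Cfsg.Agent.S4651
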