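import Cfsg.Statements.S4652
import Cfsg.Agent.Lib.BlockOrth.DefectOrder
import Cfsg.Agent.Lib.Blocks.MinMax
import Cfsg.Agent.Lib.Blocks.Degree

set_option autoImplicit false
open Cfsg Subgroup
open scoped Pointwise commutatorElement

namespace Cfsg.Agent.S4652

/-- Fix a prime p and a maximal ideal M of the algebraic integers containing p. The defect groups of the principal p-block of a finite group G are exactly the Sylow p-subgroups of G: a subgroup D is a defect group of the principal block if and only if D is a Sylow p-subgroup. -/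
theorem result {G : Type*} [Group G] [Fintype G] (p : ℕ) [Fact p.Prime] (M : Ideal Cfsg.AlgInt) (hM : Cfsg.IsPModular p M) (D : Subgroup G) : Cfsg.IsDefectGroup p M (Cfsg.principalBlock M G) D ↔ ∃ S : Sylow p G, (S : Subgroup G) = D := by
  classical
  haveI := CfsgLib.Blocks.isPrime_of_isPModular hM
  have hB := CfsgLib.Blocks.isPBlock_principalBlock (G := G) M
  have hdef : blockDefect p (principalBlock M G) = (Nat.card G).factorization p := by
    rw [CfsgLib.BlockOrth.blockDefect_eq]
    have h1 := CfsgLib.BlockOrth.blockMin_le (p := p)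
      (CfsgLib.Blocks.principal_mem_principalBlock (G := G) M)
    have h2 : CfsgLib.BlockOrth.degVal p (CfsgLib.Chars.principal G) = 0 := by
      simp [CfsgLib.BlockOrth.degVal, charDegree, CfsgLib.Chars.principal_apply]
    omega
  constructor
  · intro hD
    have hcard := CfsgLib.BlockOrth.card_defectGroup hM.2.2 hB hD
    rw [hdef] at hcard
    exact ⟨Sylow.ofCard D hcard, rfl⟩
  · rintro ⟨S, rfl⟩
    obtain ⟨D, hD⟩ := CfsgLib.Blocks.exists_isDefectGroup (p := p) hB
    have hcard := CfsgLib.BlockOrth.card_defectGroup hM.2.2 hB hD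
    rw [hdef] at hcard
    obtain ⟨x, hx⟩ := MulAction.exists_smul_eq G (Sylow.ofCard D hcard) S
    have := CfsgLib.Blocks.IsDefectGroup.map_conj hD x hB
    rw [← hx]
    exact this


end Cfsg.Agent.S4652
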