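import Cfsg.Statements.S4654
import Cfsg.Agent.Lib.Blocks.LocalDefect

set_option autoImplicit false
open Cfsg

set_option linter.style.haveILetI false

namespace Cfsg.Agent.S4654

/-- Fix a prime p and a maximal ideal M of the algebraic integers containing p. Let P be a normal p-subgroup of the finite group G, B a p-block of G and e a p-block of C_G(P) such that (P, e) is a Brauer pair of B (as P is normal, this says that e occurs in the idempotent of B, which is supported on C_G(P)). Let T be the stabilizer of e in G under conjugation. Then the idempotent of e is a block idempotent of T: some block E of T has, at every element of T, the same idempotent coefficient as e (zero off C_G(P)); and the idempotent of B is the sum of the distinct G-conjugates of the idempotent of e: its coefficient at g is the sum over all x in G of the coefficient of e at x⁻¹ g x, divided by the order of T. -/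
theorem result {G : Type*} [Group G] [Fintype G] (p : ℕ) [Fact p.Prime] (M : Ideal Cfsg.AlgInt) (hM : Cfsg.IsPModular p M) (P : Subgroup G) [P.Normal] (hP : IsPGroup p P) (B : Set (Cfsg.IrrCharacter G)) (e : Set (Cfsg.IrrCharacter (Subgroup.centralizer (P : Set G)))) (hBe : Cfsg.IsBrauerPairOf p M B P e) (T : Subgroup G) (hT : ∀ x : G, x ∈ T ↔ Cfsg.StabilizesBlock (Subgroup.centralizer (P : Set G)) e x) : (∃ E : Set (Cfsg.IrrCharacter T), Cfsg.IsPBlock M E ∧ ∀ t : T, Cfsg.blockCoeff E t = Cfsg.subgroupBlockCoeff (Subgroup.centralizer (P : Set G)) e (t : G)) ∧ ∀ g : G, Cfsg.blockCoeff B g = (Nat.card T : ℂ)⁻¹ * ∑ x : G, Cfsg.subgroupBlockCoeff (Subgroup.centralizer (P : Set G)) e (x⁻¹ * g * x) := by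
  classical
  haveI := CfsgLib.Blocks.isPrime_of_isPModular hM
  haveI := Fintype.ofFinite (Subgroup.centralizer (P : Set G))
  have hpM := hM.2.2
  have he : IsPBlock M e := hBe.1.2
  have hN : ∀ H : Subgroup G, H ≤ Subgroup.normalizer (P : Set G) := fun H => by
    rw [Subgroup.normalizer_eq_top]; exact le_top
  have hst : ∀ x : G, x ∈ T ↔ StabilizesBlock (Subgroup.centralizer (P : Set G)) e x := hT
  have hTs : T = CfsgLib.Blocks.stabPair ⟨P, e⟩ := by
    ext x
    rw [CfsgLib.Blocks.mem_stabPair_iff he, hst]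
    exact ⟨fun h => ⟨hN ⊤ (Subgroup.mem_top x), h⟩, fun h => h.2⟩
  have hPT : P ≤ T := hTs ▸ CfsgLib.Blocks.subgroup_le_stabPair hpM hBe.1
  have hCT : Subgroup.centralizer (P : Set G) ≤ T :=
    hTs ▸ CfsgLib.Blocks.centralizer_le_stabPair he
  constructor
  · obtain ⟨E, hE, hcoef⟩ := CfsgLib.Blocks.exists_block_eq_of_stable hpM hP hPT hCT (hN T) he
      (fun x hx => (hst x).1 hx)
    exact ⟨E, hE, fun t => by rw [← hcoef, CfsgLib.Blocks.subgroupBlockCoeff_coe]⟩
  intro g
  let b : Set (IrrCharacter (⊤ : Subgroup G)) :=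
    CfsgLib.Blocks.pullIrr Subgroup.topEquiv '' B
  have hb : IsPBlock M b := CfsgLib.Blocks.isPBlock_image_pullIrr _ hBe.2.1
  have hbB : ∀ u, subgroupBlockCoeff ⊤ b u = blockCoeff B u := fun u => by
    rw [show u = ((⟨u, Subgroup.mem_top u⟩ : (⊤ : Subgroup G)) : G) from rfl,
      CfsgLib.Blocks.subgroupBlockCoeff_coe, CfsgLib.Blocks.blockCoeff_image_pullIrr]
    rfl
  have hidem : CfsgLib.Blocks.pairIdem hb = CfsgLib.Blocks.blockIdem hBe.2.1 := by
    apply MonoidAlgebra.ext
    ext u
    rw [CfsgLib.Blocks.pairIdem, CfsgLib.Blocks.blockIdem, CfsgLib.Blocks.coeff_redFun,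
      CfsgLib.Blocks.coeff_redFun]
    exact congrArg CfsgLib.Blocks.red (Subtype.ext (hbB u))
  have hmul : CfsgLib.Blocks.pairIdem he * CfsgLib.Blocks.pairIdem hb =
      CfsgLib.Blocks.pairIdem he := by
    rw [← CfsgLib.Blocks.cut_pairIdem_local hpM hP le_top (hN ⊤) hb, hidem]
    exact (CfsgLib.Blocks.isBrauerPairOf_iff hpM hBe.1 hBe.2.1).1.1 hBe
  rw [← hbB, CfsgLib.Blocks.blockCoeff_local hpM hP le_top le_top (hN ⊤) he hb hmul g]
  set F : (⊤ : Subgroup G) → Set (IrrCharacter (Subgroup.centralizer (P : Set G))) :=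
    fun x => CfsgLib.Blocks.conjLocal (hN ⊤) x e with hF
  have h1 : ∑ x : G, subgroupBlockCoeff (Subgroup.centralizer (P : Set G)) e (x⁻¹ * g * x) =
      ∑ x : (⊤ : Subgroup G), subgroupBlockCoeff (Subgroup.centralizer (P : Set G)) (F x) g :=
    (Fintype.sum_equiv Subgroup.topEquiv.toEquiv _ _ fun x => by
      rw [hF, CfsgLib.Blocks.subgroupBlockCoeff_conjLocal]; rfl).symm
  rw [h1, Finset.sum_comp (fun f => subgroupBlockCoeff (Subgroup.centralizer (P : Set G)) f g) F,
    Finset.mul_sum]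
  refine Finset.sum_congr rfl fun f hf => ?_
  obtain ⟨x₀, -, rfl⟩ := Finset.mem_image.1 hf
  have hcard : (Finset.univ.filter fun x => F x = F x₀).card = Nat.card T := by
    rw [Nat.card_eq_fintype_card, ← Finset.card_univ]
    refine Finset.card_bij' (fun x hx => ⟨(x₀ : G)⁻¹ * x, ?_⟩)
      (fun t _ => ⟨(x₀ : G) * t, Subgroup.mem_top _⟩) (fun x hx => Finset.mem_univ _)
      (fun t _ => ?_) (fun x hx => Subtype.ext (by simp)) (fun t _ => Subtype.ext (by simp))
    · rw [hst, CfsgLib.Blocks.stabilizesBlock_iff he]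
      refine ⟨CfsgLib.Blocks.mem_normalizer_centralizer (hN ⊤ (Subgroup.mem_top _)), fun u => ?_⟩
      have h2 := congrArg (fun s => subgroupBlockCoeff (Subgroup.centralizer (P : Set G)) s
        ((x : G) * u * (x : G)⁻¹)) (Finset.mem_filter.1 hx).2
      simp only [hF, CfsgLib.Blocks.subgroupBlockCoeff_conjLocal] at h2
      rw [show (x : G)⁻¹ * ((x : G) * u * (x : G)⁻¹) * (x : G) = u by group] at h2
      rw [show (x₀ : G)⁻¹ * x * u * ((x₀ : G)⁻¹ * x)⁻¹ =
        (x₀ : G)⁻¹ * ((x : G) * u * (x : G)⁻¹) * x₀ by group]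
      exact h2.symm
    · refine Finset.mem_filter.2 ⟨Finset.mem_univ _, ?_⟩
      refine CfsgLib.Blocks.eq_of_subgroupBlockCoeff_eq (funext fun u => ?_)
      simp only [hF, CfsgLib.Blocks.subgroupBlockCoeff_conjLocal]
      have h2 := ((CfsgLib.Blocks.stabilizesBlock_iff he).1 ((hst _).1 t.2)).2
        (((x₀ : G) * t)⁻¹ * u * ((x₀ : G) * t))
      rw [← h2]
      congr 1
      group
  rw [hcard, nsmul_eq_mul, ← mul_assoc, inv_mul_cancel₀ (Nat.cast_ne_zero.2 Nat.card_pos.ne'),
    one_mul]

end Cfsg.Agent.S4654
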