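import Cfsg.Statements.S4662
import Cfsg.Agent.Lib.Blocks.LocalDefect

set_option autoImplicit false
open Cfsg

set_option linter.style.haveILetI false

namespace Cfsg.Agent.S4662

/-- Fix a prime p and a maximal ideal M of the algebraic integers containing p. Let (P, e) be a maximal Brauer pair of the p-block B of the finite group G, Q ≤ P, and f the p-block of C_G(Q) with (Q, f) ≤ (P, e). Let T be the stabilizer of f in N_G(Q). Then the idempotent of f is a block idempotent of T, and N_P(Q) is contained in a defect group of that block of T; moreover for some x in G the conjugate pair (x Q x⁻¹, conjugate of f) again lies below (P, e) and, with T' the stabilizer of the conjugate of f in N_G(x Q x⁻¹), N_P(x Q x⁻¹) is a defect group of the block of T' whose idempotent is that of the conjugate of f. -/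
theorem result {G : Type*} [Group G] [Fintype G] (p : ℕ) [Fact p.Prime] (M : Ideal Cfsg.AlgInt) (hM : Cfsg.IsPModular p M) (B : Set (Cfsg.IrrCharacter G)) (P Q : Subgroup G) (e : Set (Cfsg.IrrCharacter (Subgroup.centralizer (P : Set G)))) (f : Set (Cfsg.IrrCharacter (Subgroup.centralizer (Q : Set G)))) (hmax : Cfsg.IsMaximalBrauerPair p M B P e) (hQP : Q ≤ P) (hf : Cfsg.IsPBlock M f) (hle : Cfsg.SubpairLE p M Q f P e) (T : Subgroup G) (hT : ∀ y : G, y ∈ T ↔ y ∈ Subgroup.normalizer (Q : Set G) ∧ Cfsg.StabilizesBlock (Subgroup.centralizer (Q : Set G)) f y) : (∃ F : Set (Cfsg.IrrCharacter T), Cfsg.IsPBlock M F ∧ (∀ t : T, Cfsg.blockCoeff F t = Cfsg.subgroupBlockCoeff (Subgroup.centralizer (Q : Set G)) f (t : G)) ∧ ∃ D : Subgroup T, Cfsg.IsDefectGroup p M F D ∧ (P ⊓ Subgroup.normalizer (Q : Set G)).subgroupOf T ≤ D) ∧ ∃ x : G, Cfsg.SubpairLE p M (Q.map (MulAut.conj x).toMonoidHom) (Cfsg.conjBlock Q x f) P e ∧ ∀ (T' : Subgroup G),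 (∀ y : G, y ∈ T' ↔ y ∈ Subgroup.normalizer ((Q.map (MulAut.conj x).toMonoidHom) : Set G) ∧ Cfsg.StabilizesBlock (Subgroup.centralizer ((Q.map (MulAut.conj x).toMonoidHom) : Set G)) (Cfsg.conjBlock Q x f) y) → ∃ F' : Set (Cfsg.IrrCharacter T'), Cfsg.IsPBlock M F' ∧ (∀ t : T', Cfsg.blockCoeff F' t = Cfsg.subgroupBlockCoeff (Subgroup.centralizer ((Q.map (MulAut.conj x).toMonoidHom) : Set G)) (Cfsg.conjBlock Q x f) (t : G)) ∧ Cfsg.IsDefectGroup p M F' ((P ⊓ Subgroup.normalizer ((Q.map (MulAut.conj x).toMonoidHom) : Set G)).subgroupOf T') := by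
  haveI := CfsgLib.Blocks.isPrime_of_isPModular hM
  have hpM := hM.2.2
  have hle' : Relation.ReflTransGen (NormalSubpairRel p M) (⟨Q, f⟩ : BrauerPairIdx G) ⟨P, e⟩ := hle
  have hQf : IsBrauerPair p M Q f := CfsgLib.Blocks.below_isBrauerPair hle' hmax.1.1
  have hst : ∀ (a : BrauerPairIdx G) (T : Subgroup G), IsPBlock M a.2 →
      (∀ y : G, y ∈ T ↔ y ∈ Subgroup.normalizer (a.1 : Set G) ∧
        StabilizesBlock (Subgroup.centralizer (a.1 : Set G)) a.2 y) →
      T = CfsgLib.Blocks.stabPair a := by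
    intro a T ha hT
    obtain ⟨R, g⟩ := a
    ext y
    rw [hT, CfsgLib.Blocks.mem_stabPair_iff ha]
  have hNP : ∀ (a : BrauerPairIdx G), Relation.ReflTransGen (NormalSubpairRel p M) a ⟨P, e⟩ →
      P ⊓ Subgroup.normalizer (a.1 : Set G) ≤ CfsgLib.Blocks.stabPair a := by
    intro a ha y hy
    obtain ⟨g, hg⟩ := CfsgLib.Blocks.exists_below (b := ⟨P, e⟩) hpM hmax.1.1
      (P ⊓ Subgroup.normalizer (a.1 : Set G)) inf_le_left
    have hn := CfsgLib.Blocks.isNormalSubpair_of_below (b := ⟨P, e⟩) hpM hmax.1.1 ha hg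
      (le_inf (CfsgLib.Blocks.below_le ha) Subgroup.le_normalizer) inf_le_right
    exact (CfsgLib.Blocks.mem_stabPair_iff hn.1.2).2 ⟨hy.2, hn.2.2.2.2.1 y hy⟩
  obtain rfl := hst ⟨Q, f⟩ T hf hT
  have hCT := CfsgLib.Blocks.centralizer_le_stabPair (Q := Q) hf
  obtain ⟨F, hF, hFf⟩ := CfsgLib.Blocks.exists_block_eq_of_stable hpM hQf.1
    (CfsgLib.Blocks.subgroup_le_stabPair hpM hQf) hCT
    (CfsgLib.Blocks.stabPair_le_normalizer _) hf
    (fun x hx => ((CfsgLib.Blocks.mem_stabPair_iff hf).1 hx).2)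
  constructor
  · obtain ⟨D, hD, hDle⟩ := CfsgLib.Blocks.exists_defect_ge (b := ⟨P, e⟩) hpM hmax.1.1 hle' hCT
      le_rfl hF hFf (S := P ⊓ Subgroup.normalizer (Q : Set G)) inf_le_left (hNP _ hle')
    exact ⟨F, hF, fun t => by rw [← hFf, CfsgLib.Blocks.subgroupBlockCoeff_coe], D, hD, hDle⟩
  obtain ⟨x, hx, h⟩ := CfsgLib.Blocks.exists_conj_defect (b := ⟨P, e⟩) hpM hmax hle' hCT
    le_rfl hF hFf
  refine ⟨x, hx, fun T' hT' => ?_⟩
  have hf' := CfsgLib.Blocks.isPBlock_conjBlock hf x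
  obtain rfl := hst ⟨_, conjBlock Q x f⟩ T' hf' hT'
  have hQf' : IsBrauerPair p M _ (conjBlock Q x f) :=
    CfsgLib.Blocks.isBrauerPair_conj (a := ⟨Q, f⟩) hQf x
  obtain ⟨F', hF', hFf'⟩ := CfsgLib.Blocks.exists_block_eq_of_stable hpM hQf'.1
    (CfsgLib.Blocks.subgroup_le_stabPair hpM hQf') (CfsgLib.Blocks.centralizer_le_stabPair hf')
    (CfsgLib.Blocks.stabPair_le_normalizer _) hf'
    (fun y hy => ((CfsgLib.Blocks.mem_stabPair_iff hf').1 hy).2)
  refine ⟨F', hF', fun t => by rw [← hFf', CfsgLib.Blocks.subgroupBlockCoeff_coe], ?_⟩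
  have h1 := h _ (CfsgLib.Blocks.conj_mem_stabPair_iff ⟨Q, f⟩ x) F' hF' hFf'
  rwa [show P ⊓ Subgroup.normalizer ((Q.map (MulAut.conj x).toMonoidHom : Subgroup G) : Set G) =
      P ⊓ CfsgLib.Blocks.stabPair ⟨_, conjBlock Q x f⟩ from le_antisymm
    (le_inf inf_le_left (hNP _ hx))
    (inf_le_inf_left P (CfsgLib.Blocks.stabPair_le_normalizer _))]

end Cfsg.Agent.S4662
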