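import Cfsg.Statements.S4664
import Cfsg.Agent.Lib.CharApps.Galois
import Cfsg.Agent.Lib.Blocks.Osima
import Cfsg.Agent.Lib.Blocks.Center

set_option autoImplicit false
set_option linter.style.haveILetI false
open Cfsg Subgroup
open scoped Pointwise commutatorElement

namespace Cfsg.Agent.S4664

/-- Fix a prime p and a maximal ideal M of the algebraic integers containing p, and let B be a p-block of the finite group G. Let m be the p'-part of the order of G and η = exp(2πi/m). Then every coefficient of the idempotent of B lies in the cyclotomic field ℚ(η). -/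
theorem result {G : Type*} [Group G] [Fintype G] (p : ℕ) [Fact p.Prime] (M : Ideal Cfsg.AlgInt) (hM : Cfsg.IsPModular p M) (B : Set (Cfsg.IrrCharacter G)) (hB : Cfsg.IsPBlock M B) (g : G) : Cfsg.blockCoeff B g ∈ IntermediateField.adjoin ℚ ({Complex.exp (2 * Real.pi * Complex.I / ((Nat.card G / p ^ (Nat.card G).factorization p : ℕ) : ℂ))} : Set ℂ) := by
  classical
  haveI := CfsgLib.Blocks.isPrime_of_isPModular hM
  have hp : p.Prime := Fact.out
  by_cases hg : p ∣ orderOf g
  · rw [CfsgLib.Blocks.blockCoeff_eq_zero_of_dvd hp hM.2.2 hB hg]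
    exact zero_mem _
  set N : ℕ := Nat.card G / p ^ (Nat.card G).factorization p with hN
  have hN0 : N ≠ 0 := (Nat.ordCompl_pos p Nat.card_pos.ne').ne'
  haveI : NeZero N := ⟨hN0⟩
  have hdvd : orderOf g ∣ N := by
    have h1 : orderOf g ∣ Nat.card G := orderOf_dvd_natCard g
    rw [← Nat.ordProj_mul_ordCompl_eq_self (Nat.card G) p] at h1
    exact (Nat.Coprime.pow_right _ (hp.coprime_iff_not_dvd.mpr hg).symm).dvd_of_dvd_mul_left h1
  have hgN : g ^ N = 1 := orderOf_dvd_iff_pow_eq_one.mp hdvd
  haveI := CfsgLib.Chars.irrFintype G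
  rw [blockCoeff, finsum_mem_eq_sum_of_inter_support_eq (t := Finset.univ.filter (· ∈ B)) _
    (by ext φ; simp)]
  refine mul_mem (inv_mem (natCast_mem _ _)) (sum_mem fun χ _ => mul_mem ?_ ?_)
  · exact CfsgLib.CharApps.char_mem_cyclo (CfsgLib.Chars.isCharacter_of_irr χ.2) 1 (one_pow _)
  · rw [← CfsgLib.Chars.char_inv (CfsgLib.Chars.isCharacter_of_irr χ.2) g]
    exact CfsgLib.CharApps.char_mem_cyclo (CfsgLib.Chars.isCharacter_of_irr χ.2) g⁻¹
      (by rw [inv_pow, hgN, inv_one])


end Cfsg.Agent.S4664
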