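import Cfsg.Statements.S4665
import Cfsg.Agent.Lib.BlockOrth.Span

set_option autoImplicit false
open Cfsg CfsgLib.BlockOrth CfsgLib.Chars

namespace Cfsg.Agent.S4665

/-- Fix a prime p, a maximal ideal M of the algebraic integers containing p, and a p-block B of the finite group G, and let p^a be the p-part of the order of G. Let χ be an integer combination of the irreducible characters in B. If the function that agrees with χ on p-regular elements and vanishes on p-singular elements is again an integer combination of the irreducible characters in B, then p^a divides χ(1). -/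
theorem result {G : Type*} [Group G] [Fintype G] (p : ℕ) [Fact p.Prime] (M : Ideal Cfsg.AlgInt) (hM : Cfsg.IsPModular p M) (B : Set (Cfsg.IrrCharacter G)) (hB : Cfsg.IsPBlock M B) (χ : G → ℂ) (hχ : (∃ n : Cfsg.IrrCharacter G → ℤ, ∀ g : G, χ g = ∑ᶠ ψ ∈ B, (n ψ : ℂ) * (ψ : G → ℂ) g)) (h0 : (∃ n : Cfsg.IrrCharacter G → ℤ, ∀ g : G, Cfsg.pRegularPart p χ g = ∑ᶠ ψ ∈ B, (n ψ : ℂ) * (ψ : G → ℂ) g)) : ∃ k : ℤ, χ 1 = (p ^ (Nat.card G).factorization p : ℂ) * k := by
  classical
  haveI := irrFintype G
  obtain ⟨n, hn⟩ := h0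
  obtain ⟨S⟩ := Sylow.nonempty (p := p) (G := G)
  haveI := Fintype.ofFinite S
  have hint : ∀ ψ : IrrCharacter G, ∃ m : ℕ,
      classInner (fun x : S => (ψ : G → ℂ) x) (fun _ => 1) = m := fun ψ =>
    inner_irr_right_nat (isCharacter_restrict _ (isCharacter_of_irr ψ.2)) ⟨_, isIrrCharacter_one⟩
  choose m hm using hint
  refine ⟨∑ ψ ∈ Finset.univ.filter (· ∈ B), n ψ * (m ψ : ℤ), ?_⟩
  have hreg : ∑ x : S, pRegularPart p χ x = χ 1 := by
    rw [Finset.sum_eq_single 1]
    · simp [pRegularPart_apply, (Fact.out (p := p.Prime)).ne_one]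
    · intro x _ hx
      rw [pRegularPart_apply, if_neg]
      intro hd
      obtain ⟨k, hk⟩ := IsPGroup.iff_orderOf.1 S.2 x
      rw [Subgroup.orderOf_coe, hk] at hd
      rcases k with _ | k
      · exact hx (orderOf_eq_one_iff.1 (by simpa using hk))
      · exact hd (dvd_pow_self p k.succ_ne_zero)
    · simp
  have hc : (p ^ (Nat.card G).factorization p : ℂ) = (Nat.card S : ℂ) := by
    rw [S.card_eq_multiplicity]; push_cast; rfl
  rw [hc, ← hreg]
  have hne : (Nat.card S : ℂ) ≠ 0 := Nat.cast_ne_zero.2 Nat.card_pos.ne'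
  simp only [hn, sum_mem_block, Int.cast_sum, Int.cast_mul, Int.cast_natCast, ← hm, inner_def,
    map_one, mul_one, Finset.mul_sum]
  rw [Finset.sum_comm]
  refine Finset.sum_congr rfl fun ψ _ => Finset.sum_congr rfl fun x _ => ?_
  field_simp
  rfl

end Cfsg.Agent.S4665
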