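import Cfsg.Statements.S4668
import Cfsg.Agent.Lib.BlockOrth.NormalCentralizer
import Cfsg.Agent.Lib.Components.PTimesQ
import Cfsg.Agent.Lib.Blocks.Center

set_option autoImplicit false
open Cfsg Subgroup
open scoped Pointwise commutatorElement

namespace Cfsg.Agent.S4668

/-- Fix a prime p and a maximal ideal M of the algebraic integers containing p. Let Q₀ < Q₁ < ⋯ < Q_m be a strictly increasing chain of p-subgroups of the finite group G and N the intersection of their normalizers. Then every block idempotent of N is supported on C_G(Q_m): for every p-block E of N, the idempotent coefficient of E vanishes at every element of N outside C_G(Q_m). -/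
theorem result {G : Type*} [Group G] [Fintype G] (p : ℕ) [Fact p.Prime] (M : Ideal Cfsg.AlgInt) (hM : Cfsg.IsPModular p M) (m : ℕ) (Q : Fin (m + 1) → Subgroup G) (hQ : StrictMono Q) (hQp : ∀ i, IsPGroup p (Q i)) (N : Subgroup G) (hN : ∀ g : G, g ∈ N ↔ ∀ i, g ∈ Subgroup.normalizer (Q i : Set G)) (E : Set (Cfsg.IrrCharacter N)) (hE : Cfsg.IsPBlock M E) (n : N) (hn : (n : G) ∉ Subgroup.centralizer (Q (Fin.last m) : Set G)) : Cfsg.blockCoeff E n = 0 := by
  haveI := CfsgLib.Blocks.isPrime_of_isPModular hM
  classical
  haveI : Fintype N := Fintype.ofFinite _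
  have hp : p.Prime := Fact.out
  by_contra hne
  have hreg : ¬ p ∣ orderOf n := fun h => hne
    (CfsgLib.Blocks.blockCoeff_eq_zero_of_dvd hp hM.2.2 hE h)
  set L := Q (Fin.last m) with hL
  -- `R = L ∩ N` is a normal `p`-subgroup of `N`
  set R : Subgroup N := L.subgroupOf N with hR
  have hRn : R.Normal := ⟨fun r hr a => by
    rw [hR, Subgroup.mem_subgroupOf] at hr ⊢
    simpa using ((mem_normalizer_iff.mp ((hN a).mp a.2 (Fin.last m))) r).mp hr⟩
  have hRp : IsPGroup p R := (hQp (Fin.last m)).comap_of_injective N.subtype N.subtype_injective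
  have hRc : n ∈ Subgroup.centralizer (R : Set N) := by
    by_contra hnot
    exact hne (CfsgLib.BlockOrth.blockCoeff_eq_zero_of_notMem_centralizer hM.2.2 hRp hE hnot)
  have hmono : ∀ i j, i ≤ j → Q i ≤ Q j := fun i j h => hQ.monotone h
  -- elements of `L` stabilising the chain are centralised by `n`
  have hfix : ∀ g ∈ L, g ∈ N → g * (n : G) = n * g := fun g hg hgN =>
    congrArg Subtype.val (Subgroup.mem_centralizer_iff.mp hRc ⟨g, hgN⟩
      (Subgroup.mem_subgroupOf.mpr hg))
  have key : ∀ i : Fin (m + 1), (n : G) ∈ Subgroup.centralizer (Q i : Set G) := by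
    intro i
    induction i using Fin.induction with
    | zero =>
      rw [Subgroup.mem_centralizer_iff]
      intro g hg
      refine hfix g (hmono 0 _ (Fin.zero_le _) hg) ((hN g).mpr fun j => ?_)
      exact Subgroup.le_normalizer (hmono 0 j (Fin.zero_le _) hg)
    | succ i ih =>
      have hstep : i.castSucc ≤ i.succ := Fin.castSucc_lt_succ.le
      refine CfsgLib.Components.mem_centralizer_of_pTimesQ (hQp i.castSucc) (hQp i.succ)
        ((hmono _ _ hstep).trans Subgroup.le_normalizer)
        (by rw [Subgroup.orderOf_coe]; exact (hp.coprime_iff_not_dvd.mpr hreg).symm) ih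
        ((hN n).mp n.2 i.succ) ?_
      rintro g ⟨hg, hgc⟩
      rw [Subgroup.mem_centralizer_singleton_iff]
      refine hfix g (hmono _ _ (Fin.le_last _) hg) ((hN g).mpr fun j => ?_)
      rcases le_or_gt j i.castSucc with hj | hj
      · refine Subgroup.centralizer_le_normalizer _ (Subgroup.mem_centralizer_iff.mpr fun a ha => ?_)
        exact Subgroup.mem_centralizer_iff.mp hgc a (hmono _ _ hj ha)
      · exact Subgroup.le_normalizer (hmono _ _ (Fin.castSucc_lt_iff_succ_le.mp hj) hg)
  exact hn (key (Fin.last m))


end Cfsg.Agent.S4668
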