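import Cfsg.Statements.S4670
import Cfsg.Agent.Lib.Blocks.RelPairs

set_option autoImplicit false
open Cfsg

set_option linter.style.haveILetI false

namespace Cfsg.Agent.S4670

/-- Fix a prime p and a maximal ideal M of the algebraic integers containing p. Let P be a p-subgroup of the finite group G and H a subgroup containing N_G(P). For every p-block B of G with defect group P there is exactly one p-block c of H with defect group P whose idempotent agrees with that of B, modulo the local ideal at M, at every element of C_G(P) (their Brauer-map images at P coincide); and every p-block c of H with defect group P arises in this way from exactly one such B. This is the Brauer correspondence over H. -/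
theorem result {G : Type*} [Group G] [Fintype G] (p : ℕ) [Fact p.Prime] (M : Ideal Cfsg.AlgInt) (hM : Cfsg.IsPModular p M) (P H : Subgroup G) (hP : IsPGroup p P) (hH : Subgroup.normalizer (P : Set G) ≤ H) : (∀ B : Set (Cfsg.IrrCharacter G), Cfsg.IsPBlock M B → Cfsg.IsDefectGroup p M B P → ∃! c : Set (Cfsg.IrrCharacter H), Cfsg.IsPBlock M c ∧ Cfsg.IsDefectGroup p M c (P.subgroupOf H) ∧ ∀ x : G, x ∈ Subgroup.centralizer (P : Set G) → Cfsg.MemLocalIdeal M (Cfsg.blockCoeff B x - Cfsg.subgroupBlockCoeff H c x)) ∧ (∀ c : Set (Cfsg.IrrCharacter H), Cfsg.IsPBlock M c → Cfsg.IsDefectGroup p M c (P.subgroupOf H) → ∃! B : Set (Cfsg.IrrCharacter G), Cfsg.IsPBlock M B ∧ Cfsg.IsDefectGroup p M B P ∧ ∀ x : G, x ∈ Subgroup.centralizer (P : Set G) → Cfsg.MemLocalIdeal M (Cfsg.blockCoeff B x - Cfsg.subgroupBlockCoeff H c x)) := by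
  classical
  haveI := CfsgLib.Blocks.isPrime_of_isPModular hM
  haveI := Fintype.ofFinite H
  have hpM := hM.2.2
  have hPH : P ≤ H := Subgroup.le_normalizer.trans hH
  have hC : Subgroup.centralizer (P : Set G) ≤ H := fun c hc => hH (by
    rw [Subgroup.mem_normalizer_iff]
    intro g
    constructor
    · intro hg
      rwa [← Subgroup.mem_centralizer_iff.1 hc g hg, mul_inv_cancel_right]
    · intro hg
      have h2 := Subgroup.mem_centralizer_iff.1 (inv_mem hc) _ hg
      have h3 : g = c * g * c⁻¹ := by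
        calc g = c⁻¹ * (c * g * c⁻¹) * c := by group
          _ = _ := by rw [← h2]; group
      rwa [h3])
  have hP' : IsPGroup p (P.subgroupOf H) := CfsgLib.Blocks.isPGroup_subgroupOf hP hPH
  -- a pair of one side gives the other
  have key : ∀ (B : Set (IrrCharacter G)) (c : Set (IrrCharacter H)) e,
      IsBrauerPairOf p M B P e →
      IsBrauerPairOf p M c (P.subgroupOf H) (CfsgLib.Blocks.relBlock hPH hC e) →
      IsDefectGroup p M B P ∨ IsDefectGroup p M c (P.subgroupOf H) →
      IsDefectGroup p M B P ∧ IsDefectGroup p M c (P.subgroupOf H) ∧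
        ∀ x : G, x ∈ Subgroup.centralizer (P : Set G) →
          MemLocalIdeal M (blockCoeff B x - subgroupBlockCoeff H c x) := by
    intro B c e hB hc hd
    have hm := CfsgLib.Blocks.isMaximal_rel_iff hpM hH hPH hC hP hB.1.2 hB hc
    have hmax : IsMaximalBrauerPair p M B P e ∧
        IsMaximalBrauerPair p M c (P.subgroupOf H) (CfsgLib.Blocks.relBlock hPH hC e) := by
      rcases hd with hd | hd
      · exact ⟨CfsgLib.Blocks.isMaximal_of_defectGroup hpM hd hB,
          hm.1 (CfsgLib.Blocks.isMaximal_of_defectGroup hpM hd hB)⟩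
      · exact ⟨hm.2 (CfsgLib.Blocks.isMaximal_of_defectGroup hpM hd hc),
          CfsgLib.Blocks.isMaximal_of_defectGroup hpM hd hc⟩
    refine ⟨CfsgLib.Blocks.isDefectGroup_of_maximal hpM hmax.1,
      CfsgLib.Blocks.isDefectGroup_of_maximal hpM hmax.2, ?_⟩
    exact (CfsgLib.Blocks.cut_eq_iff_congr _ _ _).1
      (CfsgLib.Blocks.cut_eq_of_maximal hpM hH hPH hC hmax.1 hmax.2)
  -- blocks with the same truncation share pairs
  have share : ∀ (B : Set (IrrCharacter G)) (c : Set (IrrCharacter H)) (hB : IsPBlock M B)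
      (hc : IsPBlock M c), (∀ x : G, x ∈ Subgroup.centralizer (P : Set G) →
        MemLocalIdeal M (blockCoeff B x - subgroupBlockCoeff H c x)) →
      ∀ e, IsPBlock M e → (IsBrauerPairOf p M B P e ↔
        IsBrauerPairOf p M c (P.subgroupOf H) (CfsgLib.Blocks.relBlock hPH hC e)) := by
    intro B c hB hc h e he
    have h1 := (CfsgLib.Blocks.cut_eq_iff_congr (CfsgLib.Blocks.blockCoeff_mem_loc hB)
      (CfsgLib.Blocks.subgroupBlockCoeff_mem_loc hc) (Subgroup.centralizer (P : Set G) : Set G)).2 h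
    rw [(CfsgLib.Blocks.isBrauerPairOf_iff hpM (⟨hP, he⟩ : IsBrauerPair p M P e) hB).1,
      CfsgLib.Blocks.isBrauerPairOf_rel_iff hpM hPH hC hP he hc, CfsgLib.Blocks.blockIdem,
      h1]
    rfl
  constructor
  · intro B hB hD
    obtain ⟨e, he⟩ := CfsgLib.Blocks.exists_pair_on_defectGroup hpM hB hD
    obtain ⟨c, hc, huniq⟩ := CfsgLib.Blocks.existsUnique_block_of_pair (G := H) hpM
      (⟨hP', CfsgLib.Blocks.isPBlock_relBlock hPH hC he.1.2⟩ :
        IsBrauerPair p M (P.subgroupOf H) (CfsgLib.Blocks.relBlock hPH hC e))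
    obtain ⟨-, hcd, hcong⟩ := key B c e he hc (Or.inl hD)
    exact ⟨c, ⟨hc.2.1, hcd, hcong⟩, fun c' h' =>
      huniq c' ((share B c' hB h'.1 h'.2.2 e he.1.2).1 he)⟩
  · intro c hc hD
    obtain ⟨g, hg⟩ := CfsgLib.Blocks.exists_pair_on_defectGroup hpM hc hD
    obtain ⟨e, he, rfl⟩ := CfsgLib.Blocks.exists_relBlock hPH hC hg.1.2
    obtain ⟨B, hB, huniq⟩ := CfsgLib.Blocks.existsUnique_block_of_pair hpM
      (⟨hP, he⟩ : IsBrauerPair p M P e)
    obtain ⟨hBd, -, hcong⟩ := key B c e hB hg (Or.inr hD)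
    exact ⟨B, ⟨hB.2.1, hBd, hcong⟩, fun B' h' =>
      huniq B' ((share B' c h'.1 hc h'.2.2 e he).2 hg)⟩

end Cfsg.Agent.S4670
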