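import Cfsg.Statements.S4673
import Cfsg.Agent.Lib.Blocks.CoveredStabilizer

set_option autoImplicit false
open Cfsg

set_option linter.style.haveILetI false

namespace Cfsg.Agent.S4673

/-- Fix a prime p and a maximal ideal M of the algebraic integers containing p. Let N ≤ L be normal subgroups of the finite group G with L/N a p-group, let B be a p-block of G covering the p-block c of N (some member of B has a constituent in c on restriction to N), and suppose that N contains a defect group of B. Then the stabilizer T of c in G satisfies T ∩ L = N. -/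
theorem result {G : Type*} [Group G] [Fintype G] (p : ℕ) [Fact p.Prime] (M : Ideal Cfsg.AlgInt) (hM : Cfsg.IsPModular p M) (N L : Subgroup G) [N.Normal] [L.Normal] [Fintype N] (hNL : N ≤ L) (hLN : ∃ k : ℕ, (N.subgroupOf L).index = p ^ k) (B : Set (Cfsg.IrrCharacter G)) (hB : Cfsg.IsPBlock M B) (c : Set (Cfsg.IrrCharacter N)) (hc : Cfsg.IsPBlock M c) (hcov : (∃ χ ∈ B, ∃ θ ∈ c, Cfsg.classInner (fun n : N => (χ : G → ℂ) n) (θ : N → ℂ) ≠ 0)) (hD : ∃ D : Subgroup G, Cfsg.IsDefectGroup p M B D ∧ D ≤ N) (T : Subgroup G) (hT : ∀ x : G, x ∈ T ↔ Cfsg.StabilizesBlock N c x) : T ⊓ L = N := by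
  classical
  haveI := hM.2.1.isPrime
  have hpM := hM.2.2
  obtain ⟨k, hk⟩ := hLN
  have hNst : ∀ u ∈ N, StabilizesBlock N c u := fun u hu =>
    (CfsgLib.Blocks.stabilizesBlock_iff hc).2 ⟨Subgroup.le_normalizer hu,
      fun g => CfsgLib.Blocks.subgroupBlockCoeff_conj_of_mem c hu g⟩
  have hNT : N ≤ T := fun u hu => (hT u).2 (hNst u hu)
  haveI := Fintype.ofFinite T
  have hT' : ∀ g : G, g ∈ T ↔ ∀ θ ∈ c, CfsgLib.Blocks.conjIrr N g θ ∈ c := by
    intro g
    constructor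
    · intro hg θ hθ
      obtain ⟨θ', hθ', h⟩ := ((hT g⁻¹).1 (T.inv_mem hg)).2 θ hθ
      have : CfsgLib.Blocks.conjIrr N g θ = θ' := Subtype.ext (funext fun n => by
        rw [CfsgLib.Blocks.coe_conjIrr]
        exact (h (CfsgLib.CharsMore.conjBy N g n) n (by simp [mul_assoc])).symm)
      exact this ▸ hθ'
    · intro h
      refine (hT g).2 ⟨by rw [Subgroup.normalizer_eq_top]; exact Subgroup.mem_top _,
        fun θ hθ => ?_⟩
      have hinj : Function.Injective (CfsgLib.Blocks.conjIrr N g) := fun a b hab => by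
        have := congrArg (CfsgLib.Blocks.conjIrr N g⁻¹) hab
        rwa [← CfsgLib.Blocks.conjIrr_mul, ← CfsgLib.Blocks.conjIrr_mul, mul_inv_cancel,
          CfsgLib.Blocks.conjIrr_one, CfsgLib.Blocks.conjIrr_one] at this
      haveI := CfsgLib.Chars.irrFintype N
      obtain ⟨θ₀, hθ₀⟩ := (Finite.injective_iff_surjective.1
        (fun (a b : c) hab => Subtype.ext (hinj (congrArg Subtype.val hab)) :
          Function.Injective fun a : c => (⟨CfsgLib.Blocks.conjIrr N g a.1, h a.1 a.2⟩ : c)))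
        ⟨θ, hθ⟩
      refine ⟨θ₀.1, θ₀.2, fun m m' hm => ?_⟩
      have e : CfsgLib.Blocks.conjIrr N g θ₀.1 = θ := congrArg Subtype.val hθ₀
      rw [← e, CfsgLib.Blocks.coe_conjIrr]
      exact congrArg _ (Subtype.ext (by simpa using hm))
  obtain ⟨χ, hχ, θ, hθ, hne⟩ := hcov
  obtain ⟨ψ, hov, hind⟩ := CfsgLib.Blocks.exists_overBlock_indFun_eq hT' hc hNT (χ := χ)
    ⟨θ, hθ, hne⟩
  have hB' := CfsgLib.Blocks.isPBlock_blockOf (M := M) ψ
  have hI := CfsgLib.Blocks.isInducedBlock_indFun hT' hc hNT hB'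
    (CfsgLib.Blocks.mem_blockOf_self ψ) hov
  rw [hind, ← CfsgLib.Blocks.IsPBlock.eq_blockOf hB hχ] at hI
  obtain ⟨P', hP'⟩ := CfsgLib.Blocks.exists_isDefectGroup (p := p) hB'
  obtain ⟨E, hE, hPE⟩ := CfsgLib.Blocks.IsInducedBlock.exists_defect_le hpM hI hP'
  obtain ⟨D, hD, hDN⟩ := hD
  obtain ⟨z, hz⟩ := CfsgLib.Blocks.IsDefectGroup.exists_conj_eq hpM hB hD hE
  have hEN : E ≤ N := by
    rw [← hz]
    rintro _ ⟨v, hv, rfl⟩
    exact Subgroup.Normal.conj_mem (H := N) inferInstance _ (hDN hv) z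
  haveI := Fintype.ofFinite (N.subgroupOf T)
  obtain ⟨c', hc', -, hcoef⟩ := CfsgLib.Blocks.exists_subBlock hNT hc (M := M)
  have hne' : CfsgLib.Blocks.blockIdem hB' * CfsgLib.Blocks.pairIdem hc' ≠ 0 := by
    refine CfsgLib.Blocks.mul_ne_zero_of_covers hc' hB' ?_
    obtain ⟨θ₁, hθ₁, hθne⟩ := hov
    have hUV : ∀ u : T, u ∈ N.subgroupOf T ↔ (u : G) ∈ N := fun u => Subgroup.mem_subgroupOf
    have hc'eq : c' = CfsgLib.Blocks.pullIrr (CfsgLib.Blocks.transIso hNT hUV) '' c := by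
      refine CfsgLib.Blocks.eq_of_blockCoeff_eq (funext fun v => ?_)
      rw [← CfsgLib.Blocks.subgroupBlockCoeff_coe, hcoef, CfsgLib.Blocks.blockCoeff_image_pullIrr,
        ← CfsgLib.Blocks.subgroupBlockCoeff_coe]
      rfl
    refine ⟨ψ, CfsgLib.Blocks.mem_blockOf_self ψ,
      CfsgLib.Blocks.pullIrr (CfsgLib.Blocks.transIso hNT hUV) θ₁,
      hc'eq.symm ▸ (⟨θ₁, hθ₁, rfl⟩ : CfsgLib.Blocks.pullIrr (CfsgLib.Blocks.transIso hNT hUV) θ₁ ∈
        CfsgLib.Blocks.pullIrr (CfsgLib.Blocks.transIso hNT hUV) '' c), ?_⟩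
    convert hθne using 1
    simp only [classInner, Nat.card_congr (CfsgLib.Blocks.transIso hNT hUV).toEquiv]
    congr 1
    exact Fintype.sum_bijective _ (CfsgLib.Blocks.transIso hNT hUV).bijective _ _ fun _ => rfl
  have hst' : ∀ x : T, StabilizesBlock (N.subgroupOf T) c' x := fun x =>
    CfsgLib.Blocks.stabilizes_subBlock hc hc' hcoef ((hT x).1 x.2)
  have hNK : N.subgroupOf T ≤ L.subgroupOf T := fun v hv => hNL hv
  have hdvd : (N.subgroupOf T).relIndex (L.subgroupOf T) ∣ p ^ k := by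
    rw [← hk, ← Subgroup.inf_subgroupOf_right L T, Subgroup.relIndex_subgroupOf inf_le_right]
    exact Dvd.intro _ (Subgroup.relIndex_mul_relIndex N (L ⊓ T) L (le_inf hNL hNT) inf_le_left)
  obtain ⟨j, -, hj⟩ := (Nat.dvd_prime_pow Fact.out).1 hdvd
  have hK := CfsgLib.Blocks.eq_of_stable_covered hpM hNK hj hc' hst' hB' hne' hP'
    (fun v hv => hEN (hPE ⟨v, hv, rfl⟩))
  refine le_antisymm (fun x hx => ?_) (le_inf hNT hNL)
  exact (hK.le (show (⟨x, hx.1⟩ : T) ∈ L.subgroupOf T from hx.2) :)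

end Cfsg.Agent.S4673
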