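import Cfsg.Statements.S4679
import Cfsg.Agent.Lib.Blocks.FusionBlock

set_option autoImplicit false
open Cfsg

set_option linter.style.haveILetI false

namespace Cfsg.Agent.S4679

/-- Fix a prime p and a maximal ideal M of the algebraic integers containing p, a p-block B of the finite group G with maximal Brauer pair (P, e), its fusion system F on P, a Brauer pair (Q, f) ≤ (P, e), and let T be the stabilizer of f in N_G(Q). Then Q is fully normalized in F if and only if N_P(Q) is a defect group of the block of T whose idempotent is that of f. -/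
theorem result {G : Type*} [Group G] [Fintype G] (p : ℕ) [Fact p.Prime] (M : Ideal Cfsg.AlgInt) (hM : Cfsg.IsPModular p M) (B : Set (Cfsg.IrrCharacter G)) (P : Subgroup G) (e : Set (Cfsg.IrrCharacter (Subgroup.centralizer (P : Set G)))) (hmax : Cfsg.IsMaximalBrauerPair p M B P e) (F : Cfsg.FusionSystem P) (hF : Cfsg.IsBlockFusionSystemOn p M B P e F) (Q : Subgroup G) (f : Set (Cfsg.IrrCharacter (Subgroup.centralizer (Q : Set G)))) (hQP : Q ≤ P) (hf : Cfsg.IsPBlock M f) (hle : Cfsg.SubpairLE p M Q f P e) (T : Subgroup G) (hT : ∀ y : G, y ∈ T ↔ y ∈ Subgroup.normalizer (Q : Set G) ∧ Cfsg.StabilizesBlock (Subgroup.centralizer (Q : Set G)) f y) : F.IsFullyNormalized Q ↔ ∃ F' : Set (Cfsg.IrrCharacter T), Cfsg.IsPBlock M F' ∧ (∀ t : T, Cfsg.blockCoeff F' t = Cfsg.subgroupBlockCoeff (Subgroup.centralizer (Q : Set G)) f (t : G)) ∧ Cfsg.IsDefectGroup p M F' ((P ⊓ Subgroup.normalizer (Q : Set G)).subgroupOf T) := by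
  haveI := hM.2.1.isPrime
  obtain rfl : T = CfsgLib.Blocks.stabPair ⟨Q, f⟩ := by
    ext x
    rw [hT, CfsgLib.Blocks.mem_stabPair_iff hf]
  have hb : IsBrauerPair p M P e := hmax.1.1
  have hinf : P ⊓ CfsgLib.Blocks.stabPair ⟨Q, f⟩ = P ⊓ Subgroup.normalizer (Q : Set G) :=
    CfsgLib.Blocks.inf_stabPair_eq (b := ⟨P, e⟩) hM.2.2 hb hle
  rw [← hinf]
  have key : ∀ F' : Set (IrrCharacter (CfsgLib.Blocks.stabPair (⟨Q, f⟩ : BrauerPairIdx G))),
      (∀ t : CfsgLib.Blocks.stabPair (⟨Q, f⟩ : BrauerPairIdx G), blockCoeff F' t =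
        subgroupBlockCoeff (Subgroup.centralizer (Q : Set G)) f (t : G)) ↔
      subgroupBlockCoeff (CfsgLib.Blocks.stabPair ⟨Q, f⟩) F' =
        CfsgLib.Blocks.pairCoeff ⟨Q, f⟩ := by
    intro F'
    constructor
    · intro h
      funext x
      by_cases hx : x ∈ CfsgLib.Blocks.stabPair (⟨Q, f⟩ : BrauerPairIdx G)
      · exact (CfsgLib.Blocks.subgroupBlockCoeff_coe F' ⟨x, hx⟩).trans (h ⟨x, hx⟩)
      · rw [CfsgLib.Blocks.subgroupBlockCoeff_of_notMem F' hx]
        exact (CfsgLib.Blocks.subgroupBlockCoeff_of_notMem f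
          fun h' => hx (CfsgLib.Blocks.centralizer_le_stabPair hf h')).symm
    · intro h t
      rw [← CfsgLib.Blocks.subgroupBlockCoeff_coe F' t, h]
      rfl
  obtain ⟨F₀, hF₀, hFf⟩ := CfsgLib.Blocks.exists_stab_block hM.2.2 (a := ⟨Q, f⟩)
    (CfsgLib.Blocks.below_isBrauerPair hle hb)
  haveI := Fintype.ofFinite (CfsgLib.Blocks.stabPair (⟨Q, f⟩ : BrauerPairIdx G))
  show F.IsFullyNormalized (⟨Q, f⟩ : BrauerPairIdx G).1 ↔ _
  rw [CfsgLib.Blocks.isFullyNormalized_iff hM.2.2 hF hle hF₀ hFf]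
  constructor
  · intro h
    exact ⟨F₀, hF₀, (key F₀).2 hFf,
      (CfsgLib.Blocks.card_inf_stab_le (b := ⟨P, e⟩) hM.2.2 hb hle hF₀ hFf).2 h⟩
  · rintro ⟨F', hF', h1, h2⟩
    obtain rfl : F' = F₀ :=
      CfsgLib.Blocks.eq_of_subgroupBlockCoeff_eq (((key F').1 h1).trans hFf.symm)
    have := CfsgLib.BlockOrth.card_defectGroup hM.2.2 hF' h2
    rwa [CfsgLib.Base.card_subgroupOf inf_le_right] at this

end Cfsg.Agent.S4679
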