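import Cfsg.Statements.S4682
import Cfsg.Agent.Lib.Blocks.InertialQuotient

set_option autoImplicit false
open Cfsg

set_option linter.style.haveILetI false

namespace Cfsg.Agent.S4682

/-- Fix a prime p and a maximal ideal M of the algebraic integers containing p, a p-block B of the finite group G with maximal Brauer pair (P, e), P abelian, and a Brauer pair (Q, f) ≤ (P, e). Let T_Q be the stabilizer of f in N_G(Q) and T_P the stabilizer of e in N_G(P). Then every element of T_Q is a product of an element of T_P and an element of C_G(Q); and the index of C_G(Q) in T_Q equals the index of T_P ∩ C_G(Q) in T_P ∩ N_G(Q). -/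
theorem result {G : Type*} [Group G] [Fintype G] (p : ℕ) [Fact p.Prime] (M : Ideal Cfsg.AlgInt) (hM : Cfsg.IsPModular p M) (B : Set (Cfsg.IrrCharacter G)) (P : Subgroup G) (e : Set (Cfsg.IrrCharacter (Subgroup.centralizer (P : Set G)))) (hmax : Cfsg.IsMaximalBrauerPair p M B P e) (hab : ∀ x ∈ P, ∀ y ∈ P, x * y = y * x) (Q : Subgroup G) (f : Set (Cfsg.IrrCharacter (Subgroup.centralizer (Q : Set G)))) (hQP : Q ≤ P) (hf : Cfsg.IsPBlock M f) (hle : Cfsg.SubpairLE p M Q f P e) (TQ : Subgroup G) (hTQ : ∀ y : G, y ∈ TQ ↔ y ∈ Subgroup.normalizer (Q : Set G) ∧ Cfsg.StabilizesBlock (Subgroup.centralizer (Q : Set G)) f y) (TP : Subgroup G) (hTP : ∀ y : G, y ∈ TP ↔ y ∈ Subgroup.normalizer (P : Set G) ∧ Cfsg.StabilizesBlock (Subgroup.centralizer (P : Set G)) e y) : (∀ x ∈ TQ, ∃ y ∈ TP, ∃ c ∈ Subgroup.centralizer (Q : Set G), x = y * c) ∧ ((Subgroup.centralizer (Q : Set G)).subgroupOf TQ).index = ((TP ⊓ Subgroup.centralizer (Q : Set G)).subgroupOf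 (TP ⊓ Subgroup.normalizer (Q : Set G))).index := by
  haveI := CfsgLib.Blocks.isPrime_of_isPModular hM
  have hpM := hM.2.2
  have hle' : Relation.ReflTransGen (NormalSubpairRel p M) (⟨Q, f⟩ : BrauerPairIdx G) ⟨P, e⟩ := hle
  obtain rfl : TQ = CfsgLib.Blocks.stabPair ⟨Q, f⟩ := by
    ext y; rw [hTQ, CfsgLib.Blocks.mem_stabPair_iff hf]
  obtain rfl : TP = CfsgLib.Blocks.stabPair ⟨P, e⟩ := by
    ext y; rw [hTP, CfsgLib.Blocks.mem_stabPair_iff hmax.1.1.2]
  have hdec : ∀ x ∈ CfsgLib.Blocks.stabPair ⟨Q, f⟩,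
      ∃ y ∈ CfsgLib.Blocks.stabPair ⟨P, e⟩, ∃ c ∈ (Subgroup.centralizer (Q : Set G)), x = y * c ∧
        y ∈ Subgroup.normalizer (Q : Set G) := by
    intro x hx
    obtain ⟨c, hc, hcx⟩ := CfsgLib.Blocks.exists_centralizer_conj hpM hmax hab hle' hx
    have hyN : c * x ∈ Subgroup.normalizer (Q : Set G) := Subgroup.mul_mem _
      (CfsgLib.Blocks.centralizer_le_normalizer' Q hc)
      (CfsgLib.Blocks.stabPair_le_normalizer _ hx)
    refine ⟨c * x, hcx, (c * x)⁻¹ * c⁻¹ * (c * x), ?_, by group, hyN⟩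
    have h1 := (CfsgLib.Blocks.conj_mem_centralizer_iff (inv_mem hyN) c⁻¹).2 (inv_mem hc)
    rwa [inv_inv] at h1
  refine ⟨fun x hx => ?_, ?_⟩
  · obtain ⟨y, hy, c, hc, h, -⟩ := hdec x hx
    exact ⟨y, hy, c, hc, h⟩
  set T := CfsgLib.Blocks.stabPair ⟨Q, f⟩ with hT
  set A := CfsgLib.Blocks.stabPair ⟨P, e⟩ ⊓ Subgroup.normalizer (Q : Set G) with hA
  have hAT : A ≤ T := CfsgLib.Blocks.inf_normalizer_le_stabPair hpM hmax.1.1 hle'
  have hCT : (Subgroup.centralizer (Q : Set G)) ≤ T := CfsgLib.Blocks.centralizer_le_stabPair hf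
  haveI : ((Subgroup.centralizer (Q : Set G)).subgroupOf T).Normal := (Subgroup.normal_subgroupOf_iff_le_normalizer hCT).2
    fun u hu => CfsgLib.Blocks.mem_normalizer_centralizer
      (CfsgLib.Blocks.stabPair_le_normalizer _ hu)
  have htop : A.subgroupOf T ⊔ (Subgroup.centralizer (Q : Set G)).subgroupOf T = ⊤ := by
    rw [eq_top_iff]
    rintro ⟨x, hx⟩ -
    obtain ⟨y, hy, c, hc, rfl, hyN⟩ := hdec x hx
    have hyT : y ∈ T := hAT ⟨hy, hyN⟩
    rw [show (⟨y * c, hx⟩ : T) = ⟨y, hyT⟩ * ⟨c, hCT hc⟩ from rfl]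
    exact Subgroup.mul_mem_sup (Subgroup.mem_subgroupOf.2 ⟨hy, hyN⟩) (Subgroup.mem_subgroupOf.2 hc)
  have h1 : ((Subgroup.centralizer (Q : Set G)).subgroupOf T).index = (Subgroup.centralizer (Q : Set G)).relIndex A := by
    rw [← Subgroup.relIndex_subgroupOf hAT, ← Subgroup.relIndex_sup_right (A.subgroupOf T), htop,
      Subgroup.relIndex_top_right]
  rw [h1, ← Subgroup.relIndex, ← Subgroup.inf_relIndex_right (Subgroup.centralizer (Q : Set G)) A]
  congr 1
  refine le_antisymm (fun u hu => ⟨hu.2.1, hu.1⟩)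
    (fun u hu => ⟨hu.2, hu.1, CfsgLib.Blocks.centralizer_le_normalizer' Q hu.2⟩)

end Cfsg.Agent.S4682
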