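import Cfsg.Statements.S4683
import Cfsg.Agent.Lib.BlockOrth.Subsection

set_option autoImplicit false
open Cfsg CfsgLib.BlockOrth

namespace Cfsg.Agent.S4683

theorem local_sum_eq_rank {G : Type*} [Group G] [Fintype G] {p : ℕ} [Fact p.Prime]
    {M : Ideal Cfsg.AlgInt} [M.IsPrime] (hM : Cfsg.IsPModular p M) {B : Set (Cfsg.IrrCharacter G)}
    {C : Subgroup G} {u : G} (hH : ∀ c : G, c ∈ C ↔ c * u = u * c)
    (hu : ∃ k : ℕ, orderOf u = p ^ k) {e : Set (Cfsg.IrrCharacter C)}
    (hind : Cfsg.IsInducedBlock M C e B) :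
    ∑ᶠ χ ∈ B, ∑ᶠ s : C, Cfsg.pRegularPart p
        (Cfsg.blockPart e (fun c : C => (χ : G → ℂ) (u * c))) s *
        Cfsg.blockPart e (fun c : C => (χ : G → ℂ) (u⁻¹ * c)) s⁻¹ =
      (Nat.card C : ℂ) * (Cfsg.blockRank p e : ℂ) := by
  classical
  haveI := Fintype.ofFinite C
  haveI := CfsgLib.Chars.irrFintype G
  haveI := CfsgLib.Chars.irrFintype C
  have he := hind.1
  rw [← sum_secFun_sq hM hH hu hind, sum_mem_block, Finset.mul_sum]
  refine Finset.sum_congr rfl fun χ _ => ?_
  have hcl := isClassFunction_secFun hH (CfsgLib.Chars.isClassFunction_irr χ)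
  rw [← inner_self_pRegularPart_blockPart hM.2.2 he hcl, CfsgLib.Chars.inner_def,
    ← mul_assoc, mul_inv_cancel₀ (Nat.cast_ne_zero.2 Nat.card_pos.ne'), one_mul,
    finsum_eq_sum_of_fintype]
  refine Finset.sum_congr rfl fun s _ => ?_
  have hinner : ∀ θ : Cfsg.IrrCharacter C,
      Cfsg.classInner (fun c : C => (χ : G → ℂ) (u⁻¹ * c)) (θ : C → ℂ) =
        (starRingEnd ℂ) (Cfsg.classInner (secFun C u (χ : G → ℂ)) (θ : C → ℂ)) := by
    intro θ
    rw [CfsgLib.Chars.inner_def, CfsgLib.Chars.inner_def, map_mul, map_inv₀, map_natCast, map_sum]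
    congr 1
    rw [← Equiv.sum_comp (Equiv.inv C)]
    refine Finset.sum_congr rfl fun c _ => ?_
    simp only [Equiv.inv_apply, secFun, map_mul, Complex.conj_conj, Subgroup.coe_inv]
    rw [CfsgLib.Chars.irr_inv θ c, Complex.conj_conj]
    congr 1
    rw [← CfsgLib.Chars.irr_inv χ, mul_inv_rev]
    congr 1
    have hc : Commute (c : G) u := (hH c).1 c.2
    rw [(hc.inv_inv).symm.eq]
  have hval : Cfsg.blockPart e (fun c : C => (χ : G → ℂ) (u⁻¹ * c)) s⁻¹ =
      (starRingEnd ℂ) (Cfsg.blockPart e (secFun C u (χ : G → ℂ)) s) := by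
    simp only [Cfsg.blockPart, sum_mem_block, map_sum, map_mul]
    refine Finset.sum_congr rfl fun θ _ => ?_
    rw [← CfsgLib.Chars.irr_inv θ s, CfsgLib.Chars.inner_congr_inst, hinner θ,
      CfsgLib.Chars.inner_congr_inst]
  rw [hval]
  simp only [pRegularPart_apply]
  split_ifs with hs
  · simp
  · rfl



/-- Fix a prime p and a maximal ideal M of the algebraic integers containing p, a p-block B of the finite group G, a p-element u and a p-block e of C = C_G(u) such that (⟨u⟩, e) is a Brauer pair of B (a Brauer element of B). For χ ∈ B let χ_u be the e-part of the class function c ↦ χ(u c) on C and χ_u' the e-part of c ↦ χ(u⁻¹ c). Then the sum over χ ∈ B and over the p-regular elements s of C of χ_u(s)·χ_u'(s⁻¹) equals the order of C times the p-regular rank of e (the number of irreducible Brauer characters of e). -/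
theorem result {G : Type*} [Group G] [Fintype G] (p : ℕ) [Fact p.Prime] (M : Ideal Cfsg.AlgInt) (hM : Cfsg.IsPModular p M) (B : Set (Cfsg.IrrCharacter G)) (u : G) (hu : ∃ k : ℕ, orderOf u = p ^ k) (e : Set (Cfsg.IrrCharacter (Subgroup.centralizer (Subgroup.zpowers u : Set G)))) (hBe : Cfsg.IsBrauerPairOf p M B (Subgroup.zpowers u) e) : ∑ᶠ χ ∈ B, ∑ᶠ s : Subgroup.centralizer (Subgroup.zpowers u : Set G), Cfsg.pRegularPart p (Cfsg.blockPart e (fun c : Subgroup.centralizer (Subgroup.zpowers u : Set G) => (χ : G → ℂ) (u * c))) s * Cfsg.blockPart e (fun c : Subgroup.centralizer (Subgroup.zpowers u : Set G) => (χ : G → ℂ) (u⁻¹ * c)) s⁻¹ = (Nat.card (Subgroup.centralizer (Subgroup.zpowers u : Set G)) : ℂ) * (Cfsg.blockRank p e : ℂ) := by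
  classical
  haveI := CfsgLib.Blocks.isPrime_of_isPModular hM
  haveI := Fintype.ofFinite (Subgroup.centralizer (Subgroup.zpowers u : Set G))
  obtain ⟨⟨hQ, he⟩, hB, hω⟩ := hBe
  have hH : ∀ c : G, c ∈ (Subgroup.centralizer (Subgroup.zpowers u : Set G)) ↔ c * u = u * c := fun c => by
    rw [Subgroup.zpowers_eq_closure, Subgroup.centralizer_closure,
      Subgroup.mem_centralizer_singleton_iff]
  have hQC : Subgroup.zpowers u ≤ (Subgroup.centralizer (Subgroup.zpowers u : Set G)) := Subgroup.zpowers_le.2 ((hH u).2 rfl)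
  have hCN : (Subgroup.centralizer (Subgroup.zpowers u : Set G)) ≤ Subgroup.normalizer (Subgroup.zpowers u : Set G) := Subgroup.centralizer_le_normalizer _
  obtain ⟨B', hind⟩ := CfsgLib.Blocks.exists_isInducedBlock hM.2.2 hQ hQC le_rfl hCN he
  have hBB : B' = B := by
    by_contra hne
    obtain ⟨ξ, hξ⟩ := CfsgLib.Blocks.IsPBlock.nonempty he
    obtain ⟨ψ, hψ⟩ := CfsgLib.Blocks.IsPBlock.nonempty hind.2.1
    have ha := CfsgLib.Blocks.isLocClassFun_blockCoeff (M := M) hB
    have h1 := CfsgLib.Blocks.IsInducedBlock.omega_sub hind hξ hψ ha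
    rw [CfsgLib.Blocks.omega_blockCoeff, if_neg fun h =>
      hne (CfsgLib.Blocks.IsPBlock.eq_of_mem hind.2.1 hB hψ h), sub_zero] at h1
    refine CfsgLib.Blocks.not_memLocalIdeal_one (M := M) ?_
    have h2 := hω ξ hξ
    have h3 : Cfsg.brauerOmega (Subgroup.zpowers u) (Cfsg.blockCoeff B) (ξ : Subgroup.centralizer (Subgroup.zpowers u : Set G) → ℂ) =
        CfsgLib.Blocks.omega (ξ : Subgroup.centralizer (Subgroup.zpowers u : Set G) → ℂ) (CfsgLib.Blocks.resFun (Subgroup.centralizer (Subgroup.zpowers u : Set G)) (Cfsg.blockCoeff B)) := by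
      rw [Cfsg.brauerOmega, finsum_eq_sum_of_fintype, CfsgLib.Blocks.omega, Finset.sum_div]
      rfl
    rw [h3] at h2
    simpa using CfsgLib.Blocks.MemLocalIdeal.sub' h1 h2
  exact local_sum_eq_rank hM hH hu (hBB ▸ hind)
end Cfsg.Agent.S4683
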