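import Cfsg.Statements.S4687
import Cfsg.Agent.Lib.Blocks.InertialQuotient

set_option autoImplicit false
open Cfsg

set_option linter.style.haveILetI false

namespace Cfsg.Agent.S4687

/-- Fix a prime p and a maximal ideal M of the algebraic integers containing p, and a p-block B of the finite group G with maximal Brauer pair (P, e), P abelian. Then B is nilpotent if and only if its inertial quotient is trivial: every element of N_G(P) stabilizing e centralizes P. -/
theorem result {G : Type*} [Group G] [Fintype G] (p : ℕ) [Fact p.Prime] (M : Ideal Cfsg.AlgInt) (hM : Cfsg.IsPModular p M) (B : Set (Cfsg.IrrCharacter G)) (P : Subgroup G) (e : Set (Cfsg.IrrCharacter (Subgroup.centralizer (P : Set G)))) (hmax : Cfsg.IsMaximalBrauerPair p M B P e) (hab : ∀ x ∈ P, ∀ y ∈ P, x * y = y * x) : Cfsg.IsNilpotentBlock p M B ↔ ∀ x : G, x ∈ Subgroup.normalizer (P : Set G) → Cfsg.StabilizesBlock (Subgroup.centralizer (P : Set G)) e x → x ∈ Subgroup.centralizer (P : Set G) := by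
  haveI := CfsgLib.Blocks.isPrime_of_isPModular hM
  have hpM := hM.2.2
  have he : IsPBlock M e := hmax.1.1.2
  constructor
  · intro hnil x hxN hxS
    set T := CfsgLib.Blocks.stabPair ⟨P, e⟩ with hT
    have hnd := CfsgLib.Blocks.not_dvd_index_centralizer_stab hpM hmax hab
    have hCT : (Subgroup.centralizer (P : Set G)) ≤ T := CfsgLib.Blocks.centralizer_le_stabPair he
    haveI : ((Subgroup.centralizer (P : Set G)).subgroupOf T).Normal := (Subgroup.normal_subgroupOf_iff_le_normalizer hCT).2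
      fun u hu => CfsgLib.Blocks.mem_normalizer_centralizer
        (CfsgLib.Blocks.stabPair_le_normalizer _ hu)
    have hq : IsPGroup p (T ⧸ (Subgroup.centralizer (P : Set G)).subgroupOf T) := fun q => by
      obtain ⟨g, rfl⟩ := QuotientGroup.mk_surjective q
      refine ⟨(orderOf (g : G)).factorization p, ?_⟩
      rw [← QuotientGroup.mk_pow, QuotientGroup.eq_one_iff, Subgroup.mem_subgroupOf]
      have h1 := (CfsgLib.Blocks.mem_stabPair_iff he).1
        (g ^ p ^ (orderOf (g : G)).factorization p).2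
      refine hnil.2 P e hmax.1 _ h1.1 h1.2 ?_
      rw [IsPRegular, Subgroup.coe_pow, orderOf_pow, Nat.gcd_eq_right (Nat.ordProj_dvd _ _)]
      exact Nat.not_dvd_ordCompl Fact.out (orderOf_pos _).ne'
    obtain ⟨k, hk⟩ := hq.exists_card_eq
    rw [← Subgroup.index_eq_card] at hk
    have hk0 : k = 0 := by
      by_contra hk0
      exact hnd (hk ▸ dvd_pow_self p hk0)
    rw [hk0, pow_zero, Subgroup.index_eq_one, Subgroup.subgroupOf_eq_top] at hk
    exact hk ((CfsgLib.Blocks.mem_stabPair_iff he).2 ⟨hxN, hxS⟩)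
  · intro h
    refine ⟨hmax.1.2.1, fun Q f hQf x hxN hxS _ => ?_⟩
    obtain ⟨y, hy⟩ := CfsgLib.Blocks.exists_conj_below hpM (a := ⟨Q, f⟩) (b := ⟨P, e⟩) hmax hQf
    have hx : y * x * y⁻¹ ∈ CfsgLib.Blocks.stabPair (CfsgLib.Blocks.conjPair y ⟨Q, f⟩) :=
      (CfsgLib.Blocks.conj_mem_stabPair_iff _ y x).2
        ((CfsgLib.Blocks.mem_stabPair_iff hQf.1.2).2 ⟨hxN, hxS⟩)
    obtain ⟨c, hc, hcx⟩ := CfsgLib.Blocks.exists_centralizer_conj hpM hmax hab
      (Q := Q.map (MulAut.conj y).toMonoidHom) (f := conjBlock Q y f) hy hx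
    have h1 := (CfsgLib.Blocks.mem_stabPair_iff he).1 hcx
    have h2 := CfsgLib.Blocks.centralizer_antitone (CfsgLib.Blocks.below_le hy) (h _ h1.1 h1.2)
    have h3 := Subgroup.mul_mem _ (inv_mem hc) h2
    rw [inv_mul_cancel_left] at h3
    exact (CfsgLib.Blocks.centralizer_conj_iff Q y x).1 h3

end Cfsg.Agent.S4687
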