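import Cfsg.Statements.S4693
import Cfsg.Agent.Lib.Blocks.CentricNilpotent

set_option autoImplicit false
open Cfsg

set_option linter.style.haveILetI false

namespace Cfsg.Agent.S4693

/-- Fix a prime p and a maximal ideal M of the algebraic integers containing p, a p-block B of the finite group G with maximal Brauer pair (P, e) and fusion system F on P, and a Brauer pair (Q, f) ≤ (P, e) with Q centric in F. Suppose every element of G normalizes Q and stabilizes f. Then the idempotent of B agrees with that of f modulo M at every element of G, and f is the idempotent of a nilpotent block of Q·C_G(Q): some p-block of Q·C_G(Q) has the idempotent coefficients of f and is nilpotent. -/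
theorem result {G : Type*} [Group G] [Fintype G] (p : ℕ) [Fact p.Prime] (M : Ideal Cfsg.AlgInt) (hM : Cfsg.IsPModular p M) (B : Set (Cfsg.IrrCharacter G)) (P : Subgroup G) (e : Set (Cfsg.IrrCharacter (Subgroup.centralizer (P : Set G)))) (hmax : Cfsg.IsMaximalBrauerPair p M B P e) (F : Cfsg.FusionSystem P) (hF : Cfsg.IsBlockFusionSystemOn p M B P e F) (Q : Subgroup G) (f : Set (Cfsg.IrrCharacter (Subgroup.centralizer (Q : Set G)))) (hQP : Q ≤ P) (hf : Cfsg.IsPBlock M f) (hle : Cfsg.SubpairLE p M Q f P e) (hcen : F.IsCentric Q) (hG : ∀ x : G, x ∈ Subgroup.normalizer (Q : Set G) ∧ Cfsg.StabilizesBlock (Subgroup.centralizer (Q : Set G)) f x) : (∀ g : G, Cfsg.MemLocalIdeal M (Cfsg.blockCoeff B g - Cfsg.subgroupBlockCoeff (Subgroup.centralizer (Q : Set G)) f g)) ∧ ∃ F' : Set (Cfsg.IrrCharacter ↥(Q ⊔ Subgroup.centralizer (Q : Set G))), Cfsg.IsPBlock M F' ∧ (∀ t : ↥(Q ⊔ Subgroup.centralizer (Q : Set G)), Cfsg.blockCoeff F' t = Cfsg.subgroupBlockCoeff (Subgroup.centralizer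 (Q : Set G)) f (t : G)) ∧ Cfsg.IsNilpotentBlock p M F' := by
  haveI := hM.2.1.isPrime
  have hpM := hM.2.2
  have hb : IsBrauerPair p M P e := hmax.1.1
  have hQf : IsBrauerPair p M Q f := CfsgLib.Blocks.below_isBrauerPair hle hb
  have hG' : ∀ x : G, x ∈ CfsgLib.Blocks.stabPair ⟨Q, f⟩ := fun x =>
    (CfsgLib.Blocks.mem_stabPair_iff hf).2 (hG x)
  obtain ⟨B₀, hB₀, hc⟩ := CfsgLib.Blocks.exists_block_of_stable_top hpM hQf hG'
  have hBQ : IsBrauerPairOf p M B Q f :=
    (CfsgLib.Blocks.isBrauerPairOf_iff_of_below hpM hle B).2 hmax.1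
  obtain rfl : B₀ = B := (CfsgLib.Blocks.existsUnique_block_of_pair hpM hQf).unique hB₀ hBQ
  refine ⟨fun g => by rw [hc, sub_self]; exact CfsgLib.Blocks.MemLocalIdeal.zero', ?_⟩
  have hLT : Q ⊔ Subgroup.centralizer (Q : Set G) ≤ CfsgLib.Blocks.stabPair ⟨Q, f⟩ :=
    fun x _ => hG' x
  obtain ⟨F', hF', hFf⟩ := CfsgLib.Blocks.exists_block_eq_of_stable hpM hQf.1
    (H := Q ⊔ Subgroup.centralizer (Q : Set G)) le_sup_left le_sup_right
    (hLT.trans (CfsgLib.Blocks.stabPair_le_normalizer _)) hf (fun x _ => (hG x).2)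
  refine ⟨F', hF', fun t => ?_, CfsgLib.Blocks.isNilpotentBlock_self_centralizer hpM hQf.1 hF'
    (CfsgLib.Blocks.isDefectGroup_self_centralizer (b := ⟨P, e⟩) hpM hb hle
      ((CfsgLib.Blocks.isCentric_iff hpM hF hle).1 hcen) hF' hFf)⟩
  haveI := Fintype.ofFinite ↥(Q ⊔ Subgroup.centralizer (Q : Set G))
  rw [← CfsgLib.Blocks.subgroupBlockCoeff_coe, hFf]

end Cfsg.Agent.S4693
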