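import Cfsg.Statements.S4694
import Cfsg.Agent.Lib.Blocks.WeightPair
import Cfsg.Agent.Lib.Blocks.LocalDefect

set_option autoImplicit false
open Cfsg

set_option linter.style.haveILetI false

namespace Cfsg.Agent.S4694

/-- Fix a prime p and a maximal ideal M of the algebraic integers containing p, a p-block B of the finite group G and a Brauer pair (Q, e) of B. Let T be the stabilizer of e in N_G(Q) and suppose that (Q, e) carries a weight: the block of T whose idempotent is that of e contains an irreducible character χ that is constant on the cosets of Q and whose degree has p-part equal to the p-part of the index of Q in T. Then Z(Q) is a defect group of e as a block of C_G(Q), and Q is the largest normal p-subgroup of T: every p-subgroup of T normalized by T lies in Q. -/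
theorem result {G : Type*} [Group G] [Fintype G] (p : ℕ) [Fact p.Prime] (M : Ideal Cfsg.AlgInt) (hM : Cfsg.IsPModular p M) (B : Set (Cfsg.IrrCharacter G)) (Q : Subgroup G) (e : Set (Cfsg.IrrCharacter (Subgroup.centralizer (Q : Set G)))) (hQe : Cfsg.IsBrauerPairOf p M B Q e) (T : Subgroup G) (hT : ∀ y : G, y ∈ T ↔ y ∈ Subgroup.normalizer (Q : Set G) ∧ Cfsg.StabilizesBlock (Subgroup.centralizer (Q : Set G)) e y) (F' : Set (Cfsg.IrrCharacter T)) (hF' : Cfsg.IsPBlock M F') (hF'e : ∀ t : T, Cfsg.blockCoeff F' t = Cfsg.subgroupBlockCoeff (Subgroup.centralizer (Q : Set G)) e (t : G)) (χ : Cfsg.IrrCharacter T) (hχ : χ ∈ F') (hχQ : ∀ q : G, q ∈ Q → ∀ t : T, ∀ t' : T, (t' : G) = q * (t : G) → (χ : T → ℂ) t' = (χ : T → ℂ) t) (hdeg : (Cfsg.charDegree (χ : T → ℂ)).factorization p + (Nat.card Q).factorization p = (Nat.card T).factorization p) : Cfsg.IsDefectGroup p M e ((Q ⊓ Subgroup.centralizer (Q : Set G)).subgroupOf (Subgroup.centralizer (Q : Set G))) ∧ ∀ R : Subgroup G, R ≤ T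 → IsPGroup p R → (∀ t ∈ T, t ∈ Subgroup.normalizer (R : Set G)) → R ≤ Q := by
  classical
  haveI := hM.2.1.isPrime
  haveI := Fintype.ofFinite T
  have hQT : Q ≤ T := fun x hx => by
    have h := (CfsgLib.Blocks.mem_stabPair_iff hQe.1.2).1
      (CfsgLib.Blocks.subgroup_le_stabPair hM.2.2 hQe.1 hx)
    exact (hT x).2 h
  have hCT : Subgroup.centralizer (Q : Set G) ≤ T := fun x hx =>
    (hT x).2 ((CfsgLib.Blocks.mem_stabPair_iff hQe.1.2).1
      (CfsgLib.Blocks.centralizer_le_stabPair hQe.1.2 hx))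
  have hTN : T ≤ Subgroup.normalizer (Q : Set G) := fun x hx => ((hT x).1 hx).1
  haveI : (Q.subgroupOf T).Normal := (Subgroup.normal_subgroupOf_iff_le_normalizer hQT).2 hTN
  haveI : Fintype (T ⧸ Q.subgroupOf T) := Fintype.ofFinite _
  obtain ⟨f, hf, hfe⟩ := CfsgLib.Chars.exists_deflate_irr (Q.subgroupOf T) χ.2
    (fun u hu => hχQ (u : G) (Subgroup.mem_subgroupOf.1 hu) 1 u (by simp))
  have hd : Cfsg.charDegree ((⟨f, hf⟩ : Cfsg.IrrCharacter (T ⧸ Q.subgroupOf T)) :
      T ⧸ Q.subgroupOf T → ℂ) = Cfsg.charDegree (χ : T → ℂ) := by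
    apply Nat.cast_injective (R := ℂ)
    rw [CfsgLib.Blocks.charDegree_cast, CfsgLib.Blocks.charDegree_cast]
    exact ((congrFun hfe 1).symm :)
  have hdeg' : CfsgLib.BlockOrth.degVal p (⟨f, hf⟩ : Cfsg.IrrCharacter (T ⧸ Q.subgroupOf T)) =
      (Nat.card (T ⧸ Q.subgroupOf T)).factorization p := by
    have h1 := congrArg (fun n : ℕ => n.factorization p) (Q.subgroupOf T).card_mul_index
    simp only [Nat.factorization_mul Nat.card_pos.ne' Subgroup.index_ne_zero_of_finite,
      Finsupp.add_apply, CfsgLib.Base.card_subgroupOf hQT] at h1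
    rw [CfsgLib.BlockOrth.degVal, hd, ← Subgroup.index_eq_card]
    omega
  refine ⟨CfsgLib.Blocks.isDefectGroup_center_of_weight hM.2.2 hQe.1.1 hQT hCT hTN hQe.1.2 hF'e hχ
    ⟨f, hf⟩ hfe hdeg', fun R hR hRp hRn => ?_⟩
  haveI : (R.subgroupOf T).Normal :=
    (Subgroup.normal_subgroupOf_iff_le_normalizer hR).2 hRn
  have h := CfsgLib.Blocks.normal_pSubgroup_le_of_weight hM.2.2
    (CfsgLib.Blocks.isPGroup_subgroupOf hRp hR) ⟨f, hf⟩ hdeg'
  exact fun r hr => (h (show (⟨r, hR hr⟩ : T) ∈ R.subgroupOf T from hr) :)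

end Cfsg.Agent.S4694
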