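import Cfsg.Statements.S4696
import Cfsg.Agent.Lib.Blocks.CyclicDade

set_option autoImplicit false
open Cfsg

set_option linter.style.haveILetI false

namespace Cfsg.Agent.S4696

/-- Let p be a prime, M a maximal ideal of the algebraic integers containing p, and B a p-block of the finite group G whose defect group D is cyclic of order p^a with a ≥ 1. Let C = C_G(D), let b be a block of C inducing B, let T be the stabilizer of b in N_G(D) (the elements g of N_G(D) such that the g-conjugate of every member of b is again in b), and let e be the index of C in T (the inertial index of B). Then e divides p − 1, every irreducible character in B has height zero, and B is the disjoint union of a set X of e characters and a set Y of (p^a − 1)/e characters, the members of Y agreeing on p-regular elements, for which there are signs δ_χ = ±1 (χ ∈ X) and δ₀ = ±1 such that: for every ψ ∈ Y and every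 p-regular g, δ₀ ψ(g) + Σ_{χ ∈ X} δ_χ χ(g) = 0; for all χ, χ' ∈ X the integers δ_χ χ(1) and δ_χ' χ'(1) are congruent modulo p^a; and for ψ ∈ Y and χ ∈ X, ψ(1) ≡ −e δ₀ δ_χ χ(1) modulo p^a. -/
theorem result {G : Type*} [Group G] [Finite G] (p : ℕ) [Fact p.Prime] (M : Ideal Cfsg.AlgInt) (hM : Cfsg.IsPModular p M) (D : Subgroup G) (hD : IsCyclic D) (a : ℕ) (ha : 1 ≤ a) (hDa : Nat.card D = p ^ a) (B : Set (Cfsg.IrrCharacter G)) (hB : Cfsg.IsPBlock M B) (hBD : Cfsg.IsDefectGroup p M B D) (b : Set (Cfsg.IrrCharacter (Subgroup.centralizer (D : Set G)))) (hind : Cfsg.IsInducedBlock M (Subgroup.centralizer (D : Set G)) b B) (T : Subgroup G) (hT : ∀ g : G, g ∈ T ↔ (g ∈ Subgroup.normalizer (D : Set G) ∧ ∀ θ ∈ b, ∀ θ' : Cfsg.IrrCharacter (Subgroup.centralizer (D : Set G)), (∀ h h' : Subgroup.centralizer (D : Set G), (h' : G) = g * h * g⁻¹ → (θ' : Subgroup.centralizer (D : Set G) → ℂ) h' = (θ : Subgroup.centralizer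 (D : Set G) → ℂ) h) → θ' ∈ b)) (e : ℕ) (he : (Subgroup.centralizer (D : Set G)).relIndex T = e) : e ∣ p - 1 ∧ (∀ χ ∈ B, Cfsg.blockHeight p B (χ : G → ℂ) = 0) ∧ ∃ X Y : Set (Cfsg.IrrCharacter G), B = X ∪ Y ∧ Disjoint X Y ∧ Nat.card X = e ∧ Nat.card Y = (p ^ a - 1) / e ∧ (∀ ψ ∈ Y, ∀ ψ' ∈ Y, ∀ g : G, ¬ p ∣ orderOf g → (ψ : G → ℂ) g = (ψ' : G → ℂ) g) ∧ ∃ (δ : Cfsg.IrrCharacter G → ℤ) (δ₀ : ℤ), (∀ χ ∈ X, δ χ = 1 ∨ δ χ = -1) ∧ (δ₀ = 1 ∨ δ₀ = -1) ∧ (∀ ψ ∈ Y, ∀ g : G, ¬ p ∣ orderOf g → (δ₀ : ℂ) * (ψ : G → ℂ) g + ∑ᶠ χ ∈ X, (δ χ : ℂ) * (χ : G → ℂ) g = 0) ∧ (∀ χ ∈ X, ∀ χ' ∈ X, δ χ * (Cfsg.charDegree (χ : G → ℂ) : ℤ) ≡ δ χ' * (Cfsg.charDegree (χ' : G → ℂ) : ℤ) [ZMOD (p : ℤ) ^ a]) ∧ (∀ ψ ∈ Y, ∀ χ ∈ X, (Cfsg.charDegree (ψ : G → ℂ) : ℤ) ≡ -((e : ℤ) * δ₀ * δ χ * (Cfsg.charDegree (χ : G → ℂ) : ℤ)) [ZMOD (p : ℤ) ^ a]) := by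
  classical
  haveI : M.IsPrime := hM.2.1.isPrime
  haveI := Fintype.ofFinite G
  have hp : p.Prime := Fact.out
  obtain ⟨Z, fZ, L⟩ := CfsgLib.Blocks.exists_cyclicLocal_of_induced hM hD ha hDa hBD hind
  obtain ⟨Y, δ, δ₀, hYB, hcardY, hcardX, -, hδ, hδ₀, hagree, hrel, hcong⟩ := L.dade_structure
  rw [← CfsgLib.Blocks.eq_stabPair_of_mem_iff L.hmax.1.1.2 hT, he] at hcardY hcardX
  have hdvd : e ∣ p - 1 := by
    rw [← he, CfsgLib.Blocks.eq_stabPair_of_mem_iff L.hmax.1.1.2 hT]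
    exact L.relIndex_dvd
  have hpe : ¬ p ∣ e := fun h => by
    have h1 := Nat.le_of_dvd (by have := hp.two_le; omega) (h.trans hdvd)
    have := hp.two_le
    omega
  have hdef : Nat.card D = p ^ Cfsg.blockDefect p B :=
    CfsgLib.BlockOrth.card_defectGroup hM.2.2 hB hBD
  have hda : Cfsg.blockDefect p B = a :=
    Nat.pow_right_injective hp.two_le (hdef.symm.trans hDa)
  haveI := CfsgLib.Chars.irrFintype G
  have hrel1 : ∀ ψ ∈ Y, δ₀ * (Cfsg.charDegree (ψ : G → ℂ) : ℤ) +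
      ∑ᶠ χ ∈ B \ Y, δ χ * (Cfsg.charDegree (χ : G → ℂ) : ℤ) = 0 := fun ψ hψ => by
    apply Int.cast_injective (α := ℂ)
    have h := hrel ψ hψ 1 (by rw [orderOf_one]; exact hp.not_dvd_one)
    rw [finsum_mem_eq_toFinset_sum] at h ⊢
    push_cast
    simpa [CfsgLib.Blocks.charDegree_cast] using h
  obtain ⟨hheight, hY⟩ := CfsgLib.Blocks.heights_zero_of_congr (X := B \ Y) (Y := Y)
    (Set.sdiff_union_of_subset hYB).symm hpe hcardX δ δ₀ hδ hδ₀ hB (hda ▸ ha) hrel1 hcong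
  have han : a ≤ (Nat.card G).factorization p := by
    rw [← hda, Cfsg.blockDefect]
    exact Nat.sub_le _ _
  refine ⟨hdvd, hheight, B \ Y, Y, (Set.sdiff_union_of_subset hYB).symm, Set.disjoint_sdiff_left,
    hcardX, ?_, hagree, δ, δ₀, hδ, hδ₀, hrel, fun χ hχ χ' hχ' => ?_, fun ψ hψ χ hχ => ?_⟩
  · have he0 : 0 < e := Nat.pos_of_ne_zero fun h => hpe (by rw [h]; exact dvd_zero p)
    rw [← hDa, ← hcardY, Nat.add_sub_cancel, Nat.mul_div_cancel _ he0]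
  · exact (Int.modEq_iff_dvd.2 ((pow_dvd_pow (p : ℤ) han).trans (hcong χ hχ χ' hχ'))).symm
  · refine (Int.modEq_iff_dvd.2 ?_).symm
    rw [sub_neg_eq_add]
    exact (pow_dvd_pow (p : ℤ) han).trans (hY ψ hψ χ hχ)

end Cfsg.Agent.S4696
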