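import Cfsg.Statements.S4697
import Cfsg.Agent.Lib.CharApps.AbelianDefectBound.Main

set_option autoImplicit false
open Cfsg

namespace Cfsg.Agent.S4697

/-- Let p be a prime, M a maximal ideal of the algebraic integers containing p, and B a p-block of the finite group G with an abelian defect group D of order p^d. If D has rank 2 (its least number of generators is 2) then B contains at most p^d irreducible characters; if D has rank 3 then the number k of irreducible characters in B satisfies k^3 ≤ p^(5d). -/
theorem result {G : Type*} [Group G] [Finite G] (p : ℕ) [Fact p.Prime] (M : Ideal Cfsg.AlgInt) (hM : Cfsg.IsPModular p M) (B : Set (Cfsg.IrrCharacter G)) (hB : Cfsg.IsPBlock M B) (D : Subgroup G) (hBD : Cfsg.IsDefectGroup p M B D) (hab : IsMulCommutative D) (d : ℕ) (hDd : Nat.card D = p ^ d) : (Group.rank D = 2 → Nat.card B ≤ p ^ d) ∧ (Group.rank D = 3 → Nat.card B ^ 3 ≤ p ^ (5 * d)) := by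
  haveI : M.IsPrime := CfsgLib.Blocks.isPrime_of_isPModular hM
  haveI := Fintype.ofFinite G
  have hab' : ∀ a ∈ D, ∀ c ∈ D, a * c = c * a := fun a ha c hc =>
    congrArg Subtype.val (hab.is_comm.comm (⟨a, ha⟩ : D) ⟨c, hc⟩)
  classical
  obtain ⟨S, hS, hgen⟩ := Group.rank_spec D
  refine ⟨fun h2 => ?_, fun h3 => ?_⟩
  · obtain ⟨a, c, -, rfl⟩ := Finset.card_eq_two.1 (hS.trans h2)
    rw [← hDd]
    exact CfsgLib.AbelianDefectBound.card_le_of_two_generators hM hB hBD hab' a c
      (by simpa using hgen)
  · obtain ⟨a, ha, hmax⟩ := S.exists_max_image (fun y => orderOf y)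
      (Finset.card_pos.1 (by rw [hS.trans h3]; norm_num))
    obtain ⟨c, c', -, hcc⟩ := Finset.card_eq_two.1
      (by rw [Finset.card_erase_of_mem ha, hS.trans h3] : (S.erase a).card = 2)
    rw [mul_comm, pow_mul, ← hDd]
    refine CfsgLib.AbelianDefectBound.card_pow_three_le_of_three_generators hM hB hBD hab' a c c' ?_
      (hmax c (Finset.mem_of_mem_erase (s := S) (a := a) (by rw [hcc]; simp)))
      (hmax c' (Finset.mem_of_mem_erase (s := S) (a := a) (by rw [hcc]; simp)))
    rw [← hgen, ← Finset.insert_erase ha, hcc]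
    simp

end Cfsg.Agent.S4697
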