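import Cfsg.Statements.S4699
import Mathlib.Algebra.CharP.Algebra
import Mathlib.Algebra.CharP.Lemmas
import Mathlib.LinearAlgebra.Eigenspace.Zero
import Mathlib.GroupTheory.SpecificGroups.Cyclic
import Mathlib.GroupTheory.Index
import Mathlib.RingTheory.Polynomial.Basic
import Mathlib.Algebra.MonoidAlgebra.Basic

set_option autoImplicit false
open Cfsg

namespace Cfsg.Agent.S4699

open Finset

/-- In characteristic `p`, `1 + T + ⋯ + T^(p^n - 1) = (T - 1)^(p^n - 1)`. -/
theorem geom_eq {F : Type*} [Field F] (p n : ℕ) [Fact p.Prime] [CharP F p] :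
    (∑ i ∈ range (p ^ n), (Polynomial.X : Polynomial F) ^ i) = (Polynomial.X - 1) ^ (p ^ n - 1) := by
  have hne : (Polynomial.X - 1 : Polynomial F) ≠ 0 := Polynomial.X_sub_C_ne_zero 1
  apply mul_right_cancel₀ hne
  rw [geom_sum_mul, ← pow_succ, Nat.sub_add_cancel (Nat.one_le_pow _ _ (Fact.out : p.Prime).pos),
    sub_pow_char_pow, one_pow]

section
variable {F V : Type*} [Field F] [AddCommGroup V] [Module F V]

/-- Iterated commutator with `X` drives images into images of high powers of `X`. -/
theorem iterate_comm_mem (X h : Module.End F V) (d : ℕ) (hd : X ^ d = 0) :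
    ∀ (m l : ℕ) (v : V),
      ((fun k : Module.End F V => X * k - k * X)^[m] h) ((X ^ l) v) ∈
        LinearMap.range (X ^ (m + l + 1 - d)) := by
  intro m
  induction m with
  | zero =>
    intro l v
    rcases le_or_gt d l with hl | hl
    · have : X ^ l = 0 := pow_eq_zero_of_le hl hd
      simp [this]
    · have : 0 + l + 1 - d = 0 := by omega
      rw [this, pow_zero]
      exact ⟨_, rfl⟩
  | succ m ih =>
    intro l v
    rw [Function.iterate_succ_apply']
    generalize hk : ((fun k : Module.End F V => X * k - k * X)^[m] h) = k at ih ⊢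
    simp only [LinearMap.sub_apply, Module.End.mul_apply]
    refine Submodule.sub_mem _ ?_ ?_
    · obtain ⟨w, hw⟩ := ih l v
      rw [← hw, ← Module.End.mul_apply, ← pow_succ']
      rcases le_or_gt d (m + l + 1) with hle | hle
      · have : m + 1 + l + 1 - d = m + l + 1 - d + 1 := by omega
        rw [this]
        exact ⟨w, rfl⟩
      · have : m + 1 + l + 1 - d = 0 := by omega
        rw [this, pow_zero]
        exact ⟨_, rfl⟩
    · have := ih (l + 1) v
      rw [pow_succ', Module.End.mul_apply] at this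
      have e : m + (l + 1) + 1 - d = m + 1 + l + 1 - d := by omega
      rwa [e] at this

/-- The image of a trace from a cyclic `p`-group lands in a high power of `A - 1`. -/
theorem trace_mem (p n : ℕ) [Fact p.Prime] [CharP F p] (A B h : Module.End F V)
    (hAB : A * B = 1) (hBA : B * A = 1) (d : ℕ) (hd : (A - 1) ^ d = 0) (v : V) :
    (∑ i ∈ range (p ^ n), A ^ i * h * B ^ i) v ∈
      LinearMap.range ((A - 1) ^ (p ^ n - d)) := by
  let C : Module.End F (Module.End F V) := LinearMap.mulLeft F A * LinearMap.mulRight F B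
  have hC : ∀ (i : ℕ) (k : Module.End F V), (C ^ i) k = A ^ i * k * B ^ i := by
    intro i
    induction i with
    | zero => intro k; simp
    | succ i ih =>
      intro k
      rw [pow_succ', Module.End.mul_apply, ih]
      change A * (A ^ i * k * B ^ i * B) = _
      rw [pow_succ', pow_succ]
      simp only [mul_assoc]
  have hD : ∀ (m : ℕ) (k : Module.End F V), ((C - 1) ^ m) k =
      ((fun k : Module.End F V => (A - 1) * k - k * (A - 1))^[m] k) * B ^ m := by
    intro m
    induction m with
    | zero => intro k; simp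
    | succ m ih =>
      intro k
      rw [pow_succ', Module.End.mul_apply, ih, Function.iterate_succ_apply']
      generalize ((fun k : Module.End F V => (A - 1) * k - k * (A - 1))^[m] k) = K
      change A * (K * B ^ m * B) - K * B ^ m = ((A - 1) * K - K * (A - 1)) * B ^ (m + 1)
      have e : (A - 1) * K - K * (A - 1) = A * K - K * A := by simp only [sub_mul, mul_sub, one_mul, mul_one]; abel
      have e2 : A * B ^ (m + 1) = B ^ m := by rw [pow_succ', ← mul_assoc, hAB, one_mul]
      rw [e, sub_mul, mul_assoc, mul_assoc, ← pow_succ, mul_assoc K A, e2]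
  have hsum : (∑ i ∈ range (p ^ n), A ^ i * h * B ^ i) = ((C - 1) ^ (p ^ n - 1)) h := by
    have := congrArg (Polynomial.aeval C) (geom_eq (F := F) p n)
    simp only [map_sum, map_pow, map_sub, map_one, Polynomial.aeval_X] at this
    rw [← this, LinearMap.sum_apply]
    simp only [hC]
  rw [hsum, hD, Module.End.mul_apply]
  have hm := iterate_comm_mem (A - 1) h d hd (p ^ n - 1) 0 ((B ^ (p ^ n - 1)) v)
  rw [pow_zero, Module.End.one_apply] at hm
  have e : p ^ n - 1 + 0 + 1 - d = p ^ n - d := by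
    have := Nat.one_le_pow n p (Fact.out : p.Prime).pos
    omega
  rwa [e] at hm

/-- If the range of a power of a nilpotent endomorphism is contained in the next one, the power is zero. -/
theorem pow_eq_zero_of_range_le (X : Module.End F V) (hX : IsNilpotent X) (e : ℕ)
    (h : LinearMap.range (X ^ e) ≤ LinearMap.range (X ^ (e + 1))) : X ^ e = 0 := by
  obtain ⟨N, hN⟩ := hX
  have hk : ∀ k, LinearMap.range (X ^ e) ≤ LinearMap.range (X ^ (e + k)) := by
    intro k
    induction k with
    | zero => rfl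
    | succ k ih =>
      rintro _ ⟨v, rfl⟩
      obtain ⟨w, hw⟩ := ih ⟨v, rfl⟩
      obtain ⟨u, hu⟩ := h ⟨w, rfl⟩
      refine ⟨u, ?_⟩
      have e1 : e + (k + 1) = k + (e + 1) := by omega
      rw [e1, pow_add, Module.End.mul_apply, hu, ← Module.End.mul_apply, ← pow_add, add_comm k e, hw]
  have := hk N
  rw [pow_add, hN, mul_zero, LinearMap.range_zero] at this
  exact LinearMap.range_eq_bot.1 (le_bot_iff.1 this)

end

theorem main {G : Type*} [Group G] [Finite G] (p : ℕ) [Fact p.Prime] (P : Sylow p G) (hcyc : IsCyclic P) (n : ℕ) (hn : 2 ≤ n) (hPn : Nat.card P = p ^ n) (hTI : ∀ Q : Sylow p G, Q ≠ P → (P : Subgroup G) ⊓ (Q : Subgroup G) = ⊥) (F : Type*) [Field F] [CharP F p] (V : Type*) [AddCommGroup V] [Module F V] [FiniteDimensional F V] (ρ : Representation F G V) (hfaith : Function.Injective ρ) (hirr : ρ.IsIrreducible) : p ^ n - (p - 1) ≤ Module.finrank F V := by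
  classical
  have hp : p.Prime := Fact.out
  by_contra hlt
  rw [not_le] at hlt
  set d := Module.finrank F V with hd_def
  haveI : Nontrivial V := by
    by_contra hV
    rw [not_nontrivial_iff_subsingleton] at hV
    haveI : Subsingleton (Subrepresentation ρ) := ⟨fun a b =>
      Subrepresentation.toSubmodule_injective (Subsingleton.elim _ _)⟩
    exact not_subsingleton (Subrepresentation ρ) this
  obtain ⟨x, hx⟩ := hcyc.exists_generator
  have hordP : orderOf x = p ^ n := by rw [orderOf_eq_card_of_forall_mem_zpowers hx]; exact hPn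
  -- the element `X`
  let φ : ↥(P : Subgroup G) →* Module.End F V := ρ.comp (P : Subgroup G).subtype
  let Φ : MonoidAlgebra F ↥(P : Subgroup G) →ₐ[F] Module.End F V := MonoidAlgebra.lift F (Module.End F V) ↥(P : Subgroup G) φ
  have hΦ : ∀ a, Φ (MonoidAlgebra.of F _ a) = φ a := fun a => MonoidAlgebra.lift_of _ a
  set A : Module.End F V := φ x with hA
  haveI : CharP (Module.End F V) p := charP_of_injective_algebraMap (algebraMap F (Module.End F V)).injective p
  have hAq : A ^ p ^ n = 1 := by rw [hA, ← map_pow, ← hordP, pow_orderOf_eq_one, map_one]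
  have hnil : IsNilpotent (A - 1) := ⟨p ^ n, by
    rw [sub_pow_char_pow_of_commute p n (Commute.one_right A), one_pow, hAq, sub_self]⟩
  have hXd : (A - 1) ^ d = 0 := by
    have h1 := LinearMap.aeval_self_charpoly (A - 1)
    rwa [IsNilpotent.charpoly_eq_X_pow_finrank hnil, map_pow, Polynomial.aeval_X] at h1
  have hXp : (A - 1) ^ p ≠ 0 := by
    intro h0
    rw [sub_pow_char_of_commute p (Commute.one_right A), one_pow, sub_eq_zero, hA, ← map_pow] at h0
    have h1 : x ^ p = 1 := by
      apply Subtype.ext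
      apply hfaith
      simpa [φ, map_pow] using h0
    have h2 := hordP ▸ orderOf_dvd_of_pow_eq_one h1
    have h3 : p ^ n ≤ p ^ 1 := by rw [pow_one]; exact Nat.le_of_dvd hp.pos h2
    have := (Nat.pow_le_pow_iff_right hp.one_lt).1 h3
    omega
  -- the automorphisms induced by the normalizer
  set N : Subgroup G := Subgroup.normalizer ((P : Subgroup G) : Set G) with hN
  let ν : ↥N →* MulAut ↥(P : Subgroup G) := (P : Subgroup G).normalizerMonoidHom
  haveI : Fintype ↥ν.range := Fintype.ofFinite _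
  set e := Fintype.card ↥ν.range with he_def
  have he : e ≤ p - 1 := by
    have h1 : e ∣ Nat.card (MulAut ↥(P : Subgroup G)) := by
      rw [he_def, ← Nat.card_eq_fintype_card]; exact Subgroup.card_subgroup_dvd_card _
    rw [IsCyclic.card_mulAut, hPn, Nat.totient_prime_pow hp (by omega)] at h1
    have h2 : e ∣ ((P : Subgroup G).subgroupOf N).index := by
      rw [he_def, ← Nat.card_eq_fintype_card, ← Subgroup.index_ker]
      refine Subgroup.index_dvd_of_le ?_
      intro y hy
      rw [MonoidHom.mem_ker]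
      refine MulEquiv.ext fun z => Subtype.ext ?_
      haveI := hcyc
      letI := IsCyclic.commGroup (α := ↥(P : Subgroup G))
      have hc := congrArg Subtype.val (mul_comm (⟨(y : G), hy⟩ : ↥(P : Subgroup G)) z)
      simp only [Subgroup.coe_mul] at hc
      change (y : G) * z * (y : G)⁻¹ = z
      rw [hc, mul_inv_cancel_right]
    have h3 : Nat.Coprime e p := by
      refine Nat.Coprime.coprime_dvd_left h2 ?_
      refine ((Nat.Prime.coprime_iff_not_dvd hp).2 fun hdvd => P.not_dvd_index ?_).symm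
      exact hdvd.trans (Subgroup.relIndex_dvd_index_of_le (Subgroup.le_normalizer))
    exact Nat.le_of_dvd (by have := hp.two_le; omega)
      ((Nat.Coprime.pow_right _ h3).dvd_of_dvd_mul_left h1)
  let of' : ↥(P : Subgroup G) →* MonoidAlgebra F ↥(P : Subgroup G) := MonoidAlgebra.of F _
  letI : CommGroup ↥(P : Subgroup G) := { (inferInstance : Group ↥(P : Subgroup G)) with
    mul_comm := by haveI := hcyc; exact (IsCyclic.commGroup (α := ↥(P : Subgroup G))).mul_comm }
  let z : MonoidAlgebra F ↥(P : Subgroup G) := ∏ σ : ↥ν.range, (of' ((σ : MulAut _) x) - 1)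
  set f : Module.End F V := Φ z with hf
  have hdvd1 : ∀ σ : ↥ν.range, (of' x - 1) ∣ (of' ((σ : MulAut _) x) - 1) := by
    intro σ
    obtain ⟨a, ha⟩ := (mem_powers_iff_mem_zpowers.2 (hx ((σ : MulAut _) x)))
    simp only at ha
    rw [← ha, map_pow]
    exact sub_one_dvd_pow_sub_one _ _
  have hdvd2 : ∀ σ : ↥ν.range, (of' ((σ : MulAut _) x) - 1) ∣ (of' x - 1) := by
    intro σ
    obtain ⟨b, hb⟩ := (mem_powers_iff_mem_zpowers.2 (hx ((σ : MulAut _).symm x)))
    simp only at hb
    have : x = ((σ : MulAut _) x) ^ b := by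
      rw [← map_pow, hb, MulEquiv.apply_symm_apply]
    conv_rhs => rw [this, map_pow]
    exact sub_one_dvd_pow_sub_one _ _
  have hΦX : Φ (of' x - 1) = A - 1 := by rw [map_sub, map_one]; exact congrArg (· - 1) (hΦ x)
  have hfX : ∃ w, f = (A - 1) * w := by
    have hne : (Finset.univ : Finset ↥ν.range).Nonempty := Finset.univ_nonempty
    obtain ⟨σ, hσ⟩ := hne
    obtain ⟨w, hw⟩ := (hdvd1 σ).trans (Finset.dvd_prod_of_mem (fun σ : ↥ν.range => of' ((σ : MulAut _) x) - 1) hσ)
    exact ⟨Φ w, by rw [hf, ← hΦX, ← map_mul]; exact congrArg Φ hw⟩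
  have hXf : ∃ w, (A - 1) ^ e = f * w := by
    have h1 : z ∣ ∏ _σ : ↥ν.range, (of' x - 1) :=
      Finset.prod_dvd_prod_of_dvd _ _ fun σ _ => hdvd2 σ
    rw [Finset.prod_const, Finset.card_univ] at h1
    obtain ⟨w, hw⟩ := h1
    exact ⟨Φ w, by rw [hf, ← hΦX, ← map_pow, ← map_mul, he_def, hw]⟩
  have hfN : ∀ y : ↥N, ρ (y : G) * f = f * ρ (y : G) := by
    intro y
    set τ : ↥ν.range := ⟨ν y, ⟨y, rfl⟩⟩ with hτ
    have hgen : ∀ a : ↥(P : Subgroup G), ρ (y : G) * Φ (of' a - 1) = Φ (of' ((τ : MulAut _) a) - 1) * ρ (y : G) := by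
      intro a
      rw [map_sub, map_sub, map_one, mul_sub, sub_mul, mul_one, one_mul]
      congr 1
      change ρ (y : G) * Φ (MonoidAlgebra.of F _ a) = Φ (MonoidAlgebra.of F _ _) * ρ (y : G)
      rw [hΦ, hΦ]
      change ρ (y : G) * ρ (a : G) = ρ ((y : G) * a * (y : G)⁻¹) * ρ (y : G)
      rw [← map_mul, ← map_mul, inv_mul_cancel_right]
    have hprod : ∀ s : Finset ↥ν.range, ρ (y : G) * Φ (∏ σ ∈ s, (of' ((σ : MulAut _) x) - 1)) =
        Φ (∏ σ ∈ s, (of' ((τ : MulAut _) ((σ : MulAut _) x)) - 1)) * ρ (y : G) := by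
      intro s
      induction s using Finset.induction_on with
      | empty => simp
      | insert a s ha ih =>
        rw [Finset.prod_insert ha, Finset.prod_insert ha, map_mul, map_mul, ← mul_assoc, hgen,
          mul_assoc, ih, mul_assoc]
    rw [hf]
    change ρ (y : G) * Φ z = Φ z * ρ (y : G)
    rw [show ρ (y : G) * Φ z = _ from hprod Finset.univ]
    congr 2
    exact Fintype.prod_equiv (Equiv.mulLeft τ) _ _ fun σ => rfl
  -- the trace
  haveI : Fintype (G ⧸ N) := Fintype.ofFinite _
  have hcong : ∀ g g' : G, (g : G ⧸ N) = g' → ρ g * f * ρ g⁻¹ = ρ g' * f * ρ g'⁻¹ := by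
    intro g g' h
    have hy : g⁻¹ * g' ∈ N := QuotientGroup.eq.1 h
    have h1 : ρ g' = ρ g * ρ (g⁻¹ * g') := by rw [← map_mul, mul_inv_cancel_left]
    rw [h1, mul_assoc (ρ g) (ρ (g⁻¹ * g')) f, show ρ (g⁻¹ * g') * f = f * ρ (g⁻¹ * g') from hfN ⟨_, hy⟩]
    simp only [mul_assoc, ← map_mul, mul_inv_cancel, mul_one, mul_inv_cancel_left]
  let ψ : G ⧸ N → Module.End F V := fun a => ρ a.out * f * ρ a.out⁻¹
  have hψ : ∀ g : G, ψ (g : G ⧸ N) = ρ g * f * ρ g⁻¹ := fun g => hcong _ _ (QuotientGroup.out_eq' _)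
  have hψs : ∀ (g : G) (a : G ⧸ N), ψ (g • a) = ρ g * ψ a * ρ g⁻¹ := by
    intro g a
    induction a using QuotientGroup.induction_on with
    | H b =>
      rw [MulAction.Quotient.smul_coe, hψ, hψ, smul_eq_mul, mul_inv_rev, map_mul, map_mul]
      simp only [mul_assoc]
  set c : Module.End F V := ∑ a, ψ a with hc_def
  have hcG : ∀ g : G, ρ g * c = c * ρ g := by
    intro g
    have h1 : c = ρ g * c * ρ g⁻¹ := by
      rw [hc_def, Finset.mul_sum, Finset.sum_mul]
      exact (Fintype.sum_equiv (MulAction.toPerm g) _ ψ fun a => (hψs g a).symm).symm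
    conv_rhs => rw [h1]
    rw [mul_assoc (ρ g * c), ← map_mul, inv_mul_cancel, map_one, mul_one]
  set a₀ : G ⧸ N := ((1 : G) : G ⧸ N) with ha₀
  have hfree : ∀ (y : ↥(P : Subgroup G)) (a : G ⧸ N), a ≠ a₀ → (y : G) • a = a → y = 1 := by
    intro y a ha hya
    induction a using QuotientGroup.induction_on with
    | H g =>
      rw [MulAction.Quotient.smul_coe, smul_eq_mul] at hya
      have h1 : g⁻¹ * (y : G) * g ∈ N := by
        have h0 := N.inv_mem (QuotientGroup.eq.1 hya)
        simpa [mul_assoc] using h0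
      have hgN : g ∉ N := fun h => ha (QuotientGroup.eq.2 (by simpa using N.inv_mem h))
      have hpz : IsPGroup p ↥(Subgroup.zpowers (g⁻¹ * (y : G) * g)) := by
        have hy : (g⁻¹ * (y : G) * g) ^ p ^ n = 1 := by
          have hy1 : y ^ p ^ n = 1 := by rw [← hPn]; exact pow_card_eq_one'
          have hy2 : (y : G) ^ p ^ n = 1 := by rw [← Subgroup.coe_pow, hy1, Subgroup.coe_one]
          have hcj := conj_pow (a := g⁻¹) (b := (y : G)) (i := p ^ n)
          rw [inv_inv] at hcj
          rw [hcj, hy2, mul_one, inv_mul_cancel]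
        rintro ⟨w, k, rfl⟩
        exact ⟨n, Subtype.ext (by
          show ((g⁻¹ * (y : G) * g) ^ k) ^ p ^ n = 1
          rw [← zpow_natCast, ← zpow_mul, mul_comm, zpow_mul, zpow_natCast, hy, one_zpow])⟩
      have h2 : g⁻¹ * (y : G) * g ∈ (P : Subgroup G) := by
        have h3 := hpz.inf_normalizer_sylow P
        have h4 : g⁻¹ * (y : G) * g ∈ Subgroup.zpowers (g⁻¹ * (y : G) * g) ⊓ N :=
          ⟨Subgroup.mem_zpowers _, h1⟩
        exact (h3.le h4).2
      have hQ : g • P ≠ P := fun h => hgN (Sylow.smul_eq_iff_mem_normalizer.1 h)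
      have h5 : (y : G) ∈ ((g • P : Sylow p G) : Subgroup G) := by
        rw [Sylow.coe_subgroup_smul]
        exact ⟨g⁻¹ * (y : G) * g, h2, by simp [mul_assoc]⟩
      have h6 : (y : G) ∈ (P : Subgroup G) ⊓ ((g • P : Sylow p G) : Subgroup G) := ⟨y.2, h5⟩
      rw [hTI _ hQ, Subgroup.mem_bot] at h6
      exact Subtype.ext h6
  -- representatives of the regular orbits
  let s : Setoid (G ⧸ N) := MulAction.orbitRel ↥(P : Subgroup G) (G ⧸ N)
  let rep : G ⧸ N → G ⧸ N := fun a => (Quotient.mk s a).out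
  let R : Finset (G ⧸ N) := (Finset.univ.filter fun a => a ≠ a₀).image rep
  have hrep : ∀ a, ∃ y : ↥(P : Subgroup G), y • rep a = a := fun a => by
    have h : s.r a (rep a) := Quotient.exact (Quotient.out_eq (Quotient.mk s a)).symm
    exact h
  have hfix₀ : ∀ y : ↥(P : Subgroup G), y • a₀ = a₀ := fun y => by
    change (((y : G) * 1 : G) : G ⧸ N) = ((1 : G) : G ⧸ N)
    rw [mul_one]
    exact QuotientGroup.eq.2 (by simpa using N.inv_mem (Subgroup.le_normalizer y.2))
  have hR : ∀ r ∈ R, r ≠ a₀ ∧ rep r = r := by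
    intro r hr
    obtain ⟨a, ha, rfl⟩ := Finset.mem_image.1 hr
    refine ⟨fun h => (Finset.mem_filter.1 ha).2 ?_, ?_⟩
    · obtain ⟨y, hy⟩ := hrep a
      rw [h, hfix₀] at hy
      exact hy.symm
    · change (Quotient.mk s (Quotient.mk s a).out).out = _
      rw [Quotient.out_eq]
  have hsplit : (∑ i ∈ Finset.range (p ^ n), A ^ i * (∑ r ∈ R, ψ r) * (φ x⁻¹) ^ i) =
      ∑ a ∈ Finset.univ.filter (fun a => a ≠ a₀), ψ a := by
    simp only [Finset.mul_sum, Finset.sum_mul]
    rw [← Finset.sum_product']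
    refine Finset.sum_bij (fun q _ => (x ^ q.1) • q.2) ?_ ?_ ?_ ?_
    · intro q hq
      obtain ⟨h1, h2⟩ := hR q.2 (Finset.mem_product.1 hq).2
      refine Finset.mem_filter.2 ⟨Finset.mem_univ _, fun h => h1 ?_⟩
      exact (MulAction.injective (x ^ q.1)) (h.trans (hfix₀ _).symm)
    · rintro ⟨i, r⟩ hq ⟨j, r'⟩ hq' h
      simp only [Finset.mem_product, Finset.mem_range] at hq hq'
      simp only at h
      have h1 := (hR r hq.2)
      have h2 := (hR r' hq'.2)
      have e1 : r = r' := by
        rw [← h1.2, ← h2.2]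
        change (Quotient.mk s r).out = (Quotient.mk s r').out
        congr 1
        apply Quotient.sound
        exact ⟨(x ^ i)⁻¹ * x ^ j, by simp [mul_smul, ← h]⟩
      subst e1
      have h3 := hfree ((x ^ j)⁻¹ * x ^ i) r h1.1 (by
        change ((x ^ j)⁻¹ * x ^ i) • r = r
        rw [mul_smul, h, inv_smul_smul])
      rw [inv_mul_eq_one] at h3
      exact Prod.ext (pow_injOn_Iio_orderOf (by simpa [hordP] using hq.1) (by simpa [hordP] using hq'.1) h3.symm) rfl
    · intro a ha
      obtain ⟨y, hy⟩ := hrep a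
      obtain ⟨i, hi⟩ := mem_powers_iff_mem_zpowers.2 (hx y)
      simp only at hi
      refine ⟨(i % p ^ n, rep a), Finset.mem_product.2 ⟨Finset.mem_range.2 (Nat.mod_lt _ (pow_pos hp.pos _)),
        Finset.mem_image.2 ⟨a, ha, rfl⟩⟩, ?_⟩
      simp only
      rw [← hordP, pow_mod_orderOf, hi, hy]
    · intro q hq
      rw [show ψ ((x ^ q.1) • q.2) = ρ ((x ^ q.1 : ↥(P : Subgroup G)) : G) * ψ q.2 *
        ρ ((x ^ q.1 : ↥(P : Subgroup G)) : G)⁻¹ from hψs _ _]
      simp only [hA, φ, ← map_pow, MonoidHom.comp_apply, inv_pow, Subgroup.coe_subtype, Subgroup.coe_inv, Subgroup.coe_pow]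
  have hmem : ∀ v, (c - f) v ∈ LinearMap.range ((A - 1) ^ (p ^ n - d)) := by
    intro v
    have hcf : c - f = ∑ i ∈ Finset.range (p ^ n), A ^ i * (∑ r ∈ R, ψ r) * (φ x⁻¹) ^ i := by
      rw [hsplit, hc_def, ← Finset.sum_filter_add_sum_filter_not Finset.univ (fun a => a ≠ a₀) ψ]
      have : (Finset.univ.filter fun a => ¬ a ≠ a₀) = {a₀} := by ext a; simp
      rw [this, Finset.sum_singleton, ha₀, hψ, map_one, inv_one, map_one, one_mul, mul_one, add_sub_cancel_right]
    rw [hcf]
    exact trace_mem p n A _ _ (by rw [hA, ← map_mul, mul_inv_cancel, map_one])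
      (by rw [hA, ← map_mul, inv_mul_cancel, map_one]) d hXd v
  have hqd : e < p ^ n - d := by omega
  by_cases hc0 : c = 0
  · obtain ⟨w, hw⟩ := hXf
    have h1 : LinearMap.range ((A - 1) ^ e) ≤ LinearMap.range ((A - 1) ^ (e + 1)) := by
      rintro _ ⟨v, rfl⟩
      have h2 := hmem (w v)
      rw [hc0, zero_sub, LinearMap.neg_apply, neg_mem_iff, ← Module.End.mul_apply, ← hw] at h2
      obtain ⟨u, hu⟩ := h2
      refine ⟨((A - 1) ^ (p ^ n - d - (e + 1))) u, ?_⟩
      rw [← Module.End.mul_apply, ← pow_add, show e + 1 + (p ^ n - d - (e + 1)) = p ^ n - d by omega, hu]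
    exact hXp (pow_eq_zero_of_le (by omega) (pow_eq_zero_of_range_le _ hnil e h1))
  · let K : Subrepresentation ρ := ⟨LinearMap.ker c, fun g v hv => by
      rw [LinearMap.mem_ker] at hv ⊢
      rw [← Module.End.mul_apply, ← hcG, Module.End.mul_apply, hv, map_zero]⟩
    haveI := hirr
    have hker : LinearMap.ker c = ⊥ := by
      rcases eq_bot_or_eq_top K with h | h
      · exact congrArg Subrepresentation.toSubmodule h
      · exact absurd (LinearMap.ker_eq_top.1 (congrArg Subrepresentation.toSubmodule h)) hc0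
    have hsurj : Function.Surjective c := LinearMap.surjective_of_injective (LinearMap.ker_eq_bot.1 hker)
    have h1 : LinearMap.range ((A - 1) ^ 0) ≤ LinearMap.range ((A - 1) ^ (0 + 1)) := by
      rintro u -
      obtain ⟨v, rfl⟩ := hsurj u
      obtain ⟨w, hw⟩ := hfX
      rw [show c v = (c - f) v + f v by simp]
      refine Submodule.add_mem _ ?_ ⟨w v, by rw [zero_add, pow_one, hw, Module.End.mul_apply]⟩
      obtain ⟨u', hu'⟩ := hmem v
      refine ⟨((A - 1) ^ (p ^ n - d - 1)) u', ?_⟩
      rw [← Module.End.mul_apply, ← pow_add, show 0 + 1 + (p ^ n - d - 1) = p ^ n - d by omega, hu']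
    exact hXp (pow_eq_zero_of_le (by omega) (pow_eq_zero_of_range_le _ hnil 0 h1))

/-- Let p be a prime and G a finite group whose Sylow p-subgroup P is cyclic of order p^n with n ≥ 2 and meets every other Sylow p-subgroup trivially. Then every faithful irreducible representation of G on a finite-dimensional space over a finite field of characteristic p has dimension at least p^n − (p − 1). -/
theorem result {G : Type*} [Group G] [Finite G] (p : ℕ) [Fact p.Prime] (P : Sylow p G) (hcyc : IsCyclic P) (n : ℕ) (hn : 2 ≤ n) (hPn : Nat.card P = p ^ n) (hTI : ∀ Q : Sylow p G, Q ≠ P → (P : Subgroup G) ⊓ (Q : Subgroup G) = ⊥) (F : Type*) [Field F] [Finite F] [CharP F p] (V : Type*) [AddCommGroup V] [Module F V] [FiniteDimensional F V] (ρ : Representation F G V) (hfaith : Function.Injective ρ) (hirr : ρ.IsIrreducible) : p ^ n - (p - 1) ≤ Module.finrank F V := by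
  exact main p P hcyc n hn hPn hTI F V ρ hfaith hirr

end Cfsg.Agent.S4699
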