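import Cfsg.Statements.S4707
import Cfsg.Agent.Lib.TwicePrime.SLTwo
import Cfsg.Agent.Lib.TwicePrime.Five
import Cfsg.Agent.Lib.PSubTwo.Main

set_option autoImplicit false
open Cfsg

namespace Cfsg.Agent.S4707

open MulAction CfsgLib

/-- Let p > 3 be a prime and G a primitive permutation group of degree 2p that is not doubly transitive. If a Sylow p-subgroup of G has normalizer of order 2p, then p = 5 and G is isomorphic to the alternating group of degree 5. -/
theorem result {α : Type*} [Fintype α] [DecidableEq α] {p : ℕ} [Fact p.Prime] (hp : 3 < p) (hα : Fintype.card α = 2 * p) (G : Subgroup (Equiv.Perm α)) (hprim : MulAction.IsPreprimitive G α) (hnot2 : ¬ MulAction.IsMultiplyPretransitive G α 2) (P : Sylow p G) (hN : Nat.card (Subgroup.normalizer ((P : Subgroup G) : Set G)) = 2 * p) : p = 5 ∧ Nonempty (G ≃* alternatingGroup (Fin 5)) := by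
  classical
  haveI := Fintype.ofFinite G
  have h : TwicePrime.Hyp G P := ⟨hp, hα, hprim, hnot2, hN⟩
  have hpp : p.Prime := Fact.out
  by_cases h5 : p = 5
  · subst h5
    exact ⟨rfl, TwicePrime.five_case h⟩
  exfalso
  have hp5 : 5 < p := by
    rcases hpp.eq_two_or_odd with h2 | h2 <;> omega
  obtain ⟨θ, -, hθd, hθf, -⟩ := h.exists_chars
  obtain ⟨a, F, hF, hF', hpa, hFc, ⟨e⟩⟩ := PSubTwo.main (P := P) (ζ := θ)
    ⟨hp5, h.card_P, h.not_normal, hθf, by rw [CharApps.deg_eq, hθd]⟩
  have hZ : Nat.card (Subgroup.center G) = 1 := by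
    rw [Subgroup.card_eq_one]
    by_contra hne
    have h3 := (dvd_mul_right 2 p).trans ((h.card_dvd_of_normal _ hne).trans (Subgroup.card_dvd_of_le
      (h.centralizer_eq ▸ Subgroup.center_le_centralizer _ : Subgroup.center G ≤ (P : Subgroup G))))
    rw [h.card_P] at h3
    have := (Nat.prime_dvd_prime_iff_eq Nat.prime_two hpp).1 h3
    omega
  have hFN : Nat.card F = 2 ^ a := by rw [Nat.card_eq_fintype_card, hFc]
  have ha : 3 ≤ a := by
    by_contra hlt
    have := Nat.pow_le_pow_right two_pos (show a ≤ 2 by omega)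
    omega
  have hcard : Nat.card G = 2 ^ a * ((2 ^ a + 1) * (2 ^ a - 1)) := by
    rw [Nat.card_congr e.toEquiv, Nat.card_prod, hZ, mul_one, Classical.card_SL_two, hFN,
      ← Nat.sq_sub_sq, one_pow]
  haveI : CharP F 2 := by
    obtain ⟨q, hq2⟩ := CharP.exists F
    haveI := hq2
    obtain ⟨k, hqp, hk⟩ := FiniteField.card F q
    obtain rfl : q = 2 := Nat.prime_eq_prime_of_dvd_pow hqp Nat.prime_two
      ((dvd_pow_self q k.pos.ne').trans (by rw [← hk, hFc]))
    exact hq2
  have hinv : ∀ t h' : G, t * t = 1 → t ≠ 1 → Commute t h' → h' * h' = 1 := by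
    haveI : Subsingleton (Subgroup.center G) := (Nat.card_eq_one_iff_unique.1 hZ).1
    intro t h' ht ht1 hc
    have ht1' : (e t).1 ≠ 1 := fun h1 => ht1 (e.injective (by
      rw [map_one]; exact Prod.ext h1 (Subsingleton.elim _ _)))
    have h1 := TwicePrime.sl_two_sq_eq_one (g := (e t).1) (h := (e h').1)
      (by rw [← Prod.fst_mul, ← map_mul, ht, map_one]; rfl) ht1'
      (congrArg Prod.fst (hc.map e).eq)
    exact e.injective (Prod.ext (by rw [map_mul, Prod.fst_mul, h1, map_one]; rfl)
      (Subsingleton.elim _ _))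
  have hnorm : ∀ N : Subgroup G, N.Normal → (∀ g ∈ N, g * g = 1) → N = ⊥ := by
    intro N hNn hsq
    by_contra hne
    haveI := hNn
    obtain ⟨c, hc⟩ := exists_prime_orderOf_dvd_card' (G := N) p
      ((dvd_mul_left p 2).trans (h.card_dvd_of_normal N hne))
    have h1 : orderOf c ∣ 2 := orderOf_dvd_of_pow_eq_one (Subtype.ext (by
      rw [pow_two]; exact hsq c c.2))
    rw [hc] at h1
    have := Nat.le_of_dvd two_pos h1
    omega
  haveI := hprim
  haveI : IsPretransitive G α := inferInstance
  haveI : Nontrivial α := Fintype.one_lt_card_iff_nontrivial.1 (by omega)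
  obtain ⟨b⟩ : Nonempty α := inferInstance
  refine TwicePrime.no_maximal ha hcard hinv hnorm (stabilizer G b)
    ((isCoatom_stabilizer_iff_preprimitive G b).2 hprim) ?_
  rw [index_stabilizer_of_transitive G b, Nat.card_eq_fintype_card, hα, hpa]

end Cfsg.Agent.S4707
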