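import Cfsg.Statements.S4708
import Cfsg.Agent.Lib.Blocks.CoveringOrbit
import Cfsg.Agent.Lib.CharApps.Basic
import Cfsg.Agent.Lib.Chars.Induction
import Cfsg.Agent.Lib.Blocks.Degree

set_option autoImplicit false
open Cfsg Subgroup
open scoped Pointwise commutatorElement

namespace Cfsg.Agent.S4708

/-- Let p be a prime, M a maximal ideal of the algebraic integers containing p, G a finite group and H a normal subgroup. Write λ(X) for the sum of the squares of the degrees of the irreducible characters in the principal p-block of a group X. Then λ(H) ≤ λ(G) ≤ [G : H]·λ(H). -/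
theorem result {G : Type*} [Group G] [Finite G] (p : ℕ) [Fact p.Prime] (M : Ideal Cfsg.AlgInt) (hM : Cfsg.IsPModular p M) (H : Subgroup G) [H.Normal] : (∑ᶠ θ ∈ Cfsg.principalBlock M H, Cfsg.charDegree (θ : H → ℂ) ^ 2) ≤ (∑ᶠ χ ∈ Cfsg.principalBlock M G, Cfsg.charDegree (χ : G → ℂ) ^ 2) ∧ (∑ᶠ χ ∈ Cfsg.principalBlock M G, Cfsg.charDegree (χ : G → ℂ) ^ 2) ≤ H.index * ∑ᶠ θ ∈ Cfsg.principalBlock M H, Cfsg.charDegree (θ : H → ℂ) ^ 2 := by
  classical
  haveI := CfsgLib.Blocks.isPrime_of_isPModular hM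
  letI := Fintype.ofFinite G
  haveI := Fintype.ofFinite H
  haveI := Fintype.ofFinite (Cfsg.IrrCharacter G)
  haveI := Fintype.ofFinite (Cfsg.IrrCharacter H)
  set B := Cfsg.principalBlock M G with hBdef
  set b := Cfsg.principalBlock M H with hbdef
  have hB : Cfsg.IsPBlock M B := CfsgLib.Blocks.isPBlock_principalBlock M
  have hb : Cfsg.IsPBlock M b := CfsgLib.Blocks.isPBlock_principalBlock M
  obtain ⟨o, hoB, ho⟩ : ∃ o ∈ B, (o : G → ℂ) = fun _ => 1 :=
    ⟨⟨fun _ => 1, CfsgLib.CharApps.isIrr_one⟩, CfsgLib.Blocks.SameBlock.refl _, rfl⟩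
  obtain ⟨o', ho'b, ho'⟩ : ∃ o' ∈ b, (o' : H → ℂ) = fun _ => 1 :=
    ⟨⟨fun _ => 1, CfsgLib.CharApps.isIrr_one⟩, CfsgLib.Blocks.SameBlock.refl _, rfl⟩
  have h11 : classInner (fun n : H => (o : G → ℂ) n) (o' : H → ℂ) ≠ 0 := by
    have h1 := CfsgLib.Chars.inner_irr_self o'
    rw [ho'] at h1
    rw [ho, ho', h1]; exact one_ne_zero
  have hfix : ∀ θ ∈ CfsgLib.Blocks.conjSet H b, θ ∈ b := by
    rintro _ ⟨g, φ, hφ, rfl⟩
    have e : CfsgLib.Blocks.conjIrr H g o' = o' := by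
      apply Subtype.ext
      rw [CfsgLib.Blocks.coe_conjIrr, ho']
      rfl
    have h2 := CfsgLib.Blocks.sameBlock_conjIrr H g (CfsgLib.Blocks.IsPBlock.sameBlock hb ho'b hφ)
    rw [e] at h2
    rw [CfsgLib.Blocks.IsPBlock.eq_blockOf hb ho'b]
    exact h2
  have hconst : ∀ χ ∈ B, ∀ θ : Cfsg.IrrCharacter H,
      classInner (fun n : H => (χ : G → ℂ) n) (θ : H → ℂ) ≠ 0 → θ ∈ b := fun χ hχ θ hθ =>
    hfix θ (CfsgLib.Blocks.mem_conjSet_of_sameBlock H hb (CfsgLib.Blocks.IsPBlock.sameBlock hB hoB hχ)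
      ho'b h11 hθ)
  have hres : ∀ χ : Cfsg.IrrCharacter G, ∀ n : H, (χ : G → ℂ) n =
      ∑ θ : Cfsg.IrrCharacter H, classInner (fun n : H => (χ : G → ℂ) n) (θ : H → ℂ) * (θ : H → ℂ) n := by
    intro χ n
    have h := congrFun (CfsgLib.Chars.classFun_eq_sum
      (CfsgLib.Chars.isClassFunction_restrict H (CfsgLib.Chars.isClassFunction_irr χ))) n
    rw [Finset.sum_apply] at h
    simpa using h
  have hnat : ∀ (χ : Cfsg.IrrCharacter G) (θ : Cfsg.IrrCharacter H), ∃ m : ℕ,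
      classInner (fun n : H => (χ : G → ℂ) n) (θ : H → ℂ) = (m : ℂ) := fun χ θ =>
    CfsgLib.Chars.inner_char_nat (CfsgLib.Chars.isCharacter_restrict H
      (CfsgLib.Chars.isCharacter_of_irr χ.2)) (CfsgLib.Chars.isCharacter_of_irr θ.2)
  choose m hm using hnat
  set d : Cfsg.IrrCharacter G → ℕ := fun χ => Cfsg.charDegree (χ : G → ℂ)
  set e : Cfsg.IrrCharacter H → ℕ := fun θ => Cfsg.charDegree (θ : H → ℂ)
  have hdeg : ∀ χ ∈ B, d χ = ∑ θ ∈ Finset.univ.filter (fun θ => θ ∈ b), m χ θ * e θ := by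
    intro χ hχ
    have h := hres χ 1
    simp only [OneMemClass.coe_one, CfsgLib.CharApps.deg_eq, hm] at h
    have h2 : ∑ θ ∈ Finset.univ.filter (fun θ => θ ∈ b), m χ θ * e θ = ∑ θ, m χ θ * e θ := by
      refine Finset.sum_filter_of_ne fun θ _ hne => hconst χ hχ θ ?_
      rw [hm]
      exact Nat.cast_ne_zero.mpr (fun h0 => hne (by rw [h0, zero_mul]))
    rw [h2]
    exact_mod_cast h
  rw [finsum_mem_eq_sum_of_inter_support_eq (t := Finset.univ.filter fun θ => θ ∈ b) _ (by simp),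
    finsum_mem_eq_sum_of_inter_support_eq (t := Finset.univ.filter fun χ => χ ∈ B) _ (by simp)]
  show (∑ θ ∈ Finset.univ.filter (fun θ => θ ∈ b), e θ ^ 2) ≤
      (∑ χ ∈ Finset.univ.filter (fun χ => χ ∈ B), d χ ^ 2) ∧
    (∑ χ ∈ Finset.univ.filter (fun χ => χ ∈ B), d χ ^ 2) ≤
      H.index * ∑ θ ∈ Finset.univ.filter (fun θ => θ ∈ b), e θ ^ 2
  constructor
  · calc ∑ θ ∈ Finset.univ.filter (fun θ => θ ∈ b), e θ ^ 2
        ≤ ∑ θ ∈ Finset.univ.filter (fun θ => θ ∈ b),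
            ∑ χ ∈ Finset.univ.filter (fun χ => χ ∈ B), (m χ θ * e θ) ^ 2 := by
          refine Finset.sum_le_sum fun θ hθ => ?_
          obtain ⟨χ, hχ, h⟩ := CfsgLib.Blocks.exists_over_of_covered H hB hb ⟨o, hoB, o', ho'b, h11⟩
            (Finset.mem_filter.mp hθ).2
          refine le_trans ?_ (Finset.single_le_sum (f := fun χ => (m χ θ * e θ) ^ 2)
            (fun _ _ => Nat.zero_le _) (Finset.mem_filter.mpr ⟨Finset.mem_univ χ, hχ⟩))
          refine Nat.pow_le_pow_left (Nat.le_mul_of_pos_left _ (Nat.pos_of_ne_zero fun h0 => h ?_)) 2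
          rw [hm, h0, Nat.cast_zero]
      _ = ∑ χ ∈ Finset.univ.filter (fun χ => χ ∈ B),
            ∑ θ ∈ Finset.univ.filter (fun θ => θ ∈ b), (m χ θ * e θ) ^ 2 := Finset.sum_comm
      _ ≤ ∑ χ ∈ Finset.univ.filter (fun χ => χ ∈ B), d χ ^ 2 := by
          refine Finset.sum_le_sum fun χ hχ => ?_
          rw [hdeg χ (Finset.mem_filter.mp hχ).2]
          exact Finset.sum_sq_le_sq_sum_of_nonneg fun _ _ => Nat.zero_le _
  · set F : H → ℂ := fun n => ∑ θ ∈ Finset.univ.filter (fun θ => θ ∈ b),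
      (θ : H → ℂ) 1 * (θ : H → ℂ) n with hF
    have hFi : ∀ χ : Cfsg.IrrCharacter G, classInner (Cfsg.indFun H F) (χ : G → ℂ) =
        ((∑ θ ∈ Finset.univ.filter (fun θ => θ ∈ b), m χ θ * e θ : ℕ) : ℂ) := by
      intro χ
      rw [CfsgLib.Chars.inner_indFun H F (CfsgLib.Chars.isClassFunction_irr χ)]
      have hc : ∀ θ : Cfsg.IrrCharacter H,
          classInner (θ : H → ℂ) (fun n : H => (χ : G → ℂ) n) = (m χ θ : ℂ) := by
        intro θ
        rw [← CfsgLib.Chars.inner_conj, hm, map_natCast]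
      rw [CfsgLib.Chars.inner_def]
      simp only [hF, Finset.sum_mul]
      rw [Finset.sum_comm, Finset.mul_sum, Nat.cast_sum]
      refine Finset.sum_congr rfl fun θ _ => ?_
      have h3 := hc θ
      rw [CfsgLib.Chars.inner_def] at h3
      rw [Nat.cast_mul, ← h3, CfsgLib.CharApps.deg_eq, mul_comm _ (e θ : ℂ), Finset.mul_sum,
        Finset.mul_sum, Finset.mul_sum]
      exact Finset.sum_congr rfl fun g _ => by ring
    have h1 := congrFun (CfsgLib.Chars.classFun_eq_sum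
      (CfsgLib.Chars.isClassFunction_indFun H F)) 1
    rw [Finset.sum_apply, CfsgLib.Chars.indFun_one_apply] at h1
    simp only [Pi.smul_apply, smul_eq_mul, hFi] at h1
    simp only [hF, CfsgLib.CharApps.deg_eq] at h1
    have h2 : H.index * ∑ θ ∈ Finset.univ.filter (fun θ => θ ∈ b), e θ ^ 2 =
        ∑ χ, (∑ θ ∈ Finset.univ.filter (fun θ => θ ∈ b), m χ θ * e θ) * d χ := by
      simp only [pow_two]
      exact_mod_cast h1
    rw [h2]
    refine le_trans (le_of_eq (Finset.sum_congr rfl fun χ hχ => ?_))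
      (Finset.sum_le_sum_of_subset_of_nonneg (Finset.subset_univ _) fun _ _ _ => Nat.zero_le _)
    rw [← hdeg χ (Finset.mem_filter.mp hχ).2, pow_two]


end Cfsg.Agent.S4708
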