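import Cfsg.Statements.S4712
import Cfsg.Agent.Lib.Modular.BrauerRational

set_option autoImplicit false
open Cfsg Subgroup
open scoped Pointwise commutatorElement

namespace Cfsg.Agent.S4712

open CfsgLib CfsgLib.BlockOrth CfsgLib.BrauerChar in
open scoped ComplexConjugate in
/-- Fixed characters of an exponent trivial on the `p'`-part. -/
theorem blockRank_le_fixed {G : Type*} [Group G] [Fintype G] {p : ℕ} [hp : Fact p.Prime]
    {M : Ideal Cfsg.AlgInt} [M.IsPrime] (hM : Cfsg.IsPModular p M)
    {B : Set (Cfsg.IrrCharacter G)} (hB : Cfsg.IsPBlock M B) {k : ℕ}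
    (hk : k.Coprime (Nat.card G))
    (hk1 : ∀ y : G, ¬ p ∣ orderOf y → y ^ k = y) :
    blockRank p B ≤
      Nat.card {χ : IrrCharacter G // χ ∈ B ∧ ∀ g, (χ : G → ℂ) (g ^ k) = (χ : G → ℂ) g} := by
  classical
  haveI := Chars.irrFintype G
  obtain ⟨V, hV⟩ := exists_place hM.2.2
  haveI := hV.charP
  haveI : NeZero (Nat.card G) := ⟨Nat.card_pos.ne'⟩
  obtain ⟨σ, hσ⟩ := CharApps.exists_galois_pow (Nat.card G) hk
  set F : G → ℂ := fun g => ∑ χ ∈ Finset.univ.filter (· ∈ B),
    (χ : G → ℂ) (g ^ k) * conj ((χ : G → ℂ) g) with hF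
  have hFcl : IsClassFunction G F := fun g h => by
    simp only [hF, conj_pow]
    exact Finset.sum_congr rfl fun χ _ => by
      rw [Chars.isClassFunction_irr χ _ h, Chars.isClassFunction_irr χ _ h]
  have hcount : (Nat.card {χ : IrrCharacter G // χ ∈ B ∧
      ∀ g, (χ : G → ℂ) (g ^ k) = (χ : G → ℂ) g} : ℂ) = (Nat.card G : ℂ)⁻¹ * ∑ g, F g := by
    rw [hF, Finset.sum_comm, Finset.mul_sum, Nat.card_eq_fintype_card, Fintype.card_subtype,
      ← Finset.filter_filter, ← Finset.sum_boole]
    refine Finset.sum_congr rfl fun χ _ => ?_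
    have h1 : ((CharApps.galoisIrr σ χ : IrrCharacter G) : G → ℂ) =
        fun g => (χ : G → ℂ) (g ^ k) := funext fun g =>
      CharApps.galois_apply σ hσ (Chars.isCharacter_of_irr χ.2) g pow_card_eq_one'
    have h2 := Chars.inner_irr (CharApps.galoisIrr σ χ) χ
    rw [Chars.inner_def, h1] at h2
    rw [h2]
    congr 1
    rw [eq_iff_iff]
    exact ⟨fun h => Subtype.ext (by rw [h1]; exact funext h), fun h g => by
      have := congrFun h1 g; rw [h] at this; exact this.symm⟩
  set X : Finset G := Finset.univ.filter fun g => (∃ j, orderOf g = p ^ j) ∧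
    Blocks.classRep (ConjClasses.mk g) = g with hXdef
  have hX : ∀ x ∈ X, ∃ j, orderOf x = p ^ j := fun x hx => (Finset.mem_filter.1 hx).2.1
  have hrep : ∀ g : G, (∃ j, orderOf g = p ^ j) → ∃! x, x ∈ X ∧ IsConj g x := by
    intro g hg
    have hc : IsConj g (Blocks.classRep (ConjClasses.mk g)) :=
      (ConjClasses.mk_eq_mk_iff_isConj.1 (Blocks.mk_classRep _)).symm
    refine ⟨Blocks.classRep (ConjClasses.mk g), ⟨Finset.mem_filter.2 ⟨Finset.mem_univ _, ?_, ?_⟩, hc⟩,
      fun x ⟨hx, hgx⟩ => ?_⟩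
    · obtain ⟨c, hc⟩ := isConj_iff.1 hc
      obtain ⟨j, hj⟩ := hg
      refine ⟨j, ?_⟩
      rw [← hc, ← MulAut.conj_apply, ← hj]
      exact orderOf_injective (MulAut.conj c).toMonoidHom (MulAut.conj c).injective g
    · rw [Blocks.mk_classRep]
    · rw [← (Finset.mem_filter.1 hx).2.2, ConjClasses.mk_eq_mk_iff_isConj.2 hgx.symm]
  have hsum := sum_eq_sum_sections (p := p) hFcl hX hrep
  set T : G → ℂ := fun x => (Nat.card (Subgroup.centralizer ({x} : Set G)) : ℂ)⁻¹ *
    ∑ᶠ y : Subgroup.centralizer ({x} : Set G),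
      pRegularPart p (fun y : Subgroup.centralizer ({x} : Set G) => F (x * y)) y with hT
  have hyk : ∀ (x : G) (y : Subgroup.centralizer ({x} : Set G)), ¬ p ∣ orderOf y →
      (x * (y : G)) ^ k = x ^ k * (y : G) := fun x y hy => by
    have hc : Commute (y : G) x := Subgroup.mem_centralizer_singleton_iff.1 y.2
    rw [hc.symm.mul_pow, hk1 (y : G) (by rwa [Subgroup.orderOf_coe])]
  have hTnat : ∀ x ∈ X, ∃ N : ℕ, T x = N := by
    intro x hx
    haveI := Fintype.ofFinite (Subgroup.centralizer ({x} : Set G))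
    by_cases hc : IsConj x (x ^ k)
    · obtain ⟨c, hc⟩ := isConj_iff.1 hc
      have hC : ∀ v : G, v * x = x * v ↔ v * x ^ k = x ^ k * v := by
        intro v
        refine ⟨fun h => (show Commute v x from h).pow_right k, fun h => ?_⟩
        obtain ⟨j, hj⟩ := exists_pow_eq_self_of_coprime
          (hk.coprime_dvd_right (orderOf_dvd_natCard x))
        rw [← hj]
        exact (show Commute v (x ^ k) from h).pow_right j
      have hto : ∀ v : G, v * x = x * v → (c⁻¹ * v * c) * x = x * (c⁻¹ * v * c) := by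
        intro v hv
        have h2 := (hC v).1 hv
        rw [← hc] at h2
        calc c⁻¹ * v * c * x = c⁻¹ * (v * (c * x * c⁻¹)) * c := by group
          _ = c⁻¹ * ((c * x * c⁻¹) * v) * c := by rw [h2]
          _ = _ := by group
      have hfrom : ∀ v : G, v * x = x * v → (c * v * c⁻¹) * x = x * (c * v * c⁻¹) := by
        intro v hv
        rw [hC, ← hc]
        calc c * v * c⁻¹ * (c * x * c⁻¹) = c * (v * x) * c⁻¹ := by group
          _ = c * (x * v) * c⁻¹ := by rw [hv]
          _ = _ := by group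
      let α : Subgroup.centralizer ({x} : Set G) ≃* Subgroup.centralizer ({x} : Set G) :=
        { toFun := fun v => ⟨c⁻¹ * v * c, Subgroup.mem_centralizer_singleton_iff.2
            (hto v (Subgroup.mem_centralizer_singleton_iff.1 v.2))⟩
          invFun := fun v => ⟨c * v * c⁻¹, Subgroup.mem_centralizer_singleton_iff.2
            (hfrom v (Subgroup.mem_centralizer_singleton_iff.1 v.2))⟩
          left_inv := fun v => Subtype.ext (by group)
          right_inv := fun v => Subtype.ext (by group)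
          map_mul' := fun v w => Subtype.ext (by push_cast; group) }
      obtain ⟨N, hN⟩ := exists_nat_sum_inner_secFun hM hV rfl (hX x hx) hB α
      refine ⟨N, ?_⟩
      rw [← hN, hT]
      simp only [Chars.inner_def, ← Finset.mul_sum]
      rw [finsum_eq_sum_of_fintype, Finset.sum_comm]
      congr 1
      refine Finset.sum_congr rfl fun y _ => ?_
      by_cases hy : p ∣ orderOf y
      · simp [pRegularPart_apply, hy]
      · have hy' : ¬ p ∣ orderOf (α y) := by
          rwa [show orderOf (α y) = orderOf y from orderOf_injective α.toMonoidHom α.injective y]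
        simp only [pRegularPart_apply, if_pos hy, if_pos hy', hF, secFun]
        refine Finset.sum_congr rfl fun χ _ => ?_
        congr 1
        rw [hyk x y hy, ← hc, show c * x * c⁻¹ * (y : G) = c * (x * ((α y : _) : G)) * c⁻¹ by
          show _ = c * (x * (c⁻¹ * (y : G) * c)) * c⁻¹
          group]
        exact Chars.isClassFunction_irr χ _ c
    · refine ⟨0, ?_⟩
      rw [hT, Nat.cast_zero]
      simp only
      rw [finsum_eq_sum_of_fintype, Finset.sum_eq_zero, mul_zero]
      intro y _
      rw [pRegularPart_apply]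
      split_ifs with hy
      · rfl
      · obtain ⟨j, hj⟩ := hX x hx
        have hyr : ¬ p ∣ orderOf (y : G) := by rwa [Subgroup.orderOf_coe]
        have hcom : Commute x (y : G) := (Subgroup.mem_centralizer_singleton_iff.1 y.2).symm
        have h1 : IsPPart p (x * (y : G)) x := ⟨y, rfl, hcom, ⟨j, hj⟩, hyr⟩
        have h2 : IsPPart p ((x * (y : G)) ^ k) (x ^ k) := by
          refine ⟨y, (hyk x y hy).symm, hcom.pow_left k, ⟨j, ?_⟩, hyr⟩
          rw [Nat.Coprime.orderOf_pow (hk.coprime_dvd_right (orderOf_dvd_natCard x)).symm, hj]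
        have h3 := (Cfsg.Agent.S0925.result p M hM).2 _ _ _ _ h2 h1 (fun h => hc h.symm) B hB
        rw [sum_mem_block] at h3
        rw [← h3]
        simp only [hF]
        exact Finset.sum_congr rfl fun χ _ => by rw [Chars.irr_inv]
  choose! N hN using hTnat
  have h1X : (1 : G) ∈ X := by
    refine Finset.mem_filter.2 ⟨Finset.mem_univ _, ⟨0, by simp⟩, ?_⟩
    exact isConj_one_right.1 (ConjClasses.mk_eq_mk_iff_isConj.1 (Blocks.mk_classRep _)).symm
  have hT1 : T 1 = (blockRank p B : ℂ) := by
    haveI := Fintype.ofFinite (Subgroup.centralizer ({(1 : G)} : Set G))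
    have htop : ∀ g : G, g ∈ Subgroup.centralizer ({(1 : G)} : Set G) := fun g =>
      Subgroup.mem_centralizer_singleton_iff.2 (by simp)
    rw [blockRank_eq_sum hM.2.2 hB, hT]
    simp only [Chars.inner_def, ← Finset.mul_sum]
    rw [finsum_eq_sum_of_fintype, Finset.sum_comm,
      show Nat.card (Subgroup.centralizer ({(1 : G)} : Set G)) = Nat.card G from
        Nat.card_congr (Equiv.subtypeUnivEquiv htop)]
    congr 1
    refine Fintype.sum_equiv (Equiv.subtypeUnivEquiv htop) _ _ fun y => ?_
    by_cases hy : p ∣ orderOf y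
    · simp [pRegularPart_apply, hy]
    · have hyr : ¬ p ∣ orderOf (y : G) := by rwa [Subgroup.orderOf_coe]
      simp only [pRegularPart_apply, if_pos hy, hF, Equiv.subtypeUnivEquiv_apply, if_pos hyr,
        one_mul, hk1 (y : G) hyr]
  have hmain : (Nat.card {χ : IrrCharacter G // χ ∈ B ∧
      ∀ g, (χ : G → ℂ) (g ^ k) = (χ : G → ℂ) g} : ℂ) = ((∑ x ∈ X, N x : ℕ) : ℂ) := by
    rw [hcount, hsum, Nat.cast_sum]
    exact Finset.sum_congr rfl fun x hx => hN x hx
  rw [Nat.cast_inj.1 hmain]
  refine le_trans (le_of_eq ?_) (Finset.single_le_sum (f := N) (fun _ _ => Nat.zero_le _) h1X)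
  exact Nat.cast_injective (R := ℂ) (hT1.symm.trans (hN 1 h1X))

/-- Let p be an odd prime, M a maximal ideal of the algebraic integers containing p, G a finite group of order n with p-part p^a, and B a p-block of G. Call an irreducible character χ p-rational when χ(g^k) = χ(g) for every g and every k coprime to n with k ≡ 1 modulo n/p^a (χ is fixed by the Galois automorphisms fixing the roots of unity of order prime to p). Then the number of p-rational irreducible characters in B is at least the p-regular rank of B (the number of irreducible Brauer characters in B). -/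
theorem result {G : Type*} [Group G] [Finite G] (p : ℕ) [Fact p.Prime] (hodd : p ≠ 2) (M : Ideal Cfsg.AlgInt) (hM : Cfsg.IsPModular p M) (B : Set (Cfsg.IrrCharacter G)) (hB : Cfsg.IsPBlock M B) : Cfsg.blockRank p B ≤ Nat.card {χ : Cfsg.IrrCharacter G // χ ∈ B ∧ ∀ k : ℕ, Nat.Coprime k (Nat.card G) → k ≡ 1 [MOD Nat.card G / p ^ (Nat.card G).factorization p] → ∀ g : G, (χ : G → ℂ) (g ^ k) = (χ : G → ℂ) g} := by
  classical
  haveI := Fintype.ofFinite G
  haveI := CfsgLib.Blocks.isPrime_of_isPModular hM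
  have hp : p.Prime := Fact.out
  obtain ⟨a, ha⟩ : ∃ a, a = (Nat.card G).factorization p := ⟨_, rfl⟩
  obtain ⟨m, hm⟩ : ∃ m, m = Nat.card G / p ^ a := ⟨_, rfl⟩
  rw [← ha, ← hm]
  have hmul : m * p ^ a = Nat.card G := by
    rw [hm, ha, mul_comm]; exact Nat.ordProj_mul_ordCompl_eq_self _ p
  have hcop : m.Coprime (p ^ a) := by
    refine Nat.Coprime.pow_right a (Nat.coprime_comm.1 (hp.coprime_iff_not_dvd.2 ?_))
    rw [hm, ha]
    exact Nat.not_dvd_ordCompl hp Nat.card_pos.ne'
  haveI : NeZero (p ^ a) := ⟨pow_ne_zero _ hp.ne_zero⟩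
  haveI := ZMod.isCyclic_units_of_prime_pow p hp hodd a
  obtain ⟨u, hu⟩ := IsCyclic.exists_generator (α := (ZMod (p ^ a))ˣ)
  obtain ⟨k, hk1, hku⟩ := Nat.chineseRemainder hcop 1 (u : ZMod (p ^ a)).val
  have hkz : (k : ZMod (p ^ a)) = u := by
    rw [(ZMod.natCast_eq_natCast_iff _ _ _).2 hku]
    exact ZMod.natCast_zmod_val _
  have hkn : k.Coprime (Nat.card G) := by
    rw [← hmul]
    refine Nat.Coprime.mul_right ?_ ?_
    · rw [Nat.Coprime, hk1.gcd_eq, Nat.gcd_one_left]
    · rw [← ZMod.isUnit_iff_coprime, hkz]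
      exact u.isUnit
  refine le_trans (blockRank_le_fixed hM hB hkn fun y hy => ?_) (le_of_eq (Nat.card_congr
    (Equiv.subtypeEquivRight fun χ => and_congr_right fun _ => ?_)))
  · have hdvd : orderOf y ∣ m := by
      have h1 : orderOf y ∣ m * p ^ a := hmul ▸ orderOf_dvd_natCard y
      exact (Nat.Coprime.pow_right a
        (Nat.coprime_comm.1 (hp.coprime_iff_not_dvd.2 hy))).dvd_of_dvd_mul_right h1
    conv_rhs => rw [← pow_one y]
    exact pow_eq_pow_iff_modEq.2 (hk1.of_dvd hdvd)
  constructor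
  · intro h l hl hl1 g
    have hiter : ∀ (j : ℕ) (g : G), (χ : G → ℂ) (g ^ k ^ j) = (χ : G → ℂ) g := by
      intro j
      induction j with
      | zero => intro g; simp
      | succ j ih =>
        intro g
        rw [pow_succ', pow_mul, ih, h]
    have hlu : IsUnit (l : ZMod (p ^ a)) :=
      (ZMod.isUnit_iff_coprime _ _).2 (hl.coprime_dvd_right (Dvd.intro_left m hmul))
    obtain ⟨j, hj⟩ := mem_powers_iff_mem_zpowers.2 (hu hlu.unit)
    have hmod : l ≡ k ^ j [MOD Nat.card G] := by
      rw [← hmul, ← Nat.modEq_and_modEq_iff_modEq_mul hcop]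
      refine ⟨hl1.trans (by simpa using (hk1.pow j).symm), (ZMod.natCast_eq_natCast_iff _ _ _).1 ?_⟩
      rw [Nat.cast_pow, hkz, ← Units.val_pow_eq_pow_val]
      simp only at hj
      rw [hj, IsUnit.unit_spec]
    rw [pow_eq_pow_iff_modEq.2 (hmod.of_dvd (orderOf_dvd_natCard g)), hiter]
  · intro h g
    exact h k hkn hk1 g


end Cfsg.Agent.S4712
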