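import Cfsg.Statements.S4713
import Cfsg.Agent.Lib.CharsMore.ItoMichlerPSolvable

set_option autoImplicit false
open Cfsg Subgroup
open scoped Pointwise commutatorElement

namespace Cfsg.Agent.S4713

/-- Let p be a prime and G a finite p-solvable group. Then G has a normal abelian Sylow p-subgroup if and only if the degree of every irreducible character of G is prime to p. -/
theorem result {G : Type*} [Group G] [Finite G] (p : ℕ) [Fact p.Prime] (hsolv : Cfsg.IsPSolvable p G) (P : Sylow p G) : ((P : Subgroup G).Normal ∧ IsMulCommutative P) ↔ ∀ χ : Cfsg.IrrCharacter G, ¬ p ∣ Cfsg.charDegree (χ : G → ℂ) := by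
  classical
  haveI := Fintype.ofFinite G
  haveI : Fintype (P : Subgroup G) := Fintype.ofFinite _
  constructor
  · rintro ⟨hn, hab⟩ χ hd
    haveI := hn
    obtain ⟨k, hk, hdvd⟩ := CfsgLib.CharsMore.ito_degree_dvd (P : Subgroup G)
      (fun a ha b hb => congrArg Subtype.val (hab.is_comm.comm ⟨a, ha⟩ ⟨b, hb⟩)) χ.2
    rw [CfsgLib.BlockOrth.irr_apply_one, Nat.cast_inj] at hk
    exact P.not_dvd_index ((hk ▸ hd).trans hdvd)
  · intro h
    haveI hn : (P : Subgroup G).Normal :=
      CfsgLib.CharsMore.sylow_normal_of_not_dvd (Nat.card G) G le_rfl hsolv h P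
    exact ⟨hn, ⟨⟨CfsgLib.CharsMore.comm_of_isPGroup_of_not_dvd P.2
      (CfsgLib.CharsMore.not_dvd_degree_normal _ h)⟩⟩⟩


end Cfsg.Agent.S4713
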