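import Cfsg.Statements.S4715
import Cfsg.Agent.Lib.Blocks.HeightInertia

set_option autoImplicit false
open Cfsg CfsgLib.Blocks

set_option linter.style.haveILetI false

namespace Cfsg.Agent.S4715

/-- Let p be a prime, M a maximal ideal of the algebraic integers containing p, B a p-block of the finite group G with defect group D of order p^d, H = D·C_G(D), b a block of H inducing B, T the stabilizer of b in N_G(D) and e = [T : H] the inertial index of B; let n be the integer with p^n ≤ e < p^(n+1) and p^c the order of the centre of D. Then every irreducible character in B has height h with h + c ≤ n + d. -/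
theorem result {G : Type*} [Group G] [Finite G] (p : ℕ) [Fact p.Prime] (M : Ideal Cfsg.AlgInt) (hM : Cfsg.IsPModular p M) (B : Set (Cfsg.IrrCharacter G)) (hB : Cfsg.IsPBlock M B) (D : Subgroup G) (hBD : Cfsg.IsDefectGroup p M B D) (d : ℕ) (hDd : Nat.card D = p ^ d) (H : Subgroup G) (hH : H = D ⊔ Subgroup.centralizer (D : Set G)) (b : Set (Cfsg.IrrCharacter H)) (hind : Cfsg.IsInducedBlock M H b B) (T : Subgroup G) (hT : ∀ g : G, g ∈ T ↔ (g ∈ Subgroup.normalizer (D : Set G) ∧ ∀ θ ∈ b, ∀ θ' : Cfsg.IrrCharacter H, (∀ h h' : H, (h' : G) = g * h * g⁻¹ → (θ' : H → ℂ) h' = (θ : H → ℂ) h) → θ' ∈ b)) (e : ℕ) (he : H.relIndex T = e) (n : ℕ) (hn : p ^ n ≤ e ∧ e < p ^ (n + 1)) (c : ℕ) (hc : Nat.card (Subgroup.center D) = p ^ c) : ∀ χ ∈ B, Cfsg.blockHeight p B (χ : G → ℂ) + c ≤ n + d := by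
  haveI := Fintype.ofFinite G
  haveI : M.IsPrime := hM.2.1.isPrime
  have hpM : (p : AlgInt) ∈ M := hM.2.2
  have hp : p.Prime := Fact.out
  obtain ⟨f, hmax, hst⟩ := exists_pair_stab_le hpM hBD hH hind
  intro χ hχ
  have h1 := pow_height_mul_card_center_le hM hpM hmax (T := T) (H := H)
    (fun g hg => (hT g).2 (hst g hg)) hH.le hχ
  have hd : blockDefect p B = d := by
    have h2 := CfsgLib.BlockOrth.card_defectGroup hpM hB hBD
    rw [hDd] at h2
    exact (Nat.pow_right_injective hp.two_le h2).symm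
  have hz : (Subgroup.center D).map D.subtype = D ⊓ Subgroup.centralizer (D : Set G) := by
    ext x
    simp only [Subgroup.mem_map, Subgroup.mem_inf, Subgroup.mem_center_iff,
      Subgroup.mem_centralizer_iff, SetLike.mem_coe]
    refine ⟨?_, fun hx => ⟨⟨x, hx.1⟩, fun u => Subtype.ext (hx.2 u u.2), rfl⟩⟩
    rintro ⟨v, hv, rfl⟩
    exact ⟨v.2, fun u hu => congrArg Subtype.val (hv ⟨u, hu⟩)⟩
  rw [hd, he, ← hz, Subgroup.card_map_of_injective D.subtype_injective, hc, ← pow_add] at h1
  have h3 := h1.trans_lt (Nat.mul_lt_mul_of_pos_left hn.2 (pow_pos hp.pos d))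
  rw [← pow_add] at h3
  have h4 := (Nat.pow_lt_pow_iff_right hp.one_lt).1 h3
  omega

end Cfsg.Agent.S4715
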