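import Cfsg.Statements.S4717
import Cfsg.Agent.Lib.Blocks.ThirdMain
import Cfsg.Agent.Lib.Blocks.LocalDefect

set_option autoImplicit false
open Cfsg

set_option linter.style.haveILetI false

namespace Cfsg.Agent.S4717

/-- Let p be a prime, M a maximal ideal of the algebraic integers containing p, and r a natural number; say that a finite group X has deficiency class r when X has no non-principal p-block of defect ≥ r. If G has deficiency class r then so does the centralizer of every p-element of G; conversely, if r > 0 and the centralizer of every element of order p has deficiency class r, then G has deficiency class r. -/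
theorem result {G : Type*} [Group G] [Finite G] (p : ℕ) [Fact p.Prime] (M : Ideal Cfsg.AlgInt) (hM : Cfsg.IsPModular p M) (r : ℕ) : ((∀ B' : Set (Cfsg.IrrCharacter G), Cfsg.IsPBlock M B' → B' ≠ Cfsg.principalBlock M G → Cfsg.blockDefect p B' < r) → ∀ y : G, (∃ k : ℕ, orderOf y = p ^ k) → (∀ B' : Set (Cfsg.IrrCharacter ↥(Subgroup.centralizer ({y} : Set G))), Cfsg.IsPBlock M B' → B' ≠ Cfsg.principalBlock M ↥(Subgroup.centralizer ({y} : Set G)) → Cfsg.blockDefect p B' < r)) ∧ (0 < r → (∀ y : G, orderOf y = p → (∀ B' : Set (Cfsg.IrrCharacter ↥(Subgroup.centralizer ({y} : Set G))), Cfsg.IsPBlock M B' → B' ≠ Cfsg.principalBlock M ↥(Subgroup.centralizer ({y} : Set G)) → Cfsg.blockDefect p B' < r)) → (∀ B' : Set (Cfsg.IrrCharacter G), Cfsg.IsPBlock M B' → B' ≠ Cfsg.principalBlock M G → Cfsg.blockDefect p B' < r)) := by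
  classical
  haveI := CfsgLib.Blocks.isPrime_of_isPModular hM
  haveI := Fintype.ofFinite G
  have hpM := hM.2.2
  have hp : p.Prime := Fact.out
  -- the property, transported to the centralizer of the cyclic subgroup
  have htr : ∀ y : G, (∀ B' : Set (IrrCharacter (Subgroup.centralizer ({y} : Set G))),
      IsPBlock M B' → B' ≠ principalBlock M (Subgroup.centralizer ({y} : Set G)) →
        blockDefect p B' < r) ↔
      (∀ B' : Set (IrrCharacter (Subgroup.centralizer ((Subgroup.zpowers y : Subgroup G) : Set G))),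
      IsPBlock M B' →
      B' ≠ principalBlock M (Subgroup.centralizer ((Subgroup.zpowers y : Subgroup G) : Set G)) →
        blockDefect p B' < r) := by
    intro y
    have gen : ∀ H K : Subgroup G, H = K →
        ((∀ B' : Set (IrrCharacter H), IsPBlock M B' → B' ≠ principalBlock M H →
          blockDefect p B' < r) ↔
        (∀ B' : Set (IrrCharacter K), IsPBlock M B' → B' ≠ principalBlock M K →
          blockDefect p B' < r)) := by
      rintro H K rfl; exact Iff.rfl
    exact gen _ _ (by rw [Subgroup.zpowers_eq_closure, Subgroup.centralizer_closure])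
  constructor
  · intro h y hy
    rw [htr]
    obtain ⟨Q, hQ⟩ : ∃ Q, Q = Subgroup.zpowers y := ⟨_, rfl⟩
    rw [← hQ]
    intro b hb hne
    have hQp : IsPGroup p Q := by
      obtain ⟨k, hk⟩ := hy
      exact IsPGroup.of_card (n := k) (by rw [hQ, Nat.card_zpowers, hk])
    have hQC : Q ≤ Subgroup.centralizer (Q : Set G) := fun u hu =>
      Subgroup.mem_centralizer_iff.2 fun v hv => by
        rw [hQ] at hu hv
        obtain ⟨i, rfl⟩ := Subgroup.mem_zpowers_iff.1 hu
        obtain ⟨j, rfl⟩ := Subgroup.mem_zpowers_iff.1 hv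
        rw [← zpow_add, ← zpow_add, add_comm]
    have hCN : Subgroup.centralizer (Q : Set G) ≤ Subgroup.normalizer (Q : Set G) := fun c hc => by
      rw [Subgroup.mem_normalizer_iff]
      intro g
      constructor
      · intro hg
        rwa [← Subgroup.mem_centralizer_iff.1 hc g hg, mul_inv_cancel_right]
      · intro hg
        have h2 := Subgroup.mem_centralizer_iff.1 (inv_mem hc) _ hg
        have h3 : g = c * g * c⁻¹ := by
          calc g = c⁻¹ * (c * g * c⁻¹) * c := by group
            _ = _ := by rw [← h2]; group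
        rwa [h3]
    obtain ⟨B, hB, -⟩ := CfsgLib.Blocks.existsUnique_block_of_pair hpM
      (⟨hQp, hb⟩ : IsBrauerPair p M Q b)
    have hind := CfsgLib.Blocks.isInducedBlock_of_pair hpM hQp hQC le_rfl hCN hB hb
      (CfsgLib.Blocks.pairIdem_mul_self hb)
    have hBne : B ≠ principalBlock M G := fun hB0 => hne (CfsgLib.Blocks.third_main hpM (hB0 ▸ hB))
    haveI := Fintype.ofFinite (Subgroup.centralizer (Q : Set G))
    obtain ⟨D, hD⟩ := CfsgLib.Blocks.exists_isDefectGroup (p := p) hb
    obtain ⟨E', hE, hle⟩ := CfsgLib.Blocks.IsInducedBlock.exists_defect_le hpM hind hD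
    have hcard := Subgroup.card_le_of_le hle
    rw [Subgroup.card_map_of_injective (Subgroup.subtype_injective _),
      CfsgLib.BlockOrth.card_defectGroup hpM hb hD,
      CfsgLib.BlockOrth.card_defectGroup hpM hB.2.1 hE] at hcard
    exact lt_of_le_of_lt ((Nat.pow_le_pow_iff_right hp.one_lt).1 hcard) (h B hB.2.1 hBne)
  · intro hr h B hB hne
    by_contra hlt
    obtain ⟨D, hD⟩ := CfsgLib.Blocks.exists_isDefectGroup (p := p) hB
    have hcardD := CfsgLib.BlockOrth.card_defectGroup hpM hB hD
    have hd : 0 < blockDefect p B := by omega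
    have hDp := CfsgLib.Blocks.IsDefectGroup.isPGroup hD
    haveI : Nontrivial D := Finite.one_lt_card_iff_nontrivial.1
      (hcardD ▸ Nat.one_lt_pow hd.ne' hp.one_lt)
    haveI := hDp.center_nontrivial
    obtain ⟨z, hz⟩ := exists_prime_orderOf_dvd_card' (G := Subgroup.center D) p (by
      obtain ⟨n, hn⟩ := (hDp.to_subgroup (Subgroup.center D)).exists_card_eq
      rw [hn]
      refine dvd_pow_self p fun h0 => ?_
      rw [h0, pow_zero] at hn
      exact (Finite.one_lt_card (α := Subgroup.center D)).ne' hn)
    set y : G := ((z : D) : G) with hy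
    have hyo : orderOf y = p := by rw [hy, Subgroup.orderOf_coe, Subgroup.orderOf_coe, hz]
    obtain ⟨Q, hQ⟩ : ∃ Q, Q = Subgroup.zpowers y := ⟨_, rfl⟩
    have hQy := (htr y).1 (h y hyo)
    rw [← hQ] at hQy
    have hQD : Q ≤ D := by rw [hQ, Subgroup.zpowers_le]; exact (z : D).2
    have hDC : D ≤ Subgroup.centralizer (Q : Set G) := by
      rw [hQ, Subgroup.zpowers_eq_closure, Subgroup.centralizer_closure]
      intro u hu
      rw [Subgroup.mem_centralizer_singleton_iff]
      exact congrArg Subtype.val (Subgroup.mem_center_iff.1 z.2 ⟨u, hu⟩)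
    obtain ⟨e, he⟩ := CfsgLib.Blocks.exists_pair_on_defectGroup hpM hB hD
    obtain ⟨f, hf⟩ := CfsgLib.Blocks.exists_below (b := ⟨D, e⟩) hpM he.1 Q hQD
    have hQf := CfsgLib.Blocks.below_isBrauerPair hf he.1
    haveI := Fintype.ofFinite (Subgroup.centralizer (Q : Set G))
    obtain ⟨D', hD', hle⟩ := CfsgLib.Blocks.exists_defect_ge (b := ⟨D, e⟩) hpM he.1 hf le_rfl
      (CfsgLib.Blocks.centralizer_le_stabPair hQf.2) hQf.2 rfl (S := D) le_rfl hDC
    have hcard := Subgroup.card_le_of_le hle
    rw [CfsgLib.Base.card_subgroupOf hDC, hcardD,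
      CfsgLib.BlockOrth.card_defectGroup hpM hQf.2 hD'] at hcard
    have hle2 : blockDefect p B ≤ blockDefect p f := (Nat.pow_le_pow_iff_right hp.one_lt).1 hcard
    apply hne
    have hfp : f = principalBlock M (Subgroup.centralizer (Q : Set G)) := by
      by_contra hf0
      have := hQy f hQf.2 hf0
      omega
    subst hfp
    exact (CfsgLib.Blocks.existsUnique_block_of_pair hpM hQf).unique
      ((CfsgLib.Blocks.isBrauerPairOf_iff_of_below hpM hf B).2 he)
      (CfsgLib.Blocks.isBrauerPairOf_principalPair hpM hQf.1)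

end Cfsg.Agent.S4717
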