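import Cfsg.Statements.S4718
import Cfsg.Agent.Lib.CharApps.Landau
import Cfsg.Agent.Lib.BlockOrth.BrauerFeit

set_option autoImplicit false
universe u
open Cfsg

namespace Cfsg.Agent.S4718

/-- Let p be a prime and a a natural number. There is a bound N such that every finite group whose Sylow p-subgroups have order p^a and whose only p-block (relative to a maximal ideal of the algebraic integers containing p) is the principal block has order at most N. -/
theorem result (p : ℕ) [Fact p.Prime] (a : ℕ) : ∃ N : ℕ, ∀ (G : Type u) [Group G] [Finite G] (M : Ideal Cfsg.AlgInt), Cfsg.IsPModular p M → (Nat.card G).factorization p = a → (∀ B : Set (Cfsg.IrrCharacter G), Cfsg.IsPBlock M B → B = Cfsg.principalBlock M G) → Nat.card G ≤ N := by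
  classical
  obtain ⟨N, hN⟩ := CfsgLib.CharApps.exists_bound_card_of_card_classes.{u} (p ^ (2 * a) + 4)
  refine ⟨N, fun G _ _ M hM ha hone => hN G ?_⟩
  haveI := Fintype.ofFinite G
  haveI := hM.2.1.isPrime
  set B := Cfsg.principalBlock M G
  have hall : ∀ χ : Cfsg.IrrCharacter G, χ ∈ B := fun χ => by
    rw [← hone _ (CfsgLib.Blocks.isPBlock_blockOf χ)]
    exact CfsgLib.Blocks.mem_blockOf_self χ
  have hB : Cfsg.IsPBlock M B := ⟨CfsgLib.Chars.principal G, rfl⟩
  have h1 := CfsgLib.BlockOrth.four_mul_card_le (p := p) hM.2.2 hB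
  have h2 : Nat.card B = Nat.card (Cfsg.IrrCharacter G) :=
    Nat.card_congr (Equiv.subtypeUnivEquiv hall)
  rw [h2, CfsgLib.Chars.card_irr_eq_card_classes] at h1
  have h3 : Cfsg.blockDefect p B ≤ a := ha ▸ Nat.sub_le _ _
  have h4 : p ^ (2 * Cfsg.blockDefect p B) ≤ p ^ (2 * a) :=
    Nat.pow_le_pow_right (Fact.out : p.Prime).pos (by omega)
  omega

end Cfsg.Agent.S4718
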