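import Cfsg.Statements.S4720
import Cfsg.Agent.Lib.CharApps.PrincipalColumns

set_option autoImplicit false
open Cfsg

namespace Cfsg.Agent.S4720

/-- Let p be a prime, M a maximal ideal of the algebraic integers containing p, P a p-subgroup of the finite group G, N a subgroup with P ≤ N ≤ N_G(P), and U a nonempty subset of P normalized by N such that an element of U and an element of P that are conjugate in G are already conjugate in N, and such that λ(C_G(y)) = w·#C_N(y) for every y ∈ U with one rational number w, where λ(X) denotes the sum of the squares of the degrees of the irreducible characters in the principal p-block of X. For a complex function θ on P and χ in the principal block of G put a_χ(θ) = #P⁻¹ Σ_{y ∈ P} χ(y) θ(y⁻¹). Then for generalized characters θ, η of P with θ vanishing outside U, Σ_χ a_χ(θ)·conj(a_χ(η)) = (w/#P²)·Σ_{y ∈ P} θ(y)·conj(Σ_{x ∈ N} η(x y x⁻¹)) (η extended by zero off P; the conjugates lie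 in P), the first sum over the principal p-block of G. -/
theorem result {G : Type*} [Group G] [Finite G] (p : ℕ) [Fact p.Prime] (M : Ideal Cfsg.AlgInt) (hM : Cfsg.IsPModular p M) (P : Subgroup G) (hP : IsPGroup p P) (N : Subgroup G) (hPN : P ≤ N) (hNN : N ≤ Subgroup.normalizer (P : Set G)) (U : Set G) (hUne : U.Nonempty) (hUP : U ⊆ (P : Set G)) (hUN : ∀ n ∈ N, ∀ u ∈ U, n * u * n⁻¹ ∈ U) (hfus : ∀ u ∈ U, ∀ g : G, g * u * g⁻¹ ∈ (P : Set G) → ∃ n ∈ N, n * u * n⁻¹ = g * u * g⁻¹) (w : ℚ) (hw : ∀ y ∈ U, ((∑ᶠ ψ ∈ Cfsg.principalBlock M ↥(Subgroup.centralizer ({y} : Set G)), Cfsg.charDegree (ψ : ↥(Subgroup.centralizer ({y} : Set G)) → ℂ) ^ 2) : ℚ) = w * Nat.card ↥(N ⊓ Subgroup.centralizer ({y} : Set G))) (θ η : ↥P → ℂ) (hθ : Cfsg.IsGeneralizedCharacter ↥P θ) (hη : Cfsg.IsGeneralizedCharacter ↥P η) (hθU : ∀ y : ↥P, (y : G) ∉ U → θ y = 0) : ∑ᶠ χ ∈ Cfsg.principalBlock M G, ((Nat.card ↥P : ℂ)⁻¹ * ∑ᶠ y : ↥P, (χ : G → ℂ) (y : G) * θ y⁻¹)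 * (starRingEnd ℂ) ((Nat.card ↥P : ℂ)⁻¹ * ∑ᶠ y : ↥P, (χ : G → ℂ) (y : G) * η y⁻¹) = ((w : ℂ) / ((Nat.card ↥P : ℂ) ^ 2)) * ∑ᶠ y : ↥P, θ y * (starRingEnd ℂ) (∑ᶠ x : ↥N, Cfsg.extendByZero P η ((x : G) * (y : G) * (x : G)⁻¹)) := by
  classical
  haveI := Fintype.ofFinite G
  haveI := hM.2.1.isPrime
  haveI := Fintype.ofFinite ↥P
  haveI := Fintype.ofFinite ↥N
  haveI := CfsgLib.Chars.irrFintype G
  set B := Cfsg.principalBlock M G
  rw [finsum_mem_eq_sum_of_inter_support_eq (t := Finset.univ.filter (· ∈ B)) _ (by ext; simp),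
    finsum_eq_sum_of_fintype]
  simp only [finsum_eq_sum_of_fintype]
  set q : ℂ := (Nat.card ↥P : ℂ) with hq
  have hpel : ∀ y : ↥P, ∃ k, orderOf (y : G) = p ^ k := fun y => by
    obtain ⟨k, hk⟩ := hP y
    obtain ⟨i, -, hi⟩ := (Nat.dvd_prime_pow (Fact.out : p.Prime)).mp (orderOf_dvd_of_pow_eq_one hk)
    exact ⟨i, by rw [Subgroup.orderOf_coe, hi]⟩
  -- rewrite the coefficients
  have hcoef : ∀ (χ : Cfsg.IrrCharacter G) (t : ↥P → ℂ),
      ∑ y : ↥P, (χ : G → ℂ) (y : G) * t y⁻¹ =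
        ∑ y : ↥P, (starRingEnd ℂ) ((χ : G → ℂ) (y : G)) * t y := by
    intro χ t
    refine Fintype.sum_equiv (Equiv.inv ↥P) _ _ fun y => ?_
    simp only [Equiv.inv_apply]
    rw [Subgroup.coe_inv, CfsgLib.Chars.irr_inv, Complex.conj_conj]
  simp only [hcoef]
  let S : ↥P → ↥P → ℂ := fun x y => ∑ χ ∈ Finset.univ.filter (· ∈ B),
    (χ : G → ℂ) (x : G) * (starRingEnd ℂ) ((χ : G → ℂ) (y : G))
  have hLHS : ∑ χ ∈ Finset.univ.filter (· ∈ B),
      (q⁻¹ * ∑ y : ↥P, (starRingEnd ℂ) ((χ : G → ℂ) (y : G)) * θ y) *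
        (starRingEnd ℂ) (q⁻¹ * ∑ y : ↥P, (starRingEnd ℂ) ((χ : G → ℂ) (y : G)) * η y) =
      q⁻¹ * q⁻¹ * ∑ y : ↥P, θ y * ∑ x : ↥P, (starRingEnd ℂ) (η x) * S x y := by
    have e : ∀ χ : Cfsg.IrrCharacter G,
        (q⁻¹ * ∑ y : ↥P, (starRingEnd ℂ) ((χ : G → ℂ) (y : G)) * θ y) *
          (starRingEnd ℂ) (q⁻¹ * ∑ y : ↥P, (starRingEnd ℂ) ((χ : G → ℂ) (y : G)) * η y) =
        ∑ y : ↥P, ∑ x : ↥P, q⁻¹ * q⁻¹ * (θ y * ((starRingEnd ℂ) (η x) *
          ((χ : G → ℂ) (x : G) * (starRingEnd ℂ) ((χ : G → ℂ) (y : G))))) := by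
      intro χ
      rw [map_mul, map_inv₀, hq, map_natCast, ← hq, map_sum]
      simp only [map_mul, Complex.conj_conj, Finset.mul_sum, Finset.sum_mul]
      rw [Finset.sum_comm]
      exact Finset.sum_congr rfl fun y _ => Finset.sum_congr rfl fun x _ => by ring
    rw [Finset.sum_congr rfl (fun χ _ => e χ), Finset.sum_comm, Finset.mul_sum]
    refine Finset.sum_congr rfl fun y _ => ?_
    rw [Finset.sum_comm, Finset.mul_sum, Finset.mul_sum]
    refine Finset.sum_congr rfl fun x _ => ?_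
    simp only [S, Finset.mul_sum]
  rw [hLHS, div_mul_eq_mul_div, Finset.mul_sum, Finset.mul_sum, Finset.sum_div]
  refine Finset.sum_congr rfl fun y _ => ?_
  by_cases hθy : θ y = 0
  · simp [hθy]
  have hyU : (y : G) ∈ U := by
    by_contra h
    exact hθy (hθU y h)
  -- the columns
  have hS : ∀ x : ↥P, S x y = if IsConj (x : G) (y : G) then
      (w : ℂ) * (Nat.card ↥(N ⊓ Subgroup.centralizer ({(y : G)} : Set G)) : ℂ) else 0 := by
    intro x
    have e : S x y = ∑ᶠ χ ∈ B, (χ : G → ℂ) (x : G) * (starRingEnd ℂ) ((χ : G → ℂ) (y : G)) :=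
      (finsum_mem_eq_sum_of_inter_support_eq (t := Finset.univ.filter (· ∈ B)) _ (by ext; simp)).symm
    rw [e]
    split_ifs with hc
    · rw [finsum_mem_congr rfl (g := fun χ : Cfsg.IrrCharacter G =>
          (χ : G → ℂ) (y : G) * (starRingEnd ℂ) ((χ : G → ℂ) (y : G))) (fun χ _ => by
            rw [(CfsgLib.Chars.isConj_iff_forall_irr _ _).mp hc χ]),
        CfsgLib.CharApps.principal_column_norm hM (hpel y)]
      have h := hw (y : G) hyU
      haveI := CfsgLib.Chars.irrFintype ↥(Subgroup.centralizer ({(y : G)} : Set G))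
      rw [finsum_mem_eq_sum_of_inter_support_eq (t := Finset.univ.filter
        (· ∈ Cfsg.principalBlock M ↥(Subgroup.centralizer ({(y : G)} : Set G)))) _ (by ext; simp)] at h ⊢
      have h' := congrArg (fun r : ℚ => (r : ℂ)) h
      push_cast at h' ⊢
      exact h'
    · exact CfsgLib.CharApps.principal_column_orth_of_not_isConj hM (hpel x) (hpel y) hc
  -- conjugates in `N`
  have hNP : ∀ n : ↥N, (n : G) * (y : G) * (n : G)⁻¹ ∈ P := fun n =>
    (Subgroup.mem_normalizer_iff.mp (hNN n.2) (y : G)).mp y.2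
  have hη : ∀ n : ↥N, Cfsg.extendByZero P η ((n : G) * (y : G) * (n : G)⁻¹) = η ⟨_, hNP n⟩ :=
    fun n => Subtype.val_injective.extend_apply η 0 ⟨_, hNP n⟩
  simp only [hη]
  have hfib : ∀ x : ↥P, ((Finset.univ.filter fun n : ↥N =>
      (⟨(n : G) * (y : G) * (n : G)⁻¹, hNP n⟩ : ↥P) = x).card : ℂ) =
      if IsConj (x : G) (y : G) then
        (Nat.card ↥(N ⊓ Subgroup.centralizer ({(y : G)} : Set G)) : ℂ) else 0 := by
    intro x
    rw [← Fintype.card_subtype, ← Nat.card_eq_fintype_card]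
    split_ifs with hc
    · obtain ⟨g, hg⟩ := isConj_iff.mp hc.symm
      obtain ⟨n₀, hn₀, hn₀y⟩ := hfus (y : G) hyU g (hg ▸ x.2)
      rw [hg] at hn₀y
      congr 1
      refine (Nat.card_congr
        { toFun := fun c : ↥(N ⊓ Subgroup.centralizer ({(y : G)} : Set G)) =>
            (⟨⟨n₀ * (c : G), mul_mem hn₀ c.2.1⟩, Subtype.ext ?_⟩ :
              {n : ↥N // (⟨(n : G) * (y : G) * (n : G)⁻¹, hNP n⟩ : ↥P) = x})
          invFun := fun n => ⟨n₀⁻¹ * (n.1 : G), N.mul_mem (N.inv_mem hn₀) n.1.2,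
            Subgroup.mem_centralizer_singleton_iff.mpr ?_⟩
          left_inv := fun c => Subtype.ext (by simp)
          right_inv := fun n => Subtype.ext (Subtype.ext (by simp)) }).symm
      · have hcy : (c : G) * (y : G) = (y : G) * (c : G) :=
          Subgroup.mem_centralizer_singleton_iff.mp c.2.2
        show n₀ * (c : G) * (y : G) * (n₀ * (c : G))⁻¹ = (x : G)
        rw [mul_assoc n₀, hcy, ← hn₀y]
        group
      · have h : (n.1 : G) * (y : G) * (n.1 : G)⁻¹ = (x : G) := congrArg Subtype.val n.2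
        rw [← hn₀y, mul_inv_eq_iff_eq_mul] at h
        rw [mul_assoc, h]
        group
    · haveI : IsEmpty {n : ↥N // (⟨(n : G) * (y : G) * (n : G)⁻¹, hNP n⟩ : ↥P) = x} :=
        ⟨fun n => hc (isConj_iff.mpr ⟨(n.1 : G), congrArg Subtype.val n.2⟩).symm⟩
      rw [Nat.card_of_isEmpty, Nat.cast_zero]
  rw [map_sum, ← Finset.sum_fiberwise Finset.univ
    (fun n : ↥N => (⟨(n : G) * (y : G) * (n : G)⁻¹, hNP n⟩ : ↥P))
    (fun n => (starRingEnd ℂ) (η ⟨_, hNP n⟩))]
  rw [Finset.mul_sum, Finset.mul_sum, Finset.mul_sum, Finset.mul_sum, Finset.sum_div]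
  refine Finset.sum_congr rfl fun x _ => ?_
  rw [Finset.sum_congr rfl (g := fun _ => (starRingEnd ℂ) (η x))
    (fun n hn => by rw [(Finset.mem_filter.mp hn).2]), Finset.sum_const, nsmul_eq_mul, hfib x, hS x]
  split_ifs
  · rw [sq, div_eq_mul_inv, mul_inv]
    ring
  · simp

end Cfsg.Agent.S4720
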