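import Cfsg.Statements.S4721
import Cfsg.Agent.Lib.CharApps.InertialThreeSigns

set_option autoImplicit false
open Cfsg CfsgLib.CharApps CfsgLib.Chars

namespace Cfsg.Agent.S4721

/-- Let p be a prime, M a maximal ideal of the algebraic integers containing p, and G a finite group with a nontrivial abelian Sylow p-subgroup P, N = N_G(P), C = C_G(P), such that N/C is cyclic of order 3, #P > 4, and C_G(y) ∩ N = C for every non-identity y ∈ P. Then the principal p-block is the disjoint union of a set X of exactly 3 characters containing the principal character and a set Y of (#P − 1)/3 characters, with signs a_χ = ±1 (χ ∈ X, a = 1 at the principal character) and δ = ±1 such that every χ ∈ X takes the value a_χ at every element whose p-part is a non-identity element of P, and there is a map ζ from the non-principal linear characters of P onto Y, constant on N-conjugacy classes, with ζ_ψ(z) = δ·Σ ψ'(y) over the N-orbit of ψ, for z with p-part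 y ≠ 1 in P. If moreover G has an involution lying in no proper normal subgroup of G, then exactly two of the three numbers −δ and a_χ (χ ∈ X non-principal) equal −1, and the product of the degrees of the two non-principal members of X and of any member of Y is a perfect square. -/
theorem result {G : Type*} [Group G] [Finite G] (p : ℕ) [Fact p.Prime] (M : Ideal Cfsg.AlgInt) (hM : Cfsg.IsPModular p M) (P : Sylow p G) (hab : IsMulCommutative P) (hP1 : Nat.card P ≠ 1) (hCN : (Subgroup.centralizer ((P : Subgroup G) : Set G)).relIndex (Subgroup.normalizer ((P : Subgroup G) : Set G)) = 3) (hcyc : ∃ g : G, g ∈ Subgroup.normalizer ((P : Subgroup G) : Set G) ∧ Subgroup.centralizer ((P : Subgroup G) : Set G) ⊔ Subgroup.zpowers g = Subgroup.normalizer ((P : Subgroup G) : Set G)) (hm2 : 3 + 1 < Nat.card P) (hfrob : ∀ y : G, y ∈ (P : Subgroup G) → y ≠ 1 → Subgroup.centralizer ({y} : Set G) ⊓ Subgroup.normalizer ((P : Subgroup G) : Set G) = Subgroup.centralizer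 ((P : Subgroup G) : Set G)) : ∃ (X Y : Set (Cfsg.IrrCharacter G)), Cfsg.principalBlock M G = X ∪ Y ∧ Disjoint X Y ∧ Nat.card X = 3 ∧ Nat.card Y = (Nat.card P - 1) / 3 ∧ (∃ χ₁ ∈ X, (χ₁ : G → ℂ) = fun _ => 1) ∧ ∃ (a : Cfsg.IrrCharacter G → ℤ) (δ : ℤ) (ζ : (↥(P : Subgroup G) →* ℂˣ) → Cfsg.IrrCharacter G), (δ = 1 ∨ δ = -1) ∧ (∀ χ ∈ X, (a χ = 1 ∨ a χ = -1) ∧ ∀ z y : G, Cfsg.IsPPart p z y → y ∈ (P : Subgroup G) → y ≠ 1 → (χ : G → ℂ) z = (a χ : ℂ)) ∧ (∀ ψ : ↥(P : Subgroup G) →* ℂˣ, ψ ≠ 1 → ζ ψ ∈ Y) ∧ (∀ η ∈ Y, ∃ ψ : ↥(P : Subgroup G) →* ℂˣ, ψ ≠ 1 ∧ ζ ψ = η) ∧ (∀ ψ ψ' : ↥(P : Subgroup G) →* ℂˣ, ψ ≠ 1 → (∃ n : G, n ∈ Subgroup.normalizer ((P : Subgroup G) : Set G) ∧ ∀ w w' : ↥(P : Subgroup G), (w' : G) = n * w * n⁻¹ → ψ' w' = ψ w) → ζ ψ' = ζ ψ) ∧ (∀ ψ : ↥(P : Subgroup G) →* ℂˣ, ψ ≠ 1 → ∀ (z : G) (y : ↥(P : Subgroup G)), Cfsg.IsPPart p z (y : G) → (y : G) ≠ 1 → (ζ ψ : G → ℂ) z = (δ : ℂ) * ∑ᶠ ψ' ∈ {ψ' : ↥(P : Subgroup G) →* ℂˣ | ∃ n : G, n ∈ Subgroup.normalizer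 ((P : Subgroup G) : Set G) ∧ ∀ w w' : ↥(P : Subgroup G), (w' : G) = n * w * n⁻¹ → ψ' w' = ψ w}, ((ψ' y : ℂˣ) : ℂ)) ∧ ((∃ t : G, orderOf t = 2 ∧ ∀ K : Subgroup G, K.Normal → t ∈ K → K = ⊤) → Nat.card {χ : Cfsg.IrrCharacter G // χ ∈ X ∧ (χ : G → ℂ) ≠ (fun _ => 1) ∧ a χ = -1} + (if δ = 1 then 1 else 0) = 2 ∧ ∀ η ∈ Y, IsSquare (Cfsg.charDegree (η : G → ℂ) * ∏ᶠ χ ∈ {χ : Cfsg.IrrCharacter G | χ ∈ X ∧ (χ : G → ℂ) ≠ fun _ => 1}, Cfsg.charDegree (χ : G → ℂ))) := by
  classical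
  haveI := Fintype.ofFinite G
  haveI := CfsgLib.Chars.irrFintype G
  haveI : M.IsPrime := hM.2.1.isPrime
  haveI : Fintype (P : Subgroup G) := Fintype.ofFinite _
  haveI : Finite ((P : Subgroup G) →* ℂˣ) := by
    refine Nat.finite_of_card_ne_zero ?_
    rw [CfsgLib.Chars.card_monoidHom_units]
    exact Subgroup.index_ne_zero_of_finite
  haveI : Fintype ((P : Subgroup G) →* ℂˣ) := Fintype.ofFinite _
  have hc := fun u v : (P : Subgroup G) => hab.is_comm.comm u v
  obtain ⟨D⟩ := exists_inertialAut hCN hfrob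
  obtain ⟨T⟩ := exists_threeBlock hM hab D hfrob hm2
  have hpr : ∀ χ : IrrCharacter G, (χ : G → ℂ) = (fun _ => 1) ↔ χ = principal G := fun χ =>
    ⟨fun h => Subtype.ext h, fun h => by subst h; rfl⟩
  -- conjugation by the normalizer on linear characters
  have horb : ∀ ψ ψ' : (P : Subgroup G) →* ℂˣ,
      (∃ n : G, n ∈ Subgroup.normalizer ((P : Subgroup G) : Set G) ∧
        ∀ w w' : (P : Subgroup G), (w' : G) = n * w * n⁻¹ → ψ' w' = ψ w) ↔ ψ' ∈ D.orbit ψ := by
    intro ψ ψ'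
    rw [D.mem_orbit]
    constructor
    · rintro ⟨n, hn, h⟩
      rcases D.all n hn with h' | h' | h'
      · exact Or.inl (MonoidHom.ext fun w => h w w (h' w).symm)
      · have e : D.act ψ' = ψ := MonoidHom.ext fun w => h w _ (h' w).symm
        exact Or.inr (Or.inr (by rw [← e, D.act_cube]))
      · have e : D.act (D.act ψ') = ψ := MonoidHom.ext fun w => h w _ (h' w).symm
        exact Or.inr (Or.inl (by rw [← e, D.act_cube]))
    · obtain ⟨g, hg⟩ := D.real
      have hgN : g ∈ Subgroup.normalizer ((P : Subgroup G) : Set G) := by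
        refine Subgroup.mem_normalizer_iff.mpr fun h => ⟨fun hh => ?_, fun hh => ?_⟩
        · rw [hg ⟨h, hh⟩]; exact (D.σ ⟨h, hh⟩).2
        · have e := hg (D.σ.symm ⟨g * h * g⁻¹, hh⟩)
          rw [MulEquiv.apply_symm_apply] at e
          have e' := mul_left_cancel (mul_right_cancel e)
          exact e' ▸ (D.σ.symm ⟨g * h * g⁻¹, hh⟩).2
      rintro (rfl | rfl | rfl)
      · refine ⟨1, one_mem _, fun w w' hw => ?_⟩
        rw [show w' = w from Subtype.ext (by simpa using hw)]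
      · refine ⟨g * g, mul_mem hgN hgN, fun w w' hw => ?_⟩
        rw [show w' = D.σ (D.σ w) from Subtype.ext (by
          rw [hw, ← hg, ← hg, mul_inv_rev]; simp only [mul_assoc]), D.act_apply, D.cube]
      · refine ⟨g, hgN, fun w w' hw => ?_⟩
        rw [show w' = D.σ w from Subtype.ext (hw.trans (hg w)), D.act_apply, D.act_apply, D.cube]
  obtain ⟨ψ₀, hψ₀⟩ : ∃ ψ : (P : Subgroup G) →* ℂˣ, ψ ≠ 1 := by
    refine Fintype.exists_ne_of_one_lt_card ?_ 1
    rw [card_linear_eq_card hc, ← Nat.card_eq_fintype_card]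
    omega
  let S : Finset ((P : Subgroup G) →* ℂˣ) := Finset.univ.erase 1
  have hS : ∀ ψ, ψ ∈ S ↔ ψ ≠ 1 := fun ψ => by simp [S]
  refine ⟨{principal G, T.a, T.b}, T.e '' {ψ | ψ ≠ 1}, ?_, ?_, ?_, ?_, ⟨principal G, Or.inl rfl, rfl⟩,
    fun χ => if χ = principal G then 1 else if χ = T.a then -T.sa else -T.sb, T.δ, T.e, T.δ_pm,
    ?_, fun ψ hψ => ⟨ψ, hψ, rfl⟩, fun η hη => hη, ?_, ?_, ?_⟩
  · ext χ
    simp only [Set.mem_union, Set.mem_insert_iff, Set.mem_singleton_iff, Set.mem_image,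
      Set.mem_ofPred_eq]
    constructor
    · intro h
      rcases T.exhaust χ h with h | h | h | ⟨ψ, hψ, h⟩
      · exact Or.inl (Or.inl h)
      · exact Or.inl (Or.inr (Or.inl h))
      · exact Or.inl (Or.inr (Or.inr h))
      · exact Or.inr ⟨ψ, hψ, h.symm⟩
    · rintro ((rfl | rfl | rfl) | ⟨ψ, hψ, rfl⟩)
      · exact CfsgLib.Blocks.principal_mem_principalBlock M
      · exact T.a_mem
      · exact T.b_mem
      · exact T.e_mem ψ hψ
  · rw [Set.disjoint_left]
    rintro χ hχ ⟨ψ, hψ, rfl⟩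
    obtain ⟨h1, h2, h3⟩ := T.e_ne ψ hψ
    rcases hχ with h | h | h
    exacts [h1 h, h2 h, h3 h]
  · rw [Nat.card_coe_set_eq, Set.ncard_insert_of_notMem, Set.ncard_pair T.ab_ne]
    simp [T.a_ne.symm, T.b_ne.symm]
  · have e : T.e '' {ψ | ψ ≠ 1} = ↑(S.image T.e) := by ext χ; simp [hS]
    rw [e, Nat.card_coe_set_eq, Set.ncard_coe_finset]
    have h := Finset.card_eq_sum_card_fiberwise (f := T.e) (s := S) (t := S.image T.e)
      (fun x hx => Finset.mem_image_of_mem _ hx)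
    rw [Finset.sum_congr rfl (g := fun _ => 3) (fun η hη => ?_), Finset.sum_const, smul_eq_mul,
      Finset.card_erase_of_mem (Finset.mem_univ _), Finset.card_univ, card_linear_eq_card hc,
      ← Nat.card_eq_fintype_card] at h
    · omega
    · obtain ⟨ψ, hψ, rfl⟩ := Finset.mem_image.mp hη
      rw [hS] at hψ
      rw [← D.card_orbit hab hψ]
      congr 1
      ext φ
      simp only [Finset.mem_filter, hS]
      exact ⟨fun h => (T.e_eq ψ φ hψ h.1).mp h.2.symm, fun h =>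
        ⟨D.ne_one_of_mem_orbit hψ h, ((T.e_eq ψ φ hψ (D.ne_one_of_mem_orbit hψ h)).mpr h).symm⟩⟩
  · intro χ hχ
    simp only [Set.mem_insert_iff, Set.mem_singleton_iff] at hχ
    beta_reduce
    rcases hχ with rfl | rfl | rfl
    · refine ⟨Or.inl (if_pos rfl), fun z y _ _ _ => ?_⟩
      rw [if_pos rfl, principal_apply, Int.cast_one]
    · rw [if_neg T.a_ne, if_pos rfl]
      refine ⟨by rcases T.sa_pm with h | h <;> simp [h], fun z y hz hy hy1 => ?_⟩
      have hne : (⟨y, hy⟩ : (P : Subgroup G)) ≠ 1 := fun h => hy1 (congrArg Subtype.val h)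
      rw [apply_eq_of_pPart hM hab hfrob ⟨y, hy⟩ hne hz T.a_mem, T.a_val _ hne, Int.cast_neg]
    · rw [if_neg T.b_ne, if_neg T.ab_ne.symm]
      refine ⟨by rcases T.sb_pm with h | h <;> simp [h], fun z y hz hy hy1 => ?_⟩
      have hne : (⟨y, hy⟩ : (P : Subgroup G)) ≠ 1 := fun h => hy1 (congrArg Subtype.val h)
      rw [apply_eq_of_pPart hM hab hfrob ⟨y, hy⟩ hne hz T.b_mem, T.b_val _ hne, Int.cast_neg]
  · intro ψ ψ' hψ h
    have h' := (horb ψ ψ').mp h
    exact ((T.e_eq ψ ψ' hψ (D.ne_one_of_mem_orbit hψ h')).mpr h').symm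
  · intro ψ hψ z y hz hy
    have hne : y ≠ 1 := fun h => hy (by rw [h]; rfl)
    rw [apply_eq_of_pPart hM hab hfrob y hne hz (T.e_mem ψ hψ), T.e_val ψ hψ y hne]
    rw [show {ψ' : (P : Subgroup G) →* ℂˣ | ∃ n : G,
        n ∈ Subgroup.normalizer ((P : Subgroup G) : Set G) ∧
        ∀ w w' : (P : Subgroup G), (w' : G) = n * w * n⁻¹ → ψ' w' = ψ w} =
        ↑(D.orbit ψ) from Set.ext (horb ψ), finsum_mem_coe_finset]
  · rintro ⟨t, ht, hK⟩
    by_cases hp : p = 2
    · exact (T.false_of_two hM hp hab hfrob hm2 ht hK).elim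
    refine ⟨?_, ?_⟩
    · obtain ⟨h, -⟩ := T.signs_of_odd hM hp hab ht hK hψ₀
      refine Eq.trans ?_ h
      congr 1
      rw [Nat.subtype_card (({T.a, T.b} : Finset (IrrCharacter G)).filter fun χ =>
        (if χ = principal G then (1 : ℤ) else if χ = T.a then -T.sa else -T.sb) = -1)
        (fun χ => by
          simp only [Finset.mem_filter, Finset.mem_insert, Finset.mem_singleton,
            Set.mem_insert_iff, Set.mem_singleton_iff, ne_eq, hpr]
          constructor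
          · rintro ⟨h | h, h'⟩
            · exact ⟨Or.inr (Or.inl h), h ▸ T.a_ne, h'⟩
            · exact ⟨Or.inr (Or.inr h), h ▸ T.b_ne, h'⟩
          · rintro ⟨h | h | h, hne, h'⟩
            · exact absurd h hne
            · exact ⟨Or.inl h, h'⟩
            · exact ⟨Or.inr h, h'⟩), Finset.card_filter, Finset.sum_pair T.ab_ne]
      simp only [if_neg T.a_ne, if_neg T.b_ne, if_neg T.ab_ne.symm, if_true, neg_inj]
    · rintro η ⟨ψ, hψ, rfl⟩
      obtain ⟨-, h⟩ := T.signs_of_odd hM hp hab ht hK hψ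
      rw [show {χ : IrrCharacter G | χ ∈ ({principal G, T.a, T.b} : Set (IrrCharacter G)) ∧
          (χ : G → ℂ) ≠ fun _ => 1} = {T.a, T.b} from Set.ext fun χ => by
        simp only [Set.mem_ofPred_eq, Set.mem_insert_iff, Set.mem_singleton_iff, ne_eq, hpr]
        constructor
        · rintro ⟨h | h | h, hne⟩
          exacts [absurd h hne, Or.inl h, Or.inr h]
        · rintro (h | h)
          exacts [⟨Or.inr (Or.inl h), h ▸ T.a_ne⟩, ⟨Or.inr (Or.inr h), h ▸ T.b_ne⟩],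
        finprod_mem_pair T.ab_ne]
      exact h

end Cfsg.Agent.S4721
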