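import Cfsg.Statements.S4722
import Cfsg.Agent.Lib.CharApps.InvertedColumns

set_option autoImplicit false
open Cfsg

namespace Cfsg.Agent.S4722

/-- Let M be a maximal ideal of the algebraic integers containing 2, P a 2-subgroup of the finite group G, U a subset of P, and t an involution of G such that no element of U is inverted by any conjugate of t. Let θ be a generalized character of P vanishing outside U, and for χ in the principal 2-block B₀ put a_χ = #P⁻¹ Σ_{y ∈ P} χ(y) θ(y⁻¹). Then Σ_{χ ∈ B₀} a_χ χ(t)^2/χ(1) = 0, Σ_{χ ∈ B₀} a_χ χ(1) = 0 and Σ_{χ ∈ B₀} a_χ χ(t) = 0. If moreover #P⁻¹ Σ_{y ∈ P} θ(y) ≠ 0, then either at least two of the a_χ have positive real part and at least two have negative real part, or G has a proper normal subgroup containing O_2'(G) and t. -/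
theorem result {G : Type*} [Group G] [Finite G] (M : Ideal Cfsg.AlgInt) (hM : Cfsg.IsPModular 2 M) (P : Subgroup G) (hP : IsPGroup 2 P) (U : Set G) (hUP : U ⊆ (P : Set G)) (t : G) (ht : orderOf t = 2) (hinv : ∀ u ∈ U, ∀ g : G, (g * t * g⁻¹) * u * (g * t * g⁻¹)⁻¹ ≠ u⁻¹) (θ : ↥P → ℂ) (hθ : Cfsg.IsGeneralizedCharacter ↥P θ) (hθU : ∀ y : ↥P, (y : G) ∉ U → θ y = 0) : (∑ᶠ χ ∈ Cfsg.principalBlock M G, ((Nat.card ↥P : ℂ)⁻¹ * ∑ᶠ y : ↥P, (χ : G → ℂ) (y : G) * θ y⁻¹) * (χ : G → ℂ) t ^ 2 / (χ : G → ℂ) 1 = 0) ∧ (∑ᶠ χ ∈ Cfsg.principalBlock M G, ((Nat.card ↥P : ℂ)⁻¹ * ∑ᶠ y : ↥P, (χ : G → ℂ) (y : G) * θ y⁻¹) * (χ : G → ℂ) 1 = 0) ∧ (∑ᶠ χ ∈ Cfsg.principalBlock M G, ((Nat.card ↥P : ℂ)⁻¹ * ∑ᶠ y : ↥P, (χ : G → ℂ) (y : G) * θ y⁻¹) * (χ : G → ℂ) t = 0) ∧ ((Nat.card ↥P : ℂ)⁻¹ * ∑ᶠ y : ↥P, θ y ≠ 0 → (2 ≤ Nat.card {χ : Cfsg.IrrCharacter G // χ ∈ Cfsg.principalBlock M G ∧ 0 < (((Nat.card ↥P : ℂ)⁻¹ * ∑ᶠ y : ↥P,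 (χ : G → ℂ) (y : G) * θ y⁻¹)).re} ∧ 2 ≤ Nat.card {χ : Cfsg.IrrCharacter G // χ ∈ Cfsg.principalBlock M G ∧ (((Nat.card ↥P : ℂ)⁻¹ * ∑ᶠ y : ↥P, (χ : G → ℂ) (y : G) * θ y⁻¹)).re < 0}) ∨ ∃ K : Subgroup G, K.Normal ∧ K ≠ ⊤ ∧ Cfsg.pPrimeCore 2 G ≤ K ∧ t ∈ K) := by
  classical
  haveI := Fintype.ofFinite G
  haveI := hM.2.1.isPrime
  haveI : Fact (Nat.Prime 2) := ⟨Nat.prime_two⟩
  haveI := Fintype.ofFinite ↥P
  haveI := CfsgLib.Chars.irrFintype G
  set B := Cfsg.principalBlock M G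
  set s := Finset.univ.filter (fun χ : Cfsg.IrrCharacter G => χ ∈ B) with hs
  have hsum : ∀ f : Cfsg.IrrCharacter G → ℂ, ∑ᶠ χ ∈ B, f χ = ∑ χ ∈ s, f χ := fun f =>
    finsum_mem_eq_sum_of_inter_support_eq _ (by ext; simp [hs])
  simp only [finsum_eq_sum_of_fintype (M := ℂ) (α := ↥P), hsum]
  obtain ⟨a, ha⟩ : ∃ a : Cfsg.IrrCharacter G → ℂ, a = fun χ : Cfsg.IrrCharacter G =>
      (Nat.card ↥P : ℂ)⁻¹ * ∑ y : ↥P, (χ : G → ℂ) (y : G) * θ y⁻¹ := ⟨_, rfl⟩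
  have ha' : ∀ χ : Cfsg.IrrCharacter G,
      (Nat.card ↥P : ℂ)⁻¹ * ∑ y : ↥P, (χ : G → ℂ) (y : G) * θ y⁻¹ = a χ :=
    fun χ => (congrFun ha χ).symm
  simp only [ha']
  have htt : t * t = 1 := by rw [← sq, ← ht, pow_orderOf_eq_one]
  have htinv : t⁻¹ = t := inv_eq_of_mul_eq_one_right htt
  have htel : ∃ k, orderOf t = 2 ^ k := ⟨1, by rw [ht, pow_one]⟩
  have hyel : ∀ y : ↥P, ∃ k, orderOf (y : G) = 2 ^ k := fun y => by
    obtain ⟨k, hk⟩ := hP y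
    obtain ⟨i, -, hi⟩ := (Nat.dvd_prime_pow Nat.prime_two).mp (orderOf_dvd_of_pow_eq_one hk)
    exact ⟨i, by rw [Subgroup.orderOf_coe, hi]⟩
  -- columns of the support
  have key : ∀ f : Cfsg.IrrCharacter G → ℂ,
      (∀ y : ↥P, (y : G)⁻¹ ∈ U → ∑ χ ∈ s, f χ * (χ : G → ℂ) (y : G) = 0) →
      ∑ χ ∈ s, a χ * f χ = 0 := by
    intro f hf
    rw [ha]
    simp only [Finset.mul_sum, Finset.sum_mul]
    rw [Finset.sum_comm]
    refine Finset.sum_eq_zero fun y _ => ?_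
    by_cases hy : (y : G)⁻¹ ∈ U
    · rw [Finset.sum_congr rfl (g := fun χ => (Nat.card ↥P : ℂ)⁻¹ * θ y⁻¹ *
        (f χ * (χ : G → ℂ) (y : G))) (fun χ _ => by ring), ← Finset.mul_sum, hf y hy, mul_zero]
    · exact Finset.sum_eq_zero fun χ _ => by
        rw [hθU y⁻¹ (by rwa [Subgroup.coe_inv]), mul_zero, mul_zero, zero_mul]
  have hnoinv : ∀ y : ↥P, (y : G)⁻¹ ∈ U → ∀ g : G,
      (g * t * g⁻¹) * (y : G) * (g * t * g⁻¹)⁻¹ ≠ (y : G)⁻¹ := by
    intro y hy g h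
    refine hinv _ hy g ?_
    rw [inv_inv, show g * t * g⁻¹ * (y : G)⁻¹ * (g * t * g⁻¹)⁻¹ =
      (g * t * g⁻¹ * (y : G) * (g * t * g⁻¹)⁻¹)⁻¹ by group, h, inv_inv]
  have r1 : ∑ χ ∈ s, a χ * (χ : G → ℂ) t ^ 2 / (χ : G → ℂ) 1 = 0 := by
    rw [← key (fun χ => (χ : G → ℂ) t ^ 2 / (χ : G → ℂ) 1) fun y hy => ?_]
    · exact Finset.sum_congr rfl fun χ _ => by ring
    · rw [← hsum]
      exact CfsgLib.CharApps.sum_principal_sq_eq_zero hM htt (hyel y) (hnoinv y hy)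
  have r2 : ∑ χ ∈ s, a χ * (χ : G → ℂ) 1 = 0 := by
    refine key _ fun y hy => ?_
    rw [Finset.sum_congr rfl (g := fun χ : Cfsg.IrrCharacter G =>
      (χ : G → ℂ) (y : G) * (starRingEnd ℂ) ((χ : G → ℂ) 1)) (fun χ _ => by
        rw [CfsgLib.CharApps.conj_deg, mul_comm]), ← hsum]
    refine CfsgLib.CharApps.principal_column_orth_of_not_isConj hM (hyel y)
      ⟨0, by rw [orderOf_one, pow_zero]⟩ fun h => hnoinv y hy 1 ?_
    rw [isConj_one_left.mp h]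
    group
  have r3 : ∑ χ ∈ s, a χ * (χ : G → ℂ) t = 0 := by
    refine key _ fun y hy => ?_
    rw [Finset.sum_congr rfl (g := fun χ : Cfsg.IrrCharacter G =>
      (χ : G → ℂ) (y : G) * (starRingEnd ℂ) ((χ : G → ℂ) t)) (fun χ _ => by
        rw [← CfsgLib.Chars.irr_inv, htinv, mul_comm]), ← hsum]
    refine CfsgLib.CharApps.principal_column_orth_of_not_isConj hM (hyel y) htel fun h => ?_
    obtain ⟨g, hg⟩ := isConj_iff.mp h.symm
    refine hnoinv y hy g ?_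
    rw [← hg, mul_inv_cancel_right]
    exact (inv_eq_of_mul_eq_one_right (by
      rw [show g * t * g⁻¹ * (g * t * g⁻¹) = g * (t * t) * g⁻¹ by group, htt]; group)).symm
  refine ⟨r1, r2, r3, fun hm0 => ?_⟩
  -- the coefficients are integers
  have hθinv : ∀ y : ↥P, θ y⁻¹ = (starRingEnd ℂ) (θ y) := by
    obtain ⟨χ₁, χ₂, h1, h2, rfl⟩ := hθ
    intro y
    simp only [Pi.sub_apply, map_sub, CfsgLib.Chars.char_inv h1, CfsgLib.Chars.char_inv h2]
  have hint : ∀ χ : Cfsg.IrrCharacter G, ∃ n : ℤ, a χ = (n : ℂ) := by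
    intro χ
    obtain ⟨χ₁, χ₂, h1, h2, he⟩ := hθ
    obtain ⟨n1, hn1⟩ := CfsgLib.Chars.inner_char_nat (CfsgLib.Chars.isCharacter_restrict P
      (CfsgLib.Chars.isCharacter_of_irr χ.2)) h1
    obtain ⟨n2, hn2⟩ := CfsgLib.Chars.inner_char_nat (CfsgLib.Chars.isCharacter_restrict P
      (CfsgLib.Chars.isCharacter_of_irr χ.2)) h2
    refine ⟨(n1 : ℤ) - n2, ?_⟩
    rw [← ha', Finset.sum_congr rfl (g := fun y : ↥P =>
      (χ : G → ℂ) (y : G) * (starRingEnd ℂ) (θ y)) (fun y _ => by rw [hθinv])]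
    push_cast
    rw [← hn1, ← hn2, ← CfsgLib.Chars.inner_sub_right, ← he, CfsgLib.Chars.inner_def]
  choose n hn using hint
  have hre : ∀ χ, (a χ).re = (n χ : ℝ) := fun χ => by rw [hn χ, Complex.intCast_re]
  set one := CfsgLib.Chars.principal G with hone
  have honeB : one ∈ B := CfsgLib.Blocks.principal_mem_principalBlock M
  have hone0 : n one ≠ 0 := by
    intro h0
    apply hm0
    have h := hn one
    rw [h0, Int.cast_zero, ← ha'] at h
    rw [← h]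
    congr 1
    refine Fintype.sum_equiv (Equiv.inv ↥P) _ _ fun y => ?_
    simp [hone, CfsgLib.Chars.principal_apply]
  have hreal : ∀ χ : Cfsg.IrrCharacter G, (((χ : G → ℂ) t).re : ℂ) = (χ : G → ℂ) t := fun χ =>
    Complex.conj_eq_iff_re.mp (by rw [← CfsgLib.Chars.irr_inv, htinv])
  -- the real quadratic form
  have hq : ∀ r : ℝ, ∑ χ ∈ s, (n χ : ℝ) * (((χ : G → ℂ) t).re - r * (Cfsg.charDegree (χ : G → ℂ) : ℝ)) ^ 2 /
      (Cfsg.charDegree (χ : G → ℂ) : ℝ) = 0 := by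
    intro r
    apply Complex.ofReal_injective
    rw [Complex.ofReal_sum, Complex.ofReal_zero]
    have e : ∀ χ : Cfsg.IrrCharacter G, (((n χ : ℝ) * (((χ : G → ℂ) t).re -
        r * (Cfsg.charDegree (χ : G → ℂ) : ℝ)) ^ 2 / (Cfsg.charDegree (χ : G → ℂ) : ℝ) : ℝ) : ℂ) =
        a χ * (χ : G → ℂ) t ^ 2 / (χ : G → ℂ) 1 - 2 * (r : ℂ) * (a χ * (χ : G → ℂ) t) +
          (r : ℂ) ^ 2 * (a χ * (χ : G → ℂ) 1) := by
      intro χ
      push_cast
      rw [hreal, hn χ, ← CfsgLib.CharApps.deg_eq]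
      field_simp [CfsgLib.CharApps.deg_ne_zero χ]
      ring
    rw [Finset.sum_congr rfl (fun χ _ => e χ), Finset.sum_add_distrib, Finset.sum_sub_distrib,
      ← Finset.mul_sum, ← Finset.mul_sum, r1, r2, r3]
    ring
  -- few coefficients of one sign give a kernel
  have hmain : ∀ ε : ℤ, ε = 1 ∨ ε = -1 → ∀ χ₀ : Cfsg.IrrCharacter G,
      (∀ χ ∈ s, χ ≠ χ₀ → ε * n χ ≤ 0) →
      ∃ K : Subgroup G, K.Normal ∧ K ≠ ⊤ ∧ Cfsg.pPrimeCore 2 G ≤ K ∧ t ∈ K := by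
    intro ε hε χ₀ hsign
    have hd : ∀ χ : Cfsg.IrrCharacter G, (0 : ℝ) < (Cfsg.charDegree (χ : G → ℂ) : ℝ) := fun χ => by
      exact_mod_cast CfsgLib.CharApps.deg_pos χ
    set r : ℝ := ((χ₀ : G → ℂ) t).re / (Cfsg.charDegree (χ₀ : G → ℂ) : ℝ) with hr
    have hterms : ∀ χ ∈ s, n χ ≠ 0 →
        ((χ : G → ℂ) t).re = r * (Cfsg.charDegree (χ : G → ℂ) : ℝ) := by
      have h0 := hq r
      have hnn : ∀ χ ∈ s, (0 : ℝ) ≤ -((ε : ℝ) * ((n χ : ℝ) * (((χ : G → ℂ) t).re -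
          r * (Cfsg.charDegree (χ : G → ℂ) : ℝ)) ^ 2 / (Cfsg.charDegree (χ : G → ℂ) : ℝ))) := by
        intro χ hχ
        by_cases hc : χ = χ₀
        · rw [hc, hr, div_mul_cancel₀ _ (hd χ₀).ne', sub_self]
          simp
        · have hle : (ε : ℝ) * (n χ : ℝ) ≤ 0 := by exact_mod_cast hsign χ hχ hc
          rw [neg_nonneg, ← mul_div_assoc, ← mul_assoc]
          exact div_nonpos_of_nonpos_of_nonneg
            (mul_nonpos_of_nonpos_of_nonneg hle (sq_nonneg _)) (hd χ).le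
      have hz := (Finset.sum_eq_zero_iff_of_nonneg hnn).mp (by
        rw [Finset.sum_neg_distrib, ← Finset.mul_sum, h0, mul_zero, neg_zero])
      intro χ hχ hnχ
      have h := hz χ hχ
      have hεR : (ε : ℝ) ≠ 0 := by rcases hε with rfl | rfl <;> norm_num
      rw [neg_eq_zero, mul_eq_zero_iff_left hεR, div_eq_zero_iff] at h
      rcases h with h | h
      · exact sub_eq_zero.mp (pow_eq_zero_iff two_ne_zero |>.mp
          ((mul_eq_zero_iff_left (Int.cast_ne_zero.mpr hnχ)).mp h))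
      · exact absurd h (hd χ).ne'
    have hr1 : r = 1 := by
      have h := hterms one (Finset.mem_filter.mpr ⟨Finset.mem_univ _, honeB⟩) hone0
      rw [hone, CfsgLib.Chars.principal_apply, Complex.one_re,
        (CfsgLib.CharApps.deg_eq_one_iff (CfsgLib.Chars.principal G)).mp
          (CfsgLib.Chars.principal_apply 1), Nat.cast_one, mul_one] at h
      exact h.symm
    obtain ⟨χ, hχ, hχ1, hχ0⟩ : ∃ χ ∈ s, χ ≠ one ∧ n χ ≠ 0 := by
      by_contra hcon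
      simp only [not_exists, not_and, not_not] at hcon
      rw [Finset.sum_eq_single one (fun χ hχ hne => by rw [hn χ, hcon χ hχ hne]; simp)
        (fun h => absurd (Finset.mem_filter.mpr ⟨Finset.mem_univ _, honeB⟩) h), hn one] at r2
      exact mul_ne_zero (Int.cast_ne_zero.mpr hone0) (CfsgLib.CharApps.deg_ne_zero one) r2
    refine ⟨CfsgLib.CharApps.charKer χ, CfsgLib.CharApps.charKer_normal χ, fun htop => hχ1 ?_,
      fun x hx => ?_, ?_⟩
    · have hall : ∀ g : G, (χ : G → ℂ) g = (χ : G → ℂ) 1 := fun g =>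
        CfsgLib.CharApps.mem_charKer.mp (htop ▸ Subgroup.mem_top g)
      by_contra hne
      have h := CfsgLib.Chars.inner_irr_ne hne
      rw [CfsgLib.Chars.inner_def, Finset.sum_congr rfl (g := fun _ => (χ : G → ℂ) 1)
        (fun g _ => by rw [hall g, hone, CfsgLib.Chars.principal_apply]; simp),
        Finset.sum_const, Finset.card_univ, nsmul_eq_mul, ← Nat.card_eq_fintype_card, ← mul_assoc,
        inv_mul_cancel₀ (CfsgLib.Chars.card_ne_zero G), one_mul] at h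
      exact CfsgLib.CharApps.deg_ne_zero χ h
    · haveI := Cfsg.pPrimeCore_normal 2 G
      exact CfsgLib.CharApps.mem_charKer.mpr (CfsgLib.Blocks.principalBlock_apply_normal hM.2.2
        (CfsgLib.Base.not_dvd_card_pPrimeCore 2 G) (Finset.mem_filter.mp hχ).2 hx)
    · rw [CfsgLib.CharApps.mem_charKer, ← hreal, hterms χ hχ hχ0, hr1, one_mul,
        CfsgLib.CharApps.deg_eq]
      simp
  by_contra hcon
  rw [not_or] at hcon
  obtain ⟨hA, hB'⟩ := hcon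
  refine hA ⟨?_, ?_⟩
  · by_contra hlt
    haveI : Subsingleton {χ : Cfsg.IrrCharacter G // χ ∈ B ∧ 0 < (a χ).re} :=
      Finite.card_le_one_iff_subsingleton.mp (by omega)
    by_cases hex : ∃ χ₀ ∈ s, 0 < n χ₀
    · obtain ⟨χ₀, hχ₀, hpos⟩ := hex
      refine hB' (hmain 1 (Or.inl rfl) χ₀ fun χ hχ hne => ?_)
      by_contra hp
      refine hne (congrArg Subtype.val (Subsingleton.elim
        (⟨χ, (Finset.mem_filter.mp hχ).2, ?_⟩ : {χ : Cfsg.IrrCharacter G // χ ∈ B ∧ 0 < (a χ).re})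
        ⟨χ₀, (Finset.mem_filter.mp hχ₀).2, ?_⟩))
      · rw [hre]; exact_mod_cast (by omega : 0 < n χ)
      · rw [hre]; exact_mod_cast hpos
    · simp only [not_exists, not_and, not_lt] at hex
      exact hB' (hmain 1 (Or.inl rfl) one fun χ hχ _ => by rw [one_mul]; exact hex χ hχ)
  · by_contra hlt
    haveI : Subsingleton {χ : Cfsg.IrrCharacter G // χ ∈ B ∧ (a χ).re < 0} :=
      Finite.card_le_one_iff_subsingleton.mp (by omega)
    by_cases hex : ∃ χ₀ ∈ s, n χ₀ < 0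
    · obtain ⟨χ₀, hχ₀, hneg⟩ := hex
      refine hB' (hmain (-1) (Or.inr rfl) χ₀ fun χ hχ hne => ?_)
      by_contra hp
      refine hne (congrArg Subtype.val (Subsingleton.elim
        (⟨χ, (Finset.mem_filter.mp hχ).2, ?_⟩ : {χ : Cfsg.IrrCharacter G // χ ∈ B ∧ (a χ).re < 0})
        ⟨χ₀, (Finset.mem_filter.mp hχ₀).2, ?_⟩))
      · rw [hre]; exact_mod_cast (by omega : n χ < 0)
      · rw [hre]; exact_mod_cast hneg
    · simp only [not_exists, not_and, not_lt] at hex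
      exact hB' (hmain (-1) (Or.inr rfl) one fun χ hχ _ => by have := hex χ hχ; omega)

end Cfsg.Agent.S4722
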