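import Cfsg.Statements.S4723
import Cfsg.Agent.Lib.CharApps.InvariantHeightZero

set_option autoImplicit false
open Cfsg

namespace Cfsg.Agent.S4723

/-- Let p be a prime, M a maximal ideal of the algebraic integers containing p, H a normal subgroup of the finite group G and b a p-block of H. Let T be the stabilizer of b in G. Then b contains a character θ of height zero whose own stabilizer in G (the elements g with θ(g h g⁻¹) = θ(h) for all h ∈ H) has index prime to p in T, i.e. contains a Sylow p-subgroup of T. -/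
theorem result {G : Type*} [Group G] [Finite G] (p : ℕ) [Fact p.Prime] (M : Ideal Cfsg.AlgInt) (hM : Cfsg.IsPModular p M) (H : Subgroup G) [H.Normal] (b : Set (Cfsg.IrrCharacter ↥H)) (hb : Cfsg.IsPBlock M b) (T : Subgroup G) (hT : (∀ g : G, g ∈ T ↔ ∀ θ ∈ b, ∀ θ' : Cfsg.IrrCharacter ↥H, (∀ h h' : ↥H, (h' : G) = g * h * g⁻¹ → (θ' : ↥H → ℂ) h' = (θ : ↥H → ℂ) h) → θ' ∈ b)) : ∃ θ ∈ b, Cfsg.blockHeight p b (θ : ↥H → ℂ) = 0 ∧ ∃ S : Subgroup G, S ≤ T ∧ (∀ g : G, g ∈ S ↔ (g ∈ T ∧ ∀ h h' : ↥H, (h' : G) = g * h * g⁻¹ → (θ : ↥H → ℂ) h' = (θ : ↥H → ℂ) h)) ∧ ¬ p ∣ S.relIndex T := by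
  classical
  haveI := Fintype.ofFinite G
  haveI := Fintype.ofFinite H
  haveI : M.IsPrime := hM.2.1.isPrime
  have key : ∀ (g : G) (θ : Cfsg.IrrCharacter H),
      (∀ h h' : H, (h' : G) = g * h * g⁻¹ → (θ : H → ℂ) h' = (θ : H → ℂ) h) ↔
        CfsgLib.Blocks.conjIrr H g θ = θ := by
    intro g θ
    constructor
    · intro h
      exact Subtype.ext (funext fun n => h n _ rfl)
    · intro h n n' hn
      conv_rhs => rw [← h]
      exact congrArg (θ : H → ℂ) (Subtype.ext hn)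
  have hmem : ∀ g ∈ T, ∀ θ ∈ b, CfsgLib.Blocks.conjIrr H g θ ∈ b := by
    intro g hg θ hθ
    refine (hT g⁻¹).mp (inv_mem hg) θ hθ _ fun h h' hh' => ?_
    exact congrArg (θ : H → ℂ) (Subtype.ext (by
      show g * (h' : G) * g⁻¹ = h
      rw [hh']; group))
  obtain ⟨θ, hθ, h0, S, hST, hS, hdvd⟩ :=
    CfsgLib.CharApps.exists_height_zero_orbit H hM.2.2 hb T hmem
  exact ⟨θ, hθ, h0, S, hST, fun g => by rw [hS g, key], hdvd⟩

end Cfsg.Agent.S4723
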