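import Cfsg.Statements.S4725
import Cfsg.Agent.Lib.BlockOrth.InducedDegree

set_option autoImplicit false
open Cfsg CfsgLib.Chars CfsgLib.Blocks CfsgLib.BlockOrth

namespace Cfsg.Agent.S4725

/-- Let p be a prime, M a maximal ideal of the algebraic integers containing p, H a subgroup of the finite group G, and b a p-block of H inducing the p-block B of G, with b and B of the same defect. Then for every height-zero ζ ∈ b there is a height-zero χ ∈ B whose multiplicity in the character induced from ζ is not divisible by p. -/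
theorem result {G : Type*} [Group G] [Fintype G] (p : ℕ) [Fact p.Prime] (M : Ideal Cfsg.AlgInt) (hM : Cfsg.IsPModular p M) (H : Subgroup G) (b : Set (Cfsg.IrrCharacter ↥H)) (B : Set (Cfsg.IrrCharacter G)) (hind : Cfsg.IsInducedBlock M H b B) (hdef : Cfsg.blockDefect p b = Cfsg.blockDefect p B) (ζ : Cfsg.IrrCharacter ↥H) (hζ : ζ ∈ b) (hζ0 : Cfsg.blockHeight p b (ζ : ↥H → ℂ) = 0) : ∃ χ ∈ B, Cfsg.blockHeight p B (χ : G → ℂ) = 0 ∧ ∃ a : ℕ, Cfsg.classInner (Cfsg.indFun H (ζ : ↥H → ℂ)) (χ : G → ℂ) = (a : ℂ) ∧ ¬ p ∣ a := by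
  classical
  haveI := irrFintype G
  haveI : M.IsPrime := hM.2.1.isPrime
  have hpp : p.Prime := Fact.out
  have hζm := (blockHeight_eq_zero_iff (p := p) hζ).mp hζ0
  set θ := indFun H (ζ : H → ℂ) with hθ
  have hchar : IsCharacter G θ := isCharacter_indFun H (isCharacter_of_irr ζ.2)
  have hdeg : charDegree θ = H.index * charDegree (ζ : H → ℂ) := by
    have : θ 1 = ((H.index * charDegree (ζ : H → ℂ) : ℕ) : ℂ) := by
      rw [hθ, indFun_one_apply, irr_apply_one]; push_cast; rfl
    rw [charDegree, this, Complex.natCast_re, Nat.floor_natCast]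
  -- the valuation of the induced degree
  have hval : (charDegree θ).factorization p = blockMin p B := by
    rw [hdeg, Nat.factorization_mul Subgroup.index_ne_zero_of_finite (irr_charDegree_ne_zero ζ),
      Finsupp.add_apply]
    change H.index.factorization p + degVal p ζ = _
    have hidx : H.index.factorization p + (Nat.card H).factorization p =
        (Nat.card G).factorization p := by
      rw [← H.index_mul_card, Nat.factorization_mul Subgroup.index_ne_zero_of_finite
        Nat.card_pos.ne', Finsupp.add_apply]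
    have hd1 := blockMin_add_blockDefect (p := p) (B := b) ⟨ζ, hζ⟩
    have hd2 := blockMin_add_blockDefect (p := p) (B := B) (CfsgLib.Blocks.IsPBlock.nonempty hind.2.1)
    omega
  obtain ⟨⟨n, hn, hn0, hnv⟩, -⟩ := blockPart_indFun_valuation H hM.2.2 hind hζ
  rw [← hθ, hval] at hnv
  rw [← hθ] at hn
  -- expand the block part
  choose m hm using fun χ : IrrCharacter G => inner_irr_right_nat hchar χ
  have hsum : n = ∑ χ ∈ Finset.univ.filter (· ∈ B), m χ * charDegree (χ : G → ℂ) := by
    apply Nat.cast_injective (R := ℂ)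
    rw [← hn, blockPart]
    simp only [sum_mem_block, Nat.cast_sum, Nat.cast_mul, ← hm, ← irr_apply_one]
    convert rfl
  by_contra hcon
  have hdiv : p ^ (blockMin p B + 1) ∣ n := by
    rw [hsum]
    refine Finset.dvd_sum fun χ hχ => ?_
    have hχB : χ ∈ B := (Finset.mem_filter.mp hχ).2
    rcases eq_or_lt_of_le (blockMin_le (p := p) hχB) with h | h
    · have hp' : p ∣ m χ := by
        by_contra hp'
        exact hcon ⟨χ, hχB, (blockHeight_eq_zero_iff hχB).mpr h.symm, m χ, hm χ, hp'⟩
      rw [pow_succ']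
      exact mul_dvd_mul hp' (h ▸ Nat.ordProj_dvd _ p)
    · exact dvd_mul_of_dvd_right ((pow_dvd_pow p h).trans (Nat.ordProj_dvd _ p)) _
  rw [hpp.pow_dvd_iff_le_factorization hn0] at hdiv
  omega

end Cfsg.Agent.S4725
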