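import Cfsg.Statements.S4726
import Cfsg.Agent.Lib.Blocks.InducedDefined

set_option autoImplicit false
open Cfsg

namespace Cfsg.Agent.S4726

/-- Let p be a prime, M a maximal ideal of the algebraic integers containing p, H a subgroup of the finite group G and b a p-block of H with defect group D₀ such that C_G(D₀) ≤ H. Then b induces a block of G, and for every block B of G induced by b there is a defect group D of B with Z(D) ≤ Z(D₀) ≤ D₀ ≤ D (as subgroups of G). In particular, if the defect groups of B are abelian then D₀ is a defect group of B. -/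
theorem result {G : Type*} [Group G] [Finite G] (p : ℕ) [Fact p.Prime] (M : Ideal Cfsg.AlgInt) (hM : Cfsg.IsPModular p M) (H : Subgroup G) (b : Set (Cfsg.IrrCharacter ↥H)) (hb : Cfsg.IsPBlock M b) (D₀ : Subgroup ↥H) (hD₀ : Cfsg.IsDefectGroup p M b D₀) (hC : Subgroup.centralizer ((D₀.map H.subtype : Subgroup G) : Set G) ≤ H) : Cfsg.InducedBlockDefined M H b ∧ ∀ B : Set (Cfsg.IrrCharacter G), Cfsg.IsInducedBlock M H b B → (∃ D : Subgroup G, Cfsg.IsDefectGroup p M B D ∧ (Subgroup.center ↥D).map D.subtype ≤ ((Subgroup.center ↥D₀).map D₀.subtype).map H.subtype ∧ ((Subgroup.center ↥D₀).map D₀.subtype).map H.subtype ≤ D₀.map H.subtype ∧ D₀.map H.subtype ≤ D) ∧ (∀ D : Subgroup G, Cfsg.IsDefectGroup p M B D → IsMulCommutative ↥D → Cfsg.IsDefectGroup p M B (D₀.map H.subtype)) := by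
  classical
  haveI : M.IsPrime := hM.2.1.isPrime
  haveI := Fintype.ofFinite G
  haveI := Fintype.ofFinite H
  obtain ⟨B₀, D, hB₀, hD, hle, hz⟩ := CfsgLib.Blocks.InducedDef.main hM.2.2 hb hD₀ hC
  refine ⟨⟨B₀, hB₀⟩, fun B hB => ?_⟩
  obtain rfl := CfsgLib.Blocks.IsInducedBlock.unique hB hB₀
  refine ⟨⟨D, hD, hz, Subgroup.map_mono (Subgroup.map_subtype_le _), hle⟩, fun D' hD' hcomm => ?_⟩
  obtain ⟨x, hx⟩ := CfsgLib.Blocks.IsDefectGroup.exists_conj_eq hM.2.2 hB.2.1 hD' hD
  haveI := hcomm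
  have hDD : D₀.map H.subtype = D := by
    refine le_antisymm hle fun u hu => ?_
    have h1 : (⟨u, hu⟩ : D) ∈ Subgroup.center D := by
      refine Subgroup.mem_center_iff.2 fun v => ?_
      obtain ⟨a, ha, hau⟩ : u ∈ D'.map (MulAut.conj x).toMonoidHom := by rw [hx]; exact hu
      obtain ⟨c, hc, hcv⟩ : (v : G) ∈ D'.map (MulAut.conj x).toMonoidHom := by rw [hx]; exact v.2
      refine Subtype.ext ?_
      show (v : G) * u = u * v
      rw [← hau, ← hcv, ← map_mul, ← map_mul]
      exact congrArg _ (congrArg Subtype.val (IsMulCommutative.is_comm.comm (⟨c, hc⟩ : D') ⟨a, ha⟩))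
    exact ((Subgroup.map_mono (Subgroup.map_subtype_le _)) : _ ≤ D₀.map H.subtype)
      (hz (Subgroup.mem_map_of_mem _ h1))
  exact hDD ▸ hD

end Cfsg.Agent.S4726
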