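import Cfsg.Statements.S4727
import Cfsg.Agent.Lib.Blocks.PiPrimeKernel

set_option autoImplicit false
open Cfsg

namespace Cfsg.Agent.S4727

/-- Let p be a prime, π a set of primes containing p, M a maximal ideal of the algebraic integers containing p, and B a p-block of the finite group G with defect group D; let B₁ be the block of N_G(D) with defect group D that induces B (the Brauer correspondent of B). Suppose every element of O_π'(N_G(D)), the largest normal subgroup of N_G(D) whose order has no prime divisor in π, lies in the kernel of every member of B₁. If y is a p-element whose centralizer C has a normal Hall π'-subgroup (every element of C whose order has no prime divisor in π lies in O_π'(C)), then χ(y x) = χ(y) for every χ ∈ B and every x ∈ C whose order has no prime divisor in π. -/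
theorem result {G : Type*} [Group G] [Finite G] (p : ℕ) [Fact p.Prime] (M : Ideal Cfsg.AlgInt) (hM : Cfsg.IsPModular p M) (π : Set ℕ) (hpπ : p ∈ π) (B : Set (Cfsg.IrrCharacter G)) (hB : Cfsg.IsPBlock M B) (D : Subgroup G) (hBD : Cfsg.IsDefectGroup p M B D) (B₁ : Set (Cfsg.IrrCharacter ↥(Subgroup.normalizer (D : Set G)))) (hB₁ : Cfsg.IsInducedBlock M (Subgroup.normalizer (D : Set G)) B₁ B) (hB₁D : Cfsg.IsDefectGroup p M B₁ (D.subgroupOf (Subgroup.normalizer (D : Set G)))) (hker : ∀ n : ↥(Subgroup.normalizer (D : Set G)), n ∈ Cfsg.piCore {q | q ∉ π} ↥(Subgroup.normalizer (D : Set G)) → n ∈ Cfsg.blockKer B₁) (y : G) (hy : ∃ k : ℕ, orderOf y = p ^ k) (hC : ∀ x : ↥(Subgroup.centralizer ({y} : Set G)), (∀ q : ℕ, q.Prime → q ∣ orderOf x → q ∉ π) → x ∈ Cfsg.piCore {q | q ∉ π} ↥(Subgroup.centralizer ({y} : Set G))) : ∀ χ ∈ B, ∀ x : G, x ∈ Subgroup.centralizer ({y} : Set G) → (∀ q : ℕ, q.Prime → q ∣ orderOf x → q ∉ π) → (χ : G → ℂ) (y * x) = (χ : G → ℂ) y := by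
  classical
  haveI : M.IsPrime := hM.2.1.isPrime
  haveI := Fintype.ofFinite G
  haveI := Fintype.ofFinite (Subgroup.centralizer ({y} : Set G))
  obtain ⟨e, hmax, hiff⟩ := CfsgLib.Blocks.PiKernel.exists_maximal_pair_iff hM.2.2 hpπ hB hBD hB₁ hB₁D
  intro χ hχ x hx hxπ
  refine CfsgLib.Blocks.PiKernel.apply_mul_eq_of_blockKer hM hy hB hχ
    (x := ⟨x, hx⟩) ?_ ?_
  · rw [Subgroup.orderOf_mk]
    exact fun hd => hxπ p Fact.out hd hpπ
  intro b hb
  obtain ⟨D₀, hD₀⟩ := CfsgLib.Blocks.exists_isDefectGroup (p := p) hb.1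
  obtain ⟨k, hk⟩ := hy
  let y' : Subgroup.centralizer ({y} : Set G) :=
    ⟨y, Subgroup.mem_centralizer_singleton_iff.2 rfl⟩
  have hyc : y' ∈ Subgroup.center (Subgroup.centralizer ({y} : Set G)) :=
    Subgroup.mem_center_iff.2 fun g => Subtype.ext (Subgroup.mem_centralizer_singleton_iff.1 g.2)
  haveI : (Subgroup.zpowers y').Normal :=
    ⟨fun n hn g => by
      have hc := Subgroup.mem_center_iff.1 ((Subgroup.zpowers_le.2 hyc) hn) g
      rwa [hc, mul_inv_cancel_right]⟩
  have hyp : IsPGroup p (Subgroup.zpowers y') :=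
    IsPGroup.of_card (n := k) (by rw [Nat.card_zpowers, Subgroup.orderOf_mk, hk])
  have hle := CfsgLib.Blocks.IsDefectGroup.normal_le hM.2.2 hb.1 hD₀ hyp
  refine CfsgLib.Blocks.PiKernel.blockKer_local hM.2.2 hpπ (b := ⟨D, e⟩) hmax (hiff.2 hker) hb hD₀
    (fun c hc => ?_) _ (hC _ fun q hq hd => hxπ q hq (by rwa [Subgroup.orderOf_mk] at hd))
  exact Subgroup.mem_centralizer_singleton_iff.2
    (Subgroup.mem_centralizer_iff.1 hc y ⟨y', hle (Subgroup.mem_zpowers y'), rfl⟩).symm

end Cfsg.Agent.S4727
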