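import Cfsg.Statements.S4732
import Cfsg.Agent.Lib.BrauerFeit.Main

set_option autoImplicit false
universe u v
open Cfsg

namespace Cfsg.Agent.S4732

/-- Let p be a prime. There is a function f of two natural-number arguments such that every finite group G admitting a faithful representation of degree n over a field of characteristic p, with Sylow p-subgroups of order p^m, has a normal abelian subgroup A with [G : A] < f(m, n). -/
theorem result (p : ℕ) [Fact p.Prime] : ∃ f : ℕ → ℕ → ℕ, ∀ (G : Type u) [Group G] [Finite G] (F : Type v) [Field F] [CharP F p] (n : ℕ) (ρ : Representation F G (Fin n → F)), Function.Injective ρ → ∀ m : ℕ, (Nat.card G).factorization p = m → ∃ A : Subgroup G, A.Normal ∧ IsMulCommutative A ∧ A.index < f m n := by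
  refine ⟨fun m n => Nat.factorial (CfsgLib.BrauerFeit.bfBound (p ^ m) n) + 1,
    fun G _ _ F _ _ n ρ hρ m hm => ?_⟩
  let K := AlgebraicClosure F
  haveI : CharP K p := charP_of_injective_algebraMap (RingHom.injective (algebraMap F K)) p
  let ρK : Representation K G (Fin n → K) :=
    (Matrix.toLinAlgEquiv' : Matrix (Fin n) (Fin n) K ≃ₐ[K] _).toAlgHom.toMonoidHom.comp
      (((algebraMap F K).mapMatrix : Matrix (Fin n) (Fin n) F →+* _).toMonoidHom.comp
        ((LinearMap.toMatrixAlgEquiv' : _ ≃ₐ[F] Matrix (Fin n) (Fin n) F).toAlgHom.toMonoidHom.comp ρ))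
  have hρK : Function.Injective ρK := fun a b h =>
    hρ (LinearMap.toMatrixAlgEquiv'.injective
      (Matrix.map_injective (RingHom.injective (algebraMap F K))
        (Matrix.toLinAlgEquiv'.injective h)))
  obtain ⟨A, hAi, hAc⟩ := CfsgLib.BrauerFeit.bfProp (p := p) (m := m) (K := K) n (Fin n → K)
    (le_of_eq (Module.finrank_fin_fun K)) G (le_of_eq hm) ρK
  refine ⟨A.normalCore, inferInstance, ⟨⟨fun a b => Subtype.ext
    (hρK (hAc _ (A.normalCore_le a.2) _ (A.normalCore_le b.2)))⟩⟩, Nat.lt_succ_of_le ?_⟩
  rw [Subgroup.normalCore_eq_ker, Subgroup.index_ker]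
  refine (Subgroup.card_le_card_group _).trans ?_
  rw [Nat.card_perm, ← Subgroup.index_eq_card]
  exact Nat.factorial_le hAi

end Cfsg.Agent.S4732
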