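import Cfsg.Statements.S4735
import Cfsg.Agent.Lib.CharApps.PrincipalRational
import Cfsg.Agent.Lib.CharApps.Codegree
import Cfsg.Agent.Lib.Blocks.PrincipalBlock

set_option autoImplicit false
open Cfsg

namespace Cfsg.Agent.S4735

/-- Let p be a prime, M a maximal ideal of the algebraic integers containing p, G a finite group, H = O_p'(G) and Ḡ = G/H. For x ∈ G write λ(G, x) for the sum of |χ(x)|^2 over the irreducible characters χ in the principal p-block of G. Then λ(G, x) is a positive integer, λ(G, x) = λ(Ḡ, x̄) where x̄ is the image of x, and λ(G, x) ≤ #C_Ḡ(x̄). Moreover λ(G, 1) = [G : H] if and only if the principal block is the only p-block of Ḡ. -/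
theorem result {G : Type*} [Group G] [Finite G] (p : ℕ) [Fact p.Prime] (M : Ideal Cfsg.AlgInt) (hM : Cfsg.IsPModular p M) (x : G) : (∃ n : ℕ, 0 < n ∧ ∑ᶠ χ ∈ Cfsg.principalBlock M G, Complex.normSq ((χ : G → ℂ) x) = n) ∧ ∑ᶠ χ ∈ Cfsg.principalBlock M G, Complex.normSq ((χ : G → ℂ) x) = ∑ᶠ ψ ∈ Cfsg.principalBlock M (G ⧸ Cfsg.pPrimeCore p G), Complex.normSq ((ψ : G ⧸ Cfsg.pPrimeCore p G → ℂ) (QuotientGroup.mk x)) ∧ ∑ᶠ χ ∈ Cfsg.principalBlock M G, Complex.normSq ((χ : G → ℂ) x) ≤ (Nat.card ↥(Subgroup.centralizer ({(QuotientGroup.mk x : G ⧸ Cfsg.pPrimeCore p G)} : Set (G ⧸ Cfsg.pPrimeCore p G))) : ℝ) ∧ ((∑ᶠ χ ∈ Cfsg.principalBlock M G, Cfsg.charDegree (χ : G → ℂ) ^ 2) = (Cfsg.pPrimeCore p G).index ↔ ∀ B : Set (Cfsg.IrrCharacter (G ⧸ Cfsg.pPrimeCore p G)), Cfsg.IsPBlock M B → B = Cfsg.principalBlock M (G ⧸ Cfsg.pPrimeCore p G)) := by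
  classical
  haveI := Fintype.ofFinite G
  haveI := hM.2.1.isPrime
  set H := Cfsg.pPrimeCore p G with hHdef
  haveI : H.Normal := Cfsg.pPrimeCore_normal p G
  have hH : ¬ p ∣ Nat.card H := CfsgLib.Base.not_dvd_card_pPrimeCore p G
  haveI := Fintype.ofFinite (G ⧸ H)
  haveI := CfsgLib.Chars.irrFintype G
  haveI := CfsgLib.Chars.irrFintype (G ⧸ H)
  set B := Cfsg.principalBlock M G
  set B' := Cfsg.principalBlock M (G ⧸ H) with hB'
  set s := Finset.univ.filter (fun χ : Cfsg.IrrCharacter G => χ ∈ B) with hs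
  set s' := Finset.univ.filter (fun χ : Cfsg.IrrCharacter (G ⧸ H) => χ ∈ B') with hs'
  have htr : ∀ (R : Type) [AddCommMonoid R] (f : Cfsg.IrrCharacter G → R),
      ∑ χ ∈ s, f χ = ∑ ψ ∈ s', f (CfsgLib.CharApps.inflate H ψ) := by
    intro R _ f
    refine (Finset.sum_nbij (CfsgLib.CharApps.inflate H) (fun ψ hψ => ?_)
      (fun a _ b _ h => CfsgLib.CharApps.inflate_injective H h) (fun χ hχ => ?_)
      (fun ψ _ => rfl)).symm
    · exact Finset.mem_filter.mpr ⟨Finset.mem_univ _, (CfsgLib.CharApps.inflate_mem_principalBlock_iff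
        hM.2.2 H hH ψ).mpr (Finset.mem_filter.mp hψ).2⟩
    · have hχB : χ ∈ B := by simpa [hs] using hχ
      obtain ⟨ψ, rfl⟩ := CfsgLib.CharApps.exists_inflate H χ fun n hn =>
        CfsgLib.CharApps.mem_charKer.mpr
          (CfsgLib.Blocks.principalBlock_apply_normal hM.2.2 hH hχB hn)
      refine ⟨ψ, ?_, rfl⟩
      exact Finset.mem_filter.mpr ⟨Finset.mem_univ _,
        (CfsgLib.CharApps.inflate_mem_principalBlock_iff hM.2.2 H hH ψ).mp hχB⟩
  have hfs : ∀ (R : Type) [AddCommMonoid R] (f : Cfsg.IrrCharacter G → R),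
      ∑ᶠ χ ∈ B, f χ = ∑ χ ∈ s, f χ := fun R _ f =>
    finsum_mem_eq_sum_of_inter_support_eq _ (by ext; simp [hs])
  have hfs' : ∀ (R : Type) [AddCommMonoid R] (f : Cfsg.IrrCharacter (G ⧸ H) → R),
      ∑ᶠ χ ∈ B', f χ = ∑ χ ∈ s', f χ := fun R _ f =>
    finsum_mem_eq_sum_of_inter_support_eq _ (by ext; simp [hs'])
  rw [hfs, hfs, hfs' ℝ]
  have heq : ∑ χ ∈ s, Complex.normSq ((χ : G → ℂ) x) =
      ∑ ψ ∈ s', Complex.normSq ((ψ : G ⧸ H → ℂ) (QuotientGroup.mk x)) := htr ℝ _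
  refine ⟨?_, heq, ?_, ?_⟩
  · obtain ⟨m, hm⟩ := CfsgLib.CharApps.exists_int_principal_normSq (M := M) hM.2.2 x
    have hm' : (m : ℝ) = ∑ χ ∈ s, Complex.normSq ((χ : G → ℂ) x) := by
      apply Complex.ofReal_injective
      rw [Complex.ofReal_intCast, hm, Complex.ofReal_sum]
      exact Finset.sum_congr rfl fun χ _ => Complex.mul_conj _
    have h1 : (1 : ℝ) ≤ ∑ χ ∈ s, Complex.normSq ((χ : G → ℂ) x) := by
      refine le_trans (le_of_eq ?_) (Finset.single_le_sum
        (f := fun χ : Cfsg.IrrCharacter G => Complex.normSq ((χ : G → ℂ) x))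
        (fun χ _ => Complex.normSq_nonneg _)
        (Finset.mem_filter.mpr ⟨Finset.mem_univ (CfsgLib.Chars.principal G),
          CfsgLib.Blocks.principal_mem_principalBlock M⟩))
      simp [CfsgLib.Chars.principal_apply]
    rw [← hm'] at h1
    have hm1 : (1 : ℤ) ≤ m := by exact_mod_cast h1
    refine ⟨m.toNat, by omega, ?_⟩
    rw [← hm']
    exact_mod_cast (Int.toNat_of_nonneg (by omega : (0 : ℤ) ≤ m)).symm
  · rw [heq]
    refine le_trans (Finset.sum_le_sum_of_subset_of_nonneg (Finset.subset_univ _)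
      fun ψ _ _ => Complex.normSq_nonneg _) (le_of_eq ?_)
    apply Complex.ofReal_injective
    rw [Complex.ofReal_sum, Complex.ofReal_natCast]
    have h := CfsgLib.Chars.second_orthogonality (QuotientGroup.mk x : G ⧸ H) (QuotientGroup.mk x)
    rw [if_pos (IsConj.refl _)] at h
    rw [← h]
    exact Finset.sum_congr rfl fun χ _ => (Complex.mul_conj _).symm
  · rw [htr ℕ, H.index_eq_card, ← CfsgLib.CharApps.sum_degree_sq_nat (G := G ⧸ H)]
    simp only [CfsgLib.CharApps.inflate_charDegree]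
    constructor
    · intro he B₀ hB₀
      obtain ⟨χ, hχ⟩ := CfsgLib.Blocks.IsPBlock.nonempty hB₀
      refine CfsgLib.Blocks.IsPBlock.eq_of_mem hB₀
        (CfsgLib.Blocks.isPBlock_principalBlock M) hχ ?_
      by_contra hχB
      have hlt := Finset.sum_lt_sum_of_subset
        (f := fun ψ : Cfsg.IrrCharacter (G ⧸ H) => Cfsg.charDegree (ψ : G ⧸ H → ℂ) ^ 2)
        (Finset.subset_univ s') (Finset.mem_univ χ) (by simpa [hs'] using hχB)
        (pow_pos (CfsgLib.CharApps.deg_pos χ) 2) (fun j _ _ => Nat.zero_le _)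
      exact hlt.ne he
    · intro hall
      refine Finset.sum_subset (Finset.subset_univ s') fun χ _ hχ => absurd ?_ hχ
      rw [hs', Finset.mem_filter, ← hall _ (CfsgLib.Blocks.isPBlock_blockOf χ)]
      exact ⟨Finset.mem_univ _, CfsgLib.Blocks.mem_blockOf_self χ⟩

end Cfsg.Agent.S4735
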