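import Cfsg.Statements.S4740
import Cfsg.Agent.Lib.CharApps.ClassCount

set_option autoImplicit false
open Cfsg

namespace Cfsg.Agent.S4740

/-- Let p be an odd prime, G a finite group of even order, x an involution of G and P a subgroup of G of order p ^ c such that no conjugate of x inverts a non-identity element of P. If p ^ a is the p-part of the order of C_G(x), then some irreducible character of G has degree divisible by p ^ (c - a). -/
theorem result {G : Type*} [Group G] [Finite G] (p : ℕ) [Fact p.Prime] (hp2 : p ≠ 2) (hG : Even (Nat.card G)) (x : G) (hx : orderOf x = 2) (P : Subgroup G) (c : ℕ) (hP : Nat.card ↥P = p ^ c) (hinv : ∀ g : G, IsConj x g → ∀ z ∈ P, z ≠ 1 → g * z * g⁻¹ ≠ z⁻¹) (a : ℕ) (ha : (Nat.card ↥(Subgroup.centralizer ({x} : Set G))).factorization p = a) : ∃ χ : Cfsg.IrrCharacter G, p ^ (c - a) ∣ Cfsg.charDegree (χ : G → ℂ) := by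
  classical
  haveI := Fintype.ofFinite G
  refine CfsgLib.CharApps.exists_pow_dvd_degree (Fact.out) x P c a hP ha ?_
  intro g k hg hk hmem
  by_contra hne
  have hx2 : x * x = 1 := by rw [← sq, ← hx, pow_orderOf_eq_one]
  have sqone : ∀ t : G, IsConj x t → t * t = 1 := by
    intro t ht
    obtain ⟨b, rfl⟩ := isConj_iff.mp ht
    rw [show b * x * b⁻¹ * (b * x * b⁻¹) = b * (x * x) * b⁻¹ by group, hx2]
    group
  refine hinv g hg _ hmem hne ?_
  have hg' : g⁻¹ = g := inv_eq_of_mul_eq_one_right (sqone g hg)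
  rw [hg', mul_inv_rev, inv_inv, hg', ← mul_assoc g g, sqone g hg, one_mul]
  rw [inv_eq_of_mul_eq_one_right (sqone k hk)]

end Cfsg.Agent.S4740
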