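import Cfsg.Statements.S4742
import Cfsg.Agent.Lib.CharApps.ClassCount

set_option autoImplicit false
open Cfsg

namespace Cfsg.Agent.S4742

/-- Let p ≠ q be primes dividing the order of the finite group G, and suppose the centralizer of every non-identity p-element of G has order prime to q. Then either G has an irreducible character of p-defect zero, or for every non-identity q-element z of G there are conjugates g, h of z such that g h⁻¹ is a non-identity p-element. -/
theorem result {G : Type*} [Group G] [Finite G] (p q : ℕ) [Fact p.Prime] [Fact q.Prime] (hppq : p ≠ q) (hpG : p ∣ Nat.card G) (hqG : q ∣ Nat.card G) (hC : ∀ g : G, g ≠ 1 → (∃ k : ℕ, orderOf g = p ^ k) → ¬ q ∣ Nat.card ↥(Subgroup.centralizer ({g} : Set G))) : (∃ χ : Cfsg.IrrCharacter G, (Cfsg.charDegree (χ : G → ℂ)).factorization p = (Nat.card G).factorization p) ∨ ∀ z : G, z ≠ 1 → (∃ k : ℕ, orderOf z = q ^ k) → ∃ g h : G, IsConj z g ∧ IsConj z h ∧ g * h⁻¹ ≠ 1 ∧ ∃ k : ℕ, orderOf (g * h⁻¹) = p ^ k := by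
  classical
  haveI := Fintype.ofFinite G
  by_cases hno : ∀ z : G, z ≠ 1 → (∃ k : ℕ, orderOf z = q ^ k) →
      ∃ g h : G, IsConj z g ∧ IsConj z h ∧ g * h⁻¹ ≠ 1 ∧ ∃ k : ℕ, orderOf (g * h⁻¹) = p ^ k
  · exact Or.inr hno
  refine Or.inl ?_
  simp only [not_forall, not_exists] at hno
  obtain ⟨z, hz1, ⟨k, hk⟩, hz⟩ := hno
  obtain ⟨P⟩ : Nonempty (Sylow p G) := inferInstance
  have hq : q ∣ orderOf z := by
    rw [hk]
    refine dvd_pow_self q ?_
    rintro rfl
    exact hz1 (orderOf_eq_one_iff.mp (by simpa using hk))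
  have ha : (Nat.card ↥(Subgroup.centralizer ({z} : Set G))).factorization p = 0 := by
    refine Nat.factorization_eq_zero_of_not_dvd fun hdvd => ?_
    obtain ⟨w, hw⟩ := exists_prime_orderOf_dvd_card' (G := ↥(Subgroup.centralizer ({z} : Set G))) p hdvd
    have hw' : orderOf (w : G) = p := by rw [Subgroup.orderOf_coe, hw]
    refine hC w ?_ ⟨1, by rw [hw', pow_one]⟩ ?_
    · intro h1
      exact (Fact.out : p.Prime).ne_one (by rw [← hw', h1, orderOf_one])
    · have hzmem : z ∈ Subgroup.centralizer ({(w : G)} : Set G) :=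
        Subgroup.mem_centralizer_singleton_iff.mpr
          (Subgroup.mem_centralizer_singleton_iff.mp w.2).symm
      refine hq.trans ?_
      rw [← Subgroup.orderOf_mk z hzmem]
      exact orderOf_dvd_natCard _
  obtain ⟨χ, hχ⟩ := CfsgLib.CharApps.exists_pow_dvd_degree (Fact.out : p.Prime) z (P : Subgroup G)
    _ 0 P.card_eq_multiplicity ha (fun g h hg hh hmem => by
      by_contra hne
      obtain ⟨j, hj⟩ := P.isPGroup'.exists_card_eq
      have hd : orderOf (g * h⁻¹) ∣ p ^ j := by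
        rw [← hj, ← Subgroup.orderOf_mk _ hmem]
        exact orderOf_dvd_natCard _
      obtain ⟨i, -, hi⟩ := (Nat.dvd_prime_pow (Fact.out : p.Prime)).mp hd
      exact hz g h ⟨hg, hh, hne, i, hi⟩)
  refine ⟨χ, le_antisymm ?_ ?_⟩
  · obtain ⟨n, hn0, hn, hnG⟩ := CfsgLib.Chars.irr_degree_dvd_card χ.2
    rw [show Cfsg.charDegree (χ : G → ℂ) = n by simp [Cfsg.charDegree, hn]]
    exact (Nat.factorization_le_iff_dvd hn0.ne' Nat.card_pos.ne').mpr hnG p
  · rw [Nat.sub_zero] at hχ
    exact ((Fact.out : p.Prime).pow_dvd_iff_le_factorization (CfsgLib.CharApps.deg_pos χ).ne').mp hχ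

end Cfsg.Agent.S4742
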