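import Cfsg.Statements.S4744
import Cfsg.Agent.Lib.CharApps.ElementCentralizers

set_option autoImplicit false
open Cfsg

namespace Cfsg.Agent.S4744

/-- Let p be an odd prime and G a finite group of even order divisible by p in which the centralizer of every non-identity p-element has odd order. Then either G has an irreducible character of p-defect zero, or the normalizer of every Sylow p-subgroup P of G has even order and P is abelian. -/
theorem result {G : Type*} [Group G] [Finite G] (p : ℕ) [Fact p.Prime] (hp2 : p ≠ 2) (hpG : p ∣ Nat.card G) (h2G : 2 ∣ Nat.card G) (hC : ∀ g : G, g ≠ 1 → (∃ k : ℕ, orderOf g = p ^ k) → Odd (Nat.card ↥(Subgroup.centralizer ({g} : Set G)))) : (∃ χ : Cfsg.IrrCharacter G, (Cfsg.charDegree (χ : G → ℂ)).factorization p = (Nat.card G).factorization p) ∨ ∀ P : Sylow p G, Even (Nat.card ↥(Subgroup.normalizer ((P : Subgroup G) : Set G))) ∧ IsMulCommutative ↥(P : Subgroup G) := by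
  classical
  by_cases hdz : ∃ χ : Cfsg.IrrCharacter G,
      (Cfsg.charDegree (χ : G → ℂ)).factorization p = (Nat.card G).factorization p
  · exact Or.inl hdz
  refine Or.inr fun P => ?_
  obtain ⟨z, s, hz, hz1, hs, hsz⟩ :=
    CfsgLib.CharApps.exists_inverted hC h2G (not_exists.mp hdz) P
  obtain ⟨Q, hQ⟩ := CfsgLib.CharApps.exists_abelian_sylow hC hz hz1 hs hsz
  obtain ⟨c, hc⟩ := MulAction.exists_smul_eq G Q P
  have hs' : orderOf (c * s * c⁻¹) = 2 := hs ▸ MulEquiv.orderOf_eq (MulAut.conj c) s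
  have hmem : c * s * c⁻¹ ∈ Subgroup.normalizer ((P : Subgroup G) : Set G) := by
    refine Sylow.smul_eq_iff_mem_normalizer.mp ?_
    rw [← hc, mul_smul, mul_smul, inv_smul_smul, Sylow.smul_eq_iff_mem_normalizer.mpr hQ]
  refine ⟨?_, ⟨⟨fun a b => ?_⟩⟩⟩
  · rw [even_iff_two_dvd, ← hs', ← Subgroup.orderOf_mk _ hmem]
    exact orderOf_dvd_natCard _
  · exact Subtype.ext (CfsgLib.CharApps.comm_of_normalized hC P.isPGroup' hs' hmem a a.2 b b.2)

end Cfsg.Agent.S4744
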