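import Cfsg.Statements.S4746
import Cfsg.Agent.Lib.CharApps.ElementCentralizers

set_option autoImplicit false
open Cfsg

namespace Cfsg.Agent.S4746

/-- Let p be an odd prime and G a finite group of even order divisible by p in which the centralizer of every non-identity p-element has odd order. Then G has an irreducible character of p-defect zero or an irreducible character of even degree. -/
theorem result {G : Type*} [Group G] [Finite G] (p : ℕ) [Fact p.Prime] (hp2 : p ≠ 2) (hpG : p ∣ Nat.card G) (h2G : 2 ∣ Nat.card G) (hC : ∀ g : G, g ≠ 1 → (∃ k : ℕ, orderOf g = p ^ k) → Odd (Nat.card ↥(Subgroup.centralizer ({g} : Set G)))) : (∃ χ : Cfsg.IrrCharacter G, (Cfsg.charDegree (χ : G → ℂ)).factorization p = (Nat.card G).factorization p) ∨ ∃ χ : Cfsg.IrrCharacter G, Even (Cfsg.charDegree (χ : G → ℂ)) := by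
  classical
  by_cases hdz : ∃ χ : Cfsg.IrrCharacter G,
      (Cfsg.charDegree (χ : G → ℂ)).factorization p = (Nat.card G).factorization p
  · exact Or.inl hdz
  refine Or.inr ?_
  by_contra hodd
  simp only [not_exists, Nat.not_even_iff_odd] at hodd
  haveI := CfsgLib.Chars.irrFintype G
  obtain ⟨P⟩ : Nonempty (Sylow p G) := inferInstance
  obtain ⟨z, s, hz, hz1, hs, hsz⟩ :=
    CfsgLib.CharApps.exists_inverted hC h2G (not_exists.mp hdz) P
  have hconj : IsConj z z⁻¹ := isConj_iff.mpr ⟨s, hsz⟩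
  have hCodd : Odd (Nat.card (Subgroup.centralizer ({z} : Set G))) :=
    hC z hz1 (CfsgLib.CharApps.exists_pow_eq_of_mem_pGroup P.isPGroup' hz)
  let f : Cfsg.IrrCharacter G → ℂ := fun χ => (χ : G → ℂ) z
  have hint : ∀ χ, IsIntegral ℤ (f χ) := fun χ =>
    CfsgLib.Chars.char_isIntegral (CfsgLib.Chars.isCharacter_of_irr χ.2) z
  have hreal : ∀ χ : Cfsg.IrrCharacter G, (starRingEnd ℂ) (f χ) = f χ := fun χ => by
    show (starRingEnd ℂ) ((χ : G → ℂ) z) = (χ : G → ℂ) z
    rw [← CfsgLib.Chars.irr_inv]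
    exact ((CfsgLib.Chars.isConj_iff_forall_irr z z⁻¹).mp hconj χ).symm
  have h1 : ∑ χ, f χ * f χ = (Nat.card (Subgroup.centralizer ({z} : Set G)) : ℂ) := by
    have h := CfsgLib.Chars.second_orthogonality z z
    rw [if_pos (IsConj.refl z)] at h
    rw [← h]
    refine Finset.sum_congr rfl fun χ _ => ?_
    exact congrArg (f χ * ·) (hreal χ).symm
  have h2 : ∀ t : Finset (Cfsg.IrrCharacter G),
      ∃ γ : ℂ, IsIntegral ℤ γ ∧ (∑ χ ∈ t, f χ) ^ 2 = (∑ χ ∈ t, f χ * f χ) + 2 * γ := by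
    intro t
    induction t using Finset.induction_on with
    | empty => exact ⟨0, isIntegral_zero, by simp⟩
    | insert a t hat ih =>
      obtain ⟨γ, hγ, hsq⟩ := ih
      refine ⟨γ + f a * ∑ χ ∈ t, f χ,
        hγ.add ((hint a).mul (IsIntegral.sum _ fun χ _ => hint χ)), ?_⟩
      rw [Finset.sum_insert hat, Finset.sum_insert hat]
      linear_combination hsq
  obtain ⟨γ, hγ, hsq⟩ := h2 Finset.univ
  rw [h1] at hsq
  choose j hj using fun χ => hodd χ
  have h3 : ∑ χ, f χ = 2 * (-∑ χ, (j χ : ℂ) * f χ) := by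
    have h := CfsgLib.Chars.sum_degree_mul (G := G) z
    rw [if_neg hz1] at h
    have e : ∀ χ : Cfsg.IrrCharacter G,
        (χ : G → ℂ) 1 * (χ : G → ℂ) z = 2 * ((j χ : ℂ) * f χ) + f χ := fun χ => by
      rw [CfsgLib.CharApps.deg_eq χ, hj χ]
      push_cast
      ring
    rw [Finset.sum_congr rfl (fun χ _ => e χ), Finset.sum_add_distrib, ← Finset.mul_sum] at h
    linear_combination h
  have hhalf : IsIntegral ℤ
      (((Nat.card (Subgroup.centralizer ({z} : Set G)) : ℕ) : ℂ) / ((2 : ℕ) : ℂ)) := by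
    have hb : IsIntegral ℤ (-∑ χ, (j χ : ℂ) * f χ) :=
      (IsIntegral.sum _ fun χ _ => (isIntegral_algebraMap (R := ℤ) (A := ℂ) (x := (j χ : ℤ))).mul
        (hint χ)).neg
    have he : ((Nat.card (Subgroup.centralizer ({z} : Set G)) : ℕ) : ℂ) / ((2 : ℕ) : ℂ) =
        2 * ((-∑ χ, (j χ : ℂ) * f χ) * (-∑ χ, (j χ : ℂ) * f χ)) - γ := by
      rw [h3] at hsq
      push_cast
      linear_combination (-1 / 2 : ℂ) * hsq
    rw [he]
    exact ((isIntegral_algebraMap (R := ℤ) (A := ℂ) (x := (2 : ℤ))).mul (hb.mul hb)).sub hγ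
  exact hCodd.not_two_dvd_nat (CfsgLib.Chars.dvd_of_isIntegral_div two_ne_zero hhalf)

end Cfsg.Agent.S4746
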