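import Cfsg.Statements.S4750
import Cfsg.Agent.Lib.CharApps.TILattice
import Cfsg.Agent.Lib.Chars.Basic

set_option autoImplicit false
open scoped Pointwise
open Cfsg

namespace Cfsg.Agent.S4750

/-- Let P be a Sylow p-subgroup of the finite group G that meets each conjugate g P g⁻¹ with g outside N_G(P) trivially, χ a character of G with χ(1)² ≤ |P|, and H a subgroup of G containing N_G(P). Then the inner product of χ with itself over G equals the inner product over H of the restriction of χ to H. -/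
theorem result {G : Type*} [Group G] [Fintype G] [DecidableEq G] (p : ℕ) [Fact p.Prime] (P : Sylow p G) (hTI : ∀ g : G, g ∉ Subgroup.normalizer ((P : Subgroup G) : Set G) → (P : Subgroup G) ⊓ (MulAut.conj g • (P : Subgroup G)) = ⊥) (χ : G → ℂ) (hχ : Cfsg.IsCharacter G χ) (hdeg : Cfsg.charDegree χ ^ 2 ≤ Nat.card ↥(P : Subgroup G)) (H : Subgroup G) [Fintype ↥H] (hH : Subgroup.normalizer ((P : Subgroup G) : Set G) ≤ H) : Cfsg.classInner χ χ = Cfsg.classInner (fun h : ↥H => χ h) (fun h : ↥H => χ h) := by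
  classical
  obtain ⟨n, ρ, rfl⟩ := hχ
  obtain ⟨V, hV⟩ := CfsgLib.CharApps.TILattice.exists_valuationSubring p
  obtain ⟨ι, _, _, B, hB⟩ := CfsgLib.CharApps.TILattice.exists_integral_form ρ V
  let R : G →* Matrix ι ι ℂ := (LinearMap.toMatrixAlgEquiv B).toMonoidHom.comp ρ
  have hR : ∀ g i j, R g i j ∈ V := hB
  have hn : Fintype.card ι ^ 2 ≤ Nat.card ↥(P : Subgroup G) := by
    have h1 : Cfsg.charDegree ρ.character = Fintype.card ι := by
      rw [Cfsg.charDegree, Representation.char_one, Module.finrank_eq_card_basis B]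
      simp
    rw [← h1]
    exact hdeg
  have hTI' : ∀ g : G, g ∉ Subgroup.normalizer ((P : Subgroup G) : Set G) →
      ∀ x ∈ (P : Subgroup G), g⁻¹ * x * g ∈ (P : Subgroup G) → x = 1 := by
    intro g hg x hx hgx
    rw [← Subgroup.mem_bot, ← hTI g hg]
    refine Subgroup.mem_inf.2 ⟨hx, ?_⟩
    rw [Subgroup.mem_pointwise_smul_iff_inv_smul_mem, ← map_inv, MulAut.smul_def,
      MulAut.conj_apply]
    simpa using hgx
  have key : ∀ f : (Fin n → ℂ) →ₗ[ℂ] (Fin n → ℂ),
      (∀ g ∈ H, ρ g ∘ₗ f ∘ₗ ρ g⁻¹ = f) → ∀ g : G, ρ g ∘ₗ f ∘ₗ ρ g⁻¹ = f := by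
    intro f hf g
    have e : ∀ g : G, LinearMap.toMatrixAlgEquiv B (ρ g ∘ₗ f ∘ₗ ρ g⁻¹) =
        CfsgLib.CharApps.TILattice.act R g (LinearMap.toMatrixAlgEquiv B f) := by
      intro g
      rw [← Module.End.mul_eq_comp, ← Module.End.mul_eq_comp, map_mul, map_mul, ← mul_assoc]
      rfl
    apply (LinearMap.toMatrixAlgEquiv B).injective
    rw [e]
    refine CfsgLib.CharApps.TILattice.fixed_of_fixed_normalizer R hV hR P hTI' hn
      (fun a ha => ?_) g
    rw [← e, hf a (hH ha)]
  let σ : Representation ℂ ↥H (Fin n → ℂ) := ρ.comp H.subtype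
  have hinv : Representation.invariants (Representation.linHom σ σ) =
      Representation.invariants (Representation.linHom ρ ρ) := by
    ext f
    refine ⟨fun h g => key f (fun a ha => h ⟨a, ha⟩) g, fun h a => h (a : G)⟩
  haveI : Invertible ((Nat.card G : ℕ) : ℂ) :=
    invertibleOfNonzero (Nat.cast_ne_zero.2 Nat.card_pos.ne')
  haveI : Invertible ((Nat.card ↥H : ℕ) : ℂ) :=
    invertibleOfNonzero (Nat.cast_ne_zero.2 Nat.card_pos.ne')
  have h1 : Cfsg.classInner ρ.character ρ.character =
      (Module.finrank ℂ (Representation.invariants (Representation.linHom ρ ρ)) : ℂ) := by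
    rw [← Representation.card_inv_mul_sum_char_eq_finrank, CfsgLib.Chars.inner_def]
    congr 1
    refine Finset.sum_congr rfl fun g _ => ?_
    rw [Representation.char_linHom, CfsgLib.Chars.character_inv, mul_comm]
  have h2 : Cfsg.classInner (fun h : ↥H => ρ.character h) (fun h : ↥H => ρ.character h) =
      (Module.finrank ℂ (Representation.invariants (Representation.linHom σ σ)) : ℂ) := by
    rw [← Representation.card_inv_mul_sum_char_eq_finrank, CfsgLib.Chars.inner_def]
    congr 1
    refine Finset.sum_congr rfl fun h _ => ?_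
    rw [Representation.char_linHom, CfsgLib.Chars.character_inv, mul_comm]
    rfl
  rw [h1, h2, hinv]

end Cfsg.Agent.S4750
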