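import Cfsg.Statements.S4751
import Cfsg.Agent.Lib.CharApps.RootValues

set_option autoImplicit false
open Cfsg

namespace Cfsg.Agent.S4751

/-- Let χ be a faithful, non-linear irreducible character of the finite group G (χ g = χ 1 only for g = 1, χ 1 ≠ 1) whose value at every element of order divisible by p is a root of unity, and suppose P = O_p(G) ≠ 1. Then either P is an elementary abelian Sylow p-subgroup of G, C_G(P) is the internal direct product of P and Z(G), G acts transitively by conjugation on the non-principal linear characters of P, and χ 1 = |P| − 1; or p = 2 and G is the internal direct product of a subgroup isomorphic to the symmetric group S₄ and the centre Z(G), which has odd order. -/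
theorem result {G : Type*} [Group G] [Finite G] (p : ℕ) [Fact p.Prime] (χ : Cfsg.IrrCharacter G) (hfaith : ∀ g : G, (χ : G → ℂ) g = (χ : G → ℂ) 1 → g = 1) (hnl : (χ : G → ℂ) 1 ≠ 1) (hroot : ∀ g : G, p ∣ orderOf g → ∃ n : ℕ, 0 < n ∧ ((χ : G → ℂ) g) ^ n = 1) (hP : Cfsg.pCore p G ≠ ⊥) : ((Nat.card ↥(Cfsg.pCore p G)).factorization p = (Nat.card G).factorization p ∧ Cfsg.IsElementaryAbelian p (Cfsg.pCore p G) ∧ Subgroup.centralizer ((Cfsg.pCore p G : Subgroup G) : Set G) = Cfsg.pCore p G ⊔ Subgroup.center G ∧ Cfsg.pCore p G ⊓ Subgroup.center G = ⊥ ∧ (∀ lam mu : ↥(Cfsg.pCore p G) → ℂ, Cfsg.IsCharacter ↥(Cfsg.pCore p G) lam → lam 1 = 1 → lam ≠ (fun _ => (1 : ℂ)) → Cfsg.IsCharacter ↥(Cfsg.pCore p G) mu → mu 1 = 1 → mu ≠ (fun _ => (1 : ℂ)) → ∃ g : G, ∀ (x : G) (hx : x ∈ Cfsg.pCore p G) (hgx : g * x * g⁻¹ ∈ Cfsg.pCore p G), mu ⟨x, hx⟩ = lam ⟨g * x * g⁻¹, hgx⟩) ∧ (χ : G → ℂ) 1 = (Nat.card ↥(Cfsg.pCore p G) : ℂ) - 1) ∨ (p = 2 ∧ Odd (Nat.card ↥(Subgroup.center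 G)) ∧ ∃ H : Subgroup G, Nonempty (↥H ≃* Equiv.Perm (Fin 4)) ∧ H ⊓ Subgroup.center G = ⊥ ∧ H ⊔ Subgroup.center G = ⊤) := by
  classical
  letI := Fintype.ofFinite G
  letI := Fintype.ofFinite (Cfsg.pCore p G)
  have hPp : IsPGroup p (Cfsg.pCore p G) := CfsgLib.Base.isPGroup_pCore p G
  have hmax : ∀ N : Subgroup G, N.Normal → IsPGroup p N → N ≤ Cfsg.pCore p G :=
    fun N hN h => CfsgLib.Base.le_pCore h
  obtain ⟨Q, hPQ⟩ := hPp.exists_le_sylow
  have hab := CfsgLib.RootValues.abelian hfaith hroot hPp hP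
  have hC := CfsgLib.RootValues.centralizer_eq hfaith hnl hroot hPp hP hmax
  have hinf := CfsgLib.RootValues.inf_center hfaith hnl hroot hPp hP
  have hexp := CfsgLib.RootValues.elementary hfaith hnl hroot hPp hP
  rcases CfsgLib.RootValues.sylow_cases hfaith hnl hroot hPp hP Q hPQ with h | ⟨rfl, h4, h8⟩
  · left
    obtain ⟨hdeg, -, -, hfull⟩ := CfsgLib.RootValues.restrict_eq hfaith hnl hroot hPp hP
    refine ⟨?_, ⟨⟨⟨hab⟩⟩, hexp⟩, hC, hinf, ?_, ?_⟩
    · have h1 := Q.card_eq_multiplicity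
      rw [h] at h1
      rw [h1, Nat.Prime.factorization_pow Fact.out, Finsupp.single_eq_same]
    · intro lam mu hl hl1 hlne hm hm1 hmne
      obtain ⟨l, rfl⟩ := CfsgLib.Chars.exists_hom_of_degree_one hl hl1
      obtain ⟨l', rfl⟩ := CfsgLib.Chars.exists_hom_of_degree_one hm hm1
      obtain ⟨g, hg⟩ := (hfull ⟨_, CfsgLib.Chars.isIrrCharacter_linear l⟩ (fun e => hlne
          (funext fun x => by
            simpa [CfsgLib.Chars.principal_apply] using congrFun (congrArg Subtype.val e) x))).2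
        ⟨_, CfsgLib.Chars.isIrrCharacter_linear l'⟩ (fun e => hmne
          (funext fun x => by
            simpa [CfsgLib.Chars.principal_apply] using congrFun (congrArg Subtype.val e) x))
      refine ⟨g, fun x hx hgx => ?_⟩
      exact (congrFun hg ⟨x, hx⟩).symm
    · rw [CfsgLib.CharApps.deg_eq, ← hdeg]
      push_cast
      ring
  · right
    refine ⟨rfl, ?_⟩
    exact CfsgLib.RootValues.symmetric_four_case hPp hmax hexp h4 hC hinf Q hPQ h8

end Cfsg.Agent.S4751
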