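import Cfsg.Statements.S4755
import Cfsg.Agent.Lib.CharApps.ClassProduct

set_option autoImplicit false
open Cfsg

namespace Cfsg.Agent.S4755

/-- Let x, y be non-identity elements of the finite group G such that χ(x' y') = χ(x') χ(y') for all conjugates x' of x, y' of y and every irreducible character χ. Then the conjugacy class of x y is the set of all products of a conjugate of x with a conjugate of y; every irreducible character of degree greater than 1 vanishes at x y; and the conjugacy class of x y is the coset of the commutator subgroup containing x y. -/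
theorem result {G : Type*} [Group G] [Finite G] (x y : G) (hx : x ≠ 1) (hy : y ≠ 1) (h : ∀ (a b : G) (χ : Cfsg.IrrCharacter G), (χ : G → ℂ) (a * x * a⁻¹ * (b * y * b⁻¹)) = (χ : G → ℂ) (a * x * a⁻¹) * (χ : G → ℂ) (b * y * b⁻¹)) : (∀ z : G, IsConj (x * y) z ↔ ∃ a b : G, z = a * x * a⁻¹ * (b * y * b⁻¹)) ∧ (∀ χ : Cfsg.IrrCharacter G, (χ : G → ℂ) 1 ≠ 1 → (χ : G → ℂ) (x * y) = 0) ∧ (∀ z : G, IsConj (x * y) z ↔ (x * y)⁻¹ * z ∈ commutator G) := by
  have hcls : ∀ a b : G, IsConj (x * y) (a * x * a⁻¹ * (b * y * b⁻¹)) := fun a b =>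
    (CfsgLib.Chars.isConj_iff_forall_irr _ _).mpr fun χ => by
      have h1 : (χ : G → ℂ) (x * y) = (χ : G → ℂ) x * (χ : G → ℂ) y := by simpa using h 1 1 χ
      rw [h a b χ, CfsgLib.Chars.isClassFunction_irr χ x a,
        CfsgLib.Chars.isClassFunction_irr χ y b, h1]
  have hvan : ∀ χ : Cfsg.IrrCharacter G, (χ : G → ℂ) 1 ≠ 1 → (χ : G → ℂ) (x * y) = 0 := by
    intro χ hχ
    have h1 : (χ : G → ℂ) (x * y) = (χ : G → ℂ) x * (χ : G → ℂ) y := by simpa using h 1 1 χ
    have h2 := CfsgLib.CharApps.char_mul_of_classProd x y (fun d => by simpa using hcls 1 d) χ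
    rw [← h1, ← sub_eq_zero, ← sub_one_mul, mul_eq_zero, sub_eq_zero] at h2
    exact h2.resolve_left hχ
  refine ⟨fun z => ⟨fun hc => ?_, ?_⟩, hvan,
    fun z => ⟨CfsgLib.CharApps.commutator_of_isConj, fun hz => ?_⟩⟩
  · obtain ⟨c, rfl⟩ := isConj_iff.mp hc
    exact ⟨c, c, by group⟩
  · rintro ⟨a, b, rfl⟩
    exact hcls a b
  · exact CfsgLib.CharApps.isConj_of_nonlinear_vanish _ _
      (fun χ h1 => CfsgLib.CharApps.linear_eq_of_commutator χ h1 hz) hvan

end Cfsg.Agent.S4755
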