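import Cfsg.Statements.S4756
import Cfsg.Agent.Lib.CharApps.PrimeMulChars

set_option autoImplicit false
open Cfsg

namespace Cfsg.Agent.S4756

/-- For a finite group G the following are equivalent. (1) χ(x y) = χ(x) χ(y) for every irreducible character χ and all non-identity elements x, y of prime power orders for two different primes. (2) G is a p-group for some prime p, or G is abelian, or for some prime p: G = A P with P a normal Sylow p-subgroup and A a nontrivial cyclic subgroup of order prime to p such that, with C = C_P(A) and D = [A, P], one has P = C D, C abelian, D normal in G, C ∩ D = 1, and A acts fixed-point-freely on D (no non-identity element of A centralizes a non-identity element of D). -/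
theorem result {G : Type*} [Group G] [Finite G] : (∀ (x y : G) (χ : Cfsg.IrrCharacter G), x ≠ 1 → y ≠ 1 → (∃ p q a b : ℕ, p.Prime ∧ q.Prime ∧ p ≠ q ∧ orderOf x = p ^ a ∧ orderOf y = q ^ b) → (χ : G → ℂ) (x * y) = (χ : G → ℂ) x * (χ : G → ℂ) y) ↔ ((∃ p : ℕ, p.Prime ∧ IsPGroup p G) ∨ IsMulCommutative G ∨ ∃ (p : ℕ) (_ : Fact p.Prime) (P : Sylow p G) (A : Subgroup G), (P : Subgroup G).Normal ∧ IsCyclic ↥A ∧ A ≠ ⊥ ∧ (Nat.card ↥A).Coprime p ∧ A ⊔ (P : Subgroup G) = ⊤ ∧ IsMulCommutative ↥((P : Subgroup G) ⊓ Subgroup.centralizer (A : Set G)) ∧ (⁅A, (P : Subgroup G)⁆).Normal ∧ ((P : Subgroup G) ⊓ Subgroup.centralizer (A : Set G)) ⊔ ⁅A, (P : Subgroup G)⁆ = (P : Subgroup G) ∧ ((P : Subgroup G) ⊓ Subgroup.centralizer (A : Set G)) ⊓ ⁅A, (P : Subgroup G)⁆ = ⊥ ∧ ∀ a ∈ A, a ≠ 1 → ∀ d ∈ ⁅A, (P : Subgroup G)⁆, a * d = d * a → d = 1) := by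
  refine ⟨fun hM => ?_, ?_⟩
  · by_cases h1 : ∃ p : ℕ, p.Prime ∧ IsPGroup p G
    · exact Or.inl h1
    by_cases h2 : IsMulCommutative G
    · exact Or.inr (Or.inl h2)
    push Not at h1
    exact Or.inr (Or.inr (CfsgLib.PrimeMul.structure_of_mult hM h2 h1))
  · rintro (⟨r, hr, hG⟩ | hab | ⟨p, hp, P, A, hPn, hAc, -, hAco, hAP, hCc, hDn, hsup, -, hfpf⟩)
    · rintro x y χ hx hy ⟨p, q, a, b, hp, hq, hpq, hxo, hyo⟩
      haveI := Fact.mk hr
      have key : ∀ {z : G} {s n : ℕ}, s.Prime → z ≠ 1 → orderOf z = s ^ n → s = r := by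
        intro z s n hs hz hzo
        obtain ⟨k, hk⟩ := IsPGroup.iff_orderOf.1 hG z
        rcases Nat.eq_zero_or_pos n with rfl | hn
        · exact absurd (orderOf_eq_one_iff.1 (by rw [hzo, pow_zero])) hz
        exact (Nat.prime_dvd_prime_iff_eq hs hr).1
          (hs.dvd_of_dvd_pow (hk ▸ hzo ▸ dvd_pow_self s hn.ne'))
      exact absurd ((key hp hx hxo).trans (key hq hy hyo).symm) hpq
    · rintro x y χ - - -
      obtain ⟨n, hn, hn1, -⟩ := CfsgLib.Chars.irr_degree_dvd_card χ.2
      have h1 : (χ : G → ℂ) 1 = 1 := by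
        by_contra hne
        haveI := Fintype.ofFinite G
        haveI := CfsgLib.Chars.irrFintype G
        have hG' : commutator G = ⊥ := by
          rw [eq_bot_iff]
          exact Subgroup.commutator_le.2 fun g _ h _ => by
            rw [Subgroup.mem_bot, commutatorElement_eq_one_iff_mul_comm]
            exact mul_comm' g h
        have := CfsgLib.PrimeMul.vanish_of_card_centralizer_le (g := (1 : G))
          (by rw [hG', Subgroup.index_bot]; exact Subgroup.card_le_card_group _) χ hne
        rw [hn1] at this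
        exact hn.ne' (by exact_mod_cast this)
      obtain ⟨lam, hlam⟩ := CfsgLib.Chars.exists_hom_of_degree_one
        (CfsgLib.Chars.isCharacter_of_irr χ.2) h1
      rw [hlam]
      simp
    · haveI := hp
      haveI := hAc
      haveI := hPn
      exact CfsgLib.PrimeMul.mult_of_structure P A hPn inferInstance hAco hAP hCc hDn
        (Subgroup.commutator_le_right A (P : Subgroup G)) hsup hfpf

end Cfsg.Agent.S4756
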