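import Cfsg.Statements.S4762
import Cfsg.Agent.Lib.CharsMore.ExtraspecialChars
import Cfsg.Agent.Lib.CharsMore.ItoDegree
import Cfsg.Agent.Lib.CharsMore.CoherenceDescent
import Cfsg.Agent.Lib.CharApps.Codegree
import Cfsg.Agent.Lib.Chars.Linear
import Cfsg.Agent.Lib.Chars.DefectZero
import Cfsg.Agent.Lib.PGroups.Basic
import Cfsg.Agent.Lib.Chars.Quotient

set_option autoImplicit false
open Cfsg
open scoped commutatorElement

namespace Cfsg.Agent.S4762

/-- Let p be a prime and G a finite nilpotent group. Then G has exactly one irreducible complex character of degree divisible by p if and only if p = 2 and G is an extraspecial 2-group. -/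
theorem result {G : Type*} [Group G] [Finite G] [Group.IsNilpotent G] (p : ℕ) [Fact p.Prime] : Nat.card {χ : Cfsg.IrrCharacter G // p ∣ Cfsg.charDegree (χ : G → ℂ)} = 1 ↔ (p = 2 ∧ Cfsg.IsExtraspecial 2 G) := by
  classical
  haveI := Fintype.ofFinite G
  haveI := CfsgLib.Chars.irrFintype G
  have hp : p.Prime := Fact.out
  have hdvd : ∀ (H : Type _) [Group H] [Finite H] (χ : IrrCharacter H),
      charDegree (χ : H → ℂ) ∣ Nat.card H := by
    intro H _ _ χ
    obtain ⟨n, -, hn, hd⟩ := CfsgLib.Chars.irr_degree_dvd_card χ.2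
    rw [CfsgLib.CharApps.deg_eq, Nat.cast_inj] at hn
    rwa [hn]
  have hlin : ((Finset.univ.filter fun χ : IrrCharacter G => charDegree (χ : G → ℂ) = 1)).card =
      (commutator G).index := by
    rw [← CfsgLib.Chars.card_degree_one, ← Fintype.card_subtype, ← Nat.card_eq_fintype_card]
    exact (Nat.card_congr
      (Equiv.subtypeEquivRight fun χ => CfsgLib.CharApps.deg_eq_one_iff χ)).symm
  have hsq := CfsgLib.CharApps.sum_degree_sq_nat (G := G)
  rw [← Finset.sum_filter_add_sum_filter_not Finset.univ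
      (fun χ : IrrCharacter G => charDegree (χ : G → ℂ) = 1),
    Finset.sum_congr rfl (g := fun _ => 1) (fun χ hχ => by rw [(Finset.mem_filter.mp hχ).2, one_pow]),
    Finset.sum_const, smul_eq_mul, mul_one, hlin] at hsq
  constructor
  · intro h1
    haveI : Subsingleton {χ : IrrCharacter G // p ∣ charDegree (χ : G → ℂ)} :=
      Finite.card_le_one_iff_subsingleton.mp h1.le
    obtain ⟨⟨χ, hχ⟩⟩ : Nonempty {χ : IrrCharacter G // p ∣ charDegree (χ : G → ℂ)} :=
      Finite.card_pos_iff.mp (by rw [h1]; exact one_pos)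
    have huniq : ∀ ψ : IrrCharacter G, p ∣ charDegree (ψ : G → ℂ) → ψ = χ := fun ψ hψ =>
      congrArg Subtype.val (Subsingleton.elim (⟨ψ, hψ⟩ : {χ : IrrCharacter G //
        p ∣ charDegree (χ : G → ℂ)}) ⟨χ, hχ⟩)
    obtain ⟨P⟩ : Nonempty (Sylow p G) := inferInstance
    obtain ⟨Q, hQ, hQp, hQcard, -⟩ := CfsgLib.Chars.exists_pRegular_subgroup P
    haveI hQn : Q.Normal := ⟨fun e he g => (hQ _).mpr (by
      have : orderOf (g * e * g⁻¹) = orderOf e := by
        simpa using (MulAut.conj g).orderOf_eq e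
      rw [this]; exact (hQ e).mp he)⟩
    haveI hPn : (P : Subgroup G).Normal :=
      ((Group.isNilpotent_of_finite_tfae (G := G)).out 0 3 rfl rfl).mp inferInstance p inferInstance P
    have hQi : Q.index = Nat.card P := by
      have := Q.index_mul_card
      rw [← hQcard, mul_comm (Nat.card Q)] at this
      exact Nat.eq_of_mul_eq_mul_right Nat.card_pos this
    have hQgp : ∀ ψ : IrrCharacter (G ⧸ Q), charDegree (ψ : G ⧸ Q → ℂ) ≠ 1 →
        p ∣ charDegree (ψ : G ⧸ Q → ℂ) := by
      intro ψ hne
      obtain ⟨k, hk⟩ := P.2.exists_card_eq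
      have h2 := hdvd (G ⧸ Q) ψ
      rw [← Subgroup.index_eq_card, hQi, hk] at h2
      obtain ⟨i, -, hi⟩ := (Nat.dvd_prime_pow hp).mp h2
      rcases Nat.eq_zero_or_pos i with rfl | hi0
      · exact absurd (by simpa using hi) hne
      · exact hi ▸ dvd_pow_self p hi0.ne'
    have hex : ∃ ψ : IrrCharacter (G ⧸ Q), charDegree (ψ : G ⧸ Q → ℂ) ≠ 1 := by
      by_contra hno
      push Not at hno
      haveI := CfsgLib.Chars.irrFintype (G ⧸ Q)
      haveI := Fintype.ofFinite (G ⧸ Q)
      have h2 := CfsgLib.CharApps.sum_degree_sq_nat (G := G ⧸ Q)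
      simp only [hno, one_pow, Finset.sum_const, smul_eq_mul, mul_one, Finset.card_univ] at h2
      have h3 : (commutator (G ⧸ Q)).index = Nat.card (G ⧸ Q) := by
        rw [← CfsgLib.Chars.card_degree_one, ← h2, ← Nat.card_eq_fintype_card]
        exact Nat.card_congr (Equiv.subtypeUnivEquiv fun ψ =>
          (CfsgLib.CharApps.deg_eq_one_iff ψ).mpr (hno ψ))
      have h4 : commutator (G ⧸ Q) = ⊥ := by
        have h5 := (commutator (G ⧸ Q)).index_mul_card
        rw [h3, mul_eq_left₀ Nat.card_pos.ne'] at h5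
        exact Subgroup.eq_bot_of_card_eq _ h5
      have hab : ∀ a ∈ (P : Subgroup G), ∀ b ∈ (P : Subgroup G), a * b = b * a := by
        intro a ha b hb
        rw [← commutatorElement_eq_one_iff_mul_comm, ← Subgroup.mem_bot]
        have h6 : ⁅a, b⁆ ∈ Q := by
          rw [← QuotientGroup.eq_one_iff]
          have h7 : ⁅(a : G ⧸ Q), (b : G ⧸ Q)⁆ ∈ commutator (G ⧸ Q) :=
            Subgroup.commutator_mem_commutator (Subgroup.mem_top _) (Subgroup.mem_top _)
          rw [h4, Subgroup.mem_bot] at h7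
          exact h7
        have h7 : ⁅a, b⁆ ∈ (P : Subgroup G) := Subgroup.commutator_le_self _
          (Subgroup.commutator_mem_commutator ha hb)
        obtain ⟨k, hk⟩ := IsPGroup.iff_orderOf.mp P.2 ⟨_, h7⟩
        rw [Subgroup.orderOf_mk] at hk
        rcases Nat.eq_zero_or_pos k with rfl | hk0
        · exact orderOf_eq_one_iff.mp (by simpa using hk)
        · exact absurd (hk ▸ dvd_pow_self p hk0.ne') ((hQ _).mp h6)
      haveI := Fintype.ofFinite (P : Subgroup G)
      obtain ⟨k, hk, hkd⟩ := CfsgLib.CharsMore.ito_degree_dvd (P : Subgroup G) hab χ.2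
      rw [CfsgLib.CharApps.deg_eq, Nat.cast_inj] at hk
      exact P.not_dvd_index (hχ.trans (hk ▸ hkd))
    obtain ⟨ψ, hψ⟩ := hex
    let χq : IrrCharacter G := ⟨fun g => (ψ : G ⧸ Q → ℂ) g,
      CfsgLib.Chars.isIrrCharacter_inflate Q ψ.2⟩
    have hχq : χq = χ := huniq χq (hQgp ψ hψ)
    have hχQ : ∀ q ∈ Q, (χ : G → ℂ) q = (χ : G → ℂ) 1 := fun q hq => by
      rw [← hχq]
      show (ψ : G ⧸ Q → ℂ) (q : G ⧸ Q) = (ψ : G ⧸ Q → ℂ) ((1 : G) : G ⧸ Q)
      rw [(QuotientGroup.eq_one_iff q).mpr hq, QuotientGroup.mk_one]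
    -- the group is a `p`-group
    have hP : (P : Subgroup G) = ⊤ := by
      by_contra hne
      haveI : Nontrivial (G ⧸ (P : Subgroup G)) := by
        rw [← Finite.one_lt_card_iff_nontrivial, ← Subgroup.index_eq_card]
        exact Nat.lt_of_le_of_ne (Nat.pos_of_ne_zero Subgroup.index_ne_zero_of_finite)
          (Ne.symm (mt Subgroup.index_eq_one.mp hne))
      obtain ⟨lam, hlam⟩ := CfsgLib.Chars.exists_nontrivial_hom
        (G := G ⧸ (P : Subgroup G)) (Group.IsSolvable.commutator_lt_top_of_nontrivial _).ne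
      set mu : G →* ℂˣ := lam.comp (QuotientGroup.mk' (P : Subgroup G)) with hmu
      have hQk : ¬ Q ≤ mu.ker := by
        intro hle
        apply hlam
        refine MonoidHom.ext fun q => ?_
        obtain ⟨g, rfl⟩ := QuotientGroup.mk_surjective q
        have h2 : mu.ker = ⊤ := by
          refine Subgroup.eq_top_of_card_eq _ (Nat.dvd_antisymm (Subgroup.card_subgroup_dvd_card _) ?_)
          rw [← hQcard]
          have hcop : Nat.Coprime (Nat.card Q) (Nat.card P) := by
            obtain ⟨k, hk⟩ := P.2.exists_card_eq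
            rw [hk]
            exact ((Nat.Prime.coprime_iff_not_dvd hp).mpr hQp).symm.pow_right k
          exact hcop.mul_dvd_of_dvd_of_dvd (Subgroup.card_dvd_of_le hle)
            (Subgroup.card_dvd_of_le fun x hx => by
              rw [MonoidHom.mem_ker, hmu, MonoidHom.comp_apply, QuotientGroup.mk'_apply,
                (QuotientGroup.eq_one_iff x).mpr hx, map_one])
        have h3 : g ∈ mu.ker := h2 ▸ Subgroup.mem_top g
        exact h3
      obtain ⟨q, hq, hqk⟩ := Set.not_subset.mp hQk
      let χm : IrrCharacter G := ⟨fun g => (mu g : ℂ) * (χ : G → ℂ) g,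
        CfsgLib.Chars.isIrrCharacter_linear_mul mu χ.2⟩
      have h3 : χm = χ := huniq χm (by
        have e : charDegree (χm : G → ℂ) = charDegree (χ : G → ℂ) := by
          show charDegree (fun g => (mu g : ℂ) * (χ : G → ℂ) g) = _
          simp [charDegree]
        rwa [e])
      have h4 : (mu q : ℂ) * (χ : G → ℂ) q = (χ : G → ℂ) q := congrFun (congrArg Subtype.val h3) q
      rw [hχQ q hq, mul_eq_right₀ (CfsgLib.Chars.irr_degree_ne_zero χ.2)] at h4
      exact hqk (Units.ext h4)
    have hG : IsPGroup p G := by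
      have h2 := P.2
      rw [hP] at h2
      exact h2.of_equiv Subgroup.topEquiv
    obtain ⟨m, hm⟩ := hG.exists_card_eq
    have hne1 : ∀ ψ : IrrCharacter G,
        ¬ charDegree (ψ : G → ℂ) = 1 ↔ p ∣ charDegree (ψ : G → ℂ) := by
      intro ψ
      constructor
      · intro hne
        have h2 := hdvd G ψ
        rw [hm] at h2
        obtain ⟨i, -, hi⟩ := (Nat.dvd_prime_pow hp).mp h2
        rcases Nat.eq_zero_or_pos i with rfl | hi0
        · exact absurd (by simpa using hi) hne
        · exact hi ▸ dvd_pow_self p hi0.ne'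
      · exact fun h hone => hp.not_dvd_one (hone ▸ h)
    have hfil : (Finset.univ.filter fun ψ : IrrCharacter G => ¬ charDegree (ψ : G → ℂ) = 1) = {χ} := by
      ext ψ
      simp only [Finset.mem_filter, Finset.mem_univ, true_and, Finset.mem_singleton, hne1]
      exact ⟨huniq ψ, fun h => h ▸ hχ⟩
    rw [hfil, Finset.sum_singleton] at hsq
    obtain ⟨a, -, ha⟩ := (Nat.dvd_prime_pow hp).mp (hm ▸ hdvd G χ)
    obtain ⟨b, -, hb⟩ := (Nat.dvd_prime_pow hp).mp (hm ▸ (commutator G).index_dvd_card)
    obtain ⟨c, -, hc⟩ := (Nat.dvd_prime_pow hp).mp (hm ▸ (commutator G).card_subgroup_dvd_card)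
    have hmul : p ^ b * p ^ c = p ^ b + p ^ (2 * a) := by
      rw [← hb, ← hc, (commutator G).index_mul_card, ← hsq, hb, ha, ← pow_mul, mul_comm a 2]
    have hba : b = 2 * a := by
      rw [← pow_add] at hmul
      rcases Nat.lt_trichotomy b (2 * a) with hlt | heq | hgt
      · exfalso
        have h2 : p ^ (b + c) = p ^ b * (1 + p ^ (2 * a - b)) := by
          rw [hmul, mul_add, mul_one, ← pow_add, Nat.add_sub_cancel' hlt.le]
        rw [pow_add] at h2
        have h3 := Nat.eq_of_mul_eq_mul_left (pow_pos hp.pos b) h2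
        have h4 : p ∣ p ^ (2 * a - b) := dvd_pow_self p (by omega)
        rcases Nat.eq_zero_or_pos c with rfl | hc0
        · have := Nat.pow_pos (n := 2 * a - b) hp.pos
          rw [pow_zero] at h3
          omega
        · exact hp.not_dvd_one ((Nat.dvd_add_iff_left h4).mpr (h3 ▸ dvd_pow_self p hc0.ne'))
      · exact heq
      · exfalso
        have h2 : p ^ (b + c) = p ^ (2 * a) * (p ^ (b - 2 * a) + 1) := by
          rw [hmul, mul_add, mul_one, ← pow_add, Nat.add_sub_cancel' hgt.le]
        rw [show b + c = 2 * a + (b + c - 2 * a) by omega, pow_add] at h2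
        have h3 := Nat.eq_of_mul_eq_mul_left (pow_pos hp.pos _) h2
        have h4 : p ∣ p ^ (b - 2 * a) := dvd_pow_self p (by omega)
        exact hp.not_dvd_one ((Nat.dvd_add_iff_right h4).mpr (h3 ▸ dvd_pow_self p (by omega)))
    have hpc : p ^ c = 2 := by
      rw [← hba, ← two_mul, mul_comm 2] at hmul
      exact Nat.eq_of_mul_eq_mul_left (pow_pos hp.pos b) hmul
    have hp2 : p = 2 := by
      rcases Nat.eq_zero_or_pos c with rfl | hc0
      · simp at hpc
      · exact (Nat.prime_dvd_prime_iff_eq hp Nat.prime_two).mp (hpc ▸ dvd_pow_self p hc0.ne')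
    have hC2 : Nat.card (commutator G) = 2 := hc.trans hpc
    have hCZ : commutator G ≤ Subgroup.center G := by
      haveI : Subsingleton {x : commutator G // x ≠ 1} := by
        rw [← Finite.card_le_one_iff_subsingleton, Nat.card_eq_fintype_card,
          Fintype.card_subtype_compl, Fintype.card_subtype_eq, ← Nat.card_eq_fintype_card, hC2]
      intro z hz
      rw [Subgroup.mem_center_iff]
      intro g
      by_cases hz1 : z = 1
      · rw [hz1, mul_one, one_mul]
      · have hgz : g * z * g⁻¹ ∈ commutator G := (inferInstance : (commutator G).Normal).conj_mem z hz g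
        have h2 := congrArg (fun x : {x : commutator G // x ≠ 1} => ((x.1 : commutator G) : G))
          (Subsingleton.elim (⟨⟨g * z * g⁻¹, hgz⟩, fun h => hz1 (by
            have h3 : g * z * g⁻¹ = 1 := congrArg Subtype.val h
            simpa using h3)⟩ : {x : commutator G // x ≠ 1})
            ⟨⟨z, hz⟩, fun h => hz1 (congrArg Subtype.val h)⟩)
        exact mul_inv_eq_iff_eq_mul.mp h2
    have hZ : Subgroup.center G = commutator G := by
      refine (Subgroup.eq_of_le_of_card_ge hCZ ?_).symm
      have hle := CfsgLib.CharsMore.degree_sq_le_index χ.2 (Subgroup.center G) fun z hz =>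
        CfsgLib.CharsMore.norm_eq_of_commutes_mod_ker χ.2 fun g => by
          rw [← Subgroup.mem_center_iff.mp hz g, mul_inv_cancel_right, mul_inv_cancel]
      rw [ha, ← pow_mul, mul_comm a 2, ← hba, ← hb] at hle
      have h2 := (Subgroup.center G).index_mul_card
      rw [← (commutator G).index_mul_card] at h2
      by_contra hlt
      push Not at hlt
      have : (commutator G).index * Nat.card (commutator G) <
          (Subgroup.center G).index * Nat.card (Subgroup.center G) :=
        Nat.mul_lt_mul_of_le_of_lt hle hlt (Nat.pos_of_ne_zero Subgroup.index_ne_zero_of_finite)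
      omega
    subst hp2
    refine ⟨rfl, ⟨hG, le_antisymm ?_ ?_, hZ.symm⟩, by rw [hZ, hC2]⟩
    · refine CfsgLib.PGroups.frattini_le_of_elementary_quotient (p := 2) hCZ fun x => ?_
      rw [Subgroup.mem_center_iff]
      intro y
      have hk : ⁅y, x⁆ ∈ commutator G :=
        Subgroup.commutator_mem_commutator (Subgroup.mem_top y) (Subgroup.mem_top x)
      have hk2 : ⁅y, x⁆ * ⁅y, x⁆ = 1 := by
        have h2 := pow_card_eq_one' (x := (⟨_, hk⟩ : commutator G))
        rw [hC2, pow_two] at h2
        exact congrArg Subtype.val h2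
      have hkx := Subgroup.mem_center_iff.mp (hCZ hk) x
      have e : y * x ^ 2 * y⁻¹ = x ^ 2 := by
        have e1 : y * x * y⁻¹ = ⁅y, x⁆ * x := by rw [commutatorElement_def]; group
        calc y * x ^ 2 * y⁻¹ = (y * x * y⁻¹) * (y * x * y⁻¹) := by rw [pow_two]; group
          _ = ⁅y, x⁆ * (x * ⁅y, x⁆) * x := by rw [e1]; group
          _ = (⁅y, x⁆ * ⁅y, x⁆) * (x * x) := by rw [hkx]; group
          _ = x ^ 2 := by rw [hk2, one_mul, pow_two]
      exact mul_inv_eq_iff_eq_mul.mp e
    · rw [hZ]
      exact CfsgLib.PGroups.commutator_le_frattini hG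
  · rintro ⟨rfl, hE⟩
    obtain ⟨n, hn, hcard⟩ := CfsgLib.PGroups.Extraspecial.exists_card_eq hE
    have hidx : (commutator G).index = 2 ^ (2 * n) := by
      have h2 := (commutator G).index_mul_card
      rw [hE.1.2.2, hE.2, hcard, pow_succ] at h2
      rw [hE.1.2.2]
      exact Nat.eq_of_mul_eq_mul_right two_pos h2
    have h2n : 2 ∣ 2 ^ n := dvd_pow_self 2 (by omega)
    have hfil : ∀ ψ : IrrCharacter G,
        ¬ charDegree (ψ : G → ℂ) = 1 ↔ 2 ∣ charDegree (ψ : G → ℂ) := by
      intro ψ
      rcases CfsgLib.CharsMore.extraspecial_degree hE hcard ψ.2 with ⟨h, -⟩ | ⟨h, -⟩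
      · simp [h]
      · simp only [h, h2n, iff_true]
        intro h3
        rw [h3] at h2n
        omega
    rw [Finset.filter_congr (fun ψ _ => hfil ψ), Finset.sum_congr rfl (g := fun _ => 2 ^ (2 * n))
      (fun ψ hψ => by
        have h := (Finset.mem_filter.mp hψ).2
        rcases CfsgLib.CharsMore.extraspecial_degree hE hcard ψ.2 with ⟨h', -⟩ | ⟨h', -⟩
        · rw [h'] at h; omega
        · rw [h', ← pow_mul, mul_comm n 2]), Finset.sum_const, smul_eq_mul, hidx, hcard, pow_succ]
      at hsq
    rw [Nat.card_eq_fintype_card, Fintype.card_subtype]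
    refine Nat.eq_of_mul_eq_mul_right (pow_pos two_pos (2 * n)) ?_
    omega

end Cfsg.Agent.S4762
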