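import Cfsg.Statements.S4763
import Cfsg.Agent.Lib.CharApps.OnePDegree

set_option autoImplicit false
open Cfsg

namespace Cfsg.Agent.S4763

/-- Let p be a prime and G a finite group that is not nilpotent and has a normal p-complement (a normal subgroup of order prime to p and index a power of p). If G has exactly one irreducible complex character of degree divisible by p, then G has exactly one conjugacy class whose size is divisible by p. -/
theorem result {G : Type*} [Group G] [Finite G] (p : ℕ) [Fact p.Prime] (hnil : ¬ Group.IsNilpotent G) (N : Subgroup G) [N.Normal] (hN : (Nat.card N).Coprime p) (hidx : ∃ k : ℕ, N.index = p ^ k) (hone : Nat.card {χ : Cfsg.IrrCharacter G // p ∣ Cfsg.charDegree (χ : G → ℂ)} = 1) : Nat.card {C : ConjClasses G // p ∣ Nat.card C.carrier} = 1 := by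
  classical
  obtain ⟨P⟩ : Nonempty (Sylow p G) := inferInstance
  have hN' : ¬ p ∣ Nat.card ↥N := fun hd =>
    (Fact.out : p.Prime).one_lt.ne' (Nat.eq_one_of_dvd_coprimes hN hd dvd_rfl)
  obtain ⟨k, hk⟩ := hidx
  obtain ⟨a, ha⟩ := P.2.exists_card_eq
  have hcop : (Nat.card ↥N).Coprime (Nat.card ↥(P : Subgroup G)) := by
    rw [ha]
    exact hN.pow_right a
  have hinf : N ⊓ (P : Subgroup G) = ⊥ := disjoint_iff.1 (Subgroup.disjoint_of_coprime_natCard hcop)
  have hsup : N ⊔ (P : Subgroup G) = ⊤ := by
    rw [← Subgroup.index_eq_one]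
    have h1 : (N ⊔ (P : Subgroup G)).index ∣ p ^ k := hk ▸ Subgroup.index_dvd_of_le le_sup_left
    have h2 : (N ⊔ (P : Subgroup G)).index ∣ (P : Subgroup G).index :=
      Subgroup.index_dvd_of_le le_sup_right
    refine Nat.eq_one_of_dvd_coprimes ?_ h1 h2
    exact ((Fact.out : p.Prime).coprime_iff_not_dvd.2 P.not_dvd_index).pow_left k
  exact CfsgLib.CharApps.OnePDegree.card_p_classes_eq_one hnil N hN' _ P.2 hinf hsup hone

end Cfsg.Agent.S4763
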