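import Cfsg.Statements.S4765
import Cfsg.Agent.Lib.CharApps.SLTwoGraph

set_option autoImplicit false
open Cfsg

namespace Cfsg.Agent.S4765

/-- Let F be a finite field of characteristic p with at least 4 elements. Then PSL(2,F) has exactly one irreducible complex character of degree divisible by p, and its degree is the order of F. -/
theorem result (p : ℕ) [Fact p.Prime] (F : Type*) [Field F] [Fintype F] [CharP F p] (hF : 4 ≤ Fintype.card F) : Nat.card {χ : Cfsg.IrrCharacter (Matrix.ProjectiveSpecialLinearGroup (Fin 2) F) // p ∣ Cfsg.charDegree (χ : Matrix.ProjectiveSpecialLinearGroup (Fin 2) F → ℂ)} = 1 ∧ ∀ χ : Cfsg.IrrCharacter (Matrix.ProjectiveSpecialLinearGroup (Fin 2) F), p ∣ Cfsg.charDegree (χ : Matrix.ProjectiveSpecialLinearGroup (Fin 2) F → ℂ) → Cfsg.charDegree (χ : Matrix.ProjectiveSpecialLinearGroup (Fin 2) F → ℂ) = Fintype.card F := by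
  classical
  letI := CfsgLib.Chars.irrFintype (Matrix.SpecialLinearGroup (Fin 2) F)
  obtain ⟨n, hp, hn⟩ := FiniteField.card F p
  have hpq : p ∣ Fintype.card F := hn ▸ dvd_pow_self p n.ne_zero
  -- a degree divisible by `p` belongs to the Steinberg character
  have key : ∀ χ : Cfsg.IrrCharacter (Matrix.SpecialLinearGroup (Fin 2) F),
      p ∣ Cfsg.charDegree (χ : Matrix.SpecialLinearGroup (Fin 2) F → ℂ) →
      χ = CfsgLib.CharsMore.TwoByTwo.stIrrSL := by
    intro χ hd
    have h1 : ∀ m, p ∣ m → m + 1 = Fintype.card F ∨ m = Fintype.card F + 1 → False := by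
      intro m hm h
      rcases h with h | h
      · exact hp.not_dvd_one ((Nat.dvd_add_right hm).1 (h ▸ hpq))
      · exact hp.not_dvd_one ((Nat.dvd_add_right hpq).1 (h ▸ hm))
    have h1' : ∀ m, p ∣ m → m * 2 + 1 = Fintype.card F ∨ m * 2 = Fintype.card F + 1 → False :=
      fun m hm h => h1 (m * 2) (hm.mul_right 2) h
    by_cases h2 : p = 2
    · subst h2
      rcases CfsgLib.CharsMore.TwoByTwo.sl_cases_even χ with rfl | rfl | h | h
      · rw [CfsgLib.CharsMore.TwoByTwo.deg_principal] at hd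
        exact absurd (Nat.dvd_one.1 hd) hp.one_lt.ne'
      · rfl
      · exact (h1 _ hd (Or.inr (CfsgLib.CharsMore.TwoByTwo.deg_pSetSL h))).elim
      · have := CfsgLib.CharsMore.TwoByTwo.deg_cSetSL_even h
        exact (h1 _ hd (Or.inl (by omega))).elim
    · have hodd : Odd (Fintype.card F) := hn ▸ (hp.odd_of_ne_two h2).pow
      rcases CfsgLib.CharsMore.TwoByTwo.sl_cases_odd hodd χ with rfl | rfl | h | h | h
      · rw [CfsgLib.CharsMore.TwoByTwo.deg_principal] at hd
        exact absurd (Nat.dvd_one.1 hd) hp.one_lt.ne'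
      · rfl
      · exact (h1 _ hd (Or.inr (CfsgLib.CharsMore.TwoByTwo.deg_pSetSL h))).elim
      · have := (CfsgLib.CharsMore.TwoByTwo.of_mem_hSetSL hodd h).2
        exact (h1' _ hd (Or.inr (by omega))).elim
      · rcases CfsgLib.CharsMore.TwoByTwo.deg_cSetSL_odd hodd h with h' | h'
        · exact (h1 _ hd (Or.inl (by omega))).elim
        · exact (h1' _ hd (Or.inl (by omega))).elim
  -- inflation is injective
  let infl : Cfsg.IrrCharacter (Matrix.ProjectiveSpecialLinearGroup (Fin 2) F) →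
      Cfsg.IrrCharacter (Matrix.SpecialLinearGroup (Fin 2) F) :=
    fun ψ => (CfsgLib.Chars.quotientIrrEquiv _ ψ).1
  have hdeg : ∀ ψ, Cfsg.charDegree (infl ψ : Matrix.SpecialLinearGroup (Fin 2) F → ℂ) =
      Cfsg.charDegree (ψ : Matrix.ProjectiveSpecialLinearGroup (Fin 2) F → ℂ) :=
    fun ψ => CfsgLib.SLTwoDegrees.charDegree_congr rfl
  have hval : ∀ ψ : Cfsg.IrrCharacter (Matrix.ProjectiveSpecialLinearGroup (Fin 2) F),
      p ∣ Cfsg.charDegree (ψ : Matrix.ProjectiveSpecialLinearGroup (Fin 2) F → ℂ) →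
      Cfsg.charDegree (ψ : Matrix.ProjectiveSpecialLinearGroup (Fin 2) F → ℂ) = Fintype.card F := by
    intro ψ hψ
    rw [← hdeg, key (infl ψ) (by rw [hdeg]; exact hψ)]
    exact CfsgLib.CharsMore.TwoByTwo.deg_stIrrSL
  refine ⟨le_antisymm ?_ ?_, hval⟩
  · rw [Finite.card_le_one_iff_subsingleton]
    refine ⟨fun a b => Subtype.ext ((CfsgLib.Chars.quotientIrrEquiv _).injective (Subtype.ext ?_))⟩
    exact (key (infl a.1) (by rw [hdeg]; exact a.2)).trans
      (key (infl b.1) (by rw [hdeg]; exact b.2)).symm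
  · have hst : ((CfsgLib.CharsMore.TwoByTwo.stIrrSL (F := F)) :
        Matrix.SpecialLinearGroup (Fin 2) F → ℂ) CfsgLib.SLTwoDegrees.negOne =
        ((CfsgLib.CharsMore.TwoByTwo.stIrrSL (F := F)) : Matrix.SpecialLinearGroup (Fin 2) F → ℂ) 1 := by
      by_cases h2 : p = 2
      · subst h2
        rw [CfsgLib.SLTwoDegrees.negOne_eq_one]
      · exact CfsgLib.SLTwoDegrees.stIrrSL_negOne (hn ▸ (hp.odd_of_ne_two h2).pow)
    refine Finite.card_pos_iff.2 ⟨⟨(CfsgLib.Chars.quotientIrrEquiv _).symm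
      ⟨CfsgLib.CharsMore.TwoByTwo.stIrrSL,
        (CfsgLib.SLTwoDegrees.trivial_center_iff _).2 hst⟩, ?_⟩⟩
    rw [← hdeg]
    dsimp only [infl]
    rw [Equiv.apply_symm_apply, CfsgLib.CharsMore.TwoByTwo.deg_stIrrSL]
    exact hpq

end Cfsg.Agent.S4765
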