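import Cfsg.Statements.S4775
import Cfsg.Agent.Lib.KnownA.Suzuki.Degrees
import Cfsg.Agent.Lib.CharApps.SLTwoDegrees

set_option autoImplicit false
open Cfsg Subgroup
open scoped Pointwise commutatorElement

namespace Cfsg.Agent.S4775

open CfsgLib.KnownA.Suzuki in
theorem degrees_facts {m q : ℕ} (hm : 1 ≤ m) (hqm : q = 2 ^ (2 * m + 1)) :
    kp m * km m = q ^ 2 + 1 ∧ Even q ∧ 1 < q ∧ Odd (q - 1) ∧ Odd (q ^ 2 + 1) := by
  subst hqm
  have h2 : Even (2 ^ (2 * m + 1)) := Nat.even_pow.2 ⟨even_two, by omega⟩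
  have h1 : 1 < 2 ^ (2 * m + 1) := Nat.one_lt_two_pow (by omega)
  exact ⟨kp_mul_km m, h2, h1, Nat.Even.sub_odd h1.le h2 odd_one,
    (Nat.even_pow.2 ⟨h2, two_ne_zero⟩).add_one⟩

/-- Let F be a finite field with q = 2^(2m+1) ≥ 8 elements and let S be isomorphic to the Suzuki group over F. Then the vertices of the character degree graph of S are 2 and the primes dividing (q − 1)(q² + 1); the primes dividing (q − 1)(q² + 1) are pairwise adjacent, and 2 is adjacent exactly to the primes dividing q − 1. -/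
theorem result (F : Type*) [Field F] [Fintype F] (m : ℕ) (hm : 1 ≤ m) (q : ℕ) (hq : Fintype.card F = q) (hqm : q = 2 ^ (2 * m + 1)) {S : Type*} [Group S] [Finite S] (hS : Nonempty (S ≃* ↥(Cfsg.Lie.Sz F (2 ^ (m + 1))))) : Cfsg.degreePrimes S = {r : ℕ | r.Prime ∧ (r = 2 ∨ r ∣ (q - 1) * (q ^ 2 + 1))} ∧ ∀ r s : ℕ, (Cfsg.degreeGraph S).Adj r s ↔ (r ≠ s ∧ r.Prime ∧ s.Prime ∧ ((r ∣ (q - 1) * (q ^ 2 + 1) ∧ s ∣ (q - 1) * (q ^ 2 + 1)) ∨ (r = 2 ∧ s ∣ q - 1) ∨ (s = 2 ∧ r ∣ q - 1))) := by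
  classical
  obtain ⟨φ⟩ := hS
  subst hq
  obtain ⟨hk, hev, h1, hod, hos⟩ := degrees_facts hm hqm
  have hdeg : Cfsg.charDegrees S = _ := (CfsgLib.SLTwoDegrees.charDegrees_mulEquiv φ).trans
    (CfsgLib.KnownA.Suzuki.charDegrees_eq (CfsgLib.KnownA.Suzuki.titsField_of_card hqm) hm hqm rfl)
  generalize hqq : Fintype.card F = Q at *
  generalize CfsgLib.KnownA.Suzuki.kp m = P at *
  generalize CfsgLib.KnownA.Suzuki.km m = N at *
  have hQ2 : ∀ r : ℕ, r.Prime → (r ∣ Q ^ 2 ↔ r = 2) := fun r hr => by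
    rw [hqm, ← pow_mul]
    refine ⟨fun h => (Nat.prime_dvd_prime_iff_eq hr Nat.prime_two).1 (hr.dvd_of_dvd_pow h), ?_⟩
    rintro rfl
    exact dvd_pow_self 2 (by omega)
  have hmem : ∀ d, d ∈ Cfsg.charDegrees S → d = 1 ∨ d = Q ^ 2 ∨ d ∣ (Q - 1) * (Q ^ 2 + 1) ∨
      d = (Q - 1) * 2 ^ m := by
    intro d hd
    rw [hdeg] at hd
    rcases hd with rfl | rfl | rfl | rfl | rfl | rfl
    · exact Or.inl rfl
    · exact Or.inr (Or.inl rfl)
    · exact Or.inr (Or.inr (Or.inl (dvd_mul_left _ _)))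
    · exact Or.inr (Or.inr (Or.inl (Nat.mul_dvd_mul_left _ (hk ▸ dvd_mul_right _ _))))
    · exact Or.inr (Or.inr (Or.inl (Nat.mul_dvd_mul_left _ (hk ▸ dvd_mul_left _ _))))
    · exact Or.inr (Or.inr (Or.inr rfl))
  have hpart : ∀ r, r.Prime → r ∣ (Q - 1) * (Q ^ 2 + 1) → r ∣ Q - 1 ∨ r ∣ Q ^ 2 + 1 :=
    fun r hr h => hr.dvd_mul.1 h
  have hodd : ¬ 2 ∣ (Q - 1) * (Q ^ 2 + 1) := fun h => Nat.not_even_iff_odd.2 (hod.mul hos) (even_iff_two_dvd.2 h)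
  have h2m : 2 ∣ 2 ^ m := dvd_pow_self 2 (by omega)
  have hin : ∀ d, d = Q ^ 2 + 1 ∨ d = (Q - 1) * P ∨ d = (Q - 1) * N ∨ d = (Q - 1) * 2 ^ m →
      d ∈ Cfsg.charDegrees S := by
    intro d hd
    rw [hdeg]
    simp only [Set.mem_insert_iff, Set.mem_singleton_iff]
    tauto
  refine ⟨Set.ext fun r => ⟨?_, ?_⟩, fun r s => ⟨?_, ?_⟩⟩
  · rintro ⟨hr, d, hd, hrd⟩
    refine ⟨hr, ?_⟩
    rcases hmem d hd with rfl | rfl | h | rfl
    · exact absurd (Nat.dvd_one.1 hrd) hr.one_lt.ne'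
    · exact Or.inl ((hQ2 r hr).1 hrd)
    · exact Or.inr (hrd.trans h)
    · rcases hr.dvd_mul.1 hrd with h | h
      · exact Or.inr (h.mul_right _)
      · exact Or.inl ((Nat.prime_dvd_prime_iff_eq hr Nat.prime_two).1 (hr.dvd_of_dvd_pow h))
  · rintro ⟨hr, rfl | h⟩
    · exact ⟨hr, _, hin _ (Or.inr (Or.inr (Or.inr rfl))), h2m.mul_left _⟩
    · rcases hpart r hr h with h' | h'
      · exact ⟨hr, _, hin _ (Or.inr (Or.inr (Or.inr rfl))), h'.mul_right _⟩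
      · exact ⟨hr, _, hin _ (Or.inl rfl), h'⟩
  · rintro ⟨hne, hr, hs, d, hd, hrd⟩
    refine ⟨hne, hr, hs, ?_⟩
    have hr' : r ∣ d := (dvd_mul_right r s).trans hrd
    have hs' : s ∣ d := (dvd_mul_left s r).trans hrd
    rcases hmem d hd with rfl | rfl | h | rfl
    · exact absurd (Nat.dvd_one.1 hr') hr.one_lt.ne'
    · exact absurd (((hQ2 r hr).1 hr').trans ((hQ2 s hs).1 hs').symm) hne
    · exact Or.inl ⟨hr'.trans h, hs'.trans h⟩
    · have two : ∀ t : ℕ, t.Prime → t ∣ 2 ^ m → t = 2 := fun t ht h =>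
        (Nat.prime_dvd_prime_iff_eq ht Nat.prime_two).1 (ht.dvd_of_dvd_pow h)
      rcases hr.dvd_mul.1 hr' with h | h <;> rcases hs.dvd_mul.1 hs' with h' | h'
      · exact Or.inl ⟨h.mul_right _, h'.mul_right _⟩
      · exact Or.inr (Or.inr ⟨two s hs h', h⟩)
      · exact Or.inr (Or.inl ⟨two r hr h, h'⟩)
      · exact absurd ((two r hr h).trans (two s hs h').symm) hne
  · rintro ⟨hne, hr, hs, hcase⟩
    refine ⟨hne, hr, hs, ?_⟩
    have hco : Nat.Coprime r s := (Nat.coprime_primes hr hs).2 hne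
    rcases hcase with ⟨h, h'⟩ | ⟨rfl, h'⟩ | ⟨rfl, h⟩
    · rcases hpart r hr h with h | h <;> rcases hpart s hs h' with h' | h'
      · exact ⟨_, hin _ (Or.inr (Or.inl rfl)), (hco.mul_dvd_of_dvd_of_dvd h h').mul_right _⟩
      · rw [← hk] at h'
        rcases hs.dvd_mul.1 h' with h' | h'
        · exact ⟨_, hin _ (Or.inr (Or.inl rfl)), mul_dvd_mul h h'⟩
        · exact ⟨_, hin _ (Or.inr (Or.inr (Or.inl rfl))), mul_dvd_mul h h'⟩
      · rw [← hk] at h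
        rw [mul_comm r s]
        rcases hr.dvd_mul.1 h with h | h
        · exact ⟨_, hin _ (Or.inr (Or.inl rfl)), mul_dvd_mul h' h⟩
        · exact ⟨_, hin _ (Or.inr (Or.inr (Or.inl rfl))), mul_dvd_mul h' h⟩
      · exact ⟨_, hin _ (Or.inl rfl), hco.mul_dvd_of_dvd_of_dvd h h'⟩
    · exact ⟨_, hin _ (Or.inr (Or.inr (Or.inr rfl))), by rw [mul_comm 2 s]; exact mul_dvd_mul h' h2m⟩
    · exact ⟨_, hin _ (Or.inr (Or.inr (Or.inr rfl))), mul_dvd_mul h h2m⟩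


end Cfsg.Agent.S4775
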