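import Cfsg.Statements.S4782
import Cfsg.Agent.Lib.CharApps.PrimeDegreesSolvable
import Cfsg.Agent.Lib.CharApps.RelDegreeComponents

set_option autoImplicit false
open Cfsg

namespace Cfsg.Agent.S4782

open CfsgLib

universe u

/-- A non-abelian simple group has, for any two primes, a degree prime different from both. -/
theorem exists_third {S : Type u} [Group S] [Fintype S] [IsSimpleGroup S]
    (hnc : ¬ IsMulCommutative S) (p q : ℕ) (hp : p.Prime) (hq : q.Prime) :
    ∃ r ∈ degreePrimes S, r ≠ p ∧ r ≠ q := by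
  classical
  by_contra hne
  push Not at hne
  have hG : Nontrivial S := IsSimpleGroup.toNontrivial
  haveI := Fact.mk hq
  obtain ⟨z, hz1, hzq⟩ : ∃ z : S, z ≠ 1 ∧ ∀ d, d ∣ Nat.card S → q ∣ d →
      ¬ q ∣ (Subgroup.centralizer ({z} : Set S)).index := by
    by_cases hqS : q ∣ Nat.card S
    · obtain ⟨Q⟩ : Nonempty (Sylow q S) := inferInstance
      haveI : Nontrivial (Q : Subgroup S) :=
        (Subgroup.nontrivial_iff_ne_bot _).2 (Q.ne_bot_of_dvd_card hqS)
      haveI := Q.2.center_nontrivial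
      obtain ⟨⟨z, hz⟩, hz1⟩ := exists_ne (1 : Subgroup.center (Q : Subgroup S))
      refine ⟨z, fun h => hz1 (Subtype.ext (Subtype.ext h)), fun _ _ _ h => ?_⟩
      refine Q.not_dvd_index (h.trans (Subgroup.index_dvd_of_le fun y hy => ?_))
      rw [Subgroup.mem_centralizer_singleton_iff]
      exact congrArg Subtype.val (Subgroup.mem_center_iff.1 hz ⟨y, hy⟩)
    · obtain ⟨z, hz⟩ := exists_ne (1 : S)
      exact ⟨z, hz, fun d hd hqd => absurd (hqd.trans hd) hqS⟩
  letI := Chars.irrFintype S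
  have hsum := Chars.sum_degree_mul (G := S) z
  rw [if_neg hz1, ← Finset.add_sum_erase _ _ (Finset.mem_univ (CharApps.oneIrr S)),
    CharApps.oneIrr_apply, CharApps.oneIrr_apply, one_mul] at hsum
  have hint : IsIntegral ℤ ((∑ χ ∈ (Finset.univ : Finset (IrrCharacter S)).erase (CharApps.oneIrr S),
      (χ : S → ℂ) 1 * (χ : S → ℂ) z) / (p : ℂ)) := by
    rw [Finset.sum_div]
    refine IsIntegral.sum _ fun χ hχ => ?_
    have hχ1 := (Finset.mem_erase.1 hχ).1
    have hd : charDegree (χ : S → ℂ) ≠ 1 := by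
      intro hd
      obtain ⟨l, hl⟩ := Chars.exists_hom_of_degree_one (Chars.isCharacter_of_irr χ.2)
        (by rw [CharApps.deg_eq, hd, Nat.cast_one])
      apply hχ1
      refine Subtype.ext (funext fun g => ?_)
      have hg : g ∈ commutator S := by
        rw [PrimeDegreesSolvable.commutator_eq_top hnc]
        exact Subgroup.mem_top g
      have h1 : l g = 1 := Abelianization.commutator_subset_ker l hg
      rw [CharApps.oneIrr_apply, hl]
      simp [h1]
    obtain ⟨n, -, hn, hnd⟩ := Chars.irr_degree_dvd_card χ.2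
    have hdn : charDegree (χ : S → ℂ) = n := by
      rw [CharApps.deg_eq] at hn; exact_mod_cast hn
    rw [CharApps.deg_eq]
    by_cases hpd : p ∣ charDegree (χ : S → ℂ)
    · obtain ⟨k, hk⟩ := hpd
      have hp0 : (p : ℂ) ≠ 0 := by exact_mod_cast hp.ne_zero
      rw [hk, Nat.cast_mul, mul_assoc, mul_div_cancel_left₀ _ hp0]
      exact (isIntegral_algebraMap (R := ℤ) (x := (k : ℤ))).mul
        (Chars.char_isIntegral (Chars.isCharacter_of_irr χ.2) z)
    · rw [PrimeDegreesSolvable.eq_zero_of_coprime hnc hd hz1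
        (Nat.coprime_of_dvd fun r hr hrd hri => ?_), mul_zero, zero_div]
      · exact isIntegral_zero
      have hrS : r ∈ degreePrimes S := ⟨hr, _, ⟨χ, rfl⟩, hrd⟩
      have hrq : r = q := hne r hrS fun h => hpd (h ▸ hrd)
      subst hrq
      exact hzq _ (hdn ▸ hnd) hrd hri
  rw [eq_neg_of_add_eq_zero_right hsum, neg_div] at hint
  have := Chars.dvd_of_isIntegral_div hp.ne_zero (a := 1) (by simpa using hint.neg)
  exact hp.one_lt.ne' (Nat.dvd_one.1 this)

/-- In a non-solvable group there is, for any two primes, a degree prime different from both. -/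
theorem exists_third' : ∀ (n : ℕ) {G : Type u} [Group G] [Finite G], Nat.card G ≤ n →
    ¬ Group.IsSolvable G → ∀ p q : ℕ, p.Prime → q.Prime →
      ∃ r ∈ degreePrimes G, r ≠ p ∧ r ≠ q := by
  intro n
  induction n with
  | zero => intro G _ _ h; exact absurd h (by have := Nat.card_pos (α := G); omega)
  | succ n ih =>
    intro G _ _ hn hns p q hp hq
    classical
    letI := Fintype.ofFinite G
    haveI : Nontrivial G := by
      by_contra h
      rw [not_nontrivial_iff_subsingleton] at h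
      exact hns inferInstance
    by_cases hsimp : IsSimpleGroup G
    · exact exists_third (fun h => hns (Group.isSolvable_of_comm fun a b => h.is_comm.comm a b))
        p q hp hq
    obtain ⟨N, hNn, hN0, hN1⟩ : ∃ N : Subgroup G, N.Normal ∧ N ≠ ⊥ ∧ N ≠ ⊤ := by
      by_contra h
      push Not at h
      exact hsimp ⟨fun N hN => or_iff_not_imp_left.2 (h N hN)⟩
    haveI := hNn
    have hcard := N.card_mul_index
    have h2N : 1 < Nat.card N := N.one_lt_card_iff_ne_bot.2 hN0
    have h2I : 1 < N.index := N.one_lt_index_of_ne_top hN1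
    by_cases hNs : Group.IsSolvable N
    · have hQ : ¬ Group.IsSolvable (G ⧸ N) := fun hQ => hns
        ((Group.isSolvable_iff_subgroup_quotient N).2 ⟨hNs, hQ⟩)
      obtain ⟨r, ⟨hr, d, ⟨ψ, rfl⟩, hrd⟩, hne⟩ := ih (G := G ⧸ N) (by
        rw [← Subgroup.index_eq_card]
        have : 2 * N.index ≤ Nat.card G := hcard ▸ Nat.mul_le_mul_right _ h2N
        omega) hQ p q hp hq
      refine ⟨r, ⟨hr, _, ⟨⟨_, Chars.isIrrCharacter_inflate N ψ.2⟩, rfl⟩, ?_⟩, hne⟩
      convert hrd using 1
      have h1 := CharApps.deg_eq (⟨_, Chars.isIrrCharacter_inflate N ψ.2⟩ : IrrCharacter G)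
      have h2 := CharApps.deg_eq ψ
      have h3 : ((ψ : G ⧸ N → ℂ) ((1 : G) : G ⧸ N)) = (ψ : G ⧸ N → ℂ) 1 := rfl
      rw [h3, h2] at h1
      exact_mod_cast h1.symm
    · obtain ⟨r, ⟨hr, d, ⟨θ, rfl⟩, hrd⟩, hne⟩ := ih (G := N) (by
        have : 2 * Nat.card N ≤ Nat.card G := hcard ▸ by rw [mul_comm]; exact Nat.mul_le_mul_left _ h2I
        omega) hNs p q hp hq
      letI := Fintype.ofFinite N
      obtain ⟨χ, hχ⟩ := CharApps.RelComp.exists_over N θ
      exact ⟨r, ⟨hr, _, ⟨χ, rfl⟩, hrd.trans (CharApps.RelComp.theta_deg_dvd N hχ)⟩, hne⟩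

/-- If the finite group G is not solvable, then at least three distinct primes each divide some irreducible complex character degree of G. -/
theorem result {G : Type*} [Group G] [Finite G] (hG : ¬ Group.IsSolvable G) : ∃ p q r : ℕ, p ≠ q ∧ q ≠ r ∧ p ≠ r ∧ p ∈ Cfsg.degreePrimes G ∧ q ∈ Cfsg.degreePrimes G ∧ r ∈ Cfsg.degreePrimes G := by
  obtain ⟨p, hp, -, -⟩ := exists_third' _ le_rfl hG 2 2 Nat.prime_two Nat.prime_two
  obtain ⟨q, hq, hqp, -⟩ := exists_third' _ le_rfl hG p p hp.1 hp.1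
  obtain ⟨r, hr, hrp, hrq⟩ := exists_third' _ le_rfl hG p q hp.1 hq.1
  exact ⟨p, q, r, hqp.symm, hrq.symm, hrp.symm, hp, hq, hr⟩

end Cfsg.Agent.S4782
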