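import Cfsg.Statements.S4784
import Cfsg.Agent.Lib.CharApps.PermIndicator

set_option autoImplicit false
open Cfsg

namespace Cfsg.Agent.S4784

/-- Let H be a subgroup of the finite group G and consider the permutation character of G on the cosets of H (the function induced from the principal character of H). Then exactly one irreducible constituent of it is real-valued with Frobenius–Schur indicator +1 (namely the principal character) if and only if the normal core of H has odd index in G. -/
theorem result {G : Type*} [Group G] [Fintype G] (H : Subgroup G) : Nat.card {χ : Cfsg.IrrCharacter G // Cfsg.classInner (Cfsg.indFun H (fun _ : H => (1 : ℂ))) (χ : G → ℂ) ≠ 0 ∧ (∀ g : G, (starRingEnd ℂ) ((χ : G → ℂ) g) = (χ : G → ℂ) g) ∧ (Nat.card G : ℂ)⁻¹ * ∑ g : G, (χ : G → ℂ) (g * g) = 1} = 1 ↔ Odd H.normalCore.index := by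
  classical
  haveI := CfsgLib.Chars.irrFintype G
  haveI := Fintype.ofFinite H
  set m : Cfsg.IrrCharacter G → ℕ := fun χ => (CfsgLib.CharApps.inner_perm_nat H χ).choose
    with hm'
  have hm : ∀ χ : Cfsg.IrrCharacter G,
      Cfsg.classInner (Cfsg.indFun H (fun _ : H => (1 : ℂ))) (χ : G → ℂ) = m χ :=
    fun χ => (CfsgLib.CharApps.inner_perm_nat H χ).choose_spec
  have hone : m (CfsgLib.CharApps.oneIrr G) = 1 := by
    have h := hm (CfsgLib.CharApps.oneIrr G)
    rw [CfsgLib.CharApps.inner_perm H (CfsgLib.Chars.isClassFunction_irr _),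
      Finset.sum_congr rfl (g := fun _ => (1 : ℂ))
        (fun x _ => by rw [CfsgLib.CharApps.oneIrr_apply, map_one]),
      Finset.sum_const, nsmul_one, Finset.card_univ, ← Nat.card_eq_fintype_card,
      inv_mul_cancel₀ (CfsgLib.Chars.card_ne_zero H)] at h
    exact_mod_cast h.symm
  have hfs1 : CfsgLib.CharApps.fsInd (CfsgLib.CharApps.oneIrr G : G → ℂ) = 1 :=
    CfsgLib.CharApps.fsInd_one
  constructor
  · intro hc
    by_contra hodd
    haveI : Fact (Nat.Prime 2) := ⟨Nat.prime_two⟩
    have h2 : 2 ∣ Nat.card (G ⧸ H.normalCore) := by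
      rw [← Subgroup.index_eq_card]
      exact (Nat.not_odd_iff_even.mp hodd).two_dvd
    obtain ⟨q, hq⟩ := exists_prime_orderOf_dvd_card' 2 h2
    obtain ⟨t, rfl⟩ := QuotientGroup.mk_surjective q
    have ht1 : t ∉ H.normalCore := fun h => by
      rw [(QuotientGroup.eq_one_iff t).mpr h, orderOf_one] at hq
      omega
    obtain ⟨c, hc'⟩ : ∃ c : G, c * t * c⁻¹ ∉ H := by
      by_contra hcon
      push Not at hcon
      exact ht1 fun b => hcon b
    have hsq : (c * t * c⁻¹) * (c * t * c⁻¹) ∈ H := by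
      have h3 : t * t ∈ H.normalCore := by
        rw [← QuotientGroup.eq_one_iff (N := H.normalCore), QuotientGroup.mk_mul, ← pow_two, ← hq]
        exact pow_orderOf_eq_one _
      have h4 : c * (t * t) * c⁻¹ ∈ H.normalCore :=
        (inferInstance : H.normalCore.Normal).conj_mem _ h3 c
      have h5 := H.normalCore_le h4
      simpa [mul_assoc] using h5
    have hlt : Nat.card H < Nat.card {g : G // g * g ∈ H} := by
      rw [Nat.card_eq_fintype_card, Nat.card_eq_fintype_card]
      refine Fintype.card_lt_of_injective_of_notMem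
        (fun x : H => (⟨x, H.mul_mem x.2 x.2⟩ : {g : G // g * g ∈ H}))
        (fun a b hab => Subtype.ext (congrArg Subtype.val hab :))
        (b := ⟨_, hsq⟩) ?_
      rintro ⟨x, hx⟩
      have hx' : (x : G) = c * t * c⁻¹ := congrArg Subtype.val hx
      exact hc' (hx' ▸ x.2)
    have hcount := CfsgLib.CharApps.sum_ind_mult H
    simp only [hm] at hcount
    obtain ⟨χ, hne, hχ⟩ : ∃ χ, χ ≠ CfsgLib.CharApps.oneIrr G ∧
        0 < (CfsgLib.CharApps.fsInd (χ : G → ℂ) * (m χ : ℂ)).re := by
      by_contra hcon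
      push Not at hcon
      rw [← Finset.add_sum_erase _ _ (Finset.mem_univ (CfsgLib.CharApps.oneIrr G)), hfs1, hone]
        at hcount
      have h6 := congrArg Complex.re hcount
      rw [Complex.add_re, Complex.re_sum, Complex.div_natCast_re, Complex.natCast_re] at h6
      have h7 : (1 : ℝ) < (Nat.card {g : G // g * g ∈ H} : ℝ) / Nat.card H := by
        rw [one_lt_div (by exact_mod_cast Nat.card_pos)]
        exact_mod_cast hlt
      have h8 : (∑ χ ∈ Finset.univ.erase (CfsgLib.CharApps.oneIrr G),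
          (CfsgLib.CharApps.fsInd (χ : G → ℂ) * (m χ : ℂ)).re) ≤ 0 :=
        Finset.sum_nonpos fun χ hχ => hcon χ (Finset.mem_erase.mp hχ).1
      rw [one_mul, Nat.cast_one, Complex.one_re] at h6
      linarith
    have hmem : ∀ ψ : Cfsg.IrrCharacter G,
        0 < (CfsgLib.CharApps.fsInd (ψ : G → ℂ) * (m ψ : ℂ)).re →
        Cfsg.classInner (Cfsg.indFun H (fun _ : H => (1 : ℂ))) (ψ : G → ℂ) ≠ 0 ∧
        (∀ g : G, (starRingEnd ℂ) ((ψ : G → ℂ) g) = (ψ : G → ℂ) g) ∧
        (Nat.card G : ℂ)⁻¹ * ∑ g : G, (ψ : G → ℂ) (g * g) = 1 := by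
      intro ψ hψ
      have hreal : ∀ g : G, (starRingEnd ℂ) ((ψ : G → ℂ) g) = (ψ : G → ℂ) g := by
        by_contra hcon
        push Not at hcon
        rw [CfsgLib.CharApps.fsInd_eq_zero ψ hcon] at hψ
        simp at hψ
      refine ⟨fun h0 => ?_, hreal, ?_⟩
      · rw [← hm, h0] at hψ
        simp at hψ
      · rcases CfsgLib.CharApps.fsInd_of_real ψ hreal with h | h
        · exact h
        · rw [h] at hψ
          simp at hψ
          have : (0 : ℝ) ≤ (m ψ : ℝ) := Nat.cast_nonneg _
          linarith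
    have h1 := hmem (CfsgLib.CharApps.oneIrr G) (by rw [hfs1, hone]; simp)
    have h2 := hmem χ hχ
    obtain ⟨a, ha⟩ := Nat.card_eq_one_iff_exists.mp hc
    exact hne (congrArg Subtype.val ((ha ⟨χ, h2⟩).trans (ha ⟨_, h1⟩).symm))
  · intro hodd
    refine Nat.card_eq_one_iff_exists.mpr ⟨⟨CfsgLib.CharApps.oneIrr G, ?_, fun g => ?_, hfs1⟩,
      fun χ => ?_⟩
    · rw [hm, hone]; simp
    · rw [CfsgLib.CharApps.oneIrr_apply, map_one]
    · refine Subtype.ext ?_
      by_contra hne
      have h0 := CfsgLib.CharApps.fsInd_eq_zero_of_odd χ.1 hne H.normalCore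
        (CfsgLib.CharApps.core_le_ker_of_inner_perm H χ.1 χ.2.1) hodd
      exact zero_ne_one (h0.symm.trans χ.2.2.2)

end Cfsg.Agent.S4784
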