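import Cfsg.Statements.S4797
import Cfsg.Agent.Lib.CharApps.PrimeCodegree

set_option autoImplicit false
open Cfsg

namespace Cfsg.Agent.S4797

/-- The codegree of an irreducible complex character χ of a finite group G is [G : ker χ] / χ(1), where ker χ is the set of elements at which χ takes the value χ(1). A non-trivial finite group is perfect if and only if no irreducible complex character of it has prime codegree. -/
theorem result {G : Type*} [Group G] [Finite G] [Nontrivial G] : commutator G = ⊤ ↔ ∀ χ : Cfsg.IrrCharacter G, ¬ ((Nat.card G / (Nat.card {g : G // (χ : G → ℂ) g = (χ : G → ℂ) 1} * Cfsg.charDegree (χ : G → ℂ)))).Prime := by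
  classical
  haveI := CfsgLib.Chars.irrFintype G
  constructor
  · intro hperf χ hprime
    rw [CfsgLib.CharApps.card_charKer] at hprime
    haveI := CfsgLib.CharApps.charKer_normal χ
    obtain ⟨ψ, hψ⟩ := CfsgLib.CharApps.exists_inflate (CfsgLib.CharApps.charKer χ) χ le_rfl
    have hfaith : ∀ q : G ⧸ CfsgLib.CharApps.charKer χ,
        (ψ : G ⧸ CfsgLib.CharApps.charKer χ → ℂ) q =
          (ψ : G ⧸ CfsgLib.CharApps.charKer χ → ℂ) 1 → q = 1 := by
      intro q hq
      obtain ⟨g, rfl⟩ := QuotientGroup.mk_surjective q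
      rw [QuotientGroup.eq_one_iff]
      have h1 : (χ : G → ℂ) g = (χ : G → ℂ) 1 := by
        rw [← hψ, CfsgLib.CharApps.inflate_apply, CfsgLib.CharApps.inflate_apply,
          QuotientGroup.mk_one, hq]
      exact h1
    have hdeg : Cfsg.charDegree (χ : G → ℂ) =
        Cfsg.charDegree (ψ : G ⧸ CfsgLib.CharApps.charKer χ → ℂ) := by
      rw [← CfsgLib.CharApps.inflate_charDegree, hψ]
    have hcard : Nat.card (G ⧸ CfsgLib.CharApps.charKer χ) =
        Nat.card G / (Nat.card (CfsgLib.CharApps.charKer χ) * Cfsg.charDegree (χ : G → ℂ)) *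
          Cfsg.charDegree (ψ : G ⧸ CfsgLib.CharApps.charKer χ → ℂ) := by
      obtain ⟨e, he⟩ := CfsgLib.CharApps.ker_mul_deg_dvd χ
      rw [he, Nat.mul_div_cancel_left _ (Nat.mul_pos Nat.card_pos (CfsgLib.CharApps.deg_pos χ)),
        ← hdeg]
      have h2 := (CfsgLib.CharApps.charKer χ).card_mul_index
      rw [Subgroup.index_eq_card, he, mul_assoc] at h2
      rw [mul_comm e]
      exact Nat.eq_of_mul_eq_mul_left Nat.card_pos h2
    obtain ⟨P, hPn, hPc, hC, -⟩ :=
      CfsgLib.CharApps.exists_normal_of_prime_codegree ψ hfaith hprime hcard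
    haveI := hPn
    haveI := Fact.mk hprime
    haveI hcyc : IsCyclic P := isCyclic_of_prime_card hPc
    let act : G →* MulAut P :=
      (MulAut.conjNormal).comp (QuotientGroup.mk' (CfsgLib.CharApps.charKer χ))
    have hab : ∀ a b : MulAut P, a * b = b * a := fun a b =>
      (IsCyclic.mulAutMulEquiv P).injective (by rw [map_mul, map_mul, mul_comm])
    have htriv : ∀ g : G, act g = 1 := fun g => by
      have h3 : commutator G ≤ act.ker := by
        rw [commutator_def, Subgroup.commutator_le]
        intro a _ b _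
        rw [MonoidHom.mem_ker, map_commutatorElement, commutatorElement_eq_one_iff_mul_comm]
        exact hab _ _
      exact MonoidHom.mem_ker.mp (h3 (hperf ▸ Subgroup.mem_top g))
    have htop : (⊤ : Subgroup (G ⧸ CfsgLib.CharApps.charKer χ)) = P := by
      rw [← hC, eq_comm, eq_top_iff]
      intro q _
      obtain ⟨g, rfl⟩ := QuotientGroup.mk_surjective q
      rw [Subgroup.mem_centralizer_iff]
      intro y hy
      have h4 := congrArg (fun f => ((f ⟨y, hy⟩ : P) : G ⧸ CfsgLib.CharApps.charKer χ)) (htriv g)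
      simp only [act, MonoidHom.comp_apply, QuotientGroup.mk'_apply, MulAut.conjNormal_apply,
        MulAut.one_apply] at h4
      rw [mul_inv_eq_iff_eq_mul] at h4
      exact h4.symm
    rw [← htop, Subgroup.card_top] at hPc
    haveI := isCyclic_of_prime_card hPc
    have h5 : ∀ g : G, g ∈ CfsgLib.CharApps.charKer χ := fun g => by
      have h6 : commutator G ≤ (QuotientGroup.mk' (CfsgLib.CharApps.charKer χ)).ker := by
        rw [commutator_def, Subgroup.commutator_le]
        intro a _ b _
        rw [MonoidHom.mem_ker, map_commutatorElement, commutatorElement_eq_one_iff_mul_comm]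
        exact (IsCyclic.commGroup (α := G ⧸ CfsgLib.CharApps.charKer χ)).mul_comm _ _
      rw [QuotientGroup.ker_mk'] at h6
      exact h6 (hperf ▸ Subgroup.mem_top g)
    haveI : Subsingleton (G ⧸ CfsgLib.CharApps.charKer χ) := ⟨fun a b => by
      obtain ⟨a, rfl⟩ := QuotientGroup.mk_surjective a
      obtain ⟨b, rfl⟩ := QuotientGroup.mk_surjective b
      exact QuotientGroup.eq.mpr (h5 _)⟩
    rw [Nat.card_unique] at hPc
    exact hprime.one_lt.ne hPc
  · intro h
    by_contra hperf
    have hmk : ∃ K : Subgroup G, commutator G ≤ K ∧ IsCoatom K := by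
      rcases eq_top_or_exists_le_coatom (commutator G) with h1 | ⟨K, hK, hle⟩
      · exact absurd h1 hperf
      · exact ⟨K, hle, hK⟩
    obtain ⟨K, hGK, hK⟩ := hmk
    haveI hKn : K.Normal := ⟨fun n hn g => by
      have h1 : g * n * g⁻¹ * n⁻¹ ∈ K := hGK (by
        rw [commutator_def]
        exact Subgroup.commutator_mem_commutator (Subgroup.mem_top g) (Subgroup.mem_top n))
      simpa using K.mul_mem h1 hn⟩
    haveI : IsSimpleGroup (G ⧸ K) := by
      haveI : Nontrivial (G ⧸ K) := QuotientGroup.nontrivial_iff.mpr hK.1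
      refine ⟨fun L _ => ?_⟩
      rcases hK.le_iff.mp (QuotientGroup.le_comap_mk' K L) with h1 | h1
      · exact Or.inr (Subgroup.comap_injective (QuotientGroup.mk'_surjective K)
          (h1.trans (Subgroup.comap_top _).symm))
      · refine Or.inl (Subgroup.comap_injective (QuotientGroup.mk'_surjective K) ?_)
        rw [h1, MonoidHom.comap_bot, QuotientGroup.ker_mk']
    have hcomm : ∀ a b : G ⧸ K, a * b = b * a := fun a b => by
      obtain ⟨a, rfl⟩ := QuotientGroup.mk_surjective a
      obtain ⟨b, rfl⟩ := QuotientGroup.mk_surjective b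
      rw [← QuotientGroup.mk_mul, ← QuotientGroup.mk_mul, QuotientGroup.eq]
      refine hGK ?_
      rw [commutator_def]
      have := Subgroup.commutator_mem_commutator (Subgroup.mem_top b⁻¹) (Subgroup.mem_top a⁻¹)
      simpa [commutatorElement_def, mul_assoc] using this
    have hq : (Nat.card (G ⧸ K)).Prime := by
      letI : CommGroup (G ⧸ K) := { (inferInstance : Group (G ⧸ K)) with mul_comm := hcomm }
      exact IsSimpleGroup.prime_card
    haveI := Fact.mk hq
    obtain ⟨ψ, hne, -⟩ := CfsgLib.CharApps.exists_ne_one_not_dvd_degree (G := G ⧸ K) hq dvd_rfl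
    have hψ1 : Cfsg.charDegree (ψ : G ⧸ K → ℂ) = 1 :=
      (CfsgLib.CharApps.deg_eq_one_iff ψ).mp (CfsgLib.Chars.irr_abelian_degree hcomm ψ.2)
    have hker : CfsgLib.CharApps.charKer (CfsgLib.CharApps.inflate K ψ) = K := by
      refine (hK.le_iff.mp (CfsgLib.CharApps.le_charKer_inflate K ψ)).resolve_left fun ht => hne ?_
      refine Subtype.ext (funext fun q => ?_)
      obtain ⟨g, rfl⟩ := QuotientGroup.mk_surjective q
      have h1 : (CfsgLib.CharApps.inflate K ψ : G → ℂ) g =
          (CfsgLib.CharApps.inflate K ψ : G → ℂ) 1 :=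
        CfsgLib.CharApps.mem_charKer.mp (ht ▸ Subgroup.mem_top g)
      rw [CfsgLib.CharApps.inflate_apply, CfsgLib.CharApps.inflate_apply, QuotientGroup.mk_one,
        CfsgLib.CharApps.deg_eq, hψ1, Nat.cast_one] at h1
      exact h1
    refine h (CfsgLib.CharApps.inflate K ψ) ?_
    rw [CfsgLib.CharApps.card_charKer, hker, CfsgLib.CharApps.inflate_charDegree, hψ1, mul_one,
      ← K.card_mul_index, Nat.mul_div_cancel_left _ Nat.card_pos, Subgroup.index_eq_card]
    exact hq

end Cfsg.Agent.S4797
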