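import Cfsg.Statements.S4798
import Cfsg.Agent.Lib.CharApps.Inflation
import Cfsg.Agent.Lib.Chars.Induction

set_option autoImplicit false
open Cfsg

namespace Cfsg.Agent.S4798

/-- Let p be a prime and χ a faithful irreducible complex character of the finite group G (χ(g) = χ(1) only for g = 1), so that its codegree is #G / χ(1). Then #G / χ(1) is a power of p if and only if χ is induced from a character of a Sylow p-subgroup of G. -/
theorem result {G : Type*} [Group G] [Fintype G] (p : ℕ) [Fact p.Prime] (χ : Cfsg.IrrCharacter G) (hfaith : ∀ g : G, (χ : G → ℂ) g = (χ : G → ℂ) 1 → g = 1) : (∃ k : ℕ, Nat.card G = p ^ k * Cfsg.charDegree (χ : G → ℂ)) ↔ ∃ (P : Sylow p G) (θ : ↥(P : Subgroup G) → ℂ), Cfsg.IsCharacter ↥(P : Subgroup G) θ ∧ (χ : G → ℂ) = Cfsg.indFun (P : Subgroup G) θ := by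
  classical
  haveI := CfsgLib.Chars.irrFintype G
  haveI hfP : ∀ P : Sylow p G, Fintype ↥(P : Subgroup G) := fun P => Fintype.ofFinite _
  have hp : p.Prime := Fact.out
  obtain ⟨d, -, hd, hdvd⟩ := CfsgLib.Chars.irr_degree_dvd_card χ.2
  rw [CfsgLib.CharApps.deg_eq, Nat.cast_inj] at hd
  subst hd
  constructor
  · rintro ⟨k, hk⟩
    obtain ⟨P⟩ : Nonempty (Sylow p G) := inferInstance
    haveI := CfsgLib.Chars.irrFintype ↥(P : Subgroup G)
    set φ : ↥(P : Subgroup G) → ℂ := fun x => (χ : G → ℂ) x with hφ'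
    have hφ : Cfsg.IsCharacter ↥(P : Subgroup G) φ :=
      CfsgLib.Chars.isCharacter_restrict _ (CfsgLib.Chars.isCharacter_of_irr χ.2)
    have hidx : ¬ p ∣ (P : Subgroup G).index := P.not_dvd_index
    have hcard : Nat.card ↥(P : Subgroup G) * (P : Subgroup G).index = Nat.card G :=
      (P : Subgroup G).card_mul_index
    obtain ⟨a, ha⟩ := IsPGroup.iff_card.mp P.isPGroup'
    -- the degree of `χ` is the index times a power of `p`
    obtain ⟨e, he⟩ : ∃ e, Cfsg.charDegree (χ : G → ℂ) = (P : Subgroup G).index * p ^ e := by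
      have h1 : (P : Subgroup G).index ∣ Cfsg.charDegree (χ : G → ℂ) := by
        refine (Nat.Coprime.pow_right k (hp.coprime_iff_not_dvd.mpr hidx).symm).dvd_of_dvd_mul_left ?_
        rw [← hk]
        exact ⟨_, (mul_comm _ _).trans hcard |>.symm⟩
      obtain ⟨c, hc⟩ := h1
      have h2 : c ∣ p ^ a := by
        refine Nat.dvd_of_mul_dvd_mul_left (Nat.pos_of_ne_zero
          (Subgroup.index_ne_zero_of_finite (H := (P : Subgroup G)))) ?_
        rw [← hc, ← ha, mul_comm (P : Subgroup G).index, hcard]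
        exact hdvd
      obtain ⟨e, -, rfl⟩ := (Nat.dvd_prime_pow hp).mp h2
      exact ⟨e, hc⟩
    -- a constituent of small degree
    obtain ⟨θ, hθ, hθd⟩ : ∃ θ : Cfsg.IrrCharacter ↥(P : Subgroup G),
        Cfsg.classInner φ θ ≠ 0 ∧
          ¬ p ^ (e + 1) ∣ Cfsg.charDegree (θ : ↥(P : Subgroup G) → ℂ) := by
      by_contra hcon
      push Not at hcon
      have h1 := congrFun (CfsgLib.Chars.classFun_eq_sum
        (CfsgLib.Chars.isClassFunction_of_isCharacter hφ)) 1
      rw [Finset.sum_apply] at h1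
      choose m hm using fun θ : Cfsg.IrrCharacter ↥(P : Subgroup G) =>
        CfsgLib.Chars.inner_irr_right_nat hφ θ
      simp only [Pi.smul_apply, smul_eq_mul, hm, CfsgLib.CharApps.deg_eq] at h1
      have h2 : φ 1 = (Cfsg.charDegree (χ : G → ℂ) : ℂ) := CfsgLib.CharApps.deg_eq χ
      rw [h2] at h1
      have h3 : p ^ (e + 1) ∣ Cfsg.charDegree (χ : G → ℂ) := by
        have h4 : Cfsg.charDegree (χ : G → ℂ) = ∑ θ : Cfsg.IrrCharacter ↥(P : Subgroup G),
            m θ * Cfsg.charDegree (θ : ↥(P : Subgroup G) → ℂ) := by exact_mod_cast h1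
        rw [h4]
        refine Finset.dvd_sum fun θ _ => ?_
        by_cases h0 : m θ = 0
        · simp [h0]
        · exact Dvd.dvd.mul_left (hcon θ (by rw [hm]; exact_mod_cast h0)) _
      rw [he, pow_succ'] at h3
      exact hidx (Nat.dvd_of_mul_dvd_mul_right (pow_pos hp.pos e) h3)
    obtain ⟨j, hj⟩ : ∃ j, j ≤ e ∧ Cfsg.charDegree (θ : ↥(P : Subgroup G) → ℂ) = p ^ j := by
      obtain ⟨d', -, hd', hdvd'⟩ := CfsgLib.Chars.irr_degree_dvd_card θ.2
      rw [CfsgLib.CharApps.deg_eq, Nat.cast_inj] at hd'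
      subst hd'
      rw [ha] at hdvd'
      obtain ⟨j, -, hj⟩ := (Nat.dvd_prime_pow hp).mp hdvd'
      refine ⟨j, ?_, hj⟩
      by_contra hlt
      exact hθd (hj ▸ pow_dvd_pow p (not_le.mp hlt))
    refine ⟨P, (θ : ↥(P : Subgroup G) → ℂ), CfsgLib.Chars.isCharacter_of_irr θ.2, ?_⟩
    have hind := CfsgLib.Chars.isCharacter_indFun (P : Subgroup G)
      (CfsgLib.Chars.isCharacter_of_irr θ.2)
    set ψ := Cfsg.indFun (P : Subgroup G) (θ : ↥(P : Subgroup G) → ℂ) with hψ
    have hχψ : Cfsg.classInner ψ (χ : G → ℂ) ≠ 0 := by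
      rw [hψ, CfsgLib.Chars.inner_indFun _ _ (CfsgLib.Chars.isClassFunction_irr χ),
        ← CfsgLib.Chars.inner_conj]
      exact (map_ne_zero _).mpr hθ
    choose m hm using fun η : Cfsg.IrrCharacter G => CfsgLib.Chars.inner_irr_right_nat hind η
    have h1 := CfsgLib.Chars.classFun_eq_sum (CfsgLib.Chars.isClassFunction_of_isCharacter hind)
    simp only [hm] at h1
    have h2 := congrFun h1 1
    rw [hψ, CfsgLib.Chars.indFun_one_apply, Finset.sum_apply] at h2
    simp only [Pi.smul_apply, smul_eq_mul, CfsgLib.CharApps.deg_eq, hj.2] at h2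
    have h3 : (P : Subgroup G).index * p ^ j =
        ∑ η : Cfsg.IrrCharacter G, m η * Cfsg.charDegree (η : G → ℂ) := by exact_mod_cast h2
    rw [← Finset.add_sum_erase _ _ (Finset.mem_univ χ)] at h3
    have hmχ : 1 ≤ m χ := Nat.one_le_iff_ne_zero.mpr fun h0 => hχψ (by rw [hm, h0, Nat.cast_zero])
    have h4 : (P : Subgroup G).index * p ^ j ≤ Cfsg.charDegree (χ : G → ℂ) := by
      rw [he]; exact Nat.mul_le_mul_left _ (Nat.pow_le_pow_right hp.pos hj.1)
    have h5 : Cfsg.charDegree (χ : G → ℂ) ≤ m χ * Cfsg.charDegree (χ : G → ℂ) :=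
      Nat.le_mul_of_pos_left _ hmχ
    have h6 : m χ = 1 := by
      have h7 : m χ * Cfsg.charDegree (χ : G → ℂ) ≤ 1 * Cfsg.charDegree (χ : G → ℂ) := by omega
      exact le_antisymm (Nat.le_of_mul_le_mul_right h7 (CfsgLib.CharApps.deg_pos χ)) hmχ
    have h8 : ∀ η ∈ Finset.univ.erase χ, m η = 0 := fun η hη => by
      have h9 : ∑ η ∈ Finset.univ.erase χ, m η * Cfsg.charDegree (η : G → ℂ) = 0 := by omega
      exact (mul_eq_zero.mp ((Finset.sum_eq_zero_iff).mp h9 η hη)).resolve_right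
        (CfsgLib.CharApps.deg_pos η).ne'
    rw [h1, Finset.sum_eq_single χ (fun η _ hne => by
      simp [h8 η (Finset.mem_erase.mpr ⟨hne, Finset.mem_univ η⟩)]) (by simp), h6]
    simp
  · rintro ⟨P, θ, hθ, hχ⟩
    obtain ⟨t, ht⟩ := CfsgLib.Chars.character_degree_nat hθ
    have h1 : Cfsg.charDegree (χ : G → ℂ) = (P : Subgroup G).index * t := by
      have h := congrFun hχ 1
      rw [CfsgLib.Chars.indFun_one_apply, ht, CfsgLib.CharApps.deg_eq] at h
      exact_mod_cast h
    obtain ⟨a, ha⟩ := IsPGroup.iff_card.mp P.isPGroup'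
    have hcard := (P : Subgroup G).card_mul_index
    have h2 : t ∣ p ^ a := by
      refine Nat.dvd_of_mul_dvd_mul_left (Nat.pos_of_ne_zero
        (Subgroup.index_ne_zero_of_finite (H := (P : Subgroup G)))) ?_
      rw [← h1, ← ha, mul_comm (P : Subgroup G).index, hcard]
      exact hdvd
    obtain ⟨j, hja, rfl⟩ := (Nat.dvd_prime_pow hp).mp h2
    refine ⟨a - j, ?_⟩
    rw [h1, mul_comm (P : Subgroup G).index, ← mul_assoc, ← pow_add, Nat.sub_add_cancel hja, ← ha,
      hcard]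

end Cfsg.Agent.S4798
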