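import Cfsg.Statements.S4801
import Cfsg.Agent.Lib.CharApps.Codegree

set_option autoImplicit false
open Cfsg

namespace Cfsg.Agent.S4801

/-- The codegree of an irreducible complex character χ of a finite group G is [G : ker χ] / χ(1), where ker χ is the set of elements at which χ takes the value χ(1). Let S be a finite simple group and G a finite group such that every codegree of an irreducible character of S is a codegree of an irreducible character of G. Then the order of S divides the order of G. -/
theorem result {S : Type*} [Group S] [Finite S] (hS : IsSimpleGroup S) {G : Type*} [Group G] [Finite G] (hsub : ∀ χ : Cfsg.IrrCharacter S, ∃ ψ : Cfsg.IrrCharacter G, (Nat.card S / (Nat.card {g : S // (χ : S → ℂ) g = (χ : S → ℂ) 1} * Cfsg.charDegree (χ : S → ℂ))) = (Nat.card G / (Nat.card {g : G // (ψ : G → ℂ) g = (ψ : G → ℂ) 1} * Cfsg.charDegree (ψ : G → ℂ)))) : Nat.card S ∣ Nat.card G := by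
  haveI := hS
  rw [Nat.dvd_iff_prime_pow_dvd_dvd]
  intro p k hp hpk
  rcases Nat.eq_zero_or_pos k with rfl | hk
  · simp
  obtain ⟨χ, hne, hdeg⟩ := CfsgLib.CharApps.exists_ne_one_not_dvd_degree hp
    ((dvd_pow_self p hk.ne').trans hpk)
  obtain ⟨ψ, hψ⟩ := hsub χ
  refine dvd_trans ?_ (CfsgLib.CharApps.codegree_dvd ψ)
  rw [← hψ, CfsgLib.CharApps.card_charKer, CfsgLib.CharApps.charKer_eq_bot_of_simple χ hne,
    Subgroup.card_bot, one_mul]
  have hd : Cfsg.charDegree (χ : S → ℂ) ∣ Nat.card S :=
    dvd_trans (dvd_mul_left _ _) (CfsgLib.CharApps.ker_mul_deg_dvd χ)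
  rw [← Nat.mul_div_cancel' hd] at hpk
  exact (Nat.Coprime.pow_left k (hp.coprime_iff_not_dvd.mpr hdeg)).dvd_of_dvd_mul_left hpk

end Cfsg.Agent.S4801
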