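import Cfsg.Statements.S4802
import Cfsg.Agent.Lib.CharApps.NormalSum

set_option autoImplicit false
open Cfsg

namespace Cfsg.Agent.S4802

/-- Let N < M be normal subgroups of the finite group G and g ∈ M ∖ N. Then the conjugacy class of g is exactly M ∖ N if and only if every irreducible complex character of G whose kernel contains N takes the same value at all elements of M ∖ N, and every irreducible complex character of G whose kernel does not contain N vanishes at g. -/
theorem result {G : Type*} [Group G] [Finite G] (N M : Subgroup G) [N.Normal] [M.Normal] (hNM : N < M) (g : G) (hgM : g ∈ M) (hgN : g ∉ N) : {h : G | IsConj g h} = (M : Set G) \ (N : Set G) ↔ ((∀ χ : Cfsg.IrrCharacter G, (∀ x ∈ N, (χ : G → ℂ) x = (χ : G → ℂ) 1) → ∀ x ∈ M, x ∉ N → ∀ y ∈ M, y ∉ N → (χ : G → ℂ) x = (χ : G → ℂ) y) ∧ (∀ χ : Cfsg.IrrCharacter G, (∃ x ∈ N, (χ : G → ℂ) x ≠ (χ : G → ℂ) 1) → (χ : G → ℂ) g = 0)) := by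
  classical
  haveI := Fintype.ofFinite G
  haveI := Fintype.ofFinite N
  haveI := CfsgLib.Chars.irrFintype G
  constructor
  · intro hset
    have hmem : ∀ h : G, IsConj g h ↔ h ∈ M ∧ h ∉ N := fun h => Set.ext_iff.mp hset h
    refine ⟨fun χ _ x hx hxN y hy hyN => ?_, fun χ hχ => ?_⟩
    · exact (CfsgLib.Chars.isConj_iff_forall_irr x y).mp
        (((hmem x).mpr ⟨hx, hxN⟩).symm.trans ((hmem y).mpr ⟨hy, hyN⟩)) χ
    · obtain ⟨x, hx, hxne⟩ := hχ
      have hnle : ¬ N ≤ CfsgLib.CharApps.charKer χ := fun h => hxne (h hx)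
      have hsum := CfsgLib.CharApps.sum_coset_eq_zero N χ hnle g
      rw [Finset.sum_congr rfl (g := fun _ => (χ : G → ℂ) g) (fun n _ => ?_), Finset.sum_const,
        nsmul_eq_mul, mul_eq_zero] at hsum
      · refine hsum.resolve_left ?_
        exact_mod_cast Finset.univ_nonempty.card_pos.ne'
      · refine ((CfsgLib.Chars.isConj_iff_forall_irr g _).mp
          ((hmem _).mpr ⟨M.mul_mem (hNM.le n.2) hgM, fun h => hgN ?_⟩) χ).symm
        exact (N.mul_mem_cancel_left n.2).mp h
  · rintro ⟨hc, hv⟩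
    refine Set.Subset.antisymm ?_ ?_
    · intro h hh
      obtain ⟨c, rfl⟩ := isConj_iff.mp hh
      refine ⟨(inferInstance : M.Normal).conj_mem g hgM c, fun hN => hgN ?_⟩
      simpa [mul_assoc] using (inferInstance : N.Normal).conj_mem _ hN c⁻¹
    · rintro h ⟨hhM, hhN⟩
      show IsConj g h
      by_contra hcon
      have h1 := CfsgLib.Chars.second_orthogonality g g
      have h2 := CfsgLib.Chars.second_orthogonality g h
      rw [if_pos (IsConj.refl g)] at h1
      rw [if_neg (fun hh => hcon hh.symm)] at h2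
      rw [Finset.sum_congr rfl (g := fun χ : Cfsg.IrrCharacter G =>
        (χ : G → ℂ) g * (starRingEnd ℂ) ((χ : G → ℂ) g)) (fun χ _ => ?_)] at h2
      · exact Nat.cast_ne_zero.mpr Nat.card_pos.ne' (h1.symm.trans h2)
      · by_cases hχ : ∀ x ∈ N, (χ : G → ℂ) x = (χ : G → ℂ) 1
        · rw [hc χ hχ h hhM hhN g hgM hgN]
        · push Not at hχ
          rw [hv χ hχ, zero_mul, zero_mul]

end Cfsg.Agent.S4802
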