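import Cfsg.Statements.S4805
import Cfsg.Agent.Lib.CharApps.OneNonvanishing.Structure
import Cfsg.Agent.Lib.Chars.Linear
import Cfsg.Agent.Lib.Chars.Quotient
import Cfsg.Agent.Lib.Chars.Degree
import Cfsg.Agent.Lib.Blocks.Degree

set_option autoImplicit false
set_option linter.style.haveILetI false
open Cfsg

namespace Cfsg.Agent.S4805

open scoped ComplexConjugate commutatorElement
open CfsgLib.Chars

/-- The sum of the values of the linear characters. -/
private theorem sum_linear {G : Type*} [Group G] [Finite G] [Fintype (G →* ℂˣ)] (y : G) :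
    (y ∈ commutator G → ∑ lam : G →* ℂˣ, (lam y : ℂ) = ((commutator G).index : ℂ)) ∧
      (y ∉ commutator G → ∑ lam : G →* ℂˣ, (lam y : ℂ) = 0) := by
  refine ⟨fun hy => ?_, fun hy => ?_⟩
  · have : ∀ lam : G →* ℂˣ, (lam y : ℂ) = 1 := fun lam => by
      rw [MonoidHom.mem_ker.1 (Abelianization.commutator_subset_ker lam hy), Units.val_one]
    rw [Finset.sum_congr rfl fun lam _ => this lam, Finset.sum_const, nsmul_one, Finset.card_univ,
      ← Nat.card_eq_fintype_card, card_monoidHom_units]
  · have hne : (Abelianization.of y : Abelianization G) ≠ 1 := fun h =>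
      hy ((QuotientGroup.eq_one_iff y).1 h)
    haveI : NeZero (Monoid.exponent (Abelianization G) : ℂ) :=
      ⟨Nat.cast_ne_zero.mpr Monoid.exponent_ne_zero_of_finite⟩
    obtain ⟨μ, hμ⟩ := CommGroup.exists_apply_ne_one_of_hasEnoughRootsOfUnity _ ℂ hne
    let nu : G →* ℂˣ := μ.comp Abelianization.of
    have h1 : ∑ lam : G →* ℂˣ, (lam y : ℂ) = (nu y : ℂ) * ∑ lam : G →* ℂˣ, (lam y : ℂ) := by
      rw [Finset.mul_sum]
      refine (Fintype.sum_equiv (Equiv.mulLeft nu) _ _ fun lam => ?_).symm
      simp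
    have h2 : (nu y : ℂ) - 1 ≠ 0 := sub_ne_zero.2 fun h => hμ (Units.ext h)
    have h3 : ((nu y : ℂ) - 1) * ∑ lam : G →* ℂˣ, (lam y : ℂ) = 0 := by
      rw [sub_mul, one_mul, ← h1, sub_self]
    exact (mul_eq_zero.1 h3).resolve_left h2


/-- Let G be a finite group, g an element outside the centre of G, and χ an irreducible complex character of degree greater than one with χ(g) ≠ 0 such that every other irreducible character of degree greater than one vanishes at g. Then g lies in the derived subgroup G′ and χ(g) = −[G : G′]/χ(1); G′ is the union of the kernel of χ (the elements where χ takes the value χ(1)) and the conjugacy class of g, and χ vanishes outside G′; every irreducible character of degree greater than one whose kernel contains that of χ equals χ; and G is solvable. -/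
theorem result {G : Type*} [Group G] [Finite G] (g : G) (hg : g ∉ Subgroup.center G) (χ : Cfsg.IrrCharacter G) (hχ1 : Cfsg.charDegree (χ : G → ℂ) ≠ 1) (hχg : (χ : G → ℂ) g ≠ 0) (hother : ∀ ψ : Cfsg.IrrCharacter G, Cfsg.charDegree (ψ : G → ℂ) ≠ 1 → ψ ≠ χ → (ψ : G → ℂ) g = 0) : g ∈ commutator G ∧ (χ : G → ℂ) g = -(((commutator G).index : ℂ) / (χ : G → ℂ) 1) ∧ ((commutator G : Set G) = {x : G | (χ : G → ℂ) x = (χ : G → ℂ) 1} ∪ {h : G | IsConj g h}) ∧ (∀ x : G, x ∉ commutator G → (χ : G → ℂ) x = 0) ∧ (∀ ψ : Cfsg.IrrCharacter G, Cfsg.charDegree (ψ : G → ℂ) ≠ 1 → (∀ x : G, (χ : G → ℂ) x = (χ : G → ℂ) 1 → (ψ : G → ℂ) x = (ψ : G → ℂ) 1) → ψ = χ) ∧ Group.IsSolvable G := by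
  classical
  haveI := irrFintype G
  haveI := Fintype.ofFinite G
  haveI := Fintype.ofFinite (G →* ℂˣ)
  have hdeg : ∀ ψ : Cfsg.IrrCharacter G,
      Cfsg.charDegree (ψ : G → ℂ) = 1 ↔ (ψ : G → ℂ) 1 = 1 := fun ψ => by
    rw [← CfsgLib.Blocks.charDegree_cast ψ, Nat.cast_eq_one]
  have hg1 : g ≠ 1 := fun h => hg (h ▸ one_mem _)
  -- orthogonality of the column of `g`
  have horth : ∀ x : G, (∑ lam : G →* ℂˣ, (lam (g * x⁻¹) : ℂ)) +
      (χ : G → ℂ) g * conj ((χ : G → ℂ) x) =
      if IsConj x g then (Nat.card (Subgroup.centralizer ({g} : Set G)) : ℂ) else 0 := by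
    intro x
    rw [← second_orthogonality g x,
      ← Finset.sum_filter_add_sum_filter_not Finset.univ
        (fun ψ : Cfsg.IrrCharacter G => (ψ : G → ℂ) 1 = 1)]
    congr 1
    · rw [Finset.sum_subtype (M := ℂ) (p := fun ψ : Cfsg.IrrCharacter G => (ψ : G → ℂ) 1 = 1) _
        (fun ψ => by simp)]
      refine Fintype.sum_equiv (linearEquiv G) _ _ fun lam => ?_
      rw [← irr_inv, linearEquiv_apply, map_mul, Units.val_mul]
    · symm
      refine Finset.sum_eq_single χ (fun ψ hψ hne => ?_) fun h => ?_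
      · rw [Finset.mem_filter] at hψ
        rw [hother ψ (fun h => hψ.2 ((hdeg ψ).1 h)) hne, zero_mul]
      · exact absurd (Finset.mem_filter.2
          ⟨Finset.mem_univ _, fun h' => hχ1 ((hdeg χ).2 h')⟩) h
  obtain ⟨d, -, hd⟩ := irr_degree_nat χ.2
  have hd0 : (χ : G → ℂ) 1 ≠ 0 := irr_degree_ne_zero χ.2
  have hconjd : conj ((χ : G → ℂ) 1) = (χ : G → ℂ) 1 := by rw [hd]; simp
  have hnc1 : ¬ IsConj 1 g := fun h => hg1 (isConj_one_right.1 h)
  have h1 := horth 1
  rw [if_neg hnc1, inv_one, mul_one, hconjd] at h1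
  have hgG : g ∈ commutator G := by
    by_contra hgn
    rw [(sum_linear g).2 hgn, zero_add] at h1
    exact mul_ne_zero hχg hd0 h1
  rw [(sum_linear g).1 hgG] at h1
  have hval : (χ : G → ℂ) g = -(((commutator G).index : ℂ) / (χ : G → ℂ) 1) := by
    rw [← neg_div, eq_div_iff hd0]; linear_combination h1
  have hvan : ∀ x : G, x ∉ commutator G → (χ : G → ℂ) x = 0 := by
    intro x hx
    have h := horth x
    have hx' : g * x⁻¹ ∉ commutator G := fun h' =>
      hx (inv_mem_iff.1 ((Subgroup.mul_mem_cancel_left _ hgG).1 h'))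
    have hnc : ¬ IsConj x g := fun hc => by
      obtain ⟨c, hc'⟩ := isConj_iff.1 hc.symm
      exact hx (hc' ▸ (inferInstance : (commutator G).Normal).conj_mem g hgG c)
    rw [(sum_linear _).2 hx', zero_add, if_neg hnc] at h
    exact (map_eq_zero (starRingEnd ℂ)).1
      ((mul_eq_zero.1 h).resolve_left hχg)
  have hker : ∀ x ∈ commutator G, ¬ IsConj g x → (χ : G → ℂ) x = (χ : G → ℂ) 1 := by
    intro x hx hnc
    have h := horth x
    rw [(sum_linear _).1 (mul_mem hgG (inv_mem hx)), if_neg fun hc => hnc hc.symm] at h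
    have h' : conj ((χ : G → ℂ) x) = (χ : G → ℂ) 1 := by
      refine mul_left_cancel₀ hχg ?_
      linear_combination h - h1
    rw [← Complex.conj_conj ((χ : G → ℂ) x), h', hconjd]
  have hm0 : ((commutator G).index : ℂ) ≠ 0 := Nat.cast_ne_zero.2 Subgroup.index_ne_zero_of_finite
  have hsep : (χ : G → ℂ) g ≠ (χ : G → ℂ) 1 := by
    intro h
    rw [h, hd, ← Nat.cast_mul, ← Nat.cast_add] at h1
    have := Nat.cast_eq_zero.1 h1
    exact Subgroup.index_ne_zero_of_finite (H := commutator G) (by omega)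
  have hclsf : ∀ x, IsConj g x → (χ : G → ℂ) x = (χ : G → ℂ) g := fun x hx =>
    ((isConj_iff_forall_irr g x).1 hx χ).symm
  have hset : (commutator G : Set G) =
      {x : G | (χ : G → ℂ) x = (χ : G → ℂ) 1} ∪ {h : G | IsConj g h} := by
    ext x
    simp only [SetLike.mem_coe, Set.mem_union]
    constructor
    · intro hx
      by_cases hc : IsConj g x
      · exact Or.inr hc
      · exact Or.inl (hker x hx hc)
    · rintro (h | h)
      · by_contra hx
        exact hd0 (h.symm.trans (hvan x hx))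
      · obtain ⟨c, hc⟩ := isConj_iff.1 h
        exact hc ▸ (inferInstance : (commutator G).Normal).conj_mem g hgG c
  refine ⟨hgG, hval, hset, hvan, ?_, ?_⟩
  · intro ψ hψ1 hψker
    by_contra hne
    have hψg : (ψ : G → ℂ) g = 0 := hother ψ hψ1 hne
    -- the sum over `commutator G`
    have hsum : ∑ x : G, (∑ lam : G →* ℂˣ, (lam x : ℂ)) * (ψ : G → ℂ) x = 0 := by
      simp only [Finset.sum_mul]
      rw [Finset.sum_comm]
      refine Finset.sum_eq_zero fun lam _ => ?_
      have horth2 := inner_irr_ne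
        (show ψ ≠ (linearEquiv G lam⁻¹).1 from fun h => hψ1 ((hdeg ψ).2 (h ▸ (linearEquiv G lam⁻¹).2)))
      rw [inner_def, mul_eq_zero, inv_eq_zero] at horth2
      refine Eq.trans (Finset.sum_congr rfl fun x _ => ?_)
        (horth2.resolve_left (card_ne_zero G))
      rw [← irr_inv, linearEquiv_apply, mul_comm]
      simp
    have hterm : ∀ x : G, (∑ lam : G →* ℂˣ, (lam x : ℂ)) * (ψ : G → ℂ) x =
        if (χ : G → ℂ) x = (χ : G → ℂ) 1 then
          ((commutator G).index : ℂ) * (ψ : G → ℂ) 1 else 0 := by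
      intro x
      by_cases hx : x ∈ commutator G
      · rw [(sum_linear x).1 hx]
        rcases (hset.le hx : _ ∨ _) with h | h
        · rw [if_pos (show (χ : G → ℂ) x = (χ : G → ℂ) 1 from h), hψker x h]
        · rw [← (isConj_iff_forall_irr g x).1 h ψ, hψg, mul_zero,
            if_neg fun h' => hsep ((hclsf x h).symm.trans h')]
      · rw [(sum_linear x).2 hx, zero_mul, if_neg]
        intro h
        exact hd0 (h.symm.trans (hvan x hx))
    rw [Finset.sum_congr rfl fun x _ => hterm x, ← Finset.sum_filter, Finset.sum_const,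
      nsmul_eq_mul] at hsum
    refine mul_ne_zero (Nat.cast_ne_zero.2 ?_) (mul_ne_zero hm0 (irr_degree_ne_zero ψ.2)) hsum
    exact Finset.card_ne_zero.2 ⟨1, by simp⟩
  · obtain ⟨n, ρ, hirr, hρ⟩ := χ.2
    let K : Subgroup G := MonoidHom.ker ρ
    have hK : ∀ x, x ∈ K ↔ (χ : G → ℂ) x = (χ : G → ℂ) 1 := fun x => by
      rw [ker_iff ρ hρ]; exact MonoidHom.mem_ker
    haveI : K.Normal := inferInstanceAs (MonoidHom.ker ρ).Normal
    refine CfsgLib.CharApps.OneNonvanishing.isSolvable_of_class K
      (fun x hx => hset.ge (Or.inl ((hK x).1 hx))) hgG (fun h => hsep ((hK g).1 h))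
      (fun x hx hxK => ((hset.le hx : _ ∨ _)).resolve_left fun h => hxK ((hK x).2 h))
      fun z hz => ?_
    by_contra hzn
    haveI := hirr
    -- Schur's lemma on the quotient by the kernel
    let σ : Representation ℂ (G ⧸ K) (Fin n → ℂ) := QuotientGroup.lift K ρ le_rfl
    haveI : σ.IsIrreducible := by
      rw [isIrreducible_iff] at hirr ⊢
      exact ⟨hirr.1, fun U hU => hirr.2 U fun a x hx => hU (a : G ⧸ K) x hx⟩
    obtain ⟨c, hc⟩ := exists_scalar_of_mem_center σ (z : G ⧸ K) (Subgroup.mem_center_iff.2 fun q => by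
      obtain ⟨y, rfl⟩ := QuotientGroup.mk'_surjective K q
      refine (commutatorElement_eq_one_iff_mul_comm.1 ?_).symm
      show ⁅QuotientGroup.mk' K z, QuotientGroup.mk' K y⁆ = 1
      rw [← map_commutatorElement]
      exact (QuotientGroup.eq_one_iff _).2 (hz y))
    have hc' : ρ z = c • (LinearMap.id : (Fin n → ℂ) →ₗ[ℂ] (Fin n → ℂ)) := hc
    have h := hvan z hzn
    rw [← hρ] at h hd0
    rw [Representation.character, hc', map_smul, smul_eq_mul, mul_eq_zero] at h
    rcases h with h | h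
    · have h2 : ρ z = 0 := by rw [hc', h, zero_smul]
      have h3 : ρ (z * z⁻¹) = ρ 1 := by rw [mul_inv_cancel]
      rw [map_mul, h2, zero_mul, map_one] at h3
      refine hd0 ?_
      rw [Representation.character, map_one, ← h3, map_zero]
    · refine hd0 ?_
      rw [Representation.character, map_one, Module.End.one_eq_id]
      exact h

end Cfsg.Agent.S4805
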