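import Cfsg.Statements.S4811
import Cfsg.Agent.S4776
import Cfsg.Agent.Lib.CharApps.Inflation
import Cfsg.Agent.Lib.Chars.Degree
import Cfsg.Agent.Lib.Base.MinimalNormal

set_option autoImplicit false
open Cfsg

namespace Cfsg.Agent.S4811

open CfsgLib.Chars CfsgLib.CharApps

/-- Nonlinear degrees are relative degrees over the derived subgroup. -/
theorem mem_rel {G : Type*} [Group G] [Finite G] {d : ℕ} (hd : d ∈ charDegrees G) (h1 : d ≠ 1) :
    d ∈ relCharDegrees (commutator G) := by
  obtain ⟨χ, rfl⟩ := hd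
  refine ⟨χ, ?_, rfl⟩
  by_contra hno
  push Not at hno
  obtain ⟨ψ, rfl⟩ := exists_inflate (commutator G) χ fun g hg => by
    rw [mem_charKer]
    exact hno g hg
  refine h1 ?_
  rw [inflate_charDegree]
  have h2 := irr_abelian_degree (A := G ⧸ commutator G)
    (fun a b => @mul_comm (Abelianization G) _ a b) ψ.2
  simp [charDegree, h2]

/-- For every finite solvable group G the character degree graph of G (vertices: the primes dividing some irreducible complex character degree; edges: distinct primes whose product divides some degree) has at most two connected components. -/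
theorem result {G : Type*} [Group G] [Finite G] [Group.IsSolvable G] : Nat.card ((Cfsg.degreeGraph G).induce (Cfsg.degreePrimes G)).ConnectedComponent ≤ 2 := by
  classical
  set V := Cfsg.degreePrimes G
  rcases Set.eq_empty_or_nonempty V with hV | hV
  · haveI : IsEmpty V := Set.isEmpty_coe_sort.2 hV
    haveI : IsEmpty ((Cfsg.degreeGraph G).induce V).ConnectedComponent :=
      ⟨fun c => c.ind fun v => isEmptyElim v⟩
    rw [Nat.card_of_isEmpty]
    omega
  have hne : commutator G ≠ ⊥ := by
    intro hb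
    obtain ⟨p, hp, d, hd, hpd⟩ := hV
    have hd1 : d ≠ 1 := fun e => hp.ne_one (Nat.dvd_one.1 (e ▸ hpd))
    obtain ⟨χ, ⟨x, hx, hxn⟩, -⟩ := mem_rel hd hd1
    rw [hb, Subgroup.mem_bot] at hx
    exact hxn (by rw [hx])
  have hlt : ⁅commutator G, commutator G⁆ < commutator G :=
    CfsgLib.Base.commutator_self_lt_of_isSolvable hne inferInstance
  have hcard := (S4776.result (commutator G) hlt le_rfl).1
  set W := Cfsg.relCharDegrees (commutator G)
  haveI : Finite W := by
    refine ((Set.finite_range fun χ : IrrCharacter G => charDegree (χ : G → ℂ)).subset ?_).to_subtype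
    rintro d ⟨χ, -, rfl⟩
    exact ⟨χ, rfl⟩
  have hW : ∀ d : W, 1 < (d : ℕ) → (d : ℕ).minFac ∈ V := by
    intro d hgt
    obtain ⟨χ, -, hχ⟩ := d.2
    exact ⟨Nat.minFac_prime (by omega), (d : ℕ), ⟨χ, hχ⟩, Nat.minFac_dvd _⟩
  -- primes dividing one degree lie in one component
  have hsame : ∀ (p q : V) (d : ℕ), d ∈ charDegrees G → (p : ℕ) ∣ d → (q : ℕ) ∣ d →
      ((Cfsg.degreeGraph G).induce V).Reachable p q := by
    intro p q d hd hpd hqd
    rcases eq_or_ne p q with rfl | hpq
    · exact SimpleGraph.Reachable.refl _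
    · have hne' : (p : ℕ) ≠ q := fun e => hpq (Subtype.ext e)
      refine SimpleGraph.Adj.reachable (show (Cfsg.degreeGraph G).Adj p q from ?_)
      exact ⟨hne', p.2.1, q.2.1, d, hd,
        ((Nat.coprime_primes p.2.1 q.2.1).2 hne').mul_dvd_of_dvd_of_dvd hpd hqd⟩
  obtain ⟨p₀, hp₀⟩ := hV
  let f : W → ((Cfsg.degreeGraph G).induce V).ConnectedComponent := fun d =>
    if h : 1 < (d : ℕ) then SimpleGraph.connectedComponentMk _ ⟨_, hW d h⟩
    else SimpleGraph.connectedComponentMk _ ⟨p₀, hp₀⟩
  have hf : ∀ a b : W, (Cfsg.commonDivisorGraph.induce W).Adj a b → f a = f b := by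
    rintro a b hadj
    obtain ⟨-, hg⟩ := (show Cfsg.commonDivisorGraph.Adj a b from hadj)
    obtain ⟨r, hr, hrd⟩ := Nat.exists_prime_and_dvd (show Nat.gcd (a : ℕ) b ≠ 1 by omega)
    have hra := hrd.trans (Nat.gcd_dvd_left _ _)
    have hrb := hrd.trans (Nat.gcd_dvd_right _ _)
    obtain ⟨χ, -, hχ⟩ := a.2
    obtain ⟨χ', -, hχ'⟩ := b.2
    have hrV : r ∈ V := ⟨hr, _, ⟨χ, rfl⟩, hχ ▸ hra⟩
    have h2 : ∀ x : W, r ∣ (x : ℕ) → f x = SimpleGraph.connectedComponentMk _ ⟨r, hrV⟩ := by
      rintro ⟨x, ψ, hψn, rfl⟩ hrx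
      have hx : 1 < charDegree (ψ : G → ℂ) := by
        exact lt_of_lt_of_le hr.one_lt (Nat.le_of_dvd (deg_pos ψ) hrx)
      simp only [f, dif_pos hx]
      exact SimpleGraph.ConnectedComponent.sound
        (hsame _ _ _ ⟨ψ, rfl⟩ (Nat.minFac_dvd _) hrx)
    rw [h2 a hra, h2 b hrb]
  have hwalk : ∀ (a b : W) (w : (Cfsg.commonDivisorGraph.induce W).Walk a b), f a = f b := by
    intro a b w
    induction w with
    | nil => rfl
    | cons h _ ih => exact (hf _ _ h).trans ih
  let F : (Cfsg.commonDivisorGraph.induce W).ConnectedComponent →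
      ((Cfsg.degreeGraph G).induce V).ConnectedComponent :=
    SimpleGraph.ConnectedComponent.lift f fun a b w _ => hwalk a b w
  have hF : Function.Surjective F := by
    intro c
    induction c using SimpleGraph.ConnectedComponent.ind with
    | _ v =>
      obtain ⟨hp, d, hd, hpd⟩ := v.2
      have hd1 : d ≠ 1 := fun e => hp.ne_one (Nat.dvd_one.1 (e ▸ hpd))
      have hd0 : d ≠ 0 := by
        obtain ⟨χ, rfl⟩ := hd
        exact (deg_pos χ).ne'
      refine ⟨SimpleGraph.connectedComponentMk _ ⟨d, mem_rel hd hd1⟩, ?_⟩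
      change f ⟨d, mem_rel hd hd1⟩ = _
      simp only [f, dif_pos (show 1 < d by omega)]
      exact SimpleGraph.ConnectedComponent.sound (hsame _ v d hd (Nat.minFac_dvd _) hpd)
  exact (Nat.card_le_card_of_surjective F hF).trans hcard

end Cfsg.Agent.S4811
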