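import Cfsg.Statements.S4813
import Cfsg.Agent.Lib.CharApps.PrimeDegreesThree
import Cfsg.Agent.S4466

set_option autoImplicit false
open Cfsg

namespace Cfsg.Agent.S4813

/-- If every irreducible complex character of the finite group G of degree greater than one has prime degree, then G has at most three distinct irreducible character degrees. -/
theorem result {G : Type*} [Group G] [Finite G] (hprime : ∀ d ∈ Cfsg.charDegrees G, d = 1 ∨ d.Prime) : Nat.card ↥(Cfsg.charDegrees G) ≤ 3 := by
  classical
  haveI := Fintype.ofFinite G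
  have h1 : ∀ χ : Cfsg.IrrCharacter G, Cfsg.charDegree (χ : G → ℂ) = 1 ∨
      (Cfsg.charDegree (χ : G → ℂ)).Prime := fun χ => hprime _ ⟨χ, rfl⟩
  haveI : Group.IsSolvable G :=
    Cfsg.Agent.S4466.result fun χ hχ => (h1 χ).resolve_left hχ
  obtain ⟨a, b, hab⟩ := CfsgLib.PrimeDegreesThree.three_degrees h1
  have hsub : Cfsg.charDegrees G ⊆ (({1, a, b} : Finset ℕ) : Set ℕ) := by
    rintro d ⟨χ, rfl⟩
    simpa using hab χ
  calc Nat.card ↥(Cfsg.charDegrees G) ≤ Nat.card ↥(({1, a, b} : Finset ℕ) : Set ℕ) :=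
        Nat.card_mono (Finset.finite_toSet _) hsub
    _ ≤ 3 := by rw [Nat.card_coe_set_eq, Set.ncard_coe_finset]; exact Finset.card_le_three

end Cfsg.Agent.S4813
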