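import Cfsg.Statements.S4814
import Cfsg.Agent.Lib.CharApps.ClassCount

set_option autoImplicit false
open Cfsg

namespace Cfsg.Agent.S4814

/-- Let G be a finite group such that the sum, over the irreducible complex characters χ of G, of 1/χ(1)² is less than 2. Then every element of G is a product of two commutators. -/
theorem result {G : Type*} [Group G] [Finite G]
    (h : ∑ᶠ χ : Cfsg.IrrCharacter G, 1 / ‖(χ : G → ℂ) 1‖ ^ 2 < (2 : ℝ)) (g : G) :
    ∃ a b c d : G, (a * b * a⁻¹ * b⁻¹) * (c * d * c⁻¹ * d⁻¹) = g := by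
  classical
  haveI := Fintype.ofFinite G
  haveI := CfsgLib.Chars.irrFintype G
  by_contra hcon
  simp only [not_exists] at hcon
  haveI : IsEmpty {q : (G × G) × (G × G) // (q.1.1 * q.1.2 * q.1.1⁻¹ * q.1.2⁻¹) *
        (q.2.1 * q.2.2 * q.2.1⁻¹ * q.2.2⁻¹) = g} :=
    ⟨fun q => hcon q.1.1.1 q.1.1.2 q.1.2.1 q.1.2.2 q.2⟩
  have h1 := CfsgLib.CharApps.card_two_commutators g
  rw [Nat.card_of_isEmpty, Nat.cast_zero, zero_mul, eq_comm,
    mul_eq_zero_iff_left (pow_ne_zero 4 (CfsgLib.Chars.card_ne_zero G))] at h1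
  rw [finsum_eq_sum_of_fintype,
    ← Finset.add_sum_erase _ _ (Finset.mem_univ (CfsgLib.Chars.principal G))] at h
  rw [← Finset.add_sum_erase _ _ (Finset.mem_univ (CfsgLib.Chars.principal G))] at h1
  simp only [CfsgLib.Chars.principal_apply, one_pow, div_one, norm_one] at h h1
  have h2 : ‖∑ χ ∈ Finset.univ.erase (CfsgLib.Chars.principal G),
      (χ : G → ℂ) g⁻¹ / (χ : G → ℂ) 1 ^ 3‖ ≤
      ∑ χ ∈ Finset.univ.erase (CfsgLib.Chars.principal G), 1 / ‖(χ : G → ℂ) 1‖ ^ 2 := by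
    refine (norm_sum_le _ _).trans (Finset.sum_le_sum fun χ _ => ?_)
    have hle := CfsgLib.Chars.char_norm_le (CfsgLib.Chars.isCharacter_of_irr χ.2) g⁻¹
    have hd : 0 < Cfsg.charDegree (χ : G → ℂ) := CfsgLib.CharApps.deg_pos χ
    rw [norm_div, norm_pow]
    rw [CfsgLib.CharApps.deg_eq χ, Complex.natCast_re] at hle
    rw [CfsgLib.CharApps.deg_eq χ, Complex.norm_natCast]
    rw [div_le_div_iff₀ (by positivity) (by positivity)]
    nlinarith [pow_nonneg (Nat.cast_nonneg (α := ℝ) (Cfsg.charDegree (χ : G → ℂ))) 2]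
  rw [eq_neg_of_add_eq_zero_right h1, norm_neg, norm_one] at h2
  linarith

end Cfsg.Agent.S4814
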