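import Cfsg.Statements.S4825
import Cfsg.Agent.Lib.Blocks.SectionPart
import Cfsg.Agent.Lib.Blocks.RegularTwist
import Cfsg.Agent.Lib.Blocks.PrincipalBlock
import Cfsg.Agent.Lib.Chars.Induction
import Cfsg.Agent.Lib.Chars.Integral
import Cfsg.Agent.Lib.BlockOrth.PPart
import Cfsg.Agent.Lib.BlockOrth.InducedDegree
import Cfsg.Agent.Lib.CharsMore.CharAlg
import Cfsg.Agent.Lib.CharsMore.Clifford

set_option autoImplicit false
open Cfsg

namespace Cfsg.Agent.S4825

/-- Let p be a prime, G a finite group with Sylow p-subgroup P, M a maximal ideal of the algebraic integers containing p, and B a p-block of G with defect group P. Let N be a normal subgroup of G not containing P and θ an irreducible character of N. Then the number of irreducible characters in B of degree prime to p lying over θ (having θ as a constituent on restriction to N) is either 0 or at least 2, and when p ≤ 3 it is divisible by p. -/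
theorem result {G : Type*} [Group G] [Fintype G] (p : ℕ) [Fact p.Prime] (P : Sylow p G) (M : Ideal Cfsg.AlgInt) (hM : Cfsg.IsPModular p M) (B : Set (Cfsg.IrrCharacter G)) (hB : Cfsg.IsPBlock M B) (hBP : Cfsg.IsDefectGroup p M B P) (N : Subgroup G) [N.Normal] [Fintype N] (hPN : ¬ (P : Subgroup G) ≤ N) (θ : Cfsg.IrrCharacter N) :
    (Nat.card {χ : Cfsg.IrrCharacter G // χ ∈ B ∧ ¬ p ∣ Cfsg.charDegree (χ : G → ℂ) ∧ Cfsg.classInner (fun n : N => (χ : G → ℂ) n) (θ : N → ℂ) ≠ 0} = 0 ∨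
      2 ≤ Nat.card {χ : Cfsg.IrrCharacter G // χ ∈ B ∧ ¬ p ∣ Cfsg.charDegree (χ : G → ℂ) ∧ Cfsg.classInner (fun n : N => (χ : G → ℂ) n) (θ : N → ℂ) ≠ 0}) ∧
    (p ≤ 3 → p ∣ Nat.card {χ : Cfsg.IrrCharacter G // χ ∈ B ∧ ¬ p ∣ Cfsg.charDegree (χ : G → ℂ) ∧ Cfsg.classInner (fun n : N => (χ : G → ℂ) n) (θ : N → ℂ) ≠ 0}) := by
  classical
  haveI := hM.2.1.isPrime
  have hp : p.Prime := Fact.out
  have hpM : (p : Cfsg.AlgInt) ∈ M := hM.2.2
  letI := CfsgLib.Chars.irrFintype G
  set Φ : G → ℂ := Cfsg.indFun N (θ : N → ℂ) with hΦ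
  have hΦc := CfsgLib.Chars.isClassFunction_indFun N (θ : N → ℂ)
  let e : Cfsg.IrrCharacter G → ℕ := fun χ =>
    CfsgLib.CharsMore.multNat (fun n : N => (χ : G → ℂ) n) (θ : N → ℂ)
  have he : ∀ χ : Cfsg.IrrCharacter G,
      Cfsg.classInner (fun n : N => (χ : G → ℂ) n) (θ : N → ℂ) = (e χ : ℂ) := fun χ =>
    CfsgLib.CharsMore.inner_eq_multNat (CfsgLib.Chars.isCharacter_restrict N
      (CfsgLib.Chars.isCharacter_of_irr χ.2)) (CfsgLib.Chars.isCharacter_of_irr θ.2)
  have heΦ : ∀ χ : Cfsg.IrrCharacter G, Cfsg.classInner Φ (χ : G → ℂ) = (e χ : ℂ) := fun χ => by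
    rw [hΦ, CfsgLib.Chars.inner_indFun N _ (CfsgLib.Chars.isClassFunction_irr χ),
      CfsgLib.CharsMore.conj_inner (CfsgLib.Chars.isCharacter_restrict N
        (CfsgLib.Chars.isCharacter_of_irr χ.2)) (CfsgLib.Chars.isCharacter_of_irr θ.2), he]
  obtain ⟨x, hxP, hxN⟩ := SetLike.not_le_iff_exists.1 hPN
  obtain ⟨k, hk⟩ := IsPGroup.iff_orderOf.1 P.2 ⟨x, hxP⟩
  rw [Subgroup.orderOf_mk] at hk
  -- the block part of the induced character vanishes at `x`
  have h0 : Cfsg.blockPart B Φ x = 0 := by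
    have h1 : ¬ p ∣ orderOf (1 : Subgroup.centralizer ({x} : Set G)) := by simp [hp.ne_one]
    have h2 := CfsgLib.Blocks.blockPart_centralizer hpM hB hΦc (z := x) ⟨k, hk⟩ h1
    rw [OneMemClass.coe_one, mul_one] at h2
    haveI := Fintype.ofFinite (Subgroup.centralizer ({x} : Set G))
    rw [h2]
    by_cases hS : ∀ g : Subgroup.centralizer ({x} : Set G), ¬ p ∣ orderOf g → Φ (x * g) = 0
    · set S := {ξ : Cfsg.IrrCharacter (Subgroup.centralizer ({x} : Set G)) |
          Cfsg.IsInducedBlock M (Subgroup.centralizer ({x} : Set G))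
            (Cfsg.blockOf M (ξ : Subgroup.centralizer ({x} : Set G) → ℂ)) B} with hSdef
      letI := CfsgLib.Chars.irrFintype (Subgroup.centralizer ({x} : Set G))
      rw [CfsgLib.Blocks.blockPart_apply_eq_sum, ← Finset.sum_fiberwise_of_maps_to
        (g := fun ξ : Cfsg.IrrCharacter (Subgroup.centralizer ({x} : Set G)) =>
          Cfsg.blockOf M (ξ : Subgroup.centralizer ({x} : Set G) → ℂ))
        (t := (Finset.univ.filter (· ∈ S)).image fun ξ : Cfsg.IrrCharacter (Subgroup.centralizer ({x} : Set G)) =>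
          Cfsg.blockOf M (ξ : Subgroup.centralizer ({x} : Set G) → ℂ))
        fun ξ hξ => Finset.mem_image_of_mem _ hξ]
      refine Finset.sum_eq_zero fun b hb => ?_
      obtain ⟨ξ₀, hξ₀, rfl⟩ := Finset.mem_image.1 hb
      have hz : Cfsg.blockPart (Cfsg.blockOf M (ξ₀ : Subgroup.centralizer ({x} : Set G) → ℂ))
          (fun c : Subgroup.centralizer ({x} : Set G) => Φ (x * c)) 1 = 0 :=
        CfsgLib.Blocks.blockPart_eq_zero_of_regular hp hpM (CfsgLib.Blocks.isPBlock_blockOf ξ₀)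
          (CfsgLib.Blocks.isClassFunction_mul_left hΦc) hS h1
      rw [CfsgLib.Blocks.blockPart_apply_eq_sum] at hz
      rw [← hz, Finset.filter_filter]
      refine Finset.sum_congr (Finset.filter_congr fun ξ _ => ?_) fun _ _ => rfl
      refine ⟨fun h => h.2 ▸ CfsgLib.Blocks.mem_blockOf_self ξ, fun h => ?_⟩
      have h' := (CfsgLib.Blocks.IsPBlock.eq_blockOf (CfsgLib.Blocks.isPBlock_blockOf ξ₀) h).symm
      refine ⟨?_, h'⟩
      have h0' := (Finset.mem_filter.1 hξ₀).2
      simp only [hSdef, Set.mem_setOf_eq] at h0' ⊢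
      rw [h']
      exact h0'
    · push Not at hS
      obtain ⟨g, hg, hne⟩ := hS
      refine absurd ?_ hne
      rw [hΦ, CfsgLib.Chars.indFun_apply]
      refine mul_eq_zero_of_right _ (Finset.sum_eq_zero fun y _ => ?_)
      refine CfsgLib.Chars.extendByZero_of_not_mem N _ fun hmem => hxN ?_
      have hxg : x * (g : G) ∈ N := by
        have := (inferInstance : N.Normal).conj_mem _ hmem y
        simpa [mul_assoc] using this
      -- `x` is a power of `x * g`
      have hcomm : Commute x (g : G) :=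
        (Subgroup.mem_centralizer_singleton_iff.1 g.2).symm
      have hco : Nat.Coprime (p ^ k) (orderOf (g : G)) := by
        rw [Subgroup.orderOf_coe]
        exact (hp.coprime_iff_not_dvd.2 hg).pow_left k
      obtain ⟨m, hm1, hm2⟩ := Nat.chineseRemainder hco 1 0
      have h3 : (x * (g : G)) ^ m = x := by
        rw [hcomm.mul_pow]
        have e1 : x ^ m = x := by
          conv_rhs => rw [← pow_one x]
          exact pow_eq_pow_iff_modEq.2 (hk ▸ hm1)
        have e2 : (g : G) ^ m = 1 := orderOf_dvd_iff_pow_eq_one.1 (Nat.modEq_zero_iff_dvd.1 hm2)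
        rw [e1, e2, mul_one]
      rw [← h3]
      exact pow_mem hxg m
  -- the congruence
  set T : Finset (Cfsg.IrrCharacter G) := Finset.univ.filter (fun χ => χ ∈ B ∧
    ¬ p ∣ Cfsg.charDegree (χ : G → ℂ) ∧
      Cfsg.classInner (fun n : N => (χ : G → ℂ) n) (θ : N → ℂ) ≠ 0) with hT
  have hcard : Nat.card {χ : Cfsg.IrrCharacter G // χ ∈ B ∧ ¬ p ∣ Cfsg.charDegree (χ : G → ℂ) ∧
      Cfsg.classInner (fun n : N => (χ : G → ℂ) n) (θ : N → ℂ) ≠ 0} = T.card := by
    rw [Nat.card_eq_fintype_card, Fintype.card_subtype, hT]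
  have hsum : p ∣ ∑ χ ∈ Finset.univ.filter (· ∈ B), e χ * Cfsg.charDegree (χ : G → ℂ) := by
    rw [← CfsgLib.Blocks.memLocalIdeal_natCast_iff hp hpM, Nat.cast_sum]
    rw [CfsgLib.Blocks.blockPart_apply_eq_sum] at h0
    have h3 : ∑ χ ∈ Finset.univ.filter (· ∈ B), ((e χ * Cfsg.charDegree (χ : G → ℂ) : ℕ) : ℂ) =
        ∑ χ ∈ Finset.univ.filter (· ∈ B), (e χ : ℂ) * ((χ : G → ℂ) 1 - (χ : G → ℂ) x) := by
      simp only [mul_sub, Finset.sum_sub_distrib]
      simp only [heΦ] at h0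
      rw [h0, sub_zero]
      exact Finset.sum_congr rfl fun χ _ => by
        rw [Nat.cast_mul, CfsgLib.BlockOrth.irr_apply_one]
    rw [h3]
    refine CfsgLib.Blocks.MemLocalIdeal.sum' fun χ _ => ?_
    refine CfsgLib.Blocks.MemLocalIdeal.mul_left' (CfsgLib.Blocks.natCast_mem_loc _) ?_
    have h4 := CfsgLib.BlockOrth.memLocalIdeal_char_sub (p := p) hpM
      (CfsgLib.Chars.isCharacter_of_irr χ.2) x
    rw [CfsgLib.BlockOrth.IsPPrimePart.eq_pPrimePart (p := p) (g := x) (y := 1)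
      ⟨x, mul_one x, Commute.one_right x, ⟨k, hk⟩, by simp [hp.ne_one]⟩] at h4
    have h5 := CfsgLib.Blocks.MemLocalIdeal.neg' h4
    rwa [neg_sub] at h5
  have main : T.Nonempty → (∑ χ ∈ T, ((e χ : ℕ) : ZMod p) ^ 2) = 0 ∧
      ∀ χ ∈ T, ((e χ : ℕ) : ZMod p) ≠ 0 := by
    rintro ⟨χ₀, hχ₀⟩
    obtain ⟨-, hχ₀B, hχ₀d, hχ₀e⟩ := Finset.mem_filter.1 hχ₀
    obtain ⟨t, -, ht, -⟩ := CfsgLib.Chars.irr_degree_dvd_card θ.2
    set d := (CfsgLib.CharsMore.inertia N (θ : N → ℂ)).index * t with hd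
    have hdeg : ∀ χ : Cfsg.IrrCharacter G,
        Cfsg.classInner (fun n : N => (χ : G → ℂ) n) (θ : N → ℂ) ≠ 0 →
          Cfsg.charDegree (χ : G → ℂ) = e χ * d := by
      intro χ hχ
      have h6 := CfsgLib.CharsMore.clifford_degree N χ.2 θ.2 hχ
      rw [he, ht, CfsgLib.BlockOrth.irr_apply_one, mul_assoc] at h6
      rw [hd]
      exact_mod_cast h6
    have hdp : ¬ p ∣ d := fun h => hχ₀d (by rw [hdeg χ₀ hχ₀e]; exact h.mul_left _)
    have hne : ∀ χ ∈ T, ((e χ : ℕ) : ZMod p) ≠ 0 := by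
      intro χ hχ h
      obtain ⟨-, -, hχd, hχe⟩ := Finset.mem_filter.1 hχ
      exact hχd (by
        rw [hdeg χ hχe]
        exact ((CharP.cast_eq_zero_iff (ZMod p) p _).1 h).mul_right _)
    refine ⟨?_, hne⟩
    have h7 : ((∑ χ ∈ Finset.univ.filter (· ∈ B), e χ * Cfsg.charDegree (χ : G → ℂ) : ℕ) : ZMod p)
        = (d : ZMod p) * ∑ χ ∈ T, ((e χ : ℕ) : ZMod p) ^ 2 := by
      rw [Nat.cast_sum, Finset.mul_sum]
      symm
      refine Finset.sum_subset_zero_on_sdiff (fun χ hχ => ?_) (fun χ hχ => ?_) (fun χ hχ => ?_)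
      · exact Finset.mem_filter.2 ⟨Finset.mem_univ _, (Finset.mem_filter.1 hχ).2.1⟩
      · obtain ⟨hχB, hχT⟩ := Finset.mem_sdiff.1 hχ
        by_cases hz : Cfsg.classInner (fun n : N => (χ : G → ℂ) n) (θ : N → ℂ) = 0
        · have : e χ = 0 := by
            have h8 := he χ
            rw [hz] at h8
            exact_mod_cast h8.symm
          simp [this]
        · have hpd : p ∣ Cfsg.charDegree (χ : G → ℂ) := by
            by_contra hh
            exact hχT (Finset.mem_filter.2 ⟨Finset.mem_univ _,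
              (Finset.mem_filter.1 hχB).2, hh, hz⟩)
          rw [Nat.cast_mul, (CharP.cast_eq_zero_iff (ZMod p) p _).2 hpd, mul_zero]
      · rw [hdeg χ (Finset.mem_filter.1 hχ).2.2.2]
        push_cast
        ring
    rw [(CharP.cast_eq_zero_iff (ZMod p) p _).2 hsum] at h7
    exact (mul_eq_zero.1 h7.symm).resolve_left
      fun h => hdp ((CharP.cast_eq_zero_iff (ZMod p) p _).1 h)
  rw [hcard]
  refine ⟨?_, fun hp3 => ?_⟩
  · by_contra hcon
    push Not at hcon
    obtain ⟨h0', h1'⟩ := hcon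
    have h1 : T.card = 1 := by omega
    obtain ⟨a, ha⟩ := Finset.card_eq_one.1 h1
    obtain ⟨hs, hne⟩ := main (ha ▸ Finset.singleton_nonempty a)
    rw [ha, Finset.sum_singleton] at hs
    exact hne a (ha ▸ Finset.mem_singleton_self a) (pow_eq_zero_iff two_ne_zero |>.1 hs)
  · rcases T.eq_empty_or_nonempty with hT0 | hT0
    · rw [hT0]
      exact dvd_zero p
    obtain ⟨hs, hne⟩ := main hT0
    have hsq : ∀ χ ∈ T, ((e χ : ℕ) : ZMod p) ^ 2 = 1 := by
      intro χ hχ
      rcases (show p = 2 ∨ p = 3 by have := hp.two_le; omega) with h | h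
      · subst h
        have hz := hne χ hχ
        have := ZMod.pow_card_sub_one_eq_one hz
        simp only [Nat.add_one_sub_one, pow_one] at this
        rw [this, one_pow]
      · subst h
        exact ZMod.pow_card_sub_one_eq_one (hne χ hχ)
    rw [Finset.sum_congr rfl hsq, Finset.sum_const, nsmul_one] at hs
    exact (CharP.cast_eq_zero_iff (ZMod p) p _).1 hs

end Cfsg.Agent.S4825
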