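import Cfsg.Statements.S4828
import Cfsg.Agent.Lib.Blocks.MaximalCriterion
import Cfsg.Agent.Lib.Blocks.CentricCanonical

set_option autoImplicit false
open Cfsg Subgroup
open scoped Pointwise commutatorElement

namespace Cfsg.Agent.S4828

/-- Let p be a prime, M a maximal ideal of the algebraic integers containing p, and (Q, e) a Brauer pair of the finite group G (Q a p-subgroup, e a block of C_G(Q)). Then (Q, e) is a maximal Brauer pair of some block of G if and only if e contains an irreducible character θ such that θ takes the value θ(1) at every element of Z(Q) = Q ∩ C_G(Q), the p-part of θ(1) times the p-part of the order of Z(Q) equals the p-part of the order of C_G(Q) (θ has defect zero as a character of C_G(Q)/Z(Q)), and every element of N_G(Q) of p-power order that stabilizes e lies in Q·C_G(Q) (the stabilizer of e in N_G(Q) has index prime to p over Q·C_G(Q)). -/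
theorem result {G : Type*} [Group G] [Finite G] (p : ℕ) [Fact p.Prime] (M : Ideal Cfsg.AlgInt) (hM : Cfsg.IsPModular p M) (Q : Subgroup G) (e : Set (Cfsg.IrrCharacter (Subgroup.centralizer (Q : Set G)))) (he : Cfsg.IsBrauerPair p M Q e) :
    (∃ B : Set (Cfsg.IrrCharacter G), Cfsg.IsMaximalBrauerPair p M B Q e) ↔
      ∃ θ ∈ e, (∀ z : Subgroup.centralizer (Q : Set G), (z : G) ∈ Q → (θ : Subgroup.centralizer (Q : Set G) → ℂ) z = (θ : Subgroup.centralizer (Q : Set G) → ℂ) 1) ∧
        (Cfsg.charDegree (θ : Subgroup.centralizer (Q : Set G) → ℂ)).factorization p + (Nat.card ↥(Q ⊓ Subgroup.centralizer (Q : Set G))).factorization p = (Nat.card (Subgroup.centralizer (Q : Set G))).factorization p ∧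
        (∀ g : G, g ∈ Subgroup.normalizer (Q : Set G) → Cfsg.StabilizesBlock (Subgroup.centralizer (Q : Set G)) e g → (∃ k : ℕ, orderOf g = p ^ k) → g ∈ Q ⊔ Subgroup.centralizer (Q : Set G)) := by
  classical
  haveI : M.IsPrime := hM.2.1.isPrime
  haveI := Fintype.ofFinite G
  haveI := Fintype.ofFinite (Subgroup.centralizer (Q : Set G))
  have hpM := hM.2.2
  have hcenter : Subgroup.centralizer ((Q.subgroupOf (Subgroup.centralizer (Q : Set G)) :
      Subgroup (Subgroup.centralizer (Q : Set G))) : Set (Subgroup.centralizer (Q : Set G))) = ⊤ := by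
    rw [eq_top_iff]
    intro c _
    rw [Subgroup.mem_centralizer_iff]
    intro u hu
    exact Subtype.ext (Subgroup.mem_centralizer_iff.1 c.2 _ (Subgroup.mem_subgroupOf.1 hu))
  haveI : (Q.subgroupOf (Subgroup.centralizer (Q : Set G))).Normal := ⟨fun u hu c => by
    have h := Subgroup.mem_centralizer_iff.1 (hcenter.ge (Subgroup.mem_top c)) u hu
    rwa [← h, mul_inv_cancel_right]⟩
  have hcard : Nat.card (Q.subgroupOf (Subgroup.centralizer (Q : Set G))) =
      Nat.card ↥(Q ⊓ Subgroup.centralizer (Q : Set G)) := by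
    rw [← Subgroup.card_map_of_injective (Subgroup.centralizer (Q : Set G)).subtype_injective
      (K := Q.subgroupOf (Subgroup.centralizer (Q : Set G))), Subgroup.subgroupOf_map_subtype]
  have key := CfsgLib.Blocks.exists_canonical_iff (p := p) hM
    (Z := Q.subgroupOf (Subgroup.centralizer (Q : Set G)))
    (CfsgLib.Blocks.isPGroup_subgroupOf (he.1.to_le inf_le_left : IsPGroup p
      ↥(Q ⊓ Subgroup.centralizer (Q : Set G))) inf_le_right |>.to_le (fun u hu => ⟨hu, u.2⟩))
    hcenter he.2
  constructor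
  · rintro ⟨B, hmax⟩
    obtain ⟨hd, hidx⟩ := CfsgLib.Blocks.maximal_pair_facts hpM hmax
    obtain ⟨θ, hθ, htriv, hdeg⟩ := key.2 (by rw [hd, hcard])
    refine ⟨θ, hθ, fun z hz => htriv z hz, by rw [← hcard]; exact hdeg, fun g hgN hst ⟨k, hk⟩ => ?_⟩
    have hgT : g ∈ CfsgLib.Blocks.stabPair (⟨Q, e⟩ : BrauerPairIdx G) :=
      (CfsgLib.Blocks.mem_stabPair_iff he.2).2 ⟨hgN, hst⟩
    set T := CfsgLib.Blocks.stabPair (⟨Q, e⟩ : BrauerPairIdx G) with hT
    set L := Q ⊔ Subgroup.centralizer (Q : Set G) with hL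
    haveI : (L.subgroupOf T).Normal := (Subgroup.normal_subgroupOf_iff_le_normalizer
      (CfsgLib.Blocks.sup_centralizer_le_stabPair hpM he)).2
      ((CfsgLib.Blocks.stabPair_le_normalizer _).trans
        (CfsgLib.Blocks.le_normalizer_sup_centralizer Q))
    have h1 : (QuotientGroup.mk (⟨g, hgT⟩ : T) : T ⧸ L.subgroupOf T) = 1 := by
      rw [← orderOf_eq_one_iff]
      refine Nat.eq_one_of_dvd_coprimes
        (Nat.Coprime.pow_left k ((Fact.out : p.Prime).coprime_iff_not_dvd.2 hidx)) ?_
        (orderOf_dvd_natCard _)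
      rw [← hk, show orderOf g = orderOf (⟨g, hgT⟩ : T) from Subgroup.orderOf_coe (⟨g, hgT⟩ : T)]
      exact orderOf_map_dvd (QuotientGroup.mk' _) _
    exact Subgroup.mem_subgroupOf.1 ((QuotientGroup.eq_one_iff _).1 h1)
  · rintro ⟨θ, hθ, htriv, hdeg, hg⟩
    obtain ⟨B, hB, -⟩ := CfsgLib.Blocks.existsUnique_block_of_pair hpM he
    refine ⟨B, CfsgLib.Blocks.isMaximal_of_criterion hpM he ?_ ?_ hB⟩
    · rw [key.1 ⟨θ, hθ, fun z hz => htriv z hz, by rw [hcard]; exact hdeg⟩, hcard]
    · intro g hgT hk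
      obtain ⟨h1, h2⟩ := (CfsgLib.Blocks.mem_stabPair_iff he.2).1 hgT
      exact hg g h1 h2 hk


end Cfsg.Agent.S4828
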