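import Cfsg.Statements.S4848
import Cfsg.Agent.Lib.CharApps.VanishPPower
import Cfsg.Agent.Lib.Base.Cores
import Cfsg.Agent.S4456
import Cfsg.Agent.S4558
import Cfsg.Agent.S0191

set_option autoImplicit false
open Cfsg

namespace Cfsg.Agent.S4848

open CfsgLib.CharApps.VanishPPower CfsgLib.Chars CfsgLib.CharsMore
open scoped commutatorElement Pointwise

/-- A group all of whose irreducible characters are linear is commutative. -/
theorem comm_of_linear {H : Type*} [Group H] [Finite H]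
    (h : ∀ χ : IrrCharacter H, (χ : H → ℂ) 1 = 1) (a b : H) : a * b = b * a := by
  refine commutatorElement_eq_one_iff_mul_comm.1 (isConj_one_left.1 ((isConj_iff_forall_irr _ _).2 fun χ => ?_))
  obtain ⟨lam, hlam⟩ := exists_hom_of_degree_one (isCharacter_of_irr χ.2) (h χ)
  have hc : lam ⁅a, b⁆ = 1 := by
    rw [map_commutatorElement, commutatorElement_eq_one_iff_mul_comm, mul_comm]
  rw [hlam]
  simp [hc]

/-- Let p be a prime and G a finite non-commutative group in which every vanishing element (an element at which some irreducible character is zero) has order a positive power of p. Then either G is a p-group, or the centre of G equals O_p(G) and G/Z(G) is a Frobenius group with a Frobenius complement of p-power order. -/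
theorem result {G : Type*} [Group G] [Finite G] (hna : ¬ IsMulCommutative G) (p : ℕ) [Fact p.Prime] (hvan : ∀ g : G, (∃ χ : Cfsg.IrrCharacter G, (χ : G → ℂ) g = 0) → ∃ m : ℕ, 1 ≤ m ∧ orderOf g = p ^ m) :
    IsPGroup p G ∨ (Subgroup.center G = Cfsg.pCore p G ∧ ∃ H : Subgroup (G ⧸ Subgroup.center G), Cfsg.IsFrobeniusComplement H ∧ IsPGroup p H) := by
  classical
  haveI := Fintype.ofFinite G
  have hp : p.Prime := Fact.out
  -- the normal complement
  have hdeg : ∀ χ : IrrCharacter G, charDegree (χ : G → ℂ) ≠ 1 → p ∣ charDegree (χ : G → ℂ) := by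
    intro χ hne
    obtain ⟨n, ρ, hρ, hχ⟩ := χ.2
    haveI := hρ
    have hn : charDegree (χ : G → ℂ) = n := by
      rw [charDegree, ← hχ, Representation.char_one]
      simp
    have h2 : 1 < Module.finrank ℂ (Fin n → ℂ) := by
      have := CfsgLib.Chars.finrank_pos_of_isIrreducible ρ
      rw [Module.finrank_fin_fun] at this ⊢
      omega
    obtain ⟨g, hg⟩ := Cfsg.Agent.S0191.result ρ h2
    rw [hχ] at hg
    obtain ⟨m, -, hm⟩ := hvan g ⟨χ, hg⟩
    exact Cfsg.Agent.S4558.result p _ (isCharacter_of_irr χ.2) g ⟨m, hm⟩ hg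
  obtain ⟨K, hKn, hKc, a, hKi⟩ := Cfsg.Agent.S4456.result p hp hdeg
  haveI := hKn
  have hKp : ¬ p ∣ Nat.card K := hp.coprime_iff_not_dvd.1 hKc.symm
  by_cases hKb : K = ⊥
  · left
    rw [hKb, Subgroup.index_bot] at hKi
    exact IsPGroup.of_card hKi
  right
  obtain ⟨P⟩ := (inferInstance : Nonempty (Sylow p G))
  have hPc : Nat.card P = p ^ a := by
    rw [P.card_eq_multiplicity, ← K.card_mul_index, hKi,
      Nat.factorization_mul Nat.card_pos.ne' (pow_ne_zero _ hp.ne_zero), Finsupp.add_apply,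
      Nat.factorization_eq_zero_of_not_dvd hKp, hp.factorization_pow]
    simp
  have hinf : K ⊓ (P : Subgroup G) = ⊥ := by
    rw [inf_comm]
    exact CfsgLib.Base.inf_eq_bot_of_isPGroup_of_coprime P.isPGroup' hKc
  have hcompl : Subgroup.IsComplement' K (P : Subgroup G) :=
    Subgroup.isComplement'_of_card_mul_and_disjoint (by
      rw [← K.card_mul_index, hKi]; exact congrArg (Nat.card K * ·) hPc) (disjoint_iff.2 hinf)
  have hdec : ∀ g : G, ∃ k ∈ K, ∃ u ∈ (P : Subgroup G), k * u = g := fun g =>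
    Subgroup.mem_sup_of_normal_left.1 (hcompl.sup_eq_top ▸ Subgroup.mem_top g)
  have hKP : ∀ x : G, x ∈ K → x ∈ (P : Subgroup G) → x = 1 := fun x h1 h2 =>
    Subgroup.mem_bot.1 (hinf ▸ Subgroup.mem_inf.2 ⟨h1, h2⟩)
  -- a vanishing product of commuting factors has trivial `p'`-part
  have hmix : ∀ x ∈ (P : Subgroup G), ∀ y ∈ K, Commute x y →
      (∃ χ : IrrCharacter G, (χ : G → ℂ) (x * y) = 0) → y = 1 := by
    intro x hx y hy hc hv
    obtain ⟨m, -, hm⟩ := hvan _ hv
    have hyK : orderOf y ∣ Nat.card K := Subgroup.orderOf_dvd_natCard K hy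
    obtain ⟨i, hi⟩ := IsPGroup.iff_orderOf.1 P.isPGroup' ⟨x, hx⟩
    rw [Subgroup.orderOf_mk] at hi
    have hyc : (orderOf y).Coprime p := hKc.coprime_dvd_left hyK
    rw [hc.orderOf_mul_eq_mul_orderOf_of_coprime (hi ▸ (hyc.pow_right i).symm), hi] at hm
    exact orderOf_eq_one_iff.1 (Nat.eq_one_of_dvd_coprimes (hyc.pow_right m) dvd_rfl
      (hm ▸ dvd_mul_left _ _))
  have hinert : ∀ θ : IrrCharacter K, K ≤ inertia K (θ : K → ℂ) := fun θ =>
    le_inertia K (isClassFunction_of_isCharacter (isCharacter_of_irr θ.2))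
  -- an element of `P` with a non-trivial fixed point in `K` is central
  have hPnil : Group.IsNilpotent (G ⧸ K) := (IsPGroup.of_card (n := a) (G := G ⧸ K) hKi).isNilpotent
  have hfree : ∀ x ∈ (P : Subgroup G), ∀ y ∈ K, y ≠ 1 → Commute x y →
      (∀ u ∈ (P : Subgroup G), x * u = u * x) ∧ ∀ k ∈ K, x * k = k * x := by
    intro x hx y hy hy1 hc
    have hcen : ∀ u ∈ (P : Subgroup G), x * u = u * x := by
      intro u hu
      by_contra hne
      have hxZ : (QuotientGroup.mk' K x) ∉ Subgroup.center (G ⧸ K) := fun h => hne (by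
        have h1 := Subgroup.mem_center_iff.1 h (QuotientGroup.mk' K u)
        rw [← map_mul, ← map_mul, QuotientGroup.mk'_apply, QuotientGroup.mk'_apply,
          QuotientGroup.eq] at h1
        exact (inv_mul_eq_one.1 (hKP _ h1 (mul_mem (inv_mem (mul_mem hu hx)) (mul_mem hx hu)))).symm)
      obtain ⟨χ, hχ⟩ := exists_zero_of_notMem_center hxZ
      refine hy1 (hmix x hx y hy hc ⟨⟨_, isIrrCharacter_comp (QuotientGroup.mk' K)
        (QuotientGroup.mk'_surjective K) χ.2⟩, ?_⟩)
      show (χ : G ⧸ K → ℂ) (QuotientGroup.mk' K (x * y)) = 0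
      rw [map_mul, show QuotientGroup.mk' K y = 1 from (QuotientGroup.eq_one_iff y).2 hy, mul_one]
      exact hχ
    refine ⟨hcen, centralizes_of_fixes (p := p) K hKp ?_ fun θ => ?_⟩
    · obtain ⟨i, hi⟩ := IsPGroup.iff_orderOf.1 P.isPGroup' ⟨x, hx⟩
      exact ⟨i, by rwa [Subgroup.orderOf_mk] at hi⟩
    by_contra hθ
    refine hy1 (hmix x hx y hy hc (exists_zero_of_moves K θ (x * y) fun z hz => hθ ?_))
    obtain ⟨k, hk, u, hu, rfl⟩ := hdec z
    have hkT := hinert θ hk
    have hyT := hinert θ hy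
    have e : (k * u)⁻¹ * (x * y) * (k * u) =
        x * ((x⁻¹ * (u⁻¹ * k⁻¹ * u) * x) * (u⁻¹ * y * u) * (u⁻¹ * k * u)) := by
      have hxu := hcen u hu
      calc (k * u)⁻¹ * (x * y) * (k * u)
          = u⁻¹ * k⁻¹ * (u * u⁻¹) * x * (u * u⁻¹) * y * k * u := by group
        _ = (u⁻¹ * k⁻¹ * u) * (u⁻¹ * (x * u)) * (u⁻¹ * y * u) * (u⁻¹ * k * u) := by group
        _ = _ := by rw [hxu]; group
    rw [e] at hz
    have hmem : x⁻¹ * (u⁻¹ * k⁻¹ * u) * x * (u⁻¹ * y * u) * (u⁻¹ * k * u) ∈ inertia K (θ : K → ℂ) :=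
      hinert θ (mul_mem (mul_mem (hKn.conj_mem' _ (hKn.conj_mem' _ (inv_mem hk) u) x)
        (hKn.conj_mem' _ hy u)) (hKn.conj_mem' _ hk u))
    exact (Subgroup.mul_mem_cancel_right _ hmem).1 hz
  obtain ⟨y0, hy0, hy01⟩ : ∃ y ∈ K, y ≠ 1 := by
    by_contra h
    push Not at h
    exact hKb (K.eq_bot_iff_forall.2 h)
  -- the centralising part of `P` is central
  have hQ : ∀ x ∈ (P : Subgroup G), (∀ k ∈ K, x * k = k * x) → x ∈ Subgroup.center G := by
    intro x hx hxK
    have hcP := (hfree x hx y0 hy0 hy01 (hxK y0 hy0)).1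
    rw [Subgroup.mem_center_iff]
    intro g
    obtain ⟨k, hk, u, hu, rfl⟩ := hdec g
    calc k * u * x = k * (x * u) := by rw [mul_assoc, ← hcP u hu]
      _ = x * (k * u) := by rw [← mul_assoc, ← hxK k hk, mul_assoc]
  -- some element of `P` moves `K`
  obtain ⟨x0, hx0, hx0K⟩ : ∃ x ∈ (P : Subgroup G), ∃ k ∈ K, x * k ≠ k * x := by
    by_contra h
    push Not at h
    have hPZ : (P : Subgroup G) ≤ Subgroup.center G := fun x hx => hQ x hx (h x hx)
    haveI : (P : Subgroup G).Normal := ⟨fun x hx g => by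
      rw [Subgroup.mem_center_iff.1 (hPZ hx) g, mul_inv_cancel_right]; exact hx⟩
    have hcard : Nat.card (G ⧸ (P : Subgroup G)) = Nat.card K := hcompl.index_eq_card
    have hlin : ∀ χ : IrrCharacter (G ⧸ (P : Subgroup G)), (χ : G ⧸ (P : Subgroup G) → ℂ) 1 = 1 := by
      intro χ
      obtain ⟨n, -, hn, hdvd⟩ := irr_degree_dvd_card χ.2
      let χ' : IrrCharacter G :=
        ⟨_, isIrrCharacter_comp (QuotientGroup.mk' (P : Subgroup G)) (QuotientGroup.mk'_surjective _) χ.2⟩
      have hd : charDegree (χ' : G → ℂ) = n := by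
        show ⌊((χ : G ⧸ (P : Subgroup G) → ℂ) (QuotientGroup.mk' _ 1)).re⌋₊ = n
        rw [map_one, hn, Complex.natCast_re, Nat.floor_natCast]
      by_cases h1 : n = 1
      · rw [hn, h1, Nat.cast_one]
      · have := hdeg χ' (hd ▸ h1)
        rw [hd] at this
        exact absurd (this.trans (hcard ▸ hdvd)) hKp
    apply hna
    refine ⟨⟨fun g g' => ?_⟩⟩
    obtain ⟨k, hk, u, hu, rfl⟩ := hdec g
    obtain ⟨k', hk', u', hu', rfl⟩ := hdec g'
    have hkk : k * k' = k' * k := by
      have h1 := comm_of_linear hlin (QuotientGroup.mk' (P : Subgroup G) k)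
        (QuotientGroup.mk' (P : Subgroup G) k')
      rw [← map_mul, ← map_mul, QuotientGroup.mk'_apply, QuotientGroup.mk'_apply, QuotientGroup.eq] at h1
      exact inv_mul_eq_one.1 (hKP _ (mul_mem (inv_mem (mul_mem hk hk')) (mul_mem hk' hk)) h1)
    have hu1 := Subgroup.mem_center_iff.1 (hPZ hu)
    have hu2 := Subgroup.mem_center_iff.1 (hPZ hu')
    calc k * u * (k' * u') = k * (u * k') * u' := by group
      _ = k * k' * (u * u') := by rw [← hu1 k']; group
      _ = k' * k * (u' * u) := by rw [hkk, ← hu1 u']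
      _ = k' * (k * u') * u := by group
      _ = k' * u' * (k * u) := by rw [hu2 k]; group
  obtain ⟨k0, hk0, hxk0⟩ := hx0K
  have hZK : Subgroup.center G ⊓ K = ⊥ := by
    rw [Subgroup.eq_bot_iff_forall]
    intro y hy
    by_contra hy1
    exact hxk0 ((hfree x0 hx0 y hy.2 hy1 (Subgroup.mem_center_iff.1 hy.1 x0)).2 k0 hk0)
  have hZp : IsPGroup p (Subgroup.center G) := by
    have hd : Nat.card (Subgroup.center G) ∣ p ^ a := by
      rw [← hKi, Subgroup.index]
      refine Subgroup.card_dvd_of_injective ((QuotientGroup.mk' K).comp (Subgroup.center G).subtype) ?_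
      rw [← MonoidHom.ker_eq_bot_iff, Subgroup.eq_bot_iff_forall]
      intro z hz
      have : (z : G) ∈ K := (QuotientGroup.eq_one_iff _).1 hz
      exact Subtype.ext (Subgroup.mem_bot.1 (hZK ▸ Subgroup.mem_inf.2 ⟨z.2, this⟩))
    obtain ⟨i, -, hi⟩ := (Nat.dvd_prime_pow hp).1 hd
    exact IsPGroup.of_card hi
  have hZeq : Subgroup.center G = pCore p G := by
    refine le_antisymm (CfsgLib.Base.le_pCore hZp) fun x hx => ?_
    refine hQ x (CfsgLib.Base.pCore_le_sylow P hx) fun k hk => ?_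
    have hd : pCore p G ⊓ K = ⊥ :=
      CfsgLib.Base.inf_eq_bot_of_isPGroup_of_coprime (CfsgLib.Base.isPGroup_pCore p G) hKc
    exact Subgroup.commute_of_normal_of_disjoint _ _ inferInstance inferInstance (disjoint_iff.2 hd) x k hx hk
  refine ⟨hZeq, (P : Subgroup G).map (QuotientGroup.mk' (Subgroup.center G)), ⟨?_, ?_, ?_⟩,
    P.isPGroup'.map _⟩
  · intro h
    rw [Subgroup.map_eq_bot_iff, QuotientGroup.ker_mk'] at h
    exact hxk0 (Subgroup.mem_center_iff.1 (h hx0) k0).symm
  · intro h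
    have h1 := Subgroup.map_eq_range_iff.1 (h.trans (MonoidHom.range_eq_top.2
      (QuotientGroup.mk'_surjective (Subgroup.center G))).symm)
    rw [QuotientGroup.ker_mk'] at h1
    have hle : Subgroup.center G ≤ (P : Subgroup G) := hZeq ▸ CfsgLib.Base.pCore_le_sylow P
    have htop : (P : Subgroup G) = ⊤ := (sup_eq_left.2 hle).symm.trans (codisjoint_iff.1 h1)
    exact hy01 (hKP y0 hy0 (htop ▸ Subgroup.mem_top y0))
  · intro gb hgb
    obtain ⟨g, rfl⟩ := QuotientGroup.mk'_surjective _ gb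
    obtain ⟨k, hk, u, hu, rfl⟩ := hdec g
    have hk1 : k ≠ 1 := fun h => hgb (by
      rw [h, one_mul]; exact Subgroup.mem_map_of_mem _ hu)
    rw [Subgroup.eq_bot_iff_forall]
    rintro w ⟨⟨x, hx, rfl⟩, hw2⟩
    replace hw2 : QuotientGroup.mk' (Subgroup.center G) x ∈
        MulAut.conj (QuotientGroup.mk' (Subgroup.center G) (k * u)) •
          ((P : Subgroup G).map (QuotientGroup.mk' (Subgroup.center G))) := hw2
    rw [Subgroup.mem_pointwise_smul_iff_inv_smul_mem, ← map_inv, MulAut.smul_def,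
      MulAut.conj_apply, inv_inv, ← map_inv, ← map_mul, ← map_mul] at hw2
    obtain ⟨x', hx', he⟩ := hw2
    rw [QuotientGroup.mk'_apply, QuotientGroup.mk'_apply, QuotientGroup.eq] at he
    have hle : Subgroup.center G ≤ (P : Subgroup G) := hZeq ▸ CfsgLib.Base.pCore_le_sylow P
    have h1 : (k * u)⁻¹ * x * (k * u) ∈ (P : Subgroup G) := by
      have := mul_mem hx' (hle he)
      rwa [mul_inv_cancel_left] at this
    have h2 : k⁻¹ * x * k ∈ (P : Subgroup G) := by
      have := mul_mem (mul_mem hu h1) (inv_mem hu)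
      rwa [show u * ((k * u)⁻¹ * x * (k * u)) * u⁻¹ = k⁻¹ * x * k by group] at this
    have h3 : x⁻¹ * k⁻¹ * x * k = 1 := hKP _ (mul_mem (hKn.conj_mem' _ (inv_mem hk) x) hk) (by
      have := mul_mem (inv_mem hx) h2
      rwa [← mul_assoc, ← mul_assoc] at this)
    have hc : Commute x k := by
      show x * k = k * x
      calc x * k = k * x * (x⁻¹ * k⁻¹ * x * k) := by group
        _ = k * x := by rw [h3, mul_one]
    exact (QuotientGroup.eq_one_iff x).2 (hQ x hx (hfree x hx k hk hk1 hc).2)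

end Cfsg.Agent.S4848
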