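import Cfsg.Statements.S4859
import Cfsg.Agent.Lib.CharApps.FrobeniusSchur

set_option autoImplicit false
open Cfsg

namespace Cfsg.Agent.S4859

/-- Let p be an odd prime, G a finite group and x an element of G whose order is a power of p (possibly 1) and whose centralizer has even order. Let y be a 2-element of the centralizer of x whose order is largest among the 2-elements of that centralizer. Then x * y is not a square in G, and some non-principal real-valued irreducible character of G does not vanish at x * y. -/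
theorem result {G : Type*} [Group G] [Finite G] (p : ℕ) [Fact p.Prime] (hp : p ≠ 2) (x : G) (hx : ∃ k : ℕ, orderOf x = p ^ k) (heven : Even (Nat.card (Subgroup.centralizer ({x} : Set G)))) (y : G) (hy : y ∈ Subgroup.centralizer ({x} : Set G)) (hy2 : ∃ k : ℕ, orderOf y = 2 ^ k) (hmax : ∀ z ∈ Subgroup.centralizer ({x} : Set G), (∃ k : ℕ, orderOf z = 2 ^ k) → orderOf z ≤ orderOf y) : (¬ ∃ u : G, u * u = x * y) ∧ ∃ χ : Cfsg.IrrCharacter G, ¬ ((χ : G → ℂ) = fun _ => (1 : ℂ)) ∧ (∀ g : G, ((χ : G → ℂ) g).im = 0) ∧ (χ : G → ℂ) (x * y) ≠ 0 := by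
  classical
  haveI := Fintype.ofFinite G
  haveI := CfsgLib.Chars.irrFintype G
  haveI : Fact (Nat.Prime 2) := ⟨Nat.prime_two⟩
  obtain ⟨a, ha⟩ := hx
  obtain ⟨b, hb⟩ := hy2
  have hcomm : Commute x y := (Subgroup.mem_centralizer_iff.mp hy x rfl)
  have hcop : Nat.Coprime (orderOf x) (orderOf y) := by
    rw [ha, hb]
    exact Nat.Coprime.pow _ _ ((Nat.coprime_primes (Fact.out) Nat.prime_two).mpr hp)
  have hb0 : b ≠ 0 := by
    rintro rfl
    obtain ⟨z, hz⟩ := exists_prime_orderOf_dvd_card' 2 heven.two_dvd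
    have := hmax z z.2 ⟨1, by simpa using hz⟩
    rw [hb, Subgroup.orderOf_coe, hz] at this
    norm_num at this
  have hno : ¬ ∃ u : G, u * u = x * y := by
    rintro ⟨u, hu⟩
    have hord : orderOf (x * y) = p ^ a * 2 ^ b := by
      rw [hcomm.orderOf_mul_eq_mul_orderOf_of_coprime hcop, ha, hb]
    have hu2 : orderOf (u ^ 2) = p ^ a * 2 ^ b := by rw [pow_two, hu, hord]
    have hou : orderOf u = p ^ a * 2 ^ (b + 1) := by
      have h3 := orderOf_pow (n := 2) u
      rw [hu2] at h3
      rcases Nat.coprime_or_dvd_of_prime Nat.prime_two (orderOf u) with h | h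
      · rw [Nat.coprime_iff_gcd_eq_one.mp h.symm, Nat.div_one] at h3
        exfalso
        have : 2 ∣ orderOf u := by
          rw [← h3]
          exact Dvd.dvd.mul_left (dvd_pow_self 2 hb0) _
        exact (Nat.prime_two.coprime_iff_not_dvd.mp h) this
      · rw [Nat.gcd_eq_right h] at h3
        obtain ⟨e, he⟩ := h
        rw [he, Nat.mul_div_cancel_left _ (by norm_num)] at h3
        rw [he, ← h3, pow_succ]
        ring
    obtain ⟨n, hn⟩ : ∃ n : ℕ, (x * y) ^ n = x := by
      obtain ⟨n, hn⟩ := exists_pow_eq_self_of_coprime (x := x) (n := orderOf y) hcop.symm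
      exact ⟨orderOf y * n, by rw [pow_mul, hcomm.mul_pow, pow_orderOf_eq_one, mul_one, hn]⟩
    have hux : u ∈ Subgroup.centralizer ({x} : Set G) := by
      rw [Subgroup.mem_centralizer_iff]
      intro z hz
      rw [Set.mem_singleton_iff] at hz
      subst hz
      rw [← hn, ← hu, ← pow_two, ← pow_mul]
      exact ((Commute.refl u).pow_left _).eq
    have hz := hmax (u ^ p ^ a) (Subgroup.pow_mem _ hux _) ⟨b + 1, by
      rw [orderOf_pow, hou, Nat.gcd_mul_right_left, Nat.mul_div_cancel_left]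
      exact pow_pos (Nat.Prime.pos Fact.out) a⟩
    rw [orderOf_pow, hou, Nat.gcd_mul_right_left, Nat.mul_div_cancel_left _
      (pow_pos (Nat.Prime.pos Fact.out) a), hb] at hz
    exact absurd hz (not_le.mpr (Nat.pow_lt_pow_right (by norm_num) (Nat.lt_succ_self b)))
  refine ⟨hno, ?_⟩
  by_contra hcon
  push Not at hcon
  have h := CfsgLib.CharApps.card_sqrt_eq (x * y)
  haveI : IsEmpty {u : G // u * u = x * y} := ⟨fun u => hno ⟨u.1, u.2⟩⟩
  rw [Nat.card_of_isEmpty, Nat.cast_zero, Finset.sum_eq_single (CfsgLib.CharApps.oneIrr G)] at h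
  · have h1 : CfsgLib.CharApps.fsInd (CfsgLib.CharApps.oneIrr G : G → ℂ) = 1 :=
      CfsgLib.CharApps.fsInd_one
    rw [h1, CfsgLib.CharApps.oneIrr_apply, one_mul] at h
    exact zero_ne_one h
  · intro χ _ hne
    by_cases hr : ∀ g : G, ((χ : G → ℂ) g).im = 0
    · rw [hcon χ (fun he => hne (Subtype.ext he)) hr, mul_zero]
    · push Not at hr
      obtain ⟨g, hg⟩ := hr
      rw [CfsgLib.CharApps.fsInd_eq_zero χ ⟨g, fun he => hg (Complex.conj_eq_iff_im.mp he)⟩,
        zero_mul]
  · exact fun h => absurd (Finset.mem_univ _) h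

end Cfsg.Agent.S4859
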