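import Cfsg.Statements.S4870
import Cfsg.Agent.Lib.CharsMore.Gallagher
import Cfsg.Agent.Lib.Chars.Linear
import Cfsg.Agent.Lib.CharApps.Basic

set_option autoImplicit false
open Cfsg

namespace Cfsg.Agent.S4870

/-- Let G be a finite group with a non-abelian minimal normal subgroup N, and let φ be an irreducible complex character of N with stabilizer I in G (the elements g with φ(g n g⁻¹) = φ(n) for all n ∈ N) such that φ extends to an irreducible character of I. Put d = φ(1)·[G : I]. Then the number of linear characters of G is at most [G : I] times the number of irreducible characters of G of degree d. -/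
theorem result {G : Type*} [Group G] [Finite G] (N : Subgroup G) (hN : N.Normal) (hN1 : N ≠ ⊥) (hmin : ∀ M : Subgroup G, M.Normal → M ≤ N → M = ⊥ ∨ M = N) (hna : ¬ IsMulCommutative ↥N) (φ : Cfsg.IrrCharacter ↥N) (I : Subgroup G) (hI : ∀ g : G, g ∈ I ↔ ∀ n n' : ↥N, (n' : G) = g * (n : G) * g⁻¹ → (φ : ↥N → ℂ) n' = (φ : ↥N → ℂ) n) (hNI : N ≤ I) (hext : ∃ ψ : Cfsg.IrrCharacter ↥I, ∀ n : ↥N, (ψ : ↥I → ℂ) (Subgroup.inclusion hNI n) = (φ : ↥N → ℂ) n) : Nat.card {χ : Cfsg.IrrCharacter G // Cfsg.charDegree (χ : G → ℂ) = 1} ≤ I.index * Nat.card {χ : Cfsg.IrrCharacter G // Cfsg.charDegree (χ : G → ℂ) = Cfsg.charDegree (φ : ↥N → ℂ) * I.index} := by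
  classical
  haveI := hN
  haveI := Fintype.ofFinite G
  haveI := Fintype.ofFinite N
  haveI := Fintype.ofFinite I
  haveI : (N.subgroupOf I).Normal := hN.subgroupOf I
  haveI := Fintype.ofFinite (N.subgroupOf I)
  haveI := CfsgLib.Chars.irrFintype I
  obtain ⟨ψ, hψ⟩ := hext
  have hψ' : ∀ n : N, (ψ : I → ℂ) ⟨n, hNI n.2⟩ = (φ : N → ℂ) n := hψ
  -- a nonabelian minimal normal subgroup lies in the kernel of every linear character
  have hker : ∀ (lam : G →* ℂˣ), ∀ n ∈ N, lam n = 1 := by
    intro lam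
    have hcomm : ⁅N, N⁆ = N := by
      refine (hmin ⁅N, N⁆ inferInstance N.commutator_le_self).resolve_left fun h => hna ?_
      refine ⟨⟨fun a b => Subtype.ext ?_⟩⟩
      exact commutatorElement_eq_one_iff_mul_comm.mp
        ((Subgroup.eq_bot_iff_forall _).mp h _ (Subgroup.commutator_mem_commutator a.2 b.2))
    have h2 : ⁅N, N⁆ ≤ lam.ker := Subgroup.commutator_le.mpr fun a _ b _ => by
      rw [MonoidHom.mem_ker, map_commutatorElement]
      exact commutatorElement_eq_one_iff_mul_comm.mpr (mul_comm _ _)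
    intro n hn
    exact h2 (hcomm.symm ▸ hn)
  have hI' : I = CfsgLib.CharsMore.inertia N (φ : N → ℂ) := by
    ext g
    rw [hI g, CfsgLib.CharsMore.mem_inertia]
    constructor
    · exact fun h n => h n _ (by simp)
    · intro h n n' hn
      have e : n' = CfsgLib.CharsMore.conjBy N g n := Subtype.ext (by simpa using hn)
      rw [e]
      exact h n
  -- the twisted extensions
  let lift : (G →* ℂˣ) → (I → ℂ) := fun lam x => (lam (x : G) : ℂ) * (ψ : I → ℂ) x
  have hlirr : ∀ lam, IsIrrCharacter I (lift lam) := fun lam =>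
    CfsgLib.Chars.isIrrCharacter_linear_mul (lam.comp I.subtype) ψ.2
  have hlover : ∀ lam, classInner (fun n : N => lift lam ⟨n, hNI n.2⟩) (φ : N → ℂ) ≠ 0 := by
    intro lam
    have e : (fun n : N => lift lam ⟨n, hNI n.2⟩) = (φ : N → ℂ) := funext fun n => by
      show (lam (n : G) : ℂ) * _ = _
      rw [hker lam n n.2, Units.val_one, one_mul, hψ' n]
    rw [e, CfsgLib.Chars.inner_irr_self]
    exact one_ne_zero
  have hd : ∀ lam, charDegree (indFun I (lift lam)) = charDegree (φ : N → ℂ) * I.index := by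
    intro lam
    have h1 : lift lam 1 = (φ : N → ℂ) 1 := by
      show (lam ((1 : I) : G) : ℂ) * (ψ : I → ℂ) 1 = _
      rw [OneMemClass.coe_one, map_one, Units.val_one, one_mul, ← hψ' 1]
      rfl
    rw [charDegree, CfsgLib.Chars.indFun_one_apply, h1, CfsgLib.CharApps.deg_eq φ, mul_comm,
      ← Nat.cast_mul, Complex.natCast_re, Nat.floor_natCast]
  let f : (G →* ℂˣ) → {χ : IrrCharacter G //
      charDegree (χ : G → ℂ) = charDegree (φ : N → ℂ) * I.index} := fun lam =>
    ⟨⟨indFun I (lift lam),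
      CfsgLib.CharsMore.isIrr_indFun_of_over N hNI φ.2 hI' (hlirr lam) (hlover lam)⟩, hd lam⟩
  let A := {a : G →* ℂˣ // ∀ x ∈ I, a x = 1}
  have hfib : ∀ lam mu : G →* ℂˣ, f lam = f mu → ∀ x ∈ I, (lam⁻¹ * mu) x = 1 := by
    intro lam mu h x hx
    have h1 := CfsgLib.CharsMore.indFun_injective_of_over N hNI φ.2 hI' (hlirr lam) (hlover lam)
      (hlirr mu) (hlover mu) (congrArg (fun c => ((c.1 : IrrCharacter G) : G → ℂ)) h)
    set nu : I →* ℂˣ := (lam⁻¹ * mu).comp I.subtype with hnu
    have hfix : ∀ y : I, (nu y : ℂ) * (ψ : I → ℂ) y = (ψ : I → ℂ) y := by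
      intro y
      have h2 : (lam (y : G) : ℂ) * (ψ : I → ℂ) y = (mu (y : G) : ℂ) * (ψ : I → ℂ) y := congrFun h1 y
      show (((lam⁻¹ * mu) (y : G) : ℂˣ) : ℂ) * _ = _
      rw [MonoidHom.mul_apply, MonoidHom.inv_apply, Units.val_mul, mul_assoc, ← h2, ← mul_assoc,
        ← Units.val_mul, inv_mul_cancel, Units.val_one, one_mul]
    let β : IrrCharacter I := ⟨fun y => (nu y : ℂ), CfsgLib.Chars.isIrrCharacter_linear nu⟩
    have hβ : β ∈ CfsgLib.CharsMore.quotIrr (N.subgroupOf I) :=
      (CfsgLib.CharsMore.mem_quotIrr _).2 fun y hy => by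
        show (nu y : ℂ) = (nu 1 : ℂ)
        rw [map_one]
        have := hker (lam⁻¹ * mu) (y : G) (Subgroup.mem_subgroupOf.mp hy)
        exact congrArg Units.val this
    have h1' : CfsgLib.Chars.principal I ∈ CfsgLib.CharsMore.quotIrr (N.subgroupOf I) :=
      (CfsgLib.CharsMore.mem_quotIrr _).2 fun y _ => rfl
    have hψN : IsIrrCharacter (N.subgroupOf I) (fun n : N.subgroupOf I => (ψ : I → ℂ) n) := by
      have e : (fun n : N.subgroupOf I => (ψ : I → ℂ) n) =
          CfsgLib.CharsMore.pullFn N I (φ : N → ℂ) :=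
        funext fun n => hψ' ⟨((n : I) : G), Subgroup.mem_subgroupOf.mp n.2⟩
      rw [e]
      exact CfsgLib.CharsMore.isIrr_pullFn N hNI φ.2
    have horth := CfsgLib.CharsMore.gallagher_orthonormal (N.subgroupOf I) ψ.2 hψN hβ h1'
    have e1 : (β : I → ℂ) * (ψ : I → ℂ) = (ψ : I → ℂ) := funext hfix
    have e2 : (CfsgLib.Chars.principal I : I → ℂ) * (ψ : I → ℂ) = (ψ : I → ℂ) := by
      funext y; simp [CfsgLib.Chars.principal_apply]
    rw [e1, e2, CfsgLib.Chars.inner_irr_self] at horth
    by_cases hb : β = CfsgLib.Chars.principal I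
    · have h3 : (nu ⟨x, hx⟩ : ℂ) = 1 := congrFun (congrArg Subtype.val hb) (⟨x, hx⟩ : I)
      exact Units.ext h3
    · rw [if_neg hb] at horth
      exact absurd horth one_ne_zero
  have hA : Nat.card A ≤ I.index := by
    haveI := Fintype.ofFinite A
    haveI := Fintype.ofFinite (G ⧸ I)
    let q : A → (G ⧸ I → ℂ) := fun a c => Quotient.liftOn' c (fun g => (a.1 g : ℂ)) (fun g g' h => by
      have h3 := a.2 _ (QuotientGroup.leftRel_apply.mp h)
      rw [map_mul, map_inv, inv_mul_eq_one] at h3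
      exact congrArg Units.val h3)
    have hlin : LinearIndependent ℂ q := by
      refine LinearIndependent.of_comp (LinearMap.funLeft ℂ ℂ (QuotientGroup.mk : G → G ⧸ I)) ?_
      have hinj : Function.Injective fun a : A => (Units.coeHom ℂ).comp a.1 := fun a b h =>
        Subtype.ext (MonoidHom.ext fun g => Units.ext (DFunLike.congr_fun h g))
      exact (linearIndependent_monoidHom G ℂ).comp _ hinj
    have := hlin.fintype_card_le_finrank
    rw [Module.finrank_fintype_fun_eq_card, ← Nat.card_eq_fintype_card, ← Nat.card_eq_fintype_card]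
      at this
    exact this
  have hlin1 : Nat.card {χ : IrrCharacter G // charDegree (χ : G → ℂ) = 1} = Nat.card (G →* ℂˣ) := by
    rw [CfsgLib.Chars.card_monoidHom_units, ← CfsgLib.Chars.card_degree_one]
    exact (Nat.card_congr (Equiv.subtypeEquivRight fun χ => CfsgLib.CharApps.deg_eq_one_iff χ)).symm
  rw [hlin1]
  haveI : Nonempty (G →* ℂˣ) := ⟨1⟩
  let F : (G →* ℂˣ) → A × _ := fun mu =>
    (⟨(Function.invFun f (f mu))⁻¹ * mu, hfib _ mu (Function.invFun_eq ⟨mu, rfl⟩)⟩, f mu)
  have hF : Function.Injective F := fun a b h => by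
    obtain ⟨h1, h2⟩ := Prod.ext_iff.mp h
    have h1' : (Function.invFun f (f a))⁻¹ * a = (Function.invFun f (f b))⁻¹ * b :=
      congrArg Subtype.val h1
    rw [show f a = f b from h2] at h1'
    exact mul_left_cancel h1'
  calc Nat.card (G →* ℂˣ) ≤ Nat.card (A × _) := Nat.card_le_card_of_injective F hF
    _ = Nat.card A * _ := Nat.card_prod _ _
    _ ≤ _ := Nat.mul_le_mul_right _ hA

end Cfsg.Agent.S4870
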