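import Cfsg.Statements.S4873
import Cfsg.Agent.Lib.CharApps.RealOrbits

set_option autoImplicit false
open Cfsg

namespace Cfsg.Agent.S4873

/-- Let N be a normal subgroup of odd index in the finite group G. Then every irreducible complex character of N with Frobenius–Schur indicator +1 lies under exactly one irreducible character of G with Frobenius–Schur indicator +1. -/
theorem result {G : Type*} [Group G] [Finite G] (N : Subgroup G) [N.Normal] (hodd : Odd N.index) (φ : Cfsg.IrrCharacter ↥N) (hφ : (Nat.card ↥N : ℂ)⁻¹ * ∑ᶠ g : ↥N, (φ : ↥N → ℂ) (g * g) = 1) : ∃! χ : Cfsg.IrrCharacter G, (Nat.card G : ℂ)⁻¹ * ∑ᶠ g : G, (χ : G → ℂ) (g * g) = 1 ∧ (∑ᶠ n : ↥N, (χ : G → ℂ) n * (starRingEnd ℂ) ((φ : ↥N → ℂ) n)) ≠ 0 := by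
  classical
  haveI := Fintype.ofFinite G
  haveI := Fintype.ofFinite N
  simp only [finsum_eq_sum_of_fintype] at hφ ⊢
  have hreal : ∀ k : N, ((φ : N → ℂ) k).im = 0 := fun k => Complex.conj_eq_iff_im.mp
    (by_contra fun hc => by
      have h := CfsgLib.CharApps.fsInd_eq_zero φ ⟨k, hc⟩
      rw [CfsgLib.CharApps.fsInd, hφ] at h
      exact one_ne_zero h)
  have hiff : ∀ χ : IrrCharacter G,
      (∑ n : N, (χ : G → ℂ) n * (starRingEnd ℂ) ((φ : N → ℂ) n)) ≠ 0 ↔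
        classInner (fun n : N => (χ : G → ℂ) n) (φ : N → ℂ) ≠ 0 := fun χ => by
    rw [CfsgLib.Chars.inner_def, mul_ne_zero_iff,
      and_iff_right (inv_ne_zero (CfsgLib.Chars.card_ne_zero N))]
  obtain ⟨χ, h1, h2, h3, h4⟩ :=
    CfsgLib.CharApps.RealOrbits.existsUnique_real_over N hodd φ hreal
  refine ⟨χ, ⟨h3.trans hφ, (hiff χ).mpr h2⟩, fun χ' hχ' => h4 χ' (fun g => ?_) ((hiff χ').mp hχ'.2)⟩
  exact Complex.conj_eq_iff_im.mp (by_contra fun hc => by
    have h := CfsgLib.CharApps.fsInd_eq_zero χ' ⟨g, hc⟩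
    rw [CfsgLib.CharApps.fsInd, hχ'.1] at h
    exact one_ne_zero h)

end Cfsg.Agent.S4873
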