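import Cfsg.Statements.S4888
import Cfsg.Agent.Lib.Blocks.EqualDegrees

set_option autoImplicit false
open Cfsg

namespace Cfsg.Agent.S4888

/-- Let G be a finite group, p a prime and M a maximal ideal of the algebraic integers containing p. Then all height-zero irreducible characters of the principal p-block of G (equivalently, all its characters of degree prime to p) have the same degree if and only if G has a normal p-complement. -/
theorem result {G : Type*} [Group G] [Finite G] (p : ℕ) [Fact p.Prime] (M : Ideal Cfsg.AlgInt) (hM : Cfsg.IsPModular p M) : (∃ d : ℕ, ∀ χ : Cfsg.IrrCharacter G, χ ∈ (Cfsg.principalBlock M G) → Cfsg.blockHeight p (Cfsg.principalBlock M G) (χ : G → ℂ) = 0 → Cfsg.charDegree (χ : G → ℂ) = d) ↔ Cfsg.HasNormalPComplement p G := by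
  haveI : M.IsPrime := hM.2.1.isPrime
  haveI : Fintype G := Fintype.ofFinite G
  constructor
  · rintro ⟨d, hd⟩
    refine CfsgLib.Blocks.EqualDeg.complement_of_degree hM.2.2 fun χ hχ hp => ?_
    have h1 := hd (CfsgLib.Chars.principal G) (CfsgLib.Blocks.principal_mem_principalBlock M)
      (CfsgLib.Blocks.PrincHeights.height_zero_iff.2 ?_)
    · have e : Cfsg.charDegree ((CfsgLib.Chars.principal G : Cfsg.IrrCharacter G) : G → ℂ) = 1 := by
        simp [Cfsg.charDegree, CfsgLib.Chars.principal_apply]
      rw [hd χ hχ (CfsgLib.Blocks.PrincHeights.height_zero_iff.2 hp), ← h1, e]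
    · simp [Cfsg.charDegree, CfsgLib.Chars.principal_apply, (Fact.out : p.Prime).ne_one]
  · exact fun h => ⟨1, fun χ hχ h0 => CfsgLib.Blocks.EqualDeg.degree_one_of_complement hM.2.2 h hχ h0⟩

end Cfsg.Agent.S4888
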