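import Cfsg.Statements.S4911
import Cfsg.Agent.Lib.Glauberman.PGroup
import Cfsg.Agent.Lib.Glauberman.RelativeBase
import Cfsg.Agent.Lib.Chars.Permutation
import Cfsg.Agent.Lib.Blocks.Omega

set_option autoImplicit false
open Cfsg

namespace Cfsg.Agent.S4911

/-- Let P and K be subgroups of a finite group with P a p-group normalizing K and K of order prime to p. Then the number of P-invariant real-valued irreducible complex characters of K equals the number of conjugacy classes of K that are real (closed under inversion) and P-invariant. Moreover, if every real-valued irreducible character of K is P-invariant, then every real element of K (one conjugate in K to its inverse) is conjugate in K to an element centralized by P. -/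
theorem result {G : Type*} [Group G] [Finite G] (p : ℕ) [Fact p.Prime] (P K : Subgroup G) (hP : IsPGroup p ↥P) (hK : ¬ p ∣ Nat.card ↥K) (hPK : P ≤ Subgroup.normalizer (K : Set G)) : Nat.card {θ : Cfsg.IrrCharacter ↥K // (∀ k : ↥K, ((θ : ↥K → ℂ) k).im = 0) ∧ (∀ x ∈ P, ∀ k k' : ↥K, (k' : G) = x * (k : G) * x⁻¹ → (θ : ↥K → ℂ) k' = (θ : ↥K → ℂ) k)} = Nat.card {c : ConjClasses ↥K // (∀ k : ↥K, ConjClasses.mk k = c → IsConj k k⁻¹) ∧ ∀ k : ↥K, ConjClasses.mk k = c → ∀ x ∈ P, ∀ k' : ↥K, (k' : G) = x * (k : G) * x⁻¹ → ConjClasses.mk k' = c} ∧ ((∀ θ : Cfsg.IrrCharacter ↥K, (∀ k : ↥K, ((θ : ↥K → ℂ) k).im = 0) → (∀ x ∈ P, ∀ k k' : ↥K, (k' : G) = x * (k : G) * x⁻¹ → (θ : ↥K → ℂ) k' = (θ : ↥K → ℂ) k)) → ∀ k : ↥K, IsConj k k⁻¹ → ∃ k' : ↥K, IsConj k k' ∧ ∀ x ∈ P, x * (k' : G) * x⁻¹ = (k' : G)) := by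
  classical
  haveI := Fintype.ofFinite G
  haveI := Fintype.ofFinite ↥K
  set C : Subgroup G := K ⊓ Subgroup.centralizer (P : Set G) with hCdef
  haveI := Fintype.ofFinite ↥C
  letI := CfsgLib.Chars.irrFintype ↥C
  have hCK : C ≤ K := inf_le_left
  set ι : ↥C →* ↥K := Subgroup.inclusion hCK with hι
  have hcop : (Nat.card ↥K).Coprime (Nat.card ↥P) := by
    obtain ⟨i, hi⟩ := hP.exists_card_eq
    rw [hi]
    exact (((Fact.out : p.Prime).coprime_iff_not_dvd.2 hK).pow_left i).symm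
  have hfix := CfsgLib.Glauberman.pfix (p := p) hPK hP hK hCK
    (fun g hg => ⟨fun h => h.2, fun h => ⟨hg, h⟩⟩)
  obtain ⟨R, hRinj, hRtot, hRsurj, hRm⟩ :=
    CfsgLib.Glauberman.exists_pgroup_rel (p := p) hPK hcop hP hCdef hCK
  -- the correspondent is the constituent of multiplicity prime to p
  have hRiff : ∀ (χ : Cfsg.IrrCharacter ↥K) β, CfsgLib.Glauberman.InvBy P K (χ : ↥K → ℂ) →
      R χ β → ∀ γ : Cfsg.IrrCharacter ↥C, ∀ m : ℕ,
        Cfsg.classInner (fun c : ↥C => (χ : ↥K → ℂ) (ι c)) (γ : ↥C → ℂ) = (m : ℂ) →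
          (γ = β ↔ ¬ p ∣ m) := by
    intro χ β hinv hr γ m hm
    obtain ⟨ε, hε, hall⟩ := hRm χ β hinv hr
    exact ⟨fun h => CfsgLib.Glauberman.not_dvd_of_modEq_sign hε ((hall γ m hm).1 h),
      fun h => by_contra fun hne => h ((hall γ m hm).2 hne)⟩
  have hconjinv : ∀ χ : Cfsg.IrrCharacter ↥K, CfsgLib.Glauberman.InvBy P K (χ : ↥K → ℂ) →
      CfsgLib.Glauberman.InvBy P K (CfsgLib.Chars.conjIrr χ : ↥K → ℂ) :=
    fun χ h s hs g g' e => congrArg (starRingEnd ℂ) (h s hs g g' e)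
  have hRconj : ∀ (χ : Cfsg.IrrCharacter ↥K) β, CfsgLib.Glauberman.InvBy P K (χ : ↥K → ℂ) →
      R χ β → R (CfsgLib.Chars.conjIrr χ) (CfsgLib.Chars.conjIrr β) := by
    intro χ β hinv hr
    obtain ⟨β', hβ'⟩ := hRtot _ (hconjinv χ hinv)
    obtain ⟨m, hm⟩ := CfsgLib.Chars.inner_char_nat
      (CfsgLib.Chars.isCharacter_comp ι (CfsgLib.Chars.isCharacter_of_irr χ.2))
      (CfsgLib.Chars.isCharacter_of_irr β.2)
    have hm' : Cfsg.classInner (fun c : ↥C => (CfsgLib.Chars.conjIrr χ : ↥K → ℂ) (ι c))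
        (CfsgLib.Chars.conjIrr β : ↥C → ℂ) = (m : ℂ) := by
      rw [CfsgLib.Chars.inner_def] at hm ⊢
      have h1 := congrArg (starRingEnd ℂ) hm
      rw [map_natCast, map_mul, map_inv₀, map_natCast, map_sum] at h1
      rw [← h1]
      congr 1
      refine Finset.sum_congr rfl fun c _ => ?_
      show _ * (starRingEnd ℂ) ((starRingEnd ℂ) _) = _
      rw [map_mul]
      rfl
    have h2 := (hRiff χ β hinv hr β m hm).1 rfl
    rwa [(hRiff _ β' (hconjinv χ hinv) hβ' _ m hm').2 h2]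
  -- characters
  have hA : Nat.card {θ : Cfsg.IrrCharacter ↥K // (∀ k : ↥K, ((θ : ↥K → ℂ) k).im = 0) ∧
        (∀ x ∈ P, ∀ k k' : ↥K, (k' : G) = x * (k : G) * x⁻¹ →
          (θ : ↥K → ℂ) k' = (θ : ↥K → ℂ) k)} =
      Nat.card {β : Cfsg.IrrCharacter ↥C // ∀ c, ((β : ↥C → ℂ) c).im = 0} := by
    choose F hF using hRtot
    refine Nat.card_congr (Equiv.ofBijective (fun θ => ⟨F θ.1 θ.2.2, ?_⟩)
      ⟨fun θ θ' e => Subtype.ext (hRinj _ _ (F θ.1 θ.2.2) θ.2.2 θ'.2.2 (hF _ _)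
        (by rw [show F θ.1 θ.2.2 = F θ'.1 θ'.2.2 from congrArg Subtype.val e]
            exact hF θ'.1 θ'.2.2)), fun β => ?_⟩)
    · rw [← CfsgLib.Chars.conjIrr_eq_iff]
      have h1 := hRconj _ _ θ.2.2 (hF θ.1 θ.2.2)
      rw [(CfsgLib.Chars.conjIrr_eq_iff θ.1).2 θ.2.1] at h1
      obtain ⟨m, hm⟩ := CfsgLib.Chars.inner_char_nat
        (CfsgLib.Chars.isCharacter_comp ι (CfsgLib.Chars.isCharacter_of_irr θ.1.2))
        (CfsgLib.Chars.isCharacter_of_irr (F θ.1 θ.2.2).2)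
      exact ((hRiff _ _ θ.2.2 h1 _ m hm).2
        ((hRiff _ _ θ.2.2 (hF θ.1 θ.2.2) _ m hm).1 rfl)).symm
    · obtain ⟨χ, hinv, hr⟩ := hRsurj β.1
      have h1 := hRconj χ β.1 hinv hr
      rw [(CfsgLib.Chars.conjIrr_eq_iff β.1).2 β.2] at h1
      have hreal := hRinj _ _ β.1 (hconjinv χ hinv) hinv h1 hr
      refine ⟨⟨χ, (CfsgLib.Chars.conjIrr_eq_iff χ).1 hreal, hinv⟩, Subtype.ext ?_⟩
      obtain ⟨m, hm⟩ := CfsgLib.Chars.inner_char_nat
        (CfsgLib.Chars.isCharacter_comp ι (CfsgLib.Chars.isCharacter_of_irr χ.2))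
        (CfsgLib.Chars.isCharacter_of_irr β.1.2)
      exact ((hRiff χ _ hinv (hF χ hinv) _ m hm).2 ((hRiff χ _ hinv hr _ m hm).1 rfl)).symm
  -- an invariant class meets C
  have hmeet : ∀ c : ConjClasses ↥K, (∀ k : ↥K, ConjClasses.mk k = c → ∀ x ∈ P, ∀ k' : ↥K,
      (k' : G) = x * (k : G) * x⁻¹ → ConjClasses.mk k' = c) →
      ∃ d : ↥C, ConjClasses.mk (ι d) = c := by
    intro c hc
    let X := {k : ↥K // ConjClasses.mk k = c}
    let a : ↥P →* Equiv.Perm X :=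
      { toFun := fun s =>
          { toFun := fun k => ⟨CfsgLib.Glauberman.conjHom P K hPK s k.1,
              hc k.1 k.2 s s.2 _ rfl⟩
            invFun := fun k => ⟨CfsgLib.Glauberman.conjHom P K hPK s⁻¹ k.1,
              hc k.1 k.2 _ (s⁻¹).2 _ rfl⟩
            left_inv := fun k => Subtype.ext (by simp)
            right_inv := fun k => Subtype.ext (by simp) }
        map_one' := Equiv.ext fun k => Subtype.ext (by simp)
        map_mul' := fun s t => Equiv.ext fun k => Subtype.ext (by simp) }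
    have hdvd : ¬ p ∣ Nat.card X := by
      obtain ⟨g, rfl⟩ := ConjClasses.mk_surjective c
      intro hd
      refine hK (hd.trans ?_)
      have e : Nat.card X = Nat.card (MulAction.orbit (ConjAct ↥K) g) :=
        Nat.card_congr (Equiv.subtypeEquivRight fun k => by
          rw [ConjClasses.mk_eq_mk_iff_isConj, isConj_comm, ConjAct.mem_orbit_conjAct, isConj_comm])
      rw [e, Nat.card_coe_set_eq, ← MulAction.index_stabilizer]
      exact (Subgroup.index_dvd_card _).trans (dvd_of_eq (Nat.card_congr ConjAct.ofConjAct.toEquiv))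
    obtain ⟨⟨k, hk⟩, hfixk⟩ := CfsgLib.Glauberman.exists_fixed_of_perm hP a hdvd
    refine ⟨⟨(k : G), k.2, Subgroup.mem_centralizer_iff.2 fun s hs => ?_⟩, hk⟩
    exact mul_inv_eq_iff_eq_mul.1
      (congrArg Subtype.val (congrArg Subtype.val (hfixk ⟨s, hs⟩)))
  -- classes
  have hB : Nat.card {D : ConjClasses ↥C // ∀ c : ↥C, ConjClasses.mk c = D → IsConj c c⁻¹} =
      Nat.card {c : ConjClasses ↥K // (∀ k : ↥K, ConjClasses.mk k = c → IsConj k k⁻¹) ∧
        ∀ k : ↥K, ConjClasses.mk k = c → ∀ x ∈ P, ∀ k' : ↥K,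
          (k' : G) = x * (k : G) * x⁻¹ → ConjClasses.mk k' = c} := by
    refine Nat.card_congr (Equiv.ofBijective (fun D =>
      ⟨ConjClasses.mk (ι (CfsgLib.Blocks.classRep D.1)), fun k hk => ?_, fun k hk x hx k' e => ?_⟩)
      ⟨fun D E e => Subtype.ext ?_, fun c => ?_⟩)
    · have h1 := D.2 _ (CfsgLib.Blocks.mk_classRep D.1)
      have h2 := ConjClasses.mk_eq_mk_iff_isConj.1 hk
      obtain ⟨y, hy⟩ := isConj_iff.1 h2
      have h3 : IsConj (k⁻¹) (ι (CfsgLib.Blocks.classRep D.1))⁻¹ :=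
        isConj_iff.2 ⟨y, by rw [← hy]; group⟩
      have h4 := ι.map_isConj h1
      rw [map_inv] at h4
      exact h2.trans (h4.trans h3.symm)
    · rw [← hk, ConjClasses.mk_eq_mk_iff_isConj]
      obtain ⟨y, hy⟩ := isConj_iff.1 (ConjClasses.mk_eq_mk_iff_isConj.1 hk)
      set d := CfsgLib.Blocks.classRep D.1
      have hxd : x * ((ι d : ↥K) : G) * x⁻¹ = ((ι d : ↥K) : G) :=
        mul_inv_eq_iff_eq_mul.2 (Subgroup.mem_centralizer_iff.1 d.2.2 x hx)
      have hyk : (y : G) * (k : G) * (y : G)⁻¹ = ((ι d : ↥K) : G) := congrArg Subtype.val hy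
      have hy' : x * (y : G) * x⁻¹ ∈ K :=
        (Subgroup.mem_normalizer_iff.1 (hPK hx) y).1 y.2
      have h5 : IsConj k' (ι d) := isConj_iff.2 ⟨⟨_, hy'⟩, Subtype.ext (by
        show x * (y : G) * x⁻¹ * (k' : G) * (x * (y : G) * x⁻¹)⁻¹ = _
        rw [e, ← hxd, ← hyk]
        group)⟩
      exact h5.trans (ConjClasses.mk_eq_mk_iff_isConj.1 hk).symm
    · have h1 := hfix.fusion _ _ (ConjClasses.mk_eq_mk_iff_isConj.1 (congrArg Subtype.val e))
      rw [← CfsgLib.Blocks.mk_classRep D.1, ← CfsgLib.Blocks.mk_classRep E.1]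
      exact ConjClasses.mk_eq_mk_iff_isConj.2 h1
    · obtain ⟨d, hd⟩ := hmeet c.1 c.2.2
      refine ⟨⟨ConjClasses.mk d, fun c' hc' => ?_⟩, Subtype.ext ?_⟩
      · have h1 := ConjClasses.mk_eq_mk_iff_isConj.1 hc'
        have h2 : IsConj (ι c') (ι c'⁻¹) := by
          rw [map_inv]
          exact c.2.1 _ ((ConjClasses.mk_eq_mk_iff_isConj.2 (ι.map_isConj h1)).trans hd)
        exact hfix.fusion _ _ h2
      · show ConjClasses.mk (ι (CfsgLib.Blocks.classRep (ConjClasses.mk d))) = c.1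
        rw [← hd, ConjClasses.mk_eq_mk_iff_isConj]
        exact ι.map_isConj (ConjClasses.mk_eq_mk_iff_isConj.1 (CfsgLib.Blocks.mk_classRep _))
  have hmain := hA.trans ((CfsgLib.Chars.card_real_irr_eq_card_real_classes (G := ↥C)).trans hB)
  refine ⟨hmain, fun hall k hk => ?_⟩
  have hreal : ∀ x : ↥K, ConjClasses.mk x = ConjClasses.mk k → IsConj x x⁻¹ := by
    intro x hx
    have h1 := ConjClasses.mk_eq_mk_iff_isConj.1 hx
    obtain ⟨y, hy⟩ := isConj_iff.1 h1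
    exact h1.trans (hk.trans (isConj_iff.2 ⟨y, by rw [← hy]; group⟩ : IsConj x⁻¹ k⁻¹).symm)
  have hbij : Function.Bijective (fun c : {c : ConjClasses ↥K //
        (∀ k : ↥K, ConjClasses.mk k = c → IsConj k k⁻¹) ∧
        ∀ k : ↥K, ConjClasses.mk k = c → ∀ x ∈ P, ∀ k' : ↥K,
          (k' : G) = x * (k : G) * x⁻¹ → ConjClasses.mk k' = c} =>
      (⟨c.1, c.2.1⟩ : {c : ConjClasses ↥K // ∀ k : ↥K, ConjClasses.mk k = c → IsConj k k⁻¹})) := by
    refine (Nat.bijective_iff_injective_and_card _).2 ⟨fun a b e => Subtype.ext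
      (congrArg Subtype.val e :), ?_⟩
    rw [← hmain, ← CfsgLib.Chars.card_real_irr_eq_card_real_classes]
    exact Nat.card_congr (Equiv.subtypeEquivRight fun θ => ⟨fun h => h.1, fun h => ⟨h, hall θ h⟩⟩)
  obtain ⟨c, hc⟩ := hbij.2 ⟨ConjClasses.mk k, hreal⟩
  obtain ⟨d, hd⟩ := hmeet c.1 c.2.2
  refine ⟨ι d, ConjClasses.mk_eq_mk_iff_isConj.1 ((hd.trans (congrArg Subtype.val hc :)).symm),
    fun x hx => ?_⟩
  exact mul_inv_eq_iff_eq_mul.2 (Subgroup.mem_centralizer_iff.1 d.2.2 x hx)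

end Cfsg.Agent.S4911
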