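import Cfsg.Statements.S4912
import Cfsg.Agent.Lib.CharsMore.StronglyRealCount
import Mathlib
import Mathlib

set_option autoImplicit false
set_option linter.style.haveILetI false
open Cfsg

namespace Cfsg.Agent.S4912

/-- Let G be a finite group with a non-abelian minimal normal subgroup N, and let φ be an irreducible complex character of N with stabilizer I in G such that φ extends to an irreducible character of I with Frobenius–Schur indicator +1. Put d = φ(1)·[G : I]. Then the number of linear characters of G with Frobenius–Schur indicator +1 is at most [G : I] times the number of irreducible characters of G of degree d with Frobenius–Schur indicator +1. -/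
theorem result {G : Type*} [Group G] [Finite G] (N : Subgroup G) (hN : N.Normal) (hN1 : N ≠ ⊥) (hmin : ∀ M : Subgroup G, M.Normal → M ≤ N → M = ⊥ ∨ M = N) (hna : ¬ IsMulCommutative ↥N) (φ : Cfsg.IrrCharacter ↥N) (I : Subgroup G) (hI : ∀ g : G, g ∈ I ↔ ∀ n n' : ↥N, (n' : G) = g * (n : G) * g⁻¹ → (φ : ↥N → ℂ) n' = (φ : ↥N → ℂ) n) (hNI : N ≤ I) (hext : ∃ ψ : Cfsg.IrrCharacter ↥I, (Nat.card ↥I : ℂ)⁻¹ * ∑ᶠ g : ↥I, (ψ : ↥I → ℂ) (g * g) = 1 ∧ ∀ n : ↥N, (ψ : ↥I → ℂ) (Subgroup.inclusion hNI n) = (φ : ↥N → ℂ) n) : Nat.card {χ : Cfsg.IrrCharacter G // Cfsg.charDegree (χ : G → ℂ) = 1 ∧ (Nat.card G : ℂ)⁻¹ * ∑ᶠ g : G, (χ : G → ℂ) (g * g) = 1} ≤ I.index * Nat.card {χ : Cfsg.IrrCharacter G // Cfsg.charDegree (χ : G → ℂ) = Cfsg.charDegree (φ : ↥N → ℂ) * I.index ∧ (Nat.card G : ℂ)⁻¹ * ∑ᶠ g : G, (χ : G → ℂ) (g * g) = 1} := by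
  classical
  let _ := Fintype.ofFinite G
  let _ := Fintype.ofFinite N
  let _ := Fintype.ofFinite I
  haveI := hN
  obtain ⟨ψ, hν, hψ⟩ := hext
  have hIe : I = CfsgLib.CharsMore.inertia N (φ : N → ℂ) := by
    ext g
    rw [hI, CfsgLib.CharsMore.mem_inertia]
    refine ⟨fun h n => h n _ (CfsgLib.CharsMore.coe_conjBy N g n), fun h n n' e => ?_⟩
    rw [← h n]
    exact congrArg _ (Subtype.ext (e.trans (CfsgLib.CharsMore.coe_conjBy N g n).symm))
  have hν' : CfsgLib.CharApps.fsInd (ψ : I → ℂ) = 1 := by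
    rw [← hν]; simp only [CfsgLib.CharApps.fsInd, finsum_eq_sum_of_fintype]
  have h := CfsgLib.CharsMore.StronglyRealCount.card_le N I hN1 hmin hna φ hIe hNI ψ hν' hψ
  simpa only [CfsgLib.CharApps.fsInd, finsum_eq_sum_of_fintype] using h

end Cfsg.Agent.S4912
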