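import Cfsg.Statements.S4914
import Cfsg.Agent.Lib.Glauberman.Relative

set_option autoImplicit false
open Cfsg

namespace Cfsg.Agent.S4914

/-- Let P and K be subgroups of a finite group G with P a p-group normalizing K, and suppose K has a normal Sylow p-subgroup Q. Let C be the subgroup of those k ∈ K whose commutator with every element of P lies in Q (so that C/Q is the fixed-point subgroup of P on K/Q). Then there is a bijection f from the P-invariant irreducible complex characters of K onto the P-invariant irreducible complex characters of C such that, for every P-invariant irreducible character χ of K, the multiplicity of f(χ) in the restriction of χ to C is a natural number congruent to 1 or to −1 modulo p, every other P-invariant irreducible character of C occurs in that restriction with multiplicity divisible by p, and the degrees of χ and f(χ) are congruent modulo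 p up to sign. -/
theorem result {G : Type*} [Group G] [Finite G] (p : ℕ) [Fact p.Prime] (P K Q C : Subgroup G) (hP : IsPGroup p ↥P) (hPK : P ≤ Subgroup.normalizer (K : Set G)) (hQK : Q ≤ K) (hQn : ∀ k ∈ K, ∀ q ∈ Q, k * q * k⁻¹ ∈ Q) (hQp : ∃ a : ℕ, Nat.card ↥Q = p ^ a) (hQsyl : ¬ p ∣ Q.relIndex K) (hCK : C ≤ K) (hC : ∀ k : G, k ∈ C ↔ (k ∈ K ∧ ∀ x ∈ P, x * k * x⁻¹ * k⁻¹ ∈ Q)) : ∃ f : {χ : Cfsg.IrrCharacter ↥K // (∀ x ∈ P, ∀ k k' : ↥K, (k' : G) = x * (k : G) * x⁻¹ → (χ : ↥K → ℂ) k' = (χ : ↥K → ℂ) k)} → {ξ : Cfsg.IrrCharacter ↥C // (∀ x ∈ P, ∀ k k' : ↥C, (k' : G) = x * (k : G) * x⁻¹ → (ξ : ↥C → ℂ) k' = (ξ : ↥C → ℂ) k)}, Function.Bijective f ∧ ∀ χ, (∀ ξ : {ξ : Cfsg.IrrCharacter ↥C // (∀ x ∈ P, ∀ k k' : ↥C, (k' : G) = x * (k : G) * x⁻¹ → (ξ : ↥C → ℂ) k' = (ξ : ↥C → ℂ) k)}, ∃ m : ℕ, (Nat.card ↥C : ℂ)⁻¹ * ∑ᶠ c : ↥C, (χ.1 : ↥K → ℂ) (Subgroup.inclusion hCK c) * (starRingEnd ℂ) ((ξ.1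 : ↥C → ℂ) c) = (m : ℂ) ∧ (ξ = f χ → ((m : ZMod p) = 1 ∨ (m : ZMod p) = -1)) ∧ (ξ ≠ f χ → p ∣ m)) ∧ ((Cfsg.charDegree ((f χ).1 : ↥C → ℂ) : ZMod p) = (Cfsg.charDegree (χ.1 : ↥K → ℂ) : ZMod p) ∨ (Cfsg.charDegree ((f χ).1 : ↥C → ℂ) : ZMod p) = -(Cfsg.charDegree (χ.1 : ↥K → ℂ) : ZMod p)) := by
  classical
  haveI := Fintype.ofFinite G
  haveI := Fintype.ofFinite ↥K
  haveI := Fintype.ofFinite ↥C
  haveI := Fintype.ofFinite ↥(C.subgroupOf K)
  haveI hQ' : (Q.subgroupOf K).Normal := ⟨fun q hq k => hQn k k.2 q hq⟩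
  set φ := CfsgLib.Glauberman.conjHom P K hPK with hφ
  obtain ⟨a, ha⟩ := hQp
  have hpQ : IsPGroup p ↥(Q.subgroupOf K) :=
    (IsPGroup.of_card ha).of_equiv (Subgroup.subgroupOfEquivOfLe hQK).symm
  have hst : ∀ s, ∀ n ∈ Q.subgroupOf K, φ s n ∈ Q.subgroupOf K := by
    intro s n hn
    by_contra hno
    obtain ⟨i, hi⟩ := hpQ ⟨n, hn⟩
    have h1 : (φ s n) ^ p ^ i = 1 := by
      rw [← map_pow, show n ^ p ^ i = 1 from congrArg Subtype.val hi, map_one]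
    have h2 : orderOf ((φ s n : ↥K) : ↥K ⧸ Q.subgroupOf K) ∣ p ^ i :=
      orderOf_dvd_of_pow_eq_one (by rw [← QuotientGroup.mk_pow, h1, QuotientGroup.mk_one])
    have h3 : orderOf ((φ s n : ↥K) : ↥K ⧸ Q.subgroupOf K) ∣ (Q.subgroupOf K).index := by
      rw [Subgroup.index_eq_card]
      exact orderOf_dvd_natCard _
    have h4 : Nat.Coprime (p ^ i) (Q.subgroupOf K).index :=
      ((Fact.out : p.Prime).coprime_iff_not_dvd.2 hQsyl).pow_left i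
    exact hno ((QuotientGroup.eq_one_iff _).1
      (orderOf_eq_one_iff.1 (Nat.eq_one_of_dvd_coprimes h4 h2 h3)))
  have hR : CfsgLib.Glauberman.RelFix p φ (Q.subgroupOf K) (C.subgroupOf K) := by
    refine ⟨hP, hpQ, hQsyl, fun k => ?_, hst⟩
    rw [Subgroup.mem_subgroupOf, hC]
    exact ⟨fun h s => h.2 s s.2, fun h => ⟨k.2, fun x hx => h ⟨x, hx⟩⟩⟩
  obtain ⟨hE, hS, hU⟩ := CfsgLib.Glauberman.relative_correspondence hR
  set e : ↥(C.subgroupOf K) ≃* ↥C := Subgroup.subgroupOfEquivOfLe hCK with he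
  have hinvK : ∀ χ : Cfsg.IrrCharacter ↥K, CfsgLib.Glauberman.Inv φ (χ : ↥K → ℂ) ↔
      ∀ x ∈ P, ∀ k k' : ↥K, (k' : G) = x * (k : G) * x⁻¹ → (χ : ↥K → ℂ) k' = (χ : ↥K → ℂ) k :=
    fun χ => CfsgLib.Glauberman.inv_conjHom_iff hPK
  let down : Cfsg.IrrCharacter ↥(C.subgroupOf K) → Cfsg.IrrCharacter ↥C := fun ξ =>
    ⟨fun c => (ξ : ↥(C.subgroupOf K) → ℂ) (e.symm c),
      CfsgLib.Chars.isIrrCharacter_comp e.symm.toMonoidHom e.symm.surjective ξ.2⟩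
  let up : Cfsg.IrrCharacter ↥C → Cfsg.IrrCharacter ↥(C.subgroupOf K) := fun ξ =>
    ⟨fun c => (ξ : ↥C → ℂ) (e c), CfsgLib.Chars.isIrrCharacter_comp e.toMonoidHom e.surjective ξ.2⟩
  have hdu : ∀ ξ, down (up ξ) = ξ := fun ξ => Subtype.ext (funext fun c => by
    simp only [up, down, MulEquiv.apply_symm_apply])
  have hud : ∀ ξ, up (down ξ) = ξ := fun ξ => Subtype.ext (funext fun c => by
    simp only [up, down, MulEquiv.symm_apply_apply])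
  have hdown : ∀ ξ : Cfsg.IrrCharacter ↥(C.subgroupOf K),
      CfsgLib.Glauberman.Inv (CfsgLib.Glauberman.restrictAct φ (C.subgroupOf K) hR.stableC)
        (ξ : ↥(C.subgroupOf K) → ℂ) →
      ∀ x ∈ P, ∀ k k' : ↥C, (k' : G) = x * (k : G) * x⁻¹ →
        (down ξ : ↥C → ℂ) k' = (down ξ : ↥C → ℂ) k := by
    intro ξ hξ x hx k k' hk
    have h1 : CfsgLib.Glauberman.restrictAct φ (C.subgroupOf K) hR.stableC ⟨x, hx⟩ (e.symm k) =
      e.symm k' := Subtype.ext (Subtype.ext hk.symm)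
    have h2 := hξ ⟨x, hx⟩ (e.symm k)
    rw [h1] at h2
    exact h2
  have hup : ∀ ξ : Cfsg.IrrCharacter ↥C,
      (∀ x ∈ P, ∀ k k' : ↥C, (k' : G) = x * (k : G) * x⁻¹ → (ξ : ↥C → ℂ) k' = (ξ : ↥C → ℂ) k) →
      CfsgLib.Glauberman.Inv (CfsgLib.Glauberman.restrictAct φ (C.subgroupOf K) hR.stableC)
        (up ξ : ↥(C.subgroupOf K) → ℂ) :=
    fun ξ hξ s c => hξ s s.2 (e c) _ rfl
  choose F hFinv hF1 hF2 using hE
  have hnd : ∀ (χ : Cfsg.IrrCharacter ↥K) (hχ : CfsgLib.Glauberman.Inv φ (χ : ↥K → ℂ)),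
      ¬ p ∣ CfsgLib.CharsMore.multNat (CfsgLib.Glauberman.resC (C.subgroupOf K) (χ : ↥K → ℂ))
        (F χ hχ : ↥(C.subgroupOf K) → ℂ) := by
    intro χ hχ hd
    have h0 := (CharP.cast_eq_zero_iff (ZMod p) p _).2 hd
    rcases hF1 χ hχ with h | h <;> rw [h0] at h
    · exact zero_ne_one h
    · exact one_ne_zero (neg_eq_zero.1 h.symm)
  refine ⟨fun χ => ⟨down (F χ.1 ((hinvK χ.1).2 χ.2)), hdown _ (hFinv _ _)⟩,
    ⟨fun χ χ' hχ => ?_, fun ξ => ?_⟩, fun χ => ⟨fun ξ => ?_, ?_⟩⟩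
  · have h1 := congrArg (fun z => up z.1) hχ
    simp only [hud] at h1
    exact Subtype.ext (hU χ.1 χ'.1 _ ((hinvK χ.1).2 χ.2) ((hinvK χ'.1).2 χ'.2) (hFinv _ _)
      (hnd χ.1 _) (h1 ▸ hnd χ'.1 ((hinvK χ'.1).2 χ'.2)))
  · obtain ⟨χ, hχ, hm⟩ := hS (up ξ.1) (hup _ ξ.2)
    refine ⟨⟨χ, (hinvK χ).1 hχ⟩, Subtype.ext ?_⟩
    show down (F χ _) = ξ.1
    by_contra hne
    refine hm (hF2 χ hχ (up ξ.1) (hup _ ξ.2) fun h => hne ?_)
    rw [← h, hdu]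
  · refine ⟨CfsgLib.CharsMore.multNat
      (CfsgLib.Glauberman.resC (C.subgroupOf K) (χ.1 : ↥K → ℂ))
      (up ξ.1 : ↥(C.subgroupOf K) → ℂ), ?_, fun h => ?_, fun h => ?_⟩
    · rw [← CfsgLib.CharsMore.inner_eq_multNat
        (φ := CfsgLib.Glauberman.resC (C.subgroupOf K) (χ.1 : ↥K → ℂ))
        (CfsgLib.Chars.isCharacter_comp (C.subgroupOf K).subtype
          (CfsgLib.Chars.isCharacter_of_irr χ.1.2)) (CfsgLib.Chars.isCharacter_of_irr (up ξ.1).2),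
        finsum_eq_sum_of_fintype, ← CfsgLib.Chars.inner_def,
        ← CfsgLib.CharsMore.inner_comp_equiv e]
      rfl
    · rw [h, hud]
      exact hF1 χ.1 _
    · exact hF2 χ.1 _ (up ξ.1) (hup _ ξ.2) fun h' => h (Subtype.ext (by rw [← hdu ξ.1, h']))
  · have hd := CfsgLib.Glauberman.relative_degree hR ((hinvK χ.1).2 χ.2)
      (hFinv χ.1 ((hinvK χ.1).2 χ.2)) (hF2 χ.1 ((hinvK χ.1).2 χ.2))
    have he' : Cfsg.charDegree (down (F χ.1 ((hinvK χ.1).2 χ.2)) : ↥C → ℂ) =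
        Cfsg.charDegree (F χ.1 ((hinvK χ.1).2 χ.2) : ↥(C.subgroupOf K) → ℂ) := by
      simp [Cfsg.charDegree, down]
    rcases hF1 χ.1 ((hinvK χ.1).2 χ.2) with h | h <;> rw [h] at hd
    · exact Or.inl (by rw [he', hd, one_mul])
    · exact Or.inr (by rw [he', hd, neg_one_mul, neg_neg])

end Cfsg.Agent.S4914
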