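import Cfsg.Statements.S4916
import Cfsg.Agent.Lib.BlockOrth.BrauerFeit
import Cfsg.Agent.Lib.BlockOrth.Dimension
import Cfsg.Agent.Lib.Blocks.Degree
import Cfsg.Agent.Lib.CharApps.Basic

set_option autoImplicit false
open Cfsg

namespace Cfsg.Agent.S4916

/-- Let G be a finite group, p a prime and M a maximal ideal of the algebraic integers containing p. Then the principal character is the only irreducible character of degree prime to p in the principal p-block of G if and only if p does not divide the order of G. -/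
theorem result {G : Type*} [Group G] [Finite G] (p : ℕ) [Fact p.Prime] (M : Ideal Cfsg.AlgInt) (hM : Cfsg.IsPModular p M) : (∀ χ : Cfsg.IrrCharacter G, χ ∈ Cfsg.principalBlock M G → ¬ p ∣ Cfsg.charDegree (χ : G → ℂ) → (χ : G → ℂ) = fun _ => (1 : ℂ)) ↔ ¬ p ∣ Nat.card G := by
  classical
  haveI := Fintype.ofFinite G
  haveI := hM.2.1.isPrime
  haveI := CfsgLib.Chars.irrFintype G
  have hB := CfsgLib.Blocks.isPBlock_principalBlock (G := G) M
  have hone : CfsgLib.Chars.principal G ∈ Cfsg.principalBlock M G :=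
    CfsgLib.Blocks.principal_mem_principalBlock M
  have hdeg1 : Cfsg.charDegree ((CfsgLib.Chars.principal G : Cfsg.IrrCharacter G) : G → ℂ) = 1 :=
    (CfsgLib.CharApps.deg_eq_one_iff (CfsgLib.Chars.principal G)).mp (CfsgLib.Chars.principal_apply 1)
  have hmin : CfsgLib.BlockOrth.blockMin p (Cfsg.principalBlock M G) = 0 := by
    refine Nat.eq_zero_of_le_zero ((CfsgLib.BlockOrth.blockMin_le hone).trans ?_)
    unfold CfsgLib.BlockOrth.degVal
    rw [hdeg1]; simp
  constructor
  · intro honly hp
    have h := CfsgLib.BlockOrth.sum_degree_sq_factorization (p := p) hM.2.2 hB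
    rw [hmin, add_zero, CfsgLib.BlockOrth.sum_mem_block] at h
    have hpos : 0 < (Nat.card G).factorization p :=
      (Fact.out : p.Prime).factorization_pos_of_dvd Nat.card_pos.ne' hp
    rw [← Finset.add_sum_erase _ _ (Finset.mem_filter.mpr
      ⟨Finset.mem_univ (CfsgLib.Chars.principal G), hone⟩), hdeg1] at h
    have hdvd : p ∣ ∑ χ ∈ (Finset.univ.filter (· ∈ Cfsg.principalBlock M G)).erase
        (CfsgLib.Chars.principal G), Cfsg.charDegree (χ : G → ℂ) ^ 2 := by
      refine Finset.dvd_sum fun χ hχ => Dvd.dvd.pow ?_ two_ne_zero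
      by_contra hnd
      exact (Finset.mem_erase.mp hχ).1 (Subtype.ext
        (honly χ (Finset.mem_filter.mp (Finset.mem_of_mem_erase hχ)).2 hnd))
    rw [Nat.factorization_eq_zero_of_not_dvd] at h
    · omega
    · intro hd
      rw [one_pow, Nat.dvd_add_left hdvd] at hd
      exact (Fact.out : p.Prime).not_dvd_one hd
  · intro hp χ hχ _
    have hd : Cfsg.blockDefect p (Cfsg.principalBlock M G) = 0 := by
      rw [Cfsg.blockDefect, Nat.factorization_eq_zero_of_not_dvd hp, Nat.zero_sub]
    have h := CfsgLib.BlockOrth.four_mul_card_le (p := p) hM.2.2 hB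
    rw [hd] at h
    simp only [mul_zero, pow_zero] at h
    have h1 : Nat.card ↥(Cfsg.principalBlock M G) ≤ 1 := by omega
    haveI : Subsingleton ↥(Cfsg.principalBlock M G) := Finite.card_le_one_iff_subsingleton.mp h1
    exact congrArg (fun t : ↥(Cfsg.principalBlock M G) => ((t : Cfsg.IrrCharacter G) : G → ℂ))
      (Subsingleton.elim ⟨χ, hχ⟩ ⟨_, hone⟩)

end Cfsg.Agent.S4916
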