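import Cfsg.Statements.S4923
import Cfsg.Agent.Lib.CharApps.MaximalClassField

set_option autoImplicit false
open Cfsg

set_option linter.style.haveILetI false

namespace Cfsg.Agent.S4923

/-- Let G be a finite group with Sylow 2-subgroup P of order 2^n ≥ 8, and let ζ be a primitive 2^(n−1)-th root of unity in ℂ. Then the commutator subgroup of P has index 4 in P if and only if there is an element g of P whose conjugacy class in G has even size and such that the field generated over ℚ by the values at g of all irreducible complex characters of G equals ℚ(ζ + ζ⁻¹) or ℚ(ζ − ζ⁻¹). -/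
theorem result {G : Type*} [Group G] [Finite G] (P : Sylow 2 G) (n : ℕ) (hn : 3 ≤ n) (hP : Nat.card P = 2 ^ n) (ζ : ℂ) (hζ : IsPrimitiveRoot ζ (2 ^ (n - 1))) :
    (commutator ↥P).index = 4 ↔
      ∃ g : G, g ∈ (P : Subgroup G) ∧ 2 ∣ (Subgroup.centralizer ({g} : Set G)).index ∧
        (IntermediateField.adjoin ℚ {z : ℂ | ∃ χ : Cfsg.IrrCharacter G, (χ : G → ℂ) g = z} = IntermediateField.adjoin ℚ ({ζ + ζ⁻¹} : Set ℂ) ∨
          IntermediateField.adjoin ℚ {z : ℂ | ∃ χ : Cfsg.IrrCharacter G, (χ : G → ℂ) g = z} = IntermediateField.adjoin ℚ ({ζ - ζ⁻¹} : Set ℂ)) := by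
  constructor
  · intro h
    obtain ⟨g, hg, hi, ε, hε, hF⟩ :=
      CfsgLib.CharApps.MCField.field_of_index_commutator P hn hP hζ h
    refine ⟨g, hg, hi, ?_⟩
    rcases hε with rfl | rfl
    · exact Or.inl (hF.trans (by rw [one_mul]))
    · exact Or.inr (hF.trans (by rw [neg_one_mul, ← sub_eq_add_neg]))
  · rintro ⟨g, hg, hi, hF | hF⟩
    · exact CfsgLib.CharApps.MCField.index_commutator_of_field P hn hP hζ (Or.inl rfl) hg hi
        (hF.trans (by rw [one_mul]))
    · exact CfsgLib.CharApps.MCField.index_commutator_of_field P hn hP hζ (Or.inr rfl) hg hi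
        (hF.trans (by rw [neg_one_mul, ← sub_eq_add_neg]))

end Cfsg.Agent.S4923
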