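import Cfsg.Statements.S4931
import Cfsg.Agent.Lib.CharApps.SylowNormalizerExtend

set_option autoImplicit false
open Cfsg

namespace Cfsg.Agent.S4931

/-- Let G be a finite group, p a prime and P a Sylow p-subgroup of G with normalizer N. Then every irreducible complex character of N of degree not divisible by p is the restriction of an irreducible character of G if and only if there is a normal subgroup K of G with KN = G and K ∩ N = 1. -/
theorem result {G : Type*} [Group G] [Finite G] (p : ℕ) [Fact p.Prime] (P : Sylow p G) :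
    (∀ θ : Cfsg.IrrCharacter ↥(Subgroup.normalizer ((P : Subgroup G) : Set G)), ¬ p ∣ Cfsg.charDegree (θ : ↥(Subgroup.normalizer ((P : Subgroup G) : Set G)) → ℂ) →
        ∃ χ : Cfsg.IrrCharacter G, ∀ x : ↥(Subgroup.normalizer ((P : Subgroup G) : Set G)), (χ : G → ℂ) x = (θ : ↥(Subgroup.normalizer ((P : Subgroup G) : Set G)) → ℂ) x) ↔
      ∃ K : Subgroup G, K.Normal ∧ K ⊔ Subgroup.normalizer ((P : Subgroup G) : Set G) = ⊤ ∧ K ⊓ Subgroup.normalizer ((P : Subgroup G) : Set G) = ⊥ := by
  constructor
  · intro h
    exact CfsgLib.CharApps.exists_normal_complement_of_extendible P _ rfl h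
  · rintro ⟨K, hK, hsup, hinf⟩
    haveI := hK
    set N := Subgroup.normalizer ((P : Subgroup G) : Set G) with hN
    intro θ _
    have hb : Function.Bijective ((QuotientGroup.mk' K).comp N.subtype) := by
      constructor
      · rw [← MonoidHom.ker_eq_bot_iff, Subgroup.eq_bot_iff_forall]
        intro x hx
        rw [MonoidHom.mem_ker] at hx
        have h1 : (x : G) ∈ K ⊓ N := ⟨(QuotientGroup.eq_one_iff (x : G)).mp hx, x.2⟩
        rw [hinf, Subgroup.mem_bot] at h1
        exact Subtype.ext h1
      · intro q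
        obtain ⟨g, rfl⟩ := QuotientGroup.mk'_surjective K q
        obtain ⟨k, hk, n, hn, rfl⟩ := Subgroup.mem_sup_of_normal_left.mp
          (hsup ▸ Subgroup.mem_top g : g ∈ K ⊔ N)
        refine ⟨⟨n, hn⟩, ?_⟩
        show QuotientGroup.mk' K n = QuotientGroup.mk' K (k * n)
        rw [map_mul, show QuotientGroup.mk' K k = 1 from (QuotientGroup.eq_one_iff k).mpr hk,
          one_mul]
    let e := MulEquiv.ofBijective _ hb
    refine ⟨⟨fun g => (θ : N → ℂ) (e.symm (QuotientGroup.mk' K g)),
      CfsgLib.Chars.isIrrCharacter_comp (e.symm.toMonoidHom.comp (QuotientGroup.mk' K))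
        (e.symm.surjective.comp (QuotientGroup.mk'_surjective K)) θ.2⟩, fun x => ?_⟩
    show (θ : N → ℂ) (e.symm (e x)) = _
    rw [e.symm_apply_apply]

end Cfsg.Agent.S4931
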