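import Cfsg.Statements.S4955
import Cfsg.Agent.Lib.CharApps.AbelianSylow

set_option autoImplicit false
open Cfsg

namespace Cfsg.Agent.S4955

/-- Let X be a finite group with an abelian normal Sylow p-subgroup V (a normal p-subgroup of index prime to p in which any two elements commute), and let G be a complement to V in X. Then for every v in V, writing C for the centralizer of v in G, the number k(X) of conjugacy classes of X satisfies k(X) ≤ (order of C)·(order of V) − ((order of G) − k(G)); the statement is written with the subtracted term moved to the left. In particular, if some v in V is centralized by no nonidentity element of G, then k(X) is at most the order of V. -/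
theorem result {X : Type*} [Group X] [Finite X] (p : ℕ) [Fact p.Prime] (V : Subgroup X) [V.Normal] (hVp : IsPGroup p V) (hidx : ¬ p ∣ V.index) (hab : ∀ a ∈ V, ∀ b ∈ V, a * b = b * a) (G : Subgroup X) (hGV : Subgroup.IsComplement' V G) (v : X) (hv : v ∈ V) : Nat.card (ConjClasses X) + Nat.card G ≤ Nat.card ↥(G ⊓ Subgroup.centralizer ({v} : Set X)) * Nat.card V + Nat.card (ConjClasses G) := by
  classical
  have h := CfsgLib.CharApps.card_classes_le (G := X) V hVp hidx hab hv
  have e : G ≃* X ⧸ V :=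
    MulEquiv.ofBijective ((QuotientGroup.mk' V).comp G.subtype) ⟨fun a b hab' => by
      have h1 : ((a : X))⁻¹ * b ∈ V := QuotientGroup.eq.mp hab'
      have h2 : ((a : X))⁻¹ * b ∈ V ⊓ G := ⟨h1, G.mul_mem (G.inv_mem a.2) b.2⟩
      rw [(Subgroup.IsComplement'.disjoint hGV).eq_bot, Subgroup.mem_bot, inv_mul_eq_one] at h2
      exact Subtype.ext h2, fun q => by
      obtain ⟨x, rfl⟩ := QuotientGroup.mk_surjective q
      obtain ⟨w, hw, g, hg, rfl⟩ := Subgroup.mem_sup_of_normal_left.mp
        (show x ∈ V ⊔ G by rw [Subgroup.IsComplement'.sup_eq_top hGV]; trivial)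
      refine ⟨⟨g, hg⟩, ?_⟩
      show ((g : X) : X ⧸ V) = _
      rw [QuotientGroup.mk_mul, (QuotientGroup.eq_one_iff w).mpr hw, one_mul]⟩
  have hk : Nat.card (ConjClasses (X ⧸ V)) = Nat.card (ConjClasses G) := by
    rw [← CfsgLib.Chars.card_irr_eq_card_classes, ← CfsgLib.Chars.card_irr_eq_card_classes]
    refine Nat.card_congr ⟨fun φ => ⟨fun g => (φ : X ⧸ V → ℂ) (e g),
        CfsgLib.Chars.isIrrCharacter_comp e.toMonoidHom e.surjective φ.2⟩,
      fun φ => ⟨fun q => (φ : G → ℂ) (e.symm q),
        CfsgLib.Chars.isIrrCharacter_comp e.symm.toMonoidHom e.symm.surjective φ.2⟩,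
      fun φ => Subtype.ext (funext fun q => congrArg (φ : X ⧸ V → ℂ) (e.apply_symm_apply q)),
      fun φ => Subtype.ext (funext fun g => congrArg (φ : G → ℂ) (e.symm_apply_apply g))⟩
  have hC : Nat.card (Subgroup.centralizer ({v} : Set X)) =
      Nat.card ↥(G ⊓ Subgroup.centralizer ({v} : Set X)) * Nat.card V := by
    set C := Subgroup.centralizer ({v} : Set X)
    set D := G ⊓ C
    have hVC : V ≤ C := fun w hw => Subgroup.mem_centralizer_singleton_iff.mpr (hab w hw v hv)
    rw [← Nat.card_prod]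
    refine (Nat.card_congr (Equiv.ofBijective (fun p : ↥D × ↥V =>
      (⟨(p.2 : X) * p.1, C.mul_mem (hVC p.2.2) p.1.2.2⟩ : C)) ⟨fun p q hpq => ?_, fun x => ?_⟩)).symm
    · have h1 : ((q.2 : X))⁻¹ * p.2 = q.1 * ((p.1 : X))⁻¹ := by
        have h0 := congrArg Subtype.val hpq
        simp only at h0
        rw [eq_mul_inv_iff_mul_eq, mul_assoc, h0, inv_mul_cancel_left]
      have h2 : ((q.2 : X))⁻¹ * p.2 ∈ V ⊓ G :=
        ⟨V.mul_mem (V.inv_mem q.2.2) p.2.2, h1 ▸ G.mul_mem q.1.2.1 (G.inv_mem p.1.2.1)⟩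
      rw [(Subgroup.IsComplement'.disjoint hGV).eq_bot, Subgroup.mem_bot] at h2
      rw [h2] at h1
      exact Prod.ext (Subtype.ext (mul_inv_eq_one.mp h1.symm).symm)
        (Subtype.ext (inv_mul_eq_one.mp h2).symm)
    · obtain ⟨w, hw, g, hg, hx⟩ := Subgroup.mem_sup_of_normal_left.mp
        (show (x : X) ∈ V ⊔ G by rw [Subgroup.IsComplement'.sup_eq_top hGV]; trivial)
      have hgC : g ∈ C := by
        rw [show g = w⁻¹ * (x : X) by rw [← hx, inv_mul_cancel_left]]
        exact C.mul_mem (C.inv_mem (hVC hw)) x.2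
      exact ⟨(⟨g, hg, hgC⟩, ⟨w, hw⟩), Subtype.ext hx⟩
  rw [hk, Nat.card_congr e.symm.toEquiv, hC] at h
  exact h

end Cfsg.Agent.S4955
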