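import Cfsg.Statements.S4956
import Cfsg.Agent.Lib.Coprime.Basic

set_option autoImplicit false
open Cfsg

namespace Cfsg.Agent.S4956

/-- Let X be a finite group, V an abelian normal subgroup of X (any two elements of V commute) and G a complement to V in X whose order is coprime to that of V. Let S be a set of representatives of the orbits of G on V under conjugation: S lies in V and every element of V is conjugate under G to exactly one member of S. Then the number of conjugacy classes of X equals the sum, over s in S, of the number of conjugacy classes of the centralizer of s in G. -/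
theorem result {X : Type*} [Group X] [Finite X] (V : Subgroup X) [V.Normal] (hab : ∀ a ∈ V, ∀ b ∈ V, a * b = b * a) (G : Subgroup X) (hGV : Subgroup.IsComplement' V G) (hcop : (Nat.card V).Coprime (Nat.card G)) (S : Finset X) (hSV : ∀ s ∈ S, s ∈ V) (hrep : ∀ v ∈ V, ∃! s, s ∈ S ∧ ∃ g ∈ G, g * v * g⁻¹ = s) : Nat.card (ConjClasses X) = ∑ s ∈ S, Nat.card (ConjClasses ↥(G ⊓ Subgroup.centralizer ({s} : Set X))) := by
  classical
  let CS : {s // s ∈ S} → Subgroup X := fun s => G ⊓ Subgroup.centralizer ({(s : X)} : Set X)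
  have hVcomm : ∀ a b : ↥V, a * b = b * a := fun a b => Subtype.ext (hab a a.2 b b.2)
  have hdec : ∀ x : X, ∃ w ∈ V, ∃ g ∈ G, w * g = x := fun x =>
    Subgroup.mem_sup_of_normal_left.mp (show x ∈ V ⊔ G by
      rw [Subgroup.IsComplement'.sup_eq_top hGV]; trivial)
  have huniq : ∀ w ∈ V, ∀ w' ∈ V, ∀ g ∈ G, ∀ g' ∈ G, w * g = w' * g' → w = w' ∧ g = g' := by
    intro w hw w' hw' g hg g' hg' e
    have h1 : w'⁻¹ * w = g' * g⁻¹ := by
      rw [eq_mul_inv_iff_mul_eq, mul_assoc, e, inv_mul_cancel_left]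
    have h2 : w'⁻¹ * w ∈ V ⊓ G :=
      ⟨V.mul_mem (V.inv_mem hw') hw, h1 ▸ G.mul_mem hg' (G.inv_mem hg)⟩
    rw [(Subgroup.IsComplement'.disjoint hGV).eq_bot, Subgroup.mem_bot] at h2
    rw [h2] at h1
    exact ⟨(inv_mul_eq_one.mp h2).symm, (mul_inv_eq_one.mp h1.symm).symm⟩
  have hfree : ∀ g ∈ G, ∀ u ∈ V, u * (g * u⁻¹ * g⁻¹) * g = g * (u * (g * u⁻¹ * g⁻¹)) →
      u * (g * u⁻¹ * g⁻¹) = 1 := by
    intro g hg u hu hz
    set z := u * (g * u⁻¹ * g⁻¹) with hzd
    have hzV : z ∈ V := V.mul_mem hu (Subgroup.Normal.conj_mem inferInstance _ (V.inv_mem hu) g)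
    have hgu : g * u * g⁻¹ = z⁻¹ * u := by
      have h0 : z⁻¹ = g * u * g⁻¹ * u⁻¹ := by rw [hzd]; group
      rw [h0, inv_mul_cancel_right]
    have hn : ∀ n : ℕ, g ^ n * u * (g ^ n)⁻¹ = (z⁻¹) ^ n * u := by
      intro n
      induction n with
      | zero => simp
      | succ n ih =>
        have hc : g * (z⁻¹) ^ n * g⁻¹ = (z⁻¹) ^ n := by
          have h1 : Commute g z := hz.symm
          exact mul_inv_eq_iff_eq_mul.mpr ((h1.inv_right).pow_right n).eq
        calc g ^ (n + 1) * u * (g ^ (n + 1))⁻¹ = g * (g ^ n * u * (g ^ n)⁻¹) * g⁻¹ := by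
              rw [pow_succ']; group
          _ = (g * (z⁻¹) ^ n * g⁻¹) * (g * u * g⁻¹) := by rw [ih]; group
          _ = _ := by rw [hc, hgu, ← mul_assoc, pow_succ]
    have h1 := hn (orderOf g)
    rw [pow_orderOf_eq_one, one_mul, inv_one, mul_one, eq_comm, mul_eq_right, inv_pow, inv_eq_one] at h1
    have h2 : orderOf z ∣ Nat.card V := Subgroup.orderOf_dvd_natCard _ hzV
    have h3 : orderOf z ∣ Nat.card G :=
      (orderOf_dvd_of_pow_eq_one h1).trans (Subgroup.orderOf_dvd_natCard _ hg)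
    exact orderOf_eq_one_iff.mp (Nat.eq_one_of_dvd_coprimes hcop h2 h3)
  have hfix : ∀ g ∈ G, ∀ w ∈ V, ∃ u ∈ V,
      (w * (u * (g * u⁻¹ * g⁻¹))) * g = g * (w * (u * (g * u⁻¹ * g⁻¹))) := by
    intro g hg w hw
    let φ : ↥V →* ↥V :=
      { toFun := fun u => u * ⟨g * ((u⁻¹ : ↥V) : X) * g⁻¹, Subgroup.Normal.conj_mem inferInstance _ (u⁻¹).2 g⟩
        map_one' := Subtype.ext (by simp)
        map_mul' := fun a b => Subtype.ext (by
          simp only [Subgroup.coe_mul, InvMemClass.coe_inv, mul_inv_rev]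
          have h1 : g * (a : X)⁻¹ * g⁻¹ ∈ V := Subgroup.Normal.conj_mem inferInstance _ (V.inv_mem a.2) g
          have h2 : g * (b : X)⁻¹ * g⁻¹ ∈ V := Subgroup.Normal.conj_mem inferInstance _ (V.inv_mem b.2) g
          calc (a : X) * b * (g * ((b : X)⁻¹ * (a : X)⁻¹) * g⁻¹)
              = (a : X) * (b * (g * (b : X)⁻¹ * g⁻¹)) * (g * (a : X)⁻¹ * g⁻¹) := by group
            _ = _ := by
              rw [mul_assoc (a : X), hab _ (V.mul_mem b.2 h2) _ h1, ← mul_assoc]) }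
    have hdisj : Disjoint φ.range φ.ker := by
      rw [disjoint_iff, Subgroup.eq_bot_iff_forall]
      rintro _ ⟨⟨u, rfl⟩, hk⟩
      have hk' := congrArg Subtype.val (MonoidHom.mem_ker.mp hk)
      refine Subtype.ext (hfree g hg u u.2 ?_)
      simp only [φ, MonoidHom.coe_mk, OneHom.coe_mk, Subgroup.coe_mul, InvMemClass.coe_inv,
        OneMemClass.coe_one] at hk'
      generalize (u : X) * (g * (u : X)⁻¹ * g⁻¹) = z at hk' ⊢
      have h1 : g * z⁻¹ * g⁻¹ = z⁻¹ := eq_inv_of_mul_eq_one_right hk'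
      have h2 : g * z * g⁻¹ = z := by
        have := congrArg (·⁻¹) h1
        simpa [mul_assoc] using this
      exact (mul_inv_eq_iff_eq_mul.mp h2).symm
    have hcomp : Subgroup.IsComplement' φ.range φ.ker := by
      refine Subgroup.isComplement'_of_card_mul_and_disjoint ?_ hdisj
      rw [← Subgroup.index_ker, mul_comm, Subgroup.card_mul_index]
    haveI : φ.range.Normal := ⟨fun a ha b => by rwa [hVcomm b a, mul_inv_cancel_right]⟩
    obtain ⟨_, ⟨u, rfl⟩, k, hk, hw'⟩ := Subgroup.mem_sup_of_normal_left.mp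
      (show (⟨w, hw⟩ : ↥V) ∈ φ.range ⊔ φ.ker by rw [hcomp.sup_eq_top]; trivial)
    refine ⟨((u⁻¹ : ↥V) : X), (u⁻¹).2, ?_⟩
    have hk' : ((φ k : ↥V) : X) = 1 := congrArg Subtype.val (MonoidHom.mem_ker.mp hk)
    have h1 : g * (k : X) * g⁻¹ = k := by
      simp only [φ, MonoidHom.coe_mk, OneHom.coe_mk, Subgroup.coe_mul, InvMemClass.coe_inv] at hk'
      have := eq_inv_of_mul_eq_one_right hk'
      have := congrArg (·⁻¹) this
      simpa [mul_assoc] using this
    have h2 : w * ((φ u⁻¹ : ↥V) : X) = (k : X) := by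
      have h3 : (⟨w, hw⟩ : ↥V) * φ u⁻¹ = k := by
        rw [← hw', hVcomm (φ u), mul_assoc, ← map_mul, mul_inv_cancel, map_one, mul_one]
      exact congrArg Subtype.val h3
    simp only [φ, MonoidHom.coe_mk, OneHom.coe_mk, Subgroup.coe_mul, InvMemClass.coe_inv] at h2
    simp only [InvMemClass.coe_inv]
    rw [h2]
    exact (mul_inv_eq_iff_eq_mul.mp h1).symm
  let F : (Σ s : {s // s ∈ S}, ConjClasses ↥(CS s)) → ConjClasses X := fun p =>
    Quotient.liftOn p.2 (fun c => ConjClasses.mk ((p.1 : X) * c)) (by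
      intro a b (hab' : IsConj a b)
      obtain ⟨k, hk⟩ := isConj_iff.mp hab'
      refine ConjClasses.mk_eq_mk_iff_isConj.mpr (isConj_iff.mpr ⟨(k : X), ?_⟩)
      have hks : (k : X) * p.1 = p.1 * k := Subgroup.mem_centralizer_singleton_iff.mp k.2.2
      rw [← hk]
      simp only [Subgroup.coe_mul, InvMemClass.coe_inv, ← mul_assoc]
      rw [hks])
  have hcard : ∑ s ∈ S, Nat.card (ConjClasses ↥(G ⊓ Subgroup.centralizer ({s} : Set X))) =
      Nat.card (Σ s : {s // s ∈ S}, ConjClasses ↥(CS s)) := by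
    rw [Nat.card_sigma, ← Finset.sum_coe_sort S]
  rw [hcard]
  refine (Nat.card_congr (Equiv.ofBijective F ⟨?_, ?_⟩)).symm
  · rintro ⟨⟨s, hs⟩, K⟩ ⟨⟨s', hs'⟩, K'⟩ heq
    obtain ⟨c, rfl⟩ := ConjClasses.mk_surjective K
    obtain ⟨c', rfl⟩ := ConjClasses.mk_surjective K'
    obtain ⟨x, hx⟩ := isConj_iff.mp (ConjClasses.mk_eq_mk_iff_isConj.mp heq)
    obtain ⟨w, hw, h, hh, rfl⟩ := hdec x
    simp only at hx
    set t := h * s * h⁻¹ with ht
    set d := h * (c : X) * h⁻¹ with hd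
    have htV : t ∈ V := Subgroup.Normal.conj_mem inferInstance _ (hSV s hs) h
    have hdG : d ∈ G := G.mul_mem (G.mul_mem hh c.2.1) (G.inv_mem hh)
    have hsc : (c : X) * s = s * c := Subgroup.mem_centralizer_singleton_iff.mp c.2.2
    have hwd : w * (d * w⁻¹ * d⁻¹) ∈ V :=
      V.mul_mem hw (Subgroup.Normal.conj_mem inferInstance _ (V.inv_mem hw) d)
    have hx' : (t * (w * (d * w⁻¹ * d⁻¹))) * d = s' * c' := by
      rw [← hx, ← mul_assoc t, hab t htV w hw, ht, hd]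
      group
    obtain ⟨e1, e2⟩ := huniq _ (V.mul_mem htV hwd) _ (hSV s' hs') _ hdG _ c'.2.1 hx'
    have hdt : d * t = t * d := by
      rw [ht, hd, show h * (c : X) * h⁻¹ * (h * s * h⁻¹) = h * ((c : X) * s) * h⁻¹ by group, hsc]
      group
    have hds' : d * s' = s' * d := by
      rw [e2]; exact Subgroup.mem_centralizer_singleton_iff.mp c'.2.2
    have hz : (w * (d * w⁻¹ * d⁻¹)) * d = d * (w * (d * w⁻¹ * d⁻¹)) := by
      have h1 : t * (w * (d * w⁻¹ * d⁻¹)) = s' := e1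
      have h2 : w * (d * w⁻¹ * d⁻¹) = t⁻¹ * s' := by rw [← h1]; group
      rw [h2]
      exact ((show Commute d t from hdt).inv_right.mul_right (show Commute d s' from hds')).symm.eq
    rw [hfree d hdG w hw hz, mul_one] at e1
    obtain ⟨s₀, -, hs₀u⟩ := hrep s (hSV s hs)
    have hss : s = s' := (hs₀u s ⟨hs, 1, G.one_mem, by simp⟩).trans
      (hs₀u s' ⟨hs', h, hh, e1⟩).symm
    subst hss
    have hhC : h ∈ Subgroup.centralizer ({s} : Set X) :=
      Subgroup.mem_centralizer_singleton_iff.mpr (mul_inv_eq_iff_eq_mul.mp e1)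
    refine congrArg (Sigma.mk (⟨s, hs⟩ : {s // s ∈ S})) ?_
    exact ConjClasses.mk_eq_mk_iff_isConj.mpr (isConj_iff.mpr ⟨⟨h, hh, hhC⟩, Subtype.ext e2⟩)
  · intro K
    obtain ⟨x, rfl⟩ := ConjClasses.mk_surjective K
    obtain ⟨w, hw, g, hg, rfl⟩ := hdec x
    obtain ⟨u, hu, hcm⟩ := hfix g hg w hw
    set z := w * (u * (g * u⁻¹ * g⁻¹)) with hz
    have hzV : z ∈ V :=
      V.mul_mem hw (V.mul_mem hu (Subgroup.Normal.conj_mem inferInstance _ (V.inv_mem hu) g))
    obtain ⟨s, ⟨hs, h, hh, hhs⟩, -⟩ := hrep z hzV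
    have hc : h * g * h⁻¹ ∈ CS ⟨s, hs⟩ := ⟨G.mul_mem (G.mul_mem hh hg) (G.inv_mem hh),
      Subgroup.mem_centralizer_singleton_iff.mpr (by
        show h * g * h⁻¹ * s = s * (h * g * h⁻¹)
        rw [← hhs]
        calc h * g * h⁻¹ * (h * z * h⁻¹) = h * (g * z) * h⁻¹ := by group
          _ = h * (z * g) * h⁻¹ := by rw [hcm]
          _ = _ := by group)⟩
    refine ⟨⟨⟨s, hs⟩, ConjClasses.mk ⟨_, hc⟩⟩, ?_⟩
    show ConjClasses.mk (s * (h * g * h⁻¹)) = ConjClasses.mk (w * g)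
    refine ConjClasses.mk_eq_mk_iff_isConj.mpr (isConj_iff.mpr ⟨u⁻¹ * h⁻¹, ?_⟩)
    rw [← hhs, hz, show w * (u * (g * u⁻¹ * g⁻¹)) = u * w * (g * u⁻¹ * g⁻¹) by
      rw [← mul_assoc, hab w hw u hu]]
    group

end Cfsg.Agent.S4956
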