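import Cfsg.Statements.S4965
import Mathlib
-- import your own Cfsg.Agent.* helpers here

set_option autoImplicit false
open Cfsg

namespace Cfsg.Agent.S4965

/-- Let X be a finite group with an abelian normal subgroup V (any two elements of V commute), and let φ be the action of X ⧸ V on V induced by conjugation (well defined because V is abelian; the hypothesis hφ says that the class of x acts as conjugation by x). Then X has at most as many conjugacy classes as the semidirect product of V by X ⧸ V formed with this action: the split extension has the largest class number among extensions with the given action. -/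
theorem result {X : Type*} [Group X] [Finite X] (V : Subgroup X) [V.Normal] (hab : ∀ a ∈ V, ∀ b ∈ V, a * b = b * a) (φ : X ⧸ V →* MulAut ↥V) (hφ : ∀ (x : X) (v : ↥V), ((φ (QuotientGroup.mk x) v : ↥V) : X) = x * v * x⁻¹) : Nat.card (ConjClasses X) ≤ Nat.card (ConjClasses (SemidirectProduct ↥V (X ⧸ V) φ)) := by
  classical
  set Q := X ⧸ V with hQ
  let P := {p : X × X // Commute p.1 p.2}
  let Y := SemidirectProduct ↥V Q φ
  haveI : Finite Y := Finite.of_equiv _ (SemidirectProduct.equivProd (φ := φ)).symm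
  suffices h : Nat.card P ≤ Nat.card {p : Y × Y // Commute p.1 p.2} by
    rw [card_comm_eq_card_conjClasses_mul_card, card_comm_eq_card_conjClasses_mul_card,
      SemidirectProduct.card, show Nat.card ↥V * Nat.card Q = Nat.card X by
        rw [hQ, V.card_eq_card_quotient_mul_card_subgroup, mul_comm]] at h
    exact Nat.le_of_mul_le_mul_right h Nat.card_pos
  -- coordinates
  let c : X → ↥V := fun x => ⟨x * (Quotient.out (x : Q))⁻¹, by
    rw [← QuotientGroup.eq_one_iff, QuotientGroup.mk_mul, QuotientGroup.mk_inv, QuotientGroup.out_eq',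
      mul_inv_cancel]⟩
  have hc : ∀ x : X, x = (c x : X) * Quotient.out (x : Q) := fun x => (inv_mul_cancel_right _ _).symm
  -- a commuting pair over every pair of classes
  have hbase : ∀ p : P, ∃ p₀ : P, ((p₀.1.1 : Q), (p₀.1.2 : Q)) = ((p.1.1 : Q), (p.1.2 : Q)) :=
    fun p => ⟨p, rfl⟩
  let base : P → P := fun p => Classical.epsilon (h := ⟨p⟩)
    fun p₀ : P => ((p₀.1.1 : Q), (p₀.1.2 : Q)) = ((p.1.1 : Q), (p.1.2 : Q))
  have hb : ∀ p, ((base p).1.1 : Q) = (p.1.1 : Q) ∧ ((base p).1.2 : Q) = (p.1.2 : Q) := fun p =>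
    Prod.ext_iff.mp (Classical.epsilon_spec (hbase p) :)
  have heq : ∀ p q : P, (p.1.1 : Q) = (q.1.1 : Q) → (p.1.2 : Q) = (q.1.2 : Q) → base p = base q := by
    intro p q h1 h2
    simp only [base, h1, h2]
  -- commutation in coordinates
  have hφ' : ∀ (a : Q) (v : ↥V), Quotient.out a * (v : X) = ((φ a v : ↥V) : X) * Quotient.out a :=
    fun a v => by
      rw [show φ a v = φ ((Quotient.out a : X) : Q) v by rw [QuotientGroup.out_eq'], hφ,
        inv_mul_cancel_right]
  have hV : ∀ u v : ↥V, u * v = v * u := fun u v => Subtype.ext (hab u u.2 v v.2)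
  have heval : ∀ x y : X, x * y = ((c x * φ (x : Q) (c y) : ↥V) : X) *
      (Quotient.out (x : Q) * Quotient.out (y : Q)) := fun x y => by
    conv_lhs => rw [hc x, hc y]
    rw [Subgroup.coe_mul, mul_assoc, ← mul_assoc _ ((c y : ↥V) : X), hφ']
    simp only [mul_assoc]
  refine Nat.card_le_card_of_injective (fun p : P =>
    ⟨(⟨c p.1.1 * (c (base p).1.1)⁻¹, (p.1.1 : Q)⟩, ⟨c p.1.2 * (c (base p).1.2)⁻¹, (p.1.2 : Q)⟩), ?_⟩)
    ?_
  · obtain ⟨⟨x, y⟩, hp⟩ := p
    obtain ⟨h1, h2⟩ := hb ⟨(x, y), hp⟩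
    set x₀ := (base ⟨(x, y), hp⟩).1.1
    set y₀ := (base ⟨(x, y), hp⟩).1.2
    have hp₀ : x₀ * y₀ = y₀ * x₀ := (base ⟨(x, y), hp⟩).2
    have hp1 : x * y = y * x := hp
    simp only at h1 h2
    refine SemidirectProduct.ext ?_ ?_
    · show c x * (c x₀)⁻¹ * φ (x : Q) (c y * (c y₀)⁻¹) =
        c y * (c y₀)⁻¹ * φ (y : Q) (c x * (c x₀)⁻¹)
      have key : ∀ a b a' b' : X, a * b = b * a → a' * b' = b' * a' → (a : Q) = (a' : Q) →
          (b : Q) = (b' : Q) → (c a * φ (a : Q) (c b)) * (c a' * φ (a : Q) (c b'))⁻¹ =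
            (c b * φ (b : Q) (c a)) * (c b' * φ (b : Q) (c a'))⁻¹ := by
        intro a b a' b' e e' ea eb
        rw [heval a b, heval b a] at e
        rw [heval a' b', heval b' a', ← ea, ← eb] at e'
        apply Subtype.ext
        have e2 : ((c a * φ (a : Q) (c b) : ↥V) : X) *
            ((c a' * φ (a : Q) (c b') : ↥V) : X)⁻¹ =
            (((c a * φ (a : Q) (c b) : ↥V) : X) * (Quotient.out (a : Q) * Quotient.out (b : Q))) *
            (((c a' * φ (a : Q) (c b') : ↥V) : X) * (Quotient.out (a : Q) * Quotient.out (b : Q)))⁻¹ := by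
          group
        show ((c a * φ (a : Q) (c b) : ↥V) : X) * ((c a' * φ (a : Q) (c b') : ↥V) : X)⁻¹ =
          ((c b * φ (b : Q) (c a) : ↥V) : X) * ((c b' * φ (b : Q) (c a') : ↥V) : X)⁻¹
        rw [e2, e, e']
        group
      have h3 := key x y x₀ y₀ hp1 hp₀ h1.symm h2.symm
      rw [map_mul, map_mul, map_inv, map_inv]
      have comm4 : ∀ a b c d : ↥V, a * b⁻¹ * (c * d⁻¹) = a * c * (b * d)⁻¹ := fun a b c d => by
        letI : CommGroup ↥V := { (inferInstance : Group ↥V) with mul_comm := hV }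
        rw [mul_inv, mul_mul_mul_comm]
      rw [comm4, comm4]
      exact h3
    · show (x : Q) * (y : Q) = (y : Q) * (x : Q)
      rw [← QuotientGroup.mk_mul, ← QuotientGroup.mk_mul, hp1]
  · rintro ⟨⟨x, y⟩, hp⟩ ⟨⟨x', y'⟩, hp'⟩ h
    have h1 := congrArg (fun p => p.1.1.left) h
    have h2 := congrArg (fun p => p.1.1.right) h
    have h3 := congrArg (fun p => p.1.2.left) h
    have h4 := congrArg (fun p => p.1.2.right) h
    simp only at h1 h2 h3 h4
    rw [heq ⟨(x, y), hp⟩ ⟨(x', y'), hp'⟩ h2 h4] at h1 h3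
    refine Subtype.ext (Prod.ext ?_ ?_)
    · show x = x'
      rw [hc x, hc x', mul_right_cancel h1, h2]
    · show y = y'
      rw [hc y, hc y', mul_right_cancel h3, h4]

end Cfsg.Agent.S4965
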