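import Cfsg.Statements.S4993
import Cfsg.Agent.Lib.CharApps.PrimitiveClassSize
import Cfsg.Agent.Lib.FT.OddOrderTheorem
import Cfsg.Agent.Lib.Chars.Integral

set_option autoImplicit false
open Cfsg

namespace Cfsg.Agent.S4993

/-- Let G be a group of odd order whose order has exactly two prime divisors and whose quotient by its Fitting subgroup is nilpotent (G is metanilpotent), and let χ be a primitive irreducible complex character of G (not induced from a character of any proper subgroup). Then χ(1) divides the size of some conjugacy class of G. -/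
theorem result {G : Type*} [Group G] [Fintype G] (hodd : Odd (Nat.card G)) (h2 : (Nat.card G).primeFactors.card = 2) [hF : (Cfsg.fittingSubgroup G).Normal] (hmeta : Group.IsNilpotent (G ⧸ Cfsg.fittingSubgroup G)) (χ : Cfsg.IrrCharacter G) (hprim : ¬ ∃ (H : Subgroup G), H ≠ ⊤ ∧ ∃ θ : ↥H → ℂ, Cfsg.IsCharacter ↥H θ ∧ Cfsg.indFun H θ = (χ : G → ℂ)) : ∃ g : G, Cfsg.charDegree (χ : G → ℂ) ∣ (Subgroup.centralizer ({g} : Set G)).index := by
  obtain ⟨p, q, hpq, hs⟩ := Finset.card_eq_two.1 h2
  have hmem : ∀ r, r ∈ (Nat.card G).primeFactors ↔ r = p ∨ r = q := fun r => by rw [hs]; simp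
  have hp := Nat.prime_of_mem_primeFactors ((hmem p).2 (Or.inl rfl))
  have hq := Nat.prime_of_mem_primeFactors ((hmem q).2 (Or.inr rfl))
  haveI := Fact.mk hp
  haveI := Fact.mk hq
  have hcard : ∀ r : ℕ, r.Prime → r ∣ Nat.card G → r = p ∨ r = q := fun r hr hd =>
    (hmem r).1 (Nat.mem_primeFactors.2 ⟨hr, hd, Nat.card_pos.ne'⟩)
  obtain ⟨g, hg1, hg2⟩ := CfsgLib.CharApps.PrimClass.exists_class_two χ.2
    (CfsgLib.FT.isSolvable_of_odd hodd) hmeta
    (CfsgLib.CharApps.PrimClass.homogeneous_of_primitive χ.2 hprim) p q hpq hcard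
  obtain ⟨d, hdpos, hd, hdvd⟩ := CfsgLib.Chars.irr_degree_dvd_card χ.2
  have hdeg : Cfsg.charDegree (χ : G → ℂ) = d := by rw [Cfsg.charDegree, hd]; simp
  rw [hdeg] at hg1 hg2 ⊢
  have hd0 : d ≠ 0 := hdpos.ne'
  refine ⟨g, (Nat.factorization_le_iff_dvd hd0 Subgroup.index_ne_zero_of_finite).1 fun r => ?_⟩
  by_cases hr : r ∈ d.factorization.support
  · rw [Nat.support_factorization, Nat.mem_primeFactors] at hr
    rcases hcard r hr.1 (hr.2.1.trans hdvd) with rfl | rfl
    · exact hg1
    · exact hg2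
  · rw [Finsupp.notMem_support_iff.1 hr]; exact Nat.zero_le _

end Cfsg.Agent.S4993
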