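import Cfsg.Statements.S4997
import Cfsg.Agent.Lib.LocalEven.VanishingPSingular

set_option autoImplicit false
open Cfsg

namespace Cfsg.Agent.S4997

/-- Let p be an odd prime and G a finite solvable group with exactly one conjugacy class consisting of vanishing elements (elements at which some irreducible complex character is zero) of order divisible by p. Let P be a Sylow p-subgroup of G. Then the order of P is at most p times the order of the largest normal p-subgroup of G. -/
theorem result {G : Type*} [Group G] [Finite G] (hsolv : Group.IsSolvable G) (p : ℕ) [Fact p.Prime] (hp : p ≠ 2) (h1 : Set.ncard {C : ConjClasses G | (∀ g ∈ C.carrier, ∃ χ : Cfsg.IrrCharacter G, (χ : G → ℂ) g = 0) ∧ ∃ g ∈ C.carrier, p ∣ orderOf g} = 1) (P : Sylow p G) : Nat.card ↥(P : Subgroup G) ≤ p * Nat.card ↥(Cfsg.pCore p G) := by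
  classical
  haveI := hsolv
  have _ := hp
  obtain ⟨C0, hC0⟩ := Set.ncard_eq_one.1 h1
  obtain ⟨g0, rfl⟩ := ConjClasses.mk_surjective C0
  have hord : ∀ g : G, p ∣ orderOf g → CfsgLib.LocalEven.Vanishing.IsVan g → orderOf g = orderOf g0 := by
    rintro g hg ⟨χ, hχ⟩
    have hmem : ConjClasses.mk g ∈ ({ConjClasses.mk g0} : Set (ConjClasses G)) := by
      rw [← hC0]
      refine ⟨fun g' hg' => ⟨χ, ?_⟩, g, ConjClasses.mem_carrier_mk, hg⟩
      rw [ConjClasses.mem_carrier_iff_mk_eq] at hg'
      obtain ⟨c, hc⟩ := isConj_iff.1 (ConjClasses.mk_eq_mk_iff_isConj.1 hg')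
      haveI := Fintype.ofFinite G
      have hcl := CfsgLib.Chars.isClassFunction_of_isCharacter (CfsgLib.Chars.isCharacter_of_irr χ.2)
      have h2 := hcl g' c
      rw [hc] at h2
      rw [← h2, hχ]
    obtain ⟨c, hc⟩ := isConj_iff.1 (ConjClasses.mk_eq_mk_iff_isConj.1 hmem)
    rw [← hc]
    exact (SemiconjBy.conj_mk c g).orderOf_eq
  have h := CfsgLib.LocalEven.Vanishing.card_map_sylow_le hord P
  exact CfsgLib.LocalEven.Vanishing.card_le_mul P h

end Cfsg.Agent.S4997
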