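import Cfsg.Statements.S5005
import Cfsg.Agent.Lib.Blocks.OneBlock
import Cfsg.Agent.Lib.Spor.MathieuDegreeBound
import Cfsg.Agent.Lib.Spor.OctadFixCentral

set_option autoImplicit false
open Cfsg

namespace Cfsg.Agent.S5005

/-- All irreducible complex characters of the Mathieu group `M₂₂` lie in a single 2-block: any two of them lie in the same block relative to every maximal ideal of the algebraic integers containing 2. -/
theorem result (M : Ideal Cfsg.AlgInt) (hM : Cfsg.IsPModular 2 M)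
    (χ ψ : Cfsg.IrrCharacter ↥Cfsg.Spor.M22) : Cfsg.SameBlock M (χ : ↥Cfsg.Spor.M22 → ℂ) (ψ : ↥Cfsg.Spor.M22 → ℂ) := by
  classical
  haveI : M.IsPrime := hM.2.1.isPrime
  haveI : Fact (Nat.Prime 2) := ⟨Nat.prime_two⟩
  haveI := Fintype.ofFinite Spor.M22
  refine CfsgLib.Blocks.sameBlock_of_constrained hM.2.2 (fun z hz => ?_) (fun θ hdvd => ?_) χ ψ
  · have hnone : (z : Equiv.Perm GolayPt) none = none := z.2.1.2
    have hzero : (z : Equiv.Perm GolayPt) (some 0) = some 0 := z.2.2
    have hM24 : Spor.M22 ≤ M24 := fun g hg => hg.1.1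
    refine CfsgLib.Spor.constrained_of_fixed hM24 hz (fun h => h none hnone) fun g hg => ?_
    obtain ⟨hg1, hg2⟩ := CfsgLib.Spor.mem_fixM24.1 hg
    exact ⟨⟨hg1, hg2 none (by simp [hnone])⟩, hg2 (some 0) (by simp [hzero])⟩
  · refine CfsgLib.Spor.not_dvd_degree_M22 θ (dvd_trans ?_ hdvd)
    rw [CfsgLib.MathieuOut.natCard_M22, show (128 : ℕ) = 2 ^ 7 from rfl]
    exact pow_dvd_pow 2 ((Nat.prime_two.pow_dvd_iff_le_factorization (by norm_num)).1 (by norm_num))

end Cfsg.Agent.S5005
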