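import Cfsg.Statements.S5006
import Cfsg.Agent.Lib.Blocks.OneBlock
import Cfsg.Agent.Lib.Spor.MathieuDegreeBound
import Cfsg.Agent.Lib.Spor.OctadFixCentral
import Cfsg.Agent.Lib.Spor.TetradCentral

set_option autoImplicit false
open Cfsg

namespace Cfsg.Agent.S5006

/-- All irreducible complex characters of the Mathieu group `M₂₄` lie in a single 2-block: any two of them lie in the same block relative to every maximal ideal of the algebraic integers containing 2. -/
theorem result (M : Ideal Cfsg.AlgInt) (hM : Cfsg.IsPModular 2 M)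
    (χ ψ : Cfsg.IrrCharacter ↥Cfsg.M24) : Cfsg.SameBlock M (χ : ↥Cfsg.M24 → ℂ) (ψ : ↥Cfsg.M24 → ℂ) := by
  classical
  haveI : M.IsPrime := hM.2.1.isPrime
  haveI : Fact (Nat.Prime 2) := ⟨Nat.prime_two⟩
  haveI := Fintype.ofFinite M24
  refine CfsgLib.Blocks.sameBlock_of_constrained hM.2.2 (fun z hz => ?_) (fun θ hdvd => ?_) χ ψ
  · by_cases h8 : ∀ p, (z : Equiv.Perm GolayPt) p ≠ p
    · obtain ⟨a, ha, ρ, hρ, hr, c, hc, he⟩ :=
        CfsgLib.Spor.exists_census2 z.2 (by rw [Subgroup.orderOf_coe, hz])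
      simp only [List.mem_cons, List.not_mem_nil, or_false] at ha
      have hz2 : z * z = 1 := by rw [← sq, ← hz, pow_orderOf_eq_one]
      set c' : M24 := ⟨c, hc⟩
      set r' : M24 := ⟨ρ, hρ⟩
      have he' : z = c' * r' * c'⁻¹ := Subtype.ext he
      rcases ha with rfl | rfl
      · refine absurd h8 ?_
        rw [← CfsgLib.Spor.card_filter_eq_zero_iff, he, CfsgLib.Spor.card_fix_conj, hr.card_fixPts,
          CfsgLib.Spor.reps_fixPts.1]
        norm_num
      · have hr2 : (ρ : Equiv.Perm GolayPt) * ρ = 1 := by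
          have h : r' * r' = 1 := by
            have e : r' = c'⁻¹ * z * c' := by rw [he']; group
            rw [e]
            calc c'⁻¹ * z * c' * (c'⁻¹ * z * c') = c'⁻¹ * (z * z) * c' := by group
              _ = 1 := by rw [hz2]; group
          exact congrArg Subtype.val h
        obtain ⟨Q, hQ, hCQ, hQz, hN⟩ := CfsgLib.Spor.constrained_syl2Rep1 (z := r') hr hr2
        exact CfsgLib.Blocks.constrained_conj c' he' hQ hCQ hQz hN
    · exact CfsgLib.Spor.constrained_of_fixed le_rfl hz h8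
        fun g hg => (CfsgLib.Spor.mem_fixM24.1 hg).1
  · refine CfsgLib.Spor.not_dvd_degree_M24 θ (dvd_trans ?_ hdvd)
    rw [CfsgLib.Spor.natCard_M24, show (1024 : ℕ) = 2 ^ 10 from rfl]
    exact pow_dvd_pow 2 ((Nat.prime_two.pow_dvd_iff_le_factorization (by norm_num)).1 (by norm_num))

end Cfsg.Agent.S5006
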