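import Cfsg.Statements.S5011
import Cfsg.Agent.Lib.Chars.Irr

set_option autoImplicit false
open Cfsg

namespace Cfsg.Agent.S5011

/-- Let G be a finite non-abelian simple group and ρ an irreducible complex representation of G on a space of dimension greater than one (irreducible in the sense that the only subspaces invariant under every ρ(x) are 0 and the whole space). Then for every non-identity element g of G, the centralizer of g does not act irreducibly: there is a non-zero proper subspace invariant under ρ(c) for every c commuting with g. -/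
theorem result {G : Type*} [Group G] [Finite G] [IsSimpleGroup G]
    (hG : ¬ IsMulCommutative G) {V : Type*} [AddCommGroup V] [Module ℂ V] [FiniteDimensional ℂ V]
    (ρ : Representation ℂ G V)
    (hirr : ∀ W : Submodule ℂ V, (∀ x : G, ∀ v ∈ W, ρ x v ∈ W) → W = ⊥ ∨ W = ⊤)
    (hdim : 1 < Module.finrank ℂ V) (g : G) (hg : g ≠ 1) :
    ∃ W : Submodule ℂ V, W ≠ ⊥ ∧ W ≠ ⊤ ∧ ∀ c ∈ Subgroup.centralizer ({g} : Set G), ∀ v ∈ W, ρ c v ∈ W := by
  classical
  haveI : Nontrivial V := Module.nontrivial_of_finrank_pos (R := ℂ) (by omega)
  obtain ⟨μ, hμ⟩ := Module.End.exists_eigenvalue (ρ g)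
  refine ⟨Module.End.eigenspace (ρ g) μ, hμ, fun htop => ?_, fun c hc v hv => ?_⟩
  · have hscal : ρ g = μ • (1 : Module.End ℂ V) := by
      refine LinearMap.ext fun v => ?_
      have hv : v ∈ Module.End.eigenspace (ρ g) μ := by rw [htop]; exact Submodule.mem_top
      simpa using Module.End.mem_eigenspace_iff.mp hv
    rcases (MonoidHom.normal_ker (ρ : G →* Module.End ℂ V)).eq_bot_or_eq_top with hk | hk
    · have hinj : Function.Injective ρ := (MonoidHom.ker_eq_bot_iff _).mp hk
      have hcen : g ∈ Subgroup.center G := Subgroup.mem_center_iff.mpr fun z => hinj (by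
        rw [map_mul, map_mul, hscal, mul_smul_comm, smul_mul_assoc, mul_one, one_mul])
      rcases (inferInstance : (Subgroup.center G).Normal).eq_bot_or_eq_top with hz | hz
      · rw [hz, Subgroup.mem_bot] at hcen
        exact hg hcen
      · refine hG ⟨⟨fun a b => ?_⟩⟩
        exact (Subgroup.mem_center_iff.mp (hz ▸ Subgroup.mem_top a : a ∈ Subgroup.center G) b).symm
    · obtain ⟨v, hv⟩ := exists_ne (0 : V)
      have hall : ∀ z : G, ρ z = 1 := fun z =>
        MonoidHom.mem_ker.mp (hk ▸ Subgroup.mem_top z : z ∈ MonoidHom.ker (ρ : G →* Module.End ℂ V))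
      rcases hirr (Submodule.span ℂ {v}) (fun z w hw => by simpa [hall z] using hw) with h | h
      · exact hv (Submodule.span_singleton_eq_bot.mp h)
      · have h2 := finrank_span_singleton (K := ℂ) hv
        rw [h, finrank_top] at h2
        omega
  · rw [Module.End.mem_eigenspace_iff] at hv ⊢
    rw [← Module.End.mul_apply, ← map_mul, Subgroup.mem_centralizer_iff.mp hc g rfl, map_mul,
      Module.End.mul_apply, hv, map_smul]

end Cfsg.Agent.S5011
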