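import Cfsg.Statements.S5012
import Cfsg.Agent.Lib.CharP.Main
import Cfsg.Agent.Lib.Blocks.OneBlock


set_option autoImplicit false
open Cfsg

namespace Cfsg.Agent.S5012

/-- Let G be a finite simple group of Lie type in characteristic p. Then every p-block of G has defect zero or full defect: its defect is 0 or the exponent of p in the order of G (its defect groups are trivial or Sylow p-subgroups). -/
theorem result {G : Type*} [Group G] [Finite G] (p : ℕ) [Fact p.Prime] (hG : Cfsg.IsLieTypeChar p G) (M : Ideal Cfsg.AlgInt) (hM : Cfsg.IsPModular p M) (B : Set (Cfsg.IrrCharacter G)) (hB : Cfsg.IsPBlock M B) : Cfsg.blockDefect p B = 0 ∨ Cfsg.blockDefect p B = (Nat.card G).factorization p := by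
  classical
  haveI := Fintype.ofFinite G
  haveI := hM.2.1.isPrime
  have hp := hM.1
  have hcon := fun z hz => (CfsgLib.CharP.cpt_of_lieTypeChar hG).exists_constrained z hz
  obtain ⟨χ₀, rfl⟩ := hB
  by_cases hpr : ∃ ψ ∈ Cfsg.blockOf M (χ₀ : G → ℂ), ψ ∈ Cfsg.principalBlock M G
  · right
    obtain ⟨ψ, hψ, hψ'⟩ := hpr
    have h1 : CfsgLib.Chars.principal G ∈ Cfsg.blockOf M (χ₀ : G → ℂ) :=
      CfsgLib.Blocks.SameBlock.trans hψ (CfsgLib.Blocks.SameBlock.symm hψ')
    have h0 : (Cfsg.charDegree (CfsgLib.Chars.principal G : G → ℂ)).factorization p = 0 := by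
      have hd : ((Cfsg.charDegree (CfsgLib.Chars.principal G : G → ℂ) : ℕ) : ℂ) = ((1 : ℕ) : ℂ) := by
        rw [← CfsgLib.CharApps.deg_eq, CfsgLib.Chars.principal_apply, Nat.cast_one]
      rw [Nat.cast_injective hd, Nat.factorization_one]; rfl
    have hmem : (0 : ℕ) ∈ (fun χ : Cfsg.IrrCharacter G => (Cfsg.charDegree (χ : G → ℂ)).factorization p) ''
        Cfsg.blockOf M (χ₀ : G → ℂ) := ⟨_, h1, h0⟩
    rw [Cfsg.blockDefect, Nat.sInf_eq_zero.2 (Or.inl hmem), Nat.sub_zero]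
  · left
    rw [Cfsg.blockDefect, Nat.sub_eq_zero_iff_le]
    refine le_csInf ⟨_, χ₀, CfsgLib.Blocks.mem_blockOf_self χ₀, rfl⟩ ?_
    rintro _ ⟨ψ, hψ, rfl⟩
    rcases CfsgLib.Blocks.mem_principalBlock_or_full_degree hM.2.2 hcon ψ with h | h
    · exact absurd ⟨ψ, hψ, h⟩ hpr
    · refine (hp.pow_dvd_iff_le_factorization ?_).1 h
      intro h0
      exact CfsgLib.CharApps.deg_ne_zero ψ (by rw [CfsgLib.CharApps.deg_eq, h0, Nat.cast_zero])

end Cfsg.Agent.S5012
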