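import Cfsg.Statements.S5014
import Cfsg.Agent.Lib.ThreeTransp.RankOne

set_option autoImplicit false
open Cfsg

open CfsgLib.ThreeTransp

namespace Cfsg.Agent.S5014

/-- Let X = ⟨A, B⟩ be a rank one group with unipotent subgroups A and B and let Ω be the set of conjugates of A under X. Then Ω has at least three members, X acts doubly transitively on Ω by conjugation (any two ordered pairs of distinct members are carried to one another by a single element of X), and A acts regularly on Ω with A removed: for C, D in Ω different from A there is exactly one element of A conjugating C to D. -/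
theorem result {G : Type*} [Group G] {A B : Subgroup G} (h : Cfsg.IsRankOnePair A B) :
    (∃ C₁ ∈ Cfsg.unipotentSubgroups A B, ∃ C₂ ∈ Cfsg.unipotentSubgroups A B, ∃ C₃ ∈ Cfsg.unipotentSubgroups A B,
      C₁ ≠ C₂ ∧ C₁ ≠ C₃ ∧ C₂ ≠ C₃) ∧
    (∀ C₁ ∈ Cfsg.unipotentSubgroups A B, ∀ C₂ ∈ Cfsg.unipotentSubgroups A B, ∀ D₁ ∈ Cfsg.unipotentSubgroups A B,
      ∀ D₂ ∈ Cfsg.unipotentSubgroups A B, C₁ ≠ C₂ → D₁ ≠ D₂ →
        ∃ x ∈ A ⊔ B, Cfsg.conjBy C₁ x = D₁ ∧ Cfsg.conjBy C₂ x = D₂) ∧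
    (∀ C ∈ Cfsg.unipotentSubgroups A B, ∀ D ∈ Cfsg.unipotentSubgroups A B, C ≠ A → D ≠ A →
      ∃! a : G, a ∈ A ∧ Cfsg.conjBy C a = D) := by
  refine ⟨?_, ?_, ?_⟩
  · obtain ⟨a, ha, ha1⟩ := rop_exists_ne_one h
    refine ⟨A, left_mem_unipotent A B, B, rop_right_mem_unipotent h, conjBy B a,
      conjBy_mem_unipotent (rop_right_mem_unipotent h) ((le_sup_left : A ≤ A ⊔ B) ha),
      h.ne, ?_, fun he => ha1 (rop_eq_one_of_normalizes h ha he.symm)⟩
    intro he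
    apply h.ne
    have h2 : B = conjBy A a⁻¹ := by
      conv_rhs => rw [he]
      rw [conjBy_inv_conjBy]
    rw [h2, conjBy_of_mem (inv_mem ha)]
  · intro C₁ hC₁ C₂ hC₂ D₁ hD₁ D₂ hD₂ hC hD
    obtain ⟨x, hx, rfl, rfl⟩ := rop_two_transitive h hC₁ hC₂ hC
    obtain ⟨y, hy, rfl, rfl⟩ := rop_two_transitive h hD₁ hD₂ hD
    exact ⟨y * x⁻¹, mul_mem hy (inv_mem hx), by rw [conjBy_mul, conjBy_inv_conjBy],
      by rw [conjBy_mul, conjBy_inv_conjBy]⟩
  · intro C hC D hD hCA hDA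
    obtain ⟨a₁, ha₁, rfl⟩ := ((rop_mem_unipotent_iff h).1 hC).resolve_left hCA
    obtain ⟨a₂, ha₂, rfl⟩ := ((rop_mem_unipotent_iff h).1 hD).resolve_left hDA
    refine ⟨a₂ * a₁⁻¹, ⟨mul_mem ha₂ (inv_mem ha₁), by rw [conjBy_mul, conjBy_inv_conjBy]⟩, ?_⟩
    rintro a ⟨ha, he⟩
    rw [← conjBy_mul] at he
    have h1 := rop_eq_one_of_normalizes h (mul_mem (inv_mem ha₂) (mul_mem ha ha₁))
      (by rw [conjBy_mul, he, conjBy_inv_conjBy])
    rw [inv_mul_eq_one] at h1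
    rw [h1, mul_inv_cancel_right]

end Cfsg.Agent.S5014
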