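import Cfsg.Statements.S5015
import Cfsg.Agent.Lib.ThreeTransp.RankOne

set_option autoImplicit false
open Cfsg

open CfsgLib.ThreeTransp

namespace Cfsg.Agent.S5015

/-- Let a group Y act doubly transitively on a set Ω with at least three points, and suppose that the stabilizer of a point α contains a nilpotent subgroup A, normalized by that stabilizer, which acts regularly on the points other than α. Then for any y in Y moving α, the subgroups A and y A y⁻¹ are the unipotent subgroups of a rank one group, and the normal closure of A in Y (the subgroup generated by all conjugates of A) is generated by A and y A y⁻¹ alone. -/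
theorem result {Y Ω : Type*} [Group Y] [MulAction Y Ω]
    (h2 : MulAction.IsMultiplyPretransitive Y Ω 2) (hΩ : 3 ≤ ENat.card Ω) (α : Ω) (A : Subgroup Y)
    (hA : A ≤ MulAction.stabilizer Y α) (hAn : ∀ y ∈ MulAction.stabilizer Y α, Cfsg.conjBy A y = A)
    (hnil : Group.IsNilpotent A) (hreg : ∀ β γ : Ω, β ≠ α → γ ≠ α → ∃! a : Y, a ∈ A ∧ a • β = γ)
    (y : Y) (hy : y ∉ MulAction.stabilizer Y α) :
    Cfsg.IsRankOnePair A (Cfsg.conjBy A y) ∧ Subgroup.normalClosure (A : Set Y) = A ⊔ Cfsg.conjBy A y := by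
  have hdep : ∀ g g' : Y, g • α = g' • α → conjBy A g = conjBy A g' := by
    intro g g' he
    have hs : g'⁻¹ * g ∈ MulAction.stabilizer Y α := by
      rw [MulAction.mem_stabilizer_iff, mul_smul, he, inv_smul_smul]
    calc conjBy A g = conjBy A (g' * (g'⁻¹ * g)) := by rw [mul_inv_cancel_left]
      _ = conjBy A g' := by rw [conjBy_mul, hAn _ hs]
  have hyα : y • α ≠ α := hy
  have hfixA : ∀ a ∈ A, a • α = α := fun a ha => hA ha
  have hfix1 : ∀ a ∈ A, ∀ β : Ω, β ≠ α → a • β = β → a = 1 := fun a ha β hβ he =>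
    (hreg β β hβ hβ).unique ⟨ha, he⟩ ⟨one_mem _, one_smul _ _⟩
  have hBex : ∀ b ∈ conjBy A y, ∃ a ∈ A, b = y * a * y⁻¹ := fun b hb =>
    ⟨y⁻¹ * b * y, mem_conjBy.1 hb, by simp [mul_assoc]⟩
  have hfixB : ∀ b ∈ conjBy A y, b • (y • α) = y • α := by
    intro b hb
    obtain ⟨a, ha, rfl⟩ := hBex b hb
    rw [mul_smul, mul_smul, inv_smul_smul, hfixA a ha]
  have hfix1B : ∀ b ∈ conjBy A y, ∀ β : Ω, β ≠ y • α → b • β = β → b = 1 := by
    intro b hb β hβ he
    obtain ⟨a, ha, rfl⟩ := hBex b hb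
    have h1 := hfix1 a ha (y⁻¹ • β) (fun h => hβ (inv_smul_eq_iff.1 h))
      (by rw [mul_smul, mul_smul, ← eq_inv_smul_iff] at he; exact he)
    rw [h1]; simp
  have hmoveB : ∀ γ δ : Ω, γ ≠ y • α → δ ≠ y • α → ∃ b ∈ conjBy A y, b • γ = δ := by
    intro γ δ hγ hδ
    obtain ⟨a, ⟨ha, he⟩, -⟩ := hreg (y⁻¹ • γ) (y⁻¹ • δ)
      (fun h => hγ (inv_smul_eq_iff.1 h)) (fun h => hδ (inv_smul_eq_iff.1 h))
    exact ⟨y * a * y⁻¹, conj_mem_conjBy ha y, by rw [mul_smul, mul_smul, he, smul_inv_smul]⟩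
  have hne : A ≠ conjBy A y := by
    intro he
    obtain ⟨γ, hγα, hγβ⟩ : ∃ γ : Ω, γ ≠ α ∧ γ ≠ y • α := by
      by_contra hcon
      push Not at hcon
      have hsub : (Set.univ : Set Ω) ⊆ {α, y • α} := fun γ _ => by
        by_cases hγ : γ = α
        · exact Or.inl hγ
        · exact Or.inr (hcon γ hγ)
      have h2' := (Set.encard_le_encard hsub).trans ((Set.encard_insert_le _ _).trans (le_of_eq (by rw [Set.encard_singleton]; rfl) : _ ≤ (2 : ℕ∞)))
      rw [Set.encard_univ] at h2'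
      exact absurd (hΩ.trans h2') (by decide)
    obtain ⟨a, ⟨ha, hay⟩, -⟩ := hreg (y • α) γ hyα hγα
    have haB : a ∈ conjBy A y := he ▸ ha
    exact hγβ (hay ▸ hfixB a haB)
  refine ⟨⟨hne, hnil, ?_, ?_, ?_⟩, ?_⟩
  · exact Group.nilpotent_of_mulEquiv (A.equivMapOfInjective _ (MulAut.conj y).injective)
  · intro a ha ha1
    have hδα : a⁻¹ • (y • α) ≠ α := fun h => hyα (by rw [inv_smul_eq_iff, hfixA a ha] at h; exact h)
    have hδβ : a⁻¹ • (y • α) ≠ y • α := fun h =>
      ha1 (inv_eq_one.1 (hfix1 _ (inv_mem ha) _ hyα h))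
    obtain ⟨b, hb, hbe⟩ := hmoveB α (a⁻¹ • (y • α)) (Ne.symm hyα) hδβ
    refine ⟨b⁻¹, inv_mem hb, fun h => hδα ?_, ?_⟩
    · rw [inv_eq_one] at h; rw [← hbe, h, one_smul]
    · rw [inv_inv, ← conjBy_mul]
      exact hdep _ _ (by rw [hbe, mul_smul])
  · intro b hb hb1
    have hδα : b⁻¹ • α ≠ α := fun h =>
      hb1 (inv_eq_one.1 (hfix1B _ (inv_mem hb) _ (Ne.symm hyα) h))
    have hδβ : b⁻¹ • α ≠ y • α := fun h => by
      rw [inv_smul_eq_iff, hfixB b hb] at h; exact hyα h.symm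
    obtain ⟨a, ⟨ha, hae⟩, -⟩ := hreg (y • α) (b⁻¹ • α) hyα hδα
    refine ⟨a⁻¹, inv_mem ha, fun h => hδβ ?_, ?_⟩
    · rw [inv_eq_one] at h; rw [← hae, h, one_smul]
    · rw [inv_inv, ← conjBy_mul]
      exact hdep _ _ (by rw [mul_smul, hae])
  · refine le_antisymm ?_ (sup_le Subgroup.le_normalClosure ?_)
    · rw [Subgroup.normalClosure, Subgroup.closure_le]
      intro x hx
      rw [Group.mem_conjugatesOfSet_iff] at hx
      obtain ⟨a, ha, hax⟩ := hx
      obtain ⟨g, rfl⟩ := isConj_iff.1 hax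
      have hmem : g * a * g⁻¹ ∈ conjBy A g := conj_mem_conjBy ha g
      by_cases hg : g • α = α
      · rw [hAn g hg] at hmem
        exact (le_sup_left : A ≤ A ⊔ conjBy A y) hmem
      · obtain ⟨c, ⟨hc, hce⟩, -⟩ := hreg (y • α) (g • α) hyα hg
        rw [hdep g (c * y) (by rw [mul_smul, hce]), conjBy_mul, mem_conjBy] at hmem
        have hc' : c ∈ A ⊔ conjBy A y := (le_sup_left : A ≤ A ⊔ conjBy A y) hc
        have h3 := mul_mem (mul_mem hc' ((le_sup_right : conjBy A y ≤ A ⊔ conjBy A y) hmem))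
          (inv_mem hc')
        simpa [mul_assoc] using h3
    · intro x hx
      obtain ⟨a, ha, rfl⟩ := hBex x hx
      exact Subgroup.normalClosure_normal.conj_mem a (Subgroup.le_normalClosure ha) y

end Cfsg.Agent.S5015
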