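import Cfsg.Statements.S5023
import Cfsg.Agent.Lib.ThreeTransp.Quadratic

set_option autoImplicit false
open Cfsg

open CfsgLib.ThreeTransp

namespace Cfsg.Agent.S5023

/-- Let X be a rank one group with unipotent subgroups A and B that acts faithfully on an abelian group V (written additively) with A acting quadratically: a' • (a • v − v) = a • v − v for all a, a' in A and v in V. Then A is either torsion-free or an elementary abelian p-group for some prime p. -/
theorem result {X : Type*} [Group X] {A B : Subgroup X} (h : Cfsg.IsRankOneGroup X A B)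
    {V : Type*} [AddCommGroup V] [DistribMulAction X V] (hf : ∀ x : X, (∀ v : V, x • v = v) → x = 1)
    (hq : ∀ a ∈ A, ∀ a' ∈ A, ∀ v : V, a' • (a • v - v) = a • v - v) :
    (∀ a ∈ A, a ≠ 1 → ¬ IsOfFinOrder a) ∨ ∃ p : ℕ, p.Prime ∧ Cfsg.IsElementaryAbelian p A := by
  by_cases hfin : ∀ a ∈ A, a ≠ 1 → ¬ IsOfFinOrder a
  · exact Or.inl hfin
  · right
    push Not at hfin
    obtain ⟨a, ha, ha1, hfo⟩ := hfin
    obtain ⟨p, hp, hpdvd⟩ := Nat.exists_prime_and_dvd (n := orderOf a)
      (fun e => ha1 (orderOf_eq_one_iff.1 e))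
    refine ⟨p, hp, ⟨⟨fun x y => ?_⟩⟩, rog_quadratic_elementary h hq hf hp
      (pow_mem ha (orderOf a / p)) (orderOf_pow_orderOf_div hfo.orderOf_pos.ne' hpdvd)⟩
    ext
    obtain ⟨x, hx⟩ := x
    obtain ⟨y, hy⟩ := y
    have h3 := hf ((x * y)⁻¹ * (y * x)) fun v => by
      rw [mul_smul, quad_commute hq hx hy, inv_smul_smul]
    rw [inv_mul_eq_one] at h3
    simpa using h3

end Cfsg.Agent.S5023
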