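import Cfsg.Statements.S5024
import Cfsg.Agent.Lib.ThreeTransp.RankOneGroup

set_option autoImplicit false
open Cfsg

open CfsgLib.ThreeTransp

namespace Cfsg.Agent.S5024

/-- Let S be a set of abstract root subgroups of G, A and C members of S, B a rank one partner of A in S and D a rank one partner of C in S. If the rank one group ⟨A, B⟩ is contained in ⟨C, D⟩ then the two coincide, and C and D are conjugates of A inside ⟨A, B⟩. -/
theorem result {G : Type*} [Group G] {S : Set (Subgroup G)} (hS : Cfsg.IsRootSubgroupSet S)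
    {A B C D : Subgroup G} (hA : A ∈ S) (hC : C ∈ S) (hB : B ∈ Cfsg.rankOnePartners S A) (hD : D ∈ Cfsg.rankOnePartners S C)
    (hle : A ⊔ B ≤ C ⊔ D) : A ⊔ B = C ⊔ D ∧ C ∈ Cfsg.unipotentSubgroups A B ∧ D ∈ Cfsg.unipotentSubgroups A B := by
  obtain ⟨hBS, hAB⟩ := hB
  obtain ⟨hDS, hCD⟩ := hD
  have hnc : ¬ ∀ a ∈ A, ∀ b ∈ B, a * b = b * a := rop_not_commute_pair hAB
  have hAU : A ∈ unipotentSubgroups C D :=
    (rs_mem_unipotent_of_le hS hC hDS hCD hA (le_sup_left.trans hle)).resolve_right fun h =>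
      hnc fun a ha b hb => h a ha b (hle ((le_sup_right : B ≤ A ⊔ B) hb))
  have hBU : B ∈ unipotentSubgroups C D :=
    (rs_mem_unipotent_of_le hS hC hDS hCD hBS (le_sup_right.trans hle)).resolve_right fun h =>
      hnc fun a ha b hb => (h b hb a (hle ((le_sup_left : A ≤ A ⊔ B) ha))).symm
  have hsup := (rop_of_mem_mem hCD hAU hBU hAB.ne).2
  refine ⟨hsup, ?_, ?_⟩
  · obtain ⟨x, hx, hAx⟩ := hAU
    exact ⟨x⁻¹, inv_mem (hsup ▸ hx), by rw [hAx, conjBy_inv_conjBy]⟩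
  · obtain ⟨x, hx, hAx⟩ := hAU
    obtain ⟨y, hy, hDy⟩ := rop_right_mem_unipotent hCD
    exact ⟨y * x⁻¹, hsup ▸ mul_mem hy (inv_mem hx), by rw [conjBy_mul, hAx, conjBy_inv_conjBy, hDy]⟩

end Cfsg.Agent.S5024
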