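import Cfsg.Statements.S5026
import Cfsg.Agent.Lib.ThreeTransp.RootSet

set_option autoImplicit false
open Cfsg

open CfsgLib.ThreeTransp

namespace Cfsg.Agent.S5026

/-- Let S be a degenerate set of abstract root subgroups of G (a set of abstract transvection groups) and let a, b be commuting non-identity elements of members of S with a b ≠ 1. Then the members of S centralizing a b are exactly those centralizing both a and b. -/
theorem result {G : Type*} [Group G] {S : Set (Subgroup G)} (hS : Cfsg.IsRootSubgroupSet S) (hdeg : Cfsg.IsDegenerateRootSet S)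
    {a b : G} (ha : a ∈ Cfsg.rootElements S) (hb : b ∈ Cfsg.rootElements S) (hab : a * b = b * a) (hab1 : a * b ≠ 1) :
    Cfsg.centralizingMembers S (Subgroup.zpowers (a * b)) =
      Cfsg.centralizingMembers S (Subgroup.zpowers a) ∩ Cfsg.centralizingMembers S (Subgroup.zpowers b) := by
  obtain ⟨ha1, A, hA, haA⟩ := ha
  obtain ⟨hb1, B, hB, hbB⟩ := hb
  have hmem : ∀ {x : G} {E : Subgroup G}, E ≤ Subgroup.centralizer (Subgroup.zpowers x : Set G) ↔
      ∀ e ∈ E, x * e = e * x := by
    intro x E
    refine ⟨fun h e he => Subgroup.mem_centralizer_iff.1 (h he) x (Subgroup.mem_zpowers x),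
      fun h e he => ?_⟩
    rw [Subgroup.mem_centralizer_iff]
    intro y hy
    obtain ⟨n, rfl⟩ := Subgroup.mem_zpowers_iff.1 hy
    exact ((show Commute x e from h e he).zpow_left n).eq
  ext E
  simp only [centralizingMembers, Set.mem_inter_iff, Set.mem_ofPred_eq, hmem]
  constructor
  · rintro ⟨hE, hab'⟩
    suffices h : ∀ e ∈ E, a * e = e * a by
      refine ⟨⟨hE, h⟩, hE, fun e he => ?_⟩
      have h1 : Commute (a⁻¹ * (a * b)) e :=
        (show Commute a e from h e he).inv_left.mul_left (hab' e he)
      rwa [inv_mul_cancel_left] at h1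
    rcases hS.pair A hA E hE with hc | hr | hcc
    · exact fun e he => comm_of_bot hc haA he
    · exfalso
      have hEab : conjBy E (a * b) = E := conjBy_of_commute hab'
      have hbne : conjBy E b ≠ E := by
        intro hbn
        apply ha1 (rop_eq_one_of_normalizes hr haA ?_)
        rw [conjBy_mul, hbn] at hEab
        exact hEab
      rcases hS.pair B hB E hE with hc | hr' | hcc
      · exact hbne (conjBy_of_commute fun e he => comm_of_bot hc hbB he)
      · have h1 : conjBy E a = conjBy E b⁻¹ := by
          have h0 := congrArg (fun F => conjBy F b⁻¹) hEab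
          simp only [← conjBy_mul] at h0
          rwa [hab, inv_mul_cancel_left] at h0
        obtain ⟨e₁, he₁, -, hA1⟩ := hr.cond_left a⁻¹ (inv_mem haA) (inv_ne_one.2 ha1)
        rw [inv_inv] at hA1
        obtain ⟨e₂, he₂, -, hB2⟩ := hr'.cond_left b hbB hb1
        have hBeq : B = conjBy A (e₂ * e₁⁻¹) := by
          rw [conjBy_mul, hA1, h1, ← hB2, conjBy_conjBy_inv]
        have hBU : B ∈ unipotentSubgroups A E := ⟨e₂ * e₁⁻¹,
          mul_mem ((le_sup_right : E ≤ A ⊔ E) he₂) (inv_mem ((le_sup_right : E ≤ A ⊔ E) he₁)), hBeq⟩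
        have hfix : conjBy A b = A := by
          refine rs_inter hS hA hE (hS.conj_mem A hA b) hr haA ?_ ha1
          rw [mem_conjBy, mul_assoc, hab, inv_mul_cancel_left]; exact haA
        have hBA : B = A := by
          by_contra hne
          exact hb1 (rop_eq_one_of_mem_normalizes hr hBU (left_mem_unipotent A E) hne hbB hfix)
        subst hBA
        exact hab1 (rop_eq_one_of_normalizes hr (mul_mem haA hbB) hEab)
      · exact hdeg B hB E hE hcc
    · exact absurd hcc (hdeg A hA E hE)
  · rintro ⟨⟨hE, h1⟩, -, h2⟩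
    exact ⟨hE, fun e he => ((show Commute a e from h1 e he).mul_left (h2 e he)).eq⟩

end Cfsg.Agent.S5026
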