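import Cfsg.Statements.S5027
import Cfsg.Agent.Lib.ThreeTransp.RootSet

set_option autoImplicit false
open Cfsg
open scoped commutatorElement

open CfsgLib.ThreeTransp

namespace Cfsg.Agent.S5027

/-- Let S be a set of abstract root subgroups of G such that every member of S has a rank one partner in S (the graph of rank one pairs on S has no isolated vertex). Then the second centre of G equals its centre. -/
theorem result {G : Type*} [Group G] {S : Set (Subgroup G)} (hS : Cfsg.IsRootSubgroupSet S)
    (hF : ∀ A ∈ S, ¬ Cfsg.IsIsolatedIn (Cfsg.FAdj S) S A) : Subgroup.upperCentralSeries G 2 = Subgroup.center G := by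
  refine le_antisymm (fun x hx => ?_) (fun x hx => ?_)
  · rw [Subgroup.mem_upperCentralSeries_succ_iff] at hx
    rw [Subgroup.mem_center_iff]
    have hall : ∀ A ∈ S, ∀ a ∈ A, x * a = a * x := by
      intro A hA a ha
      by_cases ha1 : a = 1
      · simp [ha1]
      obtain ⟨B, hB, hr⟩ := (rs_exists_partner_iff hA).1 (hF A hA)
      have hz := hx a
      rw [Subgroup.upperCentralSeries_one, commutatorElement_def] at hz
      have hmem : (x * a * x⁻¹ * a⁻¹) * a ∈ conjBy A x := by
        simpa using conj_mem_conjBy ha x
      have h1 := (rs_mul_eq hS hA hB (hS.conj_mem A hA x) hr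
        (fun y _ => (Subgroup.mem_center_iff.1 hz y).symm) ha ha1 hmem).1
      rwa [mul_inv_eq_one, mul_inv_eq_iff_eq_mul] at h1
    intro g
    have hle : (⨆ A ∈ S, A) ≤ Subgroup.centralizer ({x} : Set G) := iSup₂_le fun A hA a ha =>
      Subgroup.mem_centralizer_singleton_iff.2 (hall A hA a ha).symm
    rw [hS.generates] at hle
    exact Subgroup.mem_centralizer_singleton_iff.1 (hle (Subgroup.mem_top g))
  · rw [Subgroup.mem_upperCentralSeries_succ_iff]
    intro y
    rw [commutatorElement_eq_one_iff_mul_comm.2 (Subgroup.mem_center_iff.1 hx y).symm]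
    exact one_mem _

end Cfsg.Agent.S5027
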