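import Cfsg.Statements.S5029
import Cfsg.Agent.Lib.ThreeTransp.RootLine

set_option autoImplicit false
open Cfsg

open CfsgLib.ThreeTransp

namespace Cfsg.Agent.S5029

/-- Let S be a set of abstract root subgroups of G, A ∈ S having a rank one partner in S, and B ∈ S with C = ⁅A, B⁆ ∈ S. Then the members of S contained in AC are the conjugates of A by elements of B together with C, they partition AC, the members of S inside AC partition AC so that A is a line partner of C, and for every non-identity a ∈ A the map b ↦ a⁻¹ b⁻¹ a b is an isomorphism from B onto C. -/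
theorem result {G : Type*} [Group G] {S : Set (Subgroup G)} (hS : Cfsg.IsRootSubgroupSet S)
    {A B : Subgroup G} (hA : ¬ Cfsg.IsIsolatedIn (Cfsg.FAdj S) S A) (hAS : A ∈ S) (hB : B ∈ S) (hC : ⁅A, B⁆ ∈ S) :
    Cfsg.membersIn S (A ⊔ ⁅A, B⁆) = (fun b : G => Cfsg.conjBy A b) '' (B : Set G) ∪ {⁅A, B⁆} ∧
    Cfsg.IsSubgroupPartition (A ⊔ ⁅A, B⁆) (Cfsg.membersIn S (A ⊔ ⁅A, B⁆)) ∧
    A ∈ Cfsg.linePartners S ⁅A, B⁆ ∧
    ∀ a ∈ A, a ≠ 1 → ∃ φ : ↥B ≃* ↥⁅A, B⁆, ∀ b : ↥B, (φ b : G) = a⁻¹ * (b : G)⁻¹ * a * b := by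
  have hpart := (rs_exists_partner_iff hAS).1 hA
  have h := rcc_of_mem hS hAS hB hC
  refine ⟨rcc_membersIn hS hAS hpart h, rcc_partition hS hAS hpart h, rcc_line hS hAS hpart h, ?_⟩
  intro a ha ha1
  let f : ↥B →* ↥⁅A, B⁆ := (rccHom h ha).codRestrict ⁅A, B⁆ fun b => rcc_mem_comm ha b.2
  have hinj : Function.Injective f := by
    refine (injective_iff_map_eq_one f).2 fun b hb => ?_
    have h0 : a * (b : G) * a⁻¹ * (b : G)⁻¹ = 1 := congrArg Subtype.val hb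
    rw [mul_inv_eq_one, mul_inv_eq_iff_eq_mul] at h0
    exact Subtype.ext (rcc_inj hS hAS hpart h ha ha1 b.2 h0)
  have hsurj : Function.Surjective f := fun c => by
    obtain ⟨b, hb, he⟩ := rcc_surj h ha ha1 c.2
    exact ⟨⟨b, hb⟩, Subtype.ext he⟩
  refine ⟨MulEquiv.ofBijective f ⟨hinj, hsurj⟩, fun b => ?_⟩
  show a * (b : G) * a⁻¹ * (b : G)⁻¹ = _
  have hc : a * (b : G) * a⁻¹ * (b : G)⁻¹ ∈ ⁅A, B⁆ := rcc_mem_comm ha b.2
  have h1 : Commute (a * (b : G) * a⁻¹ * (b : G)⁻¹) (a⁻¹ * (b : G)⁻¹) :=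
    rcc_central h hc (mul_mem (inv_mem ((le_sup_left : A ≤ A ⊔ B) ha))
      (inv_mem ((le_sup_right : B ≤ A ⊔ B) b.2)))
  calc a * (b : G) * a⁻¹ * (b : G)⁻¹
      = (a⁻¹ * (b : G)⁻¹) * (a * (b : G) * a⁻¹ * (b : G)⁻¹) * (a⁻¹ * (b : G)⁻¹)⁻¹ := by
        rw [← h1.eq, mul_inv_cancel_right]
    _ = a⁻¹ * (b : G)⁻¹ * a * (b : G) := by simp [mul_assoc]

end Cfsg.Agent.S5029
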