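import Cfsg.Statements.S5037
import Cfsg.Agent.Lib.ThreeTransp.DegenerateSpecial

set_option autoImplicit false
open Cfsg

open CfsgLib.ThreeTransp

namespace Cfsg.Agent.S5037

/-- Let S be a class of abstract root subgroups of G that is either degenerate or non-degenerate (so either the commutator case never occurs, or all three cases occur), and A ≠ C members of S. If every member of S commuting with A commutes with C, then A and C have the same commuting members of S; and if every rank one partner of A is a rank one partner of C, then A and C commute and have the same rank one partners. -/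
theorem result {G : Type*} [Group G] {S : Set (Subgroup G)} (hS : Cfsg.IsRootSubgroupClass S)
    (hdn : Cfsg.IsDegenerateRootSet S ∨ Cfsg.IsNondegenerateRootSet S)
    {A C : Subgroup G} (hA : A ∈ S) (hC : C ∈ S) (hAC : A ≠ C) :
    (Cfsg.centralizingMembers S A ⊆ Cfsg.centralizingMembers S C →
      Cfsg.centralizingMembers S A = Cfsg.centralizingMembers S C) ∧
    (Cfsg.rankOnePartners S A ⊆ Cfsg.rankOnePartners S C →
      ⁅A, C⁆ = ⊥ ∧ Cfsg.rankOnePartners S A = Cfsg.rankOnePartners S C) := by
  by_cases hex : ∃ X ∈ S, ∃ Y ∈ S, Cfsg.IsRankOnePair X Y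
  · have hpart := class_has_partners hS.1 hS.2 hex
    exact ⟨cset_eq_of_subset hS.1 hpart hA hC hAC, pset_eq_of_subset hS.1 hpart hA hC hAC⟩
  · rcases hdn with hd | hd
    swap
    · exact absurd hd.2.1 hex
    push Not at hex
    have hall : ∀ X ∈ S, ∀ Y ∈ S, ⁅X, Y⁆ = ⊥ := fun X hX Y hY => by
      rcases hS.1.pair X hX Y hY with h | h | h
      · exact h
      · exact absurd h (hex X hX Y hY)
      · exact absurd h (hd X hX Y hY)
    refine ⟨fun h => Set.Subset.antisymm h fun D hD =>
      (mem_centralizingMembers_iff hD.1).2 (hall A hA D hD.1), fun _ => ⟨hall A hA C hC, ?_⟩⟩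
    ext D
    exact ⟨fun h => absurd h.2 (hex A hA D h.1), fun h => absurd h.2 (hex C hC D h.1)⟩

end Cfsg.Agent.S5037
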