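import Cfsg.Statements.S5039
import Cfsg.Agent.Lib.ThreeTransp.DegenerateSpecial

set_option autoImplicit false
universe u
open Cfsg

open CfsgLib.ThreeTransp

namespace Cfsg.Agent.S5039

/-- Let S be a class of abstract root subgroups of G containing two different commuting members. Suppose that, in case S is degenerate and every element of every member of S has order at most 3, the following holds: for every A ∈ S and every rank one partner B of A there are subgroups A₀ ≤ A and B₀ ≤ B generating an image of SL₂(k) with central kernel, k a field with at least four elements, A₀ and B₀ being the images of the unitriangular subgroups. Then every rank one pair A, B in S is special. -/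
theorem result {G : Type u} [Group G] {S : Set (Subgroup G)} (hS : Cfsg.IsRootSubgroupClass S)
    (hcomm : ∃ A ∈ S, ∃ C ∈ S, A ≠ C ∧ ⁅A, C⁆ = ⊥)
    (hH : Cfsg.IsDegenerateRootSet S → (∀ A ∈ S, ∀ a ∈ A, 0 < orderOf a ∧ orderOf a ≤ 3) →
      ∀ A ∈ S, ∀ B ∈ Cfsg.rankOnePartners S A, ∃ A₀ B₀ : Subgroup G, A₀ ≤ A ∧ B₀ ≤ B ∧
        ∃ (k : Type u) (_ : Field k), 3 < ENat.card k ∧ Cfsg.IsPSL2PairOver k A₀ B₀)
    {A B : Subgroup G} (hA : A ∈ S) (hB : B ∈ Cfsg.rankOnePartners S A) : Cfsg.IsSpecialRankOnePair A B := by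
  refine class_pair_special hS.1 hS.2 hcomm (fun hd ho X hX e _ _ _ hZ => ?_) hA hB.1 hB.2
  obtain ⟨Z, hZ, hXZ⟩ := hZ
  obtain ⟨A₀, B₀, hA₀, -, k, _, hk, φ, -, hker, hup, -⟩ := hH hd ho X hX Z ⟨hZ, hXZ⟩
  have hinj := sl2_upper_image_injective hker
  have hmem : ∀ t : k, φ (sl2U k t) ∈ X := fun t => hA₀ (hup ▸ Subgroup.mem_map_of_mem φ
    ((mem_upperUnipotentSL2 k).2 ⟨t, rfl⟩))
  by_contra hno
  push Not at hno
  refine absurd hk (not_lt.2 ?_)
  calc ENat.card k = ((fun t : k => φ (sl2U k t)) '' Set.univ).encard := by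
        rw [hinj.injOn.encard_image, Set.encard_univ]
    _ ≤ ({1, e, e ^ 2} : Set G).encard := by
        refine Set.encard_le_encard ?_
        rintro _ ⟨t, -, rfl⟩
        simp only [Set.mem_insert_iff, Set.mem_singleton_iff]
        by_cases h1 : φ (sl2U k t) = 1
        · exact Or.inl h1
        · by_cases h2 : φ (sl2U k t) = e
          · exact Or.inr (Or.inl h2)
          · exact Or.inr (Or.inr (hno _ (hmem t) h1 h2))
    _ ≤ 3 := by
        refine (Set.encard_insert_le _ _).trans ?_
        refine (add_le_add_left (Set.encard_insert_le _ _) 1).trans ?_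
        rw [Set.encard_singleton]; norm_num

end Cfsg.Agent.S5039
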