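import Cfsg.Statements.S5049
import Cfsg.Agent.Lib.ThreeTransp.Blocks

set_option autoImplicit false
open Cfsg

open CfsgLib.ThreeTransp

open scoped commutatorElement

namespace Cfsg.Agent.S5049

/-- Let G be a finite group generated by a set D of odd transpositions (root involutions with no product of order 4), Q = O₂(G), and for a ∈ D let Q_a be the commutator subgroup of Q with a. Then every member of D commuting with a centralizes Q_a; and for b ∈ D with ab of odd order greater than 1, the centralizer of ab in Q is the intersection of the centralizers of a and b in Q. -/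
theorem result {G : Type*} [Group G] [Finite G] {D : Set G} (hD : Cfsg.IsOddTranspositionSet D) {a : G} (ha : a ∈ D) :
    (∀ e ∈ Cfsg.commutingMembers D a, ∀ q ∈ ⁅Cfsg.pCore 2 G, Subgroup.zpowers a⁆, e * q = q * e) ∧
    (∀ b ∈ Cfsg.oddPartners D a,
      Cfsg.pCore 2 G ⊓ Subgroup.centralizer {a * b} = Cfsg.pCore 2 G ⊓ Subgroup.centralizer {a} ⊓ Subgroup.centralizer {b}) := by
  obtain ⟨hR, h4⟩ := hD
  set Q := Cfsg.pCore 2 G with hQ
  have hQn : Q.Normal := by rw [hQ]; infer_instance
  have hinv : ∀ x ∈ D, x⁻¹ = x := fun x hx => CfsgLib.Involutions.invol_inv (hR.orderOf_eq x hx)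
  have hsq : ∀ x ∈ D, x * x = 1 := fun x hx => CfsgLib.Involutions.invol_mul_self (hR.orderOf_eq x hx)
  -- a conjugate of `a` under `Q` commutes with whatever commutes with `a`
  have key : ∀ a ∈ D, ∀ e ∈ D, e * a = a * e → ∀ q ∈ Q, e * (q * a * q⁻¹) = q * a * q⁻¹ * e := by
    intro a ha e he hea q hq
    have ha' := hR.conj_mem a ha q
    set a' := q * a * q⁻¹ with ha'd
    rcases hR.pair a' ha' e he with hc | ho | ⟨h, -⟩
    · exact hc.symm
    · have hmem : (a' * e) ^ 2 ∈ Q := by
        rw [← QuotientGroup.eq_one_iff, QuotientGroup.mk_pow, QuotientGroup.mk_mul]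
        have h1 : (a' : G ⧸ Q) = (a : G ⧸ Q) := by
          rw [ha'd, QuotientGroup.mk_mul, QuotientGroup.mk_mul, QuotientGroup.mk_inv,
            (QuotientGroup.eq_one_iff q).2 hq, one_mul, inv_one, mul_one]
        rw [h1, ← QuotientGroup.mk_mul, ← QuotientGroup.mk_pow,
          (show Commute a e from hea.symm).mul_pow, pow_two, pow_two, hsq a ha, hsq e he, one_mul]
        rfl
      obtain ⟨n, hn⟩ := CfsgLib.Base.isPGroup_pCore 2 G ⟨_, hmem⟩
      have hn' : ((a' * e) ^ 2) ^ 2 ^ n = 1 := by simpa using congrArg Subtype.val hn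
      rw [← pow_mul, ← pow_succ'] at hn'
      have h1 : orderOf (a' * e) = 1 := Nat.eq_one_of_dvd_coprimes
        (Nat.Coprime.pow_left (n + 1) (Nat.coprime_two_left.2 ho)) (orderOf_dvd_of_pow_eq_one hn') dvd_rfl
      rw [orderOf_eq_one_iff, mul_eq_one_iff_eq_inv, hinv e he] at h1
      rw [h1]
    · exact absurd h (h4 a' ha' e he)
  refine ⟨fun e he => ?_, fun b hb => ?_⟩
  · obtain ⟨heD, hea⟩ := he
    have hle : ⁅Q, Subgroup.zpowers a⁆ ≤ Subgroup.centralizer ({e} : Set G) := by
      rw [Subgroup.commutator_le]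
      intro q hq x hx
      obtain ⟨k, rfl⟩ := Subgroup.mem_zpowers_iff.1 hx
      rw [Subgroup.mem_centralizer_singleton_iff, commutatorElement_def]
      rcases Int.even_or_odd k with ⟨i, rfl⟩ | ⟨i, rfl⟩
      · rw [← two_mul, zpow_mul, zpow_two, hsq a ha, one_zpow]; simp
      · rw [zpow_add, zpow_mul, zpow_two, hsq a ha, one_zpow, one_mul, zpow_one, hinv a ha]
        have c1 : Commute (q * a * q⁻¹) e := (key a ha e heD hea q hq).symm
        have c2 : Commute a e := hea.symm
        exact (c1.mul_left c2).eq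
    exact fun q hq => (Subgroup.mem_centralizer_singleton_iff.1 (hle hq)).symm
  · obtain ⟨hbD, hbne, hodd⟩ := hb
    refine le_antisymm ?_ ?_
    · intro q hq
      obtain ⟨hqQ, hqc⟩ := Subgroup.mem_inf.1 hq
      rw [Subgroup.mem_centralizer_singleton_iff] at hqc
      have ha' := hR.conj_mem a ha q
      have hb' := hR.conj_mem b hbD q
      obtain ⟨a', ha'd⟩ : ∃ x, x = q * a * q⁻¹ := ⟨_, rfl⟩
      obtain ⟨b', hb'd⟩ : ∃ x, x = q * b * q⁻¹ := ⟨_, rfl⟩
      rw [← ha'd] at ha'
      rw [← hb'd] at hb'
      have c1 : Commute a a' := ha'd ▸ key a ha a ha rfl q hqQ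
      have c2 : Commute b b' := hb'd ▸ key b hbD b hbD rfl q hqQ
      have e0 : a' * b' = a * b := by
        calc a' * b' = q * (a * b) * q⁻¹ := by simp [ha'd, hb'd, mul_assoc]
          _ = a * b := by rw [hqc, mul_inv_cancel_right]
      have ht1 : a * a' = b * b' := by
        calc a * a' = a * (a' * b') * b'⁻¹ := by simp [mul_assoc]
          _ = b * b' := by
            rw [e0, hinv b' hb', ← mul_assoc a a b, hsq a ha, one_mul]
      set t := a * a' with ht
      have ct : Commute t (a * b) := by
        have h1 : Commute t a := (Commute.refl a).mul_left c1.symm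
        have h2 : Commute t b := by rw [ht1]; exact (Commute.refl b).mul_left c2.symm
        exact h1.mul_right h2
      have ht2 : t ^ 2 = 1 := by rw [ht, c1.mul_pow, pow_two, pow_two, hsq a ha, hsq a' ha', one_mul]
      have hab : a' * b = t * (a * b) := by
        rw [ht, c1.eq, mul_assoc, ← mul_assoc a a b, hsq a ha, one_mul]
      have htriv : t = 1 := by
        rcases hR.pair a' ha' b hbD with hc | ho | ⟨h, -⟩
        · exfalso
          have h2 : (a' * b) ^ 2 = 1 := by
            rw [(show Commute a' b from hc).mul_pow, pow_two, pow_two, hsq a' ha', hsq b hbD, one_mul]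
          rw [hab, ct.mul_pow, ht2, one_mul] at h2
          have h1 : orderOf (a * b) = 1 := Nat.eq_one_of_dvd_coprimes
            (Nat.coprime_two_left.2 hodd) (orderOf_dvd_of_pow_eq_one h2) dvd_rfl
          rw [orderOf_eq_one_iff, mul_eq_one_iff_eq_inv, hinv b hbD] at h1
          exact hbne h1.symm
        · have h1 : (t * (a * b)) ^ orderOf (a' * b) = 1 := by rw [← hab]; exact pow_orderOf_eq_one _
          rw [ct.mul_pow] at h1
          obtain ⟨i, hi⟩ := ho
          have h3 : t ^ orderOf (a' * b) = t := by rw [hi, pow_succ, pow_mul, ht2, one_pow, one_mul]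
          rw [h3] at h1
          -- `t` is a power of the element `a b` of odd order
          have h4 : orderOf t ∣ orderOf (a * b) := by
            have : t = ((a * b) ^ orderOf (a' * b))⁻¹ := mul_eq_one_iff_eq_inv.1 h1
            rw [this, orderOf_inv]; exact orderOf_pow_dvd _
          exact orderOf_eq_one_iff.1 (Nat.eq_one_of_dvd_coprimes (Nat.coprime_two_left.2 hodd)
            (orderOf_dvd_of_pow_eq_one ht2) h4)
        · exact absurd h (h4 a' ha' b hbD)
      have hae : a' = a := by
        calc a' = a * (a * a') := by rw [← mul_assoc, hsq a ha, one_mul]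
          _ = a := by rw [← ht, htriv, mul_one]
      have hbe : b' = b := by
        calc b' = b * (b * b') := by rw [← mul_assoc, hsq b hbD, one_mul]
          _ = b := by rw [← ht1, htriv, mul_one]
      refine Subgroup.mem_inf.2 ⟨Subgroup.mem_inf.2 ⟨hqQ, ?_⟩, ?_⟩ <;>
        rw [Subgroup.mem_centralizer_singleton_iff]
      · calc q * a = a' * q := by simp [ha'd]
          _ = a * q := by rw [hae]
      · calc q * b = b' * q := by simp [hb'd]
          _ = b * q := by rw [hbe]
    · intro q hq
      obtain ⟨h1, h3⟩ := Subgroup.mem_inf.1 hq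
      obtain ⟨h1, h2⟩ := Subgroup.mem_inf.1 h1
      rw [Subgroup.mem_centralizer_singleton_iff] at h2 h3
      refine Subgroup.mem_inf.2 ⟨h1, Subgroup.mem_centralizer_singleton_iff.2 ?_⟩
      rw [← mul_assoc, h2, mul_assoc, h3, mul_assoc]

end Cfsg.Agent.S5049
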