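import Cfsg.Statements.S5057
import Mathlib

set_option autoImplicit false
open Cfsg

namespace Cfsg.Agent.S5057

open scoped commutatorElement

theorem order_bound : ∀ g : Equiv.Perm (Fin 6), Equiv.Perm.sign g = 1 →
    g ^ 2 = 1 ∨ g ^ 3 = 1 ∨ g ^ 4 = 1 ∨ g ^ 5 = 1 := by
  decide +kernel

/-- The standard involution. -/
def s0 : Equiv.Perm (Fin 6) := Equiv.swap 0 1 * Equiv.swap 2 3

theorem conj_std : ∀ g : Equiv.Perm (Fin 6), g * g = 1 → g ≠ 1 → Equiv.Perm.sign g = 1 →
    ∃ r : Equiv.Perm (Fin 6), Equiv.Perm.sign r = 1 ∧ r * s0 = g * r := by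
  decide +kernel

/-- The involutions of the alternating group of degree 6 form a class of root involutions (a single conjugacy class of involutions generating the group, any two of which commute, have product of odd order, or have product of order 4 whose square is again an involution of the class), and the product of any two of them has order at most 5. -/
theorem result :
    Cfsg.IsRootInvolutionClass {g : ↥(alternatingGroup (Fin 6)) | orderOf g = 2} ∧
    ∀ d ∈ {g : ↥(alternatingGroup (Fin 6)) | orderOf g = 2}, ∀ e ∈ {g : ↥(alternatingGroup (Fin 6)) | orderOf g = 2},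
      orderOf (d * e) ≤ 5 := by
  have hord : ∀ g : ↥(alternatingGroup (Fin 6)),
      orderOf g ∣ 2 ∨ orderOf g ∣ 3 ∨ orderOf g ∣ 4 ∨ orderOf g ∣ 5 := by
    intro g
    simp only [orderOf_dvd_iff_pow_eq_one, Subtype.ext_iff, Subgroup.coe_pow, Subgroup.coe_one]
    exact order_bound g g.2
  have hle : ∀ g : ↥(alternatingGroup (Fin 6)), orderOf g ≤ 5 := by
    intro g
    rcases hord g with h | h | h | h <;> have := Nat.le_of_dvd (by norm_num) h <;> omega
  refine ⟨⟨⟨fun d hd => hd, ?_, fun d hd g => ?_, ?_⟩, ?_, ?_⟩, fun d _ e _ => hle _⟩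
  · -- generation
    have : IsSimpleGroup (alternatingGroup (Fin 6)) :=
      alternatingGroup.isSimpleGroup (by simp)
    have hn : (Subgroup.closure {g : ↥(alternatingGroup (Fin 6)) | orderOf g = 2}).Normal := by
      have hset : Group.conjugatesOfSet {g : ↥(alternatingGroup (Fin 6)) | orderOf g = 2} =
          {g : ↥(alternatingGroup (Fin 6)) | orderOf g = 2} := by
        refine Set.Subset.antisymm ?_ Group.subset_conjugatesOfSet
        intro x hx
        obtain ⟨a, ha, h⟩ := Group.mem_conjugatesOfSet_iff.1 hx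
        obtain ⟨c, rfl⟩ := isConj_iff.1 h
        show orderOf (c * a * c⁻¹) = 2
        rw [show c * a * c⁻¹ = MulAut.conj c a from rfl, MulEquiv.orderOf_eq]; exact ha
      rw [← hset]
      exact Subgroup.normalClosure_normal
    rcases hn.eq_bot_or_eq_top with h | h
    · exfalso
      have hs : (⟨s0, Equiv.Perm.mem_alternatingGroup.2 (by decide +kernel)⟩ : ↥(alternatingGroup (Fin 6))) ∈
          Subgroup.closure {g : ↥(alternatingGroup (Fin 6)) | orderOf g = 2} := by
        refine Subgroup.subset_closure (orderOf_eq_prime ?_ ?_)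
        · exact Subtype.ext (show s0 ^ 2 = 1 by decide +kernel)
        · exact fun e => absurd (congrArg Subtype.val e) (show s0 ≠ 1 by decide +kernel)
      rw [h, Subgroup.mem_bot] at hs
      exact absurd (congrArg Subtype.val hs) (show s0 ≠ 1 by decide +kernel)
    · exact h
  · show orderOf (g * d * g⁻¹) = 2
    rw [show g * d * g⁻¹ = MulAut.conj g d from rfl, MulEquiv.orderOf_eq]; exact hd
  · intro a ha b hb
    rcases hord (a * b) with h | h | h | h
    · left
      rw [orderOf_dvd_iff_pow_eq_one] at h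
      have h1 : (a * b)⁻¹ = a * b := inv_eq_of_mul_eq_one_right (by rw [← pow_two, h])
      have inv_self : ∀ x : ↥(alternatingGroup (Fin 6)), orderOf x = 2 → x⁻¹ = x := fun x hx =>
        inv_eq_of_mul_eq_one_right (by rw [← pow_two, ← hx, pow_orderOf_eq_one])
      rw [mul_inv_rev, inv_self a ha, inv_self b hb] at h1
      exact h1.symm
    · exact Or.inr (Or.inl (Odd.of_dvd_nat (by decide) h))
    · obtain ⟨i, hi, he⟩ := (Nat.dvd_prime_pow Nat.prime_two (m := 2)).1 h
      interval_cases i
      · exact Or.inr (Or.inl (by rw [he]; decide))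
      · left
        have hx : (a * b) ^ 2 = 1 := orderOf_dvd_iff_pow_eq_one.1 (by rw [he]; decide)
        have h1 : (a * b)⁻¹ = a * b := inv_eq_of_mul_eq_one_right (by rw [← pow_two, hx])
        have inv_self : ∀ x : ↥(alternatingGroup (Fin 6)), orderOf x = 2 → x⁻¹ = x := fun x hx =>
          inv_eq_of_mul_eq_one_right (by rw [← pow_two, ← hx, pow_orderOf_eq_one])
        rw [mul_inv_rev, inv_self a ha, inv_self b hb] at h1
        exact h1.symm
      · refine Or.inr (Or.inr ⟨he, ?_⟩)
        show orderOf ((a * b) ^ 2) = 2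
        rw [orderOf_pow, he]; rfl
    · exact Or.inr (Or.inl (Odd.of_dvd_nat (by decide) h))
  · exact ⟨⟨s0, Equiv.Perm.mem_alternatingGroup.2 (by decide +kernel)⟩, orderOf_eq_prime
      (Subtype.ext (show s0 ^ 2 = 1 by decide +kernel))
      (fun e => absurd (congrArg Subtype.val e) (show s0 ≠ 1 by decide +kernel))⟩
  · intro a ha b hb
    have std : ∀ x : ↥(alternatingGroup (Fin 6)), orderOf x = 2 →
        ∃ r : ↥(alternatingGroup (Fin 6)), (r : Equiv.Perm (Fin 6)) * s0 = x * r := by
      intro x hx
      have h1 : x * x = 1 := by rw [← pow_two, ← hx, pow_orderOf_eq_one]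
      have h2 : x ≠ 1 := fun e => by rw [e, orderOf_one] at hx; exact absurd hx (by decide)
      obtain ⟨r, hr, he⟩ := conj_std x (congrArg Subtype.val h1)
        (fun e => h2 (Subtype.ext e)) x.2
      exact ⟨⟨r, hr⟩, he⟩
    obtain ⟨r, hr⟩ := std a ha
    obtain ⟨t, ht⟩ := std b hb
    refine ⟨t * r⁻¹, Subtype.ext ?_⟩
    have ha' : s0 = (r : Equiv.Perm (Fin 6))⁻¹ * a * r := by rw [mul_assoc, ← hr, inv_mul_cancel_left]
    have hb' : (b : Equiv.Perm (Fin 6)) = t * s0 * (t : Equiv.Perm (Fin 6))⁻¹ := by
      rw [ht, mul_inv_cancel_right]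
    simp [hb', ha', mul_assoc]

end Cfsg.Agent.S5057
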