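import Cfsg.Statements.S5059

set_option autoImplicit false
universe u
open Cfsg

namespace Cfsg.Agent.S5059

/-- Let k be a field of characteristic not 2 with k not of order 3, M a finite-dimensional k-vector space and G ≤ GL(M) such that (G, M) is a quadratic pair (M irreducible for G, and G generated by its quadratically acting elements σ whose scalar family 1 + c(σ − 1), c ∈ k, lies in G). Write 𝒬_d for the quadratic elements of G of minimal commutator rank, E(σ) for the subgroup generated by the members of 𝒬_d with the same fixed space and commutator space as σ, and Σ for the set of these subgroups. Then for σ ∈ 𝒬_d the subgroup E(σ) consists exactly of those members together with the identity, it is abelian, and if k has prime characteristic p every element of E(σ) has order dividing p. -/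
theorem result {k : Type u} [Field k] (hk2 : ringChar k ≠ 2) (hk3 : Nat.card k ≠ 3)
    {M : Type u} [AddCommGroup M] [Module k M] [FiniteDimensional k M]
    {G : Subgroup (LinearMap.GeneralLinearGroup k M)} (hG : Cfsg.IsQuadraticPair G)
    {σ : LinearMap.GeneralLinearGroup k M} (hσ : σ ∈ Cfsg.minimalQuadraticElements G) :
    (Cfsg.sameActionSubgroup G σ : Set (LinearMap.GeneralLinearGroup k M)) = Cfsg.sameActionClass G σ ∪ {1} ∧
    IsMulCommutative ↥(Cfsg.sameActionSubgroup G σ) ∧
    (∀ p : ℕ, p.Prime → ringChar k = p → ∀ x ∈ Cfsg.sameActionSubgroup G σ, x ^ p = 1) := by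
  classical
  obtain ⟨⟨-, hσq, -⟩, hσmin⟩ := hσ
  set C := LinearMap.ker ((σ : M →ₗ[k] M) - 1) with hC
  set R := LinearMap.range ((σ : M →ₗ[k] M) - 1) with hR
  have hRC : R ≤ C := by
    rintro _ ⟨m, rfl⟩
    exact LinearMap.congr_fun hσq.1 m
  have hran : ∀ τ ∈ Cfsg.sameActionClass G σ, ∀ m, ((τ : M →ₗ[k] M) - 1) m ∈ R := by
    intro τ hτ m
    rw [hR, ← hτ.2.2]
    exact LinearMap.mem_range_self _ m
  -- products of two displacements vanish
  have hzero : ∀ τ ∈ Cfsg.sameActionClass G σ, ∀ ρ ∈ Cfsg.sameActionClass G σ,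
      ((τ : Module.End k M) - 1) * ((ρ : Module.End k M) - 1) = 0 := by
    intro τ hτ ρ hρ
    refine LinearMap.ext fun m => ?_
    have h1 : ((ρ : M →ₗ[k] M) - 1) m ∈ C := hRC (hran ρ hρ m)
    have h2 : ((ρ : M →ₗ[k] M) - 1) m ∈ LinearMap.ker ((τ : M →ₗ[k] M) - 1) := by rw [hτ.2.1]; exact h1
    exact h2
  have hmul : ∀ τ ∈ Cfsg.sameActionClass G σ, ∀ ρ ∈ Cfsg.sameActionClass G σ,
      ((τ * ρ : LinearMap.GeneralLinearGroup k M) : Module.End k M) - 1 =
        ((τ : Module.End k M) - 1) + ((ρ : Module.End k M) - 1) := by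
    intro τ hτ ρ hρ
    have h := hzero τ hτ ρ hρ
    rw [sub_mul, mul_sub, one_mul, mul_one, sub_eq_zero] at h
    rw [Units.val_mul, eq_add_of_sub_eq h]
    abel
  have hcomm : ∀ τ ∈ Cfsg.sameActionClass G σ, ∀ ρ ∈ Cfsg.sameActionClass G σ, τ * ρ = ρ * τ := by
    intro τ hτ ρ hρ
    apply Units.ext
    have h1 := hmul τ hτ ρ hρ
    have h2 := hmul ρ hρ τ hτ
    rw [add_comm, ← h1, sub_left_inj] at h2
    exact h2.symm
  -- scalar multiples of a displacement in the class are units of `G`
  have hscal : ∀ τ ∈ Cfsg.sameActionClass G σ, ∀ c : k, ∃ u ∈ G,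
      (u : Module.End k M) = 1 + c • ((τ : Module.End k M) - 1) := by
    intro τ hτ c
    have h := hzero τ hτ τ hτ
    refine ⟨⟨1 + c • ((τ : Module.End k M) - 1), 1 - c • ((τ : Module.End k M) - 1), ?_, ?_⟩,
      hτ.1.1.2.2 ⟨c, rfl⟩, rfl⟩
    · rw [add_mul, mul_sub, mul_sub, smul_mul_smul_comm, h, smul_zero, one_mul, one_mul, mul_one]; abel
    · rw [sub_mul, mul_add, mul_add, smul_mul_smul_comm, h, smul_zero, one_mul, one_mul, mul_one]; abel
  have hinv : ∀ τ ∈ Cfsg.sameActionClass G σ,
      ((τ⁻¹ : LinearMap.GeneralLinearGroup k M) : Module.End k M) = 1 - ((τ : Module.End k M) - 1) := by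
    intro τ hτ
    have h := hzero τ hτ τ hτ
    refine Units.inv_eq_of_mul_eq_one_right ?_
    calc (τ : Module.End k M) * (1 - ((τ : Module.End k M) - 1))
        = 1 - ((τ : Module.End k M) - 1) * ((τ : Module.End k M) - 1) := by noncomm_ring
      _ = 1 := by rw [h, sub_zero]
  -- membership from the displacement
  have hmem : ∀ x ∈ G, (x : Module.End k M) - 1 ≠ 0 →
      C ≤ LinearMap.ker ((x : M →ₗ[k] M) - 1) → LinearMap.range ((x : M →ₗ[k] M) - 1) ≤ R →
      (∀ c : k, ∃ u ∈ G, (u : Module.End k M) = 1 + c • ((x : Module.End k M) - 1)) →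
      x ∈ Cfsg.sameActionClass G σ := by
    intro x hx hne hker hran hsc
    have hq : Cfsg.IsQuadraticOn x := ⟨LinearMap.ext fun m =>
      (hker (hRC (hran (LinearMap.mem_range_self _ m))) : _), hne⟩
    have hxQ : x ∈ Cfsg.quadraticElements G := by
      refine ⟨hx, hq, ?_⟩
      rintro u ⟨c, hu⟩
      obtain ⟨u', hu', he⟩ := hsc c
      exact (Units.ext (hu.trans he.symm) : u = u') ▸ hu'
    have hrk : Cfsg.commutatorRank x = Cfsg.commutatorRank σ :=
      le_antisymm (Submodule.finrank_mono hran) (hσmin x hxQ)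
    refine ⟨⟨hxQ, fun t ht => hrk ▸ hσmin t ht⟩, (Submodule.eq_of_le_of_finrank_eq hker ?_).symm,
      Submodule.eq_of_le_of_finrank_eq hran hrk⟩
    have e1 := LinearMap.finrank_range_add_finrank_ker ((x : M →ₗ[k] M) - 1)
    have e2 := LinearMap.finrank_range_add_finrank_ker ((σ : M →ₗ[k] M) - 1)
    unfold Cfsg.commutatorRank at hrk
    show Module.finrank k C = _
    rw [hC]
    omega
  let H : Subgroup (LinearMap.GeneralLinearGroup k M) :=
    { carrier := Cfsg.sameActionClass G σ ∪ {1}
      one_mem' := Or.inr rfl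
      mul_mem' := by
        rintro τ ρ (hτ | rfl) (hρ | rfl)
        · by_cases h0 : ((τ * ρ : LinearMap.GeneralLinearGroup k M) : Module.End k M) - 1 = 0
          · exact Or.inr (Units.ext (sub_eq_zero.1 h0))
          left
          refine hmem _ (mul_mem hτ.1.1.1 hρ.1.1.1) h0 ?_ ?_ fun c => ?_
          · rw [hmul τ hτ ρ hρ]
            intro m hm
            have a1 : ((τ : M →ₗ[k] M) - 1) m = 0 := by
              rw [← LinearMap.mem_ker, hτ.2.1]; exact hm
            have a2 : ((ρ : M →ₗ[k] M) - 1) m = 0 := by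
              rw [← LinearMap.mem_ker, hρ.2.1]; exact hm
            show ((τ : M →ₗ[k] M) - 1) m + ((ρ : M →ₗ[k] M) - 1) m = 0
            rw [a1, a2, add_zero]
          · rw [hmul τ hτ ρ hρ]
            rintro _ ⟨m, rfl⟩
            exact add_mem (hran τ hτ m) (hran ρ hρ m)
          · obtain ⟨u, hu, hue⟩ := hscal τ hτ c
            obtain ⟨v, hv, hve⟩ := hscal ρ hρ c
            refine ⟨u * v, mul_mem hu hv, ?_⟩
            rw [Units.val_mul, hue, hve, hmul τ hτ ρ hρ, smul_add, add_mul, mul_add, mul_add,
              smul_mul_smul_comm, hzero τ hτ ρ hρ, smul_zero, one_mul, one_mul, mul_one]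
            abel
        · rw [mul_one]; exact Or.inl hτ
        · rw [one_mul]; exact Or.inl hρ
        · rw [mul_one]; exact Or.inr rfl
      inv_mem' := by
        rintro τ (hτ | rfl)
        · left
          have e : ((τ⁻¹ : LinearMap.GeneralLinearGroup k M) : Module.End k M) - 1 =
              -((τ : Module.End k M) - 1) := by rw [hinv τ hτ]; abel
          refine hmem _ (inv_mem hτ.1.1.1) ?_ ?_ ?_ fun c => ?_
          · rw [e, neg_ne_zero]; exact hτ.1.1.2.1.2
          · rw [e]
            intro m hm
            have a1 : ((τ : M →ₗ[k] M) - 1) m = 0 := by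
              rw [← LinearMap.mem_ker, hτ.2.1]; exact hm
            show -(((τ : M →ₗ[k] M) - 1) m) = 0
            rw [a1, neg_zero]
          · rw [e]
            rintro _ ⟨m, rfl⟩
            exact neg_mem (hran τ hτ m)
          · obtain ⟨u, hu, hue⟩ := hscal τ hτ (-c)
            exact ⟨u, hu, by rw [hue, e, smul_neg, neg_smul]⟩
        · rw [inv_one]; exact Or.inr rfl }
  have hle : Cfsg.sameActionSubgroup G σ ≤ H := (Subgroup.closure_le _).2 fun x hx => Or.inl hx
  have hset : (Cfsg.sameActionSubgroup G σ : Set (LinearMap.GeneralLinearGroup k M)) =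
      Cfsg.sameActionClass G σ ∪ {1} :=
    Set.Subset.antisymm hle (Set.union_subset Subgroup.subset_closure
      (Set.singleton_subset_iff.2 (one_mem (Cfsg.sameActionSubgroup G σ))))
  refine ⟨hset, ⟨⟨fun x y => Subtype.ext ?_⟩⟩, fun p hp hchar x hx => ?_⟩
  · rcases hle x.2 with hτ | hτ
    · rcases hle y.2 with hρ | hρ
      · exact hcomm _ hτ _ hρ
      · rw [Set.mem_singleton_iff] at hρ; simp [hρ]
    · rw [Set.mem_singleton_iff] at hτ; simp [hτ]
  · rcases hle hx with hτ | hτ
    · apply Units.ext
      have h := hzero x hτ x hτ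
      have key : ∀ n : ℕ, ((x ^ n : LinearMap.GeneralLinearGroup k M) : Module.End k M) =
          1 + (n : k) • ((x : Module.End k M) - 1) := by
        intro n
        induction n with
        | zero => simp
        | succ n ih =>
          rw [pow_succ, Units.val_mul, ih]
          calc (1 + (n : k) • ((x : Module.End k M) - 1)) * (x : Module.End k M)
              = (x : Module.End k M) + (n : k) • (((x : Module.End k M) - 1) * (x : Module.End k M)) := by
                rw [add_mul, one_mul, smul_mul_assoc]
            _ = 1 + ((n + 1 : ℕ) : k) • ((x : Module.End k M) - 1) := by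
                have h2 : ((x : Module.End k M) - 1) * (x : Module.End k M) = (x : Module.End k M) - 1 := by
                  calc ((x : Module.End k M) - 1) * (x : Module.End k M)
                      = ((x : Module.End k M) - 1) * ((x : Module.End k M) - 1) + ((x : Module.End k M) - 1) := by
                        noncomm_ring
                    _ = _ := by rw [h, zero_add]
                rw [h2, Nat.cast_succ, add_smul, one_smul]; abel
      rw [key p, show (p : k) = 0 by rw [← hchar]; exact ringChar.Nat.cast_ringChar, zero_smul, add_zero]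
      rfl
    · rw [Set.mem_singleton_iff] at hτ; rw [hτ, one_pow]

end Cfsg.Agent.S5059
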