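import Cfsg.Statements.S5060
import Cfsg.Agent.Lib.ThreeTransp.DicksonPairs

set_option autoImplicit false
open Cfsg

open CfsgLib.ThreeTransp

namespace Cfsg.Agent.S5060

/-- Let k ⊆ K be fields with the characteristic of k not 2 and k not of order 3, and let α ∈ K be a non-zero element algebraic over k. Then the subgroup of SL₂(K) generated by the upper unitriangular matrices with entry c and the lower unitriangular matrices with entry cα, c ranging over k, is exactly the group of matrices of SL₂(K) with all entries in k(α). -/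
theorem result {k K : Type*} [Field k] [Field K] [Algebra k K] (hk2 : ringChar k ≠ 2) (hk3 : Nat.card k ≠ 3)
    (α : K) (hα : IsAlgebraic k α) (hα0 : α ≠ 0) :
    (Subgroup.closure ({g : Matrix.SpecialLinearGroup (Fin 2) K | ∃ c : k, (g : Matrix (Fin 2) (Fin 2) K) = !![1, algebraMap k K c; 0, 1]} ∪
        {g : Matrix.SpecialLinearGroup (Fin 2) K | ∃ c : k, (g : Matrix (Fin 2) (Fin 2) K) = !![1, 0; algebraMap k K c * α, 1]}) :
      Set (Matrix.SpecialLinearGroup (Fin 2) K)) =
    {g : Matrix.SpecialLinearGroup (Fin 2) K | ∀ i j : Fin 2, (g : Matrix (Fin 2) (Fin 2) K) i j ∈ IntermediateField.adjoin k ({α} : Set K)} := by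
  have hint : IsIntegral k α := hα.isIntegral
  set L := IntermediateField.adjoin k ({α} : Set K) with hL
  haveI : FiniteDimensional k L := IntermediateField.adjoin.finiteDimensional hint
  let β : L := IntermediateField.AdjoinSimple.gen k α
  have hgen : Algebra.adjoin k ({β} : Set L) = ⊤ := by
    have := (IntermediateField.adjoin.powerBasis hint).adjoin_gen_eq_top
    rwa [IntermediateField.adjoin.powerBasis_gen] at this
  have h2K : (2 : K) ≠ 0 := by
    have : (2 : k) ≠ 0 := Ring.two_ne_zero hk2
    intro h; exact this ((algebraMap k K).injective (by rw [map_ofNat, h, map_zero]))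
  have h2 : (2 : L) ≠ 0 := fun h => h2K (by simpa [map_ofNat] using congrArg (algebraMap L K) h)
  have hβ : β ≠ 0 := fun h => hα0 (by simpa [β] using congrArg (fun x : L => (x : K)) h)
  have htop := pairGroup_eq_top h2 hk3 hβ hgen
  let φ := Matrix.SpecialLinearGroup.map (n := Fin 2) (algebraMap L K)
  apply Set.eq_of_subset_of_subset
  · intro g hg
    have hle : Subgroup.closure ({g : Matrix.SpecialLinearGroup (Fin 2) K | ∃ c : k, (g : Matrix (Fin 2) (Fin 2) K) = !![1, algebraMap k K c; 0, 1]} ∪
        {g : Matrix.SpecialLinearGroup (Fin 2) K | ∃ c : k, (g : Matrix (Fin 2) (Fin 2) K) = !![1, 0; algebraMap k K c * α, 1]}) ≤ φ.range := by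
      rw [Subgroup.closure_le]
      rintro g (⟨c, hc⟩ | ⟨c, hc⟩)
      · refine ⟨sl2U L (algebraMap k L c), Subtype.ext ?_⟩
        rw [hc]; ext i j; fin_cases i <;> fin_cases j <;>
          simp [φ, sl2U_val, Matrix.map_apply]
      · refine ⟨sl2L L (algebraMap k L c * β), Subtype.ext ?_⟩
        rw [hc]; ext i j; fin_cases i <;> fin_cases j <;>
          simp [φ, β, sl2L_val, Matrix.map_apply]
    obtain ⟨x, rfl⟩ := hle hg
    intro i j
    exact ((x : Matrix (Fin 2) (Fin 2) L) i j).2
  · intro g hg
    simp only [Set.mem_setOf_eq] at hg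
    let m : Matrix (Fin 2) (Fin 2) L := fun i j => ⟨_, hg i j⟩
    have hdet : m.det = 1 := by
      apply Subtype.ext
      have := g.2
      rw [Matrix.det_fin_two] at this ⊢
      simpa [m] using this
    have hmem : (⟨m, hdet⟩ : Matrix.SpecialLinearGroup (Fin 2) L) ∈ pairGroup k β := by
      rw [htop]; trivial
    have hle : (pairGroup k β).map φ ≤ Subgroup.closure ({g : Matrix.SpecialLinearGroup (Fin 2) K | ∃ c : k, (g : Matrix (Fin 2) (Fin 2) K) = !![1, algebraMap k K c; 0, 1]} ∪
        {g : Matrix.SpecialLinearGroup (Fin 2) K | ∃ c : k, (g : Matrix (Fin 2) (Fin 2) K) = !![1, 0; algebraMap k K c * α, 1]}) := by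
      rw [pairGroup, MonoidHom.map_closure, Subgroup.closure_le]
      rintro _ ⟨x, (⟨c, rfl⟩ | ⟨c, rfl⟩), rfl⟩
      · refine Subgroup.subset_closure (Or.inl ⟨c, ?_⟩)
        ext i j; fin_cases i <;> fin_cases j <;> simp [φ, sl2U_val, Matrix.map_apply]
      · refine Subgroup.subset_closure (Or.inr ⟨c, ?_⟩)
        ext i j; fin_cases i <;> fin_cases j <;> simp [φ, β, sl2L_val, Matrix.map_apply]
    have := hle ⟨_, hmem, rfl⟩
    have e : φ ⟨m, hdet⟩ = g := Subtype.ext (by ext i j; rfl)
    rw [e] at this
    exact this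

end Cfsg.Agent.S5060
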