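import Cfsg.Statements.S5066
import Cfsg.Agent.Lib.ThreeTransp.QuadClassTwo

set_option autoImplicit false
universe u
open Cfsg

open CfsgLib.ThreeTransp

namespace Cfsg.Agent.S5066

/-- Let k be a field of characteristic not 2 with k not of order 3, M a finite-dimensional k-vector space and G ≤ GL(M) such that (G, M) is a quadratic pair (M irreducible for G, and G generated by its quadratically acting elements σ whose scalar family 1 + c(σ − 1), c ∈ k, lies in G). Write 𝒬_d for the quadratic elements of G of minimal commutator rank, E(σ) for the subgroup generated by the members of 𝒬_d with the same fixed space and commutator space as σ, and Σ for the set of these subgroups. Let E, F ∈ Σ generate a subgroup that is nilpotent of class exactly two. Then D = ⁅E, F⁆ belongs to Σ, equals the subgroup generated by the commutators of e with F, and also of E with f, for every non-identity e ∈ E, f ∈ F, and ⟨E, F⟩ lies in U(D), the set of elements g of G normalizing D with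 (g − 1)M inside the fixed space of D, (g − 1) mapping that fixed space into the commutator space of D, and g acting trivially on the commutator space of D. -/
theorem result {k : Type u} [Field k] (hk2 : ringChar k ≠ 2) (hk3 : Nat.card k ≠ 3)
    {M : Type u} [AddCommGroup M] [Module k M] [FiniteDimensional k M]
    {G : Subgroup (LinearMap.GeneralLinearGroup k M)} (hG : Cfsg.IsQuadraticPair G)
    {E F : Subgroup (LinearMap.GeneralLinearGroup k M)} (hE : E ∈ Cfsg.quadraticRootSubgroups G) (hF : F ∈ Cfsg.quadraticRootSubgroups G)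
    (h2 : ⁅E ⊔ F, E ⊔ F⁆ ≠ ⊥ ∧ ⁅⁅E ⊔ F, E ⊔ F⁆, E ⊔ F⁆ = ⊥) :
    ⁅E, F⁆ ∈ Cfsg.quadraticRootSubgroups G ∧
    (∀ e ∈ E, e ≠ 1 → Subgroup.closure ((fun f : LinearMap.GeneralLinearGroup k M => e * f * e⁻¹ * f⁻¹) '' (F : Set (LinearMap.GeneralLinearGroup k M))) = ⁅E, F⁆) ∧
    (∀ f ∈ F, f ≠ 1 → Subgroup.closure ((fun e : LinearMap.GeneralLinearGroup k M => e * f * e⁻¹ * f⁻¹) '' (E : Set (LinearMap.GeneralLinearGroup k M))) = ⁅E, F⁆) ∧
    ((E ⊔ F : Subgroup (LinearMap.GeneralLinearGroup k M)) : Set (LinearMap.GeneralLinearGroup k M)) ⊆ Cfsg.quadraticUnipotentCore G ⁅E, F⁆ := by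
  have h22 : (2 : k) ≠ 0 := Ring.two_ne_zero hk2
  obtain ⟨a, ha, rfl⟩ := mem_quadraticRootSubgroups.1 hE
  obtain ⟨b, hb, rfl⟩ := mem_quadraticRootSubgroups.1 hF
  have hl : ¬ Linked a b := by
    intro hl
    have hc : ∀ c ∈ ⁅eGrp G a ha ⊔ eGrp G b hb, eGrp G a ha ⊔ eGrp G b hb⁆,
        ∀ g ∈ eGrp G a ha ⊔ eGrp G b hb, c * g = g * c := fun c hc g hg => comm_of_bot h2.2 hc hg
    obtain ⟨β, hβ, hβ1, he⟩ := linked_exists_partner h22 hk3 ha hb hl (qel_self_mem_eGrp ha)
      (qel_ne_one ha.sq ha.2.1)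
    have hA : qel a ∈ eGrp G a ha ⊔ eGrp G b hb :=
      le_sup_left (α := Subgroup (LinearMap.GeneralLinearGroup k M)) (qel_self_mem_eGrp ha)
    have hB : β ∈ eGrp G a ha ⊔ eGrp G b hb :=
      le_sup_right (α := Subgroup (LinearMap.GeneralLinearGroup k M)) hβ
    set α := qel a
    obtain ⟨u, hu⟩ : ∃ u, u = β⁻¹ * α * β⁻¹⁻¹ * α⁻¹ := ⟨_, rfl⟩
    obtain ⟨v, hv⟩ : ∃ v, v = α⁻¹ * β⁻¹ * α⁻¹⁻¹ * β⁻¹⁻¹ := ⟨_, rfl⟩
    have c1 : u ∈ ⁅eGrp G a ha ⊔ eGrp G b hb, eGrp G a ha ⊔ eGrp G b hb⁆ :=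
      hu ▸ Subgroup.commutator_mem_commutator (inv_mem hB) hA
    have c2 : v ∈ ⁅eGrp G a ha ⊔ eGrp G b hb, eGrp G a ha ⊔ eGrp G b hb⁆ :=
      hv ▸ Subgroup.commutator_mem_commutator (inv_mem hA) (inv_mem hB)
    have e1 : β⁻¹ * α * β = u * α := by rw [hu]; group
    have e2 : α⁻¹ * β⁻¹ * α = v * β⁻¹ := by rw [hv]; group
    rw [e1, e2] at he
    have hx : α = u⁻¹ * v * β⁻¹ := by rw [mul_assoc, ← he, inv_mul_cancel_left]
    have hcomm : α * β = β * α := by
      have k1 := hc _ c1 β hB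
      have k2 := hc _ c2 β hB
      have k1' : β * u⁻¹ = u⁻¹ * β := by
        rw [eq_inv_mul_iff_mul_eq, ← mul_assoc, k1, mul_inv_cancel_right]
      calc α * β = u⁻¹ * v * β⁻¹ * β := by rw [← hx]
        _ = u⁻¹ * v := by rw [inv_mul_cancel_right]
        _ = β * (u⁻¹ * v * β⁻¹) := by
          rw [← mul_assoc, ← mul_assoc, k1', mul_assoc u⁻¹ β v, ← k2, ← mul_assoc,
            mul_inv_cancel_right]
        _ = β * α := by rw [← hx]
    obtain ⟨y, hy, rfl⟩ := hβ
    have hy0 : y ≠ 0 := fun h => hβ1 (by rw [h, qel_zero])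
    obtain ⟨hym, hyr, hyk⟩ := eSpace_data hb hy hy0
    have hay : a * y = y * a := by
      have h1 := congrArg (fun g : LinearMap.GeneralLinearGroup k M => (g : Module.End k M)) hcomm
      simp only [α, Units.val_mul, qel_val ha.sq, qel_val hy.1.1, add_mul, mul_add, one_mul, mul_one] at h1
      rw [← sub_eq_zero] at h1 ⊢
      rw [← h1]; abel
    exact not_linked_of_commute h22 ha hy.1.1 hay ((linked_congr rfl rfl hyr hyk).2 hl)
  by_cases hne : a * b = b * a
  · exfalso
    apply h2.1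
    rw [eq_bot_iff, Subgroup.commutator_le]
    intro g hg g' hg'
    rw [Subgroup.mem_bot, commutatorElement_eq_one_iff_mul_comm]
    have hall : ∀ e ∈ eGrp G a ha, ∀ f ∈ eGrp G b hb, e * f = f * e := by
      rintro _ ⟨x, hx, rfl⟩ _ ⟨y, hy, rfl⟩
      have hxy : x * y = y * x := commute_all_of_commute h22 hk3 ha hb hl hne hx hy
      refine Units.ext ?_
      rw [Units.val_mul, Units.val_mul, qel_val hx.1.1, qel_val hy.1.1, add_mul, mul_add, mul_add,
        add_mul, mul_add, mul_add, hxy]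
      simp only [one_mul, mul_one]; abel
    refine commute_sup (fun e he => ?_) (fun f hf => ?_) g' hg'
    · exact (commute_sup (g := e) (fun e' he' => eGrp_comm ha he he') (fun f hf => hall e he f hf) g hg).symm
    · exact (commute_sup (g := f) (fun e he => (hall e he f hf).symm) (fun f' hf' => eGrp_comm hb hf hf') g hg).symm
  · obtain ⟨s1, s2, s3, -, -, -, s6⟩ := class_two_structure h22 hk3 hG.1 ha hb hl hne
    exact ⟨s1, s2, s3, s6⟩

end Cfsg.Agent.S5066
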