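import Cfsg.Statements.S5067

set_option autoImplicit false
set_option linter.style.haveILetI false
open Cfsg

open scoped commutatorElement

namespace Cfsg.Agent.S5067

/-- Let P be a non-abelian nilpotent p-group (every element of p-power order; P possibly infinite) generated by two abelian subgroups E and F. Then the normal closure of E in P, and likewise that of F, has nilpotency class strictly smaller than that of P. -/
theorem result {P : Type*} [Group P] {p : ℕ} [Fact p.Prime] (hP : IsPGroup p P) [Group.IsNilpotent P]
    (hna : ¬ IsMulCommutative P) {E F : Subgroup P} (hE : IsMulCommutative ↥E) (hF : IsMulCommutative ↥F) (hgen : E ⊔ F = ⊤) :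
    Group.nilpotencyClass ↥(Subgroup.normalClosure (E : Set P)) < Group.nilpotencyClass P ∧
    Group.nilpotencyClass ↥(Subgroup.normalClosure (F : Set P)) < Group.nilpotencyClass P := by
  have key : ∀ {P : Type u_1} [Group P] [Group.IsNilpotent P], ¬ IsMulCommutative P →
      ∀ {E F : Subgroup P}, IsMulCommutative ↥E → E ⊔ F = ⊤ →
      Group.nilpotencyClass ↥(Subgroup.normalClosure (E : Set P)) < Group.nilpotencyClass P := by
    intro P _ _ hna E F hE hgen
    set L : ℕ → Subgroup P := fun k => (⊤ : Subgroup P).lowerCentralSeries k with hL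
    have hcpos : 1 < Group.nilpotencyClass P := by
      by_contra h
      apply hna
      have h1 : L 1 = ⊥ :=
        Subgroup.lowerCentralSeries_eq_bot_iff_nilpotencyClass_le.2 (by omega)
      refine ⟨⟨fun x y => ?_⟩⟩
      have h2 : ⁅x, y⁆ ∈ L 1 := Subgroup.commutator_mem_commutator (Subgroup.mem_top x) (Subgroup.mem_top y)
      rw [h1, Subgroup.mem_bot] at h2
      exact commutatorElement_eq_one_iff_mul_comm.1 h2
    haveI hn1 : (L 1).Normal := by
      simp only [hL]; infer_instance
    haveI hn2 : (L 2).Normal := by
      simp only [hL]; infer_instance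
    have hN : (E ⊔ L 1).Normal := by
      refine ⟨fun n hn g => ?_⟩
      have hc : g * n * g⁻¹ * n⁻¹ ∈ E ⊔ L 1 :=
        (le_sup_right : L 1 ≤ E ⊔ L 1) (Subgroup.commutator_mem_commutator (Subgroup.mem_top g) (Subgroup.mem_top n))
      simpa [mul_assoc] using mul_mem hc hn
    have hM : Subgroup.normalClosure (E : Set P) ≤ E ⊔ L 1 :=
      Subgroup.normalClosure_le_normal (fun x hx => (le_sup_left : E ≤ E ⊔ L 1) hx)
    have hbase : ⁅E ⊔ L 1, E ⊔ L 1⁆ ≤ L 2 := by
      rw [Subgroup.commutator_le]
      intro x hx y hy
      obtain ⟨e, he, c, hc, rfl⟩ := Subgroup.mem_sup_of_normal_right.1 hx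
      obtain ⟨e', he', c', hc', rfl⟩ := Subgroup.mem_sup_of_normal_right.1 hy
      have hcen : ∀ {c : P}, c ∈ L 1 → ∀ t : P ⧸ L 2, Commute (c : P ⧸ L 2) t := by
        intro c hc t
        obtain ⟨t, rfl⟩ := QuotientGroup.mk_surjective t
        have h2 : ⁅c, t⁆ ∈ L 2 := Subgroup.commutator_mem_commutator hc (Subgroup.mem_top t)
        rw [← QuotientGroup.eq_one_iff] at h2
        exact commutatorElement_eq_one_iff_mul_comm.1
          ((map_commutatorElement (QuotientGroup.mk' (L 2)) c t).symm.trans h2)
      have hee : Commute (e : P ⧸ L 2) (e' : P ⧸ L 2) := by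
        have := congrArg (fun z : E => ((z : P) : P ⧸ L 2)) (hE.is_comm.comm ⟨e, he⟩ ⟨e', he'⟩)
        exact this
      have hall : Commute ((e * c : P) : P ⧸ L 2) ((e' * c' : P) : P ⧸ L 2) := by
        rw [QuotientGroup.mk_mul, QuotientGroup.mk_mul]
        exact ((hee.mul_right ((hcen hc' _).symm)).mul_left (hcen hc _))
      rw [← QuotientGroup.eq_one_iff]
      exact (map_commutatorElement (QuotientGroup.mk' (L 2)) _ _).trans
        (commutatorElement_eq_one_iff_mul_comm.2 hall)
    set M := Subgroup.normalClosure (E : Set P) with hMd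
    have hser : ∀ k, M.lowerCentralSeries (k + 1) ≤ L (k + 2) := by
      intro k
      induction k with
      | zero => exact (Subgroup.commutator_mono hM hM).trans hbase
      | succ k ih => exact Subgroup.commutator_mono ih le_top
    have hbot : M.lowerCentralSeries (Group.nilpotencyClass P - 1) = ⊥ := by
      have h := hser (Group.nilpotencyClass P - 2)
      rw [show Group.nilpotencyClass P - 2 + 1 = Group.nilpotencyClass P - 1 by omega,
        show Group.nilpotencyClass P - 2 + 2 = Group.nilpotencyClass P by omega, hL] at h
      simpa using h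
    have hmap : ∀ k, ((⊤ : Subgroup M).lowerCentralSeries k).map M.subtype = M.lowerCentralSeries k := by
      intro k
      induction k with
      | zero => simp [← MonoidHom.range_eq_map]
      | succ k ih => rw [Subgroup.lowerCentralSeries_succ, Subgroup.map_commutator, ih,
          ← MonoidHom.range_eq_map, Subgroup.range_subtype, Subgroup.lowerCentralSeries_succ]
    have h2 := hmap (Group.nilpotencyClass P - 1)
    rw [hbot, Subgroup.map_eq_bot_iff_of_injective _ M.subtype_injective] at h2
    have := Subgroup.lowerCentralSeries_eq_bot_iff_nilpotencyClass_le.1 h2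
    omega
  exact ⟨key hna hE hgen, key hna hF (sup_comm F E ▸ hgen)⟩

end Cfsg.Agent.S5067
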