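import Cfsg.Statements.S5069
import Cfsg.Agent.Lib.ThreeTransp.QuadPartition

set_option autoImplicit false
universe u
open Cfsg

open CfsgLib.ThreeTransp

namespace Cfsg.Agent.S5069

/-- Let k be a field of characteristic not 2 with k not of order 3, M a finite-dimensional k-vector space and G ≤ GL(M) such that (G, M) is a quadratic pair (M irreducible for G, and G generated by its quadratically acting elements σ whose scalar family 1 + c(σ − 1), c ∈ k, lies in G). Write 𝒬_d for the quadratic elements of G of minimal commutator rank, E(σ) for the subgroup generated by the members of 𝒬_d with the same fixed space and commutator space as σ, and Σ for the set of these subgroups. Then Σ is a disjoint union of finitely many parts Σ₁, …, Σ_r such that the subgroups G_i generated by the Σ_i commute pairwise, each G_i is quasisimple, and inside G_i the members of Σ_i form a class of abstract root subgroups in which every rank one pair A, B contains subgroups A₀ ≤ A, B₀ ≤ B generating an image of SL₂(k₁)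 with central kernel on unitriangular subgroups for some field k₁ with at least four elements. -/
theorem result {k : Type u} [Field k] (hk2 : ringChar k ≠ 2) (hk3 : Nat.card k ≠ 3)
    {M : Type u} [AddCommGroup M] [Module k M] [FiniteDimensional k M]
    {G : Subgroup (LinearMap.GeneralLinearGroup k M)} (hG : Cfsg.IsQuadraticPair G) :
    ∃ (r : ℕ) (part : Fin r → Set (Subgroup (LinearMap.GeneralLinearGroup k M))),
      (⋃ i, part i) = Cfsg.quadraticRootSubgroups G ∧ (∀ i j, i ≠ j → Disjoint (part i) (part j)) ∧ (∀ i, (part i).Nonempty) ∧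
      (∀ i j, i ≠ j → ⁅(⨆ A ∈ part i, A), (⨆ A ∈ part j, A)⁆ = ⊥) ∧
      (∀ i, Cfsg.IsQuasisimple ↥(⨆ A ∈ part i, A) ∧
        Cfsg.IsRootSubgroupClass ((fun A : Subgroup (LinearMap.GeneralLinearGroup k M) => A.subgroupOf (⨆ B ∈ part i, B)) '' (part i)) ∧
        ∀ A ∈ part i, ∀ B ∈ Cfsg.rankOnePartners (part i) A, ∃ A₀ B₀ : Subgroup (LinearMap.GeneralLinearGroup k M), A₀ ≤ A ∧ B₀ ≤ B ∧
          ∃ (k₁ : Type u) (_ : Field k₁), 3 < ENat.card k₁ ∧ Cfsg.IsPSL2PairOver k₁ A₀ B₀) := by
  classical
  have h2 : (2 : k) ≠ 0 := Ring.two_ne_zero hk2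
  have hirr := hG.1
  set P : Set (Set (Subgroup (LinearMap.GeneralLinearGroup k M))) :=
    {C | ∃ A ∈ quadraticRootSubgroups G, C = qComp G A} with hP
  have hex : ∀ i : P, ∃ a : Module.End k M, ∃ h : QMin G a, (i : Set _) = qComp G (eGrp G a h) := by
    rintro ⟨C, A, hA, rfl⟩
    obtain ⟨a, ha, rfl⟩ := mem_quadraticRootSubgroups.1 hA
    exact ⟨a, ha, rfl⟩
  choose v hv hvc using hex
  have hmem : ∀ i : P, eGrp G (v i) (hv i) ∈ quadraticRootSubgroups G := fun i =>
    mem_quadraticRootSubgroups.2 ⟨_, _, rfl⟩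
  have hli : LinearIndependent k v := by
    rw [linearIndependent_iff_notMem_span]
    intro i hi
    obtain ⟨g, hg, hl⟩ := exists_linked h2 hk3 hirr (hv i)
    set u := eConj g (v i) with hu
    have hum : QMin G u := (hv i).conj hg
    have hadj : FAdj (quadraticRootSubgroups G) (eGrp G (v i) (hv i)) (eGrp G u hum) :=
      ⟨hmem i, mem_quadraticRootSubgroups.2 ⟨_, _, rfl⟩, (linked_special h2 hk3 (hv i) hum hl.symm).1⟩
    have hle : Submodule.span k (v '' (Set.univ \ {i})) ≤
        LinearMap.ker (LinearMap.mulRight k u - LinearMap.mulLeft k u) := by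
      rw [Submodule.span_le]
      rintro _ ⟨j, ⟨-, hji⟩, rfl⟩
      rw [SetLike.mem_coe, LinearMap.mem_ker, LinearMap.sub_apply, LinearMap.mulRight_apply,
        LinearMap.mulLeft_apply, sub_eq_zero]
      refine ((eGrp_bot_iff h2 hk3 (hv j) hum).1 (qComp_comm h2 hk3 hirr (qComp_self (hmem j)) hadj.2.1 ?_)).2
      intro hm
      apply hji
      apply Subtype.ext
      rw [hvc, hvc, ← qComp_eq hm, qComp_eq (qComp_adj hadj)]
    have h := hle hi
    rw [LinearMap.mem_ker, LinearMap.sub_apply, LinearMap.mulRight_apply, LinearMap.mulLeft_apply,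
      sub_eq_zero] at h
    exact not_linked_of_commute h2 (hv i) hum.sq h hl.symm
  haveI : Finite P := hli.finite
  haveI := Fintype.ofFinite P
  refine ⟨Fintype.card P, fun i => qComp G (eGrp G (v ((Fintype.equivFin P).symm i)) (hv _)), ?_, fun i j hij => ?_,
    fun i => ?_, fun i j hij => ?_, fun i => ?_⟩
  · ext B
    simp only [Set.mem_iUnion]
    constructor
    · rintro ⟨i, hB⟩
      exact hB.1
    · intro hB
      refine ⟨Fintype.equivFin P ⟨qComp G B, B, hB, rfl⟩, ?_⟩
      rw [← hvc, Equiv.symm_apply_apply]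
      exact qComp_self hB
  · rw [Set.disjoint_left]
    intro B hBi hBj
    apply hij
    apply (Fintype.equivFin P).symm.injective
    apply Subtype.ext
    rw [hvc, hvc, ← qComp_eq hBi, qComp_eq hBj]
  · exact ⟨_, qComp_self (hmem _)⟩
  · refine qT_comm h2 hk3 hirr fun h => hij ?_
    apply (Fintype.equivFin P).symm.injective
    apply Subtype.ext
    rw [hvc, hvc, h]
  · set A := eGrp G (v ((Fintype.equivFin P).symm i)) (hv _)
    have hA : A ∈ quadraticRootSubgroups G := hmem _
    have hpair : ∀ B ∈ qComp G A, ∀ C ∈ qComp G A,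
        ⁅B, C⁆ = ⊥ ∨ IsRankOnePair B C ∨ RootCommutatorCase (qComp G A) B C := by
      intro B hB C hC
      rcases qrs_pair h2 hk3 hirr hB.1 hC.1 with h | h | h
      · exact Or.inl h
      · exact Or.inr (Or.inl h)
      · refine Or.inr (Or.inr ⟨?_, h.2.1, h.2.2.1, h.2.2.2⟩)
        by_contra hZ
        obtain ⟨U, hU⟩ := qrs_exists_adj h2 hk3 hirr h.1
        refine rop_commutator_ne_bot hU.2.2 (eq_bot_iff.2 ?_)
        have hZT : ⁅B, C⁆ ≤ qT G A := Subgroup.commutator_le.2 fun p hp q hq =>
          mul_mem (mul_mem (mul_mem (le_qT hB hp) (le_qT hC hq)) (inv_mem (le_qT hB hp))) (inv_mem (le_qT hC hq))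
        have hne : qComp G A ≠ qComp G ⁅B, C⁆ := fun e => hZ (e ▸ qComp_self h.1)
        exact (Subgroup.commutator_mono hZT (le_qT (qComp_adj hU))).trans
          (le_of_eq (qT_comm h2 hk3 hirr hne))
    refine ⟨qT_quasisimple h2 hk3 hirr hA, ⟨rootSet_restrict _ (fun B hB => qrs_commutative hB.1)
      (fun B hB => qrs_ne_bot hB.1) (fun B hB g hg => qComp_conj h2 hk3 hirr hB hg) hpair, ?_, ?_⟩,
      fun B hB C hC => qrs_psl2 h2 hk3 hirr hB.1 hC.1.1 hC.2⟩
    · exact ⟨_, A, qComp_self hA, rfl⟩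
    · rintro _ ⟨B, hB, rfl⟩ _ ⟨C, hC, rfl⟩
      have key : ∀ {D}, Relation.ReflTransGen (FAdj (quadraticRootSubgroups G)) B D →
          D ∈ qComp G A ∧ ∃ g ∈ qT G A, D = conjBy B g := by
        intro D hD
        induction hD with
        | refl => exact ⟨hB, 1, one_mem _, (conjBy_one B).symm⟩
        | @tail Q R hQ hQR ih =>
          obtain ⟨hQm, g, hg, rfl⟩ := ih
          have hRm : R ∈ qComp G A := ⟨hQR.2.1, hQm.2.tail hQR⟩
          obtain ⟨x, hx, hxe⟩ := rop_right_mem_unipotent hQR.2.2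
          exact ⟨hRm, x * g, mul_mem (sup_le (le_qT hQm) (le_qT hRm) hx) hg, by rw [conjBy_mul, ← hxe]⟩
      obtain ⟨-, g, hg, rfl⟩ := key ((freach_symm hB.2).trans hC.2)
      exact ⟨⟨g, hg⟩, (conjBy_subgroupOf (le_qT hB) ⟨g, hg⟩).symm⟩

end Cfsg.Agent.S5069
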