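import Cfsg.Statements.S5073
import Cfsg.Agent.Lib.ThreeTransp.QuadCommute

set_option autoImplicit false
universe u
open Cfsg

open CfsgLib.ThreeTransp

namespace Cfsg.Agent.S5073

/-- Let k be a field of characteristic not 2 with k not of order 3, M a finite-dimensional k-vector space and G ≤ GL(M) such that (G, M) is a quadratic pair (M irreducible for G, and G generated by its quadratically acting elements σ whose scalar family 1 + c(σ − 1), c ∈ k, lies in G). Write 𝒬_d for the quadratic elements of G of minimal commutator rank, E(σ) for the subgroup generated by the members of 𝒬_d with the same fixed space and commutator space as σ, and Σ for the set of these subgroups. Let E, F ∈ Σ. If some non-identity element of E commutes with some non-identity element of F, or some non-identity element of E normalizes F, then E and F commute elementwise. -/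
theorem result {k : Type u} [Field k] (hk2 : ringChar k ≠ 2) (hk3 : Nat.card k ≠ 3)
    {M : Type u} [AddCommGroup M] [Module k M] [FiniteDimensional k M]
    {G : Subgroup (LinearMap.GeneralLinearGroup k M)} (hG : Cfsg.IsQuadraticPair G)
    {E F : Subgroup (LinearMap.GeneralLinearGroup k M)} (hE : E ∈ Cfsg.quadraticRootSubgroups G) (hF : F ∈ Cfsg.quadraticRootSubgroups G)
    (h : (∃ e ∈ E, e ≠ 1 ∧ ∃ f ∈ F, f ≠ 1 ∧ e * f = f * e) ∨ E ⊓ Subgroup.normalizer (F : Set (LinearMap.GeneralLinearGroup k M)) ≠ ⊥) :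
    ⁅E, F⁆ = ⊥ := by
  have h2 : (2 : k) ≠ 0 := Ring.two_ne_zero hk2
  obtain ⟨a, ha, rfl⟩ := mem_quadraticRootSubgroups.1 hE
  obtain ⟨b, hb, rfl⟩ := mem_quadraticRootSubgroups.1 hF
  have hall : ¬ Linked a b → (∃ x ∈ eSpace G a ha.sq, x ≠ 0 ∧ ∃ y ∈ eSpace G b hb.sq, y ≠ 0 ∧ x * y = y * x) →
      ⁅eGrp G a ha, eGrp G b hb⁆ = ⊥ := by
    rintro hl ⟨x, hx, hx0, y, hy, hy0, hxy⟩
    obtain ⟨hxm, hxr, hxk⟩ := eSpace_data ha hx hx0
    obtain ⟨hym, hyr, hyk⟩ := eSpace_data hb hy hy0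
    refine bot_of_comm ?_
    rintro _ ⟨p, hp, rfl⟩ _ ⟨q, hq, rfl⟩
    have hpq : p * q = q * p := commute_all_of_commute h2 hk3 hxm hym
      (fun h => hl ((linked_congr hxr hxk hyr hyk).1 h)) hxy
      ⟨hp.1, hxr ▸ hp.2.1, hxk ▸ hp.2.2⟩ ⟨hq.1, hyr ▸ hq.2.1, hyk ▸ hq.2.2⟩
    refine Units.ext ?_
    rw [Units.val_mul, Units.val_mul, qel_val hp.1.1, qel_val hq.1.1, add_mul, mul_add, mul_add,
      add_mul, mul_add, mul_add, hpq]
    simp only [one_mul, mul_one]; abel
  rcases h with ⟨e, ⟨x, hx, rfl⟩, he, f, ⟨y, hy, rfl⟩, hf, hef⟩ | hn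
  · have hx0 : x ≠ 0 := fun h => he (by rw [h, qel_zero])
    have hy0 : y ≠ 0 := fun h => hf (by rw [h, qel_zero])
    have hxy : x * y = y * x := by
      have h1 := congrArg (fun g : LinearMap.GeneralLinearGroup k M => (g : Module.End k M)) hef
      simp only [Units.val_mul, qel_val hx.1.1, qel_val hy.1.1, add_mul, mul_add, one_mul, mul_one] at h1
      rw [← sub_eq_zero] at h1 ⊢
      rw [← h1]; abel
    refine hall (fun hl => ?_) ⟨x, hx, hx0, y, hy, hy0, hxy⟩
    obtain ⟨hxm, hxr, hxk⟩ := eSpace_data ha hx hx0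
    obtain ⟨hym, hyr, hyk⟩ := eSpace_data hb hy hy0
    exact not_linked_of_commute h2 hxm hy.1.1 hxy ((linked_congr hxr hxk hyr hyk).2 hl)
  · obtain ⟨e, ⟨⟨x, hx, rfl⟩, hen⟩, he⟩ : ∃ e, e ∈ eGrp G a ha ⊓
        Subgroup.normalizer (eGrp G b hb : Set (LinearMap.GeneralLinearGroup k M)) ∧ e ≠ 1 := by
      by_contra hcon
      push Not at hcon
      exact hn (eq_bot_iff.2 fun g hg => Subgroup.mem_bot.2 (hcon g hg))
    have hconj : conjBy (eGrp G b hb) (qel x) = eGrp G b hb := conjBy_eq_self_iff.2 hen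
    have hl : ¬ Linked a b := fun hl => he
      (linked_normalizer_trivial ha hb hl.symm (qel_mem_eGrp ha hx) hconj)
    have hx0 : x ≠ 0 := fun h => he (by rw [h, qel_zero])
    obtain ⟨hxm, hxr, hxk⟩ := eSpace_data ha hx hx0
    have hl' : ¬ Linked x b := fun h => hl ((linked_congr hxr hxk rfl rfl).1 h)
    refine hall hl ⟨x, hx, hx0, b, self_mem_eSpace hb, hb.2.1, ?_⟩
    by_contra hne
    obtain ⟨t1, t2⟩ := pair_triple h2 hk3 hxm hb hl'
    apply eps_not_mem h2 hk3 hxm hb hl' hne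
    have hm : qel x * qel b * (qel x)⁻¹ * (qel b)⁻¹ ∈ eGrp G b hb := by
      refine mul_mem ?_ (inv_mem (qel_self_mem_eGrp hb))
      rw [← hconj]; exact conj_mem_conjBy (qel_self_mem_eGrp hb) (qel x)
    rw [eps_commutator hx.1.1 hb.sq t1 t2] at hm
    have h3 := (udif_mem_eSpace hb hm).1
    rwa [udif_qel (eps_qfam hxm.1 hb.1 t1 t2).1] at h3

end Cfsg.Agent.S5073
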