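import Cfsg.Statements.S5075
import Cfsg.Agent.Lib.ThreeTransp.McLMain
import Cfsg.Agent.Lib.Base.Cores

set_option autoImplicit false
open Cfsg

open CfsgLib.ThreeTransp

namespace Cfsg.Agent.S5075

/-- Let p be an odd prime, V a finite-dimensional vector space over the field with p elements, and H a group of linear automorphisms of V generated by transvections (elements of order p fixing a hyperplane pointwise) and having no nontrivial normal p-subgroup. Then for some n ≥ 1 there are a decomposition V = V₀ ⊕ V₁ ⊕ ⋯ ⊕ Vₙ into H-invariant subspaces and a decomposition of H as the internal direct product of normal subgroups H₁, …, Hₙ such that Hⱼ acts trivially on every Vᵢ with i ≠ j, and Hⱼ induces on Vⱼ exactly the special linear group of Vⱼ or exactly the isometry group of a non-degenerate alternating form on Vⱼ. -/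
theorem result {p : ℕ} [Fact p.Prime] (hp : Odd p) {V : Type*} [AddCommGroup V] [Module (ZMod p) V] [Finite V]
    (H : Subgroup (V ≃ₗ[ZMod p] V)) (T : Set (V ≃ₗ[ZMod p] V)) (hHT : H = Subgroup.closure T)
    (hT : ∀ t ∈ T, orderOf t = p ∧
      Module.finrank (ZMod p) ↥(LinearMap.ker ((t : V →ₗ[ZMod p] V) - LinearMap.id)) + 1 =
        Module.finrank (ZMod p) V)
    (hOp : Cfsg.pCore p ↥H = ⊥) :
    ∃ (n : ℕ) (W : Fin (n + 1) → Submodule (ZMod p) V) (K : Fin n → Subgroup (V ≃ₗ[ZMod p] V)),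
      1 ≤ n ∧ DirectSum.IsInternal W ∧
      (∀ h ∈ H, ∀ i, (W i).map (h : V →ₗ[ZMod p] V) = W i) ∧
      (∀ j, K j ≤ H ∧ ((K j).subgroupOf H).Normal) ∧ ⨆ j, K j = H ∧
      (∀ j, K j ⊓ (⨆ j' ∈ {j' : Fin n | j' ≠ j}, K j') = ⊥) ∧
      (∀ j j', j ≠ j' → ∀ a ∈ K j, ∀ b ∈ K j', a * b = b * a) ∧
      (∀ j, ∀ h ∈ K j, ∀ i : Fin (n + 1), i ≠ j.succ → ∀ v ∈ W i, h v = v) ∧
      (∀ j, ∃ ρ : ↥(K j) →* (↥(W j.succ) ≃ₗ[ZMod p] ↥(W j.succ)),
        (∀ (h : ↥(K j)) (v : ↥(W j.succ)), ((ρ h v : ↥(W j.succ)) : V) = (h : V ≃ₗ[ZMod p] V) (v : V)) ∧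
        ((ρ.range : Set (↥(W j.succ) ≃ₗ[ZMod p] ↥(W j.succ))) =
            {f : ↥(W j.succ) ≃ₗ[ZMod p] ↥(W j.succ) | LinearMap.det (f : ↥(W j.succ) →ₗ[ZMod p] ↥(W j.succ)) = 1} ∨
          ∃ B : LinearMap.BilinForm (ZMod p) ↥(W j.succ), B.IsAlt ∧ B.Nondegenerate ∧
            (ρ.range : Set (↥(W j.succ) ≃ₗ[ZMod p] ↥(W j.succ))) = {f : ↥(W j.succ) ≃ₗ[ZMod p] ↥(W j.succ) | ∀ x y, B (f x) (f y) = B x y})) := by
  have htv : ∀ t ∈ T, CfsgLib.ThreeTransp.McL.IsTv t := by
    intro t ht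
    obtain ⟨hord, hrk⟩ := hT t ht
    set f := (t : V →ₗ[ZMod p] V) - LinearMap.id with hf
    have hr : Module.finrank (ZMod p) (LinearMap.range f) = 1 := by
      have h1 := LinearMap.finrank_range_add_finrank_ker f
      omega
    obtain ⟨⟨a, haR⟩, ha, hspan⟩ := finrank_eq_one_iff'.1 hr
    have ha0 : a ≠ 0 := fun e => ha (Subtype.ext e)
    choose φ hφ using fun x => hspan ⟨f x, x, rfl⟩
    have hφ' : ∀ x, φ x • a = f x := fun x => congrArg Subtype.val (hφ x)
    have hinj := smul_left_injective (ZMod p) ha0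
    let ψ : Module.Dual (ZMod p) V :=
      { toFun := φ
        map_add' := fun x y => hinj (show φ (x + y) • a = (φ x + φ y) • a by
          rw [add_smul, hφ', hφ', hφ', map_add])
        map_smul' := fun c x => hinj (show φ (c • x) • a = (c • φ x) • a by
          rw [smul_assoc, hφ', hφ', map_smul]) }
    have hx : ∀ x, t x = x + ψ x • a := fun x => by
      show t x = x + φ x • a
      rw [hφ']; simp [f]
    refine ⟨a, ψ, ?_, hx⟩
    have hm : ∀ m : ℕ, (t ^ m) a = (1 + ψ a) ^ m • a := by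
      intro m
      induction m with
      | zero => simp
      | succ m ih => rw [pow_succ', LinearEquiv.mul_apply, ih, map_smul, hx, pow_succ, mul_smul, add_smul, one_smul]
    have h1 := hm p
    rw [show t ^ p = 1 by rw [← pow_orderOf_eq_one t, hord], ZMod.pow_card] at h1
    have h2 : (1 : ZMod p) • a = (1 + ψ a) • a := by rw [one_smul]; exact h1
    simpa using hinj h2
  refine CfsgLib.ThreeTransp.McL.mclaughlin hp H T hHT htv fun U hU hnorm hexp => ?_
  have hUp : IsPGroup p ↥(U.subgroupOf H) := fun u => ⟨1, Subtype.ext (Subtype.ext (by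
    rw [pow_one]; exact hexp _ u.2))⟩
  haveI : (U.subgroupOf H).Normal := ⟨fun u hu h => hnorm h.1 h.2 u.1 hu⟩
  have h := CfsgLib.Base.le_pCore hUp
  rw [hOp, le_bot_iff, Subgroup.subgroupOf_eq_bot] at h
  rw [eq_bot_iff]
  exact fun u hu => h.le_bot ⟨hu, hU hu⟩

end Cfsg.Agent.S5075
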