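import Cfsg.Statements.S5085
import Cfsg.Agent.Lib.Fusion.Aut
-- import your own Cfsg.Agent.* helpers here

set_option autoImplicit false
open Cfsg

namespace Cfsg.Agent.S5085

open Cfsg Cfsg.FusionSystem CfsgLib.Fusion


/-- In any fusion system, a characteristic subgroup of a subgroup that is normal in the system is itself normal in the system. -/
theorem result {Ω : Type*} [Group Ω] {S : Subgroup Ω} (F : Cfsg.FusionSystem S) (Q U : Subgroup Ω) (hQ : F.IsNormal Q) (hUQ : U ≤ Q) (hU : (U.subgroupOf Q).Characteristic) : F.IsNormal U := by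
  obtain ⟨hQS, hext⟩ := isNormal_iff.mp hQ
  refine isNormal_iff.mpr ⟨hUQ.trans hQS, fun P f hf => ?_⟩
  obtain ⟨g, hg, hgf, hgQ⟩ := hext P f hf
  refine ⟨g, hg.restrict (sup_le_sup_left hUQ _), hgf, ?_⟩
  obtain ⟨α, -, hα⟩ := exists_aut (hg.restrict le_sup_right) hgQ
  have hmap := Subgroup.characteristic_iff_map_eq.mp hU α
  apply le_antisymm
  · refine img_le fun x hx => ?_
    have h1 : α ⟨x, hUQ hx⟩ ∈ U.subgroupOf Q := hmap.le ⟨⟨x, hUQ hx⟩, hx, rfl⟩
    rw [← hα x (hUQ hx), autFun_of_mem α (hUQ hx)]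
    exact h1
  · intro x hx
    obtain ⟨y, hy, e⟩ := hmap.ge (show (⟨x, hUQ hx⟩ : Q) ∈ U.subgroupOf Q from hx)
    have e' : autFun α y = x := (autFun_coe α y).trans (congrArg Subtype.val e)
    rw [← e', hα y y.2]
    exact mem_img_of_mem g hy

end Cfsg.Agent.S5085
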