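import Cfsg.Statements.S5087
import Cfsg.Agent.Lib.Fusion.Criteria
-- import your own Cfsg.Agent.* helpers here

set_option autoImplicit false
open Cfsg

namespace Cfsg.Agent.S5087

open Cfsg Cfsg.FusionSystem CfsgLib.Fusion


/-- In a saturated fusion system over a finite p-group S, a subgroup Q is normal in the system if and only if every subgroup P that equals S or is essential contains Q and every element of Aut_F(P) maps Q onto itself. -/
theorem result {Ω : Type*} [Group Ω] {S : Subgroup Ω} [Finite S] (p : ℕ) [Fact p.Prime] (hS : IsPGroup p S) (F : Cfsg.FusionSystem S) (hF : F.IsSaturated p) (Q : Subgroup Ω) : F.IsNormal Q ↔ ∀ P : Subgroup Ω, (P = S ∨ F.IsEssential p P) → (Q ≤ P ∧ ∀ α ∈ F.autGroup P, (Q.subgroupOf P).map α.toMonoidHom = Q.subgroupOf P) := by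
  refine ⟨fun h P hP => ?_, fun h => isNormal_of_invariant hS hF fun P hP => ?_⟩
  · obtain ⟨hc, hr⟩ : F.IsCentric P ∧ F.IsRadical p P := by
      rcases hP with rfl | hP
      · exact ⟨centric_self F, radical_self hS hF⟩
      · exact ⟨hP.1, essential_radical hS hP⟩
    have hle := le_of_normal_of_radical hS h hc hr
    refine ⟨hle, fun α hα => ?_⟩
    have hm := isMor_autFun hc.1 hα
    have himg : img Q (autFun α) = Q := (hm.restrict hle).img_eq_self fun x hx =>
      (stronglyClosed_iff.mp (isNormal_stronglyClosed h)).2 P _ hm x (hle hx) hx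
    ext y
    constructor
    · rintro ⟨x, hx, rfl⟩
      have := mem_img_of_mem (autFun α) (show (x : Ω) ∈ Q from hx)
      rw [himg, autFun_coe] at this
      exact this
    · intro hy
      obtain ⟨x, hx, e⟩ := (hm.restrict hle).mem_img.mp (himg.ge (show (y : Ω) ∈ Q from hy))
      exact ⟨⟨x, hle hx⟩, hx, Subtype.ext ((autFun_of_mem α (hle hx)).symm.trans e)⟩
  · obtain ⟨hle, hinv⟩ := h P hP
    refine ⟨hle, fun α hα x hx => ?_⟩
    rw [autFun_of_mem α (hle hx)]
    exact (hinv α hα).le ⟨⟨x, hle hx⟩, hx, rfl⟩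

end Cfsg.Agent.S5087
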