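import Cfsg.Statements.S5088
import Cfsg.Agent.Lib.Fusion.Criteria
-- import your own Cfsg.Agent.* helpers here

set_option autoImplicit false
open Cfsg

namespace Cfsg.Agent.S5088

open Cfsg Cfsg.FusionSystem CfsgLib.Fusion


/-- In a saturated fusion system over a finite p-group, a subgroup Q is normal in the system if and only if there is a chain of subgroups 1 = Q₀ ≤ Q₁ ≤ ⋯ ≤ Qₙ = Q such that each Qᵢ with i ≥ 1 is strongly closed in the system and [Q, Qᵢ] ≤ Qᵢ₋₁. -/
theorem result {Ω : Type*} [Group Ω] {S : Subgroup Ω} [Finite S] (p : ℕ) [Fact p.Prime] (hS : IsPGroup p S) (F : Cfsg.FusionSystem S) (hF : F.IsSaturated p) (Q : Subgroup Ω) : F.IsNormal Q ↔ ∃ (n : ℕ) (Qs : Fin (n + 1) → Subgroup Ω), Qs 0 = ⊥ ∧ Qs (Fin.last n) = Q ∧ Monotone Qs ∧ ∀ i : Fin n, F.StronglyClosed (Qs i.succ) ∧ ⁅Q, Qs i.succ⁆ ≤ Qs (Fin.castSucc i) := by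
  constructor
  · intro h
    obtain ⟨n, Qs, h0, hn, hmono, hsc, hc⟩ := exists_chain_of_isNormal hS h
    exact ⟨n, fun i => Qs i, by simpa using h0, by simpa using hn, fun i j hij => hmono hij,
      fun i => ⟨hsc _, by simpa using hc i i.2⟩⟩
  · rintro ⟨n, Qs, h0, hn, -, h⟩
    refine isNormal_of_chain hS hF n (fun i => if hi : i < n + 1 then Qs ⟨i, hi⟩ else Q)
      (by simpa using h0) ?_ (fun i hi => ?_) fun i hi => ?_
    · simp only [lt_add_iff_pos_right, Nat.lt_one_iff, dite_true]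
      exact hn
    · beta_reduce
      rw [dif_pos (Nat.lt_succ_of_le hi)]
      rcases i with _ | j
      · rw [show Qs ⟨0, Nat.succ_pos n⟩ = ⊥ from h0]
        exact isNormal_stronglyClosed (isNormal_bot F)
      · exact (h ⟨j, hi⟩).1
    · beta_reduce
      rw [dif_pos (by omega), dif_pos (by omega)]
      exact (h ⟨i, hi⟩).2

end Cfsg.Agent.S5088
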