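import Cfsg.Statements.S5089
import Cfsg.Agent.Lib.Fusion.Criteria
-- import your own Cfsg.Agent.* helpers here

set_option autoImplicit false
open Cfsg

namespace Cfsg.Agent.S5089

open Cfsg Cfsg.FusionSystem CfsgLib.Fusion


/-- A saturated fusion system over a finite p-group has a nontrivial subgroup that is normal in the system (O_p(F) ≠ 1) if and only if some nontrivial abelian subgroup is strongly closed in the system. -/
theorem result {Ω : Type*} [Group Ω] {S : Subgroup Ω} [Finite S] (p : ℕ) [Fact p.Prime] (hS : IsPGroup p S) (F : Cfsg.FusionSystem S) (hF : F.IsSaturated p) : F.core ≠ ⊥ ↔ ∃ Q : Subgroup Ω, Q ≠ ⊥ ∧ IsMulCommutative Q ∧ F.StronglyClosed Q := by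
  constructor
  · intro h
    have hn := isNormal_core F
    have : Finite F.core := finite_of_le hn.1
    have hp' : IsPGroup p F.core := isPGroup_of_le hn.1 hS
    have : Nontrivial F.core := (Subgroup.nontrivial_iff_ne_bot _).mpr h
    have := hp'.center_nontrivial
    refine ⟨(Subgroup.center F.core).map F.core.subtype, fun e => ?_, ?_, ?_⟩
    · exact ((Subgroup.nontrivial_iff_ne_bot _).mp this)
        ((Subgroup.map_eq_bot_iff_of_injective _ F.core.subtype_injective).mp e)
    · refine ⟨⟨?_⟩⟩
      rintro ⟨_, a, ha, rfl⟩ ⟨_, b, hb, rfl⟩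
      refine Subtype.ext ?_
      show F.core.subtype a * F.core.subtype b = F.core.subtype b * F.core.subtype a
      rw [← _root_.map_mul, ← _root_.map_mul, Subgroup.mem_center_iff.mp hb a]
    · refine isNormal_stronglyClosed (isNormal_of_characteristic hn (Subgroup.map_subtype_le _) ?_)
      rw [Subgroup.subgroupOf, Subgroup.comap_map_eq_self_of_injective F.core.subtype_injective]
      infer_instance
  · rintro ⟨Q, hQ, hab, hsc⟩ h
    refine hQ (le_bot_iff.mp (h ▸ le_core (isNormal_of_abelian hS hF hsc fun x hx y hy => ?_)))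
    exact congrArg Subtype.val (hab.is_comm.comm ⟨x, hx⟩ ⟨y, hy⟩)

end Cfsg.Agent.S5089
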