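import Cfsg.Statements.S5102
import Cfsg.Agent.Lib.Fusion.Aut
-- import your own Cfsg.Agent.* helpers here

set_option autoImplicit false
open Cfsg

namespace Cfsg.Agent.S5102

open Cfsg Cfsg.FusionSystem CfsgLib.Fusion


/-- A normal p-subgroup of a finite group G is normal in the fusion system of G on a Sylow p-subgroup. -/
theorem result {G : Type*} [Group G] [Finite G] (p : ℕ) [Fact p.Prime] (S : Sylow p G) (R : Subgroup G) [R.Normal] (hR : IsPGroup p R) : (Cfsg.groupFusionSystem (S : Subgroup G)).IsNormal R := by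
  have hRS : R ≤ (S : Subgroup G) := hR.le_sylow_of_normal S
  refine isNormal_iff.mpr ⟨hRS, fun P f hf => ?_⟩
  obtain ⟨hP, hfS, g, hg⟩ := isMor_group.mp hf
  refine ⟨cj g, isMor_group.mpr ⟨sup_le hP hRS, fun x hx => ?_, g, fun _ _ => rfl⟩,
    fun x hx => (hg x hx).symm, img_cj_of_normalizer ?_⟩
  · have h1 : img (P ⊔ R) (cj g) ≤ (S : Subgroup G) := by
      rw [img_cj, Subgroup.map_sup, ← img_cj, ← img_cj]
      refine sup_le (img_le fun y hy => hg y hy ▸ hfS y hy) (img_le fun y hy => hRS ?_)
      exact Subgroup.Normal.conj_mem inferInstance y hy g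
    exact h1 (mem_img_of_mem _ hx)
  · rw [Subgroup.normalizer_eq_top (H := R)]
    trivial

end Cfsg.Agent.S5102
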