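import Cfsg.Statements.S5107
import Cfsg.Agent.Lib.Fusion.Criteria
import Cfsg.Agent.Lib.Fusion.Group
-- import your own Cfsg.Agent.* helpers here

set_option autoImplicit false
open Cfsg

namespace Cfsg.Agent.S5107

open Cfsg Cfsg.FusionSystem CfsgLib.Fusion


/-- If a Sylow p-subgroup S of a finite group G has nilpotency class at most two and its centre is strongly closed in S with respect to G, then every map of the fusion system of G on S is conjugation by an element of N_G(S), and S is the largest subgroup normal in that fusion system. -/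
theorem result {G : Type*} [Group G] [Finite G] (p : ℕ) [Fact p.Prime] (S : Sylow p G) (hcl : ⁅(S : Subgroup G), (S : Subgroup G)⁆ ≤ (S : Subgroup G) ⊓ Subgroup.centralizer ((S : Subgroup G) : Set G)) (hZ : Cfsg.IsStronglyClosed ((S : Subgroup G) ⊓ Subgroup.centralizer ((S : Subgroup G) : Set G)) (S : Subgroup G)) : (∀ (P : Subgroup G) (φ : P →* G), φ ∈ (Cfsg.groupFusionSystem (S : Subgroup G)).Hom P → ∃ g ∈ Subgroup.normalizer ((S : Subgroup G) : Set G), ∀ x : P, φ x = g * (x : G) * g⁻¹) ∧ (Cfsg.groupFusionSystem (S : Subgroup G)).core = S := by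
  set Z := (S : Subgroup G) ⊓ Subgroup.centralizer ((S : Subgroup G) : Set G) with hZdef
  have hsc : (groupFusionSystem (S : Subgroup G)).StronglyClosed Z := by
    refine stronglyClosed_iff.mpr ⟨inf_le_left, fun P f hf x hxP hxZ => ?_⟩
    obtain ⟨hP, hfS, g, hg⟩ := isMor_group.mp hf
    have h1 := hfS x hxP
    rw [hg x hxP] at h1 ⊢
    exact hZ.2 x hxZ g h1
  have hn : (groupFusionSystem (S : Subgroup G)).IsNormal (S : Subgroup G) := by
    refine isNormal_of_chain S.2 (groupFusion_isSaturated S) 2
      (fun i => if i = 0 then ⊥ else if i = 1 then Z else (S : Subgroup G)) rfl rfl (fun i _ => ?_)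
      fun i hi => ?_
    · rcases i with _ | _ | i
      · exact isNormal_stronglyClosed (isNormal_bot _)
      · exact hsc
      · exact stronglyClosed_iff.mpr ⟨le_rfl, fun P f hf x hx _ => hf.mem hx⟩
    · obtain rfl | rfl : i = 0 ∨ i = 1 := by omega
      · show ⁅(S : Subgroup G), Z⁆ ≤ ⊥
        rw [Subgroup.commutator_le]
        intro x hx y hy
        rw [Subgroup.mem_bot, commutatorElement_def, Subgroup.mem_centralizer_iff.mp hy.2 x hx]
        simp [mul_assoc]
      · exact hcl
  refine ⟨fun P φ hφ => ?_, le_antisymm (sSup_le fun Q hQ => hQ.1) (le_core hn)⟩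
  obtain ⟨g, hg, hgf, hgS⟩ := (isNormal_iff.mp hn).2 P _ (isMor_of_mem hφ)
  obtain ⟨-, -, n, hne⟩ := isMor_group.mp hg
  refine ⟨n, ?_, fun x => ?_⟩
  · rw [Subgroup.mem_normalizer_iff_map_conj_eq]
    exact (img_cj _ n).symm.trans ((img_congr fun x hx => (hne x (Subgroup.mem_sup_right hx)).symm).trans hgS)
  · rw [← toFun_coe φ x, ← hgf x x.2]
    exact hne x (Subgroup.mem_sup_left x.2)

end Cfsg.Agent.S5107
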