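import Cfsg.Statements.S5112
import Cfsg.Agent.Lib.Fusion.Criteria
import Cfsg.Agent.Lib.Involutions.AutMaximalClassTwo
-- import your own Cfsg.Agent.* helpers here

set_option autoImplicit false
open Cfsg

namespace Cfsg.Agent.S5112

/-- If S is a dihedral or generalized quaternion 2-group of order at least 16, then in every saturated fusion system over S (at the prime 2) the automorphism group Aut_F(S) consists of the inner automorphisms of S. -/
theorem result {Ω : Type*} [Group Ω] {S : Subgroup Ω} [Finite S] (n : ℕ) (hn : 4 ≤ n) (hshape : Nonempty (S ≃* DihedralGroup (2 ^ (n - 1))) ∨ Nonempty (S ≃* QuaternionGroup (2 ^ (n - 2)))) (F : Cfsg.FusionSystem S) (hF : F.IsSaturated 2) : F.autGroup S = Cfsg.Inn S := by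
  haveI : Fact (Nat.Prime 2) := ⟨Nat.prime_two⟩
  suffices h : IsPGroup 2 S ∧ IsPGroup 2 (MulAut S) from
    le_antisymm (CfsgLib.Fusion.autGroup_le_inn_of_isPGroup h.1 hF (h.2.to_subgroup _))
      (CfsgLib.Fusion.inn_le_autGroup F le_rfl)
  have h4 : 4 ≤ 2 ^ (n - 2) := by
    calc 4 = 2 ^ 2 := rfl
      _ ≤ _ := Nat.pow_le_pow_right two_pos (by omega)
  have hn1 : 2 ^ (n - 1) = 2 * 2 ^ (n - 2) := by
    rw [← pow_succ']; congr 1; omega
  have hn2 : 2 * 2 ^ (n - 1) = 2 ^ n := by
    rw [← pow_succ']; congr 1; omega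
  rcases hshape with he | he <;> obtain ⟨e⟩ := he
  · have hS : IsPGroup 2 S := IsPGroup.of_card (n := n) (by
      rw [Nat.card_congr e.toEquiv, DihedralGroup.nat_card, hn2])
    exact ⟨hS, CfsgLib.Involutions.isPGroup_mulAut_dihedral_or_qd hS
      (Or.inl ⟨_, by omega, ⟨e⟩⟩)⟩
  · haveI : NeZero (2 ^ (n - 2)) := ⟨by omega⟩
    have hS : IsPGroup 2 S := IsPGroup.of_card (n := n) (by
      rw [Nat.card_congr e.toEquiv, Nat.card_eq_fintype_card, QuaternionGroup.card]
      omega)
    refine ⟨hS, ?_⟩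
    have hmem : ∀ (g : S) (i : ZMod (2 * 2 ^ (n - 2))), e g = QuaternionGroup.a i →
        g ∈ Subgroup.zpowers (e.symm (QuaternionGroup.a 1)) := fun g i hg =>
      ⟨(i.val : ℤ), e.injective (by
        simp only [zpow_natCast, map_pow, MulEquiv.apply_symm_apply, QuaternionGroup.a_one_pow, hg,
          ZMod.natCast_zmod_val])⟩
    refine CfsgLib.Involutions.isPGroup_mulAut_of_cyclic hS (c := e.symm (QuaternionGroup.a 1))
      (y := e.symm (QuaternionGroup.xa 0)) (fun g => ?_) (fun g hg => ?_)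
    · rcases hg : e g with i | i
      · exact Or.inl (hmem g i hg)
      · exact Or.inr (hmem _ (i - 0) (by
          rw [map_mul, map_inv, MulEquiv.apply_symm_apply, hg, inv_mul_eq_iff_eq_mul]
          simp))
    · rw [MulEquiv.orderOf_eq e.symm, QuaternionGroup.orderOf_a_one, ← MulEquiv.orderOf_eq e g]
      rcases hg' : e g with i | i
      · exact absurd (hmem g i hg') hg
      · rw [QuaternionGroup.orderOf_xa]; omega

end Cfsg.Agent.S5112
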