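import Cfsg.Statements.S5125
import Cfsg.Agent.Lib.Fusion.Criteria
-- import your own Cfsg.Agent.* helpers here

set_option autoImplicit false
open Cfsg

namespace Cfsg.Agent.S5125

open Cfsg Cfsg.FusionSystem CfsgLib.Fusion
open scoped commutatorElement


/-- Let F be a saturated fusion system over a finite p-group S and Q a subgroup strongly closed in F. If Q has a subgroup Q₁ that is normal in F, with Q/Q₁ abelian and Aut_F(Q₁) a p-group, then Q is normal in F. -/
theorem result {Ω : Type*} [Group Ω] {S : Subgroup Ω} [Finite S] (p : ℕ) [Fact p.Prime] (hS : IsPGroup p S) (F : Cfsg.FusionSystem S) (hF : F.IsSaturated p) (Q Q₁ : Subgroup Ω) (hQ : F.StronglyClosed Q) (hQ₁Q : Q₁ ≤ Q) (hQ₁ : F.IsNormal Q₁) (hab : ⁅Q, Q⁆ ≤ Q₁) (hAut : IsPGroup p ↥(F.autGroup Q₁)) : F.IsNormal Q := by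
  have hQS := hQ.1
  have hQ₁S := hQ₁.1
  have hn := stronglyClosed_le_normalizer (isNormal_stronglyClosed hQ₁)
  have hsc1 := (stronglyClosed_iff.mp (isNormal_stronglyClosed hQ₁)).2
  have : Finite Q₁ := finite_of_le hQ₁S
  have hQ₁p : IsPGroup p Q₁ := isPGroup_of_le hQ₁S hS
  let A := F.autGroup Q₁
  have : Finite A := by
    have := finite_mulAut (P := Q₁) hQ₁S
    infer_instance
  let φ : A →* MulAut Q₁ := A.subtype
  let Γ := Q₁ ⋊[φ] A
  have : Finite Γ := Finite.of_equiv _ SemidirectProduct.equivProd.symm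
  have hΓ : IsPGroup p Γ := by
    obtain ⟨a, ha⟩ := IsPGroup.iff_card.mp hQ₁p
    obtain ⟨b, hb⟩ := IsPGroup.iff_card.mp hAut
    refine IsPGroup.of_card (n := a + b) ?_
    rw [SemidirectProduct.card, ha, hb, pow_add]
  have := hΓ.isNilpotent
  let U : ℕ → Subgroup Ω := fun i =>
    ((Subgroup.upperCentralSeries Γ i).comap SemidirectProduct.inl).map Q₁.subtype
  let n := Group.nilpotencyClass Γ
  have htop : U n = Q₁ := by
    simp [U, n, Subgroup.upperCentralSeries_nilpotencyClass, ← MonoidHom.range_eq_map]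
  have hUle : ∀ i, U i ≤ Q₁ := fun i => Subgroup.map_subtype_le _
  have hinv : ∀ i, ∀ α ∈ A, ∀ x ∈ U i, autFun α x ∈ U i := by
    rintro i α hα _ ⟨x, hx, rfl⟩
    refine ⟨α x, ?_, (autFun_coe α x).symm⟩
    have := ((Subgroup.upperCentralSeries Γ i).normal_of_characteristic).conj_mem _ hx
      (SemidirectProduct.inr ⟨α, hα⟩)
    rw [← map_inv, ← SemidirectProduct.inl_aut] at this
    exact this
  have hscU : ∀ i, F.StronglyClosed (U i) := fun i => stronglyClosed_iff.mpr
    ⟨(hUle i).trans hQ₁S, fun P f hf x hxP hx => by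
      have hx1 := hUle i hx
      obtain ⟨α, hα, hαe⟩ := exists_aut_of_isNormal hQ₁
        (hf.restrict (Subgroup.zpowers_le.mpr hxP)) (Subgroup.zpowers_le.mpr hx1)
      rw [← hαe x (Subgroup.mem_zpowers x)]
      exact hinv i α hα x hx⟩
  refine isNormal_of_chain hS hF (n + 1) (fun i => if i ≤ n then U i else Q) ?_ ?_ ?_ ?_
  · simp [U, MonoidHom.comap_bot, (MonoidHom.ker_eq_bot_iff _).mpr SemidirectProduct.inl_injective]
  · simp
  · intro i _
    by_cases hi : i ≤ n
    · simpa [hi] using hscU i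
    · simpa [hi] using hQ
  · intro i hi
    rcases (Nat.le_of_lt_succ hi).lt_or_eq with h | rfl
    · simp only [h.le, Nat.succ_le_of_lt h, if_true]
      refine Subgroup.commutator_le.mpr fun q hq u hu => ?_
      obtain ⟨w, hw, rfl⟩ := hu
      obtain ⟨α, hα, hαe⟩ := exists_autInducedBy (hQS hq) (hn (hQS hq))
      let a : A := ⟨α, autInducedBy_le F hQ₁S hα⟩
      refine ⟨α w * w⁻¹, ?_, ?_⟩
      · have h1 := Subgroup.mem_upperCentralSeries_succ_iff.mp hw (SemidirectProduct.inr a)
        have h2 := (Subgroup.upperCentralSeries Γ i).inv_mem h1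
        rw [commutatorElement_inv, commutatorElement_def, ← map_inv, ← map_inv,
          ← SemidirectProduct.inl_aut, ← map_mul] at h2
        exact h2
      · have := hαe w w.2
        rw [autFun_coe] at this
        show ((α w * w⁻¹ : Q₁) : Ω) = ⁅q, (w : Ω)⁆
        rw [Subgroup.coe_mul, this]
        simp [cj, commutatorElement_def]
    · simpa [htop] using hab

end Cfsg.Agent.S5125
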