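import Cfsg.Statements.S5126
import Cfsg.Agent.Lib.Fusion.NormalizerSaturated
import Cfsg.Agent.Lib.Fusion.ModelProps

set_option autoImplicit false
open Cfsg

namespace Cfsg.Agent.S5126

open Cfsg Cfsg.FusionSystem CfsgLib.Fusion

/-- In a saturated fusion system over a finite p-group S, the normalizer system of a fully normalized, centric, radical subgroup R is constrained, and in every model of that normalizer system the largest normal p-subgroup is the image of R. -/
theorem result {Ω : Type*} [Group Ω] {S : Subgroup Ω} [Finite S] (p : ℕ) [Fact p.Prime] (hS : IsPGroup p S) (F : Cfsg.FusionSystem S) (hF : F.IsSaturated p) (R : Subgroup Ω) (hRn : F.IsFullyNormalized R) (hRc : F.IsCentric R) (hRr : F.IsRadical p R) (E : Cfsg.FusionSystem (Cfsg.FusionSystem.normalizerIn S R)) (hE : F.IsNormalizerSystem R E) {G : Type*} [Group G] (ι : ↥(Cfsg.FusionSystem.normalizerIn S R) →* G) : E.IsConstrained p ∧ (E.IsModel p G ι → (Cfsg.pCore p G : Subgroup G) = (R.subgroupOf (Cfsg.FusionSystem.normalizerIn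 S R)).map ι) := by
  classical
  have hR : R ≤ S := hRn.1
  have hRN : R ≤ (normalizerIn S R) := le_normalizerIn hR
  have hNS : (normalizerIn S R) ≤ S := normalizerIn_le
  have : Finite ↥(normalizerIn S R) := finite_of_le hNS
  have hS' : IsPGroup p ↥(normalizerIn S R) := isPGroup_of_le hNS hS
  have hsat := normalizerSystem_isSaturated hS hF hRn hE
  have hmor : ∀ P f, IsMor E P f ↔ IsMor F P f ∧ P ≤ (normalizerIn S R) ∧ (∀ x ∈ P, f x ∈ (normalizerIn S R)) ∧
      ∃ g, IsMor F (P ⊔ R) g ∧ (∀ x ∈ P, g x = f x) ∧ img R g = R :=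
    fun P f => isMor_normalizerSystem hE
  have hn : E.IsNormal R := isNormal_iff.mpr ⟨hRN, fun P f hf => by
    obtain ⟨-, hP, hPN, g, hg, hgf, hgR⟩ := (hmor P f).mp hf
    refine ⟨g, (hmor _ g).mpr ⟨hg, sup_le hP hRN, fun x hx => ?_, g, ?_, fun _ _ => rfl, hgR⟩,
      hgf, hgR⟩
    · have h1 := mem_img_of_mem g hx
      rw [hg.img_sup, hgR] at h1
      exact sup_le (img_le fun y hy => hgf y hy ▸ hPN y hy) hRN h1
    · rwa [sup_assoc, sup_idem]⟩
  have hc : E.IsCentric R := ⟨hRN, fun Q hQ => by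
    obtain ⟨f, hf, rfl⟩ := isConj_iff.mp hQ
    rw [hf.img_eq_self fun x hx =>
      (stronglyClosed_iff.mp (isNormal_stronglyClosed hn)).2 _ f hf x hx hx]
    intro x hx
    obtain ⟨hxN, hxc⟩ := mem_centralizerIn.mp hx
    exact hRc.2 R (isConj_refl F hR) (mem_centralizerIn.mpr ⟨hNS hxN, hxc⟩)⟩
  refine ⟨⟨hsat, R, hn, hc⟩, fun hM => ?_⟩
  have := hM.1
  have haut : E.autGroup R = F.autGroup R := by
    refine le_antisymm (autGroup_mono fun P φ hφ => ?_) fun α hα => ?_
    · exact ((hmor P _).mp (isMor_of_mem hφ)).1.mem_hom (fun x => (toFun_coe φ x).symm)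
    · have hm := isMor_autFun hR hα
      have hm' : IsMor E R (autFun α) := (hmor _ _).mpr ⟨hm, hRN,
        fun x hx => hRN (autFun_mem α hx), autFun α, by rwa [sup_idem], fun _ _ => rfl, img_autFun α⟩
      exact (autGroup_eq_set hRN α).mpr hm'
  have hr : E.IsRadical p R := ⟨hRN, by rw [haut]; exact hRr.2⟩
  have hle : ∀ a : (normalizerIn S R), (a : Ω) ∈ R → ι a ∈ pCore p G := by
    intro a ha
    let M : Subgroup G := (R.subgroupOf (normalizerIn S R)).map ι
    have hMn : M.Normal := ⟨fun m hm g => by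
      obtain ⟨b, hb, rfl⟩ := hm
      obtain ⟨c, hc, e⟩ := model_normal_of_isNormal hM hn (g := g) hb
      exact ⟨c, hc, e⟩⟩
    refine CfsgLib.Base.le_pCore (hN := hMn) ?_ ⟨a, ha, rfl⟩
    exact (hS'.to_subgroup _).map ι
  refine le_antisymm (fun x hx => ?_) ?_
  · obtain ⟨a, rfl⟩ := model_pCore_le_range hM hx
    refine ⟨a, ?_, rfl⟩
    exact le_of_normal_of_radical hS' (isNormal_centric_pCore hM).1 hc hr ⟨a, hx, rfl⟩
  · rintro _ ⟨a, ha, rfl⟩
    exact hle a ha

end Cfsg.Agent.S5126
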