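import Cfsg.Statements.S5128
import Cfsg.Agent.Lib.Fusion.Morphism
-- import your own Cfsg.Agent.* helpers here

set_option autoImplicit false
open Cfsg

namespace Cfsg.Agent.S5128

open Cfsg Cfsg.FusionSystem CfsgLib.Fusion


/-- In a saturated fusion system over a finite p-group S, the product of two strongly closed subgroups is strongly closed. -/
theorem result {Ω : Type*} [Group Ω] {S : Subgroup Ω} [Finite S] (p : ℕ) [Fact p.Prime] (hS : IsPGroup p S) (F : Cfsg.FusionSystem S) (hF : F.IsSaturated p) (T₁ T₂ : Subgroup Ω) (h₁ : F.StronglyClosed T₁) (h₂ : F.StronglyClosed T₂) : F.StronglyClosed (T₁ ⊔ T₂) := by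
  have hn := h₂.1.trans (stronglyClosed_le_normalizer h₁)
  refine stronglyClosed_iff.mpr ⟨sup_le h₁.1 h₂.1, fun P f hf x hxP hx => ?_⟩
  rw [← SetLike.mem_coe, Subgroup.coe_mul_of_right_le_normalizer_left _ _ hn] at hx
  obtain ⟨a, ha, b, hb, rfl⟩ := hx
  obtain ⟨g, hg, hgf⟩ := exists_map_sup hS hF h₁ (hf.restrict (Subgroup.zpowers_le.mpr hxP))
  have hx' := Subgroup.mem_zpowers (a * b)
  have ha' : a ∈ Subgroup.zpowers (a * b) ⊔ T₁ := Subgroup.mem_sup_right ha
  have hb' : b ∈ Subgroup.zpowers (a * b) ⊔ T₁ :=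
    (Subgroup.mul_mem_cancel_left _ ha').mp (Subgroup.mem_sup_left hx')
  have h1 : g (a * b) ∈ T₁ ⊔ T₂ := by
    rw [hg.map_mul ha' hb']
    exact Subgroup.mul_mem _
      (Subgroup.mem_sup_left ((stronglyClosed_iff.mp h₁).2 _ g hg a ha' ha))
      (Subgroup.mem_sup_right ((stronglyClosed_iff.mp h₂).2 _ g hg b hb' hb))
  have h2 := (T₁ ⊔ T₂).mul_mem h1 ((T₁ ⊔ T₂).inv_mem (Subgroup.mem_sup_left (hgf _ hx')))
  simpa using h2

end Cfsg.Agent.S5128
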