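import Cfsg.Statements.S5130
import Cfsg.Agent.Lib.Fusion.Restriction
import Cfsg.Agent.Lib.Fusion.NormalCentralizerSystem
import Cfsg.Agent.S5097
import Cfsg.Agent.S5119
-- import your own Cfsg.Agent.* helpers here

set_option autoImplicit false
open Cfsg Cfsg.FusionSystem CfsgLib.Fusion

namespace Cfsg.Agent.S5130

/-- Let F be a saturated fusion system over a finite p-group S that is the direct product of two subgroups S₁ and S₂, each strongly closed in F. Let R be the full subsystem of F over S₁ (all maps of F between subgroups of S₁) and R′ the subsystem over S₁ of those maps that extend to the subgroup generated with S₂ fixing S₂ elementwise. Then R and R′ are saturated, R′ is normal in F and in R, and R is weakly normal in F. -/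
theorem result {Ω : Type*} [Group Ω] {S : Subgroup Ω} [Finite S] (p : ℕ) [Fact p.Prime] (hS : IsPGroup p S) (F : Cfsg.FusionSystem S) (hF : F.IsSaturated p) (S₁ S₂ : Subgroup Ω) (hprod : Cfsg.IsInternalDirectProduct S₁ S₂ S) (h₁ : F.StronglyClosed S₁) (h₂ : F.StronglyClosed S₂) (R R' : Cfsg.FusionSystem S₁) (hR : ∀ P : Subgroup Ω, P ≤ S₁ → R.Hom P = F.Hom P) (hR' : ∀ P : Subgroup Ω, P ≤ S₁ → R'.Hom P = F.centralizerHom S₂ P) : R.IsSaturated p ∧ R'.IsSaturated p ∧ R'.IsNormalIn F p ∧ R'.IsNormalIn R p ∧ R.IsWeaklyNormalIn F p := by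
  obtain ⟨h1S, h2S, hcomm, hdisj, hsup⟩ := hprod
  obtain ⟨-, hsc1⟩ := stronglyClosed_iff.mp h₁
  obtain ⟨-, hsc2⟩ := stronglyClosed_iff.mp h₂
  have : Finite S₁ := finite_of_le h1S
  have : Finite S₂ := finite_of_le h2S
  have h1p : IsPGroup p S₁ := isPGroup_of_le h1S hS
  have h1C : S₁ ≤ centralizerIn S S₂ := fun a ha => mem_centralizerIn.mpr ⟨h1S ha, fun b hb => by
    rw [cj_apply, hcomm a ha b hb, mul_inv_cancel_right]⟩
  -- every element of `S` acts on `S₁` as an element of `S₁`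
  have hdec : ∀ s ∈ S, ∃ t ∈ S₁, ∀ x ∈ S₁, cj s x = cj t x := by
    let K : Subgroup Ω :=
      { carrier := {s | s ∈ S ∧ ∃ t ∈ S₁, ∀ x ∈ S₁, cj s x = cj t x}
        one_mem' := ⟨S.one_mem, 1, S₁.one_mem, fun _ _ => rfl⟩
        mul_mem' := by
          rintro a b ⟨ha, t, ht, hte⟩ ⟨hb, u, hu, hue⟩
          exact ⟨S.mul_mem ha hb, t * u, S₁.mul_mem ht hu, fun x hx => by
            rw [cj_mul, cj_mul, hue x hx, hte _ (by
              rw [cj_apply]; exact S₁.mul_mem (S₁.mul_mem hu hx) (S₁.inv_mem hu))]⟩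
        inv_mem' := by
          rintro a ⟨ha, t, ht, hte⟩
          refine ⟨S.inv_mem ha, t⁻¹, S₁.inv_mem ht, fun x hx => ?_⟩
          have hm : cj t⁻¹ x ∈ S₁ := by
            rw [cj_apply]
            exact S₁.mul_mem (S₁.mul_mem (S₁.inv_mem ht) hx) (S₁.inv_mem (S₁.inv_mem ht))
          have h := hte _ hm
          rw [cj_cj_inv] at h
          conv_lhs => rw [← h, cj_inv_cj] }
    have hle : S ≤ K := hsup ▸ sup_le
      (fun a ha => ⟨h1S ha, a, ha, fun _ _ => rfl⟩)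
      (fun b hb => ⟨h2S hb, 1, S₁.one_mem, fun x hx => by
        rw [cj_one, cj_apply, ← hcomm x hx b hb, mul_inv_cancel_right]⟩)
    exact fun s hs => (hle hs).2
  have hRiff : ∀ P, P ≤ S₁ → ∀ f, IsMor R P f ↔ IsMor F P f := fun P hP f =>
    hom_eq_iff.mp (hR P hP) f
  have hRs : R.IsSaturated p := restriction_isSaturated hS hF h₁ hdec hRiff
  -- the centralizer system of `S₂`
  obtain ⟨CF, hCF⟩ := Cfsg.Agent.S5097.result F S₂ h2S
  have h2n : F.IsFullyNormalized S₂ := by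
    refine ⟨h2S, fun Q hQ => ?_⟩
    obtain ⟨f, hf, hfi⟩ := isConj_iff.mp hQ
    rw [← hfi, hf.img_eq_self fun x hx => hsc2 S₂ f hf x hx hx]
  have hCFs := centralizerSystem_isSaturated hS hF (isFullyCentralized_of_normalized hS hF h2n) hCF
  have hiff := fun (Q : Subgroup Ω) (g : Ω → Ω) => isMor_centralizerSystem hCF (P := Q) (f := g)
  have hR'iff : ∀ P, P ≤ S₁ → ∀ f, IsMor R' P f ↔ IsMor CF P f := fun P hP f =>
    hom_eq_iff.mp ((hR' P hP).trans (hCF P).symm) f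
  have : Finite ↥(centralizerIn S S₂) := finite_of_le centralizerIn_le
  have hCsc : CF.StronglyClosed S₁ := stronglyClosed_iff.mpr ⟨h1C, fun P f hf x hxP hx1 =>
    hsc1 P f ((hiff P f).mp hf).1 x hxP hx1⟩
  have hR's : R'.IsSaturated p :=
    restriction_isSaturated (isPGroup_of_le centralizerIn_le hS) hCFs hCsc
      (fun s hs => hdec s (centralizerIn_le hs)) hR'iff
  have hR'F : R'.IsSubsystemOf F := le_iff_isMor.mpr fun P f hf =>
    ((hiff P f).mp ((hR'iff P hf.le f).mp hf)).1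
  have hR'R : R'.IsSubsystemOf R := le_iff_isMor.mpr fun P f hf =>
    (hRiff P hf.le f).mpr (le_iff_isMor.mp hR'F P f hf)
  have hRF : R.IsSubsystemOf F := le_iff_isMor.mpr fun P f hf => (hRiff P hf.le f).mp hf
  -- transport of maps fixing `S₂`
  have hSI : StrongInv R' F := by
    intro P Q f g hPQ hQ1 hf hfQ hg
    obtain ⟨-, -, -, ψ, hψ, hψf, hψ2⟩ := (hiff P f).mp ((hR'iff P hf.le f).mp hf)
    obtain ⟨G, hG, hGg, hG2⟩ := exists_ext_stabilizing hS hF h₂ (hQ1.trans h1C) hg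
      fun x hx => h1C (hsc1 Q g hg x hx (hQ1 hx))
    obtain ⟨Gi, hGi, hGl, hGr, hGii⟩ := (hG.restrict (sup_le_sup_right hPQ S₂)).inverse
    have hmap : img (P ⊔ S₂) G = img P g ⊔ S₂ := by
      rw [(hG.restrict (sup_le_sup_right hPQ S₂)).img_sup, hG2,
        img_congr fun x hx => hGg x (hPQ hx)]
    rw [hmap] at hGi hGii
    have hψm : ∀ x ∈ P ⊔ S₂, ψ x ∈ Q ⊔ S₂ := fun x hx => by
      have h := mem_img_of_mem ψ hx
      rw [hψ.img_sup, img_congr hψf, img_congr (g := id) hψ2, img_id] at h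
      exact sup_le_sup_right (img_le hfQ) S₂ h
    have hk := (hGi.comp hψ fun x hx => hGii ▸ mem_img_of_mem Gi hx).comp hG fun x hx =>
      hψm _ (hGii ▸ mem_img_of_mem Gi hx)
    have hke : ∀ x ∈ P, (G ∘ (ψ ∘ Gi)) (g x) = g (f x) := fun x hx => by
      show G (ψ (Gi (g x))) = g (f x)
      rw [← hGg x (hPQ hx), hGl x (Subgroup.mem_sup_left hx), hψf x hx, hGg _ (hfQ x hx)]
    have hP' : img P g ≤ S₁ := img_le fun x hx => hsc1 Q g hg x (hPQ hx) (hQ1 (hPQ hx))
    refine ⟨G ∘ (ψ ∘ Gi), (hR'iff _ hP' _).mpr ((hiff _ _).mpr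
      ⟨hk.restrict le_sup_left, hP'.trans h1C, fun z hz => ?_, _, hk, fun _ _ => rfl, ?_⟩), hke⟩
    · obtain ⟨x, hx, rfl⟩ := (hg.restrict hPQ).mem_img.mp hz
      rw [hke x hx]
      exact h1C (hsc1 Q g hg _ (hfQ x hx) (hQ1 (hfQ x hx)))
    · intro z hz
      obtain ⟨x, hx, rfl⟩ := (hG.restrict (le_sup_right : S₂ ≤ Q ⊔ S₂)).mem_img.mp (hG2.ge hz)
      show G (ψ (Gi (G x))) = G x
      rw [hGl x (Subgroup.mem_sup_right hx), hψ2 x hx]
  have hSR : StrongInv R F := by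
    intro P Q f g hPQ hQ1 hf hfQ hg
    obtain ⟨gi, hgi, hgl, -, hgii⟩ := (hg.restrict hPQ).inverse
    have hP' : img P g ≤ S₁ := img_le fun x hx => hsc1 Q g hg x (hPQ hx) (hQ1 (hPQ hx))
    refine ⟨g ∘ (f ∘ gi), (hRiff _ hP' _).mpr ?_, fun x hx => by
      rw [Function.comp_apply, Function.comp_apply, hgl x hx]⟩
    exact (hgi.comp (le_iff_isMor.mp hRF P f hf) fun x hx => hgii ▸ mem_img_of_mem gi hx).comp hg
      fun x hx => hfQ _ (hgii ▸ mem_img_of_mem gi hx)
  have hRw : R.IsWeaklyNormalIn F p :=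
    ⟨hRs, hF, (Cfsg.Agent.S5119.result p hS F hF R hRF h₁).mpr (strongInv_iff.mp hSR)⟩
  have h11 : R.StronglyClosed S₁ := stronglyClosed_iff.mpr ⟨le_rfl, fun P f hf x hx _ => hf.mem hx⟩
  have hSI' : StrongInv R' R := fun P Q f g hPQ hQ hf hfQ hg =>
    hSI P Q f g hPQ hQ hf hfQ (le_iff_isMor.mp hRF Q g hg)
  refine ⟨hRs, hR's, ⟨⟨hR's, hF, (Cfsg.Agent.S5119.result p hS F hF R' hR'F h₁).mpr
    (strongInv_iff.mp hSI)⟩, fun α hα => ?_⟩, ⟨⟨hR's, hRs,
      (Cfsg.Agent.S5119.result p h1p R hRs R' hR'R h11).mpr (strongInv_iff.mp hSI')⟩,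
      fun α hα => ?_⟩, hRw⟩
  · obtain ⟨-, -, -, ψ, hψ, hψα, hψ2⟩ := (hiff _ _).mp ((hR'iff _ le_rfl _).mp (isMor_autFun le_rfl hα))
    set M := S₁ ⊔ centralizerIn S S₁
    have hMS : M ≤ S := sup_le h1S centralizerIn_le
    have hψM := hψ.restrict (hMS.trans hsup.ge : M ≤ S₁ ⊔ S₂)
    have hSM : S ≤ M := by
      rw [← hsup]
      refine sup_le le_sup_left fun b hb => Subgroup.mem_sup_right
        (mem_centralizerIn.mpr ⟨h2S hb, fun a ha => ?_⟩)
      rw [cj_apply, ← hcomm a ha b hb, mul_inv_cancel_right]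
    obtain ⟨β, hβ, hβe⟩ := exists_aut hψM (hψM.img_eq_self fun x hx => hSM (hψM.mem hx))
    have hβS : ∀ x ∈ S₁, autFun β x = autFun α x := fun x hx => by
      rw [hβe x (Subgroup.mem_sup_left hx), hψα x hx]
    refine ⟨β, hβ, fun x => by rw [← autFun_coe, ← autFun_coe]; exact hβS x x.2,
      fun c hc => ?_⟩
    rw [← autFun_coe]
    obtain ⟨c, hcM⟩ := c
    change c ∈ centralizerIn S S₁ at hc
    show c⁻¹ * autFun β c ∈ S₁ ⊓ Subgroup.centralizer (S₁ : Set Ω)
    have hc2 : ∀ x ∈ S₁, c * x = x * c := fun x hx => cj_fixed_iff.mp ((mem_centralizerIn.mp hc).2 x hx)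
    have hd1 : c⁻¹ * autFun β c ∈ S₁ := by
      obtain ⟨t, ht, b, hb, e⟩ : ∃ t ∈ S₁, ∃ b ∈ S₂, t * b = c := by
        have hcS : c ∈ S₁ ⊔ S₂ := hsup.ge (centralizerIn_le hc)
        have hn : S₂ ≤ Subgroup.normalizer (S₁ : Set Ω) := by
          intro b hb
          rw [Subgroup.mem_normalizer_iff]
          intro x
          constructor
          · intro hx
            rwa [← hcomm x hx b hb, mul_inv_cancel_right]
          · intro hx
            have h := hcomm _ hx b hb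
            simp only [mul_assoc, inv_mul_cancel, mul_one] at h
            have : x = b * x * b⁻¹ := by
              have h' : b * x = b * (b * x * b⁻¹) := by simpa [mul_assoc] using h
              exact mul_left_cancel h'
            rwa [this]
        have h' : c ∈ ((S₁ ⊔ S₂ : Subgroup Ω) : Set Ω) := hcS
        rw [Subgroup.coe_mul_of_right_le_normalizer_left S₁ S₂ hn] at h'
        obtain ⟨t, ht, b, hb, e⟩ := Set.mem_mul.mp h'
        exact ⟨t, ht, b, hb, e⟩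
      subst e
      rw [autFun_map_mul β (Subgroup.mem_sup_left ht) (hSM (h2S hb)), hβS t ht,
        hβe b (hSM (h2S hb)), hψ2 b hb, mul_inv_rev, mul_assoc, ← mul_assoc t⁻¹,
        hcomm _ (S₁.mul_mem (S₁.inv_mem ht) (autFun_mem α ht)) b hb, ← mul_assoc,
        inv_mul_cancel, one_mul]
      exact S₁.mul_mem (S₁.inv_mem ht) (autFun_mem α ht)
    refine ⟨hd1, fun x hx => ?_⟩
    have hβc : ∀ y ∈ S₁, autFun β c * y = y * autFun β c := fun y hy => by
      obtain ⟨z, hz, rfl⟩ : ∃ z ∈ S₁, autFun α z = y :=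
        ⟨_, autFun_mem α⁻¹ hy, autFun_inv_right α hy⟩
      rw [← hβS z hz, ← autFun_map_mul β hcM (Subgroup.mem_sup_left hz), hc2 z hz,
        autFun_map_mul β (Subgroup.mem_sup_left hz) hcM]
    have hci : c⁻¹ * x = x * c⁻¹ := (show Commute c x from hc2 x hx).inv_left
    rw [mul_assoc, hβc x hx, ← mul_assoc, ← hci, mul_assoc]
  · have hM : S₁ ⊔ centralizerIn S₁ S₁ = S₁ := sup_eq_left.mpr centralizerIn_le
    have hα₀ := (autGroup_eq_set le_rfl α).mp (autGroup_mono hR'R hα)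
    obtain ⟨β, hβ, hβe⟩ := exists_aut (hα₀.restrict hM.le)
      ((hα₀.restrict hM.le).img_eq_self fun x hx => hM.ge (hα₀.mem (hM.le hx)))
    refine ⟨β, hβ, fun x => ?_, fun c hc => ?_⟩
    · rw [← autFun_coe, ← autFun_coe]
      exact hβe x (Subgroup.mem_sup_left x.2)
    · rw [← autFun_coe, hβe _ c.2]
      obtain ⟨hcS, hc'⟩ := mem_centralizerIn.mp hc
      refine ⟨S₁.mul_mem (S₁.inv_mem hcS) (autFun_mem α hcS), fun x hx => ?_⟩
      have hcz : ∀ y ∈ S₁, (c : Ω) * y = y * (c : Ω) := fun y hy => cj_fixed_iff.mp (hc' y hy)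
      have hci : (c : Ω)⁻¹ * x = x * (c : Ω)⁻¹ := (show Commute (c : Ω) x from hcz x hx).inv_left
      obtain ⟨z, hz, rfl⟩ : ∃ z ∈ S₁, autFun α z = x :=
        ⟨_, autFun_mem α⁻¹ hx, autFun_inv_right α hx⟩
      rw [mul_assoc, ← autFun_map_mul α hcS hz, hcz z hz, autFun_map_mul α hz hcS, ← mul_assoc,
        ← hci, mul_assoc]

end Cfsg.Agent.S5130
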