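import Cfsg.Statements.S5139
import Cfsg.Agent.Lib.Fusion.HyperfocalGroup
import Cfsg.Agent.Lib.Fusion.Transport
import Cfsg.Agent.Lib.Fusion.Invariant
-- import your own Cfsg.Agent.* helpers here

set_option autoImplicit false
open Cfsg

namespace Cfsg.Agent.S5139

open Cfsg Cfsg.FusionSystem CfsgLib.Fusion


/-- Let G be a finite group with Sylow p-subgroup S and O^p(G) the subgroup generated by the elements of order prime to p. Then the p-residual subsystem of the fusion system of G on S — the saturated subsystem of p-power index over the hyperfocal subgroup — is the fusion system of O^p(G) on S ∩ O^p(G): its maps are exactly the conjugation maps by elements of O^p(G) between subgroups of S ∩ O^p(G). -/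
theorem result {G : Type*} [Group G] [Finite G] (p : ℕ) [Fact p.Prime] (S : Sylow p G) (E : Cfsg.FusionSystem ((Cfsg.groupFusionSystem (S : Subgroup G)).hyperfocalSubgroup p)) (hE : (Cfsg.groupFusionSystem (S : Subgroup G)).IsPResidual p E) : ∃ h : (S : Subgroup G) ⊓ Cfsg.pResidual p G ≤ Cfsg.pResidual p G, ∀ P : Subgroup G, E.Hom P = (Cfsg.fusionSystemOfSubgroup (Cfsg.pResidual p G) ((S : Subgroup G) ⊓ Cfsg.pResidual p G) h).Hom P := by
  obtain ⟨hEs, hsub, -, hres⟩ := hE
  set K := pResidual p G with hKdef
  have hKn : K.Normal := CfsgLib.Transfer.pResidual_normal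
  refine ⟨inf_le_right, ?_⟩
  have hT := hyp_group_eq S (p := p)
  have hU : (groupFusionSystem (S : Subgroup G)).hyperfocalSubgroup p ≤ K := hT.le.trans inf_le_right
  have key : E = fusionSystemOfSubgroup K _ hU := by
    have hSU : IsSylIn p ((groupFusionSystem (S : Subgroup G)).hyperfocalSubgroup p) K :=
      hT.symm ▸ isSylIn_inf (A := (S : Subgroup G)) (B := ⊤)
      ⟨le_top, S.2, fun C hC hle _ => S.3 hC hle⟩ le_top fun b _ n hn => hKn.conj_mem n hn b
    have hDs := subgroupFusion_isSaturated hU hSU
    have hUS : (groupFusionSystem (S : Subgroup G)).hyperfocalSubgroup p ≤ (S : Subgroup G) := hyp_le_top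
    have hUp := hSU.2.1
    have hED : fusionSystemOfSubgroup K _ hU ≤ E := by
      refine le_of_coprime_aut hUp hDs fun P hP α hα hc => hres P hP ?_
      have hαF : α ∈ (groupFusionSystem (S : Subgroup G)).autGroup P := by
        obtain ⟨-, -, g, -, hg⟩ := isMor_fusionSystemOfSubgroup.mp (isMor_autFun hP hα)
        exact (autGroup_eq_set (hP.trans hUS) α).mpr (isMor_group.mpr
          ⟨hP.trans hUS, fun x hx => hP.trans hUS (autFun_mem α hx), g, hg⟩)
      exact ⟨⟨α, hαF⟩, Subgroup.subset_closure (by
        rw [Set.mem_setOf_eq, Subgroup.orderOf_mk]; exact hc), rfl⟩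
    have hDE : E ≤ fusionSystemOfSubgroup K _ hU := by
      refine le_of_coprime_aut hUp hEs fun P hP α hα hc => ?_
      obtain ⟨k, hk, hke⟩ := exists_mem_pResidual_of_coprime (hP.trans hUS)
        (autGroup_mono hsub hα) hc
      exact (autGroup_eq_set hP α).mpr (isMor_fusionSystemOfSubgroup.mpr
        ⟨hP, fun x hx => hP (autFun_mem α hx), k, hk, hke⟩)
    exact fusion_le_antisymm hDE hED
  intro P
  rw [key]
  ext φ
  show (P ≤ _ ∧ (∀ x : P, φ x ∈ _) ∧ _) ↔ (P ≤ (S : Subgroup G) ⊓ K ∧ _)
  rw [hT]

end Cfsg.Agent.S5139
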