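import Cfsg.Statements.S5143
import Cfsg.Agent.Lib.Fusion.ProductUnique

set_option autoImplicit false
open Cfsg Cfsg.FusionSystem CfsgLib.Fusion

namespace Cfsg.Agent.S5143

/-- Let F be a saturated fusion system over a finite p-group S, E a normal subsystem over T, and R a subgroup with T ≤ R ≤ S. Then there is exactly one saturated subsystem D of F over R (exactly one family of map sets) whose p-residual subsystem is that of E: the hyperfocal subgroups of D and E coincide and the p-residual subsystems of D and of E have the same maps. -/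
theorem result {Ω : Type*} [Group Ω] {S : Subgroup Ω} [Finite S] (p : ℕ) [Fact p.Prime] (hS : IsPGroup p S) (F : Cfsg.FusionSystem S) (hF : F.IsSaturated p) {T : Subgroup Ω} (E : Cfsg.FusionSystem T) (hE : E.IsNormalIn F p) (R : Subgroup Ω) (hTR : T ≤ R) (hRS : R ≤ S) : ∃ D : Cfsg.FusionSystem R, (D.IsSaturated p ∧ D.IsSubsystemOf F ∧ D.hyperfocalSubgroup p = E.hyperfocalSubgroup p ∧ ∀ (D₁ : Cfsg.FusionSystem (D.hyperfocalSubgroup p)) (E₁ : Cfsg.FusionSystem (E.hyperfocalSubgroup p)), D.IsPResidual p D₁ → E.IsPResidual p E₁ → ∀ P : Subgroup Ω, D₁.Hom P = E₁.Hom P) ∧ ∀ D' : Cfsg.FusionSystem R, D'.IsSaturated p → D'.IsSubsystemOf F → D'.hyperfocalSubgroup p = E.hyperfocalSubgroup p → (∀ (D₁ : Cfsg.FusionSystem (D'.hyperfocalSubgroup p)) (E₁ : Cfsg.FusionSystem (E.hyperfocalSubgroup p)), D'.IsPResidual p D₁ → E.IsPResidual p E₁ → ∀ P : Subgroup Ω, D₁.Hom P = E₁.Hom P) → ∀ P : Subgroup Ω, D'.Hom P = D.Hom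 P := by
  have hq : ProdHyp F E p := ⟨hS, hF, hE⟩
  have hTS := hq.le_S
  have : Finite T := finite_of_le hTS
  have : Finite R := finite_of_le hRS
  obtain ⟨E₀, hE₀, hE₀i, hE₀n⟩ := hq.exists_pResidual_normal
  have hHT : E.hyperfocalSubgroup p ≤ T := hyp_le_top
  have hHR : E.hyperfocalSubgroup p ≤ R := hHT.trans hTR
  have h : ProdSetup F E₀ p R := ⟨⟨hS, hF, hE₀n⟩, hHR, hRS⟩
  have hE₀h : E₀.hyperfocalSubgroup p = E.hyperfocalSubgroup p :=
    hyp_eq_of_pPower hq.tpgroup hHT hE₀i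
  refine ⟨h.sys, ⟨h.sys_saturated, h.sys_le, h.sys_hyp hE₀h, fun D₁ E₁ hD₁ hE₁ P => ?_⟩,
    fun D' hD' hD'F hD'h hres P => ?_⟩
  · obtain rfl := pPower_unique hq.tpgroup hHT hE₀ hE₀i hE₁.1 hE₁.2
    exact hom_eq_of_pPower (h.sys_hyp hE₀h) h.rpgroup hHR hD₁.1 hD₁.2 hE₀
      (h.sys_pPower hE₀h) P
  · obtain ⟨D₁, hD₁, hD₁i, -⟩ :=
      exists_pPowerIndex h.rpgroup hD' (hyp_le_top (F := D') (p := p)) le_rfl
    have heq := hres D₁ E₀ ⟨hD₁, hD₁i⟩ ⟨hE₀, hE₀i⟩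
    have hE₀D := pPower_congr hD'h heq hD₁i
    rw [fusion_le_antisymm (h.sub_le_sys hD' hD'F hD'h hE₀ hE₀D)
      (h.sys_le_sub hD' hD'F hD'h hE₀ hE₀D)]

end Cfsg.Agent.S5143
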