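import Cfsg.Statements.S5152
import Cfsg.Agent.Lib.Fusion.ConstrainedLocal
import Cfsg.Agent.S5096
import Cfsg.Agent.S5097

set_option autoImplicit false
open Cfsg

namespace Cfsg.Agent.S5152

open Cfsg Cfsg.FusionSystem CfsgLib.Fusion

/-- Dichotomy for saturated fusion systems: a saturated fusion system over a finite p-group is of characteristic p-type (the normalizer system of every nontrivial fully normalized subgroup is constrained) or of component type (the centralizer system of some fully normalized subgroup of order p has a component). -/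
theorem result {Ω : Type*} [Group Ω] {S : Subgroup Ω} [Finite S] (p : ℕ) [Fact p.Prime] (hS : IsPGroup p S) (F : Cfsg.FusionSystem S) (hF : F.IsSaturated p) : F.IsOfCharacteristicPType p ∨ F.IsOfComponentType p := by
  refine or_iff_not_imp_right.mpr fun hct U hU hUn E hE => ?_
  set N := normalizerIn S U with hNdef
  have hNS : N ≤ S := normalizerIn_le
  have : Finite N := finite_of_le hNS
  have hNp := isPGroup_of_le hNS hS
  have hUN : U ≤ N := le_normalizerIn hUn.1
  -- an element of order `p` of `U` central in `N_S(U)`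
  have hUnor : (U.subgroupOf N).Normal :=
    Subgroup.normal_subgroupOf_of_le_normalizer inf_le_right
  have hne : U.subgroupOf N ≠ ⊥ := fun h => hU (by
    rw [Subgroup.subgroupOf_eq_bot] at h
    exact h.eq_bot_of_le hUN)
  set Z := U.subgroupOf N ⊓ Subgroup.center N with hZ
  have hZne : Z ≠ ⊥ := CfsgLib.PGroups.inf_center_ne_bot hNp hne
  obtain ⟨z₀, hz₀, hz₀1⟩ := (Subgroup.bot_or_exists_ne_one Z).resolve_left hZne
  obtain ⟨k, hk⟩ := (IsPGroup.iff_card.mp (hNp.to_subgroup Z))
  obtain ⟨z, hz⟩ := exists_prime_orderOf_dvd_card' (G := Z) p (by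
    rcases Nat.eq_zero_or_pos k with rfl | hk0
    · exact absurd (Subgroup.card_eq_one.mp (by simpa using hk)) hZne
    · rw [hk]; exact dvd_pow_self p hk0.ne')
  obtain ⟨hzU, hzc⟩ := Subgroup.mem_inf.mp z.2
  set x : Ω := ((z : N) : Ω) with hxdef
  have hxU : x ∈ U := hzU
  have hxord : orderOf x = p := by rw [hxdef, Subgroup.orderOf_coe, Subgroup.orderOf_coe, hz]
  have hxcom : ∀ n ∈ N, n * x = x * n := fun n hn =>
    congrArg Subtype.val (Subgroup.mem_center_iff.mp hzc ⟨n, hn⟩)
  set X := Subgroup.zpowers x with hXdef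
  have hXU : X ≤ U := Subgroup.zpowers_le.mpr hxU
  have hXS : X ≤ S := hXU.trans hUn.1
  have hNX : N ≤ normalizerIn S X := fun n hn => by
    refine mem_normalizerIn.mpr ⟨hNS hn, centralizer_le_normalizer _ ?_⟩
    refine Subgroup.mem_centralizer_iff.mpr fun y hy => ?_
    obtain ⟨m, rfl⟩ := hy
    exact (Commute.zpow_right (hxcom n hn) m).symm
  obtain ⟨X', hX, hX'n⟩ := exists_fullyNormalized F hXS
  obtain ⟨β, hβ, hβX, hβN⟩ := exists_map_fullyNormalized hS hF hX'n hX
  have hβm := hβ.restrict hNX
  -- the conjugate `U'` of `U`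
  set U' := img U β with hU'def
  have hUU' : F.IsConj U U' := isConj_img (hβm.restrict hUN)
  have hU'S : U' ≤ S := (hβm.restrict hUN).img_le
  have hNU' : img N β ≤ normalizerIn S U' := by
    refine img_le fun n hn => mem_normalizerIn.mpr ⟨hβm.mem hn, ?_⟩
    rw [Subgroup.mem_normalizer_iff_map_conj_eq]
    show U'.map (MulAut.conj (β n)).toMonoidHom = U'
    rw [← img_cj]
    refine (isMor_cj F hU'S (hβm.mem hn)).img_eq_self fun y hy => ?_
    obtain ⟨u, hu, rfl⟩ := (hβm.restrict hUN).mem_img.mp hy
    rw [cj_apply, ← hβm.map_conj hn (hUN hu)]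
    exact mem_img_of_mem β ((Subgroup.mem_normalizer_iff.mp (mem_normalizerIn.mp hn).2 u).mp hu)
  have hcard : Nat.card (normalizerIn S U') ≤ Nat.card N := hUn.2 U' hUU'
  have hrange : img N β = normalizerIn S U' :=
    eq_of_le_of_card normalizerIn_le hNU' (hcard.trans hβm.card_img.ge)
  have hU'n : F.IsFullyNormalized U' := ⟨hU'S, fun R hR => by
    rw [← hrange, hβm.card_img]
    exact hUn.2 R (isConj_trans hUU' hR)⟩
  have hX'U' : X' ≤ U' := hβX ▸ img_mono β hXU
  have hN'C : normalizerIn S U' ≤ centralizerIn S X' := by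
    rw [← hrange]
    refine img_le fun n hn => mem_centralizerIn.mpr ⟨hβm.mem hn, fun y hy => ?_⟩
    obtain ⟨w, hw, rfl⟩ := (hβ.restrict (le_normalizerIn hXS)).mem_img.mp (hβX.ge hy)
    have hwU : w ∈ U := hXU hw
    rw [cj_apply, ← hβm.map_conj hn (hUN hwU)]
    obtain ⟨m, rfl⟩ := hw
    congr 1
    exact cj_fixed_iff.mpr (Commute.zpow_right (hxcom n hn) m)
  have hXcard : Nat.card X' = p := by
    rw [← hβX, (hβ.restrict (le_normalizerIn hXS)).card_img, Nat.card_zpowers, hxord]
  -- the centralizer of `X'` is constrained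
  have hX'c := isFullyCentralized_of_normalized hS hF hX'n
  obtain ⟨C, hC⟩ := Cfsg.Agent.S5097.result F X' hX'n.1
  have hCS : centralizerIn S X' ≤ S := centralizerIn_le
  have : Finite ↥(centralizerIn S X') := finite_of_le hCS
  have hCp := isPGroup_of_le hCS hS
  have hCs := centralizerSystem_isSaturated hS hF hX'c hC
  have hCc : C.IsConstrained p := (constrained_iff_no_component hCp hCs).mpr fun hcomp =>
    hct ⟨X', hXcard, hX'n, C, hC, hcomp⟩
  have hCF : ∀ P f, IsMor C P f → IsMor F P f := fun P f hf =>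
    ((isMor_centralizerSystem hC).mp hf).1
  -- the normalizer of `U'` inside it
  have hU'C : U' ≤ centralizerIn S X' := (le_normalizerIn hU'S).trans hN'C
  have heqN : normalizerIn (centralizerIn S X') U' = normalizerIn S U' :=
    le_antisymm (inf_le_inf_right _ hCS) (le_inf hN'C inf_le_right)
  have hU'Cn : C.IsFullyNormalized U' := ⟨hU'C, fun R hR => by
    obtain ⟨f, hf, rfl⟩ := isConj_iff.mp hR
    rw [heqN]
    have : Finite ↥(S ⊓ Subgroup.normalizer (img U' f : Set Ω)) := finite_of_le inf_le_left
    exact (Subgroup.card_le_of_le (inf_le_inf_right _ hCS)).trans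
      (hU'n.2 _ (isConj_img (hCF _ f hf)))⟩
  obtain ⟨M, hM⟩ := Cfsg.Agent.S5096.result C U' hU'C
  have hMc := constrained_normalizer hCp hCc hU'Cn hM
  obtain ⟨E', hE'⟩ := Cfsg.Agent.S5096.result F U' hU'S
  have : Finite ↥(normalizerIn S U') := finite_of_le normalizerIn_le
  have : Finite ↥(normalizerIn (centralizerIn S X') U') :=
    finite_of_le (heqN.le.trans normalizerIn_le)
  have hN'p := isPGroup_of_le (normalizerIn_le : normalizerIn S U' ≤ S) hS
  have hE'c : E'.IsConstrained p := by
    have hU'core : U' ≤ E'.core := le_core (normalizerSystem_isNormal hU'S hE')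
    refine constrained_of_centralizer hN'p (normalizerSystem_isSaturated hS hF hU'n hE')
      (isPGroup_of_le (heqN.le.trans normalizerIn_le) hS) (centralizerIn_le.trans heqN.ge) hMc
      (le_iff_isMor.mpr fun P f hf => ?_) fun P f g hg hgf hgQ hP hfP => ?_
    · obtain ⟨hfC, hPN, hfm, g, hg, hgf, hgU⟩ := (isMor_normalizerSystem hM).mp hf
      exact (isMor_normalizerSystem hE').mpr ⟨hCF _ _ hfC, hPN.trans heqN.le,
        fun x hx => heqN.le (hfm x hx), g, hCF _ _ hg, hgf, hgU⟩
    · have hgE : IsMor F (P ⊔ E'.core) g := ((isMor_normalizerSystem hE').mp hg).1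
      have hgPU : IsMor F (P ⊔ U') g := hgE.restrict (sup_le_sup_left hU'core P)
      have hPN : P ≤ normalizerIn S U' := hP.trans centralizerIn_le
      have hfN : ∀ x ∈ P, f x ∈ normalizerIn S U' := fun x hx => centralizerIn_le (hfP x hx)
      have hgU : img U' g = U' :=
        (img_congr (g := id) fun x hx => hgQ x (hU'core hx)).trans (img_id U')
      have hgfix : ∀ x ∈ X', g x = x := fun x hx => hgQ x (hU'core (hX'U' hx))
      have hfF : IsMor F P f := (hgPU.restrict le_sup_left).congr hgf
      have hgC : IsMor C (P ⊔ U') g := by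
        refine (isMor_centralizerSystem hC).mpr ⟨hgPU, sup_le (hPN.trans hN'C) hU'C,
          fun x hx => hN'C ?_, g, hgE.restrict (sup_le (sup_le_sup_left hU'core P)
            (le_sup_of_le_right (hX'U'.trans hU'core))), fun _ _ => rfl, hgfix⟩
        have h1 := mem_img_of_mem g hx
        rw [hgPU.img_sup, hgU] at h1
        exact sup_le (img_le fun y hy => hgf y hy ▸ hfN y hy) (le_normalizerIn hU'S) h1
      exact (isMor_normalizerSystem hM).mpr ⟨(hgC.restrict le_sup_left).congr hgf,
        hPN.trans heqN.ge, fun x hx => heqN.ge (hfN x hx), g, hgC, hgf, hgU⟩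
  exact (normalizer_isIso hUn hU'S hβm rfl hNU' hE hE').symm.constrained hN'p hE'c

end Cfsg.Agent.S5152
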