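import Cfsg.Statements.S5341
import Cfsg.Agent.Lib.Fusion.Saturation
-- import your own Cfsg.Agent.* helpers here

set_option autoImplicit false
open Cfsg

namespace Cfsg.Agent.S5341

open Cfsg Cfsg.FusionSystem CfsgLib.Fusion


/-- Let F be a saturated fusion system over a finite p-group S, T a subgroup strongly closed in F, and F′ any fusion system over T all of whose maps are maps of F. For a subgroup Q ≤ T: if Q is fully centralized in F then it is fully centralized in F′, and if Q is fully normalized in F then it is fully normalized in F′. -/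
theorem result {Ω : Type*} [Group Ω] {S : Subgroup Ω} [Finite S] (p : ℕ) [Fact p.Prime] (hS : IsPGroup p S) (F : Cfsg.FusionSystem S) (hF : F.IsSaturated p) (T : Subgroup Ω) (hT : F.StronglyClosed T) (F' : Cfsg.FusionSystem T) (hsub : F'.IsSubsystemOf F) (Q : Subgroup Ω) (hQT : Q ≤ T) : (F.IsFullyCentralized Q → F'.IsFullyCentralized Q) ∧ (F.IsFullyNormalized Q → F'.IsFullyNormalized Q) := by
  have hTS := hT.1
  have hsc := (stronglyClosed_iff.mp hT).2
  have hconj : ∀ R : Subgroup Ω, F'.IsConj Q R → R ≤ T ∧ F.IsConj R Q := by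
    intro R hR
    obtain ⟨f, hf, e⟩ := isConj_iff.mp hR
    exact ⟨(isConj_le hR).2, isConj_symm (isConj_iff.mpr ⟨f, le_iff_isMor.mp hsub _ f hf, e⟩)⟩
  constructor
  · intro hQ
    refine ⟨hQT, fun R hR => ?_⟩
    obtain ⟨hRT, hRQ⟩ := hconj R hR
    obtain ⟨f, hf, hfi⟩ := isConj_iff.mp hRQ
    obtain ⟨g, hg, -, hgi⟩ :=
      exists_map_centralizer (isReceptive_of_centralized hS hF hQ) hf hfi
    have hle : centralizerIn T R ≤ centralizerIn S R := inf_le_inf_right _ hTS
    have hg' : IsMor F (centralizerIn T R) g := hg.restrict (hle.trans le_sup_left)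
    have : Finite T := finite_of_le hTS
    rw [← hg'.card_img]
    have : Finite (centralizerIn T Q) := finite_of_le centralizerIn_le
    refine Subgroup.card_le_of_le (img_le fun x hx => mem_centralizerIn.mpr ⟨?_, ?_⟩)
    · exact hsc _ _ hg' x hx (mem_centralizerIn.mp hx).1
    · exact (mem_centralizerIn.mp (hgi (mem_img_of_mem g (hle hx)))).2
  · intro hQ
    refine ⟨hQT, fun R hR => ?_⟩
    obtain ⟨hRT, hRQ⟩ := hconj R hR
    obtain ⟨g, hg, -, hgi⟩ := exists_map_fullyNormalized hS hF hQ hRQ
    have hle : normalizerIn T R ≤ normalizerIn S R := inf_le_inf_right _ hTS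
    have hg' : IsMor F (normalizerIn T R) g := hg.restrict hle
    have : Finite T := finite_of_le hTS
    rw [← hg'.card_img]
    have : Finite (normalizerIn T Q) := finite_of_le normalizerIn_le
    refine Subgroup.card_le_of_le (img_le fun x hx => mem_normalizerIn.mpr ⟨?_, ?_⟩)
    · exact hsc _ _ hg' x hx (mem_normalizerIn.mp hx).1
    · exact (mem_normalizerIn.mp (hgi (mem_img_of_mem g (hle hx)))).2

end Cfsg.Agent.S5341
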