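import Cfsg.Statements.S5153
import Cfsg.Agent.Lib.Fusion.Subnormal
import Cfsg.Agent.S5341
-- import your own Cfsg.Agent.* helpers here

set_option autoImplicit false
open Cfsg

namespace Cfsg.Agent.S5153

open Cfsg Cfsg.FusionSystem CfsgLib.Fusion


/-- Let F be a saturated fusion system over a finite p-group S and E a subnormal subsystem of F over T. Then every subgroup of T that is fully normalized in F is fully normalized in E. -/
theorem result {Ω : Type*} [Group Ω] {S : Subgroup Ω} [Finite S] (p : ℕ) [Fact p.Prime] (hS : IsPGroup p S) (F : Cfsg.FusionSystem S) (hF : F.IsSaturated p) {T : Subgroup Ω} (E : Cfsg.FusionSystem T) (hE : E.IsSubnormalIn F p) (P : Subgroup Ω) (hPT : P ≤ T) (hP : F.IsFullyNormalized P) : E.IsFullyNormalized P := by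
  have hfin : Finite S := inferInstance
  have hp' : Fact p.Prime := inferInstance
  revert hp' hfin hS hF hPT hP
  induction hE with
  | refl => exact fun _ _ _ hP _ _ => hP
  | step hED hD ih =>
    intro hS hF hPT hP hfin hp'
    have hU := hD.1.2.2.2.1
    have : Finite _ := finite_of_le hU.1
    refine ih (isPGroup_of_le hU.1 hS) hD.1.1 hPT ((Cfsg.Agent.S5341.result _ hS _ hF _ hU _ hD.1.2.2.1 _
      (hPT.trans (subnormal_le hED))).2 hP) ?_ hp'
    assumption

end Cfsg.Agent.S5153
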