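import Cfsg.Statements.S5158
import Cfsg.Agent.Lib.Fusion.Solvable
-- import your own Cfsg.Agent.* helpers here

set_option autoImplicit false
open Cfsg

namespace Cfsg.Agent.S5158

open Cfsg Cfsg.FusionSystem CfsgLib.Fusion


/-- A solvable saturated fusion system over a finite p-group (solvable: for every subgroup R other than S that is strongly closed in F, the factor system of F modulo R has a nontrivial subgroup normal in it) is constrained. -/
theorem result {Ω : Type*} [Group Ω] {S : Subgroup Ω} [Finite S] (p : ℕ) [Fact p.Prime] (hS : IsPGroup p S) (F : Cfsg.FusionSystem S) (hF : F.IsSaturated p) (h : F.IsSolvableSystem) : F.IsConstrained p := by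
  exact constrained_of_abSeries hS hF
    (abSeries_of_solvable hS hF h ⊥ (isNormal_stronglyClosed (isNormal_bot F)))

end Cfsg.Agent.S5158
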