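import Cfsg.Statements.S5159
import Cfsg.Agent.Lib.Fusion.Solvable
import Cfsg.Agent.Lib.Fusion.InvariantNormal
-- import your own Cfsg.Agent.* helpers here

set_option autoImplicit false
open Cfsg Cfsg.FusionSystem CfsgLib.Fusion
open scoped commutatorElement

namespace Cfsg.Agent.S5159

/-- Let F be a saturated fusion system over a finite p-group S, E a normal subsystem over T, and D the factor system of F modulo T (read through any homomorphism on S with kernel T). Then F is solvable if and only if E and D are solvable (solvable, for a system over a subgroup S: for every subgroup R other than S that is strongly closed in F, the factor system of F modulo R has a nontrivial subgroup normal in it). -/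
theorem result {Ω : Type*} [Group Ω] {S : Subgroup Ω} [Finite S] (p : ℕ) [Fact p.Prime] (hS : IsPGroup p S) (F : Cfsg.FusionSystem S) (hF : F.IsSaturated p) {T : Subgroup Ω} (E : Cfsg.FusionSystem T) (hE : E.IsNormalIn F p) {Ω' : Type*} [Group Ω'] {S' : Subgroup Ω'} (θ : S →* Ω') (D : Cfsg.FusionSystem S') (hD : F.IsFactorSystem T θ D) : F.IsSolvableSystem ↔ (E.IsSolvableSystem ∧ D.IsSolvableSystem) := by
  obtain ⟨⟨hEs, -, hinv⟩, -⟩ := hE
  obtain ⟨hsub, hT, -, hfrat⟩ := id hinv
  obtain ⟨hTS, hscT⟩ := stronglyClosed_iff.mp hT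
  have : Finite T := finite_of_le hTS
  have hTp : IsPGroup p T := isPGroup_of_le hTS hS
  obtain ⟨-, hker, hrange, -⟩ := id hD
  have hDs := factor_isSaturated hS hF hT hD
  have : Finite S' := hrange ▸ Finite.of_surjective _ θ.rangeRestrict_surjective
  have hS' : IsPGroup p S' := hrange ▸ hS.of_surjective _ θ.rangeRestrict_surjective
  have key : ∀ {Ω₁ : Type _} [Group Ω₁] {S₁ : Subgroup Ω₁} [Finite S₁] (G : Cfsg.FusionSystem S₁),
      IsPGroup p S₁ → G.IsSaturated p → (G.IsSolvableSystem ↔ AbSeries G ⊥) := fun G h1 h2 =>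
    ⟨fun h => abSeries_of_solvable h1 h2 h ⊥ (isNormal_stronglyClosed (isNormal_bot G)),
      solvable_of_abSeries h1 h2⟩
  rw [key F hS hF, key E hTp hEs,
    show D.IsSolvableSystem ↔ AbSeries D ⊥ from
      ⟨fun h => abSeries_of_solvable hS' hDs h ⊥ (isNormal_stronglyClosed (isNormal_bot D)),
        solvable_of_abSeries hS' hDs⟩]
  constructor
  · rintro ⟨n, C, h0, hn, hmono, hsc, hab⟩
    refine ⟨⟨n, fun i => C i ⊓ T, by simp [h0], by simp [hn, inf_eq_right.mpr hTS],
      fun i j hij => inf_le_inf_right T (hmono hij), fun i => ?_, fun i hi => ?_⟩, ?_⟩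
    · refine stronglyClosed_iff.mpr ⟨inf_le_right, fun P f hf x hxP hx => ?_⟩
      have hf' := le_iff_isMor.mp hsub P f hf
      exact ⟨(stronglyClosed_iff.mp (hsc i)).2 P f hf' x hxP hx.1, hf.mem hxP⟩
    · exact le_inf (le_trans (Subgroup.commutator_mono inf_le_left inf_le_left) (hab i hi))
        (le_trans (Subgroup.commutator_mono inf_le_right inf_le_right)
          (Subgroup.commutator_le_self T))
    · refine ⟨n, fun i => imageAlong θ (C i ⊔ T), ?_, ?_, fun i j hij => ?_, fun i => ?_,
        fun i hi => ?_⟩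
      · show imageAlong θ (C 0 ⊔ T) = ⊥
        rw [h0, bot_sup_eq, eq_bot_iff]
        rintro _ ⟨x, hx, rfl⟩
        exact Subgroup.mem_bot.mpr ((hker x).mpr hx)
      · show imageAlong θ (C n ⊔ T) = S'
        rw [hn, sup_eq_left.mpr hTS, ← hrange, imageAlong, Subgroup.subgroupOf_self,
          ← MonoidHom.range_eq_map]
      · exact Subgroup.map_mono fun x hx => sup_le_sup_right (hmono hij) T hx
      · exact stronglyClosed_image hD (stronglyClosed_sup hS hF (hsc i) hT) le_sup_right
      · have hle : ∀ j, imageAlong θ (C j ⊔ T) ≤ ((C j).subgroupOf S).map θ := by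
          intro j
          rintro _ ⟨x, hx, rfl⟩
          have hxX : (x : Ω) ∈ ((C j ⊔ T : Subgroup Ω) : Set Ω) := hx
          rw [Subgroup.coe_mul_of_left_le_normalizer_right _ _
            ((hsc j).1.trans (stronglyClosed_le_normalizer hT))] at hxX
          obtain ⟨a, ha, b, hb, e⟩ := hxX
          refine ⟨⟨a, (hsc j).1 ha⟩, ha, ?_⟩
          have e2 : x = ⟨a, (hsc j).1 ha⟩ * ⟨b, hTS hb⟩ := Subtype.ext e.symm
          rw [e2, map_mul, (hker ⟨b, hTS hb⟩).mpr hb, mul_one]
        refine le_trans (Subgroup.commutator_mono (hle _) (hle _)) ?_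
        rw [← Subgroup.map_commutator]
        refine Subgroup.map_mono (Subgroup.commutator_le.mpr fun a ha b hb => ?_)
        exact Subgroup.mem_sup_left (hab i hi (Subgroup.commutator_mem_commutator
          (show (a : Ω) ∈ C (i + 1) from ha) (show (b : Ω) ∈ C (i + 1) from hb)))
  · rintro ⟨⟨n, C, h0, hn, hmono, hsc, hab⟩, ⟨m, X, hX0, hXm, hXmono, hXsc, hXab⟩⟩
    -- make the series of `E` invariant
    let I : ℕ → Subgroup Ω := fun i => T ⊓ ⨅ α : ↥(F.autGroup T), img (C i) (autFun (α : MulAut T))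
    have hmem : ∀ i x, x ∈ I i ↔ x ∈ T ∧ ∀ α ∈ F.autGroup T, autFun α x ∈ C i := by
      intro i x
      simp only [I, Subgroup.mem_inf, Subgroup.mem_iInf]
      refine and_congr_right fun hx => ⟨fun h α hα => ?_, fun h α => ?_⟩
      · obtain ⟨y, hy, e⟩ := ((isMor_autFun hTS (inv_mem hα)).restrict (hsc i).1).mem_img.mp
          (h ⟨α⁻¹, inv_mem hα⟩)
        rwa [← e, autFun_inv_right α ((hsc i).1 hy)]
      · have h1 := mem_img_of_mem (autFun (α : MulAut T)) (h _ (inv_mem α.2))
        rwa [autFun_inv_right _ hx] at h1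
    have hIsc : ∀ i, F.StronglyClosed (I i) := by
      intro i
      refine stronglyClosed_iff.mpr ⟨inf_le_left.trans hTS, fun P f hf x hxP hx => ?_⟩
      obtain ⟨hxT, hxC⟩ := (hmem i x).mp hx
      refine (hmem i _).mpr ⟨hscT P f hf x hxP hxT, fun α hα => ?_⟩
      obtain ⟨φ, hφ, hφf⟩ := (hf.restrict (inf_le_left : P ⊓ T ≤ P))
      obtain ⟨β, hβ, φ₀, hφ₀, he⟩ := hfrat _ inf_le_right φ hφ
      have hy : φ₀ ⟨x, hxP, hxT⟩ ∈ T := (E.le_of_mem hφ₀).2 _
      have e : f x = autFun β (φ₀ ⟨x, hxP, hxT⟩) := by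
        rw [← hφf ⟨x, hxP, hxT⟩, autFun_of_mem β hy]
        exact he ⟨x, hxP, hxT⟩ hy
      rw [e, ← autFun_mul α β hy]
      -- transport the map of `E` by `αβ`
      obtain ⟨k, hk, hke⟩ := (isMor_of_mem hφ₀).transport hinv (mul_mem hα hβ)
      have h1 := hke x ⟨hxP, hxT⟩
      rw [toFun_of_mem φ₀ (⟨hxP, hxT⟩ : x ∈ P ⊓ T)] at h1
      rw [← h1]
      exact (stronglyClosed_iff.mp (hsc i)).2 _ k hk _ (mem_img_of_mem _ ⟨hxP, hxT⟩)
        (hxC _ (mul_mem hα hβ))
    have hIab : ∀ i < n, ⁅I (i + 1), I (i + 1)⁆ ≤ I i := fun i hi =>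
      Subgroup.commutator_le.mpr fun a ha b hb => by
        obtain ⟨haT, haC⟩ := (hmem _ a).mp ha
        obtain ⟨hbT, hbC⟩ := (hmem _ b).mp hb
        refine (hmem i _).mpr ⟨Subgroup.commutator_le_self T
          (Subgroup.commutator_mem_commutator haT hbT), fun α hα => ?_⟩
        have hm := isMor_autFun hTS hα
        rw [commutatorElement_def, hm.map_mul (T.mul_mem (T.mul_mem haT hbT) (T.inv_mem haT))
          (T.inv_mem hbT), hm.map_mul (T.mul_mem haT hbT) (T.inv_mem haT), hm.map_mul haT hbT,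
          hm.map_inv haT, hm.map_inv hbT, ← commutatorElement_def]
        exact hab i hi (Subgroup.commutator_mem_commutator (haC α hα) (hbC α hα))
    have hI0 : I 0 = ⊥ := le_bot_iff.mp fun x hx => by
      obtain ⟨hxT, hxC⟩ := (hmem 0 x).mp hx
      have := hxC 1 (one_mem _)
      rwa [autFun_one hxT, h0] at this
    have hIn : I n = T := le_antisymm inf_le_left fun x hx =>
      (hmem n x).mpr ⟨hx, fun α _ => hn.ge (autFun_mem α hx)⟩
    have hImono : Monotone I := fun i j hij x hx => by
      obtain ⟨hxT, hxC⟩ := (hmem i x).mp hx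
      exact (hmem j x).mpr ⟨hxT, fun α hα => hmono hij (hxC α hα)⟩
    let J : ℕ → Subgroup Ω := fun i => if i ≤ n then I i else preimageAlong θ (X (i - n))
    have hpre0 : preimageAlong θ (X 0) = T := by
      ext x
      rw [hX0, mem_preimageAlong]
      exact ⟨fun ⟨hx, h⟩ => (hker ⟨x, hx⟩).mp (Subgroup.mem_bot.mp h),
        fun hx => ⟨hTS hx, Subgroup.mem_bot.mpr ((hker ⟨x, hTS hx⟩).mpr hx)⟩⟩
    have hJhigh : ∀ i, n ≤ i → J i = preimageAlong θ (X (i - n)) := by
      intro i hi
      rcases eq_or_lt_of_le hi with rfl | h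
      · simp [J, hIn, hpre0]
      · simp [J, not_le.mpr h]
    have hJlow : ∀ i, i ≤ n → J i = I i := fun i hi => by simp [J, hi]
    refine ⟨n + m, J, by rw [hJlow 0 (Nat.zero_le n), hI0], ?_, monotone_nat_of_le_succ fun i => ?_,
      fun i => ?_, fun i hi => ?_⟩
    · rw [hJhigh _ (Nat.le_add_right n m), Nat.add_sub_cancel_left, hXm]
      refine le_antisymm (preimageAlong_le _) fun x hx => mem_preimageAlong.mpr ⟨hx, ?_⟩
      exact hrange ▸ ⟨_, rfl⟩
    · rcases lt_or_ge i n with h | h
      · rw [hJlow i h.le, hJlow (i + 1) h]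
        exact hImono i.le_succ
      · rw [hJhigh i h, hJhigh (i + 1) (by omega)]
        exact Subgroup.map_mono (Subgroup.comap_mono (hXmono (by omega)))
    · rcases le_or_gt i n with h | h
      · rw [hJlow i h]; exact hIsc i
      · rw [hJhigh i h.le]; exact stronglyClosed_preimage hS hF hT hD (hXsc _)
    · rcases lt_or_ge i n with h | h
      · rw [hJlow i h.le, hJlow (i + 1) h]
        exact hIab i h
      · rw [hJhigh i h, hJhigh (i + 1) (by omega), show i + 1 - n = i - n + 1 by omega]
        refine Subgroup.commutator_le.mpr fun a ha b hb => ?_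
        obtain ⟨haS, ha'⟩ := mem_preimageAlong.mp ha
        obtain ⟨hbS, hb'⟩ := mem_preimageAlong.mp hb
        refine mem_preimageAlong.mpr ⟨Subgroup.commutator_le_self S
          (Subgroup.commutator_mem_commutator haS hbS), ?_⟩
        have h2 := hXab (i - n) (by omega) (Subgroup.commutator_mem_commutator ha' hb')
        rwa [← map_commutatorElement] at h2

end Cfsg.Agent.S5159
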