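import Cfsg.Statements.S5164
import Mathlib

set_option autoImplicit false
set_option linter.style.haveILetI false
open Cfsg

namespace Cfsg.Agent.S5164

/-- A non-abelian `p`-group of permutations of `p²` points. -/
lemma exists_wreath (p : ℕ) [Fact p.Prime] :
    ∃ W : Subgroup (Equiv.Perm (ZMod p × ZMod p)), IsPGroup p W ∧
      ∃ a ∈ W, ∃ b ∈ W, a * b ≠ b * a := by
  let mkp : ZMod p × (ZMod p → ZMod p) → Equiv.Perm (ZMod p × ZMod p) := fun cf =>
    { toFun := fun x => (x.1 + cf.1, x.2 + cf.2 x.1)
      invFun := fun x => (x.1 - cf.1, x.2 - cf.2 (x.1 - cf.1))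
      left_inv := fun x => by simp
      right_inv := fun x => by simp }
  let W : Subgroup (Equiv.Perm (ZMod p × ZMod p)) :=
    { carrier := Set.range mkp
      one_mem' := ⟨(0, 0), by ext <;> simp [mkp]⟩
      mul_mem' := by
        rintro _ _ ⟨⟨c, f⟩, rfl⟩ ⟨⟨d, g⟩, rfl⟩
        exact ⟨(d + c, fun i => g i + f (i + d)), by ext <;> simp [mkp, add_assoc]⟩
      inv_mem' := by
        rintro _ ⟨⟨c, f⟩, rfl⟩
        refine ⟨(-c, fun i => -f (i - c)), Equiv.ext fun x => ?_⟩
        show _ = (mkp (c, f)).symm x
        simp [mkp, sub_eq_add_neg] }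
  refine ⟨W, ?_, mkp (1, 0), ⟨_, rfl⟩, mkp (0, fun i => if i = 0 then 1 else 0), ⟨_, rfl⟩, ?_⟩
  · have hinj : Function.Injective mkp := by
      rintro ⟨c, f⟩ ⟨d, g⟩ h
      have h1 := fun x => Equiv.ext_iff.1 h x
      refine Prod.ext ?_ (funext fun i => ?_)
      · simpa [mkp] using congrArg Prod.fst (h1 (0, 0))
      · simpa [mkp] using congrArg Prod.snd (h1 (i, 0))
    refine IsPGroup.of_card (n := p + 1) ?_
    show Nat.card (Set.range mkp) = _
    rw [Nat.card_range_of_injective hinj, Nat.card_prod, Nat.card_fun, Nat.card_zmod, pow_succ']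
  · intro h
    have h1 := congrArg Prod.snd (Equiv.ext_iff.1 h (0, 0))
    simp [mkp] at h1


/-- For n ≥ 6 and a prime p, a nontrivial Sylow p-subgroup of the alternating group of degree n is abelian if and only if n < p². -/
theorem result (n p : ℕ) (hn : 6 ≤ n) [Fact p.Prime] (S : Sylow p (alternatingGroup (Fin n))) (hS : (S : Subgroup (alternatingGroup (Fin n))) ≠ ⊥) : IsMulCommutative S ↔ n < p ^ 2 := by
  classical
  have hp : p.Prime := Fact.out
  constructor
  · intro hab
    by_contra hnp
    rw [not_lt] at hnp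
    -- a non-abelian `p`-subgroup of the symmetric group on `p²` points
    obtain ⟨W, hW, a, ha, b, hb, hne⟩ := exists_wreath p
    obtain ⟨f, hf⟩ : ∃ f : W →* alternatingGroup (Fin n), Function.Injective f := by
      rcases hp.eq_two_or_odd' with h2 | hodd
      · subst h2
        let g : Equiv.Perm (ZMod 2 × ZMod 2) →* Equiv.Perm (Fin 2) :=
          { toFun := fun σ => if Equiv.Perm.sign σ = 1 then 1 else Equiv.swap 0 1
            map_one' := by simp
            map_mul' := fun σ τ => by
              rcases Int.units_eq_one_or (Equiv.Perm.sign σ) with h | h <;>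
              rcases Int.units_eq_one_or (Equiv.Perm.sign τ) with h' | h' <;>
              simp [map_mul, h, h'] }
        have hg : ∀ σ, Equiv.Perm.sign (g σ) = Equiv.Perm.sign σ := fun σ => by
          rcases Int.units_eq_one_or (Equiv.Perm.sign σ) with h | h <;> simp [g, h]
        let ι : (ZMod 2 × ZMod 2) ⊕ Fin 2 ↪ Fin n :=
          Nonempty.some (Function.Embedding.nonempty_of_card_le (by simpa using hn))
        let F : Equiv.Perm (ZMod 2 × ZMod 2) →* Equiv.Perm (Fin n) :=
          (Equiv.Perm.viaEmbeddingHom ι).comp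
            ((Equiv.Perm.sumCongrHom _ _).comp ((MonoidHom.id _).prod g))
        have hFA : ∀ σ, F σ ∈ alternatingGroup (Fin n) := fun σ => by
          rw [Equiv.Perm.mem_alternatingGroup]
          show Equiv.Perm.sign (Equiv.Perm.viaEmbedding (Equiv.sumCongr σ (g σ)) ι) = 1
          rw [Equiv.Perm.viaEmbedding, Equiv.Perm.sign_extendDomain, Equiv.Perm.sign_sumCongr, hg,
            Int.units_mul_self]
        refine ⟨(F.codRestrict _ hFA).comp W.subtype, ?_⟩
        intro x y h
        have h1 : F x = F y := congrArg Subtype.val h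
        have h2 := Equiv.Perm.sumCongrHom_injective (Equiv.Perm.viaEmbeddingHom_injective ι h1)
        exact Subtype.ext (congrArg Prod.fst h2)
      · let ι : ZMod p × ZMod p ↪ Fin n :=
          Nonempty.some (Function.Embedding.nonempty_of_card_le (by simpa [← sq] using hnp))
        let F : W →* Equiv.Perm (Fin n) := (Equiv.Perm.viaEmbeddingHom ι).comp W.subtype
        have hFA : ∀ σ, F σ ∈ alternatingGroup (Fin n) := fun σ => by
          rw [Equiv.Perm.mem_alternatingGroup]
          obtain ⟨k, hk⟩ := hW (σ)
          have h1 : (Equiv.Perm.sign (F σ)) ^ p ^ k = 1 := by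
            rw [← map_pow, ← map_pow, hk, map_one, map_one]
          rcases Int.units_eq_one_or (Equiv.Perm.sign (F σ)) with h | h
          · exact h
          · rw [h, (hodd.pow).neg_one_pow] at h1
            exact absurd h1 (by decide)
        exact ⟨F.codRestrict _ hFA, fun x y h => Subtype.ext
          (Equiv.Perm.viaEmbeddingHom_injective ι (congrArg Subtype.val h))⟩
    obtain ⟨T, hT⟩ := ((hW.to_subgroup ⊤).map f).exists_le_sylow
    let e := Sylow.equiv S T
    have hT2 : ∀ x y : (T : Subgroup (alternatingGroup (Fin n))), x * y = y * x := fun x y =>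
      e.symm.injective (by rw [map_mul, map_mul]; exact hab.is_comm.comm _ _)
    have := congrArg Subtype.val (hT2 ⟨_, hT ⟨⟨a, ha⟩, trivial, rfl⟩⟩ ⟨_, hT ⟨⟨b, hb⟩, trivial, rfl⟩⟩)
    have h2 : f (⟨a, ha⟩ * ⟨b, hb⟩) = f (⟨b, hb⟩ * ⟨a, ha⟩) := by
      rw [map_mul, map_mul]; exact this
    exact hne (congrArg Subtype.val (hf h2))
  · intro hnp
    set Q : Subgroup (Equiv.Perm (Fin n)) :=
      (S : Subgroup (alternatingGroup (Fin n))).map (alternatingGroup (Fin n)).subtype
    have hQ : IsPGroup p Q := S.isPGroup'.map _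
    have key : ∀ a b : Q, a * b = b * a := by
      intro a b
      refine Subtype.ext (Equiv.ext fun x => ?_)
      let O := MulAction.orbit Q x
      obtain ⟨k, hk⟩ := hQ.card_orbit x
      have hk1 : k ≤ 1 := by
        have hle : Nat.card O ≤ n := by
          simpa using Nat.card_le_card_of_injective (fun y : O => (y : Fin n)) Subtype.val_injective
        by_contra h
        have := Nat.pow_le_pow_right hp.pos (show 2 ≤ k by omega)
        rw [hk] at hle
        omega
      let φ := MulAction.toPermHom Q O
      obtain ⟨l, hl⟩ := IsPGroup.iff_card.1 (hQ.of_surjective φ.rangeRestrict φ.rangeRestrict_surjective)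
      have hdvd : Nat.card φ.range ∣ (Nat.card O).factorial := by
        rw [← Nat.card_perm]; exact φ.range.card_subgroup_dvd_card
      haveI : IsCyclic φ.range := by
        rcases Nat.le_one_iff_eq_zero_or_eq_one.1 hk1 with rfl | rfl
        · rw [hk, pow_zero, Nat.factorial_one, Nat.dvd_one] at hdvd
          haveI := (Nat.card_eq_one_iff_unique.1 hdvd).1
          exact isCyclic_of_subsingleton
        · rw [hk, pow_one, hl] at hdvd
          rcases Nat.lt_or_ge l 2 with h | h
          · rcases Nat.le_one_iff_eq_zero_or_eq_one.1 (Nat.lt_succ_iff.1 h) with rfl | rfl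
            · rw [pow_zero] at hl
              haveI := (Nat.card_eq_one_iff_unique.1 hl).1
              exact isCyclic_of_subsingleton
            · exact isCyclic_of_prime_card (p := p) (by simpa using hl)
          · exfalso
            have h1 := (pow_dvd_pow p h).trans hdvd
            rw [← Nat.mul_factorial_pred hp.ne_zero, sq] at h1
            have h2 := (hp.dvd_factorial).1 (Nat.dvd_of_mul_dvd_mul_left hp.pos h1)
            have := hp.pos
            omega
      have hc := congrArg Subtype.val (IsCyclic.isMulCommutative.is_comm.comm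
        (φ.rangeRestrict a) (φ.rangeRestrict b))
      have h3 := congrArg Subtype.val (Equiv.ext_iff.1 hc ⟨x, MulAction.mem_orbit_self x⟩)
      exact h3
    refine ⟨⟨fun a b => ?_⟩⟩
    have := key ⟨_, ⟨_, a.2, rfl⟩⟩ ⟨_, ⟨_, b.2, rfl⟩⟩
    exact Subtype.ext (Subtype.ext (congrArg Subtype.val this :))

end Cfsg.Agent.S5164
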