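import Cfsg.Statements.S5169
import Cfsg.Agent.Lib.Involutions.MathieuSylowM23

set_option autoImplicit false
open Cfsg

namespace Cfsg.Agent.S5169
open CfsgLib.Involutions.MathieuSylow.M23 in

/-- The 2-fusion system of the Mathieu group M₂₃ (as the explicit permutation group carved out of the automorphism group of the binary Golay code) on a Sylow 2-subgroup is simple: saturated, over a nontrivial 2-group, with no normal subsystem other than the trivial one and itself. -/
theorem result (S : Sylow 2 Cfsg.Spor.M23) : (Cfsg.groupFusionSystem (S : Subgroup Cfsg.Spor.M23)).IsSimple 2 := by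
  refine CfsgLib.Involutions.MathieuSylow.isSimple_of_cert (masks := []) (prev := [23]) CfsgLib.MathieuOut.stabG_M23
    (by decide) (F := listF) (R := listR) (k := 7) (N := 10200960) ?_ ?_ (by decide) (by norm_num)
    (by decide +kernel) (z := cz) (by decide +kernel) (by decide +kernel) (by decide +kernel)
    steps (by decide +kernel) sqW (by decide +kernel) true good gw (by decide +kernel) S
  · exact CfsgLib.MathieuOut.natCard_M23
  · rw [show (10200960 : ℕ) = 2 ^ 7 * 79695 by norm_num, Nat.factorization_mul (by norm_num) (by norm_num),
      Finsupp.add_apply, Nat.factorization_eq_zero_of_not_dvd (by norm_num : ¬ 2 ∣ 79695),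
      Nat.Prime.factorization_pow Nat.prime_two]
    simp

end Cfsg.Agent.S5169
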