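import Cfsg.Statements.S5170
import Cfsg.Agent.Lib.Involutions.MathieuSylowM24

set_option autoImplicit false
open Cfsg

namespace Cfsg.Agent.S5170
open CfsgLib.Involutions.MathieuSylow.M24 in

/-- The 2-fusion system of the Mathieu group M₂₄ (as the explicit permutation group of the 24 points preserving the binary Golay code) on a Sylow 2-subgroup is simple: saturated, over a nontrivial 2-group, with no normal subsystem other than the trivial one and itself. -/
theorem result (S : Sylow 2 Cfsg.M24) : (Cfsg.groupFusionSystem (S : Subgroup Cfsg.M24)).IsSimple 2 := by
  refine CfsgLib.Involutions.MathieuSylow.isSimple_of_cert (masks := []) (prev := []) CfsgLib.MathieuOut.stabG_M24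
    (by decide) (F := listF) (R := listR) (k := 10) (N := 244823040) ?_ ?_ (by decide) (by norm_num)
    (by decide +kernel) (z := cz) (by decide +kernel) (by decide +kernel) (by decide +kernel)
    steps (by decide +kernel) sqW (by decide +kernel) false good gw (by decide +kernel) S
  · exact CfsgLib.Spor.natCard_M24
  · rw [show (244823040 : ℕ) = 2 ^ 10 * 239085 by norm_num, Nat.factorization_mul (by norm_num) (by norm_num),
      Finsupp.add_apply, Nat.factorization_eq_zero_of_not_dvd (by norm_num : ¬ 2 ∣ 239085),
      Nat.Prime.factorization_pow Nat.prime_two]
    simp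

end Cfsg.Agent.S5170
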