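import Cfsg.Statements.S5182
import Cfsg.Agent.Lib.Fusion.RankThree.Pearl

set_option autoImplicit false
universe u
open Cfsg

namespace Cfsg.Agent.S5182

/-- Let p ≥ 5 be a prime, S a finite p-group of sectional p-rank exactly 3, and F a saturated fusion system over S whose largest subgroup normal in F is trivial. Then F has an essential subgroup that is either elementary abelian of order p² or extraspecial of order p³ and exponent p. -/
theorem result {Ω : Type u} [Group Ω] {S : Subgroup Ω} [Finite S] (p : ℕ) [Fact p.Prime] (hp : 5 ≤ p) (hS : IsPGroup p S) (hsr : Cfsg.SectionalPRankLE p 3 ↥S ∧ ¬ Cfsg.SectionalPRankLE p 2 ↥S)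
    (F : Cfsg.FusionSystem S) (hF : F.IsSaturated p) (hO : F.core = ⊥) :
    ∃ E : Subgroup Ω, (F.IsEssential p E ∧ ((Cfsg.IsElementaryAbelian p E ∧ Nat.card E = p ^ 2) ∨
        (Cfsg.IsExtraspecial p ↥E ∧ Nat.card E = p ^ 3 ∧ ∀ x ∈ E, x ^ p = 1))) := by
  obtain ⟨hrank, hsr2⟩ := hsr
  by_contra hnone
  push Not at hnone
  exact CfsgLib.Fusion.RankThree.false_of_no_pearl hp hS hrank hsr2 hF hO fun E hE h => by
    obtain ⟨h1, h2⟩ := hnone E hE
    rcases h with ⟨ha, hc⟩ | ⟨ha, hc, he⟩
    · exact h1 ha hc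
    · obtain ⟨x, hx, hxp⟩ := h2 ha hc
      exact hxp (he x hx)

end Cfsg.Agent.S5182
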