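import Cfsg.Statements.S5188
import Cfsg.Agent.Lib.PGroups.SmallCharSeriesFour
import Cfsg.Agent.Lib.Fusion.SmallEssentialAbelian

open CfsgLib.PGroups.SmallSeries

set_option autoImplicit false
universe u
open Cfsg

namespace Cfsg.Agent.S5188

/-- Let F be a saturated fusion system over a finite p-group S and H an essential subgroup of order p⁴. Then H is isomorphic to one of: C_p⁴ or C_{p²} × C_p × C_p (any p); C_{p²} × C_{p²} with p ∈ {2, 3}; p^{1+2}_+ × C_p with p odd (the direct product of an extraspecial group of order p³ and exponent p with a group of order p); Q₈ × C₂ (p = 2); or the non-abelian group of order p⁴ of exponent p² whose centre is cyclic of order p² (the central product of an extraspecial group of order p³ with a cyclic group of order p²; for p = 2 this is D₈ ∘ C₄). -/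
theorem result {Ω : Type u} [Group Ω] {S : Subgroup Ω} [Finite S] (p : ℕ) [Fact p.Prime] (hS : IsPGroup p S)
    (F : Cfsg.FusionSystem S) (hF : F.IsSaturated p) (H : Subgroup Ω) (hH : F.IsEssential p H) (hcard : Nat.card H = p ^ 4) :
    Cfsg.IsElementaryAbelian p H ∨
      Nonempty (↥H ≃* Multiplicative (ZMod (p ^ 2) × ZMod p × ZMod p)) ∨
      ((p = 2 ∨ p = 3) ∧ Nonempty (↥H ≃* Multiplicative (ZMod (p ^ 2) × ZMod (p ^ 2)))) ∨
      (Odd p ∧ ∃ (E : Type) (_ : Group E) (_ : Finite E), Cfsg.IsExtraspecial p E ∧ Nat.card E = p ^ 3 ∧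
        (∀ x : E, x ^ p = 1) ∧ Nonempty (↥H ≃* E × Multiplicative (ZMod p))) ∨
      (p = 2 ∧ Nonempty (↥H ≃* QuaternionGroup 2 × Multiplicative (ZMod 2))) ∨
      (¬ IsMulCommutative ↥H ∧ (∀ x ∈ H, x ^ (p ^ 2) = 1) ∧ IsCyclic ↥(Subgroup.center ↥H) ∧
        Nat.card (Subgroup.center ↥H) = p ^ 2) := by
  haveI : Finite H := Nat.finite_of_card_ne_zero
    (hcard ▸ pow_ne_zero 4 (Fact.out : p.Prime).ne_zero)
  have hpp : p.Prime := Fact.out
  have hs : ¬ CharLineSeries p ↥H := CfsgLib.Fusion.SmallEss.not_charLineSeries hS hF hH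
  by_cases hab : IsMulCommutative ↥H
  · letI : CommGroup ↥H := { (inferInstance : Group ↥H) with mul_comm := hab.is_comm.comm }
    have hP := IsPGroup.of_card hcard
    set f := powMonoidHom (α := ↥H) p with hf
    obtain ⟨i, hi⟩ := CfsgLib.PGroups.card_subgroup_eq_pow hP f.range
    rcases i with _ | _ | i
    · left
      rw [pow_zero, Subgroup.card_eq_one] at hi
      exact ⟨hab, fun a ha => congrArg Subtype.val
        (Subgroup.mem_bot.mp (hi ▸ ⟨(⟨a, ha⟩ : H), rfl⟩) : (⟨a, ha⟩ : H) ^ p = 1)⟩
    · exact Or.inr (Or.inl (nonempty_iso_of_pow_range hcard (hi.trans (pow_one p))))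
    · have hle : f.range ≤ frattini ↥H := by
        rintro _ ⟨x, rfl⟩
        exact CfsgLib.PGroups.pow_mem_frattini hP x
      have hrk : (frattini ↥H).index ≤ p ^ 2 := by
        refine (Nat.le_of_dvd (Nat.pos_of_ne_zero Subgroup.FiniteIndex.index_ne_zero)
          (Subgroup.index_dvd_of_le hle)).trans ?_
        refine Nat.le_of_mul_le_mul_left ?_ (pow_pos hpp.pos 2)
        have h := f.range.card_mul_index
        rw [hi, hcard] at h
        rw [← pow_add, ← h]
        exact Nat.mul_le_mul_right _ (Nat.pow_le_pow_right hpp.pos (by omega))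
      rcases CfsgLib.Fusion.SmallEss.two_generated_essential hS hF hH hab.is_comm.comm hrk with
        ⟨-, h⟩ | ⟨hp3, k, ⟨e⟩⟩
      · have := Nat.pow_right_injective hpp.two_le (hcard.symm.trans h)
        omega
      · have hk := Nat.card_congr e.toEquiv
        rw [hcard, Nat.card_congr Multiplicative.toAdd, Nat.card_prod, Nat.card_zmod, ← pow_add] at hk
        obtain rfl : k = 2 := by
          have := Nat.pow_right_injective hpp.two_le hk; omega
        refine Or.inr (Or.inr (Or.inl ⟨?_, ⟨e⟩⟩))
        have := hpp.two_le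
        omega
  · rcases card_eq_sq_or hcard hab with hZ | hZ
    · exact (hs (series_of_card_center hcard hab hZ)).elim
    rcases order_p4_class_two hcard hab hZ with h | h | h | h
    · exact (hs h).elim
    · exact Or.inr (Or.inr (Or.inr (Or.inl h)))
    · exact Or.inr (Or.inr (Or.inr (Or.inr (Or.inl h))))
    · exact Or.inr (Or.inr (Or.inr (Or.inr (Or.inr
        ⟨hab, fun x hx => congrArg Subtype.val (h.1 ⟨x, hx⟩), h.2, hZ⟩))))

end Cfsg.Agent.S5188
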