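import Cfsg.Statements.S5191
import Cfsg.Agent.Lib.Fusion.Group
-- import your own Cfsg.Agent.* helpers here

set_option autoImplicit false
open Cfsg

namespace Cfsg.Agent.S5191

open Cfsg Cfsg.FusionSystem CfsgLib.Fusion


/-- Fusion in a finite group G and in its quotient by O_{p'}(G) agree. Let S be a Sylow p-subgroup of G, N = O_{p'}(G) and P ≤ S. If an element of G/N conjugates the image of P into the image of S, then some element g of G conjugates P into S and induces the same map on P modulo N. (Together with the injectivity of S → G/N this says that g ↦ gN induces an isomorphism of the fusion system of G on S with that of G/N on SN/N.) -/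
theorem result {G : Type*} [Group G] [Finite G] {p : ℕ} [Fact p.Prime]
    [hN : (Cfsg.pPrimeCore p G).Normal] (S : Sylow p G) (P : Subgroup G) (hP : P ≤ (S : Subgroup G))
    (γ : G ⧸ Cfsg.pPrimeCore p G)
    (hγ : ∀ x ∈ P, γ * QuotientGroup.mk x * γ⁻¹ ∈ ((S : Subgroup G).map (QuotientGroup.mk' (Cfsg.pPrimeCore p G)))) :
    ∃ g : G, ∀ x ∈ P, g * x * g⁻¹ ∈ S ∧
      (QuotientGroup.mk (g * x * g⁻¹) : G ⧸ Cfsg.pPrimeCore p G) = γ * QuotientGroup.mk x * γ⁻¹ := by
  obtain ⟨g₀, rfl⟩ := QuotientGroup.mk_surjective γ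
  let N := Cfsg.pPrimeCore p G
  have hP' : IsPGroup p (img P (cj g₀)) := isPGroup_img_cj (isPGroup_of_le hP S.2) g₀
  have hle : img P (cj g₀) ≤ (S : Subgroup G) ⊔ N := by
    refine img_le fun x hx => ?_
    obtain ⟨s, hs, e⟩ := hγ x hx
    have he : (s : G ⧸ N) = ((cj g₀ x : G) : G ⧸ N) := e
    have h1 := Subgroup.mul_mem _ (Subgroup.mem_sup_left (T := N) hs)
      (Subgroup.mem_sup_right (S := (S : Subgroup G)) (QuotientGroup.eq.mp he))
    rwa [mul_inv_cancel_left] at h1
  have hS : IsSylIn p (S : Subgroup G) ((S : Subgroup G) ⊔ N) :=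
    ⟨le_sup_left, S.2, fun C hC h _ => S.3 hC h⟩
  obtain ⟨b, hb, hbP⟩ := hS.exists_conj_le hP' hle
  rw [Subgroup.mem_sup_of_normal_right] at hb
  obtain ⟨s, hs, n, hn, rfl⟩ := hb
  refine ⟨n * g₀, fun x hx => ⟨?_, ?_⟩⟩
  · have h1 : cj (s * n) (cj g₀ x) ∈ (S : Subgroup G) := hbP _ (mem_img_of_mem _ hx)
    rw [cj_mul] at h1
    have h2 := (S : Subgroup G).mul_mem ((S : Subgroup G).mul_mem ((S : Subgroup G).inv_mem hs) h1) hs
    show n * g₀ * x * (n * g₀)⁻¹ ∈ (S : Subgroup G)
    simpa [cj, mul_assoc] using h2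
  · have : (n : G ⧸ Cfsg.pPrimeCore p G) = 1 := (QuotientGroup.eq_one_iff n).mpr hn
    simp [this]

end Cfsg.Agent.S5191
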