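import Cfsg.Statements.S5193
import Cfsg.Agent.Lib.Fusion.CenterNormalizer
import Cfsg.Agent.Lib.Fusion.ThinThompson

set_option autoImplicit false
open Cfsg Cfsg.FusionSystem CfsgLib.Fusion

namespace Cfsg.Agent.S5193

/-- Glauberman's Theorem for fusion systems. Let F be a saturated fusion system over a finite p-group S, let J(S) be the subgroup generated by the abelian subgroups of S of largest order, and let N be the normalizer fusion system of J(S) in F (a fusion system over N_S(J(S)) = S). Then every p-th power of an element of Z(S) that lies in the centre of N lies in the centre of F; and if p is odd, or if the symmetric group of degree 4 is not involved in any model of the normalizer system of a fully normalized F-centric subgroup (F is S₄-free), then the centre of N equals the centre of F. -/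
theorem result {Ω : Type*} [Group Ω] {S : Subgroup Ω} [Finite S] (p : ℕ) [Fact p.Prime] (hS : IsPGroup p S) (F : Cfsg.FusionSystem S) (hF : F.IsSaturated p) (N : Cfsg.FusionSystem (Cfsg.FusionSystem.normalizerIn S (Cfsg.thompsonSubgroupAOf S))) (hN : F.IsNormalizerSystem (Cfsg.thompsonSubgroupAOf S) N) : Subgroup.closure ((fun z : Ω => z ^ p) '' ((S ⊓ Subgroup.centralizer (S : Set Ω) : Subgroup Ω) : Set Ω)) ⊓ N.center ≤ F.center ∧ (p ≠ 2 ∨ F.IsSectionFree p (Equiv.Perm (Fin 4)) → N.center = F.center) := by
  obtain ⟨V, hV⟩ : ∃ V, V = (jFunctor (p := p)).at S := ⟨_, rfl⟩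
  rw [jFunctor_at] at hV
  subst hV
  have key : ∀ (k : ℕ) (H : Type) [Group H],
      (∀ (L : Type _) [Group L] [Finite L], ¬ Involves H L →
        p ≠ 2 ∨ k = 1 ∨ ¬ Involves (Equiv.Perm (Fin 4)) L) →
      F.IsSectionFree p H → ∀ a ∈ S ⊓ Subgroup.centralizer (S : Set Ω),
        a ^ p ^ k ∈ N.center → a ^ p ^ k ∈ F.center := by
    intro k H _ hH hfree a ha haN
    have haN' := haN
    obtain ⟨E, hE⟩ : ∃ E : FusionSystem (normalizerIn S ((jFunctor (p := p)).at S)),
        F.IsNormalizerSystem ((jFunctor (p := p)).at S) E ∧ a ^ p ^ k ∈ E.center := by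
      rw [jFunctor_at]
      exact ⟨N, hN, haN'⟩
    refine center_le_of_models (jFunctor (p := p)) k H (fun Ω' _ T _ hT => ?_)
      (fun L _ _ T hc hnot c hcT hcn g => ?_) hS hF hfree ha hE.1 hE.2
    · intro x hx
      rw [jFunctor_at]
      have hmem : (⟨x, (Subgroup.mem_inf.mp hx).1⟩ : T) ∈ thompsonSubgroupA T := by
        have h1 := CfsgLib.LocalEven.mem_jAb_of_le_centralizer (R := (⊤ : Subgroup T))
          (x := (⟨x, (Subgroup.mem_inf.mp hx).1⟩ : T)) (Subgroup.mem_top _) fun y _ =>
            Subgroup.mem_centralizer_singleton_iff.2 (Subtype.ext ((Subgroup.mem_inf.mp hx).2 y y.2))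
        rw [← CfsgLib.LocalEven.thompsonSubgroupAOf_eq_jAb] at h1
        have h2 : thompsonSubgroupAOf (⊤ : Subgroup T) = thompsonSubgroupA T := by
          apply Subgroup.map_injective T.subtype_injective
          rw [map_jAOf T.subtype_injective, ← MonoidHom.range_eq_map, Subgroup.range_subtype]
          rfl
        exact h2 ▸ h1
      exact ⟨_, hmem, rfl⟩
    · rw [jFunctor_at, CfsgLib.LocalEven.thompsonSubgroupAOf_eq_jAb] at hcn
      have hcO : c ∈ Cfsg.pCore p L := hc fun y hy =>
        (Subgroup.mem_inf.mp hcT).2 y (CfsgLib.Base.pCore_le_sylow T hy)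
      refine mul_inv_eq_iff_eq_mul.mp (CfsgLib.LocalEven.weaklyClosed_of_jAb T
        (Subgroup.pow_mem _ (Subgroup.mem_inf.mp hcT).1 _)
        (fun n hn => Subgroup.mem_centralizer_singleton_iff.2 (hcn n hn)) ?_ g
        (CfsgLib.Base.pCore_le_sylow T ((inferInstance : (Cfsg.pCore p L).Normal).conj_mem _
          (Subgroup.pow_mem _ hcO _) g)))
      rcases hH L hnot with h | h | h
      · exact Or.inl h
      · exact Or.inr (Or.inl ⟨c, hcT, by rw [h, pow_one]⟩)
      · exact Or.inr (Or.inr h)
  constructor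
  · rintro x ⟨hx, hxN⟩
    have hpow : ∃ a ∈ S ⊓ Subgroup.centralizer (S : Set Ω), a ^ p ^ 1 = x := by
      clear hxN
      induction hx using Subgroup.closure_induction with
      | mem y hy =>
        obtain ⟨a, ha, rfl⟩ := hy
        exact ⟨a, ha, by rw [pow_one]⟩
      | one => exact ⟨1, Subgroup.one_mem _, one_pow _⟩
      | mul y z _ _ ihy ihz =>
        obtain ⟨a, ha, rfl⟩ := ihy
        obtain ⟨b, hb, rfl⟩ := ihz
        exact ⟨a * b, Subgroup.mul_mem _ ha hb,
          (show Commute a b from (Subgroup.mem_inf.mp hb).2 a (Subgroup.mem_inf.mp ha).1).mul_pow _⟩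
      | inv y _ ihy =>
        obtain ⟨a, ha, rfl⟩ := ihy
        exact ⟨a⁻¹, Subgroup.inv_mem _ ha, inv_pow a _⟩
    obtain ⟨a, ha, rfl⟩ := hpow
    exact key 1 (Multiplicative ℤ) (fun _ _ _ _ => Or.inr (Or.inl rfl)) isSectionFree_int a ha hxN
  · intro hp
    have hSn : normalizerIn S (thompsonSubgroupAOf S) = S := by
      rw [← jFunctor_at (p := p)]; exact normalizerIn_at _ F hS
    refine le_antisymm (fun z hz => ?_)
      (center_le_normalizerCenter (Subgroup.map_subtype_le _) hSn hN)
    have hza := normalizerCenter_le hSn hz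
    have hz' : z ^ p ^ 0 ∈ N.center := by simpa using hz
    rcases hp with hp | hp
    · simpa using key 0 (Multiplicative ℤ) (fun _ _ _ _ => Or.inl hp) isSectionFree_int z hza hz'
    · simpa using key 0 (Equiv.Perm (Fin 4)) (fun _ _ _ h => Or.inr (Or.inr h)) hp z hza hz'

end Cfsg.Agent.S5193
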