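import Cfsg.Statements.S5194
import Cfsg.Agent.Lib.Fusion.ThinThompson
import Cfsg.Agent.S5097

set_option autoImplicit false
open Cfsg Cfsg.FusionSystem CfsgLib.Fusion

namespace Cfsg.Agent.S5194

/-- Thompson's normal p-complement Theorem for fusion systems. Let F be a saturated fusion system over a finite p-group S such that p is odd or F is S₄-free (the symmetric group of degree 4 is not involved in any model of the normalizer system of a fully normalized F-centric subgroup), and let J(S) be the subgroup generated by the abelian subgroups of S of largest order. If the centralizer fusion system of Z(S) in F is the inner fusion system of C_S(Z(S)) = S and the normalizer fusion system of J(S) in F is the inner fusion system of N_S(J(S)) = S, then F is the inner fusion system of S. -/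
theorem result {Ω : Type*} [Group Ω] {S : Subgroup Ω} [Finite S] (p : ℕ) [Fact p.Prime] (hS : IsPGroup p S) (F : Cfsg.FusionSystem S) (hF : F.IsSaturated p) (hp : p ≠ 2 ∨ F.IsSectionFree p (Equiv.Perm (Fin 4))) (hC : ∀ C : Cfsg.FusionSystem (Cfsg.FusionSystem.centralizerIn S (S ⊓ Subgroup.centralizer (S : Set Ω))), F.IsCentralizerSystem (S ⊓ Subgroup.centralizer (S : Set Ω)) C → ∀ P : Subgroup Ω, C.Hom P = (Cfsg.innerFusionSystem (Cfsg.FusionSystem.centralizerIn S (S ⊓ Subgroup.centralizer (S : Set Ω)))).Hom P) (hN : ∀ N : Cfsg.FusionSystem (Cfsg.FusionSystem.normalizerIn S (Cfsg.thompsonSubgroupAOf S)), F.IsNormalizerSystem (Cfsg.thompsonSubgroupAOf S) N → ∀ P : Subgroup Ω, N.Hom P = (Cfsg.innerFusionSystem (Cfsg.FusionSystem.normalizerIn S (Cfsg.thompsonSubgroupAOf S))).Hom P) : ∀ P : Subgroup Ω, F.Hom P = (Cfsg.innerFusionSystem S).Hom P := by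
  have hN' : NThin F ((jFunctor (p := p)).at S) := by
    rw [jFunctor_at]
    exact (nthin_iff (jFunctor_at (p := p) S ▸ (jFunctor (p := p)).at_le S)).mpr hN
  have hC' : CThin F (ctr S) := by
    intro P f hf ⟨g, hg, hgf, hgV⟩
    obtain ⟨C, hCsys⟩ := Cfsg.Agent.S5097.result F (ctr S) inf_le_left
    have hSC : S ≤ centralizerIn S (ctr S) :=
      le_inf le_rfl fun s hs z hz => ((Subgroup.mem_inf.mp hz).2 s hs).symm
    have h1 : IsMor C P f := (isMor_centralizerSystem hCsys).mpr
      ⟨hf, hf.le.trans hSC, fun x hx => hSC (hf.mem hx), g, hg, hgf, hgV⟩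
    obtain ⟨-, s, hs, e⟩ := isMor_inner.mp ((hom_eq_iff.mp (hC C hCsys P) f).mp h1)
    exact ⟨s, hs.1, e⟩
  rcases hp with hp | hp
  · exact (thin_of_thompson (Multiplicative ℤ) (Or.inl hp) hS hF isSectionFree_int hC' hN').hom_eq
  · exact (thin_of_thompson (Equiv.Perm (Fin 4)) (Or.inr fun _ _ h' => h') hS hF hp hC' hN').hom_eq

end Cfsg.Agent.S5194
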