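import Cfsg.Statements.S5196
import Cfsg.Agent.Lib.Fusion.CenterNormalizer

set_option autoImplicit false
universe u
open Cfsg Cfsg.FusionSystem CfsgLib.Fusion

namespace Cfsg.Agent.S5196

/-- Let p be an odd prime and W a positive characteristic p-functor: W assigns to every finite p-group Q (in a fixed universe) a subgroup W(Q), nontrivial when Q is, carried to W(R) by every isomorphism Q ≅ R; assume also Z(Q) ≤ W(Q) for every finite p-group Q. Suppose W satisfies the local condition: for every finite group G with Sylow p-subgroup P, O_p(G) ∩ Z(G) = O_p(G) ∩ Z(N_G(W(P))). Then W controls weak closure of elements in every saturated fusion system F over a finite p-group S: the centre of the normalizer fusion system of W(S) in F equals the centre of F. (For p = 2 no functor satisfies the local condition, so p is taken odd.) -/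
theorem result {p : ℕ} [Fact p.Prime] (hp : p ≠ 2) (W : ∀ (Q : Type u) [Group Q], Subgroup Q) (hW1 : ∀ (Q : Type u) [Group Q] [Finite Q], IsPGroup p Q → Nontrivial Q → W Q ≠ ⊥) (hW2 : ∀ (Q R : Type u) [Group Q] [Group R] [Finite Q], IsPGroup p Q → ∀ φ : Q ≃* R, (W Q).map φ.toMonoidHom = W R) (hWZ : ∀ (Q : Type u) [Group Q] [Finite Q], IsPGroup p Q → Subgroup.center Q ≤ W Q) (hC : ∀ (G : Type u) [Group G] [Finite G] (P : Sylow p G), Cfsg.pCore p G ⊓ Subgroup.center G = Cfsg.pCore p G ⊓ (Subgroup.center ↥(Subgroup.normalizer (((W ↥(P : Subgroup G)).map (P : Subgroup G).subtype : Subgroup G) : Set G))).map (Subgroup.normalizer (((W ↥(P : Subgroup G)).map (P : Subgroup G).subtype : Subgroup G) : Set G)).subtype) {Ω : Type u} [Group Ω] {S : Subgroup Ω} [Finite S] (hS : IsPGroup p S) (F : Cfsg.FusionSystem S) (hF : F.IsSaturated p) (N : Cfsg.FusionSystem (Cfsg.FusionSystem.normalizerIn S ((W ↥S).map S.subtype))) (hN : F.IsNormalizerSystem ((W ↥S).map S.subtype) N) : N.center = F.center := by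
  let w : PFunctor'.{u} p := ⟨W, hW1, hW2⟩
  have hSn : normalizerIn S (w.at S) = S := normalizerIn_at w F hS
  refine le_antisymm (fun z hz => ?_) (center_le_normalizerCenter (w.at_le S) hSn hN)
  have hz' : z ^ p ^ 0 ∈ N.center := by simpa using hz
  have hwZ : ∀ (Ω : Type u) [Group Ω] (S : Subgroup Ω) [Finite S], IsPGroup p S →
      S ⊓ Subgroup.centralizer (S : Set Ω) ≤ w.at S := fun _ _ _ _ h => center_le_at w hWZ h
  have := center_le_of_models w 0 (Multiplicative ℤ) hwZ (fun L _ _ T hc _ c hcT hcn g => ?_) hS hF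
    isSectionFree_int (normalizerCenter_le hSn hz) hN hz'
  · simpa using this
  rw [pow_zero, pow_one] at hcn ⊢
  have hcO : c ∈ Cfsg.pCore p L := hc fun y hy =>
    (Subgroup.mem_inf.mp hcT).2 y (CfsgLib.Base.pCore_le_sylow T hy)
  have hcW : c ∈ Subgroup.normalizer (w.at (T : Subgroup L) : Set L) := by
    refine Subgroup.le_normalizer ?_
    exact hwZ L _ T.2 hcT
  have h1 : c ∈ Cfsg.pCore p L ⊓ Subgroup.center L := by
    rw [hC L T]
    exact ⟨hcO, ⟨c, hcW⟩, Subgroup.mem_center_iff.mpr fun g => Subtype.ext (hcn g g.2), rfl⟩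
  exact Subgroup.mem_center_iff.mp (Subgroup.mem_inf.mp h1).2 g

end Cfsg.Agent.S5196
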