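import Cfsg.Statements.S5198
import Cfsg.Agent.Lib.Fusion.Hyperfocal
import Cfsg.Agent.Lib.Fusion.Morphism
-- import your own Cfsg.Agent.* helpers here

set_option autoImplicit false
open Cfsg

namespace Cfsg.Agent.S5198

open Cfsg Cfsg.FusionSystem CfsgLib.Fusion


/-- Let F be a saturated fusion system over a finite p-group S and T a subgroup of S strongly closed in F (so T is normal in S). Then every element x of the hyperfocal subgroup of F acts on T by conjugation as an element of O^p(Aut_F(T))·Inn(T): there is an automorphism of T in the subgroup generated by the elements of Aut_F(T) of order prime to p together with the inner automorphisms of T that agrees with conjugation by x. -/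
theorem result {Ω : Type*} [Group Ω] {S : Subgroup Ω} [Finite S] (p : ℕ) [Fact p.Prime] (hS : IsPGroup p S) (F : Cfsg.FusionSystem S) (hF : F.IsSaturated p) (T : Subgroup Ω) (hT : F.StronglyClosed T) : ∀ x ∈ F.hyperfocalSubgroup p, ∃ α ∈ ((Cfsg.pResidual p ↥(F.autGroup T)).map (F.autGroup T).subtype ⊔ Cfsg.Inn ↥T : Subgroup (MulAut ↥T)), ∀ t : ↥T, ((α t : ↥T) : Ω) = x * (t : Ω) * x⁻¹ := by
  have hTS := hT.1
  have hn := stronglyClosed_le_normalizer hT
  have hsc := (stronglyClosed_iff.mp hT).2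
  have hfin := finite_mulAut (P := T) hTS
  set A := F.autGroup T with hA
  have hIA : Cfsg.Inn ↥T ≤ A := inn_le_autGroup F hTS
  set N := ((pResidual p ↥A).map A.subtype ⊔ Cfsg.Inn ↥T : Subgroup (MulAut ↥T)) with hN
  have : (pResidual p ↥A).Normal := CfsgLib.Transfer.pResidual_normal
  have : (innNormal T).conj_mem = (innNormal T).conj_mem := rfl
  let N' : Subgroup A := pResidual p ↥A ⊔ (Cfsg.Inn ↥T).subgroupOf A
  have := inn_subgroupOf_normal F T
  have hN' : N'.map A.subtype = N := by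
    rw [Subgroup.map_sup, Subgroup.map_subgroupOf_eq_of_le hIA]
  let θ : S →* A := MonoidHom.codRestrict (T.normalizerMonoidHom.comp (Subgroup.inclusion hn)) A
    fun s => (autGroup_eq_set hTS _).mpr ((isMor_cj F hTS s.2).congr fun x hx => by
      rw [autFun_of_mem _ hx]; rfl)
  have hθ : ∀ (s : S), ∀ t ∈ T, autFun (θ s : MulAut T) t = cj (s : Ω) t := fun s t ht => by
    rw [autFun_of_mem _ ht]; rfl
  let π := QuotientGroup.mk' N'
  have hQp : IsPGroup p (↥A ⧸ N') := by
    have := CfsgLib.Transfer.isPGroup_quotient_pResidual (G := A) (p := p)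
    exact this.of_surjective
      (QuotientGroup.map (pResidual p ↥A) N' (MonoidHom.id A) le_sup_left)
      fun q => by
        obtain ⟨a, rfl⟩ := QuotientGroup.mk'_surjective N' q
        exact ⟨QuotientGroup.mk' _ a, rfl⟩
  have hle : F.hyperfocalSubgroup p ≤ ((π.comp θ).ker).map S.subtype := by
    refine hyp_le fun P hP α hα hc x hx => ?_
    obtain ⟨g, hg, hgα⟩ := exists_map_sup hS hF hT (isMor_autFun hP hα)
    obtain ⟨γ, hγ, hγe⟩ := exists_aut (hg.restrict (le_sup_right : T ≤ P ⊔ T))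
      ((hg.restrict le_sup_right).img_eq_self fun y hy => hsc _ g hg y (Subgroup.mem_sup_right hy) hy)
    let c := π ⟨γ, hγ⟩
    let ψ := π.comp θ
    have hker : ∀ (s : S), (s : Ω) ∈ T → ψ s = 1 := fun s hs => (QuotientGroup.eq_one_iff _).mpr
      (Subgroup.mem_sup_right (mem_inn.mpr ⟨s, hs, fun t ht => hθ s t ht⟩))
    have hstep : ∀ y (hy : y ∈ P), ψ ⟨autFun α y, hP (autFun_mem α hy)⟩ = c * ψ ⟨y, hP hy⟩ * c⁻¹ := by
      intro y hy
      have hm : y ∈ P ⊔ T := Subgroup.mem_sup_left hy
      have e1 : ψ ⟨g y, hg.mem hm⟩ = c * ψ ⟨y, hP hy⟩ * c⁻¹ := by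
        show π (θ _) = π _ * π (θ _) * (π _)⁻¹
        rw [← map_inv π, ← map_mul π, ← map_mul π]
        congr 1
        refine Subtype.ext (autFun_inj fun t ht => ?_)
        rw [Subgroup.coe_mul, Subgroup.coe_mul, InvMemClass.coe_inv, autFun_mul _ _ ht,
          autFun_mul _ _ (autFun_mem _ ht), hθ _ _ (autFun_mem _ ht), hθ _ t ht]
        have htt := autFun_mem γ⁻¹ ht
        have h3 : cj y (autFun γ⁻¹ t) ∈ T := (Subgroup.mem_normalizer_iff.mp (hn (hP hy)) _).mp htt
        show cj (g y) t = autFun γ (cj y (autFun γ⁻¹ t))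
        rw [hγe _ h3, cj_apply y, hg.map_conj hm (Subgroup.mem_sup_right htt), ← hγe _ htt,
          autFun_inv_right γ ht]
        rfl
      rw [← e1, eq_comm, ← inv_mul_eq_one, ← map_inv, ← map_mul]
      refine hker _ ?_
      have := T.inv_mem (hgα y hy)
      rwa [mul_inv_rev, inv_inv] at this
    have hiter : ∀ n : ℕ, ψ ⟨autFun (α ^ n) x, hP (autFun_mem _ hx)⟩ =
        c ^ n * ψ ⟨x, hP hx⟩ * (c ^ n)⁻¹ := by
      intro n
      induction n with
      | zero => simp [autFun_one hx]
      | succ n ih =>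
        have e : autFun (α ^ (n + 1)) x = autFun α (autFun (α ^ n) x) := by
          rw [pow_succ', autFun_mul _ _ hx]
        simp only [e]
        rw [hstep _ (autFun_mem _ hx), ih, pow_succ', mul_inv_rev]
        simp only [mul_assoc]
    have h1 := hiter (orderOf α)
    have e : autFun (α ^ orderOf α) x = x := by rw [pow_orderOf_eq_one, autFun_one hx]
    simp only [e] at h1
    obtain ⟨k, hk⟩ := hQp c
    obtain ⟨m, hm⟩ := exists_pow_eq_self_of_coprime (x := c) (n := orderOf α)
      (Nat.Coprime.coprime_dvd_right (orderOf_dvd_of_pow_eq_one hk) (hc.pow_right k))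
    have hcomm : Commute (c ^ orderOf α) (ψ ⟨x, hP hx⟩) :=
      (mul_inv_eq_iff_eq_mul.mp h1.symm)
    have hcx : Commute c (ψ ⟨x, hP hx⟩) := hm ▸ hcomm.pow_left m
    have h2 := hstep x hx
    rw [hcx.eq, mul_inv_cancel_right] at h2
    refine ⟨⟨x, hP hx⟩⁻¹ * ⟨autFun α x, hP (autFun_mem α hx)⟩, ?_, rfl⟩
    show ψ _ = 1
    rw [map_mul, map_inv, h2, inv_mul_cancel]
  intro x hx
  obtain ⟨s, hs, rfl⟩ := hle hx
  refine ⟨θ s, ?_, fun t => ?_⟩
  · have : (θ s) ∈ N' := (QuotientGroup.eq_one_iff _).mp hs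
    exact hN' ▸ Subgroup.mem_map_of_mem A.subtype this
  · rw [← autFun_coe, hθ s t t.2]
    rfl

end Cfsg.Agent.S5198
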