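import Cfsg.Statements.S5199
import Cfsg.Agent.Lib.Fusion.Hyperfocal

set_option autoImplicit false
open Cfsg Cfsg.FusionSystem CfsgLib.Fusion

namespace Cfsg.Agent.S5199

/-- Let F be a saturated fusion system over a finite p-group S, E a normal subsystem of F over T, and F₀ a normal subsystem of F over a subgroup U containing both T and the hyperfocal subgroup of F, such that F₀ has p-power index in F. Then E is a subsystem of F₀. -/
theorem result {Ω : Type*} [Group Ω] {S : Subgroup Ω} [Finite S] (p : ℕ) [Fact p.Prime] (hS : IsPGroup p S) (F : Cfsg.FusionSystem S) (hF : F.IsSaturated p) {T U : Subgroup Ω} (E : Cfsg.FusionSystem T) (hE : E.IsNormalIn F p) (F₀ : Cfsg.FusionSystem U) (hF₀ : F₀.IsNormalIn F p) (hU : T ⊔ F.hyperfocalSubgroup p ≤ U) (hidx : F₀.HasPPowerIndexIn F p) : E.IsSubsystemOf F₀ := by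
  obtain ⟨⟨hEs, -, hinvI⟩, -⟩ := hE
  have hsub := hinvI.1
  have hTS : T ≤ S := hinvI.2.1.1
  have hTU : T ≤ U := le_sup_left.trans hU
  have : Finite T := finite_of_le hTS
  let D : FusionSystem T := ofPred T (fun P f => IsMor E P f ∧ IsMor F₀ P f)
    (fun P f h => ⟨h.1.le, fun x hx => h.1.mem hx⟩)
    (fun P f h x hx y hy e => h.1.inj hx hy e)
    (fun P f g h e => ⟨h.1.congr e, h.2.congr e⟩)
    (fun P g hP hg => ⟨isMor_cj E hP hg, isMor_cj F₀ (hP.trans hTU) (hTU hg)⟩)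
    (fun P Q f g hf hg h => ⟨hf.1.comp hg.1 h, hf.2.comp hg.2 h⟩)
    (fun P f hf _ => by
      obtain ⟨g, hg, hgl, -, -⟩ := hf.1.inverse
      obtain ⟨g', hg', hgl', -, -⟩ := hf.2.inverse
      refine ⟨g, ⟨hg, hg'.congr fun y hy => ?_⟩, hgl⟩
      obtain ⟨x, hx, rfl⟩ := hf.1.mem_img.mp hy
      rw [hgl x hx, hgl' x hx])
  have hD : ∀ P f, IsMor D P f ↔ IsMor E P f ∧ IsMor F₀ P f := fun P f =>
    isMor_ofPred fun h x hx y hy => h.1.map_mul hx hy
  have hle : E ≤ D := le_of_coprime_aut (isPGroup_of_le hTS hS) hEs fun P hP a ha hc => by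
    refine (autGroup_eq_set hP a).mpr ((hD _ _).mpr ⟨isMor_autFun hP ha,
      isMor_autFun (hP.trans hTU) (hidx.2.2 P (hP.trans hTU)
        ⟨⟨a, autGroup_mono hsub ha⟩, Subgroup.subset_closure ?_, rfl⟩)⟩)
    rw [Set.mem_setOf_eq, Subgroup.orderOf_mk]
    exact hc
  exact le_iff_isMor.mpr fun P f hf => ((hD P f).mp (le_iff_isMor.mp hle P f hf)).2

end Cfsg.Agent.S5199
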