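import Cfsg.Statements.S5200
import Cfsg.Agent.Lib.Fusion.CentralCoset
import Cfsg.Agent.Lib.Fusion.NormalCentralizer
import Cfsg.Agent.Lib.Fusion.NormalCentralizerClosed
import Cfsg.Agent.Lib.Fusion.NormalizerSaturated
import Cfsg.Agent.Lib.Fusion.ProductUnique
import Cfsg.Agent.Lib.Fusion.ProductSysSaturated

set_option autoImplicit false
set_option maxHeartbeats 400000
open Cfsg Cfsg.FusionSystem CfsgLib.Fusion
open scoped commutatorElement

namespace Cfsg.Agent.S5200

/-- Let F be a saturated fusion system over a finite p-group S and E a normal subsystem of F over T whose centralizer in S lies in T: every subgroup Y of C_S(T) such that E is contained in the centralizer fusion system of Y in F satisfies Y ≤ T. Then T·C_S(T)/T is abelian (the commutator subgroup of T·C_S(T) lies in T), and if p is odd then C_S(T) ≤ T. -/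
theorem result {Ω : Type*} [Group Ω] {S : Subgroup Ω} [Finite S] (p : ℕ) [Fact p.Prime] (hS : IsPGroup p S) (F : Cfsg.FusionSystem S) (hF : F.IsSaturated p) {T : Subgroup Ω} (E : Cfsg.FusionSystem T) (hE : E.IsNormalIn F p) (hCE : ∀ Y : Subgroup Ω, Y ≤ Cfsg.FusionSystem.centralizerIn S T → (∀ C : Cfsg.FusionSystem (Cfsg.FusionSystem.centralizerIn S Y), F.IsCentralizerSystem Y C → E.IsSubsystemOf C) → Y ≤ T) : ⁅T ⊔ Cfsg.FusionSystem.centralizerIn S T, T ⊔ Cfsg.FusionSystem.centralizerIn S T⁆ ≤ T ∧ (p ≠ 2 → Cfsg.FusionSystem.centralizerIn S T ≤ T) := by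
  classical
  have hinv := strongInv_of_isNormalIn hS hF hE
  obtain ⟨⟨hEs, -, hsub, hT, -⟩, -⟩ := id hE
  have hTS := hT.1
  have hCS : centralizerIn S T ≤ S := centralizerIn_le
  have hTC : ∀ t ∈ T, ∀ c ∈ centralizerIn S T, c * t = t * c := fun t ht c hc => by
    have := (mem_centralizerIn.mp hc).2 t ht
    rwa [cj_apply, cj_fixed_iff] at this
  -- `cElts` lies in `T`
  have hY : ∀ Y ≤ centralizerIn S T, FixExt F E Y → Y ≤ T := fun Y hYC hfix =>
    hCE Y hYC fun C hC => le_iff_isMor.mpr fun P f hf => by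
      have hPC : ∀ x ∈ T, x ∈ centralizerIn S Y := fun x hx => mem_centralizerIn.mpr
        ⟨hTS hx, fun y hy => by rw [cj_apply, ← hTC x hx y (hYC hy), mul_inv_cancel_right]⟩
      obtain ⟨g, hg, hgf, hgY⟩ := hfix P f hf
      exact (isMor_centralizerSystem hC).mpr ⟨le_iff_isMor.mp hsub P f hf,
        fun x hx => hPC x (hf.le hx), fun x hx => hPC _ (hf.mem hx), g, hg, hgf, hgY⟩
  have hCY : cElts F E p ≤ T := hY _ cElts_le (fixExt_cElts hS hF hE hinv)
  constructor
  · -- commutators of `C_S(T)` are fixed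
    have hCC : ∀ a ∈ centralizerIn S T, ∀ b ∈ centralizerIn S T, ⁅a, b⁆ ∈ T := by
      intro a ha b hb
      have hab : ⁅a, b⁆ ∈ centralizerIn S T := by
        rw [commutatorElement_def]
        exact Subgroup.mul_mem _ (Subgroup.mul_mem _ (Subgroup.mul_mem _ ha hb)
          (Subgroup.inv_mem _ ha)) (Subgroup.inv_mem _ hb)
      refine hCY ⟨hab, fun P R' h β hP hh hi hn hβ _ hβE hβR hβC => ?_⟩
      have hmem := fun {c : Ω} (hc : c ∈ centralizerIn S T) =>
        (hi ▸ map_mem_centralizerIn hh hP.1 hc : h c ∈ centralizerIn S R')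
      have hR'S : R' ≤ S := hn.1
      have : Finite R' := finite_of_le hR'S
      have hcomm : ∀ x ∈ centralizerIn S R', ∀ r ∈ R', x * r = r * x := fun x hx r hr => by
        have := (mem_centralizerIn.mp hx).2 r hr
        rwa [cj_apply, cj_fixed_iff] at this
      have hMS : R' ⊔ centralizerIn S R' ≤ S := sup_le hR'S centralizerIn_le
      have hβm := isMor_autFun hMS hβ
      have himg : img R' (autFun β) = R' := (hβm.restrict le_sup_left).img_eq_self hβR
      have hrc : ∀ x ∈ centralizerIn S R', ∀ r ∈ R', (x⁻¹ * autFun β x) * r = r * (x⁻¹ * autFun β x) := by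
        intro x hx r hr
        obtain ⟨r₀, hr₀, rfl⟩ := (hβm.restrict le_sup_left).mem_img.mp (himg.ge hr)
        have h1 : autFun β x * autFun β r₀ = autFun β r₀ * autFun β x := by
          rw [← hβm.map_mul (Subgroup.mem_sup_right hx) (Subgroup.mem_sup_left hr₀),
            ← hβm.map_mul (Subgroup.mem_sup_left hr₀) (Subgroup.mem_sup_right hx),
            hcomm x hx r₀ hr₀]
        have h2 := hcomm _ ((centralizerIn S R').inv_mem hx) _ hr
        rw [mul_assoc, h1, ← mul_assoc, h2, mul_assoc]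
      have hab' : h ⁅a, b⁆ = ⁅h a, h b⁆ := by
        rw [commutatorElement_def, commutatorElement_def,
          hh.map_mul (Subgroup.mem_sup_right (Subgroup.mul_mem _ (Subgroup.mul_mem _ ha hb)
            (Subgroup.inv_mem _ ha))) (Subgroup.mem_sup_right (Subgroup.inv_mem _ hb)),
          hh.map_conj (Subgroup.mem_sup_right ha) (Subgroup.mem_sup_right hb),
          hh.map_inv (Subgroup.mem_sup_right hb)]
      have hA := hmem ha
      have hB := hmem hb
      rw [hab', commutatorElement_def, hβm.map_mul (Subgroup.mem_sup_right (Subgroup.mul_mem _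
          (Subgroup.mul_mem _ hA hB) (Subgroup.inv_mem _ hA)))
          (Subgroup.mem_sup_right (Subgroup.inv_mem _ hB)),
        hβm.map_conj (Subgroup.mem_sup_right hA) (Subgroup.mem_sup_right hB),
        hβm.map_inv (Subgroup.mem_sup_right hB)]
      obtain ⟨r, hr, er⟩ : ∃ r ∈ R', autFun β (h a) = h a * r :=
        ⟨_, hβC _ hA, (mul_inv_cancel_left _ _).symm⟩
      obtain ⟨s, hs, es⟩ : ∃ s ∈ R', autFun β (h b) = h b * s :=
        ⟨_, hβC _ hB, (mul_inv_cancel_left _ _).symm⟩
      have hrs : r * s = s * r := by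
        have := hrc _ hA s hs
        rwa [er, inv_mul_cancel_left] at this
      rw [er, es]
      have e1 : r * (h b * s) * r⁻¹ = h b * s := by
        rw [← mul_assoc, ← hcomm _ hB r hr, mul_assoc (h b), hrs, ← mul_assoc, mul_inv_cancel_right]
      have e2 : h a * s = s * h a := hcomm _ hA s hs
      have e3 : h b * s = s * h b := hcomm _ hB s hs
      calc h a * r * (h b * s) * (h a * r)⁻¹ * (h b * s)⁻¹
          = h a * (r * (h b * s) * r⁻¹) * (h a)⁻¹ * (h b * s)⁻¹ := by group
        _ = h a * h b * (s * (h a)⁻¹) * (h b * s)⁻¹ := by rw [e1]; group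
        _ = h a * h b * ((h a)⁻¹ * s) * (h b * s)⁻¹ := by
          rw [show s * (h a)⁻¹ = (h a)⁻¹ * s from ((show Commute s (h a) from e2.symm).inv_right).eq]
        _ = h a * h b * (h a)⁻¹ * (h b)⁻¹ := by group
    have hTT : ∀ x ∈ T ⊔ centralizerIn S T, ∃ t ∈ T, ∃ c ∈ centralizerIn S T, x = t * c := by
      intro x hx
      rw [Subgroup.sup_eq_closure] at hx
      induction hx using Subgroup.closure_induction with
      | mem y hy =>
        rcases hy with hy | hy
        · exact ⟨y, hy, 1, one_mem _, (mul_one y).symm⟩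
        · exact ⟨1, one_mem _, y, hy, (one_mul y).symm⟩
      | one => exact ⟨1, one_mem _, 1, one_mem _, (mul_one 1).symm⟩
      | mul y z _ _ hy hz =>
        obtain ⟨t, ht, c, hc, rfl⟩ := hy
        obtain ⟨t', ht', c', hc', rfl⟩ := hz
        exact ⟨t * t', T.mul_mem ht ht', c * c', Subgroup.mul_mem _ hc hc', by
          rw [mul_assoc t c, ← mul_assoc c, hTC t' ht' c hc]; group⟩
      | inv y _ hy =>
        obtain ⟨t, ht, c, hc, rfl⟩ := hy
        exact ⟨t⁻¹, T.inv_mem ht, c⁻¹, Subgroup.inv_mem _ hc, by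
          rw [mul_inv_rev, hTC t⁻¹ (T.inv_mem ht) c⁻¹ (Subgroup.inv_mem _ hc)]⟩
    refine Subgroup.commutator_le.mpr fun x hx y hy => ?_
    obtain ⟨t, ht, c, hc, rfl⟩ := hTT x hx
    obtain ⟨s, hs, d, hd, rfl⟩ := hTT y hy
    have h1 : c * s = s * c := hTC s hs c hc
    have h2 : d * t = t * d := hTC t ht d hd
    rw [show ⁅t * c, s * d⁆ = ⁅t, s⁆ * ⁅c, d⁆ from ?_]
    · refine T.mul_mem ?_ (hCC c hc d hd)
      rw [commutatorElement_def]
      exact T.mul_mem (T.mul_mem (T.mul_mem ht hs) (T.inv_mem ht)) (T.inv_mem hs)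
    have hk : ∀ k ∈ centralizerIn S T, ∀ v ∈ T, k * v = v * k := fun k hk v hv => hTC v hv k hk
    have hP : ∀ k ∈ centralizerIn S T, k * (t * s * t⁻¹ * s⁻¹) = (t * s * t⁻¹ * s⁻¹) * k := fun k hk =>
      hTC _ (T.mul_mem (T.mul_mem (T.mul_mem ht hs) (T.inv_mem ht)) (T.inv_mem hs)) k hk
    have hQ : (c * d * c⁻¹) ∈ centralizerIn S T :=
      Subgroup.mul_mem _ (Subgroup.mul_mem _ hc hd) (Subgroup.inv_mem _ hc)
    simp only [commutatorElement_def]
    calc t * c * (s * d) * (t * c)⁻¹ * (s * d)⁻¹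
        = t * (c * s) * (d * c⁻¹) * t⁻¹ * d⁻¹ * s⁻¹ := by group
      _ = t * s * ((c * d * c⁻¹) * t⁻¹) * d⁻¹ * s⁻¹ := by rw [h1]; group
      _ = t * s * t⁻¹ * (c * d * c⁻¹ * d⁻¹ * s⁻¹) := by
        rw [hTC t⁻¹ (T.inv_mem ht) _ hQ]; group
      _ = _ := by
        rw [hTC s⁻¹ (T.inv_mem hs) _ (Subgroup.mul_mem _ hQ (Subgroup.inv_mem _ hd))]
        group
  · intro hp2 c hc
    have hodd : Odd p := (Fact.out : p.Prime).odd_of_ne_two hp2
    let R := T ⊔ Subgroup.zpowers c
    have hcR : c ∈ R := Subgroup.mem_sup_right (Subgroup.mem_zpowers c)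
    have hRS : R ≤ S := sup_le hTS (Subgroup.zpowers_le.mpr (hCS hc))
    have : Finite R := finite_of_le hRS
    have hsetup : ProdSetup F E p R := ⟨⟨hS, hF, hE⟩, le_sup_left, hRS⟩
    have hcc : ∀ r ∈ R, c * r = r * c := by
      have h1 : R ≤ Subgroup.centralizer {c} := sup_le
        (fun t ht => Subgroup.mem_centralizer_singleton_iff.mpr (hTC t ht c hc).symm)
        (Subgroup.zpowers_le.mpr (Subgroup.mem_centralizer_singleton_iff.mpr rfl))
      exact fun r hr => (Subgroup.mem_centralizer_singleton_iff.mp (h1 hr)).symm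
    have hfoc : ∀ P f, IsMor hsetup.sys P f → c ∈ P → c⁻¹ * f c ∈ T := by
      intro P f hf hcP
      obtain ⟨-, hPR, -, r, hr, hs⟩ := hsetup.pgen_facts (hsetup.isMor_sys.mp hf)
      have h1 := hs.1 c hcP
      rw [Function.comp_apply] at h1
      have hn : r ∈ Subgroup.normalizer (T : Set Ω) := stronglyClosed_le_normalizer hT (hRS hr)
      have h2 := (Subgroup.mem_normalizer_iff.mp hn _).mp h1
      rwa [← cj_apply, cj_map_mul, cj_cj_inv, cj_apply,
        ← (Commute.inv_left (show Commute c r from hcc r hr)).eq, mul_inv_cancel_right] at h2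
    obtain ⟨z, hzT, hzc, -, hfix⟩ :=
      exists_central_rep hodd hsetup.rpgroup hsetup.sys_saturated hcR hcc hfoc
    have hzC : z ∈ centralizerIn S T := mem_centralizerIn.mpr ⟨hTS hzT, fun t ht => by
      rw [cj_apply, hzc t (Subgroup.mem_sup_left ht), mul_inv_cancel_right]⟩
    have hY' : Subgroup.zpowers (c * z) ≤ centralizerIn S T :=
      Subgroup.zpowers_le.mpr (Subgroup.mul_mem _ hc hzC)
    have hu := hY _ hY' fun P f hf => by
      obtain ⟨g, hg, hgf, hgu⟩ := hfix P f (le_iff_isMor.mp hsetup.sub_sys P f hf)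
      refine ⟨g, hsetup.to_F hg, hgf, fun y hy => ?_⟩
      obtain ⟨i, rfl⟩ := Subgroup.mem_zpowers_iff.mp hy
      rw [hg.map_zpow (Subgroup.mem_sup_right (Subgroup.mem_zpowers _)), hgu]
    have := T.mul_mem (hu (Subgroup.mem_zpowers _)) (T.inv_mem hzT)
    rwa [mul_inv_cancel_right] at this

end Cfsg.Agent.S5200
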