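import Cfsg.Statements.S5201
import Cfsg.Agent.Lib.Fusion.NormalEnvelope
-- import your own Cfsg.Agent.* helpers here

set_option autoImplicit false
open Cfsg Cfsg.FusionSystem CfsgLib.Fusion

namespace Cfsg.Agent.S5201

/-- A reduction to normal subsystems. Let F be a saturated fusion system over a finite p-group S and E a normal subsystem of F over T whose centralizer in S lies in T (every subgroup Y of C_S(T) with E contained in the centralizer fusion system of Y in F satisfies Y ≤ T), and suppose Aut_F(T)/Aut_E(T) is p-solvable. Then F and E have the same residual limit: if F∞ is the residual limit of F (reached by alternately passing to the p-residual and the p'-residual subsystem until nothing changes) and E∞ that of E, then F∞ and E∞ have the same maps. -/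
theorem result {Ω : Type*} [Group Ω] {S : Subgroup Ω} [Finite S] (p : ℕ) [Fact p.Prime] (hS : IsPGroup p S) (F : Cfsg.FusionSystem S) (hF : F.IsSaturated p) {T : Subgroup Ω} (E : Cfsg.FusionSystem T) (hE : E.IsNormalIn F p) (hCE : ∀ Y : Subgroup Ω, Y ≤ Cfsg.FusionSystem.centralizerIn S T → (∀ C : Cfsg.FusionSystem (Cfsg.FusionSystem.centralizerIn S Y), F.IsCentralizerSystem Y C → E.IsSubsystemOf C) → Y ≤ T) [hn : ((E.autGroup T).subgroupOf (F.autGroup T)).Normal] (hsolv : Cfsg.IsPSolvable p (↥(F.autGroup T) ⧸ (E.autGroup T).subgroupOf (F.autGroup T))) {U V : Subgroup Ω} (Finf : Cfsg.FusionSystem U) (hFinf : Finf.IsResidualLimitOf F p) (Einf : Cfsg.FusionSystem V) (hEinf : Einf.IsResidualLimitOf E p) : ∀ P : Subgroup Ω, Finf.Hom P = Einf.Hom P := by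
  obtain ⟨G, hGn, hEG, hAut, hsame⟩ := exists_envelope hS hE.1 hsolv
  obtain ⟨⟨hEs, -, hsub, hT, -⟩, hext⟩ := id hE
  obtain ⟨hGs, -, hGF, -⟩ := id hGn.1
  obtain ⟨hTS, hsc⟩ := stronglyClosed_iff.mp hT
  have hS₀ : T ⊔ centralizerIn S T ≤ S := sup_le hTS centralizerIn_le
  have : Finite ↥(T ⊔ centralizerIn S T) := finite_of_le hS₀
  have hS₀p : IsPGroup p ↥(T ⊔ centralizerIn S T) := isPGroup_of_le hS₀ hS
  have hinv := strongInv_of_isNormalIn hS hF hE
  have hGT : G.StronglyClosed T := stronglyClosed_iff.mpr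
    ⟨le_sup_left, fun P f hf => hsc P f (le_iff_isMor.mp hGF _ _ hf)⟩
  have hinvG : StrongInv E G := fun P Q f g hPQ hQT hf hfQ hg =>
    hinv P Q f g hPQ hQT hf hfQ (le_iff_isMor.mp hGF _ _ hg)
  have hc : cElts F E p ≤ T := hCE _ cElts_le fun C hC P => by
    rw [hC P]
    exact (hom_subset_centralizerHom_iff hsub hTS cElts_le).mpr (fixExt_cElts hS hF hE hinv) P
  have hTn : ∀ s ∈ S, ∀ t ∈ T, cj s t ∈ T := fun s hs t ht =>
    (Subgroup.mem_normalizer_iff.mp (stronglyClosed_le_normalizer hT hs) t).mp ht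
  have hidx : E.HasPPowerIndexIn G p := by
    refine ⟨hEG, hyp_le fun P hP α hα _ x hx => ?_, fun P hP => ?_⟩
    · obtain ⟨g, hg, hge⟩ := exists_map_sup hS₀p hGs hGT (isMor_autFun hP hα)
      have hgF := le_iff_isMor.mp hGF _ _ hg
      obtain ⟨a, ha, hae⟩ := exists_aut (hg.restrict le_sup_right) ((hg.restrict le_sup_right).img_eq_self
        fun t ht => hsc _ g hgF t (Subgroup.mem_sup_right ht) ht)
      obtain ⟨β, hβ, hβa, hβc⟩ := hext a (hAut ▸ ha)
      have hβi := isMor_autFun hS₀ ((F.autGroup _).inv_mem hβ)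
      have hf := hgF.comp hβi fun y hy => hg.mem hy
      obtain ⟨t, ht, c, hcC, hxe⟩ : ∃ t ∈ T, ∃ c ∈ centralizerIn S T, t * c = x := by
        have h := hP hx
        rw [← SetLike.mem_coe, Subgroup.coe_mul_of_right_le_normalizer_left T (centralizerIn S T)
          (centralizerIn_le.trans (stronglyClosed_le_normalizer hT))] at h
        obtain ⟨t, ht, c, hc, e⟩ := h
        exact ⟨t, ht, c, hc, e⟩
      have hcX : c ∈ P ⊔ T := by
        have := Subgroup.mul_mem _ (Subgroup.inv_mem _ (Subgroup.mem_sup_right (S := P) ht))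
          (Subgroup.mem_sup_left (T := T) hx)
        rwa [← hxe, inv_mul_cancel_left] at this
      have hβT : ∀ y ∈ T, autFun β y = autFun a y := fun y hy => by
        rw [autFun_of_mem β (Subgroup.mem_sup_left hy), autFun_of_mem a hy]
        exact hβa ⟨y, hy⟩
      have hfT : ∀ y ∈ T, (autFun β⁻¹ ∘ g) y = y := fun y hy => by
        rw [Function.comp_apply, ← hae y hy, ← hβT y hy,
          autFun_inv_left β (Subgroup.mem_sup_left hy)]
      have hd : c⁻¹ * autFun β⁻¹ (g c) ∈ T := hc (diff_mem_cElts hS hF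
        (P := Subgroup.zpowers c) (Subgroup.zpowers_le.mpr hcC)
        (hf.restrict (sup_le (Subgroup.zpowers_le.mpr hcX) le_sup_right)) hfT c
        (Subgroup.mem_zpowers c))
      have hgc : c⁻¹ * g c ∈ T := by
        have hcS : c ∈ T ⊔ centralizerIn S T := Subgroup.mem_sup_right hcC
        have h1 := hβc ⟨c, hcS⟩ hcC
        rw [← autFun_coe β] at h1
        have h2 := autFun_map_mul β hcS (Subgroup.mem_sup_left (T := centralizerIn S T) hd)
        rw [mul_inv_cancel_left, autFun_inv_right β (hg.mem hcX), hβT _ hd] at h2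
        rw [h2, ← mul_assoc]
        exact T.mul_mem h1.1 (autFun_mem a hd)
      have htX : t ∈ P ⊔ T := Subgroup.mem_sup_right ht
      have h3 : x⁻¹ * g x ∈ T := by
        rw [← hxe, hg.map_mul htX hcX, show (t * c)⁻¹ * (g t * g c) =
          cj c⁻¹ (t⁻¹ * g t) * (c⁻¹ * g c) by rw [cj_apply]; group]
        exact T.mul_mem (hTn _ (S.inv_mem (mem_centralizerIn.mp hcC).1) _
          (T.mul_mem (T.inv_mem ht) (hsc _ g hgF t htX ht))) hgc
      have := T.mul_mem h3 (T.inv_mem (hge x hx))
      simpa [mul_assoc] using this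
    · intro b hb
      obtain ⟨α, -, rfl⟩ := hb
      obtain ⟨a, ha, e, he, hfe⟩ := factors_of_strongInv hS₀p hGs hEG hGT hinvG
        (isMor_autFun (hP.trans le_sup_left) α.2) hP
      refine (autGroup_eq_set hP _).mpr ((he.comp (isMor_autFun le_rfl (hAut ▸ ha)) fun y hy =>
        he.mem hy).congr fun y hy => ?_)
      exact (hfe y hy).symm
  exact hsame Finf Einf hFinf (limit_of_pPower hS₀p le_sup_left hEs hidx hEinf)

end Cfsg.Agent.S5201
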