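import Cfsg.Statements.S5212
import Cfsg.Agent.Lib.Fusion.MetacyclicClosedTwo
import Cfsg.Agent.Lib.Fusion.Solvable
-- import your own Cfsg.Agent.* helpers here

set_option autoImplicit false
open Cfsg

namespace Cfsg.Agent.S5212

/-- Let S be a finite metacyclic 2-group that is not homocyclic abelian (a direct product of cyclic groups of one common order), not dihedral, not semidihedral and not generalized quaternion. Then every saturated fusion system over S is the inner fusion system of S. -/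
theorem result {Ω : Type*} [Group Ω] {S : Subgroup Ω} [Finite S] (hS : IsPGroup 2 S) (F : Cfsg.FusionSystem S) (hF : F.IsSaturated 2) (hm : Cfsg.IsMetacyclic ↥S) (hh : ¬ ∃ n k : ℕ, Nonempty (↥S ≃* Multiplicative (Fin k → ZMod (2 ^ n)))) (hd : ¬ ∃ m : ℕ, Nonempty (↥S ≃* DihedralGroup m)) (hq : ¬ ∃ m : ℕ, Nonempty (↥S ≃* QuaternionGroup m)) (hsd : ¬ Cfsg.IsQuasiDihedral ↥S) : ∀ P : Subgroup Ω, F.Hom P = (Cfsg.innerFusionSystem S).Hom P := by
  haveI : Fact (Nat.Prime 2) := ⟨Nat.prime_two⟩
  have hA : IsPGroup 2 (MulAut S) := by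
    by_contra hA
    obtain ⟨r, α, hr, hr2, hα, hα1⟩ := CfsgLib.PGroups.MetacyclicTwoAut.exists_odd_prime_aut hA
    haveI := Fact.mk hr
    rcases CfsgLib.PGroups.MetacyclicTwoAut.quaternion_or_homocyclic hS hm hr2 hα hα1 with
      hQ | ⟨n, ⟨e⟩⟩
    · exact hq ⟨2, hQ⟩
    · exact hh ⟨n, 2, ⟨e.trans
        { toFun := fun x => Multiplicative.ofAdd ![x.1.toAdd, x.2.toAdd]
          invFun := fun f => (Multiplicative.ofAdd (f.toAdd 0), Multiplicative.ofAdd (f.toAdd 1))
          left_inv := fun x => rfl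
          right_inv := fun f => by
            refine Multiplicative.toAdd.injective (funext fun i => ?_)
            fin_cases i <;> rfl
          map_mul' := fun x y => by
            refine Multiplicative.toAdd.injective (funext fun i => ?_)
            fin_cases i <;> rfl }⟩⟩
  have hN := CfsgLib.Fusion.MetacyclicTwo.isNormal_two hS hF
    (CfsgLib.Fusion.stronglyClosed_self F) hm hd hq hsd
  have hI := CfsgLib.Fusion.autGroup_le_inn_of_isPGroup hS hF (hA.to_subgroup _)
  intro P
  refine CfsgLib.Fusion.hom_eq_iff.mpr fun f => ⟨fun hf => ?_, fun hf => ?_⟩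
  · obtain ⟨α, hα, e⟩ := CfsgLib.Fusion.exists_aut_of_isNormal hN hf hf.le
    obtain ⟨s, hs, he⟩ := CfsgLib.Fusion.mem_inn.mp (hI hα)
    exact CfsgLib.Fusion.isMor_inner.mpr
      ⟨hf.le, s, hs, fun x hx => (e x hx).symm.trans (he x (hf.le hx))⟩
  · obtain ⟨hP, s, hs, e⟩ := CfsgLib.Fusion.isMor_inner.mp hf
    exact (CfsgLib.Fusion.isMor_cj F hP hs).congr fun x hx => (e x hx).symm

end Cfsg.Agent.S5212
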