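import Cfsg.Statements.S5213
import Cfsg.Agent.Lib.Fusion.RankTwoTypesCenter
-- import your own Cfsg.Agent.* helpers here

set_option autoImplicit false
open Cfsg

namespace Cfsg.Agent.S5213

/-- Let S be a finite 2-group of 2-rank 2 (it has an elementary abelian subgroup of order 4 and none of order 8) and F a saturated fusion system over S with trivial centre. Then S is dihedral, semidihedral, wreathed, homocyclic abelian (a direct product of cyclic groups of one common order), or isomorphic to a Sylow 2-subgroup of the projective special unitary group PSU₃(4) (realised over the field with 16 elements). -/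
theorem result {Ω : Type*} [Group Ω] {S : Subgroup Ω} [Finite S] (hS : IsPGroup 2 S) (F : Cfsg.FusionSystem S) (hF : F.IsSaturated 2) (hr : Cfsg.PRankAtLeast 2 2 ↥S ∧ ¬ Cfsg.PRankAtLeast 2 3 ↥S) (hZ : F.center = ⊥) {K : Type*} [Field K] [Fintype K] (hK : Fintype.card K = 16) : (∃ m : ℕ, Nonempty (↥S ≃* DihedralGroup m)) ∨ Cfsg.IsQuasiDihedral ↥S ∨ Cfsg.IsWreathed ↥S ∨ (∃ n k : ℕ, Nonempty (↥S ≃* Multiplicative (Fin k → ZMod (2 ^ n)))) ∨ ∃ T : Sylow 2 (Cfsg.PSU 3 K 4), Nonempty (↥S ≃* ↥(T : Subgroup (Cfsg.PSU 3 K 4))) := by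
  classical
  haveI : Fact (Nat.Prime 2) := ⟨Nat.prime_two⟩
  obtain ⟨⟨A, hAc, hA2, hA⟩, h3⟩ := hr
  have hr2 : Cfsg.PRankLE 2 2 ↥S := by
    intro B hBc hB2
    obtain ⟨j, hj⟩ := IsPGroup.iff_card.1 (hS.to_subgroup B)
    rw [hj]
    refine Nat.pow_le_pow_right (by norm_num) ?_
    by_contra hlt
    exact h3 ⟨B, hBc, hB2, hj ▸ Nat.pow_le_pow_right (by norm_num) (by omega)⟩
  have hr1 : ¬ Cfsg.PRankLE 2 1 ↥S := fun h => by
    have := hA.trans (h A hAc hA2)
    norm_num at this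
  have hmov : ∀ z ∈ S, z * z = 1 → z ≠ 1 → (∀ g ∈ S, g * z = z * g) →
      ∃ f, CfsgLib.Fusion.IsMor F (Subgroup.zpowers z) f ∧ f z ≠ z := by
    intro z hzS _ hz1 hzc
    by_contra hall
    push Not at hall
    have hle : Subgroup.zpowers z ≤ F.center :=
      le_sSup (CfsgLib.Fusion.RankTwoTypes.isCentral_of_fixed hF hzS hzc hall)
    rw [hZ] at hle
    exact hz1 (Subgroup.mem_bot.1 (hle (Subgroup.mem_zpowers z)))
  obtain ⟨T⟩ : Nonempty (Sylow 2 (Cfsg.PSU 3 K 4)) := inferInstance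
  rcases CfsgLib.Fusion.RankTwoTypes.main hS hF hr2 hr1 hmov hK T with (⟨m, -, h⟩ | h | h) | ⟨n, -, ⟨e⟩⟩ | e
  · exact Or.inl ⟨m, h⟩
  · exact Or.inr (Or.inl h)
  · exact Or.inr (Or.inr (Or.inl h))
  · refine Or.inr (Or.inr (Or.inr (Or.inl ⟨n, 2, ⟨e.trans ?_⟩⟩)))
    exact ((LinearEquiv.finTwoArrow ℤ (ZMod (2 ^ n))).symm.toAddEquiv).toMultiplicative
  · exact Or.inr (Or.inr (Or.inr (Or.inr ⟨T, e⟩)))

end Cfsg.Agent.S5213
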