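import Cfsg.Statements.S5214
import Cfsg.Agent.Lib.Fusion.Normal
import Cfsg.Agent.S1137
import Cfsg.Agent.S1138

set_option autoImplicit false
open Cfsg

namespace Cfsg.Agent.S5214

/-- Let S be a Suzuki 2-group (a finite nonabelian 2-group with more than one involution admitting a cyclic group of automorphisms permuting its involutions regularly). Then S is normal in every saturated fusion system over S (such a group is resistant). -/
theorem result {Ω : Type*} [Group Ω] {S : Subgroup Ω} [Finite S] (hS : IsPGroup 2 S) (F : Cfsg.FusionSystem S) (hF : F.IsSaturated 2) (hsz : Cfsg.IsSuzukiTwoGroup ↥S) : F.IsNormal S := by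
  have h1 := Cfsg.Agent.S1137.result hsz
  have h2 := Cfsg.Agent.S1138.result hsz
  set Z := (Subgroup.center S).map S.subtype with hZdef
  have hZ : ∀ x : Ω, x ∈ Z ↔ x ∈ S ∧ x * x = 1 := fun x => by
    constructor
    · rintro ⟨z, hz, rfl⟩
      exact ⟨z.2, congrArg Subtype.val (h1.2 z hz)⟩
    · rintro ⟨hx, hxx⟩
      by_cases he : (⟨x, hx⟩ : S) = 1
      · exact ⟨⟨x, hx⟩, he ▸ one_mem _, rfl⟩
      · exact ⟨⟨x, hx⟩, ((h1.1 _).mp ⟨he, Subtype.ext hxx⟩).1, rfl⟩
  refine CfsgLib.Fusion.isNormal_of_chain hS hF 2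
    (fun i => if i = 0 then ⊥ else if i = 1 then Z else S) rfl rfl (fun i hi => ?_) fun i hi => ?_
  · refine CfsgLib.Fusion.stronglyClosed_iff.mpr ?_
    interval_cases i
    · exact ⟨bot_le, fun P f hf x _ hx => by
        have hx1 : x = 1 := Subgroup.mem_bot.mp hx
        exact Subgroup.mem_bot.mpr (hx1 ▸ hf.map_one)⟩
    · exact ⟨fun x hx => ((hZ x).mp hx).1,
        fun P f hf x hxP hx => (hZ _).mpr ⟨hf.mem hxP, by
          rw [← hf.map_mul hxP hxP, ((hZ x).mp hx).2, hf.map_one]⟩⟩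
    · exact ⟨le_rfl, fun P f hf x hxP _ => hf.mem hxP⟩
  · refine Subgroup.commutator_le.mpr fun a ha b hb => ?_
    interval_cases i
    · obtain ⟨z, hz, rfl⟩ := hb
      exact Subgroup.mem_bot.mpr (commutatorElement_eq_one_iff_mul_comm.mpr
        (congrArg Subtype.val (Subgroup.mem_center_iff.mp hz ⟨a, ha⟩)))
    · refine ⟨_, h2.2.1 (⟨a, ha⟩⁻¹) (⟨b, hb⟩⁻¹), ?_⟩
      simp [commutatorElement_def]

end Cfsg.Agent.S5214
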