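import Cfsg.Statements.S5215
import Cfsg.Agent.Lib.Fusion.SimpleRankTwoRealize
import Cfsg.Agent.S5216
-- import your own Cfsg.Agent.* helpers here

set_option autoImplicit false
open Cfsg
open scoped commutatorElement

namespace Cfsg.Agent.S5215

/-- Let S be a finite 2-group of 2-rank 2 (an elementary abelian subgroup of order 4, none of order 8) and F a simple saturated fusion system over S. Then S is dihedral, semidihedral or wreathed, and F is the fusion system of the projective special linear group PSL₂(q) for some odd prime power q ≡ ±1 (mod 8) or of PSL₃(q) for some odd prime power q: it is realized by an injective homomorphism of S into that group whose image is a Sylow 2-subgroup. -/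
theorem result {Ω : Type*} [Group Ω] {S : Subgroup Ω} [Finite S] (hS : IsPGroup 2 S) (F : Cfsg.FusionSystem S) (hF : F.IsSaturated 2) (hr : Cfsg.PRankAtLeast 2 2 ↥S ∧ ¬ Cfsg.PRankAtLeast 2 3 ↥S) (hsimple : F.IsSimple 2) : ((∃ m : ℕ, Nonempty (↥S ≃* DihedralGroup m)) ∨ Cfsg.IsQuasiDihedral ↥S ∨ Cfsg.IsWreathed ↥S) ∧ ∃ (K : Type) (_ : Field K) (_ : Fintype K) (q : ℕ), Fintype.card K = q ∧ Odd q ∧ (((q % 8 = 1 ∨ q % 8 = 7) ∧ ∃ ι : ↥S →* Matrix.ProjectiveSpecialLinearGroup (Fin 2) K, F.IsRealizedBy ι ∧ ∃ T : Sylow 2 (Matrix.ProjectiveSpecialLinearGroup (Fin 2) K), (T : Subgroup (Matrix.ProjectiveSpecialLinearGroup (Fin 2) K)) = ι.range) ∨ (∃ ι : ↥S →* Matrix.ProjectiveSpecialLinearGroup (Fin 3) K, F.IsRealizedBy ι ∧ ∃ T : Sylow 2 (Matrix.ProjectiveSpecialLinearGroup (Fin 3) K), (T : Subgroup (Matrix.ProjectiveSpecialLinearGroup (Fin 3) K)) = ι.range)) := by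
  classical
  haveI : Fact (Nat.Prime 2) := ⟨Nat.prime_two⟩
  have hnorm : ∀ Q : Subgroup Ω, F.IsNormal Q → Q = ⊥ := fun Q hQ =>
    CfsgLib.Fusion.eq_bot_of_isNormal_of_simple hS hsimple hr.1 hQ
  have hS1 : S ≠ ⊥ := hsimple.2.1
  have hZ : F.center = ⊥ :=
    hnorm _ (CfsgLib.Fusion.isNormal_of_isCentral (CfsgLib.Fusion.isCentral_center F))
  -- a realising group, with the Sylow subgroup in the derived group
  obtain ⟨G, iG, iF, ι, hι, T, hT⟩ := Cfsg.Agent.S5216.result hS F hF hr hZ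
  have hself : F.StronglyClosed S := CfsgLib.Fusion.stronglyClosed_iff.2 ⟨le_rfl,
    fun P f hf x hx _ => hf.mem hx⟩
  have hnab : ¬ ∀ x y : ↥S, x * y = y * x := fun hc => hS1 (hnorm S
    (CfsgLib.Fusion.isNormal_of_abelian hS hF hself
      fun x hx y hy => congrArg Subtype.val (hc ⟨x, hx⟩ ⟨y, hy⟩)))
  have hG : (T : Subgroup G) ≤ commutator G := by
    refine (CfsgLib.Fusion.sylow_inf_of_simple hS hsimple hι T hT (commutator G)).resolve_left
      fun hb => hnab fun x y => hι.1 ?_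
    rw [map_mul, map_mul, ← commutatorElement_eq_one_iff_mul_comm]
    have hm : ∀ z : ↥S, ι z ∈ (T : Subgroup G) := fun z => hT ▸ ⟨z, rfl⟩
    have h1 : ⁅ι x, ι y⁆ ∈ (T : Subgroup G) ⊓ commutator G := Subgroup.mem_inf.2
      ⟨Subgroup.commutator_le_self _ (Subgroup.commutator_mem_commutator (hm x) (hm y)),
        Subgroup.commutator_mem_commutator (Subgroup.mem_top _) (Subgroup.mem_top _)⟩
    exact Subgroup.mem_bot.1 (hb ▸ h1)
  have hall : ∀ d : CfsgLib.Fusion.MC S, ∀ i, d.Pat F i := fun d i =>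
    (d.pat_iff hS hF hι T hT i).2 (hG (hT ▸ ⟨_, rfl⟩))
  -- the types
  obtain ⟨⟨A, hAc, hA2, hA⟩, h3⟩ := hr
  have hr2 : Cfsg.PRankLE 2 2 ↥S := by
    intro B hBc hB2
    obtain ⟨j, hj⟩ := IsPGroup.iff_card.1 (hS.to_subgroup B)
    rw [hj]
    refine Nat.pow_le_pow_right (by norm_num) ?_
    by_contra hlt
    exact h3 ⟨B, hBc, hB2, hj ▸ Nat.pow_le_pow_right (by norm_num) (by omega)⟩
  have hr1 : ¬ Cfsg.PRankLE 2 1 ↥S := fun h => by
    have := hA.trans (h A hAc hA2)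
    norm_num at this
  have hmov : ∀ z ∈ S, z * z = 1 → z ≠ 1 → (∀ g ∈ S, g * z = z * g) →
      ∃ f, CfsgLib.Fusion.IsMor F (Subgroup.zpowers z) f ∧ f z ≠ z := by
    intro z hzS _ hz1 hzc
    by_contra hall'
    push Not at hall'
    have hle : Subgroup.zpowers z ≤ F.center :=
      le_sSup (CfsgLib.Fusion.RankTwoTypes.isCentral_of_fixed hF hzS hzc hall')
    rw [hZ] at hle
    exact hz1 (Subgroup.mem_bot.1 (hle (Subgroup.mem_zpowers z)))
  let K₀ := GaloisField 2 4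
  haveI : Fintype K₀ := Fintype.ofFinite K₀
  have hK₀ : Fintype.card K₀ = 16 := by
    rw [← Nat.card_eq_fintype_card, GaloisField.card 2 4 (by norm_num)]; norm_num
  obtain ⟨P⟩ : Nonempty (Sylow 2 (Cfsg.PSU 3 K₀ 4)) := inferInstance
  rcases CfsgLib.Fusion.RankTwoTypes.main hS hF hr2 hr1 hmov hK₀ P with
    (⟨m, hm2, ⟨e⟩⟩ | h | h) | ⟨n, -, ⟨e⟩⟩ | ⟨⟨e⟩⟩
  · refine ⟨Or.inl ⟨m, ⟨e⟩⟩, ?_⟩
    obtain ⟨j, hj⟩ := IsPGroup.iff_card.1 hS
    rw [Nat.card_congr e.toEquiv, DihedralGroup.nat_card] at hj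
    have hm4 : 4 ≤ m := by
      by_contra hm
      rcases (show m = 2 ∨ m = 3 by omega) with h | h
      · subst h
        refine hnab fun x y => e.injective ?_
        rw [map_mul, map_mul]
        have : ∀ a b : DihedralGroup 2, a * b = b * a := by decide
        exact this _ _
      · subst h
        have h3 : 3 ∣ 2 ^ j := hj ▸ dvd_mul_left 3 2
        have := Nat.prime_three.dvd_of_dvd_pow h3
        omega
    obtain ⟨d, -, -, -⟩ := CfsgLib.Fusion.MC.nonempty_of_dihedral hS hm4 e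
    obtain ⟨q, hq, hqo, hq8, hperf, U, ⟨f⟩⟩ := CfsgLib.Fusion.exists_PSL2_dihedral hm4 hj
    obtain ⟨κ, hκ, hU⟩ := d.realizedBy_of_all hS hF U hperf (e.trans f.symm) (hall d)
    exact ⟨ZMod q, inferInstance, inferInstance, q, ZMod.card q, hqo,
      Or.inl ⟨hq8, κ, hκ, U, hU⟩⟩
  · refine ⟨Or.inr (Or.inl h), ?_⟩
    obtain ⟨d, hε, hδ⟩ := CfsgLib.Fusion.MC.nonempty_of_quasiDihedral h
    have hn3 : 3 ≤ d.n := by
      rcases d.small with ⟨-, h', -⟩ | h'
      · omega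
      · exact h'
    obtain ⟨q, hq, hqo, hperf, U, hU2, hQ⟩ :=
      CfsgLib.Fusion.exists_PSL3_quasiDihedral (show 2 ≤ d.n - 1 by omega)
    obtain ⟨d', hε', hδ'⟩ := CfsgLib.Fusion.MC.nonempty_of_quasiDihedral hQ
    have hn' : d.n = d'.n := by
      have h1 := d'.card_S.symm.trans hU2
      rw [← pow_succ'] at h1
      have := Nat.pow_right_injective le_rfl h1
      omega
    obtain ⟨f, -⟩ := d.exists_equiv d' hn' (hε.trans hε'.symm) (hδ.trans hδ'.symm)
    obtain ⟨κ, hκ, hU⟩ := d.realizedBy_of_all hS hF U hperf f (hall d)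
    exact ⟨ZMod q, inferInstance, inferInstance, q, ZMod.card q, hqo, Or.inr ⟨κ, hκ, U, hU⟩⟩
  · refine ⟨Or.inr (Or.inr h), ?_⟩
    obtain ⟨d₀⟩ := CfsgLib.Involutions.nonempty_wr h
    obtain ⟨d, -, hΘ⟩ := d₀.exists_normal_form hF (d₀.pu_of_le_commutator hF hι T hT hG)
    have hV : d.PV F := by
      refine d.pv_of_realized hF hι T hT fun hab => hnab fun x y => hι.1 ?_
      have hm : ∀ z : ↥S, ι z ∈ commutator G ⊓ (T : Subgroup G) := fun z =>
        Subgroup.mem_inf.2 ⟨hG (hT ▸ ⟨z, rfl⟩), hT ▸ ⟨z, rfl⟩⟩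
      rw [map_mul, map_mul]
      exact hab _ (hm x) _ (hm y)
    obtain ⟨q, hq, hqo, hperf, U, dU, hdU⟩ := CfsgLib.Fusion.exists_PSL3_wreathed d.two_le
    obtain ⟨κ, hκ, hU⟩ := d.realizedBy_of_both hF hΘ hV U dU hdU hperf
    exact ⟨ZMod q, inferInstance, inferInstance, q, ZMod.card q, hqo, Or.inr ⟨κ, hκ, U, hU⟩⟩
  · exact absurd (fun x y => e.injective (by rw [map_mul, map_mul, mul_comm])) hnab
  · exfalso
    refine hS1 (hnorm S ?_)
    have hbot' : F.StronglyClosed ⊥ := CfsgLib.Fusion.stronglyClosed_iff.2 ⟨bot_le,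
      fun P f hf x _ hx => by rw [Subgroup.mem_bot.1 hx]; exact Subgroup.mem_bot.2 hf.map_one⟩
    obtain ⟨ρ, H, hi⟩ := CfsgLib.Small.Order64Three.psu_hyp hK₀ P
    have hcomm : ∀ x y : ↥S, ∀ g : ↥S, g * ⁅x, y⁆ = ⁅x, y⁆ * g := fun x y g => e.injective (by
      rw [map_mul, map_mul, map_commutatorElement]
      exact Subgroup.mem_center_iff.1 ((CfsgLib.Small.Order64Three.central H).1 _ _) _)
    have hzc : ∀ x : ↥S, x * x = 1 ↔ ∀ g : ↥S, g * x = x * g := fun x =>
      ⟨fun hx g => e.injective (by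
          rw [map_mul, map_mul]
          exact Subgroup.mem_center_iff.1 (hi _ (by rw [← map_mul, hx, map_one])) _),
        fun hx => e.injective (by
          rw [map_mul, map_one]
          refine CfsgLib.Small.Order64Three.center_sq H (Subgroup.mem_center_iff.2 fun g => ?_)
          obtain ⟨g, rfl⟩ := e.surjective g
          rw [← map_mul, hx g, map_mul])⟩
    set Z : Subgroup Ω := (Subgroup.center ↥S).map S.subtype with hZdef
    have hmemZ : ∀ x : Ω, x ∈ Z ↔ x ∈ S ∧ x * x = 1 := by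
      intro x
      constructor
      · rintro ⟨y, hy, rfl⟩
        exact ⟨y.2, congrArg Subtype.val ((hzc y).2 (Subgroup.mem_center_iff.1 hy))⟩
      · rintro ⟨hxS, hxx⟩
        exact ⟨⟨x, hxS⟩, Subgroup.mem_center_iff.2 ((hzc ⟨x, hxS⟩).1 (Subtype.ext hxx)), rfl⟩
    have hZsc : F.StronglyClosed Z := CfsgLib.Fusion.stronglyClosed_iff.2
      ⟨Subgroup.map_subtype_le _, fun P f hf x hxP hxZ => (hmemZ _).2
        ⟨hf.mem hxP, by rw [← hf.map_mul hxP hxP, ((hmemZ x).1 hxZ).2, hf.map_one]⟩⟩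
    refine CfsgLib.Fusion.isNormal_of_chain hS hF 2
      (fun i => if i = 0 then ⊥ else if i = 1 then Z else S) rfl rfl ?_ ?_
    · intro i _
      split_ifs
      exacts [hbot', hZsc, hself]
    · intro i hi2
      rcases (show i = 0 ∨ i = 1 by omega) with rfl | rfl
      · simp only [if_true, Nat.zero_add, one_ne_zero, if_false]
        rw [Subgroup.commutator_le]
        rintro x hx _ ⟨y, hy, rfl⟩
        rw [Subgroup.mem_bot, commutatorElement_eq_one_iff_mul_comm]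
        exact congrArg Subtype.val (Subgroup.mem_center_iff.1 hy ⟨x, hx⟩)
      · simp only [one_ne_zero, if_false, if_true, show ¬ (1 + 1 = 0) by omega, show ¬ (1 + 1 = 1) by omega]
        rw [Subgroup.commutator_le]
        intro x hx y hy
        exact ⟨⁅(⟨x, hx⟩ : ↥S), ⟨y, hy⟩⁆, Subgroup.mem_center_iff.2 (hcomm _ _), rfl⟩

end Cfsg.Agent.S5215
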