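import Cfsg.Statements.S5219
import Cfsg.Agent.Lib.Fusion.ClassAgemo
import Cfsg.Agent.Lib.PGroups.Commutator

set_option autoImplicit false
open Cfsg
open scoped commutatorElement

namespace Cfsg.Agent.S5219

universe v

theorem pow_of_mem_ucs (e : ℕ) : ∀ (k : ℕ) (G : Type v) [Group G],
    (∀ z ∈ Subgroup.center G, z ^ e = 1) → ∀ x ∈ Subgroup.upperCentralSeries G k, x ^ e ^ k = 1 := by
  intro k
  induction k with
  | zero => intro G _ _ x hx; rw [Subgroup.upperCentralSeries_zero, Subgroup.mem_bot] at hx; simp [hx]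
  | succ k ih =>
    intro G _ hz x hx
    rw [← Subgroup.comap_upperCentralSeries_quotient_center, Subgroup.mem_comap] at hx
    have h := ih (G ⧸ Subgroup.center G) ?_ _ hx
    · rw [← map_pow, QuotientGroup.mk'_apply, QuotientGroup.eq_one_iff] at h
      rw [pow_succ, pow_mul]
      exact hz _ h
    intro y hy
    obtain ⟨y, rfl⟩ := QuotientGroup.mk'_surjective (Subgroup.center G) y
    rw [← map_pow, QuotientGroup.mk'_apply, QuotientGroup.eq_one_iff, Subgroup.mem_center_iff]
    intro g
    have hc : ⁅y, g⁆ ∈ Subgroup.center G := by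
      rw [← QuotientGroup.eq_one_iff, ← QuotientGroup.mk'_apply, map_commutatorElement,
        commutatorElement_eq_one_iff_commute]
      exact (Subgroup.mem_center_iff.mp hy (QuotientGroup.mk' (Subgroup.center G) g)).symm
    have h1 : ⁅y ^ e, g⁆ = 1 := by
      rw [CfsgLib.PGroups.commutator_pow_left_of_central hc]; exact hz _ hc
    exact (commutatorElement_eq_one_iff_commute.mp h1).eq.symm

/-- Let p be a prime, n a natural number, S a nontrivial finite p-group of nilpotence class at most n(p−1)+1, and F a saturated fusion system over S with no nontrivial normal subgroup (O_p(F) = 1). Then S has exponent dividing p^(n²(p−1)+n). -/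
theorem result {Ω : Type*} [Group Ω] {S : Subgroup Ω} [Finite S] (p : ℕ) [Fact p.Prime] (hS : IsPGroup p S) (F : Cfsg.FusionSystem S) (hF : F.IsSaturated p) (n : ℕ) (hS1 : S ≠ ⊥) (hcl : Subgroup.lowerCentralSeries S (n * (p - 1) + 1) = ⊥) (hcore : F.core = ⊥) : Monoid.exponent ↥S ∣ p ^ (n ^ 2 * (p - 1) + n) := by
  have hA := CfsgLib.Fusion.agemoCenter_isNormal hS hF n hcl
  have hbot : Cfsg.powerClosure p n (S ⊓ Subgroup.centralizer (S : Set Ω)) ≤ ⊥ :=
    (CfsgLib.Fusion.le_core hA).trans hcore.le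
  have hz : ∀ z : S, z ∈ Subgroup.center S → z ^ p ^ n = 1 := fun z hz => Subtype.ext
    (Subgroup.mem_bot.mp (hbot (Subgroup.subset_closure ⟨z, ⟨z.2, fun y hy =>
      congrArg Subtype.val (Subgroup.mem_center_iff.mp hz ⟨y, hy⟩)⟩, rfl⟩)))
  have : Group.IsNilpotent S := hS.isNilpotent
  have htop : Subgroup.upperCentralSeries (↥S) (n * (p - 1) + 1) = ⊤ := by
    rw [← Subgroup.lowerCentralSeries_eq_bot_iff_upperCentralSeries_eq_top]
    exact (Subgroup.map_eq_bot_iff_of_injective _ S.subtype_injective).mp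
      (by rw [Subgroup.top_subtype_lowerCentralSeries, hcl])
  refine Monoid.exponent_dvd_of_forall_pow_eq_one fun x => ?_
  have h1 := pow_of_mem_ucs (p ^ n) (n * (p - 1) + 1) S hz x (htop ▸ Subgroup.mem_top x)
  rwa [← pow_mul, show n * (n * (p - 1) + 1) = n ^ 2 * (p - 1) + n by ring] at h1

end Cfsg.Agent.S5219
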