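import Cfsg.Statements.S5220
import Cfsg.Agent.Lib.Fusion.GoodAgemo

set_option autoImplicit false
open Cfsg Cfsg.FusionSystem CfsgLib.Fusion

namespace Cfsg.Agent.S5220

/-- Let F be a saturated fusion system over a nontrivial finite p-group S, let J(S) be the subgroup generated by the abelian subgroups of S of largest order, and let V be the subgroup generated by the p-th powers of the elements of Z(S). Then F is generated by the centralizer fusion system of V and the normalizer fusion system of J(S): every fusion system over S containing the maps of both contains every map of F. -/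
theorem result {Ω : Type*} [Group Ω] {S : Subgroup Ω} [Finite S] (p : ℕ) [Fact p.Prime] (hS : IsPGroup p S) (F : Cfsg.FusionSystem S) (hF : F.IsSaturated p) (hS1 : S ≠ ⊥) (C : Cfsg.FusionSystem (Cfsg.FusionSystem.centralizerIn S (Cfsg.powerClosure p 1 (S ⊓ Subgroup.centralizer (S : Set Ω))))) (hC : F.IsCentralizerSystem (Cfsg.powerClosure p 1 (S ⊓ Subgroup.centralizer (S : Set Ω))) C) (N : Cfsg.FusionSystem (Cfsg.FusionSystem.normalizerIn S (Cfsg.thompsonSubgroupAOf S))) (hN : F.IsNormalizerSystem (Cfsg.thompsonSubgroupAOf S) N) (E : Cfsg.FusionSystem S) (hCE : C.IsSubsystemOf E) (hNE : N.IsSubsystemOf E) : F.IsSubsystemOf E := by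
  have hSC : centralizerIn S (powerClosure p 1 (S ⊓ Subgroup.centralizer (S : Set Ω))) = S := by
    refine le_antisymm inf_le_left (le_inf le_rfl fun s hs y hy => ?_)
    exact ((Subgroup.mem_inf.mp (agemoCtr_le_ctr (p := p) S hy)).2 s hs).symm
  have hH : AgemoHyp p F E := by
    refine ⟨fun P f hf ⟨g, hg, hgf, hgV⟩ => ?_, fun P f hf hP hg => ?_⟩
    · obtain ⟨φ, hφ, e⟩ := (isMor_centralizerSystem hC).mpr
        ⟨hf, hSC.symm ▸ hf.le, fun x hx => hSC.symm ▸ hf.mem hx, g, hg, hgf, hgV⟩
      exact ⟨φ, hCE P hφ, e⟩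
    · have hn := normalizerIn_at (jFunctor (p := p)) F hS
      rw [jFunctor_at] at hg hn
      obtain ⟨φ, hφ, e⟩ := (isMor_normalizerSystem hN).mpr
        ⟨hf, hn.symm ▸ hf.le, fun x hx => hn.symm ▸ hf.mem hx, hg⟩
      exact ⟨φ, hNE P hφ, e⟩
  have hall := agemo_generates hS hF hH
  intro P φ hφ
  exact le_iff_isMor.mpr (fun Q f h => hall Q f h) P hφ

end Cfsg.Agent.S5220
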