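import Cfsg.Statements.S5221
import Cfsg.Agent.Lib.Fusion.ThinThompson
import Cfsg.Agent.Lib.Fusion.CenterNormalizer

set_option autoImplicit false
open Cfsg Cfsg.FusionSystem CfsgLib.Fusion

namespace Cfsg.Agent.S5221

universe u

theorem key {p : ℕ} [Fact p.Prime] (H : Type) [Group H]
    (hH : p ≠ 2 ∨ ∀ (L : Type u) [Group L], ¬ Involves H L → ¬ Involves (Equiv.Perm (Fin 4)) L)
    {Ω : Type u} [Group Ω] {S : Subgroup Ω} [Finite S] (hS : IsPGroup p S) (F : FusionSystem S)
    (hF : F.IsSaturated p) (hfree : F.IsSectionFree p H) (hnt : ¬ Thin F)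
    (hsp : ∀ E : FusionSystem S, E.IsSaturated p → E.IsSubsystemOf F →
      (∀ P : Subgroup Ω, E.Hom P = F.Hom P) ∨
        ∀ P : Subgroup Ω, E.Hom P = (innerFusionSystem S).Hom P) :
    F.IsConstrained p := by
  by_contra hgoal
  -- normalizer systems of normal subgroups that are not normal in the system are thin
  have hnormS : ∀ Q, Q ≤ S → normalizerIn S Q = S → ¬ F.IsNormal Q → NThin F Q := by
    intro Q hQS hN hnQ
    obtain ⟨NQ, hNQ⟩ := Cfsg.Agent.S5096.result F Q hQS
    have hQn := isFullyNormalized_of_normal (F := F) hQS hN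
    have hne : ∃ P' f', IsMor F P' f' ∧ ¬ IsMor NQ P' f' := by
      by_contra hno
      push Not at hno
      refine hnQ (isNormal_iff.mpr ⟨hQS, fun P' f' hf' => ?_⟩)
      obtain ⟨-, -, -, k, hk, hkf, hkQ⟩ := (isMor_normalizerSystem hNQ).mp (hno P' f' hf')
      exact ⟨k, hk, hkf, hkQ⟩
    have hsat := normalizerSystem_isSaturated hS hF hQn hNQ
    have hsub : ∀ P f, IsMor NQ P f → IsMor F P f := fun _ _ h =>
      ((isMor_normalizerSystem hNQ).mp h).1
    suffices ∀ (T : Subgroup Ω) (D : FusionSystem T), T = S → D.IsSaturated p →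
        (∀ P f, IsMor D P f → IsMor F P f) → (∃ P f, IsMor F P f ∧ ¬ IsMor D P f) → Thin D by
      have h1 := this _ NQ hN hsat hsub hne
      intro P f hf hP hg
      obtain ⟨g, hg, hgf, hgQ⟩ := hg
      obtain ⟨s, hs, e⟩ := h1 P f ((isMor_normalizerSystem hNQ).mpr
        ⟨hf, hP, fun x hx => hN.symm ▸ hf.mem hx, g, hg, hgf, hgQ⟩)
      exact ⟨s, normalizerIn_le hs, e⟩
    intro T D hT hDsat hDsub hDne
    subst hT
    obtain ⟨P', f', hf', hnf'⟩ := hDne
    rcases hsp D hDsat (le_iff_isMor.mpr hDsub) with h | h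
    · exact absurd ((hom_eq_iff.mp (h P') f').mpr hf') hnf'
    · exact Thin.of_hom_eq h
  have hS1 : S ≠ ⊥ := fun h => hnt fun P f hf =>
    ⟨1, S.one_mem, fun x hx => by
      have : x = 1 := Subgroup.mem_bot.mp (h ▸ hf.le hx)
      rw [this, hf.map_one, cj_one]⟩
  set J := jFunctor.{u} (p := p)
  have hJn : normalizerIn S (J.at S) = S := normalizerIn_at J F hS
  have hZS : ctr S ≤ S := inf_le_left
  have hcore : F.core ≠ ⊥ := by
    intro h
    have hbot : ∀ V, F.IsNormal V → V = ⊥ := fun V hV => le_bot_iff.mp ((le_core hV).trans h.le)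
    refine hnt (thin_of_thompson H hH hS hF hfree
      (cThin_of_nThin normalizerIn_ctr (hnormS _ hZS normalizerIn_ctr fun hn => ?_))
      (hnormS _ (J.at_le S) hJn fun hn => J.at_ne_bot hS hS1 (hbot _ hn)))
    have hnt' : Nontrivial S := (Subgroup.nontrivial_iff_ne_bot S).mpr hS1
    have := hS.center_nontrivial
    obtain ⟨z, hz⟩ := exists_ne (1 : Subgroup.center S)
    refine hz (Subtype.ext (Subtype.ext (Subgroup.mem_bot.mp ((hbot _ hn).le ⟨z.1.2, fun y hy => ?_⟩))))
    exact congrArg Subtype.val (Subgroup.mem_center_iff.mp z.2 ⟨y, hy⟩)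
  set Q := F.core with hQdef
  have hQ : F.IsNormal Q := isNormal_core F
  have hQ1 : Q ≠ ⊥ := hcore
  have hQsc := (stronglyClosed_iff.mp (isNormal_stronglyClosed hQ)).2
  by_cases hQc : centralizerIn S Q ≤ Q
  · exact hgoal ⟨hF, Q, hQ, hQ.1, fun U hU => by
      obtain ⟨f, hf, rfl⟩ := isConj_iff.mp hU
      rwa [hf.img_eq_self fun x hx => hQsc Q f hf x hx hx]⟩
  set C := Q ⊔ centralizerIn S Q with hC
  have hCS : C ≤ S := sup_le hQ.1 centralizerIn_le
  have hCn : normalizerIn S C = S := mem_normalizer_of_conj_le fun s hs => img_le fun x hx => by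
    refine (sup_le ?_ ?_ : C ≤ C.comap (MulAut.conj s).toMonoidHom) hx
    · exact fun y hy => Subgroup.mem_sup_left (show cj s y ∈ Q from conj_mem_of_isNormal hQ hs hy)
    · intro y hy
      obtain ⟨hyS, hyc⟩ := mem_centralizerIn.mp hy
      refine Subgroup.mem_sup_right (mem_centralizerIn.mpr
        ⟨S.mul_mem (S.mul_mem hs hyS) (S.inv_mem hs), fun z hz => ?_⟩)
      have h1 := hyc _ (conj_mem_of_isNormal hQ (S.inv_mem hs) hz)
      show cj (cj s y) z = z
      rw [show cj (cj s y) z = cj s (cj y (cj s⁻¹ z)) by simp [cj, mul_assoc],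
        show cj y (cj s⁻¹ z) = cj s⁻¹ z from h1, cj_cj_inv]
  have hCt := hnormS C hCS hCn fun h => hQc (le_sup_right.trans (le_core h))
  have hinn : ∀ f, IsMor F Q f → ∃ s ∈ S, ∀ x ∈ Q, f x = cj s x := by
    intro f hf
    obtain ⟨n, c, hn, hnC, -, hcQ, hce⟩ := exists_decomp hS hF hQ hf le_rfl
    obtain ⟨t, ht, hte⟩ := hCt _ n hn (hCn.symm ▸ hn.le)
      ⟨n, by rwa [sup_eq_left.mpr le_sup_right], fun _ _ => rfl, hnC⟩
    refine ⟨t, ht, fun x hx => ?_⟩
    have hnQ : n x ∈ Q := hQsc Q n (hn.restrict le_sup_left) x hx hx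
    rw [← hce x hx, hcQ _ hnQ, hte x (Subgroup.mem_sup_left hx)]
  have hQnS : (Q.subgroupOf S).Normal := ⟨fun a ha s =>
    conj_mem_of_isNormal hQ s.2 (Subgroup.mem_subgroupOf.mp ha)⟩
  set θ := QuotientGroup.mk' (Q.subgroupOf S)
  have hker : ∀ s : S, θ s = 1 ↔ (s : Ω) ∈ Q := fun s =>
    (QuotientGroup.eq_one_iff s).trans Subgroup.mem_subgroupOf
  have hrange : θ.range = ⊤ := MonoidHom.range_eq_top.mpr (QuotientGroup.mk'_surjective _)
  obtain ⟨E, hE⟩ := exists_factorSystem (isNormal_stronglyClosed hQ) hker hrange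
  have hpq : IsPGroup p ↥(⊤ : Subgroup (↥S ⧸ Q.subgroupOf S)) :=
    (hS.to_quotient _).of_equiv Subgroup.topEquiv.symm
  have htop : (⊤ : Subgroup (↥S ⧸ Q.subgroupOf S)) ≠ ⊥ := fun h => by
    refine hQc fun x hx => ?_
    have h6 : θ ⟨x, centralizerIn_le hx⟩ ∈ (⊥ : Subgroup (↥S ⧸ Q.subgroupOf S)) :=
      h ▸ Subgroup.mem_top _
    exact (hker _).mp (Subgroup.mem_bot.mp h6)
  have hEsat := factor_isSaturated hS hF (isNormal_stronglyClosed hQ) hE
  have hEn : ∀ V, V ≠ ⊥ → normalizerIn (⊤ : Subgroup (↥S ⧸ Q.subgroupOf S)) V = ⊤ → NThin E V := by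
    intro V hV1 hVn
    set U := preimageAlong θ V
    have hUS : U ≤ S := preimageAlong_le V
    have hUn : normalizerIn S U = S := mem_normalizer_of_conj_le fun s hs => img_le fun x hx => by
      obtain ⟨hxS, hxV⟩ := mem_preimageAlong.mp hx
      refine mem_preimageAlong.mpr ⟨S.mul_mem (S.mul_mem hs hxS) (S.inv_mem hs), ?_⟩
      have h1 := (Subgroup.mem_normalizer_iff.mp
        (mem_normalizerIn.mp (hVn.ge (Subgroup.mem_top (θ ⟨s, hs⟩)))).2 _).mp hxV
      rw [← map_inv, ← map_mul, ← map_mul] at h1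
      exact h1
    have hUn' : ¬ F.IsNormal U := fun h => hV1 (le_bot_iff.mp fun y hy => by
      obtain ⟨x, rfl⟩ := QuotientGroup.mk'_surjective (Q.subgroupOf S) y
      exact Subgroup.mem_bot.mpr ((hker x).mpr (le_core h (mem_preimageAlong.mpr ⟨x.2, hy⟩))))
    intro P f hf _ hg
    obtain ⟨g, hg, hgf, hgV⟩ := hg
    obtain ⟨G, hG, hGe⟩ := factor_lift hE hg
    set X := preimageAlong θ (P ⊔ V)
    have hUX : U ≤ X := fun x hx => mem_preimageAlong.mpr
      ⟨(mem_preimageAlong.mp hx).1, Subgroup.mem_sup_right (mem_preimageAlong.mp hx).2⟩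
    have hGU : img U G = U := (hG.restrict hUX).img_eq_self fun x hx => by
      obtain ⟨hxS, hxV⟩ := mem_preimageAlong.mp hx
      refine mem_preimageAlong.mpr ⟨hG.mem (hUX hx), ?_⟩
      rw [← hGe ⟨x, hxS⟩ (hG.mem (hUX hx)) (Subgroup.mem_sup_right hxV)]
      exact hgV.le (mem_img_of_mem g hxV)
    obtain ⟨s, hs, hse⟩ := hnormS U hUS hUn hUn' X G hG (hUn.symm ▸ hG.le)
      ⟨G, by rwa [sup_eq_left.mpr hUX], fun _ _ => rfl, hGU⟩
    refine ⟨θ ⟨s, hs⟩, Subgroup.mem_top _, fun y hy => ?_⟩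
    obtain ⟨x, rfl⟩ := QuotientGroup.mk'_surjective (Q.subgroupOf S) y
    have hxX : (x : Ω) ∈ X := mem_preimageAlong.mpr ⟨x.2, Subgroup.mem_sup_left hy⟩
    rw [← hgf _ hy, hGe x (hG.mem hxX) (Subgroup.mem_sup_left hy), cj_apply, ← map_inv, ← map_mul,
      ← map_mul]
    exact congrArg θ (Subtype.ext (hse _ hxX))
  have hEt : Thin E := by
    refine thin_of_thompson H hH hpq hEsat (isSectionFree_factor hS hF hfree hQ hE)
      (cThin_of_nThin normalizerIn_ctr (hEn _ (fun h => ?_) normalizerIn_ctr))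
      (hEn _ (J.at_ne_bot hpq htop) (normalizerIn_at J E hpq))
    have hnt' : Nontrivial ↥(⊤ : Subgroup (↥S ⧸ Q.subgroupOf S)) :=
      (Subgroup.nontrivial_iff_ne_bot _).mpr htop
    have := hpq.center_nontrivial
    obtain ⟨z, hz⟩ := exists_ne (1 : Subgroup.center ↥(⊤ : Subgroup (↥S ⧸ Q.subgroupOf S)))
    refine hz (Subtype.ext (Subtype.ext (Subgroup.mem_bot.mp (h.le ⟨z.1.2, fun y hy => ?_⟩))))
    exact congrArg Subtype.val (Subgroup.mem_center_iff.mp z.2 ⟨y, hy⟩)
  refine hnt (Thin.of_hom_eq fun P => ?_)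
  rw [fusion_le_antisymm (alperin hS hF fun R hR => ?_) (inner_isSubsystemOf F)]
  rw [autGroup_inner (hR.elim (fun h => h.le) essential_le)]
  rcases hR with rfl | hR
  · rw [← inn_eq_autInducedBy]
    exact autGroup_le_inn_of_isPGroup hS hF
      (isPGroup_aut_of_quotient hS hQ hinn hE hEt le_rfl hQ.1)
  · have hQR := le_of_normal_of_radical hS hQ hR.1 (essential_radical hS hR)
    have hRp := isPGroup_aut_of_quotient hS hQ hinn hE hEt (essential_le hR) hQR
    exact absurd ⟨⟨⊤, hRp.to_subgroup ⊤, fun _ hle => top_le_iff.mp hle⟩,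
      ⟨fun k _ a => trivial⟩⟩ (not_pClosed_of_essential hS hR)

/-- Let F be a sparse fusion system over a finite p-group S: a saturated fusion system, not the inner fusion system of S, whose only saturated fusion systems over S contained in it are F itself and the inner one. If p is odd, or F is S₄-free (the symmetric group of degree 4 is not involved in any model of the normalizer system of a fully normalized F-centric subgroup), then F is constrained. -/
theorem result {Ω : Type*} [Group Ω] {S : Subgroup Ω} [Finite S] (p : ℕ) [Fact p.Prime] (hS : IsPGroup p S) (F : Cfsg.FusionSystem S) (hF : F.IsSaturated p) (hsp : ¬ (∀ P : Subgroup Ω, F.Hom P = (Cfsg.innerFusionSystem S).Hom P) ∧ ∀ E : Cfsg.FusionSystem S, E.IsSaturated p → E.IsSubsystemOf F → (∀ P : Subgroup Ω, E.Hom P = F.Hom P) ∨ (∀ P : Subgroup Ω, E.Hom P = (Cfsg.innerFusionSystem S).Hom P)) (hp : p ≠ 2 ∨ F.IsSectionFree p (Equiv.Perm (Fin 4))) : F.IsConstrained p := by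
  have hnt : ¬ Thin F := fun h => hsp.1 h.hom_eq
  by_cases hp2 : p = 2
  · exact key (Equiv.Perm (Fin 4)) (Or.inr fun _ _ h => h) hS F hF (hp.resolve_left (not_not.mpr hp2)) hnt hsp.2
  · exact key (Multiplicative ℤ) (Or.inl hp2) hS F hF isSectionFree_int hnt hsp.2

end Cfsg.Agent.S5221
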