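import Cfsg.Statements.S5223
import Cfsg.Agent.Lib.Fusion.Criteria
-- import your own Cfsg.Agent.* helpers here

set_option autoImplicit false
open Cfsg

namespace Cfsg.Agent.S5223

open Cfsg Cfsg.FusionSystem CfsgLib.Fusion


/-- Let F be a saturated fusion system over a finite p-group S. Suppose there are subgroups Q₀ = S, Q₁, …, Qₙ = 1 (not required to be nested) such that for each i < n the focal subgroup of Qᵢ (generated by the elements x⁻¹φ(x), x ∈ Qᵢ, φ a map of F defined on the cyclic group generated by x) lies in Qᵢ₊₁. Then F is the inner fusion system of S. -/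
theorem result {Ω : Type*} [Group Ω] {S : Subgroup Ω} [Finite S] (p : ℕ) [Fact p.Prime] (hS : IsPGroup p S) (F : Cfsg.FusionSystem S) (hF : F.IsSaturated p) (n : ℕ) (Q : Fin (n + 1) → Subgroup Ω) (hQ0 : Q 0 = S) (hQn : Q (Fin.last n) = ⊥) (hstep : ∀ i : Fin n, Subgroup.closure {y : Ω | ∃ x ∈ Q i.castSucc, ∃ φ ∈ F.Hom (Subgroup.zpowers x), y = x⁻¹ * φ ⟨x, Subgroup.mem_zpowers x⟩} ≤ Q i.succ) : ∀ P : Subgroup Ω, F.Hom P = (Cfsg.innerFusionSystem S).Hom P := by
  refine hom_eq_inner hS hF fun P hP => ?_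
  let W : ℕ → Set Ω := fun i => if h : i < n + 1 then (Q (Fin.rev ⟨i, h⟩) : Set Ω) else Set.univ
  refine isPGroup_stabilizing hS hP n W ?_ (fun x hx => ?_) fun α hα i hi x hx hxW => ?_
  · intro x hx
    simp only [W, Nat.succ_pos n, dite_true] at hx
    have e : Fin.rev ⟨0, Nat.succ_pos n⟩ = Fin.last n := Fin.rev_zero n
    rw [e, hQn] at hx
    exact hx
  · simp only [W, Nat.lt_succ_self n, dite_true]
    have e : Fin.rev (⟨n, Nat.lt_succ_self n⟩ : Fin (n + 1)) = 0 := Fin.rev_last n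
    rw [e, hQ0]
    exact hP hx
  · simp only [W, show i + 1 < n + 1 by omega, show i < n + 1 by omega, dite_true] at hxW ⊢
    have e1 : Fin.rev (⟨i + 1, by omega⟩ : Fin (n + 1)) = Fin.castSucc ⟨n - (i + 1), by omega⟩ := by
      ext; simp [Fin.rev]
    have e2 : Fin.rev (⟨i, by omega⟩ : Fin (n + 1)) = Fin.succ ⟨n - (i + 1), by omega⟩ := by
      ext; simp [Fin.rev]; omega
    rw [e1] at hxW
    rw [e2]
    refine hstep ⟨n - (i + 1), by omega⟩ (Subgroup.subset_closure ?_)
    obtain ⟨φ, hφ, hφe⟩ := (isMor_autFun hP hα).restrict (Subgroup.zpowers_le.mpr hx)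
    exact ⟨x, hxW, φ, hφ, by rw [hφe]⟩

end Cfsg.Agent.S5223
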