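import Cfsg.Statements.S5224
import Cfsg.Agent.Lib.Fusion.TateApplications
-- import your own Cfsg.Agent.* helpers here

set_option autoImplicit false
open Cfsg

namespace Cfsg.Agent.S5224

open Cfsg Cfsg.FusionSystem CfsgLib.Fusion


theorem le_hyp {Ω : Type*} [Group Ω] {S : Subgroup Ω} {F H : FusionSystem S}
    (hHF : H.IsSubsystemOf F) {p : ℕ} : H.hyperfocalSubgroup p ≤ F.hyperfocalSubgroup p :=
  hyp_le fun _ hP _ hα hc _ hx => hyp_gen hP (autGroup_mono hHF hα) hc hx

theorem hyp_eq {Ω : Type*} [Group Ω] {S : Subgroup Ω} [Finite S] {p : ℕ} [Fact p.Prime]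
    (hS : IsPGroup p S) {F H : FusionSystem S} (hF : F.IsSaturated p) (hH : H.IsSaturated p)
    (hHF : H.IsSubsystemOf F)
    (h : (frattini ↥S).map S.subtype ⊔ F.focalSubgroup = (frattini ↥S).map S.subtype ⊔ H.focalSubgroup) :
    F.hyperfocalSubgroup p = H.hyperfocalSubgroup p := by
  refine tate hS hF (le_hyp hHF) (fun s hs z hz => hyp_conj_mem hs hz) ?_
  refine le_trans ?_ (sup_le le_sup_right (sup_le le_sup_left
    ((commutator_le_frattini_map hS).trans le_sup_right)))
  rw [← focal_eq hS hH, ← h, focal_eq hS hF]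
  exact le_sup_left.trans le_sup_right

/-- Tate's Theorem for fusion systems. Let F be a saturated fusion system over a finite p-group S and H a saturated fusion system over S contained in F. Then the following are equivalent: the elementary focal subgroups Φ(S)·foc agree for F and H; the focal subgroups of F and H agree; the hyperfocal subgroups of F and H agree. -/
theorem result {Ω : Type*} [Group Ω] {S : Subgroup Ω} [Finite S] (p : ℕ) [Fact p.Prime] (hS : IsPGroup p S) (F : Cfsg.FusionSystem S) (hF : F.IsSaturated p) (H : Cfsg.FusionSystem S) (hH : H.IsSaturated p) (hHF : H.IsSubsystemOf F) : (((frattini ↥S).map S.subtype ⊔ F.focalSubgroup) = ((frattini ↥S).map S.subtype ⊔ H.focalSubgroup) ↔ F.focalSubgroup = H.focalSubgroup) ∧ (F.focalSubgroup = H.focalSubgroup ↔ F.hyperfocalSubgroup p = H.hyperfocalSubgroup p) := by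
  have hle := Cfsg.Agent.S5224.le_hyp hHF (p := p)
  refine ⟨⟨fun h => ?_, fun h => by rw [h]⟩, ⟨fun h => ?_, fun h => ?_⟩⟩
  · rw [focal_eq hS hF, focal_eq hS hH, Cfsg.Agent.S5224.hyp_eq hS hF hH hHF h]
  · exact Cfsg.Agent.S5224.hyp_eq hS hF hH hHF (by rw [h])
  · rw [focal_eq hS hF, focal_eq hS hH, h]

end Cfsg.Agent.S5224
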