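import Cfsg.Statements.S5226
import Cfsg.Agent.Lib.Fusion.Criteria
-- import your own Cfsg.Agent.* helpers here

set_option autoImplicit false
open Cfsg

namespace Cfsg.Agent.S5226

open Cfsg Cfsg.FusionSystem CfsgLib.Fusion
open scoped commutatorElement


/-- Let F be a saturated fusion system over a finite p-group S and Q a subgroup of S. Then Q is normal in F (F equals the normalizer system of Q) if and only if Q is strongly closed in F and admits a central series 1 = Q₀ ≤ Q₁ ≤ ⋯ ≤ Qₙ = Q ([Qᵢ₊₁, Q] ≤ Qᵢ) all of whose proper terms are weakly closed in F. -/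
theorem result {Ω : Type*} [Group Ω] {S : Subgroup Ω} [Finite S] (p : ℕ) [Fact p.Prime] (hS : IsPGroup p S) (F : Cfsg.FusionSystem S) (hF : F.IsSaturated p) (Q : Subgroup Ω) : F.IsNormal Q ↔ F.StronglyClosed Q ∧ ∃ (n : ℕ) (C : Fin (n + 1) → Subgroup Ω), C 0 = ⊥ ∧ C (Fin.last n) = Q ∧ Monotone C ∧ (∀ i : Fin n, ⁅C i.succ, Q⁆ ≤ C i.castSucc) ∧ ∀ i : Fin n, F.WeaklyClosed (C i.castSucc) := by
  constructor
  · intro hQ
    obtain ⟨n, Qs, h0, hn, hmono, hsc, hcomm⟩ := exists_chain_of_isNormal hS hQ
    refine ⟨isNormal_stronglyClosed hQ, n, fun i => Qs i, h0, hn, fun i j h => hmono h, ?_, ?_⟩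
    · intro i
      rw [Subgroup.commutator_comm]
      simpa using hcomm i i.2
    · intro i
      refine ⟨(hsc _).1, fun φ hφ => ?_⟩
      rw [range_eq_img_toFun]
      exact (isMor_of_mem hφ).img_eq_self fun x hx =>
        (stronglyClosed_iff.mp (hsc _)).2 _ _ (isMor_of_mem hφ) x hx hx
  · rintro ⟨hQc, n, C, h0, hn, hmono, hcomm, hwc⟩
    refine isNormal_of_stronglyClosed hS hF hQc fun P hc hr => ?_
    have hP := hc.1
    classical
    let D : ℕ → Subgroup Ω := fun j => C ⟨min j n, by omega⟩
    have hDn : D n = Q := by simpa [D, Fin.last] using hn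
    have hDQ : ∀ j, D j ≤ Q := fun j => hn ▸ hmono (Fin.le_last _)
    have hwD : ∀ j < n, F.WeaklyClosed (D j) := fun j hj => by
      have := hwc ⟨j, hj⟩
      simpa [D, Fin.castSucc, Nat.min_eq_left hj.le] using this
    have hD0 : D 0 = ⊥ := by simpa [D] using h0
    have hcD : ∀ j < n, ⁅D (j + 1), Q⁆ ≤ D j := fun j hj => by
      have := hcomm ⟨j, hj⟩
      simpa [D, Fin.castSucc, Fin.succ, Nat.min_eq_left hj.le, Nat.min_eq_left (Nat.succ_le_of_lt hj)] using this
    suffices h : ∀ j ≤ n, D j ≤ P from hDn ▸ h n le_rfl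
    intro j
    induction j using Nat.strong_induction_on with
    | _ j ih =>
      intro hj
      rcases j with _ | j
      · rw [hD0]; exact bot_le
      by_contra hDP
      have hsmall : ∀ k ≤ j, D k ≤ P := fun k hk => ih k (by omega) (by omega)
      have hRS : D (j + 1) ≤ S := (hDQ _).trans hQc.1
      have hnor : S ≤ Subgroup.normalizer (D (j + 1) : Set Ω) := by
        rcases hj.lt_or_eq with h | h
        · intro s hs
          rw [Subgroup.mem_normalizer_iff_map_conj_eq]
          refine (img_cj _ s).symm.trans ?_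
          obtain ⟨φ, hφ, hφe⟩ := isMor_cj F hRS hs
          exact (range_eq_img hφe).symm.trans ((hwD _ h).2 φ hφ)
        · rw [h, hDn]
          exact stronglyClosed_le_normalizer hQc
      have hPDS : P ⊔ D (j + 1) ≤ S := sup_le hP hRS
      have : Finite ↥(P ⊔ D (j + 1)) := finite_of_le hPDS
      obtain ⟨g, hg, hgP⟩ := SetLike.exists_of_lt
        (lt_inf_normalizer (isPGroup_of_le hPDS hS) (left_lt_sup.mpr hDP))
      obtain ⟨hgR, hgN⟩ := Subgroup.mem_inf.mp hg
      rw [← SetLike.mem_coe, Subgroup.coe_mul_of_left_le_normalizer_right _ _ (hP.trans hnor)] at hgR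
      obtain ⟨a, ha, b, hb, rfl⟩ := hgR
      have hbN : b ∈ Subgroup.normalizer (P : Set Ω) :=
        (Subgroup.mul_mem_cancel_left _ (Subgroup.le_normalizer ha)).mp hgN
      refine hgP (P.mul_mem ha ?_)
      let W : ℕ → Subgroup Ω := fun k => if k ≤ j then D k else if k = j + 1 then P ⊓ Q else P
      have hW : ∀ α ∈ F.autGroup P, ∀ k, ∀ x ∈ P, x ∈ W k → autFun α x ∈ W k := by
        intro α hα k x hx hxW
        by_cases hk : k ≤ j
        · simp only [W, hk, if_true] at hxW ⊢
          obtain ⟨φ, hφ, hφe⟩ := (isMor_autFun hP hα).restrict (hsmall k hk)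
          have := ((range_eq_img hφe).symm.trans ((hwD k (by omega)).2 φ hφ)).le
          exact this (mem_img_of_mem _ hxW)
        · by_cases hk' : k = j + 1
          · simp only [W, hk, hk', if_false, if_true, Nat.not_succ_le_self] at hxW ⊢
            exact ⟨autFun_mem α hx,
              (stronglyClosed_iff.mp hQc).2 P _ (isMor_autFun hP hα) x hx hxW.2⟩
          · simp only [W, hk, hk', if_false]
            exact autFun_mem α hx
      refine mem_of_stabilizing hS hc hr (j + 2) W hW (by simp [W, hD0]) (by simp [W])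
        (mem_normalizerIn.mpr ⟨hRS hb, hbN⟩) fun k hk x hx hxW => ?_
      have hxQ : k ≤ j → x ∈ Q := fun hkj => by
        rcases hkj.lt_or_eq with h | h
        · simp only [W, Nat.succ_le_of_lt h, if_true] at hxW
          exact hDQ _ hxW
        · simp [W, h] at hxW
          exact hxW.2
      by_cases hkj : k ≤ j
      · simp only [W, hkj, if_true]
        rcases hkj.lt_or_eq with h | h
        · simp only [W, Nat.succ_le_of_lt h, if_true] at hxW
          have h1 := hcD k (by omega) (Subgroup.commutator_mem_commutator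
            ((D (k + 1)).inv_mem hxW) (hDQ _ hb) : ⁅x⁻¹, b⁆ ∈ ⁅D (k + 1), Q⁆)
          simpa [commutatorElement_def, cj, mul_assoc] using h1
        · subst h
          have h1 := hcD k (by omega) (Subgroup.commutator_mem_commutator hb
            (Q.inv_mem (hxQ le_rfl)) : ⁅b, x⁻¹⁆ ∈ ⁅D (k + 1), Q⁆)
          have h2 := (D k).inv_mem h1
          rw [commutatorElement_inv] at h2
          simpa [commutatorElement_def, cj, mul_assoc] using h2
      · obtain rfl : k = j + 1 := by omega
        simp only [W, hkj, if_false, if_true]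
        refine ⟨P.mul_mem (P.inv_mem hx) ((Subgroup.mem_normalizer_iff.mp hbN x).mp hx), ?_⟩
        have h1 : x⁻¹ * b * x ∈ Q := by
          have := (Subgroup.mem_normalizer_iff.mp
            (stronglyClosed_le_normalizer hQc (S.inv_mem (hP hx))) b).mp (hDQ _ hb)
          simpa using this
        simpa [cj, mul_assoc] using Q.mul_mem h1 (Q.inv_mem (hDQ _ hb))

end Cfsg.Agent.S5226
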