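import Cfsg.Statements.S5236
import Cfsg.Agent.Lib.Fusion.Coprime
import Cfsg.Agent.Lib.Fusion.Criteria
-- import your own Cfsg.Agent.* helpers here

set_option autoImplicit false
open Cfsg

namespace Cfsg.Agent.S5236

open Cfsg Cfsg.FusionSystem CfsgLib.Fusion
open scoped commutatorElement


/-- Let p be an odd prime, F a saturated fusion system over a finite p-group S and P a subgroup of S strongly closed in F. Then P is normal in F if and only if Ω₁(P) (the subgroup generated by the elements of order p of P) has a chain of subgroups 1 = Q₀ ≤ Q₁ ≤ ⋯ ≤ Qₙ = Ω₁(P), each strongly closed in F, with [Qᵢ₊₁, P] ≤ Qᵢ for all i. -/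
theorem result {Ω : Type*} [Group Ω] {S : Subgroup Ω} [Finite S] (p : ℕ) [Fact p.Prime] (hS : IsPGroup p S) (F : Cfsg.FusionSystem S) (hF : F.IsSaturated p) (hp : p ≠ 2) (P : Subgroup Ω) (hP : F.StronglyClosed P) : F.IsNormal P ↔ ∃ (n : ℕ) (Q : Fin (n + 1) → Subgroup Ω), Q 0 = ⊥ ∧ Q (Fin.last n) = Cfsg.omegaOne p P ∧ Monotone Q ∧ (∀ i : Fin (n + 1), F.StronglyClosed (Q i)) ∧ ∀ i : Fin n, ⁅Q i.succ, P⁆ ≤ Q i.castSucc := by
  constructor
  · intro hn
    have hle : Cfsg.omegaOne p P ≤ P := (Subgroup.closure_le _).mpr fun x hx => hx.1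
    have hchar : ((Cfsg.omegaOne p P).subgroupOf P).Characteristic := by
      rw [Subgroup.characteristic_iff_le_comap]
      intro φ x hx
      rw [Subgroup.mem_comap, Subgroup.mem_subgroupOf]
      have key : Cfsg.omegaOne p P ≤
          (((Cfsg.omegaOne p P).subgroupOf P).comap φ.toMonoidHom).map P.subtype := by
        refine (Subgroup.closure_le _).mpr ?_
        rintro y ⟨hy, hyp⟩
        refine ⟨⟨y, hy⟩, ?_, rfl⟩
        refine Subgroup.subset_closure ⟨(φ ⟨y, hy⟩).2, ?_⟩
        have h1 : (⟨y, hy⟩ : P) ^ p = 1 := Subtype.ext hyp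
        have h2 := congrArg φ h1
        rw [map_pow, map_one] at h2
        exact congrArg Subtype.val h2
      obtain ⟨z, hz, hzx⟩ := key (Subgroup.mem_subgroupOf.mp hx)
      rw [Subtype.ext hzx] at hz
      exact hz
    have hO := isNormal_of_characteristic hn hle hchar
    obtain ⟨n, Qs, h0, hn', hmono, hsc, hcomm⟩ := exists_chain_of_isNormal hS hn
    refine ⟨n, fun i => Qs i ⊓ Cfsg.omegaOne p P, by simp [h0], ?_, ?_, ?_, ?_⟩
    · simpa [hn'] using hle
    · exact fun i j hij => inf_le_inf_right _ (hmono hij)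
    · intro i
      refine stronglyClosed_iff.mpr ⟨inf_le_left.trans (hsc i).1, fun R f hf x hxR hx => ?_⟩
      exact ⟨(stronglyClosed_iff.mp (hsc i)).2 R f hf x hxR hx.1,
        (stronglyClosed_iff.mp (isNormal_stronglyClosed hO)).2 R f hf x hxR hx.2⟩
    · intro i
      refine Subgroup.commutator_le.mpr fun a ha b hb => ⟨?_, ?_⟩
      · have := hcomm i i.2
        rw [Subgroup.commutator_comm] at this
        exact this (Subgroup.commutator_mem_commutator (by simpa using ha.1) hb)
      · have hbn := stronglyClosed_le_normalizer (isNormal_stronglyClosed hO) (hP.1 hb)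
        rw [commutatorElement_def, mul_assoc, mul_assoc]
        refine (Cfsg.omegaOne p P).mul_mem ha.2 ?_
        have := (Subgroup.mem_normalizer_iff.mp hbn _).mp ((Cfsg.omegaOne p P).inv_mem ha.2)
        simpa [mul_assoc] using this
  · rintro ⟨n, Q, h0, hn, -, hsc, hcomm⟩
    refine isNormal_of_stronglyClosed hS hF hP fun R hc hr => ?_
    have hR := hc.1
    have hscP := (stronglyClosed_iff.mp hP).2
    have : Finite R := finite_of_le hR
    let W : ℕ → Subgroup Ω := fun i => R ⊓ (if h : i ≤ n then Q ⟨i, Nat.lt_succ_of_le h⟩ else ⊤)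
    let W' : ℕ → Subgroup Ω := fun i => if i = 0 then R ⊓ P else R
    have hW : ∀ α ∈ F.autGroup R, ∀ i, ∀ x ∈ R, x ∈ W i → autFun α x ∈ W i := by
      intro α hα i x hx hxW
      refine ⟨autFun_mem α hx, ?_⟩
      have hx2 := hxW.2
      by_cases hi : i ≤ n
      · simp only [hi, dif_pos] at hx2 ⊢
        exact (stronglyClosed_iff.mp (hsc _)).2 R _ (isMor_autFun hR hα) x hx hx2
      · simp [hi]
    have hW' : ∀ α ∈ F.autGroup R, ∀ i, ∀ x ∈ R, x ∈ W' i → autFun α x ∈ W' i := by
      intro α hα i x hx hxW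
      by_cases hi : i = 0
      · simp only [W', hi, if_true] at hxW ⊢
        exact ⟨autFun_mem α hx, hscP R _ (isMor_autFun hR hα) x hx hxW.2⟩
      · simp only [W', hi, if_false]
        exact autFun_mem α hx
    let K := seriesStab (F.autGroup R) n W hW ⊓ seriesStab (F.autGroup R) 1 W' hW'
    have hRp : IsPGroup p R := isPGroup_of_le hR hS
    have hWn : W n = R ⊓ Cfsg.omegaOne p P := by
      simp [W, show (⟨n, Nat.lt_succ_self n⟩ : Fin (n + 1)) = Fin.last n from rfl, hn]
    have hKp : IsPGroup p K := isPGroup_of_coprime_trivial fun β hβK hcop => by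
      obtain ⟨hβ, hβ'⟩ := Subgroup.mem_inf.mp hβK
      have hstab : ∀ i ≤ n, ∀ x ∈ W i, autFun β x = x := by
        intro i
        induction i with
        | zero =>
          intro _ x hx
          have : x = 1 := by simpa [W, h0] using hx.2
          rw [this, autFun_map_one]
        | succ i ih =>
          intro hi x hx
          exact fix_of_diff_fixed hRp hcop hx.1
            (ih (Nat.le_of_succ_le hi) _ (hβ.2 i hi x hx.1 hx))
      have hfixP : ∀ x ∈ R ⊓ P, autFun β x = x :=
        fix_of_fix_order_p hp hcop inf_le_left (isPGroup_of_le inf_le_left hRp)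
          (fun x hx => ⟨autFun_mem β hx.1, hscP R _ (isMor_autFun hR hβ.1) x hx.1 hx.2⟩)
          fun x hx hxp => hstab n le_rfl x
            (hWn.ge ⟨hx.1, Subgroup.subset_closure ⟨hx.2, hxp⟩⟩)
      refine autFun_inj fun x hx => ?_
      rw [autFun_one hx]
      exact fix_of_diff_fixed hRp hcop hx (hfixP _ (hβ'.2 0 Nat.one_pos x hx (by simpa [W'] using hx)))
    have hKI : K ≤ Inn R := le_inn_of_radical hr (fun α hα => hα.1.1) hKp fun a ha k hk =>
      ⟨seriesStab_conj ha hk.1, seriesStab_conj ha hk.2⟩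
    by_contra hPR
    have hlt : R < R ⊔ P := left_lt_sup.mpr hPR
    have hRPS : R ⊔ P ≤ S := sup_le hR hP.1
    have : Finite ↥(R ⊔ P) := finite_of_le hRPS
    obtain ⟨g, hg, hgR⟩ := SetLike.exists_of_lt (lt_inf_normalizer (isPGroup_of_le hRPS hS) hlt)
    obtain ⟨hgs, hgN⟩ := Subgroup.mem_inf.mp hg
    rw [← SetLike.mem_coe, Subgroup.coe_mul_of_left_le_normalizer_right _ _
      (hR.trans (stronglyClosed_le_normalizer hP))] at hgs
    obtain ⟨a, ha, b, hb, rfl⟩ := hgs
    have hbN : b ∈ Subgroup.normalizer (R : Set Ω) :=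
      (Subgroup.mul_mem_cancel_left _ (Subgroup.le_normalizer ha)).mp hgN
    refine hgR (R.mul_mem ha ?_)
    obtain ⟨α, hα, e⟩ := exists_autInducedBy (hP.1 hb) hbN
    have hin : ∀ x ∈ R, x⁻¹ * cj b x ∈ R := fun x hx =>
      R.mul_mem (R.inv_mem hx) ((Subgroup.mem_normalizer_iff.mp hbN x).mp hx)
    have hαA := autInducedBy_le F hR hα
    have hαK : α ∈ K := by
      refine ⟨⟨hαA, fun i hi x hx hxW => ?_⟩, ⟨hαA, fun i hi x hx _ => ?_⟩⟩
      · rw [e x hx]
        refine ⟨hin x hx, ?_⟩
        have hx2 := hxW.2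
        simp only [Nat.succ_le_of_lt hi, hi.le, dif_pos] at hx2 ⊢
        have := hcomm ⟨i, hi⟩ (Subgroup.commutator_mem_commutator
          ((Q _).inv_mem hx2) hb : ⁅x⁻¹, b⁆ ∈ ⁅Q (⟨i, hi⟩ : Fin n).succ, P⁆)
        simpa [commutatorElement_def, cj, mul_assoc] using this
      · obtain rfl : i = 0 := by omega
        rw [e x hx]
        refine ⟨hin x hx, ?_⟩
        have h1 : x⁻¹ * b * x ∈ P := by
          have := (Subgroup.mem_normalizer_iff.mp
            (stronglyClosed_le_normalizer hP (S.inv_mem (hR hx))) b).mp hb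
          simpa using this
        simpa [cj, mul_assoc] using P.mul_mem h1 (P.inv_mem hb)
    exact mem_of_cj_inn hR (centric_centralizer_le hc) (hP.1 hb) (hKI hαK) e

end Cfsg.Agent.S5236
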