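import Cfsg.Statements.S5239
import Cfsg.Agent.Lib.Fusion.SmallEssentialAbelian
import Cfsg.Agent.Lib.PGroups.PearlThree
-- import your own Cfsg.Agent.* helpers here

set_option autoImplicit false
open Cfsg

namespace Cfsg.Agent.S5239

open CfsgLib.Fusion CfsgLib.PGroups.Pearl
open scoped commutatorElement

/-- With a pearl of order nine in a group of order twenty-seven the exponent is three. -/
theorem exponent_three {Ω : Type*} [Group Ω] {S : Subgroup Ω} [Finite S] [Fact (Nat.Prime 3)]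
    (hS : IsPGroup 3 S) {F : Cfsg.FusionSystem S} (hF : F.IsSaturated 3) {E : Subgroup Ω}
    (hE : F.IsEssential 3 E) (hc : Nat.card E = 9) (hcard : Nat.card S = 27) :
    ∀ x ∈ S, x ^ 3 = 1 := by
  have hES := hE.1.1
  have : Finite E := finite_of_le hES
  obtain ⟨hel, -, ι, hι, hιx⟩ := CfsgLib.Fusion.SmallEss.order_p2_essential hS hF hE
    (hc.trans (by norm_num))
  have hab : ∀ a ∈ E, ∀ b ∈ E, a * b = b * a := fun a ha b hb =>
    congrArg Subtype.val (hel.1.is_comm.comm (⟨a, ha⟩ : E) ⟨b, hb⟩)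
  have hexp := hel.2
  intro x hx
  by_contra hx3
  have hxE : x ∉ E := fun h => hx3 (hexp x h)
  -- the subgroup has index three
  have hidx : (E.subgroupOf S).index = 3 := by
    have h1 := (E.subgroupOf S).card_mul_index
    rw [Nat.card_congr (Subgroup.subgroupOfEquivOfLe hES).toEquiv, hc, hcard] at h1
    omega
  have hEn : (E.subgroupOf S).Normal := CfsgLib.PGroups.normal_of_isCoatom hS
    (CfsgLib.PGroups.isCoatom_of_index_eq_prime hidx)
  have hconj : ∀ s ∈ S, ∀ a ∈ E, s * a * s⁻¹ ∈ E := fun s hs a ha =>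
    hEn.conj_mem ⟨a, hES ha⟩ ha ⟨s, hs⟩
  set z := x ^ 3 with hz
  have hzE : z ∈ E := by
    have := Subgroup.pow_index_mem (E.subgroupOf S) (⟨x, hx⟩ : S)
    rw [hidx] at this
    exact this
  have hzo : orderOf z = 3 := orderOf_eq_prime (hexp z hzE) hx3
  have hmax := CfsgLib.PGroups.isCoatom_of_index_eq_prime hidx
  have hcE : ∀ w ∈ S, (∀ a ∈ E, w * a = a * w) → w ∈ E := fun w hw h =>
    centric_centralizer_le hE.1 (mem_centralizerIn.2 ⟨hw, fun a ha => by
      rw [cj_apply, h a ha, mul_inv_cancel_right]⟩)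
  obtain ⟨e, he, hez⟩ : ∃ e ∈ E, e ∉ Subgroup.zpowers z := by
    by_contra h
    push Not at h
    have : Finite ↥(Subgroup.zpowers z) := finite_of_le (Subgroup.zpowers_le.2 (hES hzE))
    have h1 := Subgroup.card_le_of_le (h : E ≤ Subgroup.zpowers z)
    rw [hc, Nat.card_zpowers, hzo] at h1
    omega
  obtain ⟨k, hk⟩ := Subgroup.mem_zpowers_iff.1 (CfsgLib.Fusion.SmallEss.step_triv hS hES
    (Subgroup.zpowers_le.2 hzE) (by rw [hc, Nat.card_zpowers, hzo]) hx
    (fun a ha => by
      obtain ⟨i, rfl⟩ := Subgroup.mem_zpowers_iff.1 ha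
      rw [cj_apply, hz, ← zpow_natCast, ← zpow_mul,
        ((Commute.refl x).zpow_right _).eq, mul_inv_cancel_right]
      rw [zpow_mul, zpow_natCast]
      exact Subgroup.zpow_mem _ (Subgroup.mem_zpowers _) i)
    (fun a ha => hconj x hx a ha) e he)
  have hxe : x * e * x⁻¹ = e * z ^ k := by rw [hk, cj_apply, mul_inv_cancel_left]
  -- `E` is generated by `z` and `e`
  have hgenE : Subgroup.closure ({z, e} : Set Ω) = E := by
    have hle : Subgroup.closure ({z, e} : Set Ω) ≤ E := (Subgroup.closure_le _).2 (by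
      rintro w (rfl | rfl)
      exacts [hzE, he])
    refine Subgroup.eq_of_le_of_card_ge hle ?_
    have : Finite ↥(Subgroup.closure ({z, e} : Set Ω)) := finite_of_le (hle.trans hES)
    obtain ⟨i, hi⟩ := IsPGroup.iff_card.1 (isPGroup_of_le (hle.trans hES) hS)
    have h1 : Nat.card (Subgroup.zpowers z) < Nat.card ↥(Subgroup.closure ({z, e} : Set Ω)) := by
      have hzle : Subgroup.zpowers z ≤ Subgroup.closure ({z, e} : Set Ω) :=
        Subgroup.zpowers_le.2 (Subgroup.subset_closure (by simp))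
      refine lt_of_le_of_ne (Subgroup.card_le_of_le hzle) fun h => hez ?_
      rw [Subgroup.eq_of_le_of_card_ge hzle h.ge]
      exact Subgroup.subset_closure (by simp)
    rw [Nat.card_zpowers, hzo, hi] at h1
    rw [hc, hi]
    have h2 : 1 < i := (Nat.pow_lt_pow_iff_right (by norm_num : 1 < 3)).1
      (by rwa [pow_one] : 3 ^ 1 < 3 ^ i)
    calc 9 = 3 ^ 2 := rfl
      _ ≤ 3 ^ i := Nat.pow_le_pow_right (by norm_num) h2
  have hcomm : ∀ w, w * z = z * w → w * e = e * w → ∀ a ∈ E, w * a = a * w := by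
    intro w h1 h2 a ha
    rw [← hgenE] at ha
    have hle : Subgroup.closure ({z, e} : Set Ω) ≤ Subgroup.centralizer ({w} : Set Ω) := by
      rw [Subgroup.closure_le]
      rintro t (rfl | rfl) <;> rw [SetLike.mem_coe, Subgroup.mem_centralizer_singleton_iff]
      exacts [h1.symm, h2.symm]
    exact (Subgroup.mem_centralizer_singleton_iff.1 (hle ha)).symm
  have hzc : ∀ w ∈ E, w * z = z * w := fun w hw => hab w hw z hzE
  -- the extension of the inversion
  obtain ⟨φ, hφ, hφE⟩ : ∃ φ ∈ F.autGroup S, ∀ a ∈ E, autFun φ a = a⁻¹ := by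
    have hrec := (isFullyAutomized_of_normalized hS hF hE.2.1).2
    have hιe : ∀ a ∈ E, autFun ι a = a⁻¹ := fun a ha => by
      rw [autFun_of_mem ι ha, hιx]
      rfl
    have hN : S ≤ nExt S E (autFun ι) := by
      intro s hs
      refine mem_nExt.2 ⟨hs, ?_, s, hs, fun a ha => ?_⟩
      · rw [Subgroup.mem_normalizer_iff]
        refine fun a => ⟨fun ha => hconj s hs a ha, fun ha => ?_⟩
        have := hconj s⁻¹ (S.inv_mem hs) _ ha
        simpa [mul_assoc] using this
      · simp only [cj_apply]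
        rw [hιe _ (hconj s hs a ha), hιe a ha]
        group
    obtain ⟨g, hg, hge⟩ := (isReceptive_iff.1 hrec).2 E _ (isMor_autFun hES hι) (img_autFun _)
    obtain ⟨φ, hφ, hφe⟩ := exists_autGroup_self (hg.restrict hN)
    exact ⟨φ, hφ, fun a ha => (hφe a (hES ha)).trans ((hge a ha).trans (hιe a ha))⟩
  have hm := isMor_autFun le_rfl hφ
  set x' := autFun φ x with hx'
  have hx'S : x' ∈ S := autFun_mem φ hx
  have hzz : Commute x z := (Commute.refl x).pow_right 3
  have hx'z : Commute x' z := by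
    have h1 := congrArg (autFun φ) hzz.eq
    rw [hm.map_mul hx (hES hzE), hm.map_mul (hES hzE) hx, hφE z hzE] at h1
    have h2 : Commute x' z⁻¹ := h1
    simpa using h2.inv_right
  have hx'e : x' * e * x'⁻¹ = e * z ^ k := by
    have hzk := E.zpow_mem hzE k
    have h1 := congrArg (autFun φ) hxe
    rw [hm.map_conj hx (hES he), hφE e he, hφE _ (E.mul_mem he hzk)] at h1
    have h2 : x' * e⁻¹ * x'⁻¹ = (e * z ^ k)⁻¹ := h1
    calc x' * e * x'⁻¹ = (x' * e⁻¹ * x'⁻¹)⁻¹ := by group
      _ = e * z ^ k := by rw [h2, inv_inv]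
  set a := x⁻¹ * x' with ha
  have haE : a ∈ E := by
    refine hcE a (S.mul_mem (S.inv_mem hx) hx'S) (hcomm a ?_ ?_)
    · exact ((hzz.inv_left).mul_left hx'z).eq
    · calc a * e = x⁻¹ * (x' * e * x'⁻¹) * x' := by rw [ha]; group
        _ = x⁻¹ * (x * e * x⁻¹) * x' := by rw [hx'e, hxe]
        _ = e * a := by rw [ha]; group
  -- conjugation by `x` shifts `a` by a power of `z`
  have hshift : ∀ w ∈ Subgroup.closure ({z, e} : Set Ω), ∃ j : ℤ, x * w * x⁻¹ = w * z ^ j := by
    intro w hw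
    induction hw using Subgroup.closure_induction with
    | mem t ht =>
      rcases ht with rfl | rfl
      · exact ⟨0, by rw [hzz.eq, mul_inv_cancel_right, zpow_zero, mul_one]⟩
      · exact ⟨k, hxe⟩
    | one => exact ⟨0, by simp⟩
    | mul u v hu hv ihu ihv =>
      obtain ⟨i, hi⟩ := ihu
      obtain ⟨l, hl⟩ := ihv
      have hvE : v ∈ E := hgenE ▸ hv
      refine ⟨i + l, ?_⟩
      calc x * (u * v) * x⁻¹ = (x * u * x⁻¹) * (x * v * x⁻¹) := by group
        _ = u * (z ^ i * v) * z ^ l := by rw [hi, hl]; group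
        _ = u * v * z ^ (i + l) := by
          rw [hab _ (E.zpow_mem hzE i) v hvE, zpow_add]; group
    | inv u hu ihu =>
      obtain ⟨i, hi⟩ := ihu
      have huE : u ∈ E := hgenE ▸ hu
      refine ⟨-i, ?_⟩
      calc x * u⁻¹ * x⁻¹ = (x * u * x⁻¹)⁻¹ := by group
        _ = (z ^ i)⁻¹ * u⁻¹ := by rw [hi, mul_inv_rev]
        _ = u⁻¹ * z ^ (-i) := by
          rw [zpow_neg, hab _ (E.inv_mem (E.zpow_mem hzE i)) _ (E.inv_mem huE)]
  obtain ⟨j, hj⟩ := hshift a (hgenE.symm ▸ haE)
  have hzj : Commute x (z ^ j) := hzz.zpow_right j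
  have hcube : (x * a) ^ 3 = z := by
    have hxa : x * a = a * z ^ j * x := by rw [← hj, inv_mul_cancel_right]
    have h2 : x * x * a * (x * x)⁻¹ = a * (z ^ j * z ^ j) := by
      calc x * x * a * (x * x)⁻¹ = (x * (x * a * x⁻¹) * x⁻¹) := by group
        _ = x * (a * z ^ j) * x⁻¹ := by rw [hj]
        _ = (x * a * x⁻¹) * (x * z ^ j * x⁻¹) := by group
        _ = a * (z ^ j * z ^ j) := by rw [hj, hzj.eq, mul_inv_cancel_right, mul_assoc]
    have h3 : x * x * x * a * (x * x * x)⁻¹ = a := by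
      have : x * x * x = z := by rw [hz, pow_succ, pow_succ, pow_one]
      rw [this, hab z hzE a haE, mul_inv_cancel_right]
    have hzjE := E.zpow_mem hzE j
    have ha3 : a * a * a = 1 := by rw [← hexp a haE, pow_succ, pow_succ, pow_one]
    have hz3 : z ^ j * (z ^ j * z ^ j) = 1 := by
      rw [← zpow_add, ← zpow_add, show j + (j + j) = 3 * j by ring, zpow_mul,
        show z ^ (3 : ℤ) = 1 from by rw [show (3 : ℤ) = ((3 : ℕ) : ℤ) from rfl, zpow_natCast]; exact hexp z hzE,
        one_zpow]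
    have hcm : ∀ u ∈ E, ∀ v ∈ E, Commute u v := hab
    calc (x * a) ^ 3
        = (x * a * x⁻¹) * (x * x * a * (x * x)⁻¹) * (x * x * x * a * (x * x * x)⁻¹) *
            (x * x * x) := by simp only [pow_succ, pow_zero, one_mul]; group
      _ = a * z ^ j * (a * (z ^ j * z ^ j)) * a * (x * x * x) := by rw [hj, h2, h3]
      _ = a * a * a * (z ^ j * (z ^ j * z ^ j)) * (x * x * x) := by
          rw [(hcm (z ^ j) hzjE a haE).mul_mul_mul_comm a (z ^ j * z ^ j)]
          rw [mul_assoc (a * a) _ a, (hcm _ (E.mul_mem hzjE (E.mul_mem hzjE hzjE)) a haE).eq]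
          simp only [mul_assoc]
      _ = z := by rw [ha3, hz3, one_mul, one_mul, hz, pow_succ, pow_succ, pow_one]
  have hx'3 : x' ^ 3 = z⁻¹ := by rw [hx', ← hm.map_pow hx 3, ← hz, hφE z hzE]
  rw [show x' = x * a from (mul_inv_cancel_left x x').symm, hcube] at hx'3
  have hz2 : z ^ 2 = 1 := by
    rw [sq]
    nth_rw 2 [hx'3]
    exact mul_inv_cancel z
  have := orderOf_dvd_of_pow_eq_one hz2
  rw [hzo] at this
  norm_num at this

/-- Let F be a saturated fusion system over a finite 3-group S having a pearl: an F-essential subgroup E that is elementary abelian of order 9 or nonabelian of order 27. Then either S is extraspecial of order 27 and exponent 3, or S has order at least 81 and every subgroup of S can be generated by at most two elements, or S is isomorphic to the wreath product C₃ ≀ C₃ (a Sylow 3-subgroup of the symmetric group of degree 9). -/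
theorem result {Ω : Type*} [Group Ω] {S : Subgroup Ω} [Finite S] (hS : IsPGroup 3 S) (F : Cfsg.FusionSystem S) (hF : F.IsSaturated 3) [Fact (Nat.Prime 3)] (E : Subgroup Ω) (hE : F.IsEssential 3 E) (hpearl : (Nat.card E = 9 ∧ ∀ x ∈ E, x ^ 3 = 1 ∧ IsMulCommutative ↥E) ∨ (Nat.card E = 27 ∧ ¬ IsMulCommutative ↥E)) : (Cfsg.IsExtraspecial 3 ↥S ∧ Nat.card S = 27 ∧ Monoid.exponent ↥S = 3) ∨ (81 ≤ Nat.card S ∧ ∀ H : Subgroup Ω, H ≤ S → ∃ T : Finset Ω, T.card ≤ 2 ∧ Subgroup.closure (T : Set Ω) = H) ∨ (∃ W : Sylow 3 (Equiv.Perm (Fin 9)), Nonempty (↥S ≃* ↥(W : Subgroup (Equiv.Perm (Fin 9))))) := by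
  classical
  obtain ⟨n, hn⟩ := IsPGroup.iff_card.1 hS
  have hES := hE.1.1
  have hlt := essential_lt hS hF hE
  have : Finite E := finite_of_le hES
  have hElt : Nat.card E < 3 ^ n := hn ▸ card_lt_of_lt le_rfl hlt
  have h9 : 9 ≤ Nat.card E := by omega
  have hn3 : 3 ≤ n := by
    by_contra h
    have : 3 ^ n ≤ 3 ^ 2 := Nat.pow_le_pow_right (by norm_num) (by omega)
    omega
  have hna : ∃ a b : S, a * b ≠ b * a := by
    by_contra h
    push Not at h
    refine hlt.not_ge fun w hw => centric_centralizer_le hE.1 (mem_centralizerIn.2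
      ⟨hw, fun q hq => ?_⟩)
    rw [cj_apply, show w * q = q * w from congrArg Subtype.val (h ⟨w, hw⟩ ⟨q, hES hq⟩),
      mul_inv_cancel_right]
  rcases (show n = 3 ∨ 4 ≤ n by omega) with rfl | hn4
  · left
    have hc : Nat.card E = 9 := by
      rcases hpearl with h | h
      · exact h.1
      · omega
    have hexp := exponent_three hS hF hE hc (by rw [hn]; norm_num)
    rcases CfsgLib.PGroups.SmallSeries.order_p3_nonab (p := 3) hn hna with h | h | ⟨-, x, hx⟩
    · refine ⟨h.2.1, by rw [hn]; norm_num, ?_⟩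
      rcases (Nat.dvd_prime (Fact.out : Nat.Prime 3)).1
        (Monoid.exponent_dvd_of_forall_pow_eq_one h.2.2) with he | he
      · exfalso
        obtain ⟨a, b, hab⟩ := hna
        haveI := Monoid.exp_eq_one_iff.1 he
        exact hab (Subsingleton.elim _ _)
      · exact he
    · omega
    · exact absurd (Subtype.ext (hexp x x.2)) hx
  right
  have hES' := Subgroup.subgroupOfEquivOfLe hES
  obtain ⟨s, hs⟩ : ∃ s : S, Elt 3 n s := by
    refine exists_elt hn (E.subgroupOf S) ?_ ?_ ?_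
    · exact fun h => hlt.not_ge (Subgroup.subgroupOf_eq_top.1 h)
    · intro g hg
      refine centric_centralizer_le hE.1 (mem_centralizerIn.mpr ⟨g.2, fun x hx => ?_⟩)
      have h1 : x * (g : Ω) = g * x :=
        congrArg Subtype.val (Subgroup.mem_centralizer_iff.1 hg ⟨x, hES hx⟩ hx)
      rw [cj_apply, mul_inv_eq_iff_eq_mul]
      exact h1.symm
    · rcases hpearl with ⟨hc, h⟩ | ⟨hc, h⟩
      · refine Or.inl ⟨by rw [Nat.card_congr hES'.toEquiv, hc]; norm_num,
          ⟨⟨fun a b => ?_⟩⟩, fun x hx => ?_⟩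
        · exact hES'.injective (by
            rw [map_mul, map_mul]
            exact (h 1 E.one_mem).2.is_comm.comm _ _)
        · exact Subtype.ext (h x hx).1
      · refine Or.inr ⟨by rw [Nat.card_congr hES'.toEquiv, hc]; norm_num, fun hc' => h ⟨⟨fun a b => ?_⟩⟩⟩
        exact hES'.symm.injective (by
          rw [map_mul, map_mul]
          exact hc'.is_comm.comm _ _)
  by_cases hgood : ∀ K : Subgroup S, ∃ T : Finset S, T.card ≤ 2 ∧ Subgroup.closure (T : Set S) = K
  · left
    refine ⟨hn ▸ (show 81 ≤ 3 ^ n from le_trans (by norm_num : 81 ≤ 3 ^ 4)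
      (Nat.pow_le_pow_right (by norm_num) hn4)), fun K hK => ?_⟩
    obtain ⟨T, hT, hTe⟩ := hgood (K.subgroupOf S)
    refine ⟨T.image S.subtype, Finset.card_image_le.trans hT, ?_⟩
    rw [Finset.coe_image, ← MonoidHom.map_closure, hTe, Subgroup.map_subgroupOf_eq_of_le hK]
  · right
    obtain ⟨K, hK⟩ := not_forall.1 hgood
    obtain ⟨rfl, hexp, hab⟩ := (hs.two_generated hn4 K).resolve_left hK
    obtain ⟨φ, hφ⟩ := hs.embeds_nine hn4 rfl hexp hab
    obtain ⟨W, hW⟩ := (IsPGroup.of_equiv hS (MonoidHom.ofInjective hφ)).exists_le_sylow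
    refine ⟨W, ⟨(MonoidHom.ofInjective hφ).trans (MulEquiv.subgroupCongr ?_)⟩⟩
    refine Subgroup.eq_of_le_of_card_ge hW ?_
    rw [W.card_eq_multiplicity, ← Nat.card_congr (MonoidHom.ofInjective hφ).toEquiv, hn,
      Nat.card_perm, Nat.card_eq_fintype_card, Fintype.card_fin]
    refine Nat.pow_le_pow_right (by norm_num) ?_
    have h4 : ¬ 3 ^ 5 ∣ (9).factorial := by decide
    rw [← Nat.lt_succ_iff]
    by_contra h
    push Not at h
    exact h4 ((Nat.pow_dvd_pow 3 h).trans (Nat.ordProj_dvd _ _))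

end Cfsg.Agent.S5239
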