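import Cfsg.Statements.S5243
import Cfsg.Agent.Lib.Fusion.NormalLabel

set_option autoImplicit false
open Cfsg Cfsg.FusionSystem CfsgLib.Fusion

namespace Cfsg.Agent.S5243

/-- Let F be a saturated fusion system over a finite p-group S, E a normal subsystem of F over T ≤ S, and χ a surjective homomorphism from Aut_F(T) onto a nontrivial finite group Δ of order prime to p whose kernel contains Aut_E(T). Then there is a proper normal subsystem F₀ of F over S containing E such that Aut_{F₀}(S) consists of those α ∈ Aut_F(S) whose restriction to T is an element of Aut_F(T) in the kernel of χ; moreover every p'-residual subsystem O^{p'}(F) of F is contained in F₀. -/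
theorem result {Ω : Type*} [Group Ω] {S : Subgroup Ω} [Finite S] (p : ℕ) [Fact p.Prime] (hS : IsPGroup p S) (F : Cfsg.FusionSystem S) (hF : F.IsSaturated p) {T : Subgroup Ω} (hTS : T ≤ S) (E : Cfsg.FusionSystem T) (hE : E.IsNormalIn F p) {Δ : Type*} [Group Δ] [Finite Δ] [Nontrivial Δ] (hΔ : (Nat.card Δ).Coprime p) (χ : ↥(F.autGroup T) →* Δ) (hχ : Function.Surjective χ) (hker : (E.autGroup T).subgroupOf (F.autGroup T) ≤ χ.ker) : ∃ F₀ : Cfsg.FusionSystem S, F₀.IsNormalIn F p ∧ ¬ (∀ P : Subgroup Ω, F₀.Hom P = F.Hom P) ∧ E.IsSubsystemOf F₀ ∧ (∀ α : MulAut ↥S, α ∈ F₀.autGroup S ↔ α ∈ F.autGroup S ∧ ∃ β : ↥(F.autGroup T), χ β = 1 ∧ ∀ t : ↥T, (((β : MulAut ↥T) t : ↥T) : Ω) = ((α ⟨(t : Ω), hTS t.2⟩ : ↥S) : Ω)) ∧ ∀ R : Cfsg.FusionSystem S, F.IsPPrimeResidual p R → R.IsSubsystemOf F₀ := by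
  obtain ⟨⟨hEs, -, hinvI⟩, -⟩ := hE
  have hsub := hinvI.1
  have hT := hinvI.2.1
  let L := normalLabel χ hS hF hEs hinvI hΔ hχ hker
  have hrad : ∀ P : Subgroup Ω, F.IsCentric P → F.IsRadical p P →
      P ∈ {P : Subgroup Ω | E.IsCentric (P ⊓ T)} := fun P hP hPr =>
    by_contra fun h => not_radical_of_inf_not_centric hS hF hT hsub hP h hPr
  have hsat := L.sys_saturated hS hΔ hF hrad fun P hP hP' =>
    exists_conj_core_of_inf_not_centric hS hF hT hsub hP.1 hP'
  have hST : S ⊓ T = T := inf_eq_right.mpr hTS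
  have hfinT : Finite T := finite_of_le hTS
  have hTp : IsPGroup p T := isPGroup_of_le hTS hS
  refine ⟨L.sys hS hΔ, L.sys_isNormalIn hS hΔ hF hrad hsat, ?_, ?_, fun α => ?_, fun R hR =>
    hR.2.2 _ hsat (L.sys_hasPrimeToPIndexIn hS hΔ hF hrad)⟩
  · intro h
    obtain ⟨d, hd⟩ := exists_ne (1 : Δ)
    obtain ⟨β, hβ, hβd⟩ := L.surj d
    have hb := isMor_autFun le_rfl hβ
    have h1 := ((L.isMor_sys_iff hS hΔ L.self_mem).mp ((hom_eq_iff.mp (h S) _).mpr hb)).2
    exact hd (L.unique L.self_mem hb hβd h1)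
  · have hM : ∀ P f, IsMor E P f ∧ IsMor (L.sys hS hΔ) P f →
        ∀ x ∈ P, ∀ y ∈ P, f (x * y) = f x * f y := fun P f h x hx y hy => h.1.map_mul hx hy
    let E' : FusionSystem T := ofPred T (fun P f => IsMor E P f ∧ IsMor (L.sys hS hΔ) P f)
      (fun P f h => ⟨h.1.le, fun x hx => h.1.mem hx⟩)
      (fun P f h x hx y hy e => h.1.inj hx hy e)
      (fun P f g h e => ⟨h.1.congr e, h.2.congr e⟩)
      (fun P g hP hg => ⟨isMor_cj E hP hg, isMor_cj _ (hP.trans hTS) (hTS hg)⟩)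
      (fun P Q f g hf hg h => ⟨hf.1.comp hg.1 h, hf.2.comp hg.2 h⟩)
      (fun P f hf _ => by
        obtain ⟨g, hg, hgl, -, -⟩ := hf.1.inverse
        obtain ⟨g', hg', hgl', -, -⟩ := hf.2.inverse
        refine ⟨g, ⟨hg, hg'.congr fun y hy => ?_⟩, hgl⟩
        obtain ⟨x, hx, rfl⟩ := hf.1.mem_img.mp hy
        rw [hgl x hx, hgl' x hx])
    have hle : E ≤ E' := alperin hTp hEs fun P hP a ha => by
      have hPT : P ≤ T := hP.elim (fun e => e.le) fun he => essential_le he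
      have hPc : E.IsCentric P := hP.elim (fun e => e ▸ centric_self E) fun he => he.1
      have hPi : P ⊓ T = P := inf_eq_left.mpr hPT
      have hP𝒳 : P ∈ {P : Subgroup Ω | E.IsCentric (P ⊓ T)} := by
        show E.IsCentric (P ⊓ T)
        rw [hPi]; exact hPc
      have ham := isMor_autFun hPT ha
      refine (autGroup_eq_set hPT a).mpr ((isMor_ofPred (hM P _)).mpr ⟨ham,
        L.isMor_sys_of_th hS hΔ hP𝒳 (le_iff_isMor.mp hsub _ _ ham) ?_⟩)
      exact nth_of_isMor χ hTS (ham.restrict inf_le_left)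
    exact le_iff_isMor.mpr fun P f hf =>
      ((isMor_ofPred (hM P f)).mp (le_iff_isMor.mp hle P f hf)).2
  · rw [autGroup_eq_set le_rfl, L.isMor_sys_iff hS hΔ L.self_mem, autGroup_eq_set (F := F) le_rfl]
    refine and_congr_right fun _ => ⟨?_, ?_⟩
    · rintro ⟨γ, hγ, e, he, hfe⟩
      rw [hST] at he hfe
      obtain ⟨a, ha, hae⟩ := exists_aut he (he.img_eq_self fun x hx => he.mem hx)
      have hm : (⟨a, autGroup_mono hsub ha⟩ : ↥(F.autGroup T)) ∈ χ.ker :=
        hker (Subgroup.mem_subgroupOf.mpr ha)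
      refine ⟨γ * ⟨a, autGroup_mono hsub ha⟩, by
        rw [map_mul, hγ, one_mul, MonoidHom.mem_ker.mp hm], fun t => ?_⟩
      rw [← autFun_coe, ← autFun_coe α ⟨t, hTS t.2⟩]
      show autFun ((γ : MulAut T) * a) t = autFun α t
      rw [autFun_mul _ _ t.2, hae t t.2, hfe t t.2]
    · rintro ⟨β, hβ, hβe⟩
      refine ⟨β, hβ, id, isMor_id E inf_le_right, fun x hx => ?_⟩
      have h := hβe ⟨x, hx.2⟩
      rw [← autFun_coe, ← autFun_coe α ⟨x, hTS hx.2⟩] at h
      exact h.symm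

end Cfsg.Agent.S5243
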