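import Cfsg.Statements.S5245
import Cfsg.Agent.Lib.Fusion.AutSystem
import Cfsg.Agent.Lib.Fusion.Criteria
import Cfsg.Agent.Lib.Fusion.Hyperfocal

set_option autoImplicit false
open Cfsg Cfsg.FusionSystem CfsgLib.Fusion

namespace Cfsg.Agent.S5245

/-- Let F be an extremely sparse fusion system over a finite p-group S (saturated, not the inner system, and every saturated fusion system over any subgroup T of S contained in F is F itself or the inner system of T). Then S is normal in F, the focal and hyperfocal subgroups of F are both S, and Aut_F(S) is generated by the inner automorphisms of S together with a single automorphism of prime order q ≠ p (F is the fusion system of the semidirect product of S by a cyclic group of prime order). -/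
theorem result {Ω : Type*} [Group Ω] {S : Subgroup Ω} [Finite S] (p : ℕ) [Fact p.Prime] (hS : IsPGroup p S) (F : Cfsg.FusionSystem S) (hF : F.IsSaturated p) (hxs : ¬ (∀ P : Subgroup Ω, F.Hom P = (Cfsg.innerFusionSystem S).Hom P) ∧ ∀ (T : Subgroup Ω) (E : Cfsg.FusionSystem T), E.IsSaturated p → E.IsSubsystemOf F → (T = S ∧ ∀ P : Subgroup Ω, E.Hom P = F.Hom P) ∨ (∀ P : Subgroup Ω, E.Hom P = (Cfsg.innerFusionSystem T).Hom P)) : F.IsNormal S ∧ F.focalSubgroup = S ∧ F.hyperfocalSubgroup p = S ∧ ∃ (q : ℕ) (β : MulAut ↥S), q.Prime ∧ q ≠ p ∧ β ∈ F.autGroup S ∧ orderOf β = q ∧ (F.autGroup S : Subgroup (MulAut ↥S)) = Cfsg.Inn ↥S ⊔ Subgroup.zpowers β := by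
  obtain ⟨hne, hmin⟩ := hxs
  -- an automorphism of order prime to `p` generates the system
  have key : ∀ R : Subgroup Ω, R ≤ S → ∀ α ∈ F.autGroup R, ∀ q : ℕ, q.Prime → q ≠ p → orderOf α = q →
      R = S ∧ ∀ P f, IsMor F P f → ∃ t ∈ R, ∃ γ ∈ Subgroup.zpowers α, ∀ x ∈ P, f x = cj t (autFun γ x) := by
    intro R hR α hα q hq hqp hord
    have : Finite R := finite_of_le hR
    obtain ⟨E, hEs, hE⟩ := exists_autSystem (p := p) (isPGroup_of_le hR hS) (Subgroup.zpowers α)
      (by rw [Nat.card_zpowers, hord]; exact (Nat.coprime_primes hq Fact.out).mpr hqp)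
    have hsub : E.IsSubsystemOf F := le_iff_isMor.mpr fun P f hf => by
      obtain ⟨hP, t, ht, γ, hγ, e⟩ := (hE P f).mp hf
      have h1 : IsMor F P (autFun γ) :=
        (isMor_autFun hR (Subgroup.zpowers_le.mpr hα hγ)).restrict hP
      refine (h1.comp (isMor_cj F le_rfl (hR ht)) fun x hx => hR (autFun_mem γ (hP hx))).congr ?_
      intro x hx
      exact (e x hx).symm
    rcases hmin R E hEs hsub with ⟨hRS, hEF⟩ | hinn
    · exact ⟨hRS, fun P f hf => ((hE P f).mp ((hom_eq_iff.mp (hEF P) f).mpr hf)).2⟩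
    · exfalso
      have hm : IsMor E R (autFun α) := (hE R _).mpr ⟨le_rfl, 1, R.one_mem, α, Subgroup.mem_zpowers α,
        fun x _ => by rw [cj_one]⟩
      obtain ⟨g, hg, e⟩ := (isMor_inner.mp ((hom_eq_iff.mp (hinn R) _).mp hm)).2
      obtain ⟨k, hk⟩ := isPGroup_of_le hR hS ⟨g, hg⟩
      have hpow : ∀ n : ℕ, ∀ x ∈ R, autFun (α ^ n) x = cj (g ^ n) x := by
        intro n
        induction n with
        | zero => intro x hx; rw [pow_zero, pow_zero, autFun_one hx, cj_one]
        | succ n ih =>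
          intro x hx
          have hmem : cj (g ^ n) x ∈ R :=
            R.mul_mem (R.mul_mem (R.pow_mem hg n) hx) (R.inv_mem (R.pow_mem hg n))
          rw [pow_succ', pow_succ', autFun_mul _ _ hx, ih x hx, e _ hmem, cj_mul]
      have h1 : α ^ p ^ k = 1 := autFun_inj fun x hx => by
        rw [hpow _ x hx, show g ^ p ^ k = 1 from congrArg Subtype.val hk, cj_one, autFun_one hx]
      have h2 := orderOf_dvd_of_pow_eq_one h1
      rw [hord] at h2
      exact hqp ((Nat.prime_dvd_prime_iff_eq hq Fact.out).mp (hq.dvd_of_dvd_pow h2))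
  obtain ⟨R, hR, α, hα, q, hq, hqp, hord⟩ : ∃ R : Subgroup Ω, R ≤ S ∧ ∃ α ∈ F.autGroup R,
      ∃ q : ℕ, q.Prime ∧ q ≠ p ∧ orderOf α = q := by
    by_contra hno
    refine hne (hom_eq_inner hS hF fun R hR => ?_)
    rintro ⟨α, hα⟩
    have := finite_mulAut (P := R) hR
    refine ⟨(orderOf α).factorization p, Subtype.ext ?_⟩
    show α ^ p ^ (orderOf α).factorization p = 1
    rw [← orderOf_dvd_iff_pow_eq_one]
    suffices h : orderOf α / p ^ (orderOf α).factorization p = 1 by
      exact (Nat.div_eq_iff_eq_mul_left (pow_pos (Fact.out : p.Prime).pos _)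
        (Nat.ordProj_dvd _ _)).mp h |>.trans (one_mul _) |>.dvd
    by_contra hm
    obtain ⟨q, hq, hqd⟩ := Nat.exists_prime_and_dvd hm
    have hqp : q ≠ p := fun e => Nat.not_dvd_ordCompl (Fact.out : p.Prime) (orderOf_pos α).ne' (e ▸ hqd)
    have hqa : q ∣ orderOf α := hqd.trans (Nat.ordCompl_dvd _ _)
    refine hno ⟨R, hR, α ^ (orderOf α / q), Subgroup.pow_mem _ hα _, q, hq, hqp, ?_⟩
    rw [orderOf_pow_orderOf_div (orderOf_pos α).ne' hqa]
  obtain ⟨rfl, hmaps⟩ := key R hR α hα q hq hqp hord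
  have hSn : F.IsNormal R := isNormal_iff.mpr ⟨le_rfl, fun P f hf => by
    obtain ⟨t, ht, γ, hγ, e⟩ := hmaps P f hf
    have h1 : IsMor F R (autFun γ) := isMor_autFun le_rfl (Subgroup.zpowers_le.mpr hα hγ)
    have h2 := h1.comp (isMor_cj F le_rfl ht) fun x hx => autFun_mem γ hx
    refine ⟨_, h2.restrict (sup_le hf.le le_rfl), fun x hx => (e x hx).symm, ?_⟩
    exact h2.img_eq_self fun x hx => h2.mem hx⟩
  have hhyp : F.hyperfocalSubgroup p = R := by
    refine le_antisymm hyp_le_top ?_
    by_contra hlt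
    set T := F.hyperfocalSubgroup p with hT
    have hm : IsMor F T (autFun α) := (isMor_autFun le_rfl hα).restrict hyp_le_top
    obtain ⟨β, hβ, hβe⟩ := exists_aut hm (hm.img_eq_self fun x hx =>
      (stronglyClosed_iff.mp (hyp_stronglyClosed hS hF)).2 T _ hm x hx hx)
    have hn : ∀ n : ℕ, ∀ x ∈ T, autFun (β ^ n) x = autFun (α ^ n) x := by
      intro n
      induction n with
      | zero => intro x hx; rw [pow_zero, pow_zero, autFun_one hx, autFun_one (hyp_le_top hx)]
      | succ n ih =>
        intro x hx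
        rw [pow_succ', pow_succ', autFun_mul _ _ hx, autFun_mul _ _ (hyp_le_top hx),
          hβe _ (autFun_mem _ hx), ih x hx]
    have hb : β = 1 := by
      have hd : orderOf β ∣ q := orderOf_dvd_of_pow_eq_one (autFun_inj fun x hx => by
        rw [hn _ x hx, ← hord, pow_orderOf_eq_one, autFun_one (hyp_le_top hx), autFun_one hx])
      rcases (Nat.dvd_prime hq).mp hd with h | h
      · exact orderOf_eq_one_iff.mp h
      · exact absurd (key T hyp_le_top β hβ q hq hqp h).1.ge hlt
    have hfix : ∀ x ∈ R, autFun α x = x := by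
      intro x hx
      set c := x⁻¹ * autFun α x with hc
      have hcT : c ∈ T := hyp_gen le_rfl hα (hord ▸ (Nat.coprime_primes hq Fact.out).mpr hqp) hx
      have hcf : ∀ m : ℕ, autFun α (c ^ m) = c ^ m := fun m => by
        rw [← hβe _ (T.pow_mem hcT m), hb, autFun_one (T.pow_mem hcT m)]
      have hpow : ∀ m : ℕ, autFun (α ^ m) x = x * c ^ m := by
        intro m
        induction m with
        | zero => rw [pow_zero, pow_zero, autFun_one hx, mul_one]
        | succ m ihm =>
          rw [pow_succ' α, autFun_mul _ _ hx, ihm,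
            autFun_map_mul α hx (R.pow_mem (hyp_le_top hcT) m), hcf, pow_succ' c, ← mul_assoc, hc,
            mul_inv_cancel_left]
      have h1 := hpow (orderOf α)
      rw [pow_orderOf_eq_one, autFun_one hx, left_eq_mul] at h1
      obtain ⟨k, hk⟩ := hS ⟨c, hyp_le_top hcT⟩
      have h2 : c = 1 := orderOf_eq_one_iff.mp (Nat.eq_one_of_dvd_coprimes
        ((hord ▸ (Nat.coprime_primes hq Fact.out).mpr hqp : (orderOf α).Coprime p).pow_right k)
        (orderOf_dvd_of_pow_eq_one h1) (orderOf_dvd_of_pow_eq_one (congrArg Subtype.val hk)))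
      exact (inv_mul_eq_one.mp (hc.symm.trans h2)).symm
    have h1 : α = 1 := autFun_inj fun x hx => by rw [hfix x hx, autFun_one hx]
    exact hq.ne_one (by rw [← hord, h1, orderOf_one])
  refine ⟨hSn, ?_, hhyp, q, α, hq, hqp, hα, hord, ?_⟩
  · rw [focal_eq hS hF, hhyp]
    exact sup_eq_left.mpr (Subgroup.commutator_le_self R)
  refine le_antisymm (fun β hβ => ?_) (sup_le ?_ (Subgroup.zpowers_le.mpr hα))
  · obtain ⟨t, ht, γ, hγ, e⟩ := hmaps R _ (isMor_autFun le_rfl hβ)
    obtain ⟨c, hc, hce⟩ := exists_autInducedBy ht (Subgroup.le_normalizer ht)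
    have : β = c * γ := autFun_inj fun x hx => by
      rw [e x hx, autFun_mul _ _ hx, hce _ (autFun_mem γ hx)]
    rw [this]
    exact Subgroup.mul_mem_sup ((inn_eq_autInducedBy (P := R)).symm ▸ hc) hγ
  · rw [inn_eq_autInducedBy]; exact autInducedBy_le F le_rfl

end Cfsg.Agent.S5245
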