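import Cfsg.Statements.S5247
import Cfsg.Agent.Lib.Fusion.PStableNormalizer
-- import your own Cfsg.Agent.* helpers here

set_option autoImplicit false
open Cfsg Cfsg.FusionSystem CfsgLib.Fusion

namespace Cfsg.Agent.S5247

/-- Let p be an odd prime and F a saturated fusion system over a finite p-group S. Call a fusion system E (over any subgroup) p-stable when, for every fully E-normalized subgroup Q and every χ ∈ Aut_E(Q) with χ(a⁻¹)·a·χ(a⁻¹)·χ(χ(a)) = 1 for all a ∈ Q (χ acts quadratically), χ lies in O_p(Aut_E(Q)). Then F is p-stable if and only if every normalizer fusion system N_F(R) of every non-cyclic fully F-normalized subgroup R of S is p-stable. -/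
theorem result {Ω : Type*} [Group Ω] {S : Subgroup Ω} [Finite S] (p : ℕ) [Fact p.Prime] (hS : IsPGroup p S) (F : Cfsg.FusionSystem S) (hF : F.IsSaturated p) (hp : p ≠ 2) : (∀ Q : Subgroup Ω, F.IsFullyNormalized Q → ∀ χ : MulAut ↥Q, χ ∈ F.autGroup Q → (∀ a : ↥Q, (χ a⁻¹) * a * (χ a⁻¹) * (χ (χ a)) = 1) → χ ∈ ((Cfsg.pCore p ↥(F.autGroup Q)).map (F.autGroup Q).subtype : Subgroup (MulAut ↥Q))) ↔ ∀ R : Subgroup Ω, F.IsFullyNormalized R → ¬ IsCyclic ↥R → ∀ N : Cfsg.FusionSystem (Cfsg.FusionSystem.normalizerIn S R), F.IsNormalizerSystem R N → (∀ Q : Subgroup Ω, N.IsFullyNormalized Q → ∀ χ : MulAut ↥Q, χ ∈ N.autGroup Q → (∀ a : ↥Q, (χ a⁻¹) * a * (χ a⁻¹) * (χ (χ a)) = 1) → χ ∈ ((Cfsg.pCore p ↥(N.autGroup Q)).map (N.autGroup Q).subtype : Subgroup (MulAut ↥Q))) := by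
  refine ⟨fun h R _ _ N hN => quadStable_normalizer hS h hN, fun h => ?_⟩
  have hcomm : ∀ {Q : Subgroup Ω}, IsCyclic ↥Q → ∀ a b : MulAut ↥Q, a * b = b * a := by
    intro Q hQ a b
    obtain ⟨m, hm⟩ := MonoidHom.map_cyclic a.toMonoidHom
    obtain ⟨n, hn⟩ := MonoidHom.map_cyclic b.toMonoidHom
    have hm' : ∀ x, a x = x ^ m := hm
    have hn' : ∀ x, b x = x ^ n := hn
    exact MulEquiv.ext fun x => by
      rw [MulAut.mul_apply, MulAut.mul_apply, hm', hn', hn', hm', ← zpow_mul, ← zpow_mul, mul_comm]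
  refine quadStable_of_normalizers hS hF fun R hR hc hrad N hN => ?_
  by_cases hcyc : IsCyclic ↥R
  swap
  · exact h R hR hcyc N hN
  -- a cyclic centric radical subgroup is the whole of `S`
  have hRS : R = S := by
    by_contra hne
    obtain hgt := normalizerIn_gt hS (lt_of_le_of_ne hc.1 hne)
    obtain ⟨g, hg, hgR⟩ := SetLike.exists_of_lt hgt
    obtain ⟨hgS, hgn⟩ := mem_normalizerIn.mp hg
    obtain ⟨α, hα, hαe⟩ := exists_autInducedBy (K := S) hgS hgn
    have hinn := le_inn_of_radical hrad (autInducedBy_le F hc.1) (isPGroup_autInducedBy hS)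
      (fun a _ k hk => by rw [hcomm hcyc a k, mul_inv_cancel_right]; exact hk) hα
    obtain ⟨r, hr, hre⟩ := mem_inn.mp hinn
    refine hgR (centric_centralizer_le hc (mem_centralizerIn.mpr ⟨hgS, fun x hx => ?_⟩))
    obtain ⟨⟨c, hc'⟩, hgen⟩ := hcyc.exists_generator
    have hcm : ∀ u ∈ R, ∀ v ∈ R, u * v = v * u := fun u hu v hv => by
      obtain ⟨i, hi⟩ := Subgroup.mem_zpowers_iff.mp (hgen ⟨u, hu⟩)
      obtain ⟨j, hj⟩ := Subgroup.mem_zpowers_iff.mp (hgen ⟨v, hv⟩)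
      have e : (⟨u, hu⟩ : ↥R) * ⟨v, hv⟩ = ⟨v, hv⟩ * ⟨u, hu⟩ := by
        rw [← hi, ← hj, ← zpow_add, ← zpow_add, add_comm]
      exact congrArg Subtype.val e
    rw [← hαe x hx, hre x hx, cj_apply, hcm r hr x hx, mul_inv_cancel_right]
  intro Q hQ χ hχ hq
  have hQR : Q ≤ R := hRS.symm ▸ hQ.1.trans normalizerIn_le
  have hQc : IsCyclic ↥Q := isCyclic_of_injective (Subgroup.inclusion hQR) (Subgroup.inclusion_injective hQR)
  have : Finite ↥Q := finite_of_le (hQ.1.trans normalizerIn_le)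
  exact le_pCoreAut (K := Subgroup.zpowers χ) (Subgroup.zpowers_le.mpr hχ)
    (quad_isPGroup_zpowers (isPGroup_of_le (hQ.1.trans normalizerIn_le) hS) hq)
    (fun a _ k hk => by rw [hcomm hQc a k, mul_inv_cancel_right]; exact hk)
    (Subgroup.mem_zpowers χ)

end Cfsg.Agent.S5247
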