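import Cfsg.Statements.S5248
import Cfsg.Agent.Lib.Fusion.MaxClassMain
import Cfsg.Agent.Lib.Fusion.WreathedRealize
-- import your own Cfsg.Agent.* helpers here

set_option autoImplicit false
open Cfsg CfsgLib.Fusion

namespace Cfsg.Agent.S5248

/-- Let S be a finite 2-group that is dihedral of order at least 8, generalized quaternion of order at least 8, semidihedral, or wreathed, and let F be a saturated fusion system over S. Then F has at most two F-conjugacy classes of F-essential subgroups (among any three essential subgroups two are joined by a map of F), and F is realizable: it is the fusion system of a finite group on a Sylow 2-subgroup. -/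
theorem result {Ω : Type*} [Group Ω] {S : Subgroup Ω} [Finite S] (hS : IsPGroup 2 S) (F : Cfsg.FusionSystem S) (hF : F.IsSaturated 2) (hshape : ((∃ m : ℕ, 4 ≤ m ∧ Nonempty (↥S ≃* DihedralGroup m)) ∨ (∃ m : ℕ, 2 ≤ m ∧ Nonempty (↥S ≃* QuaternionGroup m)) ∨ Cfsg.IsQuasiDihedral ↥S ∨ Cfsg.IsWreathed ↥S)) : (∀ E₁ E₂ E₃ : Subgroup Ω, F.IsEssential 2 E₁ → F.IsEssential 2 E₂ → F.IsEssential 2 E₃ → (∃ φ ∈ F.Hom E₁, φ.range = E₂) ∨ (∃ φ ∈ F.Hom E₁, φ.range = E₃) ∨ (∃ φ ∈ F.Hom E₂, φ.range = E₃)) ∧ F.IsRealizable 2 := by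
  rcases hshape with ⟨m, hm, ⟨e⟩⟩ | ⟨m, hm, ⟨e⟩⟩ | hq | hw
  · obtain ⟨d, hr⟩ := isRealizable_dihedral hS hF hm e
    exact ⟨fun _ _ _ h₁ h₂ h₃ => d.two_classes hS h₁ h₂ h₃, hr⟩
  · haveI : NeZero m := ⟨by omega⟩
    obtain ⟨j, hj⟩ := IsPGroup.iff_card.mp hS
    rw [Nat.card_congr e.toEquiv, Nat.card_eq_fintype_card, QuaternionGroup.card] at hj
    rcases (show m = 2 ∨ m = 3 ∨ 4 ≤ m by omega) with rfl | rfl | hm4
    · obtain ⟨hne, hr⟩ := quaternion_eight hS hF e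
      exact ⟨fun _ _ _ h₁ _ _ => absurd h₁ (hne _), hr⟩
    · exfalso
      have h3 : 3 ∣ 2 ^ j := hj ▸ dvd_mul_left 3 4
      have := (Nat.prime_three.dvd_of_dvd_pow h3)
      omega
    · obtain ⟨d, hr⟩ := isRealizable_quaternion hS hF hm4 e
      exact ⟨fun _ _ _ h₁ h₂ h₃ => d.two_classes hS h₁ h₂ h₃, hr⟩
  · obtain ⟨d, hr⟩ := isRealizable_quasiDihedral hS hF hq
    exact ⟨fun _ _ _ h₁ h₂ h₃ => d.two_classes hS h₁ h₂ h₃, hr⟩
  · obtain ⟨d⟩ := CfsgLib.Involutions.nonempty_wr hw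
    exact ⟨fun _ _ _ h₁ h₂ h₃ => d.two_classes h₁ h₂ h₃, d.isRealizable hF⟩

end Cfsg.Agent.S5248
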