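import Cfsg.Statements.S5253
import Cfsg.Agent.Lib.Fusion.CenterNormalizer
import Cfsg.Agent.Lib.Fusion.FunctorMap
import Cfsg.Agent.S1974

set_option autoImplicit false
universe u
open Cfsg Cfsg.FusionSystem CfsgLib.Fusion

namespace Cfsg.Agent.S5253

/-- Let p be a prime and W a positive characteristic p-functor with Z(Q) ≤ W(Q): W assigns to every finite p-group Q (in a fixed universe) a subgroup W(Q), nontrivial when Q is, carried to W(R) by every isomorphism Q ≅ R, and containing the centre of Q. Suppose that for every finite group G with Sylow p-subgroup P in which W(P) is not normal there is g ∈ P outside O_p(G) with [Z(O_p(G)), g, g] = 1. Then for every saturated fusion system F over a finite p-group S and every normalizer fusion system N of W(S) in F, every p-th power of an element of Z(S) that lies in the centre of N lies in the centre of F. -/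
theorem result {p : ℕ} [Fact p.Prime] (W : ∀ (Q : Type u) [Group Q], Subgroup Q) (hW1 : ∀ (Q : Type u) [Group Q] [Finite Q], IsPGroup p Q → Nontrivial Q → W Q ≠ ⊥) (hW2 : ∀ (Q R : Type u) [Group Q] [Group R] [Finite Q], IsPGroup p Q → ∀ φ : Q ≃* R, (W Q).map φ.toMonoidHom = W R) (hWZ : ∀ (Q : Type u) [Group Q] [Finite Q], IsPGroup p Q → Subgroup.center Q ≤ W Q) (hq : ∀ (G : Type u) [Group G] [Finite G] (P : Sylow p G), ¬ (((W ↥(P : Subgroup G)).map (P : Subgroup G).subtype : Subgroup G)).Normal → ∃ g : G, g ∈ (P : Subgroup G) ∧ g ∉ Cfsg.pCore p G ∧ ⁅⁅Subgroup.center ↥(Cfsg.pCore p G) |>.map (Cfsg.pCore p G).subtype, Subgroup.zpowers g⁆, Subgroup.zpowers g⁆ = ⊥) {Ω : Type u} [Group Ω] {S : Subgroup Ω} [Finite S] (hS : IsPGroup p S) (F : Cfsg.FusionSystem S) (hF : F.IsSaturated p) (N : Cfsg.FusionSystem (Cfsg.FusionSystem.normalizerIn S ((W ↥S).map S.subtype))) (hN : F.IsNormalizerSystem ((W ↥S).map S.subtype) N) : Subgroup.closure ((fun z => z ^ p)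 '' ((S ⊓ Subgroup.centralizer (S : Set Ω) : Subgroup Ω) : Set Ω)) ⊓ N.center ≤ F.center := by
  let w : PFunctor'.{u} p := ⟨W, hW1, hW2⟩
  have hwZ : ∀ (Ω : Type u) [Group Ω] (S : Subgroup Ω) [Finite S], IsPGroup p S →
      S ⊓ Subgroup.centralizer (S : Set Ω) ≤ w.at S := fun _ _ _ _ h => center_le_at w hWZ h
  rintro x ⟨hx, hxN⟩
  have hpow : ∃ a ∈ S ⊓ Subgroup.centralizer (S : Set Ω), a ^ p ^ 1 = x := by
    clear hxN
    induction hx using Subgroup.closure_induction with
    | mem y hy =>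
      obtain ⟨a, ha, rfl⟩ := hy
      exact ⟨a, ha, by rw [pow_one]⟩
    | one => exact ⟨1, Subgroup.one_mem _, one_pow _⟩
    | mul y z _ _ ihy ihz =>
      obtain ⟨a, ha, rfl⟩ := ihy
      obtain ⟨b, hb, rfl⟩ := ihz
      exact ⟨a * b, Subgroup.mul_mem _ ha hb,
        (show Commute a b from (Subgroup.mem_inf.mp hb).2 a (Subgroup.mem_inf.mp ha).1).mul_pow _⟩
    | inv y _ ihy =>
      obtain ⟨a, ha, rfl⟩ := ihy
      exact ⟨a⁻¹, Subgroup.inv_mem _ ha, inv_pow a _⟩
  obtain ⟨a, ha, rfl⟩ := hpow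
  refine center_le_of_models w 1 (Multiplicative ℤ) hwZ (fun L _ _ T hc _ c hcT hcn g => ?_) hS hF
    isSectionFree_int ha hN hxN
  rw [pow_one] at hcn ⊢
  set Z := Subgroup.closure ((fun z : L => z ^ p) ''
    (((T : Subgroup L) ⊓ Subgroup.centralizer ((T : Subgroup L) : Set L) : Subgroup L) : Set L)) with hZ
  have hloc : ∀ (H U : Subgroup L), U ≤ H → IsPGroup p ↥U → ¬ p ∣ U.relIndex H →
      ¬ H ≤ Subgroup.normalizer ((w.at U : Subgroup L) : Set L) →
      ∃ g : L, g ∈ U ∧ g ∉ Cfsg.pCoreOf p H ∧ ⁅⁅Cfsg.pCoreOf p H ⊓ Subgroup.centralizer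
        ((Cfsg.pCoreOf p H : Subgroup L) : Set L), Subgroup.zpowers g⁆, Subgroup.zpowers g⁆ = ⊥ := by
    intro H U hUH hU hidx hnn
    let PH : Sylow p H := (hU.comap_subtype (K := H)).toSylow hidx
    have e1 : (w.at (PH : Subgroup H)).map H.subtype = w.at U := by
      rw [w.map_at H.subtype_injective PH.2]
      exact congrArg w.at (Subgroup.map_subgroupOf_eq_of_le hUH)
    have hnN : ¬ (w.at (PH : Subgroup H)).Normal := fun hn => hnn fun y hy => by
      have := Subgroup.le_normalizer_map H.subtype ⟨⟨y, hy⟩,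
        (Subgroup.normalizer_eq_top_iff.mpr hn).ge (Subgroup.mem_top _), rfl⟩
      rwa [e1] at this
    obtain ⟨g, hg, hgO, hgq⟩ := hq ↥H PH hnN
    refine ⟨g, hg, fun h => hgO ?_, ?_⟩
    · obtain ⟨y, hy, e⟩ := h
      exact (Subtype.ext e : y = g) ▸ hy
    · have e2 : Cfsg.pCoreOf p H ⊓ Subgroup.centralizer ((Cfsg.pCoreOf p H : Subgroup L) : Set L) =
          ((Subgroup.center ↥(Cfsg.pCore p H)).map (Cfsg.pCore p H).subtype).map H.subtype := by
        ext y
        constructor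
        · rintro ⟨⟨z, hz, rfl⟩, hzc⟩
          exact ⟨z, ⟨⟨z, hz⟩, Subgroup.mem_center_iff.mpr fun v =>
            Subtype.ext (Subtype.ext (hzc _ ⟨v, v.2, rfl⟩)), rfl⟩, rfl⟩
        · rintro ⟨_, ⟨⟨z, hz⟩, hzc, rfl⟩, rfl⟩
          refine ⟨⟨z, hz, rfl⟩, ?_⟩
          rintro _ ⟨v, hv, rfl⟩
          exact congrArg (fun t : ↥(Cfsg.pCore p H) => ((t : H) : L))
            (Subgroup.mem_center_iff.mp hzc ⟨v, hv⟩)
      have e3 : Subgroup.zpowers (g : L) = (Subgroup.zpowers g).map H.subtype := by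
        rw [MonoidHom.map_zpowers]; rfl
      rw [e2, e3, ← Subgroup.map_commutator, ← Subgroup.map_commutator, hgq, Subgroup.map_bot]
  have hxC : c ^ p ∈ Z ⊓ Subgroup.centralizer
      ((Subgroup.normalizer (w.at (T : Subgroup L) : Set L) : Subgroup L) : Set L) :=
    ⟨Subgroup.subset_closure ⟨c, hcT, rfl⟩, fun y hy => hcn y hy⟩
  have hwc := (Cfsg.Agent.S1974.result T (fun P => w.at P) (w.isConjugacyFunctor L)
    (fun P hP => hwZ L P hP) hloc Z hZ).1 _ hxC g (by
      refine CfsgLib.Base.pCore_le_sylow T ((inferInstance : (Cfsg.pCore p L).Normal).conj_mem _ ?_ g)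
      exact Subgroup.pow_mem _ (hc fun y hy =>
        (Subgroup.mem_inf.mp hcT).2 y (CfsgLib.Base.pCore_le_sylow T hy)) p)
  exact mul_inv_eq_iff_eq_mul.mp hwc

end Cfsg.Agent.S5253
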