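import Cfsg.Statements.S5254
import Cfsg.Agent.Lib.Fusion.AbelianIndexPEssentials
-- import your own Cfsg.Agent.* helpers here

set_option autoImplicit false
open Cfsg CfsgLib.Fusion CfsgLib.Fusion.AbelianIndexP

namespace Cfsg.Agent.S5254

/-- Let p be an odd prime, S a finite nonabelian p-group with a unique abelian subgroup A of index p, and F a saturated fusion system over S. Then every F-essential subgroup P is A, or Z(S)⟨x⟩ for some x ∈ S outside A, or (when the second centre Z₂(S) lies in A) Z₂(S)⟨x⟩ for some x ∈ S outside A; and P has index p in its normalizer in S. -/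
theorem result {Ω : Type*} [Group Ω] {S : Subgroup Ω} [Finite S] (p : ℕ) [Fact p.Prime] (hS : IsPGroup p S) (F : Cfsg.FusionSystem S) (hF : F.IsSaturated p) (hp : p ≠ 2) (hna : ¬ IsMulCommutative ↥S) (A : Subgroup Ω) (hA : A ≤ S ∧ IsMulCommutative ↥A ∧ (A.subgroupOf S).index = p) (huniq : ∀ B : Subgroup Ω, B ≤ S → IsMulCommutative ↥B → (B.subgroupOf S).index = p → B = A) (P : Subgroup Ω) (hP : F.IsEssential p P) : (P = A ∨ (∃ x ∈ S, x ∉ A ∧ P = (S ⊓ Subgroup.centralizer (S : Set Ω)) ⊔ Subgroup.zpowers x) ∨ (((upperCentralSeries ↥S 2).map S.subtype) ≤ A ∧ ∃ x ∈ S, x ∉ A ∧ P = ((upperCentralSeries ↥S 2).map S.subtype) ⊔ Subgroup.zpowers x)) ∧ (P.subgroupOf (S ⊓ Subgroup.normalizer (P : Set Ω))).index = p := by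
  classical
  obtain ⟨hAS, hAc, hAi⟩ := hA
  have H : Setup p S A := ⟨hS, hAS, fun u hu v hv =>
    congrArg Subtype.val (hAc.is_comm.comm (⟨u, hu⟩ : A) ⟨v, hv⟩), hAi, by
    by_contra h
    push Not at h
    exact hna ⟨⟨fun a b => Subtype.ext (h a a.2 b b.2)⟩⟩⟩
  have hu : ∀ B : Subgroup _, Setup p S B → B = A := fun B hB =>
    huniq B hB.le ⟨⟨fun a b => Subtype.ext (hB.comm a a.2 b b.2)⟩⟩ hB.index
  by_cases hPA : P = A
  · subst hPA
    refine ⟨Or.inl rfl, ?_⟩
    have hN : S ⊓ Subgroup.normalizer (P : Set _) = S := inf_eq_left.2 fun s hs => by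
      rw [Subgroup.mem_normalizer_iff]
      refine fun u => ⟨fun hu' => H.conj_mem hs hu', fun hu' => ?_⟩
      have := H.conj_mem (S.inv_mem hs) hu'
      simpa [mul_assoc] using this
    rw [hN]
    exact hAi
  obtain ⟨y, hy, hyA, hline, hshape⟩ := H.essential_shape hF hP hPA
  refine ⟨Or.inr ?_, H.normalizer_index hS hF hP hy hyA hline hshape⟩
  have hPS := hP.1.1
  have hgen : ∀ B, P ⊓ A = B → P = B ⊔ Subgroup.zpowers y := by
    intro B hB
    refine le_antisymm (fun u hu' => ?_)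
      (sup_le (hB ▸ inf_le_left) (Subgroup.zpowers_le.2 hy))
    obtain ⟨a, ha, k, rfl⟩ := H.decomp (hPS hy) hyA (hPS hu')
    exact Subgroup.mul_mem_sup
      (hB ▸ ⟨(Subgroup.mul_mem_cancel_right P (P.zpow_mem hy k)).1 hu', ha⟩)
      (Subgroup.zpow_mem _ (Subgroup.mem_zpowers y) k)
  rcases hshape with h | h
  · exact Or.inl ⟨y, hPS hy, hyA, hgen _ h⟩
  · refine Or.inr ⟨H.second_le hu hline, y, hPS hy, hyA, hgen _ ?_⟩
    rw [h]
    exact inf_eq_left.2 (H.second_le hu hline)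

end Cfsg.Agent.S5254
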