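import Cfsg.Statements.S5255
import Cfsg.Agent.Lib.Fusion.Morphism
-- import your own Cfsg.Agent.* helpers here

set_option autoImplicit false
open Cfsg

namespace Cfsg.Agent.S5255

open Cfsg Cfsg.FusionSystem CfsgLib.Fusion


/-- Let F be a saturated fusion system over a finite p-group S and T a subgroup of S strongly closed in F. Then T·C_S(T) is strongly closed in F. -/
theorem result {Ω : Type*} [Group Ω] {S : Subgroup Ω} [Finite S] (p : ℕ) [Fact p.Prime] (hS : IsPGroup p S) (F : Cfsg.FusionSystem S) (hF : F.IsSaturated p) (T : Subgroup Ω) (hT : F.StronglyClosed T) : F.StronglyClosed (T ⊔ Cfsg.FusionSystem.centralizerIn S T) := by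
  have hn : centralizerIn S T ≤ Subgroup.normalizer (T : Set Ω) :=
    fun x hx => stronglyClosed_le_normalizer hT (mem_centralizerIn.mp hx).1
  refine stronglyClosed_iff.mpr ⟨sup_le hT.1 inf_le_left, fun P f hf x hxP hx => ?_⟩
  rw [← SetLike.mem_coe, Subgroup.coe_mul_of_right_le_normalizer_left _ _ hn] at hx
  obtain ⟨a, ha, b, hb, rfl⟩ := hx
  obtain ⟨g, hg, hgf⟩ := exists_map_sup hS hF hT (hf.restrict (Subgroup.zpowers_le.mpr hxP))
  have hx' := Subgroup.mem_zpowers (a * b)
  have ha' : a ∈ Subgroup.zpowers (a * b) ⊔ T := Subgroup.mem_sup_right ha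
  have hb' : b ∈ Subgroup.zpowers (a * b) ⊔ T :=
    (Subgroup.mul_mem_cancel_left _ ha').mp (Subgroup.mem_sup_left hx')
  have hgT : img T g = T := (hg.restrict le_sup_right).img_eq_self fun y hy =>
    (stronglyClosed_iff.mp hT).2 _ g hg y (Subgroup.mem_sup_right hy) hy
  have hgb : g b ∈ centralizerIn S T := mem_centralizerIn.mpr ⟨hg.mem hb', fun y hy => by
    rw [← hgT] at hy
    obtain ⟨y₀, hy₀, rfl⟩ := (hg.restrict (le_sup_right : T ≤ Subgroup.zpowers (a * b) ⊔ T)).mem_img.mp hy
    have := hg.map_conj hb' (Subgroup.mem_sup_right hy₀)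
    have e : b * y₀ * b⁻¹ = y₀ := (mem_centralizerIn.mp hb).2 y₀ hy₀
    rw [e] at this
    exact this.symm⟩
  have h1 : g (a * b) ∈ T ⊔ centralizerIn S T := by
    rw [hg.map_mul ha' hb']
    exact Subgroup.mul_mem _
      (Subgroup.mem_sup_left ((stronglyClosed_iff.mp hT).2 _ g hg a ha' ha))
      (Subgroup.mem_sup_right hgb)
  have h2 := (T ⊔ centralizerIn S T).mul_mem h1
    ((T ⊔ centralizerIn S T).inv_mem (Subgroup.mem_sup_left (hgf _ hx')))
  simpa using h2

end Cfsg.Agent.S5255
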