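import Cfsg.Statements.S5256
import Cfsg.Agent.Lib.Fusion.Hyperfocal
import Cfsg.Agent.Lib.Fusion.Factor
-- import your own Cfsg.Agent.* helpers here

set_option autoImplicit false
open Cfsg

namespace Cfsg.Agent.S5256

open Cfsg Cfsg.FusionSystem CfsgLib.Fusion


/-- Let F be a saturated fusion system over a finite p-group S, T a subgroup of S strongly closed in F, and E a factor system F/T realised along a homomorphism θ of S with kernel T. Then the hyperfocal subgroup of E is the image under θ of the hyperfocal subgroup of F (hyp(F/T) = T·hyp(F)/T). -/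
theorem result {Ω : Type*} [Group Ω] {S : Subgroup Ω} [Finite S] (p : ℕ) [Fact p.Prime] (hS : IsPGroup p S) (F : Cfsg.FusionSystem S) (hF : F.IsSaturated p) (T : Subgroup Ω) (hT : F.StronglyClosed T) {Ω' : Type*} [Group Ω'] {S' : Subgroup Ω'} (θ : ↥S →* Ω') (E : Cfsg.FusionSystem S') (hE : F.IsFactorSystem T θ E) : E.hyperfocalSubgroup p = ((F.hyperfocalSubgroup p).subgroupOf S).map θ := by
  obtain ⟨hTle, hker, hrange, hmaps⟩ := id hE
  have hmor := factor_isMorphism hS hF hT hE
  refine le_antisymm (hyp_le fun P' hP' α' hα' hc y hy => ?_) ?_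
  · obtain ⟨-, φ, hφ, hRS, hφS, hmem, hind⟩ := (hmaps P' _).mp
      (IsMor.mem_hom (isMor_autFun hP' hα') (φ := P'.subtype.comp α'.toMonoidHom)
        fun z => (autFun_coe α' z).symm)
    have hαm := isMor_of_mem hφ
    have hmaps' : ∀ z ∈ (preimageAlong θ P'), toFun φ z ∈ (preimageAlong θ P') := fun z hz => by
      rw [toFun_of_mem φ hz]
      refine mem_preimageAlong.mpr ⟨hφS _, ?_⟩
      rw [← hind ⟨z, hz⟩]
      exact SetLike.coe_mem _
    obtain ⟨α, hα, hαe⟩ := exists_aut hαm (hαm.img_eq_self hmaps')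
    have hact : ∀ (z : Ω) (hz : z ∈ (preimageAlong θ P')), θ ⟨autFun α z, preimageAlong_le _ (autFun_mem α hz)⟩ =
        autFun α' (θ ⟨z, preimageAlong_le _ hz⟩) := by
      intro z hz
      have h1 := hind ⟨z, hz⟩
      rw [autFun_of_mem α' (hmem ⟨z, hz⟩)]
      refine (Eq.trans ?_ h1.symm)
      congr 1
      exact Subtype.ext ((hαe z hz).trans (toFun_of_mem φ hz))
    have hpow : ∀ (n : ℕ) (z : Ω) (hz : z ∈ (preimageAlong θ P')),
        θ ⟨autFun (α ^ n) z, preimageAlong_le _ (autFun_mem _ hz)⟩ =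
          autFun (α' ^ n) (θ ⟨z, preimageAlong_le _ hz⟩) := by
      intro n
      induction n with
      | zero =>
        intro z hz
        rw [pow_zero α', autFun_one (hmem ⟨z, hz⟩)]
        congr 1
        exact Subtype.ext (show autFun (α ^ 0) z = z by rw [pow_zero, autFun_one hz])
      | succ n ih =>
        intro z hz
        rw [pow_succ α', autFun_mul _ _ (hmem ⟨z, hz⟩), ← hact z hz, ← ih _ (autFun_mem α hz)]
        congr 1
        exact Subtype.ext (show autFun (α ^ (n + 1)) z = autFun (α ^ n) (autFun α z) by rw [pow_succ, autFun_mul _ _ hz])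
    have := finite_mulAut (P := (preimageAlong θ P')) (preimageAlong_le P')
    obtain ⟨a, ha, b, hb, hab, ⟨k, hk⟩, hbc⟩ := CfsgLib.Transfer.exists_pPart_mul (p := p) α
    obtain ⟨m, hm⟩ : ∃ m : ℕ, (α' ^ (p ^ k)) ^ m = α' :=
      exists_pow_eq_self_of_coprime ((hc.pow_right k).symm)
    set β := α ^ (p ^ k * m) with hβ
    have hβc : (orderOf β).Coprime p := by
      have hc2 : Commute a b := by
        obtain ⟨i, rfl⟩ := hb
        obtain ⟨l, rfl⟩ := ha
        exact Commute.zpow_zpow_self α l i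
      have e : β = b ^ (p ^ k * m) := by
        rw [hβ, ← hab, hc2.mul_pow, pow_mul a, orderOf_dvd_iff_pow_eq_one.mp hk, one_pow, one_mul]
      rw [e]
      exact Nat.Coprime.coprime_dvd_left (orderOf_pow_dvd _) hbc
    have hyr : y ∈ θ.range := hrange ▸ hP' hy
    obtain ⟨z, rfl⟩ := hyr
    have hzR : (z : Ω) ∈ (preimageAlong θ P') := mem_preimageAlong.mpr ⟨z.2, hy⟩
    refine ⟨z⁻¹ * ⟨autFun β z, preimageAlong_le _ (autFun_mem β hzR)⟩, ?_, ?_⟩
    · exact hyp_gen (preimageAlong_le P') (Subgroup.pow_mem _ hα _) hβc hzR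
    · rw [map_mul, map_inv, hpow _ _ hzR, pow_mul, hm]
  · rintro _ ⟨⟨z, hzS⟩, hz, rfl⟩
    have key : F.hyperfocalSubgroup p ≤ ((E.hyperfocalSubgroup p).comap θ).map S.subtype := by
      refine hyp_le fun P hP α hα hc x hx => ?_
      set φ : P →* Ω := P.subtype.comp α.toMonoidHom
      have hφ : φ ∈ F.Hom P :=
        (isMor_autFun hP hα).mem_hom fun w => (autFun_coe α w).symm
      obtain ⟨φ', hφ', hP₁, hφS, hmem, hind⟩ := hmor.2 P φ hφ
      have hm' := isMor_of_mem hφ'
      have hact : ∀ (w : Ω) (hw : w ∈ P),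
          toFun φ' (θ ⟨w, hP hw⟩) = θ ⟨autFun α w, hP (autFun_mem α hw)⟩ := by
        intro w hw
        rw [toFun_of_mem φ' (hmem ⟨w, hw⟩), hind ⟨w, hw⟩]
        congr 1
        exact Subtype.ext (autFun_of_mem α hw).symm
      have hmaps' : ∀ w ∈ imageAlong θ P, toFun φ' w ∈ imageAlong θ P := by
        rintro _ ⟨w, hw, rfl⟩
        have := hact w hw
        simp only [Subtype.coe_eta] at this
        rw [this]
        exact ⟨_, autFun_mem α hw, rfl⟩
      have : Finite S' := hrange ▸ Finite.of_surjective _ θ.rangeRestrict_surjective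
      obtain ⟨α', hα', hαe⟩ := exists_aut hm' (hm'.img_eq_self hmaps')
      have hpow : ∀ (n : ℕ) (w : Ω) (hw : w ∈ P), autFun (α' ^ n) (θ ⟨w, hP hw⟩) =
          θ ⟨autFun (α ^ n) w, hP (autFun_mem _ hw)⟩ := by
        intro n
        induction n with
        | zero =>
          intro w hw
          rw [pow_zero α', autFun_one (hmem ⟨w, hw⟩)]
          congr 1
          exact Subtype.ext (show w = autFun (α ^ 0) w by rw [pow_zero, autFun_one hw])
        | succ n ih =>
          intro w hw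
          rw [pow_succ α', autFun_mul _ _ (hmem ⟨w, hw⟩), hαe _ (hmem ⟨w, hw⟩), hact w hw,
            ih _ (autFun_mem α hw)]
          congr 1
          exact Subtype.ext (show autFun (α ^ n) (autFun α w) = autFun (α ^ (n + 1)) w by rw [pow_succ, autFun_mul _ _ hw])
      have hdvd : α' ^ orderOf α = 1 := autFun_inj fun w hw => by
        obtain ⟨v, hv, rfl⟩ := hw
        have h1 := hpow (orderOf α) v hv
        have e : autFun (α ^ orderOf α) (v : Ω) = v := by rw [pow_orderOf_eq_one, autFun_one (show (v : Ω) ∈ P from hv)]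
        simp only [e, Subtype.coe_eta] at h1
        rw [h1, autFun_one (show θ v ∈ imageAlong θ P from ⟨v, hv, rfl⟩)]
      have := hyp_gen ((imageAlong_le_range P).trans hrange.le) hα'
        (Nat.Coprime.coprime_dvd_left (orderOf_dvd_of_pow_eq_one hdvd) hc) (hmem ⟨x, hx⟩)
      rw [hαe _ (hmem ⟨x, hx⟩), hact x hx, ← map_inv, ← map_mul] at this
      exact ⟨(⟨x, hP hx⟩ : S)⁻¹ * ⟨autFun α x, hP (autFun_mem α hx)⟩, this, rfl⟩
    obtain ⟨w, hw, hwz⟩ := key hz
    rw [show (⟨z, hzS⟩ : S) = w from Subtype.ext hwz.symm]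
    exact hw

end Cfsg.Agent.S5256
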