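import Cfsg.Statements.S5257
import Cfsg.Agent.Lib.Fusion.AbelianIndexPEssentials
-- import your own Cfsg.Agent.* helpers here

set_option autoImplicit false
open Cfsg CfsgLib.Fusion CfsgLib.Fusion.AbelianIndexP

namespace Cfsg.Agent.S5257

/-- Let p be an odd prime, S a finite nonabelian p-group with a unique abelian subgroup A of index p, and F a saturated fusion system over S having an F-essential subgroup other than A. Then the second centre Z₂(S) lies in A; Z(S) ∩ [S, S] has order p; Z(S)[S, S] has index p in A; Z(S) has index p in Z₂(S); and S/Z(S) has maximal nilpotency class (if S/Z(S) has order pᵐ with m ≥ 3 then the term of index m − 2 of the lower central series of S, counting S as index 0, is not contained in Z(S)). -/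
theorem result {Ω : Type*} [Group Ω] {S : Subgroup Ω} [Finite S] (p : ℕ) [Fact p.Prime] (hS : IsPGroup p S) (F : Cfsg.FusionSystem S) (hF : F.IsSaturated p) (hp : p ≠ 2) (hna : ¬ IsMulCommutative ↥S) (A : Subgroup Ω) (hA : A ≤ S ∧ IsMulCommutative ↥A ∧ (A.subgroupOf S).index = p) (huniq : ∀ B : Subgroup Ω, B ≤ S → IsMulCommutative ↥B → (B.subgroupOf S).index = p → B = A) (P : Subgroup Ω) (hP : F.IsEssential p P) (hPA : P ≠ A) : ((upperCentralSeries ↥S 2).map S.subtype) ≤ A ∧ Nat.card ↥((S ⊓ Subgroup.centralizer (S : Set Ω)) ⊓ ((commutator ↥S).map S.subtype)) = p ∧ (((S ⊓ Subgroup.centralizer (S : Set Ω)) ⊔ ((commutator ↥S).map S.subtype)).subgroupOf A).index = p ∧ (((S ⊓ Subgroup.centralizer (S : Set Ω))).subgroupOf ((upperCentralSeries ↥S 2).map S.subtype)).index = p ∧ ∀ m : ℕ, ((S ⊓ Subgroup.centralizer (S : Set Ω)).subgroupOf S).index = p ^ m → 3 ≤ m → ¬ Subgroup.lowerCentralSeries S (m - 2) ≤ (S ⊓ Subgroup.centralizer (S : Set Ω)) := by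
  classical
  obtain ⟨hAS, hAc, hAi⟩ := hA
  have H : Setup p S A := ⟨hS, hAS, fun u hu v hv =>
    congrArg Subtype.val (hAc.is_comm.comm (⟨u, hu⟩ : A) ⟨v, hv⟩), hAi, by
    by_contra h
    push Not at h
    exact hna ⟨⟨fun a b => Subtype.ext (h a a.2 b b.2)⟩⟩⟩
  have hu : ∀ B : Subgroup _, Setup p S B → B = A := fun B hB =>
    huniq B hB.le ⟨⟨fun a b => Subtype.ext (hB.comm a a.2 b b.2)⟩⟩ hB.index
  obtain ⟨y, hy, hyA, hline, -⟩ := H.essential_shape hF hP hPA
  have hyS := hP.1.1 hy
  have hle := H.second_le hu hline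
  have hc : (commutator ↥S).map S.subtype = ⁅S, S⁆ := Subgroup.map_subtype_commutator S
  refine ⟨hle, ?_, ?_, ?_, fun m hm h3 => H.maximal_mod_ctr hyS hyA hline hm h3⟩
  · rw [hc]
    exact hline
  · rw [hc]
    exact H.index_sup hyS hyA hline
  · have hcard := H.card_second hyS hyA
    rw [inf_eq_left.2 hle, hline] at hcard
    have hZW : ctrS S ≤ secondS S := fun z hz => mem_secondS.2 ⟨hz.1, fun s hs => by
      rw [← (mem_ctrS.1 hz).2 s hs, mul_inv_cancel_right, mul_inv_cancel]
      exact Subgroup.one_mem _⟩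
    have h1 := ((ctrS S).subgroupOf (secondS S)).card_mul_index
    rw [Nat.card_congr (Subgroup.subgroupOfEquivOfLe hZW).toEquiv, hcard] at h1
    have : Finite ↥(ctrS S) := finite_of_le inf_le_left
    exact Nat.eq_of_mul_eq_mul_left (Nat.card_pos (α := ↥(ctrS S))) h1

end Cfsg.Agent.S5257
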