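import Cfsg.Statements.S5265
import Cfsg.Agent.Lib.Fusion.CenterIndexPSq
import Cfsg.Agent.Lib.Fusion.GenExtraspecialGroup
import Cfsg.Agent.Lib.PGroups.Basic
-- import your own Cfsg.Agent.* helpers here

set_option autoImplicit false
open scoped commutatorElement
open Cfsg CfsgLib.Fusion CfsgLib.Fusion.AbelianIndexP

namespace Cfsg.Agent.S5265

/-- Let p be a prime, S a nontrivial finite p-group whose centre has index at most p², and F a saturated fusion system over S with no nontrivial normal subgroup and with hyperfocal subgroup equal to S. Then S is extraspecial of order p³; for odd p it has exponent p, and for p = 2 it is dihedral of order 8. -/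
theorem result {Ω : Type*} [Group Ω] {S : Subgroup Ω} [Finite S] (p : ℕ) [Fact p.Prime] (hS : IsPGroup p ↥S) (F : Cfsg.FusionSystem S) (hF : F.IsSaturated p) (hS1 : S ≠ ⊥) (hcore : F.core = ⊥) (hhyp : F.hyperfocalSubgroup p = S) (hZ : (Subgroup.center ↥S).index ≤ p ^ 2) : Cfsg.IsExtraspecial p ↥S ∧ Nat.card S = p ^ 3 ∧ (p ≠ 2 → Monoid.exponent ↥S = p) ∧ (p = 2 → Nonempty (↥S ≃* DihedralGroup 4)) := by
  classical
  haveI : Nontrivial S := (Subgroup.nontrivial_iff_ne_bot S).2 hS1
  obtain ⟨hcard, hZp, E, hA, hEexp, g, hgE, hgp⟩ :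
      Nat.card S = p ^ 3 ∧ Nat.card (Subgroup.center S) = p ∧ ∃ E : Subgroup S,
        CfsgLib.Fusion.GenExtra.AbMax p E ∧ (∀ e ∈ E, e ^ p = 1) ∧ ∃ g,
          g ∉ E ∧ g ^ p = 1 := by
    have hnab : ¬ ∀ x ∈ S, ∀ y ∈ S, x * y = y * x := fun h => by
      refine hS1 (le_bot_iff.1 (hcore ▸ le_core (isNormal_of_invariant hS hF fun P hP => ?_)))
      rcases hP with rfl | hP
      · exact ⟨le_rfl, fun α _ x hx => autFun_mem α hx⟩
      · exact absurd (show S ≤ P from fun s hs => centric_centralizer_le hP.1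
          (mem_centralizerIn.mpr ⟨hs, fun q hq => by
            rw [cj_apply, h s hs q (hP.1.1 hq), mul_inv_cancel_right]⟩))
          (essential_lt hS hF hP).not_ge
    push Not at hnab
    obtain ⟨u, hu, v, hv, hne⟩ := hnab
    have hne' : ¬ IsMulCommutative (↥S) := fun h =>
      hne (congrArg Subtype.val (h.is_comm.comm (⟨u, hu⟩ : S) ⟨v, hv⟩))
    have hidx : (Subgroup.center S).index = p ^ 2 := by
      obtain ⟨k, hk⟩ := hS.index (Subgroup.center S)
      rw [hk] at hZ ⊢
      have hk2 := (Nat.pow_le_pow_iff_right (Fact.out : p.Prime).one_lt).1 hZ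
      by_contra h
      refine hne' ?_
      have : IsCyclic (S ⧸ Subgroup.center S) := by
        interval_cases k
        · haveI : Subsingleton (S ⧸ Subgroup.center S) := by
            rw [pow_zero, Subgroup.index_eq_one] at hk
            rw [hk]
            exact QuotientGroup.subsingleton_quotient_top
          exact isCyclic_of_subsingleton
        · exact isCyclic_of_prime_card (p := p)
            (by rw [← Subgroup.index_eq_card, hk, pow_one])
        · exact absurd rfl h
      exact ⟨⟨commutative_of_cyclic_center_quotient (QuotientGroup.mk' (Subgroup.center S))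
        (by rw [QuotientGroup.ker_mk'])⟩⟩
    have K : SmallIdx p S := ⟨hS, ⟨u, hu, v, hv, hne⟩, by rw [ctrS_subgroupOf, hidx]⟩
    obtain ⟨hc, hz, E, hE, hexp, g, hg, hgE, hgp⟩ := K.main hF hcore hhyp
    refine ⟨hc, ?_, E.subgroupOf S, ⟨hE.index, fun x hx y hy => Subtype.ext (hE.comm _ hx _ hy),
      fun x hx => Subtype.ext (hexp _ hx), ⟨⟨u, hu⟩, ⟨v, hv⟩, fun h => hne (congrArg Subtype.val h)⟩⟩,
      fun x hx => Subtype.ext (hexp _ hx), ⟨g, hg⟩, hgE, Subtype.ext hgp⟩
    rw [← ctrS_subgroupOf, Nat.card_congr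
      (Subgroup.subgroupOfEquivOfLe (inf_le_left : ctrS S ≤ S)).toEquiv, hz]
  have hcomm : ∀ a b : S, ⁅a, b⁆ ∈ Subgroup.center S := fun a b => by
    have hidx : (Subgroup.center S).index = p ^ 2 := by
      have h1 := (Subgroup.center S).card_mul_index
      rw [hZp, hcard, show p ^ 3 = p * p ^ 2 by ring] at h1
      exact Nat.eq_of_mul_eq_mul_left (Fact.out : p.Prime).pos h1
    rw [← QuotientGroup.eq_one_iff]
    show QuotientGroup.mk' (Subgroup.center S) ⁅a, b⁆ = 1
    rw [map_commutatorElement, commutatorElement_eq_one_iff_mul_comm]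
    exact IsPGroup.commutative_of_card_eq_prime_sq (p := p)
      (by rw [← Subgroup.index_eq_card, hidx]) _ _
  -- powers: every element is `e * g ^ k`
  have hpow : ∀ x : S, x ^ p ∈ Subgroup.center S := fun x => by
    obtain ⟨e, he, y, hy, rfl⟩ : ∃ e ∈ E, ∃ y ∈ Subgroup.zpowers g, e * y = x := by
      have hx : x ∈ E ⊔ Subgroup.zpowers g := hA.sup_zpowers hgE ▸ Subgroup.mem_top x
      haveI : E.Normal := Subgroup.Normal.of_commutator_le _ ((Subgroup.commutator_le.2
        fun a _ b _ => hcomm a b).trans hA.center_le)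
      rw [← SetLike.mem_coe, Subgroup.normal_mul] at hx
      exact hx
    obtain ⟨k, rfl⟩ := Subgroup.mem_zpowers_iff.1 hy
    rw [← QuotientGroup.eq_one_iff]
    show QuotientGroup.mk' (Subgroup.center S) ((e * g ^ k) ^ p) = 1
    rw [map_pow, map_mul, map_zpow, Commute.mul_pow, ← map_pow, hEexp e he, map_one, one_mul,
      ← zpow_natCast, ← zpow_mul, mul_comm, zpow_mul, zpow_natCast, ← map_pow, hgp, map_one,
      one_zpow]
    refine Commute.zpow_right ?_ k
    rw [Commute, SemiconjBy, ← commutatorElement_eq_one_iff_mul_comm, ← map_commutatorElement]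
    exact (QuotientGroup.eq_one_iff ⁅e, g⁆).2 (hcomm e g)
  have hC : CfsgLib.Fusion.GenExtra.SmallDerived p (Subgroup.center S) :=
    ⟨hZp, fun c hc x => (Subgroup.mem_center_iff.1 hc x).symm, hcomm, hpow⟩
  have hle : commutator ↥S ≤ Subgroup.center S := by
    rw [commutator_def, Subgroup.commutator_le]
    exact fun a _ b _ => hcomm a b
  obtain ⟨x, y, hxy⟩ := hA.nonab
  have hcom : commutator ↥S = Subgroup.center S := by
    refine Subgroup.eq_of_le_of_card_ge hle ?_
    have hn : ⁅x, y⁆ ≠ 1 := fun h => hxy (commutatorElement_eq_one_iff_mul_comm.1 h)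
    have hn' : Subgroup.zpowers ⁅x, y⁆ = Subgroup.center S := hC.eq_zpowers (hcomm x y) hn
    rw [← hn']
    exact Subgroup.card_le_of_le (Subgroup.zpowers_le.2
      (Subgroup.commutator_mem_commutator (Subgroup.mem_top x) (Subgroup.mem_top y)))
  have hES : Cfsg.IsExtraspecial p ↥S := ⟨⟨hS, le_antisymm
      (CfsgLib.PGroups.frattini_le_of_elementary_quotient (p := p) hle hpow)
      (hcom ▸ CfsgLib.PGroups.commutator_le_frattini hS), hcom⟩, hZp⟩
  obtain ⟨E', A', -, -, -, h2, hodd⟩ :=
    CfsgLib.Fusion.GenExtra.exists_prod hS hC hA hgE hgp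
  refine ⟨hES, hcard, fun hp => ?_, fun hp => ?_⟩
  · obtain ⟨-, hc, hexp⟩ := hodd hp
    have hE' : E' = ⊤ := Subgroup.eq_top_of_card_eq _ (hc.trans hcard.symm)
    rw [← hexp]
    subst hE'
    exact (Monoid.exponent_eq_of_mulEquiv Subgroup.topEquiv).symm
  · obtain ⟨d⟩ := h2 hp
    have hE' : E' = ⊤ := Subgroup.eq_top_of_card_eq _ (by
      rw [Nat.card_congr d.toEquiv, hcard, hp, DihedralGroup.nat_card]; norm_num)
    subst hE'
    exact ⟨Subgroup.topEquiv.symm.trans d⟩

end Cfsg.Agent.S5265
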