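import Cfsg.Statements.S5270
import Cfsg.Agent.Lib.PGroups.MaximalClass
import Cfsg.Agent.Lib.Fusion.StrongEmbed
import Cfsg.Agent.Lib.Fusion.Centric
-- import your own Cfsg.Agent.* helpers here

set_option autoImplicit false
open Cfsg

open scoped commutatorElement
open CfsgLib.Fusion Cfsg.FusionSystem

namespace Cfsg.Agent.S5270

/-- A non-normal Sylow subgroup of prime order has a strongly `p`-embedded normalizer. -/
theorem strongly_of_prime {p : ℕ} [hp : Fact p.Prime] {X : Type*} [Group X] [Finite X]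
    (P : Sylow p X) (hc : Nat.card P = p) (hn : ¬ (P : Subgroup X).Normal) :
    IsStronglyPEmbedded p (Subgroup.normalizer ((P : Subgroup X) : Set X)) := by
  refine ⟨hc ▸ Subgroup.card_subgroup_dvd_card (P : Subgroup X),
    fun h => hn (Subgroup.normalizer_eq_top_iff.mp h), P, iSup_le fun ⟨Q, hQ, hr⟩ => le_of_eq ?_⟩
  have hQ0 : Q ≠ ⊥ := by
    rintro rfl
    exact hr fun A _ _ => by
      rw [Subgroup.eq_bot_of_subsingleton A, Subgroup.card_bot]
      exact Nat.one_le_pow _ _ hp.out.pos
  rcases (Nat.dvd_prime hp.out).mp (hc ▸ Subgroup.card_dvd_of_le hQ) with h | h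
  · exact absurd (Subgroup.card_eq_one.mp h) hQ0
  · exact congrArg (fun Q : Subgroup X => Subgroup.normalizer (Q : Set X))
      (Subgroup.eq_of_le_of_card_ge hQ (le_of_eq (hc.trans h.symm)))

/-- Facts on the second centre of a group of maximal class. -/
theorem second_facts {p : ℕ} [hp : Fact p.Prime] {G : Type*} [Group G] [Finite G] {n : ℕ}
    (hG : Nat.card G = p ^ n) (h4 : 4 ≤ n) (hcl : Group.nilpotencyClass G = n - 1) :
    Nat.card (Subgroup.upperCentralSeries G 2) = p ^ 2 ∧
      (Subgroup.centralizer (Subgroup.upperCentralSeries G 2 : Set G)).index = p := by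
  obtain ⟨hZ, hQc, hQcl⟩ := CfsgLib.PGroups.center_of_maximalClass (by omega) hG hcl
  obtain ⟨hZQ, -, -⟩ := CfsgLib.PGroups.center_of_maximalClass (n := n - 1) (by omega) hQc
    (by rw [hQcl]; omega)
  set W := Subgroup.upperCentralSeries G 2
  let f := QuotientGroup.mk' (Subgroup.center G)
  have hW : W = (Subgroup.center (G ⧸ Subgroup.center G)).comap f := by
    ext x
    rw [Subgroup.mem_comap, Subgroup.mem_center_iff, Subgroup.mem_upperCentralSeries_succ_iff,
      (QuotientGroup.mk'_surjective (Subgroup.center G)).forall]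
    refine forall_congr' fun g => ?_
    rw [Subgroup.upperCentralSeries_one, ← QuotientGroup.eq_one_iff, ← QuotientGroup.mk'_apply,
      map_commutatorElement, commutatorElement_eq_one_iff_mul_comm]
    exact eq_comm
  have hZW : Subgroup.center G ≤ W := by
    rw [hW]
    intro z hz
    rw [Subgroup.mem_comap, QuotientGroup.mk'_apply, (QuotientGroup.eq_one_iff z).mpr hz]
    exact one_mem _
  have hWc : Nat.card W = p ^ 2 := by
    have h1 := Subgroup.relIndex_mul_relIndex ⊥ (Subgroup.center G) W bot_le hZW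
    rw [Subgroup.relIndex_bot_left, Subgroup.relIndex_bot_left, hZ] at h1
    have hmap : W.map f = Subgroup.center (G ⧸ Subgroup.center G) := by
      rw [hW]
      exact Subgroup.map_comap_eq_self_of_surjective (QuotientGroup.mk'_surjective _) _
    have h2 : (Subgroup.center G).relIndex W = p := by
      rw [← hZQ, ← hmap, ← Subgroup.relIndex_ker, QuotientGroup.ker_mk']
    rw [← h1, h2, pow_two]
  refine ⟨hWc, ?_⟩
  obtain ⟨a, ha, haZ⟩ := SetLike.not_le_iff_exists.mp (fun h : W ≤ Subgroup.center G => by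
    have := Subgroup.card_le_of_le h
    rw [hWc, hZ] at this
    exact absurd this (not_le.mpr (lt_self_pow₀ hp.out.one_lt one_lt_two)))
  have hC : Subgroup.centralizer (W : Set G) = Subgroup.centralizer ({a} : Set G) := by
    refine le_antisymm (Subgroup.centralizer_le (by simpa using ha)) fun g hg => ?_
    have hgen : W = Subgroup.center G ⊔ Subgroup.zpowers a := by
      refine (Subgroup.eq_of_le_of_card_ge (sup_le hZW (Subgroup.zpowers_le.mpr ha)) ?_).symm
      obtain ⟨k, hk⟩ := CfsgLib.PGroups.card_subgroup_eq_pow (IsPGroup.of_card hG)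
        (Subgroup.center G ⊔ Subgroup.zpowers a)
      have hlt : Subgroup.center G < Subgroup.center G ⊔ Subgroup.zpowers a :=
        lt_of_le_of_ne le_sup_left fun h => haZ (h.ge
          (le_sup_right (a := Subgroup.center G) (Subgroup.mem_zpowers a)))
      have h1 : p < Nat.card (Subgroup.center G ⊔ Subgroup.zpowers a : Subgroup G) :=
        hZ ▸ lt_of_le_of_ne (Subgroup.card_le_of_le hlt.le)
          (fun h => hlt.ne (Subgroup.eq_of_le_of_card_ge hlt.le h.ge))
      rw [hWc, hk]
      rw [hk] at h1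
      nth_rewrite 1 [← pow_one p] at h1
      exact Nat.pow_le_pow_right hp.out.pos ((Nat.pow_lt_pow_iff_right hp.out.one_lt).mp h1)
    rw [hgen, CfsgLib.PGroups.centralizer_sup_zpowers]
    exact ⟨fun z hz => (Subgroup.mem_center_iff.mp hz g).symm, hg⟩
  rw [hC]
  obtain ⟨k, hk⟩ := CfsgLib.PGroups.index_eq_pow (IsPGroup.of_card hG)
    (Subgroup.centralizer ({a} : Set G))
  have h1 := CfsgLib.PGroups.index_centralizer_singleton_le (le_refl (Subgroup.center G)) (x := a)
    fun g => by
      have := Subgroup.mem_upperCentralSeries_succ_iff.mp ha g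
      rw [Subgroup.upperCentralSeries_one] at this
      rw [← commutatorElement_inv]
      exact inv_mem this
  rw [hZ, hk] at h1
  have h0 : k ≠ 0 := fun h => by
    rw [h, pow_zero, Subgroup.index_eq_one] at hk
    exact haZ (Subgroup.mem_center_iff.mpr fun g => Subgroup.mem_centralizer_singleton_iff.mp
      (hk ▸ Subgroup.mem_top g))
  have hk1 : k ≤ 1 := (Nat.pow_le_pow_iff_right hp.out.one_lt).mp (h1.trans (pow_one p).ge)
  rw [hk, show k = 1 by omega, pow_one]

/-- Let p ≥ 5 be a prime, S a finite p-group of maximal class of order p^n with n ≥ 4, and F a saturated fusion system over S. If some map of F defined on the second centre Z₂(S) with image Z₂(S) does not carry Z(S) into itself, then the centralizer C_S(Z₂(S)) is an F-essential subgroup. -/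
theorem result {Ω : Type*} [Group Ω] {S : Subgroup Ω} [Finite S] (p : ℕ) [Fact p.Prime] (hS : IsPGroup p ↥S) (n : ℕ) (hn : Nat.card S = p ^ n) (h4 : 4 ≤ n) (hmax : Subgroup.lowerCentralSeries S (n - 2) ≠ ⊥) (F : Cfsg.FusionSystem S) (hF : F.IsSaturated p) (hp : 5 ≤ p) (φ : ↥((Subgroup.upperCentralSeries ↥S 2).map S.subtype) →* Ω) (hφ : φ ∈ F.Hom ((Subgroup.upperCentralSeries ↥S 2).map S.subtype)) (hφZ : φ.range = ((Subgroup.upperCentralSeries ↥S 2).map S.subtype)) (hmove : ∃ (z : Ω) (hz : z ∈ ((Subgroup.upperCentralSeries ↥S 2).map S.subtype)), z ∈ ((Subgroup.center ↥S).map S.subtype) ∧ φ ⟨z, hz⟩ ∉ ((Subgroup.center ↥S).map S.subtype)) : F.IsEssential p (S ⊓ Subgroup.centralizer (((Subgroup.upperCentralSeries ↥S 2).map S.subtype) : Set Ω)) := by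
  classical
  have hp' : p.Prime := Fact.out
  haveI := hS.isNilpotent
  have hcl : Group.nilpotencyClass S = n - 1 := by
    refine le_antisymm (CfsgLib.PGroups.nilpotencyClass_le_sub_one (by omega) hn) ?_
    by_contra h
    refine hmax ?_
    rw [← Subgroup.top_subtype_lowerCentralSeries,
      Subgroup.lowerCentralSeries_eq_bot_iff_nilpotencyClass_le.mpr (by omega), Subgroup.map_bot]
  obtain ⟨hWc, hWi⟩ := second_facts hn h4 hcl
  let W := Subgroup.upperCentralSeries S 2
  let V : Subgroup Ω := W.map S.subtype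
  let M : Subgroup Ω := S ⊓ Subgroup.centralizer (V : Set Ω)
  have hMC : M = centralizerIn S V := rfl
  have hVS : V ≤ S := S.map_subtype_le W
  have hMS : M ≤ S := inf_le_left
  have : Finite V := finite_of_le hVS
  have : Finite M := finite_of_le hMS
  have hMW : M.subgroupOf S = Subgroup.centralizer (W : Set S) := by
    ext s
    rw [Subgroup.mem_subgroupOf, Subgroup.mem_inf, Subgroup.mem_centralizer_iff,
      Subgroup.mem_centralizer_iff]
    exact ⟨fun h w hw => Subtype.ext (h.2 _ ⟨w, hw, rfl⟩), fun h => ⟨s.2, by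
      rintro _ ⟨w, hw, rfl⟩
      exact congrArg Subtype.val (h w hw)⟩⟩
  have hidx : (M.subgroupOf S).index = p := hMW ▸ hWi
  -- `S` normalises `V` and `M`
  have hnV : ∀ s ∈ S, s ∈ Subgroup.normalizer (V : Set Ω) := fun s hs =>
    (Subgroup.le_normalizer_map S.subtype)
      ⟨⟨s, hs⟩, by rw [Subgroup.normalizer_eq_top]; trivial, rfl⟩
  have hnM : ∀ s ∈ S, s ∈ Subgroup.normalizer (M : Set Ω) := by
    have hn1 : (M.subgroupOf S).Normal := CfsgLib.PGroups.normal_of_isCoatom hS
      (CfsgLib.PGroups.isCoatom_of_index_eq_prime hidx)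
    exact fun s hs => Subgroup.normal_subgroupOf_iff_le_normalizer hMS |>.mp hn1 hs
  have hfn : ∀ {P : Subgroup Ω}, P ≤ S → (∀ s ∈ S, s ∈ Subgroup.normalizer (P : Set Ω)) →
      F.IsFullyNormalized P := fun {P} hP h => ⟨hP, fun Q _ => by
    have := finite_of_le (normalizerIn_le (S := S) (P := P))
    refine le_trans ?_ (Subgroup.card_le_of_le fun s hs => mem_normalizerIn.mpr ⟨hs, h s hs⟩)
    exact Subgroup.card_le_of_le normalizerIn_le⟩
  have hVM : V ≤ M := fun v hv => by
    refine ⟨hVS hv, Subgroup.mem_centralizer_iff.mpr fun w hw => ?_⟩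
    obtain ⟨a, ha, rfl⟩ := hv
    obtain ⟨b, hb, rfl⟩ := hw
    haveI : IsMulCommutative W := IsPGroup.isMulCommutative_of_card_eq_prime_sq hWc
    exact congrArg (fun x : W => ((x : S) : Ω))
      ((‹IsMulCommutative W›).is_comm.comm ⟨b, hb⟩ ⟨a, ha⟩)
  -- extend the map to `M`
  obtain ⟨hfaV, hrV⟩ := isFullyAutomized_of_normalized hS hF (hfn hVS hnV)
  have hf := isMor_of_mem hφ
  obtain ⟨g, hg, hgf, hgC⟩ := exists_map_centralizer hrV hf
    ((range_eq_img_toFun φ).symm.trans hφZ)
  have hgM : IsMor F M g := hg.restrict (hMC ▸ le_sup_left)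
  obtain ⟨β, hβ, hβg⟩ := exists_aut hgM
    (eq_of_le_of_card hMS (hMC ▸ hgC) (by rw [hgM.card_img]))
  -- an automorphism of `M` extending to `S` fixes the centre
  have hfix : ¬ nExt S M (autFun β) = S := by
    intro h
    obtain ⟨hfaM, hrM⟩ := isFullyAutomized_of_normalized hS hF (hfn hMS hnM)
    obtain ⟨k, hk, hkb⟩ := (isReceptive_iff.mp hrM).2 M _ (isMor_autFun hMS hβ) (img_autFun β)
    rw [h] at hk
    have hkS : img S k = S := eq_of_le_of_card le_rfl (img_le fun x hx => hk.mem hx)
      (by rw [hk.card_img])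
    obtain ⟨z, hz, ⟨⟨z', hz'⟩, hzc, hze⟩, hzφ⟩ := hmove
    have hze : z' = z := hze
    subst hze
    have hzM : z' ∈ M := hVM hz
    refine hzφ ?_
    have e : φ ⟨z', hz⟩ = k z' := by
      rw [← toFun_of_mem φ hz, ← hgf z' hz, ← hβg z' hzM, hkb z' hzM]
    rw [e]
    refine ⟨⟨k z', hk.mem hz'⟩, Subgroup.mem_center_iff.mpr fun ⟨y, hy⟩ => Subtype.ext ?_, rfl⟩
    obtain ⟨x, hx, rfl⟩ := hk.mem_img.mp (hkS.ge hy)
    have hc : x * z' = z' * x :=
      congrArg Subtype.val (Subgroup.mem_center_iff.mp hzc ⟨x, hx⟩)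
    show k x * k z' = k z' * k x
    rw [← hk.map_mul hx hz', ← hk.map_mul hz' hx, hc]
  have hcent : centralizerIn S M ≤ M := fun x hx => by
    obtain ⟨hxS, hxc⟩ := mem_centralizerIn.mp hx
    exact hMC ▸ mem_centralizerIn.mpr ⟨hxS, fun y hy => hxc y (hVM hy)⟩
  refine ⟨centric_of_fullyCentralized
    (isFullyCentralized_of_normalized hS hF (hfn hMS hnM)) hcent, hfn hMS hnM,
    inn_subgroupOf_normal F M, ?_⟩
  obtain ⟨hfaM, -⟩ := isFullyAutomized_of_normalized hS hF (hfn hMS hnM)
  obtain ⟨-, R, hR⟩ := hfaM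
  haveI := inn_subgroupOf_normal F M
  have := finite_mulAut (hMS)
  let π := QuotientGroup.mk' ((Inn M).subgroupOf (F.autGroup M))
  let T := R.mapSurjective (f := π) (QuotientGroup.mk'_surjective _)
  have hTc : Nat.card T = p := by
    let c : S →* F.autGroup M :=
      (M.normalizerMonoidHom.comp (Subgroup.inclusion hnM)).codRestrict _ fun s =>
        autInducedBy_le F hMS (mem_autInducedBy.mpr
          ⟨s, s.2, hnM s s.2, fun x hx => by rw [autFun_of_mem _ hx]; rfl⟩)
    have hcr : (π.comp c).range = T.toSubgroup := by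
      rw [Sylow.coe_mapSurjective, hR, MonoidHom.range_comp]
      congr 1
      ext α
      rw [Subgroup.mem_subgroupOf, mem_autInducedBy, MonoidHom.mem_range]
      constructor
      · rintro ⟨s, rfl⟩
        exact ⟨s, s.2, hnM s s.2, fun x hx => by rw [autFun_of_mem _ hx]; rfl⟩
      · rintro ⟨s, hs, -, e⟩
        exact ⟨⟨s, hs⟩, Subtype.ext (autFun_inj fun x hx => by
          rw [e x hx, autFun_of_mem _ hx]; rfl)⟩
    have hker : (π.comp c).ker = M.subgroupOf S := by
      ext s
      rw [MonoidHom.mem_ker, Subgroup.mem_subgroupOf]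
      show π (c s) = 1 ↔ _
      rw [QuotientGroup.mk'_apply, QuotientGroup.eq_one_iff, Subgroup.mem_subgroupOf]
      exact ⟨fun h => mem_of_cj_inn hMS hcent s.2 h fun x hx => by rw [autFun_of_mem _ hx]; rfl,
        fun h => mem_inn.mpr ⟨s, h, fun x hx => by rw [autFun_of_mem _ hx]; rfl⟩⟩
    change Nat.card T.toSubgroup = p
    rw [← hcr, ← Subgroup.index_ker, hker, hidx]
  refine ⟨_, strongly_of_prime (p := p) T hTc fun hn => hfix ?_⟩
  refine le_antisymm (fun x hx => hx.1) fun s hs => ⟨hs, hnM s hs, ?_⟩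
  obtain ⟨α, hα, hαe⟩ := exists_autInducedBy hs (hnM s hs)
  have hαA := autInducedBy_le F hMS hα
  have hmem : (⟨β, hβ⟩ * ⟨α, hαA⟩ * ⟨β, hβ⟩⁻¹ : F.autGroup M) ∈ R.toSubgroup := by
    have hle : (Inn M).subgroupOf (F.autGroup M) ≤ R.toSubgroup := by
      rw [hR]
      exact Subgroup.comap_mono (inn_le_autInducedBy hMS)
    have he : T.toSubgroup.comap π = R.toSubgroup := by
      rw [Sylow.coe_mapSurjective, Subgroup.comap_map_eq_self]
      rwa [QuotientGroup.ker_mk']
    rw [← he, Subgroup.mem_comap, map_mul, map_mul, map_inv]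
    refine hn.conj_mem _ ?_ _
    rw [← Subgroup.mem_comap, he, hR]
    exact hα
  rw [hR, Subgroup.mem_subgroupOf, mem_autInducedBy] at hmem
  obtain ⟨h, hh, -, e⟩ := hmem
  refine ⟨h, hh, fun x hx => ?_⟩
  have := e _ (autFun_mem β hx)
  simp only [Subgroup.coe_mul, Subgroup.coe_inv] at this
  rw [autFun_mul _ _ (autFun_mem β hx), autFun_mul _ _ (autFun_mem _ (autFun_mem β hx)),
    autFun_inv_left β hx, hαe x hx] at this
  exact this

end Cfsg.Agent.S5270
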