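import Cfsg.Statements.S5271
import Cfsg.Agent.Lib.Fusion.WeaklyEmbedded
import Cfsg.Agent.S5096

set_option autoImplicit false
open Cfsg
open Cfsg.FusionSystem CfsgLib.Fusion
open scoped commutatorElement

namespace Cfsg.Agent.S5271

/-- A nilpotency criterion for fusion systems. Let F be a saturated fusion system over a finite p-group S of order at least p². Call a subgroup Q of S weakly embedded in F when there is a subgroup P of S strongly closed in F such that both the product QP and the intersection Q ∩ P are strongly closed in F. Then F is the inner fusion system of S if and only if there is a subgroup D of S with 1 < D < S such that every subgroup of S of the same order as D is weakly embedded in F and, for every fully normalized subgroup H of S of that order, the normalizer fusion system of H in F is the inner fusion system of N_S(H). -/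
theorem result {Ω : Type*} [Group Ω] {S : Subgroup Ω} [Finite S] (p : ℕ) [Fact p.Prime] (hS : IsPGroup p ↥S) (F : Cfsg.FusionSystem S) (hF : F.IsSaturated p) (hcard : p ^ 2 ≤ Nat.card S) : (∀ P : Subgroup Ω, F.Hom P = (Cfsg.innerFusionSystem S).Hom P) ↔ ∃ D : Subgroup Ω, ⊥ < D ∧ D < S ∧ (∀ Q : Subgroup Ω, Q ≤ S → Nat.card ↥Q = Nat.card ↥D → ∃ P : Subgroup Ω, F.StronglyClosed P ∧ F.StronglyClosed (Q ⊔ P) ∧ F.StronglyClosed (Q ⊓ P)) ∧ (∀ H : Subgroup Ω, F.IsFullyNormalized H → Nat.card ↥H = Nat.card ↥D → ∀ N : Cfsg.FusionSystem (Cfsg.FusionSystem.normalizerIn S H), F.IsNormalizerSystem H N → ∀ P : Subgroup Ω, N.Hom P = (Cfsg.innerFusionSystem (Cfsg.FusionSystem.normalizerIn S H)).Hom P) := by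
  constructor
  · intro hinn
    have hp := (Fact.out : p.Prime)
    obtain ⟨D, -, hDS, hD⟩ := exists_subgroup_between (m := 1) hS (bot_le : ⊥ ≤ S)
      (by rw [Subgroup.card_bot]; exact Nat.one_le_pow _ _ hp.pos)
      (le_trans (Nat.pow_le_pow_right hp.pos (by norm_num)) hcard)
    rw [pow_one] at hD
    refine ⟨D, bot_lt_iff_ne_bot.mpr fun e => ?_, lt_of_le_of_ne hDS fun e => ?_, ?_, ?_⟩
    · rw [e, Subgroup.card_bot] at hD
      exact hp.one_lt.ne hD
    · subst e
      rw [hD, sq] at hcard
      exact absurd hcard (not_le.mpr (lt_mul_of_one_lt_left hp.pos hp.one_lt))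
    · intro Q hQS hQ
      have hcl : ∀ X : Subgroup Ω, X ≤ S → (∀ s ∈ S, ∀ x ∈ X, cj s x ∈ X) →
          F.StronglyClosed X := by
        intro X hX hn
        refine stronglyClosed_iff.mpr ⟨hX, fun P f hf x hxP hx => ?_⟩
        obtain ⟨-, s, hs, he⟩ := isMor_inner.mp ((hom_eq_iff.mp (hinn P) _).mp hf)
        rw [he x hxP]
        exact hn s hs x hx
      have hPS : ⁅Q, S⁆ ≤ S := Subgroup.commutator_le.mpr fun a ha b hb => by
        rw [commutatorElement_def]
        exact S.mul_mem (S.mul_mem (S.mul_mem (hQS ha) hb) (S.inv_mem (hQS ha))) (S.inv_mem hb)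
      have hPn : ∀ s ∈ S, ∀ x ∈ ⁅Q, S⁆, cj s x ∈ ⁅Q, S⁆ := by
        intro s hs
        have hle : ⁅Q, S⁆ ≤ ⁅Q, S⁆.comap (MulAut.conj s).toMonoidHom := by
          refine Subgroup.commutator_le.mpr fun a ha b hb => ?_
          show cj s ⁅a, b⁆ ∈ ⁅Q, S⁆
          have h1 : cj s ⁅a, b⁆ = ⁅a, s⁆⁻¹ * ⁅a, s * b⁆ := by
            simp [cj, commutatorElement_def, mul_assoc]
          rw [h1]
          exact mul_mem (inv_mem (Subgroup.commutator_mem_commutator ha hs))
            (Subgroup.commutator_mem_commutator ha (S.mul_mem hs hb))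
        exact fun x hx => hle hx
      have hsup : ∀ s ∈ S, ∀ x ∈ Q ⊔ ⁅Q, S⁆, cj s x ∈ Q ⊔ ⁅Q, S⁆ := by
        intro s hs
        have hle : Q ⊔ ⁅Q, S⁆ ≤ (Q ⊔ ⁅Q, S⁆).comap (MulAut.conj s).toMonoidHom := by
          refine sup_le (fun q hq => ?_) fun x hx => Subgroup.mem_sup_right (hPn s hs x hx)
          show cj s q ∈ Q ⊔ ⁅Q, S⁆
          have h1 : cj s q = ⁅q, s⁆⁻¹ * q := by simp [cj, commutatorElement_def, mul_assoc]
          rw [h1]
          exact mul_mem (inv_mem (Subgroup.mem_sup_right
            (Subgroup.commutator_mem_commutator hq hs))) (Subgroup.mem_sup_left hq)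
        exact fun x hx => hle hx
      have : Finite Q := finite_of_le hQS
      have hinf : Q ⊓ ⁅Q, S⁆ = ⊥ := by
        by_contra hne
        have hdvd := Subgroup.card_dvd_of_le (inf_le_left : Q ⊓ ⁅Q, S⁆ ≤ Q)
        rw [hQ, hD] at hdvd
        rcases (Nat.dvd_prime hp).mp hdvd with h | h
        · exact hne (Subgroup.card_eq_one.mp h)
        · have hle : Q ≤ ⁅Q, S⁆ :=
            inf_eq_left.mp (eq_of_le_of_card hQS inf_le_left (by rw [h, hQ, hD]))
          have hl : ∀ n, Q ≤ S.lowerCentralSeries n := by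
            intro n
            induction n with
            | zero => exact hQS
            | succ n ih =>
              rw [Subgroup.lowerCentralSeries_succ]
              exact hle.trans (Subgroup.commutator_mono ih le_rfl)
          obtain ⟨n, hn⟩ := (Subgroup.isNilpotent_iff_lowerCentralSeries S).mp hS.isNilpotent
          have hQb : Q = ⊥ := le_bot_iff.mp (hn ▸ hl n)
          rw [hQb, Subgroup.card_bot, hD] at hQ
          exact hp.one_lt.ne hQ
      refine ⟨⁅Q, S⁆, hcl _ hPS hPn, hcl _ (sup_le hQS hPS) hsup, hinf ▸ hcl _ bot_le ?_⟩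
      intro s _ x hx
      rw [Subgroup.mem_bot] at hx ⊢
      simp [hx, cj]
    · intro H hH _ N hN P
      refine hom_eq_iff.mpr fun f => ?_
      rw [isMor_normalizerSystem hN, isMor_inner]
      constructor
      · rintro ⟨-, hP, -, g, hg, hgf, hgH⟩
        obtain ⟨-, s, hs, he⟩ := isMor_inner.mp ((hom_eq_iff.mp (hinn _) _).mp hg)
        refine ⟨hP, s, mem_normalizerIn.mpr ⟨hs, ?_⟩, fun x hx =>
          (hgf x hx).symm.trans (he x (Subgroup.mem_sup_left hx))⟩
        rw [Subgroup.mem_normalizer_iff_map_conj_eq]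
        show H.map (MulAut.conj s).toMonoidHom = H
        rw [← img_cj, ← img_congr fun x hx => he x (Subgroup.mem_sup_right hx)]
        exact hgH
      · rintro ⟨hP, s, hs, he⟩
        obtain ⟨hsS, hsn⟩ := mem_normalizerIn.mp hs
        have hPS : P ≤ S := hP.trans normalizerIn_le
        refine ⟨(isMor_cj F hPS hsS).congr fun x hx => (he x hx).symm, hP, fun x hx => ?_,
          cj s, isMor_cj F (sup_le hPS hH.1) hsS, fun x hx => (he x hx).symm,
          img_cj_of_normalizer hsn⟩
        rw [he x hx]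
        exact (normalizerIn S H).mul_mem ((normalizerIn S H).mul_mem hs (hP hx))
          ((normalizerIn S H).inv_mem hs)
  · rintro ⟨D, hD1, hDS, hW, hN⟩ P
    have : Finite D := finite_of_le hDS.le
    obtain ⟨k, hk⟩ := IsPGroup.iff_card.mp (isPGroup_of_le hDS.le hS)
    refine hom_eq_inner hS hF (fun R hR => isPGroup_aut_of_hyp_eq_bot ?_ hR) P
    refine hyp_eq_bot_of_wemb _ S F k rfl hS hF ?_ ?_ (fun Q hQS hQ => hW Q hQS (hQ.trans hk.symm)) ?_
    · rw [← hk]
      have : Nontrivial D := (Subgroup.nontrivial_iff_ne_bot D).mpr hD1.ne'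
      exact Finite.one_lt_card
    · rw [← hk]
      exact card_lt_of_lt le_rfl hDS
    · refine fixTriv_of_normalizers hS hF fun H hH hHd R f hf hR hfR hext => ?_
      obtain ⟨N, hNs⟩ := Cfsg.Agent.S5096.result F H hH.1
      have h1 := (hom_eq_iff.mp (hN H hH (hHd.trans hk.symm) N hNs R) f).mp
        ((isMor_normalizerSystem hNs).mpr ⟨hf, hR, hfR, hext⟩)
      exact (isMor_inner.mp h1).2
end Cfsg.Agent.S5271
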