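import Cfsg.Statements.S5273
import Cfsg.Agent.Lib.Fusion.SmallExponent
-- import your own Cfsg.Agent.* helpers here

set_option autoImplicit false
open Cfsg CfsgLib.Fusion CfsgLib.Fusion.SmallExp

namespace Cfsg.Agent.S5273

/-- Small-exponent abelian subgroups control fusion. Let E and F be saturated fusion systems over the same finite p-group S with E contained in F. Suppose that E and F have the same maps between A and B for all subgroups A, B of S that are elementary abelian when p is odd, respectively abelian of exponent dividing 4 when p = 2. Then E = F (they have the same maps on every subgroup). -/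
theorem result {Ω : Type*} [Group Ω] {S : Subgroup Ω} [Finite S] (p : ℕ) [Fact p.Prime] (hS : IsPGroup p ↥S) (E F : Cfsg.FusionSystem S) (hE : E.IsSaturated p) (hF : F.IsSaturated p) (hEF : E.IsSubsystemOf F) (hodd : p ≠ 2 → ∀ A B : Subgroup Ω, A ≤ S → B ≤ S → Cfsg.IsElementaryAbelian p A → Cfsg.IsElementaryAbelian p B → E.homSet A B = F.homSet A B) (htwo : p = 2 → ∀ A B : Subgroup Ω, A ≤ S → B ≤ S → IsMulCommutative ↥A → IsMulCommutative ↥B → (∀ a ∈ A, a ^ 4 = 1) → (∀ b ∈ B, b ^ 4 = 1) → E.homSet A B = F.homSet A B) : ∀ P : Subgroup Ω, E.Hom P = F.Hom P := by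
  classical
  have hmul : ∀ {A : Subgroup Ω}, (∀ a ∈ A, ∀ b ∈ A, a * b = b * a) → IsMulCommutative A :=
    fun {A} h => ⟨⟨fun a b => Subtype.ext (h a a.2 b b.2)⟩⟩
  obtain ⟨n, hn0, hn, hag⟩ : ∃ n, n ≠ 0 ∧ p ^ n ≠ 2 ∧ Agree (p ^ n) E F := by
    have key : ∀ A f, IsMor F A f → ∀ (_ : E.homSet A (img A f) = F.homSet A (img A f)),
        IsMor E A f := by
      rintro A f ⟨φ, hφ, e⟩ heq
      have : φ ∈ F.homSet A (img A f) := ⟨hφ, fun x => (e x).symm ▸ mem_img_of_mem f x.2⟩
      rw [← heq] at this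
      exact ⟨φ, this.1, e⟩
    have himg : ∀ {q : ℕ} {A : Subgroup Ω} {f : Ω → Ω}, IsMor F A f → Small q A →
        Small q (img A f) := fun {q A f} hf hA =>
      ⟨fun a ha b hb => by
        obtain ⟨x, hx, rfl⟩ := hf.mem_img.mp ha
        obtain ⟨y, hy, rfl⟩ := hf.mem_img.mp hb
        rw [← hf.map_mul hx hy, ← hf.map_mul hy hx, hA.1 x hx y hy],
      fun a ha => by
        obtain ⟨x, hx, rfl⟩ := hf.mem_img.mp ha
        rw [← hf.map_pow hx, hA.2 x hx, hf.map_one]⟩
    by_cases h2 : p = 2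
    · subst h2
      refine ⟨2, two_ne_zero, by norm_num, fun A f hf hA => ?_⟩
      exact key A f hf (htwo rfl A _ hf.le hf.img_le (hmul hA.1) (hmul (himg hf hA).1) hA.2
        (himg hf hA).2)
    · refine ⟨1, one_ne_zero, by rwa [pow_one], fun A f hf hA => ?_⟩
      rw [pow_one] at hA
      exact key A f hf (hodd h2 A _ hf.le hf.img_le ⟨hmul hA.1, hA.2⟩
        ⟨hmul (himg hf hA).1, (himg hf hA).2⟩)
  intro P
  refine Set.Subset.antisymm (hEF P) fun φ hφ => ?_
  exact (mem_hom_iff).mpr (main hn0 hn S hS _ S E F le_rfl rfl hE hF hEF hag P _ (mem_hom_iff.mp hφ))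

end Cfsg.Agent.S5273
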