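import Cfsg.Statements.S5275
import Cfsg.Agent.Lib.Fusion.ThinClosed

set_option autoImplicit false
open Cfsg Cfsg.FusionSystem CfsgLib.Fusion

namespace Cfsg.Agent.S5275

/-- A Glauberman–Thompson nilpotency criterion for fusion systems relative to a strongly closed subgroup. Let p be an odd prime, F a saturated fusion system over a finite p-group S, and D a subgroup of S that is strongly closed in F. Let Z(J(D)) be the centre of the subgroup of D generated by the abelian subgroups of D of largest order. Then F is the inner fusion system of S if and only if the normalizer fusion system of Z(J(D)) in F is the inner fusion system of N_S(Z(J(D))) = S. -/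
theorem result {Ω : Type*} [Group Ω] {S : Subgroup Ω} [Finite S] (p : ℕ) [Fact p.Prime] (hS : IsPGroup p ↥S) (F : Cfsg.FusionSystem S) (hF : F.IsSaturated p) (hp : p ≠ 2) (D : Subgroup Ω) (hD : F.StronglyClosed D) : (∀ P : Subgroup Ω, F.Hom P = (Cfsg.innerFusionSystem S).Hom P) ↔ ∀ N : Cfsg.FusionSystem (Cfsg.FusionSystem.normalizerIn S (Cfsg.centerThompsonAOf D)), F.IsNormalizerSystem (Cfsg.centerThompsonAOf D) N → ∀ P : Subgroup Ω, N.Hom P = (Cfsg.innerFusionSystem (Cfsg.FusionSystem.normalizerIn S (Cfsg.centerThompsonAOf D))).Hom P := by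
  have hDS : D ≤ S := (stronglyClosed_iff.mp hD).1
  rw [← zjFunctor_at (p := p) D]
  rw [← thin_iff, ← nthin_iff (((zjFunctor (p := p)).at_le D).trans hDS)]
  refine ⟨nthin_of_thin, fun h => ?_⟩
  by_cases hD1 : D = ⊥
  · subst hD1
    intro P f hf
    have hV : (zjFunctor (p := p)).at (⊥ : Subgroup Ω) = ⊥ :=
      le_bot_iff.mp ((zjFunctor (p := p)).at_le ⊥)
    rw [hV] at h
    refine h P f hf ?_ ⟨f, by rwa [sup_bot_eq], fun _ _ => rfl, ?_⟩
    · intro x hx
      refine mem_normalizerIn.mpr ⟨hf.le hx, ?_⟩
      rw [show Subgroup.normalizer ((⊥ : Subgroup Ω) : Set Ω) = ⊤ from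
        Subgroup.normalizer_eq_top_iff.mpr inferInstance]
      exact Subgroup.mem_top x
    · refine (hf.restrict bot_le).img_eq_self fun x hx => ?_
      rw [Subgroup.mem_bot] at hx ⊢
      rw [hx, hf.map_one]
  · exact thin_of_closed hp hS hF ⟨D, hDS, hD1, hD, h⟩

end Cfsg.Agent.S5275
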