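import Cfsg.Statements.S5276
import Cfsg.Agent.Lib.Fusion.TateApplications
import Cfsg.Agent.S5096
-- import your own Cfsg.Agent.* helpers here

set_option autoImplicit false
open Cfsg

namespace Cfsg.Agent.S5276

open Cfsg Cfsg.FusionSystem CfsgLib.Fusion


/-- Let p be a prime and F a saturated fusion system over a finite p-group S. Then F is the inner fusion system of S if and only if the normalizer fusion system of S itself in F is the inner fusion system (equivalently, Aut_F(S) is induced by S) and the Frattini subgroup Φ(S) is strongly closed in F. -/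
theorem result {Ω : Type*} [Group Ω] {S : Subgroup Ω} [Finite S] (p : ℕ) [Fact p.Prime] (hS : IsPGroup p ↥S) (F : Cfsg.FusionSystem S) (hF : F.IsSaturated p) : (∀ P : Subgroup Ω, F.Hom P = (Cfsg.innerFusionSystem S).Hom P) ↔ (∀ N : Cfsg.FusionSystem (Cfsg.FusionSystem.normalizerIn S S), F.IsNormalizerSystem S N → ∀ P : Subgroup Ω, N.Hom P = (Cfsg.innerFusionSystem (Cfsg.FusionSystem.normalizerIn S S)).Hom P) ∧ F.StronglyClosed ((frattini ↥S).map S.subtype) := by
  have hPhiC : ⁅S, S⁆ ≤ (frattini ↥S).map S.subtype := commutator_le_frattini_map hS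
  constructor
  · intro h
    refine ⟨fun N hN P => hom_eq_iff.mpr fun f => ?_, stronglyClosed_iff.mpr
      ⟨Subgroup.map_subtype_le _, fun P f hf x hxP hx => ?_⟩⟩
    · rw [isMor_normalizerSystem hN, isMor_inner]
      constructor
      · rintro ⟨hf, hP, -, -⟩
        obtain ⟨-, g, hg, he⟩ := isMor_inner.mp ((hom_eq_iff.mp (h P) f).mp hf)
        exact ⟨hP, g, le_normalizerIn le_rfl hg, he⟩
      · rintro ⟨hP, g, hg, he⟩
        have hgS := normalizerIn_le hg
        have hPS := hP.trans normalizerIn_le
        exact ⟨(isMor_cj F hPS hgS).congr fun x hx => (he x hx).symm, hP,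
          fun x hx => he x hx ▸ (normalizerIn S S).mul_mem ((normalizerIn S S).mul_mem hg (hP hx))
            ((normalizerIn S S).inv_mem hg),
          cj g, isMor_cj F (sup_le hPS le_rfl) hgS, fun x hx => (he x hx).symm,
          img_cj_of_normalizer (mem_normalizerIn.mp hg).2⟩
    · obtain ⟨-, g, hg, he⟩ := isMor_inner.mp ((hom_eq_iff.mp (h P) f).mp hf)
      rw [he x hxP]
      exact normal_of_commutator_le (Subgroup.map_subtype_le _) hPhiC hg hx
  · rintro ⟨hN, hsc⟩ P
    obtain ⟨N₀, hN₀⟩ := Cfsg.Agent.S5096.result F S le_rfl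
    rw [eq_inner_of_stronglyClosed hS hF (aut_inner_of_normalizer hN hN₀) hsc hPhiC le_rfl]

end Cfsg.Agent.S5276
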