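import Cfsg.Statements.S5286
import Cfsg.Agent.Lib.Fusion.TreeRealize
import Cfsg.Agent.Lib.Fusion.Aut
-- import your own Cfsg.Agent.* helpers here

set_option autoImplicit false
universe u
open Cfsg Cfsg.FusionSystem CfsgLib.Fusion

namespace Cfsg.Agent.S5286

/-- Every fusion system F over a finite p-group S, saturated or not, is realized by a possibly infinite group: there are a group G and an injective homomorphism ι of S into G such that the maps of F are exactly the conjugations by elements of G between subgroups of ι(S), every finite subgroup of G is conjugate to a subgroup of ι(S), and G has a free normal subgroup whose index divides (#S)!. -/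
theorem result {Ω : Type u} [Group Ω] {S : Subgroup Ω} [Finite S] (p : ℕ) [Fact p.Prime] (hS : IsPGroup p ↥S) (F : Cfsg.FusionSystem S) : ∃ (G : Type u) (_ : Group G) (ι : ↥S →* G), F.IsRealizedBy ι ∧ (∀ H : Subgroup G, Finite ↥H → ∃ g : G, ∀ h ∈ H, g * h * g⁻¹ ∈ ι.range) ∧ ∃ N : Subgroup G, N.Normal ∧ IsFreeGroup ↥N ∧ N.index ∣ (Nat.card ↥S).factorial := by
  classical
  let lf : (↥S → ↥S) → Ω → Ω := fun f y => if h : y ∈ S then (f ⟨y, h⟩ : Ω) else 1
  have hlf : ∀ (f : ↥S → ↥S) (x : ↥S), lf f x = f x := fun f x => dif_pos x.2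
  let ef : ∀ (P Q : Subgroup ↥S), (↥P ≃* ↥Q) → ↥S → ↥S := fun P Q e x =>
    if h : x ∈ P then (e ⟨x, h⟩ : ↥S) else 1
  have hef : ∀ (P Q : Subgroup ↥S) (e : ↥P ≃* ↥Q) (x : P), ef P Q e x = e x := fun P Q e x =>
    dif_pos x.2
  let I : Type u := {x : Σ P : Subgroup ↥S, Σ Q : Subgroup ↥S, ↥P ≃* ↥Q //
    IsMor F (x.1.map S.subtype) (lf (ef x.1 x.2.1 x.2.2))}
  choose σ hσ using fun i : I => Tree.exists_perm i.1.2.2
  let D : Tree.Datum ↥S I := ⟨fun i => i.1.1, fun i => i.1.2.1, fun i => i.1.2.2, σ, hσ⟩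
  let ι₀ : ↥S →* ↥D.grp := D.ι.codRestrict D.grp D.ι_mem
  have hι₀ : Function.Injective ι₀ := fun a b h => D.ι_injective (congrArg Subtype.val h)
  let Φ : Subgroup ↥S → (↥S → ↥S) → Prop := fun P f => IsMor F (P.map S.subtype) (lf f)
  have hmap : ∀ {P : Subgroup ↥S} {y : Ω}, y ∈ P.map S.subtype → ∃ x ∈ P, (x : Ω) = y :=
    fun h => h
  have hcj : ∀ (P : Subgroup ↥S) (s : ↥S) (f : ↥S → ↥S),
      (∀ q ∈ P, f q = s * q * s⁻¹) → Φ P f := by
    intro P s f h
    refine (isMor_cj F (Subgroup.map_subtype_le P) s.2).congr fun y hy => ?_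
    obtain ⟨x, hx, rfl⟩ := hmap hy
    rw [hlf, h x hx, cj_apply]
    rfl
  have hstepmor : ∀ a : I × Bool, ∃ k, IsMor F ((D.dom a).map S.subtype) k ∧
      ∀ q : D.dom a, k (q : ↥S) = (D.map a q : Ω) := by
    rintro ⟨⟨⟨P, Q, e⟩, hm⟩, ε⟩
    cases ε with
    | true => exact ⟨_, hm, fun q => (hlf _ _).trans (congrArg Subtype.val (hef P Q e q))⟩
    | false =>
      obtain ⟨g, hg, hgl, -, -⟩ := hm.inverse
      have hQ : img (P.map S.subtype) (lf (ef P Q e)) = Q.map S.subtype := by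
        refine le_antisymm (img_le fun y hy => ?_) fun y hy => ?_
        · obtain ⟨x, hx, rfl⟩ := hmap hy
          rw [hlf, hef P Q e ⟨x, hx⟩]
          exact Subgroup.mem_map_of_mem S.subtype (e ⟨x, hx⟩).2
        · obtain ⟨x, hx, rfl⟩ := hmap hy
          have h := mem_img_of_mem (P := P.map S.subtype) (lf (ef P Q e))
            (Subgroup.mem_map_of_mem S.subtype (e.symm ⟨x, hx⟩).2)
          rw [Subgroup.coe_subtype, hlf, hef P Q e (e.symm ⟨x, hx⟩), e.apply_symm_apply] at h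
          exact h
      rw [hQ] at hg
      refine ⟨g, hg, fun q => ?_⟩
      have h1 := hgl (e.symm q : ↥S) (Subgroup.mem_map_of_mem S.subtype (e.symm q).2)
      rw [hlf, hef P Q e (e.symm q)] at h1
      exact (congrArg (fun z : ↥Q => g ((z : ↥S) : Ω)) (e.apply_symm_apply q)).symm.trans h1
  have hstep : ∀ (P : Subgroup ↥S) (g : ↥S → ↥S) (a : I × Bool) (s : ↥S) (f : ↥S → ↥S), Φ P g →
      (∀ q ∈ P, ∃ hq : g q ∈ D.dom a, f q = s * D.map a ⟨g q, hq⟩ * s⁻¹) → Φ P f := by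
    intro P g a s f hg h
    obtain ⟨k, hk, hke⟩ := hstepmor a
    have hgk := hg.comp hk fun y hy => by
      obtain ⟨x, hx, rfl⟩ := hmap hy
      rw [hlf]
      exact Subgroup.mem_map_of_mem S.subtype (h x hx).1
    refine (hgk.comp (isMor_cj F le_rfl s.2) fun y hy => hgk.mem hy).congr fun y hy => ?_
    obtain ⟨x, hx, rfl⟩ := hmap hy
    obtain ⟨hq, e⟩ := h x hx
    simp only [Function.comp_apply]
    rw [hlf, hlf, hke ⟨_, hq⟩, e, cj_apply]
    rfl
  refine ⟨↥D.grp, inferInstance, ι₀, ⟨hι₀, fun P hP φ hφ => ⟨fun hmem => ?_, ?_⟩⟩, fun H hH => ?_,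
    ((Tree.Wr.σHom).comp D.grp.subtype).ker, inferInstance, ?_, ?_⟩
  · let φ' : ↥(P.subgroupOf S) →* ↥S :=
      { toFun := fun x => ⟨φ ⟨((x : ↥S) : Ω), Subgroup.mem_subgroupOf.mp x.2⟩, hφ _⟩
        map_one' := Subtype.ext (map_one φ)
        map_mul' := fun x y => Subtype.ext (map_mul φ
          ⟨((x : ↥S) : Ω), Subgroup.mem_subgroupOf.mp x.2⟩
          ⟨((y : ↥S) : Ω), Subgroup.mem_subgroupOf.mp y.2⟩) }
    have hm := isMor_of_mem hmem
    have hinj : Function.Injective φ' := fun x y e => by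
      have e' : φ _ = φ _ := congrArg Subtype.val e
      rw [← toFun_coe φ, ← toFun_coe φ] at e'
      exact Subtype.ext (Subtype.ext (hm.inj (Subgroup.mem_subgroupOf.mp x.2)
        (Subgroup.mem_subgroupOf.mp y.2) e'))
    let e := MonoidHom.ofInjective hinj
    have hi : IsMor F ((P.subgroupOf S).map S.subtype) (lf (ef _ _ e)) := by
      rw [Subgroup.map_subgroupOf_eq_of_le hP]
      refine hm.congr fun y hy => ?_
      have h1 : (⟨y, hP hy⟩ : ↥S) ∈ P.subgroupOf S := Subgroup.mem_subgroupOf.mpr hy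
      show _ = lf (ef _ _ e) ((⟨y, hP hy⟩ : ↥S) : Ω)
      rw [hlf, hef _ _ e ⟨_, h1⟩]
      exact toFun_of_mem φ hy
    let i : I := ⟨⟨P.subgroupOf S, φ'.range, e⟩, hi⟩
    refine ⟨⟨D.tstep (i, true), D.tstep_mem _⟩, fun x => Subtype.ext ?_⟩
    have hc := D.tstep_comm (i, true) ⟨⟨x, hP x.2⟩, Subgroup.mem_subgroupOf.mpr x.2⟩
    show D.ι _ = D.tstep (i, true) * D.ι _ * (D.tstep (i, true))⁻¹
    rw [eq_mul_inv_iff_mul_eq]
    exact hc.symm
  · rintro ⟨⟨g, hg⟩, hgx⟩
    let f : ↥S → ↥S := fun x => if h : (x : Ω) ∈ P then ⟨φ ⟨x, h⟩, hφ _⟩ else 1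
    have hf := Tree.Datum.conj_induct D Φ hcj hstep hg (P.subgroupOf S) f fun x hx => by
      have h1 : D.ι _ = g * D.ι _ * g⁻¹ := congrArg Subtype.val (hgx ⟨x, hx⟩)
      rw [eq_mul_inv_iff_mul_eq] at h1
      rw [show f x = ⟨φ ⟨x, hx⟩, hφ _⟩ from dif_pos (Subgroup.mem_subgroupOf.mp hx)]
      exact h1
    simp only [Φ, Subgroup.map_subgroupOf_eq_of_le hP] at hf
    refine hf.mem_hom fun x => ?_
    rw [show (x : Ω) = ((⟨x, hP x.2⟩ : ↥S) : Ω) from rfl, hlf,
      show f ⟨x, hP x.2⟩ = ⟨φ x, hφ x⟩ from dif_pos x.2]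
  · have : Finite ↥(H.map D.grp.subtype) := Finite.of_equiv _
      (H.equivMapOfInjective _ D.grp.subtype_injective).toEquiv
    obtain ⟨a, ha, hc⟩ := D.finite_conj (H := H.map D.grp.subtype) (Subgroup.map_subtype_le H)
    refine ⟨⟨a, ha⟩⁻¹, fun h hh => ?_⟩
    obtain ⟨s, hs⟩ := hc _ (Subgroup.mem_map_of_mem D.grp.subtype hh)
    refine ⟨s, Subtype.ext ?_⟩
    show D.ι s = a⁻¹ * (h : D.W) * a⁻¹⁻¹
    rw [inv_inv]
    exact hs.symm
  · let N := ((Tree.Wr.σHom).comp D.grp.subtype).ker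
    have hσ1 : ∀ x : N, ((x : ↥D.grp) : D.W).σ = 1 := fun x => MonoidHom.mem_ker.mp x.2
    let u₁ : ↥N →* FreeGroup D.Edge :=
      { toFun := fun x => ((x : ↥D.grp) : D.W).u 1
        map_one' := rfl
        map_mul' := fun x y => by
          show ((x : ↥D.grp) : D.W).u 1 * ((y : ↥D.grp) : D.W).u (_ : ↥S) = _
          rw [hσ1 x]
          rfl }
    have hu : Function.Injective u₁ := (injective_iff_map_eq_one u₁).mpr fun x hx => by
      obtain ⟨s, hs⟩ := D.mem_range_of_len_zero (x : ↥D.grp).2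
        (show FreeGroup.norm (u₁ x) = 0 by rw [hx, FreeGroup.norm_one])
      have h1 := hσ1 x
      rw [hs, Tree.Datum.ι_σ] at h1
      have h2 : s = 1 := by simpa using congrArg (fun p : Equiv.Perm ↥S => p 1) h1
      subst h2
      exact Subtype.ext (Subtype.ext (hs.trans (map_one D.ι)))
    exact IsFreeGroup.ofMulEquiv (MonoidHom.ofInjective hu).symm
  · rw [Subgroup.index_ker, ← Nat.card_perm]
    exact Subgroup.card_subgroup_dvd_card _

end Cfsg.Agent.S5286
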