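import Cfsg.Statements.S5287
import Cfsg.Agent.Lib.Fusion.RealizeTwo
import Cfsg.Agent.Lib.Fusion.MetacyclicAbelian
import Cfsg.Agent.Lib.Fusion.SupersolubleAbelian
import Cfsg.Agent.Lib.Fusion.MetacyclicClosed
import Cfsg.Agent.Lib.Fusion.MetacyclicClosedTwo
import Cfsg.Agent.Lib.PGroups.MetacyclicTwoAut

set_option autoImplicit false
set_option linter.style.haveILetI false
open Cfsg Cfsg.FusionSystem CfsgLib.Fusion

namespace Cfsg.Agent.S5287

theorem card_le_sq {p : ℕ} [hp : Fact p.Prime] {X : Type*} [Group X] [Finite X]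
    (hm : IsMetacyclic X) (E : Subgroup X) (hE : ∀ x ∈ E, x ^ p = 1) : Nat.card E ≤ p ^ 2 := by
  obtain ⟨N, hN, hNc, hQc⟩ := hm
  set f := (QuotientGroup.mk' N).comp E.subtype with hf
  have hle : ∀ (C : Type _) [Group C] [Finite C] [IsCyclic C], (∀ x : C, x ^ p = 1) →
      Nat.card C ≤ p := fun C _ _ _ h => by
    obtain ⟨g, hg⟩ := IsCyclic.exists_ofOrder_eq_natCard (α := C)
    rw [← hg]
    exact Nat.le_of_dvd hp.out.pos (orderOf_dvd_of_pow_eq_one (h g))
  have h1 : Nat.card f.range ≤ p := hle _ fun x => by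
    obtain ⟨y, hy⟩ := x.2
    apply Subtype.ext
    rw [Subgroup.coe_pow, Subgroup.coe_one, ← hy, ← map_pow,
      show y ^ p = 1 from Subtype.ext (hE y y.2), map_one]
  have h2 : Nat.card f.ker ≤ p := by
    haveI : IsCyclic f.ker := by
      refine isCyclic_of_injective ((E.subtype.comp f.ker.subtype).codRestrict N fun x => ?_)
        (fun x y h => ?_)
      · exact (QuotientGroup.eq_one_iff _).1 x.2
      · exact Subtype.ext (Subtype.ext (congrArg (fun z : N => (z : X)) h))
    exact hle _ fun x => Subtype.ext (Subtype.ext (hE _ x.1.2))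
  rw [Subgroup.card_eq_card_quotient_mul_card_subgroup f.ker,
    Nat.card_congr (QuotientGroup.quotientKerEquivRange f).toEquiv, sq]
  exact Nat.mul_le_mul h1 h2

theorem trivial_of_decomposition {p : ℕ} [hp : Fact p.Prime] {X : Type*} [Group X] [Finite X]
    (hX : IsPGroup p X) (hm : IsMetacyclic X) {n : ℕ} (hn : 0 < n) {H : Type} [CommGroup H]
    (e : X ≃* (Multiplicative (ZMod (p ^ n)) × Multiplicative (ZMod (p ^ n))) × H) :
    Subsingleton H := by
  set C := Multiplicative (ZMod (p ^ n))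
  haveI : Finite ((C × C) × H) := Finite.of_equiv _ e.toEquiv
  haveI : Finite H := Finite.of_surjective (fun w : (C × C) × H => w.2) fun h => ⟨(1, h), rfl⟩
  rw [← not_nontrivial_iff_subsingleton]
  intro hH
  have hP : IsPGroup p ((C × C) × H) := hX.of_equiv e
  have hHp : IsPGroup p H := hP.of_surjective (MonoidHom.snd (C × C) H) Prod.snd_surjective
  obtain ⟨j, hj0, hj⟩ := hHp.nontrivial_iff_card.1 hH
  obtain ⟨h, hh⟩ := exists_prime_orderOf_dvd_card' p (hj ▸ dvd_pow_self p hj0.ne')
  obtain ⟨g, hg⟩ := exists_prime_orderOf_dvd_card' (G := C) p (by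
    rw [Nat.card_congr Multiplicative.toAdd, Nat.card_zmod]; exact dvd_pow_self p hn.ne')
  let E : Subgroup X := (((Subgroup.zpowers g).prod (Subgroup.zpowers g)).prod
    (Subgroup.zpowers h)).map e.symm.toMonoidHom
  have hpow : ∀ {U : Type} [Group U] (u : U), orderOf u = p → ∀ x ∈ Subgroup.zpowers u,
      x ^ p = 1 := fun u hu x ⟨i, hi⟩ => by
    rw [← hi, ← zpow_natCast, zpow_comm, zpow_natCast, ← hu, pow_orderOf_eq_one, one_zpow]
  have hE : ∀ x ∈ E, x ^ p = 1 := by
    rintro _ ⟨w, ⟨⟨h1, h2⟩, h3⟩, rfl⟩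
    rw [← map_pow, show w ^ p = 1 from
      Prod.ext (Prod.ext (hpow g hg _ h1) (hpow g hg _ h2)) (hpow h hh _ h3), map_one]
  have h1 := card_le_sq hm E hE
  rw [Subgroup.card_map_of_injective e.symm.injective,
    Nat.card_congr (Subgroup.prodEquiv _ _).toEquiv, Nat.card_prod,
    Nat.card_congr (Subgroup.prodEquiv _ _).toEquiv, Nat.card_prod, Nat.card_zpowers,
    Nat.card_zpowers, hg, hh, sq] at h1
  have h2 : p * p * 2 ≤ p * p * p := Nat.mul_le_mul_left _ hp.out.two_le
  have := Nat.mul_pos hp.out.pos hp.out.pos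
  omega

theorem isKleinFour_prod :
    IsKleinFour (Multiplicative (ZMod (2 ^ 1)) × Multiplicative (ZMod (2 ^ 1))) where
  card_four := by simp [Nat.card_prod]
  exponent_two := by
    refine (Nat.dvd_prime Nat.prime_two).1 (Monoid.exponent_dvd_of_forall_pow_eq_one
      (by decide)) |>.resolve_left fun h => ?_
    have := Monoid.exp_eq_one_iff.1 h
    exact absurd (Subsingleton.elim
      ((Multiplicative.ofAdd 1, 1) : Multiplicative (ZMod (2 ^ 1)) ×
        Multiplicative (ZMod (2 ^ 1))) 1) (by decide)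

/-- Let S be a finite metacyclic p-group (an extension of a cyclic group by a cyclic group). Every saturated fusion system over S is supersoluble (S has a chain of F-strongly closed subgroups from 1 to S with cyclic steps) if and only if S is not homocyclic of rank two (isomorphic to Z/p^n × Z/p^n with n ≥ 1) and, when p = 2, S is not dihedral of order at least 4, not quasi-dihedral (semidihedral) and not generalized quaternion of order at least 8. -/
theorem result {Ω : Type*} [Group Ω] {S : Subgroup Ω} [Finite S] (p : ℕ) [Fact p.Prime] (hS : IsPGroup p ↥S) (hm : Cfsg.IsMetacyclic ↥S) : (∀ F : Cfsg.FusionSystem S, F.IsSaturated p → (∃ (m : ℕ) (c : Fin (m + 1) → Subgroup Ω), c 0 = ⊥ ∧ c (Fin.last m) = S ∧ (∀ i : Fin (m + 1), F.StronglyClosed (c i)) ∧ ∀ i : Fin m, c i.castSucc ≤ c i.succ ∧ ∃ x ∈ S, c i.succ = c i.castSucc ⊔ Subgroup.zpowers x)) ↔ ¬ ((∃ n : ℕ, 0 < n ∧ Nonempty (↥S ≃* Multiplicative (ZMod (p ^ n)) × Multiplicative (ZMod (p ^ n)))) ∨ (p = 2 ∧ ((∃ n : ℕ, 2 ≤ n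 ∧ Nonempty (↥S ≃* DihedralGroup n)) ∨ Cfsg.IsQuasiDihedral ↥S ∨ (∃ n : ℕ, 2 ≤ n ∧ Nonempty (↥S ≃* QuaternionGroup n))))) := by
  have hp := (Fact.out : p.Prime)
  haveI : Finite (MulAut S) := finite_mulAut (P := S) le_rfl
  refine (cyclicSeries_iff hS).trans ⟨fun ⟨hres, hab⟩ => ?_, fun hneg => ?_⟩
  · rintro (⟨n, hn, ⟨e⟩⟩ | ⟨rfl, h⟩)
    · exact not_abelian_of_decomposition hn (H := PUnit) (e.trans MulEquiv.prodUnique.symm) hab
    have hA : IsPGroup 2 (MulAut S) := by
      refine IsPGroup.of_card (n := (Nat.card (MulAut S)).primeFactorsList.length)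
        (Nat.eq_prime_pow_of_unique_prime_dvd Nat.card_pos.ne' fun {q} hq hqd => ?_)
      by_contra hne
      haveI := Fact.mk hq
      obtain ⟨α, hα⟩ := exists_prime_orderOf_dvd_card' q hqd
      have hc : (Nat.card (Subgroup.zpowers α)).Coprime 2 := by
        rw [Nat.card_zpowers, hα]
        exact (Nat.coprime_primes hq Nat.prime_two).2 hne
      have := (hab _ hc).2 α (Subgroup.mem_zpowers α)
      rw [show 2 - 1 = 1 from rfl, pow_one] at this
      rw [this, orderOf_one] at hα
      exact hq.one_lt.ne hα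
    rcases h with ⟨n, hn, ⟨e⟩⟩ | hqd | ⟨n, hn, ⟨e⟩⟩
    · haveI : NeZero n := ⟨by omega⟩
      obtain ⟨k, hk⟩ := IsPGroup.iff_card.mp hS
      have hnk : 2 * n = 2 ^ k := by rw [← hk, Nat.card_congr e.toEquiv, DihedralGroup.nat_card]
      rcases (show n = 2 ∨ 4 ≤ n by
        by_contra h
        obtain rfl : n = 3 := by omega
        have hk4 : k < 4 := by
          by_contra h4
          have := Nat.pow_le_pow_right two_pos (show 4 ≤ k by omega)
          omega
        interval_cases k <;> omega) with rfl | hn4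
      · haveI := isKleinFour_prod
        obtain ⟨f⟩ := IsKleinFour.nonempty_mulEquiv (G₁ := DihedralGroup 2)
          (G₂ := Multiplicative (ZMod (2 ^ 1)) × Multiplicative (ZMod (2 ^ 1)))
        exact not_abelian_of_decomposition one_pos (H := PUnit)
          ((e.trans f).trans MulEquiv.prodUnique.symm) hab
      · obtain ⟨F, hF, hN⟩ := not_normal_of_dihedral hS hn4 e
        exact hN (hres F hF)
    · obtain ⟨F, hF, hN⟩ := not_normal_of_quasiDihedral hS hqd
      exact hN (hres F hF)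
    · obtain ⟨G, _, _, T, hG, hT, ⟨f⟩⟩ := exists_sylow_quaternion hS hn e
      obtain ⟨F, hF, hN⟩ :=
        not_isNormal_of_sylow hS T f hA (sylow_ne_commutator_of_perfect T hG hT)
      exact hN (hres F hF)
  have hnd : ∀ n : ℕ, 0 < n → IsEmpty (↥S ≃* Multiplicative (ZMod (p ^ n)) ×
      Multiplicative (ZMod (p ^ n))) := fun n hn =>
    not_nonempty_iff.1 fun h => hneg (Or.inl ⟨n, hn, h⟩)
  have hsub : ∀ F : FusionSystem S, F.StronglyClosed S := fun F =>
    stronglyClosed_iff.mpr ⟨le_rfl, fun P f hf x hx _ => hf.mem hx⟩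
  by_cases hp2 : p = 2
  · subst hp2
    have hA : IsPGroup 2 (MulAut S) := by
      by_contra hA
      obtain ⟨r, α, hr, hr2, hα, hα1⟩ := CfsgLib.PGroups.MetacyclicTwoAut.exists_odd_prime_aut hA
      haveI := Fact.mk hr
      rcases CfsgLib.PGroups.MetacyclicTwoAut.quaternion_or_homocyclic hS hm hr2 hα hα1 with
        hq | ⟨n, ⟨e⟩⟩
      · exact hneg (Or.inr ⟨rfl, Or.inr (Or.inr ⟨2, le_rfl, hq⟩)⟩)
      rcases Nat.eq_zero_or_pos n with rfl | hn
      · haveI : Subsingleton (ZMod (2 ^ 0)) :=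
          (inferInstance : Subsingleton (ZMod 1))
        haveI : Subsingleton S := e.toEquiv.subsingleton
        exact hα1 (MulEquiv.ext fun x => Subsingleton.elim _ _)
      · exact (hnd n hn).false e
    refine ⟨fun F hF => ?_, fun H hH => ?_⟩
    · by_cases hab : ∀ x ∈ S, ∀ y ∈ S, x * y = y * x
      · exact isNormal_of_abelian hS hF (hsub F) hab
      refine MetacyclicTwo.isNormal_two hS hF (hsub F) hm ?_ ?_
        fun h => hneg (Or.inr ⟨rfl, Or.inr (Or.inl h)⟩)
      · rintro ⟨m, ⟨e⟩⟩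
        rcases m with _ | _ | m
        · haveI : Finite (DihedralGroup 0) := Finite.of_equiv _ e.toEquiv
          exact not_finite (DihedralGroup 0)
        · refine hab fun x hx y hy => congrArg Subtype.val (e.injective
            (show e (⟨x, hx⟩ * ⟨y, hy⟩) = e (⟨y, hy⟩ * ⟨x, hx⟩) from ?_))
          rw [map_mul, map_mul]
          generalize e ⟨x, hx⟩ = a, e ⟨y, hy⟩ = b
          revert a b; decide
        · exact hneg (Or.inr ⟨rfl, Or.inl ⟨m + 2, by omega, ⟨e⟩⟩⟩)
      · rintro ⟨m, ⟨e⟩⟩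
        rcases m with _ | _ | m
        · haveI : Finite (QuaternionGroup 0) := Finite.of_equiv _ e.toEquiv
          haveI : Finite (ZMod (2 * 0)) := Finite.of_injective QuaternionGroup.a
            fun a b h => by injection h
          haveI : Finite ℤ := (inferInstance : Finite (ZMod (2 * 0)))
          exact not_finite ℤ
        · refine hab fun x hx y hy => congrArg Subtype.val (e.injective
            (show e (⟨x, hx⟩ * ⟨y, hy⟩) = e (⟨y, hy⟩ * ⟨x, hx⟩) from ?_))
          rw [map_mul, map_mul]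
          generalize e ⟨x, hx⟩ = a, e ⟨y, hy⟩ = b
          revert a b; decide
        · exact hneg (Or.inr ⟨rfl, Or.inr (Or.inr ⟨m + 2, by omega, ⟨e⟩⟩)⟩)
    · obtain ⟨k, hk⟩ := IsPGroup.iff_card.mp (hA.to_subgroup H)
      have h1 : Nat.card H = 1 :=
        Nat.eq_one_of_dvd_coprimes ((hH.symm.pow_left k)) (dvd_of_eq hk) dvd_rfl
      rw [Subgroup.card_eq_one] at h1
      subst h1
      exact ⟨⟨⟨fun a b => Subsingleton.elim _ _⟩⟩, fun h hh => by
        rw [Subgroup.mem_bot.1 hh, one_pow]⟩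
  · refine ⟨fun F hF => Metacyclic.isNormal_aux hp2 _ hS F hF S (hsub F) hm le_rfl, fun H hH => ?_⟩
    by_cases hab : IsMulCommutative S
    · refine abelian_of_no_decomposition hS hab (fun ⟨n, H', _, hn, ⟨e⟩⟩ => ?_) H hH
      haveI := trivial_of_decomposition hS hm hn e
      haveI : Unique H' := uniqueOfSubsingleton 1
      exact (hnd n hn).false (e.trans MulEquiv.prodUnique)
    · exact MetacyclicAbelian.abelian_of_metacyclic hp2 hS hm hab H hH

end Cfsg.Agent.S5287
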