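import Cfsg.Statements.S5289
import Cfsg.Agent.Lib.Fusion.RankTwoEssential
import Cfsg.Agent.Lib.Fusion.MetacyclicClosed
import Cfsg.Agent.Lib.PGroups.RankTwoShape

set_option autoImplicit false
open Cfsg

namespace Cfsg.Agent.S5289

/-- Let p ≥ 5 be a prime and S a finite p-group of p-rank two (it has an elementary abelian subgroup of order p² and none of order p³) which is not the extraspecial group of order p³ and exponent p. Then S is resistant: for every saturated fusion system F over S, S is normal in F, that is, every map of F extends to an F-automorphism of S. -/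
theorem result {Ω : Type*} [Group Ω] {S : Subgroup Ω} [Finite S] (p : ℕ) [Fact p.Prime] (hS : IsPGroup p S)
    (F : Cfsg.FusionSystem S) (hF : F.IsSaturated p)
    (hp : 5 ≤ p)
    (hrank2 : ∃ E : Subgroup Ω, E ≤ S ∧ Cfsg.IsElementaryAbelian p E ∧ Nat.card E = p ^ 2)
    (hrank3 : ∀ E : Subgroup Ω, E ≤ S → Cfsg.IsElementaryAbelian p E → Nat.card E ≤ p ^ 2)
    (hnotE : ¬ (Nat.card S = p ^ 3 ∧ Monoid.exponent ↥S = p)) : F.IsNormal S := by
  classical
  have hp' : p.Prime := Fact.out
  have hclosed : F.StronglyClosed S := CfsgLib.Fusion.stronglyClosed_iff.mpr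
    ⟨le_rfl, fun P f hf x hx _ => hf.mem hx⟩
  have hr : Cfsg.PRankLE p 2 ↥S := fun A hA hAp => by
    have h1 := hrank3 (A.map S.subtype) (Subgroup.map_subtype_le A)
      (CfsgLib.Base.isElementaryAbelian_iff.2 ⟨?_, ?_⟩)
    · rwa [Subgroup.card_map_of_injective S.subtype_injective] at h1
    · rintro _ ⟨a, ha, rfl⟩ _ ⟨b, hb, rfl⟩
      rw [← map_mul, ← map_mul]
      exact congrArg S.subtype (congrArg Subtype.val (hA.is_comm.comm ⟨a, ha⟩ ⟨b, hb⟩))
    · rintro _ ⟨a, ha, rfl⟩
      rw [← map_pow, hAp a ha, map_one]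
  have hnc : ¬ IsCyclic ↥S := fun hc => by
    obtain ⟨E, hES, hE, hEc⟩ := hrank2
    haveI : Finite E := CfsgLib.Fusion.finite_of_le hES
    haveI := hc
    haveI : IsCyclic E := isCyclic_of_injective (Subgroup.inclusion hES)
      (Subgroup.inclusion_injective hES)
    obtain ⟨w, hw⟩ := IsCyclic.exists_generator (α := E)
    have h1 := orderOf_eq_card_of_forall_mem_zpowers hw
    have h2 := orderOf_dvd_of_pow_eq_one
      (show w ^ p = 1 from Subtype.ext (by
        simpa using (CfsgLib.Base.isElementaryAbelian_iff.1 hE).2 w w.2))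
    rw [h1, hEc] at h2
    have h3 := Nat.le_of_dvd hp'.pos h2
    rw [sq] at h3
    have h4 : p * 5 ≤ p * p := Nat.mul_le_mul_left p hp
    omega
  rcases CfsgLib.PGroups.RankTwoShape.metacyclic_or_shape hp hS hr hnc with hm | ⟨X', U', hsh⟩
  · exact CfsgLib.Fusion.Metacyclic.isNormal_aux (by omega) _ hS F hF S hclosed hm le_rfl
  set X := X'.map S.subtype with hX
  set U := U'.map S.subtype with hU
  have hCeq : (CfsgLib.Fusion.RankTwo.Setup p S X U) := by
    have hC : ∀ c : S, (c : Ω) ∈ Cfsg.FusionSystem.centralizerIn S U ↔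
        c ∈ Subgroup.centralizer (U' : Set S) := by
      intro c
      rw [CfsgLib.Fusion.mem_centralizerIn, Subgroup.mem_centralizer_iff]
      refine ⟨fun h v hv => Subtype.ext ?_, fun h => ⟨c.2, ?_⟩⟩
      · have h1 := h.2 v ⟨v, hv, rfl⟩
        rw [CfsgLib.Fusion.cj_apply, mul_inv_eq_iff_eq_mul] at h1
        exact h1.symm
      · rintro _ ⟨v, hv, rfl⟩
        have h1 : ((v : Ω) * c : Ω) = c * v := congrArg Subtype.val (h v hv)
        show CfsgLib.Fusion.cj (c : Ω) (v : Ω) = v
        rw [CfsgLib.Fusion.cj_apply, ← h1, mul_inv_cancel_right]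
    refine ⟨hS, Subgroup.map_subtype_le _, fun x hx => ?_, ?_, Subgroup.map_mono hsh.le, ?_, ?_,
      ?_, ?_, ?_⟩
    · rw [hX]
      constructor
      · rintro ⟨a, ha, rfl⟩
        rw [← map_pow, (hsh.mem_iff a).1 ha, map_one]
      · intro h
        exact ⟨⟨x, hx⟩, (hsh.mem_iff _).2 (Subtype.ext (by simpa using h)), rfl⟩
    · rw [hX, Subgroup.card_map_of_injective S.subtype_injective, hsh.cardX]
    · rintro _ ⟨a, ha, rfl⟩ _ ⟨b, hb, rfl⟩
      rw [← map_mul, ← map_mul, hsh.comm a ha b hb]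
    · rw [hU, Subgroup.card_map_of_injective S.subtype_injective, hsh.cardU]
    · intro c hc hcp
      have hcS := (CfsgLib.Fusion.mem_centralizerIn.1 hc).1
      exact ⟨⟨c, hcS⟩, hsh.omega _ ((hC ⟨c, hcS⟩).1 hc) (Subtype.ext (by simpa using hcp)), rfl⟩
    · rintro g hg _ ⟨v, hv, rfl⟩
      have h1 := hsh.comm_center ⟨g, hg⟩ v hv
      rw [commutatorElement_def] at h1
      refine ⟨⟨_, h1.1, rfl⟩, fun h hh => ?_⟩
      exact congrArg Subtype.val (Subgroup.mem_center_iff.1 h1.2 ⟨h, hh⟩)
    · rw [show (Cfsg.FusionSystem.centralizerIn S U).subgroupOf S =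
        Subgroup.centralizer (U' : Set S) from Subgroup.ext fun c => hC c, hsh.index]
  refine CfsgLib.Fusion.isNormal_of_invariant hS hF fun P hP => ?_
  rcases hP with rfl | hP
  · exact ⟨le_rfl, fun α _ x hx => CfsgLib.Fusion.autFun_mem α hx⟩
  · refine (hCeq.no_essential hp hF ?_ hP).elim
    rw [← hsh.cardX]
    refine lt_of_le_of_ne (Subgroup.card_le_card_group X') fun heq => hnotE ⟨?_, ?_⟩
    · rw [← heq, hsh.cardX]
    · have htop : X' = ⊤ := Subgroup.eq_top_of_card_eq _ heq
      have hexp : ∀ x : S, x ^ p = 1 := fun x => (hsh.mem_iff x).1 (htop ▸ Subgroup.mem_top x)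
      refine ((Nat.dvd_prime hp').1 (Monoid.exponent_dvd_of_forall_pow_eq_one hexp)).resolve_left
        fun h1 => ?_
      haveI := Monoid.exp_eq_one_iff.1 h1
      have := hsh.cardX
      rw [htop, Subgroup.card_top, Nat.card_unique] at this
      exact (Nat.one_lt_pow (by norm_num) hp'.one_lt).ne this

end Cfsg.Agent.S5289
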