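import Cfsg.Statements.S5295
import Cfsg.Agent.Lib.Fusion.CenterFactor
import Cfsg.Agent.S5193
import Cfsg.Agent.Lib.Fusion.LocalModels
import Cfsg.Agent.Lib.Fusion.CenterNormalizer

set_option autoImplicit false
universe u
open Cfsg Cfsg.FusionSystem CfsgLib.Fusion

namespace Cfsg.Agent.S5295

/-- Let F be a saturated fusion system over a finite p-group S with p odd. Then the centre Z(F) of F is a direct factor of Z(S): there is a subgroup K of Z(S) with Z(F) ∩ K = 1 and Z(F)K = Z(S). (At the prime 2 this can fail.) -/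
theorem result {Ω : Type u} [Group Ω] {S : Subgroup Ω} [Finite S] (p : ℕ) [Fact p.Prime] (hp : p ≠ 2) (hS : IsPGroup p S)
    (F : Cfsg.FusionSystem S) (hF : F.IsSaturated p) :
    ∃ K : Subgroup Ω, K ≤ (S ⊓ Subgroup.centralizer (S : Set Ω)) ∧ F.center ⊓ K = ⊥ ∧ F.center ⊔ K = (S ⊓ Subgroup.centralizer (S : Set Ω)) := by
  have hJS : thompsonSubgroupAOf S ≤ S := Subgroup.map_subtype_le _
  have hSn : normalizerIn S (thompsonSubgroupAOf S) = S := by
    rw [← jFunctor_at (p := p)]; exact normalizerIn_at _ F hS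
  obtain ⟨N, hN⟩ := Cfsg.Agent.S5096.result F (thompsonSubgroupAOf S) hJS
  have hc := (Cfsg.Agent.S5193.result p hS F hF N hN).2 (Or.inl hp)
  have hsat := normalizerSystem_isSaturated hS hF (isFullyNormalized_of_normal (F := F) hJS hSn) hN
  have hnor := normalizerSystem_isNormal hJS hN
  rw [← hc]
  suffices ∀ (T : Subgroup Ω) (D : FusionSystem T), T = S → D.IsSaturated p → ctr S ≤ D.core →
      ∃ K : Subgroup Ω, K ≤ ctr S ∧ D.center ⊓ K = ⊥ ∧ D.center ⊔ K = ctr S from
    this _ N hSn hsat fun x hx => by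
      refine le_core hnor ?_
      have hmem : (⟨x, (Subgroup.mem_inf.mp hx).1⟩ : S) ∈ thompsonSubgroupA S := by
        have h1 := CfsgLib.LocalEven.mem_jAb_of_le_centralizer (R := (⊤ : Subgroup S))
          (x := (⟨x, (Subgroup.mem_inf.mp hx).1⟩ : S)) (Subgroup.mem_top _) fun y _ =>
            Subgroup.mem_centralizer_singleton_iff.2 (Subtype.ext ((Subgroup.mem_inf.mp hx).2 y y.2))
        rw [← CfsgLib.LocalEven.thompsonSubgroupAOf_eq_jAb] at h1
        have h2 : thompsonSubgroupAOf (⊤ : Subgroup S) = thompsonSubgroupA S := by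
          apply Subgroup.map_injective S.subtype_injective
          rw [map_jAOf S.subtype_injective, ← MonoidHom.range_eq_map, Subgroup.range_subtype]
          rfl
        exact h2 ▸ h1
      exact ⟨_, hmem, rfl⟩
  intro T D hT hD hle
  subst hT
  exact center_directFactor_of_le_core hS hD hle

end Cfsg.Agent.S5295
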