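import Cfsg.Statements.S5296
import Cfsg.Agent.Lib.Fusion.SmallControlMain

set_option autoImplicit false
universe u
open Cfsg
open Cfsg.FusionSystem CfsgLib.Fusion

namespace Cfsg.Agent.S5296

/-- Small-exponent abelian subgroups of the hyperfocal subgroup control fusion. Let E and F be saturated fusion systems over the same finite p-group S with E contained in F. Suppose that E and F have the same maps between A and B for all subgroups A, B of the hyperfocal subgroup of F that are elementary abelian when p is odd, respectively abelian of exponent dividing 4 when p = 2. Then E = F. -/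
theorem result {Ω : Type u} [Group Ω] {S : Subgroup Ω} [Finite S] (p : ℕ) [Fact p.Prime] (hS : IsPGroup p S)
    (E F : Cfsg.FusionSystem S) (hE : E.IsSaturated p) (hF : F.IsSaturated p) (hEF : E.IsSubsystemOf F)
    (hodd : p ≠ 2 → ∀ A B : Subgroup Ω, A ≤ (F.hyperfocalSubgroup p) → B ≤ (F.hyperfocalSubgroup p) →
      Cfsg.IsElementaryAbelian p A → Cfsg.IsElementaryAbelian p B → E.homSet A B = F.homSet A B)
    (htwo : p = 2 → ∀ A B : Subgroup Ω, A ≤ (F.hyperfocalSubgroup p) → B ≤ (F.hyperfocalSubgroup p) →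
      IsMulCommutative ↥A → IsMulCommutative ↥B → (∀ a ∈ A, a ^ 4 = 1) → (∀ b ∈ B, b ^ 4 = 1) → E.homSet A B = F.homSet A B) :
    ∀ P : Subgroup Ω, E.Hom P = F.Hom P := by
  have hV : Absorbs p (F.hyperfocalSubgroup p) F := ⟨hyp_le_top,
    fun P f hf x hx hxV => (stronglyClosed_iff.mp (hyp_stronglyClosed hS hF)).2 P f hf x hx hxV,
    fun P hP α hα hcop x hx => hyp_gen hP hα hcop hx⟩
  have hsub : F ≤ E := by
    refine le_of_agree hS hE hF hEF hV fun A f hAV hA hf => ?_
    obtain ⟨φ, hφ, hφf⟩ := id hf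
    have himg : ∀ x : A, φ x ∈ img A f := fun x => by
      rw [hφf]
      exact mem_img_of_mem f x.2
    have hB : SmallAb p (img A f) := by
      refine ⟨fun a ha b hb => ?_, fun a ha => ?_⟩
      · obtain ⟨x, hx, rfl⟩ := hf.mem_img.mp ha
        obtain ⟨y, hy, rfl⟩ := hf.mem_img.mp hb
        rw [← hf.map_mul hx hy, ← hf.map_mul hy hx, hA.comm x hx y hy]
      · obtain ⟨x, hx, rfl⟩ := hf.mem_img.mp ha
        exact (hA.small x hx).imp (fun e => by rw [← hf.map_pow hx, e, hf.map_one])
          fun e => ⟨e.1, by rw [← hf.map_pow hx, e.2, hf.map_one]⟩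
    have hBV : img A f ≤ F.hyperfocalSubgroup p := img_le fun x hx => hV.closed A f hf x hx (hAV hx)
    have hc : ∀ {C : Subgroup Ω}, SmallAb p C → IsMulCommutative ↥C := fun hC =>
      ⟨⟨fun a b => Subtype.ext (hC.comm a a.2 b b.2)⟩⟩
    have h4 : p = 2 → ∀ {C : Subgroup Ω}, SmallAb p C → ∀ c ∈ C, c ^ 4 = 1 := fun h2 C hC c hc' =>
      (hC.small c hc').elim (fun e => by subst h2; rw [show (4 : ℕ) = 2 * 2 from rfl, pow_mul, e, one_pow])
        (·.2)
    have he : ∀ {C : Subgroup Ω}, p ≠ 2 → SmallAb p C → Cfsg.IsElementaryAbelian p C := fun h2 hC =>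
      ⟨hc hC, fun c hc' => (hC.small c hc').resolve_right fun e => h2 e.1⟩
    have heq : E.homSet A (img A f) = F.homSet A (img A f) := by
      by_cases h2 : p = 2
      · exact htwo h2 A (img A f) hAV hBV (hc hA) (hc hB) (h4 h2 hA) (h4 h2 hB)
      · exact hodd h2 A (img A f) hAV hBV (he h2 hA) (he h2 hB)
    exact ⟨φ, (heq.ge ⟨hφ, himg⟩).1, hφf⟩
  intro P
  exact Set.Subset.antisymm (hEF P) (hsub P)

end Cfsg.Agent.S5296
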