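import Cfsg.Statements.S5297
import Cfsg.Agent.Lib.Fusion.SmallElements

set_option autoImplicit false
universe u
open Cfsg Cfsg.FusionSystem CfsgLib.Fusion

namespace Cfsg.Agent.S5297

/-- Let F be a saturated fusion system over a finite p-group S. If every map of F between cyclic subgroups of the hyperfocal subgroup of F of order p or 4 is a map of the normalizer system of S (it extends to a map of F defined on all of S), then S is normal in F. -/
theorem result {Ω : Type u} [Group Ω] {S : Subgroup Ω} [Finite S] (p : ℕ) [Fact p.Prime] (hS : IsPGroup p S)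
    (F : Cfsg.FusionSystem S) (hF : F.IsSaturated p)
    (h : ∀ A B : Subgroup Ω, A ≤ (F.hyperfocalSubgroup p) → B ≤ (F.hyperfocalSubgroup p) → IsCyclic ↥A → (Nat.card ↥A = p ∨ Nat.card ↥A = 4) → IsCyclic ↥B → (Nat.card ↥B = p ∨ Nat.card ↥B = 4) →
      F.homSet A B ⊆ F.normalizerHom S A) :
    F.IsNormal S := by
  obtain ⟨n, hn⟩ := exists_ucs_eq_top hS
  have hV : ∀ P' f, IsMor F P' f → ∀ x ∈ P', x ∈ F.hyperfocalSubgroup p → f x ∈ F.hyperfocalSubgroup p :=
    (stronglyClosed_iff.mp (hyp_stronglyClosed hS hF)).2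
  -- images of small elements
  have hext : ∀ P' f, IsMor F P' f → ∀ x ∈ P', x ∈ F.hyperfocalSubgroup p → Small p x → x ≠ 1 →
      ∃ φ ∈ F.homSet (Subgroup.zpowers x) (Subgroup.zpowers (f x)),
        φ ⟨x, Subgroup.mem_zpowers x⟩ = f x ∧
        φ ∈ F.normalizerHom S (Subgroup.zpowers x) := by
    intro P' f hf x hx hxV hs h1
    obtain ⟨φ, hφ, he⟩ := hf.restrict (Subgroup.zpowers_le.mpr hx)
    obtain ⟨hc, hk⟩ := small_zpowers hs h1
    have hpw : ∀ k : ℕ, f (x ^ k) = f x ^ k := fun k => by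
      induction k with
      | zero => rw [pow_zero, pow_zero, hf.map_one]
      | succ k ih => rw [pow_succ, pow_succ, hf.map_mul (P'.pow_mem hx k) hx, ih]
    have hs' : Small p (f x) := hs.imp (fun e => by rw [← hpw, e, hf.map_one])
      (fun e => ⟨e.1, by rw [← hpw, e.2, hf.map_one]⟩)
    obtain ⟨hc', hk'⟩ := small_zpowers hs' fun e => h1 (hf.inj hx P'.one_mem (by rw [e, hf.map_one]))
    have hmem : φ ∈ F.homSet (Subgroup.zpowers x) (Subgroup.zpowers (f x)) := by
      refine ⟨hφ, fun y => ?_⟩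
      rw [he]
      obtain ⟨k, hk⟩ := Subgroup.mem_zpowers_iff.mp y.2
      rw [← hk, hf.map_zpow hx]
      exact Subgroup.zpow_mem _ (Subgroup.mem_zpowers _) k
    exact ⟨φ, hmem, he _, h _ _ (Subgroup.zpowers_le.mpr hxV) (Subgroup.zpowers_le.mpr (hV P' f hf x hx hxV))
      hc hk hc' hk' hmem⟩
  refine isNormal_self_of_small hS hF hV (fun P hP α hα hcop x hx => hyp_gen hP hα hcop hx) n (ucs S)
    ucs_zero (fun x hx _ _ => hn.ge hx) (fun P' f hf i x hx hxV hs hxi => ?_)
    fun i _ x hx _ _ g hg _ _ => ucs_step hx hg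
  rcases eq_or_ne x 1 with rfl | h1
  · rw [hf.map_one]; exact Subgroup.one_mem _
  obtain ⟨φ, -, hφx, -, -, -, ψ, hψ, hψe, hψS⟩ := hext P' f hf x hx hxV hs h1
  have hxS : Subgroup.zpowers x ≤ S := Subgroup.zpowers_le.mpr (hf.le hx)
  have hm : IsMor F S (toFun ψ) := (isMor_of_mem hψ).restrict le_sup_right
  obtain ⟨α, -, hαe⟩ := exists_aut hm (hm.img_eq_self fun y hy => hm.mem hy)
  have h2 : f x = autFun α x := by
    rw [hαe x (hf.le hx), ← hφx, ← hψe ⟨x, Subgroup.mem_zpowers x⟩]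
    exact (toFun_coe ψ _).symm
  rw [h2]
  exact ucs_aut hxi

end Cfsg.Agent.S5297
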