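import Cfsg.Statements.S5298
import Cfsg.Agent.Lib.Fusion.SmallElements

set_option autoImplicit false
universe u
open Cfsg Cfsg.FusionSystem CfsgLib.Fusion

namespace Cfsg.Agent.S5298

/-- Let F be a saturated fusion system over a finite p-group S. If every map of F between cyclic subgroups of the hyperfocal subgroup of F of order p or 4 is conjugation by an element of S, then F is the inner fusion system of S. -/
theorem result {Ω : Type u} [Group Ω] {S : Subgroup Ω} [Finite S] (p : ℕ) [Fact p.Prime] (hS : IsPGroup p S)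
    (F : Cfsg.FusionSystem S) (hF : F.IsSaturated p)
    (h : ∀ A B : Subgroup Ω, A ≤ (F.hyperfocalSubgroup p) → B ≤ (F.hyperfocalSubgroup p) → IsCyclic ↥A → (Nat.card ↥A = p ∨ Nat.card ↥A = 4) → IsCyclic ↥B → (Nat.card ↥B = p ∨ Nat.card ↥B = 4) →
      F.homSet A B ⊆ (Cfsg.innerFusionSystem S).Hom A) :
    ∀ P : Subgroup Ω, F.Hom P = (Cfsg.innerFusionSystem S).Hom P := by
  obtain ⟨n, hn⟩ := exists_ucs_eq_top hS
  have hV : ∀ P' f, IsMor F P' f → ∀ x ∈ P', x ∈ F.hyperfocalSubgroup p → f x ∈ F.hyperfocalSubgroup p :=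
    (stronglyClosed_iff.mp (hyp_stronglyClosed hS hF)).2
  -- images of small elements
  have hext : ∀ P' f, IsMor F P' f → ∀ x ∈ P', x ∈ F.hyperfocalSubgroup p → Small p x → x ≠ 1 →
      ∃ φ ∈ F.homSet (Subgroup.zpowers x) (Subgroup.zpowers (f x)),
        φ ⟨x, Subgroup.mem_zpowers x⟩ = f x ∧
        φ ∈ (innerFusionSystem S).Hom (Subgroup.zpowers x) := by
    intro P' f hf x hx hxV hs h1
    obtain ⟨φ, hφ, he⟩ := hf.restrict (Subgroup.zpowers_le.mpr hx)
    obtain ⟨hc, hk⟩ := small_zpowers hs h1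
    have hpw : ∀ k : ℕ, f (x ^ k) = f x ^ k := fun k => by
      induction k with
      | zero => rw [pow_zero, pow_zero, hf.map_one]
      | succ k ih => rw [pow_succ, pow_succ, hf.map_mul (P'.pow_mem hx k) hx, ih]
    have hs' : Small p (f x) := hs.imp (fun e => by rw [← hpw, e, hf.map_one])
      (fun e => ⟨e.1, by rw [← hpw, e.2, hf.map_one]⟩)
    obtain ⟨hc', hk'⟩ := small_zpowers hs' fun e => h1 (hf.inj hx P'.one_mem (by rw [e, hf.map_one]))
    have hmem : φ ∈ F.homSet (Subgroup.zpowers x) (Subgroup.zpowers (f x)) := by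
      refine ⟨hφ, fun y => ?_⟩
      rw [he]
      obtain ⟨k, hk⟩ := Subgroup.mem_zpowers_iff.mp y.2
      rw [← hk, hf.map_zpow hx]
      exact Subgroup.zpow_mem _ (Subgroup.mem_zpowers _) k
    exact ⟨φ, hmem, he _, h _ _ (Subgroup.zpowers_le.mpr hxV) (Subgroup.zpowers_le.mpr (hV P' f hf x hx hxV))
      hc hk hc' hk' hmem⟩
  have himg : ∀ P' f, IsMor F P' f → ∀ x ∈ P', x ∈ F.hyperfocalSubgroup p → Small p x →
      ∃ s ∈ S, f x = cj s x := by
    intro P' f hf x hx hxV hs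
    rcases eq_or_ne x 1 with rfl | h1
    · exact ⟨1, S.one_mem, by rw [hf.map_one, cj_one]⟩
    obtain ⟨φ, -, hφx, hφ⟩ := hext P' f hf x hx hxV hs h1
    obtain ⟨-, s, hs, hse⟩ := isMor_inner.mp (isMor_of_mem hφ)
    refine ⟨s, hs, ?_⟩
    rw [← hse x (Subgroup.mem_zpowers x), ← hφx]
    exact (toFun_coe φ _).symm
  have hucs : ∀ i, ∀ x ∈ ucs S i, ∀ s ∈ S, cj s x ∈ ucs S i := by
    intro i x hxi s hs
    have hxS : x ∈ S := Subgroup.map_subtype_le _ hxi
    have hm := isMor_cj F le_rfl hs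
    obtain ⟨α, -, hαe⟩ := exists_aut hm (hm.img_eq_self fun y hy => hm.mem hy)
    rw [← hαe x hxS]
    exact ucs_aut hxi
  have hN : F.IsNormal S := isNormal_self_of_small hS hF hV
    (fun P hP α hα hcop x hx => hyp_gen hP hα hcop hx) n (ucs S)
    ucs_zero (fun x hx _ _ => hn.ge hx) (fun P' f hf i x hx hxV hs hxi => by
      obtain ⟨s, hs', e⟩ := himg P' f hf x hx hxV hs
      rw [e]
      exact hucs i x hxi s hs') fun i _ x hx _ _ g hg _ _ => ucs_step hx hg
  obtain ⟨D, hDle, hsm, hDinv, hfaith⟩ :=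
    exists_small_detecting (F := F) hS le_rfl hV (fun α hα hcop x hx => hyp_gen le_rfl hα hcop hx)
  have hcop1 : ∀ α ∈ F.autGroup S, (orderOf α).Coprime p → α = 1 := by
    intro α hα hcop
    refine hfaith α hα hcop (fix_of_stabilizing hS le_rfl (hDle.trans inf_le_left) hcop n (ucs S)
      (by rw [ucs_zero, inf_bot_eq]) (fun x hx => hn.ge (hDle hx).1) (hDinv α hα) fun i _ x hx hxi => ?_)
    obtain ⟨s, hs, e⟩ := himg S _ (isMor_autFun le_rfl hα) x (hDle hx).1 (hDle hx).2 (hsm x hx)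
    rw [e]
    exact ucs_step hxi hs
  have := finite_mulAut (P := S) le_rfl
  have hp' : IsPGroup p (F.autGroup S) := by
    rintro ⟨α, hα⟩
    obtain ⟨a, c, hc', hn'⟩ := Nat.exists_eq_pow_mul_and_not_dvd (orderOf_pos α).ne' p
      (Fact.out : p.Prime).ne_one
    refine ⟨a, Subtype.ext (hcop1 _ (Subgroup.pow_mem _ hα _) ?_)⟩
    show (orderOf (α ^ p ^ a)).Coprime p
    rw [orderOf_pow_of_dvd (pow_ne_zero a (Fact.out : p.Prime).ne_zero) (hn' ▸ dvd_mul_right _ _), hn',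
      Nat.mul_div_cancel_left _ (pow_pos (Fact.out : p.Prime).pos a)]
    exact (Nat.Coprime.symm (((Fact.out : p.Prime).coprime_iff_not_dvd).mpr hc'))
  intro P
  refine hom_eq_iff.mpr fun f => ⟨fun hf => isMor_inner.mpr ⟨hf.le, ?_⟩, fun hf => ?_⟩
  · obtain ⟨α, hα, hαe⟩ := exists_aut_of_isNormal hN hf hf.le
    obtain ⟨s, hs, e⟩ := mem_inn.mp (autGroup_le_inn_of_isPGroup hS hF hp' hα)
    exact ⟨s, hs, fun x hx => (hαe x hx).symm.trans (e x (hf.le hx))⟩
  · obtain ⟨hP, s, hs, e⟩ := isMor_inner.mp hf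
    exact (isMor_cj F hP hs).congr fun x hx => (e x hx).symm

end Cfsg.Agent.S5298
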