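import Cfsg.Statements.S5299
import Cfsg.Agent.Lib.Fusion.Group
-- import your own Cfsg.Agent.* helpers here

set_option autoImplicit false
universe u
open Cfsg

namespace Cfsg.Agent.S5299

open Cfsg Cfsg.FusionSystem CfsgLib.Fusion


/-- Let F be a saturated fusion system over a finite p-group S, H a finite group and Q a p-subgroup of H. If Q is not involved in S (no section of S is isomorphic to Q), then F is H-free: H is involved in no model of the normalizer system of a fully normalized centric subgroup. -/
theorem result {Ω : Type u} [Group Ω] {S : Subgroup Ω} [Finite S] (p : ℕ) [Fact p.Prime] (hS : IsPGroup p S)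
    (F : Cfsg.FusionSystem S) (hF : F.IsSaturated p) (H : Type*) [Group H] [Finite H] (Q : Subgroup H) (hQ : IsPGroup p Q)
    (hfree : ¬ Cfsg.Involves (↥Q) (↥S)) : F.IsSectionFree p H := by
  intro R hRn hRc N hN L _ ι hL hI
  obtain ⟨K, R', hn, ⟨e⟩⟩ := hI
  have : Finite L := hL.1
  obtain ⟨T, hT⟩ := hL.2.2.1
  let π : K →* H := e.toMonoidHom.comp (QuotientGroup.mk' (R'.subgroupOf K))
  have hπ : Function.Surjective π := e.surjective.comp (QuotientGroup.mk'_surjective _)
  let K1 : Subgroup K := Q.comap π
  obtain ⟨U⟩ : Nonempty (Sylow p K1) := inferInstance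
  let π1 : K1 →* Q := π.subgroupComap Q
  have hπ1 : Function.Surjective π1 := MonoidHom.subgroupComap_surjective_of_surjective π Q hπ
  have hUtop : ((U : Subgroup K1)).map π1 = ⊤ :=
    (U.mapSurjective hπ1).3 (hQ.to_subgroup ⊤) le_top |>.symm
  let j : K1 →* L := K.subtype.comp K1.subtype
  obtain ⟨g, hg⟩ := exists_conj_le_sylow T (U.2.map j)
  rw [img_cj, Subgroup.map_map] at hg
  let k : (U : Subgroup K1) →* L := ((MulAut.conj g).toMonoidHom.comp j).comp (U : Subgroup K1).subtype
  have hk : Function.Injective k := by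
    intro a b h
    have := (MulAut.conj g).injective h
    exact Subtype.ext (Subtype.ext (Subtype.ext this))
  let ιS : ↥(Cfsg.FusionSystem.normalizerIn S R) →* S := Subgroup.inclusion inf_le_left
  let V : Subgroup S := ((k.range).comap ι).map ιS
  have hrange : k.range ≤ ι.range := by
    rintro _ ⟨u, rfl⟩
    rw [← hT]
    exact hg ⟨u, u.2, rfl⟩
  let e1 : V ≃* (U : Subgroup K1) :=
    (((k.range).comap ι).equivMapOfInjective ιS (Subgroup.inclusion_injective _)).symm.trans
      (MulEquiv.ofBijective (ι.subgroupComap k.range)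
        ⟨fun a b h => Subtype.ext (hL.2.1.1 (congrArg Subtype.val h)), fun y => by
          obtain ⟨x, hx⟩ := hrange y.2
          exact ⟨⟨x, (congrArg (· ∈ k.range) hx).mpr y.2⟩, Subtype.ext hx⟩⟩ |>.trans
        (MonoidHom.ofInjective hk).symm)
  let ρ : V →* Q := (π1.comp (U : Subgroup K1).subtype).comp e1.toMonoidHom
  have hρ : Function.Surjective ρ := by
    refine Function.Surjective.comp (g := π1.comp (U : Subgroup K1).subtype) (f := e1.toMonoidHom) ?_ e1.surjective
    intro q
    obtain ⟨u, hu, rfl⟩ := hUtop.ge (Subgroup.mem_top q)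
    exact ⟨⟨u, hu⟩, rfl⟩
  have hV : (ρ.ker.map V.subtype).subgroupOf V = ρ.ker := by
    rw [Subgroup.subgroupOf, Subgroup.comap_map_eq_self_of_injective V.subtype_injective]
  have hVn : ((ρ.ker.map V.subtype).subgroupOf V).Normal := hV.symm ▸ inferInstance
  exact hfree ⟨V, ρ.ker.map V.subtype, hVn, ⟨(QuotientGroup.quotientMulEquivOfEq hV).trans
    (QuotientGroup.quotientKerEquivOfSurjective ρ hρ)⟩⟩

end Cfsg.Agent.S5299
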