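import Cfsg.Statements.S5300
import Cfsg.Agent.Lib.Fusion.SmallElements

set_option autoImplicit false
universe u
open Cfsg Cfsg.FusionSystem CfsgLib.Fusion

namespace Cfsg.Agent.S5300

/-- Let F be a saturated fusion system over a finite p-group S. If every cyclic subgroup of the focal subgroup of F of order p (of order 2 or 4 when p = 2) is normal in S, then S is normal in F. -/
theorem result {Ω : Type u} [Group Ω] {S : Subgroup Ω} [Finite S] (p : ℕ) [Fact p.Prime] (hS : IsPGroup p S)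
    (F : Cfsg.FusionSystem S) (hF : F.IsSaturated p)
    (hnorm : ∀ x ∈ F.focalSubgroup, (x ^ p = 1 ∨ (p = 2 ∧ x ^ 4 = 1)) → ∀ s ∈ S, s * x * s⁻¹ ∈ Subgroup.zpowers x) :
    F.IsNormal S := by
  have hfocS : F.focalSubgroup ≤ S := (Subgroup.closure_le _).mpr fun y ⟨P, φ, x, hφ, e⟩ =>
    e ▸ S.mul_mem (S.inv_mem ((F.le_of_mem hφ).1 x.2)) ((F.le_of_mem hφ).2 x)
  have hV : ∀ P' f, IsMor F P' f → ∀ x ∈ P', x ∈ F.focalSubgroup → f x ∈ F.focalSubgroup := by
    intro P' f hf x hx hxV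
    simpa using F.focalSubgroup.mul_mem hxV (le_focal hf hx)
  have hcent : ∀ x ∈ F.focalSubgroup, x ^ p = 1 → x ∈ S ⊓ Subgroup.centralizer (S : Set Ω) := by
    intro x hxV hxp
    refine ⟨hfocS hxV, fun s hs => ?_⟩
    rcases eq_or_ne x 1 with rfl | h1
    · simp
    have hord : orderOf x = p := orderOf_eq_prime hxp h1
    have hn' : ∀ t ∈ S, ∃ k : ℕ, k < p ∧ cj t x = x ^ k := by
      intro t ht
      have hfo : IsOfFinOrder x := orderOf_pos_iff.mp (hord ▸ (Fact.out : p.Prime).pos)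
      obtain ⟨k, hk⟩ := hfo.mem_powers_iff_mem_zpowers.mpr (hnorm x hxV (Or.inl hxp) t ht)
      refine ⟨k % p, Nat.mod_lt _ (Fact.out : p.Prime).pos, ?_⟩
      rw [← hord, pow_mod_orderOf]
      exact hk.symm
    obtain ⟨k, hk, hke⟩ := hn' s hs
    have hit : ∀ m : ℕ, cj (s ^ m) x = x ^ k ^ m := by
      intro m
      induction m with
      | zero => rw [pow_zero, pow_zero, pow_one, cj_one]
      | succ m ih =>
        rw [pow_succ', cj_mul, ih, cj_apply, ← conj_pow, ← cj_apply, hke, ← pow_mul, ← pow_succ']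
    obtain ⟨m, hm⟩ := hS ⟨s, hs⟩
    have h2 := hit (p ^ m)
    rw [show s ^ p ^ m = 1 from congrArg Subtype.val hm, cj_one] at h2
    have h3 : x ^ (k ^ p ^ m) = x ^ 1 := by rw [pow_one]; exact h2.symm
    rw [pow_eq_pow_iff_modEq, hord, ← ZMod.natCast_eq_natCast_iff, Nat.cast_pow,
      ZMod.pow_card_pow, ZMod.natCast_eq_natCast_iff] at h3
    have h4 : k = 1 := by
      unfold Nat.ModEq at h3
      rwa [Nat.mod_eq_of_lt hk, Nat.mod_eq_of_lt (Fact.out : p.Prime).one_lt] at h3
    rw [h4, pow_one, cj_apply, mul_inv_eq_iff_eq_mul] at hke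
    exact hke
  let Z : Subgroup Ω := S ⊓ Subgroup.centralizer (S : Set Ω)
  let W1 : Subgroup Ω :=
    { carrier := {x | x ∈ Z ∧ x ^ p = 1}
      one_mem' := ⟨Z.one_mem, one_pow p⟩
      mul_mem' := fun {a b} ha hb => ⟨Z.mul_mem ha.1 hb.1, by
        rw [(show Commute a b from hb.1.2 a ha.1.1).mul_pow, ha.2, hb.2, one_mul]⟩
      inv_mem' := fun {a} ha => ⟨Z.inv_mem ha.1, by rw [inv_pow, ha.2, inv_one]⟩ }
  let W : ℕ → Subgroup Ω := fun i => if i = 0 then ⊥ else if i = 1 then W1 else S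
  have hpw : ∀ P' f, IsMor F P' f → ∀ x ∈ P', ∀ k : ℕ, f (x ^ k) = f x ^ k := fun P' f hf x hx k => by
    induction k with
    | zero => rw [pow_zero, pow_zero, hf.map_one]
    | succ k ih => rw [pow_succ, pow_succ, hf.map_mul (P'.pow_mem hx k) hx, ih]
  refine isNormal_self_of_small hS hF hV (fun P hP α hα _ x hx => le_focal (isMor_autFun hP hα) hx)
    2 W (by simp [W]) (fun x hx _ _ => by simpa [W] using hx) (fun P' f hf i x hx hxV hs hxi => ?_)
    fun i hi x hxi hxV hs g hg hzs hzV => ?_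
  · rcases i with _ | _ | i
    · have h1 : x = 1 := by simpa [W] using hxi
      subst h1
      simp [W, hf.map_one]
    · have h1 : x ∈ W1 := by simpa [W] using hxi
      have h2 : f x ^ p = 1 := by rw [← hpw P' f hf x hx, h1.2, hf.map_one]
      simpa [W] using (show f x ∈ W1 from ⟨hcent _ (hV P' f hf x hx hxV) h2, h2⟩)
    · simpa [W] using hf.mem hx
  · rcases i with _ | _ | i
    · have h1 : x ∈ W1 := by simpa [W] using hxi
      have h2 : cj g x = x := by rw [cj_apply, h1.1.2 g hg, mul_inv_cancel_right]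
      simp [W, h2]
    · show x⁻¹ * cj g x ∈ W1
      suffices h : (x⁻¹ * cj g x) ^ p = 1 from ⟨hcent _ hzV h, h⟩
      rcases hs with hxp | ⟨hp2, hx4⟩
      · rw [show cj g x = x by rw [cj_apply, (hcent x hxV hxp).2 g hg, mul_inv_cancel_right],
          inv_mul_cancel, one_pow]
      · obtain ⟨k, hk⟩ := Subgroup.mem_zpowers_iff.mp (hnorm x hxV (Or.inr ⟨hp2, hx4⟩) g hg)
        subst hp2
        change x ^ k = cj g x at hk
        rcases Int.even_or_odd k with ⟨j, hj⟩ | ⟨j, hj⟩
        · have h1 : (cj g x) ^ 2 = 1 := by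
            rw [← hk, ← zpow_natCast, ← zpow_mul, show k * ((2 : ℕ) : ℤ) = 4 * j by rw [hj]; push_cast; ring,
              zpow_mul, show x ^ (4 : ℤ) = 1 by exact_mod_cast hx4, one_zpow]
          rw [cj_apply, conj_pow] at h1
          have h2 : x ^ 2 = 1 := by rwa [mul_inv_eq_one, mul_eq_left] at h1
          rw [show cj g x = x by rw [cj_apply, (hcent x hxV h2).2 g hg, mul_inv_cancel_right],
            inv_mul_cancel, one_pow]
        · rw [← hk, ← zpow_neg_one, ← zpow_add, ← zpow_natCast, ← zpow_mul,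
            show (-1 + k) * ((2 : ℕ) : ℤ) = 4 * j by rw [hj]; push_cast; ring, zpow_mul,
            show x ^ (4 : ℤ) = 1 by exact_mod_cast hx4, one_zpow]
    · omega

end Cfsg.Agent.S5300
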