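import Cfsg.Statements.S5306
import Cfsg.Agent.Lib.Fusion.Group
import Cfsg.Agent.Lib.PLocal.Thompson
-- import your own Cfsg.Agent.* helpers here

set_option autoImplicit false
open Cfsg

namespace Cfsg.Agent.S5306

open Cfsg Cfsg.FusionSystem CfsgLib.Fusion


/-- Let P be a Sylow p-subgroup of the finite group X and J = J(P) its Thompson subgroup (generated by the elementary abelian subgroups of P of largest order). If x and y lie in the centre of J and y = g x g⁻¹ for some g in X, then y = n x n⁻¹ for some n in the normalizer N_X(J). -/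
theorem result {X : Type*} [Group X] [Finite X] (p : ℕ) [Fact p.Prime] (P : Sylow p X) (J : Subgroup X) (hJ : J = Cfsg.thompsonSubgroupOf p (P : Subgroup X))
    (x y : X) (hx : x ∈ J ∧ ∀ j ∈ J, Commute j x) (hy : y ∈ J ∧ ∀ j ∈ J, Commute j y) (g : X) (hg : g * x * g⁻¹ = y) :
    ∃ n ∈ Subgroup.normalizer (J : Set X), n * x * n⁻¹ = y := by
  subst hJ
  have hJP : Cfsg.thompsonSubgroupOf p (P : Subgroup X) ≤ (P : Subgroup X) :=
    CfsgLib.PLocal.thompsonSubgroupOf_le p _
  have hweak : ∀ k, img (Cfsg.thompsonSubgroupOf p (P : Subgroup X)) (cj k) ≤ (P : Subgroup X) →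
      img (Cfsg.thompsonSubgroupOf p (P : Subgroup X)) (cj k) =
        Cfsg.thompsonSubgroupOf p (P : Subgroup X) := by
    intro k hk
    refine Subgroup.eq_of_le_of_card_ge ?_ (card_img_cj _ k).ge
    rw [img_cj] at hk ⊢
    rw [Subgroup.map_le_iff_le_comap]
    nth_rw 1 [CfsgLib.PLocal.thompsonSubgroupOf_eq_sSup]
    refine sSup_le fun A hA => Subgroup.map_le_iff_le_comap.mp ?_
    refine CfsgLib.PLocal.le_thompsonSubgroupOf ⟨(Subgroup.map_mono
      (CfsgLib.PLocal.le_thompsonSubgroupOf hA)).trans hk,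
      CfsgLib.PLocal.isElementaryAbelian_map _ hA.2.1, fun B hB hBe => ?_⟩
    rw [← img_cj, card_img_cj]
    exact hA.2.2 B hB hBe
  let J := Cfsg.thompsonSubgroupOf p (P : Subgroup X)
  have hJp : IsPGroup p J := isPGroup_of_le hJP P.2
  let C := Subgroup.centralizer ({y} : Set X)
  have hJC : J ≤ C := fun j hj => Subgroup.mem_centralizer_singleton_iff.mpr (hy.2 j hj)
  have hJC' : img J (cj g) ≤ C := img_le fun j hj => by
    refine Subgroup.mem_centralizer_singleton_iff.mpr ?_
    rw [← hg]
    show cj g j * cj g x = cj g x * cj g j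
    rw [← cj_map_mul, ← cj_map_mul, (hx.2 j hj).eq]
  obtain ⟨R, hR, hRs⟩ := exists_isSylIn_of_isPGroup hJp hJC
  obtain ⟨b, hb, hbJ⟩ := hRs.exists_conj_le (isPGroup_img_cj hJp g) hJC'
  obtain ⟨h, hh⟩ := exists_conj_le_sylow P hRs.2.1
  have h1 : img J (cj h) = J := hweak h ((img_mono _ hR).trans hh)
  have h2 : img J (cj (h * (b * g))) = J := hweak _ (by
    rw [← img_cj_cj, ← img_cj_cj]
    exact (img_mono _ (img_le hbJ)).trans hh)
  refine ⟨b * g, ?_, ?_⟩
  · rw [Subgroup.mem_normalizer_iff_map_conj_eq]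
    refine (img_cj J (b * g)).symm.trans ?_
    have h3 : img J (cj h⁻¹) = J := by
      have h4 := congrArg (fun A => img A (cj h⁻¹)) h1
      simp only [img_cj_cj, inv_mul_cancel] at h4
      rw [img_congr (g := id) (fun x _ => cj_one x), img_id] at h4
      exact h4.symm
    have h5 := congrArg (fun A => img A (cj h⁻¹)) h2
    simp only [img_cj_cj, inv_mul_cancel_left] at h5
    exact h5.trans h3
  · show cj (b * g) x = y
    rw [cj_mul, show cj g x = y from hg]
    exact cj_fixed_iff.mpr (Subgroup.mem_centralizer_singleton_iff.mp hb)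

end Cfsg.Agent.S5306
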