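import Cfsg.Statements.S5310
import Cfsg.Agent.Lib.Fusion.Components
import Cfsg.Agent.S5136
import Cfsg.Agent.S5148

set_option autoImplicit false
open Cfsg

namespace Cfsg.Agent.S5310

open Cfsg Cfsg.FusionSystem CfsgLib.Fusion

/-- A saturated fusion system F over a finite p-group S is constrained (its largest normal subgroup O_p(F) is centric) if and only if the inner fusion system of O_p(F) is itself a generalized Fitting subsystem of F (that is, F*(F) = O_p(F)). -/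
theorem result {Ω : Type*} [Group Ω] {S : Subgroup Ω} [Finite S] (p : ℕ) [Fact p.Prime] (hS : IsPGroup p S) (F : Cfsg.FusionSystem S) (hF : F.IsSaturated p) :
    F.IsConstrained p ↔ (Cfsg.innerFusionSystem F.core).IsGeneralizedFittingOf F p := by
  have hcn : F.IsNormal F.core := isNormal_core F
  have : Finite F.core := finite_of_le hcn.1
  constructor
  · intro hc
    have hno := (constrained_iff_no_component hS hF).mp hc
    refine ⟨⊥, innerFusionSystem ⊥, ⟨inner_isNormalIn hS hF (isNormal_bot F),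
      fun U C hC => absurd ⟨U, C, hC⟩ hno, fun R D hD _ P φ hφ => ?_⟩, ?_⟩
    · obtain ⟨hP, g, hg, hge⟩ := hφ
      rw [Subgroup.mem_bot] at hg
      have e : φ = conjHom P 1 := MonoidHom.ext fun x => by
        rw [hge x, hg]
        rfl
      rw [e]
      exact D.conj_mem (hP.trans bot_le) R.one_mem
    · obtain ⟨D₀, hD₀⟩ := Cfsg.Agent.S5136.result p (isPGroup_of_le hcn.1 hS)
        (IsPGroup.of_bot (G := Ω) (p := p)) (innerFusionSystem F.core)
        (innerFusionSystem (⊥ : Subgroup Ω))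
      let θ : ↥(F.core.prod (⊥ : Subgroup Ω)) →* Ω :=
        (MonoidHom.fst Ω Ω).comp (F.core.prod (⊥ : Subgroup Ω)).subtype
      have hθ : ∀ x : ↥(F.core.prod (⊥ : Subgroup Ω)), θ x = (x : Ω × Ω).1 := fun _ => rfl
      have hsnd : ∀ x : ↥(F.core.prod (⊥ : Subgroup Ω)), (x : Ω × Ω).2 = 1 := fun x =>
        Subgroup.mem_bot.mp x.2.2
      refine ⟨D₀, hD₀, ⊥, θ, bot_le, bot_inf_eq _, bot_inf_eq _, fun x hx => rfl,
        fun y hy => (Subgroup.mem_bot.mp hy.2).symm, bot_le, fun x => ?_, ?_, fun P' φ' => ?_⟩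
      · rw [hθ, Subgroup.mem_bot, Prod.ext_iff]
        exact ⟨fun h => ⟨h, hsnd x⟩, fun h => h.1⟩
      · refine le_antisymm ?_ fun y hy => ⟨⟨(y, 1), hy, one_mem _⟩, rfl⟩
        rintro _ ⟨x, rfl⟩
        exact x.2.1
      constructor
      · rintro ⟨hP', g, hg, hge⟩
        refine ⟨hP', conjHom _ ((g, 1) : Ω × Ω),
          D₀.conj_mem (preimageAlong_le P') ⟨hg, one_mem _⟩, preimageAlong_le P', fun x => ?_,
          fun x => (CfsgLib.Fusion.mem_preimageAlong.mp x.2).2, fun x => ?_⟩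
        · exact Subgroup.mul_mem _ (Subgroup.mul_mem _ (⟨hg, one_mem _⟩ :
            ((g, 1) : Ω × Ω) ∈ F.core.prod ⊥) (preimageAlong_le P' x.2))
            (Subgroup.inv_mem _ ⟨hg, one_mem _⟩)
        · rw [hge]
          rfl
      · rintro ⟨hP', φ, hφ, hP, hφS, hmem, hind⟩
        obtain ⟨-, φ₁, ⟨-, g, hg, hge⟩, φ₂, -, he⟩ := (hD₀ _ φ).mp hφ
        refine ⟨hP', g, hg, fun y => ?_⟩
        have hyp : ((y : Ω), (1 : Ω)) ∈ preimageAlong θ P' :=
          CfsgLib.Fusion.mem_preimageAlong.mpr ⟨⟨hP' y.2, one_mem _⟩, y.2⟩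
        refine (hind ⟨_, hyp⟩).trans ?_
        rw [hθ]
        show (φ ⟨_, hyp⟩).1 = _
        rw [he ⟨_, hyp⟩ ⟨_, hyp, rfl⟩ ⟨_, hyp, rfl⟩]
        exact hge _
  · rintro ⟨T, E, hE, D₀, -, Z, θ, -, -, -, hθ₁, hθ₂, -, -, hrange, -⟩
    refine (constrained_iff_no_component hS hF).mpr ?_
    rintro ⟨U, C, hC⟩
    have hTle : T ≤ F.core := fun t ht => by
      have hm : ((1, t) : Ω × Ω) ∈ F.core.prod T := ⟨one_mem _, ht⟩
      rw [← hrange, ← hθ₂ t hm]
      exact ⟨_, rfl⟩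
    have hcomm : ∀ a ∈ T, ∀ b ∈ T, a * b = b * a := fun a ha b hb => by
      have h1 : ((a, 1) : Ω × Ω) ∈ F.core.prod T := ⟨hTle ha, one_mem _⟩
      have h2 : ((1, b) : Ω × Ω) ∈ F.core.prod T := ⟨one_mem _, hb⟩
      rw [← hθ₁ a h1, ← hθ₂ b h2, ← _root_.map_mul, ← _root_.map_mul]
      congr 1
      exact Subtype.ext (Prod.ext (by simp) (by simp))
    have hUT : U ≤ T :=
      (E.le_of_mem (hE.2.1 U C hC U (C.conj_mem le_rfl U.one_mem))).1
    have hUS : U ≤ S := subnormal_le hC.1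
    have : Finite U := finite_of_le hUS
    exact Cfsg.Agent.S5148.result p (isPGroup_of_le hUS hS) C hC.2
      ⟨⟨fun a b => Subtype.ext (hcomm a (hUT a.2) b (hUT b.2))⟩⟩

end Cfsg.Agent.S5310
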