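import Cfsg.Statements.S5311
import Cfsg.Agent.Lib.Fusion.IsoMor
-- import your own Cfsg.Agent.* helpers here

set_option autoImplicit false
open Cfsg Cfsg.FusionSystem CfsgLib.Fusion

namespace Cfsg.Agent.S5311

/-- A morphism with a morphism inverse is an isomorphism. -/
theorem isIso_of_isMorphism {Ω : Type*} [Group Ω] {S : Subgroup Ω} {F : Cfsg.FusionSystem S}
    {α : ↥S ≃* ↥S} (hα : F.IsMorphism F (S.subtype.comp α.toMonoidHom))
    (hα' : F.IsMorphism F (S.subtype.comp α.symm.toMonoidHom)) :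
    IsIso F (toFun (S.subtype.comp α.toMonoidHom)) F ∧
      IsIso F (toFun (S.subtype.comp α.symm.toMonoidHom)) F := by
  have hA : ∀ (β : ↥S ≃* ↥S) (x : Ω) (hx : x ∈ S),
      toFun (S.subtype.comp β.toMonoidHom) x = β ⟨x, hx⟩ := fun β x hx => toFun_of_mem _ hx
  have key : ∀ β : ↥S ≃* ↥S, F.IsMorphism F (S.subtype.comp β.toMonoidHom) →
      F.IsMorphism F (S.subtype.comp β.symm.toMonoidHom) →
      IsIso F (toFun (S.subtype.comp β.toMonoidHom)) F := by
    intro β hβ hβ'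
    have hmul : ∀ x ∈ S, ∀ y ∈ S, toFun (S.subtype.comp β.toMonoidHom) (x * y) =
        toFun (S.subtype.comp β.toMonoidHom) x * toFun (S.subtype.comp β.toMonoidHom) y :=
      fun x hx y hy => by
        rw [hA β x hx, hA β y hy, hA β _ (S.mul_mem hx hy), ← Subgroup.coe_mul, ← map_mul]
        rfl
    have hback : ∀ x (hx : x ∈ S), toFun (S.subtype.comp β.symm.toMonoidHom)
        (toFun (S.subtype.comp β.toMonoidHom) x) = x := fun x hx => by
      rw [hA β x hx, hA β.symm _ (β ⟨x, hx⟩).2, Subtype.coe_eta, MulEquiv.symm_apply_apply]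
    have himage : ∀ (γ : ↥S ≃* ↥S) (P : Subgroup Ω), P ≤ S →
        imageAlong (S.subtype.comp γ.toMonoidHom) P = imgT P (toFun (S.subtype.comp γ.toMonoidHom)) :=
      fun γ P hP => by
        refine le_antisymm ?_ (imgT_le fun x hx => ⟨⟨x, hP hx⟩, hx, (hA γ x (hP hx)).symm⟩)
        rintro _ ⟨x, hx, rfl⟩
        have e : toFun (S.subtype.comp γ.toMonoidHom) (x : Ω) = (S.subtype.comp γ.toMonoidHom) x :=
          toFun_coe _ x
        rw [← e]
        exact mem_imgT_of_mem _ hx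
    have hpush : ∀ (γ : ↥S ≃* ↥S), F.IsMorphism F (S.subtype.comp γ.toMonoidHom) →
        ∀ P f, IsMor F P f → ∃ f', IsMor F (imgT P (toFun (S.subtype.comp γ.toMonoidHom))) f' ∧
          ∀ x ∈ P, f' (toFun (S.subtype.comp γ.toMonoidHom) x) =
            toFun (S.subtype.comp γ.toMonoidHom) (f x) := by
      intro γ hγ P f hf
      have hP := hf.le
      obtain ⟨φ, hφ, hφf⟩ := id hf
      obtain ⟨φ', hφ', hP', hφS, hmem, he⟩ := hγ.2 P φ hφ
      refine ⟨toFun φ', himage γ P hP ▸ isMor_of_mem hφ', fun x hx => ?_⟩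
      rw [hA γ x (hP hx), hA γ _ (hf.mem hx)]
      refine (toFun_of_mem φ' (hmem ⟨x, hx⟩)).trans ((he ⟨x, hx⟩).trans ?_)
      exact congrArg (fun z : ↥S => ((γ z : ↥S) : Ω)) (Subtype.ext (hφf ⟨x, hx⟩))
    refine ⟨hmul, fun x hx y hy e => ?_, ?_, hpush β hβ, fun P hP f' hf' => ?_⟩
    · rw [← hback x hx, e, hback y hy]
    · refine le_antisymm (imgT_le fun x hx => hA β x hx ▸ (β ⟨x, hx⟩).2) fun y hy => ?_
      have := mem_imgT_of_mem (toFun (S.subtype.comp β.toMonoidHom)) (β.symm ⟨y, hy⟩).2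
      rwa [hA β _ (β.symm ⟨y, hy⟩).2, Subtype.coe_eta, MulEquiv.apply_symm_apply] at this
    · obtain ⟨h, hh, e⟩ := hpush β.symm hβ' _ f' hf'
      have hi : imgT (imgT P (toFun (S.subtype.comp β.toMonoidHom)))
          (toFun (S.subtype.comp β.symm.toMonoidHom)) = P := by
        refine le_antisymm (imgT_le fun y hy => ?_) fun x hx => ?_
        · obtain ⟨x, hx, rfl⟩ := (mem_imgT_iff hmul hP).mp hy
          rwa [hback x (hP hx)]
        · have := mem_imgT_of_mem (toFun (S.subtype.comp β.symm.toMonoidHom))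
            (mem_imgT_of_mem (toFun (S.subtype.comp β.toMonoidHom)) hx)
          rwa [hback x (hP hx)] at this
      rw [hi] at hh
      refine ⟨h, hh, fun x hx => ?_⟩
      have h1 := e _ (mem_imgT_of_mem _ hx)
      rw [hback x (hP hx)] at h1
      have hm := hf'.mem (mem_imgT_of_mem (toFun (S.subtype.comp β.toMonoidHom)) hx)
      rw [h1, hA β.symm _ hm, hA β _ (β.symm ⟨_, hm⟩).2, Subtype.coe_eta, MulEquiv.apply_symm_apply]
  exact ⟨key α hα hα', key α.symm hα' (by rw [MulEquiv.symm_symm]; exact hα)⟩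

/-- The layer of a saturated fusion system F over a finite p-group S is characteristic in F: for every automorphism α of S that is an automorphism of F (α and its inverse are morphisms from F to F) and every layer E of F over T, α carries T onto T and, for every map φ of E with source P, the map induced by α on α(P) (that is, α ∘ φ ∘ α⁻¹) is a map of E. -/
theorem result {Ω : Type*} [Group Ω] {S : Subgroup Ω} [Finite S] (p : ℕ) [Fact p.Prime] (hS : IsPGroup p S) (F : Cfsg.FusionSystem S) (hF : F.IsSaturated p)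
    (α : ↥S ≃* ↥S) (hα : F.IsMorphism F (S.subtype.comp α.toMonoidHom))
    (hα' : F.IsMorphism F (S.subtype.comp α.symm.toMonoidHom))
    {T : Subgroup Ω} (E : Cfsg.FusionSystem T) (hE : E.IsLayerOf F p) :
    Cfsg.FusionSystem.imageAlong (S.subtype.comp α.toMonoidHom) T = T ∧
      ∀ (P : Subgroup Ω) (φ : ↥P →* Ω), φ ∈ E.Hom P →
        ∀ φ' : ↥(Cfsg.FusionSystem.imageAlong (S.subtype.comp α.toMonoidHom) P) →* Ω,
          Cfsg.FusionSystem.InducedAlong (S.subtype.comp α.toMonoidHom) φ φ' →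
            φ' ∈ E.Hom (Cfsg.FusionSystem.imageAlong (S.subtype.comp α.toMonoidHom) P) := by
  obtain ⟨hA, hB⟩ := isIso_of_isMorphism hα hα'
  obtain ⟨hEn, hcomp, hleast⟩ := hE
  have hTS : T ≤ S := hEn.1.2.2.2.1.1
  have hsub : ∀ {θ : Ω → Ω}, IsIso F θ F → ∃ E' : Cfsg.FusionSystem (imgT T θ),
      IsIso E θ E' ∧ E.IsSubsystemOf E' := by
    intro θ hθ
    obtain ⟨E', hE'⟩ := exists_isIso_sub (D := E) hθ hTS
    refine ⟨E', hE', hleast _ E' (hθ.normal hE' hS hEn) fun U C hC => ?_⟩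
    have hUS := subnormal_le hC.1
    have : Finite U := finite_of_le hUS
    obtain ⟨C₀, hC₀⟩ := exists_isIso_sub (D := C) hθ.symm hUS
    have h₀ : C₀.IsComponentIn F p :=
      ⟨iso_subnormal hC.1 ‹_› ‹_› hS hθ.symm hC₀, hC₀.quasisimple (p := p)
        (isPGroup_of_le hUS hS) hC.2⟩
    have hU₀ := subnormal_le h₀.1
    have : Finite U := finite_of_le hUS
    refine iso_subsystem_of_subsystem hE' (hC₀.symm.congr fun y hy => ?_) (hcomp _ C₀ h₀)
    obtain ⟨x, hx, rfl⟩ := hC₀.surj hy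
    rw [hC₀.inv_left hx, hθ.inv_right (hUS hx)]
  obtain ⟨E', hE', hle⟩ := hsub hA
  obtain ⟨E'', hE'', hle''⟩ := hsub hB
  have hT : imgT T (toFun (S.subtype.comp α.toMonoidHom)) = T := by
    have h1 : T ≤ imgT T (toFun (S.subtype.comp α.toMonoidHom)) :=
      (le_iff_isMor.mp hle T id (isMor_id E le_rfl)).le
    exact (eq_of_le_of_card (hA.le hTS) h1 hE'.card_eq.le).symm
  have himg : ∀ P : Subgroup Ω, P ≤ S → imageAlong (S.subtype.comp α.toMonoidHom) P =
      imgT P (toFun (S.subtype.comp α.toMonoidHom)) := fun P hP => by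
    refine le_antisymm ?_ (imgT_le fun x hx => ⟨⟨x, hP hx⟩, hx, (toFun_of_mem _ (hP hx)).symm⟩)
    rintro _ ⟨x, hx, rfl⟩
    have e : toFun (S.subtype.comp α.toMonoidHom) (x : Ω) = (S.subtype.comp α.toMonoidHom) x :=
      toFun_coe _ x
    rw [← e]
    exact mem_imgT_of_mem _ hx
  refine ⟨(himg T hTS).trans hT, fun P φ hφ φ' hφ' => ?_⟩
  obtain ⟨hPS, hφS, hmem, he⟩ := hφ'
  have hPT : P ≤ T := (E.le_of_mem hφ).1
  -- `φ'` is a map of `E'`
  obtain ⟨f', hf', ef⟩ := hE'.push P _ (isMor_of_mem hφ)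
  have hφ'E' : IsMor E' (imgT P (toFun (S.subtype.comp α.toMonoidHom))) (toFun φ') := by
    refine hf'.congr fun y hy => ?_
    obtain ⟨x, hx, rfl⟩ := (mem_imgT_iff hA.map_mul hPS).mp hy
    rw [ef x hx, toFun_of_mem φ hx, toFun_of_mem _ (hPS hx)]
    rw [toFun_of_mem φ' (hmem ⟨x, hx⟩)]
    exact ((he ⟨x, hx⟩).trans (toFun_of_mem _ (hφS ⟨x, hx⟩)).symm).symm
  -- and `E'` is contained in `E`
  have hE'E : E'.IsSubsystemOf E := by
    refine le_iff_isMor.mpr fun Q f hf => ?_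
    have hQS : Q ≤ S := hf.le.trans (hA.le hTS)
    obtain ⟨Q₀, hQ₀, rfl⟩ := hE'.exists_imgT hf.le
    obtain ⟨f₀, hf₀, e₀⟩ := hE'.pull Q₀ hQ₀ f hf
    obtain ⟨R, hR, hRQ⟩ := hE''.exists_imgT ((le_iff_isMor.mp hle'' Q₀ f₀ hf₀).le)
    subst hRQ
    obtain ⟨r, hr, er⟩ := hE''.pull R hR f₀ (le_iff_isMor.mp hle'' _ f₀ hf₀)
    have hinv : ∀ x ∈ S, toFun (S.subtype.comp α.toMonoidHom)
        (toFun (S.subtype.comp α.symm.toMonoidHom) x) = x := fun x hx => by
      rw [toFun_of_mem _ hx]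
      exact (toFun_of_mem _ (α.symm ⟨x, hx⟩).2).trans
        (congrArg Subtype.val (α.apply_symm_apply ⟨x, hx⟩))
    have hi : imgT (imgT R (toFun (S.subtype.comp α.symm.toMonoidHom)))
        (toFun (S.subtype.comp α.toMonoidHom)) = R := by
      refine le_antisymm (imgT_le fun y hy => ?_) fun x hx => ?_
      · obtain ⟨x, hx, rfl⟩ := (mem_imgT_iff hE''.map_mul hR).mp hy
        rwa [hinv x (hTS (hR hx))]
      · have := mem_imgT_of_mem (toFun (S.subtype.comp α.toMonoidHom))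
          (mem_imgT_of_mem (toFun (S.subtype.comp α.symm.toMonoidHom)) hx)
        rwa [hinv x (hTS (hR hx))] at this
    rw [hi]
    refine hr.congr fun x hx => ?_
    conv_rhs => rw [← hinv x (hTS (hR hx))]
    rw [e₀ _ (mem_imgT_of_mem _ hx), er x hx, hinv _ (hTS (hr.mem hx))]
  have h2 := le_iff_isMor.mp hE'E _ _ hφ'E'
  generalize hgdef : toFun φ' = g at h2
  rw [← himg P hPS] at h2
  refine h2.mem_hom fun x => ?_
  rw [← hgdef]
  exact (toFun_coe φ' x).symm

end Cfsg.Agent.S5311
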