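import Cfsg.Statements.S5315
import Cfsg.Agent.Lib.Fusion.GoodCenter
import Cfsg.Agent.Lib.Fusion.Hyperfocal
import Cfsg.Agent.Lib.Fusion.FactorSaturated

set_option autoImplicit false
open Cfsg Cfsg.FusionSystem CfsgLib.Fusion

namespace Cfsg.Agent.S5315

/-- An analogue of Grün's lemma for fusion systems. Let F be a saturated fusion system over a finite p-group S that is perfect in the sense that its hyperfocal subgroup is all of S (F coincides with its p-residual subsystem). Then the second centre of F equals its centre: every fusion system over S/(Z(F) ∩ S) that is the factor system of F modulo its centre Z(F), read through the quotient map, has trivial centre. -/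
theorem result {Ω : Type*} [Group Ω] {S : Subgroup Ω} [Finite S] (p : ℕ) [Fact p.Prime] (hS : IsPGroup p S) (F : Cfsg.FusionSystem S) (hF : F.IsSaturated p)
    (hperf : F.hyperfocalSubgroup p = S)
    (E : Cfsg.FusionSystem (⊤ : Subgroup (↥S ⧸ (F.center).subgroupOf S)))
    (hE : F.IsFactorSystem F.center (QuotientGroup.mk' ((F.center).subgroupOf S)) E) : E.center = ⊥ := by
  set Z := F.center with hZdef
  set θ := QuotientGroup.mk' (Z.subgroupOf S)
  obtain ⟨hZS, hker, hrange, -⟩ := id hE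
  obtain ⟨-, hfix⟩ := (isCentral_iff_fixed hS hF).mp (isCentral_center F)
  have hZsc : F.StronglyClosed Z := stronglyClosed_iff.mpr
    ⟨hZS, fun P f hf x hxP hxZ => (hfix P f hf x hxP hxZ).symm ▸ hxZ⟩
  have hZc : ∀ z ∈ Z, ∀ s ∈ S, s * z = z * s := fun z hz s hs => by
    have h1 := hfix S _ (isMor_cj F le_rfl hs) z (hZS hz) hz
    rwa [cj_apply, mul_inv_eq_iff_eq_mul] at h1
  have hfinT : Finite ↥(⊤ : Subgroup (↥S ⧸ Z.subgroupOf S)) :=
    Finite.of_equiv _ (Subgroup.topEquiv.symm.toEquiv)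
  have hmod : ∀ a b : S, θ a = θ b → (a : Ω)⁻¹ * b ∈ Z := fun a b e =>
    (hker (a⁻¹ * b)).mp (by rw [map_mul, map_inv, e, inv_mul_cancel])
  rw [eq_bot_iff]
  intro y hy
  obtain ⟨⟨x, hxS⟩, rfl⟩ := QuotientGroup.mk'_surjective (Z.subgroupOf S) y
  obtain ⟨hCS, hCfix⟩ := isCentral_iff.mp (isCentral_center E)
  -- every map extends to one fixing `x` modulo `Z`
  have hext : ∀ P f, IsMor F P f → ∃ g, IsMor F (P ⊔ Subgroup.zpowers x) g ∧
      (∀ u ∈ P, (g u)⁻¹ * f u ∈ Z) ∧ x⁻¹ * g x ∈ Z := by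
    intro P f hf
    obtain ⟨g₀, hg₀, hg₀f, -⟩ :=
      (isCentral_iff.mp (isCentral_center F)).2 P f hf
    have hpre : preimageAlong θ (imageAlong θ P) = P ⊔ Z := preimage_image hker hZS hf.le
    obtain ⟨f', hf', hf'e⟩ := factor_push hE hZsc ((imageAlong_le_range P).trans hrange.le)
      (show IsMor F (preimageAlong θ (imageAlong θ P)) g₀ by rw [hpre]; exact hg₀)
    obtain ⟨g', hg', hg'f, hg'C⟩ := hCfix _ f' hf'
    obtain ⟨g, hg, hge⟩ := factor_lift hE hg'
    have hle : P ⊔ Subgroup.zpowers x ≤ preimageAlong θ (imageAlong θ P ⊔ E.center) :=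
      sup_le (fun u hu => mem_preimageAlong.mpr ⟨hf.le hu, Subgroup.mem_sup_left ⟨⟨u, hf.le hu⟩, hu, rfl⟩⟩)
        (Subgroup.zpowers_le.mpr (mem_preimageAlong.mpr ⟨hxS, Subgroup.mem_sup_right hy⟩))
    refine ⟨g, hg.restrict hle, fun u hu => ?_, ?_⟩
    · have him : θ ⟨u, hf.le hu⟩ ∈ imageAlong θ P := ⟨⟨u, hf.le hu⟩, hu, rfl⟩
      have h1 := hge ⟨u, hf.le hu⟩ (hg.mem (hle (Subgroup.mem_sup_left hu)))
        (Subgroup.mem_sup_left him)
      rw [hg'f _ him, hf'e ⟨u, hf.le hu⟩ (hg₀.mem (Subgroup.mem_sup_left hu)) him] at h1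
      rw [← hg₀f u hu]
      exact hmod _ _ h1.symm
    · have hgxS : g x ∈ S := hg.mem (hle (Subgroup.mem_sup_right (Subgroup.mem_zpowers x)))
      have h1 := hge ⟨x, hxS⟩ hgxS (Subgroup.mem_sup_right hy)
      rw [hg'C _ hy] at h1
      exact hmod ⟨x, hxS⟩ ⟨g x, hgxS⟩ h1
  -- `x` is central in `S`
  have hχ : ∀ s ∈ S, x⁻¹ * cj s x ∈ Z := fun s hs => by
    obtain ⟨g, hg, hgf, hgx⟩ := hext S (cj s) (isMor_cj F le_rfl hs)
    have h1 := Z.mul_mem hgx (hgf x hxS)
    simpa [mul_assoc] using h1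
  let χ : S →* Ω := MonoidHom.mk' (fun s => x⁻¹ * cj (s : Ω) x) fun s t => by
    show x⁻¹ * cj ((s : Ω) * t) x = x⁻¹ * cj (s : Ω) x * (x⁻¹ * cj (t : Ω) x)
    rw [cj_mul]
    generalize hz : x⁻¹ * cj (t : Ω) x = z
    have hzZ : z ∈ Z := hz ▸ hχ t t.2
    rw [show cj (t : Ω) x = x * z by rw [← hz]; simp, cj_apply, cj_apply]
    calc x⁻¹ * ((s : Ω) * (x * z) * (s : Ω)⁻¹) = x⁻¹ * ((s : Ω) * x) * (z * (s : Ω)⁻¹) := by group
      _ = x⁻¹ * ((s : Ω) * x) * ((s : Ω)⁻¹ * z) := by rw [hZc z hzZ _ (S.inv_mem s.2)]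
      _ = _ := by group
  have hχZ : ∀ z ∈ Z, ∀ hz : z ∈ S, χ ⟨z, hz⟩ = 1 := fun z hz _ => by
    show x⁻¹ * cj z x = 1
    rw [cj_apply, ← hZc z hz x hxS]
    group
  have hle : F.hyperfocalSubgroup p ≤ χ.ker.map S.subtype := hyp_le fun P hP α hα _ u hu => by
    obtain ⟨g, hg, hgf, hgx⟩ := hext P _ (isMor_autFun hP hα)
    have hu' := hP (autFun_mem α hu)
    refine ⟨⟨u, hP hu⟩⁻¹ * ⟨autFun α u, hu'⟩, ?_, rfl⟩
    have hxm : x ∈ P ⊔ Subgroup.zpowers x := Subgroup.mem_sup_right (Subgroup.mem_zpowers x)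
    have hum : u ∈ P ⊔ Subgroup.zpowers x := Subgroup.mem_sup_left hu
    have hguS : g u ∈ S := hg.mem hum
    have h1 : χ ⟨g u, hguS⟩ = χ ⟨u, hP hu⟩ := by
      have hc : cj u x ∈ P ⊔ Subgroup.zpowers x :=
        Subgroup.mul_mem _ (Subgroup.mul_mem _ hum hxm) (Subgroup.inv_mem _ hum)
      have h2 : g (x⁻¹ * cj u x) = x⁻¹ * cj u x :=
        hfix _ g hg _ (Subgroup.mul_mem _ (Subgroup.inv_mem _ hxm) hc) (hχ u (hP hu))
      have h3 : g (x⁻¹ * cj u x) = (g x)⁻¹ * cj (g u) (g x) := by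
        rw [hg.map_mul (Subgroup.inv_mem _ hxm) hc, hg.map_inv hxm]
        congr 1
        rw [cj_apply, cj_apply, hg.map_mul (Subgroup.mul_mem _ hum hxm) (Subgroup.inv_mem _ hum),
          hg.map_mul hum hxm, hg.map_inv hum]
      show x⁻¹ * cj (g u) x = x⁻¹ * cj u x
      rw [← h2, h3]
      generalize hz : x⁻¹ * g x = z at hgx
      rw [show g x = x * z by rw [← hz]; simp, cj_apply, cj_apply]
      calc x⁻¹ * (g u * x * (g u)⁻¹) = z⁻¹ * (x⁻¹ * (g u * x * (g u)⁻¹) * z) := by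
            rw [hZc z hgx _ (S.mul_mem (S.inv_mem hxS)
              (S.mul_mem (S.mul_mem hguS hxS) (S.inv_mem hguS)))]
            group
        _ = z⁻¹ * (x⁻¹ * (g u * x * ((g u)⁻¹ * z))) := by group
        _ = z⁻¹ * (x⁻¹ * (g u * x * (z * (g u)⁻¹))) := by rw [hZc z hgx _ (S.inv_mem hguS)]
        _ = (x * z)⁻¹ * (g u * (x * z) * (g u)⁻¹) := by group
    show χ _ = 1
    rw [map_mul, map_inv, show (⟨autFun α u, hu'⟩ : S) =
      ⟨g u, hguS⟩ * ⟨(g u)⁻¹ * autFun α u, S.mul_mem (S.inv_mem hguS) hu'⟩ from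
        Subtype.ext (by simp), map_mul, hχZ _ (hgf u hu) _, h1, mul_one, inv_mul_cancel]
  have hxc : x ∈ S ⊓ Subgroup.centralizer (S : Set Ω) := by
    refine ⟨hxS, fun s hs => ?_⟩
    obtain ⟨t, ht, rfl⟩ := hle (hperf.ge hs)
    have h1 : x⁻¹ * cj (t : Ω) x = 1 := ht
    rw [inv_mul_eq_one, cj_apply, eq_mul_inv_iff_mul_eq] at h1
    exact h1.symm
  -- `x` is fixed by the generating automorphisms
  obtain ⟨C, hC⟩ := exists_centralizerAt (F := F) hxc
  have hall : F ≤ C := by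
    refine alperin hS hF fun R hR => ?_
    have hRS : R ≤ S := hR.elim (fun h => h.le) essential_le
    have hxR : x ∈ R := by
      rcases hR with rfl | hR
      · exact hxS
      · exact hR.1.2 R (isConj_refl F hRS) (mem_centralizerIn.mpr ⟨hxS, fun u hu => by
          rw [cj_apply, ← hxc.2 u (hRS hu), mul_inv_cancel_right]⟩)
    have hRn : F.IsFullyNormalized R := by
      rcases hR with rfl | hR
      exacts [isFullyNormalized_self F, hR.2.1]
    obtain ⟨T, hT⟩ := (exists_sylow_iff (autInducedBy_le F hRS)).mpr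
      (isFullyAutomized_iff.mp (isFullyAutomized_of_normalized hS hF hRn).1).2
    have := finite_mulAut (P := R) hRS
    have htop := CfsgLib.Transfer.sup_pResidual_eq_top T
    let St : Subgroup (MulAut R) :=
      { carrier := {α | α ⟨x, hxR⟩ = ⟨x, hxR⟩}
        one_mem' := rfl
        mul_mem' := fun {a b} ha hb => show a (b _) = _ by rw [hb, ha]
        inv_mem' := fun {a} ha => show a.symm _ = _ by rw [MulEquiv.symm_apply_eq]; exact ha.symm }
    suffices hst : ∀ α ∈ F.autGroup R, α ∈ St by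
      intro α hα
      refine (autGroup_eq_set hRS α).mpr ((hC _ _).mpr ⟨isMor_autFun hRS hα, autFun α, ?_,
        fun _ _ => rfl, ?_⟩)
      · rw [sup_eq_left.mpr (Subgroup.zpowers_le.mpr hxR)]; exact isMor_autFun hRS hα
      · rw [autFun_of_mem α hxR, hst α hα]
    have hle' : (T : Subgroup (F.autGroup R)) ⊔ pResidual p (F.autGroup R) ≤
        St.subgroupOf (F.autGroup R) := by
      refine sup_le (fun r hr => ?_) ((Subgroup.closure_le _).mpr fun r hr => ?_)
      · rw [hT] at hr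
        obtain ⟨s, hs, -, hse⟩ := mem_autInducedBy.mp (Subgroup.mem_subgroupOf.mp hr)
        refine Subtype.ext ?_
        show (((r : MulAut R) ⟨x, hxR⟩ : R) : Ω) = x
        rw [← autFun_of_mem (r : MulAut R) hxR]
        exact (hse x hxR).trans (by rw [cj_apply, hxc.2 s hs, mul_inv_cancel_right])
      · show (r : MulAut R) ⟨x, hxR⟩ = ⟨x, hxR⟩
        have hr' : IsMor F R (autFun (r : MulAut R)) := isMor_autFun hRS r.2
        obtain ⟨g, hg, hgf, hgx⟩ := hext R _ hr'
        have h5 : x⁻¹ * autFun (r : MulAut R) x ∈ Z := by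
          have := Z.mul_mem hgx (hgf x hxR)
          simpa [mul_assoc] using this
        set z := x⁻¹ * autFun (r : MulAut R) x with hz
        have hzR : z ∈ R := R.mul_mem (R.inv_mem hxR) (autFun_mem _ hxR)
        have hpow : ∀ n : ℕ, autFun ((r : MulAut R) ^ n) x = x * z ^ n := by
          intro n
          induction n with
          | zero => rw [pow_zero, pow_zero, autFun_one hxR, mul_one]
          | succ n ih =>
            rw [pow_succ', autFun_mul _ _ hxR, ih, hr'.map_mul hxR (R.pow_mem hzR n),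
              hfix R _ hr' _ (R.pow_mem hzR n) (Z.pow_mem h5 n), pow_succ', hz]
            simp [mul_assoc]
        have h6 := hpow (orderOf (r : MulAut R))
        rw [pow_orderOf_eq_one, autFun_one hxR, left_eq_mul] at h6
        obtain ⟨k, hk⟩ := hS ⟨z, hZS h5⟩
        have hcop : Nat.Coprime (orderOf (r : MulAut R)) (p ^ k) := by
          rw [Subgroup.orderOf_coe]
          exact Nat.Coprime.pow_right _ hr
        have h8 : orderOf z = 1 := Nat.eq_one_of_dvd_coprimes hcop (orderOf_dvd_of_pow_eq_one h6)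
          (orderOf_dvd_of_pow_eq_one (congrArg Subtype.val hk))
        rw [orderOf_eq_one_iff] at h8
        refine Subtype.ext ?_
        rw [← autFun_coe]
        exact (inv_mul_eq_one.mp (hz.symm.trans h8)).symm
    intro α hα
    exact hle' (htop ▸ Subgroup.mem_top (⟨α, hα⟩ : F.autGroup R))
  have hxZ : x ∈ Z := by
    refine le_center (Q := Subgroup.zpowers x) (isCentral_iff.mpr
      ⟨Subgroup.zpowers_le.mpr hxS, fun P f hf => ?_⟩) (Subgroup.mem_zpowers x)
    obtain ⟨-, g, hg, hgf, hgx⟩ := (hC _ _).mp (le_iff_isMor.mp hall P f hf)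
    refine ⟨g, hg, hgf, fun w hw => ?_⟩
    obtain ⟨n, rfl⟩ := Subgroup.mem_zpowers_iff.mp hw
    rw [hg.map_zpow (Subgroup.mem_sup_right (Subgroup.mem_zpowers x)), hgx]
  exact Subgroup.mem_bot.mpr ((hker ⟨x, hxS⟩).mpr hxZ)

end Cfsg.Agent.S5315
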