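import Cfsg.Statements.S5324
import Cfsg.Agent.Lib.Spor.Ly.ExactKit
import Cfsg.Agent.Lib.Spor.Ly.Model.Card
import Cfsg.Agent.Lib.KnownB.LyFusion.Main

set_option autoImplicit false
open Cfsg

namespace Cfsg.Agent.S5324

/-- For a finite group G isomorphic to the Lyons group, the 2-fusion system of G on a Sylow 2-subgroup is simple: saturated, over a nontrivial 2-group, with no normal subsystem other than the trivial one and itself. -/
theorem result {G : Type*} [Group G] [Finite G] (hG : Cfsg.Spor.IsoLy G) (S : Sylow 2 G) : (Cfsg.groupFusionSystem (S : Subgroup G)).IsSimple 2 := by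
  obtain ⟨e⟩ := hG
  haveI : Finite CfsgLib.Spor.Ly.GrpK := CfsgLib.Spor.Ly.gk_bound.1
  haveI : Finite CfsgLib.Spor.Ly.GLy := CfsgLib.Spor.Ly.gly_bound.1
  have hLy := CfsgLib.Spor.Ly.isLy_of_dvd CfsgLib.Spor.Ly.ly_card_dvd
  obtain ⟨t₀, ht₀, hC₀⟩ := CfsgLib.KnownB.LyCent.involution_centralizer
    (CfsgLib.Spor.Ly.kit_of_dvd CfsgLib.Spor.Ly.ly_card_dvd)
  haveI : IsSimpleGroup CfsgLib.Spor.Ly.GLy := hLy.1
  have hA := two_mul_nat_card_alternatingGroup (α := Fin 11)
  rw [Nat.card_perm, Nat.card_fin, show Nat.factorial 11 = 39916800 by decide +kernel] at hA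
  have hC : Nat.card (Subgroup.centralizer ({t₀} : Set CfsgLib.Spor.Ly.GLy)) = 39916800 := by
    obtain ⟨hZ, ⟨q⟩, -⟩ := hC₀
    rw [Subgroup.card_eq_card_quotient_mul_card_subgroup
      (Subgroup.center (Subgroup.centralizer ({t₀} : Set CfsgLib.Spor.Ly.GLy))), hZ,
      Nat.card_congr q.toEquiv, mul_comm, hA]
  have hodd : Odd (Subgroup.centralizer ({t₀} : Set CfsgLib.Spor.Ly.GLy)).index := by
    have h1 := (Subgroup.centralizer ({t₀} : Set CfsgLib.Spor.Ly.GLy)).card_mul_index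
    rw [hC, hLy.2] at h1
    rw [show (Subgroup.centralizer ({t₀} : Set CfsgLib.Spor.Ly.GLy)).index = 1296826875 by omega]
    decide +kernel
  obtain ⟨S₀⟩ := (inferInstance : Nonempty (Sylow 2 CfsgLib.Spor.Ly.GLy))
  have h0 := CfsgLib.KnownB.LyFusion.fusion_simple t₀ ht₀ hodd hC₀ S₀
  exact CfsgLib.Fusion.groupFusion_isSimple_of_equiv e.symm S₀ S h0

end Cfsg.Agent.S5324
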