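import Cfsg.Statements.S5327
import Cfsg.Agent.Lib.Fusion.Generation
-- import your own Cfsg.Agent.* helpers here

set_option autoImplicit false
open Cfsg

namespace Cfsg.Agent.S5327

open Cfsg Cfsg.FusionSystem CfsgLib.Fusion


/-- Let F be a saturated fusion system over a finite p-group S. Call a family of subgroups of S generating when every fusion system over S whose automorphism group of each member R contains Aut_F(R) contains every map of F. If two families are each closed under F-conjugacy and each generating, then their intersection is generating. -/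
theorem result {Ω : Type*} [Group Ω] {S : Subgroup Ω} [Finite S] (p : ℕ) [Fact p.Prime] (hS : IsPGroup p S) (F : Cfsg.FusionSystem S) (hF : F.IsSaturated p) (𝒬₁ 𝒬₂ : Set (Subgroup Ω)) (h₁ : ∀ R ∈ 𝒬₁, ∀ R' : Subgroup Ω, F.IsConj R R' → R' ∈ 𝒬₁) (h₂ : ∀ R ∈ 𝒬₂, ∀ R' : Subgroup Ω, F.IsConj R R' → R' ∈ 𝒬₂) (hg₁ : ∀ E : Cfsg.FusionSystem S, (∀ R ∈ 𝒬₁, F.autGroup R ≤ E.autGroup R) → F ≤ E) (hg₂ : ∀ E : Cfsg.FusionSystem S, (∀ R ∈ 𝒬₂, F.autGroup R ≤ E.autGroup R) → F ≤ E) (E : Cfsg.FusionSystem S) (hE : ∀ R ∈ 𝒬₁ ∩ 𝒬₂, F.autGroup R ≤ E.autGroup R) : F ≤ E := by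
  have hfam : ∀ 𝒬 : Set (Subgroup Ω), (∀ R ∈ 𝒬, ∀ R', F.IsConj R R' → R' ∈ 𝒬) →
      (∀ E : Cfsg.FusionSystem S, (∀ R ∈ 𝒬, F.autGroup R ≤ E.autGroup R) → F ≤ E) →
      (∀ Q, F.IsEssential p Q → Q ∈ 𝒬) ∧ (S ∈ 𝒬 ∨ F.autGroup S ≤ E.autGroup S) := by
    intro 𝒬 h hg
    refine ⟨fun Q hQ => ?_, or_iff_not_imp_left.mpr fun hS' => ?_⟩
    · by_contra hn
      obtain ⟨E', hE', α, hαF, hαE⟩ := exists_omitting_system hS hF hQ
      refine hαE (autGroup_mono (hg E' fun R hR β hβ => ?_) hαF)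
      by_cases hRS : R ≤ S
      · exact (autGroup_eq_set hRS β).mpr (hE' R _ (isMor_autFun hRS hβ) fun hc =>
          hn (h R hR Q (isConj_symm hc)))
      · rw [autGroup_of_not_le hRS] at hβ
        exact (Subgroup.mem_bot.mp hβ).symm ▸ Subgroup.one_mem _
    · let M : Subgroup Ω → (Ω → Ω) → Prop := fun P f =>
        IsMor F P f ∧ (P = S → ∃ s ∈ S, ∀ x ∈ P, f x = cj s x)
      let E₀ : Cfsg.FusionSystem S := ofPred S M (fun P f h => ⟨h.1.le, fun x hx => h.1.mem hx⟩)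
        (fun P f h x hx y hy e => h.1.inj hx hy e)
        (fun P f g h e => ⟨h.1.congr e, fun hP =>
          (h.2 hP).imp fun s hs => ⟨hs.1, fun x hx => (e x hx).symm.trans (hs.2 x hx)⟩⟩)
        (fun P a hP ha => ⟨isMor_cj F hP ha, fun _ => ⟨a, ha, fun _ _ => rfl⟩⟩)
        (fun P R f g hf hg hfR => ⟨hf.1.comp hg.1 hfR, fun hP => by
          obtain ⟨s, hs, e⟩ := hf.2 hP
          have hR : R = S := le_antisymm hg.1.le fun y hy => by
            have hm : cj s⁻¹ y ∈ P := hP ▸ S.mul_mem (S.mul_mem (S.inv_mem hs) hy) (S.inv_mem (S.inv_mem hs))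
            have := hfR _ hm
            rwa [e _ hm, cj_cj_inv] at this
          obtain ⟨t, ht, e'⟩ := hg.2 hR
          exact ⟨t * s, S.mul_mem ht hs, fun x hx => by
            rw [Function.comp_apply, e' _ (hfR x hx), e x hx, cj_mul]⟩⟩)
        (fun P f hf _ => by
          obtain ⟨g, hg, hl, -, -⟩ := hf.1.inverse
          refine ⟨g, ⟨hg, fun hP => ?_⟩, hl⟩
          have hPS : P = S := eq_of_le_of_card le_rfl hf.1.le (by rw [← hf.1.card_img, hP])
          obtain ⟨s, hs, e⟩ := hf.2 hPS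
          refine ⟨s⁻¹, S.inv_mem hs, fun y hy => ?_⟩
          obtain ⟨x, hx, rfl⟩ := hf.1.mem_img.mp hy
          rw [hl x hx, e x hx, cj_inv_cj])
      have hle : F ≤ E₀ := hg E₀ fun R hR β hβ => by
        by_cases hRS : R ≤ S
        · exact (autGroup_eq_set hRS β).mpr ((isMor_ofPred (fun h x hx y hy => h.1.map_mul hx hy)).mpr
            ⟨isMor_autFun hRS hβ, fun e => absurd (e ▸ hR) hS'⟩)
        · rw [autGroup_of_not_le hRS] at hβ
          exact (Subgroup.mem_bot.mp hβ).symm ▸ Subgroup.one_mem _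
      intro α hα
      obtain ⟨-, h2⟩ := (isMor_ofPred (fun h x hx y hy => h.1.map_mul hx hy)).mp
        (isMor_autFun le_rfl (autGroup_mono hle hα))
      obtain ⟨s, hs, e⟩ := h2 rfl
      exact (autGroup_eq_set le_rfl α).mpr ((isMor_cj E le_rfl hs).congr fun x hx => (e x hx).symm)
  obtain ⟨he₁, hs₁⟩ := hfam 𝒬₁ h₁ hg₁
  obtain ⟨he₂, hs₂⟩ := hfam 𝒬₂ h₂ hg₂
  refine alperin hS hF fun P hP => ?_
  rcases hP with rfl | hP
  · rcases hs₁ with hs₁ | hs₁
    · rcases hs₂ with hs₂ | hs₂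
      · exact hE _ ⟨hs₁, hs₂⟩
      · exact hs₂
    · exact hs₁
  · exact hE P ⟨he₁ P hP, he₂ P hP⟩

end Cfsg.Agent.S5327
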