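import Cfsg.Statements.S5329
import Cfsg.Agent.Lib.Fusion.Transfer
import Cfsg.Agent.Lib.Fusion.Criteria
-- import your own Cfsg.Agent.* helpers here

set_option autoImplicit false
open Cfsg

namespace Cfsg.Agent.S5329

open Cfsg Cfsg.FusionSystem CfsgLib.Fusion


/-- For a saturated fusion system F over a finite p-group S, the focal subgroup and the derived subgroup of S meet the centre Z(F) of the system in the same subgroup: foc(F) ∩ Z(F) = S′ ∩ Z(F). -/
theorem result {Ω : Type*} [Group Ω] {S : Subgroup Ω} [Finite S] (p : ℕ) [Fact p.Prime] (hS : IsPGroup p S) (F : Cfsg.FusionSystem S) (hF : F.IsSaturated p) : F.focalSubgroup ⊓ F.center = ⁅(S : Subgroup Ω), (S : Subgroup Ω)⁆ ⊓ F.center := by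
  refine le_antisymm (le_inf (fun z hz => ?_) inf_le_right)
    (inf_le_inf_right _ (by rw [focal_eq hS hF]; exact le_sup_right))
  obtain ⟨hzf, hzc⟩ := Subgroup.mem_inf.mp hz
  obtain ⟨hcS, hfix⟩ := (isCentral_iff_fixed hS hF).mp (isCentral_center F)
  have hzS : z ∈ S := hcS hzc
  obtain ⟨B⟩ := exists_charBiset hS hF
  obtain ⟨D⟩ := exists_transferData B
  have h1 := D.transfer_of_fixed (A := Abelianization S) Abelianization.of (z := ⟨z, hzS⟩)
    fun P f hf n hn => hfix P f hf _ hn (Subgroup.zpow_mem _ hzc n)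
  rw [D.transfer_eq_one_of_mem_focal Abelianization.of (z := ⟨z, hzS⟩) hzf, eq_comm, inv_eq_one] at h1
  obtain ⟨m, hm⟩ := hS ⟨z, hzS⟩
  have h2 : Abelianization.of (⟨z, hzS⟩ : S) ^ p ^ m = 1 := by rw [← map_pow, hm, map_one]
  have hco : Nat.gcd B.k (p ^ m) = 1 :=
    Nat.Coprime.pow_right _ (Nat.Coprime.symm ((Fact.out : p.Prime).coprime_iff_not_dvd.mpr B.not_dvd))
  have h3 := pow_gcd_eq_one.mpr ⟨h1, h2⟩
  rw [hco, pow_one] at h3
  have h4 : (⟨z, hzS⟩ : S) ∈ commutator S := by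
    rw [← Abelianization.ker_of]
    exact h3
  rw [← Subgroup.map_subtype_commutator]
  exact ⟨_, h4, rfl⟩

end Cfsg.Agent.S5329
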