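import Cfsg.Statements.S5330
import Cfsg.Agent.Lib.Fusion.Criteria
import Cfsg.Agent.Lib.Fusion.Hyperfocal
import Cfsg.Agent.Lib.Techniques.Averaging

set_option autoImplicit false
open Cfsg Cfsg.FusionSystem CfsgLib.Fusion

namespace Cfsg.Agent.S5330

/-- Let F be a saturated fusion system over a finite abelian p-group S. Then S is the internal direct product of the centre of the system and the focal subgroup: Z(F) ∩ foc(F) = 1 and Z(F)·foc(F) = S. -/
theorem result {Ω : Type*} [Group Ω] {S : Subgroup Ω} [Finite S] (p : ℕ) [Fact p.Prime] (hS : IsPGroup p S) (F : Cfsg.FusionSystem S) (hF : F.IsSaturated p) (hab : ∀ x ∈ S, ∀ y ∈ S, x * y = y * x) : F.center ⊓ F.focalSubgroup = ⊥ ∧ F.center ⊔ F.focalSubgroup = S := by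
  classical
  letI : CommGroup S := { (inferInstance : Group S) with
    mul_comm := fun a b => Subtype.ext (hab a a.2 b b.2) }
  have hSn : F.IsNormal S :=
    isNormal_of_abelian hS hF (stronglyClosed_iff.mpr ⟨le_rfl, fun P f hf x hx _ => hf.mem hx⟩) hab
  obtain ⟨-, R, hR⟩ := (isFullyAutomized_of_normalized hS hF (isFullyNormalized_self F)).1
  have hbot : (R : Subgroup ↥(F.autGroup S)) = ⊥ := by
    rw [hR, eq_bot_iff]
    intro r hr
    obtain ⟨s, hs, -, hse⟩ := mem_autInducedBy.mp (Subgroup.mem_subgroupOf.mp hr)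
    refine Subgroup.mem_bot.mpr (Subtype.ext (MulEquiv.ext fun a => Subtype.ext ?_))
    rw [← autFun_coe, hse a a.2, cj_apply, hab s hs a a.2, mul_inv_cancel_right]
    rfl
  have : Finite (MulAut S) := Finite.of_injective (fun α => (⇑α : S → S)) DFunLike.coe_injective
  set T : Subgroup ↥(F.autGroup S) := ⊥ with hTdef
  have hm : (Nat.card S).Coprime T.index := by
    obtain ⟨k, hk⟩ := hS.exists_card_eq
    rw [hk, ← hbot]
    exact Nat.Coprime.pow_left _ ((Nat.Prime.coprime_iff_not_dvd Fact.out).2 R.not_dvd_index)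
  letI : MulDistribMulAction ↥(F.autGroup S) S := MulDistribMulAction.compHom S (F.autGroup S).subtype
  have hsm : ∀ (l : ↥(F.autGroup S)) (a : S), ((l • a : S) : Ω) = autFun (l : MulAut S) a :=
    fun l a => (autFun_coe (l : MulAut S) a).symm
  have hF0 : ∀ a : S, a ∈ FixedPoints.subgroup ↥T S := by
    rintro a ⟨l, hl⟩
    have hl1 : l = 1 := Subgroup.mem_bot.mp hl
    subst hl1
    exact one_smul (↥(F.autGroup S)) a
  let ν : S →* S := (CfsgLib.Techniques.avg (L := ↥(F.autGroup S)) (M := S) T).comp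
    (MonoidHom.codRestrict (MonoidHom.id S) (FixedPoints.subgroup ↥T S) hF0)
  have hνf : ∀ (l : ↥(F.autGroup S)) (a : S), ν (l • a) = ν a := by
    intro l a
    letI : Fintype (↥(F.autGroup S) ⧸ T) := Fintype.ofFinite _
    show ∏ q : ↥(F.autGroup S) ⧸ T, q.out • (l • a) = ∏ q : ↥(F.autGroup S) ⧸ T, q.out • a
    let e : (↥(F.autGroup S) ⧸ T) ≃ ↥(F.autGroup S) :=
      Equiv.ofBijective (fun q => q.out) ⟨Quotient.out_injective, fun g => ⟨QuotientGroup.mk g, by
        obtain ⟨t, ht⟩ := QuotientGroup.mk_out_eq_mul T g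
        rw [Subgroup.mem_bot.mp t.2, mul_one] at ht
        exact ht⟩⟩
    refine Fintype.prod_equiv ((e.trans (Equiv.mulRight l)).trans e.symm) _ _ fun q => ?_
    show q.out • (l • a) = e (e.symm (e q * l)) • a
    rw [e.apply_symm_apply, smul_smul]
    rfl
  have hfoc : F.focalSubgroup ≤ ν.ker.map S.subtype := by
    refine (Subgroup.closure_le _).mpr ?_
    rintro _ ⟨P, φ, x, hφ, rfl⟩
    obtain ⟨α, hα, hαe⟩ := exists_aut_of_isNormal hSn (isMor_of_mem hφ) (F.le_of_mem hφ).1
    refine ⟨(⟨x, (F.le_of_mem hφ).1 x.2⟩ : S)⁻¹ * (⟨α, hα⟩ : ↥(F.autGroup S)) • ⟨x, (F.le_of_mem hφ).1 x.2⟩,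
      ?_, ?_⟩
    · show ν _ = 1
      rw [map_mul, map_inv, hνf, inv_mul_cancel]
    · simp only [Subgroup.subtype_apply, Subgroup.coe_mul, InvMemClass.coe_inv]
      rw [hsm, hαe x x.2, toFun_coe]
  have hfocS : F.focalSubgroup ≤ S := hfoc.trans (Subgroup.map_subtype_le _)
  obtain ⟨hCS, hfix⟩ := (isCentral_iff_fixed hS hF).mp (isCentral_center F)
  constructor
  · rw [eq_bot_iff]
    rintro x ⟨hxC, hxF⟩
    obtain ⟨a, ha, rfl⟩ := hfoc hxF
    have h1 : a ^ T.index = 1 := by
      rw [← CfsgLib.Techniques.avg_eq_pow T ⟨a, hF0 a⟩ fun l => Subtype.ext (by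
        change ((l • a : S) : Ω) = a
        rw [hsm]; exact hfix S _ (isMor_autFun le_rfl l.2) a a.2 hxC)]
      exact ha
    have h2 : a = 1 := (powCoprime hm).injective (by simpa using h1)
    simp [h2]
  · refine le_antisymm (sup_le hCS hfocS) fun x hx => ?_
    set b : S := (powCoprime hm).symm ⟨x, hx⟩
    have hb : b ^ T.index = ⟨x, hx⟩ := (powCoprime hm).apply_symm_apply _
    have hνC : ((ν b : S) : Ω) ∈ F.center := by
      refine le_center (Q := Subgroup.zpowers ((ν b : S) : Ω)) ((isCentral_iff_fixed hS hF).mpr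
        ⟨Subgroup.zpowers_le.mpr (ν b).2, fun P f hf y hy hyc => ?_⟩) (Subgroup.mem_zpowers _)
      obtain ⟨n, rfl⟩ := Subgroup.mem_zpowers_iff.mp hyc
      obtain ⟨α, hα, hαe⟩ := exists_aut_of_isNormal hSn hf hf.le
      rw [← hαe _ hy, (isMor_autFun le_rfl hα).map_zpow (ν b).2,
        ← hsm ⟨α, hα⟩ (ν b), show (⟨α, hα⟩ : ↥(F.autGroup S)) • ν b = ν b from
          CfsgLib.Techniques.smul_avg T _ _]
    have h3 : ν b * (b ^ T.index)⁻¹ ∈ F.focalSubgroup.subgroupOf S :=
      CfsgLib.Techniques.avg_congr T ⟨b, hF0 b⟩ fun l m => Subgroup.mem_subgroupOf.mpr (by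
        have := le_focal (isMor_autFun le_rfl l.2) m.2
        rw [← hsm] at this
        convert this using 1
        show ((l • m : S) : Ω) * (m : Ω)⁻¹ = _
        exact hab _ (l • m).2 _ (S.inv_mem m.2))
    rw [hb, Subgroup.mem_subgroupOf] at h3
    have h4 := (F.center ⊔ F.focalSubgroup).mul_mem (Subgroup.mem_sup_left hνC)
      (Subgroup.mem_sup_right (F.focalSubgroup.inv_mem h3))
    simp only [Subgroup.coe_mul, InvMemClass.coe_inv, mul_inv_rev, inv_inv] at h4
    rw [hab x hx _ (S.inv_mem (ν b).2), mul_inv_cancel_left] at h4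
    exact h4

end Cfsg.Agent.S5330
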