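import Cfsg.Statements.S5331
import Mathlib

set_option autoImplicit false
open Cfsg

namespace Cfsg.Agent.S5331

theorem zmod_two_torsion {a : ℕ} (ha : 1 ≤ a) (z : ZMod (2 ^ a)) (hz : 2 * z = 0) :
    z = 0 ∨ z = ((2 ^ (a - 1) : ℕ) : ZMod (2 ^ a)) := by
  have hv := ZMod.natCast_zmod_val z
  have hlt := ZMod.val_lt z
  have hd : 2 ^ a ∣ 2 * z.val := by
    rw [← ZMod.natCast_eq_zero_iff]
    push_cast
    rw [hv]; exact hz
  obtain ⟨b, rfl⟩ : ∃ b, a = b + 1 := ⟨a - 1, by omega⟩
  obtain ⟨c, hc⟩ := (mul_dvd_mul_iff_left (two_ne_zero)).1 (show 2 * 2 ^ b ∣ 2 * z.val from (pow_succ' 2 b) ▸ hd)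
  have hc2 : c < 2 := by
    by_contra hc2
    have := Nat.mul_le_mul_left (2 ^ b) (not_lt.1 hc2)
    rw [← hc] at this
    have hp := pow_succ 2 b
    omega
  interval_cases c
  · left; rw [← hv, hc]; simp
  · right; rw [← hv, hc]; simp

theorem odd_aut_trivial (n : ℕ) (a : Fin n → ℕ) (ha : StrictMono a) (ha1 : ∀ i, 1 ≤ a i)
    (β : Multiplicative ((i : Fin n) → ZMod (2 ^ a i)) ≃* Multiplicative ((i : Fin n) → ZMod (2 ^ a i)))
    (m : ℕ) (hm : Odd m) (hβ : ∀ y, β^[m] y = y) : ∀ y, β y = y := by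
  let α : ((i : Fin n) → ZMod (2 ^ a i)) ≃+ ((i : Fin n) → ZMod (2 ^ a i)) := AddEquiv.toMultiplicative.symm β
  have hαm : ∀ x, α^[m] x = x := fun x => hβ (Multiplicative.ofAdd x)
  suffices h : ∀ x, α x = x from fun y => h y.toAdd
  let W : ℕ → Set ((i : Fin n) → ZMod (2 ^ a i)) := fun k => {x | x + x = 0 ∧ ∀ i, a i ≤ k → x i = 0}
  have hdouble : ∀ (i : Fin n) (z : ZMod (2 ^ a i)), z + z = 0 → z ≠ 0 → z = ((2 ^ (a i - 1) : ℕ) : ZMod (2 ^ a i)) :=
    fun i z hz hne => (zmod_two_torsion (ha1 i) z (by rw [two_mul]; exact hz)).resolve_left hne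
  have hW : ∀ k, ∀ x ∈ W k, α x ∈ W k := by
    intro k x hx
    have hy : ∃ y, (2 ^ k) • y = x := by
      refine ⟨fun i => if x i = 0 then 0 else ((2 ^ (a i - 1 - k) : ℕ) : ZMod (2 ^ a i)), funext fun i => ?_⟩
      simp only [Pi.smul_apply]
      split_ifs with h
      · rw [smul_zero, h]
      · have hk : k < a i := by
          by_contra hk
          exact h (hx.2 i (by omega))
        rw [hdouble i (x i) (congrFun hx.1 i) h, nsmul_eq_mul, ← Nat.cast_mul, ← pow_add,
          show k + (a i - 1 - k) = a i - 1 by omega]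
    obtain ⟨y, rfl⟩ := hy
    refine ⟨by rw [← map_add, hx.1, map_zero], fun i hi => ?_⟩
    rw [map_nsmul, Pi.smul_apply, nsmul_eq_mul]
    refine mul_eq_zero_of_left ?_ _
    rw [ZMod.natCast_eq_zero_iff]
    exact pow_dvd_pow 2 hi
  have hfix_w : ∀ x w, α x = x + w → α w = w → w + w = 0 → w = 0 := by
    intro x w hx hw h2
    have hit : ∀ k : ℕ, α^[k] x = x + k • w := by
      intro k
      induction k with
      | zero => simp
      | succ k ih => rw [Function.iterate_succ_apply', ih, map_add, map_nsmul, hw, hx, succ_nsmul]; abel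
    have h := hit m
    rw [hαm, left_eq_add] at h
    obtain ⟨j, hj⟩ := hm
    rwa [hj, add_nsmul, mul_nsmul, two_nsmul, h2, smul_zero, zero_add, one_nsmul] at h
  obtain ⟨M, hM⟩ : ∃ M, ∀ i, a i ≤ M := ⟨Finset.univ.sup a, fun i => Finset.le_sup (Finset.mem_univ i)⟩
  have hchain : ∀ d k, M ≤ k + d → ∀ x ∈ W k, α x = x := by
    intro d
    induction d with
    | zero =>
      intro k hk x hx
      rw [show x = 0 from funext fun i => hx.2 i (le_trans (hM i) hk), map_zero]
    | succ d ih =>
      intro k hk x hx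
      have hnext := ih (k + 1) (by omega)
      by_cases hx' : x ∈ W (k + 1)
      · exact hnext x hx'
      have hj : ∃ j, a j = k + 1 ∧ x j ≠ 0 := by
        by_contra hno
        push Not at hno
        refine hx' ⟨hx.1, fun i hi => ?_⟩
        by_cases hik : a i ≤ k
        · exact hx.2 i hik
        · exact hno i (by omega)
      obtain ⟨j, hj, hxj⟩ := hj
      have hαx : α x j ≠ 0 := by
        intro h0
        have hin : α x ∈ W (k + 1) := by
          refine ⟨(hW k x hx).1, fun i hi => ?_⟩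
          by_cases hik : a i ≤ k
          · exact (hW k x hx).2 i hik
          · have : i = j := ha.injective (by omega)
            rw [this]; exact h0
        have h1 := hnext _ hin
        rw [α.injective h1] at h0
        exact hxj h0
      have hw : α x - x ∈ W (k + 1) := by
        refine ⟨by rw [sub_add_sub_comm, (hW k x hx).1, hx.1, sub_zero], fun i hi => ?_⟩
        rw [Pi.sub_apply]
        by_cases hik : a i ≤ k
        · rw [(hW k x hx).2 i hik, hx.2 i hik, sub_zero]
        · have hij : i = j := ha.injective (by omega)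
          subst hij
          rw [hdouble i _ (congrFun (hW k x hx).1 i) hαx, hdouble i _ (congrFun hx.1 i) hxj, sub_self]
      exact sub_eq_zero.1 (hfix_w x _ (by abel) (hnext _ hw) hw.1)
  have homega : ∀ x, x + x = 0 → α x = x := fun x hx =>
    hchain M 0 (by omega) x ⟨hx, fun i hi => absurd (ha1 i) (by omega)⟩
  suffices h : ∀ d x, (2 ^ d) • x = 0 → α x = x by
    intro x
    refine h M x (funext fun i => ?_)
    rw [Pi.smul_apply, nsmul_eq_mul, Pi.zero_apply]
    refine mul_eq_zero_of_left ?_ _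
    rw [ZMod.natCast_eq_zero_iff]
    exact pow_dvd_pow 2 (hM i)
  intro d
  induction d with
  | zero => intro x hx; rw [pow_zero, one_nsmul] at hx; rw [hx, map_zero]
  | succ d ih =>
    intro x hx
    have h2 : α (x + x) = x + x := ih _ (by rw [← two_nsmul, ← mul_nsmul, ← pow_succ']; exact hx)
    have hd : (α x - x) + (α x - x) = 0 := by rw [sub_add_sub_comm, ← map_add, h2, sub_self]
    exact sub_eq_zero.1 (hfix_w x _ (by abel) (homega _ hd) hd)

/-- Let S be a finite abelian 2-group that is a direct product of cyclic groups of pairwise distinct orders 2^{a_1} < 2^{a_2} < ⋯ < 2^{a_n} (all a_i ≥ 1). Then every saturated fusion system over S is the inner one: its maps are exactly the conjugations by elements of S. -/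
theorem result {Ω : Type*} [Group Ω] {S : Subgroup Ω} [Finite S] (n : ℕ) (a : Fin n → ℕ) (ha : StrictMono a) (ha1 : ∀ i, 1 ≤ a i) (e : ↥S ≃* Multiplicative ((i : Fin n) → ZMod (2 ^ a i))) (F : Cfsg.FusionSystem S) (hF : F.IsSaturated 2) (P : Subgroup Ω) : F.Hom P = (Cfsg.innerFusionSystem S).Hom P := by
  classical
  haveI : Fact (Nat.Prime 2) := ⟨Nat.prime_two⟩
  have hcomm : ∀ g ∈ S, ∀ x ∈ S, g * x = x * g := fun g hg x hx =>
    congrArg Subtype.val (e.injective (show e (⟨g, hg⟩ * ⟨x, hx⟩) = e (⟨x, hx⟩ * ⟨g, hg⟩) by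
      rw [map_mul, map_mul, mul_comm]))
  have hconj : ∀ g ∈ S, ∀ x ∈ S, g * x * g⁻¹ = x := fun g hg x hx => by
    rw [hcomm g hg x hx, mul_inv_cancel_right]
  have hodd : ∀ β : MulAut ↥S, Odd (orderOf β) → β = 1 := by
    intro β hβ
    have key := odd_aut_trivial n a ha ha1
      ((e.symm.trans (β : ↥S ≃* ↥S)).trans e) (orderOf β) hβ ?_
    · refine MulEquiv.ext fun x => e.injective ?_
      have := key (e x)
      simpa using this
    · intro y
      have hit : ∀ k : ℕ, ((e.symm.trans (β : ↥S ≃* ↥S)).trans e)^[k] y = e ((β ^ k) (e.symm y)) := by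
        intro k
        induction k with
        | zero => simp
        | succ k ih => rw [Function.iterate_succ_apply', ih, pow_succ' β, MulAut.mul_apply]; simp
      rw [hit, pow_orderOf_eq_one]
      simp
  -- automorphisms of `S` in the system are trivial
  have hautS : F.autGroup S = ⊥ := by
    obtain ⟨Q, ⟨φ, hφ, rfl⟩, ⟨-, R, hR⟩, -⟩ := hF S le_rfl
    have hQS : φ.range = S := Subgroup.eq_of_le_of_card_ge
      (by rintro _ ⟨x, rfl⟩; exact (F.le_of_mem hφ).2 x)
      (Nat.card_congr (MonoidHom.ofInjective (F.injective_of_mem hφ)).toEquiv).le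
    revert R
    rw [hQS]
    intro R hR
    have hind : Cfsg.autInducedBy S S = ⊥ := by
      rw [Cfsg.autInducedBy, eq_bot_iff, Subgroup.closure_le]
      rintro α ⟨g, hg, hα⟩
      exact MulEquiv.ext fun x => Subtype.ext ((hα x).trans (hconj g hg x x.2))
    rw [hind, Subgroup.bot_subgroupOf] at hR
    haveI : Finite (MulAut ↥S) := Finite.of_injective (fun α : MulAut ↥S => (α : ↥S → ↥S)) DFunLike.coe_injective
    have hnd : ¬ 2 ∣ Nat.card ↥(F.autGroup S) := by
      have h := R.not_dvd_index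
      rwa [hR, Subgroup.index_bot] at h
    rw [eq_bot_iff]
    intro α hα
    refine Subgroup.mem_bot.2 (hodd α ?_)
    exact Nat.not_even_iff_odd.1 fun h => hnd (h.two_dvd.trans (Subgroup.orderOf_dvd_natCard _ hα))
  have haut : ∀ ψ : ↥S →* Ω, ψ ∈ F.Hom S → ∀ x : ↥S, ψ x = (x : Ω) := by
    intro ψ hψ
    have hmem : ∀ x, ψ x ∈ S := (F.le_of_mem hψ).2
    have hbij : Function.Bijective (ψ.codRestrict S hmem) :=
      (Finite.injective_iff_bijective).1 fun x y h => F.injective_of_mem hψ (congrArg Subtype.val h :)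
    let α : MulAut ↥S := MulEquiv.ofBijective (ψ.codRestrict S hmem) hbij
    have hαmem : α ∈ F.autGroup S := by
      refine Subgroup.subset_closure ?_
      show S.subtype.comp α.toMonoidHom ∈ F.Hom S
      exact (show S.subtype.comp α.toMonoidHom = ψ from MonoidHom.ext fun x => rfl) ▸ hψ
    rw [hautS, Subgroup.mem_bot] at hαmem
    intro x
    exact congrArg Subtype.val (DFunLike.congr_fun hαmem x)
  ext φ
  constructor
  · intro hφ
    obtain ⟨hPS, hφS⟩ := F.le_of_mem hφ
    refine ⟨hPS, 1, one_mem S, fun x => ?_⟩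
    rw [one_mul, inv_one, mul_one]
    obtain ⟨Q, ⟨γ, hγ, hγQ⟩, -, -, hrec⟩ := hF P hPS
    obtain ⟨ρ, hρ, hρφ⟩ := F.inv_mem hφ
    have hext : ∀ (R : Subgroup Ω) (τ : ↥R →* Ω), τ ∈ F.Hom R → τ.range = Q →
        ∀ r : ↥R, τ r = (r : Ω) := by
      intro R τ hτ hτQ r
      obtain ⟨hRS, hτS⟩ := F.le_of_mem hτ
      have hN : Cfsg.FusionSystem.extender S R τ = S := by
        refine le_antisymm ((Subgroup.closure_le _).2 fun g hg => hg.1) fun g hg => Subgroup.subset_closure ?_
        refine ⟨hg, ?_, 1, one_mem S, fun y hy => ?_⟩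
        · rw [Subgroup.mem_normalizer_iff]
          intro y
          constructor
          · intro hy
            rw [hconj g hg y (hRS hy)]; exact hy
          · intro hy
            have hyS : y ∈ S := by
              have := S.mul_mem (S.mul_mem (S.inv_mem hg) (hRS hy)) hg
              simpa [mul_assoc] using this
            rwa [hconj g hg y hyS] at hy
        · rw [one_mul, inv_one, mul_one]
          exact congrArg τ (Subtype.ext (hconj g hg y (hRS y.2)))
      obtain ⟨ψ, hψ, hψτ⟩ := hrec R τ hτ hτQ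
      revert ψ
      rw [hN]
      intro ψ hψ hψτ
      rw [← hψτ r r.2 (hRS r.2), haut ψ hψ]
    have h1 : γ x = (x : Ω) := hext P γ hγ hγQ x
    -- the inverse of `φ` followed by `γ`
    have hρP : ∀ y : ↥φ.range, ρ y ∈ P := by
      rintro ⟨_, z, rfl⟩
      rw [hρφ z]; exact z.2
    have hmem := F.comp_mem hρ hγ hρP
    have hrange : (γ.comp (ρ.codRestrict P hρP)).range = Q := by
      rw [← hγQ]
      refine le_antisymm ?_ ?_
      · rintro _ ⟨y, rfl⟩; exact ⟨_, rfl⟩
      · rintro _ ⟨z, rfl⟩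
        exact ⟨⟨φ z, z, rfl⟩, congrArg γ (Subtype.ext (hρφ z))⟩
    have h2 := hext φ.range (γ.comp (ρ.codRestrict P hρP)) hmem hrange ⟨φ x, x, rfl⟩
    have h3 : (γ.comp (ρ.codRestrict P hρP)) ⟨φ x, x, rfl⟩ = γ x := congrArg γ (Subtype.ext (hρφ x))
    rw [h3, h1] at h2
    exact h2.symm
  · rintro ⟨hPS, g, hg, hφ⟩
    rw [show φ = Cfsg.conjHom P g from MonoidHom.ext fun x => hφ x]
    exact F.conj_mem hPS hg

end Cfsg.Agent.S5331
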