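import Cfsg.Statements.S5332
import Cfsg.Agent.Lib.Fusion.FunctorZJ

set_option autoImplicit false
open Cfsg Cfsg.FusionSystem CfsgLib.Fusion

namespace Cfsg.Agent.S5332

universe u

theorem key {p : ℕ} [Fact p.Prime] (hp : p ≠ 2) {Ω : Type u} [Group Ω] {S : Subgroup Ω} [Finite S]
    (hS : IsPGroup p S) : ∀ (m : ℕ) (F : FusionSystem S), sysSize F = m → F.IsSaturated p → ¬ Thin F →
    ∃ E : FusionSystem S, E ≤ F ∧ E.IsConstrained p ∧ ¬ Thin E := by
  intro m
  induction m using Nat.strong_induction_on with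
  | _ m ih =>
  intro F hm hF hnt
  subst hm
  by_contra hgoal
  -- normalizer systems of normal subgroups that are not normal in the system are thin
  have hnormS : ∀ Q, Q ≤ S → normalizerIn S Q = S → ¬ F.IsNormal Q → NThin F Q := by
    intro Q hQS hN hnQ
    obtain ⟨NQ, hNQ⟩ := Cfsg.Agent.S5096.result F Q hQS
    have hQn := isFullyNormalized_of_normal (F := F) hQS hN
    have hne : ∃ P' f', IsMor F P' f' ∧ ¬ IsMor NQ P' f' := by
      by_contra hno
      push Not at hno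
      refine hnQ (isNormal_iff.mpr ⟨hQS, fun P' f' hf' => ?_⟩)
      obtain ⟨-, -, -, k, hk, hkf, hkQ⟩ := (isMor_normalizerSystem hNQ).mp (hno P' f' hf')
      exact ⟨k, hk, hkf, hkQ⟩
    have hsat := normalizerSystem_isSaturated hS hF hQn hNQ
    have hsub : ∀ P f, IsMor NQ P f → IsMor F P f := fun _ _ h =>
      ((isMor_normalizerSystem hNQ).mp h).1
    suffices ∀ (T : Subgroup Ω) (D : FusionSystem T), T = S → D.IsSaturated p →
        (∀ P f, IsMor D P f → IsMor F P f) → (∃ P f, IsMor F P f ∧ ¬ IsMor D P f) → Thin D by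
      have h1 := this _ NQ hN hsat hsub hne
      intro P f hf hP hg
      obtain ⟨g, hg, hgf, hgQ⟩ := hg
      obtain ⟨s, hs, e⟩ := h1 P f ((isMor_normalizerSystem hNQ).mpr
        ⟨hf, hP, fun x hx => hN.symm ▸ hf.mem hx, g, hg, hgf, hgQ⟩)
      exact ⟨s, normalizerIn_le hs, e⟩
    intro T D hT hDsat hDsub hDne
    subst hT
    by_contra hDt
    obtain ⟨P', f', hf', hnf'⟩ := hDne
    have hlt := sysSize_lt hS hF (le_iff_isMor.mpr hDsub)
      fun h => hnf' (le_iff_isMor.mp h P' f' hf')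
    obtain ⟨E, hE, hEc, hEt⟩ := ih _ hlt D rfl hDsat hDt
    exact hgoal ⟨E, fun P => (hE P).trans ((le_iff_isMor.mpr hDsub) P), hEc, hEt⟩
  have hS1 : S ≠ ⊥ := fun h => hnt fun P f hf =>
    ⟨1, S.one_mem, fun x hx => by
      have : x = 1 := Subgroup.mem_bot.mp (h ▸ hf.le hx)
      rw [this, hf.map_one, cj_one]⟩
  set w := zjFunctor.{u} (p := p)
  have hwN : normalizerIn S (w.at S) = S := mem_normalizer_of_conj_le fun s hs => by
    rw [w.img_at hS (isMor_cj F le_rfl hs), img_cj_of_normalizer (Subgroup.le_normalizer hs)]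
  have hW : F.IsNormal (w.at S) := by
    by_contra h
    exact hnt (thin_of_functor w (zjFunctor_criterion hp) hS hF
      (hnormS _ (w.at_le S) hwN h))
  set Q := F.core with hQdef
  have hQ : F.IsNormal Q := isNormal_core F
  have hQ1 : Q ≠ ⊥ := fun h => w.at_ne_bot hS hS1 (le_bot_iff.mp ((le_core hW).trans h.le))
  have hQsc := (stronglyClosed_iff.mp (isNormal_stronglyClosed hQ)).2
  by_cases hQc : centralizerIn S Q ≤ Q
  · exact hgoal ⟨F, fun P => le_rfl, ⟨hF, Q, hQ, hQ.1, fun U hU => by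
      obtain ⟨f, hf, rfl⟩ := isConj_iff.mp hU
      rwa [hf.img_eq_self fun x hx => hQsc Q f hf x hx hx]⟩, hnt⟩
  set C := Q ⊔ centralizerIn S Q with hC
  have hCS : C ≤ S := sup_le hQ.1 centralizerIn_le
  have hCn : normalizerIn S C = S := mem_normalizer_of_conj_le fun s hs => img_le fun x hx => by
    refine (sup_le ?_ ?_ : C ≤ C.comap (MulAut.conj s).toMonoidHom) hx
    · exact fun y hy => Subgroup.mem_sup_left (show cj s y ∈ Q from conj_mem_of_isNormal hQ hs hy)
    · intro y hy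
      obtain ⟨hyS, hyc⟩ := mem_centralizerIn.mp hy
      refine Subgroup.mem_sup_right (mem_centralizerIn.mpr
        ⟨S.mul_mem (S.mul_mem hs hyS) (S.inv_mem hs), fun z hz => ?_⟩)
      have h1 := hyc _ (conj_mem_of_isNormal hQ (S.inv_mem hs) hz)
      show cj (cj s y) z = z
      rw [show cj (cj s y) z = cj s (cj y (cj s⁻¹ z)) by simp [cj, mul_assoc],
        show cj y (cj s⁻¹ z) = cj s⁻¹ z from h1, cj_cj_inv]
  have hCt := hnormS C hCS hCn fun h => hQc (le_sup_right.trans (le_core h))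
  have hinn : ∀ f, IsMor F Q f → ∃ s ∈ S, ∀ x ∈ Q, f x = cj s x := by
    intro f hf
    obtain ⟨n, c, hn, hnC, -, hcQ, hce⟩ := exists_decomp hS hF hQ hf le_rfl
    obtain ⟨t, ht, hte⟩ := hCt _ n hn (hCn.symm ▸ hn.le)
      ⟨n, by rwa [sup_eq_left.mpr le_sup_right], fun _ _ => rfl, hnC⟩
    refine ⟨t, ht, fun x hx => ?_⟩
    have hnQ : n x ∈ Q := hQsc Q n (hn.restrict le_sup_left) x hx hx
    rw [← hce x hx, hcQ _ hnQ, hte x (Subgroup.mem_sup_left hx)]
  have hQnS : (Q.subgroupOf S).Normal := ⟨fun a ha s =>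
    conj_mem_of_isNormal hQ s.2 (Subgroup.mem_subgroupOf.mp ha)⟩
  set θ := QuotientGroup.mk' (Q.subgroupOf S)
  have hker : ∀ s : S, θ s = 1 ↔ (s : Ω) ∈ Q := fun s =>
    (QuotientGroup.eq_one_iff s).trans Subgroup.mem_subgroupOf
  have hrange : θ.range = ⊤ := MonoidHom.range_eq_top.mpr (QuotientGroup.mk'_surjective _)
  obtain ⟨E, hE⟩ := exists_factorSystem (isNormal_stronglyClosed hQ) hker hrange
  have hpq : IsPGroup p ↥(⊤ : Subgroup (↥S ⧸ Q.subgroupOf S)) :=
    (hS.to_quotient _).of_equiv Subgroup.topEquiv.symm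
  have htop : (⊤ : Subgroup (↥S ⧸ Q.subgroupOf S)) ≠ ⊥ := fun h => by
    refine hQc fun x hx => ?_
    have h6 : θ ⟨x, centralizerIn_le hx⟩ ∈ (⊥ : Subgroup (↥S ⧸ Q.subgroupOf S)) :=
      h ▸ Subgroup.mem_top _
    exact (hker _).mp (Subgroup.mem_bot.mp h6)
  have hEsat := factor_isSaturated hS hF (isNormal_stronglyClosed hQ) hE
  have hEt : Thin E := by
    refine thin_of_functor w (zjFunctor_criterion hp) hpq hEsat ?_
    set V := w.at (⊤ : Subgroup (↥S ⧸ Q.subgroupOf S)) with hVdef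
    have hV1 : V ≠ ⊥ := w.at_ne_bot hpq htop
    have hVn : normalizerIn ⊤ V = ⊤ := mem_normalizer_of_conj_le fun s hs => by
      rw [hVdef, w.img_at hpq (isMor_cj E le_rfl hs),
        img_cj_of_normalizer (Subgroup.le_normalizer hs)]
    set U := preimageAlong θ V
    have hUS : U ≤ S := preimageAlong_le V
    have hUn : normalizerIn S U = S := mem_normalizer_of_conj_le fun s hs => img_le fun x hx => by
      obtain ⟨hxS, hxV⟩ := mem_preimageAlong.mp hx
      refine mem_preimageAlong.mpr ⟨S.mul_mem (S.mul_mem hs hxS) (S.inv_mem hs), ?_⟩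
      have h1 := (Subgroup.mem_normalizer_iff.mp
        (mem_normalizerIn.mp (hVn.ge (Subgroup.mem_top (θ ⟨s, hs⟩)))).2 _).mp hxV
      rw [← map_inv, ← map_mul, ← map_mul] at h1
      exact h1
    have hUn' : ¬ F.IsNormal U := fun h => hV1 (le_bot_iff.mp fun y hy => by
      obtain ⟨x, rfl⟩ := QuotientGroup.mk'_surjective (Q.subgroupOf S) y
      exact Subgroup.mem_bot.mpr ((hker x).mpr (le_core h (mem_preimageAlong.mpr ⟨x.2, hy⟩))))
    intro P f hf _ hg
    obtain ⟨g, hg, hgf, hgV⟩ := hg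
    obtain ⟨G, hG, hGe⟩ := factor_lift hE hg
    set X := preimageAlong θ (P ⊔ V)
    have hUX : U ≤ X := fun x hx => mem_preimageAlong.mpr
      ⟨(mem_preimageAlong.mp hx).1, Subgroup.mem_sup_right (mem_preimageAlong.mp hx).2⟩
    have hGU : img U G = U := (hG.restrict hUX).img_eq_self fun x hx => by
      obtain ⟨hxS, hxV⟩ := mem_preimageAlong.mp hx
      refine mem_preimageAlong.mpr ⟨hG.mem (hUX hx), ?_⟩
      rw [← hGe ⟨x, hxS⟩ (hG.mem (hUX hx)) (Subgroup.mem_sup_right hxV)]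
      exact hgV.le (mem_img_of_mem g hxV)
    obtain ⟨s, hs, hse⟩ := hnormS U hUS hUn hUn' X G hG (hUn.symm ▸ hG.le)
      ⟨G, by rwa [sup_eq_left.mpr hUX], fun _ _ => rfl, hGU⟩
    refine ⟨θ ⟨s, hs⟩, Subgroup.mem_top _, fun y hy => ?_⟩
    obtain ⟨x, rfl⟩ := QuotientGroup.mk'_surjective (Q.subgroupOf S) y
    have hxX : (x : Ω) ∈ X := mem_preimageAlong.mpr ⟨x.2, Subgroup.mem_sup_left hy⟩
    rw [← hgf _ hy, hGe x (hG.mem hxX) (Subgroup.mem_sup_left hy), cj_apply, ← map_inv, ← map_mul,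
      ← map_mul]
    exact congrArg θ (Subtype.ext (hse _ hxX))
  refine hnt (Thin.of_hom_eq fun P => ?_)
  rw [fusion_le_antisymm (alperin hS hF fun R hR => ?_) (inner_isSubsystemOf F)]
  rw [autGroup_inner (hR.elim (fun h => h.le) essential_le)]
  rcases hR with rfl | hR
  · rw [← inn_eq_autInducedBy]
    exact autGroup_le_inn_of_isPGroup hS hF
      (isPGroup_aut_of_quotient hS hQ hinn hE hEt le_rfl hQ.1)
  · have hQR := le_of_normal_of_radical hS hQ hR.1 (essential_radical hS hR)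
    have hRp := isPGroup_aut_of_quotient hS hQ hinn hE hEt (essential_le hR) hQR
    exact absurd ⟨⟨⊤, hRp.to_subgroup ⊤, fun _ hle => top_le_iff.mp hle⟩,
      ⟨fun k _ a => trivial⟩⟩ (not_pClosed_of_essential hS hR)

/-- Let p be odd and F a saturated fusion system over a finite p-group S that is not the inner system of S. Then F contains a saturated constrained subsystem over S that is itself not the inner system. -/
theorem result {Ω : Type*} [Group Ω] {S : Subgroup Ω} [Finite S] (p : ℕ) [Fact p.Prime] (hS : IsPGroup p S) (F : Cfsg.FusionSystem S) (hF : F.IsSaturated p) (hp : p ≠ 2) (hne : ∃ P : Subgroup Ω, F.Hom P ≠ (Cfsg.innerFusionSystem S).Hom P) : ∃ E : Cfsg.FusionSystem S, E ≤ F ∧ E.IsConstrained p ∧ ∃ P : Subgroup Ω, E.Hom P ≠ (Cfsg.innerFusionSystem S).Hom P := by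
  have hnt : ¬ Thin F := fun h => let ⟨P, hP⟩ := hne; hP (h.hom_eq P)
  obtain ⟨E, hE, hEc, hEt⟩ := key hp hS _ F rfl hF hnt
  refine ⟨E, hE, hEc, ?_⟩
  by_contra h
  push Not at h
  exact hEt (Thin.of_hom_eq h)

end Cfsg.Agent.S5332
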