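import Cfsg.Statements.S5333
import Cfsg.Agent.Lib.Fusion.Criteria
import Cfsg.Agent.S5097
-- import your own Cfsg.Agent.* helpers here

set_option autoImplicit false
open Cfsg

namespace Cfsg.Agent.S5333

open Cfsg Cfsg.FusionSystem CfsgLib.Fusion


/-- Let F′ ≤ F be saturated fusion systems over the same finite p-group S. Suppose that for every subgroup Z ≤ S of order p that is fully centralized in F′, the maps of F and of F′ with source Z coincide and the centralizer systems C_F(Z) and C_{F′}(Z) coincide. Then F = F′. -/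
theorem result {Ω : Type*} [Group Ω] {S : Subgroup Ω} [Finite S] (p : ℕ) [Fact p.Prime] (hS : IsPGroup p S) (F : Cfsg.FusionSystem S) (hF : F.IsSaturated p) (F' : Cfsg.FusionSystem S) (hF' : F'.IsSaturated p) (hle : F' ≤ F) (hZ : ∀ Z : Subgroup Ω, Z ≤ S → Nat.card Z = p → F'.IsFullyCentralized Z → F.Hom Z = F'.Hom Z ∧ ∀ (C C' : Cfsg.FusionSystem (Cfsg.FusionSystem.centralizerIn S Z)), F.IsCentralizerSystem Z C → F'.IsCentralizerSystem Z C' → ∀ P : Subgroup Ω, C.Hom P = C'.Hom P) (P : Subgroup Ω) : F.Hom P = F'.Hom P := by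
  refine Set.Subset.antisymm (fun φ hφ => ?_) (hle P)
  have hf := isMor_of_mem hφ
  refine IsMor.mem_hom ?_ fun x => (toFun_coe φ x).symm
  generalize toFun φ = f at hf
  clear hφ φ
  by_cases hP0 : P = ⊥
  · subst hP0
    refine (isMor_id F' bot_le).congr fun x hx => ?_
    rw [Subgroup.mem_bot.mp hx]
    exact hf.map_one.symm
  have hPp : IsPGroup p P := isPGroup_of_le hf.le hS
  have : Finite P := finite_of_le hf.le
  have : Nontrivial P := (Subgroup.nontrivial_iff_ne_bot _).mpr hP0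
  obtain ⟨z, hz⟩ : ∃ z : Subgroup.center P, orderOf z = p := by
    obtain ⟨k, hk⟩ := IsPGroup.iff_card.mp (hPp.to_subgroup (Subgroup.center P))
    have := hPp.center_nontrivial
    refine exists_prime_orderOf_dvd_card' p (hk ▸ dvd_pow_self p fun e => ?_)
    rw [e, pow_zero] at hk
    exact (Finite.one_lt_card (α := Subgroup.center P)).ne' hk
  have hzP : ((z : P) : Ω) ∈ P := (z : P).2
  have hZP : Subgroup.zpowers ((z : P) : Ω) ≤ P := Subgroup.zpowers_le.mpr hzP
  have hcard : Nat.card (Subgroup.zpowers ((z : P) : Ω)) = p := by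
    rw [Nat.card_zpowers, Subgroup.orderOf_coe, Subgroup.orderOf_coe, hz]
  have hcen : ∀ y ∈ Subgroup.zpowers ((z : P) : Ω), ∀ x ∈ P, cj x y = y := by
    rintro y ⟨i, rfl⟩ x hx
    have h1 : Commute x ((z : P) : Ω) := congrArg Subtype.val (Subgroup.mem_center_iff.mp z.2 ⟨x, hx⟩)
    exact cj_fixed_iff.mpr (h1.zpow_right i).eq
  obtain ⟨Z', hZ', hZn⟩ := exists_fullyNormalized F' (hZP.trans hf.le)
  obtain ⟨g, hg, hgi, -⟩ := exists_map_fullyNormalized hS hF' hZn hZ'
  have hPN : P ≤ normalizerIn S (Subgroup.zpowers ((z : P) : Ω)) := fun x hx =>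
    centralizerIn_le_normalizerIn (mem_centralizerIn.mpr ⟨hf.le hx, fun y hy => hcen y hy x hx⟩)
  have hgP := hg.restrict hPN
  obtain ⟨gi, hgi₁, hgl, -, hgii⟩ := (le_iff_isMor.mp hle _ _ hgP).inverse
  have hmaps : ∀ y ∈ img P g, gi y ∈ P := fun y hy => hgii ▸ mem_img_of_mem gi hy
  have hh : IsMor F (img P g) (f ∘ gi) := hgi₁.comp hf hmaps
  have hZ'P : Z' ≤ img P g := hgi ▸ img_mono g hZP
  have hcen' : ∀ y ∈ Z', ∀ x ∈ img P g, cj x y = y := by
    intro y hy x hx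
    obtain ⟨a, ha, rfl⟩ := (hgP.restrict hZP).mem_img.mp (hgi.symm ▸ hy)
    obtain ⟨b, hb, rfl⟩ := hgP.mem_img.mp hx
    rw [cj, ← hgP.map_conj hb (hZP ha)]
    exact congrArg g (hcen a ha b hb)
  have hZc : F'.IsFullyCentralized Z' := isFullyCentralized_of_normalized hS hF' hZn
  obtain ⟨hEq, hCC⟩ := hZ Z' hZn.1 (by rw [isConj_card hZ', hcard]) hZc
  have hhZ : IsMor F' Z' (f ∘ gi) := (hom_eq_iff.mp hEq _).mp (hh.restrict hZ'P)
  obtain ⟨u, hu, hul, hur, hui⟩ := hhZ.inverse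
  obtain ⟨k, hk, hku⟩ := (isReceptive_iff.mp (isReceptive_of_centralized hS hF' hZc)).2 _ u hu hui
  have hPW : img (img P g) (f ∘ gi) ≤ nExt S (img Z' (f ∘ gi)) u := by
    refine (img_le fun y hy => ?_).trans (centralizerIn_le_nExt u)
    refine mem_centralizerIn.mpr ⟨hh.mem hy, fun w hw => ?_⟩
    obtain ⟨v, hv, rfl⟩ := (hh.restrict hZ'P).mem_img.mp hw
    rw [cj, ← hh.map_conj hy (hZ'P hv)]
    exact congrArg (f ∘ gi) (hcen' v hv y hy)
  have hkF := le_iff_isMor.mp hle _ _ (hk.restrict hPW)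
  have hm : IsMor F (img P g) (k ∘ (f ∘ gi)) := hh.comp hkF fun y hy => mem_img_of_mem _ hy
  have hmfix : ∀ v ∈ Z', k (f (gi v)) = v := fun v hv => by
    show k ((f ∘ gi) v) = v
    rw [hku _ (mem_img_of_mem _ hv), hul v hv]
  obtain ⟨C, hC⟩ := Cfsg.Agent.S5097.result F Z' hZn.1
  obtain ⟨C', hC'⟩ := Cfsg.Agent.S5097.result F' Z' hZn.1
  obtain ⟨ψ, hψ, hψe⟩ := id hm
  have hval : ∀ y ∈ img P g, toFun ψ y = k (f (gi y)) := fun y hy =>
    (toFun_of_mem ψ hy).trans (hψe _)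
  have hmem : ψ ∈ F.centralizerHom Z' (img P g) := by
    refine mem_centralizerHom.mpr ⟨isMor_of_mem hψ,
      fun x hx => mem_centralizerIn.mpr ⟨hgP.img_le hx, fun y hy => hcen' y hy x hx⟩,
      fun x hx => mem_centralizerIn.mpr ⟨(isMor_of_mem hψ).mem hx, fun y hy => ?_⟩,
      k ∘ (f ∘ gi), ?_, fun x hx => (hval x hx).symm, hmfix⟩
    · conv_lhs => rw [hval x hx, ← hmfix y hy]
      rw [cj]
      refine ((hm.map_conj hx (hZ'P hy)).symm.trans ?_).trans (hmfix y hy)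
      exact congrArg (k ∘ (f ∘ gi)) (hcen' y hy x hx)
    · rw [sup_eq_left.mpr hZ'P]; exact hm
  rw [← hC (img P g), hCC C C' hC hC' (img P g), hC' (img P g)] at hmem
  have hψ' : IsMor F' (img P g) (k ∘ (f ∘ gi)) := isMor_of_mem' hmem.1 hψe
  obtain ⟨ki, hki, hkl, -, -⟩ := (hk.restrict hPW).inverse
  have hh' : IsMor F' (img P g) (f ∘ gi) :=
    (hψ'.comp hki fun y hy => mem_img_of_mem k (mem_img_of_mem _ hy)).congr fun y hy =>
      hkl _ (mem_img_of_mem _ hy)
  refine (hgP.comp hh' fun x hx => mem_img_of_mem g hx).congr fun x hx => ?_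
  show f (gi (g x)) = f x
  rw [hgl x hx]

end Cfsg.Agent.S5333
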