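import Cfsg.Statements.S5334
import Cfsg.Agent.Lib.Fusion.CentricControl
-- import your own Cfsg.Agent.* helpers here

set_option autoImplicit false
open Cfsg

namespace Cfsg.Agent.S5334

open Cfsg Cfsg.FusionSystem CfsgLib.Fusion


/-- Let F′ ≤ F be saturated fusion systems over the same finite p-group S, let Q and R be F-centric subgroups, φ a map of F with source Q and values in R, and ψ a map of F with source R. If two of φ, ψ and the composite ψ ∘ φ are maps of F′ then so is the third. -/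
theorem result {Ω : Type*} [Group Ω] {S : Subgroup Ω} [Finite S] (p : ℕ) [Fact p.Prime] (hS : IsPGroup p S) (F : Cfsg.FusionSystem S) (hF : F.IsSaturated p) (F' : Cfsg.FusionSystem S) (hF' : F'.IsSaturated p) (hle : F' ≤ F) (Q R : Subgroup Ω) (hQ : F.IsCentric Q) (hR : F.IsCentric R) (φ : ↥Q →* Ω) (hφ : φ ∈ F.Hom Q) (hφR : ∀ x : Q, φ x ∈ R) (ψ : ↥R →* Ω) (hψ : ψ ∈ F.Hom R) : (φ ∈ F'.Hom Q → ψ ∈ F'.Hom R → ψ.comp (φ.codRestrict R hφR) ∈ F'.Hom Q) ∧ (ψ ∈ F'.Hom R → ψ.comp (φ.codRestrict R hφR) ∈ F'.Hom Q → φ ∈ F'.Hom Q) ∧ (φ ∈ F'.Hom Q → ψ.comp (φ.codRestrict R hφR) ∈ F'.Hom Q → ψ ∈ F'.Hom R) := by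
  have h₁ := isMor_of_mem hφ
  have h₂ := isMor_of_mem hψ
  have hmap : ∀ x ∈ Q, toFun φ x ∈ R := fun x hx => by
    rw [toFun_of_mem φ hx]; exact hφR _
  have hval : ∀ x : Q, (ψ.comp (φ.codRestrict R hφR)) x = (toFun ψ ∘ toFun φ) x := fun x => by
    show ψ ⟨φ x, hφR x⟩ = toFun ψ (toFun φ x)
    rw [toFun_coe φ, toFun_of_mem ψ (hφR x)]
  refine ⟨fun a b => F'.comp_mem a b hφR, fun b c => ?_, fun a c => ?_⟩
  · have hc := isMor_of_mem' c hval
    obtain ⟨g, hg, hl, -, -⟩ := (isMor_of_mem b).inverse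
    refine ((hc.comp hg fun x hx => mem_img_of_mem _ (hmap x hx)).congr fun x hx => ?_).mem_hom
      fun x => (toFun_coe φ x).symm
    exact hl _ (hmap x hx)
  · have ha := isMor_of_mem a
    obtain ⟨g, hg, hl, hr, hgi⟩ := ha.inverse
    have hc := isMor_of_mem' c hval
    have hψ₀ : IsMor F' (img Q (toFun φ)) (toFun ψ) :=
      (hg.comp hc fun y hy => hgi ▸ mem_img_of_mem g hy).congr fun y hy => by
        rw [Function.comp_apply, Function.comp_apply, hr y hy]
    exact (isMor_of_centric_restrict hS hF hF' hle h₂ (img_le hmap)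
      (centric_of_isConj hQ (isConj_img h₁)) hψ₀).mem_hom fun x => (toFun_coe ψ x).symm

end Cfsg.Agent.S5334
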