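import Cfsg.Statements.S5335
import Cfsg.Agent.Lib.Fusion.CentricControl
-- import your own Cfsg.Agent.* helpers here

set_option autoImplicit false
open Cfsg

namespace Cfsg.Agent.S5335

open Cfsg Cfsg.FusionSystem CfsgLib.Fusion


/-- Let F′ ≤ F be saturated fusion systems over the same finite p-group S. If the maps of F and of F′ with source Q coincide for every F-centric subgroup Q that is minimal among F-centric subgroups, then F = F′. -/
theorem result {Ω : Type*} [Group Ω] {S : Subgroup Ω} [Finite S] (p : ℕ) [Fact p.Prime] (hS : IsPGroup p S) (F : Cfsg.FusionSystem S) (hF : F.IsSaturated p) (F' : Cfsg.FusionSystem S) (hF' : F'.IsSaturated p) (hle : F' ≤ F) (hmin : ∀ Q : Subgroup Ω, F.IsCentric Q → (∀ R : Subgroup Ω, R < Q → ¬ F.IsCentric R) → F.Hom Q = F'.Hom Q) (P : Subgroup Ω) : F.Hom P = F'.Hom P := by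
  refine Set.Subset.antisymm (fun φ hφ => ?_) (hle P)
  have hexmin : ∀ n, ∀ R : Subgroup Ω, Nat.card R = n → F.IsCentric R →
      ∃ Q : Subgroup Ω, Q ≤ R ∧ F.IsCentric Q ∧ ∀ R' : Subgroup Ω, R' < Q → ¬ F.IsCentric R' := by
    intro n
    induction n using Nat.strong_induction_on with
    | _ n ih =>
      intro R hn hR
      by_cases h : ∀ R', R' < R → ¬ F.IsCentric R'
      · exact ⟨R, le_rfl, hR, h⟩
      · push Not at h
        obtain ⟨R', hlt, hR'⟩ := h
        obtain ⟨Q, hQ, hQc, hQm⟩ := ih _ (hn ▸ card_lt_of_lt hR.1 hlt) R' rfl hR'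
        exact ⟨Q, hQ.trans hlt.le, hQc, hQm⟩
  have hcent : ∀ R, F.IsCentric R → F.autGroup R ≤ F'.autGroup R := by
    intro R hR α hα
    obtain ⟨Q, hQ, hQc, hQm⟩ := hexmin _ R rfl hR
    have hm := isMor_autFun hR.1 hα
    exact (autGroup_eq_set hR.1 α).mpr (isMor_of_centric_restrict hS hF hF' hle hm hQ hQc
      (((hom_eq_iff.mp (hmin Q hQc hQm)) _).mp (hm.restrict hQ)))
  refine alperin hS hF (fun R hR => hcent R ?_) P hφ
  rcases hR with rfl | hR
  · exact centric_self F
  · exact hR.1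

end Cfsg.Agent.S5335
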