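import Cfsg.Statements.S5336
import Cfsg.Agent.Lib.Fusion.GroupNormal
import Cfsg.Agent.Lib.Base.Cores

set_option autoImplicit false
open Cfsg Cfsg.FusionSystem CfsgLib.Fusion

namespace Cfsg.Agent.S5336

/-- Let G be a finite group with Sylow p-subgroup S whose fusion system F_S(G) is simple. If G has no nontrivial normal subgroup of order prime to p and no proper subgroup H containing S induces the same fusion system on S as G does, then G is a simple group. -/
theorem result {G : Type*} [Group G] [Finite G] (p : ℕ) [Fact p.Prime] (S : Sylow p G) (hsimple : (Cfsg.groupFusionSystem (S : Subgroup G)).IsSimple p) (hcore : Cfsg.pPrimeCore p G = ⊥) (hmin : ∀ (H : Subgroup G) (hSH : (S : Subgroup G) ≤ H), H ≠ ⊤ → ∃ P : Subgroup G, (Cfsg.fusionSystemOfSubgroup H (S : Subgroup G) hSH).Hom P ≠ (Cfsg.groupFusionSystem (S : Subgroup G)).Hom P) : IsSimpleGroup G := by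
  obtain ⟨-, hS1, hnor⟩ := hsimple
  have : Nontrivial G := by
    by_contra h
    rw [not_nontrivial_iff_subsingleton] at h
    exact hS1 (Subgroup.eq_bot_of_subsingleton _)
  refine ⟨fun N hN => ?_⟩
  by_contra hne
  push Not at hne
  obtain ⟨hN1, hN2⟩ := hne
  rcases hnor _ _ (group_normal_subsystem S N) with h | ⟨h, hmaps⟩
  · refine hN1 (le_bot_iff.mp (hcore ▸ CfsgLib.Base.le_pPrimeCore ?_))
    by_contra hc
    have hdvd : p ∣ Nat.card N := by
      by_contra hd
      exact hc ((Nat.Prime.coprime_iff_not_dvd Fact.out).mpr hd).symm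
    obtain ⟨x, hx⟩ := exists_prime_orderOf_dvd_card' p hdvd
    have hxp : IsPGroup p (Subgroup.zpowers (x : G)) := IsPGroup.of_card (n := 1) (by
      rw [Nat.card_zpowers, pow_one, Subgroup.orderOf_coe, hx])
    obtain ⟨T, hT⟩ := hxp.exists_le_sylow
    obtain ⟨g, hg⟩ := MulAction.exists_smul_eq G T S
    have hm : g * (x : G) * g⁻¹ ∈ (S : Subgroup G) ⊓ N := by
      refine ⟨?_, hN.conj_mem _ x.2 g⟩
      rw [← hg]
      exact ⟨x, hT (Subgroup.mem_zpowers _), rfl⟩
    rw [h, Subgroup.mem_bot, mul_inv_eq_one, mul_eq_left] at hm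
    rw [show x = 1 from Subtype.ext hm, orderOf_one] at hx
    exact (Fact.out : p.Prime).ne_one hx.symm
  · have hSN : (S : Subgroup G) ≤ N := inf_eq_left.mp h
    obtain ⟨P, hP⟩ := hmin N hSN hN2
    refine hP ((hmaps P).symm.trans ?_).symm
    ext φ
    show (P ≤ (S : Subgroup G) ⊓ N ∧ (∀ x : P, φ x ∈ (S : Subgroup G) ⊓ N) ∧ _) ↔
      (P ≤ (S : Subgroup G) ∧ (∀ x : P, φ x ∈ (S : Subgroup G)) ∧ _)
    rw [h]

end Cfsg.Agent.S5336
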