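import Cfsg.Statements.S5337
import Cfsg.Agent.Lib.Fusion.Criteria
-- import your own Cfsg.Agent.* helpers here

set_option autoImplicit false
open Cfsg

namespace Cfsg.Agent.S5337

open Cfsg Cfsg.FusionSystem CfsgLib.Fusion


/-- Let F be a saturated fusion system over a finite abelian p-group S. Then F is simple if and only if S has order p and F is the inner system of S (whose only maps are the inclusions, S being abelian). -/
theorem result {Ω : Type*} [Group Ω] {S : Subgroup Ω} [Finite S] (p : ℕ) [Fact p.Prime] (hS : IsPGroup p S) (F : Cfsg.FusionSystem S) (hF : F.IsSaturated p) (hab : ∀ x ∈ S, ∀ y ∈ S, x * y = y * x) : F.IsSimple p ↔ (Nat.card S = p ∧ ∀ P : Subgroup Ω, F.Hom P = (Cfsg.innerFusionSystem S).Hom P) := by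
  constructor
  · rintro ⟨-, hne, hsimple⟩
    have hinner : ∀ R : Subgroup Ω, F.StronglyClosed R →
        (innerFusionSystem R).IsNormalIn F p := by
      intro R hR
      have hRS := hR.1
      have : Finite R := finite_of_le hRS
      have hRn : F.IsNormal R := isNormal_of_abelian hS hF hR
        fun x hx y hy => hab x (hRS hx) y (hRS hy)
      have hid : ∀ (P : Subgroup Ω) (φ : P →* Ω), φ ∈ (innerFusionSystem R).Hom P →
          ∀ x : P, φ x = x := by
        rintro P φ ⟨hP, g, hg, e⟩ x
        rw [e, hab g (hRS hg) x (hRS (hP x.2)), mul_inv_cancel_right]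
      refine ⟨⟨inner_isSaturated (isPGroup_of_le hRS hS), hF, ?_, hR, ?_, ?_⟩, ?_⟩
      · rintro P φ ⟨hP, g, hg, e⟩
        exact (isMor_cj F (hP.trans hRS) (hRS hg)).mem_hom e
      · intro P hPR φ hφ α hα
        refine ⟨((P.subgroupOf R).map (R.subtype.comp α.toMonoidHom)).subtype, ⟨?_, 1, R.one_mem,
          fun x => by show (x : Ω) = 1 * x * 1⁻¹; simp⟩, fun x hx hαx => ?_⟩
        · rintro _ ⟨x, -, rfl⟩
          exact (α x).2
        · show ((α ⟨x, hPR x.2⟩ : R) : Ω) = _
          congr 3
          exact (hid P φ hφ x).symm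
      · intro P hPR φ hφ
        obtain ⟨α, hα, hαe⟩ := exists_aut_of_isNormal hRn (isMor_of_mem hφ) hPR
        refine ⟨α, hα, P.subtype, ⟨hPR, 1, R.one_mem, fun x => by show (x : Ω) = 1 * x * 1⁻¹; simp⟩, fun x hx => ?_⟩
        rw [← toFun_coe φ, ← hαe x x.2, ← autFun_coe]
        rfl
      · intro α hα
        refine ⟨1, Subgroup.one_mem _, fun x => ?_, fun c hc => by simp⟩
        have := hid R _ ((isMor_autFun le_rfl hα).mem_hom
          (φ := R.subtype.comp α.toMonoidHom) fun z => (autFun_coe α z).symm) x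
        exact this.symm
    have hSc : F.StronglyClosed S := stronglyClosed_iff.mpr ⟨le_rfl, fun P f hf x hx _ => hf.mem hx⟩
    have heq : ∀ P : Subgroup Ω, F.Hom P = (innerFusionSystem S).Hom P := by
      rcases hsimple S _ (hinner S hSc) with h | ⟨-, h⟩
      exacts [absurd h hne, fun P => (h P).symm]
    refine ⟨?_, heq⟩
    have hclosed : ∀ R, R ≤ S → F.StronglyClosed R := fun R hR => ⟨hR, fun P hP φ hφ x => by
      rw [heq] at hφ
      obtain ⟨hPS, g, hg, e⟩ := hφ
      rw [e, hab g hg x (hPS x.2), mul_inv_cancel_right]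
      exact hP x.2⟩
    have hdiv : p ∣ Nat.card S := by
      obtain ⟨k, hk⟩ := IsPGroup.iff_card.mp hS
      rcases k with _ | k
      · exact absurd (Subgroup.card_eq_one.mp (by simpa using hk)) hne
      · exact hk ▸ dvd_pow_self p k.succ_ne_zero
    obtain ⟨x, hx⟩ := exists_prime_orderOf_dvd_card' p hdiv
    have hxo : orderOf (x : Ω) = p := (Subgroup.orderOf_coe x).trans hx
    rcases hsimple _ _ (hinner _ (hclosed _ (Subgroup.zpowers_le.mpr x.2))) with h | ⟨h, -⟩
    · have hone : (x : Ω) = 1 := Subgroup.zpowers_eq_bot.mp h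
      rw [hone, orderOf_one] at hxo
      exact absurd hxo.symm (Fact.out : p.Prime).ne_one
    · rw [← h, Nat.card_zpowers, hxo]
  · rintro ⟨hcard, heq⟩
    refine ⟨hF, fun h => ?_, fun T E hE => ?_⟩
    · rw [h, Subgroup.card_bot] at hcard
      exact (Fact.out : p.Prime).ne_one hcard.symm
    have hTS : T ≤ S := hE.1.2.2.2.1.1
    have : Finite T := finite_of_le hTS
    rcases (Nat.dvd_prime (Fact.out : p.Prime)).mp (hcard ▸ Subgroup.card_dvd_of_le hTS) with h | h
    · exact Or.inl (Subgroup.card_eq_one.mp h)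
    · obtain rfl : T = S := eq_of_le_of_card le_rfl hTS (by rw [h, hcard])
      refine Or.inr ⟨rfl, fun P => (hE.1.2.2.1 P).antisymm ?_⟩
      rw [heq]
      exact inner_isSubsystemOf E P

end Cfsg.Agent.S5337
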