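import Cfsg.Statements.S5339
import Cfsg.Agent.Lib.Fusion.Aut
-- import your own Cfsg.Agent.* helpers here

set_option autoImplicit false
open Cfsg

namespace Cfsg.Agent.S5339

open Cfsg Cfsg.FusionSystem CfsgLib.Fusion


/-- Let F be a saturated fusion system over a nontrivial finite p-group S such that Aut_F(S) consists of inner automorphisms only and S has no strongly closed subgroup other than 1 and S. Then F is simple. -/
theorem result {Ω : Type*} [Group Ω] {S : Subgroup Ω} [Finite S] (p : ℕ) [Fact p.Prime] (hS : IsPGroup p S) (F : Cfsg.FusionSystem S) (hF : F.IsSaturated p) (hS1 : S ≠ ⊥) (htop : F.autGroup S = Cfsg.Inn ↥S) (hsc : ∀ T : Subgroup Ω, F.StronglyClosed T → T = ⊥ ∨ T = S) : F.IsSimple p := by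
  refine ⟨hF, hS1, fun T E hE => ?_⟩
  obtain ⟨-, -, hsub, hTc, -, hfrat⟩ := hE.1
  rcases hsc T hTc with h | h
  · exact Or.inl h
  subst h
  refine Or.inr ⟨rfl, fun P => Set.Subset.antisymm (hsub P) fun φ hφ => ?_⟩
  obtain ⟨α, hα, φ₀, hφ₀, e⟩ := hfrat P (F.le_of_mem hφ).1 φ hφ
  rw [htop] at hα
  obtain ⟨g, hg, he⟩ := mem_inn.mp hα
  have h0 := isMor_of_mem (F := E) hφ₀
  refine (h0.comp (isMor_cj E le_rfl hg) fun x hx => h0.mem hx).mem_hom fun x => ?_
  have hx0 : φ₀ x ∈ T := (E.le_of_mem hφ₀).2 x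
  show φ x = cj g (toFun φ₀ x)
  rw [toFun_coe, e x hx0, ← he _ hx0, autFun_of_mem α hx0]

end Cfsg.Agent.S5339
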