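import Cfsg.Statements.S5340
import Cfsg.Agent.Lib.Fusion.Aut
-- import your own Cfsg.Agent.* helpers here

set_option autoImplicit false
open Cfsg

namespace Cfsg.Agent.S5340

open Cfsg Cfsg.FusionSystem CfsgLib.Fusion


/-- Let F be a saturated fusion system over a nontrivial finite p-group S such that S is generated by its elements of order p, any two subgroups of S of order p are F-conjugate, and Aut_F(S) consists of inner automorphisms only. Then F is simple. -/
theorem result {Ω : Type*} [Group Ω] {S : Subgroup Ω} [Finite S] (p : ℕ) [Fact p.Prime] (hS : IsPGroup p S) (F : Cfsg.FusionSystem S) (hF : F.IsSaturated p) (hS1 : S ≠ ⊥) (hgen : Subgroup.closure {x : Ω | x ∈ S ∧ orderOf x = p} = S) (htr : ∀ A B : Subgroup Ω, A ≤ S → B ≤ S → Nat.card A = p → Nat.card B = p → F.IsConj A B) (htop : F.autGroup S = Cfsg.Inn ↥S) : F.IsSimple p := by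
  refine ⟨hF, hS1, fun T E hE => ?_⟩
  obtain ⟨-, -, hsub, hTc, -, hfrat⟩ := hE.1
  have hsc : T = ⊥ ∨ T = S := by
    refine or_iff_not_imp_left.mpr fun hT => le_antisymm hTc.1 (hgen.symm.le.trans ?_)
    rw [Subgroup.closure_le]
    rintro x ⟨hxS, hx⟩
    have := finite_of_le hTc.1
    obtain ⟨k, hk⟩ := IsPGroup.iff_card.mp (hS.of_injective _ (Subgroup.inclusion_injective hTc.1))
    have hk0 : k ≠ 0 := fun e => hT (Subgroup.card_eq_one.mp (by rw [hk, e, pow_zero]))
    obtain ⟨⟨y, hyT⟩, hy⟩ := exists_prime_orderOf_dvd_card' p (hk ▸ dvd_pow_self p hk0)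
    rw [Subgroup.orderOf_mk] at hy
    obtain ⟨f, hf, hfi⟩ := isConj_iff.mp (htr (Subgroup.zpowers y) (Subgroup.zpowers x)
      (Subgroup.zpowers_le.mpr (hTc.1 hyT)) (Subgroup.zpowers_le.mpr hxS)
      (by rw [Nat.card_zpowers, hy]) (by rw [Nat.card_zpowers, hx]))
    obtain ⟨z, hz, rfl⟩ := hf.mem_img.mp (hfi.ge (Subgroup.mem_zpowers x))
    exact (stronglyClosed_iff.mp hTc).2 _ _ hf z hz (Subgroup.zpowers_le.mpr hyT hz)
  rcases hsc with h | h
  · exact Or.inl h
  subst h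
  refine Or.inr ⟨rfl, fun P => Set.Subset.antisymm (hsub P) fun φ hφ => ?_⟩
  obtain ⟨α, hα, φ₀, hφ₀, e⟩ := hfrat P (F.le_of_mem hφ).1 φ hφ
  rw [htop] at hα
  obtain ⟨g, hg, he⟩ := mem_inn.mp hα
  have h0 := isMor_of_mem (F := E) hφ₀
  refine (h0.comp (isMor_cj E le_rfl hg) fun x hx => h0.mem hx).mem_hom fun x => ?_
  have hx0 : φ₀ x ∈ T := (E.le_of_mem hφ₀).2 x
  show φ x = cj g (toFun φ₀ x)
  rw [toFun_coe, e x hx0, ← he _ hx0, autFun_of_mem α hx0]

end Cfsg.Agent.S5340
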