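import Cfsg.Statements.S5343
import Cfsg.Agent.Lib.Fusion.IsoNormal
import Cfsg.Agent.Lib.Fusion.GroupNormal
-- import your own Cfsg.Agent.* helpers here

set_option autoImplicit false
universe u
open Cfsg Cfsg.FusionSystem CfsgLib.Fusion

namespace Cfsg.Agent.S5343

/-- A realization is an isomorphism onto the system of the group. -/
theorem isIso_of_realized {Ω : Type*} [Group Ω] {S : Subgroup Ω} {F : Cfsg.FusionSystem S}
    {G : Type*} [Group G] {ι : ↥S →* G} (h : F.IsRealizedBy ι) {θ : Ω → G}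
    (hθ : ∀ x : S, θ x = ι x) {T : Subgroup G} (hT : T = ι.range) :
    IsIso F θ (Cfsg.groupFusionSystem T) := by
  subst hT
  have hmul : ∀ x ∈ S, ∀ y ∈ S, θ (x * y) = θ x * θ y := fun x hx y hy => by
    rw [hθ ⟨x, hx⟩, hθ ⟨y, hy⟩, hθ ⟨x * y, S.mul_mem hx hy⟩, ← map_mul]
    rfl
  refine ⟨hmul, fun x hx y hy e => ?_, ?_, fun P f hf => ?_, fun P hP f' hf' => ?_⟩
  · rw [hθ ⟨x, hx⟩, hθ ⟨y, hy⟩] at e
    exact congrArg Subtype.val (h.1 e)
  · ext y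
    rw [mem_imgT_iff hmul le_rfl]
    exact ⟨fun ⟨x, hx, e⟩ => ⟨⟨x, hx⟩, (hθ ⟨x, hx⟩).symm.trans e⟩,
      fun ⟨x, e⟩ => ⟨x, x.2, (hθ x).trans e⟩⟩
  · obtain ⟨φ, hφ, hφf⟩ := id hf
    have hφS : ∀ x : P, φ x ∈ S := (F.le_of_mem hφ).2
    obtain ⟨g, hg⟩ := (h.2 P hf.le φ hφS).mp hφ
    refine ⟨cj g, isMor_group.mpr ⟨?_, ?_, g, fun _ _ => rfl⟩, fun x hx => ?_⟩
    · exact imgT_le fun x hx => ⟨⟨x, hf.le hx⟩, (hθ ⟨x, hf.le hx⟩).symm⟩
    · intro y hy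
      obtain ⟨x, hx, rfl⟩ := (mem_imgT_iff hmul hf.le).mp hy
      refine ⟨⟨φ ⟨x, hx⟩, hφS _⟩, ?_⟩
      rw [hg ⟨x, hx⟩, cj_apply, hθ ⟨x, hf.le hx⟩]
    · rw [cj_apply, hθ ⟨x, hf.le hx⟩, hθ ⟨f x, hf.mem hx⟩]
      refine (hg ⟨x, hx⟩).symm.trans ?_
      exact congrArg ι (Subtype.ext (hφf ⟨x, hx⟩))
  · obtain ⟨-, hval, g, hg⟩ := isMor_group.mp hf'
    have hex : ∀ x : P, ∃ z : S, ι z = g * ι ⟨x, hP x.2⟩ * g⁻¹ := fun x => by
      obtain ⟨z, hz⟩ := hval _ (mem_imgT_of_mem θ x.2)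
      exact ⟨z, by rw [hz, hg _ (mem_imgT_of_mem θ x.2), cj_apply, hθ ⟨x, hP x.2⟩]⟩
    choose z hz using hex
    let φ : P →* Ω := MonoidHom.mk' (fun x => (z x : Ω)) fun a b => by
      have : z (a * b) = z a * z b := h.1 (by
        rw [map_mul, hz, hz, hz,
          show (⟨((a * b : P) : Ω), hP (a * b).2⟩ : S) = ⟨(a : Ω), hP a.2⟩ * ⟨(b : Ω), hP b.2⟩ from rfl,
          map_mul]
        group)
      exact congrArg Subtype.val this
    have hφ : φ ∈ F.Hom P := (h.2 P hP φ fun x => (z x).2).mpr ⟨g, fun x => hz x⟩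
    refine ⟨toFun φ, isMor_of_mem hφ, fun x hx => ?_⟩
    rw [hg _ (mem_imgT_of_mem θ hx), cj_apply, hθ ⟨x, hP hx⟩, toFun_of_mem φ hx]
    exact (hz ⟨x, hx⟩).symm.trans (hθ (z ⟨x, hx⟩)).symm

/-- An isomorphism onto the system of a group is a realization. -/
theorem realized_of_isIso {Ω : Type*} [Group Ω] {S : Subgroup Ω} {F : Cfsg.FusionSystem S}
    {G : Type*} [Group G] {θ : Ω → G} {T : Subgroup G}
    (h : IsIso F θ (Cfsg.groupFusionSystem T)) :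
    F.IsRealizedBy (homOn h.map_mul) ∧ T = (homOn h.map_mul).range := by
  refine ⟨⟨fun a b e => Subtype.ext (h.inj a.2 b.2 e), fun P hP φ hφS => ⟨fun hφ => ?_, ?_⟩⟩, ?_⟩
  · obtain ⟨f', hf', e⟩ := h.push P _ (isMor_of_mem hφ)
    obtain ⟨-, -, g, hg⟩ := isMor_group.mp hf'
    refine ⟨g, fun x => ?_⟩
    show θ (φ x) = g * θ x * g⁻¹
    rw [← cj_apply, ← hg _ (mem_imgT_of_mem θ x.2), e x x.2, toFun_coe]
  · rintro ⟨g, hg⟩
    have hval : ∀ y ∈ imgT P θ, cj g y ∈ T := fun y hy => by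
      obtain ⟨x, hx, rfl⟩ := (mem_imgT_iff h.map_mul hP).mp hy
      have := hg ⟨x, hx⟩
      rw [cj_apply, show g * θ x * g⁻¹ = θ (φ ⟨x, hx⟩) from this.symm]
      exact h.mem (hφS _)
    obtain ⟨f, hf, e⟩ := h.pull P hP (cj g)
      (isMor_group.mpr ⟨h.le hP, hval, g, fun _ _ => rfl⟩)
    refine hf.mem_hom fun x => h.inj (hφS x) (hf.mem x.2) ?_
    rw [← e x x.2, cj_apply]
    exact hg x
  · ext y
    exact ⟨fun hy => let ⟨x, hx, e⟩ := h.surj hy; ⟨⟨x, hx⟩, e⟩, fun ⟨x, e⟩ => e ▸ h.mem x.2⟩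

/-- Let F be a simple saturated fusion system over a finite p-group S that is realized by some finite group on a Sylow p-subgroup. Then F is realized by a finite simple group on a Sylow p-subgroup. -/
theorem result {Ω : Type u} [Group Ω] {S : Subgroup Ω} [Finite S] (p : ℕ) [Fact p.Prime] (hS : IsPGroup p S) (F : Cfsg.FusionSystem S) (hsimple : F.IsSimple p) (hreal : F.IsRealizable p) : ∃ (G : Type u) (_ : Group G) (_ : Finite G) (_ : IsSimpleGroup G) (ι : ↥S →* G), F.IsRealizedBy ι ∧ ∃ T : Sylow p G, (T : Subgroup G) = ι.range := by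
  classical
  obtain ⟨G₀, hG₀, hG₀f, ι₀, hι₀, T₀, hT₀⟩ := hreal
  let Cand : ℕ → Prop := fun n => ∃ (G : Type u) (_ : Group G) (_ : Finite G) (ι : ↥S →* G),
    F.IsRealizedBy ι ∧ (∃ T : Sylow p G, (T : Subgroup G) = ι.range) ∧ Nat.card G = n
  have hex : ∃ n, Cand n := ⟨_, G₀, hG₀, hG₀f, ι₀, hι₀, ⟨T₀, hT₀⟩, rfl⟩
  obtain ⟨G, hG, hGf, ι, hι, ⟨T, hT⟩, hcard⟩ := Nat.find_spec hex
  have hmin : ∀ n, Cand n → Nat.card G ≤ n := fun n hn => hcard ▸ Nat.find_min' hex hn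
  obtain ⟨hFs, hne, -⟩ := id hsimple
  let θ : Ω → G := fun x => if h : x ∈ S then ι ⟨x, h⟩ else 1
  have hθ : ∀ x : S, θ x = ι x := fun x => dif_pos x.2
  have hiso := isIso_of_realized hι hθ hT
  have hGs := hiso.isSimple hS hsimple
  have : Nontrivial G := by
    obtain ⟨s, hs⟩ := Subgroup.ne_bot_iff_exists_ne_one.mp hne
    exact ⟨ι s, 1, fun e => hs (hι.1 (e.trans (map_one ι).symm))⟩
  refine ⟨G, hG, hGf, ⟨fun N hN => ?_⟩, ι, hι, T, hT⟩
  by_contra hcon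
  push Not at hcon
  obtain ⟨hNb, hNt⟩ := hcon
  have : N.Normal := hN
  rcases hGs.2.2 _ _ (group_normal_subsystem T N) with h1 | ⟨h1, h2⟩
  · -- the quotient realizes `F`
    set π := QuotientGroup.mk' N
    have hπ := group_factorSystem T N
    rw [h1] at hπ
    let θ' : G → G ⧸ N := π
    have hq : IsIso (Cfsg.groupFusionSystem (T : Subgroup G)) θ'
        (Cfsg.groupFusionSystem ((T : Subgroup G).map π)) := isIso_of_factor hπ fun _ => rfl
    obtain ⟨hr, hrT⟩ := realized_of_isIso (hiso.trans hq)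
    have hle := hmin _ ⟨G ⧸ N, inferInstance, inferInstance, _, hr,
      ⟨T.mapSurjective (QuotientGroup.mk'_surjective N), hrT⟩, rfl⟩
    have h2 : 2 ≤ Nat.card N := Finite.one_lt_card_iff_nontrivial.mpr
      ((Subgroup.nontrivial_iff_ne_bot N).mpr hNb)
    have h3 := N.card_eq_card_quotient_mul_card_subgroup
    have h4 : 0 < Nat.card (G ⧸ N) := Nat.card_pos
    nlinarith
  · -- `N` realizes `F`
    have hιN : ∀ s : S, ι s ∈ N := fun s => by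
      have : ι s ∈ (T : Subgroup G) := hT ▸ ⟨s, rfl⟩
      rw [← h1] at this
      exact this.2
    have hr : F.IsRealizedBy (ι.codRestrict N hιN) := by
      refine ⟨fun a b e => hι.1 (congrArg Subtype.val e), fun P hP φ hφS => ⟨fun hφ => ?_, ?_⟩⟩
      · obtain ⟨f', hf', e⟩ := hiso.push P _ (isMor_of_mem hφ)
        obtain ⟨-, -, g, hgN, hg⟩ := isMor_fusionSystemOfSubgroup.mp
          ((hom_eq_iff.mp (h2 _) f').mpr hf')
        refine ⟨⟨g, hgN⟩, fun x => Subtype.ext ?_⟩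
        show ι ⟨φ x, hφS x⟩ = g * ι ⟨x, hP x.2⟩ * g⁻¹
        rw [← hθ, ← hθ, ← cj_apply, ← hg _ (mem_imgT_of_mem θ x.2), e x x.2, toFun_coe]
      · rintro ⟨g, hg⟩
        exact (hι.2 P hP φ hφS).mpr ⟨g, fun x => congrArg Subtype.val (hg x)⟩
    have hrT : (ι.codRestrict N hιN).range = (T : Subgroup G).subgroupOf N := by
      ext y
      rw [Subgroup.mem_subgroupOf, hT]
      exact ⟨fun ⟨x, e⟩ => ⟨x, congrArg Subtype.val e⟩, fun ⟨x, e⟩ => ⟨x, Subtype.ext e⟩⟩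
    have hTN : (T : Subgroup G) ≤ N := h1 ▸ inf_le_right
    have hle := hmin _ ⟨N, inferInstance, inferInstance, _, hr, ⟨T.subtype hTN, by rw [hrT]; rfl⟩, rfl⟩
    exact hNt (Subgroup.eq_top_of_card_eq N
      (le_antisymm (Subgroup.card_le_card_group N) hle))

end Cfsg.Agent.S5343
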