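import Cfsg.Statements.S5345
import Cfsg.Agent.Lib.ThreeTransp.Basic

set_option autoImplicit false
open Cfsg

open CfsgLib.ThreeTransp

namespace Cfsg.Agent.S5345

/-- Let D be a conjugation-invariant generating set of 3-transpositions of a finite group G and T a Sylow 2-subgroup of G. Then the members of D lying in T generate an abelian subgroup, and their number is the width of D (the largest number of pairwise commuting members of D). -/
theorem result {G : Type*} [Group G] [Finite G] {D : Set G} (hD : Cfsg.IsThreeTranspositionGroup D) (T : Sylow 2 G) : IsMulCommutative (Subgroup.closure {d : G | d ∈ D ∧ d ∈ T}) ∧ {d : G | d ∈ D ∧ d ∈ T}.ncard = Cfsg.commutingWidth D := by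
  obtain ⟨hset, hconj, -⟩ := hD
  have hcomm : ∀ a ∈ {d : G | d ∈ D ∧ d ∈ T}, ∀ b ∈ {d : G | d ∈ D ∧ d ∈ T}, a * b = b * a :=
    fun a ha b hb => (ts_commute_of_mem_pgroup hset ha.1 hb.1 T.isPGroup' ha.2 hb.2).eq
  refine ⟨Subgroup.isMulCommutative_closure hcomm, ?_⟩
  refine (IsGreatest.csSup_eq ⟨?_, ?_⟩).symm
  · exact ⟨_, fun a ha => ha.1, Set.toFinite _, hcomm, rfl⟩
  · rintro n ⟨E, hED, hE, hEc, rfl⟩
    have hp : IsPGroup 2 (Subgroup.closure E) := by
      have hle : Subgroup.closure E ≤ Subgroup.centralizer (Subgroup.closure E : Set G) := by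
        rw [Subgroup.closure_le]
        intro a ha
        rw [SetLike.mem_coe, Subgroup.mem_centralizer_iff]
        intro x hx
        refine Subgroup.closure_induction (fun y hy => (hEc y hy a ha).eq) (by simp) ?_ ?_ hx
        · intro u v _ _ hu hv
          exact ((show Commute u a from hu).mul_left hv).eq
        · intro u _ hu
          exact ((show Commute u a from hu).inv_left).eq
      intro ⟨x, hx⟩
      refine ⟨1, Subtype.ext ?_⟩
      show x ^ 2 ^ 1 = 1
      rw [pow_one, pow_two]
      refine Subgroup.closure_induction (fun y hy => ts_mul_self hset (hED hy)) (by simp) ?_ ?_ hx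
      · intro u v hu hv h1 h2
        have hc : u * v = v * u := (Subgroup.mem_centralizer_iff.1 (hle hv) u hu)
        calc u * v * (u * v) = u * (v * u) * v := by simp [mul_assoc]
          _ = u * u * (v * v) := by rw [← hc]; simp [mul_assoc]
          _ = 1 := by rw [h1, h2, one_mul]
      · intro u _ h1
        rw [← mul_inv_rev, h1, inv_one]
    obtain ⟨S, hS⟩ := hp.exists_le_sylow
    obtain ⟨g, hg⟩ := MulAction.exists_smul_eq G S T
    refine Set.ncard_le_ncard_of_injOn (fun x => g * x * g⁻¹) (fun x hx => ?_)
      (fun x _ y _ h => by simpa using h) (Set.toFinite _)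
    refine ⟨hconj g x (hED hx), ?_⟩
    rw [← hg]
    exact ⟨x, hS (Subgroup.subset_closure hx), rfl⟩

end Cfsg.Agent.S5345
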