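import Cfsg.Statements.S5347
import Cfsg.Agent.Lib.ThreeTransp.Basic

set_option autoImplicit false
open Cfsg

open CfsgLib.ThreeTransp

namespace Cfsg.Agent.S5347

/-- Let D be a conjugation-invariant generating set of 3-transpositions of a finite group G, p a prime bigger than 3, and P a p-subgroup of G. If a member d of D normalizes P then d centralizes P. -/
theorem result {G : Type*} [Group G] [Finite G] {D : Set G} (hD : Cfsg.IsThreeTranspositionGroup D) {p : ℕ} (hp : p.Prime) (hp3 : 3 < p) (P : Subgroup G) (hP : IsPGroup p P) {d : G} (hd : d ∈ D) (hnorm : d ∈ Subgroup.normalizer (P : Set G)) : ∀ x ∈ P, Commute d x := by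
  intro x hx
  obtain ⟨hset, hconj, -⟩ := hD
  have h1 : d * x * d⁻¹ ∈ P := (Subgroup.mem_normalizer_iff.1 hnorm x).1 hx
  have hy : d * (x * d * x⁻¹) ∈ P := by
    have h2 := mul_mem h1 (inv_mem hx)
    rw [ts_inv hset hd] at h2
    simpa [mul_assoc] using h2
  obtain ⟨n, hn⟩ := hP ⟨_, hy⟩
  have hn' : (d * (x * d * x⁻¹)) ^ p ^ n = 1 := by simpa using congrArg Subtype.val hn
  have hord : ∀ m : ℕ, m.Coprime p → (d * (x * d * x⁻¹)) ^ m = 1 → d * (x * d * x⁻¹) = 1 := by
    intro m hm h
    have h4 := Nat.dvd_gcd (orderOf_dvd_of_pow_eq_one h) (orderOf_dvd_of_pow_eq_one hn')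
    rwa [Nat.Coprime.gcd_eq_one (Nat.Coprime.pow_right n hm), Nat.dvd_one,
      orderOf_eq_one_iff] at h4
  have key : d * (x * d * x⁻¹) = 1 := by
    rcases hset.2 d hd _ (hconj x d hd) with h | h
    · exact hord 2 ((Nat.coprime_primes Nat.prime_two hp).2 (by omega)) h
    · exact hord 3 ((Nat.coprime_primes Nat.prime_three hp).2 (by omega)) h
  have h3 : x * d * x⁻¹ = d := by
    have := inv_eq_of_mul_eq_one_right key
    rw [ts_inv hset hd] at this
    exact this.symm
  show d * x = x * d
  rwa [mul_inv_eq_iff_eq_mul, eq_comm] at h3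

end Cfsg.Agent.S5347
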