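import Cfsg.Statements.S5358

set_option autoImplicit false
open scoped MatrixGroups
open Cfsg

namespace Cfsg.Agent.S5358

/-- Let Q be a non-degenerate quadratic form on the n-dimensional coordinate space over the field with three elements and u, v vectors of the same non-zero norm Q(u) = Q(v) spanning different lines (v ≠ u and v ≠ −u). Then the reflection matrices of u and v commute if and only if u and v are orthogonal for the polar form of Q. -/
theorem result (n : ℕ) (Q : QuadraticForm (ZMod 3) (Fin n → ZMod 3)) (hQ : (QuadraticMap.polarBilin Q).Nondegenerate) (u v : Fin n → ZMod 3) (hu : Q u ≠ 0) (huv : Q u = Q v) (h1 : v ≠ u) (h2 : v ≠ -u) : Commute (Cfsg.reflectionMatrix (⇑Q) u) (Cfsg.reflectionMatrix (⇑Q) v) ↔ QuadraticMap.polar (⇑Q) u v = 0 := by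
  set P := QuadraticMap.polarBilin Q with hP
  have hdot : ∀ (a x : Fin n → ZMod 3), dotProduct (Cfsg.polarVec (⇑Q) a) x = P a x := by
    intro a x
    have hx : x = ∑ j, x j • (Pi.single j 1 : Fin n → ZMod 3) := by
      ext i; simp [Finset.sum_apply, Pi.single_apply]
    conv_rhs => rw [hx, map_sum]
    simp only [dotProduct, Cfsg.polarVec, map_smul, smul_eq_mul, hP, QuadraticMap.polarBilin_apply_apply]
    exact Finset.sum_congr rfl fun j _ => mul_comm _ _
  have happ : ∀ (a x : Fin n → ZMod 3), (Cfsg.reflectionMatrix (⇑Q) a).mulVec x = x - ((Q a)⁻¹ * P a x) • a := by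
    intro a x
    ext i
    simp [Cfsg.reflectionMatrix, Matrix.sub_mulVec, Matrix.smul_mulVec, Matrix.vecMulVec_mulVec,
      hdot, mul_comm, mul_left_comm]
  have hsym : ∀ a x, P a x = P x a := fun a x => by
    simp only [hP, QuadraticMap.polarBilin_apply_apply]; exact QuadraticMap.polar_comm _ _ _
  have hprod : ∀ a b x, (Cfsg.reflectionMatrix (⇑Q) a * Cfsg.reflectionMatrix (⇑Q) b).mulVec x =
      x - ((Q b)⁻¹ * P b x) • b - ((Q a)⁻¹ * (P a x - (Q b)⁻¹ * P b x * P a b)) • a := by
    intro a b x
    rw [← Matrix.mulVec_mulVec, happ b, happ a, map_sub, map_smul, smul_eq_mul]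
  constructor
  · intro h
    by_contra hne
    have hne' : P u v ≠ 0 := by simpa [hP] using hne
    have hli : ∀ k : ZMod 3, v ≠ k • u := by
      intro k hk
      have hk3 : k = 0 ∨ k = 1 ∨ k = -1 :=
        (by decide : ∀ k : ZMod 3, k = 0 ∨ k = 1 ∨ k = -1) k
      rcases hk3 with rfl | rfl | rfl
      · rw [zero_smul] at hk
        exact hu (by rw [huv, hk, QuadraticMap.map_zero])
      · exact h1 (by simpa using hk)
      · exact h2 (by simpa using hk)
    -- evaluate at a vector orthogonal to `v` and not to `u`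
    have hcomm : ∀ x, ((Q v)⁻¹ * (Q u)⁻¹ * P v x * P u v) • u = ((Q u)⁻¹ * (Q v)⁻¹ * P u x * P v u) • v := by
      intro x
      have h0 := congrArg (fun M => Matrix.mulVec M x) h.eq
      simp only [hprod] at h0
      have : ((Q v)⁻¹ * (Q u)⁻¹ * P v x * P u v) • u - ((Q u)⁻¹ * (Q v)⁻¹ * P u x * P v u) • v = 0 := by
        rw [← sub_eq_zero] at h0
        rw [← h0]
        module
      exact sub_eq_zero.1 this
    have hkey := hcomm u
    by_cases hz : P u u = 0
    · -- then `2 Q u = 0`
      apply hu
      have h2 : P u u = 2 * Q u := by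
        simp [hP, QuadraticMap.polar_self]
      rw [h2] at hz
      rcases mul_eq_zero.1 hz with h3 | h3
      · exact absurd h3 (by decide)
      · exact h3
    · have hcoef : ((Q u)⁻¹ * (Q v)⁻¹ * P u u * P v u) ≠ 0 := by
        refine mul_ne_zero (mul_ne_zero (mul_ne_zero (inv_ne_zero hu) (inv_ne_zero (huv ▸ hu))) hz) ?_
        rwa [hsym]
      refine hli (((Q u)⁻¹ * (Q v)⁻¹ * P u u * P v u)⁻¹ * ((Q v)⁻¹ * (Q u)⁻¹ * P v u * P u v)) ?_
      rw [mul_smul, hkey, inv_smul_smul₀ hcoef]
  · intro h
    have h0 : P u v = 0 := by simpa [hP] using h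
    have h0' : P v u = 0 := by rwa [hsym]
    refine Matrix.toLin'.injective (LinearMap.ext fun x => ?_)
    simp only [Matrix.toLin'_apply]
    rw [hprod, hprod, h0, h0']
    module

end Cfsg.Agent.S5358
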