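import Cfsg.Statements.S5363
import Cfsg.Agent.Lib.ThreeTransp.Basic

set_option autoImplicit false
open Cfsg

open CfsgLib.ThreeTransp

namespace Cfsg.Agent.S5363

/-- Let D be a conjugation-invariant set of involutions of a finite group G. Then every product of two members of D has odd order or order 2 if and only if, for every a in D and every b in D different from a and commuting with a, the members of D commuting with a b are exactly those commuting with both a and b. -/
theorem result {G : Type*} [Group G] [Finite G] {D : Set G} (hinv : ∀ d ∈ D, orderOf d = 2) (hconj : ∀ g : G, ∀ d ∈ D, g * d * g⁻¹ ∈ D) : (∀ a ∈ D, ∀ b ∈ D, Odd (orderOf (a * b)) ∨ orderOf (a * b) = 2) ↔ ∀ a ∈ D, ∀ b ∈ D, b ≠ a → Commute a b → {y : G | y ∈ D ∧ Commute (a * b) y} = {y : G | y ∈ D ∧ Commute a y} ∩ {y : G | y ∈ D ∧ Commute b y} := by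
  open CfsgLib.Involutions in
  constructor
  · intro h a ha b hb hba hc
    ext y
    simp only [Set.mem_inter_iff, Set.mem_ofPred_eq]
    refine ⟨fun ⟨hy, hyab⟩ => ?_, fun ⟨⟨hy, hya⟩, _, hyb⟩ => ⟨hy, hya.mul_left hyb⟩⟩
    have hab2 : orderOf (a * b) = 2 := by
      rcases h a ha b hb with ho | ho
      · exfalso
        have h2 := (invol_commute_iff (hinv a ha) (hinv b hb)).1 hc
        have h3 : orderOf (a * b) ∣ 2 := orderOf_dvd_of_pow_eq_one h2
        rcases (Nat.dvd_prime Nat.prime_two).1 h3 with h4 | h4
        · rw [orderOf_eq_one_iff] at h4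
          exact hba (by rw [← invol_inv (hinv a ha), eq_inv_of_mul_eq_one_right h4])
        · rw [h4] at ho; exact absurd ho (by decide)
      · exact ho
    have hya : Commute a y := by
      rw [invol_commute_iff (hinv a ha) (hinv y hy)]
      rcases h a ha y hy with ho | ho
      · have hcab : Commute (a * y) (a * b) := by
          have h1 : Commute (a * b) a := by
            have := (Commute.refl a).mul_left hc.symm
            exact this
          exact (h1.mul_right hyab).symm
        have hyb : y * b = (a * y)⁻¹ * (a * b) := by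
          rw [mul_inv_rev, invol_inv (hinv y hy), invol_inv (hinv a ha)]
          rw [mul_assoc, ← mul_assoc a a, invol_mul_self (hinv a ha), one_mul]
        have hord : orderOf (y * b) = orderOf (a * y) * 2 := by
          rw [hyb, hcab.inv_left.orderOf_mul_eq_mul_orderOf_of_coprime, orderOf_inv, hab2]
          rw [orderOf_inv, hab2]
          exact Nat.Coprime.symm ((Nat.prime_two.coprime_iff_not_dvd).2 ho.not_two_dvd_nat)
        rcases h y hy b hb with ho' | ho'
        · rw [hord] at ho'
          exact absurd ho' (by simp [Nat.odd_mul, show ¬ Odd 2 by decide])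
        · rw [hord] at ho'
          have h1 : orderOf (a * y) = 1 := by omega
          rw [orderOf_eq_one_iff] at h1
          rw [h1, one_pow]
      · rw [← ho]; exact pow_orderOf_eq_one _
    refine ⟨⟨hy, hya⟩, hy, ?_⟩
    have h1 : Commute (a⁻¹ * (a * b)) y := hya.inv_left.mul_left hyab
    rwa [inv_mul_cancel_left] at h1
  · intro h a ha b hb
    rw [or_iff_not_imp_left, Nat.not_odd_iff_even]
    intro hev
    have hinvj : orderOf ((a * b) ^ (orderOf (a * b) / 2)) = 2 := half_invol hev
    have hca := half_comm_left (hinv a ha) (hinv b hb) hev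
    have hcb := half_comm_right (hinv a ha) (hinv b hb) hev
    set j := (a * b) ^ (orderOf (a * b) / 2) with hj
    have hmem : a * j ∈ D := by
      have := refl_mem hconj ha hb (hinv a ha) (hinv b hb) ((orderOf (a * b) / 2 : ℕ) : ℤ)
      rwa [zpow_natCast] at this
    have hne : a * j ≠ a := fun he => invol_ne_one hinvj (mul_eq_left.1 he)
    have hprod : a * (a * j) = j := by
      rw [← mul_assoc, invol_mul_self (hinv a ha), one_mul]
    have hcm : Commute a (a * j) := (Commute.refl a).mul_right hca.symm
    have hb' : b ∈ {y : G | y ∈ D ∧ Commute (a * (a * j)) y} := ⟨hb, by rw [hprod]; exact hcb⟩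
    rw [h a ha (a * j) hmem hne hcm] at hb'
    have hab := (invol_commute_iff (hinv a ha) (hinv b hb)).1 hb'.1.2
    rcases (Nat.dvd_prime Nat.prime_two).1 (orderOf_dvd_of_pow_eq_one hab) with h1 | h1
    · rw [h1] at hev; exact absurd hev (by decide)
    · exact h1

end Cfsg.Agent.S5363
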