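import Cfsg.Statements.S5364
import Cfsg.Agent.Lib.ThreeTransp.Basic

set_option autoImplicit false
open Cfsg

open CfsgLib.ThreeTransp

namespace Cfsg.Agent.S5364

/-- Let D be a conjugation-invariant set of involutions of a finite group G and t an involution in the centre of G such that d t does not lie in D for any d in D. If the images of the members of D in G modulo the subgroup generated by t satisfy the 3-transposition order conditions (each has order 2 and any two have product of order at most 3), then so do the members of D. -/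
theorem result {G : Type*} [Group G] [Finite G] {D : Set G} (hinv : ∀ d ∈ D, orderOf d = 2) (hconj : ∀ g : G, ∀ d ∈ D, g * d * g⁻¹ ∈ D) (t : G) (ht : orderOf t = 2) (htZ : t ∈ Subgroup.center G) (hDt : ∀ d ∈ D, d * t ∉ D) [(Subgroup.zpowers t).Normal] (himg : Cfsg.IsThreeTranspositionSet ((QuotientGroup.mk : G → G ⧸ Subgroup.zpowers t) '' D)) : Cfsg.IsThreeTranspositionSet D := by
  refine ⟨hinv, fun d hd e he => ?_⟩
  have ht1 : t * t = 1 := CfsgLib.Involutions.invol_mul_self ht
  have hmem : ∀ z : G, z ∈ Subgroup.zpowers t → z = 1 ∨ z = t := by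
    intro z hz
    obtain ⟨n, rfl⟩ := Subgroup.mem_zpowers_iff.1 hz
    rcases Int.even_or_odd n with ⟨i, rfl⟩ | ⟨i, rfl⟩
    · left; rw [← two_mul, zpow_mul, zpow_two, ht1, one_zpow]
    · right; rw [zpow_add, zpow_mul, zpow_two, ht1, one_zpow, one_mul, zpow_one]
  have hq : ∀ n : ℕ,
      ((QuotientGroup.mk d : G ⧸ Subgroup.zpowers t) * QuotientGroup.mk e) ^ n = 1 →
        (d * e) ^ n = 1 := by
    intro n hn
    rw [← QuotientGroup.mk_mul, ← QuotientGroup.mk_pow, QuotientGroup.eq_one_iff] at hn
    refine (hmem _ hn).resolve_right fun htn => hDt d hd ?_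
    have h := refl_mem hconj hd he (hinv d hd) (hinv e he) n
    rwa [zpow_natCast, htn] at h
  rcases himg.2 _ ⟨d, hd, rfl⟩ _ ⟨e, he, rfl⟩ with h | h
  · exact Or.inl (hq 2 h)
  · exact Or.inr (hq 3 h)

end Cfsg.Agent.S5364
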