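import Cfsg.Statements.S5385
import Cfsg.Agent.Lib.Small.ConTwo.Build
import Cfsg.Agent.Lib.Small.ConTwo.FiveJ2

set_option autoImplicit false
set_option maxRecDepth 100000
open Cfsg
open CfsgLib.Small.ConTwo (V8 Cz mem_Cz Five Model Img pt qb bl vadd qb_vadd bl_vadd_left vadd_eq_zero
  trans_pt wperm wperm_apply pi5 pi5_pow exists_img)

namespace Cfsg.Agent.S5385

/-- Coordinates in which the element of order five acts as the fixed map. -/
theorem exists_five {G : Type*} [Group G] [Finite G] {z : G} {Q : Subgroup G}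
    {f : G → CfsgLib.Small.ConTwo.V8}
    {ρ : CfsgLib.Small.ConTwo.Cz z →* Equiv.Perm CfsgLib.Small.ConTwo.V8}
    (M : CfsgLib.Small.ConTwo.Model z Q f ρ) {b0 : G} (hbz : b0 * z = z * b0)
    (ho : orderOf b0 = 5) (h32 : Nat.card (CfsgLib.Small.ConTwo.Five.Qb Q b0) = 32) :
    ∃ (f' : G → CfsgLib.Small.ConTwo.V8)
      (ρ' : CfsgLib.Small.ConTwo.Cz z →* Equiv.Perm CfsgLib.Small.ConTwo.V8) (b : G),
      CfsgLib.Small.ConTwo.Five z Q f' ρ' b ∧
        Subgroup.centralizer ({b} : Set G) = Subgroup.centralizer {b0} := by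
  classical
  haveI : Fact (Nat.Prime 5) := ⟨by norm_num⟩
  have h5 : b0 ^ 5 = 1 := by rw [← ho, pow_orderOf_eq_one]
  have hb1 : b0 ≠ 1 := fun h => by rw [h, orderOf_one] at ho; omega
  -- a singular vector fixed by `b0`
  let F : Finset V8 := Finset.univ.filter fun v => ∃ q ∈ Five.Qb Q b0, f q = v
  have hF : 16 ≤ F.card := by
    let sv : V8 → G := fun v => (M.f_surj v).choose
    have hsv : ∀ v, sv v ∈ Q ∧ f (sv v) = v := fun v => (M.f_surj v).choose_spec
    have h := Nat.card_le_card_of_injective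
      (fun q : Five.Qb Q b0 => ((⟨f q, Finset.mem_filter.2 ⟨Finset.mem_univ _, q, q.2, rfl⟩⟩ : F),
        decide ((q : G) = sv (f q)))) (fun q q' h => by
        have h1 : f q = f q' := congrArg (fun p : F × Bool => p.1.1) h
        have h2 := decide_eq_decide.1 (congrArg (fun p : F × Bool => p.2) h)
        rw [← h1] at h2
        refine Subtype.ext ?_
        by_cases hq : (q : G) = sv (f q)
        · exact hq.trans (h2.1 hq).symm
        · rw [(M.f_eq (hsv _).1 q.2.1 (hsv _).2).resolve_left hq,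
            (M.f_eq (hsv _).1 q'.2.1 ((hsv _).2.trans h1)).resolve_left fun e => hq (h2.2 e)])
    rw [h32, Nat.card_prod, Nat.card_eq_finsetCard, show Nat.card Bool = 2 by simp] at h
    omega
  obtain ⟨r, hr, hrs, hr0⟩ : ∃ r ∈ Five.Qb Q b0, qb (f r) = false ∧ f r ≠ 0 := by
    by_contra hne
    push Not at hne
    have pick : ∀ S : Finset V8, S.card < 16 → ∃ q ∈ Five.Qb Q b0, f q ∉ S := by
      intro S hS
      obtain ⟨v, hv, hvS⟩ := Finset.exists_mem_notMem_of_card_lt_card (lt_of_lt_of_le hS hF)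
      obtain ⟨q, hq, rfl⟩ := (Finset.mem_filter.1 hv).2
      exact ⟨q, hq, hvS⟩
    have hns : ∀ q ∈ Five.Qb Q b0, f q ≠ 0 → qb (f q) = true := fun q hq h0 => by
      by_contra h
      exact h0 (hne q hq (Bool.eq_false_iff.2 h))
    have hadd : ∀ p ∈ Five.Qb Q b0, ∀ q ∈ Five.Qb Q b0, f p ≠ 0 → f q ≠ 0 → f p ≠ f q →
        bl (f p) (f q) = true := by
      intro p hp q hq h1 h2 h3
      have h := hns _ (mul_mem hp hq) (by
        rw [M.f_mul _ hp.1 _ hq.1]; exact fun e => h3 (vadd_eq_zero e))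
      rw [M.f_mul _ hp.1 _ hq.1, qb_vadd, hns p hp h1, hns q hq h2] at h
      simpa using h
    obtain ⟨p, hp, hp0⟩ := pick {0} (by simp)
    obtain ⟨q, hq, hq0⟩ := pick {0, f p} ((Finset.card_le_two).trans_lt (by norm_num))
    obtain ⟨s, hs, hs0⟩ := pick {0, f p, f q, vadd (f p) (f q)}
      (Finset.card_le_four.trans_lt (by norm_num))
    simp only [Finset.mem_insert, Finset.mem_singleton, not_or] at hp0 hq0 hs0
    have hpq : f p ≠ f q := Ne.symm hq0.2
    have hfpq : f (p * q) = vadd (f p) (f q) := M.f_mul _ hp.1 _ hq.1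
    have h := hns _ (mul_mem (mul_mem hp hq) hs) (by
      rw [M.f_mul _ (mul_mem hp.1 hq.1) _ hs.1, hfpq]
      exact fun e => hs0.2.2.2 (vadd_eq_zero e).symm)
    rw [M.f_mul _ (mul_mem hp.1 hq.1) _ hs.1, hfpq, qb_vadd, qb_vadd, bl_vadd_left,
      hns p hp hp0, hns q hq hq0.1, hns s hs hs0.1, hadd p hp q hq hp0 hq0.1 hpq,
      hadd p hp s hs hp0 hs0.1 (Ne.symm hs0.2.1),
      hadd q hq s hs hq0.1 hs0.1 (Ne.symm hs0.2.2.1)] at h
    simp at h
  -- move it to the distinguished one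
  obtain ⟨l, hl, hlr⟩ := trans_pt _ hrs hr0
  obtain ⟨c, hc⟩ := M.lift l
  have hbC : b0 ∈ Cz z := mem_Cz.2 hbz
  have hI : Img ρ (c * b0 * c⁻¹) (wperm l * ρ ⟨b0, hbC⟩ * (wperm l)⁻¹) := (Img.mk' hbC).conj hc
  have hfix : (wperm l * ρ ⟨b0, hbC⟩ * (wperm l)⁻¹) pt = pt := by
    have e : c * b0 * c⁻¹ * (c * r * c⁻¹) * (c * b0 * c⁻¹)⁻¹ = c * r * c⁻¹ := by
      calc _ = c * (b0 * r * b0⁻¹) * c⁻¹ := by group
        _ = _ := by rw [← Subgroup.mem_centralizer_singleton_iff.1 hr.2, mul_inv_cancel_right]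
    have hcr : f (c * r * c⁻¹) = pt := by rw [M.img_conj hc hr.1, wperm_apply hl, hlr]
    conv_lhs => rw [← hcr, ← M.img_conj hI (M.normal c hc.mem r hr.1), e, hcr]
  have hx5 : (c * b0 * c⁻¹) ^ 5 = 1 := by rw [conj_pow, h5, mul_one, mul_inv_cancel]
  have hπ5 : (wperm l * ρ ⟨b0, hbC⟩ * (wperm l)⁻¹) ^ 5 = 1 :=
    (hI.pow 5).unique (hx5 ▸ Img.one)
  have hπ1 : wperm l * ρ ⟨b0, hbC⟩ * (wperm l)⁻¹ ≠ 1 := fun e => by
    rw [e] at hI
    obtain ⟨n, hn⟩ := M.isPGroup ⟨_, M.img_one_mem hI⟩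
    have h2 : orderOf (c * b0 * c⁻¹) ∣ 2 ^ n := orderOf_dvd_of_pow_eq_one (congrArg Subtype.val hn)
    rw [orderOf_eq_prime hx5 (fun e => hb1 (conj_eq_one_iff.1 e))] at h2
    exact absurd (Nat.Prime.dvd_of_dvd_pow (by norm_num) h2) (by norm_num)
  obtain ⟨d, hd, -, i, hdi⟩ := M.sylow_pi5 hI.mem_range hfix hπ5 hπ1
  obtain ⟨c', hc'⟩ := exists_img hd
  have hk : c' * c ∈ Cz z := mul_mem hc'.mem hc.mem
  let k : G := c' * c
  have hJ : Img ρ (k * b0 * k⁻¹) (pi5 ^ i) := by
    have h := hI.conj hc'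
    rw [hdi] at h
    rwa [show k * b0 * k⁻¹ = c' * (c * b0 * c⁻¹) * c'⁻¹ by simp only [k]; group]
  let f' : G → V8 := fun q => f (k * q * k⁻¹)
  let ρ' : Cz z →* Equiv.Perm V8 := ρ.comp (MulAut.conj (⟨k, hk⟩ : Cz z)).toMonoidHom
  have hkQ : ∀ {q}, k * q * k⁻¹ ∈ Q ↔ q ∈ Q := fun {q} => by
    refine ⟨fun h => ?_, M.normal k hk q⟩
    have := M.normal k⁻¹ (inv_mem hk) _ h
    rwa [show k⁻¹ * (k * q * k⁻¹) * k⁻¹⁻¹ = q by group] at this
  have hrange : ρ'.range = ρ.range :=
    le_antisymm (by rintro _ ⟨x, rfl⟩; exact ⟨_, rfl⟩) (by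
      rintro _ ⟨x, rfl⟩
      exact ⟨(MulAut.conj (⟨k, hk⟩ : Cz z)).symm x,
        congrArg ρ ((MulAut.conj (⟨k, hk⟩ : Cz z)).apply_symm_apply x)⟩)
  have hkz : k * z * k⁻¹ = z := mul_inv_eq_iff_eq_mul.2 (mem_Cz.1 hk)
  have M' : Model z Q f' ρ' :=
    { ord := M.ord
      le := M.le
      normal := M.normal
      card := M.card
      z_mem := M.z_mem
      f_mul := fun q hq r hr => by
        show f (k * (q * r) * k⁻¹) = _
        rw [show k * (q * r) * k⁻¹ = (k * q * k⁻¹) * (k * r * k⁻¹) by group,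
          M.f_mul _ (hkQ.2 hq) _ (hkQ.2 hr)]
      f_ker := fun q hq => by
        rw [show f' q = f (k * q * k⁻¹) from rfl, M.f_ker _ (hkQ.2 hq)]
        exact or_congr conj_eq_one_iff ⟨fun h => mul_left_cancel (a := k)
          (mul_right_cancel (b := k⁻¹) (h.trans hkz.symm)), fun h => h ▸ hkz⟩
      f_surj := fun v => by
        obtain ⟨q, hq, rfl⟩ := M.f_surj v
        refine ⟨k⁻¹ * q * k, hkQ.1 ?_, ?_⟩
        · rwa [show k * (k⁻¹ * q * k) * k⁻¹ = q by group]
        · show f (k * (k⁻¹ * q * k) * k⁻¹) = f q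
          rw [show k * (k⁻¹ * q * k) * k⁻¹ = q by group]
      f_sq := fun q hq => by
        have h := M.f_sq _ (hkQ.2 hq)
        rw [show k * q * k⁻¹ * (k * q * k⁻¹) = k * (q * q) * k⁻¹ by group] at h
        show q * q = if qb (f (k * q * k⁻¹)) = true then z else 1
        cases hb : qb (f (k * q * k⁻¹)) <;> rw [hb] at h <;> simp only [Bool.false_eq_true,
          if_false, if_true] at h ⊢
        · exact conj_eq_one_iff.1 h
        · exact mul_left_cancel (a := k) (mul_right_cancel (b := k⁻¹) (h.trans hkz.symm))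
      ρ_conj := fun x q hq => by
        show ρ (⟨k, hk⟩ * x * (⟨k, hk⟩ : Cz z)⁻¹) (f (k * q * k⁻¹)) = f (k * (x * q * x⁻¹) * k⁻¹)
        rw [M.ρ_conj _ _ (hkQ.2 hq)]
        congr 1
        simp only [Subgroup.coe_mul, Subgroup.coe_inv]
        group
      ρ_ker := fun x => (M.ρ_ker _).trans hkQ
      ρ_card := by rw [hrange, M.ρ_card]
      nwc := M.nwc
      sie_mem := fun p w => hrange ▸ M.sie_mem p w
      invol := by rw [hrange]; exact M.invol }
  have hI' : Img ρ' b0 (pi5 ^ i) := by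
    obtain ⟨hm, he⟩ := hJ
    exact ⟨hbC, he⟩
  have hi0 : i % 5 ≠ 0 := fun h => by
    rw [pow_eq_pow_mod _ pi5_pow, h, pow_zero] at hdi
    exact hπ1 (conj_eq_one_iff.1 hdi)
  obtain ⟨n, hn⟩ : ∃ n : ℕ, (i * n) % 5 = 1 := by
    have h4 : ∀ r : Fin 5, r ≠ 0 → ∃ n : Fin 5, (r.val * n.val) % 5 = 1 := by decide +kernel
    obtain ⟨n, hn⟩ := h4 ⟨i % 5, Nat.mod_lt _ (by norm_num)⟩ fun e => hi0 (congrArg Fin.val e)
    exact ⟨n, by rw [Nat.mul_mod]; simpa [Nat.mul_mod] using hn⟩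
  refine ⟨f', ρ', b0 ^ n, ⟨M', ?_, by rw [← pow_mul, mul_comm, pow_mul, h5, one_pow]⟩, ?_⟩
  · have h := hI'.pow n
    rwa [← pow_mul, pow_eq_pow_mod _ pi5_pow, hn, pow_one] at h
  · refine le_antisymm (fun x hx => ?_) (fun x hx => ?_) <;>
      rw [Subgroup.mem_centralizer_singleton_iff] at hx ⊢
    · rw [show b0 = (b0 ^ n) ^ i by
        rw [← pow_mul, pow_eq_pow_mod _ h5, mul_comm, hn, pow_one]]
      exact (show Commute x (b0 ^ n) from hx).pow_right i
    · exact (show Commute x b0 from hx).pow_right n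

/-- Let G be a finite group of Conway type (involution z with generalized Fitting subgroup Q of its centralizer C extraspecial of order 2^9, C/Q the commutator subgroup of the isometry group of the hyperbolic quadratic form in dimension 8 over the field with two elements, z not weakly closed in Q), and let B be a subgroup of C of order 5 such that the centralizer of B in Q is extraspecial of order 32 containing no elementary abelian subgroup of order 8 (the quaternion-times-dihedral type). Then the layer L of the centralizer of B in G is isomorphic to the Hall–Janko group and the centralizer of L is isomorphic to the alternating group of degree 5. -/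
theorem result {G : Type*} [Group G] [Finite G] (z : G) (hz : orderOf z = 2) (Q : Subgroup (Subgroup.centralizer ({z} : Set G))) [Q.Normal] (hF : Cfsg.generalizedFittingSubgroup (Subgroup.centralizer ({z} : Set G)) = Q) (hQ : Cfsg.IsExtraspecial 2 Q) (hcard : Nat.card Q = 2 ^ 9) (e : (Subgroup.centralizer ({z} : Set G)) ⧸ Q ≃* Cfsg.Omega (ZMod 2) (Cfsg.quadFormPlus 4 (ZMod 2))) (hnwc : ∃ g : G, (∃ hq : g * z * g⁻¹ ∈ Subgroup.centralizer ({z} : Set G), (⟨g * z * g⁻¹, hq⟩ : Subgroup.centralizer ({z} : Set G)) ∈ Q) ∧ g * z * g⁻¹ ≠ z) (B : Subgroup (Subgroup.centralizer ({z} : Set G))) (hB : Nat.card B = 5) (hCQ : Cfsg.IsExtraspecial 2 ↥(Q ⊓ Subgroup.centralizer (B : Set (Subgroup.centralizer ({z} : Set G))))) (hCQcard : Nat.card ↥(Q ⊓ Subgroup.centralizer (B : Set (Subgroup.centralizer ({z} : Set G)))) = 32) (hminus : ∀ A : Subgroup (Subgroup.centralizer ({z} : Set G)), A ≤ Q ⊓ Subgroup.centralizer (B : Set (Subgroup.centralizer ({z} : Set G))) →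 Cfsg.IsElementaryAbelian 2 A → Nat.card A ≤ 4) : Cfsg.Spor.IsoJ2 ↥(Cfsg.layer ↥(Subgroup.centralizer ((B.map (Subgroup.subtype (Subgroup.centralizer ({z} : Set G)))) : Set G))) ∧ Nonempty (↥(Subgroup.centralizer (((Cfsg.layer ↥(Subgroup.centralizer ((B.map (Subgroup.subtype (Subgroup.centralizer ({z} : Set G)))) : Set G))).map (Subgroup.subtype _)) : Set G)) ≃* alternatingGroup (Fin 5)) := by
  obtain ⟨f, ρ, M⟩ := CfsgLib.Small.ConTwo.exists_model hF hQ hcard e hz hnwc
  haveI : Fact (Nat.Prime 5) := ⟨by norm_num⟩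
  obtain ⟨b0, hb0⟩ := exists_prime_orderOf_dvd_card' (G := B) 5 (hB ▸ dvd_rfl)
  have hBz : Subgroup.zpowers (b0 : Subgroup.centralizer ({z} : Set G)) = B := by
    refine Subgroup.eq_of_le_of_card_ge (Subgroup.zpowers_le.2 b0.2) ?_
    rw [hB, Nat.card_zpowers, Subgroup.orderOf_coe, hb0]
  have ho : orderOf ((b0 : Subgroup.centralizer ({z} : Set G)) : G) = 5 := by
    rw [Subgroup.orderOf_coe, Subgroup.orderOf_coe, hb0]
  have hBmap : Subgroup.centralizer ((B.map (Subgroup.subtype (Subgroup.centralizer ({z} : Set G)))) : Set G) =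
      Subgroup.centralizer {((b0 : Subgroup.centralizer ({z} : Set G)) : G)} := by
    rw [show B.map (Subgroup.subtype (Subgroup.centralizer ({z} : Set G))) =
        Subgroup.zpowers ((b0 : Subgroup.centralizer ({z} : Set G)) : G) from
      (congrArg (Subgroup.map _) hBz.symm).trans (MonoidHom.map_zpowers _ _),
      Subgroup.zpowers_eq_closure, Subgroup.centralizer_closure]
  let Qg : Subgroup G := Q.map (Subgroup.subtype (Subgroup.centralizer ({z} : Set G)))
  let eQ : ↥(Q ⊓ Subgroup.centralizer (B : Set (Subgroup.centralizer ({z} : Set G)))) ≃*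
      ↥(CfsgLib.Small.ConTwo.Five.Qb Qg ((b0 : Subgroup.centralizer ({z} : Set G)) : G)) :=
    (Subgroup.equivMapOfInjective _ _ (Subgroup.centralizer ({z} : Set G)).subtype_injective).trans
      (MulEquiv.subgroupCongr (by
        ext x
        constructor
        · rintro ⟨y, ⟨hyQ, hyB⟩, rfl⟩
          refine ⟨⟨y, hyQ, rfl⟩, Subgroup.mem_centralizer_singleton_iff.2 ?_⟩
          exact (congrArg Subtype.val (Subgroup.mem_centralizer_iff.1 hyB _ b0.2)).symm
        · rintro ⟨⟨y, hyQ, rfl⟩, hy⟩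
          refine ⟨y, ⟨hyQ, ?_⟩, rfl⟩
          show y ∈ Subgroup.centralizer (B : Set (Subgroup.centralizer ({z} : Set G)))
          rw [← hBz, Subgroup.zpowers_eq_closure, Subgroup.centralizer_closure]
          exact Subgroup.mem_centralizer_singleton_iff.2
            (Subtype.ext (Subgroup.mem_centralizer_singleton_iff.1 hy))))
  have h32 := (Nat.card_congr eQ.toEquiv).symm.trans hCQcard
  obtain ⟨f', ρ', b, A, hb⟩ := exists_five M
    (Subgroup.mem_centralizer_singleton_iff.1 b0.1.2) ho h32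
  have hQb : CfsgLib.Small.ConTwo.Five.Qb Qg ((b0 : Subgroup.centralizer ({z} : Set G)) : G) =
      CfsgLib.Small.ConTwo.Five.Qb Qg b := by
    show Qg ⊓ _ = Qg ⊓ _
    rw [hb]
  exact A.layer_main (CfsgLib.J2.isExtraspecial_congr (eQ.trans (MulEquiv.subgroupCongr hQb)) hCQ)
    (hQb ▸ h32) _ (hBmap.trans hb.symm)

end Cfsg.Agent.S5385
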