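import Cfsg.Statements.S5387
import Cfsg.Agent.Lib.Schur.PSLThreeFour


set_option autoImplicit false
open Cfsg

namespace Cfsg.Agent.S5387

/-- An almost onto homomorphism to a perfect central extension is onto. -/
theorem surjective_of_modCenter {H L S : Type*} [Group H] [Group L] [Group S] (f : H →* L)
    (π : L →* S) (hker : π.ker ≤ Subgroup.center L) (hL : commutator L = ⊤)
    (hs : Function.Surjective (π.comp f)) : Function.Surjective f := by
  refine MonoidHom.range_eq_top.1 (top_le_iff.1 ?_)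
  rw [← hL, commutator_def, Subgroup.commutator_le]
  intro x _ y _
  obtain ⟨a, ha⟩ := hs (π x)
  obtain ⟨b, hb⟩ := hs (π y)
  obtain ⟨u, hu, rfl⟩ : ∃ u ∈ π.ker, x = f a * u :=
    ⟨(f a)⁻¹ * x, by rw [MonoidHom.mem_ker, map_mul, map_inv]; simp [← ha], by group⟩
  obtain ⟨v, hv, rfl⟩ : ∃ v ∈ π.ker, y = f b * v :=
    ⟨(f b)⁻¹ * y, by rw [MonoidHom.mem_ker, map_mul, map_inv]; simp [← hb], by group⟩
  have h1 := Subgroup.mem_center_iff.1 (hker hu)
  have h2 := Subgroup.mem_center_iff.1 (hker hv)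
  refine ⟨a * b * a⁻¹ * b⁻¹, ?_⟩
  rw [map_mul, map_mul, map_mul, map_inv, map_inv, commutatorElement_def]
  calc f a * f b * (f a)⁻¹ * (f b)⁻¹ = f a * f b * ((f a)⁻¹ * v) * v⁻¹ * (f b)⁻¹ := by group
    _ = f a * (f b * v) * (f a)⁻¹ * v⁻¹ * (f b)⁻¹ := by rw [h2 (f a)⁻¹]; group
    _ = f a * ((f b * v) * u) * u⁻¹ * (f a)⁻¹ * v⁻¹ * (f b)⁻¹ := by group
    _ = f a * u * (f b * v) * (f a * u)⁻¹ * (f b * v)⁻¹ := by rw [h1 (f b * v)]; group

/-- Up to isomorphism there is at most one quasisimple group whose centre is elementary abelian of order 4 and whose central quotient is isomorphic to the projective special linear group of dimension 3 over the field with four elements: any two such groups are isomorphic. -/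
theorem result {L₁ L₂ : Type*} [Group L₁] [Finite L₁] [Group L₂] [Finite L₂] (F : Type) [Field F] [Fintype F] (hF : Fintype.card F = 4) (h₁ : Cfsg.IsQuasisimple L₁) (h₂ : Cfsg.IsQuasisimple L₂) (hc₁ : Nat.card (Subgroup.center L₁) = 4) (hc₂ : Nat.card (Subgroup.center L₂) = 4) (he₁ : ∀ x ∈ Subgroup.center L₁, x * x = 1) (he₂ : ∀ x ∈ Subgroup.center L₂, x * x = 1) (e₁ : L₁ ⧸ Subgroup.center L₁ ≃* Matrix.ProjectiveSpecialLinearGroup (Fin 3) F) (e₂ : L₂ ⧸ Subgroup.center L₂ ≃* Matrix.ProjectiveSpecialLinearGroup (Fin 3) F) : Nonempty (L₁ ≃* L₂) := by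
  have hc : Nat.card F = 4 := by rw [Nat.card_eq_fintype_card, hF]
  have h2 : (2 : F) = 0 := by
    have := CfsgLib.Classical.Unitary.two_eq_zero_of_q_two (F := F) (q := 2)
      (by rw [hc]; norm_num) rfl
    exact this
  let π₁ : L₁ →* Matrix.ProjectiveSpecialLinearGroup (Fin 3) F :=
    e₁.toMonoidHom.comp (QuotientGroup.mk' _)
  let π₂ : L₂ →* Matrix.ProjectiveSpecialLinearGroup (Fin 3) F :=
    e₂.toMonoidHom.comp (QuotientGroup.mk' _)
  have hπ₁ : Function.Surjective π₁ := e₁.surjective.comp (QuotientGroup.mk'_surjective _)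
  have hπ₂ : Function.Surjective π₂ := e₂.surjective.comp (QuotientGroup.mk'_surjective _)
  have hk₁ : ∀ x, π₁ x = 1 → x ∈ Subgroup.center L₁ := fun x hx =>
    (QuotientGroup.eq_one_iff x).1 (e₁.map_eq_one_iff.1 hx)
  have hk₂ : ∀ x, π₂ x = 1 → x ∈ Subgroup.center L₂ := fun x hx =>
    (QuotientGroup.eq_one_iff x).1 (e₂.map_eq_one_iff.1 hx)
  set P := MonoidHom.eqLocus (π₁.comp (MonoidHom.fst L₁ L₂)) (π₂.comp (MonoidHom.snd L₁ L₂))
  set ψ := (π₁.comp (MonoidHom.fst L₁ L₂)).comp P.subtype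
  have hψ : Subgroup.map ψ ⊤ = ⊤ := by
    rw [← MonoidHom.range_eq_map, MonoidHom.range_eq_top]
    intro s
    obtain ⟨x, hx⟩ := hπ₁ s
    obtain ⟨y, hy⟩ := hπ₂ s
    exact ⟨⟨(x, y), hx.trans hy.symm⟩, hx⟩
  obtain ⟨H, hH, hmin⟩ := exists_minimal_of_wellFoundedLT (fun H : Subgroup P => H.map ψ = ⊤) ⟨⊤, hψ⟩
  have hL₁ : commutator L₁ = ⊤ := h₁.1.commutator_eq_top
  have hL₂ : commutator L₂ = ⊤ := h₂.1.commutator_eq_top
  have hHH : ⁅H, H⁆ = H := by
    have hle : ⁅H, H⁆ ≤ H := Subgroup.commutator_le.2 fun a ha b hb =>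
      H.mul_mem (H.mul_mem (H.mul_mem ha hb) (H.inv_mem ha)) (H.inv_mem hb)
    refine le_antisymm hle (hmin ?_ hle)
    show ⁅H, H⁆.map ψ = ⊤
    rw [Subgroup.map_commutator, hH, ← Subgroup.map_top_of_surjective π₁ hπ₁,
      ← Subgroup.map_commutator, ← commutator_def, hL₁]
  have hperf : commutator H = ⊤ := by
    refine Subgroup.map_injective H.subtype_injective ?_
    rw [Subgroup.map_subtype_commutator, hHH, ← MonoidHom.range_eq_map, Subgroup.range_subtype]
  set π := ψ.comp H.subtype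
  have hπ : Function.Surjective π := fun s => by
    obtain ⟨x, hx, hs⟩ := (show s ∈ H.map ψ by rw [hH]; trivial)
    exact ⟨⟨x, hx⟩, hs⟩
  have hz : ∀ x, π x = 1 → x * x = 1 ∧ ∀ y, Commute x y := by
    intro x hx
    have a1 := hk₁ _ hx
    have a2 := hk₂ _ ((x : P).2.symm.trans hx)
    refine ⟨Subtype.ext (Subtype.ext (Prod.ext (he₁ _ a1) (he₂ _ a2))), fun y => ?_⟩
    exact Subtype.ext (Subtype.ext (Prod.ext (Subgroup.mem_center_iff.1 a1 _).symm
      (Subgroup.mem_center_iff.1 a2 _).symm))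
  have hker := CfsgLib.Schur.LThreeFour.card_ker_le h2 hc hπ hz hperf
  set f₁ : ↥H →* L₁ := ((MonoidHom.fst L₁ L₂).comp P.subtype).comp H.subtype
  set f₂ : ↥H →* L₂ := ((MonoidHom.snd L₁ L₂).comp P.subtype).comp H.subtype
  have s₁ : Function.Surjective f₁ :=
    surjective_of_modCenter f₁ π₁ hk₁ hL₁ hπ
  have s₂ : Function.Surjective f₂ :=
    surjective_of_modCenter f₂ π₂ hk₂ hL₂ (by
      have : π₂.comp f₂ = π := MonoidHom.ext fun x => (x : P).2.symm
      rw [this]; exact hπ)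
  have hH' : Nat.card H = Nat.card (Matrix.ProjectiveSpecialLinearGroup (Fin 3) F) * Nat.card π.ker := by
    rw [Subgroup.card_eq_card_quotient_mul_card_subgroup π.ker,
      Nat.card_congr (QuotientGroup.quotientKerEquivOfSurjective π hπ).toEquiv]
  have b₁ : Nat.card L₁ = Nat.card (Matrix.ProjectiveSpecialLinearGroup (Fin 3) F) * 4 := by
    rw [Subgroup.card_eq_card_quotient_mul_card_subgroup (Subgroup.center L₁), hc₁,
      Nat.card_congr e₁.toEquiv]
  have b₂ : Nat.card L₂ = Nat.card (Matrix.ProjectiveSpecialLinearGroup (Fin 3) F) * 4 := by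
    rw [Subgroup.card_eq_card_quotient_mul_card_subgroup (Subgroup.center L₂), hc₂,
      Nat.card_congr e₂.toEquiv]
  have hle : Nat.card H ≤ Nat.card L₁ := by rw [hH', b₁]; exact Nat.mul_le_mul_left _ hker
  have bij₁ : Function.Bijective f₁ :=
    ((Nat.bijective_iff_surjective_and_card f₁).2 ⟨s₁,
      le_antisymm hle (Nat.card_le_card_of_surjective f₁ s₁)⟩)
  have bij₂ : Function.Bijective f₂ :=
    ((Nat.bijective_iff_surjective_and_card f₂).2 ⟨s₂,
      le_antisymm (by rw [hH', b₂]; exact Nat.mul_le_mul_left _ hker)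
        (Nat.card_le_card_of_surjective f₂ s₂)⟩)
  exact ⟨(MulEquiv.ofBijective f₁ bij₁).symm.trans (MulEquiv.ofBijective f₂ bij₂)⟩

end Cfsg.Agent.S5387
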