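import Cfsg.Agent.Lib.Spor.CodeModules
import Cfsg.Statements.S5393

set_option autoImplicit false
open Cfsg

namespace Cfsg.Agent.S5393

/-- The length-24 code built from the squares modulo 23 contains the all-ones word, and the code modulo the all-ones word is an irreducible module over the field with two elements for the code's automorphism group: a subspace of the code that contains the all-ones word and is invariant under every coordinate permutation preserving the code is either the span of the all-ones word or the whole code. -/
theorem result : (fun _ : Cfsg.GolayPt => (1 : ZMod 2)) ∈ Cfsg.golayCode ∧ ∀ W : Submodule (ZMod 2) (Cfsg.GolayPt → ZMod 2), (fun _ => (1 : ZMod 2)) ∈ W → W ≤ Cfsg.golayCode → (∀ σ ∈ Cfsg.M24, ∀ w ∈ W, (fun p => w (σ.symm p)) ∈ W) → W = Submodule.span (ZMod 2) {fun _ => (1 : ZMod 2)} ∨ W = Cfsg.golayCode := by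
  refine ⟨CfsgLib.Spor.mem_golayCode_iff.2 ?_, fun W h1 hle hW => ?_⟩
  · rw [CfsgLib.Spor.one_eq_ind, CfsgLib.Spor.support₂_ind]
    exact CfsgLib.Spor.qr_one_mem_codeList.1
  by_cases hC : Cfsg.golayCode ≤ W
  · exact Or.inr (le_antisymm hle hC)
  · refine Or.inl (le_antisymm (fun u hu => ?_) ((Submodule.span_singleton_le_iff_mem _ _).2 h1))
    by_contra hne
    refine hC (CfsgLib.Spor.code_le_of_word hW hu (hle hu) ?_ ?_)
    · rintro rfl; exact hne (Submodule.zero_mem _)
    · rintro rfl; exact hne (Submodule.mem_span_singleton_self _)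

end Cfsg.Agent.S5393
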