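import Cfsg.Agent.Lib.Spor.Classes
import Cfsg.Statements.S5394

set_option autoImplicit false
open Cfsg CfsgLib.Spor

namespace Cfsg.Agent.S5394

/-- The automorphism group of the length-24 code built from the squares modulo 23 has exactly two conjugacy classes of involutions: an involution either fixes exactly the eight points of an octad or has no fixed points, both kinds occur, and any two involutions of the same kind are conjugate in the group. -/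
theorem result : (∀ g ∈ Cfsg.M24, orderOf g = 2 → (Finset.univ.filter fun p => g p = p) ∈ Cfsg.octads ∨ ∀ p, g p ≠ p) ∧ (∃ g ∈ Cfsg.M24, orderOf g = 2 ∧ (Finset.univ.filter fun p => g p = p) ∈ Cfsg.octads) ∧ (∃ g ∈ Cfsg.M24, orderOf g = 2 ∧ ∀ p, g p ≠ p) ∧ ∀ g ∈ Cfsg.M24, ∀ h ∈ Cfsg.M24, orderOf g = 2 → orderOf h = 2 → ((∀ p, g p ≠ p) ↔ (∀ p, h p ≠ p)) → ∃ k ∈ Cfsg.M24, k * g * k⁻¹ = h := by
  haveI : Fact (Nat.Prime 2) := ⟨Nat.prime_two⟩
  have hex : ∀ a, isM24P a = true ∧ powP a 2 = idP ∧ a ≠ idP ∧ compP idP a = a →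
      ∃ ρ ∈ M24, orderOf ρ = 2 ∧ Rep ρ a := fun a h => by
    obtain ⟨ρ, hρ, hr⟩ := exists_rep_M24 h.1
    exact ⟨ρ, hρ, orderOf_of_rep hr h.2.1 h.2.2.1 h.2.2.2, hr⟩
  refine ⟨fun g hg ho => ?_, ?_, ?_, fun g hg h hh hog hoh hiff => ?_⟩
  · by_cases h0 : ∀ p, g p ≠ p
    · exact Or.inr h0
    · exact Or.inl (invol_fix_octad hg ho h0)
  · obtain ⟨ρ, hρ, ho, hr⟩ := hex syl2Rep0 (by decide +kernel)
    refine ⟨ρ, hρ, ho, invol_fix_octad hρ ho fun h => ?_⟩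
    have h1 := (card_filter_eq_zero_iff ρ).2 h
    rw [hr.card_fixPts, reps_fixPts.1] at h1
    exact absurd h1 (by norm_num)
  · obtain ⟨ρ, hρ, ho, hr⟩ := hex syl2Rep1 (by decide +kernel)
    exact ⟨ρ, hρ, ho, (card_filter_eq_zero_iff ρ).1 (hr.card_fixPts.trans reps_fixPts.2.1)⟩
  rw [← card_filter_eq_zero_iff, ← card_filter_eq_zero_iff] at hiff
  rcases exists_invol hg hog with ⟨ρ, -, hr, e, c, hc, rfl⟩ | ⟨ρ, -, hr, e, c, hc, rfl⟩ <;>
    rcases exists_invol hh hoh with ⟨ρ', -, hr', e', d, hd, rfl⟩ | ⟨ρ', -, hr', e', d, hd, rfl⟩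
  · obtain rfl := hr.inj hr'
    exact ⟨d * c⁻¹, mul_mem hd (inv_mem hc), by group⟩
  · rw [e, e'] at hiff; norm_num at hiff
  · rw [e, e'] at hiff; norm_num at hiff
  · obtain rfl := hr.inj hr'
    exact ⟨d * c⁻¹, mul_mem hd (inv_mem hc), by group⟩

end Cfsg.Agent.S5394
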