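import Cfsg.Statements.S5395

set_option autoImplicit false
set_option linter.style.haveILetI false
open Cfsg

open scoped commutatorElement

namespace Cfsg.Agent.S5395

/-- For a finite extraspecial 2-group E, an automorphism of E that induces the identity on E modulo its centre is inner (so these automorphisms form exactly the inner automorphism group, an elementary abelian 2-group of order |E|/2). -/
theorem result {E : Type*} [Group E] [Finite E] (hE : Cfsg.IsExtraspecial 2 E) (φ : E ≃* E) (hφ : ∀ x : E, φ x * x⁻¹ ∈ Subgroup.center E) : ∃ g : E, ∀ x : E, φ x = g * x * g⁻¹ := by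
  classical
  obtain ⟨⟨hp, hfrat, hcomm⟩, hcard⟩ := hE
  set Z := Subgroup.center E with hZ
  have hmc : ∀ a b : E, a * b * a⁻¹ * b⁻¹ ∈ Z := fun a b =>
    hcomm ▸ Subgroup.commutator_mem_commutator (Subgroup.mem_top a) (Subgroup.mem_top b)
  letI : CommGroup (E ⧸ Z) :=
    { (inferInstance : Group (E ⧸ Z)) with
      mul_comm := fun x y => by
        obtain ⟨a, rfl⟩ := QuotientGroup.mk_surjective x
        obtain ⟨b, rfl⟩ := QuotientGroup.mk_surjective y
        rw [← QuotientGroup.mk_mul, ← QuotientGroup.mk_mul, QuotientGroup.eq]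
        have h := hmc b⁻¹ a⁻¹
        simpa [mul_assoc] using h }
  haveI : NeZero (Monoid.exponent (E ⧸ Z) : ℂ) :=
    ⟨Nat.cast_ne_zero.2 Monoid.exponent_ne_zero_of_finite⟩
  have h2 : Nat.card (rootsOfUnity 2 ℂ) = 2 := HasEnoughRootsOfUnity.natCard_rootsOfUnity ℂ 2
  haveI : Fact (Nat.Prime 2) := ⟨Nat.prime_two⟩
  let e : Z ≃* rootsOfUnity 2 ℂ := mulEquivOfPrimeCardEq hcard h2
  let ψ : Z →* ℂˣ := (rootsOfUnity 2 ℂ).subtype.comp e.toMonoidHom
  have hψ : Function.Injective ψ := Subtype.val_injective.comp e.injective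
  -- an automorphism trivial modulo the centre gives a character
  let P : (E ≃* E) → Prop := fun f => ∀ x, f x * x⁻¹ ∈ Z
  have hfix : ∀ f : E ≃* E, P f → ∀ z ∈ Z, f z = z := by
    intro f hf z hz
    rw [← hcomm, commutator_eq_closure] at hz
    refine Subgroup.closure_induction ?_ (map_one f) ?_ ?_ hz
    · rintro _ ⟨a, b, rfl⟩
      have ha : f a = (f a * a⁻¹) * a := by simp
      have hb : f b = (f b * b⁻¹) * b := by simp
      rw [map_commutatorElement, ha, hb]
      obtain ⟨ca, hca⟩ : ∃ c, c = f a * a⁻¹ := ⟨_, rfl⟩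
      obtain ⟨cb, hcb⟩ : ∃ c, c = f b * b⁻¹ := ⟨_, rfl⟩
      have za := Subgroup.mem_center_iff.1 (hca ▸ hf a : ca ∈ Z)
      have zb := Subgroup.mem_center_iff.1 (hcb ▸ hf b : cb ∈ Z)
      rw [← hca, ← hcb, commutatorElement_def, commutatorElement_def, mul_inv_rev, mul_inv_rev]
      calc ca * a * (cb * b) * (a⁻¹ * ca⁻¹) * (b⁻¹ * cb⁻¹)
          = ca * (a * (b * (a⁻¹ * (ca⁻¹ * (b⁻¹ * (cb⁻¹ * cb)))))) := by
            have h1 : ∀ x, cb * x = x * cb := fun x => (zb x).symm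
            rw [h1 b]
            simp only [mul_assoc]
            rw [h1 (a⁻¹ * _)]
            simp only [mul_assoc]
        _ = a * b * a⁻¹ * b⁻¹ := by
            have h2 : ∀ x, ca⁻¹ * x = x * ca⁻¹ := fun x =>
              ((show Commute ca x from (za x).symm).inv_left).eq
            rw [inv_mul_cancel, mul_one, h2 b⁻¹, ← za]
            simp [mul_assoc]
    · intro x y _ _ hx hy; rw [map_mul, hx, hy]
    · intro x _ hx; rw [map_inv, hx]
  have hmk : ∀ f : E ≃* E, P f → ∃ χ : (E ⧸ Z) →* ℂˣ, ∀ (x : E) (h : f x * x⁻¹ ∈ Z),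
      χ x = ψ ⟨f x * x⁻¹, h⟩ := by
    intro f hf
    let χ₀ : E →* ℂˣ := MonoidHom.mk' (fun x => ψ ⟨f x * x⁻¹, hf x⟩) fun x y => by
      rw [← map_mul]; congr 1; ext
      show f (x * y) * (x * y)⁻¹ = f x * x⁻¹ * (f y * y⁻¹)
      rw [map_mul, mul_inv_rev, mul_assoc (f x), ← mul_assoc (f y),
        Subgroup.mem_center_iff.1 (hf y) x⁻¹ |>.symm, ← mul_assoc]
    refine ⟨QuotientGroup.lift Z χ₀ ?_, fun x h => rfl⟩
    intro z hz
    show ψ _ = 1
    rw [← map_one ψ]; congr 1; ext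
    show f z * z⁻¹ = 1
    rw [hfix f hf z hz, mul_inv_cancel]
  have hin : ∀ g : E, P (MulAut.conj g) := fun g x => hmc g x
  let Φ : E ⧸ Z → ((E ⧸ Z) →* ℂˣ) := fun q => (hmk _ (hin q.out)).choose
  have hΦ : ∀ q : E ⧸ Z, ∀ x : E, Φ q x = ψ ⟨q.out * x * q.out⁻¹ * x⁻¹, hin q.out x⟩ :=
    fun q x => (hmk _ (hin q.out)).choose_spec x _
  have hinj : Function.Injective Φ := by
    intro q r hqr
    have hc : q.out⁻¹ * r.out ∈ Z := Subgroup.mem_center_iff.2 fun x => by
      have h := congrArg Subtype.val (hψ ((hΦ q x).symm.trans (hqr ▸ hΦ r x)))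
      have h' : q.out * x * q.out⁻¹ = r.out * x * r.out⁻¹ := mul_right_cancel h
      calc x * (q.out⁻¹ * r.out) = q.out⁻¹ * (q.out * x * q.out⁻¹) * r.out := by simp [mul_assoc]
        _ = q.out⁻¹ * r.out * x := by rw [h']; simp [mul_assoc]
    rw [← QuotientGroup.eq, QuotientGroup.out_eq', QuotientGroup.out_eq'] at hc
    exact hc
  have hcardd : Nat.card ((E ⧸ Z) →* ℂˣ) = Nat.card (E ⧸ Z) :=
    CommGroup.card_monoidHom_of_hasEnoughRootsOfUnity (E ⧸ Z) ℂ
  haveI : Finite ((E ⧸ Z) →* ℂˣ) :=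
    Nat.finite_of_card_ne_zero (by rw [hcardd]; exact Nat.card_pos.ne')
  obtain ⟨q, hq⟩ := ((Nat.bijective_iff_injective_and_card Φ).2 ⟨hinj, hcardd.symm⟩).2
    (hmk φ hφ).choose
  refine ⟨q.out, fun x => ?_⟩
  have h := congrArg Subtype.val
    (hψ (((hΦ q x).symm.trans (congrArg (fun χ : (E ⧸ Z) →* ℂˣ => χ x) hq)).trans
      ((hmk φ hφ).choose_spec x (hφ x))))
  exact (mul_right_cancel h).symm

end Cfsg.Agent.S5395
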