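import Cfsg.Statements.S5398
import Cfsg.Agent.Lib.KnownB.TypeM22.Invol


set_option autoImplicit false
open Cfsg

namespace Cfsg.Agent.S5398

/-- Let G be a finite group with trivial centre generated by a conjugation-invariant set D of 3-transpositions on which it acts primitively, such that for some d in D the subgroup generated by the members of D other than d commuting with d has central largest normal 2- and 3-subgroups, and suppose G with D is of type M(22). Then G has exactly 3 conjugacy classes of involutions: every involution is a product of m distinct pairwise commuting members of D for some m between 1 and 3; for each such m these products form one non-empty conjugacy class; and the value of m is determined by the involution. -/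
theorem result {G : Type*} [Group G] [Finite G] {D : Set G} (hD : Cfsg.IsThreeTranspositionGroup D) (hprim : Cfsg.IsPrimitiveUnderConj D) (d : G) (hd : d ∈ D) (h3 : Cfsg.pCore 3 ↥(Subgroup.closure {y : G | y ∈ D ∧ y ≠ d ∧ Commute d y}) ≤ Subgroup.center ↥(Subgroup.closure {y : G | y ∈ D ∧ y ≠ d ∧ Commute d y})) (h2 : Cfsg.pCore 2 ↥(Subgroup.closure {y : G | y ∈ D ∧ y ≠ d ∧ Commute d y}) ≤ Subgroup.center ↥(Subgroup.closure {y : G | y ∈ D ∧ y ≠ d ∧ Commute d y})) (ht : Cfsg.IsOfTypeM22 G D) : (∀ x : G, orderOf x = 2 → ∃ m : ℕ, 1 ≤ m ∧ m ≤ 3 ∧ (∃ l : List G, l.Nodup ∧ l.length = m ∧ (∀ a ∈ l, a ∈ D) ∧ (∀ a ∈ l, ∀ b ∈ l, Commute a b) ∧ l.prod = x)) ∧ (∀ m : ℕ, 1 ≤ m → m ≤ 3 → (∃ x : G, orderOf x = 2 ∧ (∃ l : List G, l.Nodup ∧ l.length = m ∧ (∀ a ∈ l, a ∈ D) ∧ (∀ a ∈ l, ∀ b ∈ l, Commute a b) ∧ l.prod = x)) ∧ ∀ x y : G, (∃ l : List G, l.Nodup ∧ l.length = m ∧ (∀ a ∈ l, a ∈ D) ∧ (∀ a ∈ l, ∀ b ∈ l, Commute a b) ∧ l.prod = x) → (∃ l : List G, l.Nodup ∧ l.length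 = m ∧ (∀ a ∈ l, a ∈ D) ∧ (∀ a ∈ l, ∀ b ∈ l, Commute a b) ∧ l.prod = y) → IsConj x y) ∧ ∀ (m m' : ℕ) (x : G), 1 ≤ m → m ≤ 3 → 1 ≤ m' → m' ≤ 3 → (∃ l : List G, l.Nodup ∧ l.length = m ∧ (∀ a ∈ l, a ∈ D) ∧ (∀ a ∈ l, ∀ b ∈ l, Commute a b) ∧ l.prod = x) → (∃ l : List G, l.Nodup ∧ l.length = m' ∧ (∀ a ∈ l, a ∈ D) ∧ (∀ a ∈ l, ∀ b ∈ l, Commute a b) ∧ l.prod = x) → m = m' := by
    obtain ⟨F, _, _, σ, hF, h, hP⟩ := (CfsgLib.KnownB.TypeM22.setting_of hD hprim ht).exists_pmap
    have S := CfsgLib.KnownB.TypeM22.setting_of hD hprim ht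
    refine ⟨fun x hx => ?_, fun m h1 h3' => ?_, fun m m' x h1 h3a h1' h3b hl hl' => ?_⟩
    · refine S.invol_prod hP ?_ fun e => ?_
      · rw [← pow_two, ← hx]; exact pow_orderOf_eq_one x
      · rw [e, orderOf_one] at hx; norm_num at hx
    · refine ⟨?_, fun x y ⟨l, hn, hl, hlD, hlc, hp⟩ ⟨l', hn', hl', hlD', hlc', hp'⟩ => hp ▸ hp' ▸
        S.prod_conj hP hlD hn hlc hlD' hn' hlc' (hl.trans hl'.symm) (hl.symm ▸ h1) (hl.symm ▸ h3')⟩
      obtain ⟨t, htr⟩ := S.exists_triple hP
      obtain ⟨hnd, -, hlD, hlc, -⟩ := CfsgLib.KnownB.TypeM22.triples_list.1 htr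
      have hsub := List.take_sublist m [t.1, t.2.1, t.2.2]
      refine ⟨_, orderOf_eq_prime ?_ fun e => ?_, _, hnd.sublist hsub, by simp; omega,
        fun a ha => hlD a (hsub.subset ha), fun a ha b hb => hlc a (hsub.subset ha) b (hsub.subset hb), rfl⟩
      · rw [pow_two]
        generalize hL : List.take m [t.1, t.2.1, t.2.2] = L
        have hLD : ∀ a ∈ L, a ∈ D := fun a ha => hlD a (hsub.subset (hL ▸ ha))
        have hLc : ∀ a ∈ L, ∀ b ∈ L, Commute a b := fun a ha b hb =>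
          hlc a (hsub.subset (hL ▸ ha)) b (hsub.subset (hL ▸ hb))
        clear hL
        induction L with
        | nil => simp
        | cons a L ih =>
          have hcomm : Commute a L.prod := Commute.list_prod_right _ _ fun z hz =>
            hLc a (by simp) z (List.mem_cons_of_mem _ hz)
          rw [List.prod_cons, ← pow_two, hcomm.mul_pow, pow_two, pow_two, S.weak.sq a (hLD a (by simp)),
            ih (fun z hz => hLD z (List.mem_cons_of_mem _ hz))
              (fun y hy z hz => hLc y (List.mem_cons_of_mem _ hy) z (List.mem_cons_of_mem _ hz)), one_mul]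
      · have := S.short_rel hP (fun a ha => hlD a (hsub.subset ha)) (hnd.sublist hsub)
          (fun a ha b hb => hlc a (hsub.subset ha) b (hsub.subset hb)) (by simp) e
        have := congrArg List.length this
        simp at this
        omega
    · obtain ⟨l, hn, hlen, hlD, hlc, hp⟩ := hl
      obtain ⟨l', hn', hlen', hlD', hlc', hp'⟩ := hl'
      rw [← hlen, ← hlen']
      exact S.length_eq hP hlD hn hlc (hlen.symm ▸ h3a) hlD' hn' hlc' (hlen'.symm ▸ h3b) (hp.trans hp'.symm)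

end Cfsg.Agent.S5398
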