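import Cfsg.Statements.S5399
import Cfsg.Agent.Lib.KnownB.TypeM23.Invol


set_option autoImplicit false
open Cfsg

namespace Cfsg.Agent.S5399

/-- Let G be a finite group with trivial centre generated by a conjugation-invariant set D of 3-transpositions on which it acts primitively, such that for some d in D the subgroup generated by the members of D other than d commuting with d has central largest normal 2- and 3-subgroups, and suppose G with D is of type M(23). Then G has exactly 3 conjugacy classes of involutions: every involution is a product of m distinct pairwise commuting members of D for some m between 1 and 3; for each such m these products form one non-empty conjugacy class; and the value of m is determined by the involution. -/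
theorem result {G : Type*} [Group G] [Finite G] {D : Set G} (hD : Cfsg.IsThreeTranspositionGroup D) (hprim : Cfsg.IsPrimitiveUnderConj D) (d : G) (hd : d ∈ D) (h3 : Cfsg.pCore 3 ↥(Subgroup.closure {y : G | y ∈ D ∧ y ≠ d ∧ Commute d y}) ≤ Subgroup.center ↥(Subgroup.closure {y : G | y ∈ D ∧ y ≠ d ∧ Commute d y})) (h2 : Cfsg.pCore 2 ↥(Subgroup.closure {y : G | y ∈ D ∧ y ≠ d ∧ Commute d y}) ≤ Subgroup.center ↥(Subgroup.closure {y : G | y ∈ D ∧ y ≠ d ∧ Commute d y})) (ht : Cfsg.IsOfTypeM23 G D) : (∀ x : G, orderOf x = 2 → ∃ m : ℕ, 1 ≤ m ∧ m ≤ 3 ∧ (∃ l : List G, l.Nodup ∧ l.length = m ∧ (∀ a ∈ l, a ∈ D) ∧ (∀ a ∈ l, ∀ b ∈ l, Commute a b) ∧ l.prod = x)) ∧ (∀ m : ℕ, 1 ≤ m → m ≤ 3 → (∃ x : G, orderOf x = 2 ∧ (∃ l : List G, l.Nodup ∧ l.length = m ∧ (∀ a ∈ l, a ∈ D) ∧ (∀ a ∈ l, ∀ b ∈ l, Commute a b) ∧ l.prod = x)) ∧ ∀ x y : G, (∃ l : List G, l.Nodup ∧ l.length = m ∧ (∀ a ∈ l, a ∈ D) ∧ (∀ a ∈ l, ∀ b ∈ l, Commute a b) ∧ l.prod = x) → (∃ l : List G, l.Nodup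 ∧ l.length = m ∧ (∀ a ∈ l, a ∈ D) ∧ (∀ a ∈ l, ∀ b ∈ l, Commute a b) ∧ l.prod = y) → IsConj x y) ∧ ∀ (m m' : ℕ) (x : G), 1 ≤ m → m ≤ 3 → 1 ≤ m' → m' ≤ 3 → (∃ l : List G, l.Nodup ∧ l.length = m ∧ (∀ a ∈ l, a ∈ D) ∧ (∀ a ∈ l, ∀ b ∈ l, Commute a b) ∧ l.prod = x) → (∃ l : List G, l.Nodup ∧ l.length = m' ∧ (∀ a ∈ l, a ∈ D) ∧ (∀ a ∈ l, ∀ b ∈ l, Commute a b) ∧ l.prod = x) → m = m' := by
      have S := CfsgLib.KnownB.TypeM23.setting_of hD hprim ht
      refine ⟨fun x hx => ?_, fun m h1 h3' => ?_, fun m m' x h1 h3a h1' h3b hl hl' => ?_⟩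
      · refine S.invol_prod ?_ fun e => ?_
        · rw [← pow_two, ← hx]; exact pow_orderOf_eq_one x
        · rw [e, orderOf_one] at hx; norm_num at hx
      · refine ⟨?_, fun x y ⟨l, hn, hl, hlD, hlc, hp⟩ ⟨l', hn', hl', hlD', hlc', hp'⟩ => hp ▸ hp' ▸
          S.prod_conj hlD hn hlc hlD' hn' hlc' (hl.trans hl'.symm) (hl.symm ▸ h1) (hl.symm ▸ h3')⟩
        obtain ⟨a, b, c, ha, hb, hc⟩ := S.exists_three
        have hnd : [a, b, c].Nodup := by simp [hb.2.1.symm, hc.1.2.1.symm, hc.2.2.1.symm]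
        have hlD : ∀ z ∈ [a, b, c], z ∈ D := by simp [ha, hb.1, hc.1.1]
        have hlc : ∀ z ∈ [a, b, c], ∀ w ∈ [a, b, c], Commute z w := by
          simp [hb.2.2, hc.1.2.2, hc.2.2.2, hb.2.2.symm, hc.1.2.2.symm, hc.2.2.2.symm]
        have hsub := List.take_sublist m [a, b, c]
        refine ⟨_, orderOf_eq_prime ?_ fun e => ?_, _, hnd.sublist hsub, by simp; omega,
          fun z hz => hlD z (hsub.subset hz), fun z hz w hw => hlc z (hsub.subset hz) w (hsub.subset hw), rfl⟩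
        · rw [pow_two]
          exact S.prod_sq _ (fun z hz => hlD z (hsub.subset hz))
            (fun z hz w hw => hlc z (hsub.subset hz) w (hsub.subset hw))
        · have := S.short_rel (fun z hz => hlD z (hsub.subset hz)) (hnd.sublist hsub)
            (fun z hz w hw => hlc z (hsub.subset hz) w (hsub.subset hw)) (by simp) e
          have := congrArg List.length this
          simp at this
          omega
      · obtain ⟨l, hn, hlen, hlD, hlc, hp⟩ := hl
        obtain ⟨l', hn', hlen', hlD', hlc', hp'⟩ := hl'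
        rw [← hlen, ← hlen']
        exact S.length_eq hlD hn hlc (hlen.symm ▸ h3a) hlD' hn' hlc' (hlen'.symm ▸ h3b) (hp.trans hp'.symm)

end Cfsg.Agent.S5399
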