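import Cfsg.Statements.S5404
import Cfsg.Agent.Lib.Spor.LargeFi.TopOdd
import Cfsg.Agent.Lib.Spor.LargeFi.TopIso
import Cfsg.Agent.Lib.Spor.LargeFi.TopOuter
import Cfsg.Agent.Lib.Spor.LargeFi.SixQuot
import Cfsg.Agent.S5450

set_option autoImplicit false
open Cfsg

namespace Cfsg.Agent.S5404

/-- Let X be a finite group with a subgroup G₀ of index 2 of the following type: G₀ has an involution z, central in some Sylow 2-subgroup of G₀, whose centralizer C in G₀ has generalized Fitting subgroup Q extraspecial of order 2^13 and normal subgroups Q ≤ N ≤ M with N/Q of order 3, M/N isomorphic to the projective special unitary group of dimension 4 over the field with nine elements and M of index 2 in C, some G₀-conjugate of z other than z lying in Q; and suppose the generalized Fitting subgroup of the centralizer of z in X equals that of C. Then X is generated by a conjugacy class of 3-transpositions with respect to which it is of type M(24). -/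
theorem result {X : Type*} [Group X] [Finite X] (G₀ : Subgroup X) (hidx : G₀.index = 2) (z : ↥G₀) (hz : orderOf z = 2) (Q N M : Subgroup (Subgroup.centralizer ({z} : Set ↥G₀))) [Q.Normal] [N.Normal] [M.Normal] (hF : Cfsg.generalizedFittingSubgroup (Subgroup.centralizer ({z} : Set ↥G₀)) = Q) (hQ : Cfsg.IsExtraspecial 2 Q) (hcard : Nat.card Q = 2 ^ 13) (hQN : Q ≤ N) (hNM : N ≤ M) (hN : Nat.card N = 3 * Nat.card Q) (K : Type) [Field K] [Fintype K] (hK : Fintype.card K = 9) (e : M ⧸ N.subgroupOf M ≃* Cfsg.PSU 4 K 3) (hM : M.index = 2) (hnwc : ∃ g : ↥G₀, (∃ hq : g * z * g⁻¹ ∈ Subgroup.centralizer ({z} : Set ↥G₀), (⟨g * z * g⁻¹, hq⟩ : Subgroup.centralizer ({z} : Set ↥G₀)) ∈ Q) ∧ g * z * g⁻¹ ≠ z) (hcentral : ∃ P : Sylow 2 ↥G₀, z ∈ (P : Subgroup ↥G₀) ∧ ∀ x ∈ (P : Subgroup ↥G₀), Commute x z) (hFX : (Cfsg.generalizedFittingSubgroup ↥(Subgroup.centralizer ({(z : X)} : Set X))).map (Subgroup.subtype _) = ((Q.map (Subgroup.subtype _)).map G₀.subtype)) : ∃ E : Set X, Cfsg.IsThreeTranspositionClass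 E ∧ Cfsg.IsOfTypeM24 X E := by
  have hT : Cfsg.IsOfLargeFischerTypeAt z Q :=
    ⟨⟨hz, hF, hQ, hcard, hnwc⟩, N, M, inferInstance, inferInstance, hQN, hNM, hN, ⟨K, inferInstance, inferInstance, hK, ⟨e⟩⟩, hM⟩
  obtain ⟨D⟩ := CfsgLib.Spor.LargeFi.model_of_type hT
  obtain ⟨B, hN⟩ := CfsgLib.Spor.LargeFi.Model.ABase.exists_normed hT D
  have S : CfsgLib.Spor.LargeFi.SixTop.Sit G₀ z Q B.sE :=
    { hidx := hidx
      hF := hT
      hcentral := hcentral
      hFX := hFX
      eQ := B.sE_le_qG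
      eEl := B.sE_elementary
      eCard := B.card_sE
      eZ := B.z_not_mem_sE
      eConj := fun e he => B.sE_not_conj hT hN he
      eQS := B.sC_quasisimple hT hN
      ePSU := by
        obtain ⟨F, _, _, hF4, ⟨e⟩⟩ := B.sX_iso hT hN
        exact ⟨inferInstanceAs (B.sE.subgroupOf B.sC).Normal, F, inferInstance, inferInstance, hF4, ⟨e⟩⟩
      cent := fun t htQ ht2 htz => by
        haveI hn : ((Subgroup.zpowers t).subgroupOf (Subgroup.centralizer ({t} : Set ↥G₀))).Normal := by
          refine ⟨fun x hx c => ?_⟩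
          have hc : Commute (c : ↥G₀) t := Subgroup.mem_centralizer_singleton_iff.1 c.2
          obtain ⟨k, hk⟩ := Subgroup.mem_zpowers_iff.1 (Subgroup.mem_subgroupOf.1 hx)
          rw [Subgroup.mem_subgroupOf]
          refine Subgroup.mem_zpowers_iff.2 ⟨k, ?_⟩
          rw [Subgroup.coe_mul, Subgroup.coe_mul, InvMemClass.coe_inv, ← hk, (hc.zpow_right k).eq, mul_inv_cancel_right]
        obtain ⟨h1, h2, h3, h4⟩ := Cfsg.Agent.S5450.result z Q hT t (by obtain ⟨c, hc, rfl⟩ := htQ; exact ⟨c.2, hc⟩) ht2 htz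
          (Cfsg.generalizedFittingSubgroup ↥(Subgroup.centralizer ({t} : Set ↥G₀))) rfl
        exact CfsgLib.Spor.LargeFi.SixTop.cent22_of ht2 _ h1 h2 h3 h4 }
  obtain ⟨d, e', t, htQ, base⟩ := S.exists_base
  exact ⟨_, base.typeM24_of_connected fun x hx => CfsgLib.Spor.LargeFi.Top.connected base hT hcentral htQ hx⟩

end Cfsg.Agent.S5404
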