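import Cfsg.Agent.Lib.Spor.Loc.Five.Act
import Cfsg.Agent.Lib.Spor.Loc.Five.Swap
import Cfsg.Agent.Lib.Spor.Loc.Quot
import Cfsg.Prelude.Def_MonsterType

set_option autoImplicit false
open Cfsg CfsgLib.ThreeTransp CfsgLib.Spor CfsgLib.Spor.Loc CfsgLib.Spor.Loc.Five
open CfsgLib.ThreeTransp.MonsterFrame (qImage up)

namespace Cfsg.Agent.S5413

/-- Let G be a finite group of Monster type at the involution z with Q the extraspecial normal subgroup of order 2^25 of C = C_G(z) (so C/Q is identified with the first Conway group with Q modulo its centre the Leech lattice modulo 2, and z is not weakly closed in Q). Let s be a conjugate of z in Q other than z and let B be a Sylow 5-subgroup of the joint centralizer of z and s. Then the centralizer of B modulo B is a group of Harada–Norton type (an involution whose centralizer D has generalized Fitting subgroup R extraspecial of order 2^9 with D/R the wreath product of the alternating group of degree 5 by a group of order 2, the involution not weakly closed in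 R). -/
theorem result {G : Type*} [Group G] [Finite G] (z : G) (Q : Subgroup (Subgroup.centralizer ({z} : Set G))) [Q.Normal] (hM : Cfsg.IsOfMonsterType z Q) (s : G) (hsQ : ∃ hsc : s ∈ Subgroup.centralizer ({z} : Set G), (⟨s, hsc⟩ : Subgroup.centralizer ({z} : Set G)) ∈ Q) (hs : IsConj z s) (hs1 : s ≠ z) (B : Subgroup G) (hB : B ≤ Subgroup.centralizer ({z, s} : Set G)) (hBp : Nat.card B = 5 ^ (Nat.card ↥(Subgroup.centralizer ({z, s} : Set G))).factorization 5) [hn : (B.subgroupOf (Subgroup.centralizer (B : Set G))).Normal] : Cfsg.IsOfHaradaNortonType (↥(Subgroup.centralizer (B : Set G)) ⧸ B.subgroupOf (Subgroup.centralizer (B : Set G))) := by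
  classical
  haveI : Fact (Nat.Prime 5) := ⟨by norm_num⟩
  obtain ⟨hset, e, ψ, hiso⟩ := hM
  have M : MonsterFrame z Q e ψ := ⟨hset, hiso⟩
  obtain ⟨hsc, hsQ'⟩ := hsQ
  let x : Q := ⟨⟨s, hsc⟩, hsQ'⟩
  have hxc : IsConj z (up x) := hs
  have hne : up x ≠ z := hs1
  set H := Subgroup.centralizer ({z, s} : Set G)
  have hmem : ∀ a : G, a ∈ H ↔ a * z = z * a ∧ a * s = s * a := fun a => by
    rw [Subgroup.mem_centralizer_iff]
    refine ⟨fun h => ⟨(h z (Or.inl rfl)).symm, (h _ (Or.inr rfl)).symm⟩, fun h y hy => ?_⟩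
    rcases hy with rfl | rfl
    exacts [h.1.symm, h.2.symm]
  -- an element of order five in the joint centraliser
  obtain ⟨b0, hb0, hb05⟩ : ∃ b0 ∈ H, orderOf b0 = 5 := by
    obtain ⟨v, hv, hvx⟩ := M.exists_norm64_of_conj hxc hne
    obtain ⟨g₁, rfl⟩ := exists_map (Or.inr (Or.inr rfl)) eTop v
      (CfsgLib.Spor.sqNorm_bigE none) hv
    have M' := M.twist g₁
    obtain ⟨k, hk, hkx⟩ := M'.exists_lift (g := bh5)
      (M'.noncentral (Or.inr (Or.inr rfl)) (CfsgLib.Spor.sqNorm_bigE none) hvx) hvx
      ((congrArg (fun v => ψ (g₁ • v)) bh5_top).trans hvx)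
    let π := ((e.trans (MulAut.conj (QuotientGroup.mk g₁ : Cfsg.Spor.Co1)⁻¹)).toMonoidHom.comp
      (QuotientGroup.mk' Q))
    have h1 : orderOf (π k) ∣ orderOf (k : G) := by
      rw [Subgroup.orderOf_coe]; exact orderOf_map_dvd π k
    have h2 : orderOf (π k) = 5 := by
      have hk' : π k = QuotientGroup.mk bh5 := hk.symm
      rw [hk']
      refine orderOf_eq_prime (by rw [← QuotientGroup.mk_pow, bh5_pow, QuotientGroup.mk_one]) ?_
      intro h
      rcases eq_of_central ((QuotientGroup.eq_one_iff _).1 h) with h' | h'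
      · exact absurd (h' ▸ orderOf_bh5) (by simp)
      · have h3 : orderOf negEl ∣ 2 := orderOf_dvd_of_pow_eq_one (by
          rw [pow_two]
          exact Co1Out.eq_of_sameOK (Co1Out.actsAs_mul Co1Out.actsAs_negEl Co1Out.actsAs_negEl)
            Co1Out.actsAs_one (by decide +kernel))
        rw [← h', orderOf_bh5] at h3
        norm_num at h3
    rw [h2] at h1
    refine ⟨(k : G) ^ (orderOf (k : G) / 5), H.pow_mem ((hmem _).2
      ⟨Subgroup.mem_centralizer_singleton_iff.1 k.2, mul_inv_eq_iff_eq_mul.1 hkx⟩) _, ?_⟩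
    rw [orderOf_pow_orderOf_div (orderOf_pos _).ne' h1]
  have hux : up x = s := rfl
  have hH : Subgroup.centralizer ({z, up x} : Set G) = H := by rw [hux]
  have hfac : (Nat.card H).factorization 5 = 1 := by
    have h := joint_fact M hxc hne (b := b0) (hH.symm ▸ hb0) hb05
    rw [hH] at h
    exact h
  rw [hfac, pow_one] at hBp
  haveI : IsCyclic B := isCyclic_of_prime_card hBp
  obtain ⟨⟨b, hbB⟩, hgen⟩ := IsCyclic.exists_generator (α := B)
  have hBb : B = Subgroup.zpowers b := by
    refine le_antisymm (fun y hy => ?_) (Subgroup.zpowers_le.2 hbB)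
    obtain ⟨i, hi⟩ := Subgroup.mem_zpowers_iff.1 (hgen ⟨y, hy⟩)
    exact ⟨i, congrArg Subtype.val hi⟩
  have h5 : orderOf b = 5 := by rw [← Nat.card_zpowers, ← hBb, hBp]
  have hbH := (hmem b).1 (hB hbB)
  have hbz : b ∈ Subgroup.centralizer ({z} : Set G) :=
    Subgroup.mem_centralizer_singleton_iff.2 hbH.1
  obtain ⟨g₀, -, hgb⟩ := exists_adapted M hxc hne hbz hbH.2 h5
  have M' := M.twist g₀
  have O : Over M' b bh5 5 := ⟨by norm_num, by decide, h5, bh5_pow, hbz, hgb⟩
  obtain ⟨z', R, hR, hsetting, hiso', -⟩ := O.local_type tab5 (w := 4) rfl (by norm_num) hBb phi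
    phi_surjective phi_eq_one_iff phi_faith wreath_two_core
    (fun q hq hc hqz => by
      have hbq : b * up q = up q * b := (Subgroup.mem_centralizer_singleton_iff.1 hq.2).symm
      obtain ⟨g, hgbb, hgz⟩ := exists_move M hc hqz (b := b) (by
        simp only [Subgroup.mem_centralizer_iff, Set.mem_insert_iff, Set.mem_singleton_iff,
          forall_eq_or_imp, forall_eq]
        exact ⟨hbH.1.symm, hbq.symm⟩) h5
      refine ⟨g, ?_, hgz⟩
      rw [hBb, Subgroup.zpowers_eq_closure, Subgroup.centralizer_closure,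
        Subgroup.mem_centralizer_singleton_iff]
      exact mul_inv_eq_iff_eq_mul.1 hgbb)
    (by decide +kernel)
  exact ⟨z', R, hR, hsetting, hiso'⟩

end Cfsg.Agent.S5413
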