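import Cfsg.Statements.S5420
import Cfsg.Agent.Lib.ThreeTransp.Large

set_option autoImplicit false
open Cfsg

open CfsgLib.ThreeTransp

namespace Cfsg.Agent.S5420

/-- Let Q be an extraspecial 2-subgroup of the finite group G whose centralizer in G is its centre Z and which is normal in the centralizer of Z. If Z lies in the largest normal 2-subgroup of G, then Q is a large extraspecial 2-subgroup of G: it normalizes no non-trivial subgroup of G of odd order. -/
theorem result {G : Type*} [Group G] [Finite G] (Q : Subgroup G) (hL1 : Cfsg.IsExtraspecial 2 ↥Q) (hL2 : Subgroup.centralizer (Q : Set G) = ((Subgroup.center ↥Q).map Q.subtype)) (hL3 : Subgroup.centralizer (((Subgroup.center ↥Q).map Q.subtype) : Set G) ≤ Subgroup.normalizer (Q : Set G)) (hZ : ((Subgroup.center ↥Q).map Q.subtype) ≤ Cfsg.pCore 2 G) : Cfsg.IsLargeExtraspecial Q := by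
  refine ⟨hL1, hL2, hL3, fun K hK hQK => odd_invariant_eq_bot hL1 hL2 hL3 hK hQK fun k hk => ?_⟩
  rw [Subgroup.mem_centralizer_iff]
  intro x hx
  have h1 : x * k * x⁻¹ * k⁻¹ ∈ K :=
    mul_mem ((Subgroup.mem_normalizer_iff.1 (hQK (mem_centerIn.1 hx).1) k).1 hk) (inv_mem hk)
  have h2 : x * k * x⁻¹ * k⁻¹ ∈ Cfsg.pCore 2 G := by
    have h3 := mul_mem (hZ hx) ((Cfsg.pCore_normal 2 G).conj_mem _ (inv_mem (hZ hx)) k)
    simpa [mul_assoc] using h3
  have h3 := eq_one_of_pgroup_odd (CfsgLib.Base.isPGroup_pCore 2 G) hK h2 h1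
  rwa [mul_inv_eq_one, mul_inv_eq_iff_eq_mul] at h3

end Cfsg.Agent.S5420
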