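import Cfsg.Statements.S5437

set_option autoImplicit false
open Cfsg

namespace Cfsg.Agent.S5437

/-- Let I be a set of involutions of the finite group G closed under conjugation, and H a subgroup of G. The following are equivalent: (1) for every member x of I lying in H, the conjugates of x lying in H form a single H-class and the centralizer of x lies in H; (2) for every g outside H, no member of I lies in both H and g H g⁻¹; (3) every member of I lying in H fixes exactly one coset in the action of G on the cosets of H. -/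
theorem result {G : Type*} [Group G] [Finite G] (I : Set G) (hI : ∀ x ∈ I, orderOf x = 2) (hIc : ∀ g : G, ∀ x ∈ I, g * x * g⁻¹ ∈ I) (H : Subgroup G) : ((∀ x ∈ I, x ∈ H → (∀ g : G, g * x * g⁻¹ ∈ H → ∃ h ∈ H, h * x * h⁻¹ = g * x * g⁻¹) ∧ Subgroup.centralizer ({x} : Set G) ≤ H) ↔ (∀ g : G, g ∉ H → ∀ x ∈ I, ¬ (x ∈ H ∧ x ∈ (H : Subgroup G).map (MulAut.conj g).toMonoidHom))) ∧ ((∀ g : G, g ∉ H → ∀ x ∈ I, ¬ (x ∈ H ∧ x ∈ (H : Subgroup G).map (MulAut.conj g).toMonoidHom)) ↔ ∀ x ∈ I, x ∈ H → ∃! c : G ⧸ H, x • c = c) := by
  have hfix : ∀ (g x : G), x • (QuotientGroup.mk g : G ⧸ H) = QuotientGroup.mk g ↔ g⁻¹ * x * g ∈ H := by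
    intro g x
    rw [MulAction.Quotient.smul_mk, QuotientGroup.eq]
    constructor <;> intro h <;> simpa [mul_assoc] using inv_mem h
  have hmap : ∀ (g x : G), x ∈ (H : Subgroup G).map (MulAut.conj g).toMonoidHom ↔ g⁻¹ * x * g ∈ H := by
    intro g x
    constructor
    · rintro ⟨y, hy, rfl⟩; simpa [mul_assoc] using hy
    · intro h; exact ⟨_, h, by simp [mul_assoc]⟩
  constructor
  · constructor
    · intro h g hg x hx hm
      obtain ⟨hxH, hxg⟩ := hm
      rw [hmap] at hxg
      obtain ⟨hfus, hcent⟩ := h x hx hxH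
      obtain ⟨k, hk, hke⟩ := hfus g⁻¹ (by rwa [inv_inv])
      rw [inv_inv] at hke
      apply hg
      have hgk : g * k ∈ Subgroup.centralizer ({x} : Set G) := by
        rw [Subgroup.mem_centralizer_singleton_iff]
        have h1 := congrArg (fun t => g * t * k) hke
        simp only [mul_assoc, inv_mul_cancel, mul_one, mul_inv_cancel_left] at h1
        simp only [mul_assoc]
        exact h1
      have h2 := mul_mem (hcent hgk) (inv_mem hk)
      rwa [mul_inv_cancel_right] at h2
    · intro h x hx hxH
      have key : ∀ g : G, g * x * g⁻¹ ∈ H → g ∈ H := by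
        intro g hg
        by_contra hgH
        refine h g⁻¹ (fun h1 => hgH (by simpa using inv_mem h1)) x hx ⟨hxH, ?_⟩
        rw [hmap, inv_inv]; exact hg
      refine ⟨fun g hg => ⟨g, key g hg, rfl⟩, fun g hg => key g ?_⟩
      rw [Subgroup.mem_centralizer_singleton_iff] at hg
      rw [hg, mul_inv_cancel_right]; exact hxH
  · constructor
    · intro h x hx hxH
      refine ⟨QuotientGroup.mk (1 : G), by simp only [hfix]; simpa using hxH, ?_⟩
      intro c hc
      induction c using QuotientGroup.induction_on with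
      | H g =>
        simp only [hfix] at hc
        rw [QuotientGroup.eq]
        by_contra hg
        exact h g (fun h1 => hg (by simpa using inv_mem h1)) x hx ⟨hxH, (hmap g x).2 hc⟩
    · intro h g hg x hx hm
      obtain ⟨hxH, hxg⟩ := hm
      rw [hmap] at hxg
      obtain ⟨c, -, huniq⟩ := h x hx hxH
      have h1 := huniq (QuotientGroup.mk g) ((hfix g x).2 hxg)
      have h2 := huniq (QuotientGroup.mk (1 : G)) ((hfix 1 x).2 (by simpa using hxH))
      have h3 := h1.trans h2.symm
      rw [QuotientGroup.eq] at h3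
      exact hg (by simpa using inv_mem h3)

end Cfsg.Agent.S5437
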