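import Cfsg.Statements.S5438

set_option autoImplicit false
open Cfsg

namespace Cfsg.Agent.S5438

/-- Let z be a 2-central involution of the finite group G (an involution central in some Sylow 2-subgroup) and H a subgroup containing z such that the coset H is the only coset of H fixed by z (in the action of G on the cosets of H). Then H has odd index in G, and for every 2-element x of H the conjugates of x lying in H form a single H-class. -/
theorem result {G : Type*} [Group G] [Finite G] (z : G) (hz : Cfsg.IsTwoCentralInvolution z) (H : Subgroup G) (hzH : z ∈ H) (hfix : ∀ g : G, g⁻¹ * z * g ∈ H → g ∈ H) : Odd H.index ∧ ∀ x ∈ H, (∃ k : ℕ, orderOf x = 2 ^ k) → ∀ g : G, g * x * g⁻¹ ∈ H → ∃ h ∈ H, h * x * h⁻¹ = g * x * g⁻¹ := by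
  open scoped Pointwise in
  haveI : Fact (Nat.Prime 2) := ⟨Nat.prime_two⟩
  obtain ⟨hz2, T, hzT, hTz⟩ := hz
  have hTH : (T : Subgroup G) ≤ H := fun x hx => hfix x (by
    rw [mul_assoc, ← hTz x hx, inv_mul_cancel_left]; exact hzH)
  refine ⟨?_, ?_⟩
  · rw [← Nat.not_even_iff_odd]
    intro he
    exact T.not_dvd_index (he.two_dvd.trans (Subgroup.index_dvd_of_le hTH))
  intro x hx hxp g hy
  obtain ⟨k, hk⟩ := hxp
  -- every 2-element of `H` commutes with an `H`-conjugate of `z`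
  have hcomm : ∀ y ∈ H, (∃ k : ℕ, orderOf y = 2 ^ k) → ∃ h ∈ H, Commute (h * z * h⁻¹) y := by
    intro y hyH hyp
    obtain ⟨k, hk⟩ := hyp
    obtain ⟨S, hS⟩ : ∃ S : Sylow 2 ↥H, Subgroup.zpowers (⟨y, hyH⟩ : ↥H) ≤ S := by
      refine IsPGroup.exists_le_sylow (IsPGroup.of_card (n := k) ?_)
      rw [Nat.card_zpowers, ← Subgroup.orderOf_coe, hk]
    let T' : Sylow 2 ↥H := T.subtype hTH
    obtain ⟨h, hh⟩ := MulAction.exists_smul_eq ↥H T' S
    refine ⟨h, h.2, ?_⟩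
    have hyS : (⟨y, hyH⟩ : ↥H) ∈ S := hS (Subgroup.mem_zpowers _)
    rw [← hh, Sylow.smul_def] at hyS
    have h3 : (⟨y, hyH⟩ : ↥H) ∈ MulAut.conj h • (T' : Subgroup ↥H) := hyS
    rw [Subgroup.mem_pointwise_smul_iff_inv_smul_mem] at h3
    have h4 : (h : G)⁻¹ * y * (h : G) ∈ (T : Subgroup G) := by
      have h5 : ((MulAut.conj h)⁻¹ • (⟨y, hyH⟩ : ↥H) : ↥H) ∈ (T : Subgroup G).subgroupOf H := h3
      rw [Subgroup.mem_subgroupOf] at h5
      simpa [MulAut.smul_def] using h5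
    have h6 := hTz _ h4
    show (h : G) * z * (h : G)⁻¹ * y = y * ((h : G) * z * (h : G)⁻¹)
    have h7 := congrArg (fun t => (h : G) * t * (h : G)⁻¹) h6
    simp only [mul_assoc, mul_inv_cancel_left, mul_inv_cancel, mul_one] at h7
    simp only [mul_assoc]
    exact h7.symm
  obtain ⟨a, haH, ha⟩ := hcomm x hx ⟨k, hk⟩
  obtain ⟨b, hbH, hb⟩ := hcomm _ hy
    ⟨k, by rw [← hk]; exact MulEquiv.orderOf_eq (MulAut.conj g) x⟩
  set z' := a * z * a⁻¹ with hz'
  have hz'H : z' ∈ H := mul_mem (mul_mem haH hzH) (inv_mem haH)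
  have hz'fix : ∀ u : G, u⁻¹ * z' * u ∈ H → u ∈ H := by
    intro u hu
    have h1 := hfix (a⁻¹ * u) (by simpa [hz', mul_assoc] using hu)
    simpa using mul_mem haH h1
  set w := g⁻¹ * (b * z * b⁻¹) * g with hw
  have hwx : Commute w x := by
    show w * x = x * w
    have h7 := congrArg (fun t => g⁻¹ * t * g) hb.eq
    simpa [hw, mul_assoc] using h7
  set C := Subgroup.centralizer ({x} : Set G) with hC
  have hzC : z' ∈ C := Subgroup.mem_centralizer_singleton_iff.2 ha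
  have hwC : w ∈ C := Subgroup.mem_centralizer_singleton_iff.2 hwx
  have hz'o : orderOf z' = 2 := (MulEquiv.orderOf_eq (MulAut.conj a) z).trans hz2
  have hwo : orderOf w = 2 := by
    rw [hw]
    have h1 : orderOf (g⁻¹ * (b * z * b⁻¹) * g⁻¹⁻¹) = orderOf (b * z * b⁻¹) :=
      MulEquiv.orderOf_eq (MulAut.conj g⁻¹) (b * z * b⁻¹)
    rw [inv_inv] at h1
    rw [h1]
    exact (MulEquiv.orderOf_eq (MulAut.conj b) z).trans hz2
  have hpg : ∀ (v : G) (hv : v ∈ C), orderOf v = 2 →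
      IsPGroup 2 (Subgroup.zpowers (⟨v, hv⟩ : ↥C)) := fun v hv ho =>
    IsPGroup.of_card (n := 1) (by rw [Nat.card_zpowers, ← Subgroup.orderOf_coe, ho, pow_one])
  obtain ⟨S, hS⟩ := (hpg z' hzC hz'o).exists_le_sylow
  obtain ⟨S', hS'⟩ := (hpg w hwC hwo).exists_le_sylow
  obtain ⟨c, hc⟩ := MulAction.exists_smul_eq ↥C S' S
  set P := (S : Subgroup ↥C).map C.subtype with hP
  have hzP : z' ∈ P := ⟨⟨z', hzC⟩, hS (Subgroup.mem_zpowers _), rfl⟩
  have hcwP : (c : G) * w * (c : G)⁻¹ ∈ P := by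
    refine ⟨c * ⟨w, hwC⟩ * c⁻¹, ?_, rfl⟩
    rw [← hc, Sylow.smul_def]
    exact ⟨⟨w, hwC⟩, hS' (Subgroup.mem_zpowers _), rfl⟩
  have hPH : P ≤ H := by
    by_contra hne
    have hPp : IsPGroup 2 P := S.isPGroup'.map _
    haveI : Group.IsNilpotent P := hPp.isNilpotent
    have hlt : (H.subgroupOf P) < ⊤ :=
      lt_top_iff_ne_top.2 fun h => hne (Subgroup.subgroupOf_eq_top.1 h)
    have h1 : H.subgroupOf P < Subgroup.normalizer (H.subgroupOf P : Set P) :=
      Group.normalizerCondition_of_isNilpotent _ hlt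
    obtain ⟨s, hsN, hsH⟩ := SetLike.exists_of_lt h1
    apply hsH
    rw [Subgroup.mem_subgroupOf]
    have h2 := (Subgroup.mem_normalizer_iff.1 (inv_mem hsN) ⟨z', hzP⟩).1
      (Subgroup.mem_subgroupOf.2 hz'H)
    rw [Subgroup.mem_subgroupOf] at h2
    exact hz'fix s (by simpa using h2)
  have h2 : b⁻¹ * g * (c : G)⁻¹ ∈ H := by
    have h3 := hfix (b⁻¹ * g * (c : G)⁻¹) ?_
    · exact h3
    have h4 := hPH hcwP
    simpa [hw, mul_assoc] using h4
  have h3 : g * (c : G)⁻¹ ∈ H := by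
    simpa [mul_assoc] using mul_mem hbH h2
  refine ⟨g * (c : G)⁻¹, h3, ?_⟩
  have h4 : (c : G) * x = x * (c : G) := Subgroup.mem_centralizer_singleton_iff.1 c.2
  calc g * (c : G)⁻¹ * x * (g * (c : G)⁻¹)⁻¹ = g * ((c : G)⁻¹ * (x * (c : G))) * g⁻¹ := by
        simp [mul_assoc]
    _ = g * x * g⁻¹ := by rw [← h4, inv_mul_cancel_left]

end Cfsg.Agent.S5438
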